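import Groth.Statements.S18663
import Groth.Agent.H98.SegCMA
import Groth.Agent.Lead.SegCM_LOC
import Groth.Agent.Lead.SegCM_PC
import Groth.Agent.S18646
import Groth.Agent.S18647

set_option autoImplicit false
universe u
open scoped TensorProduct
open GrSegre

namespace Groth.Agent.S18663

open Groth.Agent.H98.GrCat Groth.Agent.H98.GrConv Groth.Agent.H98.GrHt Groth.Agent.H98.Seg

theorem toAS_eq_bot_iff {k : Type u} [Field k] {S : Type u} [CommRing S] [Algebra k S]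
    (ℬ : ℤ → Submodule k S) (n : ℤ) : toAS ℬ n = ⊥ ↔ ℬ n = ⊥ := by
  constructor
  · intro h
    rw [eq_bot_iff]
    intro x hx
    have hx' : x ∈ toAS ℬ n := hx
    rw [h, AddSubgroup.mem_bot] at hx'
    rw [Submodule.mem_bot]
    exact hx'
  · intro h
    rw [eq_bot_iff]
    intro x hx
    have hx' : x ∈ ℬ n := hx
    rw [h, Submodule.mem_bot] at hx'
    rw [AddSubgroup.mem_bot]
    exact hx'

attribute [local instance] kModG kTowerG

theorem nontrivial_of_dim {A : Type u} [CommRing A] (d : ℕ) (h : ringKrullDim A = d) :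
    Nontrivial A := by
  by_contra hn
  rw [not_nontrivial_iff_subsingleton] at hn
  have h1 := ringKrullDim_eq_bot_of_subsingleton (R := A)
  rw [h] at h1
  exact absurd h1 (WithBot.coe_ne_bot)

/-- Let R and S be graded rings defined over a field k which are Cohen–Macaulay, with dim R = 1 and dim
S = s ≥ 1, and let T = R # S be their Segre product. (iii) If s ≥ 2, then T is a Cohen–Macaulay ring
if and only if H^1_{R_+}(R) # S = 0, that is, for every degree n, H^1_{R_+}(R)_n = 0 or S_n = 0.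
(iv) If s = 1, then T is a Cohen–Macaulay ring. Here a graded ring defined over k is a commutative
k-algebra of finite type, graded in nonnegative degrees by k-subspaces with degree-zero part k·1;
the graded local cohomology pieces are computed from a *injective resolution of R in the graded
category; the Segre product T = ⊕_n R_n ⊗_k S_n is presented abstractly as a graded k-algebra T with
an injective k-algebra homomorphism ψ : T → R ⊗_k S carrying T_n onto the k-span of the elementary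
tensors a ⊗ b with a ∈ R_n, b ∈ S_n. -/
theorem result (k : Type u) [Field k] (R : Type u) [CommRing R] [Algebra k R] (𝒜 : ℤ → Submodule k R) [GradedAlgebra 𝒜] (hposR : ∀ n : ℤ, n < 0 → 𝒜 n = ⊥) (h0R : 𝒜 0 = Submodule.span k {(1 : R)}) [Algebra.FiniteType k R] (S : Type u) [CommRing S] [Algebra k S] (ℬ : ℤ → Submodule k S) [GradedAlgebra ℬ] (hposS : ∀ n : ℤ, n < 0 → ℬ n = ⊥) (h0S : ℬ 0 = Submodule.span k {(1 : S)}) [Algebra.FiniteType k S] (T : Type u) [CommRing T] [Algebra k T] (𝒯 : ℤ → Submodule k T) [GradedAlgebra 𝒯] (ψ : T →ₐ[k] TensorProduct k R S) (hψ : Function.Injective ψ) (hdegT : ∀ n : ℤ, (𝒯 n).map ψ.toLinearMap = Submodule.span k {x : TensorProduct k R S | ∃ a ∈ 𝒜 n, ∃ b ∈ ℬ n, x = a ⊗ₜ[k] b}) [LocCoh.IsCohenMacaulayRing R] [LocCoh.IsCohenMacaulayRing S] (mR : HomogeneousIdeal 𝒜) (hmR : mR.toIdeal = Ideal.span (⋃ n ∈ Set.Ioi (0 : ℤ), (𝒜 n : Set R))) (I : GrLC.StarInjRes 𝒜 𝒜) (hr : ringKrullDim R = 1) (s : ℕ) (hs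 : ringKrullDim S = s) (h1s : 1 ≤ s) : (2 ≤ s → (LocCoh.IsCohenMacaulayRing T ↔ ∀ n : ℤ, I.Hcomp mR 1 n = ⊥ ∨ ℬ n = ⊥)) ∧ (s = 1 → LocCoh.IsCohenMacaulayRing T) := by
  classical
  have hT : GrSeg.IsSegreRing 𝒜 ℬ 𝒯 ψ := ⟨hψ, hdegT⟩
  haveI : IsNoetherianRing R := Algebra.FiniteType.isNoetherianRing k R
  haveI : IsNoetherianRing S := Algebra.FiniteType.isNoetherianRing k S
  haveI : IsNoetherianRing T :=
    Groth.Agent.S18646.result k R 𝒜 hposR h0R S ℬ hposS h0S T 𝒯 ψ hψ hdegT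
  have hr' : ringKrullDim R = ((1 : ℕ) : WithBot ℕ∞) := by rw [hr]; rfl
  have hdimT : ringKrullDim T = ((s : ℕ) : WithBot ℕ∞) := by
    have h := Groth.Agent.S18647.result k R 𝒜 hposR h0R S ℬ hposS h0S T 𝒯 ψ hψ hdegT 1 s hr' hs
      le_rfl h1s
    rw [h]
    congr 2
    omega
  haveI : Nontrivial R := nontrivial_of_dim 1 hr'
  haveI : Nontrivial S := nontrivial_of_dim s hs
  haveI : Nontrivial T := nontrivial_of_dim s hdimT
  have hposT := Groth.Agent.H21.SegreDepth.segre_hneg 𝒜 ℬ 𝒯 ψ hψ hdegT hposR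
  have h0T := Groth.Agent.H21.SegreDepth.segre_h0 𝒜 ℬ 𝒯 ψ hψ hdegT h0R h0S
  -- the irrelevant ideals of `S` and `T`
  obtain ⟨nS, hnS⟩ : ∃ nS : HomogeneousIdeal ℬ,
      nS.toIdeal = Ideal.span (⋃ n ∈ Set.Ioi (0 : ℤ), (ℬ n : Set S)) := ⟨irrS ℬ, rfl⟩
  obtain ⟨mT, hmT⟩ : ∃ mT : HomogeneousIdeal 𝒯,
      mT.toIdeal = Ideal.span (⋃ n ∈ Set.Ioi (0 : ℤ), (𝒯 n : Set T)) := ⟨irrS 𝒯, rfl⟩
  have hcrit := cm_iff_hv 𝒯 hposT h0T mT hmT s hdimT
  -- vanishing on the side of `S`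
  obtain ⟨ES', -⟩ : ∃ E : GrLC.StarInjRes (toAS ℬ) (toAS ℬ), True :=
    ⟨starInjRes (toAS ℬ) _, trivial⟩
  have hstarS := isStarLocal_convI ℬ hposS h0S nS hnS
  have hES' : ∀ q, q < s → Subsingleton (ES'.H (convI nS) q) := fun q hq =>
    subsingleton_H_of_forall_vn ES' (convI nS) q
      (fun n => vn_of_cm (hpos_toAS ℬ hposS) (convI nS) hstarS s hs ES' q hq n)
  have hES : ∀ q, q < s → Subsingleton ((unconvRes ES').H nS q) := fun q hq => hES' q hq
  -- a homogeneous non-zero-divisor of positive degree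
  have hass := Groth.Agent.H21.GrInt.irrel_notMem_associatedPrimes_of_cm 𝒜 hposR h0R
    (le_of_eq hr.symm)
  obtain ⟨e, f, he, hf, hreg⟩ :=
    Groth.Agent.H21.GrInt.exists_homogeneous_regular 𝒜 hposR h0R hass
  obtain ⟨e', rfl⟩ : ∃ e' : ℕ, e = (e' : ℤ) := ⟨e.toNat, (Int.toNat_of_nonneg he.le).symm⟩
  have he' : 0 < e' := by exact_mod_cast he
  -- the graded localisation and its quotient by `R`
  obtain ⟨X, ι, hι, hinj, hbij, hloc⟩ :=
    Groth.Agent.Lead.SegCM.exists_graded_away (toAS 𝒜) (e' : ℤ) f hf hreg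
  have hQtor := gam_quot_eq_top 𝒜 hposR h0R mR hmR (e' : ℤ) f hf hreg X ι hι hloc (le_of_eq hr)
  have hQpc := quot_piece_eq_bot_iff 𝒜 hposR h0R mR hmR (e' : ℤ) he f hf X ι hι hinj hbij hQtor I
  obtain ⟨Q, hQ⟩ : ∃ Q : GrLC.GMod.{u} (toAS 𝒜), Q = quotG (toAS 𝒜) X.gr (LinearMap.range ι)
      (range_isHomogeneous (toAS 𝒜) X.gr hι) := ⟨_, rfl⟩
  rw [← hQ] at hQtor hQpc
  have key := segre_hv 𝒜 ℬ 𝒯 ψ hT (unconvG X) ι hι (unconvG Q)
    (by rw [hQ]; exact (LinearMap.range ι).mkQ)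
    (by subst hQ; exact fun m z hz => ⟨z, hz, rfl⟩)
    (by subst hQ; exact fun n q hq => hq) hinj
    (by
      subst hQ
      exact fun y => ⟨fun h => (Submodule.Quotient.mk_eq_zero _).1 h,
        fun h => (Submodule.Quotient.mk_eq_zero _).2 h⟩)
    mR hmR hQtor nS hnS mT hmT e' he' f hf hbij (unconvRes ES') s hES
  obtain ⟨key0, keyi, key1⟩ := key
  have hpc : ∀ n : ℤ, GrSeg.segrePiece k (unconvG Q).gr (toAS ℬ) n = ⊥ ↔
      (I.Hcomp mR 1 n = ⊥ ∨ ℬ n = ⊥) := by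
    intro n
    rw [Groth.Agent.Lead.SegCM.segrePiece_eq_bot_iff, hQpc n, toAS_eq_bot_iff]
    rfl
  refine ⟨fun h2s => ?_, fun hs1 => ?_⟩
  · rw [hcrit]
    constructor
    · intro h n
      exact (hpc n).1 ((key1 h2s n).1 (h 1 (by omega) n))
    · intro h i hi n
      rcases Nat.lt_or_ge i 1 with h0 | h1
      · obtain rfl : i = 0 := by omega
        exact key0 h1s n
      · rcases Nat.lt_or_ge i 2 with h1' | h2
        · obtain rfl : i = 1 := by omega
          exact (key1 h2s n).2 ((hpc n).2 (h n))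
        · exact keyi i h2 hi n
  · rw [hcrit]
    intro i hi n
    obtain rfl : i = 0 := by omega
    exact key0 h1s n

end Groth.Agent.S18663
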