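import Groth.Statements.S18664
import Groth.Agent.H21.SegreDepth
import Groth.Agent.S18647
import Groth.Agent.S4744

set_option autoImplicit false
universe u
open scoped TensorProduct
open GrSegre

namespace Groth.Agent.S18664

open Groth.Agent.H21.SegreDim Groth.Agent.H21.GrInt Groth.Agent.H21.StdGraded
  Groth.Agent.H21.SegreDepth

set_option linter.style.haveILetI false


/-- Let R and S be standard graded rings defined over a field k which are Cohen–Macaulay, with dim R = 1
and dim S ≥ 2. Then the Segre product T = R # S is a Cohen–Macaulay ring if and only if R is a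
polynomial ring over k (in one variable). Here a graded ring defined over k is a commutative
k-algebra of finite type, graded in nonnegative degrees by k-subspaces with degree-zero part k·1,
standard graded when its irrelevant ideal is generated by the degree-one piece; the Segre product T
= ⊕_n R_n ⊗_k S_n is presented abstractly as a graded k-algebra T with an injective k-algebra
homomorphism ψ : T → R ⊗_k S carrying T_n onto the k-span of the elementary tensors a ⊗ b with a ∈
R_n, b ∈ S_n. -/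
theorem result (k : Type u) [Field k] (R : Type u) [CommRing R] [Algebra k R] (𝒜 : ℤ → Submodule k R) [GradedAlgebra 𝒜] (hposR : ∀ n : ℤ, n < 0 → 𝒜 n = ⊥) (h0R : 𝒜 0 = Submodule.span k {(1 : R)}) [Algebra.FiniteType k R] (S : Type u) [CommRing S] [Algebra k S] (ℬ : ℤ → Submodule k S) [GradedAlgebra ℬ] (hposS : ∀ n : ℤ, n < 0 → ℬ n = ⊥) (h0S : ℬ 0 = Submodule.span k {(1 : S)}) [Algebra.FiniteType k S] (T : Type u) [CommRing T] [Algebra k T] (𝒯 : ℤ → Submodule k T) [GradedAlgebra 𝒯] (ψ : T →ₐ[k] TensorProduct k R S) (hψ : Function.Injective ψ) (hdegT : ∀ n : ℤ, (𝒯 n).map ψ.toLinearMap = Submodule.span k {x : TensorProduct k R S | ∃ a ∈ 𝒜 n, ∃ b ∈ ℬ n, x = a ⊗ₜ[k] b}) [LocCoh.IsCohenMacaulayRing R] [LocCoh.IsCohenMacaulayRing S] (hstdR : Ideal.span (⋃ n ∈ Set.Ioi (0 : ℤ), (𝒜 n : Set R)) = Ideal.span ((𝒜 1 : Submodule k R) : Set R)) (hstdS : Ideal.span (⋃ n ∈ Set.Ioi (0 : ℤ), (ℬ n : Set S)) = Ideal.span ((ℬ 1 : Submodule k S) : Set S)) (hr : ringKrullDim R = 1) (hs : 2 ≤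 ringKrullDim S) : LocCoh.IsCohenMacaulayRing T ↔ Nonempty (R ≃ₐ[k] Polynomial k) := by
  classical
  haveI : Nontrivial R := by
    by_contra h
    rw [not_nontrivial_iff_subsingleton] at h
    have h1 := ringKrullDim_eq_bot_of_subsingleton (R := R)
    rw [hr] at h1
    exact absurd h1 (by decide)
  haveI : Nontrivial S := by
    by_contra h
    rw [not_nontrivial_iff_subsingleton] at h
    have h1 := ringKrullDim_eq_bot_of_subsingleton (R := S)
    rw [h1] at hs
    exact absurd hs (by decide)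
  have hdimR1 : (1 : WithBot ℕ∞) ≤ ringKrullDim R := by rw [hr]
  constructor
  · intro hT
    by_contra hno
    haveI := hT
    have hnp : ¬ ∃ x : R, 𝒜 1 = Submodule.span k {x} := by
      rintro ⟨x, hx⟩
      exact hno ⟨(AlgEquiv.ofBijective _ (aeval_bijective 𝒜 hposR h0R hstdR hx hdimR1)).symm⟩
    have hassR := irrel_notMem_associatedPrimes_of_cm 𝒜 hposR h0R hdimR1
    obtain ⟨E, a, w, hE, ha, hareg, hw, hwa⟩ :=
      exists_regular_not_span 𝒜 hposR h0R hstdR hassR hnp
    have hdimS1 : (1 : WithBot ℕ∞) ≤ ringKrullDim S := le_trans (by decide) hs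
    have hassS := irrel_notMem_associatedPrimes_of_cm ℬ hposS h0S hdimS1
    obtain ⟨e', b, he', hb, hbreg⟩ := exists_homogeneous_regular ℬ hposS h0S hassS
    obtain ⟨E', rfl⟩ : ∃ E' : ℕ, e' = E' := ⟨e'.toNat, (Int.toNat_of_nonneg he'.le).symm⟩
    have hE' : 0 < E' := by exact_mod_cast he'
    obtain ⟨ha', hareg', hw', hwa'⟩ := pow_data 𝒜 ha hareg hw hwa E' hE'
    have hb' : b ^ E ∈ ℬ ((E * E' : ℕ) : ℤ) := by
      have h1 := SetLike.pow_mem_graded E hb
      have e1 : E • (E' : ℤ) = ((E * E' : ℕ) : ℤ) := by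
        rw [nsmul_eq_mul]; push_cast; ring
      rwa [e1] at h1
    obtain ⟨N₀, hN₀⟩ :=
      exists_mul_of_mem_of_large 𝒜 hposR h0R hstdR (le_of_eq hr) ha' hareg'
    have hnegT := segre_hneg 𝒜 ℬ 𝒯 ψ hψ hdegT hposR
    have h0T := segre_h0 𝒜 ℬ 𝒯 ψ hψ hdegT h0R h0S
    -- dimensions
    obtain ⟨n, g, hg⟩ := Algebra.FiniteType.iff_quotient_mvPolynomial''.mp
      (inferInstance : Algebra.FiniteType k S)
    have hSle : ringKrullDim S ≤ (n : WithBot ℕ∞) := by
      have h1 := ringKrullDim_le_of_surjective (g : MvPolynomial (Fin n) k →+* S) hg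
      rwa [Groth.Agent.H54.ringKrullDim_mvPolynomial_field] at h1
    have hSbot : ringKrullDim S ≠ ⊥ := ne_bot_of_le_ne_bot (by decide) hs
    obtain ⟨s, hs'⟩ := Groth.Agent.H54.exists_nat_eq_of_le hSbot hSle
    have hs2 : 2 ≤ s := by
      rw [hs'] at hs
      exact_mod_cast hs
    have hdimT := Groth.Agent.S18647.result k R 𝒜 hposR h0R S ℬ hposS h0S T 𝒯 ψ hψ hdegT 1 s
      (by rw [hr]; rfl) hs' le_rfl (by omega)
    haveI : Nontrivial T := by
      by_contra h
      rw [not_nontrivial_iff_subsingleton] at h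
      have h1 := ringKrullDim_eq_bot_of_subsingleton (R := T)
      rw [hdimT] at h1
      exact absurd h1 (by simp)
    haveI h𝔫 : (irrel 𝒯 hnegT).IsMaximal := irrel_isMaximal 𝒯 hnegT h0T
    have hdepth := depth_segre_eq_one 𝒜 ℬ 𝒯 ψ hψ hdegT hnegT h0R (Nat.mul_pos hE hE') ha' hareg'
      hw' hwa' hb' (hbreg.pow E) N₀ hN₀
    haveI : Algebra.FiniteType k T := finiteType_of_graded_noetherian 𝒯 hnegT h0T
    have h2 : ((2 : ℕ) : WithBot ℕ∞) ≤ ringKrullDim (Localization.AtPrime (irrel 𝒯 hnegT)) := by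
      apply le_ringKrullDim_localization_irrel 𝒯 hnegT h0T 2
      rw [hdimT]
      have h3 : 2 ≤ 1 + s - 1 := by omega
      exact_mod_cast h3
    have hcm := (LocCoh.IsCohenMacaulayRing.isCohenMacaulayLocalRing_localization
      (irrel 𝒯 hnegT)).supportDim_eq_depth
    rw [Module.supportDim_self_eq_ringKrullDim, hdepth] at hcm
    rw [hcm, ← WithBot.coe_natCast, WithBot.coe_le_coe] at h2
    have h4 : (2 : ℕ∞) ≤ 1 := h2
    exact absurd h4 (by decide)
  · rintro ⟨e⟩
    obtain ⟨x, hx⟩ := exists_piece_one_eq_span 𝒜 hposR h0R e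
    have hbij := aeval_bijective 𝒜 hposR h0R hstdR hx hdimR1
    obtain ⟨ε, hε⟩ : ∃ ε : R →ₐ[k] k, ε x = 1 := by
      refine ⟨(Polynomial.aeval (1 : k)).comp
        (AlgEquiv.ofBijective (Polynomial.aeval x) hbij).symm.toAlgHom, ?_⟩
      have h1 : (AlgEquiv.ofBijective (Polynomial.aeval x) hbij).symm x = Polynomial.X := by
        apply (AlgEquiv.ofBijective (Polynomial.aeval x) hbij).injective
        rw [AlgEquiv.apply_symm_apply, AlgEquiv.ofBijective_apply, Polynomial.aeval_X]
      rw [AlgHom.comp_apply]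
      show Polynomial.aeval (1 : k) ((AlgEquiv.ofBijective (Polynomial.aeval x) hbij).symm x) = 1
      rw [h1, Polynomial.aeval_X]
    have hbijθ := segre_bijective_of_piece 𝒜 ℬ 𝒯 ψ hψ hdegT hposR hposS
      (piece_eq_span_pow 𝒜 h0R hstdR hx) ε hε
    exact Groth.Agent.S4744.isCMRing_of_ringEquiv
      (RingEquiv.ofBijective ((contract (S := S) ε).comp ψ) hbijθ).symm inferInstance

end Groth.Agent.S18664
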