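import Groth.Statements.S18666
import Groth.Agent.H72.ProjLaurent
import Groth.Agent.H60.GorTransfer

set_option autoImplicit false
universe u
open GrProj

namespace Groth.Agent.S18666

open AlgebraicGeometry Pointwise in
/-- Let A = ⊕_{n ≥ 0} A_n be a commutative Noetherian graded ring satisfying condition (#) — there is an
integer d_0 such that for every d ≥ d_0 the Veronese subring A^(d) is generated by A_d over A_0,
equivalently A_{(n+1)d} is additively generated by the products A_d A_{nd} for every n ≥ 1 — and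
assume A is a Gorenstein ring. Then X = Proj A is a Gorenstein scheme: all of its local rings are
Gorenstein local rings. (The Cohen–Macaulay case of the same lemma is stated separately.) -/
theorem result (A : Type u) [CommRing A] (𝒜 : ℕ → AddSubgroup A) [GradedRing 𝒜] [LocCoh.IsGorensteinRing A] (hsharp : ∃ d₀ : ℕ, ∀ d : ℕ, d₀ ≤ d → ∀ n : ℕ, 1 ≤ n → 𝒜 ((n + 1) * d) = AddSubgroup.closure ((𝒜 d : Set A) * (𝒜 (n * d) : Set A))) (x : Proj 𝒜) : LocCoh.IsGorensteinLocalRing ((Proj 𝒜).presheaf.stalk x) := by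
  classical
  haveI hprime : (x.asHomogeneousIdeal.toIdeal).IsPrime := x.isPrime
  have hirr : ∃ (h : A) (e : ℕ), h ∈ 𝒜 e ∧ 0 < e ∧ h ∉ x.asHomogeneousIdeal.toIdeal := by
    by_contra hcon
    push_neg at hcon
    refine x.not_irrelevant_le fun z hz ↦ ?_
    rw [← DirectSum.sum_support_decompose 𝒜 z]
    refine x.asHomogeneousIdeal.toIdeal.sum_mem fun k hk ↦ ?_
    by_cases hk0 : k = 0
    · subst hk0
      have h0 := (HomogeneousIdeal.mem_irrelevant_iff 𝒜 z).mp hz
      rw [GradedRing.proj_apply] at h0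
      rw [h0]
      exact Ideal.zero_mem _
    · exact hcon _ k (SetLike.coe_mem _) (Nat.pos_of_ne_zero hk0)
  obtain ⟨D⟩ := Groth.Agent.H72.ProjLaurent.exists_dat (𝒜 := 𝒜)
    (p := x.asHomogeneousIdeal.toIdeal) hsharp hirr
  have hB : LocCoh.IsGorensteinLocalRing (Localization.AtPrime x.asHomogeneousIdeal.toIdeal) :=
    LocCoh.IsGorensteinRing.isGorensteinLocalRing_localization _
  have hR : LocCoh.IsGorensteinLocalRing
      (HomogeneousLocalization.AtPrime 𝒜 x.asHomogeneousIdeal.toIdeal) :=
    Groth.Agent.H72.ProjLaurent.gor_atPrime D hB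
  exact Groth.Agent.H60.GorTransfer.gor_of_ringEquiv
    (Proj.stalkIso 𝒜 x).commRingCatIsoToRingEquiv.symm hR

end Groth.Agent.S18666
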