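import Groth.Statements.S1867
import Groth.Agent.H54.GenericFinite
import Groth.Agent.H54.FibreKrull
import Groth.Agent.H9.DimFormulaRel

set_option autoImplicit false
universe u
open CategoryTheory AlgebraicGeometry
open Cyc

namespace Groth.Agent.S1867

/-- Let f : X → Y be a proper morphism of integral schemes with Y locally Noetherian, mapping the
generic point to the generic point with finite extension of function fields, and let ξ be a point of
Y whose local ring has dimension 1. Then f is finite over some open neighbourhood of ξ. -/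
theorem result (X Y : Scheme.{u}) [IsIntegral X] [IsIntegral Y] [IsLocallyNoetherian Y] (f : X ⟶ Y) [IsProper f] (hgen : f (genericPoint X) = genericPoint Y) (hfin : (f.residueFieldMap (genericPoint X)).hom.Finite) (ξ : Y) (hξ : ringKrullDim (Y.presheaf.stalk ξ) = 1) : ∃ V : Y.Opens, ξ ∈ V ∧ IsFinite (f ∣_ V) := by

  classical
  have hE : @Algebra.trdeg (Y.residueField (f.base (genericPoint X)))
      (X.residueField (genericPoint X)) _ _
      (f.residueFieldMap (genericPoint X)).hom.toAlgebra = ((0 : ℕ) : Cardinal.{u}) := by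
    letI := (f.residueFieldMap (genericPoint X)).hom.toAlgebra
    haveI : Module.Finite (Y.residueField (f.base (genericPoint X)))
        (X.residueField (genericPoint X)) := hfin
    rw [Nat.cast_zero]
    exact trdeg_eq_zero_iff.mpr inferInstance
  have hξne : ξ ≠ genericPoint Y := by
    rintro rfl
    have h0 : ringKrullDim (Y.presheaf.stalk (genericPoint Y)) = 0 :=
      ringKrullDim_eq_zero_of_field Y.functionField
    rw [h0] at hξ
    exact zero_ne_one hξ
  have hfib : ∀ z : f.fiber ξ, H54.tdeg (H54.fiberQ f ξ) z = 0 := by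
    intro z
    have hzξ : f.base (f.fiberι ξ z) = ξ := H54.fiberι_mem f ξ z
    haveI : IsNoetherianRing (Y.presheaf.stalk (f.base (f.fiberι ξ z))) := inferInstance
    have hsp : genericPoint X ⤳ f.fiberι ξ z := (genericPoint_spec X).specializes trivial
    have hne : genericPoint X ≠ f.fiberι ξ z := by
      intro h
      apply hξne
      rw [← hzξ, ← h]
      exact hgen
    have key := (H9.DimFormulaRel.rel_ineq f (f.fiberι ξ z) (genericPoint X) hsp
      (H54.tdeg (H54.fiberQ f ξ) z) 0 (H54.trdeg_fiber_eq f ξ z) hE).2.1 hne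
    rw [hzξ, hξ] at key
    have h2 : H54.tdeg (H54.fiberQ f ξ) z + 1 ≤ 1 + 0 := by exact_mod_cast key
    omega
  have hcl : ∀ z : f.fiber ξ, IsClosed ({z} : Set (f.fiber ξ)) := fun z =>
    H54.isClosed_of_tdeg_eq_zero (H54.fiberQ f ξ) z (hfib z)
  haveI : QuasiCompact (H54.fiberQ f ξ) := by
    unfold H54.fiberQ Scheme.Hom.fiberToSpecResidueField; infer_instance
  haveI : CompactSpace (f.fiber ξ) := QuasiCompact.compactSpace_of_compactSpace (H54.fiberQ f ξ)
  haveI : IsLocallyNoetherian (f.fiber ξ) :=
    LocallyOfFiniteType.isLocallyNoetherian (H54.fiberQ f ξ)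
  haveI : IsNoetherian (f.fiber ξ) := {}
  haveI : TopologicalSpace.NoetherianSpace (f.fiber ξ) := inferInstance
  have hfinite : Finite (f.fiber ξ) := by
    haveI : Finite (irreducibleComponents (f.fiber ξ)) :=
      (TopologicalSpace.NoetherianSpace.finite_irreducibleComponents
        (α := f.fiber ξ)).to_subtype
    refine Finite.of_surjective (fun Z : irreducibleComponents (f.fiber ξ) =>
      (Z.2.1 : IsIrreducible Z.1).genericPoint) fun z => ?_
    obtain ⟨Z, hZ, hzZ⟩ : ∃ Z ∈ irreducibleComponents (f.fiber ξ), z ∈ Z := by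
      have : z ∈ ⋃₀ irreducibleComponents (f.fiber ξ) := by
        rw [sUnion_irreducibleComponents]; trivial
      exact this
    refine ⟨⟨Z, hZ⟩, ?_⟩
    show (hZ.1 : IsIrreducible Z).genericPoint = z
    have h1 : closure {(hZ.1 : IsIrreducible Z).genericPoint} = Z :=
      (hZ.1 : IsIrreducible Z).closure_genericPoint (isClosed_of_mem_irreducibleComponents Z hZ)
    rw [(hcl _).closure_eq] at h1
    have h2 : z ∈ ({(hZ.1 : IsIrreducible Z).genericPoint} : Set (f.fiber ξ)) := by
      rw [h1]; exact hzZ
    exact (Set.mem_singleton_iff.mp h2).symm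
  have hpre : Finite (f ⁻¹' {ξ}) := (f.fiberHomeo ξ).finite_iff.mp hfinite
  exact exists_isFinite_morphismRestrict_of_finite_preimage_singleton f ξ
    (Set.finite_coe_iff.mp hpre)

end Groth.Agent.S1867
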