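import Groth.Statements.S18672
import Mathlib.RingTheory.GradedAlgebra.Basic
import Mathlib.Tactic

set_option autoImplicit false
universe u
open GrLC

namespace Groth.Agent.S18672

section helpers

variable {R : Type u} [CommRing R]

/-- additive subgroup generated by products `c * d`, `c ∈ 𝒜 m`, `d ∈ 𝒜 n` -/
def P (𝒜 : ℤ → AddSubgroup R) (m n : ℤ) : AddSubgroup R :=
  AddSubgroup.closure {x | ∃ c ∈ 𝒜 m, ∃ d ∈ 𝒜 n, x = c * d}

theorem piece_succ_le (𝒜 : ℤ → AddSubgroup R) [GradedRing 𝒜]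
    (hstd : Ideal.span (⋃ n ∈ Set.Ioi (0 : ℤ), (𝒜 n : Set R)) =
      Ideal.span ((𝒜 1 : AddSubgroup R) : Set R)) (n : ℤ) (hn : 0 ≤ n) :
    𝒜 (n + 1) ≤ P 𝒜 n 1 := by
  intro x hx
  have hx1 : x ∈ Ideal.span (⋃ n ∈ Set.Ioi (0 : ℤ), (𝒜 n : Set R)) := by
    apply Ideal.subset_span
    simp only [Set.mem_iUnion]
    exact ⟨n + 1, by simp only [Set.mem_Ioi]; omega, hx⟩
  rw [hstd] at hx1
  have key : ∀ y ∈ Ideal.span ((𝒜 1 : AddSubgroup R) : Set R),
      ((DirectSum.decompose 𝒜 y (n + 1) : 𝒜 (n + 1)) : R) ∈ P 𝒜 n 1 := by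
    intro y hy
    induction hy using Submodule.closure_induction with
    | zero => rw [DirectSum.decompose_zero]; exact (P 𝒜 n 1).zero_mem
    | add a b _ _ ha hb =>
      rw [DirectSum.decompose_add, DirectSum.add_apply, AddSubgroup.coe_add]
      exact (P 𝒜 n 1).add_mem ha hb
    | smul_mem r a ha =>
      rw [smul_eq_mul, DirectSum.coe_decompose_mul_add_of_right_mem 𝒜 ha]
      exact AddSubgroup.subset_closure ⟨_, SetLike.coe_mem _, a, ha, rfl⟩
  have := key x hx1
  rwa [DirectSum.decompose_of_mem_same 𝒜 hx] at this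

theorem piece_add_le (𝒜 : ℤ → AddSubgroup R) [GradedRing 𝒜]
    (hstd : Ideal.span (⋃ n ∈ Set.Ioi (0 : ℤ), (𝒜 n : Set R)) =
      Ideal.span ((𝒜 1 : AddSubgroup R) : Set R)) (n : ℤ) (hn : 0 ≤ n) (m : ℕ) :
    𝒜 (n + m) ≤ P 𝒜 m n := by
  induction m with
  | zero =>
    intro x hx
    simp only [Nat.cast_zero, add_zero] at hx ⊢
    exact AddSubgroup.subset_closure ⟨1, SetLike.GradedOne.one_mem, x, hx, (one_mul x).symm⟩
  | succ m ih =>
    intro x hx
    have h1 : n + ((m + 1 : ℕ) : ℤ) = (n + m) + 1 := by push_cast; ring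
    rw [h1] at hx
    have hx' := piece_succ_le 𝒜 hstd (n + m) (by positivity) hx
    have hle : P 𝒜 (n + m) 1 ≤ P 𝒜 ((m + 1 : ℕ) : ℤ) n := by
      unfold P
      rw [AddSubgroup.closure_le]
      rintro _ ⟨y, hy, a, ha, rfl⟩
      have hy' := ih hy
      have hle2 : P 𝒜 m n ≤ (P 𝒜 ((m + 1 : ℕ) : ℤ) n).comap (AddMonoidHom.mulRight a) := by
        unfold P
        rw [AddSubgroup.closure_le]
        rintro _ ⟨c, hc, d, hd, rfl⟩
        show c * d * a ∈ AddSubgroup.closure {x | ∃ c ∈ 𝒜 ((m + 1 : ℕ) : ℤ), ∃ d ∈ 𝒜 n, x = c * d}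
        have hca : c * a ∈ 𝒜 ((m + 1 : ℕ) : ℤ) := by
          have := SetLike.GradedMul.mul_mem hc ha
          push_cast
          exact this
        exact AddSubgroup.subset_closure ⟨c * a, hca, d, hd, by ring⟩
      exact hle2 hy'
    exact hle hx'

end helpers

/-- Let R be a graded ring defined over a field k = R_0 which is Cohen–Macaulay and generated over k by
R_1 (the standing hypotheses of this section; only generation in degree one is used), q ≥ 1, R' =
R^(q), and a an integer. Then the Veronese submodule [R(a)]^(q) = ⊕_j R_{a+jq} is generated over R'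
by its piece R(a)_n = R_{a+n}, where n is the smallest multiple of q with n + a ≥ 0. Here 'graded
ring defined over a field' means R = ⊕_{n ≥ 0} R_n is Noetherian with R_0 a field, and m = R_+ is
its unique graded maximal ideal. The Veronese subring R^(q) = ⊕_j R_{jq}, regraded by (R^(q))_j =
R_{jq}, is presented abstractly as a ℤ-graded ring R' with an injective ring homomorphism φ : R' → R
carrying R'_j onto R_{jq} for every j. The module [R(a)]^(q) is presented as a graded R'-module M'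
with an injective additive map g : M' → R, semilinear over φ, carrying M'_j onto R_{a+jq} for every
j; with n = j₀q, the conclusion is that the R'-span of M'_{j₀} is all of M'. -/
theorem result (R : Type u) [CommRing R] [LocCoh.IsCohenMacaulayRing R] (𝒜 : ℤ → AddSubgroup R) [GradedRing 𝒜] (hpos : ∀ n : ℤ, n < 0 → 𝒜 n = ⊥) (h0 : IsField (GrLC.deg0 𝒜)) (hstd : Ideal.span (⋃ n ∈ Set.Ioi (0 : ℤ), (𝒜 n : Set R)) = Ideal.span ((𝒜 1 : AddSubgroup R) : Set R)) (q : ℕ) (hq : 0 < q) (R' : Type u) [CommRing R'] (𝒜' : ℤ → AddSubgroup R') [GradedRing 𝒜'] (φ : R' →+* R) (hφ : Function.Injective φ) (hdeg : ∀ j : ℤ, (𝒜' j).map (φ : R' →+ R) = 𝒜 (j * q)) (a : ℤ) (M' : Type u) [AddCommGroup M'] [Module R' M'] (ℳ' : ℤ → AddSubgroup M') [DirectSum.Decomposition ℳ'] [SetLike.GradedSMul 𝒜' ℳ'] (g : M' →ₛₗ[φ] R) (hg : Function.Injective g) (hgdeg : ∀ j : ℤ, (ℳ' j).map (g : M' →+ R) = 𝒜 (a + j * q)) (j₀ : ℤ) (hj₀ : 0 ≤ a + j₀ * q) (hj₀' : a + (j₀ - 1) * q < 0) : Submodule.span R' ((ℳ' j₀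 : AddSubgroup M') : Set M') = ⊤ := by
  classical
  rw [eq_top_iff]
  intro x _
  -- every homogeneous element lies in the span
  have hpiece : ∀ (j : ℤ) (y : M'), y ∈ ℳ' j →
      y ∈ Submodule.span R' ((ℳ' j₀ : AddSubgroup M') : Set M') := by
    intro j y hy
    have hgy : g y ∈ 𝒜 (a + j * q) := by
      rw [← hgdeg j]
      exact AddSubgroup.mem_map.mpr ⟨y, hy, rfl⟩
    by_cases hj : j < j₀
    · have hneg : a + j * q < 0 := by
        have h1 : j ≤ j₀ - 1 := by omega
        have h2 : j * (q : ℤ) ≤ (j₀ - 1) * q :=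
          mul_le_mul_of_nonneg_right h1 (by positivity)
        linarith
      rw [hpos _ hneg, AddSubgroup.mem_bot] at hgy
      have : y = 0 := hg (by rw [hgy, map_zero])
      rw [this]
      exact zero_mem _
    · rw [not_lt] at hj
      obtain ⟨t, ht⟩ := Int.eq_ofNat_of_zero_le (sub_nonneg.mpr hj)
      have hjt : j = j₀ + t := by omega
      subst hjt
      have hidx : a + (j₀ + t) * (q : ℤ) = (a + j₀ * q) + ((t * q : ℕ) : ℤ) := by
        push_cast; ring
      rw [hidx] at hgy
      have hP := piece_add_le 𝒜 hstd (a + j₀ * q) hj₀ (t * q) hgy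
      -- products lie in the image of the span
      have hle : P 𝒜 ((t * q : ℕ) : ℤ) (a + j₀ * q) ≤
          (Submodule.span R' ((ℳ' j₀ : AddSubgroup M') : Set M')).toAddSubgroup.map
            (g : M' →+ R) := by
        unfold P
        rw [AddSubgroup.closure_le]
        rintro _ ⟨c, hc, d, hd, rfl⟩
        have hc' : c ∈ (𝒜' t).map (φ : R' →+ R) := by
          rw [hdeg t]
          have : ((t * q : ℕ) : ℤ) = (t : ℤ) * q := by push_cast; ring
          rw [← this]
          exact hc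
        have hd' : d ∈ (ℳ' j₀).map (g : M' →+ R) := by
          rw [hgdeg j₀]; exact hd
        obtain ⟨c', hc'mem, hc'eq⟩ := AddSubgroup.mem_map.mp hc'
        obtain ⟨d', hd'mem, hd'eq⟩ := AddSubgroup.mem_map.mp hd'
        have hc'eq' : φ c' = c := hc'eq
        have hd'eq' : g d' = d := hd'eq
        refine AddSubgroup.mem_map.mpr ⟨c' • d', ?_, ?_⟩
        · exact Submodule.smul_mem _ c' (Submodule.subset_span hd'mem)
        · show g (c' • d') = c * d
          rw [g.map_smulₛₗ, smul_eq_mul, hc'eq', hd'eq']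
      obtain ⟨z, hz, hzy⟩ := AddSubgroup.mem_map.mp (hle hP)
      have hzy' : g z = g y := hzy
      have : z = y := hg hzy'
      rw [← this]
      exact hz
  rw [← DirectSum.sum_support_decompose ℳ' x]
  apply Submodule.sum_mem
  intro j _
  exact hpiece j _ (SetLike.coe_mem _)

end Groth.Agent.S18672
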