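import Groth.Statements.S18700
import Groth.Agent.H26.DepthExt

set_option autoImplicit false
universe u
open QGor

namespace Groth.Agent.S18700

/-- Affine form. Let A be a Noetherian ring, I an ideal, and G the kernel of a linear map u : E⁰ → E¹ of
finite A-modules. If depth_I E⁰ ≥ 1 then depth_I G ≥ 1; if depth_I E⁰ ≥ 2 and depth_I E¹ ≥ 1 then
depth_I G ≥ 2. -/
theorem result (A : Type u) [CommRing A] [IsNoetherianRing A] (I : Ideal A)
    (E0 E1 : Type u) [AddCommGroup E0] [Module A E0] [Module.Finite A E0] [AddCommGroup E1] [Module A E1]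
    [Module.Finite A E1] (u : E0 →ₗ[A] E1) :
    (1 ≤ LocCoh.idealDepth I E0 → 1 ≤ LocCoh.idealDepth I (LinearMap.ker u)) ∧
    (2 ≤ LocCoh.idealDepth I E0 → 1 ≤ LocCoh.idealDepth I E1 → 2 ≤ LocCoh.idealDepth I (LinearMap.ker u)) := by
  haveI : IsNoetherian A E0 := isNoetherian_of_isNoetherianRing_of_finite A E0
  haveI : Module.Finite A (LinearMap.ker u) := inferInstance
  obtain ⟨aux1, aux2⟩ :=
    Groth.Agent.H26.DepthExt.ext_ker_aux (ModuleCat.of A (A ⧸ I)) u
  constructor
  · intro h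
    have h' : ((1 : ℕ) : ℕ∞) ≤ LocCoh.idealDepth I E0 := by exact_mod_cast h
    have h'' := (Groth.Agent.H26.DepthExt.le_idealDepth_iff_ext I E0 1).1 h'
    have h3 : ((1 : ℕ) : ℕ∞) ≤ LocCoh.idealDepth I (LinearMap.ker u) := by
      rw [Groth.Agent.H26.DepthExt.le_idealDepth_iff_ext]
      intro i hi
      have hi0 : i = 0 := by omega
      subst hi0
      exact aux1 (h'' 0 (by omega))
    exact_mod_cast h3
  · intro h0 h1
    have h0' : ((2 : ℕ) : ℕ∞) ≤ LocCoh.idealDepth I E0 := by exact_mod_cast h0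
    have h1' : ((1 : ℕ) : ℕ∞) ≤ LocCoh.idealDepth I E1 := by exact_mod_cast h1
    have h0'' := (Groth.Agent.H26.DepthExt.le_idealDepth_iff_ext I E0 2).1 h0'
    have h1'' := (Groth.Agent.H26.DepthExt.le_idealDepth_iff_ext I E1 1).1 h1'
    have h3 : ((2 : ℕ) : ℕ∞) ≤ LocCoh.idealDepth I (LinearMap.ker u) := by
      rw [Groth.Agent.H26.DepthExt.le_idealDepth_iff_ext]
      intro i hi
      have hi01 : i = 0 ∨ i = 1 := by omega
      rcases hi01 with rfl | rfl
      · exact aux1 (h0'' 0 (by omega))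
      · exact aux2 (h0'' 1 (by omega)) (h1'' 0 (by omega))
    exact_mod_cast h3

end Groth.Agent.S18700
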