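import Groth.Statements.S18711
import Groth.Agent.H29.KollarBC
set_option maxHeartbeats 1600000
set_option linter.style.haveILetI false

set_option autoImplicit false
universe u
open QGor

namespace Groth.Agent.S18711

open TensorProduct

open TensorProduct in
/-- Affine form. Let A → B be a flat homomorphism of Noetherian rings, J an ideal of B such that for
every prime q ⊇ J with contraction p the fibre local ring B_q/pB_q has depth ≥ 2, A → A′ a
homomorphism of Noetherian rings and B′ = A′ ⊗_A B the (Noetherian) pushout. Let 0 → F → E⁰ → E¹ → G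
→ 0 be an exact sequence of finite B-modules with E⁰, E¹ projective and F_q, G_q free for every
prime q not containing J. Then F is reflexive; the kernel K′ of B′ ⊗_B E⁰ → B′ ⊗_B E¹ is a reflexive
B′-module with depth_{JB′} K′ ≥ 2 (so it is the module of sections of the pull-back of F off
V(JB′)); and K′ is flat over A′ with depth ≥ 2 along JB′ on every fibre stalk K′_{q′}/p′K′_{q′} if
and only if B′ ⊗_B G is flat over A′. (The published statement phrases the last left-hand condition
as the relative S₂ condition of K′ over A′; the two agree when the fibres of Spec B′ → Spec A′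
satisfy S₂ off V(JB′), and without that the relative S₂ form fails already for A = A′ a field, J =
B, F = E⁰ = B not S₂ and E¹ = G = 0, so the fibrewise-depth form, which is what the proof
establishes, is stated.) -/
theorem result (A B : Type u) [CommRing A] [CommRing B] [IsNoetherianRing A] [IsNoetherianRing B] [Algebra A B]
    (A' B' : Type u) [CommRing A'] [CommRing B'] [IsNoetherianRing A'] [IsNoetherianRing B']
    [Algebra A A'] [Algebra B B'] [Algebra A' B'] [Algebra A B'] [IsScalarTower A B B'] [IsScalarTower A A' B']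
    [Algebra.IsPushout A B A' B'] [Module.Flat A B] (J : Ideal B)
    (hZ : ∀ q : PrimeSpectrum B, J ≤ q.asIdeal →
      2 ≤ LocCoh.idealDepth (q.asIdeal.map (algebraMap B (EGA4.FibLocRing A B q.asIdeal))) (EGA4.FibLocRing A B q.asIdeal))
    (F E0 E1 G : Type u) [AddCommGroup F] [Module B F] [Module.Finite B F]
    [AddCommGroup E0] [Module B E0] [Module.Finite B E0] [Module.Projective B E0]
    [AddCommGroup E1] [Module B E1] [Module.Finite B E1] [Module.Projective B E1]
    [AddCommGroup G] [Module B G] [Module.Finite B G]
    (f : F →ₗ[B] E0) (u : E0 →ₗ[B] E1) (v : E1 →ₗ[B] G)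
    (hf : Function.Injective f) (hfu : Function.Exact f u) (huv : Function.Exact u v) (hv : Function.Surjective v)
    (hFU : ∀ q : PrimeSpectrum B, ¬ J ≤ q.asIdeal → Module.Free (Localization.AtPrime q.asIdeal) (LocalizedModule q.asIdeal.primeCompl F))
    (hGU : ∀ q : PrimeSpectrum B, ¬ J ≤ q.asIdeal → Module.Free (Localization.AtPrime q.asIdeal) (LocalizedModule q.asIdeal.primeCompl G)) :
    Module.IsReflexive B F ∧
    Module.IsReflexive B' (LinearMap.ker (u.baseChange B')) ∧
    2 ≤ LocCoh.idealDepth (J.map (algebraMap B B')) (LinearMap.ker (u.baseChange B')) ∧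
    ((∀ q' : PrimeSpectrum B', FlatCA.FlatAt A' q'.asIdeal (LinearMap.ker (u.baseChange B')) ∧
        2 ≤ LocCoh.idealDepth ((J.map (algebraMap B B')).map (algebraMap B' (EGA4.FibLocRing A' B' q'.asIdeal)))
          (EGA4.FibLocMod A' B' q'.asIdeal (LinearMap.ker (u.baseChange B')))) ↔
      Module.Flat A' (B' ⊗[B] G)) := by
  classical
  letI mF : Module A F := Module.compHom F (algebraMap A B)
  letI mE0 : Module A E0 := Module.compHom E0 (algebraMap A B)
  letI mE1 : Module A E1 := Module.compHom E1 (algebraMap A B)
  letI mG : Module A G := Module.compHom G (algebraMap A B)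
  haveI tF : IsScalarTower A B F := IsScalarTower.of_algebraMap_smul fun r x => rfl
  haveI tE0 : IsScalarTower A B E0 := IsScalarTower.of_algebraMap_smul fun r x => rfl
  haveI tE1 : IsScalarTower A B E1 := IsScalarTower.of_algebraMap_smul fun r x => rfl
  haveI tG : IsScalarTower A B G := IsScalarTower.of_algebraMap_smul fun r x => rfl
  have hGfl : ∀ q : PrimeSpectrum B, ¬ J ≤ q.asIdeal →
      Module.Flat (Localization.AtPrime q.asIdeal) (LocalizedModule q.asIdeal.primeCompl G) := by
    intro q hq
    haveI := hGU q hq
    infer_instance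
  obtain ⟨hFrefl, -, -⟩ := Groth.Agent.H29.KollarBC.core2 A B J hZ F E0 E1 G f u v hf hfu huv hv hGfl
  refine ⟨hFrefl, ?_⟩
  -- base change
  haveI hps : Algebra.IsPushout A A' B B' :=
    Algebra.IsPushout.symm (inferInstance : Algebra.IsPushout A B A' B')
  haveI hflat' : Module.Flat A' B' :=
    Module.Flat.isBaseChange A A' B B'
      (Algebra.IsPushout.out (R := A) (S := A') (R' := B) (S' := B'))
  have hZ' : ∀ q' : PrimeSpectrum B', J.map (algebraMap B B') ≤ q'.asIdeal →
      2 ≤ LocCoh.idealDepth (q'.asIdeal.map (algebraMap B' (EGA4.FibLocRing A' B' q'.asIdeal)))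
        (EGA4.FibLocRing A' B' q'.asIdeal) := by
    intro q' hq'
    refine Groth.Agent.H29.KollarBC.le_depth_fibLocRing_baseChange (A := A) (B := B) q'.asIdeal 2 ?_
    exact hZ ⟨q'.asIdeal.comap (algebraMap B B'), inferInstance⟩ (Ideal.map_le_iff_le_comap.mp hq')
  have hGfl' : ∀ q' : PrimeSpectrum B', ¬ J.map (algebraMap B B') ≤ q'.asIdeal →
      Module.Flat (Localization.AtPrime q'.asIdeal)
        (LocalizedModule q'.asIdeal.primeCompl (B' ⊗[B] G)) := by
    intro q' hq'
    refine Groth.Agent.H29.KollarBC.flat_localizedModule_baseChange G q'.asIdeal ?_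
    exact hGfl ⟨q'.asIdeal.comap (algebraMap B B'), inferInstance⟩
      (fun h => hq' (Ideal.map_le_iff_le_comap.mpr h))
  have huv' : Function.Exact (u.baseChange B') (v.baseChange B') := by
    rw [LinearMap.baseChange_eq_ltensor, LinearMap.baseChange_eq_ltensor]
    exact lTensor_exact B' huv hv
  have hv' : Function.Surjective (v.baseChange B') := by
    rw [LinearMap.baseChange_eq_ltensor]
    exact LinearMap.lTensor_surjective B' hv
  obtain ⟨hKrefl, hKd, hKiff⟩ := Groth.Agent.H29.KollarBC.core2 A' B' (J.map (algebraMap B B')) hZ'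
    (LinearMap.ker (u.baseChange B')) (B' ⊗[B] E0) (B' ⊗[B] E1) (B' ⊗[B] G)
    (LinearMap.ker (u.baseChange B')).subtype (u.baseChange B') (v.baseChange B')
    (Submodule.injective_subtype _) (LinearMap.exact_subtype_ker_map _) huv' hv' hGfl'
  exact ⟨hKrefl, hKd, hKiff⟩

end Groth.Agent.S18711
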