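import Groth.Statements.S18712
import Groth.Agent.H29.Inf.ArtStep
import Groth.Agent.H29.Inf.Final
import Groth.Agent.H66.KollarP3
import Groth.Agent.H66.KollarP2
import Groth.Agent.H34.FourTerm
import Groth.Agent.H57.LocalCrit
set_option maxHeartbeats 1600000
set_option synthInstance.maxHeartbeats 200000
set_option linter.style.haveILetI false

set_option autoImplicit false
universe u
open QGor

namespace Groth.Agent.S18712

open TensorProduct
attribute [local instance] Algebra.TensorProduct.rightAlgebra

open TensorProduct in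
/-- Infinitesimal criterion, affine-local form. Let R be a Noetherian local ring with maximal ideal m, C
a finitely generated flat R-algebra, y = n a prime of C over m at which the fibre C_n/mC_n satisfies
S₂ (the structure morphism satisfies relative S₂ at y), and F a finite reflexive C-module which is
free at every prime not containing an ideal J such that every fibre local ring C_q/pC_q at primes q
⊇ J has dimension ≥ 2 (F is locally free in codimension one on each fibre). Suppose that for every
surjective homomorphism R → A′ onto an Artinian local ring and the Noetherian pushout C′ = A′ ⊗_R C,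
at every prime q′ of C′ lying over n the double dual (C′ ⊗_C F)^∨∨ is flat over A′ at q′ and its
fibre stalk satisfies S₂. Then F is flat over R at n and the fibre stalk F_n/mF_n satisfies S₂ (F
satisfies relative S₂ at y). Test rings A′ range over the universe of R. -/
theorem result (R C : Type u) [CommRing R] [CommRing C] [IsNoetherianRing R] [IsLocalRing R] [IsNoetherianRing C]
    [Algebra R C] [Module.Flat R C] (hft : Algebra.FiniteType R C)
    (n : PrimeSpectrum C) (hn : (IsLocalRing.maximalIdeal R).map (algebraMap R C) ≤ n.asIdeal)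
    (hS2 : LocCoh.HasSk 2 (EGA4.FibLocRing R C n.asIdeal) (EGA4.FibLocRing R C n.asIdeal))
    (F : Type u) [AddCommGroup F] [Module C F] [Module R F] [IsScalarTower R C F] [Module.Finite C F]
    [Module.IsReflexive C F] (J : Ideal C)
    (hFU : ∀ q : PrimeSpectrum C, ¬ J ≤ q.asIdeal → Module.Free (Localization.AtPrime q.asIdeal) (LocalizedModule q.asIdeal.primeCompl F))
    (hcodim : ∀ q : PrimeSpectrum C, J ≤ q.asIdeal → (2 : WithBot ℕ∞) ≤ ringKrullDim (EGA4.FibLocRing R C q.asIdeal))
    (hI : ∀ (A' : Type u) [CommRing A'] [IsArtinianRing A'] [IsLocalRing A'] [Algebra R A'],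
      Function.Surjective (algebraMap R A') →
      ∀ (C' : Type u) [CommRing C'] [IsNoetherianRing C'] [Algebra C C'] [Algebra A' C'] [Algebra R C']
        [IsScalarTower R C C'] [IsScalarTower R A' C'], Algebra.IsPushout R C A' C' →
        ∀ q' : PrimeSpectrum C', q'.asIdeal.comap (algebraMap C C') = n.asIdeal →
          FlatCA.FlatAt A' q'.asIdeal (Module.Dual C' (Module.Dual C' (C' ⊗[C] F))) ∧
          LocCoh.HasSk 2 (EGA4.FibLocRing A' C' q'.asIdeal)
            (EGA4.FibLocMod A' C' q'.asIdeal (Module.Dual C' (Module.Dual C' (C' ⊗[C] F))))) :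
    FlatCA.FlatAt R n.asIdeal F ∧ LocCoh.HasSk 2 (EGA4.FibLocRing R C n.asIdeal) (EGA4.FibLocMod R C n.asIdeal F) := by
  classical
  -- `n` lies over the maximal ideal
  have hcomap : n.asIdeal.comap (algebraMap R C) = IsLocalRing.maximalIdeal R := by
    have hle : IsLocalRing.maximalIdeal R ≤ n.asIdeal.comap (algebraMap R C) :=
      Ideal.map_le_iff_le_comap.mp hn
    exact ((IsLocalRing.maximalIdeal.isMaximal R).eq_of_le
      (Ideal.comap_ne_top _ n.isPrime.ne_top) hle).symm
  -- the four-term sequence
  obtain ⟨a, b, g, h, hg, hgh, hGfree⟩ := Groth.Agent.H34.FourTerm.main C J F hFU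
  have hhv : Function.Exact h (LinearMap.range h).mkQ := LinearMap.exact_map_mkQ_range h
  have hv : Function.Surjective (LinearMap.range h).mkQ := Submodule.mkQ_surjective _
  obtain ⟨N, hH⟩ := Groth.Agent.H29.Inf.Homotopy.exists_homotopy J F (Fin a → C) (Fin b → C)
    ((Fin b → C) ⧸ LinearMap.range h) g h (LinearMap.range h).mkQ hg hgh hhv hv
    (fun p hp => by
      haveI := hGfree p hp
      infer_instance)
  -- fibre depths at the generizations of `n` in the closed fibre
  have hBF : ∀ (q : Ideal C) [q.IsPrime], J ≤ q → q ≤ n.asIdeal →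
      q.comap (algebraMap R C) = IsLocalRing.maximalIdeal R →
      2 ≤ LocCoh.idealDepth (q.map (algebraMap C (EGA4.FibLocRing R C q)))
        (EGA4.FibLocRing R C q) := fun q _ hJ hqn hq =>
    Groth.Agent.H66.KollarP2.two_le_idealDepth_fibLocRing_of_le R C n.asIdeal hS2 q hqn
      (hq.trans hcomap.symm) (hcodim ⟨q, inferInstance⟩ hJ)
  -- flatness of `G` at `n` by the local criterion
  haveI tG := Groth.Agent.H29.KollarBC.isScalarTower_loc R n.asIdeal.primeCompl
    ((Fin b → C) ⧸ LinearMap.range h)
  have hGflat : Module.Flat R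
      (LocalizedModule n.asIdeal.primeCompl ((Fin b → C) ⧸ LinearMap.range h)) := by
    refine Groth.Agent.H57.flat_of_flat_mod_pow (S := Localization.AtPrime n.asIdeal)
      (IsLocalRing.maximalIdeal R) ?_ (fun k => ?_)
    · rw [IsLocalRing.jacobson_eq_maximalIdeal ⊥ bot_ne_top, Ideal.map_le_iff_le_comap]
      intro x hx
      rw [Ideal.mem_comap, IsScalarTower.algebraMap_apply R C (Localization.AtPrime n.asIdeal),
        IsLocalization.AtPrime.to_map_mem_maximal_iff (Localization.AtPrime n.asIdeal) n.asIdeal]
      exact hn (Ideal.mem_map_of_mem _ hx)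
    · rcases Nat.eq_zero_or_pos k with rfl | hk
      · haveI : Subsingleton (R ⧸ IsLocalRing.maximalIdeal R ^ 0) := by
          rw [pow_zero, Ideal.one_eq_top]
          exact Ideal.Quotient.subsingleton_iff.mpr rfl
        haveI : Subsingleton ((R ⧸ IsLocalRing.maximalIdeal R ^ 0) ⊗[R]
            LocalizedModule n.asIdeal.primeCompl ((Fin b → C) ⧸ LinearMap.range h)) :=
          Module.subsingleton (R ⧸ IsLocalRing.maximalIdeal R ^ 0) _
        infer_instance
      · have hne : IsLocalRing.maximalIdeal R ^ k ≠ ⊤ := fun htop =>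
          (IsLocalRing.maximalIdeal.isMaximal R).ne_top
            (top_le_iff.mp (htop ▸ Ideal.pow_le_self hk.ne'))
        haveI hnt : Nontrivial (R ⧸ IsLocalRing.maximalIdeal R ^ k) :=
          Ideal.Quotient.nontrivial_iff.mpr hne
        haveI : IsLocalRing (R ⧸ IsLocalRing.maximalIdeal R ^ k) :=
          IsLocalRing.of_surjective' (Ideal.Quotient.mk _) Ideal.Quotient.mk_surjective
        haveI : IsArtinianRing (R ⧸ IsLocalRing.maximalIdeal R ^ k) := by
          have hfl := Groth.Agent.H29.KollarFlat.isFiniteLength_quot_pow R k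
          have hart : IsArtinian R (R ⧸ IsLocalRing.maximalIdeal R ^ k) :=
            (isFiniteLength_iff_isNoetherian_isArtinian.mp hfl).2
          exact isArtinian_of_tower R hart
        haveI : IsNoetherianRing ((R ⧸ IsLocalRing.maximalIdeal R ^ k) ⊗[R] C) :=
          Algebra.FiniteType.isNoetherianRing (R ⧸ IsLocalRing.maximalIdeal R ^ k) _
        have hsurj : Function.Surjective (algebraMap R (R ⧸ IsLocalRing.maximalIdeal R ^ k)) :=
          Ideal.Quotient.mk_surjective
        -- the prime of the pushout over `n`
        have hker : RingHom.ker (Ideal.Quotient.mk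
            ((IsLocalRing.maximalIdeal R ^ k).map (algebraMap R C))) ≤ n.asIdeal := by
          rw [Ideal.mk_ker]
          exact (Ideal.map_mono (Ideal.pow_le_self hk.ne')).trans hn
        haveI hnbar : (n.asIdeal.map (Ideal.Quotient.mk
            ((IsLocalRing.maximalIdeal R ^ k).map (algebraMap R C)))).IsPrime :=
          Ideal.map_isPrime_of_surjective Ideal.Quotient.mk_surjective hker
        let e := Algebra.TensorProduct.quotIdealMapEquivQuotTensor C
          (IsLocalRing.maximalIdeal R ^ k)
        let q' : Ideal ((R ⧸ IsLocalRing.maximalIdeal R ^ k) ⊗[R] C) :=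
          (n.asIdeal.map (Ideal.Quotient.mk
            ((IsLocalRing.maximalIdeal R ^ k).map (algebraMap R C)))).comap
            (e.symm : (R ⧸ IsLocalRing.maximalIdeal R ^ k) ⊗[R] C →+* _)
        haveI hq'prime : q'.IsPrime := Ideal.comap_isPrime _ _
        have hq' : q'.comap (algebraMap C ((R ⧸ IsLocalRing.maximalIdeal R ^ k) ⊗[R] C)) =
            n.asIdeal := by
          have hcomp : ((e.symm : (R ⧸ IsLocalRing.maximalIdeal R ^ k) ⊗[R] C →+* _)).comp
              (algebraMap C ((R ⧸ IsLocalRing.maximalIdeal R ^ k) ⊗[R] C)) =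
              Ideal.Quotient.mk ((IsLocalRing.maximalIdeal R ^ k).map (algebraMap R C)) := by
            ext c
            show e.symm ((1 : R ⧸ IsLocalRing.maximalIdeal R ^ k) ⊗ₜ[R] c) = _
            rw [← Algebra.TensorProduct.quotIdealMapEquivQuotTensor_mk]
            exact e.symm_apply_apply _
          show Ideal.comap _ (Ideal.comap _ _) = _
          rw [Ideal.comap_comap, hcomp,
            Ideal.comap_map_of_surjective _ Ideal.Quotient.mk_surjective,
            ← RingHom.ker_eq_comap_bot, sup_eq_left]
          exact hker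
        have hfl := (hI (R ⧸ IsLocalRing.maximalIdeal R ^ k) hsurj
          ((R ⧸ IsLocalRing.maximalIdeal R ^ k) ⊗[R] C) inferInstance ⟨q', hq'prime⟩ hq').1
        have hstep := Groth.Agent.H29.Inf.ArtStep.artStep n.asIdeal J hBF F (Fin a → C)
          (Fin b → C) ((Fin b → C) ⧸ LinearMap.range h) g h (LinearMap.range h).mkQ hgh hhv hv
          hGfree N hH (R ⧸ IsLocalRing.maximalIdeal R ^ k)
          ((R ⧸ IsLocalRing.maximalIdeal R ^ k) ⊗[R] C) hsurj q' hq' hfl
        exact Groth.Agent.H66.KollarP3.flat_tensor_localizedModule_of_flatAt hsurj n.asIdeal q' hq'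
          ((Fin b → C) ⧸ LinearMap.range h) hstep
  -- conclusion
  haveI tF := Groth.Agent.H29.KollarBC.isScalarTower_loc R n.asIdeal.primeCompl F
  haveI tE0 := Groth.Agent.H29.KollarBC.isScalarTower_loc R n.asIdeal.primeCompl (Fin a → C)
  haveI tE1 := Groth.Agent.H29.KollarBC.isScalarTower_loc R n.asIdeal.primeCompl (Fin b → C)
  haveI : Module.Flat R (Fin a → C) := Module.Flat.trans R C (Fin a → C)
  haveI : Module.Flat R (Fin b → C) := Module.Flat.trans R C (Fin b → C)
  haveI : Module.Flat R (LocalizedModule n.asIdeal.primeCompl (Fin a → C)) :=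
    Groth.Agent.H34.FibDepthMod.flat_localizedModule n.asIdeal.primeCompl (Fin a → C)
  haveI : Module.Flat R (LocalizedModule n.asIdeal.primeCompl (Fin b → C)) :=
    Groth.Agent.H34.FibDepthMod.flat_localizedModule n.asIdeal.primeCompl (Fin b → C)
  haveI := hGflat
  have hexL : Function.Exact (LocalizedModule.map n.asIdeal.primeCompl g)
      (LocalizedModule.map n.asIdeal.primeCompl h) := LocalizedModule.map_exact _ g h hgh
  obtain ⟨hKflat, hinj, hex⟩ := Groth.Agent.H29.Inf.Final.flat_and_mem (A := R)
    (B := Localization.AtPrime n.asIdeal) (n.asIdeal.comap (algebraMap R C))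
    (LocalizedModule n.asIdeal.primeCompl F) (LocalizedModule n.asIdeal.primeCompl (Fin a → C))
    (LocalizedModule n.asIdeal.primeCompl (Fin b → C))
    (LocalizedModule n.asIdeal.primeCompl ((Fin b → C) ⧸ LinearMap.range h))
    (LocalizedModule.map n.asIdeal.primeCompl g) (LocalizedModule.map n.asIdeal.primeCompl h)
    (LocalizedModule.map n.asIdeal.primeCompl (LinearMap.range h).mkQ)
    (LocalizedModule.map_injective _ g hg) hexL
    (LocalizedModule.map_exact _ h _ hhv) (LocalizedModule.map_surjective _ _ hv)
  refine ⟨hKflat, ?_⟩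
  haveI : Module.Free (Localization.AtPrime n.asIdeal)
      (LocalizedModule n.asIdeal.primeCompl (Fin a → C)) :=
    Module.Free.of_equiv (IsLocalizedModule.isBaseChange n.asIdeal.primeCompl
      (Localization.AtPrime n.asIdeal)
      (LocalizedModule.mkLinearMap n.asIdeal.primeCompl (Fin a → C))).equiv
  haveI : Module.Free (Localization.AtPrime n.asIdeal)
      (LocalizedModule n.asIdeal.primeCompl (Fin b → C)) :=
    Module.Free.of_equiv (IsLocalizedModule.isBaseChange n.asIdeal.primeCompl
      (Localization.AtPrime n.asIdeal)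
      (LocalizedModule.mkLinearMap n.asIdeal.primeCompl (Fin b → C))).equiv
  exact Groth.Agent.H29.Inf.Final.hasSk_two_quot_of_exact
    ((n.asIdeal.comap (algebraMap R C)).map (algebraMap R (Localization.AtPrime n.asIdeal))) hS2
    (LocalizedModule n.asIdeal.primeCompl F) (LocalizedModule n.asIdeal.primeCompl (Fin a → C))
    (LocalizedModule n.asIdeal.primeCompl (Fin b → C))
    (LocalizedModule.map n.asIdeal.primeCompl g) (LocalizedModule.map n.asIdeal.primeCompl h)
    (fun x => hexL.apply_apply_eq_zero x) hinj hex

end Groth.Agent.S18712
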