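import Groth.Statements.S18716
import Mathlib
import Groth.Agent.H46.DualPkg

set_option autoImplicit false
set_option linter.style.haveILetI false
universe u
open CategoryTheory
attribute [local instance] HasDerivedCategory.standard
open QGor

namespace Groth.Agent.S18716

/-- Affine form. Let A be a Noetherian ring with a dualizing complex ω, M a finite A-module and, for j ∈
ℤ, E^j = Ext^j(M, ω) the A-module of morphisms M → ω[j] in D(A). For k ≥ 1, M satisfies (S_k) if and
only if for all integers i > j the closed set Supp E^i ∩ Supp E^j has codimension ≥ k + i − j in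
Supp M, i.e. dim Supp(M_p) ≥ k + i − j for every prime p in Supp E^i ∩ Supp E^j. -/
theorem result (A : Type u) [CommRing A] [IsNoetherianRing A]
    (ω : Dual.D A) (hω : Dual.IsDualizing A ω) (M : Type u) [AddCommGroup M] [Module A M] [Module.Finite A M]
    (k : ℕ) (hk : 1 ≤ k) :
    LocCoh.HasSk k A M ↔
      ∀ (i j : ℤ), j < i → ∀ p : PrimeSpectrum A,
        p ∈ Module.support A (Dual.inD A M ⟶ ω⟦i⟧) → p ∈ Module.support A (Dual.inD A M ⟶ ω⟦j⟧) →
          (((k : ℤ) + i - j).toNat : WithBot ℕ∞) ≤
            Module.supportDim (Localization.AtPrime p.asIdeal) (LocalizedModule p.asIdeal.primeCompl M) := by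
  constructor
  · intro hSk i j hji p hpi hpj
    haveI := Groth.Agent.H12.DualLoc.nontrivial_localized_of_mem_support_hom ω hω M p j hpj
    obtain ⟨c, e, n, he, hdep, hbd, -, -⟩ := Groth.Agent.H46.DualPkg.general_package ω hω M p
    obtain ⟨hi1, hi2⟩ := hbd i hpi
    obtain ⟨hj1, hj2⟩ := hbd j hpj
    have hS := hSk p.asIdeal
    rw [he, hdep, min_le_iff, Groth.Agent.H12.DualLoc.natCast_le_iff',
      Groth.Agent.H12.DualLoc.natCast_le_iff'] at hS
    have hkn : k ≤ n := by
      rcases hS with h | h
      · exact h
      · omega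
    rw [he]
    have h2 : ((((k : ℤ) + i - j).toNat : ℕ) : WithBot ℕ∞) ≤ (((e : ℕ) : ℕ∞) : WithBot ℕ∞) :=
      (Groth.Agent.H12.DualLoc.natCast_le_iff' _ e).2 (by omega)
    exact h2
  · intro hcond p hp
    let P : PrimeSpectrum A := ⟨p, hp⟩
    rcases subsingleton_or_nontrivial (LocalizedModule p.primeCompl M) with hs | hnt
    · rw [Module.supportDim_eq_bot_of_subsingleton]
      simp
    · haveI : Nontrivial (LocalizedModule P.asIdeal.primeCompl M) := hnt
      obtain ⟨c, e, n, he, hdep, hbd, hmn, hme⟩ :=
        Groth.Agent.H46.DualPkg.general_package ω hω M P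
      have he' : Module.supportDim (Localization.AtPrime p) (LocalizedModule p.primeCompl M) =
          (e : WithBot ℕ∞) := he
      have hdep' : LocCoh.depth (Localization.AtPrime p) (LocalizedModule p.primeCompl M) = n :=
        hdep
      rw [he', hdep', min_le_iff, Groth.Agent.H12.DualLoc.natCast_le_iff',
        Groth.Agent.H12.DualLoc.natCast_le_iff']
      by_cases hne : n < e
      · left
        have h1 := hcond (c - (n : ℤ)) (c - (e : ℤ)) (by omega) P hmn hme
        rw [he] at h1
        have h2 : ((((k : ℤ) + (c - (n : ℤ)) - (c - (e : ℤ))).toNat : ℕ) : WithBot ℕ∞) ≤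
            (((e : ℕ) : ℕ∞) : WithBot ℕ∞) := h1
        rw [Groth.Agent.H12.DualLoc.natCast_le_iff'] at h2
        omega
      · right
        omega

end Groth.Agent.S18716
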