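import Groth.Statements.S18718
import Groth.Agent.H29.KollarBC2
set_option maxHeartbeats 1600000
set_option linter.style.haveILetI false

set_option autoImplicit false
universe u
open QGor

namespace Groth.Agent.S18718

open TensorProduct

open TensorProduct in
/-- Affine form. Let A → B be a flat homomorphism of Noetherian rings, J an ideal of B such that the
fibre local ring B_q/pB_q has depth ≥ 2 at every prime q ⊇ J (p its contraction), A → A′ a
homomorphism of Noetherian rings with Noetherian pushout B′ = A′ ⊗_A B, and F a finite B-module with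
F_q free for every prime q not containing J. Then depth_J (F^∨∨) ≥ 2 (the double dual is the module
of sections of F off V(J)); the natural map (B′ ⊗_B F)^∨∨ → (B′ ⊗_B F^∨∨)^∨∨ obtained by dualising
twice the base change of F → F^∨∨ is bijective; and if moreover F is flat over A and the fibre
stalks F_q/pF_q have depth ≥ 2 at all primes q ⊇ J, then F and B′ ⊗_B F are reflexive. -/
theorem result (A B : Type u) [CommRing A] [CommRing B] [IsNoetherianRing A] [IsNoetherianRing B] [Algebra A B]
    (A' B' : Type u) [CommRing A'] [CommRing B'] [IsNoetherianRing A'] [IsNoetherianRing B']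
    [Algebra A A'] [Algebra B B'] [Algebra A' B'] [Algebra A B'] [IsScalarTower A B B'] [IsScalarTower A A' B']
    [Algebra.IsPushout A B A' B'] [Module.Flat A B] (J : Ideal B)
    (hZ : ∀ q : PrimeSpectrum B, J ≤ q.asIdeal →
      2 ≤ LocCoh.idealDepth (q.asIdeal.map (algebraMap B (EGA4.FibLocRing A B q.asIdeal))) (EGA4.FibLocRing A B q.asIdeal))
    (F : Type u) [AddCommGroup F] [Module B F] [Module A F] [IsScalarTower A B F] [Module.Finite B F]
    (hFU : ∀ q : PrimeSpectrum B, ¬ J ≤ q.asIdeal → Module.Free (Localization.AtPrime q.asIdeal) (LocalizedModule q.asIdeal.primeCompl F)) :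
    2 ≤ LocCoh.idealDepth J (Module.Dual B (Module.Dual B F)) ∧
    Function.Bijective (((Module.Dual.eval B F).baseChange B').dualMap.dualMap) ∧
    (Module.Flat A F →
      (∀ q : PrimeSpectrum B, J ≤ q.asIdeal →
        2 ≤ LocCoh.idealDepth (q.asIdeal.map (algebraMap B (EGA4.FibLocRing A B q.asIdeal))) (EGA4.FibLocMod A B q.asIdeal F)) →
      Module.IsReflexive B F ∧ Module.IsReflexive B' (B' ⊗[B] F)) := by
  classical
  have hZ1 : ∀ q : PrimeSpectrum B, J ≤ q.asIdeal →
      1 ≤ LocCoh.idealDepth (q.asIdeal.map (algebraMap B (EGA4.FibLocRing A B q.asIdeal)))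
        (EGA4.FibLocRing A B q.asIdeal) := fun q hq => le_trans (by norm_num) (hZ q hq)
  have hU : ∀ q : PrimeSpectrum B, ¬ J ≤ q.asIdeal →
      Module.IsReflexive (Localization.AtPrime q.asIdeal)
        (LocalizedModule q.asIdeal.primeCompl F) := by
    intro q hq
    haveI := hFU q hq
    haveI : Module.Finite (Localization.AtPrime q.asIdeal)
        (LocalizedModule q.asIdeal.primeCompl F) :=
      Module.Finite.of_isLocalizedModule q.asIdeal.primeCompl
        (LocalizedModule.mkLinearMap q.asIdeal.primeCompl F)
    infer_instance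
  have hdB : 2 ≤ LocCoh.idealDepth J B :=
    (Groth.Agent.S18722.result A B J hZ1 B).2 inferInstance hZ
  haveI hflat' : Module.Flat A' B' := Groth.Agent.H29.KollarBC2.flat_of_isPushout A B A' B'
  have hZ' := Groth.Agent.H29.KollarBC2.hZ_baseChange (A := A) (A' := A') (B' := B') J 2 hZ
  have hZ1' := Groth.Agent.H29.KollarBC2.hZ_baseChange (A := A) (A' := A') (B' := B') J 1 hZ1
  have hdB' : 2 ≤ LocCoh.idealDepth (J.map (algebraMap B B')) B' :=
    (Groth.Agent.S18722.result A' B' (J.map (algebraMap B B')) hZ1' B').2 inferInstance hZ'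
  refine ⟨?_, Groth.Agent.H29.KollarBC2.bijective_dualMap_dualMap_eval_baseChange J F hU hdB', ?_⟩
  · by_cases hG : J • (⊤ : Submodule B (Module.Dual B (Module.Dual B F))) = ⊤
    · rw [Groth.Agent.H15.Depth.idealDepth_eq_top_of_smul_top_eq_top hG]
      exact le_top
    · have hI : J • (⊤ : Submodule B B) ≠ ⊤ := by
        intro h1
        apply hG
        have h2 : J = ⊤ := by rwa [smul_eq_mul, Ideal.mul_top] at h1
        rw [h2, Submodule.top_smul]
      have h1 := (Groth.Agent.H15.Depth.le_idealDepth_iff hI 2).mp (by exact_mod_cast hdB)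
      have h2 : Groth.Agent.H15.Depth.HasSeq J (Module.Dual B F →ₗ[B] B) 2 :=
        Groth.Agent.H71.SK.hasSeq_linearMap le_rfl h1
      exact_mod_cast (Groth.Agent.H15.Depth.le_idealDepth_iff hG 2).mpr h2
  · intro hFl hF
    haveI := hFl
    refine ⟨Groth.Agent.H29.KollarBC2.isReflexive_of_flat_fibre_depth A B J hZ1 F hU hF, ?_⟩
    haveI := Groth.Agent.H29.KollarBC2.flat_tensor_of_isPushout A B A' B' F
    refine Groth.Agent.H29.KollarBC2.isReflexive_of_flat_fibre_depth A' B'
      (J.map (algebraMap B B')) hZ1' (B' ⊗[B] F) ?_ ?_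
    · intro q' hq'
      haveI : Module.Flat (Localization.AtPrime q'.asIdeal)
          (LocalizedModule q'.asIdeal.primeCompl (B' ⊗[B] F)) := by
        refine Groth.Agent.H29.KollarBC.flat_localizedModule_baseChange F q'.asIdeal ?_
        haveI := hFU ⟨q'.asIdeal.comap (algebraMap B B'), inferInstance⟩
          (fun h => hq' (Ideal.map_le_iff_le_comap.mpr h))
        infer_instance
      haveI : Module.Finite (Localization.AtPrime q'.asIdeal)
          (LocalizedModule q'.asIdeal.primeCompl (B' ⊗[B] F)) :=
        Module.Finite.of_isLocalizedModule q'.asIdeal.primeCompl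
          (LocalizedModule.mkLinearMap q'.asIdeal.primeCompl (B' ⊗[B] F))
      haveI : Module.Free (Localization.AtPrime q'.asIdeal)
          (LocalizedModule q'.asIdeal.primeCompl (B' ⊗[B] F)) :=
        Module.free_of_flat_of_isLocalRing (R := Localization.AtPrime q'.asIdeal)
          (P := LocalizedModule q'.asIdeal.primeCompl (B' ⊗[B] F))
      infer_instance
    · intro q' hq'
      exact Groth.Agent.H29.KollarBC2.le_depth_fibLocMod_baseChange (A := A) (B := B)
        q'.asIdeal F 2
        (hF ⟨q'.asIdeal.comap (algebraMap B B'), inferInstance⟩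
          (Ideal.map_le_iff_le_comap.mp hq'))

end Groth.Agent.S18718
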