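import Groth.Statements.S18719
import Mathlib
import Groth.Agent.H29.DKS_EQ
import Groth.Agent.H29.DKS_VAN
import Groth.Agent.H84.DKS_T2
import Groth.Agent.H29.DKS_DEV
import Groth.Agent.H84.DKS_T1
import Groth.Agent.Lead.DKS_T0

set_option autoImplicit false
set_option linter.style.haveILetI false
set_option maxHeartbeats 400000
universe u
open CategoryTheory
attribute [local instance] HasDerivedCategory.standard
open QGor

namespace Groth.Agent.S18719

open CategoryTheory.Limits DerivedCategory Pretriangulated in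
/-- transport of the vanishing along an isomorphism of cohomology modules -/
theorem van_C (A : Type u) [CommRing A] (ω C : Dual.D A) (i j : ℤ)
    (e : Dual.HD A C i ≃ₗ[A] Dual.HD A ω i)
    (h : Subsingleton (Dual.inD A (Dual.HD A ω i) ⟶ ω⟦j + i⟧)) :
    Subsingleton (Dual.inD A (Dual.HD A C i) ⟶ ω⟦j + i⟧) := by
  let φ : Dual.inD A (Dual.HD A C i) ≅ Dual.inD A (Dual.HD A ω i) :=
    (DerivedCategory.singleFunctor (ModuleCat.{u} A) 0).mapIso e.toModuleIso
  exact ⟨fun x y => by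
    have := h.elim (φ.inv ≫ x) (φ.inv ≫ y)
    exact (cancel_epi φ.inv).1 this⟩

open CategoryTheory.Limits DerivedCategory Pretriangulated in
theorem key (A : Type u) [CommRing A] [IsNoetherianRing A]
    [IsLocalRing A] (ω : Dual.D A) (hω : Dual.IsDualizing A ω) (hn : Dual.IsNormalized A ω)
    (n : ℕ) (hd : ringKrullDim A = n) (k : ℕ) (hk : 2 ≤ k) (hS : LocCoh.HasSk k A A) :
    ∃ (C : Dual.D A) (t : (Dual.inD A (Dual.HD A ω (-(n : ℤ))))⟦(n : ℤ)⟧ ⟶ ω) (g : ω ⟶ C)
      (h : C ⟶ ((Dual.inD A (Dual.HD A ω (-(n : ℤ))))⟦(n : ℤ)⟧)⟦(1 : ℤ)⟧),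
      Triangle.mk t g h ∈ distTriang (Dual.D A) ∧ C.IsGE (-(n : ℤ) + 1) ∧
      ∀ j : ℤ, j < k → Subsingleton (C ⟶ ω⟦j⟧) := by
  have hS2 : LocCoh.HasSk 2 A A := by
    intro p hp
    refine le_trans (min_le_min_right _ ?_) (hS p)
    exact_mod_cast hk
  have hEq := Groth.Agent.H29.DKS_EQ.isEquidim_of_hasSk_two A ω hω hS2
  obtain ⟨hvan0, hvan⟩ := Groth.Agent.H29.DKS_VAN.van_lower A ω hω hn n hd hEq k (by omega) hS
  obtain ⟨C, t, g, h, hT, hGE, hLE, hiso⟩ := Groth.Agent.Lead.DKS_T0.exists_triangle A ω (n : ℤ) 0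
    (fun i hi => hvan0 i (Or.inl hi)) (fun i hi => hvan0 i (Or.inr hi))
  refine ⟨C, t, g, h, hT, hGE, fun j hj => ?_⟩
  haveI := hGE
  haveI := hLE
  refine Groth.Agent.H29.DKS_DEV.subsingleton_hom_of_cohomology A C ω (-(n : ℤ) + 1) 0 j
    (fun i hi1 hi2 => ?_)
  obtain ⟨e⟩ := hiso i (by omega)
  exact van_C A ω C i j e (hvan i (by omega) j hj)

/-- Affine-local form. Let A be a Noetherian local ring of Krull dimension n with a normalized dualizing
complex ω, and K = H^{-n}(ω) the dualizing module (for A satisfying S₂, ω[−n] is the ordinary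
dualizing complex and K its dualizing sheaf). If A satisfies (S₂), then r ↦ r · id_K is a bijection
A → Hom_A(K, K). If A satisfies (S₃), then Ext¹_A(K, K) = 0 (no nonzero morphisms K → K[1] in D(A)). -/
theorem result (A : Type u) [CommRing A] [IsNoetherianRing A]
    [IsLocalRing A] (ω : Dual.D A) (hω : Dual.IsDualizing A ω) (hn : Dual.IsNormalized A ω)
    (n : ℕ) (hd : ringKrullDim A = n) :
    (LocCoh.HasSk 2 A A →
      Function.Bijective (fun r : A => r • (LinearMap.id : Dual.HD A ω (-(n : ℤ)) →ₗ[A] Dual.HD A ω (-(n : ℤ))))) ∧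
    (LocCoh.HasSk 3 A A →
      Subsingleton (Dual.inD A (Dual.HD A ω (-(n : ℤ))) ⟶ (Dual.inD A (Dual.HD A ω (-(n : ℤ))))⟦(1 : ℤ)⟧)) := by
  constructor
  · intro hS
    obtain ⟨C, t, g, h, hT, hGE, hv⟩ := key A ω hω hn n hd 2 le_rfl hS
    exact Groth.Agent.H84.DKS_T1.toEnd_bijective_of_triangle A ω hω.toEnd_bijective _ (n : ℤ)
      C t g h hT hGE (hv 0 (by norm_num)) (hv 1 (by norm_num))
  · intro hS
    obtain ⟨C, t, g, h, hT, hGE, hv⟩ := key A ω hω hn n hd 3 (by norm_num) hS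
    exact Groth.Agent.H84.DKS_T2.ext_one_subsingleton_of_triangle A ω
      (hω.ext_self_subsingleton 1 one_ne_zero) _ (n : ℤ) C t g h hT hGE (hv 2 (by norm_num))

end Groth.Agent.S18719
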