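import Groth.Statements.S1872
import Groth.Agent.S0563
import Groth.Agent.H72.AB
import Groth.Agent.H72.PdChange
import Groth.Agent.H29.CM
import Groth.Agent.H17.IM.DimLocal
import Groth.Agent.H17.IM.QuotSup
import Groth.Agent.H17.IM.TorVanish
import Groth.Agent.H17.KE.TorKoszul
import Groth.Agent.H63.SmoothRegular2

set_option autoImplicit false
universe u
open CategoryTheory AlgebraicGeometry
attribute [local instance] HasDerivedCategory.standard
open IntMult

namespace Groth.Agent.S1872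

open Groth.Agent.H17.KE Groth.Agent.H17.IM Groth.Agent.H72.PdLocal

/-- First statement; the cycle-level consequence V·W = [V ∩ W] is not stated: when both local rings
O_{V,ξ} and O_{W,ξ} are Cohen–Macaulay, the intersection multiplicity e(X, V·W, Z) is the length
over O_{X,ξ} of the local ring at ξ of the scheme-theoretic intersection V ∩ W. Here X is a
nonsingular variety over an algebraically closed field K (smooth, separated, of finite type,
integral), V and W are closed subvarieties given by quasi-coherent ideal sheaves with integral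
subschemes, of dimensions r and s with dim X = n, intersecting properly, and ξ is the generic point
of an irreducible component Z of V ∩ W; e(X, V·W, Z) is the alternating sum of lengths of Tor over
O_{X,ξ}. -/
theorem result (K : Type u) [Field K] [IsAlgClosed K] (X : Scheme.{u}) (f : X ⟶ Spec (CommRingCat.of K)) [Smooth f] [IsSeparated f] [QuasiCompact f] [IsIntegral X] (IV IW : X.IdealSheafData) [IsIntegral IV.subscheme] [IsIntegral IW.subscheme] (n r s : ℕ) (hn : topologicalKrullDim X = n) (hr : topologicalKrullDim IV.support = r) (hs : topologicalKrullDim IW.support = s) (hprop : IntMult.ProperInt (IV.support : Set X) (IW.support : Set X) n r s) (ξ : X) (hξV : ξ ∈ IV.support) (hξW : ξ ∈ IW.support) (hmax : ∀ ξ' : X, ξ' ∈ IV.support → ξ' ∈ IW.support → ξ' ⤳ ξ → ξ' = ξ) (hV : LocCoh.IsCohenMacaulayLocalRing (↑(X.presheaf.stalk ξ) ⧸ IntMult.stalkIdeal IV ξ)) (hW : LocCoh.IsCohenMacaulayLocalRing (↑(X.presheaf.stalk ξ) ⧸ IntMult.stalkIdeal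 IW ξ)) : (IntMult.mult IV IW ξ : ℤ) = (Module.length (X.presheaf.stalk ξ) (↑(X.presheaf.stalk ξ) ⧸ (IntMult.stalkIdeal IV ξ ⊔ IntMult.stalkIdeal IW ξ))).toNat := by
  classical
  haveI hRLR : IsRegularLocalRing (X.presheaf.stalk ξ) :=
    Groth.Agent.H63.SmoothRegular.isRegularLocalRing_stalk_of_smooth f ξ
  haveI : IsNoetherianRing (X.presheaf.stalk ξ) := inferInstance
  haveI hIVprime : (IntMult.stalkIdeal IV ξ).IsPrime := isPrime_stalkIdeal IV ξ hξV
  haveI hIWprime : (IntMult.stalkIdeal IW ξ).IsPrime := isPrime_stalkIdeal IW ξ hξW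
  haveI : Nontrivial (↑(X.presheaf.stalk ξ) ⧸ IntMult.stalkIdeal IV ξ) :=
    Ideal.Quotient.nontrivial_iff.2 hIVprime.ne_top
  haveI : Nontrivial (↑(X.presheaf.stalk ξ) ⧸ IntMult.stalkIdeal IW ξ) :=
    Ideal.Quotient.nontrivial_iff.2 hIWprime.ne_top
  haveI hlocV : IsLocalRing (↑(X.presheaf.stalk ξ) ⧸ IntMult.stalkIdeal IV ξ) := hV.toIsLocalRing
  haveI hlocW : IsLocalRing (↑(X.presheaf.stalk ξ) ⧸ IntMult.stalkIdeal IW ξ) := hW.toIsLocalRing
  obtain ⟨k, hk⟩ := exists_pow_le_sup IV IW ξ hmax hξV hξW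
  -- dimensions
  have hd : ringKrullDim (X.presheaf.stalk ξ) =
      ((IsLocalRing.maximalIdeal (X.presheaf.stalk ξ)).spanFinrank : WithBot ℕ∞) :=
    hRLR.spanFinrank_maximalIdeal.symm
  have hG := ringKrullDim_stalk_le_add f IV IW n r s hn hr hs hprop ξ hξV hξW
  -- depths
  obtain ⟨r₀, hr₀⟩ := Groth.Agent.H29.CM.exists_nat_depth (A := X.presheaf.stalk ξ)
    (M := X.presheaf.stalk ξ)
  have hr₀d : r₀ ≤ (IsLocalRing.maximalIdeal (X.presheaf.stalk ξ)).spanFinrank := by
    have h := Groth.Agent.H29.CM.depth_le_supportDim (A := X.presheaf.stalk ξ)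
      (M := X.presheaf.stalk ξ)
    rw [Module.supportDim_self_eq_ringKrullDim, hd, hr₀] at h
    exact_mod_cast h
  have hdepV : ((LocCoh.depth (X.presheaf.stalk ξ)
      (↑(X.presheaf.stalk ξ) ⧸ IntMult.stalkIdeal IV ξ) : ℕ∞) : WithBot ℕ∞) =
      ringKrullDim (↑(X.presheaf.stalk ξ) ⧸ IntMult.stalkIdeal IV ξ) := by
    rw [Groth.Agent.H72.PdChange.depth_eq_of_surjective
      (R := X.presheaf.stalk ξ) (S := ↑(X.presheaf.stalk ξ) ⧸ IntMult.stalkIdeal IV ξ)
      Ideal.Quotient.mk_surjective, ← hV.supportDim_eq_depth,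
      Module.supportDim_self_eq_ringKrullDim]
  have hdepW : ((LocCoh.depth (X.presheaf.stalk ξ)
      (↑(X.presheaf.stalk ξ) ⧸ IntMult.stalkIdeal IW ξ) : ℕ∞) : WithBot ℕ∞) =
      ringKrullDim (↑(X.presheaf.stalk ξ) ⧸ IntMult.stalkIdeal IW ξ) := by
    rw [Groth.Agent.H72.PdChange.depth_eq_of_surjective
      (R := X.presheaf.stalk ξ) (S := ↑(X.presheaf.stalk ξ) ⧸ IntMult.stalkIdeal IW ξ)
      Ideal.Quotient.mk_surjective, ← hW.supportDim_eq_depth,
      Module.supportDim_self_eq_ringKrullDim]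
  -- projective dimension of `O/I_W`
  have hpd_d : PdLT (X.presheaf.stalk ξ) (↑(X.presheaf.stalk ξ) ⧸ IntMult.stalkIdeal IW ξ)
      ((IsLocalRing.maximalIdeal (X.presheaf.stalk ξ)).spanFinrank + 1) :=
    Groth.Agent.S0563.result (X.presheaf.stalk ξ) _ hd _
  have hex : ∃ e, PdLT (X.presheaf.stalk ξ) (↑(X.presheaf.stalk ξ) ⧸ IntMult.stalkIdeal IW ξ)
      (e + 1) := ⟨_, hpd_d⟩
  have h1 := Nat.find_spec hex
  have h2 : ¬ PdLT (X.presheaf.stalk ξ) (↑(X.presheaf.stalk ξ) ⧸ IntMult.stalkIdeal IW ξ)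
      (Nat.find hex) := by
    rcases Nat.eq_zero_or_pos (Nat.find hex) with h0 | hpos
    · rw [h0, pdLT_zero_iff]
      exact not_subsingleton _
    · obtain ⟨e', he'⟩ : ∃ e', Nat.find hex = e' + 1 := ⟨Nat.find hex - 1, by omega⟩
      rw [he']
      exact Nat.find_min hex (by omega)
  obtain ⟨s₀, hs₀, hse⟩ := Groth.Agent.H72.AB.core (Nat.find hex) _ h1 h2 r₀ hr₀
  -- `e ≤ depth O/I_V`
  have hdepth : ((Nat.find hex : ℕ) : ℕ∞) ≤ LocCoh.depth (X.presheaf.stalk ξ)
      (↑(X.presheaf.stalk ξ) ⧸ IntMult.stalkIdeal IV ξ) := by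
    obtain ⟨t₀, ht₀⟩ := Groth.Agent.H29.CM.exists_nat_depth (A := X.presheaf.stalk ξ)
      (M := ↑(X.presheaf.stalk ξ) ⧸ IntMult.stalkIdeal IV ξ)
    rw [ht₀] at hdepV ⊢
    rw [hs₀] at hdepW
    rw [← hdepV, ← hdepW, hd] at hG
    have hG' : (IsLocalRing.maximalIdeal (X.presheaf.stalk ξ)).spanFinrank ≤ t₀ + s₀ := by
      exact_mod_cast hG
    have : Nat.find hex ≤ t₀ := by omega
    exact_mod_cast this
  -- torsion
  have htors : ∀ (i : ℕ), 0 < i → ∀ (x : DRing.Tor (X.presheaf.stalk ξ) i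
      (↑(X.presheaf.stalk ξ) ⧸ IntMult.stalkIdeal IW ξ)
      (↑(X.presheaf.stalk ξ) ⧸ IntMult.stalkIdeal IV ξ)) (a : ↑(X.presheaf.stalk ξ)),
      a ∈ IsLocalRing.maximalIdeal (X.presheaf.stalk ξ) → a ^ k • x = 0 := by
    intro i _ x a ha
    have hmem : a ^ k ∈ IntMult.stalkIdeal IV ξ ⊔ IntMult.stalkIdeal IW ξ :=
      hk (Ideal.pow_mem_pow ha k)
    obtain ⟨u, hu, v, hv, huv⟩ := Submodule.mem_sup.1 hmem
    rw [← huv, add_smul]
    have e1 : u • x = 0 := smul_tor_eq_zero_right _ _ u (by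
      intro m
      obtain ⟨m, rfl⟩ := Ideal.Quotient.mk_surjective m
      rw [Algebra.smul_def, Ideal.Quotient.algebraMap_eq, ← map_mul]
      exact Ideal.Quotient.eq_zero_iff_mem.2 (Ideal.mul_mem_right _ _ hu)) i x
    have e2 : v • x = 0 := smul_tor_eq_zero_left _ _ v (by
      intro m
      obtain ⟨m, rfl⟩ := Ideal.Quotient.mk_surjective m
      rw [Algebra.smul_def, Ideal.Quotient.algebraMap_eq, ← map_mul]
      exact Ideal.Quotient.eq_zero_iff_mem.2 (Ideal.mul_mem_right _ _ hv)) i x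
    rw [e1, e2, add_zero]
  have hvan := subsingleton_tor_of_pd_le_depth (A := X.presheaf.stalk ξ)
    (↑(X.presheaf.stalk ξ) ⧸ IntMult.stalkIdeal IW ξ)
    (↑(X.presheaf.stalk ξ) ⧸ IntMult.stalkIdeal IV ξ) (Nat.find hex) h1 hdepth k htors
  unfold IntMult.mult IntMult.chi
  rw [finsum_eq_single _ 0 (fun i hi => by
    haveI := hvan i (Nat.pos_of_ne_zero hi)
    rw [Module.length_eq_zero]
    simp)]
  rw [pow_zero, one_mul, length_tor_zero,
    (quotSmulTopEquiv (IntMult.stalkIdeal IV ξ) (IntMult.stalkIdeal IW ξ)).length_eq]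

end Groth.Agent.S1872
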