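import Groth.Statements.S18721
import Groth.Agent.H71.DK.GlobA

set_option autoImplicit false
universe u
open CategoryTheory
attribute [local instance] HasDerivedCategory.standard
open QGor

namespace Groth.Agent.S18721

/-- Affine form. Let k be a field and A a finitely generated k-algebra, equidimensional of Krull
dimension n, and let ω be a dualizing complex of A normalized at every maximal ideal m (no nonzero
morphisms A/m → ω[i] in D(A) for i ≠ 0 — the canonical dualizing complex of Spec A over k). Put Z_i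
= Supp H^{-i}(ω). Then H^{-i}(ω) = 0 for every i > n, and for every k′ ≥ 1: A satisfies (S_{k′}) if
and only if dim Z_i ≤ i − k′ for all i ≠ n, where for i < k′ this means H^{-i}(ω) = 0. -/
theorem result (k A : Type u) [Field k] [CommRing A]
    [Algebra k A] (hft : Algebra.FiniteType k A) [IsNoetherianRing A]
    (hEq : EGA4.IsEquidim A) (n : ℕ) (hd : ringKrullDim A = n)
    (ω : Dual.D A) (hω : Dual.IsDualizing A ω)
    (hnorm : ∀ (m : Ideal A) (_ : m.IsMaximal) (i : ℤ), i ≠ 0 → Subsingleton (Dual.inD A (A ⧸ m) ⟶ ω⟦i⟧)) :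
    (∀ i : ℕ, n < i → Subsingleton (Dual.HD A ω (-(i : ℤ)))) ∧
    ∀ k' : ℕ, 1 ≤ k' →
      (LocCoh.HasSk k' A A ↔
        ∀ i : ℕ, i ≠ n →
          (i < k' → Subsingleton (Dual.HD A ω (-(i : ℤ)))) ∧
          (k' ≤ i → Module.supportDim A (Dual.HD A ω (-(i : ℤ))) ≤ ((i - k' : ℕ) : WithBot ℕ∞))) := by
  classical
  obtain ⟨δ, h1, hcov⟩ := Groth.Agent.H46.DimFun.exists_dimFun ω hω
  -- `δ` vanishes at the maximal ideals
  have hmax : ∀ m : PrimeSpectrum A, m.asIdeal.IsMaximal → δ m = 0 := by
    intro m hm
    obtain ⟨φ, hφ⟩ := (h1 m (-δ m)).2 rfl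
    by_contra hne
    haveI := hnorm m.asIdeal hm (-δ m) (by omega)
    have h2 := hφ 1 (fun h => m.2.ne_top ((Ideal.eq_top_iff_one _).2 h))
    exact h2 (Subsingleton.elim _ _)
  have hco : ∀ p : PrimeSpectrum A, 0 ≤ δ p ∧ Order.coheight p = ((δ p).toNat : ℕ∞) :=
    fun p => Groth.Agent.H71.DimF.coheight_eq δ hcov hmax p
  -- `δ = n` at the minimal primes
  have hmin : ∀ q : PrimeSpectrum A, q.asIdeal ∈ minimalPrimes A → δ q = n := by
    intro q hq
    have h2 := hEq q.asIdeal hq
    rw [hd, ← Groth.Agent.H71.DimFun.coheight_eq_ringKrullDim_quotient, (hco q).2] at h2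
    have h3 : ((((δ q).toNat : ℕ) : ℕ∞) : WithBot ℕ∞) = (((n : ℕ) : ℕ∞) : WithBot ℕ∞) := h2
    rw [WithBot.coe_inj, Nat.cast_inj] at h3
    have := (hco q).1
    omega
  have hpk := fun p => Groth.Agent.H71.DKG.ring_package ω hω δ h1 hcov hmax n hmin p
  have hfinH : ∀ j : ℤ, Module.Finite A (Dual.HD A ω j) := hω.finite_cohomology
  have hsub_of_empty : ∀ j : ℤ, (∀ p : PrimeSpectrum A, p ∉ Module.support A (Dual.HD A ω j)) →
      Subsingleton (Dual.HD A ω j) := by
    intro j hj
    rw [← Module.support_eq_empty_iff (R := A)]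
    exact Set.eq_empty_iff_forall_notMem.2 hj
  have hmem_of_nontrivial : ∀ j : ℤ, ¬ Subsingleton (Dual.HD A ω j) →
      ∃ p : PrimeSpectrum A, p ∈ Module.support A (Dual.HD A ω j) := by
    intro j hj
    by_contra hcon
    exact hj (hsub_of_empty j (fun p hp => hcon ⟨p, hp⟩))
  constructor
  · intro i hi
    by_contra hns
    obtain ⟨p, hp⟩ := hmem_of_nontrivial _ hns
    obtain ⟨d, -, -, -, -, -, hbd, -, -, -⟩ := hpk p
    have := (hbd _ hp).1
    omega
  · intro k' hk'
    constructor
    · intro hS i hin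
      have key : ∀ p : PrimeSpectrum A, p ∈ Module.support A (Dual.HD A ω (-(i : ℤ))) →
          k' ≤ i ∧ δ p ≤ (i : ℤ) - k' := by
        intro p hp
        obtain ⟨d, hdep, hdim, hde, hδ0, hδn, hbd, -, -, -⟩ := hpk p
        have hb := hbd _ hp
        have hSk := hS p.asIdeal
        rw [hdim, hdep] at hSk
        have hSk' : k' ≤ d ∨ (n - δ p).toNat ≤ d := by
          rcases min_le_iff.1 hSk with h | h
          · exact Or.inl ((Groth.Agent.H12.DualLoc.natCast_le_iff' k' d).1 h)
          · exact Or.inr ((Groth.Agent.H12.DualLoc.natCast_le_iff' _ d).1 h)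
        have hin' : (i : ℤ) ≠ n := fun h => hin (by exact_mod_cast h)
        omega
      constructor
      · intro hik
        by_contra hns
        obtain ⟨p, hp⟩ := hmem_of_nontrivial _ hns
        have := (key p hp).1
        omega
      · intro hki
        unfold Module.supportDim
        unfold Order.krullDim
        apply iSup_le
        intro l
        have hp := l.head.2
        have hk := key l.head.1 hp
        let l' : LTSeries (PrimeSpectrum A) := l.map Subtype.val (fun _ _ h => h)
        have h2 : (l'.length : ℕ∞) ≤ Order.coheight l'.head := Order.length_le_coheight_head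
        have h3 : l'.head = l.head.1 := by simp [l']
        have h4 : l'.length = l.length := by simp [l']
        rw [h3, (hco l.head.1).2, h4] at h2
        have h5 : l.length ≤ (δ l.head.1).toNat := by exact_mod_cast h2
        have h6 : l.length ≤ i - k' := by omega
        exact_mod_cast h6
    · intro hR P hP
      obtain ⟨d, hdep, hdim, hde, hδ0, hδn, hbd, hm1, hm2, hquot⟩ := hpk ⟨P, hP⟩
      rw [hdim, hdep]
      by_cases hle : (n - δ ⟨P, hP⟩).toNat ≤ d
      · exact le_trans (min_le_right _ _)
          ((Groth.Agent.H12.DualLoc.natCast_le_iff' _ d).2 hle)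
      · rw [not_le] at hle
        refine le_trans (min_le_left _ _) ((Groth.Agent.H12.DualLoc.natCast_le_iff' k' d).2 ?_)
        obtain ⟨i, hi⟩ : ∃ i : ℕ, (i : ℤ) = δ ⟨P, hP⟩ + d := ⟨(δ ⟨P, hP⟩ + d).toNat, by omega⟩
        have hin : i ≠ n := by
          intro h
          omega
        have hmem : (⟨P, hP⟩ : PrimeSpectrum A) ∈ Module.support A (Dual.HD A ω (-(i : ℤ))) := by
          have h : -(i : ℤ) = -δ ⟨P, hP⟩ - d := by omega
          rw [h]
          exact hm1
        obtain ⟨hR1, hR2⟩ := hR i hin
        have hki : k' ≤ i := by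
          by_contra hlt
          rw [not_le] at hlt
          haveI := hR1 hlt
          rw [Module.support_eq_empty] at hmem
          exact hmem
        have hdimle := hR2 hki
        haveI := hfinH (-(i : ℤ))
        have h7 := Groth.Agent.H12.DualLoc.ringKrullDim_quotient_le_supportDim_of_mem_support
          (Dual.HD A ω (-(i : ℤ))) ⟨P, hP⟩ hmem
        rw [hquot] at h7
        have h8 := le_trans h7 hdimle
        have h9 : (δ ⟨P, hP⟩).toNat ≤ i - k' :=
          (Groth.Agent.H12.DualLoc.natCast_le_iff' _ _).1 h8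
        omega

end Groth.Agent.S18721
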