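import Groth.Statements.S18723
import Mathlib
import Groth.Agent.H46.DualOrd
import Groth.Agent.H34.ReflDepth2
import Groth.Agent.H34.S2Refl
import Groth.Agent.H34.SkHom
import Groth.Agent.H71.SkReflexive
import Groth.Agent.S18699
import Groth.Agent.H17.ReflFree

set_option autoImplicit false
set_option linter.style.haveILetI false
set_option maxHeartbeats 400000
universe u
open CategoryTheory
attribute [local instance] HasDerivedCategory.standard
open QGor

namespace Groth.Agent.S18723

section aux

variable (A : Type u) [CommRing A] [IsNoetherianRing A]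

theorem one_le_idealDepth_self (hA : LocCoh.HasSk 1 A A) (I : Ideal A) (hI : 1 ≤ I.height) :
    (1 : ℕ∞) ≤ LocCoh.idealDepth I A := by
  have := Groth.Agent.S18699.result 1 A A I hA (fun p hp _ => by
    have := p.isPrime
    rw [Module.supportDim_eq_of_equiv (Groth.Agent.H34.S2Refl.selfEquiv A p.asIdeal),
      Module.supportDim_self_eq_ringKrullDim,
      IsLocalization.AtPrime.ringKrullDim_eq_height p.asIdeal]
    have h2 : (1 : ℕ∞) ≤ p.asIdeal.height := hI.trans (Ideal.height_mono hp)
    rw [← WithBot.coe_natCast]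
    exact WithBot.coe_le_coe.mpr (by exact_mod_cast h2))
  exact_mod_cast this

omit [IsNoetherianRing A] in
/-- `Hom(X, A)` has `J`-depth at least two as soon as `A` has. -/
theorem two_le_idealDepth_hom (I : Ideal A) (h : (2 : ℕ∞) ≤ LocCoh.idealDepth I A)
    (X : Type u) [AddCommGroup X] [Module A X] :
    (2 : ℕ∞) ≤ LocCoh.idealDepth I (X →ₗ[A] A) := by
  by_cases hG : I • (⊤ : Submodule A (X →ₗ[A] A)) = ⊤
  · rw [Groth.Agent.H15.Depth.idealDepth_eq_top_of_smul_top_eq_top hG]; exact le_top
  · have hI : I • (⊤ : Submodule A A) ≠ ⊤ := by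
      intro h1
      apply hG
      have h2 : I = ⊤ := by rwa [smul_eq_mul, Ideal.mul_top] at h1
      rw [h2, Submodule.top_smul]
    have h1 := (Groth.Agent.H15.Depth.le_idealDepth_iff hI 2).mp (by exact_mod_cast h)
    have h2 : Groth.Agent.H15.Depth.HasSeq I (X →ₗ[A] A) 2 :=
      Groth.Agent.H71.SK.hasSeq_linearMap le_rfl h1
    exact_mod_cast (Groth.Agent.H15.Depth.le_idealDepth_iff hG 2).mpr h2

end aux

/-- Affine-local form, with (2) for tensor powers m ≥ 0. Let A be a Noetherian local ring of Krull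
dimension n with a dualizing complex ω, L = H⁰(ω), and J an ideal with ht J ≥ 2 (the closed set V(J)
has codimension ≥ 2) such that off V(J) the complex ω is the invertible module L in degree 0: for
every prime p not containing J, H^i(ω)_p = 0 for i ≠ 0 and L_p is free of rank 1. (1) If A satisfies
(S₁), then ω is ordinary (A is equidimensional and ω[n] is normalized) and L is reflexive and
satisfies (S₂). (2) If A satisfies (S₂), then for every m ≥ 0 the double dual L^[m] of the m-th
tensor power of L satisfies (S₂) and depth_J L^[m] ≥ 2 (it is the module of sections of L^⊗m off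
V(J)). -/
theorem result (A : Type u) [CommRing A] [IsNoetherianRing A]
    [IsLocalRing A] (ω : Dual.D A) (hω : Dual.IsDualizing A ω) (n : ℕ) (hd : ringKrullDim A = n)
    (J : Ideal A) (hJ : 2 ≤ J.height)
    (hoff : ∀ p : PrimeSpectrum A, ¬ J ≤ p.asIdeal →
      (∀ i : ℤ, i ≠ 0 → p ∉ Module.support A (Dual.HD A ω i)) ∧
      Module.Free (Localization.AtPrime p.asIdeal) (LocalizedModule p.asIdeal.primeCompl (Dual.HD A ω 0)) ∧
      Module.finrank (Localization.AtPrime p.asIdeal) (LocalizedModule p.asIdeal.primeCompl (Dual.HD A ω 0)) = 1) :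
    (LocCoh.HasSk 1 A A →
      (EGA4.IsEquidim A ∧ Dual.IsNormalized A (ω⟦(n : ℤ)⟧)) ∧
      Module.IsReflexive A (Dual.HD A ω 0) ∧ LocCoh.HasSk 2 A (Dual.HD A ω 0)) ∧
    (LocCoh.HasSk 2 A A → ∀ m : ℕ,
      LocCoh.HasSk 2 A (Module.Dual A (Module.Dual A (TensorPower A m (Dual.HD A ω 0)))) ∧
      2 ≤ LocCoh.idealDepth J (Module.Dual A (Module.Dual A (TensorPower A m (Dual.HD A ω 0))))) := by
  haveI : Module.Finite A (Dual.HD A ω 0) := hω.finite_cohomology 0
  have hJ1 : (1 : ℕ∞) ≤ J.height := le_trans (by norm_num) hJ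
  obtain ⟨⟨hEq, hNorm, hS2⟩, hdep⟩ :=
    Groth.Agent.H46.DualOrd.ordinary ω hω n hd J hJ1 (fun p hp => (hoff p hp).1)
  refine ⟨fun hS1 => ⟨⟨hEq, hNorm⟩, ?_, hS2⟩, fun hA m => ?_⟩
  · refine Groth.Agent.H34.ReflDepth2.main J (one_le_idealDepth_self A hS1 J hJ1)
      (Dual.HD A ω 0) (fun p hp => ?_) (hdep hJ)
    haveI := (hoff p hp).2.1
    haveI : Module.Finite (Localization.AtPrime p.asIdeal)
        (LocalizedModule p.asIdeal.primeCompl (Dual.HD A ω 0)) :=
      Module.Finite.of_isLocalizedModule p.asIdeal.primeCompl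
        (LocalizedModule.mkLinearMap p.asIdeal.primeCompl (Dual.HD A ω 0))
    exact Module.IsReflexive.of_finite_of_free _ _
  · haveI : Module.Finite A (TensorPower A m (Dual.HD A ω 0)) := inferInstance
    haveI : Module.Finite A (Module.Dual A (TensorPower A m (Dual.HD A ω 0))) :=
      Groth.Agent.H17.ReflFree.finite_dual A _
    refine ⟨?_, ?_⟩
    · exact (Groth.Agent.H34.SkHom.main A
        (Module.Dual A (TensorPower A m (Dual.HD A ω 0))) A).2 hA
    · exact two_le_idealDepth_hom A J
        (Groth.Agent.H34.S2Refl.two_le_idealDepth_self A hA J hJ) _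

end Groth.Agent.S18723
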