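import Groth.Statements.S18726
import Groth.Agent.S18708
import Groth.Agent.H58.LCDepth
import Groth.Agent.H58.LCTors

set_option maxHeartbeats 400000
set_option linter.style.haveILetI false

set_option autoImplicit false
universe u
open QGor

namespace Groth.Agent.S18726

open Groth.Agent.H29.KollarFlat Function IsLocalRing

section LCaux

variable {B : Type u} [CommRing B] (J : Ideal B)

/-- right end of the long exact sequence: `H^i(N) = 0` and `H^{i+1}(M) = 0` give `H^i(P) = 0`. -/
theorem subsingleton_H_right {M N P : Type u} [AddCommGroup M] [Module B M] [AddCommGroup N]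
    [Module B N] [AddCommGroup P] [Module B P] (f : M →ₗ[B] N) (g : N →ₗ[B] P)
    (hf : Injective f) (hg : Surjective g) (hfg : Function.Exact f g) (i : ℕ)
    (hN : Subsingleton (LocCoh.H J i N)) (hM : Subsingleton (LocCoh.H J (i + 1) M)) :
    Subsingleton (LocCoh.H J i P) := by
  obtain ⟨δ, -, h2, -, -⟩ := Groth.Agent.H58.LC.les_mod J f g hf hg hfg i
  have key : ∀ y : LocCoh.H J i P, y = 0 := by
    intro y
    have hδ : δ y = 0 := Subsingleton.elim _ _
    obtain ⟨x, rfl⟩ := (h2 y).mp hδ
    rw [Subsingleton.elim x 0, map_zero]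
  exact ⟨fun a b => by rw [key a, key b]⟩

/-- exact `X → Y → Z → 0` with `ker (X → Y)` power torsion: `H^{i+1}(X) = 0` and `H^i(Y) = 0`
give `H^i(Z) = 0`. -/
theorem subsingleton_H_of_exact_torsion [IsNoetherianRing B] {X Y Z : Type u} [AddCommGroup X]
    [Module B X] [AddCommGroup Y] [Module B Y] [AddCommGroup Z] [Module B Z] (φ : X →ₗ[B] Y)
    (ψ : Y →ₗ[B] Z) (hex : Function.Exact φ ψ) (hψ : Surjective ψ)
    (htors : LocCoh.IsPowerTorsion J (LinearMap.ker φ)) (i : ℕ)
    (hX : Subsingleton (LocCoh.H J (i + 1) X)) (hY : Subsingleton (LocCoh.H J i Y)) :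
    Subsingleton (LocCoh.H J i Z) := by
  have hex1 : Function.Exact (LinearMap.ker φ).subtype φ.rangeRestrict := by
    intro x
    constructor
    · intro h
      have h0 : φ x = 0 := congrArg Subtype.val h
      exact ⟨⟨x, h0⟩, rfl⟩
    · rintro ⟨⟨y, hy⟩, rfl⟩
      exact Subtype.ext hy
  have hex2 : Function.Exact (LinearMap.range φ).subtype ψ := by
    intro y
    rw [hex y]
    constructor
    · rintro ⟨x, rfl⟩
      exact ⟨⟨φ x, x, rfl⟩, rfl⟩
    · rintro ⟨⟨_, x, rfl⟩, rfl⟩
      exact ⟨x, rfl⟩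
  have h1 : Subsingleton (LocCoh.H J (i + 1) (LinearMap.range φ)) :=
    subsingleton_H_right J (LinearMap.ker φ).subtype φ.rangeRestrict
      (Submodule.injective_subtype _) φ.surjective_rangeRestrict hex1 (i + 1) hX
      (Groth.Agent.H58.LC.subsingleton_H_of_isPowerTorsion' J _ htors (i + 1 + 1) (by omega))
  exact subsingleton_H_right J (LinearMap.range φ).subtype ψ (Submodule.injective_subtype _) hψ
    hex2 i hY h1

/-- vanishing of local cohomology below the depth, without the hypothesis `JX ≠ X`. -/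
theorem subsingleton_H_of_lt_idealDepth' {X : Type u} [AddCommGroup X] [Module B X]
    [Module.Finite B X] (d : ℕ) (hd : (d : ℕ∞) ≤ LocCoh.idealDepth J X) (i : ℕ) (hi : i < d) :
    Subsingleton (LocCoh.H J i X) := by
  by_cases hJX : J • (⊤ : Submodule B X) = ⊤
  · obtain ⟨r, hr, hr0⟩ := Submodule.exists_sub_one_mem_and_smul_eq_zero_of_fg_of_le_smul J
      (⊤ : Submodule B X) Module.Finite.fg_top (by rw [hJX])
    have h1r : (1 - r) ∈ J := by
      have := J.neg_mem hr
      rwa [neg_sub] at this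
    have hid : (1 - r) • (LinearMap.id : X →ₗ[B] X) = LinearMap.id := by
      refine LinearMap.ext fun x => ?_
      rw [LinearMap.smul_apply, LinearMap.id_apply, sub_smul, one_smul,
        hr0 x Submodule.mem_top, sub_zero]
    have key : ∀ y : LocCoh.H J i X, y = 0 := by
      intro y
      have hy : (1 - r) • y = y := by
        have h1 : Groth.Agent.H58.LC.Hmap J i ((1 - r) • (LinearMap.id : X →ₗ[B] X)) y =
            (1 - r) • y := by
          rw [Groth.Agent.H58.LC.Hmap_smul, LinearMap.smul_apply, Groth.Agent.H58.LC.Hmap_id,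
            LinearMap.id_apply]
        rw [hid, Groth.Agent.H58.LC.Hmap_id, LinearMap.id_apply] at h1
        exact h1.symm
      have hpow : ∀ k : ℕ, (1 - r) ^ k • y = y := by
        intro k
        induction k with
        | zero => rw [pow_zero, one_smul]
        | succ k ih => rw [pow_succ, mul_smul, hy, ih]
      obtain ⟨n, hn⟩ := Groth.Agent.H58.LC.isPowerTorsion_H J (M := X) i y
      rw [← hpow n]
      exact hn _ (Ideal.pow_mem_pow h1r n)
    exact ⟨fun a b => by rw [key a, key b]⟩
  · exact Groth.Agent.H58.LC.subsingleton_H_of_lt_idealDepth J X d hd hJX i hi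

/-- `H^0_J(X) = 0` gives `depth_J X ≥ 1`. -/
theorem one_le_idealDepth_of_subsingleton_H0 [IsNoetherianRing B] {X : Type u} [AddCommGroup X]
    [Module B X] [Module.Finite B X] (h : Subsingleton (LocCoh.H J 0 X)) :
    1 ≤ LocCoh.idealDepth J X := by
  by_cases hJX : J • (⊤ : Submodule B X) = ⊤
  · unfold LocCoh.idealDepth
    rw [if_pos hJX]
    exact le_top
  · rw [Order.one_le_iff_ne_zero]
    intro h0
    have h0' : LocCoh.idealDepth J X = ((0 : ℕ) : ℕ∞) := by rw [h0]; rfl
    obtain ⟨-, hnt⟩ := (Groth.Agent.H58.LC.idealDepth_eq_iff J X hJX 0).mp h0'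
    exact not_subsingleton _ h

/-- an element killed locally at every prime not containing `J` is `J`-power torsion. -/
theorem powerTorsion_of_locally_killed [IsNoetherianRing B] {X : Type u} [AddCommGroup X]
    [Module B X] (t : X)
    (ht : ∀ q : PrimeSpectrum B, ¬ J ≤ q.asIdeal → ∃ s, s ∉ q.asIdeal ∧ s • t = 0) :
    ∃ n : ℕ, ∀ a ∈ J ^ n, a • t = 0 := by
  have h𝔞 : ∀ b : B, b ∈ LinearMap.ker (LinearMap.toSpanSingleton B X t) ↔ b • t = 0 :=
    fun b => by
      rw [LinearMap.mem_ker, LinearMap.toSpanSingleton_apply]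
  have hrad : J ≤ Ideal.radical (LinearMap.ker (LinearMap.toSpanSingleton B X t) : Ideal B) := by
    rw [Ideal.radical_eq_sInf]
    refine le_sInf ?_
    rintro q ⟨h𝔞q, hq⟩
    by_contra hJq
    obtain ⟨s, hs, hst⟩ := ht ⟨q, hq⟩ hJq
    exact hs (h𝔞q ((h𝔞 s).mpr hst))
  obtain ⟨n, hn⟩ := Ideal.exists_pow_le_of_le_radical_of_fg hrad (IsNoetherian.noetherian J)
  exact ⟨n, fun a ha => (h𝔞 a).mp (hn ha)⟩

end LCaux

/-- the kernel of the closed-fibre map of `ι` is `J`-power torsion when the cokernel of `ι` is flat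
off `V(J)`. -/
theorem ker_fibMap_isPowerTorsion {A B : Type u} [CommRing A] [CommRing B] [IsNoetherianRing B]
    [IsLocalRing A] [Algebra A B] (J : Ideal B)
    {X Y Z : Type u} [AddCommGroup X] [Module B X] [Module A X] [IsScalarTower A B X]
    [AddCommGroup Y] [Module B Y] [Module A Y] [IsScalarTower A B Y]
    [AddCommGroup Z] [Module B Z] [Module A Z] [IsScalarTower A B Z]
    (ι : X →ₗ[B] Y) (π : Y →ₗ[B] Z) (hι : Injective ι) (hex : Function.Exact ι π)
    (hπ : Surjective π)
    (hloc : ∀ q : PrimeSpectrum B, ¬ J ≤ q.asIdeal →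
      Module.Flat A (LocalizedModule q.asIdeal.primeCompl Z)) :
    LocCoh.IsPowerTorsion J (LinearMap.ker (fibMap A ι)) := by
  intro y
  obtain ⟨t, ht⟩ := y
  have ht' : fibMap A ι t = 0 := ht
  obtain ⟨x, rfl⟩ := Submodule.Quotient.mk_surjective _ t
  have ht'' : ι x ∈ (EGA4.mB A B • ⊤ : Submodule B Y) := by
    rw [fibMap_mk, Submodule.Quotient.mk_eq_zero] at ht'
    exact ht'
  obtain ⟨n, hn⟩ := powerTorsion_of_locally_killed J
    (Submodule.Quotient.mk x : EGA4.FibMod A B X) (by
      intro q hq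
      haveI := hloc q hq
      obtain ⟨s, hs, hsx⟩ := exists_smul_mem_of_flat_localized ι π hι hex hπ
        q.asIdeal.primeCompl (maximalIdeal A) x ht''
      refine ⟨s, hs, ?_⟩
      rw [← Submodule.Quotient.mk_smul, Submodule.Quotient.mk_eq_zero]
      exact hsx)
  exact ⟨n, fun a ha => Subtype.ext (hn a ha)⟩

/-- Affine-local form at a point. Let A → B be a local homomorphism of Noetherian local rings, m the
maximal ideal of A, J an ideal of B, and 0 → F → E⁰ → E¹ → G → 0 an exact sequence of finite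
B-modules with E⁰, E¹ flat over A, G_q flat over A for every prime q not containing J, depth_J
(E⁰/mE⁰) ≥ 2 and depth_J (E¹/mE¹) ≥ 1. Assume H²_J(F/mF) = 0; since under these hypotheses the
module of sections of F/mF off V(J) is finite and its J-depth is ≥ 3 exactly when H²_J(F/mF)
vanishes, this is the condition that that module of sections has J-depth ≥ 3. Then F and G are flat
over A, and depth_J (F/mF) ≥ 2 (the restriction map of the closed fibre of F off V(J) is bijective). -/
theorem result (A B : Type u) [CommRing A] [CommRing B]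
    [IsNoetherianRing A] [IsNoetherianRing B] [IsLocalRing A] [IsLocalRing B] [Algebra A B]
    [IsLocalHom (algebraMap A B)] (J : Ideal B)
    (F E0 E1 G : Type u) [AddCommGroup F] [Module B F] [Module A F] [IsScalarTower A B F] [Module.Finite B F]
    [AddCommGroup E0] [Module B E0] [Module A E0] [IsScalarTower A B E0] [Module.Finite B E0] [Module.Flat A E0]
    [AddCommGroup E1] [Module B E1] [Module A E1] [IsScalarTower A B E1] [Module.Finite B E1] [Module.Flat A E1]
    [AddCommGroup G] [Module B G] [Module A G] [IsScalarTower A B G] [Module.Finite B G]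
    (f : F →ₗ[B] E0) (u : E0 →ₗ[B] E1) (v : E1 →ₗ[B] G)
    (hf : Function.Injective f) (hfu : Function.Exact f u) (huv : Function.Exact u v) (hv : Function.Surjective v)
    (hGU : ∀ q : PrimeSpectrum B, ¬ J ≤ q.asIdeal → FlatCA.FlatAt A q.asIdeal G)
    (h0 : 2 ≤ LocCoh.idealDepth J (EGA4.FibMod A B E0)) (h1 : 1 ≤ LocCoh.idealDepth J (EGA4.FibMod A B E1))
    (hH2 : Subsingleton (LocCoh.H J 2 (EGA4.FibMod A B F))) :
    Module.Flat A F ∧ Module.Flat A G ∧ 2 ≤ LocCoh.idealDepth J (EGA4.FibMod A B F) := by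
  have hι : Injective (LinearMap.ker v).subtype := (LinearMap.ker v).injective_subtype
  have hβ : Function.Exact (LinearMap.ker v).subtype v := LinearMap.exact_subtype_ker_map v
  obtain ⟨u', hu'E⟩ : ∃ u' : E0 →ₗ[B] LinearMap.ker v, ∀ e, (u' e : E1) = u e :=
    ⟨u.codRestrict (LinearMap.ker v) (fun e => huv.apply_apply_eq_zero e), fun e => rfl⟩
  have hu' : Surjective u' := by
    rintro ⟨y, hy⟩
    obtain ⟨e, he⟩ := (huv y).mp hy
    exact ⟨e, Subtype.ext ((hu'E e).trans he)⟩
  have hα : Function.Exact f u' := by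
    intro e
    rw [← hfu e]
    constructor
    · intro h
      rw [← hu'E e, h]
      rfl
    · intro h
      exact Subtype.ext ((hu'E e).trans h)
  have hQloc : ∀ q : PrimeSpectrum B, ¬ J ≤ q.asIdeal →
      Module.Flat A (LocalizedModule q.asIdeal.primeCompl (LinearMap.ker v)) := by
    intro q hq
    haveI : Module.Flat A (LocalizedModule q.asIdeal.primeCompl G) := hGU q hq
    exact flat_localized_ker (LinearMap.ker v).subtype v hι hβ hv q.asIdeal.primeCompl
  have ht1 : LocCoh.IsPowerTorsion J (LinearMap.ker (fibMap A f)) :=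
    ker_fibMap_isPowerTorsion J f u' hf hα hu' hQloc
  have ht2 : LocCoh.IsPowerTorsion J (LinearMap.ker (fibMap A (LinearMap.ker v).subtype)) :=
    ker_fibMap_isPowerTorsion J (LinearMap.ker v).subtype v hι hβ hv (fun q hq => hGU q hq)
  have hE0 : Subsingleton (LocCoh.H J 1 (EGA4.FibMod A B E0)) :=
    subsingleton_H_of_lt_idealDepth' J 2 (by exact_mod_cast h0) 1 (by norm_num)
  have hE1 : Subsingleton (LocCoh.H J 0 (EGA4.FibMod A B E1)) :=
    subsingleton_H_of_lt_idealDepth' J 1 (by exact_mod_cast h1) 0 (by norm_num)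
  have hQ : Subsingleton (LocCoh.H J 1 (EGA4.FibMod A B (LinearMap.ker v))) :=
    subsingleton_H_of_exact_torsion J (fibMap A f) (fibMap A u') (fibMap_exact A f u' hα hu')
      (fibMap_surjective A u' hu') ht1 1 hH2 hE0
  have hG0 : Subsingleton (LocCoh.H J 0 (EGA4.FibMod A B G)) :=
    subsingleton_H_of_exact_torsion J (fibMap A (LinearMap.ker v).subtype) (fibMap A v)
      (fibMap_exact A _ v hβ hv) (fibMap_surjective A v hv) ht2 0 hQ hE1
  have hG1 : 1 ≤ LocCoh.idealDepth J (EGA4.FibMod A B G) :=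
    one_le_idealDepth_of_subsingleton_H0 J hG0
  have hGflat : Module.Flat A G := flat_of_flatAt_off J hGU hG1
  obtain ⟨⟨-, h2⟩, -, h3⟩ :=
    Groth.Agent.S18708.result A B J F E0 E1 G f u v hf hfu huv hv hGU h0 h1
  exact ⟨h3 hGflat, hGflat, h2 hGflat⟩

end Groth.Agent.S18726
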