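import Groth.Statements.S6452
import Groth.Agent.S5758
import Groth.Agent.H17.IM.DimLocal
import Groth.Agent.H17.IM.ChiCartier
import Groth.Agent.H17.IM.QuotSup
import Groth.Agent.H17.IM.RegKoszul
import Groth.Agent.H63.SmoothRegular2

set_option autoImplicit false
universe u
open CategoryTheory AlgebraicGeometry
attribute [local instance] HasDerivedCategory.standard
open IntMult

namespace Groth.Agent.S6452

open Groth.Agent.H17.KE Groth.Agent.H17.IM RingTheory.Sequence

/-- Suppose the ideal of V in O_{X,ξ} is generated by a regular sequence g₁, …, g_c and the local ring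
O_{W,ξ} is Cohen–Macaulay. Then e(X, V·W, Z) = length_{O_{X,ξ}}(O_{W,ξ}/(g₁, …, g_c)O_{W,ξ}), i.e.
the length of O_{X,ξ}/(I_{W,ξ} + I_{V,ξ}). Here X is a nonsingular variety over an algebraically
closed field K (smooth, separated, quasi-compact, integral), V and W are closed subvarieties given
by quasi-coherent ideal sheaves with integral subschemes, of dimensions r and s with dim X = n,
intersecting properly, and ξ is the generic point of an irreducible component Z of V ∩ W (a point of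
V ∩ W maximal under specialization); e(X, V·W, Z) = IntMult.mult is the alternating sum of lengths
of Tor over O_{X,ξ}, and O_{W,ξ} = O_{X,ξ}/I_{W,ξ}. -/
theorem result (K : Type u) [Field K] [IsAlgClosed K] (X : Scheme.{u}) (f : X ⟶ Spec (CommRingCat.of K)) [Smooth f] [IsSeparated f] [QuasiCompact f] [IsIntegral X] (IV IW : X.IdealSheafData) [IsIntegral IV.subscheme] [IsIntegral IW.subscheme] (n r s : ℕ) (hn : topologicalKrullDim X = n) (hr : topologicalKrullDim IV.support = r) (hs : topologicalKrullDim IW.support = s) (hprop : IntMult.ProperInt (IV.support : Set X) (IW.support : Set X) n r s) (ξ : X) (hξV : ξ ∈ IV.support) (hξW : ξ ∈ IW.support) (hmax : ∀ ξ' : X, ξ' ∈ IV.support → ξ' ∈ IW.support → ξ' ⤳ ξ → ξ' = ξ) (c : ℕ) (g : Fin c → ↑(X.presheaf.stalk ξ)) (hg : IntMult.stalkIdeal IV ξ = Ideal.span (Set.range g)) (hreg : RingTheory.Sequence.IsRegular (↑(X.presheaf.stalk ξ)) (List.ofFn g)) (hW : LocCoh.IsCohenMacaulayLocalRing (↑(X.presheaf.stalk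 ξ) ⧸ IntMult.stalkIdeal IW ξ)) : (IntMult.mult IV IW ξ : ℤ) = (Module.length (X.presheaf.stalk ξ) (↑(X.presheaf.stalk ξ) ⧸ (IntMult.stalkIdeal IW ξ ⊔ IntMult.stalkIdeal IV ξ))).toNat := by
  haveI hRLR : IsRegularLocalRing (X.presheaf.stalk ξ) :=
    Groth.Agent.H63.SmoothRegular.isRegularLocalRing_stalk_of_smooth f ξ
  haveI : IsNoetherianRing (X.presheaf.stalk ξ) := inferInstance
  haveI hIVprime : (IntMult.stalkIdeal IV ξ).IsPrime := isPrime_stalkIdeal IV ξ hξV
  haveI hIWprime : (IntMult.stalkIdeal IW ξ).IsPrime := isPrime_stalkIdeal IW ξ hξW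
  obtain ⟨k, hk⟩ := exists_pow_le_sup IV IW ξ hmax hξV hξW
  haveI : IsLocalRing (↑(X.presheaf.stalk ξ) ⧸ IntMult.stalkIdeal IW ξ) := hW.toIsLocalRing
  have hJm : IntMult.stalkIdeal IW ξ ⊔ IntMult.stalkIdeal IV ξ ≤
      IsLocalRing.maximalIdeal (X.presheaf.stalk ξ) :=
    sup_le (IsLocalRing.le_maximalIdeal hIWprime.ne_top)
      (IsLocalRing.le_maximalIdeal hIVprime.ne_top)
  haveI hnt : Nontrivial (↑(X.presheaf.stalk ξ) ⧸
      (IntMult.stalkIdeal IW ξ ⊔ IntMult.stalkIdeal IV ξ)) :=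
    Ideal.Quotient.nontrivial_iff.2 (fun h => (IsLocalRing.maximalIdeal.isMaximal _).ne_top
      (top_le_iff.1 (h ▸ hJm)))
  have hdim0 : ringKrullDim (↑(X.presheaf.stalk ξ) ⧸
      (IntMult.stalkIdeal IW ξ ⊔ IntMult.stalkIdeal IV ξ)) = 0 := by
    rw [← ringKrullDimZero_iff_ringKrullDim_eq_zero,
      Ideal.krullDimLE_zero_quotient_iff_forall_minimalPrimes_isMaximal]
    intro Q hQ
    have hQprime : Q.IsPrime := hQ.1.1
    have hmQ : IsLocalRing.maximalIdeal (X.presheaf.stalk ξ) ≤ Q :=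
      hQprime.le_of_pow_le ((hk.trans (by rw [sup_comm])).trans hQ.1.2)
    rw [← (IsLocalRing.maximalIdeal.isMaximal _).eq_of_le hQprime.ne_top hmQ]
    exact IsLocalRing.maximalIdeal.isMaximal _
  -- the images of the `g i`
  have hspan : Ideal.span (Set.range (fun i => Ideal.Quotient.mk (IntMult.stalkIdeal IW ξ) (g i))) =
      (IntMult.stalkIdeal IV ξ).map (Ideal.Quotient.mk (IntMult.stalkIdeal IW ξ)) := by
    rw [hg, Ideal.map_span, ← Set.range_comp]
    rfl
  have hdim0' : ringKrullDim ((↑(X.presheaf.stalk ξ) ⧸ IntMult.stalkIdeal IW ξ) ⧸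
      Ideal.span (Set.range (fun i => Ideal.Quotient.mk (IntMult.stalkIdeal IW ξ) (g i)))) = 0 := by
    rw [hspan, ringKrullDim_eq_of_ringEquiv (DoubleQuot.quotQuotEquivQuotSup
      (IntMult.stalkIdeal IW ξ) (IntMult.stalkIdeal IV ξ))]
    exact hdim0
  have hmem : ∀ i, Ideal.Quotient.mk (IntMult.stalkIdeal IW ξ) (g i) ∈
      IsLocalRing.maximalIdeal (↑(X.presheaf.stalk ξ) ⧸ IntMult.stalkIdeal IW ξ) := by
    intro i
    have hne : Ideal.span (Set.range
        (fun i => Ideal.Quotient.mk (IntMult.stalkIdeal IW ξ) (g i))) ≠ ⊤ := by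
      intro htop
      haveI : Subsingleton ((↑(X.presheaf.stalk ξ) ⧸ IntMult.stalkIdeal IW ξ) ⧸
          Ideal.span (Set.range (fun i => Ideal.Quotient.mk (IntMult.stalkIdeal IW ξ) (g i)))) :=
        Ideal.Quotient.subsingleton_iff.2 htop
      rw [ringKrullDim_eq_bot_of_subsingleton] at hdim0'
      exact absurd hdim0' (by simp)
    exact IsLocalRing.le_maximalIdeal hne (Ideal.subset_span ⟨i, rfl⟩)
  have hcD := natCast_le_ringKrullDim_quotient f IV IW n r s hn hr hs hprop ξ hξV hξW c g hg hreg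
  have hDc : ringKrullDim (↑(X.presheaf.stalk ξ) ⧸ IntMult.stalkIdeal IW ξ) ≤ (c : WithBot ℕ∞) := by
    have h := ringKrullDim_le_ringKrullDim_quotient_add_encard
      (R := ↑(X.presheaf.stalk ξ) ⧸ IntMult.stalkIdeal IW ξ)
      (Set.range (fun i => Ideal.Quotient.mk (IntMult.stalkIdeal IW ξ) (g i)))
      (by
        rw [IsLocalRing.ringJacobson_eq_maximalIdeal]
        rintro _ ⟨i, rfl⟩
        exact hmem i)
    rw [hdim0', zero_add] at h
    refine h.trans ?_
    have henc : (Set.range (fun i => Ideal.Quotient.mk (IntMult.stalkIdeal IW ξ) (g i))).encard ≤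
        (c : ℕ∞) := by
      rw [← Set.image_univ]
      refine (Set.encard_image_le _ _).trans ?_
      simp [Set.encard_univ]
    exact_mod_cast henc
  have hD : ringKrullDim (↑(X.presheaf.stalk ξ) ⧸ IntMult.stalkIdeal IW ξ) = (c : WithBot ℕ∞) :=
    le_antisymm hDc hcD
  have h5758 := (Groth.Agent.S5758.result (↑(X.presheaf.stalk ξ) ⧸ IntMult.stalkIdeal IW ξ)
    (↑(X.presheaf.stalk ξ) ⧸ IntMult.stalkIdeal IW ξ) hW.supportDim_eq_depth
    (List.ofFn (fun i => Ideal.Quotient.mk (IntMult.stalkIdeal IW ξ) (g i)))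
    (by
      intro x hx
      obtain ⟨i, rfl⟩ := List.mem_ofFn.1 hx
      exact hmem i)).1
  have hwr : IsWeaklyRegular (↑(X.presheaf.stalk ξ) ⧸ IntMult.stalkIdeal IW ξ)
      (List.ofFn (fun i => Ideal.Quotient.mk (IntMult.stalkIdeal IW ξ) (g i))) := by
    rw [h5758]
    have hset : {a | a ∈ List.ofFn (fun i => Ideal.Quotient.mk (IntMult.stalkIdeal IW ξ) (g i))} =
        Set.range (fun i => Ideal.Quotient.mk (IntMult.stalkIdeal IW ξ) (g i)) := by
      ext a
      simp [List.mem_ofFn]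
    have hI : (Ideal.ofList (List.ofFn (fun i => Ideal.Quotient.mk (IntMult.stalkIdeal IW ξ) (g i))) •
        (⊤ : Submodule (↑(X.presheaf.stalk ξ) ⧸ IntMult.stalkIdeal IW ξ)
          (↑(X.presheaf.stalk ξ) ⧸ IntMult.stalkIdeal IW ξ))) =
        Ideal.span (Set.range (fun i => Ideal.Quotient.mk (IntMult.stalkIdeal IW ξ) (g i))) := by
      rw [Ideal.ofList, hset, smul_eq_mul, Ideal.mul_top]
    rw [hI, Module.supportDim_quotient_eq_ringKrullDim, Module.supportDim_self_eq_ringKrullDim,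
      List.length_ofFn, hdim0', hD, zero_add]
  have hwrS : IsWeaklyRegular (↑(X.presheaf.stalk ξ) ⧸ IntMult.stalkIdeal IW ξ) (List.ofFn g) := by
    have hmap : List.ofFn (fun i => Ideal.Quotient.mk (IntMult.stalkIdeal IW ξ) (g i)) =
        (List.ofFn g).map (algebraMap (X.presheaf.stalk ξ)
          (↑(X.presheaf.stalk ξ) ⧸ IntMult.stalkIdeal IW ξ)) := by
      rw [List.map_ofFn]
      rfl
    rw [hmap] at hwr
    exact (isWeaklyRegular_map_algebraMap_iff
      (↑(X.presheaf.stalk ξ) ⧸ IntMult.stalkIdeal IW ξ)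
      (↑(X.presheaf.stalk ξ) ⧸ IntMult.stalkIdeal IW ξ) (List.ofFn g)).1 hwr
  have hlen : Module.length (X.presheaf.stalk ξ)
      ((↑(X.presheaf.stalk ξ) ⧸ IntMult.stalkIdeal IW ξ) ⧸ (IntMult.stalkIdeal IV ξ •
        (⊤ : Submodule (X.presheaf.stalk ξ) (↑(X.presheaf.stalk ξ) ⧸ IntMult.stalkIdeal IW ξ)))) =
      Module.length (X.presheaf.stalk ξ)
        (↑(X.presheaf.stalk ξ) ⧸ (IntMult.stalkIdeal IW ξ ⊔ IntMult.stalkIdeal IV ξ)) :=
    (quotSmulTopEquiv (IntMult.stalkIdeal IW ξ) (IntMult.stalkIdeal IV ξ)).length_eq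
  rw [← hlen]
  unfold IntMult.mult
  rw [chi_symm, hg, intMult_chi_eq_chi g hreg.toIsWeaklyRegular,
    chi_eq_length_of_isWeaklyRegular _ _ hwrS, span_ofFn]

end Groth.Agent.S6452
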