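import Groth.Statements.S1873
import Groth.Agent.S6452
import Groth.Agent.S5033
import Groth.Agent.S0341
import Groth.Agent.S0342
import Groth.Agent.H17.IM.EmbDim

set_option autoImplicit false
universe u
open CategoryTheory AlgebraicGeometry
attribute [local instance] HasDerivedCategory.standard
open IntMult

namespace Groth.Agent.S1873

open Groth.Agent.H17.IM

/-- If the multiplicity of Z in the closed subscheme V ∩ W is 1, i.e. length_{O_{X,ξ}}(O_{V∩W,ξ}) = 1,
then e(X, V·W, Z) = 1 and the local rings O_{V,ξ}, O_{W,ξ} are regular (V and W are smooth at a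
general point of Z). Here X is a nonsingular variety over an algebraically closed field K (smooth,
separated, of finite type, integral), V and W are closed subvarieties given by quasi-coherent ideal
sheaves with integral subschemes, of dimensions r and s with dim X = n, intersecting properly, and ξ
is the generic point of an irreducible component Z of V ∩ W; e(X, V·W, Z) is the alternating sum of
lengths of Tor over O_{X,ξ}. -/
theorem result (K : Type u) [Field K] [IsAlgClosed K] (X : Scheme.{u}) (f : X ⟶ Spec (CommRingCat.of K)) [Smooth f] [IsSeparated f] [QuasiCompact f] [IsIntegral X] (IV IW : X.IdealSheafData) [IsIntegral IV.subscheme] [IsIntegral IW.subscheme] (n r s : ℕ) (hn : topologicalKrullDim X = n) (hr : topologicalKrullDim IV.support = r) (hs : topologicalKrullDim IW.support = s) (hprop : IntMult.ProperInt (IV.support : Set X) (IW.support : Set X) n r s) (ξ : X) (hξV : ξ ∈ IV.support) (hξW : ξ ∈ IW.support) (hmax : ∀ ξ' : X, ξ' ∈ IV.support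 → ξ' ∈ IW.support → ξ' ⤳ ξ → ξ' = ξ) (h1 : Module.length (X.presheaf.stalk ξ) (↑(X.presheaf.stalk ξ) ⧸ (IntMult.stalkIdeal IV ξ ⊔ IntMult.stalkIdeal IW ξ)) = 1) : IntMult.mult IV IW ξ = 1 ∧ IsRegularLocalRing (↑(X.presheaf.stalk ξ) ⧸ IntMult.stalkIdeal IV ξ) ∧ IsRegularLocalRing (↑(X.presheaf.stalk ξ) ⧸ IntMult.stalkIdeal IW ξ) := by
  haveI hRLR : IsRegularLocalRing (X.presheaf.stalk ξ) :=
    Groth.Agent.H63.SmoothRegular.isRegularLocalRing_stalk_of_smooth f ξ
  haveI : IsNoetherianRing (X.presheaf.stalk ξ) := inferInstance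
  haveI hIVprime : (IntMult.stalkIdeal IV ξ).IsPrime := isPrime_stalkIdeal IV ξ hξV
  haveI hIWprime : (IntMult.stalkIdeal IW ξ).IsPrime := isPrime_stalkIdeal IW ξ hξW
  haveI : Nontrivial (↑(X.presheaf.stalk ξ) ⧸ IntMult.stalkIdeal IV ξ) :=
    Ideal.Quotient.nontrivial_iff.2 hIVprime.ne_top
  haveI : Nontrivial (↑(X.presheaf.stalk ξ) ⧸ IntMult.stalkIdeal IW ξ) :=
    Ideal.Quotient.nontrivial_iff.2 hIWprime.ne_top
  haveI hlocV : IsLocalRing (↑(X.presheaf.stalk ξ) ⧸ IntMult.stalkIdeal IV ξ) :=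
    IsLocalRing.of_surjective' (Ideal.Quotient.mk _) Ideal.Quotient.mk_surjective
  haveI hlocW : IsLocalRing (↑(X.presheaf.stalk ξ) ⧸ IntMult.stalkIdeal IW ξ) :=
    IsLocalRing.of_surjective' (Ideal.Quotient.mk _) Ideal.Quotient.mk_surjective
  -- `I_V + I_W` is the maximal ideal
  have hsimple : IsSimpleModule (X.presheaf.stalk ξ)
      (↑(X.presheaf.stalk ξ) ⧸ (IntMult.stalkIdeal IV ξ ⊔ IntMult.stalkIdeal IW ξ)) :=
    Module.length_eq_one_iff.1 h1
  have hmaxi : (IntMult.stalkIdeal IV ξ ⊔ IntMult.stalkIdeal IW ξ).IsMaximal :=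
    Ideal.isMaximal_def.2 (isSimpleModule_iff_isCoatom.1 hsimple)
  have hsum : IntMult.stalkIdeal IV ξ ⊔ IntMult.stalkIdeal IW ξ =
      IsLocalRing.maximalIdeal (X.presheaf.stalk ξ) := IsLocalRing.eq_maximalIdeal hmaxi
  have hE := spanFinrank_quotient_add_le (X.presheaf.stalk ξ) (IntMult.stalkIdeal IV ξ)
    (IntMult.stalkIdeal IW ξ) hsum
  have hG := ringKrullDim_stalk_le_add f IV IW n r s hn hr hs hprop ξ hξV hξW
  have hKV := ringKrullDim_le_spanFinrank_maximalIdeal
    (↑(X.presheaf.stalk ξ) ⧸ IntMult.stalkIdeal IV ξ)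
  have hKW := ringKrullDim_le_spanFinrank_maximalIdeal
    (↑(X.presheaf.stalk ξ) ⧸ IntMult.stalkIdeal IW ξ)
  have hd := hRLR.spanFinrank_maximalIdeal
  obtain ⟨dV, hdV⟩ := Groth.Agent.H54.exists_nat_eq_of_le
    (ne_bot_of_nonneg ringKrullDim_nonneg_of_nontrivial) hKV
  obtain ⟨dW, hdW⟩ := Groth.Agent.H54.exists_nat_eq_of_le
    (ne_bot_of_nonneg ringKrullDim_nonneg_of_nontrivial) hKW
  rw [hdV] at hKV hG
  rw [hdW] at hKW hG
  rw [← hd] at hG
  have hKV' : dV ≤ (IsLocalRing.maximalIdeal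
      (↑(X.presheaf.stalk ξ) ⧸ IntMult.stalkIdeal IV ξ)).spanFinrank := by exact_mod_cast hKV
  have hKW' : dW ≤ (IsLocalRing.maximalIdeal
      (↑(X.presheaf.stalk ξ) ⧸ IntMult.stalkIdeal IW ξ)).spanFinrank := by exact_mod_cast hKW
  have hG' : (IsLocalRing.maximalIdeal (X.presheaf.stalk ξ)).spanFinrank ≤ dV + dW := by
    exact_mod_cast hG
  haveI hregV : IsRegularLocalRing (↑(X.presheaf.stalk ξ) ⧸ IntMult.stalkIdeal IV ξ) := by
    apply IsRegularLocalRing.of_spanFinrank_maximalIdeal_le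
    rw [hdV]
    have : (IsLocalRing.maximalIdeal
        (↑(X.presheaf.stalk ξ) ⧸ IntMult.stalkIdeal IV ξ)).spanFinrank ≤ dV := by omega
    exact_mod_cast this
  haveI hregW : IsRegularLocalRing (↑(X.presheaf.stalk ξ) ⧸ IntMult.stalkIdeal IW ξ) := by
    apply IsRegularLocalRing.of_spanFinrank_maximalIdeal_le
    rw [hdW]
    have : (IsLocalRing.maximalIdeal
        (↑(X.presheaf.stalk ξ) ⧸ IntMult.stalkIdeal IW ξ)).spanFinrank ≤ dW := by omega
    exact_mod_cast this
  refine ⟨?_, hregV, hregW⟩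
  -- multiplicity one
  haveI := Groth.Agent.S0342.result (↑(X.presheaf.stalk ξ) ⧸ IntMult.stalkIdeal IW ξ)
  have hCM : LocCoh.IsCohenMacaulayLocalRing (↑(X.presheaf.stalk ξ) ⧸ IntMult.stalkIdeal IW ξ) :=
    Groth.Agent.S0341.result _
  obtain ⟨rs, hrs, hrsI⟩ := (Groth.Agent.S5033.result (X.presheaf.stalk ξ)
    (IntMult.stalkIdeal IV ξ)).1 hRLR
  have hofFn : List.ofFn rs.get = rs := List.ofFn_get rs
  have hg : IntMult.stalkIdeal IV ξ = Ideal.span (Set.range rs.get) := by
    rw [← hrsI, Ideal.ofList, Set.range_list_get]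
  have h6452 := Groth.Agent.S6452.result K X f IV IW n r s hn hr hs hprop ξ hξV hξW hmax
    rs.length rs.get hg (by rw [hofFn]; exact hrs) hCM
  rw [sup_comm] at h1
  rw [h1] at h6452
  simpa using h6452

end Groth.Agent.S1873
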