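import Groth.Statements.S18731
import Groth.Agent.H9.ComapMul

set_option autoImplicit false
universe u
open CategoryTheory CategoryTheory.Limits AlgebraicGeometry TopologicalSpace
open ModPair

namespace Groth.Agent.S18731

/-- Let I on X and J on Y be quasi-coherent ideal sheaves of effective Cartier divisors and f : X ⟶ Y a
morphism satisfying the modulus condition I ≤ J.comap f (the closed subscheme J ×_Y X of X lies
inside the closed subscheme cut out by I). Then the pull-back of the divisor of J along f is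
defined: J.comap f is the ideal sheaf of an effective Cartier divisor on X. -/
theorem result {X Y : Scheme.{u}} (I : X.IdealSheafData)
    (J : Y.IdealSheafData) (hI : BlowUp.IsEffCartierIdeal I) (hJ : BlowUp.IsEffCartierIdeal J)
    (f : X ⟶ Y) (hf : ModPair.IsAmbient I J f) : BlowUp.IsEffCartierIdeal (J.comap f) := by
  intro x
  obtain ⟨U, hfxU, d, hd, hJU⟩ := hJ (f x)
  obtain ⟨V, hxV, hVU, t, ht, hIV⟩ :=
    Groth.Agent.H9.exists_affine_isPrincipalNZD hI (f ⁻¹ᵁ U.1) x hfxU
  have hVU' : V.1 ≤ f ⁻¹ᵁ U.1 := hVU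
  have hspan : (J.comap f).ideal V = Ideal.span {(f.appLE U.1 V.1 hVU').hom d} := by
    rw [Groth.Agent.H9.comap_ideal f J U V hVU', hJU, Ideal.map_span, Set.image_singleton]
  refine ⟨V, hxV, (f.appLE U.1 V.1 hVU').hom d, ?_, hspan⟩
  have hle : I.ideal V ≤ (J.comap f).ideal V := hf V
  have htmem : t ∈ Ideal.span {(f.appLE U.1 V.1 hVU').hom d} := by
    rw [← hspan]
    exact hle (by rw [hIV]; exact Ideal.mem_span_singleton_self t)
  obtain ⟨c, hc⟩ := Ideal.mem_span_singleton'.1 htmem
  rw [mem_nonZeroDivisors_iff_right]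
  intro z hz
  have hzt : z * t = 0 := by
    rw [← hc, ← mul_assoc, mul_comm z c, mul_assoc, hz, mul_zero]
  exact (mem_nonZeroDivisors_iff_right.1 ht) z hzt

end Groth.Agent.S18731
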