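import Groth.Statements.S18734
import Groth.Agent.H38.ValFinite

set_option autoImplicit false
universe u
open CategoryTheory CategoryTheory.Limits AlgebraicGeometry TopologicalSpace
open ModPair

namespace Groth.Agent.S18734

/-- Let R be a valuation ring with fraction field K and f : Y ⟶ Spec R a morphism of schemes which is
flat, proper and generically finite (the generic fibre Y ×_{Spec R} Spec K ⟶ Spec K is a finite
morphism). Then f is finite. No finite-presentation hypothesis is assumed. -/
theorem result {R : Type u} [CommRing R]
    [IsDomain R] [ValuationRing R] {Y : Scheme.{u}} (f : Y ⟶ Spec (CommRingCat.of R)) [Flat f] [IsProper f]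
    (hgen : IsFinite (pullback.snd f
      (Spec.map (CommRingCat.ofHom (algebraMap R (FractionRing R)))))) :
    IsFinite f := by
  haveI : IrreducibleSpace (Spec (CommRingCat.of R)) :=
    inferInstanceAs (IrreducibleSpace (PrimeSpectrum R))
  apply Groth.Agent.H38.ValFinite.isFinite_of_flat_proper f
  haveI := hgen
  have hP : Finite ↥(pullback f (Spec.map (CommRingCat.ofHom (algebraMap R (FractionRing R))))) := by
    have h1 := (pullback.snd f (Spec.map (CommRingCat.ofHom
      (algebraMap R (FractionRing R))))).finite_preimage_singleton
        (IsLocalRing.closedPoint (FractionRing R))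
    refine Set.finite_univ_iff.mp (h1.subset ?_)
    intro x _
    exact Subsingleton.elim (α := PrimeSpectrum (FractionRing R)) _ _
  have hg : (Spec.map (CommRingCat.ofHom (algebraMap R (FractionRing R)))).base
      (IsLocalRing.closedPoint (FractionRing R)) = genericPoint (Spec (CommRingCat.of R)) := by
    rw [genericPoint_eq_bot_of_affine]
    apply PrimeSpectrum.ext
    show Ideal.comap (algebraMap R (FractionRing R)) (IsLocalRing.maximalIdeal _) = ⊥
    rw [IsLocalRing.maximalIdeal_eq_bot, ← RingHom.ker_eq_comap_bot,
      (RingHom.injective_iff_ker_eq_bot _).mp (IsFractionRing.injective R _)]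
  have hsub : f.base ⁻¹' {genericPoint (Spec (CommRingCat.of R))} ⊆
      Set.range (pullback.fst f (Spec.map (CommRingCat.ofHom
        (algebraMap R (FractionRing R))))).base := by
    intro y hy
    obtain ⟨z, hz, -⟩ := Scheme.Pullback.exists_preimage_pullback y _ (hy.trans hg.symm)
    exact ⟨z, hz⟩
  exact (Set.finite_range _).subset hsub

end Groth.Agent.S18734
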