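import Groth.Statements.S18735
import Mathlib
import Groth.Agent.H94.ModPairLib

set_option autoImplicit false
universe u
open CategoryTheory CategoryTheory.Limits AlgebraicGeometry TopologicalSpace
open ModPair

namespace Groth.Agent.S18735

open Groth.Agent.H94.EffCartierDense Groth.Agent.H94.ModPairLib

theorem amb_r {S T X Y : Scheme.{u}} (IS : S.IdealSheafData) (IT : T.IdealSheafData)
    (g : T ⟶ S) (hg : ModPair.IsAmbient IT IS g) (s : X ⟶ S) (ι : Y ⟶ pullback s g) :
    IT.comap (ι ≫ pullback.snd s g) ≤ (IS.comap s).comap (ι ≫ pullback.fst s g) := by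
  have h1 : (IS.comap s).comap (ι ≫ pullback.fst s g) = (IS.comap g).comap (ι ≫ pullback.snd s g) := by
    rw [← Scheme.IdealSheafData.comap_comp, ← Scheme.IdealSheafData.comap_comp, Category.assoc,
      Category.assoc, pullback.condition]
  rw [h1]
  have h2 := Scheme.IdealSheafData.comap_mono (ι ≫ pullback.snd s g) hg
  exact h2

/-- base change of a morphism which is an isomorphism over `U` is an isomorphism over opens mapping
into `U`. -/
theorem isIso_snd_restrict {S T X : Scheme.{u}} (s : X ⟶ S) (g : T ⟶ S) (U : S.Opens)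
    [IsIso (s ∣_ U)] (V : T.Opens) (hV : V ≤ g ⁻¹ᵁ U) : IsIso (pullback.snd s g ∣_ V) := by
  obtain ⟨g', hg'⟩ := exists_restrict_interior g V U hV
  have hbig : IsPullback ((pullback.snd s g ⁻¹ᵁ V).ι ≫ pullback.fst s g) (pullback.snd s g ∣_ V) s
      (V.ι ≫ g) :=
    (isPullback_morphismRestrict (pullback.snd s g) V).flip.paste_horiz
      (IsPullback.of_hasPullback s g)
  have hrange : Set.range ((pullback.snd s g ⁻¹ᵁ V).ι ≫ pullback.fst s g) ⊆
      Set.range (s ⁻¹ᵁ U).ι := by
    rintro _ ⟨z, rfl⟩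
    rw [Scheme.Opens.range_ι]
    show s (((pullback.snd s g ⁻¹ᵁ V).ι ≫ pullback.fst s g) z) ∈ U
    rw [← Scheme.Hom.comp_apply, Category.assoc, pullback.condition, ← Category.assoc,
      Scheme.Hom.comp_apply]
    exact hV z.2
  let h₁₁ := IsOpenImmersion.lift (s ⁻¹ᵁ U).ι ((pullback.snd s g ⁻¹ᵁ V).ι ≫ pullback.fst s g) hrange
  have hh : h₁₁ ≫ (s ⁻¹ᵁ U).ι = (pullback.snd s g ⁻¹ᵁ V).ι ≫ pullback.fst s g :=
    IsOpenImmersion.lift_fac _ _ _
  rw [← hh, ← hg'] at hbig
  have hp : h₁₁ ≫ (s ∣_ U) = (pullback.snd s g ∣_ V) ≫ g' := by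
    rw [← cancel_mono U.ι, Category.assoc, Category.assoc, morphismRestrict_ι, ← Category.assoc, hh,
      Category.assoc, pullback.condition, hg', ← Category.assoc, ← Category.assoc,
      morphismRestrict_ι]
  have hsq := IsPullback.of_right hbig hp (isPullback_morphismRestrict s U).flip
  exact hsq.isIso_snd_of_isIso

theorem isIso_restrict_of_eq {A X : Scheme.{u}} (a : A ⟶ X) (W W' : X.Opens) (h : W = W')
    [IsIso (a ∣_ W)] : IsIso (a ∣_ W') := by
  subst h; infer_instance

theorem main {S T X : Scheme.{u}} (IS : S.IdealSheafData)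
    (IT : T.IdealSheafData) (IX : X.IdealSheafData) (hS : BlowUp.IsEffCartierIdeal IS)
    (hT : BlowUp.IsEffCartierIdeal IT) (hX : BlowUp.IsEffCartierIdeal IX)
    (g : T ⟶ S) (hg : ModPair.IsAmbient IT IS g) (s : X ⟶ S) (hs : ModPair.IsAdmBlowup IX IS s) :
    BlowUp.IsEffCartierIdeal (IT.comap (ModPair.mprodι s g IX IT ≫ pullback.snd s g)) ∧
      ModPair.IsAdmBlowup (IT.comap (ModPair.mprodι s g IX IT ≫ pullback.snd s g)) IT
        (ModPair.mprodι s g IX IT ≫ pullback.snd s g) ∧
      ModPair.IsAmbient (IT.comap (ModPair.mprodι s g IX IT ≫ pullback.snd s g)) IX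
        (ModPair.mprodι s g IX IT ≫ pullback.fst s g) := by
  obtain ⟨hs1, hs2, hs3⟩ := hs
  have hs1' : IX = IS.comap s := hs1
  subst hs1'
  haveI := hs2
  haveI := hs3
  haveI := isAffineHom_interior_ι (IS.comap s) hX
  haveI := isAffineHom_interior_ι IT hT
  haveI := isAffineHom_preimage_ι (pullback.fst s g) (ModPair.interior (IS.comap s))
  haveI := isAffineHom_preimage_ι (pullback.snd s g) (ModPair.interior IT)
  haveI hqc : IsAffineHom (ModPair.prodInterior s g (IS.comap s) IT).ι := isAffineHom_inf_ι _ _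
  set W₀ := ModPair.prodInterior s g (IS.comap s) IT with hW₀
  set ι := ModPair.mprodι s g (IS.comap s) IT with hι
  refine ⟨?_, ⟨rfl, inferInstance, ?_⟩, ?_⟩
  · have hle : W₀ ≤ (pullback.snd s g) ⁻¹ᵁ ModPair.interior IT := inf_le_right
    haveI : IsSchemeTheoreticallyDominant
        ((ι ≫ pullback.snd s g) ⁻¹ᵁ ModPair.interior IT).ι :=
      Groth.Agent.S18737.dominant_preimage_imageι W₀ _ hle
    exact (Groth.Agent.S18732.main IT hT (ι ≫ pullback.snd s g)).2
  · -- iso over the interior of T
    have hTS : ModPair.interior IT ≤ g ⁻¹ᵁ ModPair.interior IS :=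
      interior_le_preimage_of_isAmbient IT IS g hg
    have hW₀eq : W₀ = (pullback.snd s g) ⁻¹ᵁ ModPair.interior IT := by
      apply le_antisymm inf_le_right
      intro z hz
      refine ⟨?_, hz⟩
      show (pullback.fst s g) z ∈ ModPair.interior (IS.comap s)
      rw [interior_comap]
      show s ((pullback.fst s g) z) ∈ ModPair.interior IS
      rw [← Scheme.Hom.comp_apply, pullback.condition, Scheme.Hom.comp_apply]
      exact hTS hz
    haveI := Groth.Agent.S18737.isIso_restrict_imageι W₀
    have h1 : IsIso (ι ∣_ ((pullback.snd s g) ⁻¹ᵁ ModPair.interior IT)) :=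
      isIso_restrict_of_eq ι W₀ _ hW₀eq
    have h2 : IsIso (pullback.snd s g ∣_ ModPair.interior IT) :=
      isIso_snd_restrict s g (ModPair.interior IS) (ModPair.interior IT) hTS
    rw [morphismRestrict_comp]
    exact IsIso.comp_isIso' h1 h2
  · exact amb_r IS IT g hg s ι

/-- Let (S, I_S), (T, I_T), (X, I_X) be schemes equipped with quasi-coherent ideal sheaves of effective
Cartier divisors, g : T ⟶ S a morphism satisfying the modulus condition I_T ≤ I_S.comap g, and s : X
⟶ S an abstract admissible blow-up (I_X = I_S.comap s, s proper and an isomorphism over the open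
complement of the support of I_S). Let Y be the scheme-theoretic image in X ×_S T of the open
pr₁⁻¹(X°) ∩ pr₂⁻¹(T°), where X°, T° are the open complements of the supports of I_X, I_T, with
projections q : Y ⟶ T and r : Y ⟶ X. Then I_T.comap q is the ideal sheaf of an effective Cartier
divisor on Y, q is an abstract admissible blow-up from (Y, I_T.comap q) to (T, I_T), and r satisfies
the modulus condition from (Y, I_T.comap q) to (X, I_X). -/
theorem result {S T X : Scheme.{u}} (IS : S.IdealSheafData)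
    (IT : T.IdealSheafData) (IX : X.IdealSheafData) (hS : BlowUp.IsEffCartierIdeal IS)
    (hT : BlowUp.IsEffCartierIdeal IT) (hX : BlowUp.IsEffCartierIdeal IX)
    (g : T ⟶ S) (hg : ModPair.IsAmbient IT IS g) (s : X ⟶ S) (hs : ModPair.IsAdmBlowup IX IS s) :
    BlowUp.IsEffCartierIdeal (IT.comap (ModPair.mprodι s g IX IT ≫ pullback.snd s g)) ∧
      ModPair.IsAdmBlowup (IT.comap (ModPair.mprodι s g IX IT ≫ pullback.snd s g)) IT
        (ModPair.mprodι s g IX IT ≫ pullback.snd s g) ∧
      ModPair.IsAmbient (IT.comap (ModPair.mprodι s g IX IT ≫ pullback.snd s g)) IX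
        (ModPair.mprodι s g IX IT ≫ pullback.fst s g) := by
  exact main IS IT IX hS hT hX g hg s hs

end Groth.Agent.S18735
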