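import Groth.Statements.S18736
import Mathlib
import Groth.Agent.H94.ModPairLib

set_option autoImplicit false
universe u
open CategoryTheory CategoryTheory.Limits AlgebraicGeometry TopologicalSpace
open ModPair

namespace Groth.Agent.S18736

open Groth.Agent.H94.EffCartierDense Groth.Agent.H94.ModPairLib

theorem amb_q {S T X Y : Scheme.{u}} (IS : S.IdealSheafData) (IX : X.IdealSheafData)
    (p : X ⟶ S) (hp : ModPair.IsAmbient IX IS p) (f : T ⟶ S) (ι : Y ⟶ pullback p f) :
    IX.comap (ι ≫ pullback.fst p f) ≤ (IS.comap f).comap (ι ≫ pullback.snd p f) := by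
  have h1 : (IS.comap f).comap (ι ≫ pullback.snd p f) = (IS.comap p).comap (ι ≫ pullback.fst p f) := by
    rw [← Scheme.IdealSheafData.comap_comp, ← Scheme.IdealSheafData.comap_comp, Category.assoc,
      Category.assoc, pullback.condition]
  rw [h1]
  have h2 := Scheme.IdealSheafData.comap_mono (ι ≫ pullback.fst p f) hp
  exact h2

theorem main {S T X : Scheme.{u}} (IS : S.IdealSheafData)
    (IT : T.IdealSheafData) (IX : X.IdealSheafData) (hS : BlowUp.IsEffCartierIdeal IS)
    (hT : BlowUp.IsEffCartierIdeal IT) (hX : BlowUp.IsEffCartierIdeal IX)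
    (p : X ⟶ S) (hp : ModPair.IsAmbient IX IS p) (f : T ⟶ S) (hf : ModPair.IsMinimal IT IS f) :
    BlowUp.IsEffCartierIdeal (IX.comap (ModPair.mprodι p f IX IT ≫ pullback.fst p f)) ∧
      ModPair.IsAmbient (IX.comap (ModPair.mprodι p f IX IT ≫ pullback.fst p f)) IT
        (ModPair.mprodι p f IX IT ≫ pullback.snd p f) ∧
      ∀ (W : Scheme.{u}) (IW : W.IdealSheafData), BlowUp.IsEffCartierIdeal IW →
        ∀ (a : W ⟶ T) (b : W ⟶ X), ModPair.IsAmbient IW IT a → ModPair.IsAmbient IW IX b →
          a ≫ f = b ≫ p →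
          ∃! c : W ⟶ ModPair.mprod p f IX IT,
            c ≫ ModPair.mprodι p f IX IT ≫ pullback.snd p f = a ∧
              c ≫ ModPair.mprodι p f IX IT ≫ pullback.fst p f = b ∧
              ModPair.IsAmbient IW (IX.comap (ModPair.mprodι p f IX IT ≫ pullback.fst p f)) c := by
  have hf' : IT = IS.comap f := hf
  subst hf'
  haveI := isAffineHom_interior_ι IX hX
  haveI := isAffineHom_interior_ι (IS.comap f) hT
  haveI := isAffineHom_preimage_ι (pullback.fst p f) (ModPair.interior IX)
  haveI := isAffineHom_preimage_ι (pullback.snd p f) (ModPair.interior (IS.comap f))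
  haveI hqc : IsAffineHom (ModPair.prodInterior p f IX (IS.comap f)).ι := isAffineHom_inf_ι _ _
  set W₀ := ModPair.prodInterior p f IX (IS.comap f) with hW₀
  set ι := ModPair.mprodι p f IX (IS.comap f) with hι
  refine ⟨?_, ?_, ?_⟩
  · -- effective Cartier
    have hle : W₀ ≤ (pullback.fst p f) ⁻¹ᵁ ModPair.interior IX := inf_le_left
    haveI : IsSchemeTheoreticallyDominant
        ((ι ≫ pullback.fst p f) ⁻¹ᵁ ModPair.interior IX).ι :=
      Groth.Agent.S18737.dominant_preimage_imageι W₀ _ hle
    exact (Groth.Agent.S18732.main IX hX (ι ≫ pullback.fst p f)).2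
  · -- modulus condition for q
    show IX.comap (ι ≫ pullback.fst p f) ≤ (IS.comap f).comap (ι ≫ pullback.snd p f)
    exact amb_q IS IX p hp f ι
  · intro W IW hW a b ha hb hab
    haveI := isAffineHom_interior_ι IW hW
    haveI := dominant_interior_ι IW hW
    let c₀ : W ⟶ pullback p f := pullback.lift b a hab.symm
    have hc₀1 : c₀ ≫ pullback.fst p f = b := pullback.lift_fst _ _ _
    have hc₀2 : c₀ ≫ pullback.snd p f = a := pullback.lift_snd _ _ _
    have hD : ModPair.interior IW ≤ c₀ ⁻¹ᵁ W₀ := by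
      intro w hw
      refine ⟨?_, ?_⟩
      · show (pullback.fst p f) (c₀ w) ∈ ModPair.interior IX
        rw [← Scheme.Hom.comp_apply, hc₀1]
        exact interior_le_preimage_of_isAmbient IW IX b hb hw
      · show (pullback.snd p f) (c₀ w) ∈ ModPair.interior (IS.comap f)
        rw [← Scheme.Hom.comp_apply, hc₀2]
        exact interior_le_preimage_of_isAmbient IW (IS.comap f) a ha hw
    obtain ⟨c₁, hc₁⟩ := exists_restrict_interior c₀ (ModPair.interior IW) W₀ hD
    obtain ⟨c, hc⟩ := exists_lift_image W₀.ι c₀ (ModPair.interior IW) c₁ hc₁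
    refine ⟨c, ⟨?_, ?_, ?_⟩, ?_⟩
    · rw [← Category.assoc]
      show (c ≫ W₀.ι.imageι) ≫ _ = _
      rw [hc, hc₀2]
    · rw [← Category.assoc]
      show (c ≫ W₀.ι.imageι) ≫ _ = _
      rw [hc, hc₀1]
    · show IW ≤ (IX.comap (ι ≫ pullback.fst p f)).comap c
      rw [← Scheme.IdealSheafData.comap_comp, ← Category.assoc]
      have : c ≫ ι = c₀ := hc
      rw [this, hc₀1]
      exact hb
    · rintro c' ⟨h1, h2, -⟩
      have : c' ≫ ι = c₀ := by
        apply pullback.hom_ext
        · rw [Category.assoc, h2, hc₀1]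
        · rw [Category.assoc, h1, hc₀2]
      rw [← cancel_mono ι, this]
      exact hc.symm

/-- With the minimal-case product: let (S, I_S), (T, I_T), (X, I_X) be schemes equipped with
quasi-coherent ideal sheaves of effective Cartier divisors, p : X ⟶ S a morphism satisfying the
modulus condition I_X ≤ I_S.comap p, and f : T ⟶ S a minimal morphism, I_T = I_S.comap f. Let Y be
the scheme-theoretic image in X ×_S T of the open pr₁⁻¹(X°) ∩ pr₂⁻¹(T°) (X°, T° the open complements
of the supports of I_X, I_T), with projections r : Y ⟶ X and q : Y ⟶ T, and put I_Y := I_X.comap r.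
Then I_Y is the ideal sheaf of an effective Cartier divisor, q satisfies the modulus condition I_Y ≤
I_T.comap q, and (Y, I_Y) with q and r is the fibre product of (T, I_T) and (X, I_X) over (S, I_S)
among modulus pairs and morphisms satisfying the modulus condition: for every scheme W with the
ideal sheaf I_W of an effective Cartier divisor and morphisms a : W ⟶ T, b : W ⟶ X with I_W ≤
I_T.comap a, I_W ≤ I_X.comap b and a ≫ f = b ≫ p, there is a unique c : W ⟶ Y with c ≫ q = a, c ≫ r
= b and I_W ≤ I_Y.comap c. -/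
theorem result {S T X : Scheme.{u}} (IS : S.IdealSheafData)
    (IT : T.IdealSheafData) (IX : X.IdealSheafData) (hS : BlowUp.IsEffCartierIdeal IS)
    (hT : BlowUp.IsEffCartierIdeal IT) (hX : BlowUp.IsEffCartierIdeal IX)
    (p : X ⟶ S) (hp : ModPair.IsAmbient IX IS p) (f : T ⟶ S) (hf : ModPair.IsMinimal IT IS f) :
    BlowUp.IsEffCartierIdeal (IX.comap (ModPair.mprodι p f IX IT ≫ pullback.fst p f)) ∧
      ModPair.IsAmbient (IX.comap (ModPair.mprodι p f IX IT ≫ pullback.fst p f)) IT
        (ModPair.mprodι p f IX IT ≫ pullback.snd p f) ∧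
      ∀ (W : Scheme.{u}) (IW : W.IdealSheafData), BlowUp.IsEffCartierIdeal IW →
        ∀ (a : W ⟶ T) (b : W ⟶ X), ModPair.IsAmbient IW IT a → ModPair.IsAmbient IW IX b →
          a ≫ f = b ≫ p →
          ∃! c : W ⟶ ModPair.mprod p f IX IT,
            c ≫ ModPair.mprodι p f IX IT ≫ pullback.snd p f = a ∧
              c ≫ ModPair.mprodι p f IX IT ≫ pullback.fst p f = b ∧
              ModPair.IsAmbient IW (IX.comap (ModPair.mprodι p f IX IT ≫ pullback.fst p f)) c := by
  exact main IS IT IX hS hT hX p hp f hf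

end Groth.Agent.S18736
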