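import Groth.Statements.S18738
import Mathlib
import Groth.Agent.H94.ModPairLib
import Groth.Agent.S18735
import Groth.Agent.S18498

set_option autoImplicit false
universe u
open CategoryTheory CategoryTheory.Limits AlgebraicGeometry TopologicalSpace
open ModPair

namespace Groth.Agent.S18738

open Groth.Agent.H94.EffCartierDense Groth.Agent.H94.ModPairLib ModPair

theorem isAdmBlowup_id {X : Scheme.{u}} (I : X.IdealSheafData) :
    IsAdmBlowup I I (𝟙 X) := by
  refine ⟨(Scheme.IdealSheafData.comap_id I).symm, inferInstance, ?_⟩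
  rw [morphismRestrict_id]
  exact IsIso.id _

theorem isAdmBlowup_comp {X Y Z : Scheme.{u}} (I : X.IdealSheafData) (J : Y.IdealSheafData)
    (K : Z.IdealSheafData) (f : X ⟶ Y) (g : Y ⟶ Z) (hf : IsAdmBlowup I J f)
    (hg : IsAdmBlowup J K g) : IsAdmBlowup I K (f ≫ g) := by
  obtain ⟨hf1, hf2, hf3⟩ := hf
  obtain ⟨hg1, hg2, hg3⟩ := hg
  have hf1' : I = J.comap f := hf1
  have hg1' : J = K.comap g := hg1
  subst hf1'
  subst hg1'
  refine ⟨(Scheme.IdealSheafData.comap_comp K f g).symm, inferInstance, ?_⟩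
  rw [morphismRestrict_comp]
  have e : interior (K.comap g) = g ⁻¹ᵁ interior K := interior_comap K g
  have hfi : IsIso (f ∣_ (g ⁻¹ᵁ interior K)) :=
    Groth.Agent.S18735.isIso_restrict_of_eq f _ _ e
  exact IsIso.comp_isIso' hfi hg3

/-- Cancellation: ambient morphisms equalized by an admissible blow-up are equal. -/
theorem hom_ext_of_isAdmBlowup {X Y Z : Scheme.{u}} (I : X.IdealSheafData) (J : Y.IdealSheafData)
    (K : Z.IdealSheafData) (hI : BlowUp.IsEffCartierIdeal I) (f₁ f₂ : X ⟶ Y)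
    (h₁ : IsAmbient I J f₁) (h₂ : IsAmbient I J f₂) (s : Y ⟶ Z) (hs : IsAdmBlowup J K s)
    (h : f₁ ≫ s = f₂ ≫ s) : f₁ = f₂ := by
  obtain ⟨hs1, hs2, hs3⟩ := hs
  have hs1' : J = K.comap s := hs1
  subst hs1'
  haveI := hs2
  haveI := hs3
  haveI := isAffineHom_interior_ι I hI
  haveI := dominant_interior_ι I hI
  have e : interior (K.comap s) = s ⁻¹ᵁ interior K := interior_comap K s
  have hle : ∀ fi : X ⟶ Y, IsAmbient I (K.comap s) fi → interior I ≤ fi ⁻¹ᵁ (s ⁻¹ᵁ interior K) := by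
    intro fi hfi
    rw [← e]
    exact interior_le_preimage_of_isAmbient I _ fi hfi
  obtain ⟨c₁, hc₁⟩ := exists_restrict_interior f₁ (interior I) (s ⁻¹ᵁ interior K) (hle f₁ h₁)
  obtain ⟨c₂, hc₂⟩ := exists_restrict_interior f₂ (interior I) (s ⁻¹ᵁ interior K) (hle f₂ h₂)
  have hc : c₁ = c₂ := by
    rw [← cancel_mono (s ∣_ interior K), ← cancel_mono (interior K).ι, Category.assoc,
      Category.assoc, morphismRestrict_ι, ← Category.assoc, ← Category.assoc, hc₁, hc₂,
      Category.assoc, Category.assoc, h]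
  have hU : (interior I).ι ≫ f₁ = (interior I).ι ≫ f₂ := by rw [← hc₁, ← hc₂, hc]
  let X' : Over Z := Over.mk (f₁ ≫ s)
  let Y' : Over Z := Over.mk s
  let f₁' : X' ⟶ Y' := Over.homMk f₁ rfl
  let f₂' : X' ⟶ Y' := Over.homMk f₂ h.symm
  haveI : IsSeparated Y'.hom := by dsimp [Y']; infer_instance
  have key : f₁' = f₂' := Groth.Agent.S18498.ext_of_schDominant f₁' f₂' (interior I).ι hU
  exact congrArg (fun φ => φ.left) key

theorem main : (ModPair.Pair.admBlowup.{u}).HasRightCalculusOfFractions := by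
  haveI : (ModPair.Pair.admBlowup.{u}).IsMultiplicative :=
    { id_mem := fun P => isAdmBlowup_id P.mod
      comp_mem := fun f g hf hg => isAdmBlowup_comp _ _ _ f.hom g.hom hf hg }
  refine { exists_rightFraction := ?_, ext := ?_ }
  · intro X Y φ
    -- base S = φ.Y', s = φ.s : Y → S adm. blow-up, g = φ.f : X → S
    obtain ⟨hcart, hadm, hamb⟩ := Groth.Agent.S18735.main φ.Y'.mod X.mod Y.mod φ.Y'.isEffCartier
      X.isEffCartier Y.isEffCartier φ.f.hom φ.f.cond φ.s.hom φ.hs
    let X' : ModPair.Pair.{u} :=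
      ⟨ModPair.mprod φ.s.hom φ.f.hom Y.mod X.mod, _, hcart⟩
    let q : X' ⟶ X := ⟨ModPair.mprodι φ.s.hom φ.f.hom Y.mod X.mod ≫ pullback.snd _ _, le_rfl⟩
    let r : X' ⟶ Y := ⟨ModPair.mprodι φ.s.hom φ.f.hom Y.mod X.mod ≫ pullback.fst _ _, hamb⟩
    refine ⟨⟨q, hadm, r⟩, ?_⟩
    apply ModPair.Pair.Hom.ext
    show (ModPair.mprodι φ.s.hom φ.f.hom Y.mod X.mod ≫ pullback.snd _ _) ≫ φ.f.hom =
      (ModPair.mprodι φ.s.hom φ.f.hom Y.mod X.mod ≫ pullback.fst _ _) ≫ φ.s.hom
    rw [Category.assoc, Category.assoc, pullback.condition]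
  · intro X Y Y' f₁ f₂ s hs h
    have h' : f₁.hom ≫ s.hom = f₂.hom ≫ s.hom := congrArg ModPair.Pair.Hom.hom h
    have heq : f₁ = f₂ := ModPair.Pair.Hom.ext
      (hom_ext_of_isAdmBlowup X.mod Y.mod Y'.mod X.isEffCartier f₁.hom f₂.hom f₁.cond f₂.cond
        s.hom hs h')
    exact ⟨X, 𝟙 X, isAdmBlowup_id X.mod, by rw [heq]⟩

/-- In the category of modulus pairs and ambient morphisms, the class Σ of abstract admissible blow-ups
(minimal, proper, an isomorphism over the interior of the target) admits a calculus of right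
fractions: it contains the identities and is stable under composition; every pair X' ⟶ X ⟵ Y with X'
⟶ X in Σ can be completed to a commutative square with a morphism Y' ⟶ Y in Σ; and two ambient
morphisms f, g : X ⟶ Y equalized by some Y ⟶ Z in Σ are equalized by some X' ⟶ X in Σ. -/
theorem result :
    (ModPair.Pair.admBlowup.{u}).HasRightCalculusOfFractions := by
  exact main

end Groth.Agent.S18738
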