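import Groth.Statements.S1874
import Groth.Agent.S1914
import Groth.Agent.H17.IM.DimLocal
import Groth.Agent.H17.IM.ChiCartier
import Groth.Agent.H17.IM.QuotSup
import Groth.Agent.H17.HS.Mult
import Groth.Agent.H63.SmoothRegular2

set_option autoImplicit false
universe u
open CategoryTheory AlgebraicGeometry
attribute [local instance] HasDerivedCategory.standard
open IntMult

namespace Groth.Agent.S1874

open Groth.Agent.H17.KE Groth.Agent.H17.HS Groth.Agent.H17.IM Filter Topology Polynomial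

/-- Suppose the ideal of V in O_{X,ξ} is generated by a regular sequence g₁, …, g_c. Then c! ·
length(O_{W,ξ}/(g₁, …, g_c)^t O_{W,ξ}) / t^c tends to e(X, V·W, Z) as t → ∞ (so e is c! times the
leading coefficient of that Hilbert polynomial), and e(X, V·W, Z) > 0. Here X is a nonsingular
variety over an algebraically closed field K (smooth, separated, of finite type, integral), V and W
are closed subvarieties given by quasi-coherent ideal sheaves with integral subschemes, of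
dimensions r and s with dim X = n, intersecting properly, and ξ is the generic point of an
irreducible component Z of V ∩ W; e(X, V·W, Z) is the alternating sum of lengths of Tor over
O_{X,ξ}. -/
theorem result (K : Type u) [Field K] [IsAlgClosed K] (X : Scheme.{u}) (f : X ⟶ Spec (CommRingCat.of K)) [Smooth f] [IsSeparated f] [QuasiCompact f] [IsIntegral X] (IV IW : X.IdealSheafData) [IsIntegral IV.subscheme] [IsIntegral IW.subscheme] (n r s : ℕ) (hn : topologicalKrullDim X = n) (hr : topologicalKrullDim IV.support = r) (hs : topologicalKrullDim IW.support = s) (hprop : IntMult.ProperInt (IV.support : Set X) (IW.support : Set X) n r s) (ξ : X) (hξV : ξ ∈ IV.support) (hξW : ξ ∈ IW.support) (hmax : ∀ ξ' : X, ξ' ∈ IV.support → ξ' ∈ IW.support → ξ' ⤳ ξ → ξ' = ξ) (c : ℕ) (g : Fin c → ↑(X.presheaf.stalk ξ)) (hg : IntMult.stalkIdeal IV ξ = Ideal.span (Set.range g)) (hreg : RingTheory.Sequence.IsRegular (↑(X.presheaf.stalk ξ)) (List.ofFn g)) : Filter.Tendsto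 (fun t : ℕ => (c.factorial : ℝ) * ((Module.length (X.presheaf.stalk ξ) (↑(X.presheaf.stalk ξ) ⧸ (IntMult.stalkIdeal IW ξ ⊔ IntMult.stalkIdeal IV ξ ^ t))).toNat : ℝ) / (t : ℝ) ^ c) Filter.atTop (nhds (IntMult.mult IV IW ξ : ℝ)) ∧ 0 < IntMult.mult IV IW ξ := by
  haveI hRLR : IsRegularLocalRing (X.presheaf.stalk ξ) :=
    Groth.Agent.H63.SmoothRegular.isRegularLocalRing_stalk_of_smooth f ξ
  haveI : IsNoetherianRing (X.presheaf.stalk ξ) := inferInstance
  haveI := finite_maximalSpectrum_of_isLocalRing (A := X.presheaf.stalk ξ)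
  haveI hIVprime : (IntMult.stalkIdeal IV ξ).IsPrime := isPrime_stalkIdeal IV ξ hξV
  haveI hIWprime : (IntMult.stalkIdeal IW ξ).IsPrime := isPrime_stalkIdeal IW ξ hξW
  obtain ⟨k, hk⟩ := exists_pow_le_sup IV IW ξ hmax hξV hξW
  have hJm : IntMult.stalkIdeal IV ξ ⊔ IntMult.stalkIdeal IW ξ ≤
      IsLocalRing.maximalIdeal (X.presheaf.stalk ξ) :=
    sup_le (IsLocalRing.le_maximalIdeal hIVprime.ne_top)
      (IsLocalRing.le_maximalIdeal hIWprime.ne_top)
  have hfinJ := colen_pow_ne_top_of_primary hk (↑(X.presheaf.stalk ξ) ⧸ IntMult.stalkIdeal IW ξ)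
  have hfin : ∀ t, colen (IntMult.stalkIdeal IV ξ ^ t •
      (⊤ : Submodule (X.presheaf.stalk ξ) (↑(X.presheaf.stalk ξ) ⧸ IntMult.stalkIdeal IW ξ))) ≠ ⊤ := by
    intro t
    rw [← sup_pow_smul_top]
    exact hfinJ t
  have h0 : Module.supportDim (X.presheaf.stalk ξ)
      ((↑(X.presheaf.stalk ξ) ⧸ IntMult.stalkIdeal IW ξ) ⧸ (Ideal.span (Set.range g) •
        (⊤ : Submodule (X.presheaf.stalk ξ) (↑(X.presheaf.stalk ξ) ⧸ IntMult.stalkIdeal IW ξ)))) ≤ 0 := by
    rw [← hg]
    apply (Groth.Agent.S3406.isFiniteLength_iff_supportDim_le_zero (X.presheaf.stalk ξ) _).mp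
    rw [← Module.length_ne_top_iff]
    have := hfin 1
    rwa [pow_one] at this
  have hlim := Groth.Agent.S1914.result (X.presheaf.stalk ξ) c g hreg
    (↑(X.presheaf.stalk ξ) ⧸ IntMult.stalkIdeal IW ξ) h0
  have hchi : IntMult.chi (X.presheaf.stalk ξ) (↑(X.presheaf.stalk ξ) ⧸ Ideal.span (Set.range g))
      (↑(X.presheaf.stalk ξ) ⧸ IntMult.stalkIdeal IW ξ) = IntMult.mult IV IW ξ := by
    unfold IntMult.mult
    rw [chi_symm, hg]
  have hseq : ∀ t : ℕ, Module.length (X.presheaf.stalk ξ)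
      ((↑(X.presheaf.stalk ξ) ⧸ IntMult.stalkIdeal IW ξ) ⧸ (Ideal.span (Set.range g) ^ t •
        (⊤ : Submodule (X.presheaf.stalk ξ) (↑(X.presheaf.stalk ξ) ⧸ IntMult.stalkIdeal IW ξ)))) =
      Module.length (X.presheaf.stalk ξ)
        (↑(X.presheaf.stalk ξ) ⧸ (IntMult.stalkIdeal IW ξ ⊔ IntMult.stalkIdeal IV ξ ^ t)) := by
    intro t
    rw [← hg]
    exact (quotSmulTopEquiv (IntMult.stalkIdeal IW ξ) (IntMult.stalkIdeal IV ξ ^ t)).length_eq
  rw [hchi] at hlim
  simp_rw [hseq] at hlim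
  refine ⟨hlim, ?_⟩
  -- positivity
  obtain ⟨P, hPc, hP⟩ := exists_samuelPoly
    (N := ↑(X.presheaf.stalk ξ) ⧸ IntMult.stalkIdeal IW ξ) g (by rw [← hg]; exact hfin)
  have hPdeg : P.natDegree ≤ c := natDegree_le_iff_coeff_eq_zero.mpr (fun m hm => hPc m hm)
  have hPJ : HasSamuelPoly (IntMult.stalkIdeal IV ξ ⊔ IntMult.stalkIdeal IW ξ)
      (↑(X.presheaf.stalk ξ) ⧸ IntMult.stalkIdeal IW ξ) P := by
    obtain ⟨K0, hK0⟩ := hP
    refine ⟨K0, fun m hm => ?_⟩
    rw [← hK0 m hm]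
    unfold samuel
    rw [sup_pow_smul_top, hg]
  obtain ⟨D, hD⟩ := exists_supportDim_eq_natCast (A := X.presheaf.stalk ξ)
    (↑(X.presheaf.stalk ξ) ⧸ IntMult.stalkIdeal IW ξ)
  have hcD : c ≤ D := by
    have := natCast_le_ringKrullDim_quotient f IV IW n r s hn hr hs hprop ξ hξV hξW c g hg hreg
    rw [← Module.supportDim_quotient_eq_ringKrullDim, hD] at this
    exact_mod_cast this
  have hpos := factorial_mul_coeff_pos hJm hk (↑(X.presheaf.stalk ξ) ⧸ IntMult.stalkIdeal IW ξ)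
    hD hPJ (hPdeg.trans hcD)
  have hDc : D = c := by
    by_contra hne
    have hlt : c < D := lt_of_le_of_ne hcD (Ne.symm hne)
    have h0' : P.coeff D = 0 := coeff_eq_zero_of_natDegree_lt (lt_of_le_of_lt hPdeg hlt)
    rw [h0'] at hpos
    simp at hpos
  rw [hDc] at hpos
  have hlim2 := tendsto_samuel_of_natDegree_le hP hPdeg
  have hlim2' : Tendsto (fun t : ℕ => (c.factorial : ℝ) * ((Module.length (X.presheaf.stalk ξ)
      (↑(X.presheaf.stalk ξ) ⧸ (IntMult.stalkIdeal IW ξ ⊔ IntMult.stalkIdeal IV ξ ^ t))).toNat : ℝ) /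
      (t : ℝ) ^ c) atTop (𝓝 ((c.factorial : ℝ) * ((P.coeff c : ℚ) : ℝ))) := by
    refine hlim2.congr fun t => ?_
    unfold samuel cn colen
    rw [hseq t]
  have heq := tendsto_nhds_unique hlim hlim2'
  have hposR : (0 : ℝ) < (IntMult.mult IV IW ξ : ℝ) := by
    rw [heq]
    exact hpos
  exact_mod_cast hposR

end Groth.Agent.S1874
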