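import Groth.Statements.S18741
-- import your own Groth.Agent.* helpers here

set_option autoImplicit false
universe v₁ v₂ v₃ u₁ u₂ u₃
open CategoryTheory
open ModPair

namespace Groth.Agent.S18741

/-- the class of morphisms over `S` whose underlying morphism is in `W` -/
abbrev WS {C : Type u₁} [Category.{v₁} C] (W : MorphismProperty C) (S : C) :
    MorphismProperty (Over S) := W.inverseImage (Over.forget S)

instance hasRightCalc {C : Type u₁} [Category.{v₁} C] (W : MorphismProperty C) (S : C)
    [W.HasRightCalculusOfFractions] :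
    (WS W S).HasRightCalculusOfFractions where
  exists_rightFraction X Y φ := by
    let φ₀ : W.LeftFraction X.left Y.left := ⟨φ.f.left, φ.s.left, φ.hs⟩
    obtain ⟨ψ, hψ⟩ := φ₀.exists_rightFraction
    have h1 : ψ.f ≫ Y.hom = ψ.s ≫ X.hom := by
      have e1 : ψ.s ≫ φ.f.left = ψ.f ≫ φ.s.left := hψ
      rw [← Over.w φ.s, ← Over.w φ.f, ← Category.assoc, ← Category.assoc, e1]
    refine ⟨⟨(Over.homMk ψ.s rfl : Over.mk (ψ.s ≫ X.hom) ⟶ X), ψ.hs,
      Over.homMk ψ.f h1⟩, ?_⟩
    apply Over.OverMorphism.ext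
    exact hψ
  ext X Y Y' f₁ f₂ s hs h := by
    have h0 : f₁.left ≫ s.left = f₂.left ≫ s.left := by
      have := congrArg CommaMorphism.left h
      simpa using this
    obtain ⟨X', t, ht, fac⟩ :=
      MorphismProperty.HasRightCalculusOfFractions.ext f₁.left f₂.left s.left hs h0
    refine ⟨Over.mk (t ≫ X.hom), Over.homMk t rfl, ht, ?_⟩
    apply Over.OverMorphism.ext
    exact fac

/-- the underlying right fraction in `C` -/
abbrev leftFr {C : Type u₁} [Category.{v₁} C] (W : MorphismProperty C) (S : C)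
    {A B : Over S} (φ : (WS W S).RightFraction A B) : W.RightFraction A.left B.left :=
  ⟨φ.s.left, φ.hs, φ.f.left⟩

theorem key {C : Type u₁} [Category.{v₁} C] (W : MorphismProperty C) (S : C)
    {D : Type u₂} [Category.{v₂} D] (L : C ⥤ D) [L.IsLocalization W]
    {E : Type u₃} [Category.{v₃} E] (L' : Over S ⥤ E)
    [L'.IsLocalization (WS W S)]
    (Φ : E ⥤ Over (L.obj S)) (e : L' ⋙ Φ ≅ Over.post L)
    {A B : Over S} (φ : (WS W S).RightFraction A B) :
    (show L.obj A.left ⟶ L.obj B.left from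
      (e.inv.app A ≫ Φ.map (φ.map L' (Localization.inverts L' (WS W S))) ≫ e.hom.app B).left) =
      (leftFr W S φ).map L (Localization.inverts L W) := by
  have hm := φ.map_s_comp_map L' (Localization.inverts L' (WS W S))
  have h1 : (Over.post L).map φ.s ≫
      (e.inv.app A ≫ Φ.map (φ.map L' (Localization.inverts L' (WS W S))) ≫ e.hom.app B) =
      (Over.post L).map φ.f := by
    have n1 := e.inv.naturality φ.s
    have n2 := e.hom.naturality φ.f
    dsimp only [Functor.comp_map] at n1 n2
    rw [reassoc_of% n1, ← Φ.map_comp_assoc, hm, n2, Iso.inv_hom_id_app_assoc]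
  have h2 : L.map φ.s.left ≫ (show L.obj A.left ⟶ L.obj B.left from
      (e.inv.app A ≫ Φ.map (φ.map L' (Localization.inverts L' (WS W S))) ≫ e.hom.app B).left) =
      L.map φ.f.left := congrArg CommaMorphism.left h1
  have h3 := (leftFr W S φ).map_s_comp_map L (Localization.inverts L W)
  have : IsIso (L.map (leftFr W S φ).s) := Localization.inverts L W _ (leftFr W S φ).hs
  exact (cancel_epi (L.map (leftFr W S φ).s)).1 (h2.trans h3.symm)

/-- a relation between the underlying fractions lifts to the slice -/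
theorem rel_of_left {C : Type u₁} [Category.{v₁} C] (W : MorphismProperty C) (S : C)
    {A B : Over S} (φ₁ φ₂ : (WS W S).RightFraction A B)
    (h : MorphismProperty.RightFractionRel (leftFr W S φ₁) (leftFr W S φ₂)) :
    MorphismProperty.RightFractionRel φ₁ φ₂ := by
  obtain ⟨Z, t₁, t₂, hs, hf, ht⟩ := h
  have hs' : t₁ ≫ φ₁.s.left = t₂ ≫ φ₂.s.left := hs
  have hf' : t₁ ≫ φ₁.f.left = t₂ ≫ φ₂.f.left := hf
  have h2 : t₂ ≫ φ₂.X'.hom = t₁ ≫ φ₁.X'.hom := by
    rw [← Over.w φ₂.s, ← Over.w φ₁.s, ← Category.assoc, ← Category.assoc, hs']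
  refine ⟨Over.mk (t₁ ≫ φ₁.X'.hom), Over.homMk t₁ rfl, Over.homMk t₂ h2, ?_, ?_, ?_⟩
  · apply Over.OverMorphism.ext
    exact hs'
  · apply Over.OverMorphism.ext
    exact hf'
  · exact ht

theorem faithful {C : Type u₁} [Category.{v₁} C] (W : MorphismProperty C) (S : C)
    [W.HasRightCalculusOfFractions]
    {D : Type u₂} [Category.{v₂} D] (L : C ⥤ D) [L.IsLocalization W]
    {E : Type u₃} [Category.{v₃} E] (L' : Over S ⥤ E)
    [L'.IsLocalization (WS W S)]
    (Φ : E ⥤ Over (L.obj S)) (e : L' ⋙ Φ ≅ Over.post L) : Φ.Faithful where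
  map_injective {X Y} χ₁ χ₂ h := by
    have := Localization.essSurj L' (WS W S)
    let iX := L'.objObjPreimageIso X
    let iY := L'.objObjPreimageIso Y
    obtain ⟨φ₁, h₁⟩ := Localization.exists_rightFraction L' (WS W S) (iX.hom ≫ χ₁ ≫ iY.inv)
    obtain ⟨φ₂, h₂⟩ := Localization.exists_rightFraction L' (WS W S) (iX.hom ≫ χ₂ ≫ iY.inv)
    have k₁ := key W S L L' Φ e φ₁
    have k₂ := key W S L L' Φ e φ₂
    have h12 : Φ.map (φ₁.map L' (Localization.inverts L' (WS W S))) =
        Φ.map (φ₂.map L' (Localization.inverts L' (WS W S))) := by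
      rw [← h₁, ← h₂, Φ.map_comp, Φ.map_comp, Φ.map_comp, Φ.map_comp, h]
    rw [h12, k₂] at k₁
    have hrel := (MorphismProperty.RightFraction.map_eq_iff L W _ _).1 k₁.symm
    have hrel' := rel_of_left W S φ₁ φ₂ hrel
    have h3 := (MorphismProperty.RightFraction.map_eq_iff L' (WS W S) _ _).2 hrel'
    rw [← h₁, ← h₂] at h3
    have h4 := (cancel_epi iX.hom).1 h3
    exact (cancel_mono iY.inv).1 h4

theorem full {C : Type u₁} [Category.{v₁} C] (W : MorphismProperty C) (S : C)
    [W.HasRightCalculusOfFractions]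
    {D : Type u₂} [Category.{v₂} D] (L : C ⥤ D) [L.IsLocalization W]
    {E : Type u₃} [Category.{v₃} E] (L' : Over S ⥤ E)
    [L'.IsLocalization (WS W S)]
    (Φ : E ⥤ Over (L.obj S)) (e : L' ⋙ Φ ≅ Over.post L) : Φ.Full where
  map_surjective {X Y} ψ := by
    have := Localization.essSurj L' (WS W S)
    let A := L'.objPreimage X
    let B := L'.objPreimage Y
    let iX : L'.obj A ≅ X := L'.objObjPreimageIso X
    let iY : L'.obj B ≅ Y := L'.objObjPreimageIso Y
    let ψ' : Φ.obj (L'.obj A) ⟶ Φ.obj (L'.obj B) := Φ.map iX.hom ≫ ψ ≫ Φ.map iY.inv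
    let ψ'' : (Over.post L).obj A ⟶ (Over.post L).obj B := e.inv.app A ≫ ψ' ≫ e.hom.app B
    let g : L.obj A.left ⟶ L.obj B.left := ψ''.left
    have hg : g ≫ L.map B.hom = L.map A.hom := Over.w ψ''
    obtain ⟨φ₀, hφ₀⟩ := Localization.exists_rightFraction L W g
    have h0 := φ₀.map_s_comp_map L (Localization.inverts L W)
    have h1 : L.map (φ₀.f ≫ B.hom) = L.map (φ₀.s ≫ A.hom) := by
      rw [L.map_comp, L.map_comp, ← h0, Category.assoc, ← hφ₀, hg]
    obtain ⟨Z, t, ht, fac⟩ := (MorphismProperty.map_eq_iff_precomp L W _ _).1 h1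
    have fac' : (t ≫ φ₀.f) ≫ B.hom = (t ≫ φ₀.s) ≫ A.hom := by
      simpa only [Category.assoc] using fac
    let φ : (WS W S).RightFraction A B :=
      ⟨(Over.homMk (t ≫ φ₀.s) rfl : Over.mk ((t ≫ φ₀.s) ≫ A.hom) ⟶ A),
        W.comp_mem _ _ ht φ₀.hs, Over.homMk (t ≫ φ₀.f) fac'⟩
    let χ' : L'.obj A ⟶ L'.obj B := φ.map L' (Localization.inverts L' (WS W S))
    have k := key W S L L' Φ e φ
    have h2 : (leftFr W S φ).map L (Localization.inverts L W) = g := by
      have h3 := (leftFr W S φ).map_s_comp_map L (Localization.inverts L W)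
      have : IsIso (L.map (leftFr W S φ).s) := Localization.inverts L W _ (leftFr W S φ).hs
      rw [← cancel_epi (L.map (leftFr W S φ).s), h3, hφ₀]
      show L.map (t ≫ φ₀.f) = L.map (t ≫ φ₀.s) ≫ _
      rw [L.map_comp, L.map_comp, Category.assoc, h0]
    have h4 : e.inv.app A ≫ Φ.map χ' ≫ e.hom.app B = ψ'' := by
      apply Over.OverMorphism.ext
      exact k.trans h2
    have h5 : Φ.map χ' = ψ' := by
      have h6 := (cancel_epi (e.inv.app A)).1 h4
      exact (cancel_mono (e.hom.app B)).1 h6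
    refine ⟨iX.inv ≫ χ' ≫ iY.hom, ?_⟩
    rw [Φ.map_comp, Φ.map_comp, h5]
    dsimp only [ψ']
    simp only [Category.assoc, ← Φ.map_comp, Iso.inv_hom_id, Φ.map_id, Category.comp_id]
    rw [← Φ.map_comp_assoc, Iso.inv_hom_id, Φ.map_id, Category.id_comp]

theorem essSurj {C : Type u₁} [Category.{v₁} C] (W : MorphismProperty C) (S : C)
    [W.HasRightCalculusOfFractions]
    {D : Type u₂} [Category.{v₂} D] (L : C ⥤ D) [L.IsLocalization W]
    {E : Type u₃} [Category.{v₃} E] (L' : Over S ⥤ E)
    (Φ : E ⥤ Over (L.obj S)) (e : L' ⋙ Φ ≅ Over.post L) : Φ.EssSurj where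
  mem_essImage Y := by
    have := Localization.essSurj L W
    let X := L.objPreimage Y.left
    let i : L.obj X ≅ Y.left := L.objObjPreimageIso Y.left
    obtain ⟨φ₀, hφ₀⟩ := Localization.exists_rightFraction L W (i.hom ≫ Y.hom)
    have h0 := φ₀.map_s_comp_map L (Localization.inverts L W)
    let A : Over S := Over.mk φ₀.f
    have hw : ((Localization.isoOfHom L W φ₀.s φ₀.hs) ≪≫ i).hom ≫ Y.hom = L.map φ₀.f := by
      rw [Iso.trans_hom, Category.assoc, hφ₀, Localization.isoOfHom_hom, h0]
    let j : (Over.post L).obj A ≅ Y :=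
      Over.isoMk ((Localization.isoOfHom L W φ₀.s φ₀.hs) ≪≫ i) hw
    exact ⟨L'.obj A, ⟨e.app A ≪≫ j⟩⟩


/-- Let C be a category, W a class of morphisms of C admitting a calculus of right fractions, and S an
object of C; let W_S be the class of morphisms of the slice category over S whose underlying
morphism lies in W. Then the canonical functor from the localization of the slice category C/S at
W_S to the slice category over S of the localization of C at W is an equivalence: for every
localization functor L : C ⥤ D at W, every localization functor L' : C/S ⥤ E at W_S, and every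
functor Φ : E ⥤ D/L(S) through which the functor C/S ⥤ D/L(S) induced by L factors up to
isomorphism, Φ is an equivalence of categories. -/
theorem result {C : Type u₁}
    [Category.{v₁} C] (W : MorphismProperty C) [W.HasRightCalculusOfFractions] (S : C)
    {D : Type u₂} [Category.{v₂} D] (L : C ⥤ D) [L.IsLocalization W]
    {E : Type u₃} [Category.{v₃} E] (L' : Over S ⥤ E)
    [L'.IsLocalization (W.inverseImage (Over.forget S))]
    (Φ : E ⥤ Over (L.obj S)) (e : L' ⋙ Φ ≅ Over.post L) : Φ.IsEquivalence := by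
  have h1 := faithful W S L L' Φ e
  have h2 := full W S L L' Φ e
  have h3 := essSurj W S L L' Φ e
  exact { faithful := h1, full := h2, essSurj := h3 }

end Groth.Agent.S18741
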