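import Groth.Statements.S18743
import Mathlib
import Groth.Agent.H94.ModPairLib

set_option autoImplicit false
universe u
open CategoryTheory CategoryTheory.Limits AlgebraicGeometry TopologicalSpace
open ModPair

namespace Groth.Agent.S18743

open Groth.Agent.H94.EffCartierDense Groth.Agent.H94.ModPairLib

theorem dominant_of_eq {P : Scheme.{u}} (A B : P.Opens) (h : A = B)
    [IsSchemeTheoreticallyDominant A.ι] : IsSchemeTheoreticallyDominant B.ι := by
  subst h; infer_instance

theorem main {S T X : Scheme.{u}} (IS : S.IdealSheafData)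
    (IT : T.IdealSheafData) (IX : X.IdealSheafData) (hS : BlowUp.IsEffCartierIdeal IS)
    (hT : BlowUp.IsEffCartierIdeal IT) (hX : BlowUp.IsEffCartierIdeal IX)
    (p : X ⟶ S) (hp : ModPair.IsAmbient IX IS p) (f : T ⟶ S) (hf : ModPair.IsMinimal IT IS f) [Flat f] :
    IsSchemeTheoreticallyDominant (ModPair.prodInterior p f IX IT).ι ∧
      IsIso (ModPair.mprodι p f IX IT) ∧
      BlowUp.IsEffCartierIdeal (IX.comap (pullback.fst p f)) := by
  have hf' : IT = IS.comap f := hf
  subst hf'
  haveI := isAffineHom_interior_ι IX hX
  haveI := dominant_interior_ι IX hX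
  haveI hdom : IsSchemeTheoreticallyDominant ((pullback.fst p f) ⁻¹ᵁ ModPair.interior IX).ι :=
    IsSchemeTheoreticallyDominant.of_isPullback
      (isPullback_morphismRestrict (pullback.fst p f) (ModPair.interior IX))
  have hXS : ModPair.interior IX ≤ p ⁻¹ᵁ ModPair.interior IS :=
    interior_le_preimage_of_isAmbient IX IS p hp
  have hW₀eq : (pullback.fst p f) ⁻¹ᵁ ModPair.interior IX =
      ModPair.prodInterior p f IX (IS.comap f) := by
    apply le_antisymm _ inf_le_left
    intro z hz
    refine ⟨hz, ?_⟩
    show (pullback.snd p f) z ∈ ModPair.interior (IS.comap f)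
    rw [interior_comap]
    show f ((pullback.snd p f) z) ∈ ModPair.interior IS
    rw [← Scheme.Hom.comp_apply, ← pullback.condition, Scheme.Hom.comp_apply]
    exact hXS hz
  haveI h1 : IsSchemeTheoreticallyDominant (ModPair.prodInterior p f IX (IS.comap f)).ι :=
    dominant_of_eq _ _ hW₀eq
  exact ⟨h1, isIso_imageι_of_dominant _, (Groth.Agent.S18732.main IX hX (pullback.fst p f)).2⟩

/-- Let (S, I_S), (T, I_T), (X, I_X) be schemes equipped with quasi-coherent ideal sheaves of effective
Cartier divisors, p : X ⟶ S a morphism with the modulus condition I_X ≤ I_S.comap p, and f : T ⟶ S a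
minimal morphism (I_T = I_S.comap f) which is flat. Then the ambient product of (T, I_T) and (X,
I_X) over (S, I_S) has total space all of X ×_S T with modulus pulled back from X: the open
pr₁⁻¹(X°) ∩ pr₂⁻¹(T°) (X°, T° the complements of the supports) is scheme-theoretically dominant in X
×_S T, the closed immersion of its scheme-theoretic image is an isomorphism, and I_X.comap pr₁ is
the ideal sheaf of an effective Cartier divisor. -/
theorem result {S T X : Scheme.{u}} (IS : S.IdealSheafData)
    (IT : T.IdealSheafData) (IX : X.IdealSheafData) (hS : BlowUp.IsEffCartierIdeal IS)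
    (hT : BlowUp.IsEffCartierIdeal IT) (hX : BlowUp.IsEffCartierIdeal IX)
    (p : X ⟶ S) (hp : ModPair.IsAmbient IX IS p) (f : T ⟶ S) (hf : ModPair.IsMinimal IT IS f) [Flat f] :
    IsSchemeTheoreticallyDominant (ModPair.prodInterior p f IX IT).ι ∧
      IsIso (ModPair.mprodι p f IX IT) ∧
      BlowUp.IsEffCartierIdeal (IX.comap (pullback.fst p f)) := by
  exact main IS IT IX hS hT hX p hp f hf

end Groth.Agent.S18743
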