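import Groth.Statements.S19341
import Mathlib
import Groth.Agent.H94.ModPairLib

set_option autoImplicit false
universe u
open CategoryTheory CategoryTheory.Limits AlgebraicGeometry TopologicalSpace
open ModPair

namespace Groth.Agent.S19341

open Groth.Agent.H94.EffCartierDense Groth.Agent.H94.ModPairLib

/-- The complement of the union of two effective Cartier divisors is schematically dense. -/
theorem dominant_inf_compl {P : Scheme.{u}} (A B : P.IdealSheafData)
    (hA : BlowUp.IsEffCartierIdeal A) (hB : BlowUp.IsEffCartierIdeal B) :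
    IsSchemeTheoreticallyDominant
      (Scheme.Opens.ι (X := P) (A.support.compl ⊓ B.support.compl)) := by
  apply schDom_of_affine_cover
  intro z
  obtain ⟨V, hzV, -, ⟨a, ha, hAa⟩, ⟨b, hb, hBb⟩⟩ :=
    Groth.Agent.H9.exists_affine_isPrincipalNZD₂ hA hB ⊤ z trivial
  refine ⟨V, hzV, ?_⟩
  have heq : P.basicOpen (a * b) = V.1 ⊓ (A.support.compl ⊓ B.support.compl) := by
    rw [Scheme.basicOpen_mul, ← compl_inf_eq_basicOpen A V a hAa, ← compl_inf_eq_basicOpen B V b hBb]
    ext x
    simp only [Opens.coe_inf, Set.mem_inter_iff, SetLike.mem_coe]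
    tauto
  refine Groth.Agent.S5434.inj_transport heq (P.basicOpen_le (a * b)) _ ?_
  haveI := V.2.isLocalization_basicOpen (a * b)
  exact IsLocalization.injective (M := Submonoid.powers (a * b)) Γ(P, P.basicOpen (a * b))
    (Submonoid.powers_le.2 (mul_mem ha hb))

theorem isEffCartier_of_le_of_locally_principal {P : Scheme.{u}} (J K : P.IdealSheafData)
    (hJK : J ≤ K) (hJ : BlowUp.IsEffCartierIdeal J)
    (hK : ∀ z : P, ∃ W : P.Opens, z ∈ W ∧ ∀ V : P.affineOpens, V.1 ≤ W →
      ∃ k : Γ(P, V.1), K.ideal V = Ideal.span {k}) : BlowUp.IsEffCartierIdeal K := by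
  intro z
  obtain ⟨W, hzW, hW⟩ := hK z
  obtain ⟨V, hzV, hVW, t, ht, hJt⟩ := Groth.Agent.H9.exists_affine_isPrincipalNZD hJ W z hzW
  obtain ⟨k, hk⟩ := hW V hVW
  refine ⟨V, hzV, k, ?_, hk⟩
  have h1 : t ∈ K.ideal V := by
    apply (Scheme.IdealSheafData.le_def.1 hJK) V
    rw [hJt]
    exact Ideal.mem_span_singleton_self t
  rw [hk, Ideal.mem_span_singleton'] at h1
  obtain ⟨c, hc⟩ := h1
  rw [mem_nonZeroDivisors_iff_right]
  intro y hy
  apply (mem_nonZeroDivisors_iff_right.1 ht) y
  rw [← hc, mul_comm c k, ← mul_assoc, hy, zero_mul]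

theorem comap_locally_principal {P S : Scheme.{u}} (I : S.IdealSheafData)
    (hI : BlowUp.IsEffCartierIdeal I) (φ : P ⟶ S) (z : P) :
    ∃ W : P.Opens, z ∈ W ∧ ∀ V : P.affineOpens, V.1 ≤ W →
      ∃ k : Γ(P, V.1), (I.comap φ).ideal V = Ideal.span {k} := by
  obtain ⟨VS, hzVS, -, s, -, hs⟩ := Groth.Agent.H9.exists_affine_isPrincipalNZD hI ⊤ (φ z) trivial
  refine ⟨φ ⁻¹ᵁ VS.1, hzVS, fun V hV => ⟨(φ.appLE VS.1 V.1 hV).hom s, ?_⟩⟩
  rw [Groth.Agent.H9.comap_ideal φ I VS V hV, hs, Ideal.map_span, Set.image_singleton]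

theorem main {X T S : Scheme.{u}}
    (IS : S.IdealSheafData) (IX : X.IdealSheafData) (IT : T.IdealSheafData)
    (hS : BlowUp.IsEffCartierIdeal IS) (hX : BlowUp.IsEffCartierIdeal IX)
    (hT : BlowUp.IsEffCartierIdeal IT) (f : X ⟶ S) (g : T ⟶ S)
    (hf : ModPair.IsAmbient IX IS f) (hg : ModPair.IsAmbient IT IS g)
    (h₁ : BlowUp.IsEffCartierIdeal (IX.comap (pullback.fst f g)))
    (h₂ : BlowUp.IsEffCartierIdeal (IT.comap (pullback.snd f g))) :
    BlowUp.IsEffCartierIdeal (IS.comap (pullback.fst f g ≫ f)) ∧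
      IsIso (ModPair.mprodι f g IX IT) := by
  constructor
  · apply isEffCartier_of_le_of_locally_principal (IX.comap (pullback.fst f g)) _ ?_ h₁
      (comap_locally_principal IS hS _)
    rw [Scheme.IdealSheafData.comap_comp]
    have h2 := Scheme.IdealSheafData.comap_mono (pullback.fst f g) hf
    exact h2
  · have heq : (IX.comap (pullback.fst f g)).support.compl ⊓
        (IT.comap (pullback.snd f g)).support.compl = ModPair.prodInterior f g IX IT := by
      have e1 := interior_comap IX (pullback.fst f g)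
      have e2 := interior_comap IT (pullback.snd f g)
      unfold ModPair.interior at e1 e2
      rw [e1, e2]
      rfl
    haveI := dominant_inf_compl _ _ h₁ h₂
    haveI : IsSchemeTheoreticallyDominant (ModPair.prodInterior f g IX IT).ι := by
      rw [← heq]; infer_instance
    exact isIso_imageι_of_dominant _

/-- Let (S, I_S), (X, I_X), (T, I_T) be modulus pairs, i.e. schemes with quasi-coherent ideal sheaves of
effective Cartier divisors, and f : X ⟶ S, g : T ⟶ S morphisms satisfying the modulus conditions I_X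
≤ I_S.comap f and I_T ≤ I_S.comap g. Suppose that the pulled-back ideals I_X.comap pr₁ and I_T.comap
pr₂ on X ×_S T are again ideal sheaves of effective Cartier divisors. Then the pulled-back base
modulus I_S.comap (pr₁ ≫ f) is also the ideal sheaf of an effective Cartier divisor, and the
scheme-theoretic closure of pr₁⁻¹(X°) ∩ pr₂⁻¹(T°) is all of X ×_S T: its closed immersion into X ×_S
T is an isomorphism. Consequently the box product of (X, I_X) and (T, I_T) over (S, I_S) has total
space X ×_S T with modulus D_X + D_T − D_S. -/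
theorem result {X T S : Scheme.{u}}
    (IS : S.IdealSheafData) (IX : X.IdealSheafData) (IT : T.IdealSheafData)
    (hS : BlowUp.IsEffCartierIdeal IS) (hX : BlowUp.IsEffCartierIdeal IX)
    (hT : BlowUp.IsEffCartierIdeal IT) (f : X ⟶ S) (g : T ⟶ S)
    (hf : ModPair.IsAmbient IX IS f) (hg : ModPair.IsAmbient IT IS g)
    (h₁ : BlowUp.IsEffCartierIdeal (IX.comap (pullback.fst f g)))
    (h₂ : BlowUp.IsEffCartierIdeal (IT.comap (pullback.snd f g))) :
    BlowUp.IsEffCartierIdeal (IS.comap (pullback.fst f g ≫ f)) ∧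
      IsIso (ModPair.mprodι f g IX IT) := by
  exact main IS IX IT hS hX hT f g hf hg h₁ h₂

end Groth.Agent.S19341
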