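import Groth.Statements.S19329
import Mathlib
import Groth.Agent.S19341
import Groth.Agent.H9.EffCartier
import Groth.Agent.H9.ComapIdeal

set_option autoImplicit false
universe u
open CategoryTheory CategoryTheory.Limits AlgebraicGeometry TopologicalSpace
open ModPair

namespace Groth.Agent.S19329

open AlgebraicGeometry CategoryTheory Limits TopologicalSpace

theorem isUnit_of_span_eq {B : Type*} [CommRing B] (a c : B) (hnzd : a * c ∈ nonZeroDivisors B)
    (h : Ideal.span {a * c} = Ideal.span {c}) : IsUnit a := by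
  have hc : c ∈ Ideal.span {a * c} := by rw [h]; exact Ideal.mem_span_singleton_self c
  obtain ⟨w, hw⟩ := Ideal.mem_span_singleton'.mp hc
  have h1 : (a * c) * (w * a - 1) = 0 := by
    have : w * (a * c) = c := hw
    calc (a * c) * (w * a - 1) = a * (w * (a * c)) - a * c := by ring
      _ = a * c - a * c := by rw [this]
      _ = 0 := sub_self _
  have h2 : w * a - 1 = 0 := (mem_nonZeroDivisors_iff.mp hnzd).1 _ h1
  exact IsUnit.of_mul_eq_one w (by rw [mul_comm]; exact sub_eq_zero.mp h2)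

/-- comap of an effective Cartier ideal along an open immersion is effective Cartier. -/
theorem isEffCartier_comap_of_isOpenImmersion {U' Y : Scheme.{u}} (j : U' ⟶ Y) [IsOpenImmersion j]
    (J : Y.IdealSheafData) (hJ : BlowUp.IsEffCartierIdeal J) :
    BlowUp.IsEffCartierIdeal (J.comap j) := by
  intro x
  obtain ⟨V, hxV, hVr, t, ht, hJt⟩ :=
    Groth.Agent.H9.exists_affine_isPrincipalNZD hJ j.opensRange (j x) ⟨x, rfl⟩
  have hV' : IsAffineOpen (j ⁻¹ᵁ V.1) := by
    rw [← j.isAffineOpen_iff_of_isOpenImmersion, j.image_preimage_eq_opensRange_inf,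
      inf_eq_right.mpr hVr]
    exact V.2
  haveI : IsIso (j.app V.1) := j.isIso_app V.1 hVr
  have hbij : Function.Bijective (j.app V.1).hom := ConcreteCategory.bijective_of_isIso (j.app V.1)
  have happ : (j.appLE V.1 (j ⁻¹ᵁ V.1) le_rfl) = j.app V.1 := by
    simp [Scheme.Hom.appLE]
  refine ⟨⟨j ⁻¹ᵁ V.1, hV'⟩, hxV, (j.app V.1).hom t, ?_, ?_⟩
  · rw [mem_nonZeroDivisors_iff]
    have key : ∀ z, (j.app V.1).hom t * z = 0 → z = 0 := by
      intro z hz
      obtain ⟨z', rfl⟩ := hbij.2 z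
      rw [← map_mul] at hz
      have : t * z' = 0 := hbij.1 (by rw [hz, map_zero])
      rw [(mem_nonZeroDivisors_iff.mp ht).1 z' this, map_zero]
    exact ⟨key, fun z hz => key z (by rw [mul_comm]; exact hz)⟩
  · rw [Groth.Agent.H9.comap_ideal j J V ⟨_, hV'⟩ le_rfl, hJt, Ideal.map_span, Set.image_singleton,
      happ]


/-- Lemma L. -/
theorem mem_basicOpen_of_comap_eq {X Y : Scheme.{u}} (J K' : Y.IdealSheafData)
    (V : Y.affineOpens) (t c a : Γ(Y, V.1)) (hJ : J.ideal V = Ideal.span {t})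
    (hK : K'.ideal V = Ideal.span {c}) (htac : t = a * c)
    (f : X ⟶ Y) (hcomap : J.comap f = K'.comap f) (hI' : BlowUp.IsEffCartierIdeal (J.comap f))
    (x : X) (hx : f x ∈ V.1) : f x ∈ Y.basicOpen a := by
  obtain ⟨V', hxV', hV'le, s, hs, hIs⟩ :=
    Groth.Agent.H9.exists_affine_isPrincipalNZD hI' (f ⁻¹ᵁ V.1) x hx
  set φ := (f.appLE V.1 V'.1 hV'le).hom with hφ
  have h1 : (J.comap f).ideal V' = Ideal.span {φ t} := by
    rw [Groth.Agent.H9.comap_ideal f J V V' hV'le, hJ, Ideal.map_span, Set.image_singleton]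
  have h2 : (K'.comap f).ideal V' = Ideal.span {φ c} := by
    rw [Groth.Agent.H9.comap_ideal f K' V V' hV'le, hK, Ideal.map_span, Set.image_singleton]
  have h3 : Ideal.span {φ a * φ c} = Ideal.span {φ c} := by
    rw [← map_mul, ← htac, ← h1, ← h2, hcomap]
  have h4 : φ a * φ c ∈ nonZeroDivisors Γ(X, V'.1) := by
    rw [← map_mul, ← htac]
    -- span {φ t} = span {s}, s nzd
    have h5 : Ideal.span {φ t} = Ideal.span {s} := by rw [← h1, hIs]
    have hs' : s ∈ Ideal.span {φ t} := by rw [h5]; exact Ideal.mem_span_singleton_self s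
    obtain ⟨v, hv⟩ := Ideal.mem_span_singleton'.mp hs'
    rw [mem_nonZeroDivisors_iff]
    have key : ∀ z, φ t * z = 0 → z = 0 := by
      intro z hz
      have : s * z = 0 := by rw [← hv, mul_assoc, hz, mul_zero]
      exact (mem_nonZeroDivisors_iff.mp hs).1 z this
    exact ⟨key, fun z hz => key z (by rw [mul_comm]; exact hz)⟩
  have hunit : IsUnit (φ a) := isUnit_of_span_eq (φ a) (φ c) h4 h3
  have hxb : x ∈ X.basicOpen (φ a) := by
    rw [X.basicOpen_of_isUnit hunit]; exact hxV'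
  have hφa : φ a = (X.presheaf.map (homOfLE hV'le).op).hom ((f.app V.1).hom a) := rfl
  rw [hφa, Scheme.basicOpen_res, ← Scheme.preimage_basicOpen] at hxb
  exact hxb.2

/-- on the basic open of `a` the two ideals agree. -/
theorem ideal_basicOpen_eq {Y : Scheme.{u}} (J K' : Y.IdealSheafData)
    (V : Y.affineOpens) (t c a : Γ(Y, V.1)) (hJ : J.ideal V = Ideal.span {t})
    (hK : K'.ideal V = Ideal.span {c}) (htac : t = a * c) :
    J.ideal (Y.affineBasicOpen a) = K'.ideal (Y.affineBasicOpen a) := by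
  rw [← J.map_ideal_basicOpen V a, ← K'.map_ideal_basicOpen V a, hJ, hK, Ideal.map_span,
    Ideal.map_span, Set.image_singleton, Set.image_singleton, htac, map_mul]
  have hu : IsUnit ((Y.presheaf.map (homOfLE (Y.basicOpen_le a)).op).hom a) :=
    RingedSpace.isUnit_res_basicOpen Y.toRingedSpace a
  exact Ideal.span_singleton_mul_left_unit hu _

/-- Claim 1: equality of comaps to an open covered by affines where the ideals agree. -/
theorem comap_ι_eq_of_cover {Y : Scheme.{u}} (A B : Y.IdealSheafData) (U : Y.Opens)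
    (hU : ∀ y ∈ U, ∃ W : Y.affineOpens, y ∈ W.1 ∧ W.1 ≤ U ∧ A.ideal W = B.ideal W) :
    A.comap U.ι = B.comap U.ι := by
  have haff : ∀ W : Y.affineOpens, W.1 ≤ U → IsAffineOpen (U.ι ⁻¹ᵁ W.1) := by
    intro W hW
    rw [← U.ι.isAffineOpen_iff_of_isOpenImmersion, U.ι.image_preimage_eq_opensRange_inf,
      Scheme.Opens.opensRange_ι, inf_eq_right.mpr hW]
    exact W.2
  refine Scheme.IdealSheafData.ext_of_iSup_eq_top
    (ι := {W : Y.affineOpens // W.1 ≤ U ∧ A.ideal W = B.ideal W})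
    (fun W => ⟨U.ι ⁻¹ᵁ W.1.1, haff W.1 W.2.1⟩) ?_ ?_
  · rw [eq_top_iff]
    intro y _
    obtain ⟨W, hyW, hWU, hAB⟩ := hU y.1 y.2
    exact TopologicalSpace.Opens.mem_iSup.mpr ⟨⟨W, hWU, hAB⟩, hyW⟩
  · rintro ⟨W, hWU, hAB⟩
    have e1 := Groth.Agent.H9.comap_ideal U.ι A W ⟨_, haff W hWU⟩ le_rfl
    have e2 := Groth.Agent.H9.comap_ideal U.ι B W ⟨_, haff W hWU⟩ le_rfl
    exact e1.trans ((congrArg _ hAB).trans e2.symm)


theorem main {X Y Z : Scheme.{u}}
    (I : X.IdealSheafData) (J : Y.IdealSheafData) (K : Z.IdealSheafData)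
    (hI : BlowUp.IsEffCartierIdeal I) (hJ : BlowUp.IsEffCartierIdeal J)
    (hK : BlowUp.IsEffCartierIdeal K) (f : X ⟶ Y) (g : Y ⟶ Z)
    (hf : ModPair.IsAmbient I J f) (hg : ModPair.IsAmbient J K g)
    (hfg : ModPair.IsMinimal I K (f ≫ g)) :
    ModPair.IsMinimal I J f ∧
      ∃ U : Y.Opens, QuasiCompact U.ι ∧ Set.range f.base ⊆ (U : Set Y) ∧
        ModPair.IsMinimal (J.comap U.ι) K (U.ι ≫ g) := by
  set K' := K.comap g with hK'
  have hJK' : J ≤ K' := hg
  have hI1 : I = K'.comap f := by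
    have h : I = K.comap (f ≫ g) := hfg
    rw [h, hK']
    exact Scheme.IdealSheafData.comap_comp K f g
  have hmin : I = J.comap f := by
    refine le_antisymm hf ?_
    rw [hI1]
    have h2 := Scheme.IdealSheafData.comap_mono f hJK'
    exact h2
  have hloc : ∀ y : Y, ∃ (V : Y.affineOpens) (t c a : Γ(Y, V.1)), y ∈ V.1 ∧
      J.ideal V = Ideal.span {t} ∧ K'.ideal V = Ideal.span {c} ∧ t = a * c := by
    intro y
    obtain ⟨W₀, hyW₀, hW₀⟩ := Groth.Agent.S19341.comap_locally_principal K hK g y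
    obtain ⟨V, hyV, hVW, t, ht, hJt⟩ := Groth.Agent.H9.exists_affine_isPrincipalNZD hJ W₀ y hyW₀
    obtain ⟨c, hc⟩ := hW₀ V hVW
    have htc : t ∈ Ideal.span {c} := by
      rw [← hc]
      exact hJK' V (by rw [hJt]; exact Ideal.mem_span_singleton_self t)
    obtain ⟨a, ha⟩ := Ideal.mem_span_singleton'.mp htc
    exact ⟨V, t, c, a, hyV, hJt, hc, ha.symm⟩
  let U : Y.Opens := ⨆ (W : {W : Y.affineOpens // J.ideal W = K'.ideal W}), W.1.1
  have hUmem : ∀ (V : Y.affineOpens) (t c a : Γ(Y, V.1)), J.ideal V = Ideal.span {t} →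
      K'.ideal V = Ideal.span {c} → t = a * c → Y.basicOpen a ≤ U :=
    fun V t c a hJt hc htac =>
      le_iSup (fun W : {W : Y.affineOpens // J.ideal W = K'.ideal W} => W.1.1)
        ⟨Y.affineBasicOpen a, ideal_basicOpen_eq J K' V t c a hJt hc htac⟩
  have hcomapU : J.comap U.ι = K'.comap U.ι := comap_ι_eq_of_cover J K' U (fun y hy => by
    obtain ⟨⟨W, hW⟩, hyW⟩ := TopologicalSpace.Opens.mem_iSup.mp hy
    exact ⟨W, hyW,
      le_iSup (fun W : {W : Y.affineOpens // J.ideal W = K'.ideal W} => W.1.1) ⟨W, hW⟩, hW⟩)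
  have hUV : ∀ (V : Y.affineOpens) (t c a : Γ(Y, V.1)), J.ideal V = Ideal.span {t} →
      K'.ideal V = Ideal.span {c} → t = a * c → U ⊓ V.1 = Y.basicOpen a := by
    intro V t c a hJt hc htac
    apply le_antisymm
    · rintro z ⟨hzU, hzV⟩
      exact mem_basicOpen_of_comap_eq J K' V t c a hJt hc htac U.ι hcomapU
        (isEffCartier_comap_of_isOpenImmersion U.ι J hJ) ⟨z, hzU⟩ hzV
    · exact le_inf (hUmem V t c a hJt hc htac) (Y.basicOpen_le a)
  refine ⟨hmin, U, ?_, ?_, ?_⟩
  · haveI : IsAffineHom U.ι := by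
      apply isAffineHom_of_forall_exists_isAffineOpen
      intro y
      obtain ⟨V, t, c, a, hyV, hJt, hc, htac⟩ := hloc y
      refine ⟨V.1, hyV, V.2, ?_⟩
      rw [← U.ι.isAffineOpen_iff_of_isOpenImmersion, U.ι.image_preimage_eq_opensRange_inf,
        Scheme.Opens.opensRange_ι, hUV V t c a hJt hc htac]
      exact V.2.basicOpen a
    infer_instance
  · rintro _ ⟨x, rfl⟩
    obtain ⟨V, t, c, a, hyV, hJt, hc, htac⟩ := hloc (f x)
    have hcomapf : J.comap f = K'.comap f := by rw [← hmin, ← hI1]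
    have hI' : BlowUp.IsEffCartierIdeal (J.comap f) := hmin ▸ hI
    exact hUmem V t c a hJt hc htac
      (mem_basicOpen_of_comap_eq J K' V t c a hJt hc htac f hcomapf hI' x hyV)
  · show J.comap U.ι = K.comap (U.ι ≫ g)
    rw [Scheme.IdealSheafData.comap_comp]
    exact hcomapU


/-- Let (X, I), (Y, J), (Z, K) be modulus pairs, i.e. schemes with quasi-coherent ideal sheaves of
effective Cartier divisors, and let f : X ⟶ Y and g : Y ⟶ Z satisfy the modulus conditions I ≤
J.comap f and J ≤ K.comap g. Suppose the composite X ⟶ Z is minimal, I = K.comap (f ≫ g). Then f is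
minimal, and there is an open subset U of Y whose inclusion is quasi-compact, which contains the
image of f, and such that U ⟶ Z is minimal for the modulus of Y restricted to U. -/
theorem result {X Y Z : Scheme.{u}}
    (I : X.IdealSheafData) (J : Y.IdealSheafData) (K : Z.IdealSheafData)
    (hI : BlowUp.IsEffCartierIdeal I) (hJ : BlowUp.IsEffCartierIdeal J)
    (hK : BlowUp.IsEffCartierIdeal K) (f : X ⟶ Y) (g : Y ⟶ Z)
    (hf : ModPair.IsAmbient I J f) (hg : ModPair.IsAmbient J K g)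
    (hfg : ModPair.IsMinimal I K (f ≫ g)) :
    ModPair.IsMinimal I J f ∧
      ∃ U : Y.Opens, QuasiCompact U.ι ∧ Set.range f.base ⊆ (U : Set Y) ∧
        ModPair.IsMinimal (J.comap U.ι) K (U.ι ≫ g) := by
  exact main I J K hI hJ hK f g hf hg hfg

end Groth.Agent.S19329
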