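import Groth.Statements.S18744
import Groth.Agent.H94.LimitIdeal
import Groth.Agent.H9.EffCartier
import Groth.Agent.S19329

set_option autoImplicit false
universe u
open CategoryTheory CategoryTheory.Limits AlgebraicGeometry TopologicalSpace
open ModPair

namespace Groth.Agent.S18744

open Groth.Agent.H94.LimitIdeal

lemma nzd_of_span {X : Scheme.{u}} (I : X.IdealSheafData) (hI : BlowUp.IsEffCartierIdeal I)
    (V : X.affineOpens) (g : Γ(X, V.1)) (hg : I.ideal V = Ideal.span {g}) :
    g ∈ nonZeroDivisors Γ(X, V.1) := by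
  rw [mem_nonZeroDivisors_iff_right]
  intro s hs
  refine X.IsSheaf.section_ext fun x hx ↦ ?_
  obtain ⟨W, hxW, hWV, t, ht, hIt⟩ := Groth.Agent.H9.exists_affine_isPrincipalNZD hI V.1 x hx
  refine ⟨W.1, hWV, hxW, ?_⟩
  have hWV' : W ≤ V := hWV
  set res := (X.presheaf.map (homOfLE hWV).op).hom with hres
  have h1 : I.ideal W = Ideal.span {res g} := by
    rw [← I.map_ideal hWV', hg, Ideal.map_span, Set.image_singleton]
    rfl
  rw [hIt] at h1
  have h2 : t ∈ Ideal.span {res g} := by rw [← h1]; exact Ideal.mem_span_singleton_self t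
  obtain ⟨c', hc'⟩ := Ideal.mem_span_singleton'.mp h2
  have h3 : res s * res g = 0 := by rw [← map_mul, hs, map_zero]
  have h4 : res s * t = 0 := by
    rw [← hc']
    calc res s * (c' * res g) = c' * (res s * res g) := by ring
      _ = 0 := by rw [h3, mul_zero]
  have h5 : res s = 0 := (mem_nonZeroDivisors_iff_right.mp ht) _ h4
  simpa using h5

section affine
variable {K : Type u} [Category.{u} K] [IsCofiltered K] (P : K ⥤ Scheme.{u})
  (c : Cone P) (hc : IsLimit c) [∀ k, IsAffine (P.obj k)]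

include hc in
lemma affine_nzd (k0 : K) (a : Γ(P.obj k0, ⊤))
    (hnz : ∀ (k : K) (u : k ⟶ k0), (P.map u).appTop a ∈ nonZeroDivisors Γ(P.obj k, ⊤)) :
    pr P c k0 a ∈ nonZeroDivisors Γ(c.pt, ⊤) := by
  rw [mem_nonZeroDivisors_iff_right]
  intro s hs
  obtain ⟨k1, s1, hs1⟩ := exists_appTop_π_eq_of_isAffine_of_isLimit P c hc s
  replace hs1 : pr P c k1 s1 = s := hs1
  let k2 := IsCofiltered.min k0 k1
  let u0 : k2 ⟶ k0 := IsCofiltered.minToLeft k0 k1
  let u1 : k2 ⟶ k1 := IsCofiltered.minToRight k0 k1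
  let e : Γ(P.obj k2, ⊤) := (P.map u1).appTop s1 * (P.map u0).appTop a
  have he : (c.π.app k2).appTop e = 0 := by
    change pr P c k2 e = 0
    simp only [e, map_mul, pr_map, hs1, hs]
  obtain ⟨k3, v, hv⟩ := exists_appTop_map_eq_zero_of_isAffine_of_isLimit P c hc k2 e he
  have h0 : (P.map v).appTop ((P.map u0).appTop a) = (P.map (v ≫ u0)).appTop a := by
    rw [← ConcreteCategory.comp_apply, ← Scheme.Hom.comp_appTop, ← P.map_comp]
  simp only [e, map_mul, h0] at hv
  have h5 := (mem_nonZeroDivisors_iff_right.mp (hnz k3 (v ≫ u0))) _ hv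
  rw [← hs1, ← pr_map P c (v ≫ u1), P.map_comp, Scheme.Hom.comp_appTop]
  change pr P c k3 ((P.map v).appTop ((P.map u1).appTop s1)) = 0
  rw [h5, map_zero]

end affine


set_option backward.isDefEq.respectTransparency false in
theorem main {I : Type u}
    [SmallCategory I] [IsCofiltered I] (D : I ⥤ Scheme.{u}) (c : Cone D) (hc : IsLimit c)
    [∀ (i j : I) (t : i ⟶ j), IsAffineHom (D.map t)]
    (J : ∀ i, (D.obj i).IdealSheafData) (hJ : ∀ i, BlowUp.IsEffCartierIdeal (J i))
    (hmin : ∀ (i j : I) (t : i ⟶ j), ModPair.IsMinimal (J i) (J j) (D.map t)) (i : I) :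
    BlowUp.IsEffCartierIdeal ((J i).comap (c.π.app i)) := by
  have haffT : ∀ {i j : I} (f : i ⟶ j), IsAffineHom (D.map f) := fun f => inferInstance
  intro x
  obtain ⟨U, hxU, f, hf, hJf⟩ := hJ i ((c.π.app i) x)
  have haffπ : IsAffineHom (c.π.app i) := isAffineHom_π_app D c hc i
  let W : c.pt.affineOpens := ⟨c.π.app i ⁻¹ᵁ U.1, U.2.preimage (c.π.app i)⟩
  refine ⟨W, hxU, ((c.π.app i).appLE U.1 W.1 le_rfl).hom f, ?_, ?_⟩
  swap
  · rw [Groth.Agent.H9.comap_ideal (c.π.app i) (J i) U W le_rfl, hJf, Ideal.map_span,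
      Set.image_singleton]
  -- nonzerodivisor
  have hlim := isLimitOpensCone D c hc i U.1
  have haff : IsAffine (opensCone D c i U.1).pt := Scheme.isAffine_of_isLimit _ hlim
  have einf : (⊤ : (opensCone D c i U.1).pt.Opens) ≤ ginf D c i U ⁻¹ᵁ U.1 := by
    intro x _; exact x.2
  let top : Over i := Over.mk (𝟙 i)
  -- each stage is a nonzerodivisor
  have hstage : ∀ k : Over i, ((gmap D i U k).appLE U.1 ⊤ (gmap_le D i U k)).hom f ∈
      nonZeroDivisors Γ((opensDiagram D i U.1).obj k, ⊤) := by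
    intro k
    have hEC : BlowUp.IsEffCartierIdeal ((J i).comap (gmap D i U k)) := by
      rw [gmap, Scheme.IdealSheafData.comap_comp, ← hmin k.left i k.hom]
      exact Groth.Agent.S19329.isEffCartier_comap_of_isOpenImmersion _ _ (hJ k.left)
    exact nzd_of_span _ hEC ⟨⊤, isAffineOpen_top _⟩ _
      (comap_ideal_top _ (J i) U (gmap_le D i U k) f hJf)
  have hnz := affine_nzd (opensDiagram D i U.1) (opensCone D c i U.1) hlim top
    (((gmap D i U top).appLE U.1 ⊤ (gmap_le D i U top)).hom f) (by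
      intro k u
      have e' : (⊤ : ((opensDiagram D i U.1).obj k).Opens) ≤
          ((opensDiagram D i U.1).map u ≫ gmap D i U top) ⁻¹ᵁ U.1 := by
        rw [map_gmap]; exact gmap_le D i U k
      have e1 := appLE_comp_top ((opensDiagram D i U.1).map u) (gmap D i U top) U.1
        (gmap_le D i U top) e' f
      have e3 : (((opensDiagram D i U.1).map u ≫ gmap D i U top).appLE U.1 ⊤ e').hom f =
          ((gmap D i U k).appLE U.1 ⊤ (gmap_le D i U k)).hom f := by
        congr 2
        exact Groth.Agent.H9.appLE_congr_hom (map_gmap D i U u) U.1 ⊤ e' (gmap_le D i U k)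
      have := hstage k
      rw [← e3, e1] at this
      exact this)
  -- translate to Γ(c.pt, W)
  have e' : (⊤ : (opensCone D c i U.1).pt.Opens) ≤
      ((opensCone D c i U.1).π.app top ≫ gmap D i U top) ⁻¹ᵁ U.1 := by
    rw [π_gmap]; exact einf
  have e1 := appLE_comp_top ((opensCone D c i U.1).π.app top) (gmap D i U top) U.1
    (gmap_le D i U top) e' f
  have e3 : (((opensCone D c i U.1).π.app top ≫ gmap D i U top).appLE U.1 ⊤ e').hom f =
      ((ginf D c i U).appLE U.1 ⊤ einf).hom f := by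
    congr 2
    exact Groth.Agent.H9.appLE_congr_hom (π_gmap D c i U top) U.1 ⊤ e' einf
  have hpa : pr (opensDiagram D i U.1) (opensCone D c i U.1) top
      (((gmap D i U top).appLE U.1 ⊤ (gmap_le D i U top)).hom f) =
      ((ginf D c i U).appLE U.1 ⊤ einf).hom f := e1.symm.trans e3
  rw [hpa] at hnz
  -- ginf = W.ι ≫ π
  have eW : (⊤ : W.1.toScheme.Opens) ≤ W.1.ι ⁻¹ᵁ W.1 := by
    intro y _; exact y.2
  have h6 : ((ginf D c i U).appLE U.1 ⊤ einf) =
      (c.π.app i).appLE U.1 W.1 le_rfl ≫ W.1.ι.appLE W.1 ⊤ eW :=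
    (Scheme.Hom.appLE_comp_appLE W.1.ι (c.π.app i) U.1 W.1 ⊤ le_rfl eW).symm
  rw [h6] at hnz
  rw [mem_nonZeroDivisors_iff_right] at hnz ⊢
  intro s hs
  have hiso : IsIso (W.1.ι.appLE W.1 ⊤ eW) := by
    rw [Scheme.Opens.ι_appLE]
    have : W.1.ι ''ᵁ ⊤ = W.1 := by simp
    have h1 : IsIso (homOfLE (x := W.1.ι ''ᵁ ⊤) (y := W.1) (Set.image_subset_iff.mpr eW)) :=
      ⟨homOfLE this.ge, Subsingleton.elim _ _, Subsingleton.elim _ _⟩
    have h2 : IsIso (homOfLE (x := W.1.ι ''ᵁ ⊤) (y := W.1) (Set.image_subset_iff.mpr eW)).op :=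
      inferInstance
    exact Functor.map_isIso _ _
  have hbij := ConcreteCategory.bijective_of_isIso (W.1.ι.appLE W.1 ⊤ eW)
  apply hbij.1
  rw [map_zero]
  apply hnz
  change (W.1.ι.appLE W.1 ⊤ eW).hom s * (W.1.ι.appLE W.1 ⊤ eW).hom
    (((c.π.app i).appLE U.1 W.1 le_rfl).hom f) = 0
  rw [← map_mul, hs, map_zero]


/-- Let (X_i, I_i) be a cofiltered system of schemes equipped with quasi-coherent ideal sheaves of
effective Cartier divisors, with affine and minimal transition morphisms (the modulus of X_i is the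
pull-back of the modulus of X_j along each transition morphism X_i ⟶ X_j), and let X be its limit
with projections π_i. Then the pulled-back ideal I_i.comap π_i is the ideal sheaf of an effective
Cartier divisor on X for every i; with this modulus X is a modulus pair mapping minimally to each
(X_i, I_i). (The source allows the conditions on the transition morphisms to hold only beyond some
index; here they are assumed throughout.) -/
theorem result {I : Type u}
    [SmallCategory I] [IsCofiltered I] (D : I ⥤ Scheme.{u}) (c : Cone D) (hc : IsLimit c)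
    [∀ (i j : I) (t : i ⟶ j), IsAffineHom (D.map t)]
    (J : ∀ i, (D.obj i).IdealSheafData) (hJ : ∀ i, BlowUp.IsEffCartierIdeal (J i))
    (hmin : ∀ (i j : I) (t : i ⟶ j), ModPair.IsMinimal (J i) (J j) (D.map t)) (i : I) :
    BlowUp.IsEffCartierIdeal ((J i).comap (c.π.app i)) := by
  exact main D c hc J hJ hmin i

end Groth.Agent.S18744
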