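import Groth.Statements.S18745
import Groth.Agent.H94.LimitHomLFT
import Groth.Agent.H94.LimitIdeal
import Groth.Agent.S19341

set_option autoImplicit false
universe u
open CategoryTheory CategoryTheory.Limits AlgebraicGeometry TopologicalSpace
open ModPair

namespace Groth.Agent.S18745

set_option backward.defeqAttrib.useBackward true in
set_option backward.isDefEq.respectTransparency false in
theorem main {S : Scheme.{u}}
    [CompactSpace S] [QuasiSeparatedSpace S] {I : Type u} [SmallCategory I] [IsCofiltered I]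
    (D : I ⥤ Over S) (c : Cone D) (hc : IsLimit c)
    [∀ (i j : I) (t : i ⟶ j), IsAffineHom (D.map t).left]
    [∀ i, CompactSpace (D.obj i).left] [∀ i, QuasiSeparatedSpace (D.obj i).left]
    (J : ∀ i, (D.obj i).left.IdealSheafData) (hJ : ∀ i, BlowUp.IsEffCartierIdeal (J i))
    (hmin : ∀ (i j : I) (t : i ⟶ j), ModPair.IsMinimal (J i) (J j) (D.map t).left)
    (IX : c.pt.left.IdealSheafData) (hIX : ∀ i, IX = (J i).comap (c.π.app i).left)
    (Y : Over S) [CompactSpace Y.left] [QuasiSeparatedSpace Y.left] [LocallyOfFiniteType Y.hom]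
    (IY : Y.left.IdealSheafData) (hY : BlowUp.IsEffCartierIdeal IY)
    (h : (∀ (i j : I) (t : i ⟶ j), IsSchemeTheoreticallyDominant (D.map t).left) ∨
      LocallyOfFinitePresentation Y.hom)
    (φ : c.pt ⟶ Y) (hφ : ModPair.IsAmbient IX IY φ.left) :
    ∃ (i : I) (φi : D.obj i ⟶ Y), ModPair.IsAmbient (J i) IY φi.left ∧ c.π.app i ≫ φi = φ := by
  have (i : I) : CompactSpace ((D ⋙ Over.forget S).obj i) := by dsimp; infer_instance
  have (i : I) : QuasiSeparatedSpace ((D ⋙ Over.forget S).obj i) := by dsimp; infer_instance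
  have haffT {i j : I} (f : i ⟶ j) : IsAffineHom ((D ⋙ Over.forget S).map f) := by
    dsimp; infer_instance
  have hc' : IsLimit ((Over.forget S).mapCone c) := isLimitOfPreserves _ hc
  -- Step 1: descend the morphism
  obtain ⟨i0, φ0, hφ0⟩ : ∃ (i : I) (φi : D.obj i ⟶ Y), c.π.app i ≫ φi = φ := by
    rcases h with h | h
    · haveI := h
      exact (Groth.Agent.H94.LimitHomLFT.main D c hc Y).1 φ
    · obtain ⟨k, u, h1, h2⟩ := Scheme.exists_π_app_comp_eq_of_locallyOfFinitePresentation
        (D ⋙ Over.forget _) (.mk (fun _ ↦ (D.obj _).hom)) Y.hom _ hc'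
        φ.left (by ext; simp)
      exact ⟨k, Over.homMk u h2, by ext; exact h1⟩
  -- Step 2: descend the modulus condition
  have hcond : (J i0).comap (((Over.forget S).mapCone c).π.app i0) ≤
      (IY.comap φ0.left).comap (((Over.forget S).mapCone c).π.app i0) := by
    have e1 : (J i0).comap (((Over.forget S).mapCone c).π.app i0) = IX := (hIX i0).symm
    have e2 : (IY.comap φ0.left).comap (((Over.forget S).mapCone c).π.app i0) =
        IY.comap φ.left := by
      rw [← Scheme.IdealSheafData.comap_comp, ← hφ0]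
      rfl
    rw [e1, e2]
    exact hφ
  obtain ⟨j, w, hw⟩ := Groth.Agent.H94.LimitIdeal.exists_comap_le (D ⋙ Over.forget S) ((Over.forget S).mapCone c) hc' i0
    (J i0) (IY.comap φ0.left)
    (fun x => by
      obtain ⟨U, hxU, f, -, hf⟩ := hJ i0 x
      exact ⟨U, hxU, f, hf⟩)
    (fun x => by
      obtain ⟨W, hxW, hW⟩ := Groth.Agent.S19341.comap_locally_principal IY hY φ0.left x
      obtain ⟨_, ⟨V, hV, rfl⟩, hxV, hVW⟩ :=
        (D.obj i0).left.isBasis_affineOpens.exists_subset_of_mem_open hxW W.isOpen
      obtain ⟨k, hk⟩ := hW ⟨V, hV⟩ hVW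
      exact ⟨⟨V, hV⟩, hxV, k, hk⟩) hcond
  refine ⟨j, D.map w ≫ φ0, ?_, ?_⟩
  · change J j ≤ IY.comap ((D.map w).left ≫ φ0.left)
    rw [Scheme.IdealSheafData.comap_comp, hmin j i0 w]
    exact hw
  · rw [← Category.assoc, c.w, hφ0]

/-- Let S be a quasi-compact quasi-separated scheme, (X_i, I_i) a cofiltered system of S-schemes, all
quasi-compact and quasi-separated, carrying quasi-coherent ideal sheaves of effective Cartier
divisors, with affine and minimal transition morphisms, and let X be its limit (as an S-scheme) with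
projections π_i and modulus I = I_i.comap π_i for every i. Let Y ⟶ S be locally of finite type with
Y quasi-compact and quasi-separated, carrying the ideal sheaf I_Y of an effective Cartier divisor.
Assume that either every transition morphism is scheme-theoretically dominant, or Y ⟶ S is locally
of finite presentation. Then every S-morphism φ : X ⟶ Y satisfying the modulus condition I ≤
I_Y.comap φ descends: for some i there is an S-morphism φ_i : X_i ⟶ Y satisfying the modulus
condition I_i ≤ I_Y.comap φ_i with π_i ≫ φ_i = φ. (The base is taken to be a scheme, that is the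
base modulus pair with empty modulus; morphisms over an arbitrary base modulus pair are among
these.) -/
theorem result {S : Scheme.{u}}
    [CompactSpace S] [QuasiSeparatedSpace S] {I : Type u} [SmallCategory I] [IsCofiltered I]
    (D : I ⥤ Over S) (c : Cone D) (hc : IsLimit c)
    [∀ (i j : I) (t : i ⟶ j), IsAffineHom (D.map t).left]
    [∀ i, CompactSpace (D.obj i).left] [∀ i, QuasiSeparatedSpace (D.obj i).left]
    (J : ∀ i, (D.obj i).left.IdealSheafData) (hJ : ∀ i, BlowUp.IsEffCartierIdeal (J i))
    (hmin : ∀ (i j : I) (t : i ⟶ j), ModPair.IsMinimal (J i) (J j) (D.map t).left)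
    (IX : c.pt.left.IdealSheafData) (hIX : ∀ i, IX = (J i).comap (c.π.app i).left)
    (Y : Over S) [CompactSpace Y.left] [QuasiSeparatedSpace Y.left] [LocallyOfFiniteType Y.hom]
    (IY : Y.left.IdealSheafData) (hY : BlowUp.IsEffCartierIdeal IY)
    (h : (∀ (i j : I) (t : i ⟶ j), IsSchemeTheoreticallyDominant (D.map t).left) ∨
      LocallyOfFinitePresentation Y.hom)
    (φ : c.pt ⟶ Y) (hφ : ModPair.IsAmbient IX IY φ.left) :
    ∃ (i : I) (φi : D.obj i ⟶ Y), ModPair.IsAmbient (J i) IY φi.left ∧ c.π.app i ≫ φi = φ := by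
  exact main D c hc J hJ hmin IX hIX Y IY hY h φ hφ

end Groth.Agent.S18745
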