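import Groth.Statements.S18748
import Mathlib
import Groth.Agent.H94.PairCoprod
import Groth.Agent.S18738

set_option autoImplicit false
universe u
open CategoryTheory CategoryTheory.Limits AlgebraicGeometry TopologicalSpace
open ModPair

namespace Groth.Agent.S18748

universe v
open AlgebraicGeometry CategoryTheory Limits Groth.Agent.H94.PairCoprod

section sigmaMap
variable {σ : Type v} [Small.{u} σ] {Y Z : σ → Scheme.{u}} (h : ∀ j, Y j ⟶ Z j)

lemma ι_sigmaMap (j : σ) :
    Sigma.ι Y j ≫ Limits.Sigma.map h = h j ≫ Sigma.ι Z j := by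
  simp

lemma preimage_range_sigmaMap (j : σ) :
    (Limits.Sigma.map h) ⁻¹ᵁ (Sigma.ι Z j).opensRange = (Sigma.ι Y j).opensRange := by
  ext z
  have hz : ∃ (k : σ) (v : Y k), Sigma.ι Y k v = z := (sigmaOpenCover Y).exists_eq z
  obtain ⟨k, v, rfl⟩ := hz
  have hc : (Limits.Sigma.map h) (Sigma.ι Y k v) = Sigma.ι Z k (h k v) := by
    rw [← Scheme.Hom.comp_apply, ι_sigmaMap, Scheme.Hom.comp_apply]
  constructor
  · rintro ⟨x, hx⟩
    have hx' : Sigma.ι Z j x = Sigma.ι Z k (h k v) := hx.trans hc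
    have := (sigmaι_eq_iff Z _ _ _ _).mp hx'
    obtain ⟨rfl, _⟩ := Sigma.mk.inj_iff.mp this
    exact ⟨v, rfl⟩
  · rintro ⟨v', hv'⟩
    have := (sigmaι_eq_iff Y _ _ _ _).mp hv'
    obtain ⟨rfl, _⟩ := Sigma.mk.inj_iff.mp this
    exact ⟨h j v, hc.symm⟩

lemma isPullback_sigmaMap (j : σ) :
    IsPullback (h j) (Sigma.ι Y j) (Sigma.ι Z j) (Limits.Sigma.map h) :=
  IsOpenImmersion.isPullback _ _ _ _ (ι_sigmaMap h j) (preimage_range_sigmaMap h j)

set_option backward.isDefEq.respectTransparency.types false in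
lemma isProper_sigmaMap [∀ j, IsProper (h j)] : IsProper (Limits.Sigma.map h) := by
  refine (IsZariskiLocalAtTarget.iff_of_openCover (P := @IsProper)
    (sigmaOpenCover Z)).mpr fun j => ?_
  have H := (isPullback_sigmaMap h j).flip
  have e : H.isoPullback.inv ≫ h j = pullback.snd (Limits.Sigma.map h) (Sigma.ι Z j) :=
    H.isoPullback_inv_snd
  show IsProper (pullback.snd (Limits.Sigma.map h) (Sigma.ι Z j))
  rw [← e]
  infer_instance

end sigmaMap

lemma isIso_restrict_iSup {X Y : Scheme.{u}} (f : X ⟶ Y) {ι : Type*} (V : ι → Y.Opens)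
    (hV : ∀ i, IsIso (f ∣_ V i)) : IsIso (f ∣_ ⨆ i, V i) := by
  show (MorphismProperty.isomorphisms Scheme) (f ∣_ ⨆ i, V i)
  refine IsZariskiLocalAtTarget.of_iSup_eq_top (P := MorphismProperty.isomorphisms Scheme)
    (fun i => (⨆ i, V i).ι ⁻¹ᵁ V i) ?_ fun i => ?_
  · apply (⨆ i, V i).ι.image_injective
    dsimp
    rw [Scheme.Hom.image_iSup, Scheme.Hom.image_top_eq_opensRange, Scheme.Opens.opensRange_ι]
    simp [Scheme.Hom.image_preimage_eq_opensRange_inf, le_iSup V]
  · have e := morphismRestrictRestrict f (⨆ i, V i) ((⨆ i, V i).ι ⁻¹ᵁ V i)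
    refine ((MorphismProperty.isomorphisms Scheme).arrow_mk_iso_iff e).mpr ?_
    have hVi : (⨆ i, V i).ι ''ᵁ ((⨆ i, V i).ι ⁻¹ᵁ V i) = V i := by
      rw [Scheme.Hom.image_preimage_eq_opensRange_inf, Scheme.Opens.opensRange_ι]
      exact inf_eq_right.mpr (le_iSup V i)
    haveI := hV i
    exact Groth.Agent.S18735.isIso_restrict_of_eq f _ _ hVi.symm


section core
variable {σ : Type v} [Small.{u} σ] {Y Z : σ → Scheme.{u}} (h : ∀ j, Y j ⟶ Z j)

lemma isIso_restrict_sigmaMap_piece (j : σ) (W : (Z j).Opens) [IsIso (h j ∣_ W)] :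
    IsIso (Limits.Sigma.map h ∣_ (Scheme.Opens.ι W ≫ Sigma.ι Z j).opensRange) := by
  have H : IsPullback (h j ∣_ W) ((h j ⁻¹ᵁ W).ι ≫ Sigma.ι Y j) (W.ι ≫ Sigma.ι Z j)
      (Limits.Sigma.map h) :=
    (isPullback_morphismRestrict (h j) W).paste_vert (isPullback_sigmaMap h j)
  have e : H.flip.isoPullback.inv ≫ (h j ∣_ W) =
      pullback.snd (Limits.Sigma.map h) (W.ι ≫ Sigma.ι Z j) := H.flip.isoPullback_inv_snd
  haveI : IsIso (pullback.snd (Limits.Sigma.map h) (W.ι ≫ Sigma.ι Z j)) := by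
    rw [← e]; infer_instance
  exact ((MorphismProperty.isomorphisms Scheme).arrow_mk_iso_iff
    (morphismRestrictOpensRange (Limits.Sigma.map h) (W.ι ≫ Sigma.ι Z j))).mpr this

lemma mem_interior_glue (X : σ → Scheme.{u}) (I : ∀ i, (X i).IdealSheafData) (k : σ) (v : X k) :
    Sigma.ι X k v ∈ ModPair.interior (glueIdeal X I) ↔ v ∈ ModPair.interior (I k) := by
  have h1 := Scheme.IdealSheafData.support_comap (glueIdeal X I) (Sigma.ι X k)
  rw [comap_glueIdeal] at h1
  have h2 : v ∈ (I k).support ↔ Sigma.ι X k v ∈ (glueIdeal X I).support := by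
    rw [h1]; rfl
  show Sigma.ι X k v ∉ (glueIdeal X I).support ↔ v ∉ (I k).support
  rw [h2]

lemma interior_glue (X : σ → Scheme.{u}) (I : ∀ i, (X i).IdealSheafData) :
    ModPair.interior (glueIdeal X I) =
      ⨆ j, (Scheme.Opens.ι (ModPair.interior (I j)) ≫ Sigma.ι X j).opensRange := by
  ext s
  have hs : ∃ (k : σ) (v : X k), Sigma.ι X k v = s := (sigmaOpenCover X).exists_eq s
  obtain ⟨k, v, rfl⟩ := hs
  rw [SetLike.mem_coe, SetLike.mem_coe, mem_interior_glue, TopologicalSpace.Opens.mem_iSup]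
  constructor
  · intro hv
    exact ⟨k, ⟨⟨v, hv⟩, rfl⟩⟩
  · rintro ⟨j, ⟨w, hw⟩⟩
    have hw' : Sigma.ι X j w.1 = Sigma.ι X k v := hw
    have := (sigmaι_eq_iff X _ _ _ _).mp hw'
    obtain ⟨rfl, hv⟩ := Sigma.mk.inj_iff.mp this
    rw [← eq_of_heq hv]
    exact w.2


theorem isAdmBlowup_sigmaMap (P Q : σ → ModPair.Pair.{u}) (f : ∀ j, P j ⟶ Q j)
    (hf : ∀ j, ModPair.Pair.admBlowup (f j)) :
    ModPair.IsAdmBlowup (glueIdeal (fun j => (P j).total) (fun j => (P j).mod))
      (glueIdeal (fun j => (Q j).total) (fun j => (Q j).mod))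
      (Limits.Sigma.map (fun j => (f j).hom)) := by
  have hcomp : ∀ j, ((glueIdeal (fun j => (Q j).total) (fun j => (Q j).mod)).comap
      (Limits.Sigma.map (fun j => (f j).hom))).comap (Sigma.ι (fun j => (P j).total) j) =
      (P j).mod := by
    intro j
    rw [← Scheme.IdealSheafData.comap_comp, ι_sigmaMap (fun j => (f j).hom) j,
      Scheme.IdealSheafData.comap_comp, comap_glueIdeal]
    exact (hf j).1.symm
  refine ⟨?_, ?_, ?_⟩
  · apply le_antisymm
    · apply le_of_comap_sigmaι_le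
      intro j
      rw [comap_glueIdeal, hcomp]
    · apply le_of_comap_sigmaι_le
      intro j
      rw [comap_glueIdeal, hcomp]
  · haveI : ∀ j, IsProper (f j).hom := fun j => (hf j).2.1
    exact isProper_sigmaMap _
  · haveI : ∀ j, IsIso ((f j).hom ∣_ ModPair.interior (Q j).mod) := fun j => (hf j).2.2
    haveI := isIso_restrict_iSup (Limits.Sigma.map fun j => (f j).hom)
      (fun j => (Scheme.Opens.ι (ModPair.interior (Q j).mod) ≫
        Sigma.ι (fun j => (Q j).total) j).opensRange)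
      (fun j => isIso_restrict_sigmaMap_piece (fun j => (f j).hom) j _)
    exact Groth.Agent.S18735.isIso_restrict_of_eq _ _ _
      (interior_glue (fun j => (Q j).total) (fun j => (Q j).mod)).symm

end core


section generic
variable {C : Type*} [Category C]

/-- A limit cone over a discrete diagram in `Cᵒᵖ` gives a colimit cofan in `C`. -/
def unopColimit {J : Type*} {X : Discrete J ⥤ Cᵒᵖ} (c : Cone X) (hc : IsLimit c) :
    IsColimit (Cofan.mk c.pt.unop (fun j => (c.π.app ⟨j⟩).unop) :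
      Cofan (fun j => (X.obj ⟨j⟩).unop)) :=
  Cofan.IsColimit.mk _
    (fun s => (hc.lift ⟨Opposite.op s.pt, Discrete.natTrans (fun ⟨j⟩ => (s.inj j).op)⟩).unop)
    (fun s j => by
      have := hc.fac ⟨Opposite.op s.pt, Discrete.natTrans (fun ⟨j⟩ => (s.inj j).op)⟩ ⟨j⟩
      exact congrArg Quiver.Hom.unop this)
    (fun s m hm => by
      apply Quiver.Hom.op_inj
      apply hc.uniq ⟨Opposite.op s.pt, Discrete.natTrans (fun ⟨j⟩ => (s.inj j).op)⟩ m.op
      rintro ⟨j⟩
      exact congrArg Quiver.Hom.op (hm j))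

lemma op_stable (W : MorphismProperty C) (J : Type*) [W.IsStableUnderCoproductsOfShape J] :
    W.op.IsStableUnderProductsOfShape J where
  condition X₁ X₂ c₁ c₂ h₁ h₂ f hf φ hφ := by
    let X₁' : Discrete J ⥤ C := Discrete.functor (fun j => (X₁.obj ⟨j⟩).unop)
    let X₂' : Discrete J ⥤ C := Discrete.functor (fun j => (X₂.obj ⟨j⟩).unop)
    let f' : X₂' ⟶ X₁' := Discrete.natTrans (fun ⟨j⟩ => (f.app ⟨j⟩).unop)
    exact MorphismProperty.IsStableUnderColimitsOfShape.condition X₂' X₁' _ _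
      (unopColimit c₂ h₂) (unopColimit c₁ h₁) f' (fun ⟨j⟩ => hf ⟨j⟩) φ.unop (fun ⟨j⟩ => by
        have := congrArg Quiver.Hom.unop (hφ ⟨j⟩)
        exact this)

end generic


section pair
open ModPair

instance instMult : (ModPair.Pair.admBlowup.{u}).IsMultiplicative :=
  { id_mem := fun P => Groth.Agent.S18738.isAdmBlowup_id P.mod
    comp_mem := fun f g hf hg => Groth.Agent.S18738.isAdmBlowup_comp _ _ _ f.hom g.hom hf hg }

lemma admBlowup_of_iso {P Q : ModPair.Pair.{u}} (f : P ⟶ Q) [IsIso f] :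
    ModPair.Pair.admBlowup f := by
  have h1 : f.hom ≫ (inv f).hom = 𝟙 P.total := congrArg ModPair.Pair.Hom.hom (IsIso.hom_inv_id f)
  have h2 : (inv f).hom ≫ f.hom = 𝟙 Q.total := congrArg ModPair.Pair.Hom.hom (IsIso.inv_hom_id f)
  haveI : IsIso f.hom := ⟨(inv f).hom, h1, h2⟩
  refine ⟨le_antisymm f.cond ?_, inferInstance, inferInstance⟩
  have h3 : Q.mod.comap f.hom ≤ (P.mod.comap (inv f).hom).comap f.hom :=
    Scheme.IdealSheafData.comap_mono f.hom (inv f).cond
  have h4 : (P.mod.comap (inv f).hom).comap f.hom = P.mod := by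
    rw [← Scheme.IdealSheafData.comap_comp, h1, Scheme.IdealSheafData.comap_id]
  rw [h4] at h3
  exact h3

instance instRespIso : (ModPair.Pair.admBlowup.{u}).RespectsIso :=
  MorphismProperty.respectsIso_of_isStableUnderComposition
    (fun _ _ f (hf : IsIso f) => admBlowup_of_iso f)

instance instHasColim {σ : Type v} [Small.{u} σ] :
    HasColimitsOfShape (Discrete σ) ModPair.Pair.{u} :=
  ⟨fun F => ⟨⟨⟨cocone F, isColimit F⟩⟩⟩⟩

lemma sigmaMap_eq_desc {σ : Type v} [Small.{u} σ] {Y Z : σ → Scheme.{u}} (h : ∀ j, Y j ⟶ Z j) :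
    Limits.Sigma.map h = Sigma.desc (fun j => h j ≫ Sigma.ι Z j) := by
  refine Sigma.hom_ext _ _ fun j => ?_
  simp

instance instStable {σ : Type v} [Small.{u} σ] :
    (ModPair.Pair.admBlowup.{u}).IsStableUnderCoproductsOfShape σ where
  condition X₁ X₂ c₁ c₂ h₁ h₂ f hf φ hφ := by
    let s : Cocone X₁ := ⟨(cocone X₂).pt, Discrete.natTrans fun ⟨j⟩ => f.app ⟨j⟩ ≫ (cocone X₂).ι.app ⟨j⟩⟩
    let ψ : (cocone X₁).pt ⟶ (cocone X₂).pt := (isColimit X₁).desc s
    have hψ : ψ.hom = Limits.Sigma.map (fun j => (f.app ⟨j⟩).hom) := by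
      rw [sigmaMap_eq_desc]; rfl
    have hWψ : ModPair.Pair.admBlowup ψ := by
      show ModPair.IsAdmBlowup (copair X₁).mod (copair X₂).mod ψ.hom
      rw [hψ]
      exact isAdmBlowup_sigmaMap (fun j => X₁.obj ⟨j⟩) (fun j => X₂.obj ⟨j⟩)
        (fun j => f.app ⟨j⟩) (fun j => hf ⟨j⟩)
    let e₁ := IsColimit.coconePointUniqueUpToIso (isColimit X₁) h₁
    let e₂ := IsColimit.coconePointUniqueUpToIso (isColimit X₂) h₂
    have hcomm : e₁.hom ≫ φ = ψ ≫ e₂.hom := by
      refine (isColimit X₁).hom_ext fun ⟨j⟩ => ?_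
      have hfac : (cocone X₁).ι.app ⟨j⟩ ≫ ψ = f.app ⟨j⟩ ≫ (cocone X₂).ι.app ⟨j⟩ :=
        (isColimit X₁).fac s ⟨j⟩
      have he2 : (cocone X₂).ι.app ⟨j⟩ ≫ e₂.hom = c₂.ι.app ⟨j⟩ :=
        IsColimit.comp_coconePointUniqueUpToIso_hom _ _ _
      have he1 : (cocone X₁).ι.app ⟨j⟩ ≫ e₁.hom = c₁.ι.app ⟨j⟩ :=
        IsColimit.comp_coconePointUniqueUpToIso_hom _ _ _
      calc (cocone X₁).ι.app ⟨j⟩ ≫ e₁.hom ≫ φ = c₁.ι.app ⟨j⟩ ≫ φ := by
            rw [← Category.assoc, he1]
        _ = f.app ⟨j⟩ ≫ c₂.ι.app ⟨j⟩ := hφ ⟨j⟩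
        _ = f.app ⟨j⟩ ≫ (cocone X₂).ι.app ⟨j⟩ ≫ e₂.hom := by rw [he2]
        _ = ((cocone X₁).ι.app ⟨j⟩ ≫ ψ) ≫ e₂.hom := by rw [hfac, Category.assoc]
        _ = _ := Category.assoc _ _ _
    exact ((ModPair.Pair.admBlowup.{u}).arrow_mk_iso_iff (Arrow.isoMk e₁ e₂ hcomm)).mp hWψ


theorem main :
    HasBinaryCoproducts (ModPair.Pair.admBlowup.{u}).Localization ∧
      PreservesColimitsOfShape (Discrete WalkingPair) (ModPair.Pair.admBlowup.{u}).Q := by
  haveI : HasFiniteCoproducts ModPair.Pair.{u} := ⟨fun n => inferInstance⟩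
  haveI : (ModPair.Pair.admBlowup.{u}).op.IsStableUnderFiniteProducts :=
    ⟨fun J _ => op_stable _ J⟩
  haveI h1 : HasFiniteProducts (ModPair.Pair.admBlowup.{u}).Localizationᵒᵖ :=
    Localization.hasFiniteProducts (ModPair.Pair.admBlowup.{u}).Q.op
      (ModPair.Pair.admBlowup.{u}).op
  haveI h2 : PreservesFiniteProducts (ModPair.Pair.admBlowup.{u}).Q.op :=
    Localization.preservesFiniteProducts (ModPair.Pair.admBlowup.{u}).Q.op
      (ModPair.Pair.admBlowup.{u}).op
  haveI : HasFiniteCoproducts (ModPair.Pair.admBlowup.{u}).Localization :=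
    hasFiniteCoproducts_of_opposite
  haveI h3 : PreservesFiniteCoproducts (ModPair.Pair.admBlowup.{u}).Q.op.unop :=
    preservesFiniteCoproducts_unop _
  haveI h4 : PreservesFiniteCoproducts (ModPair.Pair.admBlowup.{u}).Q := h3
  exact ⟨inferInstance, inferInstance⟩

end pair


/-- The localization of the category of modulus pairs and ambient morphisms at the class of abstract
admissible blow-ups has binary coproducts, and the localization functor carries the coproduct of two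
modulus pairs (the disjoint union of the total spaces with the disjoint union of the moduli) to a
coproduct. (The source also states that the interior functor detects these coproducts; that part is
not included.) -/
theorem result :
    HasBinaryCoproducts (ModPair.Pair.admBlowup.{u}).Localization ∧
      PreservesColimitsOfShape (Discrete WalkingPair) (ModPair.Pair.admBlowup.{u}).Q := by
  exact main

end Groth.Agent.S18748
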