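import Groth.Statements.S18749
import Mathlib
import Groth.Agent.H94.ModPairLib
import Groth.Agent.S17887
import Groth.Agent.S19341

set_option autoImplicit false
universe u
open CategoryTheory CategoryTheory.Limits AlgebraicGeometry TopologicalSpace
open ModPair

namespace Groth.Agent.S18749

open Groth.Agent.H94.EffCartierDense Groth.Agent.H94.ModPairLib

/-- S17887 with quasi-compactness of the open instead of a Noetherian hypothesis. -/
theorem dominant_preimage_blowUp {X X' : Scheme.{u}}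
    (U : X.Opens) [IsSchemeTheoreticallyDominant U.ι] [QuasiCompact U.ι] (𝓘 : X.IdealSheafData)
    (hU : Disjoint (𝓘.support : Set X) (U : Set X)) (π : X' ⟶ X) (hπ : BlowUp.IsBlowUp π 𝓘) :
    IsSchemeTheoreticallyDominant (π ⁻¹ᵁ U).ι := by
  set V : X.Opens := 𝓘.support.compl with hV
  have hUV : U ≤ V := by
    intro x hx hx'
    exact Set.disjoint_left.1 hU hx' hx
  haveI : IsIso (π ∣_ V) := Groth.Agent.H9.isIso_morphismRestrict_compl_of_isBlowUp 𝓘 π hπ
  haveI := Groth.Agent.S17887.dominant_homOfLE U V hUV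
  haveI : QuasiCompact (X.homOfLE hUV) := by
    haveI : QuasiCompact (X.homOfLE hUV ≫ V.ι) := by rw [Scheme.homOfLE_ι]; infer_instance
    exact QuasiCompact.of_comp (X.homOfLE hUV) V.ι
  have hle : π ⁻¹ᵁ U ≤ π ⁻¹ᵁ V := fun _ hx => hUV hx
  haveI : IsSchemeTheoreticallyDominant (X'.homOfLE hle) :=
    IsSchemeTheoreticallyDominant.of_isPullback
      (Groth.Agent.S17887.isPullback_homOfLE_restrict π U V hUV).flip
  haveI : IsSchemeTheoreticallyDominant (π ⁻¹ᵁ V).ι := by
    have e : π ⁻¹ᵁ V = (𝓘.comap π).support.compl := by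
      rw [Scheme.IdealSheafData.support_comap]
      rfl
    rw [e]
    exact dominant_compl_of_isEffCartier _ hπ.1
  rw [← Scheme.homOfLE_ι X' hle]
  infer_instance

theorem nzd_of_basicOpen_dense {Y : Scheme.{u}} (V : Y.affineOpens) (a : Γ(Y, V.1)) (D : Y.Opens)
    [IsSchemeTheoreticallyDominant D.ι] [QuasiCompact D.ι] (h : D ⊓ V.1 ≤ Y.basicOpen a) :
    a ∈ nonZeroDivisors Γ(Y, V.1) := by
  have hinj : Function.Injective (D.ι.app V.1) := Scheme.Hom.app_injective _ V.1
  rw [Scheme.Opens.ι_app] at hinj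
  have hinj' : Function.Injective (Y.presheaf.map (homOfLE (inf_le_right : D ⊓ V.1 ≤ V.1)).op) := by
    refine Groth.Agent.S5434.inj_transport ?_ _ _ hinj
    rw [Scheme.Hom.image_preimage_eq_opensRange_inf, Scheme.Opens.opensRange_ι]
  have hcomp : Y.presheaf.map (homOfLE (inf_le_right : D ⊓ V.1 ≤ V.1)).op =
      Y.presheaf.map (homOfLE (Y.basicOpen_le a)).op ≫ Y.presheaf.map (homOfLE h).op := by
    rw [← Functor.map_comp]; rfl
  have hunit : IsUnit ((Y.presheaf.map (homOfLE (inf_le_right : D ⊓ V.1 ≤ V.1)).op).hom a) := by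
    rw [hcomp, CommRingCat.hom_comp, RingHom.comp_apply]
    exact (Y.toRingedSpace.isUnit_res_basicOpen a).map _
  rw [mem_nonZeroDivisors_iff_right]
  intro z hz
  apply hinj'
  have h1 := congrArg (Y.presheaf.map (homOfLE (inf_le_right : D ⊓ V.1 ≤ V.1)).op).hom hz
  rw [map_mul, map_zero] at h1
  rw [map_zero]
  exact hunit.mul_left_eq_zero.1 h1

theorem local_pkg {Y : Scheme.{u}} (K A B : Y.IdealSheafData)
    (hE : BlowUp.IsEffCartierIdeal (A ⊔ B))
    (hA : ∀ z : Y, ∃ W : Y.Opens, z ∈ W ∧ ∀ V : Y.affineOpens, V.1 ≤ W →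
      ∃ k : Γ(Y, V.1), A.ideal V = Ideal.span {k})
    (hB : ∀ z : Y, ∃ W : Y.Opens, z ∈ W ∧ ∀ V : Y.affineOpens, V.1 ≤ W →
      ∃ k : Γ(Y, V.1), B.ideal V = Ideal.span {k})
    (hK : K * (A ⊔ B) = A * B) (D : Y.Opens)
    [IsSchemeTheoreticallyDominant D.ι] [QuasiCompact D.ι]
    (hDA : D ≤ A.support.compl) (hDB : D ≤ B.support.compl) (y : Y) :
    ∃ V : Y.affineOpens, y ∈ V.1 ∧ (∃ k : Γ(Y, V.1), k ∈ nonZeroDivisors Γ(Y, V.1) ∧
      K.ideal V = Ideal.span {k}) ∧ K.ideal V ≤ A.ideal V ∧ K.ideal V ≤ B.ideal V := by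
  obtain ⟨WA, hyA, hWA⟩ := hA y
  obtain ⟨WB, hyB, hWB⟩ := hB y
  obtain ⟨V, hyV, hVW, e, he, hEe⟩ :=
    Groth.Agent.H9.exists_affine_isPrincipalNZD hE (WA ⊓ WB) y ⟨hyA, hyB⟩
  obtain ⟨a, ha⟩ := hWA V (hVW.trans inf_le_left)
  obtain ⟨b, hb⟩ := hWB V (hVW.trans inf_le_right)
  have hEe' : A.ideal V ⊔ B.ideal V = Ideal.span {e} := hEe
  have hae : a ∈ Ideal.span {e} := by
    rw [← hEe', ha]; exact Ideal.mem_sup_left (Ideal.mem_span_singleton_self a)
  have hbe : b ∈ Ideal.span {e} := by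
    rw [← hEe', hb]; exact Ideal.mem_sup_right (Ideal.mem_span_singleton_self b)
  obtain ⟨a', ha'⟩ := Ideal.mem_span_singleton'.1 hae
  obtain ⟨b', hb'⟩ := Ideal.mem_span_singleton'.1 hbe
  have hKV : K.ideal V * Ideal.span {e} = Ideal.span {a * b} := by
    have := congrArg (fun L : Y.IdealSheafData => L.ideal V) hK
    simp only [Scheme.IdealSheafData.ideal_mul, Pi.mul_apply, Scheme.IdealSheafData.ideal_sup,
      Pi.sup_apply] at this
    rw [hEe', ha, hb, Ideal.span_singleton_mul_span_singleton] at this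
    exact this
  -- a, b are nonzerodivisors
  have haN : a ∈ nonZeroDivisors Γ(Y, V.1) := by
    apply nzd_of_basicOpen_dense V a D
    rw [← compl_inf_eq_basicOpen A V a ha]
    exact inf_le_inf_right _ hDA
  have hbN : b ∈ nonZeroDivisors Γ(Y, V.1) := by
    apply nzd_of_basicOpen_dense V b D
    rw [← compl_inf_eq_basicOpen B V b hb]
    exact inf_le_inf_right _ hDB
  have ha'N : a' ∈ nonZeroDivisors Γ(Y, V.1) := by
    rw [← ha'] at haN
    exact (mul_mem_nonZeroDivisors.1 haN).1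
  have hb'N : b' ∈ nonZeroDivisors Γ(Y, V.1) := by
    rw [← hb'] at hbN
    exact (mul_mem_nonZeroDivisors.1 hbN).1
  have hab : a * b = (a' * b' * e) * e := by rw [← ha', ← hb']; ring
  have hKeq : K.ideal V = Ideal.span {a' * b' * e} := by
    apply le_antisymm
    · intro k hk
      have h1 : k * e ∈ K.ideal V * Ideal.span {e} :=
        Ideal.mul_mem_mul hk (Ideal.mem_span_singleton_self e)
      rw [hKV, Ideal.mem_span_singleton'] at h1
      obtain ⟨c, hc⟩ := h1
      rw [hab, ← mul_assoc] at hc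
      have h2 : c * (a' * b' * e) = k := mul_cancel_right_mem_nonZeroDivisors he |>.1 hc
      rw [Ideal.mem_span_singleton']
      exact ⟨c, h2⟩
    · rw [Ideal.span_singleton_le_iff_mem]
      have h1 : a * b ∈ K.ideal V * Ideal.span {e} := by
        rw [hKV]; exact Ideal.mem_span_singleton_self _
      rw [Ideal.mem_mul_span_singleton] at h1
      obtain ⟨k, hk, hke⟩ := h1
      rw [hab] at hke
      have h2 : k = a' * b' * e := mul_cancel_right_mem_nonZeroDivisors he |>.1 hke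
      rw [← h2]; exact hk
  refine ⟨V, hyV, ⟨a' * b' * e, mul_mem (mul_mem ha'N hb'N) he, hKeq⟩, ?_, ?_⟩
  · rw [hKeq, ha, Ideal.span_singleton_le_iff_mem, Ideal.mem_span_singleton']
    exact ⟨b', by rw [← ha']; ring⟩
  · rw [hKeq, hb, Ideal.span_singleton_le_iff_mem, Ideal.mem_span_singleton']
    exact ⟨a', by rw [← hb']; ring⟩


theorem main {S T X Y : Scheme.{u}} (IS : S.IdealSheafData)
    (J : T.IdealSheafData) (I : X.IdealSheafData) (hS : BlowUp.IsEffCartierIdeal IS)
    (hT : BlowUp.IsEffCartierIdeal J) (hX : BlowUp.IsEffCartierIdeal I)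
    (f : X ⟶ S) (hf : ModPair.IsAmbient I IS f) (g : T ⟶ S) (hg : ModPair.IsAmbient J IS g)
    (π : Y ⟶ ModPair.mprod f g I J) (K : Y.IdealSheafData) (hY : ModPair.IsAmbProd f g I J π K) :
    BlowUp.IsEffCartierIdeal K ∧
      ModPair.IsAmbient K I (π ≫ ModPair.mprodι f g I J ≫ pullback.fst f g) ∧
      ModPair.IsAmbient K J (π ≫ ModPair.mprodι f g I J ≫ pullback.snd f g) ∧
      ModPair.interior K = (π ≫ ModPair.mprodι f g I J) ⁻¹ᵁ ModPair.prodInterior f g I J := by
  haveI := isAffineHom_interior_ι I hX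
  haveI := isAffineHom_interior_ι J hT
  haveI := isAffineHom_preimage_ι (pullback.fst f g) (ModPair.interior I)
  haveI := isAffineHom_preimage_ι (pullback.snd f g) (ModPair.interior J)
  haveI hqc : IsAffineHom (ModPair.prodInterior f g I J).ι := isAffineHom_inf_ι _ _
  set W₀ := ModPair.prodInterior f g I J with hW₀
  set ι₀ := ModPair.mprodι f g I J with hι₀
  obtain ⟨hπ, hKE⟩ := hY
  set A := I.comap (π ≫ ι₀ ≫ pullback.fst f g) with hAdef
  set B := J.comap (π ≫ ι₀ ≫ pullback.snd f g) with hBdef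
  have hA1 : (I.comap (ι₀ ≫ pullback.fst f g)).comap π = A := by
    rw [hAdef]; exact (Scheme.IdealSheafData.comap_comp I π (ι₀ ≫ pullback.fst f g)).symm
  have hB1 : (J.comap (ι₀ ≫ pullback.snd f g)).comap π = B := by
    rw [hBdef]; exact (Scheme.IdealSheafData.comap_comp J π (ι₀ ≫ pullback.snd f g)).symm
  have hE1 : (ModPair.prodCentre f g I J).comap π = A ⊔ B := by
    unfold ModPair.prodCentre
    rw [Scheme.IdealSheafData.comap_sup, hA1, hB1]
  have hKE' : K * (A ⊔ B) = A * B := by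
    rw [← hE1, ← hA1, ← hB1]; exact hKE
  have hE : BlowUp.IsEffCartierIdeal (A ⊔ B) := by rw [← hE1]; exact hπ.1
  -- the dense open
  haveI : IsAffineHom (ι₀ ⁻¹ᵁ W₀).ι := isAffineHom_preimage_ι ι₀ W₀
  haveI : IsSchemeTheoreticallyDominant (ι₀ ⁻¹ᵁ W₀).ι :=
    Groth.Agent.S18737.dominant_preimage_imageι W₀ W₀ le_rfl
  have hdisj : Disjoint ((ModPair.prodCentre f g I J).support : Set (ModPair.mprod f g I J))
      ((ι₀ ⁻¹ᵁ W₀ : (ModPair.mprod f g I J).Opens) : Set (ModPair.mprod f g I J)) := by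
    rw [Set.disjoint_left]
    intro z hz hz'
    unfold ModPair.prodCentre at hz
    rw [Scheme.IdealSheafData.support_sup] at hz
    have h1 : z ∈ (I.comap (ι₀ ≫ pullback.fst f g)).support := hz.1
    have h2 : z ∈ ModPair.interior (I.comap (ι₀ ≫ pullback.fst f g)) := by
      rw [interior_comap]
      exact hz'.1
    exact h2 h1
  haveI hD : IsSchemeTheoreticallyDominant (π ⁻¹ᵁ (ι₀ ⁻¹ᵁ W₀)).ι :=
    dominant_preimage_blowUp (ι₀ ⁻¹ᵁ W₀) _ hdisj π hπ
  haveI : IsAffineHom (π ⁻¹ᵁ (ι₀ ⁻¹ᵁ W₀)).ι := isAffineHom_preimage_ι π _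
  set D := π ⁻¹ᵁ (ι₀ ⁻¹ᵁ W₀) with hDdef
  have hDA : D ≤ A.support.compl := by
    have : A.support.compl = ModPair.interior A := rfl
    rw [this, hAdef, interior_comap]
    intro y hy
    exact hy.1
  have hDB : D ≤ B.support.compl := by
    have : B.support.compl = ModPair.interior B := rfl
    rw [this, hBdef, interior_comap]
    intro y hy
    exact hy.2
  have hloc := local_pkg K A B hE
    (Groth.Agent.S19341.comap_locally_principal I hX _)
    (Groth.Agent.S19341.comap_locally_principal J hT _) hKE' D hDA hDB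
  choose V hyV hV1 hV2 hV3 using hloc
  have hsup : ⨆ y, (V y).1 = ⊤ := by
    rw [eq_top_iff]
    intro y _
    exact Opens.mem_iSup.2 ⟨y, hyV y⟩
  have hKA : K ≤ A := Scheme.IdealSheafData.le_of_iSup_eq_top V hsup hV2
  have hKB : K ≤ B := Scheme.IdealSheafData.le_of_iSup_eq_top V hsup hV3
  refine ⟨fun y => ⟨V y, hyV y, hV1 y⟩, hKA, hKB, ?_⟩
  -- interior
  have hsupp : K.support = A.support ⊔ B.support := by
    apply le_antisymm
    · have h1 : (K * (A ⊔ B)).support = (A * B).support := by rw [hKE']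
      rw [Scheme.IdealSheafData.support_mul, Scheme.IdealSheafData.support_mul] at h1
      rw [← h1]
      exact le_sup_left
    · exact sup_le (Scheme.IdealSheafData.support_antitone hKA)
        (Scheme.IdealSheafData.support_antitone hKB)
  ext y
  have hA2 : ModPair.interior A = (π ≫ ι₀ ≫ pullback.fst f g) ⁻¹ᵁ ModPair.interior I :=
    interior_comap I _
  have hB2 : ModPair.interior B = (π ≫ ι₀ ≫ pullback.snd f g) ⁻¹ᵁ ModPair.interior J :=
    interior_comap J _
  have e1 : y ∈ ModPair.interior K ↔ (y ∉ A.support ∧ y ∉ B.support) := by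
    show y ∉ K.support ↔ _
    rw [hsupp]
    show ¬ (y ∈ A.support ∨ y ∈ B.support) ↔ _
    tauto
  have e2 : y ∈ (π ≫ ι₀) ⁻¹ᵁ W₀ ↔ (y ∈ ModPair.interior A ∧ y ∈ ModPair.interior B) := by
    rw [hA2, hB2]
    rfl
  rw [SetLike.mem_coe, SetLike.mem_coe, e1, e2]
  rfl

/-- Let (S, I_S), (T, J), (X, I) be schemes with quasi-coherent ideal sheaves of effective Cartier
divisors and f : X ⟶ S, g : T ⟶ S morphisms satisfying the modulus condition. Let Y₀ be the
scheme-theoretic image of pr₁⁻¹(X°) ∩ pr₂⁻¹(T°) in X ×_S T, let π : Y ⟶ Y₀ be a blowing up of Y₀ in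
the sum of the two ideal sheaves I, J pulled back to Y₀ (the intersection of the two pulled-back
divisors), and let K be an ideal sheaf on Y whose product with the exceptional ideal is the product
of the pull-backs of I and J to Y. Then K is the ideal sheaf of an effective Cartier divisor (the
divisor D_X + D_T − E), the projections Y ⟶ X and Y ⟶ T satisfy the modulus condition with respect
to K, and the interior of (Y, K) is the preimage of pr₁⁻¹(X°) ∩ pr₂⁻¹(T°). -/
theorem result {S T X Y : Scheme.{u}} (IS : S.IdealSheafData)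
    (J : T.IdealSheafData) (I : X.IdealSheafData) (hS : BlowUp.IsEffCartierIdeal IS)
    (hT : BlowUp.IsEffCartierIdeal J) (hX : BlowUp.IsEffCartierIdeal I)
    (f : X ⟶ S) (hf : ModPair.IsAmbient I IS f) (g : T ⟶ S) (hg : ModPair.IsAmbient J IS g)
    (π : Y ⟶ ModPair.mprod f g I J) (K : Y.IdealSheafData) (hY : ModPair.IsAmbProd f g I J π K) :
    BlowUp.IsEffCartierIdeal K ∧
      ModPair.IsAmbient K I (π ≫ ModPair.mprodι f g I J ≫ pullback.fst f g) ∧
      ModPair.IsAmbient K J (π ≫ ModPair.mprodι f g I J ≫ pullback.snd f g) ∧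
      ModPair.interior K = (π ≫ ModPair.mprodι f g I J) ⁻¹ᵁ ModPair.prodInterior f g I J := by
  exact main IS J I hS hT hX f hf g hg π K hY

end Groth.Agent.S18749
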