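import Groth.Statements.S1875
import Groth.Agent.H23.LenPowKey
import Groth.Agent.H25.GeomRed

set_option autoImplicit false
universe u
open TensorProduct
open RelCyc

namespace Groth.Agent.S1875

open TensorProduct
set_option linter.style.haveILetI false
section Aux

theorem isReduced_fractionRing_mvPolynomial_tensor (k K : Type u) [Field k] [Field K] [Algebra k K]
    (ι : Type u) : IsReduced (FractionRing (MvPolynomial ι k) ⊗[k] K) := by
  classical
  have h1 : IsReduced (MvPolynomial ι k ⊗[k] K) := by
    let f : MvPolynomial ι k ⊗[k] K ≃+* MvPolynomial ι K :=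
      (Algebra.TensorProduct.comm k (MvPolynomial ι k) K).toRingEquiv.trans
        (MvPolynomial.algebraTensorAlgEquiv k K).toRingEquiv
    exact isReduced_of_injective f.toRingHom f.injective
  letI : Algebra (MvPolynomial ι k ⊗[k] K) (FractionRing (MvPolynomial ι k) ⊗[k] K) :=
    (Algebra.TensorProduct.map
      (IsScalarTower.toAlgHom k (MvPolynomial ι k) (FractionRing (MvPolynomial ι k)))
      (AlgHom.id k K)).toRingHom.toAlgebra
  haveI : IsScalarTower (MvPolynomial ι k) (MvPolynomial ι k ⊗[k] K)
      (FractionRing (MvPolynomial ι k) ⊗[k] K) :=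
    by
      refine IsScalarTower.of_algebraMap_eq (R := MvPolynomial ι k) (S := MvPolynomial ι k ⊗[k] K)
        (A := FractionRing (MvPolynomial ι k) ⊗[k] K) (fun a => ?_)
      show (algebraMap (MvPolynomial ι k) (FractionRing (MvPolynomial ι k)) a) ⊗ₜ[k] (1 : K) =
        (Algebra.TensorProduct.map
          (IsScalarTower.toAlgHom k (MvPolynomial ι k) (FractionRing (MvPolynomial ι k)))
          (AlgHom.id k K)) (a ⊗ₜ[k] (1 : K))
      rw [Algebra.TensorProduct.map_tmul]
      rfl
  haveI := IsLocalization.tensorProduct_tensorProduct k K (nonZeroDivisors (MvPolynomial ι k))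
    (FractionRing (MvPolynomial ι k)) (by
      ext x
      show (Algebra.TensorProduct.map
          (IsScalarTower.toAlgHom k (MvPolynomial ι k) (FractionRing (MvPolynomial ι k)))
          (AlgHom.id k K)) ((1 : MvPolynomial ι k) ⊗ₜ[k] x) = (1 : FractionRing (MvPolynomial ι k)) ⊗ₜ[k] x
      rw [Algebra.TensorProduct.map_tmul]
      simp)
  exact isReduced_localizationPreserves
    (Algebra.algebraMapSubmonoid (MvPolynomial ι k ⊗[k] K) (nonZeroDivisors (MvPolynomial ι k)))
    (FractionRing (MvPolynomial ι k) ⊗[k] K) h1

theorem isReduced_sep_tower (k K E' Ls' : Type u) [Field k] [Field K] [Field E'] [Field Ls']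
    [Algebra k K] [Algebra k E'] [Algebra E' Ls'] [Algebra k Ls'] [IsScalarTower k E' Ls']
    [Algebra.IsSeparable E' Ls'] (hEred : IsReduced (E' ⊗[k] K)) : IsReduced (Ls' ⊗[k] K) := by
  haveI := hEred
  haveI h4 : IsReduced (Ls' ⊗[E'] (E' ⊗[k] K)) :=
    Groth.Agent.H25.GeomRed.isReduced_tensor_of_isSeparable (k := E') Ls' (E' ⊗[k] K)
  let g := Algebra.TensorProduct.cancelBaseChange k E' E' Ls' K
  exact isReduced_of_injective g.symm.toRingEquiv.toRingHom g.symm.injective

theorem step (k K L : Type u) [Field k] [Field K] [Field L] [Algebra k K] [Algebra k L]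
    (E : IntermediateField k L) (Ls : IntermediateField E L) [IsPurelyInseparable Ls L]
    [Algebra.IsSeparable E Ls] [Algebra.IsAlgebraic E L] [Algebra.EssFiniteType k L]
    (hEred : IsReduced (E ⊗[k] K)) (p : ℕ) [ExpChar k p]
    (q : Ideal (K ⊗[k] L)) [q.IsPrime] (hq : q ∈ minimalPrimes (K ⊗[k] L)) :
    ∃ n : ℕ, Module.length (Localization.AtPrime q) (Localization.AtPrime q) = (p ^ n : ℕ) := by
  classical
  haveI : IsScalarTower k Ls L := IsScalarTower.of_algebraMap_eq (fun c => rfl)
  haveI : Algebra.EssFiniteType Ls L := Algebra.EssFiniteType.of_comp k Ls L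
  haveI : Algebra.IsAlgebraic Ls L := Algebra.IsAlgebraic.tower_top (K := E) Ls
  haveI : Module.Finite Ls L := Algebra.finite_of_essFiniteType_of_isAlgebraic
  have hred : IsReduced (Ls ⊗[k] K) := isReduced_sep_tower k K E Ls hEred
  exact Groth.Agent.H23.LenPowKey.key k K Ls L p hred q hq

end Aux

/-- Let k be a field of exponential characteristic p, K/k any field extension and L/k a finitely
generated field extension (the function field of an integral scheme locally of finite type over k).
For every minimal prime 𝔮 of K ⊗_k L the length of the Artinian local ring (K ⊗_k L)_𝔮 — the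
multiplicity of the corresponding irreducible component of the base change — is a power of p (so 1
in characteristic zero). -/
theorem result (k K L : Type u) [Field k] [Field K] [Field L] [Algebra k K] [Algebra k L] (hL : (⊤ : IntermediateField k L).FG) (p : ℕ) [ExpChar k p] (q : Ideal (K ⊗[k] L)) [q.IsPrime] (hq : q ∈ minimalPrimes (K ⊗[k] L)) : ∃ n : ℕ, Module.length (Localization.AtPrime q) (Localization.AtPrime q) = (p ^ n : ℕ) := by
  classical
  haveI : Algebra.EssFiniteType k L := IntermediateField.fg_top_iff.mp hL
  obtain ⟨ι, x, hx⟩ := exists_isTranscendenceBasis' k L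
  haveI : Algebra.IsAlgebraic (IntermediateField.adjoin k (Set.range x)) L := hx.isAlgebraic_field
  have h3 : IsReduced ((IntermediateField.adjoin k (Set.range x)) ⊗[k] K) := by
    haveI := isReduced_fractionRing_mvPolynomial_tensor k K ι
    let g : (IntermediateField.adjoin k (Set.range x)) ⊗[k] K ≃ₐ[k]
        FractionRing (MvPolynomial ι k) ⊗[k] K :=
      Algebra.TensorProduct.congr hx.1.aevalEquivField.symm AlgEquiv.refl
    exact isReduced_of_injective g.toRingEquiv.toRingHom g.injective
  exact step k K L (IntermediateField.adjoin k (Set.range x))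
    (separableClosure (IntermediateField.adjoin k (Set.range x)) L) h3 p q hq

end Groth.Agent.S1875
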