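import Groth.Statements.S18750
import Groth.Agent.S8859

set_option autoImplicit false
universe u
open CategoryTheory CategoryTheory.Limits AlgebraicGeometry TopologicalSpace
open ModPair

namespace Groth.Agent.S18750

/-- if `a + b` is principal then `(a ∩ b)(a + b) = ab`. -/
theorem inf_mul_sup_eq_mul {R : Type*} [CommRing R] (a b : Ideal R) (f : R)
    (h : a ⊔ b = Ideal.span {f}) : (a ⊓ b) * (a ⊔ b) = a * b := by
  apply le_antisymm
  · rw [Ideal.mul_le]
    intro x hx y hy
    obtain ⟨y1, hy1, y2, hy2, rfl⟩ := Submodule.mem_sup.mp hy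
    rw [mul_add]
    refine Ideal.add_mem _ ?_ ?_
    · rw [mul_comm x y1]
      exact Ideal.mul_mem_mul hy1 hx.2
    · exact Ideal.mul_mem_mul hx.1 hy2
  · rw [Ideal.mul_le]
    intro x hx y hy
    have hx' : x ∈ Ideal.span {f} := h ▸ (le_sup_left : a ≤ a ⊔ b) hx
    have hy' : y ∈ Ideal.span {f} := h ▸ (le_sup_right : b ≤ a ⊔ b) hy
    obtain ⟨x', rfl⟩ := Ideal.mem_span_singleton'.mp hx'
    obtain ⟨y', rfl⟩ := Ideal.mem_span_singleton'.mp hy'
    have hz : x' * f * y' ∈ a ⊓ b := by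
      refine ⟨a.mul_mem_right y' hx, ?_⟩
      have e : x' * f * y' = x' * (y' * f) := by ring
      rw [e]
      exact b.mul_mem_left x' hy
    have hf : f ∈ a ⊔ b := h ▸ Ideal.mem_span_singleton_self f
    have e : x' * f * (y' * f) = (x' * f * y') * f := by ring
    rw [e]
    exact Ideal.mul_mem_mul hz hf

/-- Let (S, I_S), (T, J), (X, I) be schemes with quasi-coherent ideal sheaves of effective Cartier
divisors and f : X ⟶ S, g : T ⟶ S morphisms satisfying the modulus condition, and let Y₀ be the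
scheme-theoretic image of pr₁⁻¹(X°) ∩ pr₂⁻¹(T°) in X ×_S T. Then the ambient product exists: there
are a blowing up π : Y ⟶ Y₀ of Y₀ in the sum of the two pulled-back moduli and an ideal sheaf K on Y
whose product with the exceptional ideal is the product of the pull-backs of I and J (the divisor
D_X + D_T − E exists). -/
theorem result {S T X : Scheme.{u}} (IS : S.IdealSheafData)
    (J : T.IdealSheafData) (I : X.IdealSheafData) (hS : BlowUp.IsEffCartierIdeal IS)
    (hT : BlowUp.IsEffCartierIdeal J) (hX : BlowUp.IsEffCartierIdeal I)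
    (f : X ⟶ S) (hf : ModPair.IsAmbient I IS f) (g : T ⟶ S) (hg : ModPair.IsAmbient J IS g) :
    ∃ (Y : Scheme.{u}) (π : Y ⟶ ModPair.mprod f g I J) (K : Y.IdealSheafData),
      ModPair.IsAmbProd f g I J π K := by
  obtain ⟨Y, π, hπ⟩ :=
    Groth.Agent.S8859.result (ModPair.mprod f g I J) (ModPair.prodCentre f g I J)
  obtain ⟨A, hA⟩ : ∃ A : Y.IdealSheafData,
      A = (I.comap (mprodι f g I J ≫ pullback.fst f g)).comap π := ⟨_, rfl⟩
  obtain ⟨B, hB⟩ : ∃ B : Y.IdealSheafData,
      B = (J.comap (mprodι f g I J ≫ pullback.snd f g)).comap π := ⟨_, rfl⟩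
  have hE : (prodCentre f g I J).comap π = A ⊔ B := by
    unfold prodCentre
    rw [Scheme.IdealSheafData.comap_sup, hA, hB]
  refine ⟨Y, π, A ⊓ B, hπ, ?_⟩
  rw [hE, ← hA, ← hB]
  have hc := hπ.1
  rw [hE] at hc
  choose V hxV fV hfV hV using hc
  apply Scheme.IdealSheafData.ext_of_iSup_eq_top V
  · rw [eq_top_iff]
    intro x _
    exact TopologicalSpace.Opens.mem_iSup.mpr ⟨x, hxV x⟩
  · intro x
    have h1 : (A ⊔ B).ideal (V x) = A.ideal (V x) ⊔ B.ideal (V x) := rfl
    have h2 : ((A ⊓ B) * (A ⊔ B)).ideal (V x) =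
        (A.ideal (V x) ⊓ B.ideal (V x)) * (A.ideal (V x) ⊔ B.ideal (V x)) := rfl
    have h3 : (A * B).ideal (V x) = A.ideal (V x) * B.ideal (V x) := rfl
    rw [h2, h3]
    exact inf_mul_sup_eq_mul _ _ (fV x) (h1 ▸ hV x)

end Groth.Agent.S18750
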