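import Groth.Statements.S18755
import Mathlib
import Groth.Agent.H94.ModPairLib
import Groth.Agent.S19341

set_option autoImplicit false
universe u
open CategoryTheory CategoryTheory.Limits AlgebraicGeometry TopologicalSpace
open ModPair

namespace Groth.Agent.S18755

open Groth.Agent.H94.EffCartierDense Groth.Agent.H94.ModPairLib

/-- The inverse image ideal of a product is the product of the inverse image ideals. -/
theorem comap_mul {X Y : Scheme.{u}} (f : X ⟶ Y) (I J : Y.IdealSheafData) :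
    (I * J).comap f = I.comap f * J.comap f := by
  have h : ∀ x : X, ∃ V : X.affineOpens, x ∈ V.1 ∧
      ((I * J).comap f).ideal V = (I.comap f * J.comap f).ideal V := by
    intro x
    obtain ⟨U, hU, hxU, -⟩ := exists_isAffineOpen_mem_and_subset (x := f x) (U := ⊤) trivial
    obtain ⟨V, hV, hxV, hVU⟩ := exists_isAffineOpen_mem_and_subset (x := x) (U := f ⁻¹ᵁ U) hxU
    refine ⟨⟨V, hV⟩, hxV, ?_⟩
    rw [Scheme.IdealSheafData.ideal_mul, Pi.mul_apply,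
      Groth.Agent.H9.comap_ideal f (I * J) ⟨U, hU⟩ ⟨V, hV⟩ hVU,
      Groth.Agent.H9.comap_ideal f I ⟨U, hU⟩ ⟨V, hV⟩ hVU,
      Groth.Agent.H9.comap_ideal f J ⟨U, hU⟩ ⟨V, hV⟩ hVU,
      Scheme.IdealSheafData.ideal_mul, Pi.mul_apply, Ideal.map_mul]
  choose V hxV hV using h
  apply Scheme.IdealSheafData.ext_of_iSup_eq_top V
  · rw [eq_top_iff]
    intro x _
    exact Opens.mem_iSup.2 ⟨x, hxV x⟩
  · exact hV

/-- Effective Cartier ideals can be cancelled. -/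
theorem mul_cancel_effCartier {Y : Scheme.{u}} (L L' E : Y.IdealSheafData)
    (hE : BlowUp.IsEffCartierIdeal E) (h : L * E = L' * E) : L = L' := by
  have key : ∀ (M M' : Y.IdealSheafData), M * E = M' * E → ∀ (V : Y.affineOpens) (e : Γ(Y, V.1)),
      e ∈ nonZeroDivisors Γ(Y, V.1) → E.ideal V = Ideal.span {e} → M.ideal V ≤ M'.ideal V := by
    intro M M' hM V e he hEe k hk
    have h1 : k * e ∈ M.ideal V * E.ideal V :=
      Ideal.mul_mem_mul hk (by rw [hEe]; exact Ideal.mem_span_singleton_self e)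
    have h2 := congrArg (fun N : Y.IdealSheafData => N.ideal V) hM
    simp only [Scheme.IdealSheafData.ideal_mul, Pi.mul_apply] at h2
    rw [h2, hEe, Ideal.mem_mul_span_singleton] at h1
    obtain ⟨k', hk', hke⟩ := h1
    have h3 : k' = k := mul_cancel_right_mem_nonZeroDivisors he |>.1 hke
    rw [← h3]; exact hk'
  have hloc : ∀ y : Y, ∃ V : Y.affineOpens, y ∈ V.1 ∧ L.ideal V = L'.ideal V := by
    intro y
    obtain ⟨V, hyV, e, he, hEe⟩ := hE y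
    exact ⟨V, hyV, le_antisymm (key L L' h V e he hEe) (key L' L h.symm V e he hEe)⟩
  choose V hyV hV using hloc
  apply Scheme.IdealSheafData.ext_of_iSup_eq_top V
  · rw [eq_top_iff]
    intro y _
    exact Opens.mem_iSup.2 ⟨y, hyV y⟩
  · exact hV

theorem main {S₀ S₁ T X Y₁ Y₀ : Scheme.{u}} (I₀ : S₀.IdealSheafData)
    (I₁ : S₁.IdealSheafData) (J : T.IdealSheafData) (I : X.IdealSheafData)
    (h₀ : BlowUp.IsEffCartierIdeal I₀) (h₁ : BlowUp.IsEffCartierIdeal I₁)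
    (hT : BlowUp.IsEffCartierIdeal J) (hX : BlowUp.IsEffCartierIdeal I)
    (f : X ⟶ S₁) (hf : ModPair.IsAmbient I I₁ f) (g : T ⟶ S₁) (hg : ModPair.IsAmbient J I₁ g)
    (σ : S₁ ⟶ S₀) (hσ : ModPair.IsAmbient I₁ I₀ σ)
    (π₁ : Y₁ ⟶ ModPair.mprod f g I J) (K₁ : Y₁.IdealSheafData) (hY₁ : ModPair.IsAmbProd f g I J π₁ K₁)
    (π₀ : Y₀ ⟶ ModPair.mprod (f ≫ σ) (g ≫ σ) I J) (K₀ : Y₀.IdealSheafData)
    (hY₀ : ModPair.IsAmbProd (f ≫ σ) (g ≫ σ) I J π₀ K₀) :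
    (∃! φ : Y₁ ⟶ Y₀, φ ≫ π₀ ≫ ModPair.mprodι (f ≫ σ) (g ≫ σ) I J =
        π₁ ≫ ModPair.mprodι f g I J ≫ pullback.mapDesc f g σ) ∧
      ∀ φ : Y₁ ⟶ Y₀, φ ≫ π₀ ≫ ModPair.mprodι (f ≫ σ) (g ≫ σ) I J =
          π₁ ≫ ModPair.mprodι f g I J ≫ pullback.mapDesc f g σ →
        ModPair.IsMinimal K₁ K₀ φ := by
  haveI := isAffineHom_interior_ι I hX
  haveI := isAffineHom_interior_ι J hT
  haveI := isAffineHom_preimage_ι (pullback.fst f g) (ModPair.interior I)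
  haveI := isAffineHom_preimage_ι (pullback.snd f g) (ModPair.interior J)
  haveI hqc : IsAffineHom (ModPair.prodInterior f g I J).ι := isAffineHom_inf_ι _ _
  set W₁ := ModPair.prodInterior f g I J with hW₁
  set W₀ := ModPair.prodInterior (f ≫ σ) (g ≫ σ) I J with hW₀
  set ι₁ := ModPair.mprodι f g I J with hι₁
  set ι₀ := ModPair.mprodι (f ≫ σ) (g ≫ σ) I J with hι₀
  set m := pullback.mapDesc f g σ with hm
  have hm1 : m ≫ pullback.fst (f ≫ σ) (g ≫ σ) = pullback.fst f g := by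
    rw [hm]; unfold pullback.mapDesc pullback.map
    rw [pullback.lift_fst, Category.comp_id]
  have hm2 : m ≫ pullback.snd (f ≫ σ) (g ≫ σ) = pullback.snd f g := by
    rw [hm]; unfold pullback.mapDesc pullback.map
    rw [pullback.lift_snd, Category.comp_id]
  obtain ⟨hπ₁, hK₁⟩ := hY₁
  obtain ⟨hπ₀, hK₀⟩ := hY₀
  -- the map between the scheme theoretic images
  haveI : IsAffineHom (ι₁ ⁻¹ᵁ W₁).ι := isAffineHom_preimage_ι ι₁ W₁
  haveI : IsSchemeTheoreticallyDominant (ι₁ ⁻¹ᵁ W₁).ι :=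
    Groth.Agent.S18737.dominant_preimage_imageι W₁ W₁ le_rfl
  have hD : ι₁ ⁻¹ᵁ W₁ ≤ (ι₁ ≫ m) ⁻¹ᵁ W₀ := by
    intro z hz
    refine ⟨?_, ?_⟩
    · show (pullback.fst (f ≫ σ) (g ≫ σ)) ((ι₁ ≫ m) z) ∈ ModPair.interior I
      rw [← Scheme.Hom.comp_apply, Category.assoc, hm1]
      exact hz.1
    · show (pullback.snd (f ≫ σ) (g ≫ σ)) ((ι₁ ≫ m) z) ∈ ModPair.interior J
      rw [← Scheme.Hom.comp_apply, Category.assoc, hm2]
      exact hz.2
  obtain ⟨c₁, hc₁⟩ := exists_restrict_interior (ι₁ ≫ m) (ι₁ ⁻¹ᵁ W₁) W₀ hD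
  obtain ⟨m₁, hm₁'⟩ := exists_lift_image W₀.ι (ι₁ ≫ m) (ι₁ ⁻¹ᵁ W₁) c₁ hc₁
  have hm₁ : m₁ ≫ ι₀ = ι₁ ≫ m := hm₁'
  -- pulled back ideals
  have hIpull : ∀ {Z : Scheme.{u}} (ψ : Z ⟶ ModPair.mprod f g I J),
      I.comap (ψ ≫ m₁ ≫ ι₀ ≫ pullback.fst (f ≫ σ) (g ≫ σ)) =
        I.comap (ψ ≫ ι₁ ≫ pullback.fst f g) := by
    intro Z ψ
    rw [← Category.assoc m₁, hm₁, Category.assoc ι₁, hm1]
  have hJpull : ∀ {Z : Scheme.{u}} (ψ : Z ⟶ ModPair.mprod f g I J),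
      J.comap (ψ ≫ m₁ ≫ ι₀ ≫ pullback.snd (f ≫ σ) (g ≫ σ)) =
        J.comap (ψ ≫ ι₁ ≫ pullback.snd f g) := by
    intro Z ψ
    rw [← Category.assoc m₁, hm₁, Category.assoc ι₁, hm2]
  have hC : (ModPair.prodCentre (f ≫ σ) (g ≫ σ) I J).comap m₁ = ModPair.prodCentre f g I J := by
    unfold ModPair.prodCentre
    rw [Scheme.IdealSheafData.comap_sup, ← Scheme.IdealSheafData.comap_comp,
      ← Scheme.IdealSheafData.comap_comp]
    have e1 := hIpull (𝟙 _)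
    have e2 := hJpull (𝟙 _)
    rw [Category.id_comp, Category.id_comp] at e1 e2
    rw [e1, e2]
  have hcart : BlowUp.IsEffCartierIdeal
      ((ModPair.prodCentre (f ≫ σ) (g ≫ σ) I J).comap (π₁ ≫ m₁)) := by
    rw [Scheme.IdealSheafData.comap_comp, hC]
    exact hπ₁.1
  obtain ⟨φ, hφ, hφu⟩ := hπ₀.2 Y₁ (π₁ ≫ m₁) hcart
  have hfac : ∀ φ' : Y₁ ⟶ Y₀, φ' ≫ π₀ ≫ ι₀ = π₁ ≫ ι₁ ≫ m ↔ φ' ≫ π₀ = π₁ ≫ m₁ := by
    intro φ'
    rw [← cancel_mono ι₀, Category.assoc, Category.assoc, hm₁]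
  refine ⟨⟨φ, (hfac φ).2 hφ, fun φ' h' => hφu φ' ((hfac φ').1 h')⟩, ?_⟩
  intro φ' h'
  have h'' := (hfac φ').1 h'
  show K₁ = K₀.comap φ'
  -- pull back the defining identity of K₀
  have hA : (I.comap (ι₀ ≫ pullback.fst (f ≫ σ) (g ≫ σ))).comap (φ' ≫ π₀) =
      (I.comap (ι₁ ≫ pullback.fst f g)).comap π₁ := by
    rw [h'', ← Scheme.IdealSheafData.comap_comp, ← Scheme.IdealSheafData.comap_comp,
      Category.assoc, hIpull π₁]
  have hB : (J.comap (ι₀ ≫ pullback.snd (f ≫ σ) (g ≫ σ))).comap (φ' ≫ π₀) =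
      (J.comap (ι₁ ≫ pullback.snd f g)).comap π₁ := by
    rw [h'', ← Scheme.IdealSheafData.comap_comp, ← Scheme.IdealSheafData.comap_comp,
      Category.assoc, hJpull π₁]
  have hE : (ModPair.prodCentre (f ≫ σ) (g ≫ σ) I J).comap (φ' ≫ π₀) =
      (ModPair.prodCentre f g I J).comap π₁ := by
    rw [h'', Scheme.IdealSheafData.comap_comp, hC]
  have h3 := congrArg (fun L => Scheme.IdealSheafData.comap L φ') hK₀
  simp only [comap_mul] at h3
  have eA : ((I.comap (ι₀ ≫ pullback.fst (f ≫ σ) (g ≫ σ))).comap π₀).comap φ' =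
      (I.comap (ι₁ ≫ pullback.fst f g)).comap π₁ := by
    rw [← hA]; exact (Scheme.IdealSheafData.comap_comp _ φ' π₀).symm
  have eB : ((J.comap (ι₀ ≫ pullback.snd (f ≫ σ) (g ≫ σ))).comap π₀).comap φ' =
      (J.comap (ι₁ ≫ pullback.snd f g)).comap π₁ := by
    rw [← hB]; exact (Scheme.IdealSheafData.comap_comp _ φ' π₀).symm
  have eE : ((ModPair.prodCentre (f ≫ σ) (g ≫ σ) I J).comap π₀).comap φ' =
      (ModPair.prodCentre f g I J).comap π₁ := by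
    rw [← hE]; exact (Scheme.IdealSheafData.comap_comp _ φ' π₀).symm
  rw [eA, eB, eE, ← hK₁] at h3
  exact (mul_cancel_effCartier _ _ _ hπ₁.1 h3).symm

/-- Let (S₀, I₀), (S₁, I₁), (T, J), (X, I) be schemes with quasi-coherent ideal sheaves of effective
Cartier divisors, f : X ⟶ S₁, g : T ⟶ S₁ and σ : S₁ ⟶ S₀ morphisms satisfying the modulus condition,
and let (Y₁, K₁) with π₁ and (Y₀, K₀) with π₀ be ambient products of (X, I) and (T, J) over S₁ and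
over S₀ (the latter for f ≫ σ and g ≫ σ): blow-ups of the scheme-theoretic image of the product of
the interiors inside X ×_{S₁} T, resp. X ×_{S₀} T, in the intersection of the pulled-back moduli,
with K·E = D_X·D_T. Then the ambient product is functorial in the base: there is a unique morphism φ
: Y₁ ⟶ Y₀ compatible with the maps to X ×_{S₀} T (through the canonical X ×_{S₁} T ⟶ X ×_{S₀} T),
and every such φ is minimal, K₁ = K₀.comap φ. -/
theorem result {S₀ S₁ T X Y₁ Y₀ : Scheme.{u}} (I₀ : S₀.IdealSheafData)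
    (I₁ : S₁.IdealSheafData) (J : T.IdealSheafData) (I : X.IdealSheafData)
    (h₀ : BlowUp.IsEffCartierIdeal I₀) (h₁ : BlowUp.IsEffCartierIdeal I₁)
    (hT : BlowUp.IsEffCartierIdeal J) (hX : BlowUp.IsEffCartierIdeal I)
    (f : X ⟶ S₁) (hf : ModPair.IsAmbient I I₁ f) (g : T ⟶ S₁) (hg : ModPair.IsAmbient J I₁ g)
    (σ : S₁ ⟶ S₀) (hσ : ModPair.IsAmbient I₁ I₀ σ)
    (π₁ : Y₁ ⟶ ModPair.mprod f g I J) (K₁ : Y₁.IdealSheafData) (hY₁ : ModPair.IsAmbProd f g I J π₁ K₁)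
    (π₀ : Y₀ ⟶ ModPair.mprod (f ≫ σ) (g ≫ σ) I J) (K₀ : Y₀.IdealSheafData)
    (hY₀ : ModPair.IsAmbProd (f ≫ σ) (g ≫ σ) I J π₀ K₀) :
    (∃! φ : Y₁ ⟶ Y₀, φ ≫ π₀ ≫ ModPair.mprodι (f ≫ σ) (g ≫ σ) I J =
        π₁ ≫ ModPair.mprodι f g I J ≫ pullback.mapDesc f g σ) ∧
      ∀ φ : Y₁ ⟶ Y₀, φ ≫ π₀ ≫ ModPair.mprodι (f ≫ σ) (g ≫ σ) I J =
          π₁ ≫ ModPair.mprodι f g I J ≫ pullback.mapDesc f g σ →
        ModPair.IsMinimal K₁ K₀ φ := by
  exact main I₀ I₁ J I h₀ h₁ hT hX f hf g hg σ hσ π₁ K₁ hY₁ π₀ K₀ hY₀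

end Groth.Agent.S18755
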