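import Groth.Statements.S1876
import Mathlib
-- import your own Groth.Agent.* helpers here

set_option autoImplicit false
universe u
open CategoryTheory
attribute [local instance] HasDerivedCategory.standard
open Trace

namespace Groth.Agent.S1876

variable {Λ : Type u} [CommRing Λ]

/-- Morphisms in the derived category out of a K-projective complex lift to chain maps. -/
lemma exists_lift (K L : CochainComplex (ModuleCat.{u} Λ) ℤ) [K.IsKProjective]
    (φ : DerivedCategory.Q.obj K ⟶ DerivedCategory.Q.obj L) :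
    ∃ a : K ⟶ L, DerivedCategory.Q.map a = φ := by
  obtain ⟨g, hg⟩ := (CochainComplex.IsKProjective.Qh_map_bijective K
    ((HomotopyCategory.quotient _ _).obj L)).surjective
    ((DerivedCategory.quotientCompQhIso _).hom.app K ≫ φ ≫
      (DerivedCategory.quotientCompQhIso _).inv.app L)
  obtain ⟨a, rfl⟩ := (HomotopyCategory.quotient _ _).map_surjective g
  refine ⟨a, ?_⟩
  have h1 := DerivedCategory.quotientCompQhIso_hom_naturality a
  rw [hg, Category.assoc, Category.assoc, Iso.inv_hom_id_app, Category.comp_id, cancel_epi] at h1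
  exact h1.symm

/-- Chain maps out of a K-projective complex with the same image in `D` are homotopic. -/
lemma homotopy_of_Q_map_eq (K L : CochainComplex (ModuleCat.{u} Λ) ℤ) [K.IsKProjective]
    (x y : K ⟶ L) (h : DerivedCategory.Q.map x = DerivedCategory.Q.map y) :
    Nonempty (Homotopy x y) := by
  have h1 := DerivedCategory.quotientCompQhIso_hom_naturality x
  have h2 := DerivedCategory.quotientCompQhIso_hom_naturality y
  rw [h] at h1
  have h3 : DerivedCategory.Qh.map ((HomotopyCategory.quotient _ _).map x) =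
      DerivedCategory.Qh.map ((HomotopyCategory.quotient _ _).map y) := by
    rw [← cancel_mono ((DerivedCategory.quotientCompQhIso _).hom.app L), h1, h2]
  exact ⟨HomotopyCategory.homotopyOfEq _ _
    ((CochainComplex.IsKProjective.Qh_map_bijective K _).injective h3)⟩

/-- The alternating trace. -/
noncomputable def altTr (P : DRing.Cx Λ) (a b : ℤ) (f : P ⟶ P) : Λ :=
  ∑ i ∈ Finset.Icc a b, ((i.negOnePow : ℤˣ) : ℤ) • LinearMap.trace Λ (P.X i) (f.f i).hom

lemma altTr_comm (P Q : DRing.Cx Λ) (a b : ℤ) (hPf : DRing.TermwiseFiniteFree P)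
    (hQf : DRing.TermwiseFiniteFree Q) (x : P ⟶ Q) (y : Q ⟶ P) :
    altTr P a b (x ≫ y) = altTr Q a b (y ≫ x) := by
  unfold altTr
  refine Finset.sum_congr rfl (fun i _ => ?_)
  congr 1
  have := (hPf i).1
  have := (hPf i).2
  have := (hQf i).1
  have := (hQf i).2
  rw [HomologicalComplex.comp_f, HomologicalComplex.comp_f, ModuleCat.hom_comp, ModuleCat.hom_comp]
  exact LinearMap.trace_comp_comm' _ _

lemma shift_sum (u : ℤ → Λ) (a b : ℤ) (hu : ∀ j, j < a ∨ b ≤ j → u j = 0) :
    ∑ i ∈ Finset.Icc a b, u (i - 1) = ∑ i ∈ Finset.Icc a b, u i := by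
  have e1 : ∑ i ∈ Finset.Icc a b, u (i - 1) = ∑ j ∈ Finset.Icc (a - 1) (b - 1), u j := by
    refine Finset.sum_nbij' (fun i => i - 1) (fun j => j + 1) ?_ ?_ ?_ ?_ ?_
    · intro i hi
      simp only [Finset.mem_Icc] at hi ⊢
      omega
    · intro i hi
      simp only [Finset.mem_Icc] at hi ⊢
      omega
    · intro i _
      simp
    · intro i _
      simp
    · intro i _
      rfl
  have e2 : ∑ j ∈ Finset.Icc (a - 1) (b - 1), u j = ∑ j ∈ Finset.Icc (a - 1) b, u j := by
    refine Finset.sum_subset ?_ ?_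
    · intro i hi
      simp only [Finset.mem_Icc] at hi ⊢
      omega
    · intro i hi hi'
      simp only [Finset.mem_Icc] at hi hi'
      exact hu i (Or.inr (by omega))
  have e3 : ∑ j ∈ Finset.Icc a b, u j = ∑ j ∈ Finset.Icc (a - 1) b, u j := by
    refine Finset.sum_subset ?_ ?_
    · intro i hi
      simp only [Finset.mem_Icc] at hi ⊢
      omega
    · intro i hi hi'
      simp only [Finset.mem_Icc] at hi hi'
      exact hu i (Or.inl (by omega))
  rw [e1, e2, e3]

lemma altTr_eq_of_homotopy (P : DRing.Cx Λ) (a b : ℤ) (hP : DRing.VanishesOutside P a b)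
    (hPf : DRing.TermwiseFiniteFree P) (f f' : P ⟶ P) (H : Homotopy f f') :
    altTr P a b f = altTr P a b f' := by
  -- `s i` : trace of `d ≫ h` on `P.X i`
  let s : ℤ → Λ := fun i => LinearMap.trace Λ (P.X i) (P.d i (i + 1) ≫ H.hom (i + 1) i).hom
  have hs0 : ∀ j, j < a ∨ b ≤ j → s j = 0 := by
    intro j hj
    have : P.d j (j + 1) ≫ H.hom (j + 1) j = 0 := by
      rcases hj with hj | hj
      · exact (hP j (Or.inl hj)).eq_of_src _ _
      · rw [(hP (j + 1) (Or.inr (by omega))).eq_of_tgt (P.d j (j + 1)) 0, Limits.zero_comp]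
    simp only [s, this, ModuleCat.hom_zero, map_zero]
  have hs1 : ∀ (j i : ℤ) (hji : j + 1 = i),
      LinearMap.trace Λ (P.X i) (H.hom i j ≫ P.d j i).hom = s j := by
    intro j i hji
    subst hji
    have := (hPf j).1
    have := (hPf j).2
    have := (hPf (j + 1)).1
    have := (hPf (j + 1)).2
    simp only [s]
    rw [ModuleCat.hom_comp, ModuleCat.hom_comp]
    exact LinearMap.trace_comp_comm' _ _
  have key : ∀ i, LinearMap.trace Λ (P.X i) (f.f i).hom =
      s i + s (i - 1) + LinearMap.trace Λ (P.X i) (f'.f i).hom := by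
    intro i
    have hc := H.comm i
    rw [dNext_eq H.hom (show (ComplexShape.up ℤ).Rel i (i + 1) from rfl),
      prevD_eq H.hom (show (ComplexShape.up ℤ).Rel (i - 1) i from by simp)] at hc
    rw [hc, ModuleCat.hom_add, ModuleCat.hom_add, map_add, map_add, hs1 (i - 1) i (by omega)]
  let u : ℤ → Λ := fun i => ((i.negOnePow : ℤˣ) : ℤ) • s i
  have hu0 : ∀ j, j < a ∨ b ≤ j → u j = 0 := by
    intro j hj
    simp only [u, hs0 j hj, smul_zero]
  have hshift := shift_sum u a b hu0
  unfold altTr
  have : ∀ i ∈ Finset.Icc a b,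
      ((i.negOnePow : ℤˣ) : ℤ) • LinearMap.trace Λ (P.X i) (f.f i).hom =
      (u i - u (i - 1)) + ((i.negOnePow : ℤˣ) : ℤ) • LinearMap.trace Λ (P.X i) (f'.f i).hom := by
    intro i _
    rw [key i]
    simp only [u, Int.negOnePow_sub, Int.negOnePow_one, smul_add]
    simp
  rw [Finset.sum_congr rfl this, Finset.sum_add_distrib, Finset.sum_sub_distrib, hshift, sub_self,
    zero_add]

/-- Commutative coefficient ring, finite free terms: let P and Q be bounded complexes of finite free
Λ-modules with chain endomorphisms f and g, and α : P ≅ Q an isomorphism in the derived category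
D(Λ) with α ∘ f = g ∘ α there. Then Σ_i (−1)^i Tr(f^i | P^i) = Σ_i (−1)^i Tr(g^i | Q^i); that is,
the trace of an endomorphism of a perfect object of D(Λ) is well defined. -/
theorem result (Λ : Type u) [CommRing Λ] (P Q : DRing.Cx Λ) (a b : ℤ) (hP : DRing.VanishesOutside P a b) (hQ : DRing.VanishesOutside Q a b) (hPf : DRing.TermwiseFiniteFree P) (hQf : DRing.TermwiseFiniteFree Q) (f : P ⟶ P) (g : Q ⟶ Q) (α : DRing.toD P ≅ DRing.toD Q) (h : α.hom ≫ DerivedCategory.Q.map g = DerivedCategory.Q.map f ≫ α.hom) : ∑ i ∈ Finset.Icc a b, ((i.negOnePow : ℤˣ) : ℤ) • LinearMap.trace Λ (P.X i) (f.f i).hom = ∑ i ∈ Finset.Icc a b, ((i.negOnePow : ℤˣ) : ℤ) • LinearMap.trace Λ (Q.X i) (g.f i).hom := by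
  have : P.IsStrictlyLE b := (CochainComplex.isStrictlyLE_iff P b).2 (fun i hi => hP i (Or.inr hi))
  have : Q.IsStrictlyLE b := (CochainComplex.isStrictlyLE_iff Q b).2 (fun i hi => hQ i (Or.inr hi))
  have : ∀ n, Projective (P.X n) := fun n => by
    have := (hPf n).2
    infer_instance
  have : ∀ n, Projective (Q.X n) := fun n => by
    have := (hQf n).2
    infer_instance
  have : P.IsKProjective := CochainComplex.isKProjective_of_projective P b
  have : Q.IsKProjective := CochainComplex.isKProjective_of_projective Q b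
  obtain ⟨x, hx⟩ := exists_lift P Q α.hom
  obtain ⟨y, hy⟩ := exists_lift Q P α.inv
  obtain ⟨Hxy⟩ : Nonempty (Homotopy (x ≫ y) (𝟙 P)) := homotopy_of_Q_map_eq _ _ _ _ (by
    rw [Functor.map_comp, hx, hy, α.hom_inv_id, CategoryTheory.Functor.map_id])
  obtain ⟨Hyx⟩ : Nonempty (Homotopy (y ≫ x) (𝟙 Q)) := homotopy_of_Q_map_eq _ _ _ _ (by
    rw [Functor.map_comp, hx, hy, α.inv_hom_id, CategoryTheory.Functor.map_id])
  obtain ⟨Hfg⟩ : Nonempty (Homotopy (x ≫ g) (f ≫ x)) := homotopy_of_Q_map_eq _ _ _ _ (by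
    rw [Functor.map_comp, Functor.map_comp, hx]
    exact h)
  show altTr P a b f = altTr Q a b g
  calc altTr P a b f = altTr P a b (f ≫ x ≫ y) :=
        altTr_eq_of_homotopy P a b hP hPf _ _ ((Hxy.compLeftId f).symm)
    _ = altTr P a b ((f ≫ x) ≫ y) := by rw [Category.assoc]
    _ = altTr Q a b (y ≫ (f ≫ x)) := altTr_comm P Q a b hPf hQf _ _
    _ = altTr Q a b g := altTr_eq_of_homotopy Q a b hQ hQf _ _
        (((Hfg.symm.compLeft y).trans (Homotopy.ofEq (Category.assoc _ _ _).symm)).trans
          (Hyx.compRightId g))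

end Groth.Agent.S1876
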