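import Groth.Statements.S18789
import Mathlib

set_option autoImplicit false
universe u v w x
open TorusGr

namespace Groth.Agent.S18789

open DirectSum

section gr
variable {k : Type u} [Field k] {M : Type v} [AddCommGroup M] [DecidableEq M]
  {A : Type w} [CommRing A] [Algebra k A] (𝒜 : M → Submodule k A) [GradedAlgebra 𝒜]
  {P : Type x} [AddCommGroup P] [Module A P] [Module k P] [IsScalarTower k A P]
  (ℳ : M → Submodule k P) [Decomposition ℳ] [SetLike.GradedSMul 𝒜 ℳ]

/-- component -/
noncomputable def pr (t : M) (p : P) : P := ((DirectSum.decompose ℳ p) t : P)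

theorem pr_add (t : M) (p q : P) : pr ℳ t (p + q) = pr ℳ t p + pr ℳ t q := by
  classical
  simp [pr, DirectSum.decompose_add]

theorem pr_zero (t : M) : pr ℳ t (0 : P) = 0 := by
  classical
  simp [pr]

theorem pr_sum {ι : Type*} (s : Finset ι) (t : M) (f : ι → P) :
    pr ℳ t (∑ i ∈ s, f i) = ∑ i ∈ s, pr ℳ t (f i) := by
  classical
  induction s using Finset.induction_on with
  | empty => simp [pr_zero]
  | insert a s ha ih => rw [Finset.sum_insert ha, Finset.sum_insert ha, pr_add, ih]

theorem pr_same {t : M} {p : P} (hp : p ∈ ℳ t) : pr ℳ t p = p :=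
  DirectSum.decompose_of_mem_same ℳ hp

theorem pr_ne {t l : M} {p : P} (hp : p ∈ ℳ l) (h : l ≠ t) : pr ℳ t p = 0 :=
  DirectSum.decompose_of_mem_ne ℳ hp h

/-- Lemma G -/
theorem pr_smul (a : A) {d : M} {p : P} (hp : p ∈ ℳ d) (t : M) :
    pr ℳ t (a • p) = ((DirectSum.decompose 𝒜 a) (t - d) : A) • p := by
  induction a using DirectSum.Decomposition.inductionOn 𝒜 with
  | zero => simp [pr_zero]
  | @homogeneous e a =>
    have hmem : (a : A) • p ∈ ℳ (e + d) := by
      have := SetLike.GradedSMul.smul_mem (A := 𝒜) (B := ℳ) a.2 hp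
      rwa [vadd_eq_add] at this
    by_cases he : e + d = t
    · subst he
      rw [pr_same ℳ hmem, add_sub_cancel_right, DirectSum.decompose_of_mem_same 𝒜 a.2]
    · have hne : e ≠ t - d := by
        intro h; apply he; rw [h]; abel
      rw [pr_ne ℳ hmem he, DirectSum.decompose_of_mem_ne 𝒜 a.2 hne, zero_smul]
  | add a b ha hb =>
    rw [add_smul, pr_add, ha, hb, DirectSum.decompose_add, DirectSum.add_apply,
      Submodule.coe_add, add_smul]

theorem sum_pr (p : P) : ∃ s : Finset M, ∑ j ∈ s, pr ℳ j p = p := by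
  classical
  exact ⟨_, DirectSum.sum_support_decompose ℳ p⟩

theorem pr_mem (t : M) (p : P) : pr ℳ t p ∈ ℳ t := Submodule.coe_mem _

variable {n : ℕ} (wt : Fin n → M) (f : Fin n → P) (hf : ∀ i, f i ∈ ℳ (wt i))

include hf in
/-- H1/H3 formula -/
theorem pr_comb (c : Fin n → A) (t : M) :
    pr ℳ t (∑ i, c i • f i) = ∑ i, ((DirectSum.decompose 𝒜 (c i)) (t - wt i) : A) • f i := by
  rw [pr_sum]
  exact Finset.sum_congr rfl (fun i _ => pr_smul 𝒜 ℳ (c i) (hf i) t)

include 𝒜 hf in
theorem span_homog {y : P} (hy : y ∈ Submodule.span A (Set.range f)) (t : M) :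
    pr ℳ t y ∈ Submodule.span A (Set.range f) := by
  obtain ⟨c, rfl⟩ := (Submodule.mem_span_range_iff_exists_fun A).mp hy
  rw [pr_comb 𝒜 ℳ wt f hf]
  exact Submodule.sum_mem _ (fun i _ => Submodule.smul_mem _ _ (Submodule.subset_span ⟨i, rfl⟩))

include hf in
/-- H2 -/
theorem comp_smul_mem {a : A} (ha : ∀ p : P, a • p ∈ Submodule.span A (Set.range f)) (e : M)
    (p : P) : ((DirectSum.decompose 𝒜 a) e : A) • p ∈ Submodule.span A (Set.range f) := by
  obtain ⟨s, hs⟩ := sum_pr ℳ p
  rw [← hs, Finset.smul_sum]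
  refine Submodule.sum_mem _ (fun d _ => ?_)
  have h1 := span_homog 𝒜 ℳ wt f hf (ha (pr ℳ d p)) (e + d)
  rw [pr_smul 𝒜 ℳ a (pr_mem ℳ d p)] at h1
  have : e + d - d = e := by abel
  rwa [this] at h1

end gr

section main
open Matrix

theorem main
    {k : Type u} [Field k] {M : Type v} [AddCommGroup M] [DecidableEq M]
    {A : Type w} [CommRing A] [Algebra k A] (𝒜 : M → Submodule k A) [GradedAlgebra 𝒜]
    {P : Type x} [AddCommGroup P] [Module A P] [Module k P] [IsScalarTower k A P]
    (ℳ : M → Submodule k P) [Decomposition ℳ] [SetLike.GradedSMul 𝒜 ℳ]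
    [Module.Finite A P] [Module.Projective A P]
    (m : Ideal A) [hmax : m.IsMaximal] (hm : m.IsHomogeneous 𝒜)
    {n : ℕ} (wt : Fin n → M) (f : Fin n → P) (hf : ∀ i, f i ∈ ℳ (wt i))
    (hli : LinearIndependent (A ⧸ m)
      (fun i => (Submodule.Quotient.mk (f i) : P ⧸ (m • (⊤ : Submodule A P)))))
    (hsp : Submodule.span A (Set.range f) ⊔ m • (⊤ : Submodule A P) = ⊤) :
    ∃ s : A, SetLike.IsHomogeneousElem 𝒜 s ∧ s ∉ m ∧
      (∀ p : P, ∃ (N : ℕ) (c : Fin n → A), s ^ N • p = ∑ i, c i • f i) ∧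
      (∀ c : Fin n → A, ∑ i, c i • f i = 0 → ∃ N : ℕ, ∀ i, s ^ N * c i = 0) := by
  classical
  have hprime : m.IsPrime := hmax.isPrime
  -- a general fact: an element outside m has a component outside m
  have hcomp : ∀ a : A, a ∉ m → ∃ e, ((DirectSum.decompose 𝒜 a) e : A) ∉ m := by
    intro a ha
    by_contra hcon
    push Not at hcon
    apply ha
    rw [← DirectSum.sum_support_decompose 𝒜 a]
    exact Ideal.sum_mem _ (fun e _ => hcon e)
  -- Step 1: Nakayama
  obtain ⟨r, hr1, hrN⟩ : ∃ r : A, r - 1 ∈ m ∧ ∀ p : P, r • p ∈ Submodule.span A (Set.range f) := by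
    have hin : (⊤ : Submodule A (P ⧸ Submodule.span A (Set.range f))) ≤ m • ⊤ := by
      intro q _
      obtain ⟨p, rfl⟩ := Submodule.Quotient.mk_surjective _ q
      have hp : p ∈ Submodule.span A (Set.range f) ⊔ m • (⊤ : Submodule A P) := by
        rw [hsp]; trivial
      obtain ⟨y, hy, z, hz, rfl⟩ := Submodule.mem_sup.mp hp
      have h1 : (Submodule.Quotient.mk (y + z) : P ⧸ Submodule.span A (Set.range f)) =
          (Submodule.span A (Set.range f)).mkQ z := by
        rw [Submodule.Quotient.mk_add, (Submodule.Quotient.mk_eq_zero _).mpr hy, zero_add]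
        rfl
      rw [h1]
      have h2 : (Submodule.span A (Set.range f)).mkQ z ∈
          Submodule.map (Submodule.span A (Set.range f)).mkQ (m • (⊤ : Submodule A P)) :=
        Submodule.mem_map_of_mem hz
      rw [Submodule.map_smul''] at h2
      exact Submodule.smul_mono le_rfl le_top h2
    obtain ⟨r, hr1, hr⟩ := Submodule.exists_sub_one_mem_and_smul_eq_zero_of_fg_of_le_smul m
      (⊤ : Submodule A (P ⧸ Submodule.span A (Set.range f))) Module.Finite.fg_top hin
    refine ⟨r, hr1, fun p => ?_⟩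
    have := hr (Submodule.Quotient.mk p) trivial
    rwa [← Submodule.Quotient.mk_smul, Submodule.Quotient.mk_eq_zero] at this
  have hr : r ∉ m := by
    intro h
    apply hmax.ne_top
    rw [Ideal.eq_top_iff_one]
    have := m.sub_mem h hr1
    simpa using this
  obtain ⟨e1, he1⟩ := hcomp r hr
  obtain ⟨s1, hs1⟩ : ∃ s1 : A, s1 = ((DirectSum.decompose 𝒜 r) e1 : A) := ⟨_, rfl⟩
  rw [← hs1] at he1
  have hs1mem : s1 ∈ 𝒜 e1 := by rw [hs1]; exact Submodule.coe_mem _
  have hs1N : ∀ p : P, s1 • p ∈ Submodule.span A (Set.range f) := by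
    intro p; rw [hs1]; exact comp_smul_mem 𝒜 ℳ wt f hf hrN e1 p
  -- Step 3: lifting
  have hrange : LinearMap.range (Fintype.linearCombination A f) = Submodule.span A (Set.range f) :=
    Fintype.range_linearCombination A f
  obtain ⟨ψ, hψ⟩ : ∃ ψ : P →ₗ[A] (Fin n → A), ∀ p, ∑ i, ψ p i • f i = s1 • p := by
    obtain ⟨ψ, hψ⟩ := Module.projective_lifting_property
      (LinearMap.rangeRestrict (Fintype.linearCombination A f))
      (LinearMap.codRestrict (LinearMap.range (Fintype.linearCombination A f))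
        (s1 • (LinearMap.id : P →ₗ[A] P)) (fun p => by rw [hrange]; exact hs1N p))
      (LinearMap.surjective_rangeRestrict _)
    refine ⟨ψ, fun p => ?_⟩
    have := congrArg Subtype.val (LinearMap.congr_fun hψ p)
    simpa [Fintype.linearCombination_apply] using this
  obtain ⟨Tm, hTm⟩ : ∃ Tm : Matrix (Fin n) (Fin n) A, Tm = fun i j => ψ (f j) i := ⟨_, rfl⟩
  have hTmul : ∀ c : Fin n → A, Tm *ᵥ c = ψ (∑ j, c j • f j) := by
    intro c
    ext i
    rw [map_sum, Finset.sum_apply, Matrix.mulVec, dotProduct]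
    refine Finset.sum_congr rfl (fun j _ => ?_)
    rw [map_smul, Pi.smul_apply, hTm, smul_eq_mul, mul_comm]
  have hrel : ∀ c : Fin n → A, ∑ j, c j • f j = 0 → ∀ i, Tm.det * c i = 0 := by
    intro c hc i
    have h1 : Tm *ᵥ c = 0 := by rw [hTmul, hc, map_zero]
    have h2 : (Tm.adjugate * Tm) *ᵥ c = 0 := by
      rw [← Matrix.mulVec_mulVec, h1, Matrix.mulVec_zero]
    rw [Matrix.adjugate_mul, Matrix.smul_mulVec, Matrix.one_mulVec] at h2
    have := congrFun h2 i
    simpa using this
  -- Step 4: det Tm ∉ m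
  have hdet : Tm.det ∉ m := by
    have hent : ∀ i j, Ideal.Quotient.mk m (Tm i j) =
        Ideal.Quotient.mk m s1 * (if i = j then 1 else 0) := by
      intro i j
      have h1 : ∑ i, Tm i j • f i = s1 • f j := by
        rw [hTm]; exact hψ (f j)
      have hmk : ∀ (a : A) (p : P), Ideal.Quotient.mk m a •
          (Submodule.Quotient.mk p : P ⧸ (m • (⊤ : Submodule A P))) =
          (m • (⊤ : Submodule A P)).mkQ (a • p) := fun a p => rfl
      have h3 : ∑ i, Ideal.Quotient.mk m (Tm i j) •
          (Submodule.Quotient.mk (f i) : P ⧸ (m • (⊤ : Submodule A P))) =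
          Ideal.Quotient.mk m s1 • (Submodule.Quotient.mk (f j) : P ⧸ (m • (⊤ : Submodule A P))) := by
        simp_rw [hmk]
        rw [← map_sum, h1]
      have h2 : ∑ i, (Ideal.Quotient.mk m (Tm i j) - Ideal.Quotient.mk m s1 * (if i = j then 1 else 0)) •
          (Submodule.Quotient.mk (f i) : P ⧸ (m • (⊤ : Submodule A P))) = 0 := by
        simp only [sub_smul, Finset.sum_sub_distrib, mul_smul, ite_smul, one_smul, zero_smul,
          smul_ite, smul_zero, Finset.sum_ite_eq', Finset.mem_univ, if_true]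
        rw [h3, sub_self]
      have := Fintype.linearIndependent_iff.mp hli _ h2 i
      exact sub_eq_zero.mp this
    have hmap : (Ideal.Quotient.mk m).mapMatrix Tm = Ideal.Quotient.mk m s1 • (1 : Matrix (Fin n) (Fin n) (A ⧸ m)) := by
      ext i j
      rw [RingHom.mapMatrix_apply, Matrix.map_apply, hent, Matrix.smul_apply, Matrix.one_apply,
        smul_eq_mul]
    intro hmem
    have h0 : Ideal.Quotient.mk m Tm.det = 0 := Ideal.Quotient.eq_zero_iff_mem.mpr hmem
    rw [RingHom.map_det, hmap, Matrix.det_smul, Matrix.det_one, mul_one] at h0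
    have hne : Ideal.Quotient.mk m s1 ≠ 0 := by
      intro h; exact he1 (Ideal.Quotient.eq_zero_iff_mem.mp h)
    exact pow_ne_zero _ hne h0
  -- Step 5
  obtain ⟨e2, he2⟩ := hcomp _ hdet
  obtain ⟨s2, hs2⟩ : ∃ s2 : A, s2 = ((DirectSum.decompose 𝒜 Tm.det) e2 : A) := ⟨_, rfl⟩
  rw [← hs2] at he2
  have hs2mem : s2 ∈ 𝒜 e2 := by rw [hs2]; exact Submodule.coe_mem _
  have hs2rel : ∀ c : Fin n → A, ∑ j, c j • f j = 0 → ∀ i, s2 * c i = 0 := by
    intro c hc i
    have hcomp0 : ∀ u : M, s2 * ((DirectSum.decompose 𝒜 (c i)) u : A) = 0 := by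
      intro u
      -- t = u + wt i
      have h1 : ∑ j, ((DirectSum.decompose 𝒜 (c j)) (u + wt i - wt j) : A) • f j = 0 := by
        rw [← pr_comb 𝒜 ℳ wt f hf c (u + wt i), hc, pr_zero]
      have h2 := hrel _ h1 i
      rw [add_sub_cancel_right] at h2
      have h3 := DirectSum.coe_decompose_mul_add_of_right_mem 𝒜 (a := Tm.det) (i := e2)
        (Submodule.coe_mem ((DirectSum.decompose 𝒜 (c i)) u))
      rw [h2, DirectSum.decompose_zero, DirectSum.zero_apply, ZeroMemClass.coe_zero] at h3
      rw [hs2]; exact h3.symm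
    rw [← DirectSum.sum_support_decompose 𝒜 (c i), Finset.mul_sum]
    exact Finset.sum_eq_zero (fun u _ => hcomp0 u)
  -- Step 6
  refine ⟨s1 * s2, ⟨e1 + e2, SetLike.GradedMul.mul_mem hs1mem hs2mem⟩, ?_, ?_, ?_⟩
  · intro h
    rcases hprime.mem_or_mem h with h | h
    · exact he1 h
    · exact he2 h
  · intro p
    have h1 : (s1 * s2) ^ 1 • p ∈ Submodule.span A (Set.range f) := by
      rw [pow_one, mul_comm, mul_smul]
      exact Submodule.smul_mem _ _ (hs1N p)
    obtain ⟨c, hc⟩ := (Submodule.mem_span_range_iff_exists_fun A).mp h1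
    exact ⟨1, c, hc.symm⟩
  · intro c hc
    refine ⟨1, fun i => ?_⟩
    rw [pow_one, mul_assoc, hs2rel c hc i, mul_zero]

end main

open DirectSum in
/-- Let `A` be a commutative algebra over a field `k`, graded by an additive commutative group `M` (for
`M` the character group of a split torus `T` this is a `T`-action on `Spec A`, and an `M`-graded
`A`-module is a `T`-equivariant quasi-coherent sheaf), let `P` be a finitely generated projective
`A`-module with a compatible `M`-grading (a locally free `T`-sheaf of finite rank), and let `m` be a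
homogeneous maximal ideal with residue field `k` (a `T`-fixed rational point). If homogeneous
elements `f i` of `P` reduce to a basis of `P/mP`, then there is a homogeneous `s ∉ m` such that
after inverting `s` the `f i` generate `P` and every relation among them is killed by a power of
`s`: on the invariant open `D(s)` the module is free on the homogeneous sections `f i`, with the
weights of the fibre `P/mP`. (The published statement has `M ≅ ℤ^r`, a split torus; here `M` is any
additive commutative group, i.e. any diagonalizable group.) -/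
theorem result
    {k : Type u} [Field k] {M : Type v} [AddCommGroup M] [DecidableEq M]
    {A : Type w} [CommRing A] [Algebra k A] (𝒜 : M → Submodule k A) [GradedAlgebra 𝒜]
    {P : Type x} [AddCommGroup P] [Module A P] [Module k P] [IsScalarTower k A P]
    (ℳ : M → Submodule k P) [Decomposition ℳ] [SetLike.GradedSMul 𝒜 ℳ]
    [Module.Finite A P] [Module.Projective A P]
    (m : Ideal A) [m.IsMaximal] (hm : m.IsHomogeneous 𝒜)
    (hrat : Function.Surjective (algebraMap k (A ⧸ m)))
    {n : ℕ} (wt : Fin n → M) (f : Fin n → P) (hf : ∀ i, f i ∈ ℳ (wt i))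
    (hli : LinearIndependent (A ⧸ m)
      (fun i => (Submodule.Quotient.mk (f i) : P ⧸ (m • (⊤ : Submodule A P)))))
    (hsp : Submodule.span A (Set.range f) ⊔ m • (⊤ : Submodule A P) = ⊤) :
    ∃ s : A, SetLike.IsHomogeneousElem 𝒜 s ∧ s ∉ m ∧
      (∀ p : P, ∃ (N : ℕ) (c : Fin n → A), s ^ N • p = ∑ i, c i • f i) ∧
      (∀ c : Fin n → A, ∑ i, c i • f i = 0 → ∃ N : ℕ, ∀ i, s ^ N * c i = 0) := by
  exact main 𝒜 ℳ m hm wt f hf hli hsp

end Groth.Agent.S18789
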