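import Groth.Statements.S1879
import Groth.Agent.H37.CharpolyBC
import Groth.Agent.H37.GrpdCalc2
import Groth.Agent.S7457

set_option autoImplicit false
universe u
open CategoryTheory CategoryTheory.Limits AlgebraicGeometry
open Grpd

namespace Groth.Agent.S1879

/-- Let (U, R, s, t, c) be a groupoid scheme with U, R affine and s, t finite locally free. Then Γ(U) is
integral over the subring C of R-invariant functions. (A groupoid scheme carries U, R, s, t, c, e, i
over S with the groupoid axioms on T-points; 'finite locally free' is finite, flat and locally of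
finite presentation; C ⊂ Γ(U) is the ring of functions a with s♯(a) = t♯(a) and M = Spec C.) -/
theorem result (S : Scheme.{u}) (G : Grpd.GroupoidScheme S) [IsAffine G.U] [IsAffine G.R] [IsFinite G.s] [Flat G.s] [LocallyOfFinitePresentation G.s] [IsFinite G.t] [Flat G.t] [LocallyOfFinitePresentation G.t] : Algebra.IsIntegral G.invariants Γ(G.U, ⊤) := by
  letI := G.s.appTop.hom.toAlgebra
  haveI hfin : Module.Finite Γ(G.U, ⊤) Γ(G.R, ⊤) := G.s.finite_appTop
  haveI hflat : Module.Flat Γ(G.U, ⊤) Γ(G.R, ⊤) := G.s.flat_appTop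
  haveI hfp : Algebra.FinitePresentation Γ(G.U, ⊤) Γ(G.R, ⊤) := G.s.finitePresentation_appTop
  haveI : Module.FinitePresentation Γ(G.U, ⊤) Γ(G.R, ⊤) :=
    Module.FinitePresentation.of_finite_of_finitePresentation _ _
  haveI : Module.Projective Γ(G.U, ⊤) Γ(G.R, ⊤) := Module.Flat.projective_of_finitePresentation
  obtain ⟨n, π, σ, -, -, hπσ⟩ :=
    Module.Finite.exists_comp_eq_id_of_projective Γ(G.U, ⊤) Γ(G.R, ⊤)
  have sq1 : IsPullback G.c (pullback.snd G.s G.t) G.s G.s := (Groth.Agent.S7457.result S G).2
  have sq2 := IsPullback.of_hasPullback G.s G.t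
  have p1 := isPushout_appTop_of_isPullback sq1
  have p2 := isPushout_appTop_of_isPullback sq2
  have hes : ∀ a, G.e.appTop.hom (G.s.appTop.hom a) = a := by
    intro a
    have h := congrArg (fun φ => φ.appTop.hom a) G.e_s
    simpa using h
  have het : ∀ a, G.e.appTop.hom (G.t.appTop.hom a) = a := by
    intro a
    have h := congrArg (fun φ => φ.appTop.hom a) G.e_t
    simpa using h
  have hct : ∀ a, G.c.appTop.hom (G.t.appTop.hom a) =
      (pullback.fst G.s G.t).appTop.hom (G.t.appTop.hom a) := by
    intro a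
    have h := congrArg (fun φ => φ.appTop.hom a) (Groth.Agent.H37.GrpdCalc.c_t G)
    simpa using h
  refine ⟨fun f => ?_⟩
  exact Groth.Agent.H37.CharpolyBC.integral_main G.s.appTop.hom G.t.appTop.hom G.e.appTop.hom
    (pullback.fst G.s G.t).appTop.hom (pullback.snd G.s G.t).appTop.hom G.c.appTop.hom
    hes het hct n π σ hπσ
    (fun x => Groth.Agent.H37.CharpolyBC.charpoly_of_isPushout p1 n π σ hπσ x)
    (fun x => Groth.Agent.H37.CharpolyBC.charpoly_of_isPushout p2 n π σ hπσ x) f

end Groth.Agent.S1879
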