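import Groth.Statements.S18791
import Mathlib.RingTheory.Nakayama

set_option autoImplicit false
universe u v w x
open TorusGr

namespace Groth.Agent.S18791

/-- graded homomorphisms commute with taking homogeneous components -/
theorem decompose_map
    {k : Type u} [Field k] {M : Type v} [AddCommGroup M] [DecidableEq M]
    {A : Type w} [CommRing A] [Algebra k A] (𝒜 : M → Submodule k A) [GradedAlgebra 𝒜]
    {B : Type x} [CommRing B] [Algebra k B] (ℬ : M → Submodule k B) [GradedAlgebra ℬ]
    (φ : B →ₐ[k] A) (hφ : ∀ i : M, ∀ b ∈ ℬ i, φ b ∈ 𝒜 i) (b : B) (i : M) :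
    (DirectSum.decompose 𝒜 (φ b) i : A) = φ (DirectSum.decompose ℬ b i : B) := by
  induction b using DirectSum.Decomposition.inductionOn ℬ with
  | zero => simp
  | @homogeneous j c =>
    by_cases hij : j = i
    · subst hij
      rw [DirectSum.decompose_of_mem_same 𝒜 (hφ _ _ c.2), DirectSum.decompose_of_mem_same ℬ c.2]
    · rw [DirectSum.decompose_of_mem_ne 𝒜 (hφ _ _ c.2) hij, DirectSum.decompose_of_mem_ne ℬ c.2 hij,
        map_zero]
  | add c c' hc hc' =>
    rw [map_add, DirectSum.decompose_add, DirectSum.decompose_add, DirectSum.add_apply,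
      DirectSum.add_apply, Submodule.coe_add, Submodule.coe_add, map_add, hc, hc']

/-- Let `φ : B → A` be a degree-preserving homomorphism of commutative algebras over a field `k` graded
by an additive commutative group `M` (for `M` the character group of a split torus, an equivariant
morphism `Spec A → Spec B`), and let `m` be a maximal ideal of `A` containing all homogeneous
elements of non-zero degree (a fixed point). Then the ideal of those `b` whose image is zero in the
local ring `A_m` is homogeneous: the homogeneous (weight) components of such a `b` again die in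
`A_m`. Since `A_m` embeds in its completion when `A` is Noetherian, these are the elements of `B`
that die in the completed local ring. (The published lemma asserts moreover that, for `B = k[Y_1, …,
Y_d]` mapping the `Y_i` to semi-invariant lifts of a basis of `m/m²`, the kernel of the induced
surjection of completions `k[[Y]] → Â_m` is generated by semi-invariant polynomials; generation of
that kernel by polynomials can fail, so only the statement about polynomial elements of the kernel
is recorded here. The published statement has `M ≅ ℤ^r` (a split torus) and `B` the polynomial ring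
on the lifts; here `M` is any additive commutative group and `B` any `M`-graded `k`-algebra.) -/
theorem result
    {k : Type u} [Field k] {M : Type v} [AddCommGroup M] [DecidableEq M]
    {A : Type w} [CommRing A] [Algebra k A] (𝒜 : M → Submodule k A) [GradedAlgebra 𝒜]
    {B : Type x} [CommRing B] [Algebra k B] (ℬ : M → Submodule k B) [GradedAlgebra ℬ]
    (φ : B →ₐ[k] A) (hφ : ∀ i : M, ∀ b ∈ ℬ i, φ b ∈ 𝒜 i)
    (m : Ideal A) [m.IsMaximal] (hfix : ∀ i : M, i ≠ 0 → ∀ a ∈ 𝒜 i, a ∈ m) :
    (RingHom.ker ((algebraMap A (Localization.AtPrime m)).comp (φ : B →+* A))).IsHomogeneous ℬ := by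
  classical
  intro i b hb
  rw [RingHom.mem_ker, RingHom.comp_apply] at hb ⊢
  change algebraMap A (Localization.AtPrime m) (φ b) = 0 at hb
  change algebraMap A (Localization.AtPrime m) (φ (DirectSum.decompose ℬ b i : B)) = 0
  rw [← decompose_map 𝒜 ℬ φ hφ]
  set a := φ b with ha
  obtain ⟨⟨s, hs⟩, hsa⟩ := (IsLocalization.map_eq_zero_iff m.primeCompl (Localization.AtPrime m) a).mp hb
  simp only at hsa
  set L := Localization.AtPrime m
  set S := (DirectSum.decompose 𝒜 a).support with hS
  -- s_0 is not in m
  have hs0 : (DirectSum.decompose 𝒜 s 0 : A) ∉ m := by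
    intro h0
    apply hs
    rw [← DirectSum.sum_support_decompose 𝒜 s]
    refine Submodule.sum_mem _ fun i _ => ?_
    by_cases hi : i = 0
    · subst hi; exact h0
    · exact hfix i hi _ (SetLike.coe_mem _)
  -- product formula
  have hprod : ∀ i : M, ∑ j ∈ S, (DirectSum.decompose 𝒜 s (i - j) : A) *
      (DirectSum.decompose 𝒜 a j : A) = 0 := by
    intro i
    have h1 : (DirectSum.decompose 𝒜 (s * a) i : A) = 0 := by rw [hsa]; simp
    rw [← h1]
    conv_rhs => rw [← DirectSum.sum_support_decompose 𝒜 a, Finset.mul_sum, DirectSum.decompose_sum,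
      DirectSum.sum_apply, AddSubmonoidClass.coe_finsetSum]
    refine Finset.sum_congr rfl fun j _ => ?_
    have : i = (i - j) + j := by abel
    conv_rhs => rw [this]
    rw [DirectSum.coe_decompose_mul_add_of_right_mem 𝒜 (SetLike.coe_mem _)]
  let N' : Submodule L L := Submodule.span L ((fun j => algebraMap A L (DirectSum.decompose 𝒜 a j : A)) '' S)
  have hN'fg : N'.FG := Submodule.fg_span (S.finite_toSet.image _)
  have hmem : ∀ j ∈ S, algebraMap A L (DirectSum.decompose 𝒜 a j : A) ∈ N' := fun j hj =>
    Submodule.subset_span ⟨j, hj, rfl⟩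
  have hunit : IsUnit (algebraMap A L (DirectSum.decompose 𝒜 s 0 : A)) :=
    (IsLocalization.AtPrime.isUnit_to_map_iff L m _).mpr hs0
  have hle : N' ≤ IsLocalRing.maximalIdeal L • N' := by
    rw [Submodule.span_le]
    rintro _ ⟨i, hi, rfl⟩
    have h2 := hprod i
    rw [← Finset.add_sum_erase S _ hi, sub_self] at h2
    have h3 : algebraMap A L (DirectSum.decompose 𝒜 s 0 : A) * algebraMap A L (DirectSum.decompose 𝒜 a i : A)
        = - ∑ j ∈ S.erase i, algebraMap A L (DirectSum.decompose 𝒜 s (i - j) : A) *
          algebraMap A L (DirectSum.decompose 𝒜 a j : A) := by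
      rw [eq_neg_iff_add_eq_zero, ← map_mul]
      simp_rw [← map_mul]
      rw [← map_sum, ← map_add, h2, map_zero]
    have h4 : algebraMap A L (DirectSum.decompose 𝒜 s 0 : A) * algebraMap A L (DirectSum.decompose 𝒜 a i : A)
        ∈ IsLocalRing.maximalIdeal L • N' := by
      rw [h3]
      refine Submodule.neg_mem _ (Submodule.sum_mem _ fun j hj => ?_)
      rw [← smul_eq_mul]
      refine Submodule.smul_mem_smul ?_ (hmem j (Finset.mem_of_mem_erase hj))
      rw [IsLocalization.AtPrime.to_map_mem_maximal_iff L m]
      refine hfix (i - j) ?_ _ (SetLike.coe_mem _)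
      rw [sub_ne_zero]
      exact (Finset.ne_of_mem_erase hj).symm
    obtain ⟨u, hu⟩ := hunit
    have : algebraMap A L (DirectSum.decompose 𝒜 a i : A) =
        (↑u⁻¹ : L) • (algebraMap A L (DirectSum.decompose 𝒜 s 0 : A) * algebraMap A L (DirectSum.decompose 𝒜 a i : A)) := by
      rw [← hu, smul_eq_mul, ← mul_assoc, Units.inv_mul, one_mul]
    change algebraMap A L (DirectSum.decompose 𝒜 a i : A) ∈ IsLocalRing.maximalIdeal L • N'
    rw [this]
    exact Submodule.smul_mem _ _ h4
  have hbot : N' = ⊥ := Submodule.eq_bot_of_le_smul_of_le_jacobson_bot _ N' hN'fg hle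
    (IsLocalRing.maximalIdeal_le_jacobson ⊥)
  by_cases hi : i ∈ S
  · have := hmem i hi
    rw [hbot] at this
    simpa using this
  · rw [hS, DFinsupp.notMem_support_iff] at hi
    rw [hi]; simp

end Groth.Agent.S18791
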