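import Groth.Statements.S18794
import Mathlib.RingTheory.Flat.Basic
import Mathlib.LinearAlgebra.Basis.VectorSpace
import Mathlib.LinearAlgebra.FreeModule.Basic
import Mathlib.FieldTheory.IntermediateField.Adjoin.Basic
import Mathlib.FieldTheory.IsAlgClosed.Basic
import Mathlib.RingTheory.TensorProduct.IsBaseChangeHom

set_option autoImplicit false
universe u v w
open scoped TensorProduct
open DefMod IntermediateField

namespace Groth.Agent.S18794

section helpers

variable {K : Type u} [Field K]
  {D : Type v} [Ring D] [Algebra K D]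
  {E : Type w} [AddCommGroup E] [Module K E] [Module D E] [IsScalarTower K D E]

/-- the comparison map `L ⊗ E → M ⊗ E` for a `K`-algebra map `L → M` -/
noncomputable def T {L : Type*} [Field L] [Algebra K L] {M : Type*} [Field M] [Algebra K M]
    (ι : L →ₐ[K] M) (E : Type w) [AddCommGroup E] [Module K E] : L ⊗[K] E →ₗ[K] M ⊗[K] E :=
  ι.toLinearMap.rTensor E

theorem T_tmul {L : Type*} [Field L] [Algebra K L] {M : Type*} [Field M] [Algebra K M]
    (ι : L →ₐ[K] M) (l : L) (e : E) : T ι E (l ⊗ₜ[K] e) = ι l ⊗ₜ[K] e := rfl

theorem T_smul {L : Type*} [Field L] [Algebra K L] {M : Type*} [Field M] [Algebra K M]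
    (ι : L →ₐ[K] M) (l : L) (y : L ⊗[K] E) : T ι E (l • y) = ι l • T ι E y := by
  induction y using TensorProduct.induction_on with
  | zero => simp
  | tmul l' e => rw [TensorProduct.smul_tmul', T_tmul, T_tmul, TensorProduct.smul_tmul', smul_eq_mul,
      smul_eq_mul, map_mul]
  | add y y' hy hy' => rw [smul_add, map_add, hy, hy', map_add, smul_add]

theorem T_act {L : Type*} [Field L] [Algebra K L] {M : Type*} [Field M] [Algebra K M]
    (ι : L →ₐ[K] M) (d : D) (y : L ⊗[K] E) :
    T ι E ((DistribSMul.toLinearMap K E d).baseChange L y) =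
      (DistribSMul.toLinearMap K E d).baseChange M (T ι E y) := by
  induction y using TensorProduct.induction_on with
  | zero => simp
  | tmul l' e => rw [LinearMap.baseChange_tmul, T_tmul, T_tmul, LinearMap.baseChange_tmul]
  | add y y' hy hy' => rw [map_add, map_add, hy, hy', map_add, map_add]

theorem T_injective {L : Type*} [Field L] [Algebra K L] {M : Type*} [Field M] [Algebra K M]
    (ι : L →ₐ[K] M) : Function.Injective (T ι E) :=
  Module.Flat.rTensor_preserves_injective_linearMap _ ι.toRingHom.injective

/-- pure tensors `1 ⊗ e` generate `M ⊗ E` over `M` -/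
theorem eq_top_of_one_tmul_mem {M : Type*} [Field M] [Algebra K M] (N : Submodule M (M ⊗[K] E))
    (h : ∀ e : E, (1 : M) ⊗ₜ[K] e ∈ N) : N = ⊤ := by
  rw [eq_top_iff]
  intro y _
  clear * - h
  induction y using TensorProduct.induction_on with
  | zero => exact zero_mem _
  | tmul c e =>
    have : c ⊗ₜ[K] e = c • ((1 : M) ⊗ₜ[K] e) := by
      rw [TensorProduct.smul_tmul', smul_eq_mul, mul_one]
    rw [this]
    exact N.smul_mem c (h e)
  | add y y' hy hy' => exact add_mem hy hy'

/-- irreducibility descends along `L → M` -/
theorem irr_descend {L : Type*} [Field L] [Algebra K L] {M : Type*} [Field M] [Algebra K M]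
    (ι : L →ₐ[K] M)
    (hM : Nontrivial (M ⊗[K] E) ∧ ∀ N : Submodule M (M ⊗[K] E),
      (∀ (d : D) (x : M ⊗[K] E), x ∈ N → (DistribSMul.toLinearMap K E d).baseChange M x ∈ N) →
        N = ⊥ ∨ N = ⊤) :
    Nontrivial (L ⊗[K] E) ∧ ∀ N : Submodule L (L ⊗[K] E),
      (∀ (d : D) (x : L ⊗[K] E), x ∈ N → (DistribSMul.toLinearMap K E d).baseChange L x ∈ N) →
        N = ⊥ ∨ N = ⊤ := by
  obtain ⟨hnt, hirr⟩ := hM
  constructor
  · by_contra hcon
    rw [not_nontrivial_iff_subsingleton] at hcon
    have : (⊤ : Submodule M (M ⊗[K] E)) = ⊥ := by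
      symm
      apply eq_top_of_one_tmul_mem
      intro e
      have h1 : (1 : L) ⊗ₜ[K] e = 0 := Subsingleton.elim _ _
      have h2 : (1 : M) ⊗ₜ[K] e = T ι E ((1 : L) ⊗ₜ[K] e) := by rw [T_tmul, map_one]
      rw [h2, h1, map_zero]
      exact zero_mem _
    have hsub : Subsingleton (M ⊗[K] E) := by
      refine ⟨fun a b => ?_⟩
      have ha : a ∈ (⊤ : Submodule M (M ⊗[K] E)) := trivial
      have hb : b ∈ (⊤ : Submodule M (M ⊗[K] E)) := trivial
      rw [this, Submodule.mem_bot] at ha hb
      rw [ha, hb]
    exact not_subsingleton _ hsub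
  · intro N hN
    -- the M-span of the image of N
    let Nbar : Submodule M (M ⊗[K] E) := Submodule.span M (T ι E '' (N : Set (L ⊗[K] E)))
    have hNbar : ∀ (d : D) (x : M ⊗[K] E), x ∈ Nbar →
        (DistribSMul.toLinearMap K E d).baseChange M x ∈ Nbar := by
      intro d x hx
      induction hx using Submodule.span_induction with
      | mem x hx =>
        obtain ⟨y, hy, rfl⟩ := hx
        rw [← T_act]
        exact Submodule.subset_span ⟨_, hN d y hy, rfl⟩
      | zero => rw [map_zero]; exact zero_mem _
      | add x y _ _ hx hy => rw [map_add]; exact add_mem hx hy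
      | smul c x _ hx => rw [map_smul]; exact Submodule.smul_mem _ c hx
    rcases hirr Nbar hNbar with hbot | htop
    · left
      rw [eq_bot_iff]
      intro y hy
      have : T ι E y ∈ Nbar := Submodule.subset_span ⟨y, hy, rfl⟩
      rw [hbot, Submodule.mem_bot] at this
      rw [Submodule.mem_bot]
      exact T_injective ι (by rw [this, map_zero])
    · right
      by_contra hne
      have hlt : N < ⊤ := lt_top_iff_ne_top.mpr hne
      obtain ⟨lam, hlam0, hlamN⟩ := Submodule.exists_le_ker_of_lt_top N hlt
      -- extend to M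
      let lam0 : E →ₗ[K] M := ι.toLinearMap ∘ₗ (lam.restrictScalars K) ∘ₗ (TensorProduct.mk K L E 1)
      let lamM : M ⊗[K] E →ₗ[M] M := LinearMap.liftBaseChange M lam0
      have hcomp : ∀ y : L ⊗[K] E, lamM (T ι E y) = ι (lam y) := by
        intro y
        induction y using TensorProduct.induction_on with
        | zero => simp
        | tmul l e =>
          rw [T_tmul]
          simp only [lamM, lam0, LinearMap.liftBaseChange_tmul, LinearMap.comp_apply,
            TensorProduct.mk_apply, AlgHom.toLinearMap_apply, LinearMap.restrictScalars_apply]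
          have : l ⊗ₜ[K] e = l • ((1 : L) ⊗ₜ[K] e) := by
            rw [TensorProduct.smul_tmul', smul_eq_mul, mul_one]
          rw [this, map_smul, smul_eq_mul, smul_eq_mul, map_mul]
        | add y y' hy hy' => rw [map_add, map_add, hy, hy', map_add, map_add]
      have hlamM : ∀ x ∈ Nbar, lamM x = 0 := by
        intro x hx
        induction hx using Submodule.span_induction with
        | mem x hx =>
          obtain ⟨y, hy, rfl⟩ := hx
          rw [hcomp, LinearMap.mem_ker.mp (hlamN hy), map_zero]
        | zero => rw [map_zero]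
        | add x y _ _ hx hy => rw [map_add, hx, hy, add_zero]
        | smul c x _ hx => rw [map_smul, hx, smul_zero]
      apply hlam0
      apply LinearMap.ext
      intro y
      have h1 : lamM (T ι E y) = 0 := hlamM _ (by rw [htop]; trivial)
      rw [hcomp] at h1
      rw [LinearMap.zero_apply]
      exact (map_eq_zero_iff ι ι.toRingHom.injective).mp h1

theorem range_T_mono {M : Type*} [Field M] [Algebra K M] {L₁ L₂ : IntermediateField K M}
    (h : L₁ ≤ L₂) : LinearMap.range (T L₁.val E) ≤ LinearMap.range (T L₂.val E) := by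
  rintro _ ⟨y, rfl⟩
  refine ⟨T (IntermediateField.inclusion h) E y, ?_⟩
  induction y using TensorProduct.induction_on with
  | zero => simp
  | tmul l e => rw [T_tmul, T_tmul, T_tmul]; rfl
  | add y y' hy hy' => rw [map_add, map_add, hy, hy', map_add]

theorem exists_finite_descend (x : AlgebraicClosure K ⊗[K] E) :
    ∃ L₀ : IntermediateField K (AlgebraicClosure K), FiniteDimensional K L₀ ∧
      x ∈ LinearMap.range (T L₀.val E) := by
  induction x using TensorProduct.induction_on with
  | zero =>
    refine ⟨K⟮(0 : AlgebraicClosure K)⟯, IntermediateField.adjoin.finiteDimensional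
      (Algebra.IsIntegral.isIntegral _), 0, map_zero _⟩
  | tmul c e =>
    refine ⟨K⟮c⟯, IntermediateField.adjoin.finiteDimensional (Algebra.IsIntegral.isIntegral c),
      (⟨c, IntermediateField.mem_adjoin_simple_self K c⟩ : K⟮c⟯) ⊗ₜ[K] e, ?_⟩
    rw [T_tmul]; rfl
  | add y y' hy hy' =>
    obtain ⟨L₁, h₁, hy₁⟩ := hy
    obtain ⟨L₂, h₂, hy₂⟩ := hy'
    exact ⟨L₁ ⊔ L₂, inferInstance, add_mem (range_T_mono le_sup_left hy₁) (range_T_mono le_sup_right hy₂)⟩

end helpers

/-- Let E be a left module over an associative algebra D over a field K of characteristic zero. For a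
field extension L of K, the base change L ⊗_K E is a module over L ⊗_K D, i.e. an L-vector space
with a commuting action of D; call it irreducible when it is nonzero and its only L-subspaces stable
under every element of D are 0 and the whole space. Then E is absolutely irreducible (its base
change to an algebraic closure of K is irreducible) if and only if L ⊗_K E is irreducible for every
finite extension L of K. (Finite extensions are taken in the universe of K.) -/
theorem result
    {K : Type u} [Field K] [CharZero K]
    {D : Type v} [Ring D] [Algebra K D]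
    {E : Type w} [AddCommGroup E] [Module K E] [Module D E] [IsScalarTower K D E] :
    (Nontrivial (AlgebraicClosure K ⊗[K] E) ∧ ∀ N : Submodule (AlgebraicClosure K) (AlgebraicClosure K ⊗[K] E), (∀ (d : D) (x : AlgebraicClosure K ⊗[K] E), x ∈ N → (DistribSMul.toLinearMap K E d).baseChange (AlgebraicClosure K) x ∈ N) → N = ⊥ ∨ N = ⊤) ↔
      ∀ (L : Type u) [Field L] [Algebra K L] [FiniteDimensional K L],
        (Nontrivial (L ⊗[K] E) ∧ ∀ N : Submodule (L) (L ⊗[K] E), (∀ (d : D) (x : L ⊗[K] E), x ∈ N → (DistribSMul.toLinearMap K E d).baseChange (L) x ∈ N) → N = ⊥ ∨ N = ⊤) := by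
  constructor
  · intro h L _ _ _
    haveI : Algebra.IsAlgebraic K L := Algebra.IsAlgebraic.of_finite K L
    let ι : L →ₐ[K] AlgebraicClosure K := IsAlgClosed.lift
    exact irr_descend ι h
  · intro h
    constructor
    · obtain ⟨a, b, hab⟩ := (h K).1
      exact ⟨T (Algebra.ofId K (AlgebraicClosure K)) E a, T (Algebra.ofId K (AlgebraicClosure K)) E b,
        fun h' => hab (T_injective _ h')⟩
    · intro N hN
      by_cases hNbot : N = ⊥
      · exact Or.inl hNbot
      · right
        obtain ⟨x, hxN, hx0⟩ := Submodule.exists_mem_ne_zero_of_ne_bot hNbot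
        obtain ⟨L₀, hfin, x', rfl⟩ := exists_finite_descend x
        let N' : Submodule L₀ (L₀ ⊗[K] E) :=
          { carrier := {y | T L₀.val E y ∈ N}
            add_mem' := fun {a b} ha hb => by
              simp only [Set.mem_setOf_eq] at ha hb ⊢
              rw [map_add]; exact add_mem ha hb
            zero_mem' := by simp
            smul_mem' := fun c y hy => by
              simp only [Set.mem_setOf_eq] at hy ⊢
              rw [T_smul]; exact N.smul_mem _ hy }
        have hN' : ∀ (d : D) (y : L₀ ⊗[K] E), y ∈ N' →
            (DistribSMul.toLinearMap K E d).baseChange L₀ y ∈ N' := by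
          intro d y hy
          change T L₀.val E _ ∈ N
          rw [T_act]
          exact hN d _ hy
        have hx'N' : x' ∈ N' := hxN
        have hx'0 : x' ≠ 0 := by
          rintro rfl
          exact hx0 (map_zero _)
        rcases (h L₀).2 N' hN' with hbot | htop
        · exfalso
          rw [hbot, Submodule.mem_bot] at hx'N'
          exact hx'0 hx'N'
        · apply eq_top_of_one_tmul_mem
          intro e
          have : (1 : L₀) ⊗ₜ[K] e ∈ N' := by rw [htop]; trivial
          have h2 : T L₀.val E ((1 : L₀) ⊗ₜ[K] e) ∈ N := this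
          rw [T_tmul, map_one] at h2
          exact h2

end Groth.Agent.S18794
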