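import Groth.Statements.S18796
import Mathlib.LinearAlgebra.TensorProduct.Basis
import Mathlib.LinearAlgebra.Basis.VectorSpace
import Mathlib.RingTheory.TensorProduct.IsBaseChangeHom
import Mathlib.Tactic

set_option autoImplicit false
universe u v w w' u'
open scoped TensorProduct
open DefMod

namespace Groth.Agent.S18796

section helpers

variable {K : Type u} [Field K]
  (P : Type u') [CommRing P] [Algebra K P]
  {ι : Type*} [DecidableEq ι] (b : Module.Basis ι K P)

/-- `i`-th coefficient of an element of `P ⊗ M` w.r.t. a `K`-basis of `P` -/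
noncomputable def cf (M : Type*) [AddCommGroup M] [Module K M] (i : ι) : P ⊗[K] M →ₗ[K] M :=
  (Finsupp.lapply i) ∘ₗ (TensorProduct.equivFinsuppOfBasisLeft b).toLinearMap

theorem cf_apply (M : Type*) [AddCommGroup M] [Module K M] (i : ι) (x : P ⊗[K] M) :
    cf P b M i x = TensorProduct.equivFinsuppOfBasisLeft b x i := rfl

theorem cf_tmul (M : Type*) [AddCommGroup M] [Module K M] (i : ι) (p : P) (m : M) :
    cf P b M i (p ⊗ₜ[K] m) = b.repr p i • m := by
  rw [cf_apply, TensorProduct.equivFinsuppOfBasisLeft_apply_tmul_apply]

theorem cf_natural {M N : Type*} [AddCommGroup M] [Module K M] [AddCommGroup N] [Module K N]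
    (u : M →ₗ[K] N) (i : ι) (x : P ⊗[K] M) :
    u (cf P b M i x) = cf P b N i (u.lTensor P x) := by
  induction x using TensorProduct.induction_on with
  | zero => simp
  | tmul p m => simp [cf_tmul]
  | add x y hx hy => simp only [map_add, hx, hy]

theorem eq_zero_of_cf_eq_zero (M : Type*) [AddCommGroup M] [Module K M] (x : P ⊗[K] M)
    (h : ∀ i, cf P b M i x = 0) : x = 0 := by
  apply (TensorProduct.equivFinsuppOfBasisLeft b).injective
  rw [map_zero]
  ext i
  exact h i

theorem sum_cf (M : Type*) [AddCommGroup M] [Module K M] (x : P ⊗[K] M) (I : Finset ι)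
    (hI : ∀ i, i ∉ I → cf P b M i x = 0) : ∑ i ∈ I, b i ⊗ₜ[K] cf P b M i x = x := by
  classical
  have hx : x = ((TensorProduct.equivFinsuppOfBasisLeft b) x).sum (fun i n => b i ⊗ₜ[K] n) := by
    rw [← TensorProduct.equivFinsuppOfBasisLeft_symm_apply, LinearEquiv.symm_apply_apply]
  conv_rhs => rw [hx]
  rw [Finsupp.sum]
  symm
  apply Finset.sum_subset
  · intro i hi
    by_contra hiI
    exact (Finsupp.mem_support_iff.mp hi) (hI i hiI)
  · intro i _ hi
    rw [Finsupp.notMem_support_iff.mp hi, TensorProduct.tmul_zero]

end helpers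

section helpers2

variable {K : Type u} [Field K]
  {D : Type v} [Ring D] [Algebra K D]
  {F : Type w'} [AddCommGroup F] [Module K F] [Module D F] [IsScalarTower K D F]
  (P : Type u') [CommRing P] [Algebra K P]
  {ι : Type*} [DecidableEq ι] (b : Module.Basis ι K P)

theorem cf_act (i : ι) (d : D) (y : P ⊗[K] F) :
    cf P b F i ((DistribSMul.toLinearMap K F d).baseChange P y) = d • cf P b F i y := by
  induction y using TensorProduct.induction_on with
  | zero => simp
  | tmul p f =>
    rw [LinearMap.baseChange_tmul, cf_tmul, cf_tmul, DistribSMul.toLinearMap_apply, smul_comm]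
  | add x y hx hy => simp only [map_add, hx, hy, smul_add]

end helpers2

/-- Let K be a field of characteristic zero, D an associative K-algebra, E a left D-module that is
finitely presented over D, F a left D-module and P a commutative K-algebra. The canonical P-linear
map Φ : P ⊗_K Hom_D(E, F) → Hom_P(P ⊗_K E, P ⊗_K F), determined by p ⊗ f ↦ p · (1_P ⊗ f), is
injective, and its image consists exactly of the P-linear maps that commute with the action of every
element of D; in other words Φ identifies P ⊗_K Hom_D(E, F) with the module of homomorphisms P ⊗_K E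
→ P ⊗_K F over P ⊗_K D. The map Φ is pinned here by its values on pure tensors. -/
theorem result
    {K : Type u} [Field K] [CharZero K]
    {D : Type v} [Ring D] [Algebra K D]
    {E : Type w} [AddCommGroup E] [Module K E] [Module D E] [IsScalarTower K D E]
    [Module.FinitePresentation D E]
    {F : Type w'} [AddCommGroup F] [Module K F] [Module D F] [IsScalarTower K D F]
    (P : Type u') [CommRing P] [Algebra K P]
    (Φ : P ⊗[K] (E →ₗ[D] F) →ₗ[P] (P ⊗[K] E →ₗ[P] P ⊗[K] F))
    (hΦ : ∀ (p : P) (f : E →ₗ[D] F), Φ (p ⊗ₜ[K] f) = p • (f.restrictScalars K).baseChange P) :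
    Function.Injective Φ ∧
      ∀ g : P ⊗[K] E →ₗ[P] P ⊗[K] F,
        g ∈ LinearMap.range Φ ↔
          ∀ d : D, g ∘ₗ (DistribSMul.toLinearMap K E d).baseChange P =
            (DistribSMul.toLinearMap K F d).baseChange P ∘ₗ g := by
  classical
  -- evaluation at `1 ⊗ e`
  have hA : ∀ (x : P ⊗[K] (E →ₗ[D] F)) (e : E),
      Φ x ((1 : P) ⊗ₜ[K] e) = (LinearMap.applyₗ' K e : (E →ₗ[D] F) →ₗ[K] F).lTensor P x := by
    intro x e
    induction x using TensorProduct.induction_on with
    | zero => simp
    | tmul p f =>
      rw [hΦ, LinearMap.smul_apply, LinearMap.baseChange_tmul, LinearMap.lTensor_tmul,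
        TensorProduct.smul_tmul', smul_eq_mul, mul_one]
      rfl
    | add x y hx hy => rw [map_add, LinearMap.add_apply, hx, hy, map_add]
  -- P-linear maps are determined by their values on `1 ⊗ e`
  have hB : ∀ g g' : P ⊗[K] E →ₗ[P] P ⊗[K] F,
      (∀ e : E, g ((1 : P) ⊗ₜ[K] e) = g' ((1 : P) ⊗ₜ[K] e)) → g = g' := by
    intro g g' h
    apply TensorProduct.AlgebraTensorModule.ext
    intro p e
    have : p ⊗ₜ[K] e = p • ((1 : P) ⊗ₜ[K] e) := by
      rw [TensorProduct.smul_tmul', smul_eq_mul, mul_one]
    rw [this, map_smul, map_smul, h]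
  let b := Module.Basis.ofVectorSpace K P
  constructor
  · rw [injective_iff_map_eq_zero]
    intro x hx
    apply eq_zero_of_cf_eq_zero P b
    intro i
    apply LinearMap.ext
    intro e
    have h1 := hA x e
    rw [hx, LinearMap.zero_apply] at h1
    have h2 := cf_natural P b (LinearMap.applyₗ' K e : (E →ₗ[D] F) →ₗ[K] F) i x
    rw [← h1, map_zero] at h2
    exact h2
  · intro g
    constructor
    · rintro ⟨x, rfl⟩ d
      induction x using TensorProduct.induction_on with
      | zero => simp
      | tmul p f =>
        rw [hΦ, LinearMap.smul_comp, LinearMap.comp_smul, ← LinearMap.baseChange_comp,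
          ← LinearMap.baseChange_comp]
        congr 2
        ext e
        simp
      | add x y hx hy => rw [map_add, LinearMap.add_comp, LinearMap.comp_add, hx, hy]
    · intro hg
      -- coefficient maps
      let gi : (Module.Basis.ofVectorSpaceIndex K P) → (E →ₗ[D] F) := fun i =>
        { toFun := fun e => cf P b F i (g ((1 : P) ⊗ₜ[K] e))
          map_add' := fun e e' => by rw [TensorProduct.tmul_add, map_add, map_add]
          map_smul' := fun d e => by
            have h1 : (1 : P) ⊗ₜ[K] (d • e) =
                (DistribSMul.toLinearMap K E d).baseChange P ((1 : P) ⊗ₜ[K] e) := by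
              rw [LinearMap.baseChange_tmul, DistribSMul.toLinearMap_apply]
            have h2 := LinearMap.congr_fun (hg d) ((1 : P) ⊗ₜ[K] e)
            rw [LinearMap.comp_apply, LinearMap.comp_apply] at h2
            rw [h1, h2, cf_act]
            rfl }
      have hgi : ∀ i e, gi i e = cf P b F i (g ((1 : P) ⊗ₜ[K] e)) := fun _ _ => rfl
      -- finite support
      haveI : Module.Finite D E := inferInstance
      obtain ⟨s, hs⟩ := (Module.Finite.fg_top (R := D) (M := E))
      let I : Finset (Module.Basis.ofVectorSpaceIndex K P) :=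
        s.biUnion (fun e => (TensorProduct.equivFinsuppOfBasisLeft b (g ((1 : P) ⊗ₜ[K] e))).support)
      have hI : ∀ i, i ∉ I → gi i = 0 := by
        intro i hi
        apply LinearMap.ext_on hs
        intro e he
        rw [hgi, LinearMap.zero_apply, cf_apply]
        by_contra hne
        apply hi
        exact Finset.mem_biUnion.mpr ⟨e, he, Finsupp.mem_support_iff.mpr hne⟩
      refine ⟨∑ i ∈ I, b i ⊗ₜ[K] gi i, ?_⟩
      apply hB
      intro e
      rw [hA, map_sum]
      simp only [LinearMap.lTensor_tmul, LinearMap.applyₗ'_apply_apply, hgi]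
      apply sum_cf
      intro i hi
      rw [← hgi, hI i hi, LinearMap.zero_apply]

end Groth.Agent.S18796
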