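import Groth.Statements.S18795
import Groth.Agent.S18796
import Mathlib.FieldTheory.IsAlgClosed.Basic
import Mathlib.FieldTheory.IsAlgClosed.AlgebraicClosure
import Mathlib.LinearAlgebra.FiniteDimensional.Basic
import Mathlib.LinearAlgebra.Dimension.Constructions
import Mathlib.RingTheory.TensorProduct.IsBaseChangeHom
import Mathlib.Tactic

set_option autoImplicit false
universe u v w
open scoped TensorProduct
open DefMod

namespace Groth.Agent.S18795

section helpers

/-- Schur's lemma over an algebraically closed field for a finite-dimensional algebra of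
endomorphisms whose nonzero elements are injective -/
theorem schur_aux {k : Type*} [Field k] [IsAlgClosed k] {M : Type*} [AddCommGroup M] [Module k M]
    [Nontrivial M] (B : Subalgebra k (Module.End k M)) (hfin : Module.Finite k B)
    (hinj : ∀ g ∈ B, g ≠ 0 → Function.Injective g) (g : Module.End k M) (hg : g ∈ B) :
    ∃ c : k, g = c • (1 : Module.End k M) := by
  haveI : NoZeroDivisors B := ⟨fun {a b} hab => by
    by_contra hcon
    rw [not_or] at hcon
    have ha : (a : Module.End k M) ≠ 0 := fun h => hcon.1 (Subtype.ext h)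
    have hinja := hinj a a.2 ha
    apply hcon.2
    apply Subtype.ext
    apply LinearMap.ext
    intro x
    have h1 : ((a * b : B) : Module.End k M) x = 0 := by rw [hab]; rfl
    have h2 : (a : Module.End k M) ((b : Module.End k M) x) = 0 := h1
    have h3 := hinja (h2.trans (map_zero (a : Module.End k M)).symm)
    exact h3⟩
  haveI : Nontrivial B := ⟨⟨0, 1, fun h => by
    have h1 : ((0 : B) : Module.End k M) = ((1 : B) : Module.End k M) := congrArg Subtype.val h
    obtain ⟨x, hx⟩ := exists_ne (0 : M)
    apply hx
    have h2 := LinearMap.congr_fun h1 x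
    exact h2.symm⟩⟩
  haveI : IsDomain B := NoZeroDivisors.to_isDomain B
  haveI : Algebra.IsIntegral k B := Algebra.IsIntegral.of_finite k B
  obtain ⟨c, hc⟩ := (IsAlgClosed.algebraMap_bijective_of_isIntegral (k := k) (K := B)).2 ⟨g, hg⟩
  refine ⟨c, ?_⟩
  have h1 := congrArg Subtype.val hc
  have h2 : ((algebraMap k B c : B) : Module.End k M) = c • (1 : Module.End k M) := by
    rw [Algebra.algebraMap_eq_smul_one]; rfl
  rw [h2] at h1
  exact h1.symm

end helpers

/-- Let E be a left module over an associative algebra D over a field K of characteristic zero. Assume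
that the D-linear endomorphisms of E form a finite-dimensional K-vector space, that E has a finite
presentation over D, and that E is absolutely irreducible: its base change K̄ ⊗_K E to an algebraic
closure K̄ of K is nonzero and its only K̄-subspaces stable under every element of D are 0 and the
whole space. Then End_D(E) = K: every D-linear endomorphism of E is multiplication by a scalar from
K. -/
theorem result
    {K : Type u} [Field K] [CharZero K]
    {D : Type v} [Ring D] [Algebra K D]
    {E : Type w} [AddCommGroup E] [Module K E] [Module D E] [IsScalarTower K D E]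
    [Module.Finite K (E →ₗ[D] E)] [Module.FinitePresentation D E]
    (habs : (Nontrivial (AlgebraicClosure K ⊗[K] E) ∧ ∀ N : Submodule (AlgebraicClosure K) (AlgebraicClosure K ⊗[K] E), (∀ (d : D) (x : AlgebraicClosure K ⊗[K] E), x ∈ N → (DistribSMul.toLinearMap K E d).baseChange (AlgebraicClosure K) x ∈ N) → N = ⊥ ∨ N = ⊤))
    (φ : E →ₗ[D] E) : ∃ c : K, ∀ x : E, φ x = c • x := by
  classical
  haveI : Nontrivial (AlgebraicClosure K ⊗[K] E) := habs.1
  -- the canonical map
  let ψ : (E →ₗ[D] E) →ₗ[K]
      (AlgebraicClosure K ⊗[K] E →ₗ[AlgebraicClosure K] AlgebraicClosure K ⊗[K] E) :=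
    { toFun := fun f => (f.restrictScalars K).baseChange (AlgebraicClosure K)
      map_add' := fun f f' => by
        apply TensorProduct.AlgebraTensorModule.ext
        intro p e
        simp
      map_smul' := fun c f => by
        apply TensorProduct.AlgebraTensorModule.ext
        intro p e
        simp }
  let Φ : AlgebraicClosure K ⊗[K] (E →ₗ[D] E) →ₗ[AlgebraicClosure K]
      (AlgebraicClosure K ⊗[K] E →ₗ[AlgebraicClosure K] AlgebraicClosure K ⊗[K] E) :=
    LinearMap.liftBaseChange (AlgebraicClosure K) ψ
  have hΦ : ∀ (p : AlgebraicClosure K) (f : E →ₗ[D] E),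
      Φ (p ⊗ₜ[K] f) = p • (f.restrictScalars K).baseChange (AlgebraicClosure K) :=
    fun p f => LinearMap.liftBaseChange_tmul _ _ _ _
  obtain ⟨hinjΦ, hrange⟩ := Groth.Agent.S18796.result (K := K) (D := D) (E := E) (F := E)
    (AlgebraicClosure K) Φ hΦ
  -- the commutant
  let Sset : Set (Module.End (AlgebraicClosure K) (AlgebraicClosure K ⊗[K] E)) :=
    Set.range (fun d : D => (DistribSMul.toLinearMap K E d).baseChange (AlgebraicClosure K))
  let B : Subalgebra (AlgebraicClosure K) (Module.End (AlgebraicClosure K) (AlgebraicClosure K ⊗[K] E)) :=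
    Subalgebra.centralizer (AlgebraicClosure K) Sset
  have hB : ∀ g : Module.End (AlgebraicClosure K) (AlgebraicClosure K ⊗[K] E),
      g ∈ B ↔ g ∈ LinearMap.range Φ := by
    intro g
    rw [hrange g, Subalgebra.mem_centralizer_iff]
    constructor
    · intro h d
      exact (h _ ⟨d, rfl⟩).symm
    · rintro h _ ⟨d, rfl⟩
      exact (h d).symm
  have hinjB : ∀ g ∈ B, g ≠ 0 → Function.Injective g := by
    intro g hg hg0
    have hcomm : ∀ (d : D) (x : AlgebraicClosure K ⊗[K] E),
        g ((DistribSMul.toLinearMap K E d).baseChange (AlgebraicClosure K) x) =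
          (DistribSMul.toLinearMap K E d).baseChange (AlgebraicClosure K) (g x) := by
      intro d x
      have h := ((hrange g).mp ((hB g).mp hg)) d
      exact LinearMap.congr_fun h x
    rcases habs.2 (LinearMap.ker g) (fun d x hx => by
      rw [LinearMap.mem_ker] at hx ⊢
      rw [hcomm, hx, map_zero]) with h | h
    · exact LinearMap.ker_eq_bot.mp h
    · exact absurd (LinearMap.ker_eq_top.mp h) hg0
  have hfinB : Module.Finite (AlgebraicClosure K) B := by
    let Φ' : AlgebraicClosure K ⊗[K] (E →ₗ[D] E) →ₗ[AlgebraicClosure K]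
        (Subalgebra.toSubmodule B) :=
      Φ.codRestrict (Subalgebra.toSubmodule B) (fun x => (hB _).mpr ⟨x, rfl⟩)
    have hsurj : Function.Surjective Φ' := by
      intro b
      obtain ⟨x, hx⟩ := (hB b.1).mp b.2
      exact ⟨x, Subtype.ext hx⟩
    exact Module.Finite.of_surjective Φ' hsurj
  -- the range of Φ is the line spanned by the identity
  have hone : (1 : Module.End (AlgebraicClosure K) (AlgebraicClosure K ⊗[K] E)) ≠ 0 := by
    intro h
    obtain ⟨x, hx⟩ := exists_ne (0 : AlgebraicClosure K ⊗[K] E)
    apply hx
    have := LinearMap.congr_fun h x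
    exact this
  have hrangeΦ : LinearMap.range Φ =
      Submodule.span (AlgebraicClosure K)
        {(1 : Module.End (AlgebraicClosure K) (AlgebraicClosure K ⊗[K] E))} := by
    apply le_antisymm
    · intro g hg
      obtain ⟨c, hc⟩ := schur_aux B hfinB hinjB g ((hB g).mpr hg)
      rw [hc]
      exact Submodule.smul_mem _ c (Submodule.subset_span rfl)
    · rw [Submodule.span_le, Set.singleton_subset_iff]
      refine ⟨(1 : AlgebraicClosure K) ⊗ₜ[K] (LinearMap.id : E →ₗ[D] E), ?_⟩
      rw [hΦ, one_smul]
      apply TensorProduct.AlgebraTensorModule.ext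
      intro p e
      simp
  have hfr : Module.finrank K (E →ₗ[D] E) = 1 := by
    rw [← Module.finrank_baseChange (R := AlgebraicClosure K) (S := K),
      (LinearEquiv.ofInjective Φ hinjΦ).finrank_eq, hrangeΦ]
    exact finrank_span_singleton (K := AlgebraicClosure K)
      (V := Module.End (AlgebraicClosure K) (AlgebraicClosure K ⊗[K] E)) hone
  have hid : (LinearMap.id : E →ₗ[D] E) ≠ 0 := by
    intro h
    apply hone
    have h1 : Φ ((1 : AlgebraicClosure K) ⊗ₜ[K] (LinearMap.id : E →ₗ[D] E)) = 0 := by
      rw [h, TensorProduct.tmul_zero, map_zero]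
    rw [hΦ, one_smul] at h1
    rw [← h1]
    apply TensorProduct.AlgebraTensorModule.ext
    intro p e
    simp
  obtain ⟨c, hc⟩ := (finrank_eq_one_iff_of_nonzero' (LinearMap.id : E →ₗ[D] E) hid).mp hfr φ
  refine ⟨c, fun x => ?_⟩
  rw [← hc]
  rfl

end Groth.Agent.S18795
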