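import Groth.Statements.S1880
import Groth.Agent.H37.NormBC
import Groth.Agent.H37.GrpdCalc2
import Groth.Agent.S7457

set_option autoImplicit false
universe u
open CategoryTheory CategoryTheory.Limits AlgebraicGeometry
open Grpd

namespace Groth.Agent.S1880

/-- Let (U, R, s, t, c) be a groupoid scheme with U, R affine and s, t finite locally free. For f ∈
Γ(U), the norm along s♯ of t♯(f) is an R-invariant function. (Mathlib's norm is the determinant when
Γ(R) is free over Γ(U) via s♯ and 1 otherwise; the content is the free case, e.g. after localizing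
U.) (A groupoid scheme carries U, R, s, t, c, e, i over S with the groupoid axioms on T-points;
'finite locally free' is finite, flat and locally of finite presentation; C ⊂ Γ(U) is the ring of
functions a with s♯(a) = t♯(a) and M = Spec C.) -/
theorem result (S : Scheme.{u}) (G : Grpd.GroupoidScheme S) [IsAffine G.U] [IsAffine G.R] [IsFinite G.s] [Flat G.s] [LocallyOfFinitePresentation G.s] [IsFinite G.t] [Flat G.t] [LocallyOfFinitePresentation G.t] (f : Γ(G.U, ⊤)) : G.normST f ∈ G.invariants := by
  letI := G.s.appTop.hom.toAlgebra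
  by_cases hb : ∃ s : Finset Γ(G.R, ⊤), Nonempty (Module.Basis s Γ(G.U, ⊤) Γ(G.R, ⊤))
  · obtain ⟨s, ⟨b⟩⟩ := hb
    have hfree : Module.Free Γ(G.U, ⊤) Γ(G.R, ⊤) := Module.Free.of_basis b
    have hfin : Module.Finite Γ(G.U, ⊤) Γ(G.R, ⊤) := Module.Finite.of_basis b
    have sq1 : IsPullback G.c (pullback.snd G.s G.t) G.s G.s := (Groth.Agent.S7457.result S G).2
    have sq2 := IsPullback.of_hasPullback G.s G.t
    have p1 := isPushout_appTop_of_isPullback sq1
    have p2 := isPushout_appTop_of_isPullback sq2
    have n1 := Groth.Agent.H37.norm_of_isPushout p1 hfree hfin (G.t.appTop.hom f)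
    have n2 := Groth.Agent.H37.norm_of_isPushout p2 hfree hfin (G.t.appTop.hom f)
    have hct : G.c.appTop.hom (G.t.appTop.hom f) =
        (pullback.fst G.s G.t).appTop.hom (G.t.appTop.hom f) := by
      have h := congrArg (fun φ => φ.appTop.hom f) (Groth.Agent.H37.GrpdCalc.c_t G)
      simpa using h
    show G.s.appTop.hom (G.normST f) = G.t.appTop.hom (G.normST f)
    unfold Grpd.GroupoidScheme.normST
    rw [← n1, ← n2, hct]
  · have h1 : G.normST f = 1 := Algebra.norm_eq_one_of_not_exists_basis _ hb _
    rw [h1]
    exact Subring.one_mem _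

end Groth.Agent.S1880
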