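import Groth.Statements.S18802
import Mathlib.LinearAlgebra.Basis.VectorSpace
import Mathlib.Algebra.Module.Projective
import Mathlib.Algebra.Algebra.Tower

set_option autoImplicit false
universe u v w w' w''
open DefMod

namespace Groth.Agent.S18802

/-- Let K be a field of characteristic zero, D an associative K-algebra and E, F left D-modules. A
K-linear map s : D → Hom_K(E, F) with s(ab)(e) = a s(b)(e) + s(a)(b e) (a derivation into the
bimodule Hom_K(E, F), i.e. a Hochschild 1-cocycle) defines the twisted sum F ⊕_s E = F × E with a ·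
(f, e) = (a f + s(a) e, a e), an extension of E by F. Every extension of left D-modules 0 → F → Q →
E → 0 arises this way: there are such an s and a D-linear isomorphism Q ≅ F ⊕_s E carrying the given
map F → Q to the inclusion f ↦ (f, 0) and compatible with the two projections onto E. (Together with
the splitting criterion this identifies derivations modulo principal derivations with Ext¹_D(E, F);
the compatibility of that identification with addition and scalars is not restated.) -/
theorem result
    {K : Type u} [Field K] [CharZero K]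
    {D : Type v} [Ring D] [Algebra K D]
    {E : Type w} [AddCommGroup E] [Module K E] [Module D E] [IsScalarTower K D E]
    {F : Type w'} [AddCommGroup F] [Module K F] [Module D F] [IsScalarTower K D F]
    {Q : Type w''} [AddCommGroup Q] [Module D Q]
    (i : F →ₗ[D] Q) (p : Q →ₗ[D] E) (hi : Function.Injective i) (hp : Function.Surjective p)
    (hex : Function.Exact i p) :
    ∃ (s : D →ₗ[K] E →ₗ[K] F) (hs : W4c6defoisocp1.IsHomDerivation s) (Φ : Q ≃ₗ[D] W4c6defoisocp1.TwistExt s hs),
      (∀ f : F, Φ (i f) = W4c6defoisocp1.TwistExt.inl f) ∧ ∀ q : Q, W4c6defoisocp1.TwistExt.snd (Φ q) = p q := by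
  classical
  letI instKQ : Module K Q := Module.compHom Q (algebraMap K D)
  haveI instTower : IsScalarTower K D Q := ⟨fun c d q => by
    change (c • d) • q = (algebraMap K D c) • (d • q)
    rw [Algebra.smul_def, mul_smul]⟩
  have hKsmul : ∀ (c : K) (q : Q), c • q = (algebraMap K D c) • q := fun c q => rfl
  -- K-linear section of p
  have hpK : LinearMap.range (p.restrictScalars K) = ⊤ := by
    rw [LinearMap.range_eq_top]; exact hp
  obtain ⟨t, ht⟩ := LinearMap.exists_rightInverse_of_surjective (p.restrictScalars K) hpK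
  have htp : ∀ e, p (t e) = e := fun e => LinearMap.congr_fun ht e
  -- lifting along i
  have hlift_ex : ∀ q : {q : Q // p q = 0}, ∃ f : F, i f = q.1 := fun q => (hex q.1).mp q.2
  choose lift hlift using hlift_ex
  have hiK : ∀ (c : K) (f : F), i (c • f) = c • i f := by
    intro c f
    rw [← algebraMap_smul D c f, map_smul, hKsmul]
  have hmem : ∀ (a : D) (e : E), p (a • t e - t (a • e)) = 0 := by
    intro a e
    rw [map_sub, map_smul, htp, htp, sub_self]
  let sfun : D → E → F := fun a e => lift ⟨a • t e - t (a • e), hmem a e⟩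
  have hsi : ∀ a e, i (sfun a e) = a • t e - t (a • e) := fun a e => hlift ⟨_, hmem a e⟩
  let s : D →ₗ[K] E →ₗ[K] F := LinearMap.mk₂ K sfun
    (fun a a' e => hi (by rw [map_add, hsi, hsi, hsi, add_smul, add_smul, map_add]; abel))
    (fun c a e => hi (by
      rw [hiK, hsi, hsi, smul_assoc, smul_assoc, map_smul, smul_sub]))
    (fun a e e' => hi (by rw [map_add, hsi, hsi, hsi, map_add, smul_add, smul_add, map_add]; abel))
    (fun c a e => hi (by
      rw [hiK, hsi, hsi, map_smul, smul_comm a c e, map_smul, smul_sub, hKsmul, hKsmul, hKsmul,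
        smul_smul, smul_smul, ← Algebra.commutes, ← smul_smul]))
  have hs_apply : ∀ a e, s a e = sfun a e := fun a e => rfl
  have hs : W4c6defoisocp1.IsHomDerivation s := by
    intro a b e
    apply hi
    rw [map_add, map_smul, hs_apply, hs_apply, hs_apply, hsi, hsi, hsi, mul_smul, mul_smul, smul_sub]
    abel
  have hmem2 : ∀ q : Q, p (q - t (p q)) = 0 := fun q => by rw [map_sub, htp, sub_self]
  let Φfun : Q → W4c6defoisocp1.TwistExt s hs := fun q =>
    W4c6defoisocp1.TwistExt.mk (lift ⟨q - t (p q), hmem2 q⟩, p q)
  have hΦ1 : ∀ q, i (W4c6defoisocp1.TwistExt.val (Φfun q)).1 = q - t (p q) := fun q => hlift ⟨_, hmem2 q⟩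
  have hΦ2 : ∀ q, (W4c6defoisocp1.TwistExt.val (Φfun q)).2 = p q := fun q => rfl
  let Φlin : Q →ₗ[D] W4c6defoisocp1.TwistExt s hs :=
    { toFun := Φfun
      map_add' := fun q q' => by
        apply W4c6defoisocp1.TwistExt.ext
        · apply hi
          rw [hΦ1, W4c6defoisocp1.TwistExt.val_add, Prod.fst_add, i.map_add, hΦ1, hΦ1, p.map_add,
            t.map_add]
          abel
        · rw [hΦ2, W4c6defoisocp1.TwistExt.val_add, Prod.snd_add, hΦ2, hΦ2, map_add]
      map_smul' := fun a q => by
        apply W4c6defoisocp1.TwistExt.ext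
        · apply hi
          rw [hΦ1, RingHom.id_apply, W4c6defoisocp1.TwistExt.val_smul]
          simp only
          rw [i.map_add, i.map_smul, hΦ1, hΦ2, hs_apply, hsi, p.map_smul, smul_sub]
          abel
        · rw [hΦ2, RingHom.id_apply, W4c6defoisocp1.TwistExt.val_smul]
          simp only
          rw [hΦ2, map_smul] }
  have hΦlin_apply : ∀ q, Φlin q = Φfun q := fun q => rfl
  have hpi : ∀ f, p (i f) = 0 := fun f => (hex (i f)).mpr ⟨f, rfl⟩
  have hbij : Function.Bijective Φlin := by
    constructor
    · rw [← LinearMap.ker_eq_bot, LinearMap.ker_eq_bot']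
      intro q hq
      have h1 : (W4c6defoisocp1.TwistExt.val (Φfun q)).2 = 0 := by
        rw [← hΦlin_apply, hq]; rfl
      have h2 : (W4c6defoisocp1.TwistExt.val (Φfun q)).1 = 0 := by
        rw [← hΦlin_apply, hq]; rfl
      rw [hΦ2] at h1
      have h3 := hΦ1 q
      rw [h2, map_zero, h1, map_zero, sub_zero] at h3
      exact h3.symm
    · intro x
      refine ⟨i (W4c6defoisocp1.TwistExt.val x).1 + t (W4c6defoisocp1.TwistExt.val x).2, ?_⟩
      apply W4c6defoisocp1.TwistExt.ext
      · apply hi
        rw [hΦlin_apply, hΦ1, map_add, hpi, htp, zero_add, add_sub_cancel_right]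
      · rw [hΦlin_apply, hΦ2, map_add, hpi, htp, zero_add]
  refine ⟨s, hs, LinearEquiv.ofBijective Φlin hbij, ?_, ?_⟩
  · intro f
    apply W4c6defoisocp1.TwistExt.ext
    · apply hi
      rw [LinearEquiv.ofBijective_apply, hΦlin_apply, hΦ1, hpi, map_zero, sub_zero]
      rfl
    · rw [LinearEquiv.ofBijective_apply, hΦlin_apply, hΦ2, hpi]
      rfl
  · intro q
    rfl

end Groth.Agent.S18802
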