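import Groth.Statements.S18803

set_option autoImplicit false
universe u v w w'
open DefMod

namespace Groth.Agent.S18803

open W4c6defoisocp1 in
/-- Let K be a field of characteristic zero, D an associative K-algebra, E and F left D-modules, and s :
D → Hom_K(E, F) a K-linear map with s(ab)(e) = a s(b)(e) + s(a)(b e). The twisted sum F ⊕_s E (that
is F × E with a · (f, e) = (a f + s(a) e, a e)) is a trivial extension of E by F — there is a
D-linear isomorphism F ⊕_s E ≅ F × E with the direct-sum module structure, carrying the inclusion f
↦ (f, 0) to itself and compatible with the second projections — if and only if s is principal: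
s(a)(e) = a σ(e) − σ(a e) for some K-linear σ : E → F (a Hochschild 1-coboundary). -/
theorem result
    {K : Type u} [Field K] [CharZero K]
    {D : Type v} [Ring D] [Algebra K D]
    {E : Type w} [AddCommGroup E] [Module K E] [Module D E] [IsScalarTower K D E]
    {F : Type w'} [AddCommGroup F] [Module K F] [Module D F] [IsScalarTower K D F]
    (s : D →ₗ[K] E →ₗ[K] F) (hs : W4c6defoisocp1.IsHomDerivation s) :
    (∃ Ψ : W4c6defoisocp1.TwistExt s hs ≃ₗ[D] F × E,
        (∀ f : F, Ψ (W4c6defoisocp1.TwistExt.inl f) = (f, 0)) ∧ ∀ x : W4c6defoisocp1.TwistExt s hs, (Ψ x).2 = W4c6defoisocp1.TwistExt.snd x) ↔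
      W4c6defoisocp1.IsPrincipal s := by
  constructor
  · rintro ⟨Ψ, hΨ1, hΨ2⟩
    -- σ e = (Ψ (mk (0, e))).1
    have hdecomp : ∀ (f : F) (e : E), (TwistExt.mk (f, e) : TwistExt s hs) =
        TwistExt.inl f + TwistExt.mk (0, e) := by
      intro f e
      apply TwistExt.ext <;> simp
    have hsalg : ∀ c : K, s (algebraMap K D c) = 0 := by
      intro c
      rw [Algebra.algebraMap_eq_smul_one, map_smul, TwistExt.map_one_eq_zero hs, smul_zero]
    have hsmulK : ∀ (c : K) (e : E), (TwistExt.mk (0, c • e) : TwistExt s hs) =
        algebraMap K D c • TwistExt.mk (0, e) := by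
      intro c e
      apply TwistExt.ext
      · simp [hsalg]
      · simp
    refine ⟨{ toFun := fun e => (Ψ (TwistExt.mk (0, e))).1
              map_add' := ?_
              map_smul' := ?_ }, ?_⟩
    · intro e e'
      have : (TwistExt.mk (0, e + e') : TwistExt s hs) = TwistExt.mk (0, e) + TwistExt.mk (0, e') := by
        apply TwistExt.ext <;> simp
      rw [this, map_add, Prod.fst_add]
    · intro c e
      rw [hsmulK, map_smul, Prod.smul_fst, RingHom.id_apply, algebraMap_smul]
    · intro a e
      simp only [LinearMap.coe_mk, AddHom.coe_mk]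
      have h1 : a • (TwistExt.mk (0, e) : TwistExt s hs) = TwistExt.mk (s a e, a • e) := by
        apply TwistExt.ext <;> simp
      have h2 := congrArg Prod.fst (map_smul Ψ a (TwistExt.mk (0, e) : TwistExt s hs))
      rw [h1, hdecomp, map_add, hΨ1] at h2
      simp only [Prod.fst_add, Prod.smul_fst] at h2
      rw [← h2]; abel
  · rintro ⟨σ, hσ⟩
    refine ⟨{ toFun := fun x => ((TwistExt.val x).1 + σ (TwistExt.val x).2, (TwistExt.val x).2)
              map_add' := ?_
              map_smul' := ?_
              invFun := fun y => TwistExt.mk (y.1 - σ y.2, y.2)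
              left_inv := ?_
              right_inv := ?_ }, ?_, ?_⟩
    · intro x y
      ext
      · simp only [TwistExt.val_add, Prod.fst_add, Prod.snd_add, map_add]; abel
      · simp
    · intro a x
      ext
      · simp only [TwistExt.val_smul, RingHom.id_apply, Prod.smul_fst, smul_add, hσ]; abel
      · simp
    · intro x
      apply TwistExt.ext <;> simp
    · intro y
      ext <;> simp
    · intro f
      simp
    · intro x
      simp

end Groth.Agent.S18803
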