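import Groth.Statements.S18806
import Groth.Agent.H93.Comod3

set_option autoImplicit false
universe u v v' w w' x
open TensorProduct
open HopfRep

namespace Groth.Agent.S18806

/-- Let k be a field, i : C → D an injective morphism of k-coalgebras and V a right D-comodule with
coaction ρ : V → V ⊗ D. If ρ(v) lies in the image of V ⊗ C → V ⊗ D (induced by i) for every v, then
V comes from a C-comodule: there is a C-comodule structure on V whose coaction, followed by V ⊗ C →
V ⊗ D, is ρ. (The source states this for left comodules over the coordinate bialgebras of an affine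
monoid scheme over k and of its group of units, assumed open and schematically dense, and uses that
assumption only through the injectivity of the restriction map of coordinate rings; the row is the
right-comodule mirror image for any injective coalgebra map. The converse direction is immediate.) -/
theorem result (k : Type u) [Field k]
    (C : Type v) [AddCommGroup C] [Module k C] [Coalgebra k C]
    (D : Type v') [AddCommGroup D] [Module k D] [Coalgebra k D]
    (i : C →ₗc[k] D) (hi : Function.Injective i)
    (V : Type w) [AddCommGroup V] [Module k V] [HopfRep.Comod k D V]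
    (h : ∀ v : V, HopfRep.Comod.coact (k := k) (A := D) v ∈ LinearMap.range ((i : C →ₗ[k] D).lTensor V)) :
    ∃ c : HopfRep.Comod k C V,
      (i : C →ₗ[k] D).lTensor V ∘ₗ c.coact = HopfRep.Comod.coact (k := k) (A := D) := by
  set i' : C →ₗ[k] D := (i : C →ₗ[k] D) with hi'
  have hi'inj : Function.Injective i' := hi
  set j := i'.lTensor V with hj
  have hjinj : Function.Injective j := Module.Flat.lTensor_preserves_injective_linearMap i' hi'inj
  set ρ := HopfRep.Comod.coact (k := k) (A := D) (V := V) with hρ
  let e := LinearEquiv.ofInjective j hjinj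
  let c : V →ₗ[k] V ⊗[k] C := e.symm.toLinearMap ∘ₗ ρ.codRestrict (LinearMap.range j) h
  have hjc : j ∘ₗ c = ρ := by
    ext v
    simp only [c, LinearMap.comp_apply, LinearEquiv.coe_coe]
    rw [LinearEquiv.ofInjective_symm_apply]
    rfl
  have hjc' : ∀ v, j (c v) = ρ v := fun v => LinearMap.congr_fun hjc v
  have hmapinj : Function.Injective ((TensorProduct.map i' i').lTensor V) :=
    Module.Flat.lTensor_preserves_injective_linearMap _
      (TensorProduct.map_injective_of_flat_flat i' i' hi'inj hi'inj)
  refine ⟨{ coact := c, coassoc := ?_, counit_comp := ?_ }, hjc⟩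
  · ext v
    apply hmapinj
    simp only [LinearMap.comp_apply, LinearEquiv.coe_coe]
    have h3 := LinearMap.congr_fun (Groth.Agent.H93.assoc_threefold V i') (c.rTensor C (c v))
    simp only [LinearMap.comp_apply, LinearEquiv.coe_coe] at h3
    rw [← h3]
    have h1 : (i'.lTensor (V ⊗[k] C)) ∘ₗ (c.rTensor C) = (c.rTensor D) ∘ₗ (i'.lTensor V) := by
      rw [LinearMap.lTensor_comp_rTensor, LinearMap.rTensor_comp_lTensor]
    have h1' := LinearMap.congr_fun h1 (c v)
    simp only [LinearMap.comp_apply] at h1'
    rw [h1', ← LinearMap.comp_apply (j.rTensor D), ← LinearMap.rTensor_comp, hjc, ← hj, hjc']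
    have h2 := LinearMap.congr_fun (HopfRep.Comod.coassoc (k := k) (A := D) (V := V)) v
    simp only [LinearMap.comp_apply, LinearEquiv.coe_coe] at h2
    rw [h2, ← hjc', hj]
    rw [← LinearMap.comp_apply, ← LinearMap.lTensor_comp, ← LinearMap.comp_apply
      (LinearMap.lTensor V (TensorProduct.map i' i')), ← LinearMap.lTensor_comp, hi',
      CoalgHomClass.map_comp_comul]
  · have : (CoalgebraStruct.counit (R := k) (A := C)) = (CoalgebraStruct.counit (R := k) (A := D)) ∘ₗ i' :=
      (CoalgHomClass.counit_comp i).symm
    rw [this, LinearMap.lTensor_comp, LinearMap.comp_assoc, ← hj, hjc]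
    exact HopfRep.Comod.counit_comp (k := k) (A := D) (V := V)

end Groth.Agent.S18806
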