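import Groth.Statements.S18808
import Groth.Agent.H40.Comod

set_option autoImplicit false
universe u v v' w w' x
open TensorProduct
open HopfRep

namespace Groth.Agent.S18808

section helpers

variable {k : Type u} [Field k]
  {C : Type v} [AddCommGroup C] [Module k C]
  {D : Type v'} [AddCommGroup D] [Module k D]
  {V : Type w} [AddCommGroup V] [Module k V]

/-- admissibility rephrased with the quotient `D ⧸ i(C)` -/
theorem admissible_iff (K : Submodule k V) (i : C →ₗ[k] D) (x : V ⊗[k] D) :
    K.mkQ.rTensor D x ∈ LinearMap.range (i.lTensor (V ⧸ K)) ↔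
      (LinearMap.range i).mkQ.lTensor V x ∈
        LinearMap.range (K.subtype.rTensor (D ⧸ LinearMap.range i)) := by
  have hex : Function.Exact i (LinearMap.range i).mkQ := LinearMap.exact_map_mkQ_range i
  have hex' : Function.Exact (i.lTensor (V ⧸ K)) ((LinearMap.range i).mkQ.lTensor (V ⧸ K)) :=
    lTensor_exact (V ⧸ K) hex (Submodule.mkQ_surjective _)
  rw [← LinearMap.exact_iff.mp hex', LinearMap.mem_ker,
    Groth.Agent.H40.mem_range_rTensor_subtype_iff]
  have h : (LinearMap.range i).mkQ.lTensor (V ⧸ K) (K.mkQ.rTensor D x) =
      K.mkQ.rTensor _ ((LinearMap.range i).mkQ.lTensor V x) := by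
    rw [← LinearMap.comp_apply, ← LinearMap.comp_apply, LinearMap.lTensor_comp_rTensor,
      LinearMap.rTensor_comp_lTensor]
  rw [h]

/-- arbitrary intersections commute with `⊗ E` over a field -/
theorem mem_range_rTensor_sInf {E : Type*} [AddCommGroup E] [Module k E]
    (s : Set (Submodule k V)) (x : V ⊗[k] E)
    (h : ∀ K ∈ s, x ∈ LinearMap.range (K.subtype.rTensor E)) :
    x ∈ LinearMap.range ((sInf s).subtype.rTensor E) := by
  classical
  rw [Groth.Agent.H40.mem_range_rTensor_iff_coeff (Module.Basis.ofVectorSpace k E)]
  intro j
  rw [Submodule.mem_sInf]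
  intro K hK
  exact (Groth.Agent.H40.mem_range_rTensor_iff_coeff (Module.Basis.ofVectorSpace k E) K x).mp
    (h K hK) j

end helpers

/-- Let k be a field, i : C → D an injective morphism of k-coalgebras and V a right D-comodule with
coaction ρ. Call a D-subcomodule K of V admissible when the induced coaction of V/K, namely ρ
followed by the projection V ⊗ D → (V/K) ⊗ D, takes all its values in the image of (V/K) ⊗ C → (V/K)
⊗ D (so that V/K comes from a C-comodule). Then there is a least admissible D-subcomodule of V: V
has a largest quotient D-comodule coming from C, through which every D-comodule map from V to a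
comodule coming from C factors. (The source states this for left comodules over the coordinate
bialgebras of an affine monoid scheme and its open schematically dense group of units, as the
existence of a universal map from a representation of the unit group to a representation of the
monoid; it uses that assumption only through the injectivity of the restriction map.) -/
theorem result (k : Type u) [Field k]
    (C : Type v) [AddCommGroup C] [Module k C] [Coalgebra k C]
    (D : Type v') [AddCommGroup D] [Module k D] [Coalgebra k D]
    (i : C →ₗc[k] D) (hi : Function.Injective i)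
    (V : Type w) [AddCommGroup V] [Module k V] [HopfRep.Comod k D V] :
    ∃ K : Submodule k V, HopfRep.IsSubcomod (k := k) (A := D) K ∧
      (∀ v : V, K.mkQ.rTensor D (HopfRep.Comod.coact (k := k) (A := D) v) ∈
        LinearMap.range ((i : C →ₗ[k] D).lTensor (V ⧸ K))) ∧
      ∀ K' : Submodule k V, HopfRep.IsSubcomod (k := k) (A := D) K' →
        (∀ v : V, K'.mkQ.rTensor D (HopfRep.Comod.coact (k := k) (A := D) v) ∈
          LinearMap.range ((i : C →ₗ[k] D).lTensor (V ⧸ K'))) → K ≤ K' := by
  classical
  let s : Set (Submodule k V) := {K | HopfRep.IsSubcomod (k := k) (A := D) K ∧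
    ∀ v : V, (LinearMap.range (i : C →ₗ[k] D)).mkQ.lTensor V
      (HopfRep.Comod.coact (k := k) (A := D) v) ∈
        LinearMap.range (K.subtype.rTensor (D ⧸ LinearMap.range (i : C →ₗ[k] D)))}
  refine ⟨sInf s, ?_, ?_, ?_⟩
  · intro w hw
    apply mem_range_rTensor_sInf
    intro K hK
    exact hK.1 w ((Submodule.mem_sInf.mp hw) K hK)
  · intro v
    rw [admissible_iff]
    apply mem_range_rTensor_sInf
    intro K hK
    exact hK.2 v
  · intro K' hK' hadm
    apply sInf_le
    refine ⟨hK', fun v => ?_⟩
    rw [← admissible_iff]
    exact hadm v

end Groth.Agent.S18808
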