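import Groth.Statements.S18810
import Groth.Agent.H93.Comod5

set_option autoImplicit false
universe u v v' w w' x
open TensorProduct
open HopfRep

namespace Groth.Agent.S18810

/-- Let k be a field, C a k-coalgebra, V a right C-comodule and (S_j) a family of simple C-comodules
which are pairwise non-isomorphic (for j ≠ j' no k-linear isomorphism S_j ≃ S_j' commutes with the
coactions). For each j let V[j] be the isotypic component of type S_j: the sum of the images of all
comodule maps S_j → V (equivalently of all simple subcomodules of V isomorphic to S_j, a nonzero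
such map being injective). Then the family j ↦ V[j] is independent, so that the socle of V is the
direct sum of its isotypic components. (The source states this for representations of an affine
monoid scheme over k, i.e. left comodules over its coordinate bialgebra; the row is the
right-comodule form over any coalgebra.) -/
theorem result (k : Type u) [Field k]
    (C : Type v) [AddCommGroup C] [Module k C] [Coalgebra k C]
    (V : Type w) [AddCommGroup V] [Module k V] [HopfRep.Comod k C V]
    {ι : Type x} (S : ι → Type w') [∀ j, AddCommGroup (S j)] [∀ j, Module k (S j)]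
    [∀ j, HopfRep.Comod k C (S j)] (hS : ∀ j, HopfRep.IsSimpleComod k C (S j))
    (hne : ∀ j j', j ≠ j' → ∀ e : S j ≃ₗ[k] S j', ¬ Hoch.IsComodHom C (e : S j →ₗ[k] S j')) :
    iSupIndep (fun j => ⨆ f : {f : S j →ₗ[k] V // Hoch.IsComodHom C f}, LinearMap.range f.1) := by
  classical
  rw [iSupIndep_def]
  intro j
  rw [disjoint_iff]
  by_contra hne'
  -- the two sums are subcomodules
  have hsub1 : ∀ j', HopfRep.IsSubcomod (k := k) (A := C)
      (⨆ f : {f : S j' →ₗ[k] V // Hoch.IsComodHom C f}, LinearMap.range f.1) := fun j' =>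
    Groth.Agent.H93.isSubcomod_iSup _ (fun f => Groth.Agent.H93.isSubcomod_range f.2)
  have hsub2 : HopfRep.IsSubcomod (k := k) (A := C)
      (⨆ (j') (_ : j' ≠ j), ⨆ f : {f : S j' →ₗ[k] V // Hoch.IsComodHom C f}, LinearMap.range f.1) :=
    Groth.Agent.H93.isSubcomod_iSup _ (fun j' => Groth.Agent.H93.isSubcomod_iSup _ (fun _ => hsub1 j'))
  have hXsub := Groth.Agent.H40.isSubcomod_inf (hsub1 j) hsub2
  obtain ⟨x, hxX, hx0⟩ := Submodule.exists_mem_ne_zero_of_ne_bot hne'
  obtain ⟨F, hFfin, hxF, hFsub⟩ := Groth.Agent.H40.exists_finite_subcomod_mem (k := k) (C := C) x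
  set X : Submodule k V := (⨆ f : {f : S j →ₗ[k] V // Hoch.IsComodHom C f}, LinearMap.range f.1) ⊓
    ⨆ (j') (_ : j' ≠ j), ⨆ f : {f : S j' →ₗ[k] V // Hoch.IsComodHom C f}, LinearMap.range f.1 with hX
  have hG₀sub : HopfRep.IsSubcomod (k := k) (A := C) (F ⊓ X) :=
    Groth.Agent.H40.isSubcomod_inf hFsub hXsub
  haveI : Module.Finite k ↥(F ⊓ X) :=
    Module.Finite.of_injective (Submodule.inclusion (inf_le_left : F ⊓ X ≤ F))
      (Submodule.inclusion_injective _)
  have hG₀ne : F ⊓ X ≠ ⊥ := by
    intro h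
    have : x ∈ F ⊓ X := ⟨hxF, hxX⟩
    rw [h, Submodule.mem_bot] at this
    exact hx0 this
  obtain ⟨T, hTle, hTsub, hTne, hTmin⟩ :=
    Groth.Agent.S18818.exists_simple_le (F ⊓ X) hG₀sub hG₀ne
  letI instT : HopfRep.Comod k C T := Groth.Agent.H62.subComod T hTsub
  have hTsimple : HopfRep.IsSimpleComod k C T :=
    Groth.Agent.H93.isSimpleComod_subComod T hTsub hTne hTmin
  have hsubt : Hoch.IsComodHom C T.subtype := Groth.Agent.H62.isComodHom_subtype T hTsub
  have hf0 : T.subtype ≠ 0 := by
    intro h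
    apply hTne
    rw [eq_bot_iff]
    intro t ht
    have : T.subtype ⟨t, ht⟩ = 0 := by rw [h, LinearMap.zero_apply]
    rw [Submodule.mem_bot]
    exact this
  have hTX : T ≤ X := hTle.trans inf_le_right
  -- first isomorphism
  have h1 : LinearMap.range T.subtype ≤
      ⨆ f : {f : S j →ₗ[k] V // Hoch.IsComodHom C f}, LinearMap.range f.1 := by
    rw [Submodule.range_subtype]
    exact hTX.trans inf_le_left
  obtain ⟨f₁, e₁, he₁⟩ := Groth.Agent.H93.exists_iso_of_range_le_iSup
    (K := fun _ : {f : S j →ₗ[k] V // Hoch.IsComodHom C f} => S j) (fun _ => hS j)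
    (fun f => f.1) (fun f => f.2) T hTsimple T.subtype hsubt hf0 h1
  -- second isomorphism
  have h2 : LinearMap.range T.subtype ≤
      ⨆ p : (Σ j' : {j' : ι // j' ≠ j}, {f : S j'.1 →ₗ[k] V // Hoch.IsComodHom C f}),
        LinearMap.range p.2.1 := by
    rw [Submodule.range_subtype]
    refine (hTX.trans inf_le_right).trans ?_
    refine iSup_le fun j' => iSup_le fun hj' => iSup_le fun f => ?_
    exact le_iSup (fun p : (Σ j' : {j' : ι // j' ≠ j},
      {f : S j'.1 →ₗ[k] V // Hoch.IsComodHom C f}) => LinearMap.range p.2.1) ⟨⟨j', hj'⟩, f⟩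
  obtain ⟨p, e₂, he₂⟩ := Groth.Agent.H93.exists_iso_of_range_le_iSup
    (K := fun p : (Σ j' : {j' : ι // j' ≠ j}, {f : S j'.1 →ₗ[k] V // Hoch.IsComodHom C f}) =>
      S p.1.1) (fun p => hS p.1.1)
    (fun p => p.2.1) (fun p => p.2.2) T hTsimple T.subtype hsubt hf0 h2
  -- conclude
  apply hne j p.1.1 p.1.2.symm (e₁.symm.trans e₂)
  have hsymm := Groth.Agent.H93.isComodHom_symm e₁ he₁
  have hcomp := Groth.Agent.H93.isComodHom_comp hsymm he₂
  have : ((e₁.symm.trans e₂ : S j ≃ₗ[k] S p.1.1) : S j →ₗ[k] S p.1.1) =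
      (e₂ : T →ₗ[k] S p.1.1) ∘ₗ (e₁.symm : S j →ₗ[k] T) := by
    ext s; simp
  rw [this]
  exact hcomp

end Groth.Agent.S18810
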