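import Groth.Statements.S18811
import Mathlib.AlgebraicGeometry.Morphisms.Flat
import Mathlib.AlgebraicGeometry.Morphisms.QuasiSeparated
import Mathlib.AlgebraicGeometry.Morphisms.Affine

set_option autoImplicit false
universe u
open CategoryTheory CategoryTheory.Limits AlgebraicGeometry
open Variety

namespace Groth.Agent.S18811

/-- Let k be a field and X, Y quasi-compact k-schemes whose diagonal morphisms over k are affine
(semi-separated; for instance X and Y separated over k). Then the canonical map Γ(X, O_X) ⊗_k Γ(Y,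
O_Y) → Γ(X ×_k Y, O) is an isomorphism: the commutative square of rings of global sections formed by
Spec k, X, Y and X ×_k Y with the pullback maps along the structure morphisms and the two
projections is a pushout square of commutative rings. -/
theorem result (k : Type u) [Field k]
    (X : Scheme.{u}) [X.Over (Spec (CommRingCat.of k))] [CompactSpace ↥X]
    [IsAffineHom (pullback.diagonal (X ↘ (Spec (CommRingCat.of k))))]
    (Y : Scheme.{u}) [Y.Over (Spec (CommRingCat.of k))] [CompactSpace ↥Y]
    [IsAffineHom (pullback.diagonal (Y ↘ (Spec (CommRingCat.of k))))] :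
    IsPushout (X ↘ (Spec (CommRingCat.of k))).appTop (Y ↘ (Spec (CommRingCat.of k))).appTop
      (pullback.fst (X ↘ (Spec (CommRingCat.of k))) (Y ↘ (Spec (CommRingCat.of k)))).appTop
      (pullback.snd (X ↘ (Spec (CommRingCat.of k))) (Y ↘ (Spec (CommRingCat.of k)))).appTop := by
  haveI : Subsingleton ↥(Spec (CommRingCat.of k)) :=
    inferInstanceAs (Subsingleton (PrimeSpectrum k))
  haveI : IsIntegral (Spec (CommRingCat.of k)) := inferInstance
  haveI : QuasiSeparated (X ↘ (Spec (CommRingCat.of k))) := ⟨inferInstance⟩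
  haveI : QuasiSeparated (Y ↘ (Spec (CommRingCat.of k))) := ⟨inferInstance⟩
  haveI : QuasiSeparatedSpace ↥X := quasiSeparatedSpace_of_quasiSeparated (X ↘ (Spec (CommRingCat.of k)))
  haveI : QuasiSeparatedSpace ↥Y := quasiSeparatedSpace_of_quasiSeparated (Y ↘ (Spec (CommRingCat.of k)))
  have H : IsPullback (pullback.fst (X ↘ (Spec (CommRingCat.of k))) (Y ↘ (Spec (CommRingCat.of k))))
      (pullback.snd (X ↘ (Spec (CommRingCat.of k))) (Y ↘ (Spec (CommRingCat.of k))))
      (X ↘ (Spec (CommRingCat.of k))) (Y ↘ (Spec (CommRingCat.of k))) :=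
    IsPullback.of_hasPullback _ _
  have hUST : (⊤ : Y.Opens) ≤ (Y ↘ (Spec (CommRingCat.of k))) ⁻¹ᵁ (⊤ : (Spec (CommRingCat.of k)).Opens) :=
    le_rfl
  have hUSX : (⊤ : X.Opens) ≤ (X ↘ (Spec (CommRingCat.of k))) ⁻¹ᵁ (⊤ : (Spec (CommRingCat.of k)).Opens) :=
    le_rfl
  have hUY : (⊤ : (pullback (X ↘ (Spec (CommRingCat.of k))) (Y ↘ (Spec (CommRingCat.of k)))).Opens) =
      (pullback.fst (X ↘ (Spec (CommRingCat.of k))) (Y ↘ (Spec (CommRingCat.of k)))) ⁻¹ᵁ (⊤ : X.Opens) ⊓
      (pullback.snd (X ↘ (Spec (CommRingCat.of k))) (Y ↘ (Spec (CommRingCat.of k)))) ⁻¹ᵁ (⊤ : Y.Opens) := by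
    simp
  have hiso := isIso_pushoutSection_of_isCompact_of_flat_right_of_ringHomFlat H hUST hUSX hUY
    (isAffineOpen_top (Spec (CommRingCat.of k)))
    (by simpa using isCompact_univ (X := ↥Y)) (by simpa using isQuasiSeparated_univ (α := ↥Y))
    (by simpa using isCompact_univ (X := ↥X)) (by simpa using isQuasiSeparated_univ (α := ↥X))
    (RingHom.Flat.of_isField (isField_of_isIntegral_of_subsingleton _) _)
  have hpo := (isIso_pushoutSection_iff H hUST hUSX hUY).mp hiso
  convert hpo using 1 <;> simp [Scheme.Hom.appTop, Scheme.Hom.app_eq_appLE]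

end Groth.Agent.S18811
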