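import Groth.Statements.S18814
import Groth.Agent.H93.Comod5

set_option autoImplicit false
universe u v v' w w'
open TensorProduct
open HopfRep

namespace Groth.Agent.S18814

section helpers

variable {k : Type u} [Field k]
  {C : Type v} [CommRing C] [Bialgebra k C] {D : Type v'} [CommRing D] [Bialgebra k D]
  {V : Type w} [AddCommGroup V] [Module k V] [HopfRep.Comod k C V] [HopfRep.Comod k D V]

omit [HopfRep.Comod k C V] [HopfRep.Comod k D V] in
theorem swap_contr (φ : C →ₗ[k] k) (Y : (V ⊗[k] D) ⊗[k] C) :
    Groth.Agent.H40.contr (V ⊗[k] D) φ Y =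
      (Groth.Agent.H40.contr V φ).rTensor D ((TensorProduct.assoc k V C D).symm
        ((TensorProduct.comm k D C).toLinearMap.lTensor V (TensorProduct.assoc k V D C Y))) := by
  induction Y using TensorProduct.induction_on with
  | zero => simp
  | tmul y c =>
    induction y using TensorProduct.induction_on with
    | zero => simp
    | tmul v d => simp [TensorProduct.smul_tmul']
    | add y y' hy hy' => simp only [TensorProduct.add_tmul, map_add, hy, hy']
  | add Y Y' hY hY' => simp only [map_add, hY, hY']

omit [HopfRep.Comod k C V] in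
theorem coactD_contr (φ : C →ₗ[k] k) (y : V ⊗[k] C) :
    HopfRep.Comod.coact (k := k) (A := D) (Groth.Agent.H40.contr V φ y) =
      Groth.Agent.H40.contr (V ⊗[k] D) φ
        ((HopfRep.Comod.coact (k := k) (A := D) (V := V)).rTensor C y) := by
  induction y using TensorProduct.induction_on with
  | zero => simp
  | tmul x c => simp
  | add y y' hy hy' => simp only [map_add, hy, hy']

/-- the operator `(id ⊗ φ) ∘ ρ_C` is a `D`-comodule map when the coactions commute -/
theorem isComodHom_Lφ
    (hcomm : (TensorProduct.assoc k V C D).toLinearMap ∘ₗ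
        (HopfRep.Comod.coact (k := k) (A := C) (V := V)).rTensor D ∘ₗ HopfRep.Comod.coact (k := k) (A := D) =
      (TensorProduct.comm k D C).toLinearMap.lTensor V ∘ₗ (TensorProduct.assoc k V D C).toLinearMap ∘ₗ
        (HopfRep.Comod.coact (k := k) (A := D) (V := V)).rTensor C ∘ₗ HopfRep.Comod.coact (k := k) (A := C))
    (φ : C →ₗ[k] k) :
    Hoch.IsComodHom D (Groth.Agent.H40.contr V φ ∘ₗ HopfRep.Comod.coact (k := k) (A := C) (V := V)) := by
  unfold Hoch.IsComodHom
  ext v
  have h := LinearMap.congr_fun hcomm v
  simp only [LinearMap.comp_apply, LinearEquiv.coe_coe] at h ⊢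
  rw [coactD_contr, swap_contr, ← h, LinearEquiv.symm_apply_apply, LinearMap.rTensor_comp,
    LinearMap.comp_apply]

end helpers

/-- Let k be a field, C and D commutative bialgebras over k (coordinate rings of affine monoid schemes M
and N) and V a k-vector space carrying a right C-comodule structure with coaction ρ_C : V → V ⊗ C
and a right D-comodule structure with coaction ρ_D : V → V ⊗ D which commute: (ρ_C ⊗ id_D) ∘ ρ_D and
(ρ_D ⊗ id_C) ∘ ρ_C agree in V ⊗ C ⊗ D after reassociating and swapping the last two factors (the
actions of M and N on V commute). Assume V is semisimple as a D-comodule. Then for every simple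
D-comodule S the isotypic component of V of type S, the sum of the images of all D-comodule maps S →
V, is a C-subcomodule of V. (The source works with left comodules; this is the right-comodule form.) -/
theorem result (k : Type u) [Field k]
    (C : Type v) [CommRing C] [Bialgebra k C] (D : Type v') [CommRing D] [Bialgebra k D]
    (V : Type w) [AddCommGroup V] [Module k V] [HopfRep.Comod k C V] [HopfRep.Comod k D V]
    (hcomm : (TensorProduct.assoc k V C D).toLinearMap ∘ₗ
        (HopfRep.Comod.coact (k := k) (A := C) (V := V)).rTensor D ∘ₗ HopfRep.Comod.coact (k := k) (A := D) =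
      (TensorProduct.comm k D C).toLinearMap.lTensor V ∘ₗ (TensorProduct.assoc k V D C).toLinearMap ∘ₗ
        (HopfRep.Comod.coact (k := k) (A := D) (V := V)).rTensor C ∘ₗ HopfRep.Comod.coact (k := k) (A := C))
    (hV : HopfRep.IsSemisimpleComod k D V)
    (S : Type w') [AddCommGroup S] [Module k S] [HopfRep.Comod k D S] (hS : HopfRep.IsSimpleComod k D S) :
    HopfRep.IsSubcomod (k := k) (A := C)
      (⨆ f : {f : S →ₗ[k] V // Hoch.IsComodHom D f}, LinearMap.range f.1) := by
  apply Groth.Agent.H93.isSubcomod_of_forall_contr_mem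
  intro φ w hw
  refine Submodule.iSup_induction _ (motive := fun w => Groth.Agent.H40.contr V φ
    (HopfRep.Comod.coact (k := k) (A := C) w) ∈
      ⨆ f : {f : S →ₗ[k] V // Hoch.IsComodHom D f}, LinearMap.range f.1) hw ?_ ?_ ?_
  · rintro f _ ⟨s, rfl⟩
    have hcomp : Hoch.IsComodHom D ((Groth.Agent.H40.contr V φ ∘ₗ
        HopfRep.Comod.coact (k := k) (A := C) (V := V)) ∘ₗ f.1) :=
      Groth.Agent.H93.isComodHom_comp f.2 (isComodHom_Lφ hcomm φ)
    exact le_iSup (fun f : {f : S →ₗ[k] V // Hoch.IsComodHom D f} => LinearMap.range f.1)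
      ⟨_, hcomp⟩ ⟨s, rfl⟩
  · simp
  · intro x y hx hy
    rw [map_add, map_add]
    exact add_mem hx hy

end Groth.Agent.S18814
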