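import Groth.Statements.S18816
import Groth.Agent.H93.Transp2

set_option autoImplicit false
universe u
open CategoryTheory MonoidalCategory CartesianMonoidalCategory AlgebraicGeometry
open AlgGrp

namespace Groth.Agent.S18816

/-- Let k be a field, X a separated k-scheme, Y an arbitrary k-scheme and a : Y ×_k X → X an arbitrary
k-morphism. Consider the subfunctor X^a of X whose T-valued points, for a k-scheme T, are the
k-morphisms x : T → X with a ∘ (id_Y × x) = x ∘ pr_T as morphisms Y ×_k T → X. Then X^a is
represented by a closed subscheme of X: there is a closed immersion j : Z → X over k lying in X^a(Z)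
through which every element of X^a(T) factors. In particular, when Y = G is a k-group scheme and a
is an action of G on the separated k-scheme X, the functor X^G of G-fixed points is representable by
some closed subscheme of X. No finiteness condition is imposed on X, Y or G. -/
theorem result (k : Type u) [Field k]
    (X Y : Over (Spec (CommRingCat.of k))) [IsSeparated X.hom] (a : Y ⊗ X ⟶ X) :
    ∃ (Z : Over (Spec (CommRingCat.of k))) (j : Z ⟶ X), IsClosedImmersion j.left ∧
      (Y ◁ j) ≫ a = CartesianMonoidalCategory.snd Y Z ≫ j ∧
      ∀ (T : Over (Spec (CommRingCat.of k))) (x : T ⟶ X),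
        (Y ◁ x) ≫ a = CartesianMonoidalCategory.snd Y T ≫ x → ∃ z : T ⟶ Z, z ≫ j = x := by
  obtain ⟨W, incl, hcl, hW⟩ := Groth.Agent.H93.Transp.eq_representable (K := k) (Y := X) (X := Y) (Z := X)
    (fun T x y => lift y x ≫ a) (fun T x _ => x)
    (fun T T' h x y => by rw [← Category.assoc, comp_lift]) (fun T T' h x y => rfl)
  refine ⟨W, incl, hcl, ?_, fun T x hx => ?_⟩
  · have h1 := (hW W incl).mp ⟨𝟙 W, Category.id_comp _⟩ (Y ⊗ W) (snd Y W) (fst Y W)
    rw [← h1]
    congr 1
  · rw [hW T x]
    intro T' h y
    have e : lift y (h ≫ x) = lift y h ≫ (Y ◁ x) := by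
      apply CartesianMonoidalCategory.hom_ext
      · rw [lift_fst, Category.assoc, whiskerLeft_fst, lift_fst]
      · rw [lift_snd, Category.assoc, whiskerLeft_snd, lift_snd_assoc]
    rw [e, Category.assoc, hx, lift_snd_assoc]

end Groth.Agent.S18816
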