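import Groth.Statements.S18819
import Groth.Agent.H93.Comod4
import Groth.Agent.S18815

set_option autoImplicit false
universe u v w w' x
open TensorProduct
open HopfRep

namespace Groth.Agent.S18819

/-- Let k be a field, C a k-coalgebra and V a right C-comodule which is the sum of finitely many simple
subcomodules, given as the images of comodule maps g_i : K_i → V (i < n) from simple comodules K_i.
If S is a simple comodule and f : S → V a nonzero comodule map (so that its image is a simple
subcomodule of V), then S is isomorphic as a comodule to some K_i: there is a k-linear isomorphism S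
≃ K_i commuting with the coactions. (The source states this for representations of an affine monoid
scheme over k with the subrepresentations given as subspaces; here the simple subcomodules are
presented as images of maps from simple comodules.) -/
theorem result (k : Type u) [Field k]
    (C : Type v) [AddCommGroup C] [Module k C] [Coalgebra k C]
    (V : Type w) [AddCommGroup V] [Module k V] [HopfRep.Comod k C V]
    {n : ℕ} (K : Fin n → Type w') [∀ i, AddCommGroup (K i)] [∀ i, Module k (K i)] [∀ i, HopfRep.Comod k C (K i)]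
    (hK : ∀ i, HopfRep.IsSimpleComod k C (K i)) (g : ∀ i, K i →ₗ[k] V) (hg : ∀ i, Hoch.IsComodHom C (g i))
    (hsum : (⨆ i, LinearMap.range (g i)) = ⊤)
    (S : Type w') [AddCommGroup S] [Module k S] [HopfRep.Comod k C S] (hS : HopfRep.IsSimpleComod k C S)
    (f : S →ₗ[k] V) (hf : Hoch.IsComodHom C f) (hf0 : f ≠ 0) :
    ∃ (i : Fin n) (e : S ≃ₗ[k] K i), Hoch.IsComodHom C (e : S →ₗ[k] K i) := by
  classical
  haveI := hS.1
  -- the filtration
  let Vj : ℕ → Submodule k V := fun j => ⨆ i : {i : Fin n // i.val < j}, LinearMap.range (g i.1)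
  have hVj_sub : ∀ j, HopfRep.IsSubcomod (k := k) (A := C) (Vj j) := fun j =>
    Groth.Agent.H93.isSubcomod_iSup _ (fun i => Groth.Agent.H93.isSubcomod_range (hg i.1))
  have hPn : LinearMap.range f ≤ Vj n := by
    have : Vj n = ⊤ := by
      rw [eq_top_iff, ← hsum]
      refine iSup_le fun i => ?_
      exact le_iSup (fun i : {i : Fin n // i.val < n} => LinearMap.range (g i.1)) ⟨i, i.2⟩
    rw [this]; exact le_top
  have hP0 : ¬ LinearMap.range f ≤ Vj 0 := by
    intro h
    have : Vj 0 = ⊥ := by
      rw [eq_bot_iff]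
      refine iSup_le fun i => ?_
      exact absurd i.2 (Nat.not_lt_zero _)
    rw [this, le_bot_iff, LinearMap.range_eq_bot] at h
    exact hf0 h
  have hex : ∃ j, LinearMap.range f ≤ Vj j := ⟨n, hPn⟩
  set j := Nat.find hex with hj
  have hjP : LinearMap.range f ≤ Vj j := Nat.find_spec hex
  have hj0 : j ≠ 0 := by
    intro h0
    rw [h0] at hjP
    exact hP0 hjP
  obtain ⟨j', hj'⟩ := Nat.exists_eq_succ_of_ne_zero hj0
  have hj'n : j' < n := by
    have : j ≤ n := Nat.find_min' hex hPn
    omega
  have hnotP : ¬ LinearMap.range f ≤ Vj j' := Nat.find_min hex (by omega)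
  have hstep : Vj j ≤ Vj j' ⊔ LinearMap.range (g ⟨j', hj'n⟩) := by
    refine iSup_le fun i => ?_
    by_cases hi : i.1.val < j'
    · exact le_sup_of_le_left (le_iSup (fun i : {i : Fin n // i.val < j'} => LinearMap.range (g i.1)) ⟨i.1, hi⟩)
    · have : i.1 = ⟨j', hj'n⟩ := by
        apply Fin.ext
        have := i.2
        simp only at this ⊢
        omega
      rw [this]
      exact le_sup_right
  -- the quotient
  letI instQ : HopfRep.Comod k C (V ⧸ Vj j') := Groth.Agent.H93.quotComod (Vj j') (hVj_sub j')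
  have hπ : Hoch.IsComodHom C (Vj j').mkQ := Groth.Agent.H93.isComodHom_mkQ (Vj j') (hVj_sub j')
  set u : S →ₗ[k] V ⧸ Vj j' := (Vj j').mkQ ∘ₗ f with hu
  set h : K ⟨j', hj'n⟩ →ₗ[k] V ⧸ Vj j' := (Vj j').mkQ ∘ₗ g ⟨j', hj'n⟩ with hh
  have hu_hom : Hoch.IsComodHom C u := Groth.Agent.H93.isComodHom_comp hf hπ
  have hh_hom : Hoch.IsComodHom C h := Groth.Agent.H93.isComodHom_comp (hg _) hπ
  have hu_ker : LinearMap.ker u = ⊥ := by
    rcases hS.2 _ (Groth.Agent.H93.isSubcomod_ker hu_hom) with h1 | h1
    · exact h1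
    · exfalso
      apply hnotP
      rintro _ ⟨s, rfl⟩
      have : s ∈ LinearMap.ker u := by rw [h1]; trivial
      rw [LinearMap.mem_ker, hu, LinearMap.comp_apply, Submodule.mkQ_apply,
        Submodule.Quotient.mk_eq_zero] at this
      exact this
  have hu_inj : Function.Injective u := LinearMap.ker_eq_bot.mp hu_ker
  have hle : LinearMap.range u ≤ LinearMap.range h := by
    rintro _ ⟨s, rfl⟩
    have hs : f s ∈ Vj j' ⊔ LinearMap.range (g ⟨j', hj'n⟩) :=
      hstep (hjP (LinearMap.mem_range_self f s))
    obtain ⟨x, hx, y, ⟨κ, rfl⟩, hxy⟩ := Submodule.mem_sup.mp hs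
    refine ⟨κ, ?_⟩
    rw [hh, hu, LinearMap.comp_apply, LinearMap.comp_apply, ← hxy, map_add]
    have : (Vj j').mkQ x = 0 := by
      rw [Submodule.mkQ_apply, Submodule.Quotient.mk_eq_zero]; exact hx
    rw [this, zero_add]
  have hh_ker : LinearMap.ker h = ⊥ := by
    rcases (hK _).2 _ (Groth.Agent.H93.isSubcomod_ker hh_hom) with h1 | h1
    · exact h1
    · exfalso
      have hh0 : h = 0 := LinearMap.ker_eq_top.mp h1
      have : LinearMap.range u ≤ ⊥ := by
        rw [hh0, LinearMap.range_zero] at hle
        exact hle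
      rw [le_bot_iff, LinearMap.range_eq_bot] at this
      obtain ⟨s, hs⟩ := exists_ne (0 : S)
      apply hs
      apply hu_inj
      rw [this, map_zero, LinearMap.zero_apply]
  have hh_inj : Function.Injective h := LinearMap.ker_eq_bot.mp hh_ker
  obtain ⟨θ, hθ, hθ_hom⟩ := Groth.Agent.H93.exists_factor_of_range_le hh_hom hh_inj hu_hom hle
  have hθ0 : θ ≠ 0 := by
    intro h0
    obtain ⟨s, hs⟩ := exists_ne (0 : S)
    apply hs
    apply hu_inj
    rw [← hθ, h0, LinearMap.comp_zero, LinearMap.zero_apply, map_zero]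
  rcases Groth.Agent.S18815.result k C S hS (K ⟨j', hj'n⟩) (hK _) θ hθ_hom with h0 | hbij
  · exact absurd h0 hθ0
  · exact ⟨⟨j', hj'n⟩, LinearEquiv.ofBijective θ hbij, hθ_hom⟩

end Groth.Agent.S18819
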