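import Groth.Statements.S18820
import Mathlib.AlgebraicGeometry.Morphisms.UnderlyingMap

set_option autoImplicit false
open CategoryTheory MonoidalCategory CartesianMonoidalCategory AlgebraicGeometry
universe u
open AlgGrp

namespace Groth.Agent.S18820

/-- Let k be a field, M a k-scheme (in the source a monoid k-scheme) acting on a k-scheme X through a :
M ×_k X → X, and z : Z → X a closed immersion which is surjective (a closed subscheme defined by an
ideal all of whose sections are nilpotent, e.g. the reduction of X), stable under the action: a_Z :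
M ×_k Z → Z satisfies (id_M × z) followed by a = a_Z followed by z. For an open subset U of X the
following are equivalent: (i) U is stable, i.e. a maps M ×_k U into U; (ii) U ∩ Z is stable, i.e.
a_Z maps M ×_k (U ∩ Z) into U ∩ Z. (The monoid axioms of the source play no role and are not
assumed.) -/
theorem result (k : Type u) [Field k]
    (M X Z : Over (Spec (CommRingCat.of k))) (a : M ⊗ X ⟶ X) (aZ : M ⊗ Z ⟶ Z) (z : Z ⟶ X)
    [IsClosedImmersion z.left] [Surjective z.left] (hz : (M ◁ z) ≫ a = aZ ≫ z) (U : X.left.Opens) :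
    (CartesianMonoidalCategory.snd M X).left ⁻¹ᵁ U ≤ a.left ⁻¹ᵁ U ↔
      (CartesianMonoidalCategory.snd M Z).left ⁻¹ᵁ (z.left ⁻¹ᵁ U) ≤ aZ.left ⁻¹ᵁ (z.left ⁻¹ᵁ U) := by
  have hsnd : (M ◁ z).left ≫ (CartesianMonoidalCategory.snd M X).left =
      (CartesianMonoidalCategory.snd M Z).left ≫ z.left := by
    rw [← Over.comp_left, ← Over.comp_left, CartesianMonoidalCategory.whiskerLeft_snd]
  have hact : (M ◁ z).left ≫ a.left = aZ.left ≫ z.left := by
    rw [← Over.comp_left, ← Over.comp_left, hz]
  have hsurj : Surjective (M ◁ z).left := by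
    rw [Over.whiskerLeft_left]
    have e1 : M.hom ≫ 𝟙 (Spec (CommRingCat.of k)) = 𝟙 M.left ≫ M.hom := by simp
    have e2 : Z.hom ≫ 𝟙 (Spec (CommRingCat.of k)) = z.left ≫ X.hom := by simp
    have : IsPullback (Limits.pullback.map M.hom Z.hom M.hom X.hom (𝟙 _) z.left (𝟙 _) e1 e2)
        (Limits.pullback.snd M.hom Z.hom) (Limits.pullback.snd M.hom X.hom) z.left := by
      refine IsPullback.of_right ?_ (Limits.pullback.lift_snd _ _ _)
        (IsPullback.of_hasPullback M.hom X.hom)
      have h1 : Limits.pullback.map M.hom Z.hom M.hom X.hom (𝟙 _) z.left (𝟙 _) e1 e2 ≫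
          Limits.pullback.fst M.hom X.hom = Limits.pullback.fst M.hom Z.hom := by
        rw [Limits.pullback.map, Limits.pullback.lift_fst, Category.comp_id]
      have h2 : z.left ≫ X.hom = Z.hom := Over.w z
      rw [h1, h2]
      exact IsPullback.of_hasPullback M.hom Z.hom
    exact MorphismProperty.of_isPullback this.flip ‹Surjective z.left›
  constructor
  · intro h p hp
    have h1 : (M ◁ z).left.base p ∈ (CartesianMonoidalCategory.snd M X).left ⁻¹ᵁ U := by
      show (CartesianMonoidalCategory.snd M X).left.base ((M ◁ z).left.base p) ∈ U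
      rw [← Scheme.Hom.comp_apply, hsnd]
      exact hp
    have h2 := h h1
    show z.left.base (aZ.left.base p) ∈ U
    rw [← Scheme.Hom.comp_apply, ← hact]
    exact h2
  · intro h p' hp'
    obtain ⟨p, rfl⟩ := hsurj.surj p'
    have h1 : p ∈ (CartesianMonoidalCategory.snd M Z).left ⁻¹ᵁ (z.left ⁻¹ᵁ U) := by
      show z.left.base ((CartesianMonoidalCategory.snd M Z).left.base p) ∈ U
      rw [← Scheme.Hom.comp_apply, ← hsnd]
      exact hp'
    have h2 := h h1
    show a.left.base ((M ◁ z).left.base p) ∈ U
    rw [← Scheme.Hom.comp_apply, hact]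
    exact h2

end Groth.Agent.S18820
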