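import Groth.Statements.S18821
import Mathlib

set_option autoImplicit false
universe u
open CategoryTheory MonoidalCategory CartesianMonoidalCategory MonObj AlgebraicGeometry
open AlgGrp

namespace Groth.Agent.S18821

open CategoryTheory.Limits

section helpers

variable {C : Type*} [Category C] [CartesianMonoidalCategory C] (M : C) [MonObj M]

/-- `(a, b) ↦ (a * b, b * a)` -/
def phi : M ⊗ M ⟶ M ⊗ M := lift μ[M] (lift (snd M M) (fst M M) ≫ μ[M])

/-- the point `(1, 1)` -/
def ee : 𝟙_ C ⟶ M ⊗ M := lift η[M] η[M]

lemma lift_phi {T : C} (a b : T ⟶ M) : lift a b ≫ phi M = lift (a * b) (b * a) := by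
  rw [phi, comp_lift, ← Category.assoc, comp_lift, lift_snd, lift_fst]
  rfl

lemma toUnit_ee (T : C) : toUnit T ≫ ee M = lift 1 1 := by
  simp [ee, Hom.one_def]

lemma mul_eq_one_of {T : C} [HasPullback (phi M) (ee M)] (g : T ⟶ pullback (phi M) (ee M)) :
    (g ≫ pullback.fst (phi M) (ee M) ≫ fst M M) * (g ≫ pullback.fst (phi M) (ee M) ≫ snd M M) = 1 ∧
    (g ≫ pullback.fst (phi M) (ee M) ≫ snd M M) * (g ≫ pullback.fst (phi M) (ee M) ≫ fst M M) = 1 := by
  have h1 : (g ≫ pullback.fst (phi M) (ee M)) ≫ phi M = toUnit T ≫ ee M := by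
    rw [Category.assoc, pullback.condition, ← Category.assoc]
    congr 1
    exact toUnit_unique _ _
  have h2 : g ≫ pullback.fst (phi M) (ee M) =
      lift (g ≫ pullback.fst (phi M) (ee M) ≫ fst M M) (g ≫ pullback.fst (phi M) (ee M) ≫ snd M M) := by
    apply CartesianMonoidalCategory.hom_ext <;> simp
  rw [h2, lift_phi, toUnit_ee] at h1
  constructor
  · have := congr($h1 ≫ fst M M)
    simpa using this
  · have := congr($h1 ≫ snd M M)
    simpa using this

end helpers

/-- Let k be a commutative ring and M a monoid k-scheme (a monoid object in k-schemes). Then the group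
k-functor of units T ↦ M(T)^× is representable by a k-scheme: there are a k-scheme G and a
monomorphism i : G → M such that, for every k-scheme T, a T-valued point of M factors through i if
and only if it is invertible in the monoid M(T). If moreover M is affine then G is affine. -/
theorem result (k : Type u) [CommRing k]
    (M : Over (Spec (CommRingCat.of k))) [MonObj M] :
    ∃ (G : Over (Spec (CommRingCat.of k))) (i : G ⟶ M), Mono i ∧
      (∀ (T : Over (Spec (CommRingCat.of k))) (m : T ⟶ M), (∃ g : T ⟶ G, g ≫ i = m) ↔ IsUnit m) ∧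
      (IsAffine M.left → IsAffine G.left) := by
  refine ⟨pullback (phi M) (ee M), pullback.fst (phi M) (ee M) ≫ fst M M, ?_, ?_, ?_⟩
  · constructor
    intro T g₁ g₂ h
    obtain ⟨h1a, h1b⟩ := mul_eq_one_of M g₁
    obtain ⟨h2a, h2b⟩ := mul_eq_one_of M g₂
    have ha : g₁ ≫ pullback.fst (phi M) (ee M) ≫ fst M M =
        g₂ ≫ pullback.fst (phi M) (ee M) ≫ fst M M := h
    have hb : g₁ ≫ pullback.fst (phi M) (ee M) ≫ snd M M =
        g₂ ≫ pullback.fst (phi M) (ee M) ≫ snd M M := by
      rw [← ha] at h2a
      exact left_inv_eq_right_inv h1b h2a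
    apply pullback.hom_ext
    · apply CartesianMonoidalCategory.hom_ext
      · simpa using ha
      · simpa using hb
    · exact toUnit_unique _ _
  · intro T m
    constructor
    · rintro ⟨g, rfl⟩
      obtain ⟨h1, h2⟩ := mul_eq_one_of M g
      exact ⟨⟨_, _, h1, h2⟩, rfl⟩
    · rintro ⟨u, rfl⟩
      refine ⟨pullback.lift (lift (u : T ⟶ M) ((u⁻¹ : (T ⟶ M)ˣ) : T ⟶ M)) (toUnit T) ?_, ?_⟩
      · rw [lift_phi, toUnit_ee]
        simp
      · rw [← Category.assoc, pullback.lift_fst, lift_fst]
  · intro hM
    have iso := PreservesPullback.iso (Over.forget (Spec (CommRingCat.of k))) (phi M) (ee M)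
    have : IsAffine ((Over.forget (Spec (CommRingCat.of k))).obj (M ⊗ M)) := by
      show IsAffine (pullback M.hom M.hom)
      infer_instance
    have : IsAffine ((Over.forget (Spec (CommRingCat.of k))).obj
        (𝟙_ (Over (Spec (CommRingCat.of k))))) := by
      show IsAffine (Spec (CommRingCat.of k))
      infer_instance
    exact IsAffine.of_isIso (Y := pullback ((Over.forget (Spec (CommRingCat.of k))).map (phi M))
      ((Over.forget (Spec (CommRingCat.of k))).map (ee M))) iso.hom

end Groth.Agent.S18821
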