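import Groth.Statements.S18822
import Mathlib.CategoryTheory.Sites.SubcanonicalOver
import Mathlib.AlgebraicGeometry.Sites.BigZariski

set_option autoImplicit false
universe u
open CategoryTheory MonoidalCategory CartesianMonoidalCategory MonObj AlgebraicGeometry Opposite
open Magnet

namespace Groth.Agent.S18822

/-- Let k be a commutative ring, M a monoid k-scheme and X a k-scheme with an action a of M. Then the
fixed-point subpresheaf X^M of X, whose T-valued points are the k-morphisms x : T → X such that g ·
(x ∘ t) = x ∘ t for every k-scheme T', every t : T' → T and every T'-valued point g of M, is a sheaf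
for the Zariski topology on k-schemes (the topology induced on schemes over Spec k). -/
theorem result (k : Type u) [CommRing k]
    (M X : Over (Spec (CommRingCat.of k))) [MonObj M] (a : Magnet.MonAct M X) :
    Presheaf.IsSheaf (Scheme.zariskiTopology.over (Spec (CommRingCat.of k))) (Magnet.MonAct.fixedPsh a) := by
  rw [isSheaf_iff_isSheaf_of_type]
  have hY : Presieve.IsSheaf (Scheme.zariskiTopology.over (Spec (CommRingCat.of k)))
      (yoneda.obj X) :=
    GrothendieckTopology.Subcanonical.isSheaf_of_isRepresentable _
  intro T R hR fam hfam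
  have hfam' : Presieve.FamilyOfElements.Compatible (P := yoneda.obj X) (R := R.arrows)
      (fun T' f hf => (fam f hf).1) := by
    intro Y₁ Y₂ Z g₁ g₂ f₁ f₂ h₁ h₂ hc
    have := hfam g₁ g₂ h₁ h₂ hc
    exact congrArg Subtype.val this
  obtain ⟨x, hx, hxu⟩ := hY R hR _ hfam'
  have hfix : ∀ (T' : Over (Spec (CommRingCat.of k))) (t : T' ⟶ T) (g : T' ⟶ M),
      lift g (t ≫ x) ≫ a.act = t ≫ x := by
    intro T' t g
    have hsep := (hY (R.pullback t)
      (GrothendieckTopology.pullback_stable _ t hR)).isSeparatedFor
    refine hsep.ext ?_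
    intro T'' u hu
    show u ≫ (lift g (t ≫ x) ≫ a.act) = u ≫ (t ≫ x)
    have hu' : R.arrows (u ≫ t) := hu
    have h1 : (u ≫ t) ≫ x = (fam (u ≫ t) hu').1 := hx (u ≫ t) hu'
    have h2 := (fam (u ≫ t) hu').2 T'' (𝟙 _) (u ≫ g)
    rw [Category.id_comp, ← h1] at h2
    rw [← Category.assoc, comp_lift, ← Category.assoc u t x]
    exact h2
  refine ⟨⟨x, hfix⟩, ?_, ?_⟩
  · intro T' f hf
    apply Subtype.ext
    exact hx f hf
  · intro y hy
    apply Subtype.ext
    apply hxu
    intro T' f hf
    exact congrArg Subtype.val (hy f hf)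

end Groth.Agent.S18822
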