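import Groth.Statements.S18823
import Mathlib
import Groth.Agent.H25.DomBC
import Groth.Agent.H91.UnitsDense
import Groth.Agent.H91.SchDom

set_option autoImplicit false
universe u
open CategoryTheory MonoidalCategory CartesianMonoidalCategory AlgebraicGeometry
open AlgGrp

namespace Groth.Agent.S18823

set_option linter.style.haveILetI false
set_option linter.unusedVariables false


/-- Let k be a field, X a separated k-scheme, M a k-scheme (in the source a monoid k-scheme) acting on X
through a : M ×_k X → X, and i : G → M a morphism of k-schemes which is a scheme-theoretically
dominant open immersion: no nonzero quasi-coherent ideal of O_M restricts to zero on G (for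
quasi-compact i this is the usual schematic density, O_M → i_*O_G injective; in the source G is the
group of units of M, open and schematically dense). For a k-scheme T and a T-valued point x of X, x
is fixed under M, i.e. a ∘ (id_M × x) = x ∘ pr_T on M ×_k T, if and only if x is fixed under G, i.e.
a ∘ (i × x) = x ∘ pr_T on G ×_k T. Thus the fixed-point subpresheaves X^M and X^G of X are equal.
(The published statement has no separatedness assumption on X and reduces to points landing in an
affine open; the step asserting that the equalizer of the two maps M ×_k T → X is closed uses that
the target is separated, so X is taken separated here, the case the printed argument establishes.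
The monoid structure and the action axioms play no role in that argument and are not assumed.) -/
theorem result (k : Type u) [Field k]
    (M G X : Over (Spec (CommRingCat.of k))) [IsSeparated X.hom] (a : M ⊗ X ⟶ X) (i : G ⟶ M)
    [IsOpenImmersion i.left] [IsSchemeTheoreticallyDominant i.left]
    (T : Over (Spec (CommRingCat.of k))) (x : T ⟶ X) :
    (M ◁ x) ≫ a = CartesianMonoidalCategory.snd M T ≫ x ↔
      (G ◁ x) ≫ (i ▷ X) ≫ a = CartesianMonoidalCategory.snd G T ≫ x := by
  constructor
  · intro h
    rw [← Category.assoc, whisker_exchange, Category.assoc, h, ← Category.assoc, whiskerRight_snd]
  · intro h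
    haveI : IsSchemeTheoreticallyDominant (i ▷ T).left := by
      letI : M.left.Over (Spec (CommRingCat.of k)) := ⟨M.hom⟩
      letI : T.left.Over (Spec (CommRingCat.of k)) := ⟨T.hom⟩
      exact Groth.Agent.H25.DomBC.dominant_of_isPullback i.left
        (Limits.pullback.fst G.hom T.hom) (i ▷ T).left
        (Groth.Agent.H91.UnitsDense.isPullback_whisker i T)
    apply Groth.Agent.H91.SchDom.ext_of_dominant (i ▷ T)
    rw [← Category.assoc, ← whisker_exchange, Category.assoc, h, ← Category.assoc,
      whiskerRight_snd]

end Groth.Agent.S18823
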