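import Groth.Statements.S18824
import Groth.Agent.H63.GrpFlatPt
import Groth.Agent.H63.EquivFlat
import Groth.Agent.H63.ActionTranslate

set_option autoImplicit false
universe u
open CategoryTheory MonoidalCategory CartesianMonoidalCategory MonObj AlgebraicGeometry
open AlgGrp

namespace Groth.Agent.S18824

/-- Let k be a field, G a locally algebraic group over k (a group k-scheme locally of finite type)
acting on a k-scheme X through a : G ×_k X → X, and U an open subset of X. Let G·U ⊆ X be the image
under a of G ×_k U (the preimage of U under the projection). Then G·U is open in X, contains U, is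
G-stable in the sense that a maps G ×_k (G·U) into G·U, and is the smallest such set: every G-stable
open subset of X containing U contains G·U. -/
theorem result (k : Type u) [Field k]
    (G X : Over (Spec (CommRingCat.of k))) [GrpObj G] [LocallyOfFiniteType G.hom] (a : AlgGrp.Action G X)
    (U : Set ↥X.left) (hU : IsOpen U) :
    IsOpen (a.act.left.base '' ((CartesianMonoidalCategory.snd G X).left.base ⁻¹' U)) ∧
      U ⊆ a.act.left.base '' ((CartesianMonoidalCategory.snd G X).left.base ⁻¹' U) ∧
      a.act.left.base '' ((CartesianMonoidalCategory.snd G X).left.base ⁻¹'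
          (a.act.left.base '' ((CartesianMonoidalCategory.snd G X).left.base ⁻¹' U))) ⊆
        a.act.left.base '' ((CartesianMonoidalCategory.snd G X).left.base ⁻¹' U) ∧
      ∀ W : Set ↥X.left, IsOpen W → U ⊆ W →
        a.act.left.base '' ((CartesianMonoidalCategory.snd G X).left.base ⁻¹' W) ⊆ W →
          a.act.left.base '' ((CartesianMonoidalCategory.snd G X).left.base ⁻¹' U) ⊆ W := by
  haveI : IsIntegral (Spec (CommRingCat.of k)) := inferInstance
  haveI : Subsingleton (Spec (CommRingCat.of k)) := inferInstanceAs (Subsingleton (PrimeSpectrum k))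
  haveI : Flat G.hom := inferInstance
  haveI : LocallyOfFinitePresentation G.hom := inferInstance
  have hUO : UniversallyOpen G.hom := inferInstance
  have SQ : IsPullback (fst G X).left a.act.left (toUnit G).left (toUnit X).left :=
    (Groth.Agent.H63.GrpFlatPt.sq_act a).map (Over.forget _)
  haveI : UniversallyOpen a.act.left :=
    MorphismProperty.of_isPullback (P := @UniversallyOpen) SQ hUO
  have hopen : IsOpenMap a.act.left.base := a.act.left.isOpenMap
  refine ⟨hopen _ (hU.preimage (snd G X).left.continuous), ?_, ?_, ?_⟩
  · intro x hx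
    refine ⟨(lift (toUnit X ≫ η[G]) (𝟙 X)).left.base x, ?_, ?_⟩
    · have e : lift (toUnit X ≫ η[G]) (𝟙 X) ≫ snd G X = 𝟙 X := lift_snd _ _
      have h := congrArg (fun t => t.left.base x) e
      simp only [Over.comp_left, Scheme.Hom.comp_base, TopCat.comp_app] at h
      change (snd G X).left.base _ ∈ U
      rw [h]
      exact hx
    · have e : lift (toUnit X ≫ η[G]) (𝟙 X) ≫ a.act = 𝟙 X :=
        Groth.Agent.H63.ActionTranslate.act_one a (𝟙 X)
      have h := congrArg (fun t => t.left.base x) e
      simp only [Over.comp_left, Scheme.Hom.comp_base, TopCat.comp_app] at h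
      exact h
  · rintro _ ⟨z, ⟨w, hw, hwz⟩, rfl⟩
    have SQ' : IsPullback (snd G (G ⊗ X)).left (G ◁ a.act).left a.act.left (snd G X).left :=
      (Groth.Agent.H63.EquivFlat.sq_snd' G a.act).map (Over.forget _)
    obtain ⟨t, ht1, ht2⟩ := Groth.Agent.H63.EquivFlat.exists_preimage_of_isPullback SQ' w z hwz
    refine ⟨((α_ G G X).inv ≫ (μ[G] ▷ X)).left.base t, ?_, ?_⟩
    · have e : ((α_ G G X).inv ≫ (μ[G] ▷ X)) ≫ snd G X = snd G (G ⊗ X) ≫ snd G X := by
        simp
      have h := congrArg (fun t' => t'.left.base t) e
      simp only [Over.comp_left, Scheme.Hom.comp_base, TopCat.comp_app] at h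
      change (snd G X).left.base _ ∈ U
      rw [Over.comp_left, Scheme.Hom.comp_base, TopCat.comp_app, h, ht1]
      exact hw
    · have e : ((α_ G G X).inv ≫ (μ[G] ▷ X)) ≫ a.act = (G ◁ a.act) ≫ a.act := by
        rw [Category.assoc, a.mul_act, Iso.inv_hom_id_assoc]
      have h := congrArg (fun t' => t'.left.base t) e
      simp only [Over.comp_left, Scheme.Hom.comp_base, TopCat.comp_app] at h
      rw [Over.comp_left, Scheme.Hom.comp_base, TopCat.comp_app, h, ht2]
  · intro W _ hUW hW
    refine subset_trans (Set.image_mono (Set.preimage_mono hUW)) hW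

end Groth.Agent.S18824
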