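import Groth.Statements.S18826
import Groth.Agent.H40.MaxOpen3

set_option autoImplicit false
universe u
open CategoryTheory MonoidalCategory CartesianMonoidalCategory MonObj AlgebraicGeometry
open AlgGrp

namespace Groth.Agent.S18826

/-- Let k be a field, G a locally algebraic group over k (a group k-scheme locally of finite type)
acting on k-schemes X and Y, and f : X → Y a G-equivariant k-morphism. Let P be a property of
morphisms of schemes which is local on the target for the Zariski topology, stable under base
change, and descends along flat surjective universally open morphisms (the published hypothesis is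
descent along fpqc morphisms; the printed argument descends only along the restriction G ×_k U → G·U
of the action, which is flat, surjective and universally open). Then there is a largest open subset
V of Y such that the restriction f⁻¹(V) → V of f has P, and this V is G-stable: the action G ×_k Y →
Y maps G ×_k V into V. -/
theorem result (k : Type u) [Field k]
    (G X Y : Over (Spec (CommRingCat.of k))) [GrpObj G] [LocallyOfFiniteType G.hom]
    (aX : AlgGrp.Action G X) (aY : AlgGrp.Action G Y) (f : X ⟶ Y) (hf : (G ◁ f) ≫ aY.act = aX.act ≫ f)
    (P : MorphismProperty Scheme.{u}) [IsZariskiLocalAtTarget P] [P.IsStableUnderBaseChange]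
    [P.DescendsAlong (@Flat ⊓ @Surjective ⊓ @UniversallyOpen)] :
    ∃ V : Y.left.Opens, P (f.left ∣_ V) ∧ (∀ V' : Y.left.Opens, P (f.left ∣_ V') → V' ≤ V) ∧
      (CartesianMonoidalCategory.snd G Y).left ⁻¹ᵁ V ≤ aY.act.left ⁻¹ᵁ V := by
  open Groth.Agent.H40.MaxOpen in
  obtain ⟨V, hV, hmax⟩ := exists_largest_open (P := P) f.left
  refine ⟨V, hV, hmax, ?_⟩
  have sqA : IsPullback (CartesianMonoidalCategory.snd G X).left (G ◁ f).left f.left
      (CartesianMonoidalCategory.snd G Y).left :=
    (sq_snd' (G := G) f).map (Over.forget _)
  have sqB : IsPullback aX.act.left (G ◁ f).left f.left aY.act.left :=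
    (sq_act aX aY f hf).map (Over.forget _)
  have sqC : IsPullback (CartesianMonoidalCategory.fst G Y).left aY.act.left
      (CartesianMonoidalCategory.toUnit G).left (CartesianMonoidalCategory.toUnit Y).left :=
    (sq_act_prod aY).map (Over.forget _)
  have hflat : Flat aY.act.left :=
    MorphismProperty.of_isPullback (P := @Flat) sqC (inferInstance : Flat G.hom)
  have hopen : UniversallyOpen aY.act.left :=
    MorphismProperty.of_isPullback (P := @UniversallyOpen) sqC
      (inferInstance : UniversallyOpen G.hom)
  intro ζ hζ
  exact mem_of_mem' sqA sqB V hV hmax ζ hζ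

end Groth.Agent.S18826
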