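import Groth.Statements.S18827
import Mathlib.LinearAlgebra.TensorProduct.RightExactness
import Mathlib.RingTheory.Flat.Basic
import Mathlib.RingTheory.Flat.FaithfullyFlat.Basic

set_option autoImplicit false
universe u v w
open TensorProduct
open HopfRep

namespace Groth.Agent.S18827


theorem mem_range_iff {k : Type u} [CommRing k] {C : Type v} [AddCommGroup C] [Module k C]
    {V : Type w} [AddCommGroup V] [Module k V] (S : Submodule k V) (t : V ⊗[k] C) :
    t ∈ LinearMap.range (S.subtype.rTensor C) ↔ S.mkQ.rTensor C t = 0 := by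
  rw [← LinearMap.mem_ker, rTensor_mkQ]

theorem map_isSubcomod {k : Type u} [CommRing k] {C : Type v} [AddCommGroup C] [Module k C] [Coalgebra k C]
    {V : Type w} [AddCommGroup V] [Module k V] (cV : HopfRep.Comod k C V)
    {V' : Type w} [AddCommGroup V'] [Module k V'] (cV' : HopfRep.Comod k C V')
    (f : V →ₗ[k] V') (hf : cV'.coact ∘ₗ f = f.rTensor C ∘ₗ cV.coact)
    (S : Submodule k V) (hS : @HopfRep.IsSubcomod k C _ _ _ _ V _ _ cV S) :
    @HopfRep.IsSubcomod k C _ _ _ _ V' _ _ cV' (S.map f) := by
  intro w hw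
  obtain ⟨s, hs, rfl⟩ := hw
  obtain ⟨x, hx⟩ := hS s hs
  refine ⟨(f.submoduleMap S).rTensor C x, ?_⟩
  have h1 : (S.map f).subtype ∘ₗ f.submoduleMap S = f ∘ₗ S.subtype := by
    apply LinearMap.ext
    intro y
    rfl
  have h2 : cV'.coact (f s) = f.rTensor C (cV.coact s) := by
    have := LinearMap.congr_fun hf s
    simpa using this
  change (S.map f).subtype.rTensor C ((f.submoduleMap S).rTensor C x) = cV'.coact (f s)
  rw [← LinearMap.comp_apply, ← LinearMap.rTensor_comp, h1, LinearMap.rTensor_comp, LinearMap.comp_apply, h2]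
  congr 1

theorem comap_isSubcomod {k : Type u} [Field k] {C : Type v} [AddCommGroup C] [Module k C] [Coalgebra k C]
    {V : Type w} [AddCommGroup V] [Module k V] (cV : HopfRep.Comod k C V)
    {V' : Type w} [AddCommGroup V'] [Module k V'] (cV' : HopfRep.Comod k C V')
    (f : V →ₗ[k] V') (hf : cV'.coact ∘ₗ f = f.rTensor C ∘ₗ cV.coact)
    (S : Submodule k V') (hS : @HopfRep.IsSubcomod k C _ _ _ _ V' _ _ cV' S) :
    @HopfRep.IsSubcomod k C _ _ _ _ V _ _ cV (S.comap f) := by
  intro v hv
  rw [mem_range_iff]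
  have hinj : Function.Injective ((S.comap f).mapQ S f le_rfl) := by
    rw [← LinearMap.ker_eq_bot, Submodule.ker_mapQ, Submodule.mkQ_map_self]
  have hinj2 : Function.Injective (((S.comap f).mapQ S f le_rfl).rTensor C) :=
    Module.Flat.rTensor_preserves_injective_linearMap _ hinj
  apply hinj2
  rw [map_zero, ← LinearMap.comp_apply, ← LinearMap.rTensor_comp]
  have h1 : (S.comap f).mapQ S f le_rfl ∘ₗ (S.comap f).mkQ = S.mkQ ∘ₗ f := by
    apply LinearMap.ext
    intro y
    rfl
  have h2 : cV'.coact (f v) = f.rTensor C (cV.coact v) := by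
    have := LinearMap.congr_fun hf v
    simpa using this
  rw [h1, LinearMap.rTensor_comp, LinearMap.comp_apply, ← h2]
  exact ComodSub.rTensor_mkQ_coact_eq_zero cV' S hS (f v) hv

/-- Let k be a field, C a k-coalgebra, V a right C-comodule which is semisimple (every subcomodule has a
complementary subcomodule, which over a field is the same as being the sum of its simple
subcomodules) and W a subcomodule of V. Then the subcomodule W with its induced structure and the
quotient comodule V/W are again semisimple. (The source states this for representations of an affine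
monoid scheme over k.) -/
theorem result (k : Type u) [Field k]
    (C : Type v) [AddCommGroup C] [Module k C] [Coalgebra k C]
    (V : Type w) [AddCommGroup V] [Module k V] [c : HopfRep.Comod k C V] (hV : HopfRep.IsSemisimpleComod k C V)
    (W : Submodule k V) (hW : HopfRep.IsSubcomod (k := k) (A := C) W) :
    @HopfRep.IsSemisimpleComod k C _ _ _ _ ↥W _ _ (ComodSub.Comod.restr c W hW) ∧
      @HopfRep.IsSemisimpleComod k C _ _ _ _ (V ⧸ W) _ _ (ComodSub.Comod.quot c W hW) := by
  refine ⟨?_, ?_⟩
  · intro U hU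
    have hU' := map_isSubcomod (ComodSub.Comod.restr c W hW) c W.subtype
      (ComodSub.isComodHom_subtype c W hW) U hU
    obtain ⟨U'', hU''sub, hcompl⟩ := hV _ hU'
    refine ⟨U''.comap W.subtype, comap_isSubcomod (ComodSub.Comod.restr c W hW) c W.subtype
      (ComodSub.isComodHom_subtype c W hW) U'' hU''sub, ?_, ?_⟩
    · rw [Submodule.disjoint_def]
      intro x hxU hxT
      have h1 : (x : V) ∈ U.map W.subtype := ⟨x, hxU, rfl⟩
      have h2 : (x : V) ∈ U'' := hxT
      have h3 : (x : V) = 0 := (Submodule.disjoint_def.mp hcompl.disjoint) _ h1 h2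
      exact Subtype.ext h3
    · rw [codisjoint_iff, eq_top_iff]
      intro x _
      have hx : (x : V) ∈ U.map W.subtype ⊔ U'' := by
        rw [codisjoint_iff.mp hcompl.codisjoint]; trivial
      obtain ⟨a, ha, b, hb, hab⟩ := Submodule.mem_sup.mp hx
      obtain ⟨u, hu, rfl⟩ := ha
      have hbW : b ∈ W := by
        have : b = (x : V) - (u : V) := by
          rw [← hab]; simp
        rw [this]
        exact W.sub_mem x.2 u.2
      refine Submodule.mem_sup.mpr ⟨u, hu, ⟨b, hbW⟩, hb, ?_⟩
      apply Subtype.ext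
      simpa using hab
  · intro U hU
    have hU' := comap_isSubcomod c (ComodSub.Comod.quot c W hW) W.mkQ
      (ComodSub.isComodHom_mkQ c W hW) U hU
    obtain ⟨U'', hU''sub, hcompl⟩ := hV _ hU'
    refine ⟨U''.map W.mkQ, map_isSubcomod c (ComodSub.Comod.quot c W hW) W.mkQ
      (ComodSub.isComodHom_mkQ c W hW) U'' hU''sub, ?_, ?_⟩
    · rw [Submodule.disjoint_def]
      intro q hqU hqT
      obtain ⟨b, hb, rfl⟩ := hqT
      have h1 : b ∈ U.comap W.mkQ := hqU
      have h3 : b = 0 := (Submodule.disjoint_def.mp hcompl.disjoint) _ h1 hb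
      rw [h3, map_zero]
    · rw [codisjoint_iff, eq_top_iff]
      intro q _
      obtain ⟨v, rfl⟩ := W.mkQ_surjective q
      have hx : v ∈ U.comap W.mkQ ⊔ U'' := by
        rw [codisjoint_iff.mp hcompl.codisjoint]; trivial
      obtain ⟨a, ha, b, hb, hab⟩ := Submodule.mem_sup.mp hx
      refine Submodule.mem_sup.mpr ⟨W.mkQ a, ha, W.mkQ b, ⟨b, hb, rfl⟩, ?_⟩
      rw [← map_add, hab]

end Groth.Agent.S18827
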