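import Groth.Statements.S18829
import Groth.Agent.H40.IntegralBC

set_option autoImplicit false
universe u
open scoped TensorProduct
open HopfRep

namespace Groth.Agent.S18829

/-- Let k be a field and A a finitely generated commutative Hopf algebra over k, the coordinate ring of
an affine algebraic group T. Suppose T is a torus: for some algebraically closed field extension K
of k the base change K ⊗_k A is isomorphic as a K-bialgebra to the group algebra over K of a free
abelian group ℤ^n (T_K is a split torus of rank n). Then T is linearly reductive in the sense that
every finite-dimensional A-comodule is semisimple. (The source's definition of a torus asks for such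
an isomorphism over every algebraically closed extension; one suffices for the printed argument. The
source's notion of a linearly reductive algebraic group also includes smoothness of T over k, which
this row does not assert.) -/
theorem result (k K A : Type u) [Field k] [Field K]
    [Algebra k K] [IsAlgClosed K] [CommRing A] [HopfAlgebra k A] [Algebra.FiniteType k A] (n : ℕ)
    (e : (K ⊗[k] A) ≃ₐc[K] MonoidAlgebra K (Multiplicative (Fin n → ℤ))) :
    HopfRep.IsLinearlyReductive k A := by
  have hB : Groth.Agent.H93.IsInt
      (Groth.Agent.H40.evOne (K := K) (G := Multiplicative (Fin n → ℤ))) :=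
    Groth.Agent.H40.isInt_evOne
  have hα' := Groth.Agent.H40.isInt_comp_bialgHom (e : (K ⊗[k] A) →ₐc[K] _) e.injective _ hB
  obtain ⟨r, hr⟩ := Groth.Agent.H40.exists_linear_retraction (k := k) K
  refine Groth.Agent.H40.isLinearlyReductive_of_isInt (Groth.Agent.H40.descFun r _)
    (Groth.Agent.H40.isInt_descFun r _ hα') ?_
  rw [Groth.Agent.H40.descFun_apply, ← Algebra.TensorProduct.one_def]
  have h1 : (e : (K ⊗[k] A) →ₐc[K] MonoidAlgebra K (Multiplicative (Fin n → ℤ))) 1 = 1 := map_one _
  rw [LinearMap.comp_apply]
  erw [h1]
  rw [Groth.Agent.H40.evOne_one, hr]

end Groth.Agent.S18829
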