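import Groth.Statements.S18830
import Mathlib

set_option autoImplicit false
set_option linter.style.haveILetI false
set_option linter.unusedSectionVars false
set_option linter.unusedVariables false
universe u
open CategoryTheory MonoidalCategory CartesianMonoidalCategory MonObj AlgebraicGeometry
open AlgGrp

namespace Groth.Agent.S18830

section Helpers

universe v₁ u₁

open CategoryTheory.Limits

section Abstract

variable {C : Type u₁} [Category.{v₁} C] [CartesianMonoidalCategory C]

/-- `(x, y) ↦ (x * y, y * x)`. -/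
noncomputable def phi (M : C) [MonObj M] : M ⊗ M ⟶ M ⊗ M :=
  lift μ[M] (lift (snd M M) (fst M M) ≫ μ[M])

theorem phi_eq {M : C} [MonObj M] {T : C} (q : T ⟶ M ⊗ M) :
    q ≫ phi M = lift ((q ≫ fst M M) * (q ≫ snd M M)) ((q ≫ snd M M) * (q ≫ fst M M)) := by
  apply CartesianMonoidalCategory.hom_ext
  · simp only [phi, Category.assoc, lift_fst, Hom.mul_def]
    congr 1
    apply CartesianMonoidalCategory.hom_ext <;> simp
  · simp only [phi, Category.assoc, lift_snd, Hom.mul_def]
    rw [← Category.assoc, comp_lift]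

theorem retract_aux {M G : C} [MonObj M] (i : G ⟶ M) [Mono i]
    (hi : ∀ (T : C) (m : T ⟶ M), (∃ g : T ⟶ G, g ≫ i = m) ↔ IsUnit m)
    (U : C) (p : U ⟶ M ⊗ M) (hp : p ≫ phi M = toUnit U ≫ lift η[M] η[M])
    (hU : ∀ (T : C) (q : T ⟶ M ⊗ M), q ≫ phi M = toUnit T ≫ lift η[M] η[M] →
      ∃ l : T ⟶ U, l ≫ p = q) :
    ∃ (a : G ⟶ U) (g : U ⟶ G), a ≫ g = 𝟙 G := by
  have h1 : IsUnit i := (hi G i).mp ⟨𝟙 G, Category.id_comp i⟩
  obtain ⟨j, hij, hji⟩ := isUnit_iff_exists.mp h1
  have hq : lift i j ≫ phi M = toUnit G ≫ lift η[M] η[M] := by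
    rw [phi_eq, lift_fst, lift_snd, hij, hji, Hom.one_def, comp_lift]
  obtain ⟨a, ha⟩ := hU G (lift i j) hq
  have h3 : lift ((p ≫ fst M M) * (p ≫ snd M M)) ((p ≫ snd M M) * (p ≫ fst M M)) =
      lift (1 : U ⟶ M) 1 := by
    rw [← phi_eq, hp, Hom.one_def, comp_lift]
  have h4 : (p ≫ fst M M) * (p ≫ snd M M) = 1 := by
    have := congrArg (· ≫ fst M M) h3
    simpa only [lift_fst] using this
  have h5 : (p ≫ snd M M) * (p ≫ fst M M) = 1 := by
    have := congrArg (· ≫ snd M M) h3
    simpa only [lift_snd] using this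
  have h2 : IsUnit (p ≫ fst M M) := isUnit_iff_exists.mpr ⟨p ≫ snd M M, h4, h5⟩
  obtain ⟨g, hg⟩ := (hi U (p ≫ fst M M)).mpr h2
  refine ⟨a, g, ?_⟩
  rw [← cancel_mono i, Category.assoc, hg, ← Category.assoc, ha, lift_fst, Category.id_comp]

end Abstract

theorem exists_pb {S : Scheme.{u}} {A B E : Over S} (φ : A ⟶ B) (e : E ⟶ B) :
    ∃ (U : Over S) (p : U ⟶ A) (s : U ⟶ E), p ≫ φ = s ≫ e ∧
      (∀ (T : Over S) (q : T ⟶ A) (t : T ⟶ E), q ≫ φ = t ≫ e → ∃ l : T ⟶ U, l ≫ p = q) ∧
      (LocallyOfFiniteType e.left → LocallyOfFiniteType A.hom → LocallyOfFiniteType U.hom) ∧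
      (QuasiCompact e.left → QuasiCompact A.hom → QuasiCompact U.hom) := by
  have hw : pullback.fst φ.left e.left ≫ A.hom = pullback.snd φ.left e.left ≫ E.hom := by
    rw [← Over.w φ, ← Category.assoc, pullback.condition, Category.assoc, Over.w e]
  refine ⟨Over.mk (pullback.fst φ.left e.left ≫ A.hom),
    Over.homMk (pullback.fst φ.left e.left) rfl,
    Over.homMk (pullback.snd φ.left e.left) hw.symm, ?_, ?_, ?_, ?_⟩
  · ext
    simp only [Over.comp_left, Over.homMk_left]
    exact pullback.condition
  · intro T q t h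
    have h' : q.left ≫ φ.left = t.left ≫ e.left := by
      rw [← Over.comp_left, h, Over.comp_left]
    refine ⟨Over.homMk (pullback.lift q.left t.left h') ?_, ?_⟩
    · simp only [Over.mk_hom]
      rw [pullback.lift_fst_assoc, Over.w]
    · ext
      simp only [Over.comp_left, Over.homMk_left, pullback.lift_fst]
  · intro h1 h2
    simp only [Over.mk_hom]
    infer_instance
  · intro h1 h2
    simp only [Over.mk_hom]
    infer_instance

theorem main {k : Type u} [Field k]
    (M G : Over (Spec (CommRingCat.of k))) [MonObj M] [LocallyOfFiniteType M.hom]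
    [QuasiCompact M.hom] (i : G ⟶ M) [Mono i]
    (hi : ∀ (T : Over (Spec (CommRingCat.of k))) (m : T ⟶ M),
      (∃ g : T ⟶ G, g ≫ i = m) ↔ IsUnit m) :
    LocallyOfFiniteType G.hom ∧ QuasiCompact G.hom := by
  have hMM1 : LocallyOfFiniteType (M ⊗ M).hom := by
    rw [Over.tensorObj_hom]; infer_instance
  have hMM2 : QuasiCompact (M ⊗ M).hom := by
    rw [Over.tensorObj_hom]; infer_instance
  obtain ⟨e, he⟩ : ∃ e : 𝟙_ (Over (Spec (CommRingCat.of k))) ⟶ M ⊗ M,
    e = lift η[M] η[M] := ⟨_, rfl⟩
  have he1 : LocallyOfFiniteType e.left := by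
    haveI : LocallyOfFiniteType (e.left ≫ (M ⊗ M).hom) := by
      rw [Over.w e, Over.tensorUnit_hom]
      exact inferInstanceAs (LocallyOfFiniteType (𝟙 (Spec (CommRingCat.of k))))
    exact locallyOfFiniteType_of_comp e.left (M ⊗ M).hom
  have he2 : QuasiCompact e.left := by
    haveI : Subsingleton ↥(𝟙_ (Over (Spec (CommRingCat.of k)))).left :=
      inferInstanceAs (Subsingleton (PrimeSpectrum k))
    exact ⟨fun V _ _ => Set.subsingleton_of_subsingleton.isCompact⟩
  obtain ⟨U, p, s, hps, hlift, hU1, hU2⟩ := exists_pb (phi M) e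
  have hU1' := hU1 he1 hMM1
  have hU2' := hU2 he2 hMM2
  have hs : s = toUnit U := toUnit_unique _ _
  obtain ⟨a, g, hag⟩ := retract_aux i hi U p (by rw [hps, hs, he])
    (fun T q hq => hlift T q (toUnit T) (by rw [hq, he]))
  have h1 : a.left ≫ g.left = 𝟙 G.left := by rw [← Over.comp_left, hag, Over.id_left]
  constructor
  · haveI : LocallyOfFiniteType (a.left ≫ g.left) := by rw [h1]; infer_instance
    haveI : LocallyOfFiniteType a.left := locallyOfFiniteType_of_comp a.left g.left
    rw [← Over.w a]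
    infer_instance
  · haveI : CompactSpace U.left :=
      @QuasiCompact.compactSpace_of_compactSpace U.left (Spec (CommRingCat.of k)) U.hom hU2'
        inferInstance
    have hsurj : Function.Surjective g.left := by
      intro x
      refine ⟨a.left x, ?_⟩
      rw [← Scheme.Hom.comp_apply, h1]
      rfl
    have hG : CompactSpace G.left := by
      constructor
      rw [← Set.range_eq_univ.mpr hsurj]
      exact isCompact_range g.left.continuous
    exact @quasiCompact_of_compactSpace G.left (Spec (CommRingCat.of k)) G.hom hG inferInstance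

end Helpers


/-- Let k be a field and M an algebraic monoid over k (a monoid k-scheme of finite type). Let i : G → M
be its group of units: a monomorphism of k-schemes through which a T-valued point of M factors if
and only if it is invertible in the monoid M(T). Then G is of finite type over k, i.e. the unit
group is an algebraic group. -/
theorem result (k : Type u) [Field k]
    (M G : Over (Spec (CommRingCat.of k))) [MonObj M] [LocallyOfFiniteType M.hom] [QuasiCompact M.hom]
    (i : G ⟶ M) [Mono i]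
    (hi : ∀ (T : Over (Spec (CommRingCat.of k))) (m : T ⟶ M), (∃ g : T ⟶ G, g ≫ i = m) ↔ IsUnit m) :
    LocallyOfFiniteType G.hom ∧ QuasiCompact G.hom := by
  exact main M G i hi

end Groth.Agent.S18830
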