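import Groth.Statements.S18832
import Groth.Agent.H61.JetsLoc

set_option autoImplicit false
universe u
open Polynomial
open DefT IsLocalRing T1Lift Groth.Agent.H61.EssFT Groth.Agent.H61.Jets

namespace Groth.Agent.S18832

/-- Let k be an algebraically closed field of characteristic zero, A a finitely generated k-algebra and
m a maximal ideal of A. Then A_m is a regular local ring (the pointed scheme (Spec A, m) is smooth
at m) if and only if, for every l ≥ 1, every k-algebra homomorphism φ : A → k[X]/(X^l) mapping m
into the nilpotent elements extends to a k-algebra homomorphism ψ : A → k[X]/(X^(l+1)) reducing to φ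
modulo X^l. Only jets along Spec k[X]/(X^l) are tested, not all local Artinian algebras. -/
theorem result (k : Type u) [Field k] [IsAlgClosed k] [CharZero k]
    (A : Type u) [CommRing A] [Algebra k A] [Algebra.FiniteType k A]
    (m : Ideal A) [m.IsMaximal] :
    IsRegularLocalRing (Localization.AtPrime m) ↔
      ∀ (l : ℕ), 1 ≤ l →
        ∀ (φ : A →ₐ[k] (k[X] ⧸ Ideal.span {(X : k[X]) ^ l})),
          (∀ a ∈ m, IsNilpotent (φ a)) →
          ∃ ψ : A →ₐ[k] (k[X] ⧸ Ideal.span {(X : k[X]) ^ (l + 1)}),
            (Ideal.Quotient.factorₐ k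
                (Ideal.span_singleton_le_span_singleton.mpr (pow_dvd_pow (X : k[X]) (Nat.le_succ l)))).comp ψ = φ := by
  classical
  have hk := exists_sub_mem_of_finiteType (k := k) m
  have hresR := resk_loc m hk
  haveI : Algebra.EssFiniteType A (Localization.AtPrime m) :=
    Algebra.EssFiniteType.of_isLocalization _ m.primeCompl
  haveI : Algebra.EssFiniteType k (Localization.AtPrime m) :=
    Algebra.EssFiniteType.comp k A _
  obtain ⟨ι, hι, p, hp, φ₀, hφ₀⟩ := exists_pres k (Localization.AtPrime m)
  haveI := hι
  haveI := hp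
  constructor
  · intro hreg l hl φ hφnil
    haveI := hreg
    obtain ⟨n, rfl⟩ : ∃ n, l = n + 1 := ⟨l - 1, by omega⟩
    obtain ⟨φ', hφ'⟩ := exists_extend m (B := Tr k n) φ hφnil
    have hLA := liftAll_of_regular p φ₀ hφ₀ hresR
    obtain ⟨g, hg⟩ := hLA (Tr k (n + 1)) (Tr k n) (trn k (Nat.le_succ n))
      (trn_surjective k _) φ'
    refine ⟨g.comp (IsScalarTower.toAlgHom k A _), ?_⟩
    refine AlgHom.ext fun a => ?_
    have h1 := AlgHom.congr_fun hg (algebraMap A (Localization.AtPrime m) a)
    have h2 := AlgHom.congr_fun hφ' a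
    exact (factor_eq_trn k n (Ideal.span_singleton_le_span_singleton.mpr
      (pow_dvd_pow (X : k[X]) (Nat.le_succ (n + 1))))
      (g (algebraMap A (Localization.AtPrime m) a))).trans (h1.trans h2)
  · intro HA
    obtain ⟨P', _, hP'reg, _, ψ, θ, hψ, hker, hθ, hψθ⟩ := exists_pres_sq' φ₀ hφ₀
    haveI := hP'reg
    have hresP' := residue_surj_of_surjective ψ hψ hresR
    have hLP' : LiftAll k P' := liftAll_of_regular p θ hθ hresP'
    have hJ : JetsLift k (Localization.AtPrime m) := by
      intro n φ
      have hnil : ∀ a ∈ m, IsNilpotent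
          ((φ.comp (IsScalarTower.toAlgHom k A (Localization.AtPrime m))) a) := by
        intro a ha
        have h1 : algebraMap A (Localization.AtPrime m) a ∈
            maximalIdeal (Localization.AtPrime m) :=
          (IsLocalization.AtPrime.to_map_mem_maximal_iff (Localization.AtPrime m) m _).mpr ha
        have h2 := map_mem_maximalIdeal (resk_Tr k n) φ h1
        obtain ⟨b, hb⟩ := mem_maximalIdeal_Tr k n _ h2
        change IsNilpotent (φ (algebraMap A (Localization.AtPrime m) a))
        rw [hb]
        exact (Commute.all _ _).isNilpotent_mul_right ⟨n + 1, t_pow k n⟩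
      obtain ⟨ψA, hψA'⟩ : ∃ ψA : A →ₐ[k] Tr k (n + 1), ∀ a, trn k (Nat.le_succ n) (ψA a) =
          φ (algebraMap A (Localization.AtPrime m) a) := by
        obtain ⟨ψA, hψA⟩ := HA (n + 1) (by omega)
          (φ.comp (IsScalarTower.toAlgHom k A (Localization.AtPrime m))) hnil
        refine ⟨ψA, fun a => ?_⟩
        have := AlgHom.congr_fun hψA a
        exact (factor_eq_trn k n (Ideal.span_singleton_le_span_singleton.mpr
          (pow_dvd_pow (X : k[X]) (Nat.le_succ (n + 1)))) (ψA a)).symm.trans this
      have hnil' : ∀ a ∈ m, IsNilpotent (ψA a) := by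
        intro a ha
        have h1 : (ψA a : Tr k (n + 1)) ∈ maximalIdeal (Tr k (n + 1)) := by
          by_contra hcon
          have hu : IsUnit (ψA a : Tr k (n + 1)) := IsLocalRing.notMem_maximalIdeal.mp hcon
          have hu' := hu.map (trn k (Nat.le_succ n))
          rw [hψA'] at hu'
          exact (hnil a ha).not_isUnit hu'
        obtain ⟨b, hb⟩ := mem_maximalIdeal_Tr k (n + 1) _ h1
        rw [hb]
        exact (Commute.all _ _).isNilpotent_mul_right ⟨n + 1 + 1, t_pow k (n + 1)⟩
      obtain ⟨φ', hφ'⟩ := exists_extend m (B := Tr k (n + 1)) ψA hnil'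
      refine ⟨φ', ?_⟩
      apply loc_algHom_ext m
      refine AlgHom.ext fun a => ?_
      have := AlgHom.congr_fun hφ' a
      simp only [AlgHom.comp_apply] at this ⊢
      rw [this]
      exact hψA' a
    have hbot := ker_eq_bot_of_jets hresP' ψ hψ hker hLP' hJ
    have hinj : Function.Injective ψ := (RingHom.injective_iff_ker_eq_bot _).2 hbot
    exact IsRegularLocalRing.of_ringEquiv (RingEquiv.ofBijective ψ ⟨hinj, hψ⟩)

end Groth.Agent.S18832
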