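import Groth.Statements.S18859
import Groth.Agent.H40.FpqcInv

set_option autoImplicit false
universe u
open CategoryTheory MonoidalCategory CartesianMonoidalCategory MonObj GrpObj AlgebraicGeometry
open NonAbH1

namespace Groth.Agent.S18859

/-- Let S be a scheme, G a group scheme over S and X → S a G-torsor for the fpqc topology (a
pseudo-torsor under G acquiring sections on the members of some fpqc covering family of S). Then the
functions on S are the G-invariant functions on X: the ring map Γ(S, O_S) → Γ(X, O_X) is injective,
and a global function s on X lies in its image if and only if the pullbacks of s to G ×_S X along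
the action morphism and along the second projection coincide. (The source works over a scheme of
finite type over a field with G the base change of an affine group scheme over that field and states
the equality O_S = (O_X)^G as sheaves on S; applied to the restriction of the torsor over each open
of S, the present global form is that equality.) -/
theorem result {S : Scheme.{u}} {G X : Over S}
    [GrpObj G] (a : AlgGrp.Action G X) (ha : NonAbH1.IsTorsorFor Scheme.fpqcPrecoverage a) :
    Function.Injective X.hom.appTop.hom ∧
      ∀ s : Γ(X.left, ⊤), s ∈ Set.range X.hom.appTop.hom ↔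
        a.act.left.appTop.hom s = (CartesianMonoidalCategory.snd G X).left.appTop.hom s := by
  open Groth.Agent.H40.FpqcFam in
  refine ⟨fun r r' h => ?_, fun s => ⟨?_, fun h => ?_⟩⟩
  · apply toA1_injective
    apply hom_ext_of_torsor ha.2
    rw [comp_toA1, comp_toA1, h]
  · rintro ⟨r, rfl⟩
    have e : a.act.left ≫ X.hom = (CartesianMonoidalCategory.snd G X).left ≫ X.hom := by
      rw [Over.w, Over.w]
    have h1 : a.act.left.appTop.hom (X.hom.appTop.hom r) =
        (a.act.left ≫ X.hom).appTop.hom r := by
      rw [Scheme.Hom.comp_appTop]; rfl
    have h2 : (CartesianMonoidalCategory.snd G X).left.appTop.hom (X.hom.appTop.hom r) =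
        ((CartesianMonoidalCategory.snd G X).left ≫ X.hom).appTop.hom r := by
      rw [Scheme.Hom.comp_appTop]; rfl
    rw [h1, h2, e]
  · have hφ : a.act.left ≫ toA1 s = (CartesianMonoidalCategory.snd G X).left ≫ toA1 s := by
      rw [comp_toA1, comp_toA1, h]
    obtain ⟨ψ, hψ⟩ := exists_desc_of_invariant ha (toA1 s) hφ
    refine ⟨fn ψ, ?_⟩
    rw [← fn_comp, hψ, fn_toA1]

end Groth.Agent.S18859
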