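import Groth.Statements.S7500
import Mathlib
import Groth.Agent.H37.GrpdCalc
open Groth.Agent.H37.GrpdCalc

set_option autoImplicit false
universe u
open CategoryTheory CategoryTheory.Limits AlgebraicGeometry
open Grpd

namespace Groth.Agent.S7500

/-- Let (U, R, s, t, c) be a groupoid scheme over S and G -> U its stabilizer group scheme (the base
change of j = (t, s) along the diagonal). The action of G on R by composition, base changed to G_0 =
G x_(U, pr_0) (U x_S U), makes R a pseudo G_0-torsor over U x_S U. Concretely: let α : G x_(U, t) R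
-> R x_(s, U, t) R be the morphism with components (γ viewed in R, r) and β : G x_(U, t) R -> R
x_(j, U x_S U, j) R the morphism with components (c ∘ α, r); then β is an isomorphism. (A groupoid
scheme carries U, R, s, t, c, e, i over S with the groupoid axioms on T-points; c is defined on the
fibre product of s and t and sends a pair (a, b) with s(a) = t(b) to a composed with b.) -/
theorem result (S : Scheme.{u}) (G : Grpd.GroupoidScheme S) (α : pullback G.stabilizerToU G.t ⟶ pullback G.s G.t) (hα₁ : α ≫ pullback.fst G.s G.t = pullback.fst G.stabilizerToU G.t ≫ pullback.fst G.j G.diag) (hα₂ : α ≫ pullback.snd G.s G.t = pullback.snd G.stabilizerToU G.t) (β : pullback G.stabilizerToU G.t ⟶ pullback G.j G.j) (hβ₁ : β ≫ pullback.fst G.j G.j = α ≫ G.c) (hβ₂ : β ≫ pullback.snd G.j G.j = pullback.snd G.stabilizerToU G.t) : IsIso β := by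
  -- notation
  have hα₁' : α ≫ pullback.fst G.s G.t = pullback.fst G.stabilizerToU G.t ≫ stabι G := hα₁
  have hst : (pullback.fst G.stabilizerToU G.t ≫ stabι G) ≫ G.s =
      pullback.snd G.stabilizerToU G.t ≫ G.t := (conjMap_aux G).1
  have hαc : α ≫ G.c = mul G (pullback.fst G.stabilizerToU G.t ≫ stabι G)
      (pullback.snd G.stabilizerToU G.t) := by
    rw [comp_c, hα₁', hα₂]
  -- the two points of `R ×_j R`
  have hj := pullback.condition (f := G.j) (g := G.j)
  have hjt : pullback.fst G.j G.j ≫ G.t = pullback.snd G.j G.j ≫ G.t := by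
    have h2 := congrArg (· ≫ pullback.fst G.pU G.pU) hj
    simp only [Category.assoc, j_fst] at h2
    exact h2
  have hjs : pullback.fst G.j G.j ≫ G.s = pullback.snd G.j G.j ≫ G.s := by
    have h2 := congrArg (· ≫ pullback.snd G.pU G.pU) hj
    simp only [Category.assoc, j_snd] at h2
    exact h2
  have hcomp : pullback.fst G.j G.j ≫ G.s = (pullback.snd G.j G.j ≫ G.i) ≫ G.t := by
    rw [Category.assoc, G.i_t, hjs]
  have hγs : mul G (pullback.fst G.j G.j) (pullback.snd G.j G.j ≫ G.i) ≫ G.s =
      pullback.snd G.j G.j ≫ G.t := by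
    rw [mul_s hcomp, Category.assoc, G.i_s]
  have hγt : mul G (pullback.fst G.j G.j) (pullback.snd G.j G.j ≫ G.i) ≫ G.t =
      pullback.snd G.j G.j ≫ G.t := by
    rw [mul_t hcomp, hjt]
  have hγ : mul G (pullback.fst G.j G.j) (pullback.snd G.j G.j ≫ G.i) ≫ G.s =
      mul G (pullback.fst G.j G.j) (pullback.snd G.j G.j ≫ G.i) ≫ G.t := by rw [hγs, hγt]
  have hw : stabLift (mul G (pullback.fst G.j G.j) (pullback.snd G.j G.j ≫ G.i)) hγ ≫
      G.stabilizerToU = pullback.snd G.j G.j ≫ G.t := by
    rw [stabLift_toU, hγs]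
  refine ⟨⟨pullback.lift (stabLift (mul G (pullback.fst G.j G.j) (pullback.snd G.j G.j ≫ G.i)) hγ)
    (pullback.snd G.j G.j) hw, ?_, ?_⟩⟩
  · apply pullback.hom_ext
    · rw [Category.assoc, pullback.lift_fst, Category.id_comp]
      apply stab_hom_ext
      rw [Category.assoc, stabLift_ι, comp_mul β hcomp, hβ₁, ← Category.assoc, hβ₂, hαc]
      exact mul_mul_i hst rfl
    · rw [Category.assoc, pullback.lift_snd, Category.id_comp, hβ₂]
  · apply pullback.hom_ext
    · rw [Category.assoc, Category.id_comp, hβ₁, ← Category.assoc, comp_c, Category.assoc,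
        Category.assoc, hα₁', hα₂, pullback.lift_snd, ← Category.assoc, pullback.lift_fst,
        stabLift_ι]
      exact mul_i_mul hjs rfl
    · rw [Category.assoc, Category.id_comp, hβ₂, pullback.lift_snd]

end Groth.Agent.S7500
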