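import Groth.Statements.S1886
import Mathlib
import Groth.Agent.H37.GrpdCalc2
import Groth.Agent.S7500
open Groth.Agent.H37.GrpdCalc

set_option autoImplicit false
universe u
open CategoryTheory CategoryTheory.Limits AlgebraicGeometry
open Grpd

namespace Groth.Agent.S1886

/-- Let (U, R, s, t, c) be a groupoid scheme over S with stabilizer group scheme G → U and identity
section e : U → G. Then j = (t, s) : R → U ×_S U is separated iff G → U is separated iff e is a
closed immersion; and j is quasi-separated iff G → U is quasi-separated iff e is quasi-compact. (A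
groupoid scheme carries U, R, s, t, c, e, i over S with the groupoid axioms on T-points; 'finite
locally free' is finite, flat and locally of finite presentation; C ⊂ Γ(U) is the ring of functions
a with s♯(a) = t♯(a) and M = Spec C.) -/
theorem result (S : Scheme.{u}) (G : Grpd.GroupoidScheme S) : ((IsSeparated G.j ↔ IsSeparated G.stabilizerToU) ∧ (IsSeparated G.stabilizerToU ↔ IsClosedImmersion G.eStab)) ∧ ((QuasiSeparated G.j ↔ QuasiSeparated G.stabilizerToU) ∧ (QuasiSeparated G.stabilizerToU ↔ QuasiCompact G.eStab)) := by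
  -- the identity section
  have he : G.eStab ≫ G.stabilizerToU = 𝟙 G.U := pullback.lift_snd _ _ _
  have heι : G.eStab ≫ stabι G = G.e := pullback.lift_fst _ _ _
  -- `ε = (e t, id) : R ⟶ G ×_{U,t} R`
  have hεw : (G.t ≫ G.eStab) ≫ G.stabilizerToU = 𝟙 G.R ≫ G.t := by
    rw [Category.assoc, he, Category.comp_id, Category.id_comp]
  obtain ⟨ε, hε1, hε2⟩ : ∃ ε : G.R ⟶ pullback G.stabilizerToU G.t,
      ε ≫ pullback.fst G.stabilizerToU G.t = G.t ≫ G.eStab ∧
      ε ≫ pullback.snd G.stabilizerToU G.t = 𝟙 G.R :=
    ⟨pullback.lift _ _ hεw, pullback.lift_fst _ _ _, pullback.lift_snd _ _ _⟩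
  have sqε : IsPullback ε G.t (pullback.fst G.stabilizerToU G.t) G.eStab := by
    refine IsPullback.of_right ?_ hε1 (IsPullback.of_hasPullback G.stabilizerToU G.t).flip
    rw [hε2, he]
    exact IsPullback.of_id_fst
  -- `α` and `β`
  obtain ⟨α, hα₁, hα₂⟩ : ∃ α : pullback G.stabilizerToU G.t ⟶ pullback G.s G.t,
      α ≫ pullback.fst G.s G.t =
        pullback.fst G.stabilizerToU G.t ≫ pullback.fst G.j G.diag ∧
      α ≫ pullback.snd G.s G.t = pullback.snd G.stabilizerToU G.t :=
    ⟨pullback.lift (pullback.fst G.stabilizerToU G.t ≫ stabι G) _ (conjMap_aux G).1,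
      pullback.lift_fst _ _ _, pullback.lift_snd _ _ _⟩
  have hβw : (α ≫ G.c) ≫ G.j = pullback.snd G.stabilizerToU G.t ≫ G.j := by
    apply pullback.hom_ext
    · simp only [Category.assoc, j_fst]
      rw [c_t, ← Category.assoc, hα₁]
      exact (conjMap_aux G).2
    · simp only [Category.assoc, j_snd]
      rw [c_s, ← Category.assoc, hα₂]
  obtain ⟨β, hβ₁, hβ₂⟩ : ∃ β : pullback G.stabilizerToU G.t ⟶ pullback G.j G.j,
      β ≫ pullback.fst G.j G.j = α ≫ G.c ∧
      β ≫ pullback.snd G.j G.j = pullback.snd G.stabilizerToU G.t :=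
    ⟨pullback.lift _ _ hβw, pullback.lift_fst _ _ _, pullback.lift_snd _ _ _⟩
  haveI hβ : IsIso β := Groth.Agent.S7500.result S G α hα₁ hα₂ β hβ₁ hβ₂
  have hΔ : pullback.diagonal G.j = ε ≫ β := by
    apply pullback.hom_ext
    · rw [pullback.diagonal_fst, Category.assoc, hβ₁, ← Category.assoc, comp_c, Category.assoc,
        Category.assoc, hα₁, hα₂, hε2, ← Category.assoc, hε1]
      have h3 : (G.t ≫ G.eStab) ≫ pullback.fst G.j G.diag = G.t ≫ G.e := by
        rw [Category.assoc]; exact congrArg (G.t ≫ ·) heι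
      rw [h3]
      exact (e_mul (Category.id_comp _).symm).symm
    · rw [pullback.diagonal_snd, Category.assoc, hβ₂, hε2]
  have hstab : G.stabilizerToU = pullback.snd G.j G.diag := rfl
  have h12 : IsSeparated G.j → IsSeparated G.stabilizerToU := by
    intro h; rw [hstab]; exact MorphismProperty.pullback_snd (P := @IsSeparated) G.j G.diag h
  have h23 : IsSeparated G.stabilizerToU → IsClosedImmersion G.eStab := by
    intro h
    exact MorphismProperty.of_postcomp (W := @IsClosedImmersion) (W' := @IsSeparated) G.eStab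
      G.stabilizerToU h (by rw [he]; infer_instance)
  have h31 : IsClosedImmersion G.eStab → IsSeparated G.j := by
    intro h
    haveI : IsClosedImmersion ε :=
      MorphismProperty.of_isPullback (P := @IsClosedImmersion) sqε.flip h
    exact ⟨by rw [hΔ]; infer_instance⟩
  have q12 : QuasiSeparated G.j → QuasiSeparated G.stabilizerToU := by
    intro h; rw [hstab]; exact MorphismProperty.pullback_snd (P := @QuasiSeparated) G.j G.diag h
  have q23 : QuasiSeparated G.stabilizerToU → QuasiCompact G.eStab := by
    intro h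
    exact MorphismProperty.of_postcomp (W := @QuasiCompact) (W' := @QuasiSeparated) G.eStab
      G.stabilizerToU h (by rw [he]; infer_instance)
  have q31 : QuasiCompact G.eStab → QuasiSeparated G.j := by
    intro h
    haveI : QuasiCompact ε :=
      MorphismProperty.of_isPullback (P := @QuasiCompact) sqε.flip h
    exact ⟨by rw [hΔ]; infer_instance⟩
  exact ⟨⟨⟨h12, fun h => h31 (h23 h)⟩, ⟨h23, fun h => h12 (h31 h)⟩⟩,
    ⟨⟨q12, fun h => q31 (q23 h)⟩, ⟨q23, fun h => q12 (q31 h)⟩⟩⟩

end Groth.Agent.S1886
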