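import Groth.Statements.S18861
-- import your own Groth.Agent.* helpers here

set_option autoImplicit false
universe u
open CategoryTheory MonoidalCategory CartesianMonoidalCategory MonObj GrpObj AlgebraicGeometry
open AlgGrp

namespace Groth.Agent.S18861

section
variable {C : Type*} [Category C] [CartesianMonoidalCategory C] {G X : C} [GrpObj G]
  (act : G ⊗ X ⟶ X) (one_act : (η[G] ▷ X) ≫ act = (λ_ X).hom)
  (mul_act : (μ[G] ▷ X) ≫ act = (α_ G G X).hom ≫ (G ◁ act) ≫ act)

include mul_act in
lemma act_act {T : C} (p q : T ⟶ G) (x : T ⟶ X) :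
    lift p (lift q x ≫ act) ≫ act = lift (lift p q ≫ μ[G]) x ≫ act := by
  have h1 : lift (lift p q ≫ μ[G]) x = lift (lift p q) x ≫ (μ[G] ▷ X) := by
    rw [lift_whiskerRight]
  rw [h1, Category.assoc, mul_act, lift_lift_associator_hom_assoc, lift_whiskerLeft_assoc]

include one_act in
lemma one_act' {T : C} (x : T ⟶ X) :
    lift (toUnit T ≫ η[G]) x ≫ act = x := by
  have h1 : lift (toUnit T ≫ η[G]) x = lift (toUnit T) x ≫ (η[G] ▷ X) := by
    rw [lift_whiskerRight]
  rw [h1, Category.assoc, one_act, leftUnitor_hom, lift_snd]

include one_act mul_act in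
lemma inv_act_act : lift (fst G X ≫ ι[G]) act ≫ act = snd G X := by
  have h0 := act_act act mul_act (fst G X ≫ ι[G]) (fst G X) (snd G X)
  rw [lift_fst_snd, Category.id_comp] at h0
  rw [h0]
  have h2 : lift (fst G X ≫ ι[G]) (fst G X) ≫ μ[G] = toUnit _ ≫ η[G] := by
    have : lift (fst G X ≫ ι[G]) (fst G X) = fst G X ≫ lift ι[G] (𝟙 G) := by
      rw [comp_lift, Category.comp_id]
    rw [this, Category.assoc, GrpObj.left_inv, ← Category.assoc]
    congr 1
    exact toUnit_unique _ _
  rw [h2, one_act' act one_act]

include one_act mul_act in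
lemma act_inv_act : lift (fst G X) (lift (fst G X ≫ ι[G]) (snd G X) ≫ act) ≫ act = snd G X := by
  rw [act_act act mul_act]
  have h2 : lift (fst G X) (fst G X ≫ ι[G]) ≫ μ[G] = toUnit _ ≫ η[G] := by
    have : lift (fst G X) (fst G X ≫ ι[G]) = fst G X ≫ lift (𝟙 G) ι[G] := by
      rw [comp_lift, Category.comp_id]
    rw [this, Category.assoc, GrpObj.right_inv, ← Category.assoc]
    congr 1
    exact toUnit_unique _ _
  rw [h2, one_act' act one_act]

/-- the shear map -/
noncomputable def shear : G ⊗ X ≅ G ⊗ X where
  hom := lift (fst G X) act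
  inv := lift (fst G X) (lift (fst G X ≫ ι[G]) (snd G X) ≫ act)
  hom_inv_id := by
    apply CartesianMonoidalCategory.hom_ext
    · simp
    · rw [Category.assoc, lift_snd, Category.id_comp, ← Category.assoc, comp_lift, ← Category.assoc, lift_fst, lift_snd]
      exact inv_act_act act one_act mul_act
  inv_hom_id := by
    apply CartesianMonoidalCategory.hom_ext
    · simp
    · rw [Category.assoc, lift_snd, Category.id_comp]
      exact act_inv_act act one_act mul_act

lemma shear_hom_snd : (shear act one_act mul_act).hom ≫ snd G X = act := by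
  simp [shear]

end

theorem result' {S : Scheme.{u}} {G X : Over S} [GrpObj G]
    (a : AlgGrp.Action G X) (P : MorphismProperty Scheme.{u}) [P.IsStableUnderBaseChange] (h : P G.hom) : P a.act.left := by
  obtain ⟨e, he⟩ : ∃ e : (G ⊗ X).left ≅ (G ⊗ X).left, e.hom = (shear a.act a.one_act a.mul_act).hom.left :=
    ⟨⟨(shear a.act a.one_act a.mul_act).hom.left, (shear a.act a.one_act a.mul_act).inv.left,
      by rw [← Over.comp_left, Iso.hom_inv_id]; rfl,
      by rw [← Over.comp_left, Iso.inv_hom_id]; rfl⟩, rfl⟩
  have h1 : a.act.left = e.hom ≫ (snd G X).left := by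
    have := congrArg Over.Hom.left (shear_hom_snd a.act a.one_act a.mul_act)
    rw [he]
    exact this.symm
  rw [h1]
  refine (P.cancel_left_of_respectsIso e.hom _).mpr ?_
  exact P.pullback_snd _ _ h


/-- Let S be a scheme and G a group scheme over S acting on an S-scheme X, with action morphism G ×_S X
→ X. If G → S is surjective, resp. flat, resp. affine, resp. proper, resp. finite, resp. smooth,
then so is the action morphism. (The source works over a field, where G → S is automatically
faithfully flat, with G and X of finite type, and concludes that the action morphism is faithfully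
flat, and smooth, affine, proper or finite when G is; the base and the finiteness conditions play no
role.) -/
theorem result {S : Scheme.{u}} {G X : Over S} [GrpObj G]
    (a : AlgGrp.Action G X) :
    (Surjective G.hom → Surjective a.act.left) ∧ (Flat G.hom → Flat a.act.left) ∧
      (IsAffineHom G.hom → IsAffineHom a.act.left) ∧ (IsProper G.hom → IsProper a.act.left) ∧
      (IsFinite G.hom → IsFinite a.act.left) ∧ (Smooth G.hom → Smooth a.act.left) := by
  exact ⟨result' a @Surjective, result' a @Flat, result' a @IsAffineHom, result' a @IsProper,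
    result' a @IsFinite, result' a @Smooth⟩

end Groth.Agent.S18861
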