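import Groth.Statements.S18863
import Groth.Agent.H40.TorsLim
import Groth.Agent.H31.GrpLimForget
-- import your own Groth.Agent.* helpers here

set_option autoImplicit false
universe u
open CategoryTheory CategoryTheory.Limits MonoidalCategory CartesianMonoidalCategory MonObj GrpObj AlgebraicGeometry
open NonAbH1

namespace Groth.Agent.S18863

/-- Let k be a field and X a quasi-compact k-scheme. Let (G_i)_{i ∈ I} be a cofiltered inverse system of
affine group schemes of finite type over k with limit G in the category of k-group schemes (a limit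
cone of homomorphisms G → G_i), and (T_i)_{i ∈ I} an inverse system of X-schemes such that each T_i
is a torsor over X for the fpqc topology under the base change of G_i to X and each transition map
T_j → T_i is equivariant along G_j → G_i. Let T be a limit of the T_i over X, with an action of the
base change of G to X for which every projection T → T_i is equivariant along G → G_i. Then T is a
torsor over X under the base change of G for the fpqc topology. (The source indexes the system by a
directed partially ordered set and also records that T is pointed over a rational point of X when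
all the T_i are; the limit scheme, the limit group and the limit action, which exist and are unique,
are taken here as data.) -/
theorem result (k : Type u) [Field k]
    (X : Scheme.{u}) [X.Over (Spec (CommRingCat.of k))] [CompactSpace X]
    {I : Type u} [SmallCategory I] [IsCofiltered I]
    (DG : I ⥤ Grp (Over (Spec (CommRingCat.of k))))
    [∀ i, IsAffineHom (DG.obj i).X.hom] [∀ i, LocallyOfFiniteType (DG.obj i).X.hom]
    (cG : Cone DG) (hcG : IsLimit cG)
    (DT : I ⥤ Over X)
    (aT : ∀ i, AlgGrp.Action (Red.bc (X ↘ Spec (CommRingCat.of k)) (DG.obj i).X) (DT.obj i))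
    (hT : ∀ i, NonAbH1.IsTorsorFor Scheme.fpqcPrecoverage (aT i))
    (hDT : ∀ (i j : I) (φ : i ⟶ j), AlgGrp.Action.IsEquivariant (aT i)
      ((aT j).restrict ((Over.pullback (X ↘ Spec (CommRingCat.of k))).map (DG.map φ).hom.hom)) (DT.map φ))
    (cT : Cone DT) (hcT : IsLimit cT)
    (a : AlgGrp.Action (Red.bc (X ↘ Spec (CommRingCat.of k)) cG.pt.X) cT.pt)
    (ha : ∀ i, AlgGrp.Action.IsEquivariant a
      ((aT i).restrict ((Over.pullback (X ↘ Spec (CommRingCat.of k))).map (cG.π.app i).hom.hom)) (cT.π.app i)) :
    NonAbH1.IsTorsorFor Scheme.fpqcPrecoverage a := by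
  classical
  -- the groups over `k`
  have hGi : ∀ i, Flat (DG.obj i).X.hom ∧ Surjective (DG.obj i).X.hom := by
    intro i
    refine ⟨inferInstance, ?_⟩
    have hs : η[(DG.obj i).X].left ≫ (DG.obj i).X.hom = 𝟙 _ := by
      have h0 := Over.w η[(DG.obj i).X]
      rwa [Over.tensorUnit_hom] at h0
    exact ⟨fun x => ⟨η[(DG.obj i).X].left x, by rw [← Scheme.Hom.comp_apply, hs]; rfl⟩⟩
  have hTa : ∀ i, IsAffineHom (DT.obj i).hom := fun i =>
    Groth.Agent.H40.FpqcFam.transfer @IsAffineHom Groth.Agent.S0082.result (hT i)
      (MorphismProperty.pullback_snd (P := @IsAffineHom) _ _ inferInstance)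
  have hTf : ∀ i, Flat (DT.obj i).hom := fun i => by
    haveI := (hGi i).1
    exact Groth.Agent.H40.FpqcFam.transfer @Flat Groth.Agent.H40.FlatDesc2.flat_descendsAlong
      (hT i) (inferInstanceAs (Flat (pullback.snd (DG.obj i).X.hom
        (X ↘ Spec (CommRingCat.of k)))))
  have hTs : ∀ i, Surjective (DT.obj i).hom := fun i => by
    haveI := (hGi i).2
    exact Groth.Agent.H40.FpqcFam.transfer @Surjective inferInstance
      (hT i) (inferInstanceAs (Surjective (pullback.snd (DG.obj i).X.hom
        (X ↘ Spec (CommRingCat.of k)))))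
  haveI := hTa
  obtain ⟨h1, h2, h3⟩ := Groth.Agent.H40.TorsLim.props_limit DT cT hcT
  haveI := h1
  haveI := h2 hTf
  haveI := h3 hTs
  -- the limit of the groups
  haveI : ∀ i, IsAffineHom ((DG ⋙ Grp.forget (Over (Spec (CommRingCat.of k)))).obj i).hom :=
    fun i => inferInstanceAs (IsAffineHom (DG.obj i).X.hom)
  haveI : HasLimit (DG ⋙ Grp.forget (Over (Spec (CommRingCat.of k)))) :=
    Groth.Agent.H40.TorsLim.hasLimit_over _
  obtain ⟨hL⟩ := Groth.Agent.H31.GrpLimForget.isLimit_forget_mapCone DG cG hcG
  haveI := (Over.mapPullbackAdj (X ↘ Spec (CommRingCat.of k))).rightAdjoint_preservesLimits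
  have hLX := isLimitOfPreserves (Over.pullback (X ↘ Spec (CommRingCat.of k))) hL
  refine ⟨?_, Presieve.singleton cT.pt.hom,
    Scheme.Hom.singleton_mem_fpqcPrecoverage cT.pt.hom, ?_⟩
  · refine @Groth.Agent.H40.TorsLim.pseudoTorsor_limit X I _
      (fun i => Red.bc (X ↘ Spec (CommRingCat.of k)) (DG.obj i).X) (fun i => inferInstance)
      (Red.bc (X ↘ Spec (CommRingCat.of k)) cG.pt.X) inferInstance
      (fun i => (Over.pullback (X ↘ Spec (CommRingCat.of k))).map (cG.π.app i).hom.hom)
      (fun i => inferInstance)
      (fun {i j} φ => (Over.pullback (X ↘ Spec (CommRingCat.of k))).map (DG.map φ).hom.hom)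
      (fun {i j} φ => inferInstance)
      DT aT (fun i => (hT i).1) (fun {i j} φ => hDT i j φ) cT hcT a ha ?_ ?_
    · intro W g hg
      let s : Cone ((DG ⋙ Grp.forget (Over (Spec (CommRingCat.of k)))) ⋙
          Over.pullback (X ↘ Spec (CommRingCat.of k))) :=
        { pt := W
          π := { app := g
                 naturality := fun i j φ => (Category.id_comp _).trans (hg φ).symm } }
      exact ⟨hLX.lift s, fun i => hLX.fac s i⟩
    · intro W g g' h
      exact hLX.hom_ext h
  · rintro S' f ⟨⟩
    exact ⟨𝟙 _, Category.id_comp _⟩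


end Groth.Agent.S18863
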