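import Groth.Statements.S18864
import Mathlib.RingTheory.Flat.Basic
import Mathlib.RingTheory.Flat.FaithfullyFlat.Basic
import Mathlib.RingTheory.Adjoin.Basic
import Mathlib.LinearAlgebra.FreeModule.Basic
import Mathlib.LinearAlgebra.Basis.VectorSpace

set_option autoImplicit false
universe u v w
open HopfRep

namespace Groth.Agent.S18864

/-- Let k be a field and G = lim G_i a pro-algebraic group scheme over k, so that G = Spec A with A the
direct limit of the Hopf algebras A_i of the affine group schemes G_i of finite type; assume
moreover that the maps A_i → A are injective, so that A is the directed union of the A_i, here given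
as injective bialgebra maps A_i → A with directed, jointly covering images. Then every homomorphism
from G to an affine group scheme H = Spec B of finite type over k factors through some projection G
→ G_i: every bialgebra map f : B → A with B finitely generated as a k-algebra is the composite of
A_i → A with a bialgebra map B → A_i for some i. (The published statement allows arbitrary
transition maps in the system; this row assumes each A_i → A injective, the case the printed
argument treats. The source also states the pro-finite variant with H finite, which is the case of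
finite-dimensional A_i and B; finite generation of the A_i is not used.) -/
theorem result (k : Type u) [Field k]
    (A : Type v) [CommRing A] [HopfAlgebra k A] {ι : Type v} (Aι : ι → Type v)
    [∀ i, CommRing (Aι i)] [∀ i, HopfAlgebra k (Aι i)] (emb : ∀ i, Aι i →ₐc[k] A)
    (hinj : ∀ i, Function.Injective (emb i))
    (hdir : ∀ i j, ∃ l, Set.range (emb i) ⊆ Set.range (emb l) ∧ Set.range (emb j) ⊆ Set.range (emb l))
    (hcov : ∀ a : A, ∃ i, a ∈ Set.range (emb i))
    (B : Type w) [CommRing B] [HopfAlgebra k B] [Algebra.FiniteType k B] (f : B →ₐc[k] A) :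
    ∃ (i : ι) (g : B →ₐc[k] Aι i), (emb i).comp g = f := by
  classical
  have hι : Nonempty ι := by
    obtain ⟨i, _⟩ := hcov 0
    exact ⟨i⟩
  have hfin : ∀ s : Finset ι, ∃ l, ∀ i ∈ s, Set.range (emb i) ⊆ Set.range (emb l) := by
    intro s
    induction s using Finset.induction_on with
    | empty => exact ⟨hι.some, by simp⟩
    | insert a s ha ih =>
      obtain ⟨l, hl⟩ := ih
      obtain ⟨m, hm1, hm2⟩ := hdir a l
      refine ⟨m, fun i hi => ?_⟩
      rcases Finset.mem_insert.mp hi with rfl | hi
      · exact hm1
      · exact (hl i hi).trans hm2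
  obtain ⟨s, hs⟩ := (Algebra.FiniteType.out : (⊤ : Subalgebra k B).FG)
  choose idx hidx using hcov
  obtain ⟨l, hl⟩ := hfin (s.image (fun b => idx (f b)))
  have hrange : ∀ b : B, (f : B →ₐ[k] A) b ∈ (emb l : Aι l →ₐ[k] A).range := by
    intro b
    have hb : b ∈ Algebra.adjoin k (s : Set B) := by rw [hs]; trivial
    have hle : Algebra.adjoin k (s : Set B) ≤
        ((emb l : Aι l →ₐ[k] A).range).comap (f : B →ₐ[k] A) := by
      apply Algebra.adjoin_le
      intro x hx
      have h1 := hl _ (Finset.mem_image_of_mem (fun b => idx (f b)) hx) (hidx (f x))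
      obtain ⟨y, hy⟩ := h1
      exact ⟨y, hy⟩
    exact hle hb
  let e := AlgEquiv.ofInjective (emb l : Aι l →ₐ[k] A) (hinj l)
  let g0 : B →ₐ[k] Aι l :=
    (e.symm : _ →ₐ[k] Aι l).comp ((f : B →ₐ[k] A).codRestrict (emb l : Aι l →ₐ[k] A).range hrange)
  have hg0 : ∀ b, emb l (g0 b) = f b := by
    intro b
    have h1 : e (g0 b) = ((f : B →ₐ[k] A).codRestrict (emb l : Aι l →ₐ[k] A).range hrange) b := by
      change e (e.symm _) = _
      rw [AlgEquiv.apply_symm_apply]
      rfl
    have h2 := congrArg Subtype.val h1
    exact h2
  have hcounit : (Bialgebra.counitAlgHom k (Aι l)).comp g0 = Bialgebra.counitAlgHom k B := by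
    apply AlgHom.ext
    intro b
    change Coalgebra.counit (g0 b) = Coalgebra.counit b
    rw [← CoalgHomClass.counit_comp_apply (emb l) (g0 b), hg0, CoalgHomClass.counit_comp_apply]
  have hcomul : (Algebra.TensorProduct.map g0 g0).comp (Bialgebra.comulAlgHom k B) =
      (Bialgebra.comulAlgHom k (Aι l)).comp g0 := by
    apply AlgHom.ext
    intro b
    have hinj2 : Function.Injective (TensorProduct.map (emb l : Aι l →ₗ[k] A) (emb l : Aι l →ₗ[k] A)) :=
      TensorProduct.map_injective_of_flat_flat _ _ (hinj l) (hinj l)
    apply hinj2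
    change TensorProduct.map (emb l : Aι l →ₗ[k] A) (emb l : Aι l →ₗ[k] A)
        (TensorProduct.map g0.toLinearMap g0.toLinearMap (Coalgebra.comul b)) =
      TensorProduct.map (emb l : Aι l →ₗ[k] A) (emb l : Aι l →ₗ[k] A) (Coalgebra.comul (g0 b))
    rw [← LinearMap.comp_apply, ← TensorProduct.map_comp]
    have h1 : (emb l : Aι l →ₗ[k] A) ∘ₗ g0.toLinearMap = (f : B →ₗ[k] A) := by
      apply LinearMap.ext
      intro x
      exact hg0 x
    rw [h1]
    have h2 := CoalgHomClass.map_comp_comul_apply (emb l) (g0 b)
    have h3 := CoalgHomClass.map_comp_comul_apply f b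
    rw [hg0] at h2
    exact h3.trans h2.symm
  refine ⟨l, BialgHom.ofAlgHom g0 hcounit hcomul, ?_⟩
  apply BialgHom.ext
  intro b
  exact hg0 b

end Groth.Agent.S18864
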