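import Groth.Statements.S18865
import Groth.Agent.H26.Liaison

set_option autoImplicit false
universe u
open Liaison

namespace Groth.Agent.S18865

/-- Let K be a field, R = K[x_0, …, x_n] graded by degree, c ≥ 2 an integer, 𝔠 ⊂ R a homogeneous ideal
of height c such that R/𝔠 is a Gorenstein ring, and I ⊂ R a homogeneous ideal with I ⊄ 𝔠. Then the
ideal quotient 𝔠 : I is unmixed of codimension c: it has height c and every associated prime of R/(𝔠
: I) has height c. (A Gorenstein ideal of the notes, one whose quotient is Cohen–Macaulay with last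
graded Betti number 1, is rendered as: the quotient ring is Gorenstein.) -/
theorem result (K : Type u) [Field K] (n c : ℕ) (hc : 2 ≤ c)
    (𝔠 I : Ideal (MvPolynomial (Fin (n + 1)) K))
    (h𝔠 : 𝔠.IsHomogeneous (GrSyz.stdGr K (Fin (n + 1)))) (hI : I.IsHomogeneous (GrSyz.stdGr K (Fin (n + 1))))
    [LocCoh.IsGorensteinRing (MvPolynomial (Fin (n + 1)) K ⧸ 𝔠)] (h𝔠c : 𝔠.height = c) (hI𝔠 : ¬ I ≤ 𝔠) :
    (𝔠.colon (I : Set (MvPolynomial (Fin (n + 1)) K))).height = c ∧
      ∀ p ∈ associatedPrimes (MvPolynomial (Fin (n + 1)) K) (MvPolynomial (Fin (n + 1)) K ⧸ 𝔠.colon (I : Set (MvPolynomial (Fin (n + 1)) K))), p.height = c := by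
  classical
  haveI : LocCoh.IsCohenMacaulayRing (MvPolynomial (Fin (n + 1)) K ⧸ 𝔠) :=
    Groth.Agent.H26.Liaison.cm_of_gorenstein _
  have hht : ∀ p ∈ associatedPrimes (MvPolynomial (Fin (n + 1)) K)
      (MvPolynomial (Fin (n + 1)) K ⧸ 𝔠.colon (I : Set (MvPolynomial (Fin (n + 1)) K))),
      p.height = c := by
    intro p hp
    rw [← h𝔠c]
    exact Groth.Agent.H26.Liaison.height_eq_height_of_mem_associatedPrimes K (n + 1) 𝔠 h𝔠
      (Groth.Agent.H26.Liaison.associatedPrimes_colon_subset 𝔠 I hp)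
  refine ⟨?_, hht⟩
  have hne : 𝔠.colon (I : Set (MvPolynomial (Fin (n + 1)) K)) ≠ ⊤ := by
    intro htop
    apply hI𝔠
    intro b hb
    have h1 : (1 : MvPolynomial (Fin (n + 1)) K) ∈
        𝔠.colon (I : Set (MvPolynomial (Fin (n + 1)) K)) := by
      rw [htop]; trivial
    have h2 := (Groth.Agent.H26.Liaison.mem_colon_ideal 𝔠 I 1).mp h1 b hb
    rwa [one_mul] at h2
  rw [Ideal.height_eq_inf_minimalPrimes]
  obtain ⟨⟨p₀, hp₀⟩⟩ := Ideal.nonempty_minimalPrimes hne
  apply le_antisymm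
  · refine (iInf₂_le p₀ hp₀).trans (le_of_eq ?_)
    exact hht p₀ (Groth.Agent.H26.Liaison.minimalPrimes_subset_associatedPrimes _ hp₀)
  · refine le_iInf₂ fun p hp => ?_
    exact (hht p (Groth.Agent.H26.Liaison.minimalPrimes_subset_associatedPrimes _ hp)).ge

end Groth.Agent.S18865
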