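import Groth.Statements.S18866
import Groth.Agent.H26.Liaison

set_option autoImplicit false
universe u
open Liaison

namespace Groth.Agent.S18866

/-- Let K be a field, R = K[x_0, …, x_n] graded by degree, c ≥ 2, 𝔠 ⊂ R a homogeneous ideal of height c
such that R/𝔠 is a Gorenstein ring, and I, J ⊂ R homogeneous ideals that are directly linked by 𝔠,
that is 𝔠 : I = J and 𝔠 : J = I. If R/I and R/J have no associated prime in common, then I ∩ J = 𝔠,
so I and J are geometrically linked by 𝔠. -/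
theorem result (K : Type u) [Field K] (n c : ℕ) (hc : 2 ≤ c)
    (𝔠 I J : Ideal (MvPolynomial (Fin (n + 1)) K))
    (h𝔠 : 𝔠.IsHomogeneous (GrSyz.stdGr K (Fin (n + 1)))) (hI : I.IsHomogeneous (GrSyz.stdGr K (Fin (n + 1)))) (hJ : J.IsHomogeneous (GrSyz.stdGr K (Fin (n + 1))))
    [LocCoh.IsGorensteinRing (MvPolynomial (Fin (n + 1)) K ⧸ 𝔠)] (h𝔠c : 𝔠.height = c)
    (hIJ : 𝔠.colon (I : Set (MvPolynomial (Fin (n + 1)) K)) = J) (hJI : 𝔠.colon (J : Set (MvPolynomial (Fin (n + 1)) K)) = I)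
    (hdisj : Disjoint (associatedPrimes (MvPolynomial (Fin (n + 1)) K) (MvPolynomial (Fin (n + 1)) K ⧸ I)) (associatedPrimes (MvPolynomial (Fin (n + 1)) K) (MvPolynomial (Fin (n + 1)) K ⧸ J))) :
    I ⊓ J = 𝔠 := by
  classical
  haveI : LocCoh.IsCohenMacaulayRing (MvPolynomial (Fin (n + 1)) K ⧸ 𝔠) :=
    Groth.Agent.H26.Liaison.cm_of_gorenstein _
  have h𝔠I : 𝔠 ≤ I := by rw [← hJI]; exact Ideal.le_colon
  have h𝔠J : 𝔠 ≤ J := by rw [← hIJ]; exact Ideal.le_colon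
  apply le_antisymm _ (le_inf h𝔠I h𝔠J)
  intro z hz
  obtain ⟨hzI, hzJ⟩ := Ideal.mem_inf.mp hz
  by_contra hz𝔠
  have hz0 : Ideal.Quotient.mk 𝔠 z ≠ 0 := fun h => hz𝔠 (Ideal.Quotient.eq_zero_iff_mem.mp h)
  obtain ⟨p, hpass, hple⟩ := exists_le_isAssociatedPrime_of_isNoetherianRing
    (MvPolynomial (Fin (n + 1)) K) (Ideal.Quotient.mk 𝔠 z) hz0
  haveI := hpass.isPrime
  have hIp : I ≤ p := by
    intro b hb
    apply hple
    rw [Groth.Agent.H26.Liaison.mem_colon_bot_mk]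
    have hzJ' : z ∈ 𝔠.colon (I : Set (MvPolynomial (Fin (n + 1)) K)) := by rw [hIJ]; exact hzJ
    have h1 := (Groth.Agent.H26.Liaison.mem_colon_ideal 𝔠 I z).mp hzJ' b hb
    rwa [mul_comm] at h1
  have hJp : J ≤ p := by
    intro b hb
    apply hple
    rw [Groth.Agent.H26.Liaison.mem_colon_bot_mk]
    have hzI' : z ∈ 𝔠.colon (J : Set (MvPolynomial (Fin (n + 1)) K)) := by rw [hJI]; exact hzI
    have h1 := (Groth.Agent.H26.Liaison.mem_colon_ideal 𝔠 J z).mp hzI' b hb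
    rwa [mul_comm] at h1
  have hpmin := Groth.Agent.H26.Liaison.mem_minimalPrimes_of_mem_associatedPrimes 𝔠 hpass
  have hpI : p ∈ I.minimalPrimes :=
    ⟨⟨hpass.isPrime, hIp⟩, fun q hq hqp => hpmin.2 ⟨hq.1, h𝔠I.trans hq.2⟩ hqp⟩
  have hpJ : p ∈ J.minimalPrimes :=
    ⟨⟨hpass.isPrime, hJp⟩, fun q hq hqp => hpmin.2 ⟨hq.1, h𝔠J.trans hq.2⟩ hqp⟩
  exact Set.disjoint_left.mp hdisj
    (Groth.Agent.H26.Liaison.minimalPrimes_subset_associatedPrimes I hpI)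
    (Groth.Agent.H26.Liaison.minimalPrimes_subset_associatedPrimes J hpJ)

end Groth.Agent.S18866
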