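import Groth.Statements.S18870
import Mathlib.RingTheory.Ideal.AssociatedPrime.Localization
import Mathlib.RingTheory.Ideal.Height
import Mathlib.RingTheory.Polynomial.Basic
import Mathlib.Tactic

set_option autoImplicit false
universe u
open Liaison

namespace Groth.Agent.S18870

/-- Let K be a field, R = K[x_0, …, x_n] graded by degree, and J ⊆ I ⊂ R homogeneous ideals with J ≠ 0,
height I = height J + 1 = h + 1 and R/J Cohen–Macaulay; let f ∈ R be homogeneous of degree d with J
: f = J, and put Ĩ = J + fI (the basic double link). Then Ĩ has the same height h + 1 as I. -/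
theorem result (K : Type u) [Field K] (n h : ℕ)
    (J I : Ideal (MvPolynomial (Fin (n + 1)) K))
    (hJ : J.IsHomogeneous (GrSyz.stdGr K (Fin (n + 1)))) (hI : I.IsHomogeneous (GrSyz.stdGr K (Fin (n + 1))))
    (hJ0 : J ≠ ⊥) (hJI : J ≤ I) (hJh : J.height = h) (hIh : I.height = h + 1)
    [LocCoh.IsCohenMacaulayRing (MvPolynomial (Fin (n + 1)) K ⧸ J)]
    (f : MvPolynomial (Fin (n + 1)) K) (d : ℕ) (hf : f ∈ GrSyz.stdGr K (Fin (n + 1)) (d : ℤ)) (hJf : J.colon {f} = J) :
    (J ⊔ Ideal.span {f} * I).height = h + 1 := by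
  classical
  have hle : J ⊔ Ideal.span {f} * I ≤ I := sup_le hJI Ideal.mul_le_right
  refine le_antisymm ((Ideal.height_mono hle).trans (le_of_eq hIh)) ?_
  rw [Ideal.height_eq_inf_minimalPrimes]
  refine le_iInf₂ fun P hP => ?_
  have hPprime : P.IsPrime := hP.1.1
  have hPle : J ⊔ Ideal.span {f} * I ≤ P := hP.1.2
  have hJP : J ≤ P := le_sup_left.trans hPle
  have hfI : Ideal.span {f} * I ≤ P := le_sup_right.trans hPle
  rcases (Ideal.IsPrime.mul_le hPprime).1 hfI with hfP | hIP
  · have hfP' : f ∈ P := hfP (Ideal.subset_span rfl)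
    obtain ⟨Q, hQ, hQP⟩ := Ideal.exists_minimalPrimes_le hJP
    have hQprime : Q.IsPrime := hQ.1.1
    have hJQ : J ≤ Q := hQ.1.2
    have hQass : Q ∈ associatedPrimes (MvPolynomial (Fin (n + 1)) K)
        (MvPolynomial (Fin (n + 1)) K ⧸ J) := by
      apply Module.associatedPrimes.minimalPrimes_annihilator_subset_associatedPrimes
      rw [Ideal.annihilator_quotient]
      exact hQ
    obtain ⟨_, x, hx⟩ := (isAssociatedPrime_iff).1 hQass
    obtain ⟨y, rfl⟩ := Ideal.Quotient.mk_surjective x
    have hfQ : f ∉ Q := by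
      intro hfQ
      rw [hx, Submodule.mem_colon_singleton] at hfQ
      have h1 : f * y ∈ J := by
        rw [← Ideal.Quotient.eq_zero_iff_mem]
        have h0 : f • (Ideal.Quotient.mk J) y = 0 := by simpa using hfQ
        exact h0
      have h2 : y ∈ J.colon {f} := by
        rw [Submodule.mem_colon_singleton]
        simpa [mul_comm] using h1
      rw [hJf] at h2
      have h3 : (Ideal.Quotient.mk J y) = 0 := Ideal.Quotient.eq_zero_iff_mem.2 h2
      apply hQprime.ne_top
      rw [hx, h3]
      ext r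
      simp [Submodule.mem_colon_singleton]
    have hlt : Q < P := lt_of_le_of_ne hQP (fun h => hfQ (h ▸ hfP'))
    calc ((h : ℕ∞) + 1) = J.height + 1 := by rw [hJh]
      _ ≤ Q.height + 1 := by gcongr
      _ ≤ P.height := Ideal.height_add_one_le_of_lt_of_isPrime hlt
  · calc ((h : ℕ∞) + 1) = I.height := hIh.symm
      _ ≤ P.height := Ideal.height_mono hIP

end Groth.Agent.S18870
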