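import Groth.Statements.S18878
import Groth.Agent.S4805
import Groth.Agent.H30.ShQuot2
import Groth.Agent.H63.BCPoints
import Groth.Agent.H40.FlatDesc

set_option autoImplicit false
universe u
open Lim

namespace Groth.Agent.S18878

open CategoryTheory AlgebraicGeometry Limits MonoidalCategory CartesianMonoidalCategory MonObj GrpObj
open Groth.Agent.H63.BCPoints

section general
variable {S₀ S' : Scheme.{u}} (f : S' ⟶ S₀)

/-- inverse of `under` -/
noncomputable def ofUnder {Y : Over S₀} {T : Over S'} (t : (Over.map f).obj T ⟶ Y) :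
    T ⟶ (Over.pullback f).obj Y :=
  Over.homMk (pullback.lift t.left T.hom (Over.w t)) (pullback.lift_snd _ _ _)

theorem under_ofUnder {Y : Over S₀} {T : Over S'} (t : (Over.map f).obj T ⟶ Y) :
    under f (ofUnder f t) = t := by
  apply Over.OverMorphism.ext
  rw [under_left]
  exact pullback.lift_fst _ _ _

variable {G₀ H₀ : Over S₀} (jH : H₀ ⟶ G₀)

/-- scheme-level: every point of `Z₀` over a scheme factoring through `f` has image in `H₀`. -/
def Fact {Z₀ : Over S₀} (z₀ : Z₀ ⟶ G₀) : Prop :=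
  ∀ (T : Scheme.{u}) (r : T ⟶ S') (t : T ⟶ Z₀.left), t ≫ Z₀.hom = r ≫ f →
    ∃ w : T ⟶ H₀.left, w ≫ jH.left = t ≫ z₀.left

/-- point-level version -/
def PtFact {Z₀ : Over S₀} (z₀ : Z₀ ⟶ G₀) : Prop :=
  ∀ (T : Over S') (t : (Over.map f).obj T ⟶ Z₀),
    ∃ z : T ⟶ (Over.pullback f).obj H₀, under f (z ≫ (Over.pullback f).map jH) = t ≫ z₀

variable {f jH}

theorem Fact.precomp {Z₀ : Over S₀} {z₀ : Z₀ ⟶ G₀} (h : Fact f jH z₀) {S'' : Scheme.{u}}
    (g : S'' ⟶ S') : Fact (g ≫ f) jH z₀ := by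
  intro T r t ht
  exact h T (r ≫ g) t (by rw [ht, Category.assoc])

theorem Fact.ptFact {Z₀ : Over S₀} {z₀ : Z₀ ⟶ G₀} (h : Fact f jH z₀) : PtFact f jH z₀ := by
  intro T t
  obtain ⟨w, hw⟩ := h T.left T.hom t.left (Over.w t)
  have hw' : w ≫ H₀.hom = ((Over.map f).obj T).hom := by
    rw [← Over.w jH, ← Category.assoc, hw, Category.assoc, Over.w z₀]
    exact Over.w t
  let w' : (Over.map f).obj T ⟶ H₀ := Over.homMk w hw'
  refine ⟨ofUnder f w', ?_⟩
  rw [under_map, under_ofUnder]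
  apply Over.OverMorphism.ext
  rw [Over.comp_left, Over.comp_left]
  exact hw

theorem PtFact.fact {Z₀ : Over S₀} {z₀ : Z₀ ⟶ G₀} (h : PtFact f jH z₀) : Fact f jH z₀ := by
  intro T r t ht
  let t' : (Over.map f).obj (Over.mk r) ⟶ Z₀ := Over.homMk t ht
  obtain ⟨z, hz⟩ := h (Over.mk r) t'
  refine ⟨(under f z).left, ?_⟩
  rw [under_map] at hz
  have := congrArg (fun m => m.left) hz
  simpa [t'] using this

end general

section grp
variable {S₀ S' : Scheme.{u}} {f : S' ⟶ S₀} {G₀ H₀ : Over S₀} [GrpObj G₀] {jH : H₀ ⟶ G₀}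

/-- the universal product, unit, inverse and conjugate -/
noncomputable abbrev mulPt (jH : H₀ ⟶ G₀) : H₀ ⊗ H₀ ⟶ G₀ := (fst H₀ H₀ ≫ jH) * (snd H₀ H₀ ≫ jH)
noncomputable abbrev onePt (G₀ : Over S₀) [GrpObj G₀] : 𝟙_ (Over S₀) ⟶ G₀ := 1
noncomputable abbrev invPt (jH : H₀ ⟶ G₀) : H₀ ⟶ G₀ := jH⁻¹
noncomputable abbrev conjPt (jH : H₀ ⟶ G₀) : G₀ ⊗ H₀ ⟶ G₀ :=
  (fst G₀ H₀) * (snd G₀ H₀ ≫ jH) * (fst G₀ H₀)⁻¹

theorem ptFact_of_grp [GrpObj ((Over.pullback f).obj H₀)]
    [IsMonHom ((Over.pullback f).map jH)] :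
    PtFact f jH (mulPt jH) ∧ PtFact f jH (onePt G₀) ∧ PtFact f jH (invPt jH) := by
  refine ⟨?_, ?_, ?_⟩
  · intro T t
    refine ⟨ofUnder f (t ≫ fst H₀ H₀) * ofUnder f (t ≫ snd H₀ H₀), ?_⟩
    rw [MonObj.mul_comp, under_mul, under_map, under_map, under_ofUnder, under_ofUnder,
      MonObj.comp_mul, Category.assoc, Category.assoc]
  · intro T t
    refine ⟨1, ?_⟩
    rw [MonObj.one_comp, under_one, MonObj.comp_one]
  · intro T t
    refine ⟨(ofUnder f t)⁻¹, ?_⟩
    rw [GrpObj.inv_comp, under_inv, under_map, under_ofUnder, GrpObj.comp_inv]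

theorem ptFact_conj_of_normal [GrpObj ((Over.pullback f).obj H₀)]
    (hn : AlgGrp.IsNormalHom ((Over.pullback f).map jH)) : PtFact f jH (conjPt jH) := by
  intro T t
  obtain ⟨n', hn'⟩ := hn T (ofUnder f (t ≫ fst G₀ H₀)) (ofUnder f (t ≫ snd G₀ H₀))
  refine ⟨n', ?_⟩
  rw [← hn', under_mul, under_mul, under_inv, under_map, under_ofUnder, under_ofUnder,
    MonObj.comp_mul, MonObj.comp_mul, GrpObj.comp_inv, Category.assoc]

theorem grp_of_ptFact [Mono ((Over.pullback f).map jH)]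
    (hm : PtFact f jH (mulPt jH)) (he : PtFact f jH (onePt G₀)) (hi : PtFact f jH (invPt jH)) :
    ∃ str : GrpObj ((Over.pullback f).obj H₀),
      @IsMonHom _ _ _ _ _ str.toMonObj _ ((Over.pullback f).map jH) := by
  apply Groth.Agent.H30.ShQuot.exists_grpObj_of_closed
  · intro T x y
    obtain ⟨z, hz⟩ := hm T (lift (under f x) (under f y))
    refine ⟨z, under_injective f ?_⟩
    rw [hz, under_mul, under_map, under_map, MonObj.comp_mul, lift_fst_assoc, lift_snd_assoc]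
  · intro T x
    obtain ⟨z, hz⟩ := hi T (under f x)
    refine ⟨z, under_injective f ?_⟩
    rw [hz, under_inv, under_map, GrpObj.comp_inv]
  · obtain ⟨z, hz⟩ := he (𝟙_ (Over S')) (toUnit _)
    refine ⟨z, under_injective f ?_⟩
    rw [hz, MonObj.comp_one, MonObj.one_eq_one, under_one]

theorem normal_of_ptFact [GrpObj ((Over.pullback f).obj H₀)]
    (hc : PtFact f jH (conjPt jH)) : AlgGrp.IsNormalHom ((Over.pullback f).map jH) := by
  intro T g n
  obtain ⟨z, hz⟩ := hc T (lift (under f g) (under f n))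
  refine ⟨z, under_injective f ?_⟩
  rw [hz, under_mul, under_mul, under_inv, under_map, MonObj.comp_mul, MonObj.comp_mul,
    GrpObj.comp_inv, lift_fst, lift_snd_assoc]

end grp

section stage
variable {I : Type u} [SmallCategory I] [IsCofiltered I]
  (D : I ⥤ Scheme.{u}) (c : Limits.Cone D) (hc : Limits.IsLimit c)
  [∀ (i j : I) (a : i ⟶ j), IsAffineHom (D.map a)] (i₀ : I) [CompactSpace (D.obj i₀)]
  {G₀ H₀ : Over (D.obj i₀)} (jH : H₀ ⟶ G₀) [IsClosedImmersion jH.left]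
  [LocallyOfFinitePresentation jH.left]

include hc in
theorem exists_stage {Z₀ : Over (D.obj i₀)} (z₀ : Z₀ ⟶ G₀)
    [LocallyOfFinitePresentation Z₀.hom] [QuasiCompact Z₀.hom] [QuasiSeparated Z₀.hom]
    (h : Fact (c.π.app i₀) jH z₀) : ∃ (j : I) (φ : j ⟶ i₀), Fact (D.map φ) jH z₀ := by
  -- the closed subscheme of `Z₀` mapping into `H₀`
  have sq : IsPullback (pullback.fst z₀ jH).left (pullback.snd z₀ jH).left z₀.left jH.left :=
    (IsPullback.of_hasPullback z₀ jH).map (Over.forget _)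
  obtain ⟨p, hp⟩ : ∃ p, p = (pullback.fst z₀ jH).left := ⟨_, rfl⟩
  obtain ⟨q, hq⟩ : ∃ q, q = (pullback.snd z₀ jH).left := ⟨_, rfl⟩
  rw [← hp, ← hq] at sq
  haveI : IsClosedImmersion p :=
    MorphismProperty.of_isPullback (P := @IsClosedImmersion) sq.flip inferInstance
  haveI : LocallyOfFinitePresentation p :=
    MorphismProperty.of_isPullback (P := @LocallyOfFinitePresentation) sq.flip inferInstance
  -- base change to the limit
  have hY : IsPullback (pullback.fst Z₀.hom (c.π.app i₀)) (pullback.snd Z₀.hom (c.π.app i₀))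
      Z₀.hom (c.π.app i₀) := IsPullback.of_hasPullback _ _
  have hX : IsPullback (pullback.fst p (pullback.fst Z₀.hom (c.π.app i₀)))
      (pullback.snd p (pullback.fst Z₀.hom (c.π.app i₀))) p
      (pullback.fst Z₀.hom (c.π.app i₀)) := IsPullback.of_hasPullback _ _
  obtain ⟨w, hw⟩ := h _ (pullback.snd Z₀.hom (c.π.app i₀)) (pullback.fst Z₀.hom (c.π.app i₀))
    pullback.condition
  let s : pullback Z₀.hom (c.π.app i₀) ⟶ pullback p (pullback.fst Z₀.hom (c.π.app i₀)) :=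
    pullback.lift (sq.lift (pullback.fst Z₀.hom (c.π.app i₀)) w hw.symm) (𝟙 _)
      (by rw [sq.lift_fst, Category.id_comp])
  have hs : s ≫ pullback.snd p (pullback.fst Z₀.hom (c.π.app i₀)) = 𝟙 _ :=
    pullback.lift_snd _ _ _
  haveI : Mono (pullback.snd p (pullback.fst Z₀.hom (c.π.app i₀))) := inferInstance
  haveI : IsSplitEpi (pullback.snd p (pullback.fst Z₀.hom (c.π.app i₀))) := ⟨⟨⟨s, hs⟩⟩⟩
  haveI : IsIso (pullback.snd p (pullback.fst Z₀.hom (c.π.app i₀))) :=
    isIso_of_mono_of_isSplitEpi _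
  obtain ⟨j, φ, Xj, Yj, fj, gj, pY, pX, hYj, hXj, hiso⟩ :=
    Groth.Agent.S4805.result D c hc i₀ p Z₀.hom
      (pullback.snd p (pullback.fst Z₀.hom (c.π.app i₀))) (pullback.snd Z₀.hom (c.π.app i₀))
      (pullback.fst Z₀.hom (c.π.app i₀)) (pullback.fst p (pullback.fst Z₀.hom (c.π.app i₀)))
      hY hX
  refine ⟨j, φ, ?_⟩
  intro T r t ht
  refine ⟨hYj.lift t r ht ≫ inv fj ≫ pX ≫ q, ?_⟩
  simp only [Category.assoc]
  rw [← sq.w, ← Category.assoc pX, hXj.w, Category.assoc, IsIso.inv_hom_id_assoc,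
    hYj.lift_fst_assoc]

omit [IsCofiltered I] [CompactSpace (D.obj i₀)] [∀ (i j : I) (a : i ⟶ j), IsAffineHom (D.map a)]
  [IsClosedImmersion jH.left] [LocallyOfFinitePresentation jH.left] in
theorem Fact.restage {Z₀ : Over (D.obj i₀)} {z₀ : Z₀ ⟶ G₀} {j k : I} {φ : j ⟶ i₀}
    (h : Fact (D.map φ) jH z₀) (b : k ⟶ j) : Fact (D.map (b ≫ φ)) jH z₀ := by
  rw [D.map_comp]
  exact h.precomp (D.map b)

omit [CompactSpace (D.obj i₀)] [∀ (i j : I) (a : i ⟶ j), IsAffineHom (D.map a)] in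
/-- common stage for two precomposition-closed conditions -/
theorem exists_common (P Q : ∀ j : I, (j ⟶ i₀) → Prop)
    (hP : ∀ {j k : I} (φ : j ⟶ i₀) (b : k ⟶ j), P j φ → P k (b ≫ φ))
    (hQ : ∀ {j k : I} (φ : j ⟶ i₀) (b : k ⟶ j), Q j φ → Q k (b ≫ φ))
    (h1 : ∃ j φ, P j φ) (h2 : ∃ j φ, Q j φ) : ∃ j φ, P j φ ∧ Q j φ := by
  obtain ⟨j₁, φ₁, h1⟩ := h1
  obtain ⟨j₂, φ₂, h2⟩ := h2
  let j' := IsCofiltered.min j₁ j₂
  let a₁ : j' ⟶ i₀ := IsCofiltered.minToLeft j₁ j₂ ≫ φ₁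
  let a₂ : j' ⟶ i₀ := IsCofiltered.minToRight j₁ j₂ ≫ φ₂
  refine ⟨IsCofiltered.eq a₁ a₂, IsCofiltered.eqHom a₁ a₂ ≫ a₁, ?_, ?_⟩
  · exact hP _ _ (hP _ _ h1)
  · rw [IsCofiltered.eq_condition]
    exact hQ _ _ (hQ _ _ h2)

end stage

open CategoryTheory AlgebraicGeometry in
/-- Let S = lim S_i be a cofiltered limit of schemes with affine transition morphisms over a
quasi-compact quasi-separated stage S_{i₀}, let G₀ be a group scheme separated and of finite
presentation over S_{i₀} and H₀ ⊆ G₀ a closed subscheme whose immersion is of finite presentation,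
and write G, H (resp. G_i, H_i) for the base changes to S (resp. to a stage S_i). If H is a closed
subgroup scheme of G, that is H carries a group structure over S for which H → G is a homomorphism,
then H_i is a closed subgroup scheme of G_i for some stage i → i₀; if moreover H is normal in G, the
stage can be chosen so that H_i is normal in G_i. (The published statement is for separated finitely
presented group algebraic spaces and an arbitrary closed subspace H₀; this row is the case of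
schemes and assumes H₀ → G₀ of finite presentation: over the limit Spec k of the spectra of k[x_1,
x_2, …]/(x_1, …, x_n), k of characteristic zero, the closed subscheme of the additive group cut out
by all x_m t^m becomes the whole additive group over Spec k but is a subgroup over no stage, so a
finiteness condition on H₀ is needed, and finite presentation is what the published limit argument
uses.) -/
theorem result
    {I : Type u} [SmallCategory I] [IsCofiltered I]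
    (D : I ⥤ Scheme.{u}) (c : Limits.Cone D) (hc : Limits.IsLimit c)
    [∀ (i j : I) (a : i ⟶ j), IsAffineHom (D.map a)] (i₀ : I)
    [CompactSpace (D.obj i₀)] [QuasiSeparatedSpace (D.obj i₀)]
    (G₀ : Over (D.obj i₀)) [GrpObj G₀] [IsSeparated G₀.hom] [QuasiCompact G₀.hom]
    [LocallyOfFinitePresentation G₀.hom]
    (H₀ : Over (D.obj i₀)) (ι₀ : H₀ ⟶ G₀) [IsClosedImmersion ι₀.left]
    [LocallyOfFinitePresentation ι₀.left]
    (hH : ∃ _ : GrpObj (Red.bc (c.π.app i₀) H₀), IsMonHom ((Over.pullback (c.π.app i₀)).map ι₀)) :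
    (∃ (i : I) (a : i ⟶ i₀) (_ : GrpObj (Red.bc (D.map a) H₀)),
        IsMonHom ((Over.pullback (D.map a)).map ι₀)) ∧
    ((∃ (_ : GrpObj (Red.bc (c.π.app i₀) H₀)) (_ : IsMonHom ((Over.pullback (c.π.app i₀)).map ι₀)),
        AlgGrp.IsNormalHom ((Over.pullback (c.π.app i₀)).map ι₀)) →
      ∃ (i : I) (a : i ⟶ i₀) (_ : GrpObj (Red.bc (D.map a) H₀))
        (_ : IsMonHom ((Over.pullback (D.map a)).map ι₀)),
        AlgGrp.IsNormalHom ((Over.pullback (D.map a)).map ι₀)) := by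
  haveI : LocallyOfFinitePresentation H₀.hom := by rw [← Over.w ι₀]; infer_instance
  haveI : QuasiCompact H₀.hom := by rw [← Over.w ι₀]; infer_instance
  haveI : QuasiSeparated H₀.hom := by rw [← Over.w ι₀]; infer_instance
  haveI : LocallyOfFinitePresentation (H₀ ⊗ H₀).hom := by rw [Over.tensorObj_hom]; infer_instance
  haveI : QuasiCompact (H₀ ⊗ H₀).hom := by rw [Over.tensorObj_hom]; infer_instance
  haveI : QuasiSeparated (H₀ ⊗ H₀).hom := by rw [Over.tensorObj_hom]; infer_instance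
  haveI : LocallyOfFinitePresentation (G₀ ⊗ H₀).hom := by rw [Over.tensorObj_hom]; infer_instance
  haveI : QuasiCompact (G₀ ⊗ H₀).hom := by rw [Over.tensorObj_hom]; infer_instance
  haveI : QuasiSeparated (G₀ ⊗ H₀).hom := by rw [Over.tensorObj_hom]; infer_instance
  haveI : LocallyOfFinitePresentation (𝟙_ (Over (D.obj i₀))).hom :=
    (inferInstance : LocallyOfFinitePresentation (𝟙 (D.obj i₀)))
  haveI : QuasiCompact (𝟙_ (Over (D.obj i₀))).hom := (inferInstance : QuasiCompact (𝟙 (D.obj i₀)))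
  haveI : QuasiSeparated (𝟙_ (Over (D.obj i₀))).hom :=
    (inferInstance : QuasiSeparated (𝟙 (D.obj i₀)))
  haveI : Mono ι₀ := Groth.Agent.H40.FlatDesc.mono_of_isClosedImmersion_left ι₀
  -- the three conditions at a common stage
  have key : (∃ _ : GrpObj (Red.bc (c.π.app i₀) H₀),
      IsMonHom ((Over.pullback (c.π.app i₀)).map ι₀)) →
      ∃ (j : I) (φ : j ⟶ i₀), (Fact (D.map φ) ι₀ (mulPt ι₀) ∧ Fact (D.map φ) ι₀ (onePt G₀)) ∧
        Fact (D.map φ) ι₀ (invPt ι₀) := by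
    rintro ⟨inst, hmon⟩
    letI := inst
    haveI := hmon
    obtain ⟨hm, he, hi⟩ := ptFact_of_grp (f := c.π.app i₀) (jH := ι₀)
    have s1 := exists_stage D c hc i₀ ι₀ (mulPt ι₀) hm.fact
    have s2 := exists_stage D c hc i₀ ι₀ (onePt G₀) he.fact
    have s3 := exists_stage D c hc i₀ ι₀ (invPt ι₀) hi.fact
    have c12 := exists_common i₀ (fun j φ => Fact (D.map φ) ι₀ (mulPt ι₀))
      (fun j φ => Fact (D.map φ) ι₀ (onePt G₀))
      (fun φ b h => Fact.restage D i₀ ι₀ h b) (fun φ b h => Fact.restage D i₀ ι₀ h b) s1 s2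
    exact exists_common i₀
      (fun j φ => Fact (D.map φ) ι₀ (mulPt ι₀) ∧ Fact (D.map φ) ι₀ (onePt G₀))
      (fun j φ => Fact (D.map φ) ι₀ (invPt ι₀))
      (fun φ b h => ⟨Fact.restage D i₀ ι₀ h.1 b, Fact.restage D i₀ ι₀ h.2 b⟩)
      (fun φ b h => Fact.restage D i₀ ι₀ h b) c12 s3
  refine ⟨?_, ?_⟩
  · obtain ⟨j, φ, ⟨h1, h2⟩, h3⟩ := key hH
    obtain ⟨str, hstr⟩ := grp_of_ptFact (f := D.map φ) (jH := ι₀) h1.ptFact h2.ptFact h3.ptFact
    exact ⟨j, φ, str, hstr⟩
  · rintro ⟨inst, hmon, hn⟩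
    have k1 := key ⟨inst, hmon⟩
    have hcj : PtFact (c.π.app i₀) ι₀ (conjPt ι₀) := by
      letI := inst
      exact ptFact_conj_of_normal hn
    have s4 := exists_stage D c hc i₀ ι₀ (conjPt ι₀) hcj.fact
    obtain ⟨j, φ, ⟨⟨h1, h2⟩, h3⟩, h4⟩ := exists_common i₀
      (fun j φ => (Fact (D.map φ) ι₀ (mulPt ι₀) ∧ Fact (D.map φ) ι₀ (onePt G₀)) ∧
        Fact (D.map φ) ι₀ (invPt ι₀))
      (fun j φ => Fact (D.map φ) ι₀ (conjPt ι₀))
      (fun φ b h => ⟨⟨Fact.restage D i₀ ι₀ h.1.1 b, Fact.restage D i₀ ι₀ h.1.2 b⟩,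
        Fact.restage D i₀ ι₀ h.2 b⟩)
      (fun φ b h => Fact.restage D i₀ ι₀ h b) k1 s4
    obtain ⟨str, hstr⟩ := grp_of_ptFact (f := D.map φ) (jH := ι₀) h1.ptFact h2.ptFact h3.ptFact
    refine ⟨j, φ, str, hstr, ?_⟩
    letI := str
    exact normal_of_ptFact h4.ptFact

end Groth.Agent.S18878
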