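import Groth.Statements.S18879
import Groth.Agent.S9687
import Groth.Agent.H54.FibreTdeg
import Groth.Agent.H9.DimFormulaEq

set_option autoImplicit false
universe u
open CategoryTheory AlgebraicGeometry
open Resolve

namespace Groth.Agent.S18879


section Helpers
open AlgebraicGeometry CategoryTheory CategoryTheory.Limits TopologicalSpace

lemma trdeg_eq_zero_of_surjective {K L : Type u} [Field K] [Field L] (φ : K →+* L)
    (h : Function.Surjective φ) : @Algebra.trdeg K L _ _ φ.toAlgebra = 0 := by
  letI := φ.toAlgebra
  have hsurj : Function.Surjective (algebraMap K L) := h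
  haveI : Algebra.IsIntegral K L := Algebra.isIntegral_of_surjective hsurj
  exact trdeg_eq_zero

end Helpers


/-- Let f : Y ⟶ X be a morphism locally of finite type between Noetherian separated schemes which is
birational: it maps the maximal points of Y bijectively onto the maximal points of X, and over every
maximal point of X its fibre is one point with the same residue field. Then for every point y of Y,
the Krull dimension of the local ring of Y at y is at most the Krull dimension of the local ring of
X at f y (the codimension of a point does not increase along f). -/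
theorem result {X Y : Scheme.{u}} (f : Y ⟶ X)
    [IsNoetherian X] [X.IsSeparated] [IsNoetherian Y] [Y.IsSeparated] [LocallyOfFiniteType f]
    (hf : RadPt.IsBirational f) (y : Y) :
    ringKrullDim (Y.presheaf.stalk y) ≤ ringKrullDim (X.presheaf.stalk (f.base y)) := by
  have hn0 := Groth.Agent.H54.trdeg_fiber_eq f (f.base y) (f.asFiber y)
  have hy : f.fiberι (f.base y) (f.asFiber y) = y := f.fiberι_asFiber y
  have hn := (Groth.Agent.H9.DimFormulaEq.trdeg_congr_point f hy).symm.trans hn0
  have hE : ∀ ξ : Y, closure {ξ} ∈ irreducibleComponents ↥Y → ξ ⤳ y →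
      @Algebra.trdeg (X.residueField (f.base ξ)) (Y.residueField ξ) _ _
        (f.residueFieldMap ξ).hom.toAlgebra ≤ ((0 : ℕ) : Cardinal.{u}) := by
    intro ξ hξ _
    have hξg : ξ ∈ genericPoints Y := hξ
    have hfξ : f.base ξ ∈ genericPoints X := hf.1.mapsTo hξg
    have hbij := (hf.2 (f.base ξ) hfξ).2 ξ rfl
    exact le_of_eq ((trdeg_eq_zero_of_surjective _ hbij.2).trans Nat.cast_zero.symm)
  have hineq := Groth.Agent.S9687.result f y
    (Groth.Agent.H54.tdeg (Groth.Agent.H54.fiberQ f (f.base y)) (f.asFiber y)) 0 hn hE
  calc ringKrullDim (Y.presheaf.stalk y)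
      ≤ ringKrullDim (Y.presheaf.stalk y) +
        ((Groth.Agent.H54.tdeg (Groth.Agent.H54.fiberQ f (f.base y)) (f.asFiber y) : ℕ) :
          WithBot ℕ∞) := le_add_of_nonneg_right (Nat.cast_nonneg _)
    _ ≤ ringKrullDim (X.presheaf.stalk (f.base y)) + ((0 : ℕ) : WithBot ℕ∞) := hineq
    _ = ringKrullDim (X.presheaf.stalk (f.base y)) := by simp

end Groth.Agent.S18879
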