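import Groth.Statements.S1888
import Mathlib
import Groth.Agent.H37.GrpdCalc3
open Groth.Agent.H37.GrpdCalc

set_option autoImplicit false
universe u
open CategoryTheory CategoryTheory.Limits AlgebraicGeometry
open Grpd

namespace Groth.Agent.S1888

/-- Let (U, R, s, t, c) be a groupoid scheme over S with U the spectrum of a field k, and r a point of R
such that both s and t induce isomorphisms from k to κ(r). Then there is an automorphism of the
scheme R carrying the identity point e to r. (The source's automorphism is x ↦ c(r, x); only the
existence of an automorphism moving e to r is stated here.) (A groupoid scheme carries U, R, s, t,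
c, e, i over S with the groupoid axioms on T-points; 'finite locally free' is finite, flat and
locally of finite presentation; C ⊂ Γ(U) is the ring of functions a with s♯(a) = t♯(a) and M = Spec
C.) -/
theorem result (S : Scheme.{u}) (G : Grpd.GroupoidScheme S) (k : Type u) [Field k] (eU : G.U ≅ Spec (CommRingCat.of k)) (r : G.R) (hs : IsIso (G.s.residueFieldMap r)) (ht : IsIso (G.t.residueFieldMap r)) : ∃ φ : G.R ≅ G.R, φ.hom (G.e (eU.inv (IsLocalRing.closedPoint k))) = r := by
  haveI := hs
  haveI := ht
  haveI hτ : IsIso (G.R.fromSpecResidueField r ≫ G.t) := by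
    rw [← Scheme.Hom.SpecMap_residueFieldMap_fromSpecResidueField]
    haveI := Groth.Agent.H37.isIso_fromSpecResidueField_of_iso_spec_field k eU (G.t r)
    infer_instance
  haveI hσ : IsIso (G.R.fromSpecResidueField r ≫ G.s) := by
    rw [← Scheme.Hom.SpecMap_residueFieldMap_fromSpecResidueField]
    haveI := Groth.Agent.H37.isIso_fromSpecResidueField_of_iso_spec_field k eU (G.s r)
    infer_instance
  have h0 : (inv (G.R.fromSpecResidueField r ≫ G.s) ≫ G.R.fromSpecResidueField r) ≫ G.s =
      𝟙 G.U := by
    rw [Category.assoc, IsIso.inv_hom_id]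
  haveI : IsIso ((inv (G.R.fromSpecResidueField r ≫ G.s) ≫ G.R.fromSpecResidueField r) ≫ G.t) := by
    rw [Category.assoc]; infer_instance
  obtain ⟨φ, hφ⟩ := exists_translation G
    (inv (G.R.fromSpecResidueField r ≫ G.s) ≫ G.R.fromSpecResidueField r) h0
  refine ⟨φ, ?_⟩
  rw [← Scheme.Hom.comp_apply, hφ, Scheme.Hom.comp_apply, Scheme.fromSpecResidueField_apply]

end Groth.Agent.S1888
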