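import Groth.Statements.S18884
import Mathlib.Algebra.Group.Subgroup.Basic

set_option autoImplicit false
universe v u w
open CategoryTheory CategoryTheory.Limits
open Desc

namespace Groth.Agent.S18884


section
variable {C : Type u} [Category.{v} C]

lemma mca (F : C ⥤ AddCommGrpCat.{w}) {X Y Z : C} (f : X ⟶ Y) (g : Y ⟶ Z) (x : F.obj X) :
    (F.map (f ≫ g)).hom x = (F.map g).hom ((F.map f).hom x) := by
  rw [F.map_comp, AddCommGrpCat.hom_comp]; rfl

lemma nat_apply (D : ObjectProperty C) (F G : C ⥤ AddCommGrpCat.{w}) (γ : D.ι ⋙ F ⟶ D.ι ⋙ G)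
    {Z Y : C} (hZ : D Z) (hY : D Y) (g : Z ⟶ Y) (z : F.obj Z) :
    (γ.app ⟨Y, hY⟩).hom ((F.map g).hom z) = (G.map g).hom ((γ.app ⟨Z, hZ⟩).hom z) := by
  have h := γ.naturality (ObjectProperty.homMk g : (⟨Z, hZ⟩ : D.FullSubcategory) ⟶ ⟨Y, hY⟩)
  have h2 := congrArg (fun m => m.hom z) h
  exact h2

variable [HasPullbacks C] (W : MorphismProperty C) [W.IsStableUnderBaseChange] [W.IsStableUnderComposition]
    (D : ObjectProperty C) (hD : ∀ X : C, ∃ (Y : C) (π : Y ⟶ X), W π ∧ D Y)

include hD in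
theorem exists_ext (F G : C ⥤ AddCommGrpCat.{w})
    (hF : ∀ ⦃Y X : C⦄ (π : Y ⟶ X), W π → Function.Surjective (F.map π).hom ∧
          (F.map π).hom.ker = ((F.map (pullback.fst π π)).hom - (F.map (pullback.snd π π)).hom).range)
    (γ : D.ι ⋙ F ⟶ D.ι ⋙ G) (X : C) :
    ∃ φ : F.obj X →+ G.obj X, ∀ (Y : C) (hY : D Y) (h : Y ⟶ X) (y : F.obj Y),
      φ ((F.map h).hom y) = (G.map h).hom ((γ.app ⟨Y, hY⟩).hom y) := by
  obtain ⟨Y₀, π, hπ, hY₀⟩ := hD X
  obtain ⟨hsurj, hker⟩ := hF π hπ
  let ψ : F.obj Y₀ →+ G.obj X := (G.map π).hom.comp (γ.app ⟨Y₀, hY₀⟩).hom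
  have hψ : (F.map π).hom.ker ≤ ψ.ker := by
    intro y hy
    rw [hker] at hy
    obtain ⟨z, rfl⟩ := hy
    obtain ⟨Z, q, hq, hZ⟩ := hD (pullback π π)
    obtain ⟨z', rfl⟩ := (hF q hq).1 z
    rw [AddMonoidHom.mem_ker]
    change ψ ((F.map (pullback.fst π π)).hom ((F.map q).hom z') -
      (F.map (pullback.snd π π)).hom ((F.map q).hom z')) = 0
    rw [← mca, ← mca, map_sub]
    change (G.map π).hom ((γ.app ⟨Y₀, hY₀⟩).hom ((F.map (q ≫ pullback.fst π π)).hom z')) -
      (G.map π).hom ((γ.app ⟨Y₀, hY₀⟩).hom ((F.map (q ≫ pullback.snd π π)).hom z')) = 0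
    rw [nat_apply D F G γ hZ hY₀, nat_apply D F G γ hZ hY₀, ← mca, ← mca, Category.assoc,
      Category.assoc, pullback.condition, sub_self]
  let φ : F.obj X →+ G.obj X := (F.map π).hom.liftOfSurjective hsurj ⟨ψ, hψ⟩
  have hφ : ∀ y, φ ((F.map π).hom y) = ψ y := fun y =>
    AddMonoidHom.liftOfRightInverse_comp_apply _ _ _ ⟨ψ, hψ⟩ y
  refine ⟨φ, ?_⟩
  intro Y hY h y
  have ha : W (pullback.fst h π) := W.pullback_fst h π hπ
  obtain ⟨Z, c, hc, hZ⟩ := hD (pullback h π)
  have hca : W (c ≫ pullback.fst h π) := W.comp_mem _ _ hc ha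
  obtain ⟨z, rfl⟩ := (hF _ hca).1 y
  rw [← mca, Category.assoc, pullback.condition, ← Category.assoc, mca, hφ]
  change (G.map π).hom ((γ.app ⟨Y₀, hY₀⟩).hom ((F.map (c ≫ pullback.snd h π)).hom z)) = _
  rw [nat_apply D F G γ hZ hY₀, nat_apply D F G γ hZ hY, ← mca, ← mca, Category.assoc, Category.assoc,
    pullback.condition]

end

/-- Let C be a category with pullbacks equipped with a class W of morphisms, the covers, stable under
base change and under composition. An abelian cosheaf is a functor F : C ⥤ Ab such that for every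
cover π : Y ⟶ X the map F(π) is surjective and its kernel is the image of F(p₁) − F(p₂), where p₁,
p₂ : Y ×_X Y ⟶ Y are the two projections. If D is a full subcategory of C such that every object of
C is the target of a cover whose source lies in D, then the restriction functor from the full
subcategory of abelian cosheaves in C ⥤ Ab to D ⥤ Ab is full and faithful. -/
theorem result {C : Type u} [Category.{v} C]
    [HasPullbacks C] (W : MorphismProperty C) [W.IsStableUnderBaseChange] [W.IsStableUnderComposition]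
    (D : ObjectProperty C) (hD : ∀ X : C, ∃ (Y : C) (π : Y ⟶ X), W π ∧ D Y) :
    (ObjectProperty.ι (fun F : C ⥤ AddCommGrpCat.{w} =>
        ∀ ⦃Y X : C⦄ (π : Y ⟶ X), W π → Function.Surjective (F.map π).hom ∧
          (F.map π).hom.ker = ((F.map (pullback.fst π π)).hom - (F.map (pullback.snd π π)).hom).range) ⋙
      (Functor.whiskeringLeft D.FullSubcategory C AddCommGrpCat.{w}).obj D.ι).Full ∧
    (ObjectProperty.ι (fun F : C ⥤ AddCommGrpCat.{w} =>
        ∀ ⦃Y X : C⦄ (π : Y ⟶ X), W π → Function.Surjective (F.map π).hom ∧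
          (F.map π).hom.ker = ((F.map (pullback.fst π π)).hom - (F.map (pullback.snd π π)).hom).range) ⋙
      (Functor.whiskeringLeft D.FullSubcategory C AddCommGrpCat.{w}).obj D.ι).Faithful := by
  refine ⟨⟨?_⟩, ⟨?_⟩⟩
  · intro F G γ
    have hex := exists_ext W D hD F.obj G.obj F.property γ
    choose φ hφ using hex
    refine ⟨ObjectProperty.homMk { app := fun X => AddCommGrpCat.ofHom (φ X), naturality := ?_ }, ?_⟩
    · intro X X' f
      apply AddCommGrpCat.hom_ext
      apply AddMonoidHom.ext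
      intro x
      obtain ⟨Y, π, hπ, hY⟩ := hD X
      obtain ⟨y, rfl⟩ := (F.property π hπ).1 x
      change φ X' ((F.obj.map f).hom ((F.obj.map π).hom y)) =
        (G.obj.map f).hom (φ X ((F.obj.map π).hom y))
      rw [← mca, hφ X' Y hY, hφ X Y hY, mca]
    · apply NatTrans.ext
      funext Y
      apply AddCommGrpCat.hom_ext
      apply AddMonoidHom.ext
      intro y
      change φ Y.obj y = (γ.app Y).hom y
      have := hφ Y.obj Y.obj Y.property (𝟙 _) y
      simpa using this
  · intro F G α β h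
    apply ObjectProperty.hom_ext
    apply NatTrans.ext
    funext X
    apply AddCommGrpCat.hom_ext
    apply AddMonoidHom.ext
    intro x
    obtain ⟨Y, π, hπ, hY⟩ := hD X
    obtain ⟨y, rfl⟩ := (F.property π hπ).1 x
    have h1 : ∀ (α : F ⟶ G), (α.hom.app X).hom ((F.obj.map π).hom y) =
        (G.obj.map π).hom ((α.hom.app Y).hom y) := by
      intro α
      have := α.hom.naturality π
      exact congrArg (fun m => m.hom y) this
    rw [h1, h1]
    have h2 : α.hom.app Y = β.hom.app Y := by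
      have := congrArg (fun m => m.app ⟨Y, hY⟩) h
      exact this
    rw [h2]

end Groth.Agent.S18884
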