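import Groth.Statements.S18887
import Mathlib.RingTheory.Trace.Basic
import Mathlib.LinearAlgebra.Matrix.Charpoly.Coeff
import Mathlib.LinearAlgebra.Matrix.Charpoly.LinearMap
import Mathlib.LinearAlgebra.Dimension.Constructions
import Mathlib.Tactic.LinearCombination
import Mathlib.Tactic.Abel

set_option autoImplicit false
universe u v
open DblCov

namespace Groth.Agent.S18887

open Polynomial in
theorem nontriv_of_finrank {A : Type u} {B : Type v} [CommRing A] [CommRing B] [Algebra A B]
    (hrk : Module.finrank A B = 2) : Nontrivial A := by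
  by_contra h
  rw [not_nontrivial_iff_subsingleton] at h
  have : Module.finrank A B = 1 := by
    simp [Module.finrank, rank_subsingleton]
  omega

open Polynomial in
theorem ch2 {A : Type u} {B : Type v} [CommRing A] [CommRing B] [Algebra A B]
    [Module.Free A B] [Module.Finite A B] (hrk : Module.finrank A B = 2) (x : B) :
    ∃ c : A, x * x = algebraMap A B (Algebra.trace A B x) * x + algebraMap A B c := by
  classical
  have := nontriv_of_finrank hrk
  let ι := Module.Free.ChooseBasisIndex A B
  let bs : Module.Basis ι A B := Module.Free.chooseBasis A B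
  have hcard : Fintype.card ι = 2 := by rw [← Module.finrank_eq_card_chooseBasisIndex, hrk]
  have hne : Nonempty ι := by
    rw [← Fintype.card_pos_iff, hcard]; norm_num
  set M := Algebra.leftMulMatrix bs x with hMdef
  have hM := Matrix.aeval_self_charpoly M
  have hdeg : M.charpoly.natDegree = 2 := by rw [Matrix.charpoly_natDegree_eq_dim, hcard]
  have hmonic := Matrix.charpoly_monic M
  have htr : Algebra.trace A B x = - M.charpoly.coeff 1 := by
    rw [Algebra.trace_eq_matrix_trace bs, Matrix.trace_eq_neg_charpoly_coeff, hcard]
  have hp : M.charpoly = X ^ 2 + C (M.charpoly.coeff 1) * X + C (M.charpoly.coeff 0) := by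
    conv_lhs => rw [Polynomial.as_sum_range M.charpoly, hdeg]
    have h2 : M.charpoly.coeff 2 = 1 := by
      have := hmonic.coeff_natDegree
      rwa [hdeg] at this
    simp only [Finset.sum_range_succ, Finset.range_zero, Finset.sum_empty, h2, zero_add,
      ← Polynomial.C_mul_X_pow_eq_monomial, pow_zero, mul_one, pow_one, C_1, one_mul]
    ring
  rw [hp] at hM
  simp only [map_add, map_mul, map_pow, aeval_X, aeval_C] at hM
  refine ⟨- M.charpoly.coeff 0, ?_⟩
  apply Algebra.leftMulMatrix_injective bs
  rw [htr]
  simp only [map_add, map_mul, map_neg, AlgHom.commutes]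
  rw [← hMdef]
  rw [sq] at hM
  have h1 : M * M = - (algebraMap A (Matrix ι ι A) (M.charpoly.coeff 0)) - (algebraMap A (Matrix ι ι A) (M.charpoly.coeff 1) * M) :=
    eq_sub_of_add_eq (eq_neg_of_add_eq_zero_left hM)
  rw [h1, neg_mul]
  abel

/-- Let A be a commutative ring in which 2 is invertible and B a commutative A-algebra which is free of
rank 2 as an A-module and whose trace form tr : B → A has kernel free of rank 1 over A. Then σ(b) =
tr(b) − b defines an A-algebra endomorphism σ of B with σ ≠ id and σ ∘ σ = id, and the elements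
fixed by σ are exactly the image of A in B. -/
theorem result {A : Type u} {B : Type v} [CommRing A] [CommRing B]
    [Algebra A B] (h2 : IsUnit (2 : A)) [Module.Free A B] [Module.Finite A B]
    (hrk : Module.finrank A B = 2)
    [Module.Free A (LinearMap.ker (Algebra.trace A B))]
    (hker : Module.finrank A (LinearMap.ker (Algebra.trace A B)) = 1) :
    ∃ σ : B →ₐ[A] B, (∀ b : B, σ b = algebraMap A B (Algebra.trace A B b) - b) ∧
      σ ≠ AlgHom.id A B ∧ σ.comp σ = AlgHom.id A B ∧
      ∀ b : B, σ b = b ↔ b ∈ Set.range (algebraMap A B) := by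
  have hnt : Nontrivial A := nontriv_of_finrank hrk
  obtain ⟨u, hu⟩ := h2
  have htr_alg : ∀ a : A, Algebra.trace A B (algebraMap A B a) = 2 * a := by
    intro a
    rw [Algebra.trace_algebraMap, hrk, two_mul, two_nsmul]
  have htr_smul : ∀ (a : A) (b : B), Algebra.trace A B (algebraMap A B a * b) = a * Algebra.trace A B b := by
    intro a b
    rw [← Algebra.smul_def, map_smul, smul_eq_mul]
  have hCH := ch2 (A := A) (B := B) hrk
  have hcancel : ∀ a a' : A, 2 * a = 2 * a' → a = a' := by
    intro a a' h
    rw [← hu] at h
    exact u.isUnit.mul_left_cancel h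
  have hcancelB : ∀ b b' : B, 2 * b = 2 * b' → b = b' := by
    intro b b' h
    have h2B : IsUnit (2 : B) := by
      have := u.isUnit.map (algebraMap A B)
      rwa [hu, map_ofNat] at this
    exact h2B.mul_left_cancel h
  have hmul : ∀ b c : B, algebraMap A B (Algebra.trace A B (b * c)) - b * c =
      (algebraMap A B (Algebra.trace A B b) - b) * (algebraMap A B (Algebra.trace A B c) - c) := by
    intro b c
    obtain ⟨cb, hb⟩ := hCH b
    obtain ⟨cc, hc⟩ := hCH c
    obtain ⟨cbc, hbc⟩ := hCH (b + c)
    have hx : algebraMap A B (Algebra.trace A B b) * c + algebraMap A B (Algebra.trace A B c) * b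
        - 2 * (b * c) = algebraMap A B (cb + cc - cbc) := by
      simp only [map_add, map_sub] at hbc ⊢
      linear_combination hb + hc - hbc
    have ht := congrArg (Algebra.trace A B) hx
    rw [map_sub, map_add, htr_smul, htr_smul, htr_alg] at ht
    have ht2 : Algebra.trace A B (2 * (b * c)) = 2 * Algebra.trace A B (b * c) := by
      rw [two_mul, map_add, two_mul]
    rw [ht2] at ht
    have hval : cb + cc - cbc = Algebra.trace A B b * Algebra.trace A B c - Algebra.trace A B (b * c) := by
      apply hcancel
      linear_combination -ht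
    rw [hval] at hx
    simp only [map_sub, map_mul] at hx
    linear_combination hx
  let σl : B →ₗ[A] B := (Algebra.linearMap A B).comp (Algebra.trace A B) - LinearMap.id
  have hσl : ∀ b, σl b = algebraMap A B (Algebra.trace A B b) - b := fun b => rfl
  let σ : B →ₐ[A] B := AlgHom.ofLinearMap σl (by
      have h1 : Algebra.trace A B (1 : B) = 2 := by
        have := htr_alg 1
        rwa [map_one, mul_one] at this
      rw [hσl, h1, map_ofNat]
      norm_num) (by
      intro b c
      rw [hσl, hσl, hσl, hmul])
  have hσ : ∀ b, σ b = algebraMap A B (Algebra.trace A B b) - b := fun b => rfl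
  refine ⟨σ, hσ, ?_, ?_, ?_⟩
  · intro hid
    have hker0 : ∀ b ∈ LinearMap.ker (Algebra.trace A B), b = 0 := by
      intro b hb
      have h1 := hσ b
      rw [hid, LinearMap.mem_ker.mp hb, map_zero, zero_sub] at h1
      simp only [AlgHom.coe_id, id] at h1
      apply hcancelB
      rw [mul_zero, two_mul]
      nth_rewrite 1 [h1]
      exact neg_add_cancel b
    have hbot : LinearMap.ker (Algebra.trace A B) = ⊥ := by
      rw [eq_bot_iff]
      intro b hb
      exact (Submodule.mem_bot A).mpr (hker0 b hb)
    rw [hbot, finrank_bot] at hker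
    exact zero_ne_one hker
  · ext b
    simp only [AlgHom.comp_apply, AlgHom.coe_id, id]
    rw [hσ, hσ, map_sub, htr_alg, map_sub, map_mul, map_ofNat]
    ring
  · intro b
    rw [hσ]
    constructor
    · intro h
      refine ⟨(↑u⁻¹ : A) * Algebra.trace A B b, ?_⟩
      apply hcancelB
      rw [map_mul, ← mul_assoc]
      have : (2 : B) * algebraMap A B (↑u⁻¹ : A) = 1 := by
        rw [← map_ofNat (algebraMap A B) 2, ← map_mul, ← hu, Units.mul_inv, map_one]
      rw [this, one_mul]
      linear_combination h
    · rintro ⟨a, rfl⟩
      rw [htr_alg, map_mul, map_ofNat]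
      ring

end Groth.Agent.S18887
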