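import Groth.Statements.S18888
import Mathlib.FieldTheory.Minpoly.IsIntegrallyClosed
import Mathlib.RingTheory.Localization.NumDen
import Mathlib.RingTheory.Polynomial.RationalRoot
import Mathlib.LinearAlgebra.FiniteDimensional.Lemmas
import Mathlib.Tactic.LinearCombination
import Mathlib.Tactic.Ring
import Mathlib.Tactic.FieldSimp
import Mathlib.Tactic.ComputeDegree

set_option autoImplicit false
universe u v w
open CAlg

namespace Groth.Agent.S18888

/-- Let A be a unique factorisation domain in which 2 is invertible, with fraction field K, and let L ⊇
K be a quadratic extension field (of degree 2 over K) containing an element y ∉ K whose square is a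
squarefree element d of A. Then the integral closure of A in L equals the A-subalgebra A[y]
generated by y. -/
theorem result {A : Type u} {K : Type v} {L : Type w}
    [CommRing A] [IsDomain A] [UniqueFactorizationMonoid A] [Field K] [Algebra A K] [IsFractionRing A K]
    [Field L] [Algebra K L] [Algebra A L] [IsScalarTower A K L]
    (h2 : IsUnit (2 : A)) (hL : Module.finrank K L = 2)
    (d : A) (hd : Squarefree d) (y : L) (hy : y * y = algebraMap A L d)
    (hyK : y ∉ Set.range (algebraMap K L)) :
    integralClosure A L = Algebra.adjoin A {y} := by
  classical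
  have : FiniteDimensional K L := Module.finite_of_finrank_pos (by rw [hL]; norm_num)
  have hyint : IsIntegral A y := by
    refine ⟨Polynomial.X ^ 2 - Polynomial.C d, Polynomial.monic_X_pow_sub_C d (by norm_num), ?_⟩
    simp [pow_two, hy]
  apply le_antisymm
  · intro z hz
    have hzint : IsIntegral A z := hz
    have hLI : LinearIndependent K ![(1 : L), y] := by
      rw [LinearIndependent.pair_iff]
      intro s t hst
      have ht : t = 0 := by
        by_contra ht
        apply hyK
        refine ⟨-s / t, ?_⟩
        have h1 : t • y = -(s • (1 : L)) := by linear_combination hst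
        have h3 : y = t⁻¹ • (t • y) := by rw [smul_smul, inv_mul_cancel₀ ht, one_smul]
        rw [h3, h1, Algebra.algebraMap_eq_smul_one, smul_neg, smul_smul, ← neg_smul]
        congr 1
        field_simp
      subst ht
      rw [zero_smul, add_zero] at hst
      refine ⟨?_, rfl⟩
      have := (smul_eq_zero.mp hst)
      rcases this with h | h
      · exact h
      · exact absurd h one_ne_zero
    have hspan : Submodule.span K (Set.range ![(1 : L), y]) = ⊤ :=
      hLI.span_eq_top_of_card_eq_finrank' (by simp [hL])
    have hzmem : z ∈ Submodule.span K (Set.range ![(1 : L), y]) := by rw [hspan]; trivial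
    rw [Matrix.range_cons_cons_empty, Submodule.mem_span_pair] at hzmem
    obtain ⟨a, b, rfl⟩ := hzmem
    by_cases hb : b = 0
    · subst hb
      rw [zero_smul, add_zero, ← Algebra.algebraMap_eq_smul_one] at hzint ⊢
      rw [isIntegral_algebraMap_iff (algebraMap K L).injective, IsIntegrallyClosed.isIntegral_iff] at hzint
      obtain ⟨a', rfl⟩ := hzint
      rw [← IsScalarTower.algebraMap_apply]
      exact Subalgebra.algebraMap_mem _ _
    · have hzK : a • (1 : L) + b • y ∉ (algebraMap K L).range := by
        rintro ⟨c, hc⟩
        rw [Algebra.algebraMap_eq_smul_one] at hc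
        have h0 : (a - c) • (1 : L) + b • y = 0 := by
          rw [sub_smul]; linear_combination -hc
        exact hb ((LinearIndependent.pair_iff.mp hLI) _ _ h0).2
      set z := a • (1 : L) + b • y with hzdef
      have hm2 : 2 ≤ (minpoly K z).natDegree :=
        (minpoly.two_le_natDegree_iff (IsIntegral.of_finite K z)).mpr hzK
      obtain ⟨c, hc⟩ : ∃ c : K, c = a ^ 2 - b ^ 2 * algebraMap A K d := ⟨_, rfl⟩
      set q : Polynomial K := Polynomial.X ^ 2 - Polynomial.C (2 * a) * Polynomial.X +
        Polynomial.C c with hq
      have hqmonic : q.Monic := by
        rw [hq]; monicity!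
      have hqdeg : q.natDegree ≤ 2 := by
        rw [hq]; compute_degree
      have hq0 : Polynomial.aeval z q = 0 := by
        have hd' : algebraMap K L (algebraMap A K d) = algebraMap A L d :=
          (IsScalarTower.algebraMap_apply A K L d).symm
        simp only [hq, hc, map_add, map_sub, map_mul, map_pow, Polynomial.aeval_X, Polynomial.aeval_C, hd']
        rw [hzdef, ← Algebra.algebraMap_eq_smul_one, Algebra.smul_def, map_ofNat]
        linear_combination (algebraMap K L b) ^ 2 * hy
      have hqm : q = minpoly K z :=
        Polynomial.eq_of_monic_of_dvd_of_natDegree_le (minpoly.monic (IsIntegral.of_finite K z)) hqmonic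
          (minpoly.dvd K z hq0) (hqdeg.trans hm2)
      rw [minpoly.isIntegrallyClosed_eq_field_fractions' K hzint] at hqm
      have hc1 : -(2 * a) = algebraMap A K ((minpoly A z).coeff 1) := by
        have := congrArg (fun p => Polynomial.coeff p 1) hqm
        simpa [hq, Polynomial.coeff_X, Polynomial.coeff_C, Polynomial.coeff_X_pow] using this
      have hc0 : a ^ 2 - b ^ 2 * algebraMap A K d = algebraMap A K ((minpoly A z).coeff 0) := by
        have := congrArg (fun p => Polynomial.coeff p 0) hqm
        rw [← hc]
        simpa [hq, Polynomial.coeff_X, Polynomial.coeff_C, Polynomial.coeff_X_pow] using this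
      obtain ⟨u, hu⟩ := h2.exists_right_inv
      have hu' : 2 * algebraMap A K u = 1 := by
        have := congrArg (algebraMap A K) hu
        rwa [map_mul, map_ofNat, map_one] at this
      set t₁ := (minpoly A z).coeff 1
      set t₀ := (minpoly A z).coeff 0
      have ha' : algebraMap A K (-(u * t₁)) = a := by
        rw [map_neg, map_mul, ← hc1]
        linear_combination a * hu'
      have he : algebraMap A K ((u * t₁) ^ 2 - t₀) = b ^ 2 * algebraMap A K d := by
        rw [map_sub, ← hc0, map_pow]
        have : algebraMap A K (u * t₁) = -a := by rw [← ha', map_neg, neg_neg]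
        rw [this]; ring
      set e := (u * t₁) ^ 2 - t₀
      have hpq : b * algebraMap A K (IsFractionRing.den A b) = algebraMap A K (IsFractionRing.num A b) := by
        have := IsLocalization.mk'_spec K (IsFractionRing.num A b) (IsFractionRing.den A b)
        rwa [IsFractionRing.mk'_num_den] at this
      set p := IsFractionRing.num A b
      set qd : A := (IsFractionRing.den A b : A) with hqd
      have hred : IsRelPrime p qd := IsFractionRing.num_den_reduced A b
      have heq : p ^ 2 * d = e * (qd * qd) := by
        apply IsFractionRing.injective A K
        rw [map_mul, map_mul, map_mul, map_pow, ← hpq, he]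
        ring
      have hdvd : qd * qd ∣ p ^ 2 * d := ⟨e, by rw [heq]; ring⟩
      have hrp : IsRelPrime (qd * qd) (p ^ 2) :=
        IsRelPrime.mul_left (hred.symm.pow_right) (hred.symm.pow_right)
      have hdvd2 : qd * qd ∣ d := hrp.dvd_of_dvd_mul_left hdvd
      have hunit : IsUnit qd := hd qd hdvd2
      obtain ⟨v, hv⟩ := hunit.exists_left_inv
      have hb' : algebraMap A K (p * v) = b := by
        rw [map_mul, ← hpq]
        have : algebraMap A K v * algebraMap A K qd = 1 := by
          rw [← map_mul, hv, map_one]
        linear_combination b * this
      have hz2 : z = algebraMap A L (-(u * t₁)) + algebraMap A L (p * v) * y := by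
        rw [hzdef, IsScalarTower.algebraMap_apply A K L, IsScalarTower.algebraMap_apply A K L (p * v), ha', hb',
          ← Algebra.algebraMap_eq_smul_one, Algebra.smul_def]
      rw [hz2]
      exact Subalgebra.add_mem _ (Subalgebra.algebraMap_mem _ _)
        (Subalgebra.mul_mem _ (Subalgebra.algebraMap_mem _ _) (Algebra.subset_adjoin rfl))
  · apply Algebra.adjoin_le
    intro x hx
    rw [Set.mem_singleton_iff] at hx
    subst hx
    exact hyint

end Groth.Agent.S18888
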