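import Mathlib
import Groth.Statements.S18889
-- import your own Groth.Agent.* helpers here

set_option autoImplicit false
universe u v w
open CAlg

namespace Groth.Agent.S18889

/-- Let R be a commutative ring, A a commutative R-algebra of finite presentation, and G a finite group
acting on A by R-algebra automorphisms such that the order of G is invertible in R. Then the ring of
invariants A^G is an R-algebra of finite presentation. (The source takes G to be a group of
automorphisms of A; here G acts through a possibly non-faithful action, which changes nothing since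
the invariants and the invertibility of the order only depend on the image of G.) -/
theorem result {R : Type u} {A : Type v} [CommRing R] [CommRing A]
    [Algebra R A] [Algebra.FinitePresentation R A]
    {G : Type w} [Group G] [Finite G] [MulSemiringAction G A] [SMulCommClass G R A]
    (hG : IsUnit ((Nat.card G : ℕ) : R)) :
    Algebra.FinitePresentation R (FixedPoints.subalgebra R A G) := by
  classical
  cases nonempty_fintype G
  obtain ⟨u, hu⟩ := hG
  -- the Reynolds operator
  let ρ : A → A := fun a => (↑u⁻¹ : R) • ∑ g : G, g • a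
  have hρfix : ∀ (a : A) (h : G), h • ρ a = ρ a := by
    intro a h
    show h • ((↑u⁻¹ : R) • ∑ g : G, g • a) = (↑u⁻¹ : R) • ∑ g : G, g • a
    rw [smul_comm, Finset.smul_sum]
    congr 1
    simp only [smul_smul]
    exact Fintype.sum_equiv (Equiv.mulLeft h) _ _ (fun _ => rfl)
  have hρid : ∀ b : A, (∀ g : G, g • b = b) → ρ b = b := by
    intro b hb
    show (↑u⁻¹ : R) • ∑ g : G, g • b = b
    simp only [hb, Finset.sum_const, Finset.card_univ]
    rw [← Nat.card_eq_fintype_card, ← Nat.cast_smul_eq_nsmul R, ← hu, smul_smul,
      Units.inv_mul, one_smul]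
  have hρmul : ∀ b a : A, (∀ g : G, g • b = b) → ρ (b * a) = b * ρ a := by
    intro b a hb
    show (↑u⁻¹ : R) • ∑ g : G, g • (b * a) = b * ((↑u⁻¹ : R) • ∑ g : G, g • a)
    simp only [smul_mul', hb]
    rw [← Finset.mul_sum, mul_smul_comm]
  have hρadd : ∀ a a' : A, ρ (a + a') = ρ a + ρ a' := by
    intro a a'
    show (↑u⁻¹ : R) • ∑ g : G, g • (a + a') =
      (↑u⁻¹ : R) • ∑ g : G, g • a + (↑u⁻¹ : R) • ∑ g : G, g • a'
    simp only [smul_add, Finset.sum_add_distrib]
  set B := FixedPoints.subalgebra R A G with hB
  have hmemB : ∀ b : A, b ∈ B ↔ ∀ g : G, g • b = b := fun b => Iff.rfl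
  -- additive Reynolds map into `B`
  let ρB : A →+ B :=
    { toFun := fun a => ⟨ρ a, (hmemB _).2 (hρfix a)⟩
      map_zero' := by
        apply Subtype.ext
        show ρ 0 = 0
        exact hρid 0 (fun g => smul_zero g)
      map_add' := fun a a' => Subtype.ext (hρadd a a') }
  have hρB_val : ∀ a : A, ((ρB a : B) : A) = ρ a := fun a => rfl
  have hρB_id : ∀ b : B, ρB (b : A) = b := fun b => Subtype.ext (hρid b.1 ((hmemB _).1 b.2))
  have hρB_mul : ∀ (b : B) (a : A), ρB ((b : A) * a) = b * ρB a := fun b a =>
    Subtype.ext (hρmul b.1 a ((hmemB _).1 b.2))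
  -- integrality and finiteness of `A` over `B`
  haveI : Algebra.IsInvariant B A G := ⟨fun b h => ⟨⟨b, (hmemB b).2 h⟩, rfl⟩⟩
  haveI hint : Algebra.IsIntegral B A := Algebra.IsInvariant.isIntegral B A G
  haveI hftBA : Algebra.FiniteType B A := Algebra.FiniteType.of_restrictScalars_finiteType R B A
  haveI hfinBA : Module.Finite B A := Algebra.IsIntegral.finite
  -- Artin–Tate: a finitely generated subalgebra `B₀` of `B` over which `A` is finite
  obtain ⟨B₀, hB₀fg, hB₀A⟩ := exists_subalgebra_of_fg R B A
    (Algebra.FiniteType.out : (⊤ : Subalgebra R A).FG) hfinBA.1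
  haveI : Module.Finite B₀ A := ⟨hB₀A⟩
  -- `B` is a quotient of `A` as a `B₀`-module
  let ρ₀ : A →ₗ[B₀] B :=
    { toFun := ρB
      map_add' := ρB.map_add
      map_smul' := by
        intro c a
        show ρB (c • a) = c • ρB a
        have h1 : c • a = (((c : B) : A)) * a := by
          rw [Algebra.smul_def]; rfl
        have h2 : c • ρB a = (c : B) * ρB a := by
          rw [Algebra.smul_def]; rfl
        rw [h1, h2, hρB_mul] }
  have hρ₀surj : Function.Surjective ρ₀ := fun b => ⟨(b : A), hρB_id b⟩
  haveI : Module.Finite B₀ B := Module.Finite.of_surjective ρ₀ hρ₀surj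
  haveI hftB : Algebra.FiniteType R B :=
    Algebra.FiniteType.trans (S := B₀) ((Subalgebra.fg_iff_finiteType B₀).1 hB₀fg) inferInstance
  -- present `B` as a quotient of a polynomial ring `P`
  obtain ⟨m, f, hf⟩ := Algebra.FiniteType.iff_quotient_mvPolynomial''.1 hftB
  letI algPB : Algebra (MvPolynomial (Fin m) R) B := f.toRingHom.toAlgebra
  letI algPA : Algebra (MvPolynomial (Fin m) R) A := ((algebraMap B A).comp f.toRingHom).toAlgebra
  haveI : IsScalarTower R (MvPolynomial (Fin m) R) B :=
    IsScalarTower.of_algebraMap_eq (fun x => (f.commutes x).symm)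
  haveI : IsScalarTower (MvPolynomial (Fin m) R) B A :=
    IsScalarTower.of_algebraMap_eq (fun x => rfl)
  haveI : IsScalarTower R (MvPolynomial (Fin m) R) A :=
    IsScalarTower.of_algebraMap_eq (fun x => by
      show algebraMap R A x = algebraMap B A (f (algebraMap R _ x))
      rw [f.commutes]; rfl)
  haveI : Algebra.FinitePresentation (MvPolynomial (Fin m) R) A :=
    Algebra.FinitePresentation.of_restrict_scalars_finitePresentation R (MvPolynomial (Fin m) R) A
  haveI : Module.Finite (MvPolynomial (Fin m) R) B :=
    Module.Finite.of_surjective (Algebra.linearMap (MvPolynomial (Fin m) R) B) hf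
  haveI : Module.Finite (MvPolynomial (Fin m) R) A := Module.Finite.trans B A
  haveI : Module.FinitePresentation (MvPolynomial (Fin m) R) A :=
    Module.FinitePresentation.of_finite_of_finitePresentation (MvPolynomial (Fin m) R) A
  -- `B` is a direct summand of `A` as a `P`-module
  let ρP : A →ₗ[MvPolynomial (Fin m) R] B :=
    { toFun := ρB
      map_add' := ρB.map_add
      map_smul' := by
        intro c a
        show ρB (c • a) = c • ρB a
        have h1 : c • a = (((f c : B) : A)) * a := by
          rw [Algebra.smul_def]; rfl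
        have h2 : c • ρB a = (f c : B) * ρB a := by
          rw [Algebra.smul_def]; rfl
        rw [h1, h2, hρB_mul] }
  let ι : B →ₗ[MvPolynomial (Fin m) R] A := (IsScalarTower.toAlgHom (MvPolynomial (Fin m) R) B A).toLinearMap
  have hιρ : ∀ b : B, ρP (ι b) = b := fun b => hρB_id b
  have hρPsurj : Function.Surjective ρP := fun b => ⟨ι b, hιρ b⟩
  have hker : (LinearMap.ker ρP).FG := by
    have : LinearMap.ker ρP = LinearMap.range (LinearMap.id - ι ∘ₗ ρP) := by
      apply le_antisymm
      · intro a ha
        refine ⟨a, ?_⟩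
        rw [LinearMap.mem_ker] at ha
        simp [ha]
      · rintro _ ⟨a, rfl⟩
        rw [LinearMap.mem_ker]
        simp [hιρ]
    rw [this]
    exact Submodule.fg_range _
  haveI : Module.FinitePresentation (MvPolynomial (Fin m) R) B :=
    Module.finitePresentation_of_surjective ρP hρPsurj hker
  have hkerf : (LinearMap.ker (Algebra.linearMap (MvPolynomial (Fin m) R) B)).FG :=
    Module.FinitePresentation.fg_ker (Algebra.linearMap (MvPolynomial (Fin m) R) B) hf
  refine Algebra.FinitePresentation.of_surjective (f := f) hf ?_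
  obtain ⟨s, hs⟩ := hkerf
  refine ⟨s, ?_⟩
  rw [Ideal.span, hs]
  ext x
  simp only [LinearMap.mem_ker, RingHom.mem_ker, Algebra.linearMap_apply]
  rfl

end Groth.Agent.S18889
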