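import Groth.Statements.S18890
-- import your own Groth.Agent.* helpers here

set_option autoImplicit false
universe u v w w'
open CAlg

namespace Groth.Agent.S18890

/-- Let R be a commutative ring, G a finite group whose order is invertible in R, M an R-module with an
R-linear action ρ of G and N an arbitrary R-module. Then the natural map M^G ⊗_R N → M ⊗_R N induced
by the inclusion of the invariants is injective, and its image is the submodule of invariants of M
⊗_R N under the action ρ ⊗ 1 (G acting on the first factor). (The source lets G be a group of
R-automorphisms of M; a possibly non-faithful linear action changes nothing.) -/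
theorem result {R : Type u} [CommRing R]
    {G : Type v} [Group G] [Finite G] (hG : IsUnit ((Nat.card G : ℕ) : R))
    {M : Type w} {N : Type w'} [AddCommGroup M] [Module R M] [AddCommGroup N] [Module R N]
    (ρ : Representation R G M) :
    Function.Injective (LinearMap.rTensor N ρ.invariants.subtype) ∧
      LinearMap.range (LinearMap.rTensor N ρ.invariants.subtype) =
        (ρ.tprod (Representation.trivial R G N)).invariants := by
  classical
  letI : Fintype G := Fintype.ofFinite G
  obtain ⟨c, hc⟩ := hG
  have hcard : ((Fintype.card G : ℕ) : R) = (c : R) := by rw [hc, Nat.card_eq_fintype_card]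
  let S : M →ₗ[R] M := ∑ g : G, ρ g
  have hS : ∀ (g : G) (m : M), ρ g (S m) = S m := by
    intro g m
    simp only [S, LinearMap.sum_apply, map_sum]
    rw [← Equiv.sum_comp (Equiv.mulLeft g) (fun h => ρ h m)]
    apply Finset.sum_congr rfl
    intro h _
    simp [map_mul]
  let e : M →ₗ[R] M := (↑c⁻¹ : R) • S
  have he_inv : ∀ m : M, e m ∈ ρ.invariants := by
    intro m g
    simp only [e, LinearMap.smul_apply, map_smul, hS]
  have he_id : ∀ m : M, m ∈ ρ.invariants → e m = m := by
    intro m hm
    have hSm : S m = (c : R) • m := by
      simp only [S, LinearMap.sum_apply]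
      rw [Finset.sum_congr rfl (fun g _ => hm g), Finset.sum_const, Finset.card_univ, ← hcard,
        Nat.cast_smul_eq_nsmul]
    simp only [e, LinearMap.smul_apply, hSm, smul_smul, Units.inv_mul, one_smul]
  let π : M →ₗ[R] ρ.invariants := e.codRestrict ρ.invariants he_inv
  have hπ1 : π ∘ₗ ρ.invariants.subtype = LinearMap.id := by
    ext v
    simp only [π, LinearMap.comp_apply, LinearMap.codRestrict_apply, Submodule.subtype_apply,
      LinearMap.id_apply]
    exact he_id v.1 v.2
  have hπ2 : ρ.invariants.subtype ∘ₗ π = e := by
    ext m
    rfl
  have htriv : ∀ g : G, (ρ.tprod (Representation.trivial R G N)) g = LinearMap.rTensor N (ρ g) := by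
    intro g
    rw [Representation.tprod_apply]
    have : (Representation.trivial R G N) g = LinearMap.id := by
      ext v
      simp
    rw [this]
    rfl
  refine ⟨?_, ?_⟩
  · apply Function.LeftInverse.injective (g := LinearMap.rTensor N π)
    intro x
    rw [← LinearMap.rTensor_comp_apply, hπ1, LinearMap.rTensor_id_apply]
  · apply le_antisymm
    · rintro x ⟨y, rfl⟩
      intro g
      rw [htriv, ← LinearMap.rTensor_comp_apply]
      congr 2
      ext v
      exact v.2 g
    · intro x hx
      refine ⟨LinearMap.rTensor N π x, ?_⟩
      rw [← LinearMap.rTensor_comp_apply, hπ2]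
      have he' : LinearMap.rTensor N e = (↑c⁻¹ : R) • ∑ g : G, LinearMap.rTensor N (ρ g) := by
        have h1 : LinearMap.rTensor N e = LinearMap.rTensorHom N e := rfl
        rw [h1]
        simp only [e, S, map_smul, map_sum]
        rfl
      rw [he']
      simp only [LinearMap.smul_apply, LinearMap.sum_apply]
      have : ∀ g : G, LinearMap.rTensor N (ρ g) x = x := by
        intro g
        rw [← htriv]
        exact hx g
      rw [Finset.sum_congr rfl (fun g _ => this g), Finset.sum_const, Finset.card_univ,
        ← Nat.cast_smul_eq_nsmul R, hcard, smul_smul, Units.inv_mul, one_smul]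

end Groth.Agent.S18890
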