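import Groth.Statements.S18899
import Mathlib.Algebra.Polynomial.GroupRingAction
import Mathlib.Algebra.Polynomial.Eval.Defs
import Mathlib.Algebra.Polynomial.Roots
import Mathlib.Algebra.Polynomial.Monomial
import Mathlib.Data.Fintype.EquivFin
import Mathlib.Tactic.Ring

set_option autoImplicit false
universe u v w
open CAlg

namespace Groth.Agent.S18899


open Polynomial in
theorem single {A : Type u} [CommRing A] {G : Type v} [Group G] [Fintype G] [MulSemiringAction G A]
    {K : Type w} [CommRing K] [IsDomain K] (f₁ f₂ : A →+* K)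
    (h : ∀ a : A, (∀ g : G, g • a = a) → f₁ a = f₂ a) (a : A) : ∃ γ : G, f₂ a = f₁ (γ • a) := by
  classical
  set P : A[X] := ∏ g : G, (X - C (g • a)) with hP
  have hinv : ∀ g : G, g • P = P := by
    intro g
    rw [hP, Finset.smul_prod']
    have : ∀ g' : G, g • (X - C (g' • a) : A[X]) = X - C ((g * g') • a) := by
      intro g'
      rw [smul_sub, smul_X, smul_C, mul_smul]
    simp_rw [this]
    exact Fintype.prod_equiv (Equiv.mulLeft g) _ _ (fun g' => rfl)
  have hcoeff : ∀ n, f₁ (P.coeff n) = f₂ (P.coeff n) := by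
    intro n
    apply h
    intro g
    rw [← coeff_smul, hinv g]
  have hmap : P.map f₁ = P.map f₂ := by
    ext n
    rw [coeff_map, coeff_map, hcoeff]
  have h0 : (P.map f₂).eval (f₂ a) = 0 := by
    rw [eval_map, eval₂_hom, hP, eval_prod]
    rw [Finset.prod_eq_zero (Finset.mem_univ (1 : G)), map_zero]
    simp
  rw [← hmap, hP, Polynomial.map_prod, eval_prod] at h0
  obtain ⟨g, _, hg⟩ := Finset.prod_eq_zero_iff.mp h0
  refine ⟨g, ?_⟩
  simp only [Polynomial.map_sub, map_X, map_C, eval_sub, eval_X, eval_C] at hg
  exact sub_eq_zero.mp hg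

/-- Let A be a commutative ring on which a finite group G acts by ring automorphisms, with ring of
invariants A^G, and let K be a field. If two ring homomorphisms f₁, f₂ : A → K have the same
restriction to A^G, then f₂ = f₁ ∘ γ for some γ ∈ G. -/
theorem result {A : Type u} [CommRing A] {G : Type v} [Group G] [Finite G]
    [MulSemiringAction G A] {K : Type w} [Field K] (f₁ f₂ : A →+* K)
    (h : ∀ a : A, (∀ g : G, g • a = a) → f₁ a = f₂ a) :
    ∃ γ : G, ∀ a : A, f₂ a = f₁ (γ • a) := by
  classical
  have := Fintype.ofFinite G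
  by_contra hcon
  push Not at hcon
  choose c hc using hcon
  let e : G ≃ Fin (Fintype.card G) := Fintype.equivFin G
  let p : Polynomial A := ∑ γ : G, Polynomial.monomial (e γ : ℕ) (c γ)
  have hcoeffp : ∀ γ : G, p.coeff (e γ : ℕ) = c γ := by
    intro γ
    simp only [p, Polynomial.finsetSum_coeff, Polynomial.coeff_monomial]
    rw [Finset.sum_eq_single γ]
    · simp
    · intro γ' _ hne
      rw [if_neg]
      intro heq
      exact hne (e.injective (Fin.ext heq))
    · intro hγ
      exact absurd (Finset.mem_univ γ) hγ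
  have h' : ∀ q : Polynomial A, (∀ g : G, g • q = q) →
      Polynomial.mapRingHom f₁ q = Polynomial.mapRingHom f₂ q := by
    intro q hq
    ext n
    simp only [Polynomial.coe_mapRingHom, Polynomial.coeff_map]
    apply h
    intro g
    rw [← Polynomial.coeff_smul, hq g]
  obtain ⟨γ, hγ⟩ := single (Polynomial.mapRingHom f₁) (Polynomial.mapRingHom f₂) h' p
  have h2 := congrArg (fun q => Polynomial.coeff q (e γ : ℕ)) hγ
  simp only [Polynomial.coe_mapRingHom, Polynomial.coeff_map, Polynomial.coeff_smul, hcoeffp] at h2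
  exact hc γ h2

end Groth.Agent.S18899
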