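import Groth.Statements.S1890
import Mathlib.AlgebraicGeometry.Morphisms.Immersion
import Mathlib.AlgebraicGeometry.Morphisms.Affine

set_option autoImplicit false
universe u
open CategoryTheory CategoryTheory.Limits AlgebraicGeometry
open Grpd

namespace Groth.Agent.S1890

section aux
open TopologicalSpace

/-- disjoint closed subsets of a prime spectrum are separated by `a + g = 1` -/
lemma exists_add_eq_one {A : Type u} [CommRing A] (Z T : Set (PrimeSpectrum A)) (hZ : IsClosed Z)
    (hT : IsClosed T) (hZT : Z ∩ T = ∅) :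
    ∃ a g : A, (∀ x : PrimeSpectrum A, x ∈ PrimeSpectrum.basicOpen a ∨
        x ∈ PrimeSpectrum.basicOpen g) ∧
      (∀ x ∈ Z, x ∉ PrimeSpectrum.basicOpen a) ∧ (∀ x ∈ T, x ∉ PrimeSpectrum.basicOpen g) := by
  have h1 : PrimeSpectrum.zeroLocus ((PrimeSpectrum.vanishingIdeal Z ⊔
      PrimeSpectrum.vanishingIdeal T : Ideal A) : Set A) = ∅ := by
    rw [PrimeSpectrum.zeroLocus_sup, PrimeSpectrum.zeroLocus_vanishingIdeal_eq_closure,
      PrimeSpectrum.zeroLocus_vanishingIdeal_eq_closure, hZ.closure_eq, hT.closure_eq, hZT]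
  have h2 := PrimeSpectrum.zeroLocus_empty_iff_eq_top.mp h1
  have h3 : (1 : A) ∈ PrimeSpectrum.vanishingIdeal Z ⊔ PrimeSpectrum.vanishingIdeal T := by
    rw [h2]; trivial
  obtain ⟨a, ha, g, hg, hag⟩ := Submodule.mem_sup.mp h3
  refine ⟨a, g, fun x => ?_, fun x hx => ?_, fun x hx => ?_⟩
  · by_contra hcon
    rw [not_or] at hcon
    obtain ⟨h4, h5⟩ := hcon
    rw [PrimeSpectrum.mem_basicOpen, not_not] at h4 h5
    have h6 : (1 : A) ∈ x.asIdeal := hag ▸ x.asIdeal.add_mem h4 h5
    exact x.isPrime.ne_top ((Ideal.eq_top_iff_one _).mpr h6)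
  · rw [PrimeSpectrum.mem_basicOpen, not_not]
    exact (PrimeSpectrum.mem_vanishingIdeal _ _).mp ha x hx
  · rw [PrimeSpectrum.mem_basicOpen, not_not]
    exact (PrimeSpectrum.mem_vanishingIdeal _ _).mp hg x hx

lemma main (A : Type u) [CommRing A] (V : Scheme.{u}) (j : V ⟶ Spec (CommRingCat.of A))
    [IsImmersion j] (f : A) (haff : IsAffineOpen (j ⁻¹ᵁ PrimeSpectrum.basicOpen f))
    (hcl : IsClosed (Set.range ⇑j ∩ PrimeSpectrum.zeroLocus {f})) : IsAffine V := by
  have hT : IsClosed (closure (Set.range j) \ Set.range j) := by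
    have h := j.isLocallyClosed_range.isOpen_coborder
    rw [coborder, isOpen_compl_iff] at h
    exact h
  have hZT : (Set.range ⇑j ∩ PrimeSpectrum.zeroLocus {f}) ∩
      (closure (Set.range j) \ Set.range j) = ∅ := by
    ext x
    simp only [Set.mem_inter_iff, Set.mem_sdiff, Set.mem_empty_iff_false, iff_false]
    rintro ⟨⟨h1, -⟩, -, h2⟩
    exact h2 h1
  obtain ⟨a, g, hcov, ha, hg⟩ := exists_add_eq_one (A := A)
    (Set.range ⇑j ∩ PrimeSpectrum.zeroLocus {f}) (closure (Set.range j) \ Set.range j) hcl hT hZT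
  have hjaff : IsAffineHom j := by
    refine isAffineHom_of_forall_exists_isAffineOpen j (fun x => ?_)
    rcases hcov x with hax | hgx
    · refine ⟨PrimeSpectrum.basicOpen a, hax, IsAffineOpen.Spec_basicOpen (R := CommRingCat.of A) a, ?_⟩
      have hle : j ⁻¹ᵁ (PrimeSpectrum.basicOpen a) ≤ j ⁻¹ᵁ (PrimeSpectrum.basicOpen f) := by
        intro v hv
        show j v ∈ PrimeSpectrum.basicOpen f
        by_contra hf
        have hfz : (j v : PrimeSpectrum A) ∈ PrimeSpectrum.zeroLocus ({f} : Set A) := by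
          intro t ht
          rw [Set.mem_singleton_iff.mp ht]
          by_contra h
          exact hf h
        exact ha _ ⟨⟨v, rfl⟩, hfz⟩ hv
      have hb : (Spec (CommRingCat.of A)).basicOpen ((Scheme.ΓSpecIso (CommRingCat.of A)).inv a) =
          PrimeSpectrum.basicOpen a := basicOpen_eq_of_affine (R := CommRingCat.of A) a
      have e1 : j ⁻¹ᵁ (PrimeSpectrum.basicOpen a) =
          V.basicOpen (j.appTop ((Scheme.ΓSpecIso (CommRingCat.of A)).inv a)) := by
        rw [← Scheme.preimage_basicOpen_top, hb]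
      have hle' : V.basicOpen (j.appTop ((Scheme.ΓSpecIso (CommRingCat.of A)).inv a)) ≤
          j ⁻¹ᵁ (PrimeSpectrum.basicOpen f) := e1 ▸ hle
      have e2 : V.basicOpen (V.presheaf.map
          (homOfLE (le_top : j ⁻¹ᵁ (PrimeSpectrum.basicOpen f) ≤ ⊤)).op
            (j.appTop ((Scheme.ΓSpecIso (CommRingCat.of A)).inv a))) =
          V.basicOpen (j.appTop ((Scheme.ΓSpecIso (CommRingCat.of A)).inv a)) := by
        rw [Scheme.basicOpen_res]
        exact inf_eq_right.mpr hle'
      rw [e1, ← e2]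
      exact haff.basicOpen _
    · refine ⟨PrimeSpectrum.basicOpen g, hgx, IsAffineOpen.Spec_basicOpen (R := CommRingCat.of A) g, ?_⟩
      obtain ⟨U, hU⟩ : ∃ U : (Spec (CommRingCat.of A)).Opens, U = PrimeSpectrum.basicOpen g :=
        ⟨_, rfl⟩
      have hmem : ∀ y, y ∈ U ↔ y ∈ (PrimeSpectrum.basicOpen g : (Spec (CommRingCat.of A)).Opens) :=
        fun y => by subst hU; exact Iff.rfl
      rw [← hU]
      have hUa : IsAffine U.toScheme := by
        have : IsAffineOpen U := hU ▸ IsAffineOpen.Spec_basicOpen (R := CommRingCat.of A) g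
        exact this
      have hr : Set.range (j ∣_ U) = U.ι ⁻¹' closure (Set.range j) := by
        ext u
        constructor
        · rintro ⟨v, rfl⟩
          apply subset_closure
          refine ⟨(j ⁻¹ᵁ U).ι v, ?_⟩
          rw [← Scheme.Hom.comp_apply, ← Scheme.Hom.comp_apply, morphismRestrict_ι]
        · intro hu
          have hu1 : U.ι u ∈ closure (Set.range j) := hu
          have hu2 : U.ι u ∈ (U : Set _) := by
            rw [← Scheme.Opens.range_ι]; exact ⟨u, rfl⟩
          have hu3 : U.ι u ∈ Set.range j := by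
            by_contra hne
            exact hg _ ⟨hu1, hne⟩ ((hmem _).mp hu2)
          obtain ⟨v, hv⟩ := hu3
          have hvU : v ∈ j ⁻¹ᵁ U := by
            show j v ∈ U
            rw [hv]; exact hu2
          have hv' : v ∈ Set.range (j ⁻¹ᵁ U).ι := by
            rw [Scheme.Opens.range_ι]; exact hvU
          obtain ⟨w, hw⟩ := hv'
          refine ⟨w, U.ι.isOpenEmbedding.injective ?_⟩
          rw [← Scheme.Hom.comp_apply, morphismRestrict_ι, Scheme.Hom.comp_apply, hw, hv]
      have hcli : IsClosedImmersion (j ∣_ U) := by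
        refine IsClosedImmersion.of_isPreimmersion _ ?_
        rw [hr]
        exact isClosed_closure.preimage U.ι.continuous
      exact isAffine_of_isAffineHom (j ∣_ U)
  exact isAffine_of_isAffineHom j

end aux

/-- Take a quasi-compact immersion j : V → Spec A and an element f ∈ A such that j⁻¹(D(f)) is affine and
j(V) ∩ V(f) is closed in Spec A. Then V is affine. -/
theorem result (A : Type u) [CommRing A] (V : Scheme.{u}) (j : V ⟶ Spec (CommRingCat.of A)) [IsImmersion j] [QuasiCompact j] (f : A) (haff : IsAffineOpen (j ⁻¹ᵁ PrimeSpectrum.basicOpen f)) (hcl : IsClosed (Set.range ⇑j ∩ PrimeSpectrum.zeroLocus {f})) : IsAffine V := by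
  exact main A V j f haff hcl

end Groth.Agent.S1890
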