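import Groth.Statements.S18905
import Mathlib
import Groth.Agent.H64.DualNumUnram

set_option autoImplicit false
universe u
open CategoryTheory CategoryTheory.Limits AlgebraicGeometry
open Mor

namespace Groth.Agent.S18905

/-- Let k be an algebraically closed field and X a scheme locally of finite type over k. Then X → Spec k
is formally unramified if and only if the map Hom_k(Spec k[ε], X) → Hom_k(Spec k, X) given by
restricting along the closed immersion of Spec k into Spec k[ε] (k[ε] the ring of dual numbers, ε ↦
0), is bijective; since that map is always surjective, the condition is stated as injectivity: two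
k-morphisms from Spec k[ε] to X which agree on Spec k are equal. -/
theorem result (k : Type u) [Field k] [IsAlgClosed k]
    {X : Scheme.{u}} (p : X ⟶ Spec (CommRingCat.of k)) [LocallyOfFiniteType p] :
    FormallyUnramified p ↔
      ∀ v₁ v₂ : Spec (CommRingCat.of (DualNumber k)) ⟶ X,
        v₁ ≫ p = Spec.map (CommRingCat.ofHom (algebraMap k (DualNumber k))) →
        v₂ ≫ p = Spec.map (CommRingCat.ofHom (algebraMap k (DualNumber k))) →
        Spec.map (CommRingCat.ofHom (TrivSqZeroExt.fstHom k k k).toRingHom) ≫ v₁ =
          Spec.map (CommRingCat.ofHom (TrivSqZeroExt.fstHom k k k).toRingHom) ≫ v₂ →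
        v₁ = v₂ := by
  constructor
  · intro hp v₁ v₂ h1 h2 h12
    have := hp
    have hsurj : Function.Surjective
        (CommRingCat.ofHom (TrivSqZeroExt.fstHom k k k).toRingHom) := by
      intro c
      exact ⟨TrivSqZeroExt.inl c, by simp⟩
    have : IsClosedImmersion
        (Spec.map (CommRingCat.ofHom (TrivSqZeroExt.fstHom k k k).toRingHom)) :=
      IsClosedImmersion.spec_of_surjective _ hsurj
    refine FormallyUnramified.hom_ext
      (Spec.map (CommRingCat.ofHom (TrivSqZeroExt.fstHom k k k).toRingHom)) ?_ p h12
      (h1.trans h2.symm)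
    refine ⟨2, Scheme.IdealSheafData.ext_of_isAffine ?_⟩
    show (Scheme.Hom.ker _).ideal ⟨⊤, _⟩ ^ 2 = ⊥
    rw [Scheme.Hom.ker_apply, eq_bot_iff, pow_two, Ideal.mul_le]
    intro x hx y hy
    rw [Ideal.mem_bot]
    have hnat := Scheme.ΓSpecIso_naturality
      (CommRingCat.ofHom (TrivSqZeroExt.fstHom k k k).toRingHom)
    have key : ∀ z, z ∈ RingHom.ker
        ((Spec.map (CommRingCat.ofHom (TrivSqZeroExt.fstHom k k k).toRingHom)).app ⊤).hom →
        TrivSqZeroExt.fst ((Scheme.ΓSpecIso (CommRingCat.of (DualNumber k))).hom z) = 0 := by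
      intro z hz
      have h3 := congrArg (fun φ => φ.hom z) hnat
      simp only [CommRingCat.hom_comp, RingHom.comp_apply] at h3
      rw [RingHom.mem_ker] at hz
      rw [show (Scheme.Hom.appTop (Spec.map (CommRingCat.ofHom
        (TrivSqZeroExt.fstHom k k k).toRingHom))).hom z = 0 from hz, map_zero] at h3
      exact h3.symm
    have hinj : Function.Injective (Scheme.ΓSpecIso (CommRingCat.of (DualNumber k))).hom :=
      (ConcreteCategory.bijective_of_isIso _).1
    apply hinj
    rw [map_mul, map_zero]
    apply TrivSqZeroExt.ext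
    · simp [key x hx]
    · simp [key x hx, key y hy]
  · intro H
    have hloc : IsZariskiLocalAtSource @AlgebraicGeometry.FormallyUnramified :=
      HasRingHomProperty.instIsZariskiLocalAtSource (P := @AlgebraicGeometry.FormallyUnramified)
    rw [IsZariskiLocalAtSource.iff_of_openCover (P := @AlgebraicGeometry.FormallyUnramified)
      X.affineOpenCover.openCover]
    intro i
    obtain ⟨ψ, hψ⟩ : ∃ ψ : CommRingCat.of k ⟶ X.affineOpenCover.X i,
        Spec.map ψ = X.affineOpenCover.f i ≫ p := ⟨Spec.preimage _, Spec.map_preimage _⟩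
    show FormallyUnramified (X.affineOpenCover.f i ≫ p)
    have hoi : IsOpenImmersion (X.affineOpenCover.f i) := X.affineOpenCover.map_prop i
    have hft : ψ.hom.FiniteType := by
      have h1 : LocallyOfFiniteType (X.affineOpenCover.f i ≫ p) := inferInstance
      rw [← hψ, HasRingHomProperty.Spec_iff (P := @LocallyOfFiniteType)] at h1
      exact h1
    rw [← hψ, HasRingHomProperty.Spec_iff (P := @AlgebraicGeometry.FormallyUnramified)]
    algebraize [ψ.hom]
    show Algebra.FormallyUnramified k (X.affineOpenCover.X i)
    apply Groth.Agent.H64.DualNumUnram.formallyUnramified_of_dualNumber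
    intro θ₁ θ₂ hθ
    have hmono : Mono (X.affineOpenCover.f i) := inferInstance
    have hv := H (Spec.map (CommRingCat.ofHom θ₁.toRingHom) ≫ X.affineOpenCover.f i)
      (Spec.map (CommRingCat.ofHom θ₂.toRingHom) ≫ X.affineOpenCover.f i) ?_ ?_ ?_
    · rw [cancel_mono, Spec.map_inj] at hv
      exact AlgHom.ext fun b => congrArg (fun φ => φ.hom b) hv
    · rw [Category.assoc, ← hψ, ← Spec.map_comp]
      congr 1
      exact CommRingCat.hom_ext (RingHom.ext fun c => θ₁.commutes c)
    · rw [Category.assoc, ← hψ, ← Spec.map_comp]
      congr 1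
      exact CommRingCat.hom_ext (RingHom.ext fun c => θ₂.commutes c)
    · rw [← Category.assoc, ← Category.assoc, ← Spec.map_comp, ← Spec.map_comp]
      congr 2
      exact CommRingCat.hom_ext (RingHom.ext fun b => hθ b)

end Groth.Agent.S18905
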