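import Groth.Statements.S18908
import Mathlib.FieldTheory.SeparableDegree
import Mathlib.LinearAlgebra.LinearIndependent.Lemmas
import Mathlib.LinearAlgebra.FiniteDimensional.Lemmas
import Mathlib.LinearAlgebra.Dimension.Constructions
import Mathlib.LinearAlgebra.Basis.VectorSpace
import Mathlib.RingTheory.TensorProduct.Maps
import Mathlib.RingTheory.TensorProduct.Finite
import Mathlib.LinearAlgebra.Pi

set_option autoImplicit false
universe u v w
open scoped TensorProduct
open CAlg

namespace Groth.Agent.S18908

/-- Let K ⊇ k be a finite field extension of degree n and Ω ⊇ k an algebraically closed extension. Then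
K is separable over k if and only if Ω ⊗_k K is isomorphic, as an Ω-algebra, to the product of n
copies of Ω. (The source says 'for every (some) algebraically closed extension Ω'; the equivalence
is stated for each fixed Ω, which gives both readings.) -/
theorem result (k : Type u) (K : Type v) (Ω : Type w)
    [Field k] [Field K] [Algebra k K] [FiniteDimensional k K]
    [Field Ω] [Algebra k Ω] [IsAlgClosed Ω] :
    Algebra.IsSeparable k K ↔ Nonempty ((Ω ⊗[k] K) ≃ₐ[Ω] (Fin (Module.finrank k K) → Ω)) := by
  classical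
  have hcard : Nat.card (K →ₐ[k] Ω) = Field.finSepDegree k K :=
    (Field.finSepDegree_eq_of_isAlgClosed k K Ω).symm
  have hfin : Finite (K →ₐ[k] Ω) := by
    apply Nat.finite_of_card_ne_zero
    rw [hcard]
    exact NeZero.ne _
  constructor
  · intro hsep
    have := Fintype.ofFinite (K →ₐ[k] Ω)
    have hcard2 : Fintype.card (K →ₐ[k] Ω) = Module.finrank k K := by
      rw [← Nat.card_eq_fintype_card, hcard, Field.finSepDegree_eq_finrank_of_isSeparable]
    let Φ : Ω ⊗[k] K →ₐ[Ω] ((K →ₐ[k] Ω) → Ω) :=
      AlgHom.pi (R := Ω) (A := fun _ => Ω)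
        (fun σ => Algebra.TensorProduct.productLeftAlgHom (AlgHom.id Ω Ω) σ)
    have hΦ : ∀ (y : K) (σ : K →ₐ[k] Ω), Φ (1 ⊗ₜ y) σ = σ y := by
      intro y σ
      simp [Φ]
    have hsurj : Function.Surjective Φ.toLinearMap := by
      rw [← LinearMap.range_eq_top]
      by_contra hne
      obtain ⟨f, hf0, hf⟩ := Submodule.exists_le_ker_of_lt_top _ (lt_top_iff_ne_top.mpr hne)
      apply hf0
      have hli := linearIndependent_algHom_toLinearMap k K Ω
      rw [Fintype.linearIndependent_iff] at hli
      have hc : ∀ σ : K →ₐ[k] Ω, f (fun j => if σ = j then 1 else 0) = 0 := by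
        apply hli
        apply LinearMap.ext
        intro y
        have h1 : f (Φ.toLinearMap (1 ⊗ₜ y)) = 0 := hf (LinearMap.mem_range_self _ _)
        rw [LinearMap.pi_apply_eq_sum_univ f] at h1
        rw [LinearMap.zero_apply]
        refine Eq.trans ?_ h1
        rw [LinearMap.sum_apply]
        apply Finset.sum_congr rfl
        intro σ _
        rw [LinearMap.smul_apply, AlgHom.toLinearMap_apply, AlgHom.toLinearMap_apply, hΦ, smul_eq_mul,
          smul_eq_mul, mul_comm]
      apply LinearMap.ext
      intro x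
      rw [LinearMap.pi_apply_eq_sum_univ f, LinearMap.zero_apply]
      apply Finset.sum_eq_zero
      intro σ _
      rw [hc, smul_zero]
    have hrank : Module.finrank Ω (Ω ⊗[k] K) = Module.finrank Ω ((K →ₐ[k] Ω) → Ω) := by
      rw [Module.finrank_baseChange, Module.finrank_fintype_fun_eq_card, hcard2]
    have hinj : Function.Injective Φ.toLinearMap :=
      (LinearMap.injective_iff_surjective_of_finrank_eq_finrank hrank).mpr hsurj
    let e₁ : Ω ⊗[k] K ≃ₐ[Ω] ((K →ₐ[k] Ω) → Ω) := AlgEquiv.ofBijective Φ ⟨hinj, hsurj⟩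
    let eqv : (K →ₐ[k] Ω) ≃ Fin (Module.finrank k K) := Fintype.equivFinOfCardEq hcard2
    let e₂ : ((K →ₐ[k] Ω) → Ω) ≃ₐ[Ω] (Fin (Module.finrank k K) → Ω) :=
      AlgEquiv.piCongrLeft' Ω (fun _ => Ω) eqv
    exact ⟨e₁.trans e₂⟩
  · rintro ⟨e⟩
    rw [← Field.finSepDegree_eq_finrank_iff]
    apply le_antisymm (Field.finSepDegree_le_finrank k K)
    rw [← hcard]
    let σ : Fin (Module.finrank k K) → (K →ₐ[k] Ω) := fun i =>
      (((Pi.evalAlgHom Ω (fun _ => Ω) i).comp e.toAlgHom).restrictScalars k).comp
        Algebra.TensorProduct.includeRight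
    have hσapp : ∀ i y, σ i y = e (1 ⊗ₜ y) i := fun i y => rfl
    have hσ : Function.Injective σ := by
      intro i j hij
      have h1 : ∀ t : Ω ⊗[k] K, e t i = e t j := by
        intro t
        induction t using TensorProduct.induction_on with
        | zero => simp
        | tmul x y =>
          have : x ⊗ₜ[k] y = x • ((1 : Ω) ⊗ₜ[k] y) := by
            rw [TensorProduct.smul_tmul', smul_eq_mul, mul_one]
          rw [this, map_smul, Pi.smul_apply, Pi.smul_apply, ← hσapp, ← hσapp, hij]
        | add a b ha hb => rw [map_add, Pi.add_apply, Pi.add_apply, ha, hb]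
      have h2 := h1 (e.symm (Pi.single i 1))
      rw [AlgEquiv.apply_symm_apply, Pi.single_eq_same] at h2
      by_contra hne
      rw [Pi.single_eq_of_ne (Ne.symm hne)] at h2
      exact one_ne_zero h2
    calc Module.finrank k K = Nat.card (Fin (Module.finrank k K)) := by simp
      _ ≤ Nat.card (K →ₐ[k] Ω) := Nat.card_le_card_of_injective σ hσ

end Groth.Agent.S18908
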