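import Groth.Statements.S18912
import Mathlib

set_option autoImplicit false
universe u
open CategoryTheory CategoryTheory.Limits AlgebraicGeometry
open TFNodal

namespace Groth.Agent.S18912

set_option linter.style.haveILetI false

/-- germs of `τ` of a section do not change under restriction of the section. -/
theorem germ_app_res {X : Scheme.{u}} {F : X.Modules} (τ : F ⟶ Coh.structureModule X)
    {U V : X.Opens} (h : V ≤ U) (η : X) (hη : η ∈ V) (a : Γ(F, U)) :
    (X.presheaf.germ V η hη (τ.app V (F.presheaf.map (homOfLE h).op a) : Γ(X, V)) :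
      X.presheaf.stalk η) = X.presheaf.germ U η (h hη) (τ.app U a : Γ(X, U)) := by
  have h1 : τ.app V (F.presheaf.map (homOfLE h).op a) =
      (Coh.structureModule X).presheaf.map (homOfLE h).op (τ.app U a) := by
    have := τ.mapPresheaf.naturality (homOfLE h).op
    exact ConcreteCategory.congr_hom this a
  rw [h1]
  exact X.presheaf.germ_res_apply (homOfLE h) η hη _

/-- a root of unity in an extension of an algebraically closed field lies in the base field. -/
theorem exists_of_pow_eq_one {k K : Type*} [Field k] [IsAlgClosed k] [Field K] (ι : k →+* K)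
    (d : ℕ) (hd : 1 ≤ d) (ζ : K) (hζ : ζ ^ d = 1) : ∃ ξ : k, ξ ^ d = 1 ∧ ι ξ = ζ := by
  have hsplit : (Polynomial.X ^ d - 1 : Polynomial k).Splits := IsAlgClosed.splits _
  have hne : (Polynomial.X ^ d - 1 : Polynomial k) ≠ 0 :=
    Polynomial.X_pow_sub_C_ne_zero (by omega) (1 : k)
  have hroot : ((Polynomial.X ^ d - 1 : Polynomial k).map ι).IsRoot ζ := by
    simp [Polynomial.IsRoot, hζ]
  obtain ⟨ξ, hξ⟩ := hsplit.mem_range_of_isRoot hne hroot
  refine ⟨ξ, ?_, hξ⟩
  apply ι.injective
  rw [map_pow, hξ, hζ, map_one]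


/-- Let k be an algebraically closed field of characteristic zero, X a reduced scheme locally of finite
type over k, F an O_X-module, d ≥ 1 an integer and τ, τ' : F → O_X two O_X-linear maps whose d-th
symmetric powers agree, in the sense that for every open U and all sections a_1, …, a_d of F over U
the products τ(a_1)⋯τ(a_d) and τ'(a_1)⋯τ'(a_d) coincide in Γ(U, O_X). Then for every point η of X
whose local ring is a field (a generic point of an irreducible component) there is a d-th root of
unity ξ in k such that, for every section a of F over an open containing η, the germ of τ'(a) at η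
is ξ times the germ of τ(a). The published statement is for a coherent module on a projective nodal
curve and concludes that τ' = ξ τ with one root of unity ξ on each connected component; that form
fails for the union of two lines meeting at a node, F the ideal of the node, τ the inclusion and τ'
equal to τ on one line and to −τ on the other (d = 2), so the conclusion is stated here at each
generic point, i.e. per irreducible component, which is what the stalkwise argument yields. -/
theorem result
    (k : Type u) [Field k] [IsAlgClosed k] [CharZero k]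
    (X : Scheme.{u}) [X.Over (Spec (CommRingCat.of k))]
    [LocallyOfFiniteType (X ↘ Spec (CommRingCat.of k))] [AlgebraicGeometry.IsReduced X]
    (F : X.Modules) (τ τ' : F ⟶ Coh.structureModule X) (d : ℕ) (hd : 1 ≤ d)
    (hS : ∀ (U : X.Opens) (a : Fin d → Γ(F, U)),
      (∏ i, (τ.app U (a i) : Γ(X, U)) : Γ(X, U)) = (∏ i, (τ'.app U (a i) : Γ(X, U)) : Γ(X, U)))
    (η : X) (hη : IsField (X.presheaf.stalk η)) :
    ∃ ξ : k, ξ ^ d = 1 ∧ ∀ (U : X.Opens) (hU : η ∈ U) (a : Γ(F, U)),
      (X.presheaf.germ U η hU (τ'.app U a : Γ(X, U)) : X.presheaf.stalk η) =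
        Curv2.stalkMap k X η ξ * X.presheaf.germ U η hU (τ.app U a : Γ(X, U)) := by
  classical
  letI : Field (X.presheaf.stalk η) := hη.toField
  -- the product identity on germs, for two sections on possibly different opens
  have P2 : ∀ (U : X.Opens) (hU : η ∈ U) (a : Γ(F, U)) (U0 : X.Opens) (hU0 : η ∈ U0)
      (a0 : Γ(F, U0)) (n : ℕ), n + 1 = d →
      (X.presheaf.germ U η hU (τ.app U a : Γ(X, U)) : X.presheaf.stalk η) *
        (X.presheaf.germ U0 η hU0 (τ.app U0 a0 : Γ(X, U0)) : X.presheaf.stalk η) ^ n =
      (X.presheaf.germ U η hU (τ'.app U a : Γ(X, U)) : X.presheaf.stalk η) *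
        (X.presheaf.germ U0 η hU0 (τ'.app U0 a0 : Γ(X, U0)) : X.presheaf.stalk η) ^ n := by
    intro U hU a U0 hU0 a0 n hn
    subst hn
    have hV : η ∈ U ⊓ U0 := ⟨hU, hU0⟩
    have h := hS (U ⊓ U0) (Fin.cons (F.presheaf.map (homOfLE inf_le_left).op a)
      (fun _ => F.presheaf.map (homOfLE inf_le_right).op a0))
    rw [Fin.prod_univ_succ, Fin.prod_univ_succ] at h
    simp only [Fin.cons_zero, Fin.cons_succ, Finset.prod_const, Finset.card_univ,
      Fintype.card_fin] at h
    have h2 := congrArg (X.presheaf.germ (U ⊓ U0) η hV) h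
    rw [map_mul, map_pow, map_mul, map_pow] at h2
    rw [germ_app_res τ inf_le_left η hV a, germ_app_res τ inf_le_right η hV a0,
      germ_app_res τ' inf_le_left η hV a, germ_app_res τ' inf_le_right η hV a0] at h2
    exact h2
  obtain ⟨n, hn⟩ : ∃ n, n + 1 = d := ⟨d - 1, by omega⟩
  by_cases hall : ∀ (U : X.Opens) (hU : η ∈ U) (a : Γ(F, U)),
      (X.presheaf.germ U η hU (τ.app U a : Γ(X, U)) : X.presheaf.stalk η) = 0
  · refine ⟨1, one_pow d, ?_⟩
    intro U hU a
    have h := P2 U hU a U hU a n hn
    rw [hall U hU a, zero_mul, ← pow_succ'] at h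
    rw [hall U hU a, mul_zero]
    exact (pow_eq_zero_iff (by omega)).mp h.symm
  · push_neg at hall
    obtain ⟨U0, hU0, a0, h0⟩ := hall
    set t0 : X.presheaf.stalk η := X.presheaf.germ U0 η hU0 (τ.app U0 a0 : Γ(X, U0)) with ht0
    set t0' : X.presheaf.stalk η := X.presheaf.germ U0 η hU0 (τ'.app U0 a0 : Γ(X, U0)) with ht0'
    have hpow : t0' ^ d = t0 ^ d := by
      have h := P2 U0 hU0 a0 U0 hU0 a0 n hn
      rw [← pow_succ', ← pow_succ', hn] at h
      exact h.symm
    have hζ : (t0' / t0) ^ d = 1 := by
      rw [div_pow, hpow, div_self (pow_ne_zero d h0)]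
    obtain ⟨ξ, hξ1, hξ⟩ := exists_of_pow_eq_one (Curv2.stalkMap k X η) d hd (t0' / t0) hζ
    refine ⟨ξ, hξ1, ?_⟩
    intro U hU a
    have h := P2 U hU a U0 hU0 a0 n hn
    rw [← ht0, ← ht0'] at h
    have ht0'ne : t0' ≠ 0 := by
      intro h'
      rw [h', zero_pow (by omega)] at hpow
      exact pow_ne_zero d h0 hpow.symm
    rw [hξ]
    have hne : t0' ^ n ≠ 0 := pow_ne_zero n ht0'ne
    have h5 : (X.presheaf.germ U η hU (τ'.app U a : Γ(X, U)) : X.presheaf.stalk η) * t0 =
        t0' * (X.presheaf.germ U η hU (τ.app U a : Γ(X, U)) : X.presheaf.stalk η) := by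
      apply mul_right_cancel₀ hne
      calc (X.presheaf.germ U η hU (τ'.app U a : Γ(X, U)) : X.presheaf.stalk η) * t0 * t0' ^ n
          = ((X.presheaf.germ U η hU (τ'.app U a : Γ(X, U)) : X.presheaf.stalk η) * t0' ^ n) * t0 := by
            ring
        _ = ((X.presheaf.germ U η hU (τ.app U a : Γ(X, U)) : X.presheaf.stalk η) * t0 ^ n) * t0 := by
            rw [← h]
        _ = (X.presheaf.germ U η hU (τ.app U a : Γ(X, U)) : X.presheaf.stalk η) * t0 ^ (n + 1) := by
            ring
        _ = (X.presheaf.germ U η hU (τ.app U a : Γ(X, U)) : X.presheaf.stalk η) * t0' ^ (n + 1) := by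
            rw [hn, hpow]
        _ = t0' * (X.presheaf.germ U η hU (τ.app U a : Γ(X, U)) : X.presheaf.stalk η) * t0' ^ n := by
            ring
    rw [div_mul_eq_mul_div, eq_div_iff h0]
    exact h5

end Groth.Agent.S18912
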