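import Groth.Statements.S18914
import Groth.Agent.H17.TFDense

set_option autoImplicit false
universe u
open CategoryTheory CategoryTheory.Limits AlgebraicGeometry
open TFNodal

namespace Groth.Agent.S18914

/-- Let k be an algebraically closed field of characteristic zero, X a reduced proper curve over k (a
proper k-scheme of dimension one), and E, F₁, F₂ coherent O_X-modules that are torsion free (every
stalk is a torsion free module over the local ring: no nonzero element is killed by a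
non-zero-divisor). Let q₁ : E → F₁ and q₂ : E → F₂ be epimorphisms, U a dense open subset of X and φ
: F₁|_U ≅ F₂|_U an isomorphism of the restricted quotients, q₁|_U ≫ φ = q₂|_U. Then there is an
isomorphism of quotients ψ : F₁ ≅ F₂, q₁ ≫ ψ = q₂, whose restriction to U is φ. -/
theorem result
    (k : Type u) [Field k] [IsAlgClosed k] [CharZero k]
    (X : Scheme.{u}) [X.Over (Spec (CommRingCat.of k))] [IsProper (X ↘ Spec (CommRingCat.of k))]
    [AlgebraicGeometry.IsReduced X] (hdim : topologicalKrullDim X = 1)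
    (E F₁ F₂ : X.Modules) (hE : Coh.IsCoh E) (hF₁ : Coh.IsCoh F₁) (hF₂ : Coh.IsCoh F₂)
    (htE : TorSh.IsTorsionFree E) (ht₁ : TorSh.IsTorsionFree F₁) (ht₂ : TorSh.IsTorsionFree F₂)
    (q₁ : E ⟶ F₁) (q₂ : E ⟶ F₂) [Epi q₁] [Epi q₂]
    (U : X.Opens) (hU : Dense (U : Set X))
    (φ : F₁.restrict U.ι ≅ F₂.restrict U.ι)
    (hφ : (Scheme.Modules.restrictFunctor U.ι).map q₁ ≫ φ.hom = (Scheme.Modules.restrictFunctor U.ι).map q₂) :
    ∃ ψ : F₁ ≅ F₂, q₁ ≫ ψ.hom = q₂ ∧ (Scheme.Modules.restrictFunctor U.ι).map ψ.hom = φ.hom := by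
  haveI : IsLocallyNoetherian X :=
    LocallyOfFiniteType.isLocallyNoetherian (X ↘ Spec (CommRingCat.of k))
  haveI : F₁.IsQuasicoherent := hF₁.1
  haveI : F₂.IsQuasicoherent := hF₂.1
  have hφ' : (Scheme.Modules.restrictFunctor U.ι).map q₂ ≫ φ.inv =
      (Scheme.Modules.restrictFunctor U.ι).map q₁ := by
    rw [← hφ, Category.assoc, Iso.hom_inv_id, Category.comp_id]
  have h12 : kernel.ι q₁ ≫ q₂ = 0 := by
    apply Groth.Agent.H17.TFDense.hom_eq_zero_of_restrict_eq_zero ht₂ U hU
    rw [Functor.map_comp, ← hφ, ← Category.assoc, ← Functor.map_comp, kernel.condition,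
      Functor.map_zero, zero_comp]
  have h21 : kernel.ι q₂ ≫ q₁ = 0 := by
    apply Groth.Agent.H17.TFDense.hom_eq_zero_of_restrict_eq_zero ht₁ U hU
    rw [Functor.map_comp, ← hφ', ← Category.assoc, ← Functor.map_comp, kernel.condition,
      Functor.map_zero, zero_comp]
  have e1 : q₁ ≫ Abelian.epiDesc q₁ q₂ h12 = q₂ := Abelian.comp_epiDesc q₁ q₂ h12
  have e2 : q₂ ≫ Abelian.epiDesc q₂ q₁ h21 = q₁ := Abelian.comp_epiDesc q₂ q₁ h21
  refine ⟨⟨Abelian.epiDesc q₁ q₂ h12, Abelian.epiDesc q₂ q₁ h21, ?_, ?_⟩, e1, ?_⟩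
  · rw [← cancel_epi q₁, ← Category.assoc, e1, e2, Category.comp_id]
  · rw [← cancel_epi q₂, ← Category.assoc, e2, e1, Category.comp_id]
  · haveI : Epi ((Scheme.Modules.restrictFunctor U.ι).map q₁) := inferInstance
    rw [← cancel_epi ((Scheme.Modules.restrictFunctor U.ι).map q₁), ← Functor.map_comp]
    change (Scheme.Modules.restrictFunctor U.ι).map (q₁ ≫ Abelian.epiDesc q₁ q₂ h12) = _
    rw [e1, hφ]

end Groth.Agent.S18914
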