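import Groth.Statements.S18915
import Mathlib
import Groth.Agent.H17.NormalRefl
import Groth.Agent.H21.DepthAlongFlat
import Groth.Agent.H7.QuasiSection
import Groth.Agent.H51.Reduced
import Groth.Agent.H8.PullbackFinType
import Groth.Agent.H9.FiberStalk

set_option autoImplicit false
universe u
open CategoryTheory CategoryTheory.Limits AlgebraicGeometry
open TFNodal

namespace Groth.Agent.S18915

set_option linter.style.haveILetI false
set_option maxHeartbeats 800000

open IsLocalRing in
/-- a regular element in the ideal gives depth at least one. -/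
theorem one_le_idealDepth {R : Type*} [CommRing R] (I : Ideal R) (M : Type*) [AddCommGroup M]
    [Module R M] (a : R) (ha : a ∈ I) (hreg : IsSMulRegular M a) :
    (1 : ℕ∞) ≤ LocCoh.idealDepth I M := by
  by_cases hIM : I • (⊤ : Submodule R M) = ⊤
  · rw [Groth.Agent.H15.Depth.idealDepth_eq_top_of_smul_top_eq_top hIM]
    exact le_top
  · have := (Groth.Agent.H15.Depth.le_idealDepth_iff hIM 1).mpr
      (Groth.Agent.H15.Depth.hasSeq_succ_iff.mpr ⟨a, ha, hreg, Groth.Agent.H15.Depth.hasSeq_zero⟩)
    exact_mod_cast this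

open IsLocalRing in
/-- a reduced Noetherian local ring whose maximal ideal is not a minimal prime has a nonzerodivisor in its
maximal ideal. -/
theorem exists_nzd_mem_maximalIdeal (R : Type*) [CommRing R] [IsNoetherianRing R] [_root_.IsReduced R]
    [IsLocalRing R] (h : maximalIdeal R ∉ minimalPrimes R) :
    ∃ a ∈ maximalIdeal R, a ∈ nonZeroDivisors R := by
  classical
  have hfin : (minimalPrimes R).Finite := minimalPrimes.finite_of_isNoetherianRing R
  have hnot : ¬ ((maximalIdeal R : Set R) ⊆
      ⋃ p ∈ (↑hfin.toFinset : Set (Ideal R)), (p : Set R)) := by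
    intro hsub
    rw [Ideal.subset_union_prime (R := R) (s := hfin.toFinset) (f := fun p => p) ⊥ ⊥] at hsub
    · obtain ⟨p, hp, hle⟩ := hsub
      rw [Set.Finite.mem_toFinset] at hp
      have hpp : p.IsPrime := hp.1.1
      have : maximalIdeal R = p :=
        (maximalIdeal.isMaximal R).eq_of_le hpp.ne_top hle
      exact h (this ▸ hp)
    · intro p hp _ _
      rw [Set.Finite.mem_toFinset] at hp
      exact hp.1.1
  obtain ⟨a, ha, hna⟩ := Set.not_subset.mp hnot
  refine ⟨a, ha, ?_⟩
  rw [mem_nonZeroDivisors_iff_right]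
  intro b hb
  have hb' : b ∈ nilradical R := by
    rw [nilradical, ← Ideal.sInf_minimalPrimes]
    rw [Ideal.mem_sInf]
    intro p hp
    have hpp : p.IsPrime := hp.1.1
    have hap : a ∉ p := by
      intro hap
      apply hna
      simp only [Set.mem_iUnion]
      exact ⟨p, by rw [Finset.mem_coe, Set.Finite.mem_toFinset]; exact hp, hap⟩
    have : b * a ∈ p := by rw [hb]; exact p.zero_mem
    exact (hpp.mem_or_mem this).resolve_right hap
  rwa [nilradical_eq_zero, Ideal.zero_eq_bot, Ideal.mem_bot] at hb'

open IsLocalRing in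
/-- at a closed non-open point of a locally Noetherian scheme, the maximal ideal of the local ring is not
a minimal prime. -/
theorem maximalIdeal_notMem_minimalPrimes {X : Scheme.{u}} [IsLocallyNoetherian X] (x : X)
    (hcl : IsClosed ({x} : Set X)) (hno : ¬ IsOpen ({x} : Set X)) :
    maximalIdeal (X.presheaf.stalk x) ∉ minimalPrimes (X.presheaf.stalk x) := by
  intro hm
  apply hno
  apply Groth.Agent.H7.isOpen_singleton_of_isLocallyNoetherian x hcl
  intro b hb
  have hbr : b ∈ Set.range (X.fromSpecStalk x) := by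
    rw [Scheme.range_fromSpecStalk]
    exact hb
  obtain ⟨q, rfl⟩ := hbr
  have hq : q.asIdeal = maximalIdeal (X.presheaf.stalk x) :=
    le_antisymm (le_maximalIdeal q.2.ne_top)
      (hm.2 ⟨q.2, bot_le⟩ (le_maximalIdeal q.2.ne_top))
  have hq' : q = closedPoint (X.presheaf.stalk x) := PrimeSpectrum.ext hq
  rw [hq']
  exact Scheme.fromSpecStalk_closedPoint

/-- a torsion free module on a reduced locally Noetherian scheme has depth at least one at the closed
non-isolated points. -/
theorem one_le_depth_stalk_of_torsionFree {X : Scheme.{u}} [IsLocallyNoetherian X]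
    [AlgebraicGeometry.IsReduced X]
    (F : X.Modules) (htF : TorSh.IsTorsionFree F) (x : X) (hcl : IsClosed ({x} : Set X))
    (hno : ¬ IsOpen ({x} : Set X)) :
    (1 : ℕ∞) ≤ LocCoh.depth (X.presheaf.stalk x) (F.presheaf.stalk x) := by
  obtain ⟨a, ha, hnzd⟩ := exists_nzd_mem_maximalIdeal (X.presheaf.stalk x)
    (maximalIdeal_notMem_minimalPrimes x hcl hno)
  haveI := htF x
  have hreg : IsRegular a := isRegular_iff_mem_nonZeroDivisors.mpr hnzd
  exact one_le_idealDepth _ _ a ha (Module.IsTorsionFree.isSMulRegular hreg)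

/-- the fibre of `X ×_k C ⟶ X` over a point of `X` is flat over `C`. -/
theorem flat_fiberι_comp_snd (k : Type u) [Field k] {X C : Scheme.{u}}
    (f : X ⟶ Spec (CommRingCat.of k)) (g : C ⟶ Spec (CommRingCat.of k)) (x : X) :
    Flat ((pullback.fst f g).fiberι x ≫ pullback.snd f g) := by
  have h1 : IsPullback ((pullback.fst f g).fiberι x) ((pullback.fst f g).fiberToSpecResidueField x)
      (pullback.fst f g) (X.fromSpecResidueField x) := IsPullback.of_hasPullback _ _
  have h2 : IsPullback (pullback.snd f g) (pullback.fst f g) g f :=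
    (IsPullback.of_hasPullback f g).flip
  have h3 := h1.paste_horiz h2
  have h4 : Flat (X.fromSpecResidueField x ≫ f) := inferInstance
  exact MorphismProperty.of_isPullback h3.flip h4

open IsLocalRing in
/-- if the fibre of `p` through `y` is flat over `C` along `q`, a nonzerodivisor in the maximal ideal of the
local ring of `C` gives depth at least one for the local ring of the fibre. -/
theorem one_le_depth_fibRing {Z X C : Scheme.{u}} (p : Z ⟶ X) (q : Z ⟶ C) (x : X) (y : p.fiber x)
    [Flat (p.fiberι x ≫ q)]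
    (t : C.presheaf.stalk (q (p.fiberι x y)))
    (ht : t ∈ maximalIdeal (C.presheaf.stalk (q (p.fiberι x y))))
    (htreg : IsSMulRegular (C.presheaf.stalk (q (p.fiberι x y))) t) :
    letI alg : Algebra (X.presheaf.stalk (p (p.fiberι x y))) (Z.presheaf.stalk (p.fiberι x y)) :=
      (p.stalkMap (p.fiberι x y)).hom.toAlgebra
    haveI : IsLocalHom (algebraMap (X.presheaf.stalk (p (p.fiberι x y)))
        (Z.presheaf.stalk (p.fiberι x y))) :=
      inferInstanceAs (IsLocalHom (p.stalkMap (p.fiberι x y)).hom)
    (1 : ℕ∞) ≤ LocCoh.depth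
      (EGA4.FibRing (X.presheaf.stalk (p (p.fiberι x y))) (Z.presheaf.stalk (p.fiberι x y)))
      (EGA4.FibRing (X.presheaf.stalk (p (p.fiberι x y))) (Z.presheaf.stalk (p.fiberι x y))) := by
  letI _alg : Algebra (X.presheaf.stalk (p (p.fiberι x y))) (Z.presheaf.stalk (p.fiberι x y)) :=
    (p.stalkMap (p.fiberι x y)).hom.toAlgebra
  haveI hloc : IsLocalHom (algebraMap (X.presheaf.stalk (p (p.fiberι x y)))
      (Z.presheaf.stalk (p.fiberι x y))) :=
    inferInstanceAs (IsLocalHom (p.stalkMap (p.fiberι x y)).hom)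
  obtain ⟨hφsurj, hφker⟩ := Groth.Agent.H9.stalkMap_fiberι_surjective_and_ker_eq p x y
  set φ := ((p.fiberι x).stalkMap y).hom with hφ
  set ψ := (q.stalkMap (p.fiberι x y)).hom with hψ
  have hmB : EGA4.mB (X.presheaf.stalk (p (p.fiberι x y))) (Z.presheaf.stalk (p.fiberι x y)) =
      RingHom.ker φ := hφker.symm
  have hflat : ((p.fiberι x ≫ q).stalkMap y).hom.Flat := Flat.stalkMap _ y
  have hcomp : ∀ a, ((p.fiberι x ≫ q).stalkMap y).hom a = φ (ψ a) := by
    intro a
    rw [Scheme.Hom.stalkMap_comp]
    rfl
  have hreg1 : IsSMulRegular ((p.fiber x).presheaf.stalk y) (φ (ψ t)) := by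
    letI : Algebra (C.presheaf.stalk (q (p.fiberι x y))) ((p.fiber x).presheaf.stalk y) :=
      ((p.fiberι x ≫ q).stalkMap y).hom.toAlgebra
    haveI : Module.Flat (C.presheaf.stalk (q (p.fiberι x y))) ((p.fiber x).presheaf.stalk y) := hflat
    have h := IsSMulRegular.of_flat (S := (p.fiber x).presheaf.stalk y) htreg
    have h' : (algebraMap (C.presheaf.stalk (q (p.fiberι x y)))
        ((p.fiber x).presheaf.stalk y)) t = φ (ψ t) := hcomp t
    rw [h'] at h
    exact h
  have hψt : ψ t ∈ maximalIdeal (Z.presheaf.stalk (p.fiberι x y)) := by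
    rw [mem_maximalIdeal, mem_nonunits_iff] at ht ⊢
    intro hu
    exact ht (IsLocalHom.map_nonunit (f := ψ) t hu)
  refine one_le_idealDepth _ _ (Ideal.Quotient.mk _ (ψ t)) ?_ ?_
  · haveI : IsLocalHom (Ideal.Quotient.mk
        (EGA4.mB (X.presheaf.stalk (p (p.fiberι x y))) (Z.presheaf.stalk (p.fiberι x y)))) :=
      IsLocalHom.of_surjective _ Ideal.Quotient.mk_surjective
    rw [mem_maximalIdeal, mem_nonunits_iff] at hψt ⊢
    intro hu
    exact hψt (IsLocalHom.map_nonunit (f := Ideal.Quotient.mk
        (EGA4.mB (X.presheaf.stalk (p (p.fiberι x y))) (Z.presheaf.stalk (p.fiberι x y)))) _ hu)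
  · rw [isSMulRegular_iff_right_eq_zero_of_smul]
    intro r hr
    obtain ⟨r0, rfl⟩ := Ideal.Quotient.mk_surjective r
    rw [smul_eq_mul, ← map_mul, Ideal.Quotient.eq_zero_iff_mem, hmB, RingHom.mem_ker, map_mul] at hr
    rw [Ideal.Quotient.eq_zero_iff_mem, hmB, RingHom.mem_ker]
    exact (isSMulRegular_iff_right_eq_zero_of_smul.mp hreg1) _ hr

/-- a closed point of an irreducible space of dimension one is not open. -/
theorem not_isOpen_singleton_of_dim_one {C : Type*} [TopologicalSpace C] [IrreducibleSpace C]
    (hdimC : topologicalKrullDim C = 1) (c : C) (hc : IsClosed ({c} : Set C)) :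
    ¬ IsOpen ({c} : Set C) := by
  intro ho
  have hd : Dense ({c} : Set C) := ho.dense ⟨c, rfl⟩
  have hu : ({c} : Set C) = Set.univ := by
    rw [← hc.closure_eq]
    exact hd.closure_eq
  haveI : Subsingleton C := by
    constructor
    intro a b
    have ha : a ∈ ({c} : Set C) := hu ▸ Set.mem_univ a
    have hb : b ∈ ({c} : Set C) := hu ▸ Set.mem_univ b
    rw [Set.mem_singleton_iff] at ha hb
    rw [ha, hb]
  have := topologicalKrullDim_zero_of_discreteTopology C
  rw [hdimC] at this
  exact absurd this (by norm_num)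

theorem main
    (k : Type u) [Field k]
    (X : Scheme.{u}) (f : X ⟶ Spec (CommRingCat.of k)) [LocallyOfFiniteType f]
    [AlgebraicGeometry.IsReduced X]
    (hpure : ∀ x : X, IsClosed ({x} : Set X) → ¬ IsOpen ({x} : Set X))
    (C : Scheme.{u}) (g : C ⟶ Spec (CommRingCat.of k)) [Smooth g]
    [IrreducibleSpace C] (hdimC : topologicalKrullDim C = 1)
    (c : C) (hc : IsClosed ({c} : Set C))
    (Y : Set ↑(pullback f g))
    (hYcl : ∀ z ∈ Y, IsClosed ({z} : Set _))
    (hYc : ∀ z ∈ Y, (pullback.snd f g).base z = c)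
    (U : (pullback f g).Opens)
    (hU : (U : Set _) = Yᶜ)
    (F : X.Modules) (hF : Coh.IsCoh F) (htF : TorSh.IsTorsionFree F) :
    IsIso ((Scheme.Modules.restrictAdjunction U.ι).unit.app
      ((Scheme.Modules.pullback (pullback.fst f g)).obj F)) := by
  haveI : LocallyOfFiniteType g := inferInstance
  haveI : IsLocallyNoetherian X := LocallyOfFiniteType.isLocallyNoetherian f
  haveI : IsLocallyNoetherian C := LocallyOfFiniteType.isLocallyNoetherian g
  haveI : IsLocallyNoetherian (pullback f g) :=
    LocallyOfFiniteType.isLocallyNoetherian (pullback.snd f g)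
  haveI : Flat g := inferInstance
  haveI : AlgebraicGeometry.IsReduced C := Groth.Agent.H51.isReduced_of_smooth g
  haveI : JacobsonSpace X := LocallyOfFiniteType.jacobsonSpace f
  haveI : F.IsQuasicoherent := hF.1
  haveI : SheafOfModules.IsFiniteType (R := X.ringCatSheaf) F := hF.2
  have hE : Coh.IsCoh ((Scheme.Modules.pullback (pullback.fst f g)).obj F) :=
    ⟨Groth.Agent.H8.isQuasicoherent_pullback _ F, Groth.Agent.H8.isFiniteType_pullback _ F⟩
  apply Groth.Agent.H17.NormalRefl.isIso_unit_of_depth _ hE U
  intro z hz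
  have hzY : z ∈ Y := by
    by_contra h
    apply hz
    change z ∈ (U : Set _)
    rw [hU]
    exact h
  have key : ∀ (x : X) (y : (pullback.fst f g).fiber x), (pullback.fst f g).fiberι x y ∈ Y →
      (2 : ℕ∞) ≤ LocCoh.depth ((pullback f g).presheaf.stalk ((pullback.fst f g).fiberι x y))
        (((Scheme.Modules.pullback (pullback.fst f g)).obj F).presheaf.stalk
          ((pullback.fst f g).fiberι x y)) := by
    intro x y hyY
    rw [Groth.Agent.H21.DepthAlongFlat.depth_stalk_pullback (pullback.fst f g) F hF]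
    have hcl : IsClosed ({(pullback.fst f g) ((pullback.fst f g).fiberι x y)} : Set X) :=
      (pullback.fst f g).closePoints_subset_preimage_closedPoints (hYcl _ hyY)
    have h1 := one_le_depth_stalk_of_torsionFree F htF _ hcl (hpure _ hcl)
    haveI := flat_fiberι_comp_snd k f g x
    have hcc : (pullback.snd f g) ((pullback.fst f g).fiberι x y) = c := hYc _ hyY
    have hclc : IsClosed ({(pullback.snd f g) ((pullback.fst f g).fiberι x y)} : Set C) := by
      rw [hcc]
      exact hc
    obtain ⟨t, ht, htnzd⟩ := exists_nzd_mem_maximalIdeal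
      (C.presheaf.stalk ((pullback.snd f g) ((pullback.fst f g).fiberι x y)))
      (maximalIdeal_notMem_minimalPrimes _ hclc (not_isOpen_singleton_of_dim_one hdimC _ hclc))
    have htreg : IsSMulRegular
        (C.presheaf.stalk ((pullback.snd f g) ((pullback.fst f g).fiberι x y))) t :=
      (isRegular_iff_mem_nonZeroDivisors.mpr htnzd).left
    have h2 := one_le_depth_fibRing (pullback.fst f g) (pullback.snd f g) x y t ht htreg
    calc (2 : ℕ∞) = 1 + 1 := by norm_num
      _ ≤ _ := add_le_add h1 h2
  have h := key _ ((pullback.fst f g).asFiber z) (by rw [Scheme.Hom.fiberι_asFiber]; exact hzY)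
  rwa [Scheme.Hom.fiberι_asFiber] at h


/-- Let k be an algebraically closed field of characteristic zero, X a reduced proper curve over k (a
proper k-scheme of dimension one) without isolated points (no closed point is open, i.e. X is
one-dimensional at every point), C a smooth irreducible k-scheme of dimension one and c a closed
point of C. Put Z = X ×_k C with projections p_X and p_C, let Y be a nonempty finite set of closed
points of Z lying over c, and let j : U → Z be the inclusion of the open complement of Y. Then for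
every coherent torsion free O_X-module F (every stalk a torsion free module over the local ring),
the unit map p_X^* F → j_* j^* (p_X^* F) is an isomorphism. -/
theorem result
    (k : Type u) [Field k] [IsAlgClosed k] [CharZero k]
    (X : Scheme.{u}) [X.Over (Spec (CommRingCat.of k))] [IsProper (X ↘ Spec (CommRingCat.of k))]
    [AlgebraicGeometry.IsReduced X] (hdim : topologicalKrullDim X = 1)
    (hpure : ∀ x : X, IsClosed ({x} : Set X) → ¬ IsOpen ({x} : Set X))
    (C : Scheme.{u}) [C.Over (Spec (CommRingCat.of k))] [Smooth (C ↘ Spec (CommRingCat.of k))]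
    [IrreducibleSpace C] (hdimC : topologicalKrullDim C = 1)
    (c : C) (hc : IsClosed ({c} : Set C))
    (Y : Set ↑(pullback (X ↘ Spec (CommRingCat.of k)) (C ↘ Spec (CommRingCat.of k))))
    (hYfin : Y.Finite) (hYne : Y.Nonempty) (hYcl : ∀ z ∈ Y, IsClosed ({z} : Set _))
    (hYc : ∀ z ∈ Y, (pullback.snd (X ↘ Spec (CommRingCat.of k)) (C ↘ Spec (CommRingCat.of k))).base z = c)
    (U : (pullback (X ↘ Spec (CommRingCat.of k)) (C ↘ Spec (CommRingCat.of k))).Opens)
    (hU : (U : Set _) = Yᶜ)
    (F : X.Modules) (hF : Coh.IsCoh F) (htF : TorSh.IsTorsionFree F) :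
    IsIso ((Scheme.Modules.restrictAdjunction U.ι).unit.app
      ((Scheme.Modules.pullback (pullback.fst (X ↘ Spec (CommRingCat.of k)) (C ↘ Spec (CommRingCat.of k)))).obj F)) := by
  exact main k X (X ↘ Spec (CommRingCat.of k)) hpure C (C ↘ Spec (CommRingCat.of k)) hdimC c hc Y
    hYcl hYc U hU F hF htF

end Groth.Agent.S18915
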