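import Groth.Statements.S18916
import Groth.Agent.H17.HomSh
import Groth.Agent.H17.ReflSheaf
import Groth.Agent.H54.SchemeDim2

set_option autoImplicit false
universe u
open CategoryTheory CategoryTheory.Limits AlgebraicGeometry
open TFNodal

namespace Groth.Agent.S18916

set_option linter.style.haveILetI false

/-- in a Noetherian quasi-sober space, a closed point without proper generizations is isolated. -/
theorem isOpen_singleton_of_noetherianSpace {T : Type*} [TopologicalSpace T]
    [TopologicalSpace.NoetherianSpace T] [QuasiSober T] (x : T) (hcl : IsClosed ({x} : Set T))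
    (hgen : ∀ y : T, y ⤳ x → y = x) : IsOpen ({x} : Set T) := by
  have hfin : (irreducibleComponents T).Finite := TopologicalSpace.NoetherianSpace.finite_irreducibleComponents
  let S : Set (Set T) := {Z | Z ∈ irreducibleComponents T ∧ x ∉ Z}
  have hSfin : S.Finite := hfin.subset fun Z hZ => hZ.1
  have hC : IsClosed (⋃₀ S) := by
    rw [Set.sUnion_eq_biUnion]
    exact hSfin.isClosed_biUnion fun Z hZ => isClosed_of_mem_irreducibleComponents Z hZ.1
  have heq : ({x} : Set T) = (⋃₀ S)ᶜ := by
    ext y
    simp only [Set.mem_singleton_iff, Set.mem_compl_iff, Set.mem_sUnion, not_exists, not_and]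
    constructor
    · rintro rfl Z hZ hyZ
      exact hZ.2 hyZ
    · intro hy
      have hxZ : x ∈ irreducibleComponent y := by
        by_contra hx
        exact hy _ ⟨irreducibleComponent_mem_irreducibleComponents y, hx⟩ mem_irreducibleComponent
      obtain ⟨η, hη⟩ := QuasiSober.sober (isIrreducible_irreducibleComponent (x := y))
        (isClosed_irreducibleComponent (x := y))
      have hηx : η ⤳ x := by
        rw [specializes_iff_mem_closure, hη.def]
        exact hxZ
      have hηeq : η = x := hgen η hηx
      have hy' : y ∈ closure ({η} : Set T) := by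
        rw [hη.def]
        exact mem_irreducibleComponent
      rw [hηeq, hcl.closure_eq] at hy'
      exact hy'
  rw [heq]
  exact hC.isOpen_compl

/-- in a locally Noetherian scheme, a closed point without proper generizations is isolated. -/
theorem isOpen_singleton_of_isLocallyNoetherian (X : Scheme.{u}) [IsLocallyNoetherian X] (x : X)
    (hcl : IsClosed ({x} : Set X)) (hgen : ∀ y : X, y ⤳ x → y = x) : IsOpen ({x} : Set X) := by
  obtain ⟨_, ⟨W, hW, rfl⟩, hxW, -⟩ := X.isBasis_affineOpens.exists_subset_of_mem_open
    (Set.mem_univ x) isOpen_univ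
  replace hW : IsAffineOpen W := hW
  haveI : IsNoetherianRing Γ(X, W) := IsLocallyNoetherian.component_noetherian ⟨W, hW⟩
  haveI : TopologicalSpace.NoetherianSpace (W : Scheme.{u}) := noetherianSpace_of_isAffineOpen W hW
  let x' : (W : Scheme.{u}) := ⟨x, hxW⟩
  have hx' : (Scheme.Opens.ι W) x' = x := rfl
  have hcl' : IsClosed ({x'} : Set (W : Scheme.{u})) := by
    have : ({x'} : Set (W : Scheme.{u})) = (Scheme.Opens.ι W) ⁻¹' ({x} : Set X) := by
      ext z
      simp only [Set.mem_singleton_iff, Set.mem_preimage]
      exact ⟨fun h => by rw [h]; rfl, fun h => (Scheme.Opens.ι W).isOpenEmbedding.injective (h.trans hx'.symm)⟩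
    rw [this]
    exact hcl.preimage (Scheme.Opens.ι W).continuous
  have hgen' : ∀ y : (W : Scheme.{u}), y ⤳ x' → y = x' := fun y hy =>
    (Scheme.Opens.ι W).isOpenEmbedding.injective ((hgen _ (hy.map (Scheme.Opens.ι W).continuous)).trans hx'.symm)
  have hopen := isOpen_singleton_of_noetherianSpace x' hcl' hgen'
  have himg : ({x} : Set X) = (Scheme.Opens.ι W) '' ({x'} : Set (W : Scheme.{u})) := by
    rw [Set.image_singleton]
    rfl
  rw [himg]
  exact (Scheme.Opens.ι W).isOpenEmbedding.isOpenMap _ hopen

/-- a reduced local ring with a nonzero element killed by the maximal ideal is a field. -/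
theorem maximalIdeal_eq_bot_of_reduced {R : Type*} [CommRing R] [IsLocalRing R] [IsReduced R]
    (a : R) (ha : a ≠ 0) (h : ∀ r ∈ IsLocalRing.maximalIdeal R, r * a = 0) :
    IsLocalRing.maximalIdeal R = ⊥ := by
  have hunit : IsUnit a := by
    by_contra hnu
    have hmem : a ∈ IsLocalRing.maximalIdeal R := (IsLocalRing.mem_maximalIdeal a).mpr hnu
    have h2 : a * a = 0 := h a hmem
    have hnil : IsNilpotent a := ⟨2, by rw [pow_two, h2]⟩
    exact ha hnil.eq_zero
  rw [eq_bot_iff]
  intro r hr
  have h1 := h r hr
  exact (Submodule.mem_bot R).mpr (hunit.mul_left_eq_zero.mp h1)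

/-- Let k be an algebraically closed field of characteristic zero, X a reduced proper curve over k (a
proper k-scheme of dimension one) without isolated points (no closed point is open, i.e. X is
one-dimensional at every point) and F a coherent O_X-module. Then the dual 𝓗om(F, O_X) is torsion
free: no closed point of X is an associated point of it. -/
theorem result
    (k : Type u) [Field k] [IsAlgClosed k] [CharZero k]
    (X : Scheme.{u}) [X.Over (Spec (CommRingCat.of k))] [IsProper (X ↘ Spec (CommRingCat.of k))]
    [AlgebraicGeometry.IsReduced X] (hdim : topologicalKrullDim X = 1)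
    (hpure : ∀ x : X, IsClosed ({x} : Set X) → ¬ IsOpen ({x} : Set X))
    (F : X.Modules) (hF : Coh.IsCoh F) (x : X) (hx : IsClosed ({x} : Set X)) :
    ¬ Curv2.IsAssPoint (RefHull.dual F) x := by
  classical
  intro hass
  -- `X` is locally Noetherian
  haveI : IsLocallyNoetherian X :=
    LocallyOfFiniteType.isLocallyNoetherian (X ↘ Spec (CommRingCat.of k))
  haveI := Groth.Agent.H17.HomSh.isFP_of_isCoh F hF
  haveI : IsNoetherianRing (X.presheaf.stalk x) := inferInstance
  obtain ⟨hprime, θ, hθ⟩ := isAssociatedPrime_iff.mp hass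
  -- the germ θ is nonzero
  have hθ0 : θ ≠ 0 := by
    intro h0
    apply hprime.ne_top
    rw [hθ, h0, eq_top_iff]
    intro r _
    rw [Submodule.mem_colon_singleton, smul_zero]
    exact Submodule.zero_mem _
  have hkill : ∀ r ∈ IsLocalRing.maximalIdeal (X.presheaf.stalk x), r • θ = 0 := by
    intro r hr
    rw [hθ, Submodule.mem_colon_singleton] at hr
    exact (Submodule.mem_bot _).mp hr
  have hinj := Groth.Agent.H17.HomSh.evalStalk_injective F (Coh.structureModule X) x
  have hf0 : RefHull.evalStalk F (Coh.structureModule X) x θ ≠ 0 := by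
    intro h0
    exact hθ0 (hinj (h0.trans (map_zero _).symm))
  obtain ⟨v, hv⟩ : ∃ v, RefHull.evalStalk F (Coh.structureModule X) x θ v ≠ 0 := by
    by_contra hall
    push Not at hall
    exact hf0 (LinearMap.ext hall)
  let ι : X.presheaf.stalk x ≃ₗ[X.presheaf.stalk x] (Coh.structureModule X).presheaf.stalk x :=
    LinearEquiv.ofBijective (Groth.Agent.H2.ConnComp.L X x) (Groth.Agent.H2.ConnComp.L_bijective X x)
  obtain ⟨a, ha⟩ : ∃ a, a = ι.symm (RefHull.evalStalk F (Coh.structureModule X) x θ v) := ⟨_, rfl⟩
  have ha0 : a ≠ 0 := by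
    rw [ha]
    intro h0
    exact hv (ι.symm.injective (h0.trans (map_zero _).symm))
  have hakill : ∀ r ∈ IsLocalRing.maximalIdeal (X.presheaf.stalk x), r * a = 0 := by
    intro r hr
    rw [ha, ← smul_eq_mul, ← map_smul, ← LinearMap.smul_apply, ← map_smul, hkill r hr, map_zero,
      LinearMap.zero_apply, map_zero]
  haveI : _root_.IsReduced (X.presheaf.stalk x) := inferInstance
  have hbot := maximalIdeal_eq_bot_of_reduced a ha0 hakill
  have hfield : IsField (X.presheaf.stalk x) := IsLocalRing.isField_iff_maximalIdeal_eq.mpr hbot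
  -- `x` has no proper generizations
  have hco : Order.coheight x = 0 := by
    have h1 := ringKrullDim_stalk_eq_coheight x
    rw [ringKrullDim_eq_zero_of_isField hfield] at h1
    exact (WithBot.coe_eq_zero.mp h1.symm)
  have hmax : IsMax x := Order.coheight_eq_zero.mp hco
  have hgen : ∀ y : X, y ⤳ x → y = x := by
    intro y hy
    by_contra hne
    have hlt : x < y := (Groth.Agent.H54.scheme_lt_iff x y).mpr ⟨hy, fun h => hne h.symm⟩
    exact hmax.not_lt hlt
  exact hpure x hx (isOpen_singleton_of_isLocallyNoetherian X x hx hgen)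

end Groth.Agent.S18916
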