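import Groth.Statements.S18918
import Groth.Agent.H69.Sec.Main
import Groth.Agent.H22.CoverIff

set_option autoImplicit false
set_option linter.style.haveILetI false
universe u
open CategoryTheory CategoryTheory.Limits AlgebraicGeometry
open FEt

namespace Groth.Agent.S18918

/-- Let f : X → Y be a finite étale morphism of degree n (f_*O_X locally free of rank n) and φ : X' → Y
a morphism from a nonempty connected scheme X'. Then the Y-morphisms X' → X (equivalently, the
sections of X ×_Y X' → X') form a finite set with at most n elements, and there are exactly n of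
them if and only if the covering X ×_Y X' → X' is trivial, i.e. X ×_Y X' is isomorphic over X' to
the disjoint union of n copies of X'. The source works with separated Noetherian schemes over an
algebraically closed field of characteristic zero; that setting is not needed for the statement. -/
theorem result
    {X Y X' : Scheme.{u}} (f : X ⟶ Y) [IsFinite f] [Etale f] (n : ℕ)
    (hdeg : FlatMod.IsFinLocFreeOfRank n ((Scheme.Modules.pushforward f).obj (Coh.structureModule X)))
    (φ : X' ⟶ Y) [Nonempty X'] [ConnectedSpace X'] :
    Finite (Over.mk φ ⟶ Over.mk f) ∧ Nat.card (Over.mk φ ⟶ Over.mk f) ≤ n ∧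
      (Nat.card (Over.mk φ ⟶ Over.mk f) = n ↔
        ∃ e : pullback f φ ≅ ∐ fun _ : Fin n => X',
          e.hom ≫ Sigma.desc (fun _ : Fin n => 𝟙 X') = pullback.snd f φ) := by
  haveI : IsAffineHom f := inferInstance
  obtain ⟨⟨_, hflat, hfp⟩, hrank⟩ := Groth.Agent.H22.CoverIff.cover_of_locFree f n hdeg
  haveI := hflat
  have hn : ∀ t : X', (pullback.snd f φ).finrank t = n := by
    intro t
    rw [Scheme.Hom.finrank_pullback_snd]
    exact hrank _
  obtain ⟨h1, h2, h3⟩ := Groth.Agent.H69.Sec.main (pullback.snd f φ) n hn
  have e := Groth.Agent.H69.Sec.overHomEquiv f φ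
  haveI := h1
  refine ⟨Finite.of_equiv _ e.symm, ?_, ?_⟩
  · rw [Nat.card_congr e]
    exact h2
  · rw [Nat.card_congr e]
    exact h3

end Groth.Agent.S18918
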