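import Groth.Statements.S18920
-- import your own Groth.Agent.* helpers here

set_option autoImplicit false
universe u
open CAlg

namespace Groth.Agent.S18920

/-- Let M be a commutative monoid, s ≥ 1, and ξ_1, …, ξ_s elements of M with ξ_i ^ (s!/i) = 1 for 1 ≤ i
≤ s (an (s!/i)-th root of unity for each i). Suppose that for every finitely supported function d on
{1, …, s} with Σ_i i · d_i = s! the product ∏_i ξ_i ^ d_i equals 1. Then ξ_1 ^ j = ξ_j for every 1 ≤
j ≤ s. (The source works with roots of unity in the complex numbers.) -/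
theorem result
    {M : Type u} [CommMonoid M] (s : ℕ) (hs : 1 ≤ s) (ξ : ℕ → M)
    (hξ : ∀ i : ℕ, 1 ≤ i → i ≤ s → ξ i ^ (s.factorial / i) = 1)
    (hprod : ∀ d : ℕ →₀ ℕ, (∀ i ∈ d.support, 1 ≤ i ∧ i ≤ s) →
      (d.sum fun i n => i * n) = s.factorial → (d.prod fun i n => ξ i ^ n) = 1)
    (j : ℕ) (hj : 1 ≤ j) (hjs : j ≤ s) :
    ξ 1 ^ j = ξ j := by
  classical
  rcases Nat.eq_or_lt_of_le hj with h1 | h1
  · rw [← h1, pow_one]
  have hjf : j ≤ s.factorial := le_trans hjs (Nat.self_le_factorial s)
  have hne : j ≠ 1 := by omega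
  have h1' : ξ 1 ^ s.factorial = 1 := by
    have := hξ 1 le_rfl hs
    rwa [Nat.div_one] at this
  have e1 : ((Finsupp.single j 1 : ℕ →₀ ℕ).prod fun i n => ξ i ^ n) = ξ j := by
    rw [Finsupp.prod_single_index (h := fun i n => ξ i ^ n) (pow_zero _), pow_one]
  have e2 : ((Finsupp.single 1 (s.factorial - j) : ℕ →₀ ℕ).prod fun i n => ξ i ^ n) =
      ξ 1 ^ (s.factorial - j) := by
    rw [Finsupp.prod_single_index (h := fun i n => ξ i ^ n) (pow_zero _)]
  have e3 : ((Finsupp.single j 1 : ℕ →₀ ℕ).sum fun i n => i * n) = j := by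
    rw [Finsupp.sum_single_index (h := fun i n => i * n) (mul_zero _), mul_one]
  have e4 : ((Finsupp.single 1 (s.factorial - j) : ℕ →₀ ℕ).sum fun i n => i * n) =
      s.factorial - j := by
    rw [Finsupp.sum_single_index (h := fun i n => i * n) (mul_zero _), one_mul]
  have key := hprod (Finsupp.single j 1 + Finsupp.single 1 (s.factorial - j)) ?_ ?_
  · rw [Finsupp.prod_add_index' (h := fun i n => ξ i ^ n) (fun _ => pow_zero _) (fun _ _ _ => pow_add _ _ _), e1, e2] at key
    have h2 : ξ 1 ^ j * ξ 1 ^ (s.factorial - j) = 1 := by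
      rw [← pow_add, Nat.add_sub_cancel' hjf, h1']
    calc ξ 1 ^ j = ξ 1 ^ j * (ξ j * ξ 1 ^ (s.factorial - j)) := by rw [key, mul_one]
      _ = ξ j * (ξ 1 ^ j * ξ 1 ^ (s.factorial - j)) := by rw [mul_left_comm]
      _ = ξ j := by rw [h2, mul_one]
  · intro i hi
    have := Finsupp.support_add hi
    simp only [Finset.mem_union] at this
    rcases this with h | h
    · have := Finsupp.support_single_subset h
      simp only [Finset.mem_singleton] at this
      subst this; exact ⟨hj, hjs⟩
    · have := Finsupp.support_single_subset h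
      simp only [Finset.mem_singleton] at this
      subst this; exact ⟨le_rfl, hs⟩
  · rw [Finsupp.sum_add_index' (h := fun i n => i * n) (fun _ => mul_zero _) (fun _ _ _ => mul_add _ _ _), e3, e4]
    omega

end Groth.Agent.S18920
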