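import Groth.Statements.S18925
import Mathlib

set_option autoImplicit false
universe u
open ResHyp

namespace Groth.Agent.S18925

open Polynomial

section defs
variable {F : Type u} [Field F]

/-- polynomial with coefficient vector `v` -/
noncomputable def toPoly {m : ℕ} (v : Fin m → F) : F[X] :=
  ∑ i : Fin m, C (v i) * X ^ (i : ℕ)

theorem coeff_toPoly {m : ℕ} (v : Fin m → F) (j : ℕ) :
    (toPoly v).coeff j = if h : j < m then v ⟨j, h⟩ else 0 := by
  unfold toPoly
  simp only [finsetSum_coeff, coeff_C_mul, coeff_X_pow]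
  by_cases h : j < m
  · rw [dif_pos h, Finset.sum_eq_single (⟨j, h⟩ : Fin m)]
    · simp
    · intro i _ hi
      have : j ≠ (i : ℕ) := fun e => hi (Fin.ext e.symm)
      simp [this]
    · intro h'
      exact absurd (Finset.mem_univ _) h'
  · rw [dif_neg h]
    apply Finset.sum_eq_zero
    intro i _
    have : j ≠ (i : ℕ) := fun e => h (e ▸ i.isLt)
    simp [this]

theorem natDegree_toPoly_le {m : ℕ} (v : Fin (m + 1) → F) : (toPoly v).natDegree ≤ m := by
  unfold toPoly
  apply natDegree_sum_le_of_forall_le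
  intro i _
  exact (natDegree_C_mul_X_pow_le _ _).trans (Nat.lt_succ_iff.mp i.isLt)

theorem toPoly_vec {m : ℕ} (p : F[X]) (hp : p.natDegree < m) :
    toPoly (fun j : Fin m => p.coeff (j : ℕ)) = p := by
  ext j
  rw [coeff_toPoly]
  by_cases h : j < m
  · rw [dif_pos h]
  · rw [dif_neg h]
    exact (coeff_eq_zero_of_natDegree_lt (by omega)).symm

theorem toPoly_injective {m : ℕ} : Function.Injective (toPoly : (Fin m → F) → F[X]) := by
  intro v w h
  ext i
  have h1 : (toPoly v).coeff (i : ℕ) = (toPoly w).coeff (i : ℕ) := by rw [h]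
  rw [coeff_toPoly, coeff_toPoly, dif_pos i.isLt, dif_pos i.isLt] at h1
  exact h1

theorem toPoly_cons {m : ℕ} (b0 : F) (t : Fin m → F) :
    toPoly (Fin.cons b0 t : Fin (m + 1) → F) = C b0 + X * toPoly t := by
  unfold toPoly
  rw [Fin.sum_univ_succ, Finset.mul_sum]
  simp only [Fin.cons_zero, Fin.cons_succ, Fin.val_zero, Fin.val_succ, pow_zero, mul_one]
  congr 1
  apply Finset.sum_congr rfl
  intro i _
  ring

theorem toPoly_three (a0 a1 a2 : F) :
    toPoly ![a0, a1, a2] = C a0 + C a1 * X + C a2 * X ^ 2 := by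
  unfold toPoly
  rw [Fin.sum_univ_three]
  simp

theorem toPoly_smul {m : ℕ} (c : F) (v : Fin m → F) :
    toPoly (fun i => c * v i) = C c * toPoly v := by
  unfold toPoly
  rw [Finset.mul_sum]
  apply Finset.sum_congr rfl
  intro i _
  rw [C_mul]; ring

end defs

section counting
open Classical
variable {F : Type u} [Field F] [Fintype F]

local notation "𝔮" => Fintype.card F

theorem sum_ne (c : F) : ∑ x : F, (if x ≠ c then 1 else 0) = 𝔮 - 1 := by
  rw [← Finset.card_filter]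
  have : (Finset.univ.filter fun x : F => x ≠ c) = Finset.univ.erase c := by
    ext x; simp
  rw [this, Finset.card_erase_of_mem (Finset.mem_univ _), Finset.card_univ]

theorem sum_split' (G : F → ℕ) (c : ℕ) (h : ∀ x, x ≠ 0 → G x = c) :
    ∑ x : F, G x = G 0 + (𝔮 - 1) * c := by
  rw [← Finset.add_sum_erase Finset.univ G (Finset.mem_univ (0 : F))]
  congr 1
  have e : ∑ x ∈ Finset.univ.erase (0 : F), G x = ∑ _x ∈ Finset.univ.erase (0 : F), c :=
    Finset.sum_congr rfl (fun x hx => h x (Finset.ne_of_mem_erase hx))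
  rw [e, Finset.sum_const, Finset.card_erase_of_mem (Finset.mem_univ _), Finset.card_univ,
    smul_eq_mul]

theorem sum_ite_zero (A B : ℕ) :
    ∑ x : F, (if x = 0 then A else B) = A + (𝔮 - 1) * B := by
  have h := sum_split' (fun x : F => if x = 0 then A else B) B (fun x hx => if_neg hx)
  have h0 : (if (0 : F) = 0 then A else B) = A := if_pos rfl
  calc ∑ x : F, (if x = 0 then A else B)
      = (if (0 : F) = 0 then A else B) + (𝔮 - 1) * B := h
    _ = A + (𝔮 - 1) * B := by rw [h0]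

theorem sum_coord_ne {ι : Type} [Fintype ι] [DecidableEq ι] (i0 : ι) :
    ∑ t : ι → F, (if t i0 ≠ 0 then 1 else 0) = (𝔮 - 1) * 𝔮 ^ (Fintype.card ι - 1) := by
  have h1 := Equiv.sum_comp (Equiv.funSplitAt i0 F)
    (fun p : F × ({j // j ≠ i0} → F) => if p.1 ≠ 0 then 1 else 0)
  have h2 : ∑ t : ι → F, (if t i0 ≠ 0 then 1 else 0) =
      ∑ p : F × ({j // j ≠ i0} → F), if p.1 ≠ 0 then 1 else 0 := h1
  have h3 : ∑ p : F × ({j // j ≠ i0} → F), (if p.1 ≠ 0 then 1 else 0) =
      ∑ x : F, ∑ _u : ({j // j ≠ i0} → F), (if x ≠ 0 then 1 else 0) :=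
    Fintype.sum_prod_type _
  rw [h2, h3]
  simp only [Finset.sum_const, Finset.card_univ, smul_eq_mul]
  rw [← Finset.mul_sum, sum_ne, Fintype.card_fun, Fintype.card_subtype_compl, Fintype.card_subtype_eq]
  ring

theorem sum_last_ne (m : ℕ) :
    ∑ t : Fin (m + 1) → F, (if t (Fin.last m) ≠ 0 then 1 else 0) = (𝔮 - 1) * 𝔮 ^ m := by
  rw [sum_coord_ne (Fin.last m), Fintype.card_fin, Nat.add_sub_cancel]

theorem sum_cons {m : ℕ} (G : (Fin (m + 1) → F) → ℕ) :
    ∑ b, G b = ∑ t : Fin m → F, ∑ b0 : F, G (Fin.cons b0 t) := by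
  rw [← (Fin.consEquiv (fun _ : Fin (m + 1) => F)).sum_comp, Fintype.sum_prod_type_right]
  rfl

/-- the equivalence `F × F × F ≃ (Fin 3 → F)`, `(a2, a1, a0) ↦ ![a0, a1, a2]` -/
def e3 : F × F × F ≃ (Fin 3 → F) where
  toFun p := ![p.2.2, p.2.1, p.1]
  invFun a := (a 2, a 1, a 0)
  left_inv p := rfl
  right_inv a := by ext i; fin_cases i <;> rfl

theorem sum_fin3 (G : (Fin 3 → F) → ℕ) :
    ∑ a, G a = ∑ a2 : F, ∑ a1 : F, ∑ a0 : F, G ![a0, a1, a2] := by
  rw [← e3.sum_comp G, Fintype.sum_prod_type]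
  apply Finset.sum_congr rfl
  intro a2 _
  rw [Fintype.sum_prod_type]
  rfl

/-- number of `g` with nonzero resultant against the quadratic form `a` -/
noncomputable def cnt (k : ℕ) (a : Fin 3 → F) : ℕ :=
  ∑ b : Fin (k + 2 + 1) → F, if resultant (toPoly a) (toPoly b) 2 (k + 2) ≠ 0 then 1 else 0

/-- number of linear forms with nonzero resultant against the quadratic form -/
noncomputable def M (a0 a1 a2 : F) : ℕ :=
  ∑ r : F × F,
    if resultant (C a0 + C a1 * X + C a2 * X ^ 2) (C r.1 + C r.2 * X) 2 1 ≠ 0 then 1 else 0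

theorem card_eq_sum (k : ℕ) :
    Nat.card {p : (Fin 3 → F) × (Fin (k + 2 + 1) → F) //
      resultant (toPoly p.1) (toPoly p.2) 2 (k + 2) ≠ 0} = ∑ a : Fin 3 → F, cnt k a := by
  rw [Nat.card_eq_fintype_card, Fintype.card_subtype, Finset.card_filter, Fintype.sum_prod_type]
  unfold cnt
  refine Finset.sum_congr rfl fun a _ => Finset.sum_congr rfl fun b _ => ?_
  exact if_congr Iff.rfl rfl rfl

theorem resR (f : F[X]) (hf : f.natDegree ≤ 2) (r0 r1 : F) :
    resultant f (C r0 + C r1 * X) 2 1 =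
      if r1 = 0 then f.coeff 2 * r0 ^ 2 else r1 ^ 2 * eval (-(r0 / r1)) f := by
  split_ifs with h1
  · subst h1
    rw [C_0, zero_mul, add_zero, resultant_C_right, pow_one]
  · have e0 : r1 * (r0 / r1) = r0 := by field_simp
    have e : (C r0 + C r1 * X : F[X]) = C r1 * (X + C (r0 / r1)) := by
      rw [mul_add, ← C_mul, e0]; ring
    rw [e, resultant_C_mul_right, resultant_X_add_C_right f 2 (r0 / r1) hf]
    ring

theorem resB (a0 a1 : F) (h : a1 ≠ 0) (g : F[X]) (m : ℕ) (hg : g.natDegree ≤ m) :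
    resultant (C a0 + C a1 * X) g 2 m =
      (-1) ^ m * g.coeff m * (a1 ^ m * eval (-(a0 / a1)) g) := by
  have hf : (C a0 + C a1 * X : F[X]).natDegree ≤ 1 := by compute_degree
  have e1 : resultant (C a0 + C a1 * X) g 2 m =
      (-1) ^ (m * 1) * g.coeff m ^ 1 * resultant (C a0 + C a1 * X) g 1 m :=
    resultant_add_left_deg (C a0 + C a1 * X) g 1 m 1 hf
  have e0 : a1 * (a0 / a1) = a0 := by field_simp
  have e : (C a0 + C a1 * X : F[X]) = C a1 * (X + C (a0 / a1)) := by
    rw [mul_add, ← C_mul, e0]; ring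
  have e2 : resultant (C a0 + C a1 * X) g 1 m = a1 ^ m * eval (-(a0 / a1)) g := by
    rw [e, resultant_C_mul_left, resultant_X_add_C_left g m (a0 / a1) hg]
  rw [e1, e2, mul_one, pow_one]

theorem cntA (k : ℕ) (a0 a1 a2 : F) (h : a2 ≠ 0) :
    cnt k ![a0, a1, a2] = 𝔮 ^ (k + 1) * M a0 a1 a2 := by
  have hfa : toPoly ![a0, a1, a2] = C a0 + C a1 * X + C a2 * X ^ 2 := toPoly_three a0 a1 a2
  unfold cnt M
  rw [hfa]
  set f : F[X] := C a0 + C a1 * X + C a2 * X ^ 2 with hf
  have hfdeg : f.natDegree ≤ 2 := by rw [hf]; compute_degree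
  have hf2 : f.coeff 2 = a2 := by rw [hf]; simp
  have hf0 : f ≠ 0 := by
    intro e; rw [e, coeff_zero] at hf2; exact h hf2.symm
  have hfdeg2 : f.natDegree = 2 := by
    apply le_antisymm hfdeg
    exact le_natDegree_of_ne_zero (by rw [hf2]; exact h)
  let ψ : (Fin (k + 1) → F) × (F × F) → (Fin (k + 2 + 1) → F) :=
    fun p j => (f * toPoly p.1 + (C p.2.1 + C p.2.2 * X)).coeff (j : ℕ)
  have hψ : ∀ p : (Fin (k + 1) → F) × (F × F),
      toPoly (ψ p) = f * toPoly p.1 + (C p.2.1 + C p.2.2 * X) := by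
    intro p
    have hH : (toPoly p.1).natDegree ≤ k := natDegree_toPoly_le p.1
    have hR : (C p.2.1 + C p.2.2 * X : F[X]).natDegree ≤ 1 := by compute_degree
    have h1 : (f * toPoly p.1).natDegree ≤ k + 2 := natDegree_mul_le.trans (by omega)
    have h3 : (f * toPoly p.1 + (C p.2.1 + C p.2.2 * X)).natDegree < k + 2 + 1 :=
      lt_of_le_of_lt ((natDegree_add_le _ _).trans (max_le h1 (hR.trans (by omega))))
        (by omega)
    exact toPoly_vec _ h3
  have hinj : Function.Injective ψ := by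
    intro p p' hpp
    have e : f * toPoly p.1 + (C p.2.1 + C p.2.2 * X) =
        f * toPoly p'.1 + (C p'.2.1 + C p'.2.2 * X) := by
      rw [← hψ p, ← hψ p', hpp]
    have e2 : f * (toPoly p.1 - toPoly p'.1) =
        (C p'.2.1 + C p'.2.2 * X) - (C p.2.1 + C p.2.2 * X) := by
      linear_combination e
    have hH : toPoly p.1 - toPoly p'.1 = 0 := by
      by_contra hne
      have hd : (f * (toPoly p.1 - toPoly p'.1)).natDegree =
          2 + (toPoly p.1 - toPoly p'.1).natDegree := by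
        rw [natDegree_mul hf0 hne, hfdeg2]
      have hd2 : ((C p'.2.1 + C p'.2.2 * X : F[X]) - (C p.2.1 + C p.2.2 * X)).natDegree ≤ 1 := by
        compute_degree
      rw [e2] at hd
      omega
    have hH' : toPoly p.1 = toPoly p'.1 := sub_eq_zero.mp hH
    have h1 : p.1 = p'.1 := toPoly_injective hH'
    rw [hH'] at e
    have e3 : (C p.2.1 + C p.2.2 * X : F[X]) = C p'.2.1 + C p'.2.2 * X := add_left_cancel e
    have c0 : p.2.1 = p'.2.1 := by
      have := congrArg (fun P => P.coeff 0) e3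
      simpa [coeff_C, coeff_X] using this
    have c1 : p.2.2 = p'.2.2 := by
      have := congrArg (fun P => P.coeff 1) e3
      simpa [coeff_C, coeff_X] using this
    exact Prod.ext h1 (Prod.ext c0 c1)
  have hbij : Function.Bijective ψ := by
    rw [Fintype.bijective_iff_injective_and_card]
    refine ⟨hinj, ?_⟩
    simp only [Fintype.card_prod, Fintype.card_fun, Fintype.card_fin]
    ring
  rw [← (Equiv.ofBijective ψ hbij).sum_comp]
  show (∑ i : (Fin (k + 1) → F) × (F × F),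
    if resultant f (toPoly (ψ i)) 2 (k + 2) ≠ 0 then 1 else 0) = _
  rw [Fintype.sum_prod_type]
  have key : ∀ (hh : Fin (k + 1) → F) (r : F × F),
      resultant f (toPoly (ψ (hh, r))) 2 (k + 2) =
        a2 ^ (k + 1) * resultant f (C r.1 + C r.2 * X) 2 1 := by
    intro hh r
    rw [hψ]
    show resultant f (f * toPoly hh + (C r.1 + C r.2 * X)) 2 (k + 2) = _
    rw [add_comm (f * toPoly hh),
      resultant_add_mul_right f _ (toPoly hh) 2 (k + 2)
        (by have := natDegree_toPoly_le hh; omega) hfdeg]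
    have hR : (C r.1 + C r.2 * X : F[X]).natDegree ≤ 1 := by compute_degree
    have := resultant_add_right_deg f (C r.1 + C r.2 * X) 2 1 (k + 1) hR
    rw [show 1 + (k + 1) = k + 2 by omega] at this
    rw [this, hf2]
  have key2 : ∀ (hh : Fin (k + 1) → F) (r : F × F),
      (resultant f (toPoly (ψ (hh, r))) 2 (k + 2) ≠ 0) ↔
        (resultant f (C r.1 + C r.2 * X) 2 1 ≠ 0) := by
    intro hh r
    rw [key, mul_ne_zero_iff]
    exact ⟨fun hx => hx.2, fun hx => ⟨pow_ne_zero _ h, hx⟩⟩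
  simp only [key2]
  rw [Finset.sum_const, Finset.card_univ, Fintype.card_fun, Fintype.card_fin, smul_eq_mul]

theorem sumM (a2 : F) (h : a2 ≠ 0) :
    ∑ a1 : F, ∑ a0 : F, M a0 a1 a2 =
      𝔮 * ((𝔮 - 1) * 𝔮 + 𝔮 * ((𝔮 - 1) * (𝔮 - 1))) := by
  have inner : ∀ a1 r0 r1 : F,
      ∑ a0 : F, (if resultant (C a0 + C a1 * X + C a2 * X ^ 2) (C r0 + C r1 * X) 2 1 ≠ 0
        then 1 else 0) =
        if r1 = 0 then (if r0 = 0 then 0 else 𝔮) else 𝔮 - 1 := by
    intro a1 r0 r1
    have hdeg : ∀ a0 : F, (C a0 + C a1 * X + C a2 * X ^ 2 : F[X]).natDegree ≤ 2 := by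
      intro a0; compute_degree
    have hc2 : ∀ a0 : F, (C a0 + C a1 * X + C a2 * X ^ 2 : F[X]).coeff 2 = a2 := by
      intro a0; simp
    by_cases h1 : r1 = 0
    · rw [if_pos h1]
      have hres : ∀ a0 : F,
          resultant (C a0 + C a1 * X + C a2 * X ^ 2) (C r0 + C r1 * X) 2 1 = a2 * r0 ^ 2 := by
        intro a0
        rw [resR _ (hdeg a0), if_pos h1, hc2]
      simp only [hres]
      by_cases h0 : r0 = 0
      · rw [if_pos h0]
        simp [h0]
      · rw [if_neg h0]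
        have : a2 * r0 ^ 2 ≠ 0 := mul_ne_zero h (pow_ne_zero _ h0)
        simp [this]
    · rw [if_neg h1]
      have hres : ∀ a0 : F,
          (resultant (C a0 + C a1 * X + C a2 * X ^ 2) (C r0 + C r1 * X) 2 1 ≠ 0) ↔
            a0 ≠ -(a1 * (-(r0 / r1)) + a2 * (-(r0 / r1)) ^ 2) := by
        intro a0
        rw [resR _ (hdeg a0), if_neg h1]
        simp only [eval_add, eval_mul, eval_C, eval_X, eval_pow]
        rw [mul_ne_zero_iff]
        constructor
        · rintro ⟨_, h2⟩ h3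
          apply h2
          rw [h3]; ring
        · intro h2
          refine ⟨pow_ne_zero _ h1, fun h3 => h2 ?_⟩
          linear_combination h3
      simp only [hres]
      exact sum_ne _
  unfold M
  have step : ∀ a1 : F, ∑ a0 : F, ∑ r : F × F,
      (if resultant (C a0 + C a1 * X + C a2 * X ^ 2) (C r.1 + C r.2 * X) 2 1 ≠ 0
        then 1 else 0) = (𝔮 - 1) * 𝔮 + 𝔮 * ((𝔮 - 1) * (𝔮 - 1)) := by
    intro a1
    rw [Finset.sum_comm, Fintype.sum_prod_type]
    simp only [inner, sum_ite_zero, Finset.sum_add_distrib, Finset.sum_const, Finset.card_univ,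
      smul_eq_mul, zero_add]
  simp only [step, Finset.sum_const, Finset.card_univ, smul_eq_mul]

theorem cntB (k : ℕ) (a0 a1 : F) (h : a1 ≠ 0) :
    cnt k ![a0, a1, 0] = (𝔮 - 1) * ((𝔮 - 1) * 𝔮 ^ (k + 1)) := by
  have hfa : toPoly ![a0, a1, (0 : F)] = C a0 + C a1 * X := by
    rw [toPoly_three]; simp
  unfold cnt
  rw [hfa]
  have hcond : ∀ b : Fin (k + 2 + 1) → F,
      (resultant (C a0 + C a1 * X) (toPoly b) 2 (k + 2) ≠ 0) ↔
        (b (Fin.last (k + 2)) ≠ 0 ∧ eval (-(a0 / a1)) (toPoly b) ≠ 0) := by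
    intro b
    rw [resB a0 a1 h (toPoly b) (k + 2) (natDegree_toPoly_le b)]
    have hc : (toPoly b).coeff (k + 2) = b (Fin.last (k + 2)) := by
      rw [coeff_toPoly, dif_pos (by omega)]; rfl
    rw [hc]
    have hs : ((-1 : F)) ^ (k + 2) ≠ 0 := pow_ne_zero _ (by simp)
    have ha : a1 ^ (k + 2) ≠ 0 := pow_ne_zero _ h
    constructor
    · intro hx
      exact ⟨fun h0 => hx (by rw [h0]; ring), fun h0 => hx (by rw [h0]; ring)⟩
    · rintro ⟨h1, h2⟩
      exact mul_ne_zero (mul_ne_zero hs h1) (mul_ne_zero ha h2)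
  simp only [hcond]
  rw [sum_cons]
  have hlast : (Fin.last (k + 2) : Fin (k + 2 + 1)) = Fin.succ (Fin.last (k + 1)) :=
    (Fin.succ_last (k + 1)).symm
  have hinner : ∀ t : Fin (k + 2) → F,
      ∑ b0 : F, (if ((Fin.cons b0 t : Fin (k + 2 + 1) → F) (Fin.last (k + 2)) ≠ 0 ∧
          eval (-(a0 / a1)) (toPoly (Fin.cons b0 t : Fin (k + 2 + 1) → F)) ≠ 0) then 1 else 0)
        = (if t (Fin.last (k + 1)) ≠ 0 then 1 else 0) * (𝔮 - 1) := by
    intro t
    have hl : ∀ b0 : F,
        (Fin.cons b0 t : Fin (k + 2 + 1) → F) (Fin.last (k + 2)) = t (Fin.last (k + 1)) := by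
      intro b0
      rw [hlast, Fin.cons_succ]
    have he : ∀ b0 : F, eval (-(a0 / a1)) (toPoly (Fin.cons b0 t : Fin (k + 2 + 1) → F)) =
        b0 + -(a0 / a1) * eval (-(a0 / a1)) (toPoly t) := by
      intro b0
      rw [toPoly_cons, eval_add, eval_mul, eval_C, eval_X]
    by_cases ht : t (Fin.last (k + 1)) = 0
    · have hno : ∀ b0 : F, ¬ ((Fin.cons b0 t : Fin (k + 2 + 1) → F) (Fin.last (k + 2)) ≠ 0 ∧
          eval (-(a0 / a1)) (toPoly (Fin.cons b0 t : Fin (k + 2 + 1) → F)) ≠ 0) := by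
        intro b0 hx; exact hx.1 ((hl b0).trans ht)
      simp only [hno, if_false, Finset.sum_const_zero]
      rw [if_neg (not_not.mpr ht), zero_mul]
    · have hyes : ∀ b0 : F, ((Fin.cons b0 t : Fin (k + 2 + 1) → F) (Fin.last (k + 2)) ≠ 0 ∧
          eval (-(a0 / a1)) (toPoly (Fin.cons b0 t : Fin (k + 2 + 1) → F)) ≠ 0) ↔
            b0 ≠ -(-(a0 / a1) * eval (-(a0 / a1)) (toPoly t)) := by
        intro b0
        rw [hl, he]
        constructor
        · rintro ⟨_, h2⟩ h3
          apply h2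
          rw [h3]; ring
        · intro h2
          exact ⟨ht, fun h3 => h2 (by linear_combination h3)⟩
      simp only [hyes]
      rw [sum_ne, if_pos ht, one_mul]
  simp only [hinner]
  have hs : ∑ t : Fin (k + 2) → F, (if t (Fin.last (k + 1)) ≠ 0 then 1 else 0) =
      (𝔮 - 1) * 𝔮 ^ (k + 1) := sum_last_ne (k + 1)
  rw [← Finset.sum_mul, hs]
  ring

theorem cntC (k : ℕ) (a0 : F) (h : a0 ≠ 0) :
    cnt k ![a0, 0, 0] = (𝔮 - 1) * 𝔮 ^ (k + 2) := by
  have hfa : toPoly ![a0, (0 : F), (0 : F)] = C a0 := by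
    rw [toPoly_three]; simp
  unfold cnt
  rw [hfa]
  have hcond : ∀ b : Fin (k + 2 + 1) → F,
      (resultant (C a0) (toPoly b) 2 (k + 2) ≠ 0) ↔ b (Fin.last (k + 2)) ≠ 0 := by
    intro b
    rw [resultant_C_left]
    have hc : (toPoly b).coeff (k + 2) = b (Fin.last (k + 2)) := by
      rw [coeff_toPoly, dif_pos (by omega)]; rfl
    rw [hc]
    have hs : ((-1 : F)) ^ (2 * (k + 2)) ≠ 0 := pow_ne_zero _ (by simp)
    have ha : a0 ^ (k + 2) ≠ 0 := pow_ne_zero _ h
    constructor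
    · intro hx h0
      apply hx
      rw [h0]; ring
    · intro h1
      exact mul_ne_zero (mul_ne_zero hs (pow_ne_zero _ h1)) ha
  simp only [hcond]
  exact sum_last_ne (k + 2)

theorem cntD (k : ℕ) : cnt k ![(0 : F), 0, 0] = 0 := by
  have hfa : toPoly ![(0 : F), (0 : F), (0 : F)] = 0 := by
    rw [toPoly_three]; simp
  unfold cnt
  rw [hfa]
  apply Finset.sum_eq_zero
  intro b _
  rw [resultant_zero_left]
  simp

theorem total (k : ℕ) :
    ∑ a2 : F, ∑ a1 : F, ∑ a0 : F, cnt k ![a0, a1, a2] =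
      𝔮 ^ (k + 2 + 4) - 𝔮 ^ (k + 2 + 3) - 𝔮 ^ (k + 2 + 2) + 𝔮 ^ (k + 2 + 1) := by
  have hA : ∀ a2 : F, a2 ≠ 0 → ∑ a1 : F, ∑ a0 : F, cnt k ![a0, a1, a2] =
      𝔮 ^ (k + 1) * (𝔮 * ((𝔮 - 1) * 𝔮 + 𝔮 * ((𝔮 - 1) * (𝔮 - 1)))) := by
    intro a2 h
    have : ∀ a1 a0 : F, cnt k ![a0, a1, a2] = 𝔮 ^ (k + 1) * M a0 a1 a2 :=
      fun a1 a0 => cntA k a0 a1 a2 h
    simp only [this, ← Finset.mul_sum]
    rw [sumM a2 h]
  have hB : ∀ a1 : F, a1 ≠ 0 → ∑ a0 : F, cnt k ![a0, a1, 0] =
      𝔮 * ((𝔮 - 1) * ((𝔮 - 1) * 𝔮 ^ (k + 1))) := by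
    intro a1 h
    have : ∀ a0 : F, cnt k ![a0, a1, 0] = (𝔮 - 1) * ((𝔮 - 1) * 𝔮 ^ (k + 1)) :=
      fun a0 => cntB k a0 a1 h
    simp only [this, Finset.sum_const, Finset.card_univ, smul_eq_mul]
  have hC : ∀ a0 : F, a0 ≠ 0 → cnt k ![a0, 0, 0] = (𝔮 - 1) * 𝔮 ^ (k + 2) :=
    fun a0 h => cntC k a0 h
  have e1 := sum_split' (fun a2 : F => ∑ a1 : F, ∑ a0 : F, cnt k ![a0, a1, a2]) _ hA
  have e2 := sum_split' (fun a1 : F => ∑ a0 : F, cnt k ![a0, a1, 0]) _ hB
  have e3 := sum_split' (fun a0 : F => cnt k ![a0, 0, 0]) _ hC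
  beta_reduce at e1 e2 e3
  rw [e1, e2, e3, cntD]
  have hq : 2 ≤ Fintype.card F := Fintype.one_lt_card
  generalize Fintype.card F = q at hq ⊢
  obtain ⟨u, rfl⟩ : ∃ u, q = u + 2 := ⟨q - 2, by omega⟩
  have e1 : u + 2 - 1 = u + 1 := by omega
  rw [e1]
  have key : ∀ T A B C D : ℕ, T + B + C = A + D → B + C ≤ A → T = A - B - C + D := by
    intros; omega
  apply key
  · ring
  · have hl : (u + 2) ^ (k + 2 + 3) + (u + 2) ^ (k + 2 + 2) = (u + 3) * (u + 2) ^ (k + 4) := by ring
    have hr : (u + 2) ^ (k + 2 + 4) = (u + 2) ^ 2 * (u + 2) ^ (k + 4) := by ring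
    rw [hl, hr]
    apply Nat.mul_le_mul_right
    nlinarith

end counting

/-- Let F be a finite field with q elements and let n ≥ 2. Count the pairs (f, g) where f is a binary
quadratic form and g a binary form of degree n over F, recorded by their coefficient vectors of
lengths 3 and n + 1 (leading coefficients may vanish), whose resultant — the Sylvester determinant
of the two coefficient vectors with size parameters 2 and n — is nonzero, i.e. f and g have no
common zero on the projective line. The number of such pairs is q ^ (n + 4) - q ^ (n + 3) - q ^ (n +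
2) + q ^ (n + 1). (The source's result is the compactly supported ℓ-adic cohomology of this locus:
one-dimensional of Tate weights n + 4, n + 3, n + 2, n + 1 in degrees 2n + 8, 2n + 7, 2n + 5, 2n + 4
and zero elsewhere; this row keeps only the resulting point count.) -/
theorem result (F : Type u) [Field F] [Fintype F] (n : ℕ) (h2 : 2 ≤ n) :
    Nat.card {p : (Fin 3 → F) × (Fin (n + 1) → F) //
      Polynomial.resultant (∑ i : Fin 3, Polynomial.C (p.1 i) * Polynomial.X ^ (i : ℕ))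
        (∑ j : Fin (n + 1), Polynomial.C (p.2 j) * Polynomial.X ^ (j : ℕ)) 2 n ≠ 0} =
      Fintype.card F ^ (n + 4) - Fintype.card F ^ (n + 3) - Fintype.card F ^ (n + 2) + Fintype.card F ^ (n + 1) := by
  obtain ⟨k, rfl⟩ : ∃ k, n = k + 2 := ⟨n - 2, by omega⟩
  have h1 := card_eq_sum (F := F) k
  have h2 := total (F := F) k
  exact h1.trans ((sum_fin3 _).trans h2)

end Groth.Agent.S18925
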