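import Groth.Statements.S18924
import Mathlib
import Groth.Agent.S18925

set_option autoImplicit false
universe u
open ResHyp

namespace Groth.Agent.S18924

open Polynomial Groth.Agent.S18925

section
open Classical
variable {F : Type u} [Field F] [Fintype F]

/-- the resultant of the pair of coefficient vectors -/
noncomputable def R (n : ℕ) (p : (Fin 3 → F) × (Fin (n + 1) → F)) : F :=
  resultant (toPoly p.1) (toPoly p.2) 2 n

/-- scaling both forms -/
def scaleEquiv (n : ℕ) (c d : F) (hc : c ≠ 0) (hd : d ≠ 0) :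
    ((Fin 3 → F) × (Fin (n + 1) → F)) ≃ ((Fin 3 → F) × (Fin (n + 1) → F)) where
  toFun p := (fun i => c * p.1 i, fun j => d * p.2 j)
  invFun p := (fun i => c⁻¹ * p.1 i, fun j => d⁻¹ * p.2 j)
  left_inv p := by
    ext i <;> simp [hc, hd]
  right_inv p := by
    ext i <;> simp [hc, hd]

theorem R_scale (n : ℕ) (c d : F) (hc : c ≠ 0) (hd : d ≠ 0)
    (p : (Fin 3 → F) × (Fin (n + 1) → F)) :
    R n (scaleEquiv n c d hc hd p) = c ^ n * (d ^ 2 * R n p) := by
  show resultant (toPoly fun i => c * p.1 i) (toPoly fun j => d * p.2 j) 2 n = _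
  rw [toPoly_smul, toPoly_smul, resultant_C_mul_left, resultant_C_mul_right]
  rfl

theorem card_sub {α : Type*} [Fintype α] (P : α → Prop) [DecidablePred P] :
    Nat.card {x // P x} = ∑ x, if P x then 1 else 0 := by
  rw [Nat.card_eq_fintype_card, Fintype.card_subtype, Finset.card_filter]

theorem count_eq (m : ℕ) (c : F) (hc : c ≠ 0) :
    ∑ p : (Fin 3 → F) × (Fin (2 * m + 1 + 1) → F), (if R (2 * m + 1) p = c then 1 else 0) =
    ∑ p : (Fin 3 → F) × (Fin (2 * m + 1 + 1) → F), (if R (2 * m + 1) p = 1 then 1 else 0) := by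
  have hd : (c⁻¹) ^ m ≠ 0 := pow_ne_zero _ (inv_ne_zero hc)
  rw [← (scaleEquiv (2 * m + 1) c ((c⁻¹) ^ m) hc hd).sum_comp]
  apply Finset.sum_congr rfl
  intro p _
  rw [R_scale]
  have h1 : c ^ (2 * m + 1) * (((c⁻¹) ^ m) ^ 2 * R (2 * m + 1) p) = c * R (2 * m + 1) p := by
    have h2 : c ^ (2 * m + 1) * (((c⁻¹) ^ m) ^ 2 * R (2 * m + 1) p) =
        c * (c * c⁻¹) ^ (2 * m) * R (2 * m + 1) p := by ring
    rw [h2, mul_inv_cancel₀ hc, one_pow, mul_one]
  rw [h1]
  apply if_congr _ rfl rfl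
  constructor
  · intro h
    exact mul_left_cancel₀ hc (h.trans (mul_one c).symm)
  · intro h
    rw [h, mul_one]

theorem indicator_split (x : F) :
    (if x ≠ 0 then 1 else 0 : ℕ) = ∑ c : F, if c = 0 then 0 else (if x = c then 1 else 0) := by
  by_cases hx : x = 0
  · rw [if_neg (not_not.mpr hx)]
    symm
    apply Finset.sum_eq_zero
    intro c _
    by_cases hc : c = 0
    · rw [if_pos hc]
    · rw [if_neg hc, if_neg (fun h : x = c => hc (h.symm.trans hx))]
  · rw [if_pos hx, Finset.sum_eq_single x]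
    · rw [if_neg hx, if_pos rfl]
    · intro c _ hcx
      by_cases hc : c = 0
      · rw [if_pos hc]
      · rw [if_neg hc, if_neg (fun h : x = c => hcx h.symm)]
    · intro h
      exact absurd (Finset.mem_univ _) h

theorem sum_ne_eq (m : ℕ) :
    ∑ p : (Fin 3 → F) × (Fin (2 * m + 1 + 1) → F), (if R (2 * m + 1) p ≠ 0 then 1 else 0) =
      (Fintype.card F - 1) *
        ∑ p : (Fin 3 → F) × (Fin (2 * m + 1 + 1) → F), (if R (2 * m + 1) p = 1 then 1 else 0) := by
  rw [Finset.sum_congr rfl (fun p _ => indicator_split (R (2 * m + 1) p)), Finset.sum_comm]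
  have : ∀ c : F, ∑ p : (Fin 3 → F) × (Fin (2 * m + 1 + 1) → F),
      (if c = 0 then 0 else if R (2 * m + 1) p = c then 1 else 0) =
      if c = 0 then 0 else
        ∑ p : (Fin 3 → F) × (Fin (2 * m + 1 + 1) → F), (if R (2 * m + 1) p = 1 then 1 else 0) := by
    intro c
    by_cases hc : c = 0
    · simp [hc]
    · simp only [if_neg hc]
      exact count_eq m c hc
  simp only [this]
  rw [sum_ite_zero, zero_add]

theorem arith2 (q N m : ℕ) (hq : 2 ≤ q)
    (main : (q - 1) * N =
      q ^ (2 * m + 1 + 4) - q ^ (2 * m + 1 + 3) - q ^ (2 * m + 1 + 2) + q ^ (2 * m + 1 + 1)) :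
    N = q ^ (2 * m + 1 + 3) - q ^ (2 * m + 1 + 1) := by
  obtain ⟨u, rfl⟩ : ∃ u, q = u + 2 := ⟨q - 2, by omega⟩
  have e1 : u + 2 - 1 = u + 1 := by omega
  rw [e1] at main
  have key : ∀ T A B C D : ℕ, T + B + C = A + D → B + C ≤ A → T = A - B - C + D := by
    intros; omega
  have hX : (u + 1) * ((u + 2) ^ (2 * m + 1 + 1) * ((u + 1) * (u + 3))) =
      (u + 2) ^ (2 * m + 1 + 4) - (u + 2) ^ (2 * m + 1 + 3) - (u + 2) ^ (2 * m + 1 + 2)
        + (u + 2) ^ (2 * m + 1 + 1) := by
    apply key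
    · ring
    · have hl : (u + 2) ^ (2 * m + 1 + 3) + (u + 2) ^ (2 * m + 1 + 2) =
          (u + 3) * (u + 2) ^ (2 * m + 3) := by ring
      have hr : (u + 2) ^ (2 * m + 1 + 4) = (u + 2) ^ 2 * (u + 2) ^ (2 * m + 3) := by ring
      rw [hl, hr]
      apply Nat.mul_le_mul_right
      nlinarith
  have hN : N = (u + 2) ^ (2 * m + 1 + 1) * ((u + 1) * (u + 3)) :=
    Nat.eq_of_mul_eq_mul_left (by omega : 0 < u + 1) (main.trans hX.symm)
  rw [hN]
  have h3 : (u + 2) ^ (2 * m + 1 + 1) * ((u + 1) * (u + 3)) + (u + 2) ^ (2 * m + 1 + 1) =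
      (u + 2) ^ (2 * m + 1 + 3) := by ring
  omega

theorem main_count (m : ℕ)
    (hS : Nat.card {p : (Fin 3 → F) × (Fin (2 * m + 1 + 1) → F) // R (2 * m + 1) p ≠ 0} =
      Fintype.card F ^ (2 * m + 1 + 4) - Fintype.card F ^ (2 * m + 1 + 3)
        - Fintype.card F ^ (2 * m + 1 + 2) + Fintype.card F ^ (2 * m + 1 + 1)) :
    Nat.card {p : (Fin 3 → F) × (Fin (2 * m + 1 + 1) → F) // R (2 * m + 1) p = 1} =
      Fintype.card F ^ (2 * m + 1 + 3) - Fintype.card F ^ (2 * m + 1 + 1) := by
  rw [card_sub] at hS ⊢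
  rw [sum_ne_eq] at hS
  exact arith2 _ _ m Fintype.one_lt_card hS

end

/-- Let F be a finite field with q elements and let n ≥ 3 be odd. Count the pairs (f, g) where f is a
binary quadratic form and g a binary form of degree n over F, recorded by their coefficient vectors
of lengths 3 and n + 1 (leading coefficients may vanish), whose resultant — the Sylvester
determinant of the two coefficient vectors with size parameters 2 and n — equals 1. The number of
such pairs is q ^ (n + 3) - q ^ (n + 1). (The published statement gives q ^ (n + 3) + q ^ (n + 1);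
for q = 3 and n = 3 the count is 648, not 810.) -/
theorem result (F : Type u) [Field F] [Fintype F] (n : ℕ)
    (hn : Odd n) (h3 : 3 ≤ n) :
    Nat.card {p : (Fin 3 → F) × (Fin (n + 1) → F) //
      Polynomial.resultant (∑ i : Fin 3, Polynomial.C (p.1 i) * Polynomial.X ^ (i : ℕ))
        (∑ j : Fin (n + 1), Polynomial.C (p.2 j) * Polynomial.X ^ (j : ℕ)) 2 n = 1} =
      Fintype.card F ^ (n + 3) - Fintype.card F ^ (n + 1) := by
  obtain ⟨m, rfl⟩ := hn
  exact main_count m (Groth.Agent.S18925.result F (2 * m + 1) (by omega))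

end Groth.Agent.S18924
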