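import Groth.Statements.S18928
import Mathlib.Tactic.LinearCombination
import Mathlib.Tactic.Ring

set_option autoImplicit false
universe u
open DPow

namespace Groth.Agent.S18928

/-- Let B be a commutative ring, I an ideal of B with a divided power structure, p a prime, r a natural
number, b an element of B and δ an element of I. Then (b + δ)^(p^r) − b^(p^r) lies in the ideal p^r
I. (The source states this for a divided power thickening over the Witt vectors of length n and 0 ≤
r ≤ n; neither restriction is used.) -/
theorem result {B : Type u} [CommRing B] {I : Ideal B}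
    (hI : DividedPowers I) (p : ℕ) [Fact p.Prime] (r : ℕ) (b δ : B) (hδ : δ ∈ I) :
    (b + δ) ^ (p ^ r) - b ^ (p ^ r) ∈ Ideal.span {((p : B) ^ r)} * I := by
  have hnpos : 0 < p ^ r := pow_pos (Fact.out : p.Prime).pos r
  obtain ⟨n', hn'⟩ : ∃ n', p ^ r = n' + 1 := ⟨p ^ r - 1, by omega⟩
  rw [add_comm b δ, add_pow, Finset.sum_range_succ']
  simp only [pow_zero, Nat.sub_zero, Nat.choose_zero_right, Nat.cast_one, mul_one, one_mul]
  rw [add_sub_cancel_right]
  apply Submodule.sum_mem
  intro k _
  have h1 : δ ^ (k + 1) = ((k + 1).factorial : B) * hI.dpow (k + 1) δ :=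
    (hI.factorial_mul_dpow_eq_pow hδ).symm
  have h2 : (k + 1).factorial * (p ^ r).choose (k + 1) = p ^ r * n'.descFactorial k := by
    rw [← Nat.descFactorial_eq_factorial_mul_choose, hn', Nat.succ_descFactorial_succ]
  have h3 : ((k + 1).factorial : B) * ((p ^ r).choose (k + 1) : B) = (p : B) ^ r * (n'.descFactorial k : B) := by
    have := congrArg (Nat.cast : ℕ → B) h2
    push_cast at this
    exact this
  have h4 : δ ^ (k + 1) * b ^ (p ^ r - (k + 1)) * ((p ^ r).choose (k + 1) : B) =
      (p : B) ^ r * ((n'.descFactorial k : B) * b ^ (p ^ r - (k + 1)) * hI.dpow (k + 1) δ) := by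
    rw [h1]
    linear_combination (b ^ (p ^ r - (k + 1)) * hI.dpow (k + 1) δ) * h3
  rw [h4]
  exact Ideal.mul_mem_mul (Ideal.mem_span_singleton_self _)
    (I.mul_mem_left _ (hI.dpow_mem (Nat.succ_ne_zero k) hδ))

end Groth.Agent.S18928
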