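import Groth.Statements.S18930
import Mathlib.RingTheory.Ideal.Maps
import Mathlib.RingTheory.WittVector.Basic

set_option autoImplicit false
universe u
open DPow

namespace Groth.Agent.S18930

/-- Let p be a prime, n ≥ 1, B a commutative ring with p^n = 0 and A = B/pB. Let θ : W_n(A) → B be the
ring homomorphism which sends the reduction of a Witt vector (x_0, …, x_{n−1}) over B to Σ_{i<n} p^i
x_i^(p^(n−i)), let J_n be its kernel and let I_n be the set of a in W_n(A) whose zeroth component
satisfies a_0^(p^n) = 0. Then J_n + (p) ⊆ I_n. (In the source B is the ring of global sections of a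
scheme over the Witt vectors of length n of a perfect field.) -/
theorem result (p : ℕ) [Fact p.Prime] (n : ℕ) (hn : 0 < n)
    {B : Type u} [CommRing B] (hp : (p : B) ^ n = 0)
    (θ : TruncatedWittVector p n (B ⧸ (Ideal.span {(p : B)})) →+* B)
    (hθ : ∀ x : WittVector p B, θ (WittVector.truncate n (WittVector.map (Ideal.Quotient.mk (Ideal.span {(p : B)})) x)) =
        ∑ i : Fin n, (p : B) ^ (i : ℕ) * (x.coeff i) ^ (p ^ (n - i)))
    (a : TruncatedWittVector p n (B ⧸ (Ideal.span {(p : B)})))
    (ha : a ∈ RingHom.ker θ ⊔ Ideal.span {(p : TruncatedWittVector p n (B ⧸ (Ideal.span {(p : B)})))}) :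
    (TruncatedWittVector.coeff ⟨0, hn⟩ a) ^ (p ^ n) = 0 := by
  have hprime : p.Prime := Fact.out
  let π : WittVector p B →+* TruncatedWittVector p n (B ⧸ Ideal.span {(p : B)}) :=
    (WittVector.truncate n).comp (WittVector.map (Ideal.Quotient.mk (Ideal.span {(p : B)})))
  have hπsurj : Function.Surjective π :=
    (WittVector.truncate_surjective p n (B ⧸ Ideal.span {(p : B)})).comp
      (WittVector.map_surjective _ Ideal.Quotient.mk_surjective)
  obtain ⟨j, hj, z, hz, rfl⟩ := Submodule.mem_sup.mp ha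
  obtain ⟨c, rfl⟩ := Ideal.mem_span_singleton'.mp hz
  obtain ⟨x, rfl⟩ := hπsurj j
  obtain ⟨y, rfl⟩ := hπsurj c
  have h1 : π x + π y * (p : TruncatedWittVector p n (B ⧸ Ideal.span {(p : B)})) =
      π (x + y * (p : WittVector p B)) := by
    rw [map_add, map_mul, map_natCast]
  rw [h1]
  have hp0 : Ideal.Quotient.mk (Ideal.span {(p : B)}) (p : B) = 0 :=
    Ideal.Quotient.eq_zero_iff_mem.mpr (Ideal.mem_span_singleton_self _)
  have h2 : TruncatedWittVector.coeff ⟨0, hn⟩ (π (x + y * (p : WittVector p B))) =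
      Ideal.Quotient.mk (Ideal.span {(p : B)}) (x.coeff 0) := by
    change TruncatedWittVector.coeff ⟨0, hn⟩ (WittVector.truncate n
      (WittVector.map (Ideal.Quotient.mk (Ideal.span {(p : B)})) (x + y * (p : WittVector p B)))) = _
    rw [WittVector.coeff_truncate, WittVector.map_coeff]
    change Ideal.Quotient.mk (Ideal.span {(p : B)}) (WittVector.constantCoeff (x + y * (p : WittVector p B))) = _
    rw [map_add, map_mul, map_natCast, map_add, map_mul, hp0, mul_zero, add_zero]
    rfl
  rw [h2, ← map_pow, Ideal.Quotient.eq_zero_iff_mem]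
  have h3 := hθ x
  have h4 : θ (π x) = 0 := RingHom.mem_ker.mp hj
  change θ (π x) = _ at h3
  rw [h4] at h3
  rw [← Finset.add_sum_erase _ _ (Finset.mem_univ (⟨0, hn⟩ : Fin n))] at h3
  simp only [pow_zero, one_mul, Nat.sub_zero] at h3
  have h5 : x.coeff 0 ^ p ^ n = - ∑ i ∈ Finset.univ.erase (⟨0, hn⟩ : Fin n),
      (p : B) ^ (i : ℕ) * (x.coeff i) ^ (p ^ (n - i)) := by
    rw [eq_neg_iff_add_eq_zero]; exact h3.symm
  rw [h5]
  apply neg_mem
  apply Submodule.sum_mem
  intro i hi
  have hi0 : (i : ℕ) ≠ 0 := by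
    intro h0
    apply (Finset.mem_erase.mp hi).1
    exact Fin.ext h0
  obtain ⟨m, hm⟩ := Nat.exists_eq_succ_of_ne_zero hi0
  rw [hm, pow_succ', mul_assoc]
  exact Ideal.mul_mem_right _ _ (Ideal.mem_span_singleton_self _)

end Groth.Agent.S18930
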