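import Groth.Statements.S18931
import Mathlib.RingTheory.WittVector.Identities
import Mathlib.RingTheory.WittVector.Truncated
import Mathlib.RingTheory.WittVector.Domain
import Mathlib.Algebra.CharP.Quotient
import Mathlib.Tactic

set_option autoImplicit false
universe u
open DPow

namespace Groth.Agent.S18931

/-- Let p be a prime, n ≥ 1, B a commutative ring with p^n = 0 and A = B/pB, and assume that the p-th
power map of A is surjective. Let θ : W_n(A) → B be the ring homomorphism which sends the reduction
of a Witt vector (x_0, …, x_{n−1}) over B to Σ_{i<n} p^i x_i^(p^(n−i)). Then every a in W_n(A) with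
a_0^(p^n) = 0 lies in ker θ + (p); together with the reverse inclusion, ker θ + (p) is exactly the
set of such a. (In the source B is the ring of global sections of a scheme over the Witt vectors of
length n of a perfect field. The printed argument subtracts a single correction term, which suffices
for n ≤ 2; in general one corrects the components one at a time.) -/
theorem result (p : ℕ) [Fact p.Prime]
    (n : ℕ) (hn : 0 < n) {B : Type u} [CommRing B] (hp : (p : B) ^ n = 0)
    (hF : Function.Surjective (fun y : B ⧸ (Ideal.span {(p : B)}) => y ^ p))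
    (θ : TruncatedWittVector p n (B ⧸ (Ideal.span {(p : B)})) →+* B)
    (hθ : ∀ x : WittVector p B, θ (WittVector.truncate n (WittVector.map (Ideal.Quotient.mk (Ideal.span {(p : B)})) x)) =
        ∑ i : Fin n, (p : B) ^ (i : ℕ) * (x.coeff i) ^ (p ^ (n - i)))
    (a : TruncatedWittVector p n (B ⧸ (Ideal.span {(p : B)}))) (ha : (TruncatedWittVector.coeff ⟨0, hn⟩ a) ^ (p ^ n) = 0) :
    a ∈ RingHom.ker θ ⊔ Ideal.span {(p : TruncatedWittVector p n (B ⧸ (Ideal.span {(p : B)})))} := by
  classical
  rcases subsingleton_or_nontrivial B with hB | hB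
  · have : Subsingleton (B ⧸ Ideal.span {(p : B)}) :=
      (Ideal.Quotient.mk_surjective (I := Ideal.span {(p : B)})).subsingleton
    have h0 : a = 0 := by
      ext i
      exact Subsingleton.elim _ _
    rw [h0]
    exact Submodule.zero_mem _
  have hnu : (p : B) ∈ nonunits B := by
    intro hu
    have h1 : IsUnit ((p : B) ^ n) := hu.pow n
    rw [hp] at h1
    exact not_isUnit_zero h1
  have : CharP (B ⧸ Ideal.span {(p : B)}) p := CharP.quotient B p hnu
  have hm : ∀ m : ℕ, Function.Surjective (fun y : B ⧸ Ideal.span {(p : B)} => y ^ p ^ m) := by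
    intro m
    induction m with
    | zero => intro y; exact ⟨y, by simp⟩
    | succ m ih =>
      intro y
      obtain ⟨w, hw⟩ := ih y
      obtain ⟨v, hv⟩ := hF w
      refine ⟨v, ?_⟩
      have hv' : v ^ p = w := hv
      have hw' : w ^ p ^ m = y := hw
      show v ^ p ^ (m + 1) = y
      rw [pow_succ, pow_mul', hv', hw']
  have hsurj : ∀ (m : ℕ) (b : B), ∃ z c : B, b = z ^ p ^ m + (p : B) * c := by
    intro m b
    obtain ⟨w, hw⟩ := hm m (Ideal.Quotient.mk _ b)
    obtain ⟨z, rfl⟩ := Ideal.Quotient.mk_surjective w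
    have hw' : (Ideal.Quotient.mk (Ideal.span {(p : B)}) z) ^ p ^ m =
        Ideal.Quotient.mk (Ideal.span {(p : B)}) b := hw
    have h2 : Ideal.Quotient.mk (Ideal.span {(p : B)}) (b - z ^ p ^ m) = 0 := by
      rw [map_sub, map_pow, hw', sub_self]
    rw [Ideal.Quotient.eq_zero_iff_mem, Ideal.mem_span_singleton] at h2
    obtain ⟨c, hc⟩ := h2
    exact ⟨z, c, by rw [← hc]; ring⟩
  -- lift the zeroth coefficient
  obtain ⟨x₀, hx₀⟩ := Ideal.Quotient.mk_surjective (TruncatedWittVector.coeff ⟨0, hn⟩ a)
  obtain ⟨b₁, hb₁⟩ : ∃ b₁ : B, x₀ ^ p ^ n = (p : B) * b₁ := by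
    have h2 : Ideal.Quotient.mk (Ideal.span {(p : B)}) (x₀ ^ p ^ n) = 0 := by
      rw [map_pow, hx₀, ha]
    rw [Ideal.Quotient.eq_zero_iff_mem, Ideal.mem_span_singleton] at h2
    exact h2
  have key : ∀ j : ℕ, ∃ (xs : ℕ → B) (r : B), xs 0 = x₀ ∧
      ∑ i ∈ Finset.range (j + 1), (p : B) ^ i * (xs i) ^ p ^ (n - i) = (p : B) ^ (j + 1) * r := by
    intro j
    induction j with
    | zero =>
      refine ⟨fun _ => x₀, b₁, rfl, ?_⟩
      simp [hb₁]
    | succ j ih =>
      obtain ⟨xs, r, h0, h⟩ := ih
      obtain ⟨z, c, hzc⟩ := hsurj (n - (j + 1)) (-r)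
      refine ⟨fun i => if i = j + 1 then z else xs i, -c, ?_, ?_⟩
      · show (if 0 = j + 1 then z else xs 0) = x₀
        rw [if_neg (by omega), h0]
      · show ∑ i ∈ Finset.range (j + 1 + 1),
            (p : B) ^ i * (if i = j + 1 then z else xs i) ^ p ^ (n - i) = (p : B) ^ (j + 1 + 1) * -c
        rw [Finset.sum_range_succ, if_pos rfl]
        have hs : ∑ i ∈ Finset.range (j + 1),
            (p : B) ^ i * (if i = j + 1 then z else xs i) ^ p ^ (n - i) =
            ∑ i ∈ Finset.range (j + 1), (p : B) ^ i * (xs i) ^ p ^ (n - i) := by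
          refine Finset.sum_congr rfl fun i hi => ?_
          rw [if_neg (ne_of_lt (Finset.mem_range.mp hi))]
        rw [hs, h]
        linear_combination (-(p : B) ^ (j + 1)) * hzc
  obtain ⟨xs, r, h0, h⟩ := key (n - 1)
  rw [Nat.sub_add_cancel hn, hp, zero_mul] at h
  -- the element of the kernel
  have hk : WittVector.truncate n (WittVector.map (Ideal.Quotient.mk (Ideal.span {(p : B)}))
      (WittVector.mk p xs)) ∈ RingHom.ker θ := by
    rw [RingHom.mem_ker, hθ, ← h, Finset.sum_range]
    refine Finset.sum_congr rfl fun i _ => ?_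
    rw [WittVector.coeff_mk]
  -- the difference is divisible by p
  obtain ⟨a', ha'⟩ := WittVector.truncate_surjective p n (B ⧸ Ideal.span {(p : B)}) a
  have hC0 : (a' - WittVector.map (Ideal.Quotient.mk (Ideal.span {(p : B)}))
      (WittVector.mk p xs)).coeff 0 = 0 := by
    have e1 : (a' - WittVector.map (Ideal.Quotient.mk (Ideal.span {(p : B)}))
        (WittVector.mk p xs)).coeff 0 =
        WittVector.constantCoeff (a' - WittVector.map (Ideal.Quotient.mk (Ideal.span {(p : B)}))
          (WittVector.mk p xs)) := rfl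
    rw [e1, map_sub]
    show a'.coeff 0 - (WittVector.map (Ideal.Quotient.mk (Ideal.span {(p : B)}))
        (WittVector.mk p xs)).coeff 0 = 0
    rw [WittVector.map_coeff, WittVector.coeff_mk, h0, hx₀, ← ha', WittVector.coeff_truncate,
      sub_self]
  have hV := WittVector.eq_iterate_verschiebung (p := p) (n := 1)
    (x := a' - WittVector.map (Ideal.Quotient.mk (Ideal.span {(p : B)})) (WittVector.mk p xs))
    (by
      intro i hi
      obtain rfl : i = 0 := by omega
      exact hC0)
  rw [Function.iterate_one] at hV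
  -- p-th roots of the coefficients
  have hroot : ∀ y : B ⧸ Ideal.span {(p : B)}, ∃ w : B ⧸ Ideal.span {(p : B)}, w ^ p = y :=
    fun y => hF y
  choose g hg using hroot
  have hFD : WittVector.frobenius (WittVector.mk p (fun i =>
      g (((a' - WittVector.map (Ideal.Quotient.mk (Ideal.span {(p : B)}))
        (WittVector.mk p xs)).shift 1).coeff i))) =
      (a' - WittVector.map (Ideal.Quotient.mk (Ideal.span {(p : B)}))
        (WittVector.mk p xs)).shift 1 := by
    ext i
    rw [WittVector.coeff_frobenius_charP, WittVector.coeff_mk, hg]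
  rw [← hFD, WittVector.verschiebung_frobenius] at hV
  have hc : a - WittVector.truncate n (WittVector.map (Ideal.Quotient.mk (Ideal.span {(p : B)}))
      (WittVector.mk p xs)) ∈
      Ideal.span {(p : TruncatedWittVector p n (B ⧸ (Ideal.span {(p : B)})))} := by
    rw [← ha', ← map_sub, hV, map_mul, map_natCast]
    exact Ideal.mem_span_singleton'.mpr ⟨_, rfl⟩
  have := Submodule.add_mem_sup hk hc
  rwa [add_sub_cancel] at this

end Groth.Agent.S18931
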