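import Groth.Statements.S18932
import Mathlib.RingTheory.WittVector.Identities
import Mathlib.RingTheory.WittVector.Truncated
import Mathlib.Tactic

set_option autoImplicit false
universe u
open DPow

namespace Groth.Agent.S18932

/-- Let p be a prime, k a perfect field of characteristic p, n a natural number and A a commutative
W_n(k)-algebra, W_n(k) the truncated Witt vectors, which is flat over W_n(k) and whose reduction
A/pA has surjective p-th power map. Let θ : W_n(A/pA) → A be the ring homomorphism which sends the
reduction of a Witt vector (x_0, …, x_{n−1}) over A to Σ_{i<n} p^i x_i^(p^(n−i)). Then θ is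
surjective, so A is the quotient of W_n(A/pA) by the kernel of θ. (This is the step of the source's
proposition establishing that Spec of the divided power envelope of that kernel is a thickening of
Spec A; the assertion that it is a final object of the crystalline site is not stated here.) -/
theorem result (p : ℕ) [Fact p.Prime]
    (k : Type u) [Field k] [CharP k p] [PerfectRing k p] (n : ℕ)
    (A : Type u) [CommRing A] [Algebra (TruncatedWittVector p n k) A] [Module.Flat (TruncatedWittVector p n k) A]
    (hF : Function.Surjective (fun y : A ⧸ (Ideal.span {(p : A)}) => y ^ p))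
    (θ : TruncatedWittVector p n (A ⧸ (Ideal.span {(p : A)})) →+* A)
    (hθ : ∀ x : WittVector p A, θ (WittVector.truncate n (WittVector.map (Ideal.Quotient.mk (Ideal.span {(p : A)})) x)) =
        ∑ i : Fin n, (p : A) ^ (i : ℕ) * (x.coeff i) ^ (p ^ (n - i))) :
    Function.Surjective θ := by
  classical
  have hpn0 : ((p : TruncatedWittVector p n k)) ^ n = 0 := by
    have h1 : (p : TruncatedWittVector p n k) ^ n =
        WittVector.truncate n ((p : WittVector p k) ^ n) := by
      rw [map_pow, map_natCast]
    rw [h1]
    ext i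
    rw [WittVector.coeff_truncate, TruncatedWittVector.coeff_zero]
    have h2 := WittVector.mul_pow_charP_coeff_zero (1 : WittVector p k) (m := (i : ℕ)) (n := n) i.2
    rwa [one_mul] at h2
  have hpA : (p : A) ^ n = 0 := by
    have h1 : (p : A) ^ n =
        algebraMap (TruncatedWittVector p n k) A ((p : TruncatedWittVector p n k) ^ n) := by
      rw [map_pow, map_natCast]
    rw [h1, hpn0, map_zero]
  have hm : ∀ m : ℕ, Function.Surjective (fun y : A ⧸ Ideal.span {(p : A)} => y ^ p ^ m) := by
    intro m
    induction m with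
    | zero => intro y; exact ⟨y, by simp⟩
    | succ m ih =>
      intro y
      obtain ⟨w, hw⟩ := ih y
      obtain ⟨v, hv⟩ := hF w
      refine ⟨v, ?_⟩
      have hv' : v ^ p = w := hv
      have hw' : w ^ p ^ m = y := hw
      show v ^ p ^ (m + 1) = y
      rw [pow_succ, pow_mul', hv', hw']
  have hsurj : ∀ (m : ℕ) (b : A), ∃ z c : A, b = z ^ p ^ m + (p : A) * c := by
    intro m b
    obtain ⟨w, hw⟩ := hm m (Ideal.Quotient.mk _ b)
    obtain ⟨z, rfl⟩ := Ideal.Quotient.mk_surjective w
    have hw' : (Ideal.Quotient.mk (Ideal.span {(p : A)}) z) ^ p ^ m =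
        Ideal.Quotient.mk (Ideal.span {(p : A)}) b := hw
    have h2 : Ideal.Quotient.mk (Ideal.span {(p : A)}) (b - z ^ p ^ m) = 0 := by
      rw [map_sub, map_pow, hw', sub_self]
    rw [Ideal.Quotient.eq_zero_iff_mem, Ideal.mem_span_singleton] at h2
    obtain ⟨c, hc⟩ := h2
    exact ⟨z, c, by rw [← hc]; ring⟩
  intro a
  have key : ∀ j : ℕ, ∃ (xs : ℕ → A) (r : A),
      a = ∑ i ∈ Finset.range j, (p : A) ^ i * (xs i) ^ p ^ (n - i) + (p : A) ^ j * r := by
    intro j
    induction j with
    | zero => exact ⟨fun _ => 0, a, by simp⟩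
    | succ j ih =>
      obtain ⟨xs, r, h⟩ := ih
      obtain ⟨z, c, hzc⟩ := hsurj (n - j) r
      refine ⟨fun i => if i = j then z else xs i, c, ?_⟩
      show a = ∑ i ∈ Finset.range (j + 1), (p : A) ^ i * (if i = j then z else xs i) ^ p ^ (n - i) +
        (p : A) ^ (j + 1) * c
      rw [Finset.sum_range_succ, if_pos rfl]
      have hs : ∑ i ∈ Finset.range j, (p : A) ^ i * (if i = j then z else xs i) ^ p ^ (n - i) =
          ∑ i ∈ Finset.range j, (p : A) ^ i * (xs i) ^ p ^ (n - i) := by
        refine Finset.sum_congr rfl fun i hi => ?_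
        rw [if_neg (ne_of_lt (Finset.mem_range.mp hi))]
      rw [hs]
      rw [hzc] at h
      rw [h]
      ring
  obtain ⟨xs, r, h⟩ := key n
  refine ⟨WittVector.truncate n (WittVector.map (Ideal.Quotient.mk (Ideal.span {(p : A)}))
    (WittVector.mk p xs)), ?_⟩
  rw [hθ, h, hpA, zero_mul, add_zero, Finset.sum_range]
  refine Finset.sum_congr rfl fun i _ => ?_
  rw [WittVector.coeff_mk]

end Groth.Agent.S18932
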