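import Groth.Statements.S18935
import Groth.Agent.H56.KzBC
import Groth.Agent.S18939
-- import your own Groth.Agent.* helpers here

set_option autoImplicit false
universe u
open LCI

namespace Groth.Agent.S18935


open Groth.Agent.H56.KzSwap Groth.Agent.H59.Kosz Module in
lemma span_range_eq_top {R : Type u} [CommRing R] (h : List R)
    (hm : ∀ i : Fin h.length, h.get i ∈ Ideal.ofList h) :
    Submodule.span R (Set.range (fun i : Fin h.length => (⟨h.get i, hm i⟩ : Ideal.ofList h))) = ⊤ := by
  rw [eq_top_iff]
  refine le_trans (Submodule.span_span_coe_preimage (R := R) (s := {x | x ∈ h})).ge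
    (Submodule.span_mono ?_)
  rintro ⟨y, hy⟩ (hy' : y ∈ h)
  obtain ⟨i, hi⟩ := List.mem_iff_get.1 hy'
  exact ⟨i, Subtype.ext hi⟩

open Groth.Agent.H56.KzSwap Groth.Agent.H59.Kosz Module in
lemma len_le {R : Type u} [CommRing R] {I : Ideal R} (hI : I ≠ ⊤) (f : List R)
    (hf : LCI.IsKoszulRegularSeq R f) (hfI : Ideal.ofList f = I) (h : List R)
    (hh : Ideal.ofList h = I) : f.length ≤ h.length := by
  classical
  subst hh
  have hfmem : ∀ i : Fin f.length, f.get i ∈ Ideal.ofList h :=
    fun i => hfI ▸ Ideal.subset_span (List.get_mem _ _)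
  have hhmem : ∀ i : Fin h.length, h.get i ∈ Ideal.ofList h :=
    fun i => Ideal.subset_span (List.get_mem _ _)
  have e1 : (List.ofFn fun i => ((⟨f.get i, hfmem i⟩ : Ideal.ofList h) : R)) = f := List.ofFn_get f
  obtain ⟨b, -⟩ := Groth.Agent.S18939.result hI f.length (fun i => ⟨f.get i, hfmem i⟩)
    (by rw [e1]; exact hf)
    (by
      refine Eq.trans ?_ hfI
      show Ideal.span (Set.range f.get) = _
      rw [Set.range_list_get])
  have : Nontrivial (R ⧸ Ideal.ofList h) := Ideal.Quotient.nontrivial_iff.2 hI
  let c0 : Fin h.length → Ideal.ofList h := fun i => ⟨h.get i, hhmem i⟩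
  let c : Fin h.length → (Ideal.ofList h).Cotangent := fun i => (Ideal.ofList h).toCotangent (c0 i)
  have hspanR : Submodule.span R (Set.range c) = ⊤ := by
    have : Set.range c = (Ideal.ofList h).toCotangent '' (Set.range c0) := by
      rw [← Set.range_comp]; rfl
    rw [this, ← Submodule.map_span, span_range_eq_top h hhmem, Submodule.map_top,
      Ideal.toCotangent_range]
  have hspan : Submodule.span (R ⧸ Ideal.ofList h) (Set.range c) = ⊤ := by
    rw [← Submodule.restrictScalars_eq_top_iff R,
      Submodule.restrictScalars_span R (R ⧸ Ideal.ofList h) Ideal.Quotient.mk_surjective, hspanR]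
  have h1 := Basis.le_span'' b hspan
  have h2 := Fintype.card_range_le c
  simpa using h1.trans h2


/-- Let R be a commutative ring and I a proper ideal of R which is generated by some Koszul-regular
sequence. A finite sequence f of generators of I is Koszul-regular if and only if f has the smallest
possible length among all finite generating sequences of I. (Properness of I is needed: the
sequences (1) and (1, 1) are both Koszul-regular and generate the unit ideal.) -/
theorem result {R : Type u} [CommRing R] {I : Ideal R} (hI : I ≠ ⊤)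
    (g : List R) (hg : LCI.IsKoszulRegularSeq R g) (hgI : Ideal.ofList g = I)
    (f : List R) (hfI : Ideal.ofList f = I) :
    LCI.IsKoszulRegularSeq R f ↔ ∀ h : List R, Ideal.ofList h = I → f.length ≤ h.length := by
  constructor
  · intro hf h hh
    exact len_le hI f hf hfI h hh
  · intro hmin
    rw [Groth.Agent.H56.KzSwap.isKoszulRegularSeq_iff]
    refine Groth.Agent.H56.KzSwap.acycBelow_of_le _ f g
      ((Groth.Agent.H56.KzSwap.isKoszulRegularSeq_iff g).1 hg) ?_ (hmin g hgI)
    intro x hx
    have : x ∈ Ideal.ofList g := Ideal.subset_span hx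
    rw [hgI, ← hfI] at this
    exact this

end Groth.Agent.S18935
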