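import Groth.Statements.S18936
-- import your own Groth.Agent.* helpers here

set_option autoImplicit false
universe u
open CAlg

namespace Groth.Agent.S18936

/-- Let A be a Noetherian commutative ring, q a prime ideal of A and f an element of A whose image in
the localization A_q is a non-zero-divisor. Then there is an element b of A not in q such that the
image of f in A[1/b] is a non-zero-divisor. -/
theorem result {A : Type u} [CommRing A] [IsNoetherianRing A]
    (q : Ideal A) [q.IsPrime] (f : A)
    (hf : algebraMap A (Localization.AtPrime q) f ∈ nonZeroDivisors (Localization.AtPrime q)) :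
    ∃ b : A, b ∉ q ∧ algebraMap A (Localization.Away b) f ∈ nonZeroDivisors (Localization.Away b) := by
  classical
  let K : Ideal A := (Ideal.span {f}).annihilator
  have hK : ∀ a : A, a ∈ K ↔ a * f = 0 := fun a => by
    simp only [K]
    rw [Submodule.mem_annihilator_span_singleton, smul_eq_mul]
  -- every element of K is killed by some element outside q
  have hkill : ∀ k ∈ K, ∃ s : A, s ∉ q ∧ s * k = 0 := by
    intro k hk
    have h1 : algebraMap A (Localization.AtPrime q) k * algebraMap A (Localization.AtPrime q) f = 0 := by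
      rw [← map_mul, (hK k).mp hk, map_zero]
    have h2 : algebraMap A (Localization.AtPrime q) k = 0 :=
      (mul_right_mem_nonZeroDivisors_eq_zero_iff hf).mp h1
    obtain ⟨m, hm⟩ := (IsLocalization.map_eq_zero_iff q.primeCompl (Localization.AtPrime q) k).mp h2
    exact ⟨m.1, m.2, hm⟩
  obtain ⟨s, hs⟩ : K.FG := IsNoetherian.noetherian K
  have hfin : ∀ t : Finset A, (∀ k ∈ t, k ∈ K) → ∃ b : A, b ∉ q ∧ ∀ k ∈ t, b * k = 0 := by
    intro t
    induction t using Finset.induction_on with
    | empty => intro _; exact ⟨1, by
        intro h1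
        exact (Ideal.IsPrime.ne_top ‹q.IsPrime›) ((Ideal.eq_top_iff_one q).mpr h1), by simp⟩
    | insert a t _ ih =>
      intro ht
      obtain ⟨b, hb, hbt⟩ := ih (fun k hk => ht k (Finset.mem_insert_of_mem hk))
      obtain ⟨c, hc, hca⟩ := hkill a (ht a (Finset.mem_insert_self a t))
      refine ⟨b * c, ?_, ?_⟩
      · intro hbc
        rcases (‹q.IsPrime›).mem_or_mem hbc with h | h
        · exact hb h
        · exact hc h
      · intro k hk
        rcases Finset.mem_insert.mp hk with rfl | hk
        · rw [mul_assoc, hca, mul_zero]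
        · rw [mul_comm b c, mul_assoc, hbt k hk, mul_zero]
  obtain ⟨b, hb, hbs⟩ := hfin s (fun k hk => by
    rw [← hs]; exact Submodule.subset_span hk)
  have hbK : ∀ k ∈ K, b * k = 0 := by
    intro k hk
    rw [← hs] at hk
    induction hk using Submodule.span_induction with
    | mem x hx => exact hbs x hx
    | zero => exact mul_zero b
    | add x y _ _ hx hy => rw [mul_add, hx, hy, add_zero]
    | smul a x _ hx => rw [smul_eq_mul, mul_left_comm, hx, mul_zero]
  refine ⟨b, hb, ?_⟩
  rw [mem_nonZeroDivisors_iff_right]
  intro x hx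
  obtain ⟨⟨a, m⟩, rfl⟩ := IsLocalization.mk'_surjective (Submonoid.powers b) x
  rw [← IsLocalization.mk'_one (M := Submonoid.powers b) (Localization.Away b) f,
    ← IsLocalization.mk'_mul, mul_one, IsLocalization.mk'_eq_zero_iff] at hx
  obtain ⟨⟨_, j, rfl⟩, hj⟩ := hx
  simp only at hj
  rw [IsLocalization.mk'_eq_zero_iff]
  have hmem : b ^ j * a ∈ K := by
    rw [hK, mul_assoc]; exact hj
  refine ⟨⟨b ^ (j + 1), j + 1, rfl⟩, ?_⟩
  simp only
  rw [pow_succ', mul_assoc]
  exact hbK _ hmem

end Groth.Agent.S18936
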