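import Groth.Statements.S18937
import Mathlib
import Groth.Agent.H59.RegPres
import Groth.Agent.H59.RegImmDesc
import Groth.Agent.H9.RegImm

set_option autoImplicit false
universe u
open CategoryTheory AlgebraicGeometry
open RegImm

namespace Groth.Agent.S18937

open RingTheory.Sequence in
theorem exists_away_regular {P : Type u} [CommRing P] (I : Ideal P)
    (h : RegImm.IsRegularImmersion RegImm.Kind.regular
      (Spec.map (CommRingCat.ofHom (Ideal.Quotient.mk I))))
    (q : PrimeSpectrum (P ⧸ I)) :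
    ∃ G : P, Ideal.Quotient.mk I G ∉ q.asIdeal ∧ ∃ rs : List (Localization.Away G),
      IsRegular (Localization.Away G) rs ∧
        I.map (algebraMap P (Localization.Away G)) = Ideal.ofList rs := by
  classical
  obtain ⟨X, hX⟩ : ∃ X : Scheme.{u}, X = Spec (CommRingCat.of P) := ⟨_, rfl⟩
  obtain ⟨i, hi⟩ : ∃ i : Spec (CommRingCat.of (P ⧸ I)) ⟶ Spec (CommRingCat.of P),
    i = Spec.map (CommRingCat.ofHom (Ideal.Quotient.mk I)) := ⟨_, rfl⟩
  rw [← hi] at h
  haveI : IsClosedImmersion i := by
    rw [hi]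
    exact IsClosedImmersion.spec_of_surjective _ Ideal.Quotient.mk_surjective
  let z : ↥(Spec (CommRingCat.of (P ⧸ I))) := q
  obtain ⟨U, hzU, hcl, rs, hrs, hker⟩ := h.2 z
  obtain ⟨f, hfU, hxf⟩ := (isAffineOpen_top (Spec (CommRingCat.of P))).exists_basicOpen_le
    (V := U.1) ⟨i z, hzU⟩ (Set.mem_univ _)
  let W : (Spec (CommRingCat.of P)).affineOpens :=
    ⟨(Spec (CommRingCat.of P)).basicOpen f, (isAffineOpen_top _).basicOpen f⟩
  have hWU : W.1 ≤ U.1 := hfU
  obtain ⟨hw, hkerW⟩ := Groth.Agent.H9.isWeaklyRegular_restrict i.ker hWU rs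
    hrs.toIsWeaklyRegular (by rw [Scheme.Hom.ker_apply]; exact hker)
  have hne : i.ker.ideal W ≠ ⊤ := Groth.Agent.H9.ker_ideal_ne_top i W z hxf
  obtain ⟨rs', hrs'⟩ : ∃ rs' : List Γ(Spec (CommRingCat.of P), W.1),
      rs' = rs.map ((Spec (CommRingCat.of P)).presheaf.map (homOfLE hWU).op).hom := ⟨_, rfl⟩
  rw [← hrs'] at hw hkerW
  have hreg' : IsRegular Γ(Spec (CommRingCat.of P), W.1) rs' :=
    (Groth.Agent.H9.isRegular_ring_iff rs').mpr ⟨hw, by rw [← hkerW]; exact hne⟩
  rw [Scheme.Hom.ker_apply] at hkerW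
  -- the ring iso
  obtain ⟨e, he⟩ : ∃ e : Γ(Spec (CommRingCat.of P), ⊤) ≃+* P,
      ∀ x, e x = (Scheme.ΓSpecIso (CommRingCat.of P)).hom x :=
    ⟨(Scheme.ΓSpecIso (CommRingCat.of P)).commRingCatIsoToRingEquiv, fun _ => rfl⟩
  obtain ⟨G, hG⟩ : ∃ G : P, G = e f := ⟨_, rfl⟩
  haveI hloc : IsLocalization.Away f Γ(Spec (CommRingCat.of P), W.1) :=
    (isAffineOpen_top (Spec (CommRingCat.of P))).isLocalization_basicOpen f
  have hpow : (Submonoid.powers G).map (e.symm : P →* Γ(Spec (CommRingCat.of P), ⊤)) =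
      Submonoid.powers f := by
    rw [Submonoid.map_powers]
    congr 1
    rw [hG]
    exact e.symm_apply_apply f
  let ε : Localization.Away G ≃+* Γ(Spec (CommRingCat.of P), W.1) :=
    IsLocalization.ringEquivOfRingEquiv (M := Submonoid.powers G) (T := Submonoid.powers f)
      (Localization.Away G) Γ(Spec (CommRingCat.of P), W.1) e.symm hpow
  have hε : ∀ p : P, ε (algebraMap P (Localization.Away G) p) =
      algebraMap Γ(Spec (CommRingCat.of P), ⊤) Γ(Spec (CommRingCat.of P), W.1) (e.symm p) :=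
    fun p => IsLocalization.ringEquivOfRingEquiv_eq _ _
  -- the kernel on global sections
  have hclT : IsClosedImmersion (i ∣_ (⊤ : (Spec (CommRingCat.of P)).Opens)) :=
    IsZariskiLocalAtTarget.restrict (P := @IsClosedImmersion) inferInstance ⊤
  have hk1 := Groth.Agent.H59.RegImmDesc.ker_basicOpen i (isAffineOpen_top _) hclT f
  have hk0 : RingHom.ker (i.app ⊤).hom = I.map (e.symm : P →+* _) := by
    have hnat := Scheme.ΓSpecIso_naturality (CommRingCat.ofHom (Ideal.Quotient.mk I))
    rw [← hi] at hnat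
    have hnat' : ∀ x, (Scheme.ΓSpecIso (CommRingCat.of (P ⧸ I))).hom ((i.app ⊤) x) =
        Ideal.Quotient.mk I (e x) := fun x => by
      have := congrArg (fun φ => φ.hom x) hnat
      rw [he]
      exact this
    have hms : ∀ x, x ∈ I.map (e.symm : P →+* Γ(Spec (CommRingCat.of P), ⊤)) ↔ e x ∈ I := by
      intro x
      constructor
      · intro hx
        have hle : I.map (e.symm : P →+* Γ(Spec (CommRingCat.of P), ⊤)) ≤
            I.comap (e : Γ(Spec (CommRingCat.of P), ⊤) →+* P) := by
          rw [Ideal.map_le_iff_le_comap]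
          intro p hp
          show e (e.symm p) ∈ I
          rw [e.apply_symm_apply]
          exact hp
        exact hle hx
      · intro hx
        have := Ideal.mem_map_of_mem (e.symm : P →+* Γ(Spec (CommRingCat.of P), ⊤)) hx
        rwa [RingEquiv.coe_toRingHom, e.symm_apply_apply] at this
    ext x
    rw [hms, RingHom.mem_ker, ← Ideal.Quotient.eq_zero_iff_mem, ← hnat' x]
    constructor
    · intro hx
      rw [hx]
      exact map_zero (Scheme.ΓSpecIso (CommRingCat.of (P ⧸ I))).hom.hom
    · intro hx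
      have hinj : Function.Injective
          (Scheme.ΓSpecIso (CommRingCat.of (P ⧸ I))).commRingCatIsoToRingEquiv :=
        RingEquiv.injective _
      exact hinj (hx.trans
        (map_zero (Scheme.ΓSpecIso (CommRingCat.of (P ⧸ I))).commRingCatIsoToRingEquiv).symm)
  refine ⟨G, ?_, rs'.map ε.symm, Groth.Agent.H59.RegPres.isRegular_map_ringEquiv ε.symm rs' hreg', ?_⟩
  · have h1 : i z ∈ (Spec (CommRingCat.of P)).basicOpen f := hxf
    rw [basicOpen_eq_of_affine'] at h1
    have h2 : e f ∉ (i z).asIdeal := by rw [he]; exact h1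
    have h3 : (i z).asIdeal = Ideal.comap (Ideal.Quotient.mk I) q.asIdeal := by
      rw [hi]; rfl
    rw [h3, Ideal.mem_comap] at h2
    rw [hG]
    exact h2
  · have hcomp : algebraMap P (Localization.Away G) = (ε.symm : _ →+* Localization.Away G).comp
        ((algebraMap Γ(Spec (CommRingCat.of P), ⊤) Γ(Spec (CommRingCat.of P), W.1)).comp
          (e.symm : P →+* _)) := by
      ext p
      show _ = ε.symm (algebraMap _ _ (e.symm p))
      rw [← hε, RingEquiv.symm_apply_apply]
    rw [hcomp, ← Ideal.map_map, ← Ideal.map_map, ← hk0, ← hk1, hkerW, Ideal.map_ofList]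
    rfl


/-- Let A be a Noetherian commutative ring, n a natural number, I an ideal of the polynomial ring A[X_1,
…, X_n] and B = A[X_1, …, X_n]/I, and assume that the closed immersion Spec B → Spec A[X_1, …, X_n]
is a regular immersion (kind: successive non-zero-divisors). Then Spec B is covered by basic opens
D(g) with B[1/g] isomorphic, as an A-algebra, to a quotient A[X_0, …, X_n]/(P_1, …, P_d) of the
polynomial ring in one more variable by a regular sequence P_1, …, P_d. -/
theorem result
    (A : Type u) [CommRing A] [IsNoetherianRing A] (n : ℕ) (I : Ideal (MvPolynomial (Fin n) A))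
    (h : RegImm.IsRegularImmersion RegImm.Kind.regular
      (Spec.map (CommRingCat.ofHom (Ideal.Quotient.mk I))))
    (q : PrimeSpectrum (MvPolynomial (Fin n) A ⧸ I)) :
    ∃ g : MvPolynomial (Fin n) A ⧸ I, g ∉ q.asIdeal ∧
      ∃ (d : ℕ) (P : Fin d → MvPolynomial (Fin (n + 1)) A),
        RingTheory.Sequence.IsRegular (MvPolynomial (Fin (n + 1)) A) (List.ofFn P) ∧
        Nonempty (Localization.Away g ≃ₐ[A] (MvPolynomial (Fin (n + 1)) A ⧸ Ideal.ofList (List.ofFn P))) := by
  obtain ⟨G, hG, rs, hreg, hI⟩ := exists_away_regular I h q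
  obtain ⟨d, Pf, hPf, e⟩ := Groth.Agent.H59.RegPres.exists_pres_mv n I G rs hreg hI
  exact ⟨Ideal.Quotient.mk I G, hG, d, Pf, hPf, e⟩

end Groth.Agent.S18937
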