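import Groth.Statements.S18938
import Mathlib
import Groth.Agent.H59.RegPres
import Groth.Agent.H66.RelCI4
import Groth.Agent.S9170
import Groth.Agent.H9.RegSpread
import Groth.Agent.H9.RegImm

set_option autoImplicit false
universe u
open Synt

namespace Groth.Agent.S18938


/-- Let A be a Noetherian commutative ring and B a syntomic A-algebra. Then Spec B is covered by basic
opens D(g) with B[1/g] isomorphic, as an A-algebra, to A[T_1, …, T_n]/(P_1, …, P_d) for a regular
sequence P_1, …, P_d (successive non-zero-divisors with nonzero last quotient) in the polynomial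
ring A[T_1, …, T_n]. (The source states this for a syntomic scheme over Spec A, syntomic meaning
flat, locally of finite presentation and locally a Koszul-regular immersion into a smooth scheme;
here syntomic is the ring-map notion with local complete intersection fibres, which agrees with it.) -/
theorem result
    (A : Type u) [CommRing A] [IsNoetherianRing A] (B : Type u) [CommRing B] [Algebra A B]
    (h : Synt.IsSyntomic A B) (q : PrimeSpectrum B) :
    ∃ g : B, g ∉ q.asIdeal ∧
      ∃ (n d : ℕ) (P : Fin d → MvPolynomial (Fin n) A),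
        RingTheory.Sequence.IsRegular (MvPolynomial (Fin n) A) (List.ofFn P) ∧
        Nonempty (Localization.Away g ≃ₐ[A] (MvPolynomial (Fin n) A ⧸ Ideal.ofList (List.ofFn P))) := by
  classical
  haveI := q.isPrime
  obtain ⟨g₁, hg₁, n, c, F, hF, ⟨e⟩⟩ :=
    Groth.Agent.H66.RelCI.exists_relGCI_of_isSyntomic h q
  have hdisj : Disjoint (Submonoid.powers g₁ : Set B) (q.asIdeal : Set B) :=
    (Ideal.disjoint_powers_iff_notMem_of_isPrime g₁).mpr hg₁
  haveI hqg : (Ideal.map (algebraMap B (Localization.Away g₁)) q.asIdeal).IsPrime :=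
    IsLocalization.isPrime_of_isPrime_disjoint (Submonoid.powers g₁) _ q.asIdeal inferInstance hdisj
  obtain ⟨I, hI⟩ : ∃ I : Ideal (MvPolynomial (Fin n) A), I = Ideal.span (Set.range F) := ⟨_, rfl⟩
  -- the prime of the polynomial ring
  obtain ⟨q', hq'⟩ : ∃ q' : Ideal (MvPolynomial (Fin n) A),
      q' = ((Ideal.map (algebraMap B (Localization.Away g₁)) q.asIdeal).comap
        (e.symm : Synt.RelGCIRing A n c F →+* Localization.Away g₁)).comap
          (Ideal.Quotient.mk (Ideal.span (Set.range F))) := ⟨_, rfl⟩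
  haveI hq'p : q'.IsPrime := by rw [hq']; infer_instance
  have hIq' : Ideal.span (Set.range F) ≤ q' := by
    intro x hx
    rw [hq', Ideal.mem_comap, Ideal.Quotient.eq_zero_iff_mem.mpr hx]
    exact zero_mem _
  obtain ⟨hreg, -, -⟩ := Groth.Agent.S9170.result A n c F hF q' hIq'
  have hIloc : (Ideal.span (Set.range F)).map (algebraMap (MvPolynomial (Fin n) A)
      (Localization.AtPrime q')) = Ideal.ofList ((List.ofFn F).map (algebraMap _ _)) := by
    rw [← Ideal.map_ofList, Groth.Agent.H66.RelGCI.ofList_ofFn]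
  obtain ⟨s, hs, hS⟩ := Groth.Agent.H9.exists_away_isWeaklyRegular q' (A := Localization.AtPrime q')
    (Ideal.span (Set.range F)) _ hreg.toIsWeaklyRegular hIloc
  obtain ⟨rs', hrs', hIs⟩ := hS (Localization.Away s)
  have hne : Ideal.ofList rs' ≠ ⊤ := by
    rw [← hIs]
    intro htop
    have hdisj' : Disjoint (Submonoid.powers s : Set (MvPolynomial (Fin n) A)) (q' : Set _) :=
      (Ideal.disjoint_powers_iff_notMem_of_isPrime s).mpr hs
    have hp := IsLocalization.isPrime_of_isPrime_disjoint (Submonoid.powers s)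
      (Localization.Away s) q' inferInstance hdisj'
    exact hp.ne_top (top_le_iff.mp (htop ▸ Ideal.map_mono hIq'))
  have hreg' : RingTheory.Sequence.IsRegular (Localization.Away s) rs' :=
    (Groth.Agent.H9.isRegular_ring_iff rs').mpr ⟨hrs', hne⟩
  obtain ⟨d, Pf, hPf, ⟨e3⟩⟩ := Groth.Agent.H59.RegPres.exists_pres_mv n
    (Ideal.span (Set.range F)) s rs' hreg' hIs
  obtain ⟨t, ht⟩ : ∃ t : Synt.RelGCIRing A n c F,
      t = Ideal.Quotient.mk (Ideal.span (Set.range F)) s := ⟨_, rfl⟩
  rw [← ht] at e3
  obtain ⟨g2, hg2def⟩ : ∃ g2 : Localization.Away g₁, g2 = e.symm t := ⟨_, rfl⟩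
  have hg2 : g2 ∉ Ideal.map (algebraMap B (Localization.Away g₁)) q.asIdeal := by
    intro hmem
    apply hs
    rw [hq', Ideal.mem_comap, Ideal.mem_comap, ← ht]
    rw [hg2def] at hmem
    exact hmem
  obtain ⟨g3, hg3, ⟨e4⟩⟩ :=
    Groth.Agent.H66.RelCI.exists_away_away_equiv g₁ q.asIdeal hg₁ g2 hg2
  have hmap : Submonoid.map e (Submonoid.powers g2) = Submonoid.powers t := by
    rw [Submonoid.map_powers, hg2def]
    congr 1
    exact e.apply_symm_apply t
  let e5 : Localization.Away g2 ≃ₐ[A] Localization.Away t :=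
    IsLocalization.algEquivOfAlgEquiv (M := Submonoid.powers g2) (Localization.Away g2)
      (T := Submonoid.powers t) (Localization.Away t) e hmap
  exact ⟨g3, hg3, n + 1, d, Pf, hPf, ⟨(e4.restrictScalars A).trans (e5.trans e3)⟩⟩

end Groth.Agent.S18938
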