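import Groth.Statements.S18940
-- import your own Groth.Agent.* helpers here

set_option autoImplicit false
universe w v u
open CategoryTheory
open ShfCat

namespace Groth.Agent.S18940

/-- Let (C, J) be a site and f : F → G a morphism of sheaves of sets on it which is locally surjective
(every section of G is, after passing to a covering, in the image of f). Then for every morphism of
sheaves g : H → G the base change F ×_G H → H of f is again locally surjective. -/
theorem result {C : Type u} [Category.{v} C]
    (J : GrothendieckTopology C) {F G H : Sheaf J (Type w)} (f : F ⟶ G) (g : H ⟶ G)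
    [Sheaf.IsLocallySurjective f] :
    Sheaf.IsLocallySurjective (Limits.pullback.snd f g) := by
  constructor
  intro U s
  refine J.superset_covering ?_ (Presheaf.imageSieve_mem J f.hom (g.hom.app (Opposite.op U) s))
  intro V i hi
  obtain ⟨t, ht⟩ := hi
  let E : Sheaf J (Type w) ⥤ Type w :=
    sheafToPresheaf J (Type w) ⋙ (evaluation Cᵒᵖ (Type w)).obj (Opposite.op V)
  have hpb : IsPullback (E.map (Limits.pullback.fst f g)) (E.map (Limits.pullback.snd f g))
      (E.map f) (E.map g) :=
    (IsPullback.of_hasPullback f g).map E
  have hrange := Limits.Types.range_snd_of_isPullback hpb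
  have hs' : H.obj.map i.op s ∈ Set.range (E.map (Limits.pullback.snd f g)) := by
    rw [hrange]
    refine ⟨t, ?_⟩
    exact ht.trans (NatTrans.naturality_apply g.hom i.op s).symm
  obtain ⟨x, hx⟩ := hs'
  exact ⟨x, hx⟩

end Groth.Agent.S18940
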