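import Groth.Statements.S18942
import Mathlib.RingTheory.WittVector.TeichmullerSeries
import Mathlib.RingTheory.WittVector.Complete
import Mathlib.NumberTheory.Basic
import Mathlib.Tactic

set_option autoImplicit false
universe u
open DPow

namespace Groth.Agent.S18942

/-- Let p be a prime, k a perfect field of characteristic p, n a natural number and x an element of
W_n(k), written here as the truncation of a Witt vector x over k. For any Witt vectors y_0, …,
y_{n−1} over k lifting the components of x under the map y ↦ (y_0)^(p^n) (that is, (y_i)_0^(p^n) =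
x_i), one has x = Σ_{i<n} p^i y_i^(p^(n−i)) in W_n(k). -/
theorem result (p : ℕ) [Fact p.Prime]
    (k : Type u) [Field k] [CharP k p] [PerfectRing k p] (n : ℕ) (x : WittVector p k)
    (y : Fin n → WittVector p k) (hy : ∀ i : Fin n, ((y i).coeff 0) ^ (p ^ n) = x.coeff i) :
    WittVector.truncate n x =
      WittVector.truncate n (∑ i : Fin n, (p : WittVector p k) ^ (i : ℕ) * (y i) ^ (p ^ (n - i))) := by
  classical
  rcases n with _ | m
  · ext j
    exact j.elim0
  have hφ : ∀ (j : ℕ) (z : k), ((frobeniusEquiv k p).symm ^ j) (z ^ p ^ j) = z := by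
    intro j
    induction j with
    | zero => intro z; simp
    | succ j ih =>
      intro z
      have e1 : z ^ p ^ (j + 1) = frobenius k p (z ^ p ^ j) := by
        rw [frobenius_def, ← pow_mul, pow_succ]
      rw [pow_succ, RingAut.mul_apply, e1, frobeniusEquiv_symm_apply_frobenius, ih]
  have h1 := WittVector.dvd_sub_sum_teichmuller_iterateFrobeniusEquiv_coeff x m
  have hsum : ∑ i ∈ Finset.Iic m, (WittVector.teichmuller p
        (((frobeniusEquiv k p).symm ^ i) (x.coeff i)) * (p : WittVector p k) ^ i) =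
      ∑ i : Fin (m + 1), (WittVector.teichmuller p
        (((frobeniusEquiv k p).symm ^ (i : ℕ)) (x.coeff i)) * (p : WittVector p k) ^ (i : ℕ)) := by
    rw [← Finset.sum_range (fun i => WittVector.teichmuller p
        (((frobeniusEquiv k p).symm ^ i) (x.coeff i)) * (p : WittVector p k) ^ i)]
    refine Finset.sum_congr ?_ (fun _ _ => rfl)
    ext i
    simp [Nat.lt_succ_iff]
  rw [hsum] at h1
  have h2 : (p : WittVector p k) ^ (m + 1) ∣ ∑ i : Fin (m + 1),
      ((WittVector.teichmuller p (((frobeniusEquiv k p).symm ^ (i : ℕ)) (x.coeff i)) *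
        (p : WittVector p k) ^ (i : ℕ)) -
        (p : WittVector p k) ^ (i : ℕ) * (y i) ^ (p ^ (m + 1 - i))) := by
    refine Finset.dvd_sum fun i _ => ?_
    obtain ⟨e, he⟩ : ∃ e, (i : ℕ) + e = m + 1 := ⟨m + 1 - i, by omega⟩
    have he' : m + 1 - (i : ℕ) = e := by omega
    rw [he']
    have hd1 : (p : WittVector p k) ∣ y i - WittVector.teichmuller p ((y i).coeff 0) := by
      rw [← Ideal.mem_span_singleton, WittVector.mem_span_p_iff_coeff_zero_eq_zero]
      have h := (WittVector.le_coeff_eq_iff_le_sub_coeff_eq_zero (x := y i)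
        (y := WittVector.teichmuller p ((y i).coeff 0)) (n := 1)).mp (by
          intro j hj
          obtain rfl : j = 0 := by omega
          rfl)
      exact h 0 one_pos
    have hd2 : (p : WittVector p k) ^ e ∣
        (y i) ^ p ^ e - (WittVector.teichmuller p ((y i).coeff 0)) ^ p ^ e :=
      dvd_trans (pow_dvd_pow _ (Nat.le_succ e)) (dvd_sub_pow_of_dvd_sub hd1 e)
    have hT : ((frobeniusEquiv k p).symm ^ (i : ℕ)) (x.coeff i) = ((y i).coeff 0) ^ p ^ e := by
      have : x.coeff i = (((y i).coeff 0) ^ p ^ e) ^ p ^ (i : ℕ) := by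
        rw [← hy i, ← pow_mul, ← pow_add, add_comm e, he]
      rw [this, hφ]
    rw [hT, map_pow]
    obtain ⟨c, hc⟩ := hd2
    refine ⟨-c, ?_⟩
    have hpow : (p : WittVector p k) ^ (m + 1) = (p : WittVector p k) ^ (i : ℕ) * (p : WittVector p k) ^ e := by
      rw [← pow_add, he]
    rw [hpow]
    linear_combination (-(p : WittVector p k) ^ (i : ℕ)) * hc
  have h3 := dvd_add h1 h2
  have h4 : x - ∑ i : Fin (m + 1), (WittVector.teichmuller p
        (((frobeniusEquiv k p).symm ^ (i : ℕ)) (x.coeff i)) * (p : WittVector p k) ^ (i : ℕ)) +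
      ∑ i : Fin (m + 1),
      ((WittVector.teichmuller p (((frobeniusEquiv k p).symm ^ (i : ℕ)) (x.coeff i)) *
        (p : WittVector p k) ^ (i : ℕ)) -
        (p : WittVector p k) ^ (i : ℕ) * (y i) ^ (p ^ (m + 1 - i))) =
      x - ∑ i : Fin (m + 1), (p : WittVector p k) ^ (i : ℕ) * (y i) ^ (p ^ (m + 1 - i)) := by
    rw [Finset.sum_sub_distrib]
    ring
  rw [h4, ← Ideal.mem_span_singleton, WittVector.mem_span_p_pow_iff_le_coeff_eq_zero,
    ← WittVector.le_coeff_eq_iff_le_sub_coeff_eq_zero] at h3
  ext j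
  rw [WittVector.coeff_truncate, WittVector.coeff_truncate]
  exact h3 j j.2

end Groth.Agent.S18942
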