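import Groth.Statements.S18943
import Mathlib.Analysis.Calculus.ParametricIntervalIntegral
import Mathlib.MeasureTheory.Integral.IntervalIntegral.FundThmCalculus
import Mathlib.Analysis.Calculus.ContDiff.Deriv
import Mathlib.Analysis.Calculus.Deriv.Mul
import Mathlib.Analysis.Calculus.Deriv.Comp
import Mathlib.Tactic.Ring
import Mathlib.Tactic.Linarith

set_option autoImplicit false
open scoped ContDiff
open CInfGerm

namespace Groth.Agent.S18943


open MeasureTheory Set Metric

/-- the auxiliary family of parametric integrals -/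
noncomputable def G (k : ℕ) (h : ℝ → ℝ) (x : ℝ) : ℝ := ∫ t in (0:ℝ)..1, t ^ k * h (t * x)

theorem hasDerivAt_G (k : ℕ) (h : ℝ → ℝ) (hh : ContDiff ℝ ∞ h) (x₀ : ℝ) :
    HasDerivAt (G k h) (G (k + 1) (deriv h) x₀) x₀ := by
  have hd : Differentiable ℝ h := hh.differentiable (by simp)
  have hc : Continuous h := hh.continuous
  have hd' : Continuous (deriv h) := hh.continuous_deriv (by simp)
  obtain ⟨C, hC⟩ := (isCompact_Icc (a := -(|x₀| + 1)) (b := |x₀| + 1)).exists_bound_of_continuousOn
    hd'.continuousOn
  have key := intervalIntegral.hasDerivAt_integral_of_dominated_loc_of_deriv_le (μ := volume)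
    (F := fun x t => t ^ k * h (t * x)) (F' := fun x t => t ^ (k + 1) * deriv h (t * x))
    (x₀ := x₀) (a := 0) (b := 1) (bound := fun _ => C) (s := ball x₀ 1)
    (ball_mem_nhds x₀ one_pos) ?_ ?_ ?_ ?_ ?_ ?_
  · exact key.2
  · refine Filter.Eventually.of_forall (fun x => ?_)
    exact (Continuous.aestronglyMeasurable (by fun_prop))
  · exact Continuous.intervalIntegrable (by fun_prop) _ _
  · exact (Continuous.aestronglyMeasurable (by fun_prop))
  · refine Filter.Eventually.of_forall (fun t ht x hx => ?_)
    rw [uIoc_of_le zero_le_one] at ht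
    have hx' : |x - x₀| < 1 := by
      rw [← Real.dist_eq]; exact hx
    have hxb : |x| ≤ |x₀| + 1 := by
      have := abs_sub_abs_le_abs_sub x x₀
      linarith
    have htx : |t * x| ≤ |x₀| + 1 := by
      rw [abs_mul, abs_of_pos ht.1]
      calc t * |x| ≤ 1 * |x| := by
            apply mul_le_mul_of_nonneg_right ht.2 (abs_nonneg x)
        _ ≤ |x₀| + 1 := by rw [one_mul]; exact hxb
    have hmem : t * x ∈ Icc (-(|x₀| + 1)) (|x₀| + 1) := abs_le.mp htx
    have h1 := hC (t * x) hmem
    rw [norm_mul, norm_pow, Real.norm_eq_abs, abs_of_pos ht.1]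
    calc t ^ (k + 1) * ‖deriv h (t * x)‖ ≤ 1 * C := by
          apply mul_le_mul (pow_le_one₀ ht.1.le ht.2) h1 (norm_nonneg _) zero_le_one
      _ = C := one_mul C
  · exact intervalIntegrable_const
  · refine Filter.Eventually.of_forall (fun t _ x _ => ?_)
    have h1 : HasDerivAt (fun x => t * x) t x := by
      simpa using (hasDerivAt_id x).const_mul t
    have h2 : HasDerivAt (fun x => h (t * x)) (deriv h (t * x) * t) x :=
      (hd (t * x)).hasDerivAt.comp x h1
    have h3 := h2.const_mul (t ^ k)
    exact h3.congr_deriv (by ring)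

theorem contDiff_G : ∀ (n : ℕ) (k : ℕ) (h : ℝ → ℝ), ContDiff ℝ ∞ h → ContDiff ℝ n (G k h) := by
  intro n
  induction n with
  | zero =>
    intro k h hh
    have hdiff : Differentiable ℝ (G k h) := fun x => (hasDerivAt_G k h hh x).differentiableAt
    exact contDiff_zero.mpr hdiff.continuous
  | succ n ih =>
    intro k h hh
    have hdiff : Differentiable ℝ (G k h) := fun x => (hasDerivAt_G k h hh x).differentiableAt
    have hderiv : deriv (G k h) = G (k + 1) (deriv h) := by
      funext x
      exact (hasDerivAt_G k h hh x).deriv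
    have hh' : ContDiff ℝ ∞ (deriv h) := (contDiff_infty_iff_deriv.mp hh).2
    have : ((n + 1 : ℕ) : WithTop ℕ∞) = (n : WithTop ℕ∞) + 1 := by norm_cast
    rw [this, contDiff_succ_iff_deriv]
    refine ⟨hdiff, ?_, ?_⟩
    · intro hω
      exact absurd hω (by simp)
    · rw [hderiv]
      exact ih (k + 1) (deriv h) hh'

/-- Let f be an infinitely differentiable real-valued function on the real line with f(0) = 0. Then f(x)
= x·g(x) for an infinitely differentiable function g. (The source phrases this for germs at 0: the
maximal ideal of the local ring of germs of smooth functions at the origin is generated by the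
coordinate t; the global form stated here is what its argument, smooth extension of f(x)/x across 0,
gives.) -/
theorem result (f : ℝ → ℝ) (hf : ContDiff ℝ ∞ f) (h0 : f 0 = 0) :
    ∃ g : ℝ → ℝ, ContDiff ℝ ∞ g ∧ ∀ x : ℝ, f x = x * g x := by
  have hd : Differentiable ℝ f := hf.differentiable (by simp)
  have hd' : Continuous (deriv f) := hf.continuous_deriv (by simp)
  have hf' : ContDiff ℝ ∞ (deriv f) := (contDiff_infty_iff_deriv.mp hf).2
  refine ⟨G 0 (deriv f), contDiff_infty.mpr (fun n => contDiff_G n 0 (deriv f) hf'), ?_⟩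
  intro x
  have h1 : ∀ t ∈ Set.uIcc (0:ℝ) 1, HasDerivAt (fun t => f (t * x)) (deriv f (t * x) * x) t := by
    intro t _
    have h1 : HasDerivAt (fun t => t * x) x t := by
      simpa using (hasDerivAt_id t).mul_const x
    exact (hd (t * x)).hasDerivAt.comp t h1
  have h2 := intervalIntegral.integral_eq_sub_of_hasDerivAt h1
    (Continuous.intervalIntegrable (by fun_prop) _ _)
  rw [intervalIntegral.integral_mul_const] at h2
  simp only [one_mul, zero_mul, h0, sub_zero] at h2
  rw [← h2, mul_comm]
  congr 1
  simp [G]

end Groth.Agent.S18943
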