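import Groth.Statements.S18945
import Groth.Agent.Lead.SyntCover

set_option autoImplicit false
universe u
open CategoryTheory AlgebraicGeometry
open Synt

namespace Groth.Agent.S18945

/-- Let p be a prime, X a scheme and a a global section of the structure sheaf of X. There is a covering
of X for the syntomic topology, that is a jointly surjective family of syntomic morphisms X_i → X,
such that the restriction of a to each X_i is a p-th power. (The source states the surjectivity of
the p-th power map of the structure sheaf on the small syntomic site of a syntomic scheme over a
perfect field of characteristic p; the covering it uses elsewhere, adjoining a p-th root T^p = a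
over affine pieces, gives the statement for every scheme, which is the form given here.) -/
theorem result (p : ℕ) [Fact p.Prime] (X : Scheme.{u}) (a : Γ(X, ⊤)) :
    ∃ 𝒰 : Scheme.Cover.{u} (Scheme.precoverage @Synt.IsSyntomicMor) X,
      ∀ i : 𝒰.I₀, ∃ b : Γ(𝒰.X i, ⊤), b ^ p = (𝒰.f i).appTop a := by
  refine ⟨Scheme.Cover.mkOfCovers X.affineOpens
    (fun U => Spec (CommRingCat.of (Groth.Agent.Lead.SyntCover.B p X a U)))
    (Groth.Agent.Lead.SyntCover.f p X a) (Groth.Agent.Lead.SyntCover.covers p X a)
    (Groth.Agent.Lead.SyntCover.map_prop p X a), fun U => ?_⟩
  exact ⟨_, Groth.Agent.Lead.SyntCover.pow_eq p X a U⟩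

end Groth.Agent.S18945
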