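import Groth.Statements.S18946
import Mathlib.Algebra.MvPolynomial.Basic
import Mathlib.Algebra.MvPolynomial.Eval
import Mathlib.Algebra.Algebra.Subalgebra.Basic
import Mathlib.Tactic.Ring

set_option autoImplicit false
universe u
open scoped BigOperators
open InvQ

namespace Groth.Agent.S18946


open MvPolynomial in
theorem aeval_scale_monomial {k : Type u} [Field k] {n : ℕ} (σ : Fin (n + 1) → kˣ)
    (m : Fin (n + 1) →₀ ℕ) (a : k) :
    aeval (fun i => C (σ i : k) * X i) (monomial m a) =
      monomial m (a * ∏ i, (σ i : k) ^ (m i)) := by
  rw [monomial_eq, monomial_eq, map_mul, aeval_C, algebraMap_eq, map_finsuppProd]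
  simp only [map_pow, aeval_X, mul_pow]
  rw [Finsupp.prod_mul, C_mul, mul_assoc]
  congr 2
  rw [Finsupp.prod_fintype _ _ (fun i => by simp), map_prod]
  simp only [map_pow]

open MvPolynomial in
theorem coeff_aeval_scale {k : Type u} [Field k] {n : ℕ} (σ : Fin (n + 1) → kˣ)
    (f : MvPolynomial (Fin (n + 1)) k) (m : Fin (n + 1) →₀ ℕ) :
    coeff m (aeval (fun i => C (σ i : k) * X i) f) = coeff m f * ∏ i, (σ i : k) ^ (m i) := by
  induction f using MvPolynomial.induction_on' with
  | monomial m' a =>
    rw [aeval_scale_monomial, coeff_monomial, coeff_monomial]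
    split_ifs with h
    · subst h; rfl
    · rw [zero_mul]
  | add p q hp hq =>
    rw [map_add, coeff_add, coeff_add, hp, hq, add_mul]

/-- Let k be an algebraically closed field of characteristic zero and n a natural number, and let the
torus of (n+1)-tuples of units of k with product 1 act on the polynomial ring k[t_0, ..., t_n] by
rescaling each variable t_i by the i-th unit. A polynomial is fixed by every such rescaling if and
only if it lies in the k-subalgebra generated by the product t_0 t_1 ... t_n. (This is the
computation of the ring of functions on affine (n+1)-space invariant under the maximal diagonal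
torus of the special linear group, identified with the polynomial ring in the single coordinate t =
t_0 ... t_n of the line it maps to by the product map; invariance is tested on k-valued points of
the torus, which over an infinite field is the same as invariance under the group scheme.) -/
theorem result
    (k : Type u) [Field k] [IsAlgClosed k] [CharZero k] (n : ℕ)
    (f : MvPolynomial (Fin (n + 1)) k) :
    (∀ σ : Fin (n + 1) → kˣ, ∏ i, (σ i : k) = 1 →
        MvPolynomial.aeval (fun i => MvPolynomial.C (σ i : k) * MvPolynomial.X i) f = f) ↔
      f ∈ Algebra.adjoin k ({∏ i : Fin (n + 1), MvPolynomial.X i} : Set (MvPolynomial (Fin (n + 1)) k)) := by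
  classical
  constructor
  · intro hfix
    have hconst : ∀ m ∈ f.support, ∀ i j : Fin (n + 1), m i = m j := by
      intro m hm i j
      have hcm : MvPolynomial.coeff m f ≠ 0 := MvPolynomial.mem_support_iff.mp hm
      let u : kˣ := Units.mk0 (2 : k) two_ne_zero
      let σ : Fin (n + 1) → kˣ := fun l => (if l = i then u else 1) * (if l = j then u⁻¹ else 1)
      have hσ : ∏ l, (σ l : k) = 1 := by
        have : ∏ l, σ l = 1 := by
          simp only [σ, Finset.prod_mul_distrib, Finset.prod_ite_eq', Finset.mem_univ, if_true]
          exact mul_inv_cancel u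
        have h2 := congrArg (fun x : kˣ => (x : k)) this
        simpa using h2
      have h1 := congrArg (MvPolynomial.coeff m) (hfix σ hσ)
      rw [coeff_aeval_scale] at h1
      have h2 : ∏ l, (σ l : k) ^ (m l) = 1 := by
        have := mul_left_cancel₀ hcm (h1.trans (mul_one _).symm)
        exact this
      have h3 : ∏ l, (σ l) ^ (m l) = 1 := by
        apply Units.ext
        rw [Units.val_one, ← h2]
        simp
      simp only [σ, mul_pow, Finset.prod_mul_distrib, ite_pow, one_pow, Finset.prod_ite_eq',
        Finset.mem_univ, if_true] at h3
      have h4 : u ^ (m i) = u ^ (m j) := by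
        rw [inv_pow, mul_inv_eq_one] at h3
        exact h3
      have h5 : (2 : k) ^ (m i) = 2 ^ (m j) := by
        have := congrArg (fun x : kˣ => (x : k)) h4
        simpa [u] using this
      have h6 : ((2 ^ (m i) : ℕ) : k) = ((2 ^ (m j) : ℕ) : k) := by
        push_cast; exact h5
      exact Nat.pow_right_injective (le_refl 2) (Nat.cast_injective h6)
    rw [f.as_sum]
    apply Subalgebra.sum_mem
    intro m hm
    have hm' : MvPolynomial.monomial m (MvPolynomial.coeff m f) =
        MvPolynomial.C (MvPolynomial.coeff m f) *
          (∏ i : Fin (n + 1), MvPolynomial.X i) ^ (m 0) := by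
      rw [MvPolynomial.monomial_eq, Finsupp.prod_fintype _ _ (fun i => by simp), ← Finset.prod_pow]
      congr 1
      apply Finset.prod_congr rfl
      intro i _
      rw [hconst m hm i 0]
    rw [hm', ← MvPolynomial.algebraMap_eq]
    exact Subalgebra.mul_mem _ (Subalgebra.algebraMap_mem _ _)
      (Subalgebra.pow_mem _ (Algebra.subset_adjoin (Set.mem_singleton _)) _)
  · intro hf σ hσ
    have hle : Algebra.adjoin k
        ({∏ i : Fin (n + 1), MvPolynomial.X i} : Set (MvPolynomial (Fin (n + 1)) k)) ≤
        AlgHom.equalizer (MvPolynomial.aeval (fun i => MvPolynomial.C (σ i : k) * MvPolynomial.X i))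
          (AlgHom.id k (MvPolynomial (Fin (n + 1)) k)) := by
      apply Algebra.adjoin_le
      intro x hx
      rw [Set.mem_singleton_iff] at hx
      subst hx
      rw [SetLike.mem_coe, AlgHom.mem_equalizer, map_prod]
      simp only [MvPolynomial.aeval_X, AlgHom.id_apply, Finset.prod_mul_distrib]
      rw [← map_prod, hσ, map_one, one_mul]
    exact hle hf

end Groth.Agent.S18946
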