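import Groth.Statements.S18949
import Mathlib.Tactic.Group

set_option autoImplicit false
universe u v
open CExt

namespace Groth.Agent.S18949

/-- Automorphisms over the base: let f : E → G be a surjective homomorphism of groups with central
kernel A. For every homomorphism χ : G → A the map e ↦ χ(f(e)) · e is an endomorphism of E over G
which is the identity on A; and every endomorphism α of E with f ∘ α = f and α equal to the identity
on A is of this form for exactly one χ. (In the source this identifies the automorphisms of a
central extension fixing its kernel with Hom(G, A), for extensions of profinite étale group schemes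
over a field; stated here for abstract groups.) -/
theorem result {E : Type u} {G : Type v} [Group E] [Group G]
    (f : E →* G) (hf : Function.Surjective f) (hker : f.ker ≤ Subgroup.center E) :
    (∀ χ : G →* f.ker, ∃ α : E →* E, f.comp α = f ∧ (∀ a ∈ f.ker, α a = a) ∧
        ∀ e : E, α e = (χ (f e) : E) * e) ∧
      ∀ α : E →* E, f.comp α = f → (∀ a ∈ f.ker, α a = a) →
        ∃! χ : G →* f.ker, ∀ e : E, α e = (χ (f e) : E) * e := by
  have hcen : ∀ k ∈ f.ker, ∀ e : E, e * k = k * e := by
    intro k hk e
    exact (Subgroup.mem_center_iff.mp (hker hk)) e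
  constructor
  · intro χ
    have hχker : ∀ g : G, f (χ g : E) = 1 := fun g => MonoidHom.mem_ker.mp (χ g).2
    let α : E →* E :=
      { toFun := fun e => (χ (f e) : E) * e
        map_one' := by simp
        map_mul' := by
          intro e e'
          simp only [map_mul, Subgroup.coe_mul]
          have := hcen (χ (f e') : E) (χ (f e')).2 e
          calc (χ (f e) : E) * (χ (f e') : E) * (e * e')
              = (χ (f e) : E) * ((χ (f e') : E) * e) * e' := by group
            _ = (χ (f e) : E) * (e * (χ (f e') : E)) * e' := by rw [this]
            _ = (χ (f e) : E) * e * ((χ (f e') : E) * e') := by group }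
    refine ⟨α, ?_, ?_, fun e => rfl⟩
    · ext e
      show f ((χ (f e) : E) * e) = f e
      rw [map_mul, hχker, one_mul]
    · intro a ha
      show (χ (f a) : E) * a = a
      rw [MonoidHom.mem_ker.mp ha, map_one, Subgroup.coe_one, one_mul]
  · intro α hα hαk
    have hfα : ∀ e, f (α e) = f e := fun e => by
      have := congrArg (fun φ : E →* G => φ e) hα
      simpa using this
    let δ : E → E := fun e => α e * e⁻¹
    have hδker : ∀ e, δ e ∈ f.ker := by
      intro e
      rw [MonoidHom.mem_ker, map_mul, hfα, map_inv, mul_inv_cancel]
    have hδmul : ∀ e e', δ (e * e') = δ e * δ e' := by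
      intro e e'
      have := hcen (δ e') (hδker e') (e⁻¹)
      show α (e * e') * (e * e')⁻¹ = α e * e⁻¹ * δ e'
      calc α (e * e') * (e * e')⁻¹ = α e * (δ e' * e⁻¹) := by
            simp only [δ, map_mul]; group
        _ = α e * (e⁻¹ * δ e') := by rw [this]
        _ = α e * e⁻¹ * δ e' := by group
    have hδk : ∀ k ∈ f.ker, δ k = 1 := by
      intro k hk
      show α k * k⁻¹ = 1
      rw [hαk k hk, mul_inv_cancel]
    have hδwd : ∀ e e', f e = f e' → δ e = δ e' := by
      intro e e' h
      have hk : e⁻¹ * e' ∈ f.ker := by
        rw [MonoidHom.mem_ker, map_mul, map_inv, h, inv_mul_cancel]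
      have : e' = e * (e⁻¹ * e') := by group
      rw [this, hδmul, hδk _ hk, mul_one]
    let s : G → E := Function.surjInv hf
    have hs : ∀ g, f (s g) = g := Function.surjInv_eq hf
    let χ : G →* f.ker :=
      { toFun := fun g => ⟨δ (s g), hδker _⟩
        map_one' := by
          apply Subtype.ext
          show δ (s 1) = 1
          rw [hδwd (s 1) 1 (by rw [hs, map_one])]
          exact hδk 1 (one_mem _)
        map_mul' := by
          intro g g'
          apply Subtype.ext
          show δ (s (g * g')) = δ (s g) * δ (s g')
          rw [← hδmul]
          apply hδwd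
          rw [hs, map_mul, hs, hs] }
    have hχ : ∀ e : E, α e = (χ (f e) : E) * e := by
      intro e
      show α e = δ (s (f e)) * e
      rw [hδwd (s (f e)) e (hs _)]
      show α e = α e * e⁻¹ * e
      rw [inv_mul_cancel_right]
    refine ⟨χ, hχ, ?_⟩
    intro χ' hχ'
    ext g
    obtain ⟨e, rfl⟩ := hf g
    have h1 := hχ e
    have h2 := hχ' e
    rw [h1] at h2
    exact (mul_right_cancel h2).symm

end Groth.Agent.S18949
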