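import Groth.Statements.S18950
-- import your own Groth.Agent.* helpers here

set_option autoImplicit false
universe u v
open CExt

namespace Groth.Agent.S18950

/-- Let f : E → G be a homomorphism of groups whose kernel is central in E, let α be an endomorphism of
E with f ∘ α = f which is the identity on the kernel, and let S ⊆ E be a subset fixed pointwise by α
such that f(S) generates G. Then α is the identity. (In the source S is the marking of a marked
central extension of finite tame étale group schemes and the hypothesis is that the marked conjugacy
classes generate G; the conclusion there is that a morphism of marked extensions inducing the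
identity on the kernel and on G is unique.) -/
theorem result {E : Type u} {G : Type v} [Group E] [Group G]
    (f : E →* G) (hker : f.ker ≤ Subgroup.center E) (α : E →* E) (hα : f.comp α = f)
    (hαA : ∀ a ∈ f.ker, α a = a) (S : Set E) (hS : Subgroup.closure (f '' S) = ⊤)
    (hαS : ∀ s ∈ S, α s = s) : α = MonoidHom.id E := by
  have hfα : ∀ e, f (α e) = f e := fun e => by
    have := congrArg (fun φ : E →* G => φ e) hα
    simpa using this
  -- the subgroup of fixed points
  let F : Subgroup E :=
    { carrier := {e | α e = e}
      one_mem' := map_one α
      mul_mem' := by
        intro a b ha hb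
        show α (a * b) = a * b
        rw [map_mul, ha, hb]
      inv_mem' := by
        intro a ha
        show α a⁻¹ = a⁻¹
        rw [map_inv, ha] }
  have hSF : f '' S ⊆ (F.map f : Set G) := by
    rintro _ ⟨s, hs, rfl⟩
    exact ⟨s, hαS s hs, rfl⟩
  have htop : F.map f = ⊤ := by
    rw [eq_top_iff, ← hS, Subgroup.closure_le]
    exact hSF
  ext e
  show α e = e
  have : f e ∈ F.map f := by rw [htop]; exact Subgroup.mem_top _
  obtain ⟨e', he', hfe⟩ := this
  have hk : e'⁻¹ * e ∈ f.ker := by
    rw [MonoidHom.mem_ker, map_mul, map_inv, hfe, inv_mul_cancel]
  have h1 : α (e'⁻¹ * e) = e'⁻¹ * e := hαA _ hk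
  rw [map_mul, map_inv, (he' : α e' = e')] at h1
  exact mul_left_cancel h1

end Groth.Agent.S18950
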