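import Groth.Statements.S18951
import Mathlib.Algebra.Group.Subgroup.Lattice
import Mathlib.Tactic.Ring

set_option autoImplicit false
universe u
open OrbPic

namespace Groth.Agent.S18951

/-- Let G be a group and C ⊆ G a subset that generates G. Then the projection (χ, w) ↦ w from the group
of geometric partial orbifold line bundles with respect to C to functions G → ℚ is injective, its
image contains every conjugation-invariant integer-valued function vanishing at 1 and outside C, and
the group is torsion-free. (The source works with the geometric points of a tame finite étale group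
scheme, characters with values in roots of unity and weights on conjugacy classes of the Tate twist;
here these are identified with a group, homomorphisms to ℚ/ℤ and class functions as the source does
after choosing roots of unity. The case C = G ∖ {1} is the statement for full orbifold line
bundles.) -/
theorem result (G : Type u) [Group G] (C : Set G)
    (hC : Subgroup.closure C = ⊤) :
    Set.InjOn (fun p : (Additive G →+ W4c6brauerbgmalle.QmodZ) × (G → ℚ) => p.2) (W4c6brauerbgmalle.picOrb G C) ∧
      (∀ w ∈ W4c6brauerbgmalle.intWeights G C, ((0 : Additive G →+ W4c6brauerbgmalle.QmodZ), w) ∈ W4c6brauerbgmalle.picOrb G C) ∧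
      ∀ (n : ℕ) (p : (Additive G →+ W4c6brauerbgmalle.QmodZ) × (G → ℚ)), p ∈ W4c6brauerbgmalle.picOrb G C → n ≠ 0 →
        n • p = 0 → p = 0 := by
  have hinj : Set.InjOn (fun p : (Additive G →+ W4c6brauerbgmalle.QmodZ) × (G → ℚ) => p.2)
      (W4c6brauerbgmalle.picOrb G C) := by
    intro p hp q hq hpq
    obtain ⟨hp1, hp2, hp3, hp4⟩ := hp
    obtain ⟨hq1, hq2, hq3, hq4⟩ := hq
    have hpq' : p.2 = q.2 := hpq
    have key : ∀ g : G, p.1 (Additive.ofMul g) = q.1 (Additive.ofMul g) := by
      intro g
      have hg : g ∈ Subgroup.closure C := by rw [hC]; trivial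
      induction hg using Subgroup.closure_induction with
      | mem x hx => rw [← hp4 x hx, ← hq4 x hx, hpq']
      | one => rw [ofMul_one, map_zero, map_zero]
      | mul x y _ _ hx hy => rw [ofMul_mul, map_add, map_add, hx, hy]
      | inv x _ hx => rw [ofMul_inv, map_neg, map_neg, hx]
    apply Prod.ext
    · apply AddMonoidHom.ext
      intro a
      exact key (Additive.toMul a)
    · exact hpq'
  refine ⟨hinj, ?_, ?_⟩
  · rintro w ⟨hw1, hw2, hw3, hw4⟩
    refine ⟨hw1, hw2, hw3, fun g _ => ?_⟩
    obtain ⟨m, hm⟩ := hw4 g
    change W4c6brauerbgmalle.toQmodZ (w g) = 0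
    rw [hm]
    apply (QuotientAddGroup.eq_zero_iff _).mpr
    rw [AddSubgroup.mem_zmultiples_iff]
    exact ⟨m, by simp⟩
  · intro n p hp hn hnp
    apply hinj hp (W4c6brauerbgmalle.picOrb G C).zero_mem
    change p.2 = 0
    have h2 : n • p.2 = 0 := congrArg Prod.snd hnp
    funext g
    have h3 : n • p.2 g = 0 := congrFun h2 g
    rw [nsmul_eq_mul] at h3
    rcases mul_eq_zero.mp h3 with h | h
    · exact absurd (Nat.cast_eq_zero.mp h) hn
    · exact h

end Groth.Agent.S18951
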