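import Groth.Statements.S18952
import Mathlib.Algebra.Group.Subgroup.Lattice
import Mathlib.Tactic.Group

set_option autoImplicit false
universe u
open OrbPic

namespace Groth.Agent.S18952

/-- Let G be a group and C ⊆ G a subset stable under conjugation. Then (χ, w) ↦ χ maps the group of
geometric partial orbifold line bundles with respect to C onto all characters G → ℚ/ℤ, and a pair in
its kernel (χ trivial) has w a conjugation-invariant integer-valued function vanishing at 1 and
outside C: with the inclusion of such functions this is the exact sequence 0 → Hom(C/conj, ℤ) → Pic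
→ Hom(G, ℚ/ℤ) → 0 over a separably closed field. (As in the source after a choice of roots of unity,
the group G stands for the geometric points of a tame finite étale group scheme, characters are
homomorphisms to ℚ/ℤ and weights are class functions on G.) -/
theorem result (G : Type u) [Group G] (C : Set G)
    (hC : ∀ g h : G, g ∈ C → h * g * h⁻¹ ∈ C) :
    (∀ χ : Additive G →+ W4c6brauerbgmalle.QmodZ, ∃ w : G → ℚ, (χ, w) ∈ W4c6brauerbgmalle.picOrb G C) ∧
      (∀ p : (Additive G →+ W4c6brauerbgmalle.QmodZ) × (G → ℚ), p ∈ W4c6brauerbgmalle.picOrb G C → p.1 = 0 →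
        p.2 ∈ W4c6brauerbgmalle.intWeights G C) := by
  classical
  constructor
  · intro χ
    have hsurj : Function.Surjective W4c6brauerbgmalle.toQmodZ :=
      QuotientAddGroup.mk'_surjective _
    let s : W4c6brauerbgmalle.QmodZ → ℚ := Function.surjInv hsurj
    have hs : ∀ q, W4c6brauerbgmalle.toQmodZ (s q) = q := Function.surjInv_eq hsurj
    have hχ : ∀ g h : G, χ (Additive.ofMul (h * g * h⁻¹)) = χ (Additive.ofMul g) := by
      intro g h
      rw [ofMul_mul, ofMul_mul, ofMul_inv, map_add, map_add, map_neg, add_comm (χ (Additive.ofMul h)),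
        add_neg_cancel_right]
    have hCiff : ∀ g h : G, h * g * h⁻¹ ∈ C ↔ g ∈ C := by
      intro g h
      constructor
      · intro hg
        have := hC _ h⁻¹ hg
        simpa [mul_assoc] using this
      · exact hC g h
    have hne : ∀ g h : G, h * g * h⁻¹ ≠ 1 ↔ g ≠ 1 := by
      intro g h
      rw [not_iff_not]
      constructor
      · intro h1
        have : g = h⁻¹ * (h * g * h⁻¹) * h := by group
        rw [this, h1]; group
      · intro h1
        rw [h1]; group
    refine ⟨fun g => if g ∈ C ∧ g ≠ 1 then s (χ (Additive.ofMul g)) else 0, ?_, ?_, ?_, ?_⟩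
    · simp
    · intro g hg
      simp [hg]
    · intro g h
      simp only [hCiff, hne, hχ]
    · intro g hg
      by_cases h1 : g = 1
      · subst h1
        simp
      · simp only [hg, h1, ne_eq, not_false_eq_true, and_self, if_true]
        exact hs _
  · rintro p ⟨hp1, hp2, hp3, hp4⟩ hp0
    refine ⟨hp1, hp2, hp3, fun g => ?_⟩
    by_cases hg : g ∈ C
    · have h1 := hp4 g hg
      rw [hp0, AddMonoidHom.zero_apply] at h1
      have h2 := (QuotientAddGroup.eq_zero_iff _).mp h1
      rw [AddSubgroup.mem_zmultiples_iff] at h2
      obtain ⟨m, hm⟩ := h2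
      exact ⟨m, by rw [← hm]; simp⟩
    · exact ⟨0, by rw [hp2 g hg]; simp⟩

end Groth.Agent.S18952
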