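import Groth.Statements.S18953
import Mathlib.Algebra.Group.Subgroup.Lattice
import Mathlib.Tactic.Group

set_option autoImplicit false
universe u v
open OrbPic

namespace Groth.Agent.S18953


theorem memC {G₁ : Type u} {G₂ : Type v} [Group G₁] [Group G₂] (C₁ : Set G₁) (C₂ : Set G₂)
    (g₁ : G₁) (g₂ : G₂) :
    (g₁, g₂) ∈ ((fun g => (g, (1 : G₂))) '' C₁ ∪ (fun g => ((1 : G₁), g)) '' C₂) ↔
      (g₁ ∈ C₁ ∧ g₂ = 1) ∨ (g₁ = 1 ∧ g₂ ∈ C₂) := by
  constructor
  · rintro (⟨x, hx, h⟩ | ⟨x, hx, h⟩)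
    · obtain ⟨rfl, rfl⟩ := Prod.mk.inj h
      exact Or.inl ⟨hx, rfl⟩
    · obtain ⟨rfl, rfl⟩ := Prod.mk.inj h
      exact Or.inr ⟨rfl, hx⟩
  · rintro (⟨h1, rfl⟩ | ⟨rfl, h2⟩)
    · exact Or.inl ⟨g₁, h1, rfl⟩
    · exact Or.inr ⟨g₂, h2, rfl⟩

theorem conj_eq_one_iff {G : Type*} [Group G] (g h : G) : h * g * h⁻¹ = 1 ↔ g = 1 := by
  constructor
  · intro h1
    have : g = h⁻¹ * (h * g * h⁻¹) * h := by group
    rw [this, h1]; group
  · intro h1
    rw [h1]; group

/-- Let G₁ and G₂ be groups with subsets C₁ ⊆ G₁ and C₂ ⊆ G₂, and let C ⊆ G₁ × G₂ be the union of C₁ ×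
{1} and {1} × C₂. Restricting the character and the weight along the two inclusions G₁ → G₁ × G₂ and
G₂ → G₁ × G₂ is a bijection from the geometric partial orbifold line bundles of G₁ × G₂ with respect
to C onto pairs of geometric partial orbifold line bundles of G₁ with respect to C₁ and of G₂ with
respect to C₂. (As in the source after a choice of roots of unity, each group stands for the
geometric points of a tame finite étale group scheme, characters are homomorphisms to ℚ/ℤ and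
weights are class functions; the source states the Galois-equivariant version, which follows by
taking invariants.) -/
theorem result (G₁ : Type u) (G₂ : Type v) [Group G₁] [Group G₂] (C₁ : Set G₁) (C₂ : Set G₂) :
    Set.BijOn
      (fun p : (Additive (G₁ × G₂) →+ W4c6brauerbgmalle.QmodZ) × (G₁ × G₂ → ℚ) =>
        ((p.1.comp (MonoidHom.toAdditive (MonoidHom.inl G₁ G₂)), fun g => p.2 (g, 1)),
          (p.1.comp (MonoidHom.toAdditive (MonoidHom.inr G₁ G₂)), fun g => p.2 (1, g))))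
      (W4c6brauerbgmalle.picOrb (G₁ × G₂) ((fun g => (g, (1 : G₂))) '' C₁ ∪ (fun g => ((1 : G₁), g)) '' C₂))
      ((W4c6brauerbgmalle.picOrb G₁ C₁ : Set _) ×ˢ (W4c6brauerbgmalle.picOrb G₂ C₂ : Set _)) := by
  classical
  refine ⟨?_, ?_, ?_⟩
  · -- MapsTo
    rintro ⟨χ, w⟩ ⟨h1, h2, h3, h4⟩
    dsimp only at h1 h2 h3 h4
    refine ⟨⟨h1, ?_, ?_, ?_⟩, ⟨h1, ?_, ?_, ?_⟩⟩
    · intro g hg
      by_cases hg1 : g = 1
      · subst hg1; exact h1
      · apply h2
        rw [memC]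
        rintro (⟨h, _⟩ | ⟨h, _⟩)
        · exact hg h
        · exact hg1 h
    · intro g h
      have := h3 (g, 1) (h, 1)
      simpa using this
    · intro g hg
      exact h4 (g, 1) ((memC C₁ C₂ g 1).mpr (Or.inl ⟨hg, rfl⟩))
    · intro g hg
      by_cases hg1 : g = 1
      · subst hg1; exact h1
      · apply h2
        rw [memC]
        rintro (⟨_, h⟩ | ⟨_, h⟩)
        · exact hg1 h
        · exact hg h
    · intro g h
      have := h3 (1, g) (1, h)
      simpa using this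
    · intro g hg
      exact h4 (1, g) ((memC C₁ C₂ 1 g).mpr (Or.inr ⟨rfl, hg⟩))
  · -- InjOn
    rintro ⟨χ, w⟩ ⟨h1, h2, h3, h4⟩ ⟨χ', w'⟩ ⟨h1', h2', h3', h4'⟩ heq
    dsimp only at h1 h2 h3 h4 h1' h2' h3' h4'
    have e1 : χ.comp (MonoidHom.toAdditive (MonoidHom.inl G₁ G₂)) =
        χ'.comp (MonoidHom.toAdditive (MonoidHom.inl G₁ G₂)) := congrArg (fun x => x.1.1) heq
    have e2 : (fun g => w (g, 1)) = (fun g => w' (g, 1)) := congrArg (fun x => x.1.2) heq
    have e3 : χ.comp (MonoidHom.toAdditive (MonoidHom.inr G₁ G₂)) =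
        χ'.comp (MonoidHom.toAdditive (MonoidHom.inr G₁ G₂)) := congrArg (fun x => x.2.1) heq
    have e4 : (fun g => w (1, g)) = (fun g => w' (1, g)) := congrArg (fun x => x.2.2) heq
    apply Prod.ext
    · apply AddMonoidHom.ext
      intro a
      obtain ⟨g, rfl⟩ : ∃ g : G₁ × G₂, Additive.ofMul g = a := ⟨Additive.toMul a, rfl⟩
      obtain ⟨g₁, g₂⟩ := g
      have hsplit : (Additive.ofMul ((g₁, g₂) : G₁ × G₂)) =
          Additive.ofMul ((g₁, 1) : G₁ × G₂) + Additive.ofMul ((1, g₂) : G₁ × G₂) := by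
        rw [← ofMul_mul]; simp
      change χ (Additive.ofMul ((g₁, g₂) : G₁ × G₂)) = χ' (Additive.ofMul ((g₁, g₂) : G₁ × G₂))
      rw [hsplit, map_add, map_add]
      have a1 := DFunLike.congr_fun e1 (Additive.ofMul g₁)
      have a2 := DFunLike.congr_fun e3 (Additive.ofMul g₂)
      change χ (Additive.ofMul ((g₁, 1) : G₁ × G₂)) = χ' (Additive.ofMul ((g₁, 1) : G₁ × G₂)) at a1
      change χ (Additive.ofMul ((1, g₂) : G₁ × G₂)) = χ' (Additive.ofMul ((1, g₂) : G₁ × G₂)) at a2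
      rw [a1, a2]
    · funext ⟨g₁, g₂⟩
      change w (g₁, g₂) = w' (g₁, g₂)
      by_cases hg2 : g₂ = 1
      · subst hg2
        exact congrFun e2 g₁
      · by_cases hg1 : g₁ = 1
        · subst hg1
          exact congrFun e4 g₂
        · have hnot : (g₁, g₂) ∉ ((fun g => (g, (1 : G₂))) '' C₁ ∪ (fun g => ((1 : G₁), g)) '' C₂) := by
            rw [memC]
            rintro (⟨_, h⟩ | ⟨h, _⟩)
            · exact hg2 h
            · exact hg1 h
          rw [h2 _ hnot, h2' _ hnot]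
  · -- SurjOn
    rintro ⟨⟨χ₁, w₁⟩, ⟨χ₂, w₂⟩⟩ ⟨⟨a1, a2, a3, a4⟩, ⟨b1, b2, b3, b4⟩⟩
    dsimp only at a1 a2 a3 a4 b1 b2 b3 b4
    let χ : Additive (G₁ × G₂) →+ W4c6brauerbgmalle.QmodZ :=
      χ₁.comp (MonoidHom.toAdditive (MonoidHom.fst G₁ G₂)) +
        χ₂.comp (MonoidHom.toAdditive (MonoidHom.snd G₁ G₂))
    have hχ : ∀ g₁ g₂, χ (Additive.ofMul ((g₁, g₂) : G₁ × G₂)) =
        χ₁ (Additive.ofMul g₁) + χ₂ (Additive.ofMul g₂) := fun g₁ g₂ => rfl
    have hχ₁1 : χ₁ (Additive.ofMul (1 : G₁)) = 0 := by rw [ofMul_one, map_zero]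
    have hχ₂1 : χ₂ (Additive.ofMul (1 : G₂)) = 0 := by rw [ofMul_one, map_zero]
    let w : G₁ × G₂ → ℚ := fun g =>
      if g.2 = 1 then w₁ g.1 else if g.1 = 1 then w₂ g.2 else 0
    have hw : ∀ g₁ g₂, w (g₁, g₂) = if g₂ = 1 then w₁ g₁ else if g₁ = 1 then w₂ g₂ else 0 :=
      fun g₁ g₂ => rfl
    refine ⟨(χ, w), ⟨?_, ?_, ?_, ?_⟩, ?_⟩
    · change w (1, 1) = 0
      rw [hw, if_pos rfl, a1]
    · rintro ⟨g₁, g₂⟩ hg
      rw [memC] at hg
      push Not at hg
      change w (g₁, g₂) = 0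
      rw [hw]
      split_ifs with h1 h2
      · apply a2
        intro hc
        exact hg.1 hc h1
      · apply b2
        intro hc
        exact hg.2 h2 hc
      · rfl
    · rintro ⟨g₁, g₂⟩ ⟨k₁, k₂⟩
      change w (k₁ * g₁ * k₁⁻¹, k₂ * g₂ * k₂⁻¹) = w (g₁, g₂)
      rw [hw, hw]
      simp only [conj_eq_one_iff, a3, b3]
    · rintro ⟨g₁, g₂⟩ hg
      rw [memC] at hg
      change W4c6brauerbgmalle.toQmodZ (w (g₁, g₂)) = χ (Additive.ofMul ((g₁, g₂) : G₁ × G₂))
      rw [hχ, hw]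
      rcases hg with ⟨hg1, rfl⟩ | ⟨rfl, hg2⟩
      · rw [if_pos rfl, hχ₂1, add_zero]
        exact a4 g₁ hg1
      · by_cases h : g₂ = 1
        · subst h
          rw [if_pos rfl, a1, hχ₁1, hχ₂1, add_zero, map_zero]
        · rw [if_neg h, if_pos rfl, hχ₁1, zero_add]
          exact b4 g₂ hg2
    · apply Prod.ext
      · apply Prod.ext
        · apply AddMonoidHom.ext
          intro a
          change χ (Additive.ofMul ((Additive.toMul a, 1) : G₁ × G₂)) = χ₁ a
          rw [hχ, hχ₂1, add_zero]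
          rfl
        · funext g
          change w (g, 1) = w₁ g
          rw [hw, if_pos rfl]
      · apply Prod.ext
        · apply AddMonoidHom.ext
          intro a
          change χ (Additive.ofMul ((1, Additive.toMul a) : G₁ × G₂)) = χ₂ a
          rw [hχ, hχ₁1, zero_add]
          rfl
        · funext g
          change w (1, g) = w₂ g
          rw [hw]
          by_cases h : g = 1
          · subst h
            rw [if_pos rfl, a1, b1]
          · rw [if_neg h, if_pos rfl]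

end Groth.Agent.S18953
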