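import Groth.Statements.S18954
import Mathlib.Tactic.FieldSimp
import Mathlib.Tactic.Ring

set_option autoImplicit false
universe u v w
open Classical
open BGCount

namespace Groth.Agent.S18954

/-- Let a finite group G act on a finite set X, let W be a finite set of orbits and f a function on
orbits with values in a field of characteristic zero. Then Σ_{O ∈ W} f(O)/|Stab(x_O)|, with x_O any
point of O, equals |G|⁻¹ · Σ f(orbit(x)) over the points x of X whose orbit lies in W. (In the
source X is the set of 1-cocycles of the absolute Galois group of a field in a finite étale group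
scheme G, acted on by the geometric points of G, the orbits are the isomorphism classes of G-torsors
and the stabilisers their automorphism groups; stated here for an arbitrary action of a finite group
on a finite set, the representative x_O being chosen by Quotient.out.) -/
theorem result {G : Type u} {X : Type v} (𝕜 : Type w)
    [Group G] [Fintype G] [MulAction G X] [Fintype X] [Field 𝕜] [CharZero 𝕜]
    (W : Finset (MulAction.orbitRel.Quotient G X)) (f : MulAction.orbitRel.Quotient G X → 𝕜) :
    (∑ O ∈ W, f O / (Nat.card (MulAction.stabilizer G O.out) : 𝕜)) =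
      (Fintype.card G : 𝕜)⁻¹ *
        ∑ x ∈ Finset.univ.filter (fun x : X => (Quotient.mk (MulAction.orbitRel G X) x) ∈ W),
          f (Quotient.mk (MulAction.orbitRel G X) x) := by
  classical
  have hmem : ∀ (O : MulAction.orbitRel.Quotient G X) (x : X),
      Quotient.mk (MulAction.orbitRel G X) x = O ↔ x ∈ MulAction.orbit G O.out := by
    intro O x
    conv_lhs => rw [← Quotient.out_eq O]
    rw [Quotient.eq]
    exact MulAction.orbitRel_apply
  have hcard : ∀ O : MulAction.orbitRel.Quotient G X,
      ((Finset.univ.filter (fun x : X => Quotient.mk (MulAction.orbitRel G X) x = O)).card : 𝕜) *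
        (Nat.card (MulAction.stabilizer G O.out) : 𝕜) = (Fintype.card G : 𝕜) := by
    intro O
    have h1 : (Finset.univ.filter (fun x : X => Quotient.mk (MulAction.orbitRel G X) x = O)).card =
        Fintype.card (MulAction.orbit G O.out) := by
      rw [← Set.toFinset_card]
      congr 1
      ext x
      simp only [Finset.mem_filter, Finset.mem_univ, true_and, Set.mem_toFinset]
      exact hmem O x
    have h2 := MulAction.card_orbit_mul_card_stabilizer_eq_card_group G O.out
    rw [h1, Nat.card_eq_fintype_card, ← Nat.cast_mul, h2]
  have hG0 : (Fintype.card G : 𝕜) ≠ 0 := by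
    exact_mod_cast Fintype.card_ne_zero
  have hfib : ∑ x ∈ Finset.univ.filter (fun x : X => (Quotient.mk (MulAction.orbitRel G X) x) ∈ W),
      f (Quotient.mk (MulAction.orbitRel G X) x) =
      ∑ O ∈ W, ((Finset.univ.filter (fun x : X => Quotient.mk (MulAction.orbitRel G X) x = O)).card : 𝕜) * f O := by
    rw [← Finset.sum_fiberwise_of_maps_to (s := Finset.univ.filter (fun x : X => (Quotient.mk (MulAction.orbitRel G X) x) ∈ W))
      (t := W) (g := fun x => Quotient.mk (MulAction.orbitRel G X) x)
      (fun x hx => (Finset.mem_filter.mp hx).2)]
    apply Finset.sum_congr rfl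
    intro O hO
    have hset : (Finset.univ.filter (fun x : X => (Quotient.mk (MulAction.orbitRel G X) x) ∈ W)).filter
        (fun x => Quotient.mk (MulAction.orbitRel G X) x = O) =
        Finset.univ.filter (fun x : X => Quotient.mk (MulAction.orbitRel G X) x = O) := by
      ext x
      simp only [Finset.mem_filter, Finset.mem_univ, true_and]
      constructor
      · exact fun h => h.2
      · exact fun h => ⟨h ▸ hO, h⟩
    rw [hset, Finset.sum_congr rfl (fun x hx => by rw [(Finset.mem_filter.mp hx).2] :
      ∀ x ∈ Finset.univ.filter (fun x : X => Quotient.mk (MulAction.orbitRel G X) x = O),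
        f (Quotient.mk (MulAction.orbitRel G X) x) = f O), Finset.sum_const, nsmul_eq_mul]
  rw [hfib, Finset.mul_sum]
  apply Finset.sum_congr rfl
  intro O _
  have hc := hcard O
  have hs0 : (Nat.card (MulAction.stabilizer G O.out) : 𝕜) ≠ 0 := by
    intro h0
    rw [h0, mul_zero] at hc
    exact hG0 hc.symm
  have hc0 : ((Finset.univ.filter (fun x : X => Quotient.mk (MulAction.orbitRel G X) x = O)).card : 𝕜) ≠ 0 := by
    intro h0
    rw [h0, zero_mul] at hc
    exact hG0 hc.symm
  rw [← hc]
  field_simp

end Groth.Agent.S18954
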