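import Groth.Statements.S4637
import Groth.Agent.H95.StalkSupport

set_option autoImplicit false
open CategoryTheory AlgebraicGeometry
universe u
open AssSch

namespace Groth.Agent.S4637

/-- Let X be a locally Noetherian scheme, F a coherent O_X-module and x a point of X. Then x is the
generic point of an irreducible component of Supp F (F_x ≠ 0 and every point y with F_y ≠ 0 that
specialises to x equals x) if and only if F_x is a nonzero module of finite length over the local
ring O_{X,x}. -/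
theorem result {X : Scheme.{u}} [IsLocallyNoetherian X] (F : X.Modules)
    (hF : Coh.IsCoh F) (x : X) :
    (Nontrivial ↑(F.presheaf.stalk x) ∧ ∀ y : X, Nontrivial ↑(F.presheaf.stalk y) → y ⤳ x → y = x) ↔
      (Nontrivial ↑(F.presheaf.stalk x) ∧ IsFiniteLength ↑(X.presheaf.stalk x) ↑(F.presheaf.stalk x)) := by
  haveI : F.IsQuasicoherent := hF.1
  haveI := Groth.Agent.H8.finite_stalk_of_isCoh F hF x
  obtain ⟨V, hV0, hxV, -⟩ := TopologicalSpace.Opens.isBasis_iff_nbhd.mp X.isBasis_affineOpens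
    (show x ∈ (⊤ : X.Opens) from trivial)
  have hV : IsAffineOpen V := hV0
  constructor
  · rintro ⟨hnt, hmin⟩
    refine ⟨hnt, ?_⟩
    apply Groth.Agent.H95.StalkSupport.isFiniteLength_of_support_maximal
    intro p hp
    haveI hpp : p.asIdeal.IsPrime := p.2
    haveI hqprime : (p.asIdeal.comap (X.presheaf.germ V x hxV).hom).IsPrime :=
      Ideal.comap_isPrime _ _
    obtain ⟨x'', hx''⟩ : ∃ x'' : X, x'' = Groth.Agent.H8.pointOfPrime hV
      (p.asIdeal.comap (X.presheaf.germ V x hxV).hom) := ⟨_, rfl⟩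
    have hx''V : x'' ∈ V := hx'' ▸ Groth.Agent.H8.pointOfPrime_mem hV _
    have hq : (hV.primeIdealOf ⟨x'', hx''V⟩).asIdeal =
        p.asIdeal.comap (X.presheaf.germ V x hxV).hom := by
      subst hx''
      exact congrArg PrimeSpectrum.asIdeal (Groth.Agent.H8.primeIdealOf_pointOfPrime hV _)
    have hnt'' := Groth.Agent.H95.StalkSupport.nontrivial_of_mem_support F hV x hxV p x'' hx''V hq hp
    have hspec : x'' ⤳ x := by
      subst hx''
      exact Groth.Agent.H8.pointOfPrime_specializes hV _ x hxV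
        (Groth.Agent.H8.comap_le_primeIdealOf hV x hxV p.asIdeal)
    have hxx := hmin x'' hnt'' hspec
    have hpm : p.asIdeal = IsLocalRing.maximalIdeal (X.presheaf.stalk x) :=
      Groth.Agent.H8.eq_maximalIdeal_of_pointOfPrime_eq hV x hxV p.asIdeal (hx''.symm.trans hxx)
    rw [hpm]
    exact IsLocalRing.maximalIdeal.isMaximal _
  · rintro ⟨hnt, hfl⟩
    refine ⟨hnt, fun y hy hyx => ?_⟩
    have hyV : y ∈ V := hyx.mem_open V.2 hxV
    obtain ⟨Q, hQdef⟩ : ∃ Q : PrimeSpectrum (X.presheaf.stalk x), Q.asIdeal =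
        (IsLocalRing.maximalIdeal (X.presheaf.stalk y)).comap
          (X.presheaf.stalkSpecializes hyx).hom :=
      ⟨⟨_, Ideal.comap_isPrime _ _⟩, rfl⟩
    have hq : (hV.primeIdealOf ⟨y, hyV⟩).asIdeal =
        Q.asIdeal.comap (X.presheaf.germ V x hxV).hom := by
      rw [hQdef]
      exact (Groth.Agent.H95.StalkPrimes.comap_comap_eq hV hyx hxV hyV).symm
    have hQ := Groth.Agent.H95.StalkSupport.mem_support_of_nontrivial F hV x hxV Q y hyV hq hy
    have hmax := Groth.Agent.H95.StalkSupport.isMaximal_of_mem_support_of_isFiniteLength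
      (F.presheaf.stalk x) hfl Q hQ
    have hQm : Q.asIdeal = IsLocalRing.maximalIdeal (X.presheaf.stalk x) :=
      IsLocalRing.eq_maximalIdeal hmax
    have h1 : (hV.primeIdealOf ⟨y, hyV⟩).asIdeal = (hV.primeIdealOf ⟨x, hxV⟩).asIdeal := by
      rw [hq, hQm]
      letI := X.presheaf.algebra_section_stalk ⟨x, hxV⟩
      haveI := hV.isLocalization_stalk ⟨x, hxV⟩
      exact IsLocalization.AtPrime.under_maximalIdeal (X.presheaf.stalk x) _
    have h2 : hV.primeIdealOf ⟨y, hyV⟩ = hV.primeIdealOf ⟨x, hxV⟩ := PrimeSpectrum.ext h1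
    have h3 : hV.fromSpec (hV.primeIdealOf ⟨y, hyV⟩) = y := hV.fromSpec_primeIdealOf ⟨y, hyV⟩
    have h4 : hV.fromSpec (hV.primeIdealOf ⟨x, hxV⟩) = x := hV.fromSpec_primeIdealOf ⟨x, hxV⟩
    rw [h2] at h3
    exact h3.symm.trans h4

end Groth.Agent.S4637
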