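import Groth.Statements.S1896
import Groth.Agent.H17.StalkSeq
import Groth.Agent.S4637

set_option autoImplicit false
universe u
open CategoryTheory AlgebraicGeometry
open Cyc

namespace Groth.Agent.S1896

open Groth.Agent.H17.StalkSeq

/-- For a short exact sequence 0 → F → G → H → 0 of coherent O_X-modules (X locally Noetherian with
dimension function δ) whose supports have δ-dimension at most k, one has [G]_k = [F]_k + [H]_k
coefficientwise. Here (X, δ) satisfies Cyc.IsSetup (X locally Noetherian with universally catenary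
local rings, δ a dimension function). -/
theorem result (X : Scheme.{u}) (δ : X → ℤ) (hX : Cyc.IsSetup X δ) (k : ℤ) (T : ShortComplex X.Modules) (hT : T.ShortExact) (h₁ : Coh.IsCoh T.X₁) (h₂ : Coh.IsCoh T.X₂) (h₃ : Coh.IsCoh T.X₃) (hdim : ∀ x : X, Nontrivial (T.X₂.presheaf.stalk x) → δ x ≤ k) : Cyc.sheafFun δ k T.X₂ = Cyc.sheafFun δ k T.X₁ + Cyc.sheafFun δ k T.X₃ := by
  obtain ⟨hN, -, hδ⟩ := hX
  haveI := hN
  funext x
  show Cyc.sheafFun δ k T.X₂ x = Cyc.sheafFun δ k T.X₁ x + Cyc.sheafFun δ k T.X₃ x
  unfold Cyc.sheafFun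
  by_cases hk : δ x = k
  · rw [if_pos hk, if_pos hk, if_pos hk]
    haveI : Mono T.f := hT.mono_f
    haveI : Epi T.g := hT.epi_g
    have hlen := Module.length_eq_add_of_exact (stalkMapₗ T.f x) (stalkMapₗ T.g x)
      (stalkMap_injective_of_mono T.f x) (stalkMap_surjective_of_epi T.g x)
      (stalkMap_exact T hT.exact x)
    have hfin : Module.length (X.presheaf.stalk x) (T.X₂.presheaf.stalk x) ≠ ⊤ := by
      rw [Module.length_ne_top_iff]
      by_cases hnt : Nontrivial (T.X₂.presheaf.stalk x)
      · refine ((Groth.Agent.S4637.result T.X₂ h₂ x).mp ⟨hnt, fun y hy hyx => ?_⟩).2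
        by_contra hne
        have h1 := (hδ y x hyx hne).1
        have h2 := hdim y hy
        omega
      · haveI : Subsingleton (T.X₂.presheaf.stalk x) := not_nontrivial_iff_subsingleton.mp hnt
        exact IsFiniteLength.of_subsingleton
    have h1 : Module.length (X.presheaf.stalk x) (T.X₁.presheaf.stalk x) ≠ ⊤ :=
      fun h => hfin (by rw [hlen, h, top_add])
    have h3 : Module.length (X.presheaf.stalk x) (T.X₃.presheaf.stalk x) ≠ ⊤ :=
      fun h => hfin (by rw [hlen, h, add_top])
    rw [hlen, ENat.toNat_add h1 h3]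
    push_cast
    rfl
  · rw [if_neg hk, if_neg hk, if_neg hk]
    rfl

end Groth.Agent.S1896
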