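import Groth.Statements.S18960
import Mathlib.CategoryTheory.Limits.Preserves.Basic
import Mathlib.CategoryTheory.Limits.IsLimit

set_option autoImplicit false
universe w' w v u
open CategoryTheory Limits
open CatLim

namespace Groth.Agent.S18960

section
variable {C : Type u} [Category.{v} C] (T : C ⥤ C)

/-- the object property: invertible structure map -/
abbrev P : ObjectProperty (Endofunctor.Algebra T) := fun A => IsIso A.str

/-- the forgetful functor -/
abbrev F : (P T).FullSubcategory ⥤ C := ObjectProperty.ι (P T) ⋙ Endofunctor.Algebra.forget T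

variable {T} {J : Type w} [Category.{w'} J] [PreservesColimitsOfShape J T]
  (K : J ⥤ (P T).FullSubcategory) (c : Cocone (K ⋙ F T)) (t : IsColimit c)

/-- the structure maps as a natural isomorphism -/
noncomputable def strIso : (K ⋙ F T) ⋙ T ≅ K ⋙ F T :=
  NatIso.ofComponents (fun j => @asIso _ _ _ _ (K.obj j).obj.str (K.obj j).property)
    (fun f => (K.map f).hom.h)

/-- structure iso on the colimit point -/
noncomputable def ptIso : T.obj c.pt ≅ c.pt :=
  IsColimit.coconePointsIsoOfNatIso (isColimitOfPreserves T t) t (strIso K)

lemma ι_ptIso (j : J) :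
    T.map (c.ι.app j) ≫ (ptIso K c t).hom = (K.obj j).obj.str ≫ c.ι.app j :=
  IsColimit.comp_coconePointsIsoOfNatIso_hom (isColimitOfPreserves T t) t (strIso K) j

/-- lifted point -/
noncomputable def liftedPt : (P T).FullSubcategory :=
  ⟨⟨c.pt, (ptIso K c t).hom⟩, (inferInstance : IsIso (ptIso K c t).hom)⟩

/-- lifted cocone -/
noncomputable def lifted : Cocone K where
  pt := liftedPt K c t
  ι :=
    { app := fun j => ObjectProperty.homMk ⟨c.ι.app j, ι_ptIso K c t j⟩
      naturality := fun j j' f => by
        apply ObjectProperty.hom_ext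
        apply Endofunctor.Algebra.Hom.ext
        change (K.map f).hom.f ≫ c.ι.app j' = c.ι.app j ≫ 𝟙 _
        rw [Category.comp_id]
        exact c.w f }

lemma desc_h (s : Cocone K) (d : c.pt ⟶ s.pt.obj.a)
    (hd : ∀ j, c.ι.app j ≫ d = (s.ι.app j).hom.f) :
    T.map d ≫ s.pt.obj.str = (ptIso K c t).hom ≫ d := by
  apply (isColimitOfPreserves T t).hom_ext
  intro j
  obtain ⟨l, hl⟩ : ∃ l : (K.obj j).obj.a ⟶ s.pt.obj.a, l = (s.ι.app j).hom.f := ⟨_, rfl⟩
  obtain ⟨i, hi⟩ : ∃ i : (K.obj j).obj.a ⟶ c.pt, i = c.ι.app j := ⟨_, rfl⟩
  have hd' : i ≫ d = l := by rw [hi, hl]; exact hd j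
  have h2 : T.map l ≫ s.pt.obj.str = (K.obj j).obj.str ≫ l := by
    rw [hl]; exact (s.ι.app j).hom.h
  have h3 : T.map i ≫ (ptIso K c t).hom = (K.obj j).obj.str ≫ i := by
    rw [hi]; exact ι_ptIso K c t j
  suffices h : T.map i ≫ T.map d ≫ s.pt.obj.str = T.map i ≫ (ptIso K c t).hom ≫ d by
    rw [hi] at h; exact h
  rw [← T.map_comp_assoc, hd', h2, ← Category.assoc, h3, Category.assoc, hd']

/-- the lifted cocone is a colimit -/
noncomputable def liftedIsColimit : IsColimit (lifted K c t) where
  desc s := ObjectProperty.homMk
    ⟨t.desc ((F T).mapCocone s), desc_h K c t s _ (fun j => t.fac ((F T).mapCocone s) j)⟩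
  fac s j := by
    apply ObjectProperty.hom_ext
    apply Endofunctor.Algebra.Hom.ext
    exact t.fac ((F T).mapCocone s) j
  uniq s m hm := by
    apply ObjectProperty.hom_ext
    apply Endofunctor.Algebra.Hom.ext
    apply t.uniq ((F T).mapCocone s) m.hom.f
    intro j
    have := hm j
    exact congrArg (fun x => x.hom.f) this

end


/-- Let C be a category and T an endofunctor of C; let C(T) be the category whose objects are pairs (X,
u) with u : T X → X an isomorphism and whose morphisms (X, u) → (Y, w) are the morphisms X → Y
compatible with u and w — the full subcategory of T-algebras with invertible structure map — and let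
π : C(T) → C be the forgetful functor. If T preserves colimits of shape J then π creates colimits of
shape J. (The source assumes T preserves all small colimits and concludes for all small shapes; the
argument is shape by shape.) -/
theorem result {C : Type u} [Category.{v} C] (T : C ⥤ C)
    (J : Type w) [Category.{w'} J] [PreservesColimitsOfShape J T] :
    Nonempty (CreatesColimitsOfShape J
      ((ObjectProperty.ι (fun A : Endofunctor.Algebra T => IsIso A.str)) ⋙ Endofunctor.Algebra.forget T)) := by
  refine ⟨{ CreatesColimit := fun {K} => createsColimitOfReflectsIso (fun c t => ?_) }⟩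
  exact
    { liftedCocone := lifted K c t
      validLift := Cocone.ext (Iso.refl _) (fun j => Category.comp_id _)
      makesColimit := liftedIsColimit K c t }

end Groth.Agent.S18960
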