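import Groth.Statements.S18961
import Mathlib
-- import your own Groth.Agent.* helpers here

set_option autoImplicit false
set_option linter.style.haveILetI false
universe u
open BBDec

namespace Groth.Agent.S18961

/-! ### Polynomial lemmas -/

section Poly

variable {A : Type u} [CommRing A]

/-- First order Taylor expansion at the origin. -/
theorem taylor_one {n : ℕ} (q : MvPolynomial (Fin n) A) :
    ∃ (c₀ : A) (c : Fin n → A),
      q - MvPolynomial.C c₀ - ∑ i, MvPolynomial.C (c i) * MvPolynomial.X i ∈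
        MvPolynomial.idealOfVars (Fin n) A * MvPolynomial.idealOfVars (Fin n) A := by
  induction q using MvPolynomial.induction_on with
  | C a => exact ⟨a, 0, by simp⟩
  | add p q hp hq =>
    obtain ⟨a, c, h⟩ := hp
    obtain ⟨a', c', h'⟩ := hq
    refine ⟨a + a', c + c', ?_⟩
    have := Ideal.add_mem _ h h'
    convert this using 1
    simp only [Pi.add_apply, map_add, add_mul, Finset.sum_add_distrib]
    ring
  | mul_X p j hp =>
    obtain ⟨a, c, h⟩ := hp
    refine ⟨0, fun i => if i = j then a else 0, ?_⟩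
    have h1 : (p - MvPolynomial.C a - ∑ i, MvPolynomial.C (c i) * MvPolynomial.X i) *
        MvPolynomial.X j ∈
        MvPolynomial.idealOfVars (Fin n) A * MvPolynomial.idealOfVars (Fin n) A :=
      Ideal.mul_mem_right _ _ h
    have h2 : (∑ i, MvPolynomial.C (c i) * MvPolynomial.X i) * MvPolynomial.X j ∈
        MvPolynomial.idealOfVars (Fin n) A * MvPolynomial.idealOfVars (Fin n) A :=
      Ideal.mul_mem_mul
        (Ideal.sum_mem _ fun i _ => Ideal.mul_mem_left _ _ (Ideal.subset_span ⟨i, rfl⟩))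
        (Ideal.subset_span ⟨j, rfl⟩)
    have hs : ∑ i, MvPolynomial.C (if i = j then a else 0) * MvPolynomial.X i =
        (MvPolynomial.C a * MvPolynomial.X j : MvPolynomial (Fin n) A) := by
      rw [Finset.sum_eq_single j]
      · rw [if_pos rfl]
      · intro i _ hij
        rw [if_neg hij, map_zero, zero_mul]
      · intro h
        exact absurd (Finset.mem_univ j) h
    have := Ideal.add_mem _ h1 h2
    convert this using 1
    rw [map_zero, sub_zero, hs]
    ring

/-- `1 - m` is a non-zero-divisor of the polynomial ring when `m` has no constant term. -/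
theorem eq_zero_of_one_sub_mul {n : ℕ} (m p : MvPolynomial (Fin n) A)
    (hm : m ∈ MvPolynomial.idealOfVars (Fin n) A) (h : (1 - m) * p = 0) : p = 0 := by
  have hc : MvPolynomial.constantCoeff m = 0 := by
    have hle : MvPolynomial.idealOfVars (Fin n) A ≤
        RingHom.ker (MvPolynomial.constantCoeff : MvPolynomial (Fin n) A →+* A) :=
      Ideal.span_le.mpr (by
        rintro _ ⟨i, rfl⟩
        simp)
    exact hle hm
  have hu : IsUnit (((1 - m : MvPolynomial (Fin n) A)) : MvPowerSeries (Fin n) A) := by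
    rw [MvPowerSeries.isUnit_iff_constantCoeff]
    have h1 : MvPowerSeries.constantCoeff
        ((1 - m : MvPolynomial (Fin n) A) : MvPowerSeries (Fin n) A) =
        MvPolynomial.constantCoeff (1 - m) := rfl
    rw [h1, map_sub, map_one, hc, sub_zero]
    exact isUnit_one
  have h2 : ((1 - m : MvPolynomial (Fin n) A) : MvPowerSeries (Fin n) A) *
      (p : MvPowerSeries (Fin n) A) = 0 := by
    rw [← MvPolynomial.coe_mul, h, MvPolynomial.coe_zero]
  have h3 : (p : MvPowerSeries (Fin n) A) = 0 := (hu.mul_right_eq_zero).mp h2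
  exact MvPolynomial.coe_eq_zero_iff.mp h3

end Poly

/-! ### A local criterion -/

/-- Two ring maps that agree modulo an ideal killed by the image of `𝔪` agree on `𝔪 * 𝔪`. -/
theorem eq_on_sq {P' E : Type u} [CommRing P'] [CommRing E] (𝔪 : Ideal P')
    (π τ : P' →+* E) (N : Ideal E)
    (hN : ∀ z, π z - τ z ∈ N)
    (hmul : ∀ w ∈ 𝔪, ∀ ν ∈ N, π w * ν = 0)
    (hτ𝔪 : ∀ y ∈ 𝔪, ∃ w ∈ 𝔪, τ y = π w) :
    ∀ z ∈ 𝔪 * 𝔪, π z = τ z := by
  have hprod : ∀ x ∈ 𝔪, ∀ y ∈ 𝔪, π (x * y) = τ (x * y) := by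
    intro x hx y hy
    obtain ⟨w, hw, hw'⟩ := hτ𝔪 y hy
    have h1 := hmul x hx _ (hN y)
    have h2 := hmul w hw _ (hN x)
    rw [← sub_eq_zero]
    have h3 : π (x * y) - τ (x * y) = π x * (π y - τ y) + π w * (π x - τ x) := by
      rw [map_mul, map_mul, hw']
      ring
    rw [h3, h1, h2, add_zero]
  intro z hz
  have hz' : z ∈ 𝔪 • 𝔪 := hz
  refine Submodule.smul_induction_on (p := fun z => π z = τ z) hz' ?_ ?_
  · intro x hx y hy
    rw [smul_eq_mul]
    exact hprod x hx y hy
  · intro z₁ z₂ h₁ h₂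
    rw [map_add, map_add, h₁, h₂]

theorem ker_le_of_smooth_aux {A P' S : Type u} [CommRing A] [CommRing P'] [CommRing S]
    [Algebra A P'] [Algebra A S] [Algebra.FormallySmooth A S]
    (ψ : P' →ₐ[A] S) (hψ : Function.Surjective ψ) (𝔪 J : Ideal P')
    (hk : RingHom.ker ψ ≤ 𝔪 * 𝔪)
    (hJ : J = 𝔪 * RingHom.ker ψ) :
    RingHom.ker ψ ≤ J := by
  have hK𝔪 : RingHom.ker ψ ≤ 𝔪 := hk.trans Ideal.mul_le_right
  have hJ0 : ∀ a ∈ J, ψ a = 0 := fun a ha => by
    rw [hJ] at ha
    exact RingHom.mem_ker.mp (Ideal.mul_le_right ha)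
  have hmulJ : ∀ w ∈ 𝔪, ∀ z ∈ RingHom.ker ψ, w * z ∈ J := fun w hw z hz => by
    rw [hJ]
    exact Ideal.mul_mem_mul hw hz
  clear hJ
  obtain ⟨g, hgmk⟩ : ∃ g : (P' ⧸ J) →ₐ[A] S, ∀ z, g (Ideal.Quotient.mk J z) = ψ z :=
    ⟨Ideal.Quotient.liftₐ J ψ hJ0, fun z => rfl⟩
  have hgsurj : Function.Surjective g := fun s => by
    obtain ⟨z, rfl⟩ := hψ s
    exact ⟨Ideal.Quotient.mk J z, hgmk z⟩
  have hkerg : ∀ j, g j = 0 → ∃ z ∈ RingHom.ker ψ, j = Ideal.Quotient.mk J z := by
    intro j hj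
    obtain ⟨z, rfl⟩ := Ideal.Quotient.mk_surjective j
    refine ⟨z, ?_, rfl⟩
    rw [RingHom.mem_ker, ← hgmk]
    exact hj
  have hmul0 : ∀ w ∈ 𝔪, ∀ j, g j = 0 → Ideal.Quotient.mk J w * j = 0 := by
    intro w hw j hj
    obtain ⟨z, hz, rfl⟩ := hkerg j hj
    rw [← map_mul, Ideal.Quotient.eq_zero_iff_mem]
    exact hmulJ w hw z hz
  have hmemker : ∀ j, j ∈ RingHom.ker (g : (P' ⧸ J) →+* S) ↔ g j = 0 := fun j => Iff.rfl
  have hnil : IsNilpotent (RingHom.ker (g : (P' ⧸ J) →+* S)) := by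
    refine ⟨2, ?_⟩
    rw [Ideal.zero_eq_bot, eq_bot_iff, pow_two, Ideal.mul_le]
    intro j hj j' hj'
    obtain ⟨z, hz, rfl⟩ := hkerg j ((hmemker j).mp hj)
    rw [Ideal.mem_bot]
    exact hmul0 z (hK𝔪 hz) j' ((hmemker j').mp hj')
  obtain ⟨σ, hσ⟩ : ∃ σ : S →ₐ[A] (P' ⧸ J), ∀ s, g (σ s) = s :=
    ⟨Algebra.FormallySmooth.liftOfSurjective (AlgHom.id A S) g hgsurj hnil, fun s =>
      Algebra.FormallySmooth.liftOfSurjective_apply (AlgHom.id A S) g hgsurj hnil s⟩
  have hdiff : ∀ z, g (Ideal.Quotient.mk J z - σ (ψ z)) = 0 := by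
    intro z
    rw [map_sub, hgmk, hσ, sub_self]
  obtain ⟨τ, hτ⟩ : ∃ τ : P' →+* (P' ⧸ J), ∀ z, τ z = σ (ψ z) :=
    ⟨(σ : S →+* (P' ⧸ J)).comp (ψ : P' →+* S), fun z => rfl⟩
  have hall := eq_on_sq 𝔪 (Ideal.Quotient.mk J) τ (RingHom.ker (g : (P' ⧸ J) →+* S))
    (fun z => by
      rw [hτ, hmemker]
      exact hdiff z)
    (fun w hw ν hν => hmul0 w hw ν ((hmemker ν).mp hν))
    (fun y hy => by
      obtain ⟨z, hz, hj⟩ := hkerg _ (hdiff y)
      refine ⟨y - z, sub_mem hy (hK𝔪 hz), ?_⟩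
      rw [hτ, map_sub, ← hj]
      ring)
  intro z hz
  have h1 : Ideal.Quotient.mk J z = 0 := by
    rw [hall z (hk hz), hτ, RingHom.mem_ker.mp hz, map_zero]
  exact Ideal.Quotient.eq_zero_iff_mem.mp h1

/-- A surjection from a Noetherian local ring onto a formally smooth algebra whose kernel is
contained in the square of the maximal ideal is injective. -/
theorem ker_eq_bot_of_local {A P' S : Type u} [CommRing A] [CommRing P'] [CommRing S]
    [Algebra A P'] [Algebra A S] [IsLocalRing P'] [IsNoetherianRing P']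
    [Algebra.FormallySmooth A S]
    (ψ : P' →ₐ[A] S) (hψ : Function.Surjective ψ)
    (hk : RingHom.ker ψ ≤ IsLocalRing.maximalIdeal P' * IsLocalRing.maximalIdeal P') :
    RingHom.ker ψ = ⊥ := by
  have hle : RingHom.ker ψ ≤ IsLocalRing.maximalIdeal P' • RingHom.ker ψ :=
    ker_le_of_smooth_aux ψ hψ (IsLocalRing.maximalIdeal P') _ hk rfl
  exact Submodule.eq_bot_of_le_smul_of_le_jacobson_bot _ _ (IsNoetherian.noetherian _) hle
    (IsLocalRing.maximalIdeal_le_jacobson _)

/-- Injectivity of a surjection from a polynomial ring whose kernel has no linear part, when the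
target is smooth along the image of the origin. -/
theorem injective_of_smooth {A B : Type u} [CommRing A] [CommRing B] [Algebra A B]
    [IsNoetherianRing A] {n : ℕ}
    (φ : MvPolynomial (Fin n) A →ₐ[A] B) (hφ : Function.Surjective φ) (I : Ideal B)
    (hker : RingHom.ker φ ≤
      MvPolynomial.idealOfVars (Fin n) A * MvPolynomial.idealOfVars (Fin n) A)
    (hI : ∀ y ∈ I, ∃ q ∈ MvPolynomial.idealOfVars (Fin n) A, φ q = y)
    (hsm : ∀ (P : Ideal B) [P.IsPrime], I ≤ P → Algebra.IsSmoothAt A P) :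
    Function.Injective φ := by
  rw [injective_iff_map_eq_zero]
  intro p hp
  by_contra hne
  have h𝔞 : ∀ r, r ∈ (Submodule.span (MvPolynomial (Fin n) A) {p}).annihilator ↔ r * p = 0 :=
    fun r => by rw [Submodule.mem_annihilator_span_singleton, smul_eq_mul]
  have hne_top : (Submodule.span (MvPolynomial (Fin n) A) {p}).annihilator ⊔
      MvPolynomial.idealOfVars (Fin n) A ≠ ⊤ := by
    intro htop
    have h1 : (1 : MvPolynomial (Fin n) A) ∈
        (Submodule.span (MvPolynomial (Fin n) A) {p}).annihilator ⊔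
          MvPolynomial.idealOfVars (Fin n) A := htop ▸ Submodule.mem_top
    obtain ⟨a, ha, m, hm, ham⟩ := Submodule.mem_sup.mp h1
    have ha' : a = 1 - m := eq_sub_of_add_eq ham
    have hap := (h𝔞 a).mp ha
    rw [ha'] at hap
    exact hne (eq_zero_of_one_sub_mul m p hm hap)
  obtain ⟨𝔐, h𝔐max, h𝔐le⟩ := Ideal.exists_le_maximal _ hne_top
  haveI := h𝔐max
  have h𝔞𝔐 : (Submodule.span (MvPolynomial (Fin n) A) {p}).annihilator ≤ 𝔐 :=
    le_sup_left.trans h𝔐le
  have h𝔫𝔐 : MvPolynomial.idealOfVars (Fin n) A ≤ 𝔐 := le_sup_right.trans h𝔐le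
  let φr : MvPolynomial (Fin n) A →+* B := φ
  have hφr : Function.Surjective φr := hφ
  have hK𝔐 : RingHom.ker φr ≤ 𝔐 := fun z hz =>
    h𝔫𝔐 (Ideal.mul_le_right (hker (RingHom.mem_ker.mpr (RingHom.mem_ker.mp hz))))
  haveI hQ : (𝔐.map φr).IsPrime := Ideal.map_isPrime_of_surjective hφr hK𝔐
  have hcomap : 𝔐 = (𝔐.map φr).comap φr := by
    rw [Ideal.comap_map_of_surjective' φr hφr, sup_eq_left.mpr hK𝔐]
  have hIQ : I ≤ 𝔐.map φr := fun y hy => by
    obtain ⟨q, hq, rfl⟩ := hI y hy
    exact Ideal.mem_map_of_mem φr (h𝔫𝔐 hq)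
  haveI : Algebra.FormallySmooth A (Localization.AtPrime (𝔐.map φr)) := hsm _ hIQ
  let ψr := Localization.localRingHom 𝔐 (𝔐.map φr) φr hcomap
  have hcomm : ∀ a : A, ψr (algebraMap A (Localization.AtPrime 𝔐) a) =
      algebraMap A (Localization.AtPrime (𝔐.map φr)) a := by
    intro a
    rw [IsScalarTower.algebraMap_apply A (MvPolynomial (Fin n) A) (Localization.AtPrime 𝔐),
      Localization.localRingHom_to_map,
      IsScalarTower.algebraMap_apply A B (Localization.AtPrime (𝔐.map φr))]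
    congr 1
    exact φ.commutes a
  let ψ : Localization.AtPrime 𝔐 →ₐ[A] Localization.AtPrime (𝔐.map φr) :=
    { ψr with commutes' := hcomm }
  have hψ_apply : ∀ z, ψ z = ψr z := fun z => rfl
  have hψsurj : Function.Surjective ψ := by
    intro s
    obtain ⟨y, u, rfl⟩ := IsLocalization.exists_mk'_eq (𝔐.map φr).primeCompl s
    obtain ⟨x, rfl⟩ := hφr y
    obtain ⟨t, ht⟩ := hφr u.1
    have htM : t ∈ 𝔐.primeCompl := fun htm => u.2 (by
      rw [← ht]
      exact Ideal.mem_map_of_mem φr htm)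
    refine ⟨IsLocalization.mk' _ x ⟨t, htM⟩, ?_⟩
    rw [hψ_apply, Localization.localRingHom_mk']
    congr 1
    exact Subtype.ext ht
  have hm𝔐 : 𝔐.map (algebraMap (MvPolynomial (Fin n) A) (Localization.AtPrime 𝔐)) =
      IsLocalRing.maximalIdeal (Localization.AtPrime 𝔐) :=
    Localization.AtPrime.map_eq_maximalIdeal
  have hk : RingHom.ker ψ ≤ IsLocalRing.maximalIdeal (Localization.AtPrime 𝔐) *
      IsLocalRing.maximalIdeal (Localization.AtPrime 𝔐) := by
    intro z hz
    have hz0 : ψr z = 0 := hz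
    obtain ⟨x, t, rfl⟩ := IsLocalization.exists_mk'_eq 𝔐.primeCompl z
    rw [Localization.localRingHom_mk', IsLocalization.mk'_eq_zero_iff] at hz0
    obtain ⟨u, hu⟩ := hz0
    obtain ⟨v, hv⟩ := hφr u.1
    have hvM : v ∈ 𝔐.primeCompl := fun hvm => u.2 (by
      rw [← hv]
      exact Ideal.mem_map_of_mem φr hvm)
    have hvx : v * x ∈ RingHom.ker φ := by
      rw [RingHom.mem_ker, map_mul]
      have h' : φ v = u.1 := hv
      rw [h']
      exact hu
    have h1 : v * x ∈ 𝔐 * 𝔐 := Ideal.mul_mono h𝔫𝔐 h𝔫𝔐 (hker hvx)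
    have h2 : algebraMap (MvPolynomial (Fin n) A) (Localization.AtPrime 𝔐) (v * x) ∈
        IsLocalRing.maximalIdeal (Localization.AtPrime 𝔐) *
          IsLocalRing.maximalIdeal (Localization.AtPrime 𝔐) := by
      have := Ideal.mem_map_of_mem
        (algebraMap (MvPolynomial (Fin n) A) (Localization.AtPrime 𝔐)) h1
      rwa [Ideal.map_mul, hm𝔐] at this
    have hunit : IsUnit (algebraMap (MvPolynomial (Fin n) A) (Localization.AtPrime 𝔐)
        ((t : MvPolynomial (Fin n) A) * v)) :=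
      IsLocalization.map_units _
        (⟨(t : MvPolynomial (Fin n) A) * v, 𝔐.primeCompl.mul_mem t.2 hvM⟩ : 𝔐.primeCompl)
    have h3 : IsLocalization.mk' (Localization.AtPrime 𝔐) x t *
        algebraMap (MvPolynomial (Fin n) A) (Localization.AtPrime 𝔐)
          ((t : MvPolynomial (Fin n) A) * v) =
        algebraMap (MvPolynomial (Fin n) A) (Localization.AtPrime 𝔐) (v * x) := by
      rw [map_mul, ← mul_assoc, IsLocalization.mk'_spec, ← map_mul, mul_comm]
    rw [← Ideal.mul_unit_mem_iff_mem _ hunit, h3]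
    exact h2
  have hbot := ker_eq_bot_of_local ψ hψsurj hk
  have hp' : algebraMap (MvPolynomial (Fin n) A) (Localization.AtPrime 𝔐) p ∈ RingHom.ker ψ := by
    rw [RingHom.mem_ker, hψ_apply, Localization.localRingHom_to_map]
    show algebraMap B (Localization.AtPrime (𝔐.map φr)) (φ p) = 0
    rw [hp, map_zero]
  rw [hbot, Ideal.mem_bot] at hp'
  obtain ⟨r, hr⟩ := (IsLocalization.map_eq_zero_iff 𝔐.primeCompl
    (Localization.AtPrime 𝔐) p).mp hp'
  exact r.2 (h𝔞𝔐 ((h𝔞 r.1).mpr hr))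

/-! ### Graded lemmas -/

section Graded

variable {A B : Type u} [CommRing A] [CommRing B] [Algebra A B]
  (𝒜 : ℕ → Submodule A B) [GradedAlgebra 𝒜]

theorem pr_mem (d : ℕ) (x : B) : GradedAlgebra.proj 𝒜 d x ∈ 𝒜 d := by
  rw [GradedAlgebra.proj_apply]
  exact SetLike.coe_mem _

theorem pr_of_mem_same {d : ℕ} {x : B} (hx : x ∈ 𝒜 d) : GradedAlgebra.proj 𝒜 d x = x := by
  rw [GradedAlgebra.proj_apply, DirectSum.decompose_of_mem_same 𝒜 hx]

theorem pr_of_mem_ne {d e : ℕ} {x : B} (hx : x ∈ 𝒜 e) (h : e ≠ d) :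
    GradedAlgebra.proj 𝒜 d x = 0 := by
  rw [GradedAlgebra.proj_apply, DirectSum.decompose_of_mem_ne 𝒜 hx h]

theorem pr_mem_irr (d : ℕ) {x : B} (hx : x ∈ (HomogeneousIdeal.irrelevant 𝒜).toIdeal) :
    GradedAlgebra.proj 𝒜 d x ∈ (HomogeneousIdeal.irrelevant 𝒜).toIdeal := by
  rw [GradedAlgebra.proj_apply]
  exact (HomogeneousIdeal.irrelevant 𝒜).isHomogeneous d hx

theorem pr_mem_irr_sq (d : ℕ) {x : B} (hx : x ∈ (HomogeneousIdeal.irrelevant 𝒜).toIdeal ^ 2) :
    GradedAlgebra.proj 𝒜 d x ∈ (HomogeneousIdeal.irrelevant 𝒜).toIdeal ^ 2 := by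
  have h : ((HomogeneousIdeal.irrelevant 𝒜).toIdeal ^ 2).IsHomogeneous 𝒜 := by
    rw [pow_two]
    exact (HomogeneousIdeal.irrelevant 𝒜).isHomogeneous.mul
      (HomogeneousIdeal.irrelevant 𝒜).isHomogeneous
  rw [GradedAlgebra.proj_apply]
  exact h d hx

theorem pr_zero_of_mem_irr {x : B} (hx : x ∈ (HomogeneousIdeal.irrelevant 𝒜).toIdeal) :
    GradedAlgebra.proj 𝒜 0 x = 0 := by
  have h := RingHom.mem_ker.mp
    (show x ∈ RingHom.ker (GradedRing.projZeroRingHom 𝒜) from hx)
  rw [GradedAlgebra.proj_apply]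
  rwa [GradedRing.projZeroRingHom_apply] at h

theorem mem_irr_of_pos {d : ℕ} (hd : 0 < d) {x : B} (hx : x ∈ 𝒜 d) :
    x ∈ (HomogeneousIdeal.irrelevant 𝒜).toIdeal :=
  HomogeneousIdeal.mem_irrelevant_of_mem 𝒜 hd hx

theorem algebraMap_eq_zero_of_mem_irr (hinj : Function.Injective (algebraMap A B)) {a : A}
    (ha : algebraMap A B a ∈ (HomogeneousIdeal.irrelevant 𝒜).toIdeal) : a = 0 := by
  apply hinj
  rw [map_zero, ← pr_of_mem_same 𝒜 (SetLike.algebraMap_mem_graded 𝒜 a)]
  exact pr_zero_of_mem_irr 𝒜 ha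

/-- the graded projection restricted to the irrelevant ideal -/
noncomputable def projI (d : ℕ) :
    ↥(HomogeneousIdeal.irrelevant 𝒜).toIdeal →ₗ[A] ↥(HomogeneousIdeal.irrelevant 𝒜).toIdeal where
  toFun x := ⟨GradedAlgebra.proj 𝒜 d x.1, pr_mem_irr 𝒜 d x.2⟩
  map_add' x y := Subtype.ext (by
    show GradedAlgebra.proj 𝒜 d ((x + y : ↥(HomogeneousIdeal.irrelevant 𝒜).toIdeal) : B) = _
    rw [Submodule.coe_add, map_add]
    rfl)
  map_smul' a x := Subtype.ext (by
    show GradedAlgebra.proj 𝒜 d ((a • x : ↥(HomogeneousIdeal.irrelevant 𝒜).toIdeal) : B) = _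
    rw [Submodule.coe_smul_of_tower, map_smul]
    rfl)

theorem projI_coe (d : ℕ) (x : ↥(HomogeneousIdeal.irrelevant 𝒜).toIdeal) :
    ((projI 𝒜 d x : ↥(HomogeneousIdeal.irrelevant 𝒜).toIdeal) : B) =
      GradedAlgebra.proj 𝒜 d x.1 := rfl

theorem projI_projI (d d' : ℕ) (x : ↥(HomogeneousIdeal.irrelevant 𝒜).toIdeal) :
    projI 𝒜 d (projI 𝒜 d' x) = if d = d' then projI 𝒜 d x else 0 := by
  apply Subtype.ext
  split_ifs with h
  · subst h
    exact pr_of_mem_same 𝒜 (pr_mem 𝒜 d x.1)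
  · exact pr_of_mem_ne 𝒜 (pr_mem 𝒜 d' x.1) (Ne.symm h)

variable {N : Type u} [AddCommGroup N] [Module A N] {n : ℕ}

theorem Pi_sum (e : Fin n → N)
    (Pq : ↥(HomogeneousIdeal.irrelevant 𝒜).toIdeal →ₗ[A] N) (b : Fin n → B)
    (hb : ∀ i, ∃ h : b i ∈ (HomogeneousIdeal.irrelevant 𝒜).toIdeal, Pq ⟨b i, h⟩ = e i)
    (c : Fin n → A) :
    ∃ h : ∑ i, c i • b i ∈ (HomogeneousIdeal.irrelevant 𝒜).toIdeal,
      Pq ⟨∑ i, c i • b i, h⟩ = ∑ i, c i • e i := by
  have h : ∑ i, c i • b i ∈ (HomogeneousIdeal.irrelevant 𝒜).toIdeal :=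
    Ideal.sum_mem _ fun i _ => by
      rw [Algebra.smul_def]
      exact Ideal.mul_mem_left _ _ (hb i).1
  refine ⟨h, ?_⟩
  have h2 : (⟨∑ i, c i • b i, h⟩ : ↥(HomogeneousIdeal.irrelevant 𝒜).toIdeal) =
      ∑ i, c i • (⟨b i, (hb i).1⟩ : ↥(HomogeneousIdeal.irrelevant 𝒜).toIdeal) := by
    apply Subtype.ext
    rw [Submodule.coe_sum]
    rfl
  rw [h2, map_sum]
  exact Finset.sum_congr rfl fun i _ => by rw [map_smul, (hb i).2]

/-- Existence of lifts of a basis of the conormal module spanning a graded submodule. -/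
theorem exists_graded_lifts (e : Module.Basis (Fin n) A N)
    (Pq : ↥(HomogeneousIdeal.irrelevant 𝒜).toIdeal →ₗ[A] N)
    (hPq : ∀ x : ↥(HomogeneousIdeal.irrelevant 𝒜).toIdeal,
      Pq x = 0 ↔ (x : B) ∈ (HomogeneousIdeal.irrelevant 𝒜).toIdeal ^ 2)
    (hs : Function.Surjective Pq) :
    ∃ b : Fin n → B,
      (∀ i, ∃ h : b i ∈ (HomogeneousIdeal.irrelevant 𝒜).toIdeal, Pq ⟨b i, h⟩ = e i) ∧
      ∀ d i, GradedAlgebra.proj 𝒜 d (b i) ∈ Submodule.span A (Set.range b) := by
  classical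
  have hker : ∀ d, LinearMap.ker Pq ≤ LinearMap.ker (Pq ∘ₗ projI 𝒜 d) := by
    intro d x hx
    rw [LinearMap.mem_ker] at hx ⊢
    rw [LinearMap.comp_apply, hPq, projI_coe]
    exact pr_mem_irr_sq 𝒜 d ((hPq x).mp hx)
  let q : ℕ → N →ₗ[A] N := fun d =>
    ((LinearMap.ker Pq).liftQ (Pq ∘ₗ projI 𝒜 d) (hker d)) ∘ₗ
      (Pq.quotKerEquivOfSurjective hs).symm.toLinearMap
  have hq : ∀ d (x : ↥(HomogeneousIdeal.irrelevant 𝒜).toIdeal),
      q d (Pq x) = Pq (projI 𝒜 d x) := by
    intro d x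
    show ((LinearMap.ker Pq).liftQ (Pq ∘ₗ projI 𝒜 d) (hker d))
      ((Pq.quotKerEquivOfSurjective hs).symm (Pq x)) = _
    rw [LinearMap.quotKerEquivOfSurjective_symm_apply, Submodule.liftQ_apply,
      LinearMap.comp_apply]
  have hqq : ∀ d d' ν, q d (q d' ν) = if d = d' then q d ν else 0 := by
    intro d d' ν
    obtain ⟨y, rfl⟩ := hs ν
    rw [hq, hq, projI_projI]
    split_ifs with h
    · rw [hq]
    · rw [map_zero]
  choose x hx using fun i => hs (e i)
  let D : ℕ := Finset.univ.sup fun i => (DirectSum.decompose 𝒜 (x i).1).support.sup id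
  have hD : ∀ i d, D < d → GradedAlgebra.proj 𝒜 d (x i).1 = 0 := by
    intro i d hd
    rw [GradedAlgebra.proj_apply]
    have hnot : d ∉ (DirectSum.decompose 𝒜 (x i).1).support := by
      intro hmem
      have h1 : d ≤ (DirectSum.decompose 𝒜 (x i).1).support.sup id :=
        Finset.le_sup (f := id) hmem
      have h2 : (DirectSum.decompose 𝒜 (x i).1).support.sup id ≤ D :=
        Finset.le_sup (f := fun i => (DirectSum.decompose 𝒜 (x i).1).support.sup id)
          (Finset.mem_univ i)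
      omega
    rw [DFinsupp.notMem_support_iff.mp hnot]
    rfl
  have hsum : ∀ i, ∑ d ∈ Finset.range (D + 1), projI 𝒜 d (x i) = x i := by
    intro i
    apply Subtype.ext
    rw [Submodule.coe_sum]
    simp only [projI_coe]
    conv_rhs => rw [← DirectSum.sum_support_decompose 𝒜 (x i).1]
    simp only [GradedAlgebra.proj_apply]
    symm
    apply Finset.sum_subset
    · intro d hd
      rw [Finset.mem_range]
      by_contra hlt
      have h0 := hD i d (by omega)
      rw [GradedAlgebra.proj_apply] at h0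
      exact (DFinsupp.mem_support_iff.mp hd) (Subtype.ext h0)
    · intro d _ hd
      rw [DFinsupp.notMem_support_iff.mp hd]
      rfl
  let s₀ : N →ₗ[A] ↥(HomogeneousIdeal.irrelevant 𝒜).toIdeal := e.constr A x
  have hs₀e : ∀ i, s₀ (e i) = x i := fun i => e.constr_basis A x i
  have hs₀ : ∀ ν, Pq (s₀ ν) = ν := by
    intro ν
    have h : Pq ∘ₗ s₀ = LinearMap.id := e.ext fun i => by
      rw [LinearMap.comp_apply, hs₀e, hx, LinearMap.id_apply]
    exact LinearMap.congr_fun h ν
  have hqsum : ∀ ν, ∑ d ∈ Finset.range (D + 1), q d ν = ν := by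
    intro ν
    have h : (∑ d ∈ Finset.range (D + 1), q d) = LinearMap.id := e.ext fun i => by
      rw [LinearMap.sum_apply, LinearMap.id_apply]
      have h' : ∀ d ∈ Finset.range (D + 1), q d (e i) = Pq (projI 𝒜 d (x i)) := fun d _ => by
        rw [← hx i, hq]
      rw [Finset.sum_congr rfl h', ← map_sum, hsum, hx]
    have h2 := LinearMap.congr_fun h ν
    rwa [LinearMap.sum_apply, LinearMap.id_apply] at h2
  let s : N →ₗ[A] ↥(HomogeneousIdeal.irrelevant 𝒜).toIdeal :=
    ∑ d ∈ Finset.range (D + 1), (projI 𝒜 d) ∘ₗ s₀ ∘ₗ (q d)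
  have hs_apply : ∀ ν, s ν = ∑ d ∈ Finset.range (D + 1), projI 𝒜 d (s₀ (q d ν)) := by
    intro ν
    show (∑ d ∈ Finset.range (D + 1), (projI 𝒜 d) ∘ₗ s₀ ∘ₗ (q d)) ν = _
    rw [LinearMap.sum_apply]
    rfl
  have hPqs : ∀ ν, Pq (s ν) = ν := by
    intro ν
    rw [hs_apply, map_sum]
    have h' : ∀ d ∈ Finset.range (D + 1), Pq (projI 𝒜 d (s₀ (q d ν))) = q d ν := fun d _ => by
      rw [← hq, hs₀, hqq, if_pos rfl]
    rw [Finset.sum_congr rfl h', hqsum]
  have hps : ∀ d ν, projI 𝒜 d (s ν) = s (q d ν) := by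
    intro d ν
    rw [hs_apply, hs_apply, map_sum]
    have h1 : ∀ d' ∈ Finset.range (D + 1), projI 𝒜 d (projI 𝒜 d' (s₀ (q d' ν))) =
        if d = d' then projI 𝒜 d (s₀ (q d ν)) else 0 := fun d' _ => by
      by_cases h : d = d'
      · subst h
        rw [projI_projI, if_pos rfl]
      · rw [projI_projI, if_neg h, if_neg h]
    have h2 : ∀ d' ∈ Finset.range (D + 1), projI 𝒜 d' (s₀ (q d' (q d ν))) =
        if d = d' then projI 𝒜 d (s₀ (q d ν)) else 0 := fun d' _ => by
      by_cases h : d = d'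
      · subst h
        rw [hqq, if_pos rfl, if_pos rfl]
      · rw [hqq, if_neg (Ne.symm h), if_neg h, map_zero, map_zero]
    rw [Finset.sum_congr rfl h1, Finset.sum_congr rfl h2]
  have hspan : ∀ ν, ((s ν : ↥(HomogeneousIdeal.irrelevant 𝒜).toIdeal) : B) ∈
      Submodule.span A (Set.range fun i =>
        ((s (e i) : ↥(HomogeneousIdeal.irrelevant 𝒜).toIdeal) : B)) := by
    intro ν
    rw [← e.sum_repr ν, map_sum, Submodule.coe_sum]
    refine Submodule.sum_mem _ fun j _ => ?_
    rw [map_smul, Submodule.coe_smul_of_tower]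
    exact Submodule.smul_mem _ _ (Submodule.subset_span ⟨j, rfl⟩)
  refine ⟨fun i => ((s (e i) : ↥(HomogeneousIdeal.irrelevant 𝒜).toIdeal) : B),
    fun i => ⟨(s (e i)).2, ?_⟩, ?_⟩
  · show Pq ⟨(s (e i)).1, (s (e i)).2⟩ = e i
    rw [Subtype.coe_eta, hPqs]
  · intro d i
    have h3 := hspan (q d (e i))
    rwa [← hps, projI_coe] at h3

/-- A subalgebra containing graded lifts of a basis of the conormal module is everything. -/
theorem subalgebra_eq_top (h0 : ∀ y : B, y ∈ 𝒜 0 → y ∈ Set.range (algebraMap A B))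
    (e : Module.Basis (Fin n) A N)
    (Pq : ↥(HomogeneousIdeal.irrelevant 𝒜).toIdeal →ₗ[A] N)
    (hPq : ∀ x : ↥(HomogeneousIdeal.irrelevant 𝒜).toIdeal,
      Pq x = 0 ↔ (x : B) ∈ (HomogeneousIdeal.irrelevant 𝒜).toIdeal ^ 2)
    (b : Fin n → B)
    (hb : ∀ i, ∃ h : b i ∈ (HomogeneousIdeal.irrelevant 𝒜).toIdeal, Pq ⟨b i, h⟩ = e i)
    (hgr : ∀ d i, GradedAlgebra.proj 𝒜 d (b i) ∈ Submodule.span A (Set.range b))
    (R : Subalgebra A B) (hR : ∀ i, b i ∈ R) : R = ⊤ := by
  classical
  have hspanR : ∀ y ∈ Submodule.span A (Set.range b), y ∈ R := by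
    intro y hy
    have hle : Submodule.span A (Set.range b) ≤ Subalgebra.toSubmodule R :=
      Submodule.span_le.mpr (by
        rintro _ ⟨i, rfl⟩
        exact hR i)
    exact hle hy
  have key : ∀ d, ∀ y ∈ 𝒜 d, y ∈ R := by
    intro d
    induction d using Nat.strong_induction_on with
    | _ d ih =>
      intro y hy
      rcases Nat.eq_zero_or_pos d with rfl | hd
      · obtain ⟨a, rfl⟩ := h0 y hy
        exact R.algebraMap_mem a
      · have hyI : y ∈ (HomogeneousIdeal.irrelevant 𝒜).toIdeal := mem_irr_of_pos 𝒜 hd hy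
        obtain ⟨hwI, hPqw⟩ := Pi_sum 𝒜 (⇑e) Pq b hb (⇑(e.repr (Pq ⟨y, hyI⟩)))
        have hdiff : y - ∑ i, e.repr (Pq ⟨y, hyI⟩) i • b i ∈
            (HomogeneousIdeal.irrelevant 𝒜).toIdeal ^ 2 := by
          have h1 : Pq (⟨y, hyI⟩ - ⟨∑ i, e.repr (Pq ⟨y, hyI⟩) i • b i, hwI⟩) = 0 := by
            rw [map_sub, hPqw, e.sum_repr, sub_self]
          exact (hPq _).mp h1
        have hsq : ∀ z ∈ (HomogeneousIdeal.irrelevant 𝒜).toIdeal ^ 2,
            GradedAlgebra.proj 𝒜 d z ∈ R := by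
          intro z hz
          have hz' : z ∈ (HomogeneousIdeal.irrelevant 𝒜).toIdeal •
              (HomogeneousIdeal.irrelevant 𝒜).toIdeal := by
            rw [pow_two] at hz
            exact hz
          refine Submodule.smul_induction_on (p := fun z => GradedAlgebra.proj 𝒜 d z ∈ R) hz'
            ?_ ?_
          · intro u hu v hv
            rw [smul_eq_mul]
            have hexp : GradedAlgebra.proj 𝒜 d (u * v) =
                ∑ i ∈ (DirectSum.decompose 𝒜 u).support,
                  GradedAlgebra.proj 𝒜 d ((DirectSum.decompose 𝒜 u i : B) * v) := by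
              conv_lhs => rw [← DirectSum.sum_support_decompose 𝒜 u, Finset.sum_mul, map_sum]
            rw [hexp]
            refine Subalgebra.sum_mem R fun i _ => ?_
            rw [GradedAlgebra.proj_apply]
            by_cases hid : i ≤ d
            · rw [DirectSum.coe_decompose_mul_of_left_mem_of_le 𝒜 (SetLike.coe_mem _) hid]
              rcases Nat.eq_zero_or_pos i with rfl | hi
              · have h00 : ((DirectSum.decompose 𝒜 u 0 : 𝒜 0) : B) = 0 := by
                  have h5 := pr_zero_of_mem_irr 𝒜 hu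
                  rwa [GradedAlgebra.proj_apply] at h5
                rw [h00, zero_mul]
                exact R.zero_mem
              · rcases Nat.lt_or_ge i d with hlt | hge
                · exact R.mul_mem (ih i hlt _ (SetLike.coe_mem _))
                    (ih (d - i) (by omega) _ (SetLike.coe_mem _))
                · have hid' : i = d := le_antisymm hid hge
                  rw [hid', Nat.sub_self]
                  have h00 : ((DirectSum.decompose 𝒜 v 0 : 𝒜 0) : B) = 0 := by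
                    have h5 := pr_zero_of_mem_irr 𝒜 hv
                    rwa [GradedAlgebra.proj_apply] at h5
                  rw [h00, mul_zero]
                  exact R.zero_mem
            · rw [DirectSum.coe_decompose_mul_of_left_mem_of_not_le 𝒜 (SetLike.coe_mem _) hid]
              exact R.zero_mem
          · intro z₁ z₂ h₁ h₂
            rw [map_add]
            exact R.add_mem h₁ h₂
        have h2 := hsq _ hdiff
        rw [map_sub, pr_of_mem_same 𝒜 hy, map_sum] at h2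
        have h3 : ∑ i, GradedAlgebra.proj 𝒜 d (e.repr (Pq ⟨y, hyI⟩) i • b i) ∈ R :=
          Subalgebra.sum_mem R fun i _ => by
            rw [map_smul]
            exact R.smul_mem (hspanR _ (hgr d i)) _
        have h4 := R.add_mem h2 h3
        rwa [sub_add_cancel] at h4
  rw [eq_top_iff]
  intro y _
  rw [← DirectSum.sum_support_decompose 𝒜 y]
  exact Subalgebra.sum_mem R fun i _ => key i _ (SetLike.coe_mem _)

theorem aeval_mem_irr (b : Fin n → B)
    (hb : ∀ i, b i ∈ (HomogeneousIdeal.irrelevant 𝒜).toIdeal)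
    {q : MvPolynomial (Fin n) A} (hq : q ∈ MvPolynomial.idealOfVars (Fin n) A) :
    MvPolynomial.aeval b q ∈ (HomogeneousIdeal.irrelevant 𝒜).toIdeal := by
  have hle : MvPolynomial.idealOfVars (Fin n) A ≤
      (HomogeneousIdeal.irrelevant 𝒜).toIdeal.comap
        (MvPolynomial.aeval b : MvPolynomial (Fin n) A →ₐ[A] B) :=
    Ideal.span_le.mpr (by
      rintro _ ⟨i, rfl⟩
      show MvPolynomial.aeval b (MvPolynomial.X i) ∈ (HomogeneousIdeal.irrelevant 𝒜).toIdeal
      rw [MvPolynomial.aeval_X]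
      exact hb i)
  exact hle hq

theorem ker_le_sq (hinj : Function.Injective (algebraMap A B))
    (e : Module.Basis (Fin n) A N)
    (Pq : ↥(HomogeneousIdeal.irrelevant 𝒜).toIdeal →ₗ[A] N)
    (hPq : ∀ x : ↥(HomogeneousIdeal.irrelevant 𝒜).toIdeal,
      Pq x = 0 ↔ (x : B) ∈ (HomogeneousIdeal.irrelevant 𝒜).toIdeal ^ 2)
    (b : Fin n → B)
    (hb : ∀ i, ∃ h : b i ∈ (HomogeneousIdeal.irrelevant 𝒜).toIdeal, Pq ⟨b i, h⟩ = e i) :
    RingHom.ker (MvPolynomial.aeval b : MvPolynomial (Fin n) A →ₐ[A] B) ≤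
      MvPolynomial.idealOfVars (Fin n) A * MvPolynomial.idealOfVars (Fin n) A := by
  intro q hq
  have hq0 : MvPolynomial.aeval b q = 0 := hq
  obtain ⟨c₀, c, ht⟩ := taylor_one q
  have hbI : ∀ i, b i ∈ (HomogeneousIdeal.irrelevant 𝒜).toIdeal := fun i => (hb i).1
  have hφt : MvPolynomial.aeval b
      (q - MvPolynomial.C c₀ - ∑ i, MvPolynomial.C (c i) * MvPolynomial.X i) ∈
      (HomogeneousIdeal.irrelevant 𝒜).toIdeal ^ 2 := by
    have hle : MvPolynomial.idealOfVars (Fin n) A * MvPolynomial.idealOfVars (Fin n) A ≤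
        ((HomogeneousIdeal.irrelevant 𝒜).toIdeal ^ 2).comap
          (MvPolynomial.aeval b : MvPolynomial (Fin n) A →ₐ[A] B) :=
      Ideal.mul_le.mpr fun x hx y hy => by
        show MvPolynomial.aeval b (x * y) ∈ (HomogeneousIdeal.irrelevant 𝒜).toIdeal ^ 2
        rw [map_mul, pow_two]
        exact Ideal.mul_mem_mul (aeval_mem_irr 𝒜 b hbI hx) (aeval_mem_irr 𝒜 b hbI hy)
    exact hle ht
  have hval : MvPolynomial.aeval b
      (q - MvPolynomial.C c₀ - ∑ i, MvPolynomial.C (c i) * MvPolynomial.X i) =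
      -(algebraMap A B c₀ + ∑ i, c i • b i) := by
    rw [map_sub, map_sub, hq0, map_sum, MvPolynomial.aeval_C]
    simp only [map_mul, MvPolynomial.aeval_C, MvPolynomial.aeval_X, Algebra.smul_def]
    ring
  rw [hval] at hφt
  have hw : algebraMap A B c₀ + ∑ i, c i • b i ∈
      (HomogeneousIdeal.irrelevant 𝒜).toIdeal ^ 2 := by
    have h5 := neg_mem hφt
    rwa [neg_neg] at h5
  obtain ⟨hsI, hPqs⟩ := Pi_sum 𝒜 (⇑e) Pq b hb c
  have hc₀ : c₀ = 0 := by
    apply algebraMap_eq_zero_of_mem_irr 𝒜 hinj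
    have h1 : algebraMap A B c₀ + ∑ i, c i • b i ∈ (HomogeneousIdeal.irrelevant 𝒜).toIdeal :=
      Ideal.pow_le_self two_ne_zero hw
    have h6 := sub_mem h1 hsI
    rwa [add_sub_cancel_right] at h6
  subst hc₀
  rw [map_zero, zero_add] at hw
  have hc : ∀ i, c i = 0 := by
    have h0 : ∑ i, c i • e i = 0 := by
      rw [← hPqs]
      exact (hPq _).mpr hw
    exact Fintype.linearIndependent_iff.mp e.linearIndependent c h0
  have hq' : q = q - MvPolynomial.C 0 - ∑ i, MvPolynomial.C (c i) * MvPolynomial.X i := by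
    simp [hc]
  rw [hq']
  exact ht

theorem exists_mem_idealOfVars (hinj : Function.Injective (algebraMap A B)) (b : Fin n → B)
    (hbI : ∀ i, b i ∈ (HomogeneousIdeal.irrelevant 𝒜).toIdeal)
    (hsurj : Function.Surjective (MvPolynomial.aeval b : MvPolynomial (Fin n) A →ₐ[A] B))
    (y : B) (hy : y ∈ (HomogeneousIdeal.irrelevant 𝒜).toIdeal) :
    ∃ q ∈ MvPolynomial.idealOfVars (Fin n) A, MvPolynomial.aeval b q = y := by
  obtain ⟨q, rfl⟩ := hsurj y
  obtain ⟨c₀, c, ht⟩ := taylor_one q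
  have hlin : ∑ i, MvPolynomial.C (c i) * MvPolynomial.X i ∈
      MvPolynomial.idealOfVars (Fin n) A :=
    Ideal.sum_mem _ fun i _ => Ideal.mul_mem_left _ _ (Ideal.subset_span ⟨i, rfl⟩)
  have hq' : q - MvPolynomial.C c₀ ∈ MvPolynomial.idealOfVars (Fin n) A := by
    have h5 := Ideal.add_mem _ (Ideal.mul_le_right ht) hlin
    rwa [sub_add_cancel] at h5
  have h1 : MvPolynomial.aeval b (q - MvPolynomial.C c₀) ∈
      (HomogeneousIdeal.irrelevant 𝒜).toIdeal := aeval_mem_irr 𝒜 b hbI hq'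
  have hc₀ : c₀ = 0 := by
    apply algebraMap_eq_zero_of_mem_irr 𝒜 hinj
    have h6 := sub_mem hy h1
    rwa [map_sub, sub_sub_cancel, MvPolynomial.aeval_C] at h6
  refine ⟨q - MvPolynomial.C c₀, hq', ?_⟩
  rw [hc₀, map_zero, sub_zero]

end Graded

/-- Let k be a field, A a finitely generated k-algebra and B a finitely generated A-algebra graded by
the natural numbers as an A-algebra, with degree-zero part equal to the image of A and A → B
injective; let B₊ be the irrelevant ideal. So Spec B → Spec A is the retraction of an affine scheme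
with an action of the multiplicative monoid of the affine line onto its fixed-point scheme, with
zero section cut out by B₊; this is the affine-local graded form, for that monoid, of the published
statement, which covers any Kempf monoid M with unit group G and a k-scheme X locally of finite
type, and concludes that the retraction X⁺ → X^G is an affine-space bundle near a fixed point at
whose section value it is smooth. Assume that A → B is smooth at every prime ideal containing B₊ and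
that B₊/B₊² is a free A-module of finite rank. Then B is isomorphic, as an A-algebra, to the
polynomial ring over A in (rank of B₊/B₊²) variables. (The published statement also makes the
isomorphism equivariant for a suitable linear action when G is linearly reductive; only the
existence of an A-algebra isomorphism is stated here. Freeness of the conormal module holds after
shrinking the base, which is how the published proof reaches this situation.) -/
theorem result (k : Type u) [Field k]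
    (A B : Type u) [CommRing A] [CommRing B] [Algebra k A] [Algebra k B] [Algebra A B] [IsScalarTower k A B]
    [Algebra.FiniteType k A] [Algebra.FiniteType A B] (𝒜 : ℕ → Submodule A B) [GradedAlgebra 𝒜]
    (h0 : ∀ b : B, b ∈ 𝒜 0 ↔ b ∈ Set.range (algebraMap A B)) (hinj : Function.Injective (algebraMap A B))
    (hsm : ∀ (P : Ideal B) [P.IsPrime], (HomogeneousIdeal.irrelevant 𝒜).toIdeal ≤ P → Algebra.IsSmoothAt A P)
    [Module.Free A (HomogeneousIdeal.irrelevant 𝒜).toIdeal.Cotangent]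
    [Module.Finite A (HomogeneousIdeal.irrelevant 𝒜).toIdeal.Cotangent] :
    Nonempty (B ≃ₐ[A]
      MvPolynomial (Fin (Module.finrank A (HomogeneousIdeal.irrelevant 𝒜).toIdeal.Cotangent)) A) := by
  classical
  rcases subsingleton_or_nontrivial A with hA | hA
  · haveI : Subsingleton B := Module.subsingleton A B
    haveI : Subsingleton (MvPolynomial
        (Fin (Module.finrank A (HomogeneousIdeal.irrelevant 𝒜).toIdeal.Cotangent)) A) :=
      Module.subsingleton A _
    exact ⟨(AlgEquiv.ofBijective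
      (MvPolynomial.aeval (fun _ => (0 : B)) :
        MvPolynomial (Fin (Module.finrank A (HomogeneousIdeal.irrelevant 𝒜).toIdeal.Cotangent)) A
          →ₐ[A] B)
      ⟨Function.injective_of_subsingleton _, fun y => ⟨0, Subsingleton.elim _ _⟩⟩).symm⟩
  haveI : IsNoetherianRing A := Algebra.FiniteType.isNoetherianRing k A
  let e := Module.finBasis A (HomogeneousIdeal.irrelevant 𝒜).toIdeal.Cotangent
  let Pq : ↥(HomogeneousIdeal.irrelevant 𝒜).toIdeal →ₗ[A]
      (HomogeneousIdeal.irrelevant 𝒜).toIdeal.Cotangent :=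
    (HomogeneousIdeal.irrelevant 𝒜).toIdeal.toCotangent.restrictScalars A
  have hPq : ∀ x : ↥(HomogeneousIdeal.irrelevant 𝒜).toIdeal,
      Pq x = 0 ↔ (x : B) ∈ (HomogeneousIdeal.irrelevant 𝒜).toIdeal ^ 2 := fun x =>
    (HomogeneousIdeal.irrelevant 𝒜).toIdeal.toCotangent_eq_zero x
  have hs : Function.Surjective Pq := (HomogeneousIdeal.irrelevant 𝒜).toIdeal.toCotangent_surjective
  obtain ⟨b, hb, hgr⟩ := exists_graded_lifts 𝒜 e Pq hPq hs
  have hsurj : Function.Surjective
      (MvPolynomial.aeval b : MvPolynomial (Fin _) A →ₐ[A] B) := by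
    rw [← AlgHom.range_eq_top]
    exact subalgebra_eq_top 𝒜 (fun y hy => (h0 y).mp hy) e Pq hPq b hb hgr _
      (fun i => ⟨MvPolynomial.X i, MvPolynomial.aeval_X b i⟩)
  have hker := ker_le_sq 𝒜 hinj e Pq hPq b hb
  have hI := exists_mem_idealOfVars 𝒜 hinj b (fun i => (hb i).1) hsurj
  have hinjφ := injective_of_smooth (MvPolynomial.aeval b) hsurj
    (HomogeneousIdeal.irrelevant 𝒜).toIdeal hker hI hsm
  exact ⟨(AlgEquiv.ofBijective (MvPolynomial.aeval b) ⟨hinjφ, hsurj⟩).symm⟩

end Groth.Agent.S18961
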