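import Groth.Statements.S18962
import Mathlib
-- import your own Groth.Agent.* helpers here

set_option autoImplicit false
set_option linter.style.haveILetI false
universe u
open BBDec
open TensorProduct

namespace Groth.Agent.S18962

/-! ### Derivations and the conormal module of a section -/

section Deriv

variable {A B K : Type u} [CommRing A] [CommRing B] [Algebra A B] [CommRing K] [Algebra A K]
  [Algebra B K] [IsScalarTower A B K] (σ : B →ₐ[A] A)

theorem sub_mem_ker (r : B) : r - algebraMap A B (σ r) ∈ RingHom.ker σ := by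
  rw [RingHom.mem_ker, map_sub, AlgHom.commutes, Algebra.algebraMap_self_apply, sub_self]

/-- `r ↦ r - σ r`, as a linear map to the kernel of the section. -/
noncomputable def toKer : B →ₗ[A] ↥(RingHom.ker σ) where
  toFun r := ⟨r - algebraMap A B (σ r), sub_mem_ker σ r⟩
  map_add' x y := Subtype.ext (by
    show x + y - algebraMap A B (σ (x + y)) =
      (x - algebraMap A B (σ x)) + (y - algebraMap A B (σ y))
    rw [map_add, map_add]
    ring)
  map_smul' a x := Subtype.ext (by
    show a • x - algebraMap A B (σ (a • x)) = a • (x - algebraMap A B (σ x))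
    rw [map_smul, smul_eq_mul, map_mul, smul_sub, Algebra.smul_def a (algebraMap A B (σ x))])

theorem toKer_coe (r : B) : ((toKer σ r : ↥(RingHom.ker σ)) : B) = r - algebraMap A B (σ r) := rfl

/-- the projection to the conormal module, as an `A`-linear map -/
noncomputable def tcot : ↥(RingHom.ker σ) →ₗ[A] (RingHom.ker σ).Cotangent :=
  (RingHom.ker σ).toCotangent.restrictScalars A

theorem tcot_apply (z : ↥(RingHom.ker σ)) : tcot σ z = (RingHom.ker σ).toCotangent z := rfl

theorem smul_eq_of_hK (hK : ∀ x ∈ RingHom.ker σ, algebraMap B K x = 0) (x : B) (k : K) :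
    σ x • k = x • k := by
  have h := hK _ (sub_mem_ker σ x)
  rw [map_sub, sub_eq_zero] at h
  rw [Algebra.smul_def, Algebra.smul_def, h, ← IsScalarTower.algebraMap_apply]

/-- An `A`-linear functional on the conormal module of a section gives a derivation. -/
noncomputable def derivOfCot (hK : ∀ x ∈ RingHom.ker σ, algebraMap B K x = 0)
    (ℓ : (RingHom.ker σ).Cotangent →ₗ[A] K) : Derivation A B K where
  toLinearMap := ℓ ∘ₗ tcot σ ∘ₗ toKer σ
  map_one_eq_zero' := by
    show ℓ (tcot σ (toKer σ 1)) = 0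
    have h1 : toKer σ (1 : B) = 0 := Subtype.ext (by
      show (1 : B) - algebraMap A B (σ 1) = 0
      rw [map_one, map_one, sub_self])
    rw [h1, map_zero, map_zero]
  leibniz' x y := by
    show ℓ (tcot σ (toKer σ (x * y))) =
      x • ℓ (tcot σ (toKer σ y)) + y • ℓ (tcot σ (toKer σ x))
    have hmem : (toKer σ x : B) * (toKer σ y : B) ∈ RingHom.ker σ :=
      Ideal.mul_mem_left _ _ (toKer σ y).2
    have hdec : toKer σ (x * y) =
        (⟨(toKer σ x : B) * (toKer σ y : B), hmem⟩ : ↥(RingHom.ker σ)) +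
          σ x • toKer σ y + σ y • toKer σ x := by
      apply Subtype.ext
      show x * y - algebraMap A B (σ (x * y)) =
        (x - algebraMap A B (σ x)) * (y - algebraMap A B (σ y)) +
          σ x • (y - algebraMap A B (σ y)) + σ y • (x - algebraMap A B (σ x))
      rw [Algebra.smul_def, Algebra.smul_def, map_mul, map_mul]
      ring
    have hzero : tcot σ ⟨(toKer σ x : B) * (toKer σ y : B), hmem⟩ = 0 := by
      rw [tcot_apply, Ideal.toCotangent_eq_zero, pow_two]
      exact Ideal.mul_mem_mul (toKer σ x).2 (toKer σ y).2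
    have e1 : tcot σ (toKer σ (x * y)) =
        σ x • tcot σ (toKer σ y) + σ y • tcot σ (toKer σ x) := by
      rw [hdec, map_add, map_add, hzero, zero_add, map_smul, map_smul]
    rw [e1, map_add, map_smul, map_smul, smul_eq_of_hK σ hK, smul_eq_of_hK σ hK]

theorem derivOfCot_apply (hK : ∀ x ∈ RingHom.ker σ, algebraMap B K x = 0)
    (ℓ : (RingHom.ker σ).Cotangent →ₗ[A] K) (r : B) :
    derivOfCot σ hK ℓ r = ℓ (tcot σ (toKer σ r)) := rfl

/-- A derivation into a module killed by `I` gives a functional on `I/I²`. -/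
noncomputable def cotOfDeriv (I : Ideal B) (hK : ∀ x ∈ I, algebraMap B K x = 0)
    (δ : Derivation A B K) : I.Cotangent →ₗ[A] K :=
  Ideal.Cotangent.lift (δ.toLinearMap ∘ₗ (I.subtype.restrictScalars A)) (fun x y => by
    show δ ((x : B) * (y : B)) = 0
    rw [Derivation.leibniz, Algebra.smul_def, Algebra.smul_def, hK _ x.2, hK _ y.2, zero_mul,
      zero_mul, add_zero])

theorem cotOfDeriv_toCotangent (I : Ideal B) (hK : ∀ x ∈ I, algebraMap B K x = 0)
    (δ : Derivation A B K) (x : ↥I) : cotOfDeriv I hK δ (I.toCotangent x) = δ (x : B) := rfl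

end Deriv

/-- Extension of derivations along a map compatible with sections and inducing an isomorphism on
conormal modules. -/
theorem exists_extend_deriv (A B₁ B₂ : Type u)
    [CommRing A] [CommRing B₁] [CommRing B₂] [Algebra A B₁] [Algebra A B₂] [Algebra B₂ B₁]
    [IsScalarTower A B₂ B₁]
    (σ₁ : B₁ →ₐ[A] A) (σ₂ : B₂ →ₐ[A] A) (hσ : σ₁.comp (IsScalarTower.toAlgHom A B₂ B₁) = σ₂)
    (hle : RingHom.ker σ₂ ≤ (RingHom.ker σ₁).comap (IsScalarTower.toAlgHom A B₂ B₁))
    (hcot : Function.Bijective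
      (Ideal.mapCotangent (RingHom.ker σ₂) (RingHom.ker σ₁) (IsScalarTower.toAlgHom A B₂ B₁) hle))
    {K : Type u} [CommRing K] [Algebra A K] [Algebra B₁ K] [Algebra B₂ K] [IsScalarTower A B₁ K]
    [IsScalarTower A B₂ K] [IsScalarTower B₂ B₁ K]
    (hK : ∀ x ∈ RingHom.ker σ₁, algebraMap B₁ K x = 0)
    (δ : Derivation A B₂ K) :
    ∃ d : Derivation A B₁ K, ∀ b : B₂, d (algebraMap B₂ B₁ b) = δ b := by
  have hK₂ : ∀ x ∈ RingHom.ker σ₂, algebraMap B₂ K x = 0 := by
    intro x hx
    rw [IsScalarTower.algebraMap_apply B₂ B₁ K]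
    exact hK _ (show algebraMap B₂ B₁ x ∈ RingHom.ker σ₁ from hle hx)
  let cE : (RingHom.ker σ₂).Cotangent ≃ₗ[A] (RingHom.ker σ₁).Cotangent :=
    LinearEquiv.ofBijective _ hcot
  refine ⟨derivOfCot σ₁ hK ((cotOfDeriv (RingHom.ker σ₂) hK₂ δ) ∘ₗ cE.symm.toLinearMap),
    fun b => ?_⟩
  show (cotOfDeriv (RingHom.ker σ₂) hK₂ δ)
    (cE.symm (tcot σ₁ (toKer σ₁ (algebraMap B₂ B₁ b)))) = δ b
  have h1 : tcot σ₁ (toKer σ₁ (algebraMap B₂ B₁ b)) =
      cE ((RingHom.ker σ₂).toCotangent (toKer σ₂ b)) := by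
    rw [LinearEquiv.ofBijective_apply, Ideal.mapCotangent_toCotangent, tcot_apply]
    congr 1
    apply Subtype.ext
    show algebraMap B₂ B₁ b - algebraMap A B₁ (σ₁ (algebraMap B₂ B₁ b)) =
      (IsScalarTower.toAlgHom A B₂ B₁) (b - algebraMap A B₂ (σ₂ b))
    have h2 : σ₁ (algebraMap B₂ B₁ b) = σ₂ b := AlgHom.congr_fun hσ b
    rw [h2, map_sub, AlgHom.commutes]
    rfl
  rw [h1, LinearEquiv.symm_apply_apply, cotOfDeriv_toCotangent, toKer_coe, map_sub,
    Derivation.map_algebraMap, sub_zero]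

/-- Derivations extend uniquely along formally étale maps; here the existence of the induced
functional on differentials. -/
theorem exists_lift_kaehler (A B S K : Type u) [CommRing A] [CommRing B] [CommRing S]
    [Algebra A B] [Algebra A S] [Algebra B S] [IsScalarTower A B S] [Algebra.FormallyEtale B S]
    [CommRing K] [Algebra A K] [Algebra B K] [Algebra S K] [IsScalarTower A B K]
    [IsScalarTower B S K] (d : Derivation A B K) :
    ∃ Λ : Ω[S⁄A] →ₗ[S] K, ∀ r : B, Λ (KaehlerDifferential.D A S (algebraMap B S r)) = d r := by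
  refine ⟨(KaehlerDifferential.isBaseChange_of_formallyEtale A B S).lift d.liftKaehlerDifferential,
    fun r => ?_⟩
  rw [← KaehlerDifferential.map_D A A B S, IsBaseChange.lift_eq,
    Derivation.liftKaehlerDifferential_comp_D]

/-- Injectivity modulo the maximal ideal from extendability of functionals. -/
theorem lTensor_injective_of_extend {S : Type u} [CommRing S] [IsLocalRing S] {M N : Type u}
    [AddCommGroup M] [AddCommGroup N] [Module S M] [Module S N] (f : M →ₗ[S] N)
    (h : ∀ ψ : M →ₗ[S] IsLocalRing.ResidueField S,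
      ∃ Λ : N →ₗ[S] IsLocalRing.ResidueField S, ∀ m, Λ (f m) = ψ m) :
    Function.Injective (f.lTensor (IsLocalRing.ResidueField S)) := by
  rw [injective_iff_map_eq_zero]
  intro x hx
  refine (Module.forall_dual_apply_eq_zero_iff (IsLocalRing.ResidueField S) x).mp ?_
  intro φ
  obtain ⟨Λ, hΛ⟩ := h ((φ.restrictScalars S) ∘ₗ
    (TensorProduct.mk S (IsLocalRing.ResidueField S) M 1))
  have key : ∀ z : IsLocalRing.ResidueField S ⊗[S] M,
      φ z = (Λ.liftBaseChange (IsLocalRing.ResidueField S))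
        (f.lTensor (IsLocalRing.ResidueField S) z) := by
    intro z
    induction z using TensorProduct.induction_on with
    | zero => rw [map_zero, map_zero, map_zero]
    | tmul a m =>
      rw [LinearMap.lTensor_tmul, LinearMap.liftBaseChange_tmul, hΛ]
      show φ (a ⊗ₜ m) = a • φ ((1 : IsLocalRing.ResidueField S) ⊗ₜ m)
      rw [← map_smul, TensorProduct.smul_tmul', smul_eq_mul, mul_one]
    | add z₁ z₂ h₁ h₂ => rw [map_add, map_add, map_add, h₁, h₂]
  rw [key x, hx, map_zero]

section Main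

variable (A B₁ B₂ : Type u)
  [CommRing A] [CommRing B₁] [CommRing B₂] [Algebra A B₁] [Algebra A B₂] [Algebra B₂ B₁]
  [IsScalarTower A B₂ B₁]
  (σ₁ : B₁ →ₐ[A] A) (σ₂ : B₂ →ₐ[A] A)
  (hle : RingHom.ker σ₂ ≤ (RingHom.ker σ₁).comap (IsScalarTower.toAlgHom A B₂ B₁))
  (P : Ideal B₁) [P.IsPrime]

local notation "SP" => Localization.AtPrime P

/-- The relative differentials vanish at primes containing the ideal of the section. -/
theorem subsingleton_kaehler [Algebra.FiniteType B₂ B₁]
    (hsurj : Function.Surjective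
      (Ideal.mapCotangent (RingHom.ker σ₂) (RingHom.ker σ₁) (IsScalarTower.toAlgHom A B₂ B₁) hle))
    (hP : RingHom.ker σ₁ ≤ P) : Subsingleton Ω[SP⁄B₂] := by
  haveI : Algebra.EssFiniteType B₁ SP := .of_isLocalization _ P.primeCompl
  haveI : Algebra.EssFiniteType B₂ SP := .comp _ B₁ _
  haveI : Module.Finite SP Ω[SP⁄B₂] := inferInstance
  have hmem : ∀ x ∈ RingHom.ker σ₁, algebraMap B₁ SP x ∈ IsLocalRing.maximalIdeal SP :=
    fun x hx => (IsLocalization.AtPrime.to_map_mem_maximal_iff SP P x).mpr (hP hx)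
  have hsq : ∀ γ ∈ RingHom.ker σ₁ * RingHom.ker σ₁,
      KaehlerDifferential.D B₂ SP (algebraMap B₁ SP γ) ∈
        IsLocalRing.maximalIdeal SP • (⊤ : Submodule SP Ω[SP⁄B₂]) := by
    intro γ hγ
    have hγ' : γ ∈ RingHom.ker σ₁ • RingHom.ker σ₁ := hγ
    refine Submodule.smul_induction_on
      (p := fun γ => KaehlerDifferential.D B₂ SP (algebraMap B₁ SP γ) ∈
        IsLocalRing.maximalIdeal SP • (⊤ : Submodule SP Ω[SP⁄B₂])) hγ' ?_ ?_
    · intro x hx y hy
      rw [smul_eq_mul, map_mul, Derivation.leibniz]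
      exact add_mem (Submodule.smul_mem_smul (hmem x hx) trivial)
        (Submodule.smul_mem_smul (hmem y hy) trivial)
    · intro z₁ z₂ h₁ h₂
      rw [map_add, map_add]
      exact add_mem h₁ h₂
  have hgen : ∀ r : B₁, KaehlerDifferential.D B₂ SP (algebraMap B₁ SP r) ∈
      IsLocalRing.maximalIdeal SP • (⊤ : Submodule SP Ω[SP⁄B₂]) := by
    intro r
    obtain ⟨y, hy⟩ := hsurj ((RingHom.ker σ₁).toCotangent (toKer σ₁ r))
    obtain ⟨β, rfl⟩ := (RingHom.ker σ₂).toCotangent_surjective y
    rw [Ideal.mapCotangent_toCotangent, Ideal.toCotangent_eq, pow_two] at hy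
    have h1 : KaehlerDifferential.D B₂ SP (algebraMap B₁ SP
        ((IsScalarTower.toAlgHom A B₂ B₁) (β : B₂) - (r - algebraMap A B₁ (σ₁ r)))) ∈
        IsLocalRing.maximalIdeal SP • (⊤ : Submodule SP Ω[SP⁄B₂]) := hsq _ hy
    have e1 : algebraMap B₁ SP ((IsScalarTower.toAlgHom A B₂ B₁) (β : B₂)) =
        algebraMap B₂ SP (β : B₂) := (IsScalarTower.algebraMap_apply B₂ B₁ SP _).symm
    have e2 : algebraMap B₁ SP (algebraMap A B₁ (σ₁ r)) =
        algebraMap B₂ SP (algebraMap A B₂ (σ₁ r)) := by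
      rw [← IsScalarTower.algebraMap_apply A B₁ SP, ← IsScalarTower.algebraMap_apply A B₂ SP]
    have h2 : KaehlerDifferential.D B₂ SP (algebraMap B₁ SP
        ((IsScalarTower.toAlgHom A B₂ B₁) (β : B₂) - (r - algebraMap A B₁ (σ₁ r)))) =
        -KaehlerDifferential.D B₂ SP (algebraMap B₁ SP r) := by
      simp only [map_sub]
      rw [e1, e2, Derivation.map_algebraMap, Derivation.map_algebraMap, sub_zero, zero_sub]
    rw [h2] at h1
    have h3 := neg_mem h1
    rwa [neg_neg] at h3
  have htop : (⊤ : Submodule SP Ω[SP⁄B₂]) ≤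
      IsLocalRing.maximalIdeal SP • (⊤ : Submodule SP Ω[SP⁄B₂]) := by
    have hspan := KaehlerDifferential.span_range_map_derivation_of_isLocalization B₂ B₁ SP
      P.primeCompl
    have hle' : Submodule.span SP (Set.range
        (KaehlerDifferential.map B₂ B₂ B₁ SP ∘ KaehlerDifferential.D B₂ B₁)) ≤
        IsLocalRing.maximalIdeal SP • (⊤ : Submodule SP Ω[SP⁄B₂]) :=
      Submodule.span_le.mpr (by
        rintro _ ⟨r, rfl⟩
        rw [Function.comp_apply, KaehlerDifferential.map_D]
        exact hgen r)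
    rwa [hspan] at hle'
  have hbot := Submodule.eq_bot_of_le_smul_of_le_jacobson_bot (IsLocalRing.maximalIdeal SP)
    (⊤ : Submodule SP Ω[SP⁄B₂]) Module.Finite.fg_top htop
    (IsLocalRing.maximalIdeal_le_jacobson _)
  refine ⟨fun x y => ?_⟩
  have hx : x ∈ (⊤ : Submodule SP Ω[SP⁄B₂]) := trivial
  have hy : y ∈ (⊤ : Submodule SP Ω[SP⁄B₂]) := trivial
  rw [hbot] at hx hy
  rw [(Submodule.mem_bot SP).mp hx, (Submodule.mem_bot SP).mp hy]

/-- The map on differentials is injective at primes containing the ideal of the section. -/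
theorem injective_mapBaseChange [Algebra.FiniteType A B₁] [Algebra.FiniteType A B₂]
    (hσ : σ₁.comp (IsScalarTower.toAlgHom A B₂ B₁) = σ₂)
    (hcot : Function.Bijective
      (Ideal.mapCotangent (RingHom.ker σ₂) (RingHom.ker σ₁) (IsScalarTower.toAlgHom A B₂ B₁) hle))
    (hP : RingHom.ker σ₁ ≤ P) [Algebra.FormallySmooth A SP] :
    Function.Injective (KaehlerDifferential.mapBaseChange A B₂ SP) := by
  haveI : Algebra.EssFiniteType B₁ SP := .of_isLocalization _ P.primeCompl
  haveI : Algebra.EssFiniteType A SP := .comp _ B₁ _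
  haveI : Module.Finite SP Ω[SP⁄A] := inferInstance
  haveI : Module.Free SP Ω[SP⁄A] := Module.free_of_flat_of_isLocalRing
  haveI : Module.Finite B₂ Ω[B₂⁄A] := inferInstance
  haveI : Module.Finite SP (SP ⊗[B₂] Ω[B₂⁄A]) := inferInstance
  haveI : Algebra.FormallyEtale B₁ SP := Algebra.FormallyEtale.of_isLocalization P.primeCompl
  have hKκ : ∀ x ∈ RingHom.ker σ₁, algebraMap B₁ (IsLocalRing.ResidueField SP) x = 0 := by
    intro x hx
    rw [IsScalarTower.algebraMap_apply B₁ SP (IsLocalRing.ResidueField SP),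
      IsLocalRing.ResidueField.algebraMap_eq, IsLocalRing.residue_eq_zero_iff]
    exact (IsLocalization.AtPrime.to_map_mem_maximal_iff SP P x).mpr (hP hx)
  have hκ : Function.Injective
      ((KaehlerDifferential.mapBaseChange A B₂ SP).lTensor (IsLocalRing.ResidueField SP)) := by
    refine lTensor_injective_of_extend _ (fun ψ => ?_)
    let ψ₂ : Ω[B₂⁄A] →ₗ[B₂] IsLocalRing.ResidueField SP :=
      { toFun := fun ω => ψ ((1 : SP) ⊗ₜ[B₂] ω)
        map_add' := fun x y => by rw [TensorProduct.tmul_add, map_add]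
        map_smul' := fun b x => by
          rw [RingHom.id_apply, TensorProduct.tmul_smul,
            ← algebraMap_smul SP b ((1 : SP) ⊗ₜ[B₂] x), map_smul, algebraMap_smul] }
    have hψ₂ : ∀ ω, ψ₂ ω = ψ ((1 : SP) ⊗ₜ[B₂] ω) := fun ω => rfl
    obtain ⟨d, hd⟩ := exists_extend_deriv A B₁ B₂ σ₁ σ₂ hσ hle hcot hKκ
      (ψ₂.compDer (KaehlerDifferential.D A B₂))
    obtain ⟨Λ, hΛ⟩ := exists_lift_kaehler A B₁ SP (IsLocalRing.ResidueField SP) d
    have key : ∀ ω : Ω[B₂⁄A],
        Λ (KaehlerDifferential.mapBaseChange A B₂ SP ((1 : SP) ⊗ₜ[B₂] ω)) =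
          ψ ((1 : SP) ⊗ₜ[B₂] ω) := by
      intro ω
      have hω : ω ∈ Submodule.span B₂ (Set.range (KaehlerDifferential.D A B₂)) := by
        rw [KaehlerDifferential.span_range_derivation]
        trivial
      refine Submodule.span_induction ?_ ?_ ?_ ?_ hω
      · rintro _ ⟨b, rfl⟩
        rw [KaehlerDifferential.mapBaseChange_tmul, one_smul, KaehlerDifferential.map_D,
          IsScalarTower.algebraMap_apply B₂ B₁ SP, hΛ, hd]
        rfl
      · rw [TensorProduct.tmul_zero, map_zero, map_zero, map_zero]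
      · intro x y _ _ hx hy
        rw [TensorProduct.tmul_add, map_add, map_add, map_add, hx, hy]
      · intro b x _ hx
        rw [TensorProduct.tmul_smul, ← algebraMap_smul SP b ((1 : SP) ⊗ₜ[B₂] x), map_smul,
          map_smul, map_smul, hx]
    refine ⟨Λ, fun m => ?_⟩
    induction m using TensorProduct.induction_on with
    | zero => rw [map_zero, map_zero, map_zero]
    | tmul s ω =>
      have hs : s ⊗ₜ[B₂] ω = s • ((1 : SP) ⊗ₜ[B₂] ω) := by
        rw [TensorProduct.smul_tmul', smul_eq_mul, mul_one]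
      rw [hs, map_smul, map_smul, map_smul, key]
    | add x y hx hy => rw [map_add, map_add, map_add, hx, hy]
  obtain ⟨l', hl'⟩ := (IsLocalRing.split_injective_iff_lTensor_residueField_injective
    (KaehlerDifferential.mapBaseChange A B₂ SP)).mpr hκ
  intro x y hxy
  have h1 := LinearMap.congr_fun hl' x
  have h2 := LinearMap.congr_fun hl' y
  rw [LinearMap.comp_apply, LinearMap.id_apply] at h1 h2
  rw [← h1, ← h2, hxy]

end Main

/-- Let A be a commutative ring (the base V = Spec A) and B₁, B₂ commutative A-algebras (V-schemes X₁,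
X₂) with A-algebra maps σ₁ : B₁ → A and σ₂ : B₂ → A (sections s₁, s₂ of the structure maps, closed
immersions with ideals b₁ = ker σ₁, b₂ = ker σ₂), and let B₂ → B₁ be an A-algebra map (a V-morphism
f : X₁ → X₂) with σ₁ ∘ (B₂ → B₁) = σ₂ (f s₁ = s₂). Assume B₁ is finitely presented over A and smooth
over A at every prime containing b₁ (r₁ smooth along s₁(V)), B₂ is of finite type over A, and the
induced map b₂/b₂² → b₁/b₁² of conormal modules is bijective. Then B₂ → B₁ is étale at every prime
of B₁ containing b₁ (f étale along s₁(V)). (The published statement puts no finiteness condition on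
B₂ over A, and in that generality the conclusion fails: over a field k, the square-zero extension of
k[x] by k[x, 1/x] mapping onto k[y] by x ↦ y, with the zero sections, satisfies every other
hypothesis and is not étale at the origin. Here B₂ is assumed of finite type over A.) -/
theorem result (A B₁ B₂ : Type u)
    [CommRing A] [CommRing B₁] [CommRing B₂] [Algebra A B₁] [Algebra A B₂] [Algebra B₂ B₁]
    [IsScalarTower A B₂ B₁] [Algebra.FinitePresentation A B₁] [Algebra.FiniteType A B₂]
    (σ₁ : B₁ →ₐ[A] A) (σ₂ : B₂ →ₐ[A] A) (hσ : σ₁.comp (IsScalarTower.toAlgHom A B₂ B₁) = σ₂)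
    (hle : RingHom.ker σ₂ ≤ (RingHom.ker σ₁).comap (IsScalarTower.toAlgHom A B₂ B₁))
    (hcot : Function.Bijective
      (Ideal.mapCotangent (RingHom.ker σ₂) (RingHom.ker σ₁) (IsScalarTower.toAlgHom A B₂ B₁) hle))
    (hsm : ∀ (P : Ideal B₁) [P.IsPrime], RingHom.ker σ₁ ≤ P → Algebra.IsSmoothAt A P)
    (P : Ideal B₁) [P.IsPrime] (hP : RingHom.ker σ₁ ≤ P) : Algebra.IsEtaleAt B₂ P := by
  haveI : Algebra.FiniteType B₂ B₁ := Algebra.FiniteType.of_restrictScalars_finiteType A B₂ B₁
  haveI : Algebra.FormallySmooth A (Localization.AtPrime P) := hsm P hP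
  haveI hsub : Subsingleton Ω[Localization.AtPrime P⁄B₂] :=
    subsingleton_kaehler A B₁ B₂ σ₁ σ₂ hle P hcot.2 hP
  have hinj : Function.Injective
      (KaehlerDifferential.mapBaseChange A B₂ (Localization.AtPrime P)) :=
    injective_mapBaseChange A B₁ B₂ σ₁ σ₂ hle P hσ hcot hP
  show Algebra.FormallyEtale B₂ (Localization.AtPrime P)
  refine ⟨⟨fun x y => ?_⟩, ⟨fun x y => ?_⟩⟩
  · exact Subsingleton.elim x y
  · suffices h : ∀ z : Algebra.H1Cotangent B₂ (Localization.AtPrime P), z = 0 by
      rw [h x, h y]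
    intro z
    have h1 : Algebra.H1Cotangent.δ A B₂ (Localization.AtPrime P) z = 0 := by
      apply hinj
      rw [map_zero]
      exact (Algebra.H1Cotangent.exact_δ_mapBaseChange A B₂ (Localization.AtPrime P) _).mpr
        ⟨z, rfl⟩
    obtain ⟨w, rfl⟩ := (Algebra.H1Cotangent.exact_map_δ A B₂ (Localization.AtPrime P) z).mp h1
    rw [Subsingleton.elim w 0, map_zero]

end Groth.Agent.S18962
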