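import Groth.Statements.S18974
import Mathlib.Tactic
import Mathlib.RingTheory.Derivation.Basic
import Mathlib.Algebra.Polynomial.Derivative
import Mathlib.Algebra.Polynomial.Inductions

set_option autoImplicit false
universe u
open CAlg

namespace Groth.Agent.S18974


open Polynomial

section LND
variable {A : Type u} [CommRing A] [Algebra ℚ A] (D : Derivation ℚ A A)

/-- The kernel of a derivation as a subalgebra. -/
def ker0 : Subalgebra ℚ A where
  carrier := {x | D x = 0}
  mul_mem' := by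
    intro x y hx hy
    show D (x * y) = 0
    have hx' : D x = 0 := hx
    have hy' : D y = 0 := hy
    rw [Derivation.leibniz, hx', hy', smul_zero, smul_zero, add_zero]
  add_mem' := by
    intro x y hx hy
    show D (x + y) = 0
    have hx' : D x = 0 := hx
    have hy' : D y = 0 := hy
    rw [map_add, hx', hy', add_zero]
  algebraMap_mem' := by
    intro r
    show D (algebraMap ℚ A r) = 0
    exact D.map_algebraMap r

/-- Inclusion as a ring hom. -/
def incl : ker0 D →+* A := (ker0 D).val.toRingHom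

theorem incl_apply (c : ker0 D) : incl D c = (c : A) := rfl

theorem D_incl (c : ker0 D) : D (incl D c) = 0 := c.2

theorem incl_smul (r : ℚ) (c : ker0 D) : incl D (r • c) = r • incl D c := rfl

theorem incl_injective : Function.Injective (incl D) := fun _ _ h => Subtype.ext h

/-- Evaluation at `a`. -/
def psi (a : A) : Polynomial (ker0 D) →+* A := Polynomial.eval₂RingHom (incl D) a

theorem psi_monomial (a : A) (n : ℕ) (c : ker0 D) :
    psi D a (monomial n c) = incl D c * a ^ n :=
  Polynomial.eval₂_monomial (incl D) a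

theorem psi_C (a : A) (c : ker0 D) : psi D a (C c) = incl D c :=
  Polynomial.eval₂_C (incl D) a

theorem psi_X (a : A) : psi D a X = a :=
  Polynomial.eval₂_X (incl D) a

theorem D_psi (a : A) (ha : D a = 1) (p : Polynomial (ker0 D)) :
    D (psi D a p) = psi D a (derivative p) := by
  refine Polynomial.induction_on' p (fun p q hp hq => ?_) (fun n c => ?_)
  · simp only [map_add, hp, hq]
  · rw [derivative_monomial, psi_monomial, psi_monomial, Derivation.leibniz, Derivation.leibniz_pow,
      ha, D_incl, smul_zero, add_zero, map_mul, map_natCast]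
    simp only [smul_eq_mul, nsmul_eq_mul, mul_one]
    ring

theorem pow_psi (a : A) (ha : D a = 1) (n : ℕ) (p : Polynomial (ker0 D)) :
    ((D : A →ₗ[ℚ] A) ^ n) (psi D a p) = psi D a (derivative^[n] p) := by
  induction n generalizing p with
  | zero => simp
  | succ n ih =>
    rw [pow_succ, Module.End.mul_apply, Derivation.coeFn_coe, D_psi D a ha, ih,
      Function.iterate_succ_apply]

omit [Algebra ℚ A] in
theorem mk_a (a : A) : Ideal.Quotient.mk (Ideal.span ({a} : Set A)) a = 0 :=
  Ideal.Quotient.eq_zero_iff_mem.mpr (Ideal.subset_span (Set.mem_singleton a))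

theorem mk_psi (a : A) (p : Polynomial (ker0 D)) :
    Ideal.Quotient.mk (Ideal.span ({a} : Set A)) (psi D a p) =
      Ideal.Quotient.mk (Ideal.span ({a} : Set A)) (incl D (p.coeff 0)) := by
  have h := congrArg (fun q => Ideal.Quotient.mk (Ideal.span ({a} : Set A)) (psi D a q))
    (Polynomial.divX_mul_X_add p)
  simp only [map_add, map_mul, psi_X, psi_C, mk_a, mul_zero, zero_add] at h
  exact h.symm

theorem pow_psi_of_natDegree_le (a : A) (ha : D a = 1) (n : ℕ) (p : Polynomial (ker0 D))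
    (hp : p.natDegree ≤ n) :
    ((D : A →ₗ[ℚ] A) ^ n) (psi D a p) = (n.factorial : ℚ) • incl D (p.coeff n) := by
  rw [pow_psi D a ha]
  have hq : (derivative^[n] p).natDegree ≤ 0 :=
    le_trans (natDegree_iterate_derivative p n) (by omega)
  rw [eq_C_of_natDegree_le_zero hq, psi_C, coeff_iterate_derivative, zero_add,
    Nat.descFactorial_self, map_nsmul, Nat.cast_smul_eq_nsmul ℚ]

theorem nsmul_factorial_cancel {M : Type*} [AddCommGroup M] [Module ℚ M] (n : ℕ) (z : M) :
    ((n.factorial : ℚ))⁻¹ • (n.factorial • z) = z := by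
  rw [← Nat.cast_smul_eq_nsmul ℚ,
    inv_smul_smul₀ (Nat.cast_ne_zero.mpr (Nat.factorial_ne_zero n))]

theorem psi_injective (a : A) (ha : D a = 1) : Function.Injective (psi D a) := by
  rw [injective_iff_map_eq_zero]
  intro p hp
  by_contra hne
  have h := pow_psi_of_natDegree_le D a ha p.natDegree p le_rfl
  rw [hp, map_zero] at h
  have hfac : ((p.natDegree.factorial : ℕ) : ℚ) ≠ 0 :=
    Nat.cast_ne_zero.mpr (Nat.factorial_ne_zero _)
  have h2 : incl D (p.coeff p.natDegree) = 0 := by
    have := congrArg (fun y => ((p.natDegree.factorial : ℚ))⁻¹ • y) h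
    simp only [smul_zero, inv_smul_smul₀ hfac] at this
    exact this.symm
  have h3 : p.coeff p.natDegree = 0 := incl_injective D (by rw [h2, map_zero])
  exact hne (leadingCoeff_eq_zero.mp h3)

theorem psi_surjective_aux (a : A) (ha : D a = 1) :
    ∀ (N : ℕ) (x : A), ((D : A →ₗ[ℚ] A) ^ N) x = 0 → ∃ p, psi D a p = x := by
  intro N
  induction N with
  | zero =>
    intro x hx
    rw [pow_zero, Module.End.one_apply] at hx
    exact ⟨0, by rw [map_zero, hx]⟩
  | succ N ih =>
    intro x hx
    have hc : D (((D : A →ₗ[ℚ] A) ^ N) x) = 0 := by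
      rw [pow_succ', Module.End.mul_apply, Derivation.coeFn_coe] at hx
      exact hx
    obtain ⟨c, hcdef⟩ : ∃ c : ker0 D, incl D c = ((D : A →ₗ[ℚ] A) ^ N) x := ⟨⟨_, hc⟩, rfl⟩
    have hfac : ((N.factorial : ℕ) : ℚ) ≠ 0 := Nat.cast_ne_zero.mpr (Nat.factorial_ne_zero _)
    obtain ⟨m, hm⟩ : ∃ m : Polynomial (ker0 D), m = monomial N (((N.factorial : ℚ))⁻¹ • c) :=
      ⟨_, rfl⟩
    have hmpow : ((D : A →ₗ[ℚ] A) ^ N) (psi D a m) = ((D : A →ₗ[ℚ] A) ^ N) x := by
      rw [pow_psi_of_natDegree_le D a ha N m (by rw [hm]; exact natDegree_monomial_le _), hm,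
        coeff_monomial, if_pos rfl, ← hcdef, incl_smul, smul_inv_smul₀ hfac]
    obtain ⟨q, hq⟩ := ih (x - psi D a m) (by rw [map_sub, hmpow, sub_self])
    exact ⟨q + m, by rw [map_add, hq, sub_add_cancel]⟩

theorem psi_surjective (a : A) (ha : D a = 1)
    (hnil : ∀ x : A, ∃ n : ℕ, ((D : A →ₗ[ℚ] A) ^ n) x = 0) : Function.Surjective (psi D a) := by
  intro x
  obtain ⟨n, hn⟩ := hnil x
  exact psi_surjective_aux D a ha n x hn

/-- kernel to quotient. -/
def fmap (a : A) : ker0 D →+* A ⧸ Ideal.span ({a} : Set A) :=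
  (Ideal.Quotient.mk (Ideal.span ({a} : Set A))).comp (incl D)

theorem fmap_apply (a : A) (c : ker0 D) :
    fmap D a c = Ideal.Quotient.mk (Ideal.span ({a} : Set A)) (incl D c) := rfl

theorem fmap_injective (a : A) (ha : D a = 1)
    (hnil : ∀ x : A, ∃ n : ℕ, ((D : A →ₗ[ℚ] A) ^ n) x = 0) : Function.Injective (fmap D a) := by
  rw [injective_iff_map_eq_zero]
  intro c hc
  rw [fmap_apply, Ideal.Quotient.eq_zero_iff_mem, Ideal.mem_span_singleton'] at hc
  obtain ⟨y, hy⟩ := hc
  obtain ⟨q, rfl⟩ := psi_surjective D a ha hnil y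
  have h1 : psi D a (q * X) = psi D a (C c) := by rw [map_mul, psi_X, psi_C, hy]
  have h2 := psi_injective D a ha h1
  have h3 := congrArg (fun r => Polynomial.coeff r 0) h2
  simp only [coeff_mul_X_zero, coeff_C_zero] at h3
  exact h3.symm

theorem fmap_surjective (a : A) (ha : D a = 1)
    (hnil : ∀ x : A, ∃ n : ℕ, ((D : A →ₗ[ℚ] A) ^ n) x = 0) : Function.Surjective (fmap D a) := by
  intro b
  obtain ⟨x, rfl⟩ := Ideal.Quotient.mk_surjective b
  obtain ⟨p, rfl⟩ := psi_surjective D a ha hnil x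
  exact ⟨p.coeff 0, by rw [fmap_apply, mk_psi]⟩

theorem mk_pow_psi (a : A) (ha : D a = 1) (n : ℕ) (p : Polynomial (ker0 D)) :
    Ideal.Quotient.mk (Ideal.span ({a} : Set A)) (((D : A →ₗ[ℚ] A) ^ n) (psi D a p)) =
      n.factorial • fmap D a (p.coeff n) := by
  rw [pow_psi D a ha, mk_psi, coeff_iterate_derivative, zero_add, Nat.descFactorial_self,
    map_nsmul, map_nsmul, fmap_apply]

theorem D_term (a : A) (ha : D a = 1) (c : ℚ) (u : A) (n : ℕ) :
    D (c • (u * a ^ (n + 1))) =
      c • (D u * a ^ (n + 1)) + (c * ((n : ℚ) + 1)) • (u * a ^ n) := by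
  have h1 : ((n : ℚ) + 1) • (u * a ^ n) = ((n : A) + 1) * (u * a ^ n) := by
    rw [Algebra.smul_def, map_add, map_natCast, map_one]
  rw [Derivation.map_smul, Derivation.leibniz, Derivation.leibniz_pow, ha, mul_smul, h1,
    ← smul_add]
  congr 1
  simp only [smul_eq_mul, nsmul_eq_mul, mul_one, Nat.add_sub_cancel, Nat.cast_add, Nat.cast_one]
  ring

/-- The projection to the kernel. -/
def eps (a : A) (N : ℕ) (x : A) : A :=
  ∑ n ∈ Finset.range N,
    (((-1 : ℚ) ^ n * (n.factorial : ℚ)⁻¹) • ((((D : A →ₗ[ℚ] A) ^ n) x) * a ^ n))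

theorem D_eps (a : A) (ha : D a = 1) (x : A) (N : ℕ) :
    D (eps D a (N + 1) x) =
      ((-1 : ℚ) ^ N * (N.factorial : ℚ)⁻¹) • ((((D : A →ₗ[ℚ] A) ^ (N + 1)) x) * a ^ N) := by
  induction N with
  | zero => simp [eps]
  | succ N ih =>
    have hstep : eps D a (N + 1 + 1) x = eps D a (N + 1) x +
        (((-1 : ℚ) ^ (N + 1) * ((N + 1).factorial : ℚ)⁻¹) •
          ((((D : A →ₗ[ℚ] A) ^ (N + 1)) x) * a ^ (N + 1))) := by
      unfold eps
      rw [Finset.sum_range_succ _ (N + 1)]
    have hD : D (((D : A →ₗ[ℚ] A) ^ (N + 1)) x) = ((D : A →ₗ[ℚ] A) ^ (N + 1 + 1)) x := by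
      rw [pow_succ' _ (N + 1), Module.End.mul_apply, Derivation.coeFn_coe]
    have hcoef : ((-1 : ℚ) ^ N * (N.factorial : ℚ)⁻¹) +
        ((-1 : ℚ) ^ (N + 1) * ((N + 1).factorial : ℚ)⁻¹) * ((N : ℚ) + 1) = 0 := by
      have h2 : ((N : ℚ) + 1) ≠ 0 := by positivity
      have h3 : (((N : ℚ) + 1) * (N.factorial : ℚ))⁻¹ * ((N : ℚ) + 1) = (N.factorial : ℚ)⁻¹ := by
        rw [mul_inv, mul_comm, ← mul_assoc, mul_inv_cancel₀ h2, one_mul]
      rw [Nat.factorial_succ, Nat.cast_mul, Nat.cast_add, Nat.cast_one, mul_assoc, h3, pow_succ]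
      ring
    have hz : ((-1 : ℚ) ^ N * (N.factorial : ℚ)⁻¹) • ((((D : A →ₗ[ℚ] A) ^ (N + 1)) x) * a ^ N) +
        (((-1 : ℚ) ^ (N + 1) * ((N + 1).factorial : ℚ)⁻¹) * ((N : ℚ) + 1)) •
          ((((D : A →ₗ[ℚ] A) ^ (N + 1)) x) * a ^ N) = 0 := by
      rw [← add_smul, hcoef, zero_smul]
    rw [hstep, map_add, ih, D_term D a ha, hD, add_left_comm, hz, add_zero]

theorem mk_eps (a : A) (x : A) (N : ℕ) :
    Ideal.Quotient.mk (Ideal.span ({a} : Set A)) (eps D a (N + 1) x) =
      Ideal.Quotient.mk (Ideal.span ({a} : Set A)) x := by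
  unfold eps
  rw [Finset.sum_range_succ', map_add, map_sum, Finset.sum_eq_zero, zero_add]
  · simp
  · intro n _
    rw [Algebra.smul_def, pow_succ a n]
    simp only [map_mul, mk_a, mul_zero]

end LND

/-- Let A be a commutative algebra over the rationals, D a locally nilpotent derivation of A and a an
element with D a = 1; write A' for the quotient of A by the ideal generated by a. Then there is a
ring isomorphism from A onto the polynomial ring A'[Y] which sends every x to the (finite) sum over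
n of (1/n!) (class of D^n x) Y^n; its inverse sends Y to a and the constant polynomial on the class
of x to the sum over n of ((-1)^n/n!) (D^n x) a^n, and under it D corresponds to the derivative
d/dY. (The source says only that A is a ring, in a setting over a field of characteristic zero; the
rational coefficients 1/n! require an algebra over the rationals, which is the hypothesis taken
here. Both sums are written over any range beyond which the iterates of D vanish at x.) -/
theorem result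
    (A : Type u) [CommRing A] [Algebra ℚ A] (D : Derivation ℚ A A)
    (hnil : ∀ x : A, ∃ n : ℕ, ((D : A →ₗ[ℚ] A) ^ n) x = 0) (a : A) (ha : D a = 1) :
    ∃ χ : A ≃+* Polynomial (A ⧸ Ideal.span ({a} : Set A)),
      (∀ (x : A) (N : ℕ), ((D : A →ₗ[ℚ] A) ^ N) x = 0 →
        χ x = ∑ n ∈ Finset.range N,
          ((n.factorial : ℚ)⁻¹ • Polynomial.C (Ideal.Quotient.mk (Ideal.span ({a} : Set A)) (((D : A →ₗ[ℚ] A) ^ n) x))) *
            Polynomial.X ^ n) ∧
      χ.symm Polynomial.X = a ∧
      (∀ (x : A) (N : ℕ), ((D : A →ₗ[ℚ] A) ^ N) x = 0 →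
        χ.symm (Polynomial.C (Ideal.Quotient.mk (Ideal.span ({a} : Set A)) x)) =
          ∑ n ∈ Finset.range N, (((-1 : ℚ) ^ n * (n.factorial : ℚ)⁻¹) • ((((D : A →ₗ[ℚ] A) ^ n) x) * a ^ n))) ∧
      ∀ p : Polynomial (A ⧸ Ideal.span ({a} : Set A)), χ (D (χ.symm p)) = Polynomial.derivative p := by
  have hbij : Function.Bijective (psi D a) :=
    ⟨psi_injective D a ha, psi_surjective D a ha hnil⟩
  have hfbij : Function.Bijective (Polynomial.mapRingHom (fmap D a)) :=
    ⟨Polynomial.map_injective (fmap D a) (fmap_injective D a ha hnil),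
      Polynomial.map_surjective (fmap D a) (fmap_surjective D a ha hnil)⟩
  obtain ⟨Ψ, hΨ⟩ : ∃ Ψ : Polynomial (ker0 D) ≃+* A, ∀ q, Ψ q = psi D a q :=
    ⟨RingEquiv.ofBijective _ hbij, fun _ => rfl⟩
  obtain ⟨M, hM⟩ : ∃ M : Polynomial (ker0 D) ≃+* Polynomial (A ⧸ Ideal.span ({a} : Set A)),
      ∀ q, M q = Polynomial.map (fmap D a) q :=
    ⟨RingEquiv.ofBijective _ hfbij, fun _ => rfl⟩
  have P1 : ∀ q, (Ψ.symm.trans M) (psi D a q) = Polynomial.map (fmap D a) q := by
    intro q
    rw [RingEquiv.trans_apply, ← hΨ, RingEquiv.symm_apply_apply, hM]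
  have P2 : ∀ q, (Ψ.symm.trans M).symm (Polynomial.map (fmap D a) q) = psi D a q := by
    intro q
    rw [← P1, RingEquiv.symm_apply_apply]
  refine ⟨Ψ.symm.trans M, ?_, ?_, ?_, ?_⟩
  · intro x N hN
    obtain ⟨p, rfl⟩ := hbij.2 x
    rw [P1]
    ext n
    rw [Polynomial.coeff_map, Polynomial.finsetSum_coeff]
    have hterm : ∀ k ∈ Finset.range N,
        (((k.factorial : ℚ)⁻¹ • Polynomial.C (Ideal.Quotient.mk (Ideal.span ({a} : Set A))
          (((D : A →ₗ[ℚ] A) ^ k) (psi D a p)))) * Polynomial.X ^ k).coeff n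
        = if k = n then fmap D a (p.coeff k) else 0 := by
      intro k _
      rw [mk_pow_psi D a ha, Polynomial.smul_C, Polynomial.C_mul_X_pow_eq_monomial,
        Polynomial.coeff_monomial, nsmul_factorial_cancel]
    rw [Finset.sum_congr rfl hterm, Finset.sum_ite_eq']
    by_cases hn : n < N
    · rw [if_pos (Finset.mem_range.mpr hn)]
    · rw [if_neg (by rwa [Finset.mem_range])]
      have h0 : ((D : A →ₗ[ℚ] A) ^ n) (psi D a p) = 0 := by
        obtain ⟨d, rfl⟩ : ∃ d, n = d + N := ⟨n - N, by omega⟩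
        rw [pow_add, Module.End.mul_apply, hN, map_zero]
      have h1 := mk_pow_psi D a ha n p
      rw [h0, map_zero] at h1
      rw [← nsmul_factorial_cancel n (fmap D a (p.coeff n)), ← h1, smul_zero]
  · have h := P2 Polynomial.X
    rw [Polynomial.map_X, psi_X] at h
    exact h
  · intro x N hN
    rcases N with _ | N
    · rw [pow_zero, Module.End.one_apply] at hN
      rw [hN, Finset.range_zero, Finset.sum_empty, map_zero, map_zero, map_zero]
    · have hker : D (eps D a (N + 1) x) = 0 := by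
        rw [D_eps D a ha, hN, zero_mul, smul_zero]
      obtain ⟨c, hc⟩ : ∃ c : ker0 D, incl D c = eps D a (N + 1) x := ⟨⟨_, hker⟩, rfl⟩
      have h := P2 (Polynomial.C c)
      rw [Polynomial.map_C, psi_C, fmap_apply, hc, mk_eps] at h
      exact h
  · intro p
    obtain ⟨q, rfl⟩ := Polynomial.map_surjective (fmap D a) (fmap_surjective D a ha hnil) p
    rw [P2, D_psi D a ha, P1, Polynomial.derivative_map]

end Groth.Agent.S18974
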