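import Groth.Statements.S18977
import Groth.Agent.H40.TorsorSq

set_option autoImplicit false
universe u
open CategoryTheory MonoidalCategory CartesianMonoidalCategory MonObj AlgebraicGeometry
open GIT

namespace Groth.Agent.S18977

/-- Composition of torsors. Over an algebraically closed field k of characteristic zero, let G be an
affine group scheme of finite type over k, N a closed normal subgroup scheme which is the kernel of
a homomorphism q : G → Q, and H a closed subgroup scheme of G which q maps isomorphically onto Q (so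
G is the inner semidirect product N H). Let G act on a k-scheme X and let φ₁ : X → Y be a torsor
over Y under the restricted action of N (the square formed by the N-action, the second projection
and φ₁ twice is cartesian, and φ₁ acquires sections on the members of some fpqc covering family of
Y); let Q act on Y so that φ₁ is equivariant along q, and let φ₂ : Y → Z be a Q-torsor over Z in the
same sense. Then φ₂ ∘ φ₁ is a G-torsor over Z: the square formed by the G-action, the second
projection and φ₂ ∘ φ₁ twice is cartesian, and φ₂ ∘ φ₁ acquires sections fpqc-locally on Z. (The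
induced action of the factor group on Y is taken as a datum together with the equivariance of φ₁;
the source's second assertion, that the composite of trivial torsors is trivial, amounts to
composing sections and is not restated.) -/
theorem result
    (k : Type u) [Field k] [IsAlgClosed k] [CharZero k]
    (G N Q H X Y Z : Over (Spec (CommRingCat.of k))) [GrpObj G] [GrpObj N] [GrpObj Q] [GrpObj H]
    [IsAffine G.left] [LocallyOfFiniteType G.hom]
    (iN : N ⟶ G) [IsMonHom iN] [IsClosedImmersion iN.left] (hnorm : AlgGrp.IsNormalHom iN)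
    (q : G ⟶ Q) [IsMonHom q] (hker : AlgGrp.IsKernel iN q)
    (iH : H ⟶ G) [IsMonHom iH] [IsClosedImmersion iH.left] [IsIso (iH ≫ q)]
    (a : AlgGrp.Action G X) (φ₁ : X ⟶ Y)
    (h₁ : IsPullback (a.restrict iN).act (snd N X) φ₁ φ₁)
    (h₁loc : NonAbH1.IsLocallyTrivialFor Scheme.fpqcPrecoverage (Over.mk φ₁.left : Over Y.left))
    (aY : AlgGrp.Action Q Y) (hequiv : (q ⊗ₘ φ₁) ≫ aY.act = a.act ≫ φ₁)
    (φ₂ : Y ⟶ Z) (h₂ : IsPullback aY.act (snd Q Y) φ₂ φ₂)
    (h₂loc : NonAbH1.IsLocallyTrivialFor Scheme.fpqcPrecoverage (Over.mk φ₂.left : Over Z.left)) :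
    IsPullback a.act (snd G X) (φ₁ ≫ φ₂) (φ₁ ≫ φ₂) ∧
      NonAbH1.IsLocallyTrivialFor Scheme.fpqcPrecoverage (Over.mk (φ₁ ≫ φ₂).left : Over Z.left) := by
  open Groth.Agent.H40.FpqcFam in
  have heq : ∀ {T : Over (Spec (CommRingCat.of k))} (g : T ⟶ G) (x : T ⟶ X),
      (lift g x ≫ a.act) ≫ φ₁ = lift (g ≫ q) (x ≫ φ₁) ≫ aY.act := by
    intro T g x
    rw [Category.assoc, ← hequiv, ← Category.assoc, lift_map]
  constructor
  · apply isPullback_of_free_trans
    · intro T g x
      rw [← Category.assoc, heq, sq_inv h₂, Category.assoc]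
    · intro T x x' e
      obtain ⟨c, hc⟩ := sq_exists h₂ (x ≫ φ₁) (x' ≫ φ₁) (by simpa using e)
      let gh : T ⟶ G := c ≫ inv (iH ≫ q) ≫ iH
      have hgh : gh ≫ q = c := by simp [gh]
      have e2 : x ≫ φ₁ = (lift gh x' ≫ a.act) ≫ φ₁ := by rw [heq, hgh, hc]
      obtain ⟨n, hn⟩ := sq_exists h₁ x (lift gh x' ≫ a.act) e2
      refine ⟨(n ≫ iN) * gh, ?_⟩
      rw [AlgGrp.Action.lift_mul_act, ← AlgGrp.Action.lift_restrict_act, hn]
    · intro T g g' x e
      have hd : lift (g'⁻¹ * g) x ≫ a.act = x := by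
        rw [AlgGrp.Action.lift_mul_act, e, ← AlgGrp.Action.lift_mul_act, inv_mul_cancel,
          AlgGrp.Action.lift_one_act]
      have hqd : (g'⁻¹ * g) ≫ q = 1 := by
        apply sq_free h₂ _ _ (x ≫ φ₁)
        rw [← heq, hd, AlgGrp.Action.lift_one_act]
      have hq1 : (g'⁻¹ * g) ≫ q = toUnit T ≫ η[Q] := hqd
      have hn₀ := hker.lift_fst (g'⁻¹ * g) (toUnit T) hq1
      have hn1 : hker.lift (g'⁻¹ * g) (toUnit T) hq1 = 1 := by
        apply sq_free h₁ _ _ x
        rw [AlgGrp.Action.lift_restrict_act, hn₀, hd, AlgGrp.Action.lift_restrict_act,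
          MonObj.one_comp, AlgGrp.Action.lift_one_act]
      have h1 : g'⁻¹ * g = 1 := by rw [← hn₀, hn1, MonObj.one_comp]
      exact (inv_mul_eq_one.mp h1).symm
  · obtain ⟨R₁, hR₁, hsec₁⟩ := h₁loc
    obtain ⟨R₂, hR₂, hsec₂⟩ := h₂loc
    refine isLocallyTrivialFor_of_local hR₂ fun S' p hp => ?_
    obtain ⟨s, hs⟩ := hsec₂ p hp
    have hs' : s ≫ φ₂.left = p := hs
    refine ⟨R₁.pullbackArrows s, Precoverage.pullbackArrows_mem s hR₁, ?_⟩
    rintro W w ⟨Z₀, r, hr⟩
    obtain ⟨t, ht⟩ := hsec₁ r hr
    have ht' : t ≫ φ₁.left = r := ht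
    refine ⟨Limits.pullback.fst r s ≫ t, ?_⟩
    change (Limits.pullback.fst r s ≫ t) ≫ (φ₁ ≫ φ₂).left = Limits.pullback.snd r s ≫ p
    rw [Over.comp_left, Category.assoc, ← Category.assoc t, ht', ← Category.assoc,
      Limits.pullback.condition, Category.assoc, hs']

end Groth.Agent.S18977
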