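import Groth.Statements.S18981
import Groth.Agent.H63.RatPt
import Groth.Agent.H63.OrbitLC2
import Groth.Agent.H63.QuotTower

set_option autoImplicit false
universe u
open CategoryTheory MonoidalCategory CartesianMonoidalCategory MonObj AlgebraicGeometry Topology
open NRQuot

namespace Groth.Agent.S18981

/-- Over an algebraically closed field k of characteristic zero, let G be an affine group scheme of
finite type over k acting on a k-scheme X locally of finite type, and let φ : X → Y be a good
quotient (affine and invariant, functions on every open of Y are exactly the invariant functions on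
its preimage, invariant closed subsets have closed images, images commute with intersections of
families of invariant closed subsets). If the orbit of every k-point of X is closed in X, then φ is
a geometric quotient; this row states the one clause that a good quotient lacks: fibres are orbits,
read on k-points — two k-points of X with the same image in Y are translates of each other by a
k-point of G. (Surjectivity and submersiveness of a good quotient are the content of the companion
statement on good quotients; X locally of finite type is what the argument on closed points uses.) -/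
theorem result
    (k : Type u) [Field k] [IsAlgClosed k] [CharZero k]
    (G X Y : Over (Spec (CommRingCat.of k))) [GrpObj G] [IsAffine G.left] [LocallyOfFiniteType G.hom]
    [LocallyOfFiniteType X.hom]
    (a : AlgGrp.Action G X) (φ : X ⟶ Y) (h : NRQuot.IsGoodQuot a φ)
    (hcl : ∀ x : 𝟙_ (Over (Spec (CommRingCat.of k))) ⟶ X, IsClosed (Set.range (a.orbitMap x).left.base))
    (x₁ x₂ : 𝟙_ (Over (Spec (CommRingCat.of k))) ⟶ X) (hφ : x₁ ≫ φ = x₂ ≫ φ) :
    ∃ g : 𝟙_ (Over (Spec (CommRingCat.of k))) ⟶ G, lift g x₁ ≫ a.act = x₂ := by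
  haveI : Subsingleton ↥(𝟙_ (Over (Spec (CommRingCat.of k)))).left :=
    inferInstanceAs (Subsingleton (PrimeSpectrum k))
  let pt : ↥(𝟙_ (Over (Spec (CommRingCat.of k)))).left := IsLocalRing.closedPoint k
  have hp₂ : IsOpenMap (snd G X).left.base := by
    haveI : UniversallyOpen G.hom := inferInstance
    haveI : UniversallyOpen (snd G X).left := by rw [Over.snd_left]; infer_instance
    exact (snd G X).left.isOpenMap
  have hmem : ∀ x : 𝟙_ (Over (Spec (CommRingCat.of k))) ⟶ X,
      x.left.base pt ∈ Set.range (a.orbitMap x).left.base := by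
    intro x
    refine ⟨η[G].left.base pt, ?_⟩
    have e : η[G] ≫ a.orbitMap x = x := by
      have h1 := Groth.Agent.H63.QuotTower.one_comp_orbitMap a x
        (T := 𝟙_ (Over (Spec (CommRingCat.of k))))
      rw [toUnit_unit, Category.id_comp] at h1
      have h0 : (1 : 𝟙_ (Over (Spec (CommRingCat.of k))) ⟶ G) = η[G] := by
        rw [Hom.one_def, toUnit_unit, Category.id_comp]
      rw [← h0]
      exact h1
    have h2 := congrArg (fun t => t.left.base pt) e
    simp only [Over.comp_left, Scheme.Hom.comp_base, TopCat.comp_app] at h2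
    exact h2
  have hZ : ∀ x : 𝟙_ (Over (Spec (CommRingCat.of k))) ⟶ X,
      NRQuot.IsInvariantSet a (Set.range (a.orbitMap x).left.base) := fun x =>
    Groth.Agent.H63.OrbitLC.isStable_range_orbitMap a x
  let xs : ULift.{u} Bool → (𝟙_ (Over (Spec (CommRingCat.of k))) ⟶ X) :=
    fun i => cond i.down x₁ x₂
  have hxs : ∀ i, xs i ≫ φ = x₁ ≫ φ := by
    rintro ⟨_ | _⟩
    · exact hφ.symm
    · rfl
  have hinter := h.inter (ULift.{u} Bool)
    (fun i => Set.range (a.orbitMap (xs i)).left.base)
    (fun i => hcl (xs i)) (fun i => hZ (xs i))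
  have hy : (x₁ ≫ φ).left.base pt ∈
      ⋂ i, φ.left.base '' Set.range (a.orbitMap (xs i)).left.base := by
    rw [Set.mem_iInter]
    intro i
    refine ⟨(xs i).left.base pt, hmem (xs i), ?_⟩
    rw [← hxs i]
    simp only [Over.comp_left, Scheme.Hom.comp_base, TopCat.comp_app]
  rw [← hinter] at hy
  obtain ⟨z, hz, -⟩ := hy
  rw [Set.mem_iInter] at hz
  have hz1 : z ∈ Set.range (a.orbitMap x₁).left.base := hz ⟨true⟩
  have hz2 : z ∈ Set.range (a.orbitMap x₂).left.base := hz ⟨false⟩
  -- `x₂` lies in the orbit of `x₁`
  obtain ⟨w, hw1, hw2⟩ := Groth.Agent.H63.OrbitLC.exists_act_eq a x₂ (x₂.left.base pt) z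
    (hmem x₂) hz2
  have hx2 : x₂.left.base pt ∈ Set.range (a.orbitMap x₁).left.base := by
    rw [← hw2]
    exact hZ x₁ w (by rw [hw1]; exact hz1)
  -- a closed point in the fibre
  haveI : JacobsonSpace G.left := LocallyOfFiniteType.jacobsonSpace G.hom
  have hC : IsClosed ((a.orbitMap x₁).left.base ⁻¹' {x₂.left.base pt}) :=
    (Groth.Agent.H63.RatPt.isClosed_singleton' x₂ pt).preimage
      (a.orbitMap x₁).left.base.hom.continuous
  have hne : ((a.orbitMap x₁).left.base ⁻¹' {x₂.left.base pt}).Nonempty := by
    obtain ⟨g, hg⟩ := hx2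
    exact ⟨g, hg⟩
  obtain ⟨g₀, hg₀, hg₀c⟩ := nonempty_inter_closedPoints hne hC.isLocallyClosed
  obtain ⟨g, hg⟩ := Groth.Agent.H63.ActionTranslate.exists_section_of_isClosed G g₀ hg₀c
  refine ⟨g, ?_⟩
  rw [← Groth.Agent.H63.ActionTranslate.point_comp_orbitMap]
  apply Groth.Agent.H63.RatPt.over_ext _ _ pt
  simp only [Over.comp_left, Scheme.Hom.comp_base, TopCat.comp_app]
  have hg' : g.left.base pt = g₀ := hg
  rw [hg']
  exact hg₀

end Groth.Agent.S18981
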