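import Groth.Statements.S18983
import Mathlib

set_option autoImplicit false
universe u v w
open CAlg

namespace Groth.Agent.S18983


section graded

variable {k : Type u} [Field k] {Λ : Type v} [AddCommGroup Λ] [DecidableEq Λ]
  {V : Type w} [AddCommGroup V] [Module k V]
  (𝒱 : Λ → Submodule k V) [DirectSum.Decomposition 𝒱]
  (A : Module.End k V) (χ : Λ)
  (hhom : ∀ (μ : Λ) (v : V), v ∈ 𝒱 μ → A v ∈ 𝒱 (μ + χ))

include hhom in
theorem shift (v : V) (μ : Λ) :
    ((DirectSum.decompose 𝒱 (A v)) (μ + χ) : V) = A ((DirectSum.decompose 𝒱 v) μ : V) := by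
  classical
  have hv := DirectSum.sum_support_decompose 𝒱 v
  conv_lhs => rw [← hv]
  rw [map_sum, DirectSum.decompose_sum, DFinsupp.finsetSum_apply, AddSubmonoidClass.coe_finsetSum]
  rw [Finset.sum_eq_single μ]
  · exact DirectSum.decompose_of_mem_same 𝒱 (hhom μ _ (SetLike.coe_mem _))
  · intro i _ hi
    exact DirectSum.decompose_of_mem_ne 𝒱 (hhom i _ (SetLike.coe_mem _))
      (by intro h; exact hi (add_right_cancel h))
  · intro hμ
    rw [DFinsupp.notMem_support_iff.mp hμ]
    simp

include hhom in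
theorem shift' (v : V) (ν : Λ) :
    ((DirectSum.decompose 𝒱 (A v)) ν : V) = A ((DirectSum.decompose 𝒱 v) (ν - χ) : V) := by
  have := shift 𝒱 A χ hhom v (ν - χ)
  rwa [sub_add_cancel] at this

end graded

section main

variable {k : Type u} [Field k] {Λ : Type v} [AddCommGroup Λ] [DecidableEq Λ]
  {V : Type w} [AddCommGroup V] [Module k V] [FiniteDimensional k V]
  (𝒱 : Λ → Submodule k V) [DirectSum.Decomposition 𝒱]
  (A : Module.End k V) (hA : IsNilpotent A) (χ : Λ)
  (hhom : ∀ (μ : Λ) (v : V), v ∈ 𝒱 μ → A v ∈ 𝒱 (μ + χ))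

/-- index type -/
abbrev Idx (B : Set V) (n : V → ℕ) := {p : V × ℕ // p.1 ∈ B ∧ p.2 ≤ n p.1}

include hA hhom in
theorem jordan_aux : ∀ (d : ℕ) (U : Submodule k V), Module.finrank k U = d →
    (∀ u ∈ U, ∀ μ, ((DirectSum.decompose 𝒱 u) μ : V) ∈ U) → (∀ u ∈ U, A u ∈ U) →
    ∃ (B : Set V) (n : V → ℕ) (c : V → ℕ → V),
      (∀ x ∈ B, c x 0 = x) ∧ (∀ x ∈ B, A x = 0) ∧
      (∀ x ∈ B, ∀ j < n x, A (c x (j + 1)) = c x j) ∧
      (∀ x ∈ B, ∀ j ≤ n x, ∃ μ, c x j ∈ 𝒱 μ) ∧
      (∀ x ∈ B, ∀ j ≤ n x, c x j ∈ U) ∧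
      LinearIndependent k (fun p : Idx B n => c p.1.1 p.1.2) ∧
      Submodule.span k (Set.range (fun p : Idx B n => c p.1.1 p.1.2)) = U := by
  classical
  intro d
  induction d using Nat.strong_induction_on with
  | _ d ih =>
  intro U hd hgr hst
  by_cases hU : U = ⊥
  · refine ⟨∅, fun _ => 0, fun x _ => x, by simp, by simp, by simp, by simp, by simp, ?_, ?_⟩
    · have : IsEmpty (Idx (∅ : Set V) (fun _ => 0)) := ⟨fun p => p.2.1⟩
      exact linearIndependent_empty_type
    · rw [hU]
      have : Set.range (fun p : Idx (∅ : Set V) (fun _ => 0) =>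
          (fun x _ => x : V → ℕ → V) p.1.1 p.1.2) = ∅ := by
        rw [Set.range_eq_empty_iff]; exact ⟨fun p => p.2.1⟩
      rw [this, Submodule.span_empty]
  · obtain ⟨W, hWdef⟩ : ∃ W : Submodule k V, W = U.map A := ⟨_, rfl⟩
    have hWU : W ≤ U := by
      rw [hWdef]; rintro _ ⟨u, hu, rfl⟩; exact hst u hu
    have hWne : W ≠ U := by
      intro hWeq
      apply hU
      obtain ⟨N, hN⟩ := hA
      have hpow : ∀ m : ℕ, U ≤ U.map (A ^ m) := by
        intro m
        induction m with
        | zero => intro u hu; exact ⟨u, hu, by simp⟩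
        | succ m ihm =>
          intro u hu
          have : u ∈ U.map A := by rw [← hWdef, hWeq]; exact hu
          obtain ⟨u', hu', rfl⟩ := this
          obtain ⟨u'', hu'', rfl⟩ := ihm hu'
          exact ⟨u'', hu'', by rw [pow_succ', Module.End.mul_apply]⟩
      rw [eq_bot_iff]
      intro u hu
      obtain ⟨u', _, rfl⟩ := hpow N hu
      rw [hN]; simp
    have hWlt : W < U := lt_of_le_of_ne hWU hWne
    have hWfr : Module.finrank k W < d := hd ▸ Submodule.finrank_lt_finrank_of_lt hWlt
    have hWgr : ∀ w ∈ W, ∀ μ, ((DirectSum.decompose 𝒱 w) μ : V) ∈ W := by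
      intro w hw μ
      rw [hWdef] at hw ⊢
      obtain ⟨u, hu, rfl⟩ := hw
      rw [shift' 𝒱 A χ hhom]
      exact ⟨_, hgr u hu _, rfl⟩
    have hWst : ∀ w ∈ W, A w ∈ W := by
      intro w hw
      rw [hWdef]
      exact ⟨w, hWU hw, rfl⟩
    obtain ⟨B, n, c, hc1, hc4, hc2, hc3, hc5, hli, hsp⟩ := ih _ hWfr W rfl hWgr hWst
    have hG1 : ∀ x : V, ∃ τ : V, x ∈ B → (τ ∈ U ∧ (∃ μ, τ ∈ 𝒱 μ) ∧ A τ = c x (n x)) := by
      intro x
      by_cases hx : x ∈ B
      · obtain ⟨ν, hν⟩ := hc3 x hx (n x) le_rfl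
        have hw := hc5 x hx (n x) le_rfl
        rw [hWdef] at hw
        obtain ⟨u, hu, hAu⟩ := hw
        refine ⟨((DirectSum.decompose 𝒱 u) (ν - χ) : V),
          fun _ => ⟨hgr u hu _, ⟨ν - χ, SetLike.coe_mem _⟩, ?_⟩⟩
        rw [← shift' 𝒱 A χ hhom, hAu]
        exact DirectSum.decompose_of_mem_same 𝒱 hν
      · exact ⟨0, fun h => absurd h hx⟩
    choose τ hτ using hG1
    obtain ⟨K, hKdef⟩ : ∃ K : Submodule k V, K = U ⊓ LinearMap.ker A := ⟨_, rfl⟩
    obtain ⟨T, hTdef⟩ : ∃ T : Set V, T = {v | v ∈ K ∧ ∃ μ, v ∈ 𝒱 μ} := ⟨_, rfl⟩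
    have hBT : B ⊆ T := by
      intro x hx
      rw [hTdef]
      refine ⟨?_, ?_⟩
      · rw [hKdef]
        refine ⟨hWU ?_, hc4 x hx⟩
        have := hc5 x hx 0 (Nat.zero_le _)
        rwa [hc1 x hx] at this
      · have := hc3 x hx 0 (Nat.zero_le _)
        rwa [hc1 x hx] at this
    have hBli : LinearIndepOn k id B := by
      have h1 := hli.comp (fun x : B => (⟨(x.1, 0), x.2, Nat.zero_le _⟩ : Idx B n))
        (by
          intro x y h
          apply Subtype.ext
          exact congrArg (fun p : Idx B n => p.1.1) h)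
      have h2 : ((fun p : Idx B n => c p.1.1 p.1.2) ∘
          fun x : B => (⟨(x.1, 0), x.2, Nat.zero_le _⟩ : Idx B n)) = fun x : B => id x.1 := by
        funext x
        exact hc1 x.1 x.2
      rw [h2] at h1
      exact h1
    obtain ⟨b, hbT, hBb, hTb, hbli⟩ := exists_linearIndepOn_id_extension hBli hBT
    have hKb : K ≤ Submodule.span k b := by
      intro u hu
      rw [← DirectSum.sum_support_decompose 𝒱 u]
      refine Submodule.sum_mem _ (fun μ _ => ?_)
      apply hTb
      rw [hTdef]
      refine ⟨?_, μ, SetLike.coe_mem _⟩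
      rw [hKdef] at hu ⊢
      obtain ⟨hu1, hu2⟩ := Submodule.mem_inf.mp hu
      have hz : A ((DirectSum.decompose 𝒱 u) μ : V) = 0 := by
        rw [← shift 𝒱 A χ hhom, LinearMap.mem_ker.mp hu2]
        simp
      exact Submodule.mem_inf.mpr ⟨hgr u hu1 μ, LinearMap.mem_ker.mpr hz⟩
    have hbK : ∀ x ∈ b, x ∈ K := by
      intro x hx
      have := hbT hx
      rw [hTdef] at this
      exact this.1
    obtain ⟨n', hn'⟩ : ∃ n' : V → ℕ, ∀ x, n' x = if x ∈ B then n x + 1 else 0 :=
      ⟨_, fun _ => rfl⟩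
    obtain ⟨c', hc'⟩ : ∃ c' : V → ℕ → V,
        ∀ x j, c' x j = if x ∈ B then (if j ≤ n x then c x j else τ x) else x :=
      ⟨_, fun _ _ => rfl⟩
    have hn'B : ∀ x, x ∈ B → n' x = n x + 1 := fun x hx => by rw [hn', if_pos hx]
    have hn'nB : ∀ x, x ∉ B → n' x = 0 := fun x hx => by rw [hn', if_neg hx]
    have hc'le : ∀ x, x ∈ B → ∀ j, j ≤ n x → c' x j = c x j := by
      intro x hx j hj; rw [hc', if_pos hx, if_pos hj]
    have hc'top : ∀ x, x ∈ B → c' x (n x + 1) = τ x := by
      intro x hx; rw [hc', if_pos hx, if_neg (by omega)]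
    have hc'nB : ∀ x, x ∉ B → ∀ j, c' x j = x := by
      intro x hx j; rw [hc', if_neg hx]
    have h1' : ∀ x ∈ b, c' x 0 = x := by
      intro x hx
      by_cases hxB : x ∈ B
      · rw [hc'le x hxB 0 (Nat.zero_le _), hc1 x hxB]
      · exact hc'nB x hxB 0
    have h4' : ∀ x ∈ b, A x = 0 := by
      intro x hx
      have := hbK x hx
      rw [hKdef] at this
      exact LinearMap.mem_ker.mp this.2
    have h2' : ∀ x ∈ b, ∀ j < n' x, A (c' x (j + 1)) = c' x j := by
      intro x hx j hj
      by_cases hxB : x ∈ B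
      · rw [hn'B x hxB] at hj
        by_cases hj2 : j + 1 ≤ n x
        · rw [hc'le x hxB _ hj2, hc'le x hxB j (by omega)]
          exact hc2 x hxB j (by omega)
        · have : j = n x := by omega
          subst this
          rw [hc'top x hxB, hc'le x hxB _ le_rfl]
          exact (hτ x hxB).2.2
      · rw [hn'nB x hxB] at hj
        omega
    have h3' : ∀ x ∈ b, ∀ j ≤ n' x, ∃ μ, c' x j ∈ 𝒱 μ := by
      intro x hx j hj
      by_cases hxB : x ∈ B
      · by_cases hj2 : j ≤ n x
        · rw [hc'le x hxB j hj2]; exact hc3 x hxB j hj2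
        · rw [hn'B x hxB] at hj
          have : j = n x + 1 := by omega
          subst this
          rw [hc'top x hxB]; exact (hτ x hxB).2.1
      · rw [hc'nB x hxB]
        have := hbT hx
        rw [hTdef] at this
        exact this.2
    have h5' : ∀ x ∈ b, ∀ j ≤ n' x, c' x j ∈ U := by
      intro x hx j hj
      by_cases hxB : x ∈ B
      · by_cases hj2 : j ≤ n x
        · rw [hc'le x hxB j hj2]; exact hWU (hc5 x hxB j hj2)
        · rw [hn'B x hxB] at hj
          have : j = n x + 1 := by omega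
          subst this
          rw [hc'top x hxB]; exact (hτ x hxB).1
      · rw [hc'nB x hxB]
        have := hbK x hx
        rw [hKdef] at this
        exact this.1
    obtain ⟨X, hX⟩ : ∃ X : Idx B n → V, ∀ p, X p = c' p.1.1 (p.1.2 + 1) := ⟨_, fun _ => rfl⟩
    have hAX : ∀ p : Idx B n, A (X p) = c p.1.1 p.1.2 := by
      intro p
      rw [hX]
      have hpB := p.2.1
      have := h2' p.1.1 (hBb hpB) p.1.2 (by rw [hn'B _ hpB]; have := p.2.2; omega)
      rw [this, hc'le _ hpB _ p.2.2]
    have hXli : LinearIndependent k X := by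
      apply LinearIndependent.of_comp A
      have : (A ∘ X) = fun p : Idx B n => c p.1.1 p.1.2 := by funext p; exact hAX p
      rw [this]; exact hli
    have hYli : LinearIndependent k (fun x : b => (x : V)) := hbli
    have hdisj : Disjoint (Submodule.span k (Set.range X))
        (Submodule.span k (Set.range (fun x : b => (x : V)))) := by
      rw [Submodule.disjoint_def]
      intro v hvX hvY
      have hAv : A v = 0 := by
        have : Submodule.span k (Set.range (fun x : b => (x : V))) ≤ LinearMap.ker A := by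
          rw [Submodule.span_le]
          rintro _ ⟨x, rfl⟩
          exact LinearMap.mem_ker.mpr (h4' x.1 x.2)
        exact LinearMap.mem_ker.mp (this hvY)
      obtain ⟨a, rfl⟩ := (Finsupp.mem_span_range_iff_exists_finsupp).mp hvX
      rw [Finsupp.sum, map_sum] at hAv
      have h0 : Finsupp.linearCombination k (fun p : Idx B n => c p.1.1 p.1.2) a = 0 := by
        rw [Finsupp.linearCombination_apply, Finsupp.sum, ← hAv]
        apply Finset.sum_congr rfl
        intro p _
        rw [map_smul, hAX]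
      have := linearIndependent_iff.mp hli a h0
      rw [this]; simp
    have hXY := LinearIndependent.sum_type hXli hYli hdisj
    have hΦ : ∀ p : Idx b n', p.1.2 ≠ 0 → (p.1.1 ∈ B ∧ p.1.2 - 1 ≤ n p.1.1) := by
      intro p hp
      have hpB : p.1.1 ∈ B := by
        by_contra h
        have := p.2.2
        rw [hn'nB _ h] at this
        omega
      refine ⟨hpB, ?_⟩
      have := p.2.2
      rw [hn'B _ hpB] at this
      omega
    obtain ⟨Φ, hΦdef⟩ : ∃ Φ : Idx b n' → Idx B n ⊕ b, ∀ p, Φ p =
        if h : p.1.2 = 0 then Sum.inr ⟨p.1.1, p.2.1⟩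
        else Sum.inl ⟨(p.1.1, p.1.2 - 1), hΦ p h⟩ := ⟨_, fun _ => rfl⟩
    have hΦinj : Function.Injective Φ := by
      intro p q hpq
      rw [hΦdef, hΦdef] at hpq
      by_cases hp : p.1.2 = 0 <;> by_cases hq : q.1.2 = 0
      · rw [dif_pos hp, dif_pos hq] at hpq
        have h1 : p.1.1 = q.1.1 := congrArg Subtype.val (Sum.inr.inj hpq)
        apply Subtype.ext
        exact Prod.ext h1 (by rw [hp, hq])
      · rw [dif_pos hp, dif_neg hq] at hpq; exact absurd hpq (by simp)
      · rw [dif_neg hp, dif_pos hq] at hpq; exact absurd hpq (by simp)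
      · rw [dif_neg hp, dif_neg hq] at hpq
        have h1 : ((p.1.1, p.1.2 - 1) : V × ℕ) = (q.1.1, q.1.2 - 1) :=
          congrArg Subtype.val (Sum.inl.inj hpq)
        obtain ⟨h2, h3⟩ := Prod.mk.inj h1
        apply Subtype.ext
        exact Prod.ext h2 (by omega)
    have hcomp : (fun p : Idx b n' => c' p.1.1 p.1.2) =
        Sum.elim X (fun x : b => (x : V)) ∘ Φ := by
      funext p
      rw [Function.comp_apply, hΦdef]
      by_cases hp : p.1.2 = 0
      · rw [dif_pos hp, Sum.elim_inr]
        have : c' p.1.1 p.1.2 = c' p.1.1 0 := by rw [hp]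
        rw [this]
        exact h1' _ p.2.1
      · rw [dif_neg hp, Sum.elim_inl, hX]
        simp only
        congr 1
        omega
    have hli' : LinearIndependent k (fun p : Idx b n' => c' p.1.1 p.1.2) := by
      rw [hcomp]
      exact hXY.comp Φ hΦinj
    have hsp' : Submodule.span k (Set.range (fun p : Idx b n' => c' p.1.1 p.1.2)) = U := by
      apply le_antisymm
      · rw [Submodule.span_le]
        rintro _ ⟨p, rfl⟩
        exact h5' _ p.2.1 _ p.2.2
      · intro u hu
        have hAu : A u ∈ W := by rw [hWdef]; exact ⟨u, hu, rfl⟩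
        rw [← hsp] at hAu
        obtain ⟨a, ha⟩ := (Finsupp.mem_span_range_iff_exists_finsupp).mp hAu
        obtain ⟨y, hy⟩ : ∃ y : V, y = a.sum (fun p r => r • X p) := ⟨_, rfl⟩
        have hAy : A y = A u := by
          rw [hy, ← ha, Finsupp.sum, Finsupp.sum, map_sum]
          apply Finset.sum_congr rfl
          intro p _
          rw [map_smul, hAX]
        have hXmem : ∀ p : Idx B n, X p ∈
            Submodule.span k (Set.range (fun p : Idx b n' => c' p.1.1 p.1.2)) := by
          intro p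
          apply Submodule.subset_span
          refine ⟨⟨(p.1.1, p.1.2 + 1), hBb p.2.1, ?_⟩, ?_⟩
          · rw [hn'B _ p.2.1]; have := p.2.2; omega
          · rw [hX]
        have hymem : y ∈
            Submodule.span k (Set.range (fun p : Idx b n' => c' p.1.1 p.1.2)) := by
          rw [hy]
          exact Submodule.sum_mem _ (fun p _ => Submodule.smul_mem _ _ (hXmem p))
        have hyU : y ∈ U := by
          rw [hy]
          refine Submodule.sum_mem _ (fun p _ => Submodule.smul_mem _ _ ?_)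
          rw [hX]
          exact h5' _ (hBb p.2.1) _ (by rw [hn'B _ p.2.1]; have := p.2.2; omega)
        have hdiff : u - y ∈ K := by
          rw [hKdef]
          have hz : A (u - y) = 0 := by rw [map_sub, hAy, sub_self]
          exact Submodule.mem_inf.mpr ⟨U.sub_mem hu hyU, LinearMap.mem_ker.mpr hz⟩
        have hbsp : Submodule.span k b ≤
            Submodule.span k (Set.range (fun p : Idx b n' => c' p.1.1 p.1.2)) := by
          apply Submodule.span_mono
          intro x hx
          exact ⟨⟨(x, 0), hx, Nat.zero_le _⟩, h1' x hx⟩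
        have : u = (u - y) + y := by abel
        rw [this]
        exact Submodule.add_mem _ (hbsp (hKb hdiff)) hymem
    exact ⟨b, n', c', h1', h4', h2', h3', h5', hli', hsp'⟩

end main

/-- Let k be a field, Λ an additive commutative group, V a finite-dimensional k-vector space which is
the internal direct sum of subspaces V_μ indexed by Λ (a representation of a torus with character
group Λ), and A a nilpotent endomorphism of V mapping each V_μ into V_{μ+χ} for a fixed χ (the
infinitesimal generator of an action of the additive group on which the torus acts through the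
character χ). Then V has a basis consisting of homogeneous vectors e_{i,l}, 0 ≤ l ≤ n_i, with A
e_{i,0} = 0 and A e_{i,l+1} = e_{i,l}: a weight basis bringing A into Jordan normal form. (The
source states this, over an algebraically closed field of characteristic zero, as a decomposition of
every representation of the semidirect product of the additive group with a torus into twists of
symmetric powers of the standard two-dimensional representation by characters; the first line of its
proof reduces that to the present statement, which is what is proved, and which holds over any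
field.) -/
theorem result
    (k : Type u) [Field k] (Λ : Type v) [AddCommGroup Λ] [DecidableEq Λ]
    (V : Type w) [AddCommGroup V] [Module k V] [FiniteDimensional k V]
    (𝒱 : Λ → Submodule k V) (h𝒱 : DirectSum.IsInternal 𝒱)
    (A : Module.End k V) (hA : IsNilpotent A) (χ : Λ)
    (hhom : ∀ (μ : Λ) (v : V), v ∈ 𝒱 μ → A v ∈ 𝒱 (μ + χ)) :
    ∃ (ι : Type w) (_ : Finite ι) (n : ι → ℕ) (b : Module.Basis (Σ i : ι, Fin (n i + 1)) k V),
      (∀ (i : ι) (l : Fin (n i + 1)), ∃ μ : Λ, b ⟨i, l⟩ ∈ 𝒱 μ) ∧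
      (∀ i : ι, A (b ⟨i, 0⟩) = 0) ∧
      ∀ (i : ι) (l : Fin (n i)), A (b ⟨i, l.succ⟩) = b ⟨i, l.castSucc⟩ := by
  classical
  letI := h𝒱.chooseDecomposition
  obtain ⟨B, n, c, hc1, hc4, hc2, hc3, hc5, hli, hsp⟩ :=
    jordan_aux 𝒱 A hA χ hhom _ ⊤ rfl (fun _ _ _ => Submodule.mem_top) (fun _ _ => Submodule.mem_top)
  have hfinI : Finite (Idx B n) := hli.finite_of_isNoetherian
  have hfinB : Finite B :=
    Finite.of_injective (fun x : B => (⟨(x.1, 0), x.2, Nat.zero_le _⟩ : Idx B n))
      (by
        intro x y h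
        apply Subtype.ext
        exact congrArg (fun p : Idx B n => p.1.1) h)
  obtain ⟨Ψ, hΨ⟩ : ∃ Ψ : (Σ i : B, Fin (n i + 1)) → Idx B n,
      ∀ q, Ψ q = ⟨(q.1.1, q.2.1), q.1.2, Nat.lt_succ_iff.mp q.2.2⟩ := ⟨_, fun _ => rfl⟩
  have hΨinj : Function.Injective Ψ := by
    rintro ⟨i, l⟩ ⟨i', l'⟩ h
    rw [hΨ, hΨ] at h
    have h1 := congrArg Subtype.val h
    simp only [Prod.mk.injEq] at h1
    obtain ⟨h2, h3⟩ := h1
    have : i = i' := Subtype.ext h2
    subst this
    congr 1
    exact Fin.ext h3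
  have hΨsurj : Function.Surjective Ψ := by
    intro p
    refine ⟨⟨⟨p.1.1, p.2.1⟩, ⟨p.1.2, Nat.lt_succ_iff.mpr p.2.2⟩⟩, ?_⟩
    rw [hΨ]
  have hli2 : LinearIndependent k (fun q : Σ i : B, Fin (n i + 1) => c q.1.1 q.2.1) := by
    have h1 := hli.comp Ψ hΨinj
    have h2 : ((fun p : Idx B n => c p.1.1 p.1.2) ∘ Ψ) =
        fun q : Σ i : B, Fin (n i + 1) => c q.1.1 q.2.1 := by
      funext q
      rw [Function.comp_apply, hΨ]
    rw [h2] at h1
    exact h1
  have hsp2 : ⊤ ≤ Submodule.span k
      (Set.range (fun q : Σ i : B, Fin (n i + 1) => c q.1.1 q.2.1)) := by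
    rw [← hsp]
    apply Submodule.span_mono
    rintro _ ⟨p, rfl⟩
    obtain ⟨q, rfl⟩ := hΨsurj p
    exact ⟨q, by rw [hΨ]⟩
  refine ⟨B, hfinB, fun i => n i.1, Module.Basis.mk hli2 hsp2, ?_, ?_, ?_⟩
  · intro i l
    rw [Module.Basis.mk_apply]
    exact hc3 i.1 i.2 l.1 (Nat.lt_succ_iff.mp l.2)
  · intro i
    rw [Module.Basis.mk_apply]
    simp only [Fin.val_zero]
    rw [hc1 i.1 i.2]; exact hc4 i.1 i.2
  · intro i l
    rw [Module.Basis.mk_apply, Module.Basis.mk_apply]
    simp only [Fin.val_succ, Fin.val_castSucc]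
    exact hc2 i.1 i.2 l.1 l.2

end Groth.Agent.S18983
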