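import Groth.Statements.S1899
import Groth.Agent.H28.ClosedStalk
import Groth.Agent.H95.RefGen

set_option autoImplicit false
universe u
open CategoryTheory AlgebraicGeometry
open Cyc

namespace Groth.Agent.S1899

open Groth.Agent.H28.ClosedStalk Groth.Agent.H95.RefGen
open Groth.Agent.H18.TensorGen (isGen_one)
open TopologicalSpace Opposite

theorem length_push_eq {X Z : Scheme.{u}} (i : Z ⟶ X) [IsClosedImmersion i] (z : Z) :
    Module.length (X.presheaf.stalk (i.base z))
      (((Scheme.Modules.pushforward i).obj (Coh.structureModule Z)).presheaf.stalk (i.base z)) =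
    Module.length (Z.presheaf.stalk z) (Z.presheaf.stalk z) := by
  have hsurj : Function.Surjective (i.stalkMap z).hom := i.stalkMap_surjective z
  haveI : RingHomSurjective (i.stalkMap z).hom := ⟨hsurj⟩
  let f : ((Scheme.Modules.pushforward i).obj (Coh.structureModule Z)).presheaf.stalk (i.base z)
      →ₛₗ[(i.stalkMap z).hom] (Coh.structureModule Z).presheaf.stalk z :=
    { toFun := fun m => spAb i (Coh.structureModule Z) z m
      map_add' := fun a b => map_add (spAb i (Coh.structureModule Z) z).hom a b
      map_smul' := fun r m => spAb_smul i (Coh.structureModule Z) z r m }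
  have hbij : Function.Bijective f :=
    spLinMap_bijective i i.isClosedEmbedding.isInducing (Coh.structureModule Z) z
  have h1 : Module.length (X.presheaf.stalk (i.base z))
      (((Scheme.Modules.pushforward i).obj (Coh.structureModule Z)).presheaf.stalk (i.base z)) =
      Module.length (Z.presheaf.stalk z) ((Coh.structureModule Z).presheaf.stalk z) := by
    rw [Module.length, Module.length, WithBot.unbot_inj,
      Order.krullDim_eq_of_orderIso (Submodule.orderIsoMapComapOfBijective f hbij)]
  rw [h1]
  exact (LinearEquiv.length_eq
    (genEquiv (freeAt_of_isGen (isGen_one (X := Z) ⊤) z trivial))).symm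

theorem subsingleton_stalk_push {X Z : Scheme.{u}} (i : Z ⟶ X) [IsClosedImmersion i] (x : X)
    (hx : ¬ ∃ z : Z, i.base z = x) :
    Subsingleton (((Scheme.Modules.pushforward i).obj (Coh.structureModule Z)).presheaf.stalk x) := by
  have hcl : IsClosed (Set.range i.base) := i.isClosedEmbedding.isClosed_range
  obtain ⟨V, hV⟩ : ∃ V : X.Opens, (V : Set X) = (Set.range i.base)ᶜ :=
    ⟨⟨(Set.range i.base)ᶜ, hcl.isOpen_compl⟩, rfl⟩
  have hxV : x ∈ V := by
    show x ∈ (V : Set X)
    rw [hV]
    rintro ⟨z, hz⟩
    exact hx ⟨z, hz⟩
  suffices h : ∀ t : ((Scheme.Modules.pushforward i).obj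
      (Coh.structureModule Z)).presheaf.stalk x, t = 0 from
    ⟨fun a b => (h a).trans (h b).symm⟩
  intro t
  obtain ⟨U, hxU, m, rfl⟩ := ((Scheme.Modules.pushforward i).obj
    (Coh.structureModule Z)).presheaf.exists_germ_eq t
  have hxW : x ∈ U ⊓ V := ⟨hxU, hxV⟩
  rw [← TopCat.Presheaf.germ_res_apply ((Scheme.Modules.pushforward i).obj
    (Coh.structureModule Z)).presheaf (homOfLE (inf_le_left : U ⊓ V ≤ U)) x hxW m]
  have hW : i ⁻¹ᵁ (U ⊓ V) = ⊥ := by
    ext z
    constructor
    · rintro ⟨-, hzV⟩
      have h1 : i.base z ∈ (V : Set X) := hzV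
      rw [hV] at h1
      exact absurd ⟨z, rfl⟩ h1
    · intro h
      exact absurd h (Set.notMem_empty z)
  haveI hsub : Subsingleton (((Scheme.Modules.pushforward i).obj
      (Coh.structureModule Z)).presheaf.obj (op (U ⊓ V))) := by
    show Subsingleton Γ(Z, i ⁻¹ᵁ (U ⊓ V))
    rw [hW]
    infer_instance
  rw [Subsingleton.elim (((Scheme.Modules.pushforward i).obj
    (Coh.structureModule Z)).presheaf.map (homOfLE (inf_le_left : U ⊓ V ≤ U)).op m) 0, map_zero]

/-- For a closed immersion i : Z → X with Z of δ-dimension ≤ k, [Z]_k = [O_Z]_k, i.e. the multiplicities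
computed from lengths of the local rings O_{Z,z} agree with those computed from the stalks of i_*O_Z
as O_X-modules. A pair (X, δ) with Cyc.IsSetup plays the role of a scheme locally of finite type
over a fixed base with a dimension function (X locally Noetherian with universally catenary local
rings, δ a dimension function), and Cyc.DeltaCompat records that the dimension function upstairs is
the induced one. -/
theorem result (X Z : Scheme.{u}) (δ : X → ℤ) (hX : Cyc.IsSetup X δ) (i : Z ⟶ X) [IsClosedImmersion i] (k : ℤ) (hdim : ∀ z : Z, δ (i z) ≤ k) : Cyc.subschemeFun δ k i = Cyc.sheafFun δ k ((Coh.push i).obj (Coh.structureModule Z)) := by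
  funext x
  unfold Cyc.subschemeFun Cyc.sheafFun
  by_cases hk : δ x = k
  · rw [if_pos hk, if_pos hk]
    by_cases hx : ∃ z : Z, i.base z = x
    · obtain ⟨z, rfl⟩ := hx
      have hset : {z' : Z | i z' = i.base z} = {z} := by
        ext z'
        constructor
        · intro h
          exact i.isClosedEmbedding.injective h
        · intro h
          rw [Set.mem_singleton_iff] at h
          rw [h]
          rfl
      rw [hset, finsum_mem_singleton]
      exact congrArg (fun n : ℕ∞ => (n.toNat : ℤ)) (length_push_eq i z).symm
    · have hempty : {z : Z | i z = x} = ∅ := by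
        ext z
        constructor
        · intro h
          exact absurd ⟨z, h⟩ hx
        · intro h
          exact absurd h (Set.notMem_empty z)
      rw [hempty, finsum_mem_empty]
      haveI := subsingleton_stalk_push i x hx
      rw [Module.length_eq_zero]
      rfl
  · rw [if_neg hk, if_neg hk]

end Groth.Agent.S1899
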