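import Groth.Statements.S18994
import Mathlib.RingTheory.MvPolynomial.Homogeneous
import Mathlib.RingTheory.MvPolynomial.Basic
import Mathlib.LinearAlgebra.LinearIndependent.Basic
import Mathlib.Tactic

set_option autoImplicit false
universe u
open TernForm

namespace Groth.Agent.S18994


open MvPolynomial

section aux
variable {R : Type u} [CommRing R]

theorem deg2_le_one (j : Fin 3) (d : Fin 3 →₀ ℕ) (hd : d.degree = 2)
    (hne : d ≠ Finsupp.single j 2) : d j ≤ 1 := by
  by_contra h
  push Not at h
  apply hne
  have hs : d 0 + d 1 + d 2 = 2 := by
    have h0 := Finsupp.degree_eq_sum d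
    rw [Fin.sum_univ_three] at h0
    omega
  ext i
  rw [Finsupp.single_apply]
  fin_cases j <;> fin_cases i <;> simp at h ⊢ <;> omega

theorem key_zero (j : Fin 3) (q : MvPolynomial (Fin 3) R) (hq : q.IsHomogeneous 2)
    (hqj : IsUnit (q.coeff (Finsupp.single j 2))) (f g : MvPolynomial (Fin 3) R)
    (hf : ∀ m ∈ f.support, m j < 2) (h : f + q * g = 0) : g = 0 := by
  classical
  by_contra hg
  have hne : g.support.Nonempty := by
    rw [Finset.nonempty_iff_ne_empty, ne_eq, MvPolynomial.support_eq_empty]; exact hg
  obtain ⟨m₀, hm₀, hmax⟩ := Finset.exists_max_image g.support (fun m => m j) hne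
  have hcoeff := congrArg (coeff (m₀ + Finsupp.single j 2)) h
  rw [coeff_add, coeff_zero] at hcoeff
  have hf0 : coeff (m₀ + Finsupp.single j 2) f = 0 := by
    by_contra hc
    have := hf _ (mem_support_iff.mpr hc)
    rw [Finsupp.add_apply, Finsupp.single_eq_same] at this
    omega
  rw [hf0, zero_add, coeff_mul] at hcoeff
  rw [Finset.sum_eq_single (Finsupp.single j 2, m₀)] at hcoeff
  · have := (hqj.mul_right_eq_zero).mp hcoeff
    exact (mem_support_iff.mp hm₀) this
  · rintro ⟨d1, d2⟩ hx hxne
    rw [Finset.mem_antidiagonal] at hx
    by_contra hterm
    have h1 : coeff d1 q ≠ 0 := fun h0 => hterm (by simp [h0])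
    have h2 : coeff d2 g ≠ 0 := fun h0 => hterm (by simp [h0])
    have hd1 : d1.degree = 2 := by
      by_contra hd
      exact h1 (hq.coeff_eq_zero hd)
    have hd2 : d2 j ≤ m₀ j := hmax d2 (mem_support_iff.mpr h2)
    have hsum : d1 j + d2 j = m₀ j + 2 := by
      have := DFunLike.congr_fun hx j
      simpa using this
    have hd1eq : d1 = Finsupp.single j 2 := by
      by_contra hne1
      have := deg2_le_one j d1 hd1 hne1
      omega
    apply hxne
    have hx' : d1 + d2 = m₀ + Finsupp.single j 2 := hx
    rw [hd1eq] at hx'
    have h3 : Finsupp.single j 2 + d2 = Finsupp.single j 2 + m₀ := by rw [hx', add_comm]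
    rw [hd1eq, add_left_cancel h3]
  · intro hnot
    exact absurd (Finset.mem_antidiagonal.mpr (add_comm _ _)) hnot

/-- first family -/
noncomputable def famV (R : Type u) [CommRing R] (j : Fin 3) (n : ℕ) :
    {m : Fin 3 →₀ ℕ // m.degree = n ∧ m j < 2} → MvPolynomial (Fin 3) R :=
  fun m => monomial m.1 (1 : R)

/-- second family -/
noncomputable def famW (q : MvPolynomial (Fin 3) R) (n : ℕ) :
    {m : Fin 3 →₀ ℕ // m.degree + 2 = n} → MvPolynomial (Fin 3) R :=
  fun m => q * monomial m.1 (1 : R)

theorem li_fam (j : Fin 3) (q : MvPolynomial (Fin 3) R) (hq : q.IsHomogeneous 2)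
    (hqj : IsUnit (q.coeff (Finsupp.single j 2))) (n : ℕ) :
    LinearIndependent R (Sum.elim (famV R j n) (famW q n)) := by
  classical
  have hmon : LinearIndependent R (fun s : Fin 3 →₀ ℕ => monomial s (1 : R)) := by
    have := (basisMonomials (Fin 3) R).linearIndependent
    rwa [coe_basisMonomials] at this
  have hker : LinearMap.ker (LinearMap.mulLeft R q) = ⊥ := by
    rw [LinearMap.ker_eq_bot']
    intro g hg
    rw [LinearMap.mulLeft_apply] at hg
    exact key_zero j q hq hqj 0 g (by simp) (by rw [zero_add]; exact hg)
  have hv : LinearIndependent R (famV R j n) :=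
    hmon.comp (fun m : {m : Fin 3 →₀ ℕ // m.degree = n ∧ m j < 2} => m.1) Subtype.val_injective
  have hw : LinearIndependent R (famW q n) :=
    (hmon.comp (fun m : {m : Fin 3 →₀ ℕ // m.degree + 2 = n} => m.1)
      Subtype.val_injective).map' (LinearMap.mulLeft R q) hker
  refine LinearIndependent.sum_type hv hw ?_
  rw [Submodule.disjoint_def]
  intro x hx1 hx2
  have h1 : x ∈ restrictSupport R {m : Fin 3 →₀ ℕ | m j < 2} := by
    have hle : Submodule.span R (Set.range (famV R j n)) ≤
        restrictSupport R {m : Fin 3 →₀ ℕ | m j < 2} := by
      refine Submodule.span_le.mpr ?_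
      rintro _ ⟨m, rfl⟩
      exact (monomial_mem_restrictSupport R).mpr (Or.inl m.2.2)
    exact hle hx1
  have h2 : x ∈ LinearMap.range (LinearMap.mulLeft R q) := by
    have hle : Submodule.span R (Set.range (famW q n)) ≤
        LinearMap.range (LinearMap.mulLeft R q) := by
      refine Submodule.span_le.mpr ?_
      rintro _ ⟨m, rfl⟩
      exact ⟨monomial m.1 1, rfl⟩
    exact hle hx2
  obtain ⟨g, rfl⟩ := h2
  rw [LinearMap.mulLeft_apply] at h1 ⊢
  have hg : -g = 0 := key_zero j q hq hqj (q * g) (-g)
    (fun m hm => ((mem_restrictSupport_iff R).mp h1) hm) (by ring)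
  rw [neg_eq_zero] at hg
  rw [hg, mul_zero]

theorem span_fam (j : Fin 3) (q : MvPolynomial (Fin 3) R) (hq : q.IsHomogeneous 2)
    (hqj : IsUnit (q.coeff (Finsupp.single j 2))) (n : ℕ) :
    Submodule.span R (Set.range (Sum.elim (famV R j n) (famW q n))) =
      homogeneousSubmodule (Fin 3) R n := by
  classical
  apply le_antisymm
  · refine Submodule.span_le.mpr ?_
    rintro _ ⟨x, rfl⟩
    rcases x with m | m
    · exact isHomogeneous_monomial 1 m.2.1
    · have h1 := hq.mul (isHomogeneous_monomial (1 : R) (rfl : m.1.degree = m.1.degree))
      have h2 : 2 + m.1.degree = n := by have := m.2; omega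
      rw [h2] at h1
      exact h1
  · have hmono : ∀ e : ℕ, ∀ m : Fin 3 →₀ ℕ, m j = e → m.degree = n →
        monomial m (1 : R) ∈ Submodule.span R (Set.range (Sum.elim (famV R j n) (famW q n))) := by
      intro e
      induction e using Nat.strong_induction_on with
      | _ e ih =>
        intro m hme hmd
        by_cases he : e < 2
        · exact Submodule.subset_span ⟨Sum.inl ⟨m, hmd, hme ▸ he⟩, rfl⟩
        · push Not at he
          have hm' : (m - Finsupp.single j 2) + Finsupp.single j 2 = m := by
            ext i
            rw [Finsupp.add_apply, Finsupp.tsub_apply, Finsupp.single_apply]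
            by_cases hij : j = i
            · subst hij; simp only [if_true]; omega
            · simp [hij]
          have hdeg' : (m - Finsupp.single j 2).degree + 2 = n := by
            have := congrArg Finsupp.degree hm'
            rw [map_add, Finsupp.degree_single, hmd] at this
            exact this
          have hm'j : (m - Finsupp.single j 2 : Fin 3 →₀ ℕ) j = e - 2 := by
            rw [Finsupp.tsub_apply, Finsupp.single_eq_same, hme]
          have hW : q * monomial (m - Finsupp.single j 2) (1 : R) ∈
              Submodule.span R (Set.range (Sum.elim (famV R j n) (famW q n))) :=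
            Submodule.subset_span ⟨Sum.inr ⟨m - Finsupp.single j 2, hdeg'⟩, rfl⟩
          -- decomposition of q
          obtain ⟨q', hq'⟩ : ∃ q' : MvPolynomial (Fin 3) R,
              q' = q - monomial (Finsupp.single j 2) (coeff (Finsupp.single j 2) q) := ⟨_, rfl⟩
          have hrest : q' * monomial (m - Finsupp.single j 2) (1 : R) ∈
              Submodule.span R (Set.range (Sum.elim (famV R j n) (famW q n))) := by
            rw [q'.as_sum, Finset.sum_mul]
            refine Submodule.sum_mem _ fun d hd => ?_
            rw [monomial_mul, mul_one]
            have hcd : coeff d q' ≠ 0 := mem_support_iff.mp hd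
            have hdne : d ≠ Finsupp.single j 2 := by
              rintro rfl
              apply hcd
              rw [hq', coeff_sub, coeff_monomial, if_pos rfl, sub_self]
            have hcq : coeff d q ≠ 0 := by
              intro h0
              apply hcd
              rw [hq', coeff_sub, coeff_monomial, if_neg (Ne.symm hdne), h0, sub_zero]
            have hdd : d.degree = 2 := by
              by_contra hdeg
              exact hcq (hq.coeff_eq_zero hdeg)
            have hdj := deg2_le_one j d hdd hdne
            have hsm : monomial (d + (m - Finsupp.single j 2)) (coeff d q') =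
                (coeff d q') • monomial (d + (m - Finsupp.single j 2)) (1 : R) := by
              rw [smul_monomial, smul_eq_mul, mul_one]
            rw [hsm]
            refine Submodule.smul_mem _ _ (ih ((d + (m - Finsupp.single j 2) : Fin 3 →₀ ℕ) j) ?_ _ rfl ?_)
            · rw [Finsupp.add_apply, hm'j]; omega
            · rw [map_add, hdd]; omega
          have hsplit : monomial m (coeff (Finsupp.single j 2) q) =
              q * monomial (m - Finsupp.single j 2) (1 : R) -
              q' * monomial (m - Finsupp.single j 2) (1 : R) := by
            have h5 : monomial (Finsupp.single j 2) (coeff (Finsupp.single j 2) q) *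
                monomial (m - Finsupp.single j 2) (1 : R) =
                monomial m (coeff (Finsupp.single j 2) q) := by
              rw [monomial_mul, mul_one, add_comm, hm']
            rw [← h5, hq']
            ring
          have hmu : monomial m (coeff (Finsupp.single j 2) q) ∈
              Submodule.span R (Set.range (Sum.elim (famV R j n) (famW q n))) := by
            rw [hsplit]
            exact Submodule.sub_mem _ hW hrest
          obtain ⟨u, hu⟩ := hqj
          have hone : monomial m (1 : R) =
              ((↑u⁻¹ : R)) • monomial m (coeff (Finsupp.single j 2) q) := by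
            rw [smul_monomial, smul_eq_mul, ← hu, Units.inv_mul]
          rw [hone]
          exact Submodule.smul_mem _ _ hmu
    have hH : homogeneousSubmodule (Fin 3) R n = restrictSupport R {d | d.degree = n} :=
      homogeneousSubmodule_eq_finsupp_supported (Fin 3) R n
    rw [hH, restrictSupport_eq_span]
    refine Submodule.span_le.mpr ?_
    rintro _ ⟨m, hm, rfl⟩
    exact hmono (m j) m rfl hm

end aux

/-- Let R be a commutative ring, j ∈ {0, 1, 2}, q a homogeneous polynomial of degree 2 in R[X_0, X_1,
X_2] whose coefficient of X_j^2 is a unit, and n a natural number. Then the family consisting of the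
monomials of degree n not divisible by X_j^2 (exponent of X_j at most 1) together with the products
q · m, m running over the monomials of degree n − 2 (indexed by exponents m with |m| + 2 = n), is
linearly independent over R and spans exactly the homogeneous polynomials of degree n; in particular
it is a basis of that module and the two parts are disjoint. (The published lemma is stated over a
field with the coefficient nonzero, the special case of a field R here; the version over a ring with
the coefficient invertible is what its change-of-basis argument gives — ordering monomials by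
decreasing exponent of X_j makes the matrix triangular with diagonal entries 1 and that coefficient
— and is the form used to trivialise the bundle of degree-n forms modulo multiples of q over the
locus where the coefficient is invertible. The published lemma also allows an arbitrary monomial of
degree 2 in place of X_j^2; for the mixed monomial X_1X_2, the form q = X_1^2 + X_1X_2 + X_2^2 and n
= 3 give the linear relation q·X_1 − q·X_2 = X_1^3 − X_2^3 among members of the family, so the claim
fails there and is stated here for the square of a variable.) -/
theorem result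
    (R : Type u) [CommRing R] (j : Fin 3) (q : MvPolynomial (Fin 3) R)
    (hq : q.IsHomogeneous 2) (hqj : IsUnit (q.coeff (Finsupp.single j 2))) (n : ℕ) :
    LinearIndependent R (Sum.elim (fun m : {m : Fin 3 →₀ ℕ // m.degree = n ∧ m j < 2} => MvPolynomial.monomial m.1 (1 : R)) (fun m : {m : Fin 3 →₀ ℕ // m.degree + 2 = n} => q * MvPolynomial.monomial m.1 (1 : R))) ∧
      Submodule.span R (Set.range (Sum.elim (fun m : {m : Fin 3 →₀ ℕ // m.degree = n ∧ m j < 2} => MvPolynomial.monomial m.1 (1 : R)) (fun m : {m : Fin 3 →₀ ℕ // m.degree + 2 = n} => q * MvPolynomial.monomial m.1 (1 : R)))) = MvPolynomial.homogeneousSubmodule (Fin 3) R n := by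
  exact ⟨li_fam j q hq hqj n, span_fam j q hq hqj n⟩

end Groth.Agent.S18994
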