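import Groth.Statements.S19004
import Mathlib.LinearAlgebra.Vandermonde
import Mathlib.LinearAlgebra.Matrix.Determinant.Basic
import Mathlib.GroupTheory.Perm.Sign
import Mathlib.Order.Interval.Finset.Fin
import Mathlib.Data.Fin.Rev
import Mathlib.Tactic.Ring
import Mathlib.Tactic.LinearCombination

set_option autoImplicit false
open GIT

namespace Groth.Agent.S19004

open MvPolynomial Finset

/-- Step A: the product over ordered pairs as a product of two Vandermonde determinants. -/
lemma prod_eq (n : ℕ) :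
    (∏ i : Fin n, ∏ j ∈ Finset.univ.erase i, (X i - X j : MvPolynomial (Fin n) ℤ)) =
    (Matrix.vandermonde (fun i : Fin n => (X i : MvPolynomial (Fin n) ℤ))).det *
    (Matrix.vandermonde (fun i : Fin n => (X (Fin.rev i) : MvPolynomial (Fin n) ℤ))).det := by
  rw [Matrix.det_vandermonde, Matrix.det_vandermonde]
  have herase : ∀ i : Fin n, Finset.univ.erase i = Finset.Iio i ∪ Finset.Ioi i := by
    intro i
    ext j
    simp [lt_or_lt_iff_ne]
  have hdisj : ∀ i : Fin n, Disjoint (Finset.Iio i) (Finset.Ioi i) := by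
    intro i
    rw [Finset.disjoint_left]
    intro j hj hj'
    rw [Finset.mem_Iio] at hj
    rw [Finset.mem_Ioi] at hj'
    exact lt_asymm hj hj'
  simp_rw [herase, Finset.prod_union (hdisj _)]
  rw [Finset.prod_mul_distrib]
  congr 1
  · -- ∏ i, ∏ j ∈ Iio i, (X i - X j) = ∏ i, ∏ j ∈ Ioi i, (X j - X i)
    rw [Finset.prod_comm' (s := Finset.univ) (t := fun i : Fin n => Finset.Iio i) (t' := Finset.univ)
      (s' := fun j : Fin n => Finset.Ioi j)]
    intro x y
    simp
  · -- ∏ i, ∏ j ∈ Ioi i, (X i - X j) = ∏ i, ∏ j ∈ Ioi i, (X (rev j) - X (rev i))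
    symm
    rw [← Equiv.prod_comp Fin.revPerm]
    have h1 : ∀ i : Fin n, ∏ j ∈ Finset.Ioi (Fin.revPerm i),
        ((X (Fin.rev j) : MvPolynomial (Fin n) ℤ) - X (Fin.rev (Fin.revPerm i))) =
        ∏ j ∈ Finset.Iio i, (X j - X i) := by
      intro i
      refine Finset.prod_bij' (fun j _ => Fin.rev j) (fun j _ => Fin.rev j) ?_ ?_ ?_ ?_ ?_
      · intro j hj
        rw [Finset.mem_Ioi] at hj
        rw [Finset.mem_Iio]
        have := Fin.rev_lt_rev.mpr hj
        simpa using this
      · intro j hj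
        rw [Finset.mem_Iio] at hj
        rw [Finset.mem_Ioi]
        simpa using Fin.rev_lt_rev.mpr hj
      · intro j _; simp
      · intro j _; simp
      · intro j _; simp
    simp_rw [h1]
    rw [Finset.prod_comm' (s := Finset.univ) (t := fun i : Fin n => Finset.Iio i) (t' := Finset.univ)
      (s' := fun j : Fin n => Finset.Ioi j)]
    intro x y
    simp


lemma prod_X_pow (n : ℕ) (e : Fin n → ℕ) :
    ∏ k, (X k : MvPolynomial (Fin n) ℤ) ^ e k = monomial (Finsupp.equivFunOnFinite.symm e) 1 := by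
  rw [monomial_eq, C_1, one_mul, Finsupp.prod_fintype _ _ (fun i => by simp)]
  rfl

lemma intCast_mul_monomial (n : ℕ) (c : ℤ) (a : Fin n →₀ ℕ) :
    ((c : ℤ) : MvPolynomial (Fin n) ℤ) * monomial a 1 = monomial a c := by
  have : ((c : ℤ) : MvPolynomial (Fin n) ℤ) = C c := by
    rw [← map_intCast (C : ℤ →+* MvPolynomial (Fin n) ℤ), Int.cast_id]
  rw [this, C_mul_monomial, mul_one]

lemma det_vand {R : Type*} [CommRing R] (n : ℕ) (v : Fin n → R) :
    (Matrix.vandermonde v).det =
      ∑ σ : Equiv.Perm (Fin n), ((Equiv.Perm.sign σ : ℤ) : R) * ∏ i, v i ^ (σ i : ℕ) := by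
  rw [← Matrix.det_transpose, Matrix.det_apply']
  rfl

lemma V_eq (n : ℕ) :
    (Matrix.vandermonde (fun i : Fin n => (X i : MvPolynomial (Fin n) ℤ))).det =
      ∑ σ : Equiv.Perm (Fin n),
        monomial (Finsupp.equivFunOnFinite.symm (fun k => (σ k : ℕ))) (Equiv.Perm.sign σ : ℤ) := by
  rw [det_vand]
  apply Finset.sum_congr rfl
  intro σ _
  rw [prod_X_pow, intCast_mul_monomial]

lemma V'_eq (n : ℕ) :
    (Matrix.vandermonde (fun i : Fin n => (X (Fin.rev i) : MvPolynomial (Fin n) ℤ))).det =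
      ∑ τ : Equiv.Perm (Fin n),
        monomial (Finsupp.equivFunOnFinite.symm (fun k => (τ (Fin.rev k) : ℕ)))
          (Equiv.Perm.sign τ : ℤ) := by
  rw [det_vand]
  apply Finset.sum_congr rfl
  intro τ _
  have h1 : ∏ i, (X (Fin.rev i) : MvPolynomial (Fin n) ℤ) ^ (τ i : ℕ) =
      ∏ k, (X k : MvPolynomial (Fin n) ℤ) ^ (τ (Fin.rev k) : ℕ) := by
    rw [← Equiv.prod_comp Fin.revPerm]
    simp
  rw [h1, prod_X_pow, intCast_mul_monomial]

lemma cond_iff (n : ℕ) (σ τ : Equiv.Perm (Fin n)) :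
    (Finsupp.equivFunOnFinite.symm (fun k => (σ k : ℕ)) +
      Finsupp.equivFunOnFinite.symm (fun k => (τ (Fin.rev k) : ℕ)) =
      Finsupp.equivFunOnFinite.symm (fun _ : Fin n => n - 1)) ↔
    τ = Fin.revPerm * σ * Fin.revPerm := by
  constructor
  · intro h
    apply Equiv.ext
    intro j
    have h1 := DFunLike.congr_fun h (Fin.rev j)
    change (σ (Fin.rev j) : ℕ) + (τ (Fin.rev (Fin.rev j)) : ℕ) = n - 1 at h1
    rw [Fin.rev_rev] at h1
    change τ j = Fin.rev (σ (Fin.rev j))
    apply Fin.ext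
    rw [Fin.val_rev]
    have := (σ (Fin.rev j)).isLt
    omega
  · intro h
    subst h
    apply Finsupp.ext
    intro k
    change (σ k : ℕ) + ((Fin.rev (σ (Fin.rev (Fin.rev k))) : Fin n) : ℕ) = n - 1
    rw [Fin.rev_rev, Fin.val_rev]
    have := (σ k).isLt
    omega


/-- For the group PGL(n) acting on the space of n × n matrices the T-quotient is (P^{n−1})^n with Chow
ring ℚ[t_1,…,t_n]/(t_1^n,…,t_n^n), the class c_top(g/t) is the product of all roots t_i − t_j (i ≠
j), and the computation in the proof shows that this product equals n!·t_1^{n−1}⋯t_n^{n−1} in that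
ring. Stated here as the equivalent coefficient identity in ℤ[t_1,…,t_n]: the coefficient of
t_1^{n−1}⋯t_n^{n−1} in the product over ordered pairs i ≠ j of (t_i − t_j) is n!. -/
theorem result (n : ℕ) :
    MvPolynomial.coeff (Finsupp.equivFunOnFinite.symm (fun _ : Fin n => n - 1))
      (∏ i : Fin n, ∏ j ∈ Finset.univ.erase i, (MvPolynomial.X i - MvPolynomial.X j : MvPolynomial (Fin n) ℤ)) = (n.factorial : ℤ) := by
  classical
  rw [prod_eq, V_eq, V'_eq, Finset.sum_mul_sum, coeff_sum]
  simp_rw [coeff_sum, monomial_mul, coeff_monomial, cond_iff]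
  have h1 : ∀ σ : Equiv.Perm (Fin n),
      (∑ τ : Equiv.Perm (Fin n), if τ = Fin.revPerm * σ * Fin.revPerm then
        ((Equiv.Perm.sign σ : ℤ) * (Equiv.Perm.sign τ : ℤ)) else 0) = 1 := by
    intro σ
    rw [Finset.sum_ite_eq' Finset.univ (Fin.revPerm * σ * Fin.revPerm), if_pos (Finset.mem_univ _)]
    rw [Equiv.Perm.sign_mul, Equiv.Perm.sign_mul, mul_comm (Equiv.Perm.sign Fin.revPerm), mul_assoc,
      Int.units_mul_self, mul_one, ← Units.val_mul, Int.units_mul_self, Units.val_one]
  simp_rw [h1]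
  rw [Finset.sum_const, Finset.card_univ, Fintype.card_perm, Fintype.card_fin]
  simp

end Groth.Agent.S19004
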