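import Groth.Statements.S19006
import Mathlib.Tactic.LinearCombination
import Mathlib.Tactic.Ring

set_option autoImplicit false
universe u v w x
open RootD

namespace Groth.Agent.S19006

/-- For a root pairing over an integral domain of characteristic zero, a quadratic form Q on the
coweight module N with polar form B, and a root α with coroot α^∨, the form Q is invariant under the
reflection attached to α acting on N if and only if B(y, α^∨) = ⟨α, y⟩ Q(α^∨) for all y in N. (The
source states this for integer-valued forms on the cocharacter lattice of a split reductive group;
here the form takes values in the base ring of the pairing.) -/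
theorem result {ι : Type u} {R : Type v} {M : Type w} {N : Type x} [CommRing R] [IsDomain R] [CharZero R]
    [AddCommGroup M] [Module R M] [AddCommGroup N] [Module R N] (P : RootPairing ι R M N)
    (Q : QuadraticMap R N R) (j : ι) :
    (∀ y : N, Q (P.coreflection j y) = Q y) ↔
      ∀ y : N, QuadraticMap.polar Q y (P.coroot j) = P.root' j y * Q (P.coroot j) := by
  have hkey : ∀ y : N, Q (P.coreflection j y) =
      Q y + (P.root' j y * P.root' j y) * Q (P.coroot j)
        - P.root' j y * QuadraticMap.polar Q y (P.coroot j) := by
    intro y
    rw [P.coreflection_apply, sub_eq_add_neg, ← neg_smul, QuadraticMap.map_add Q y,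
      QuadraticMap.map_smul, QuadraticMap.polar_smul_right]
    simp only [smul_eq_mul]
    ring
  have h2 : P.root' j (P.coroot j) = 2 := P.root_coroot_two j
  constructor
  · intro h y
    have hy : ∀ z : N, P.root' j z * (P.root' j z * Q (P.coroot j)
        - QuadraticMap.polar Q z (P.coroot j)) = 0 := by
      intro z
      have := h z
      rw [hkey z] at this
      linear_combination this
    by_cases ha : P.root' j y = 0
    · have h3 := hy (y + P.coroot j)
      rw [map_add, ha, zero_add, h2, QuadraticMap.polar_add_left, QuadraticMap.polar_self] at h3
      have h4 : (2 : R) ≠ 0 := two_ne_zero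
      have h5 := (mul_eq_zero.mp h3).resolve_left h4
      rw [ha, zero_mul]
      simp only [nsmul_eq_mul, Nat.cast_ofNat] at h5
      linear_combination -h5
    · have h5 := (mul_eq_zero.mp (hy y)).resolve_left ha
      linear_combination -h5
  · intro h y
    rw [hkey y, h y]
    ring

end Groth.Agent.S19006
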