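import Groth.Statements.S19007
import Groth.Agent.H94.RootQ
import Mathlib.LinearAlgebra.RootSystem.Base

set_option autoImplicit false
universe u v w x
open RootD

namespace Groth.Agent.S19007

/-- Let P be a finite reduced crystallographic root pairing over an integral domain of characteristic
zero, b a base of P (a system of simple roots) and Q a quadratic form on the coweight module with
polar form B. Then Q is invariant under all root reflections (equivalently under the Weyl group) on
the span of the coroots if and only if for all pairs of distinct simple roots α_i ≠ α_j one has
B(α_i^∨, α_j^∨) = ⟨α_j, α_i^∨⟩ Q(α_j^∨). (In the source the form is integer-valued on the lattice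
spanned by the coroots and the condition says that the bilinear form lies in the kernel of the last
map of a three-term complex built from the Bruhat cells of codimension at most two; here the form
takes values in the base ring.) -/
theorem result {ι : Type u} {R : Type v} {M : Type w} {N : Type x} [CommRing R] [IsDomain R] [CharZero R]
    [AddCommGroup M] [Module R M] [AddCommGroup N] [Module R N] (P : RootPairing ι R M N)
    [Finite ι] [P.IsCrystallographic] [P.IsReduced] (b : P.Base) (Q : QuadraticMap R N R) :
    (∀ i : ι, ∀ y ∈ Submodule.span R (Set.range P.coroot), Q (P.coreflection i y) = Q y) ↔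
      ∀ i ∈ b.support, ∀ j ∈ b.support, i ≠ j →
        QuadraticMap.polar Q (P.coroot i) (P.coroot j) = P.pairing j i * Q (P.coroot j) := by
  classical
  constructor
  · intro h i _ j _ _
    have hi_mem : P.coroot i ∈ Submodule.span R (Set.range P.coroot) :=
      Submodule.subset_span ⟨i, rfl⟩
    have hj_mem : P.coroot j ∈ Submodule.span R (Set.range P.coroot) :=
      Submodule.subset_span ⟨j, rfl⟩
    exact Groth.Agent.H94.RootQ.polar_coroot P Q j (P.coroot i) (h j _ hi_mem)
      (h j _ (Submodule.add_mem _ hi_mem hj_mem))
  · intro h
    have hS : ∀ (i : ι) (y : N), y ∈ Submodule.span R (Set.range P.coroot) →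
        P.coreflection i y ∈ Submodule.span R (Set.range P.coroot) := fun i y hy => by
      rw [P.coreflection_apply]
      exact Submodule.sub_mem _ hy (Submodule.smul_mem _ _ (Submodule.subset_span ⟨i, rfl⟩))
    have hsimple : ∀ j ∈ b.support, ∀ y ∈ Submodule.span R (Set.range P.coroot),
        Q (P.coreflection j y) = Q y := by
      intro j hj y hy
      apply Groth.Agent.H94.RootQ.invariant_of_polar
      have hS' : Submodule.span R (Set.range P.coroot) = Submodule.span R (P.coroot '' b.support) :=
        (b.span_coroot_support).symm
      rw [hS'] at hy
      refine Submodule.span_induction (p := fun y _ =>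
        QuadraticMap.polar Q y (P.coroot j) = P.root' j y * Q (P.coroot j)) ?_ ?_ ?_ ?_ hy
      · rintro _ ⟨i, hi, rfl⟩
        by_cases hij : i = j
        · subst hij
          have h2 : P.root' i (P.coroot i) = 2 := P.root_coroot_two i
          rw [Groth.Agent.H94.RootQ.polar_self', h2]
        · exact h i hi j hj hij
      · rw [QuadraticMap.polar_zero_left, map_zero, zero_mul]
      · intro x y _ _ hx hy
        rw [QuadraticMap.polar_add_left, hx, hy, map_add, add_mul]
      · intro a x _ hx
        rw [QuadraticMap.polar_smul_left, hx, map_smul, smul_eq_mul, smul_eq_mul, mul_assoc]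
    intro i
    refine b.induction_reflect i
      (p := fun i => ∀ y ∈ Submodule.span R (Set.range P.coroot), Q (P.coreflection i y) = Q y)
      ?_ hsimple ?_
    · intro i hi y hy
      have e : P.coreflection (P.reflectionPerm i i) =
          P.coreflection i * P.coreflection i * P.coreflection i := P.flip.reflection_reflectionPerm
      rw [e, LinearEquiv.mul_apply, LinearEquiv.mul_apply, P.coreflection_same]
      exact hi y hy
    · intro i j hi hj y hy
      have e : P.coreflection (P.reflectionPerm j i) =
          P.coreflection j * P.coreflection i * P.coreflection j := P.flip.reflection_reflectionPerm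
      rw [e, LinearEquiv.mul_apply, LinearEquiv.mul_apply,
        hsimple j hj _ (hS i _ (hS j _ hy)), hi _ (hS j _ hy), hsimple j hj _ hy]

end Groth.Agent.S19007
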