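import Groth.Statements.S19010
import Groth.Agent.H94.RootQ

set_option autoImplicit false
universe u v w x
open RootD

namespace Groth.Agent.S19010

/-- Let P be a root pairing over an integral domain R of characteristic zero (roots α acting on the
coweight module N through reflections y ↦ y − ⟨α, y⟩ α^∨), D ⊆ N a submodule containing every coroot
and such that every element of D has a positive integer multiple in the span of the coroots (the
derived part), and Y₀ a complement of D in N. Let Q' be a quadratic form on N invariant under all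
root reflections. Then restriction to Y₀ is a bijection from the set of quadratic forms on N that
are invariant under all root reflections and agree with Q' on D onto the set of all quadratic forms
on Y₀. (In the source R = ℤ and N = Y₀ ⊕ Y_der is the cocharacter lattice of a split reductive
group; forms take values in R here.) -/
theorem result {ι : Type u} {R : Type v} {M : Type w} {N : Type x} [CommRing R] [IsDomain R] [CharZero R]
    [AddCommGroup M] [Module R M] [AddCommGroup N] [Module R N] (P : RootPairing ι R M N)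
    (D Y₀ : Submodule R N) (hD : ∀ i : ι, P.coroot i ∈ D)
    (hDsat : ∀ y ∈ D, ∃ n : ℕ, 0 < n ∧ n • y ∈ Submodule.span R (Set.range P.coroot))
    (hc : IsCompl Y₀ D)
    (Q' : QuadraticMap R N R) (hQ' : ∀ (i : ι) (y : N), Q' (P.coreflection i y) = Q' y) :
    Set.BijOn (fun Q : QuadraticMap R N R => Q.comp Y₀.subtype)
      {Q | (∀ (i : ι) (y : N), Q (P.coreflection i y) = Q y) ∧ ∀ y ∈ D, Q y = Q' y} Set.univ := by
  classical
  have hpol' : ∀ (Q : QuadraticMap R N R), (∀ (i : ι) (y : N), Q (P.coreflection i y) = Q y) →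
      ∀ (i : ι) (z : N), QuadraticMap.polar Q z (P.coroot i) = P.root' i z * Q (P.coroot i) :=
    fun Q hQ i z => Groth.Agent.H94.RootQ.polar_coroot P Q i z (hQ i z) (hQ i _)
  refine ⟨fun _ _ => Set.mem_univ _, ?_, ?_⟩
  · rintro Q1 ⟨h1inv, h1D⟩ Q2 ⟨h2inv, h2D⟩ h12
    have h12' : ∀ y₀ ∈ Y₀, Q1 y₀ = Q2 y₀ := fun y₀ hy₀ => by
      have := congrArg (fun q : QuadraticMap R Y₀ R => q ⟨y₀, hy₀⟩) h12
      simpa using this
    have hspan : ∀ y₀ : N, ∀ z ∈ Submodule.span R (Set.range P.coroot),
        QuadraticMap.polar Q1 y₀ z = QuadraticMap.polar Q2 y₀ z := by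
      intro y₀ z hz
      have hEq : Set.EqOn (Q1.polarBilin y₀) (Q2.polarBilin y₀) (Set.range P.coroot) := by
        rintro _ ⟨i, rfl⟩
        simp only [QuadraticMap.polarBilin_apply_apply]
        rw [hpol' Q1 h1inv, hpol' Q2 h2inv, h1D _ (hD i), h2D _ (hD i)]
      have h := LinearMap.eqOn_span hEq hz
      simpa [QuadraticMap.polarBilin_apply_apply] using h
    have hpolD : ∀ y₀ : N, ∀ d ∈ D, QuadraticMap.polar Q1 y₀ d = QuadraticMap.polar Q2 y₀ d := by
      intro y₀ d hd
      obtain ⟨n, hn, hnd⟩ := hDsat d hd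
      have h := hspan y₀ _ hnd
      have e : ∀ Q : QuadraticMap R N R,
          QuadraticMap.polar Q y₀ (n • d) = (n : R) * QuadraticMap.polar Q y₀ d := by
        intro Q
        rw [← Nat.cast_smul_eq_nsmul R n d, QuadraticMap.polar_smul_right, smul_eq_mul]
      rw [e, e] at h
      exact mul_left_cancel₀ (Nat.cast_ne_zero.mpr hn.ne') h
    ext y
    obtain ⟨y₀, hy₀, d, hd, hsum⟩ : ∃ y₀ ∈ Y₀, ∃ d ∈ D, y₀ + d = y :=
      ⟨_, Submodule.projection_apply_mem hc y, _, Submodule.projection_apply_mem hc.symm y,
        Submodule.projection_add_projection_eq_self hc y⟩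
    subst hsum
    rw [Groth.Agent.H94.RootQ.quad_add Q1, Groth.Agent.H94.RootQ.quad_add Q2, h12' _ hy₀,
      h1D _ hd, h2D _ hd, hpolD _ _ hd]
  · intro q₀ _
    let p₀ : N →ₗ[R] Y₀ := Y₀.projectionOnto D hc
    let π₀ : N →ₗ[R] N := Y₀.projection D hc
    let πD : N →ₗ[R] N := D.projection Y₀ hc.symm
    let Q : QuadraticMap R N R :=
      q₀.comp p₀ + Q'.comp πD + LinearMap.BilinMap.toQuadraticMap (Q'.polarBilin.compl₁₂ π₀ πD)
    have hQ : ∀ y, Q y = q₀ (p₀ y) + Q' (πD y) + QuadraticMap.polar Q' (π₀ y) (πD y) :=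
      fun y => rfl
    refine ⟨Q, ⟨fun i y => ?_, fun y hy => ?_⟩, ?_⟩
    · have ha0 : π₀ (P.coroot i) = 0 := (Submodule.projection_apply_eq_zero_iff hc).mpr (hD i)
      have hap : p₀ (P.coroot i) = 0 := (Submodule.projectionOnto_apply_eq_zero_iff hc).mpr (hD i)
      have haD : πD (P.coroot i) = P.coroot i :=
        (Submodule.projection_eq_self_iff hc.symm _).mpr (hD i)
      have hsum : π₀ y + πD y = y := Submodule.projection_add_projection_eq_self hc y
      have hc' : P.root' i y = P.root' i (π₀ y) + P.root' i (πD y) := by rw [← map_add, hsum]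
      have ep : p₀ (P.coreflection i y) = p₀ y := by
        rw [P.coreflection_apply, map_sub, map_smul, hap, smul_zero, sub_zero]
      have e0 : π₀ (P.coreflection i y) = π₀ y := by
        rw [P.coreflection_apply, map_sub, map_smul, ha0, smul_zero, sub_zero]
      have eD : πD (P.coreflection i y) = πD y - P.root' i y • P.coroot i := by
        rw [P.coreflection_apply, map_sub, map_smul, haD]
      rw [hQ, hQ, ep, e0, eD, Groth.Agent.H94.RootQ.quad_sub_smul,
        Groth.Agent.H94.RootQ.polar_sub_smul, hpol' Q' hQ' i (πD y), hpol' Q' hQ' i (π₀ y), hc']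
      ring
    · have h0 : π₀ y = 0 := (Submodule.projection_apply_eq_zero_iff hc).mpr hy
      have hp0 : p₀ y = 0 := (Submodule.projectionOnto_apply_eq_zero_iff hc).mpr hy
      have hDy : πD y = y := (Submodule.projection_eq_self_iff hc.symm _).mpr hy
      rw [hQ, h0, hp0, hDy, map_zero, QuadraticMap.polar_zero_left, zero_add, add_zero]
    · ext x
      have hx : πD (x : N) = 0 := (Submodule.projection_apply_eq_zero_iff hc.symm).mpr x.2
      have hpx : p₀ (x : N) = x := Submodule.projectionOnto_apply_left hc x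
      change Q (x : N) = q₀ x
      rw [hQ, hx, hpx, map_zero, QuadraticMap.polar_zero_right, add_zero, add_zero]

end Groth.Agent.S19010
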