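import Groth.Statements.S19011
import Groth.Agent.H27.RootZForm
import Groth.Agent.H27.RootSimpleTrans

set_option autoImplicit false
universe u v w x
open RootD

namespace Groth.Agent.S19011

/-- For a finite reduced crystallographic root pairing over an integral domain of characteristic zero,
the additive group generated by the coroots admits the presentation with one generator [β] for each
root β and the relations [s_α(β)] = [β] − ⟨α, β^∨⟩ [α] for all roots α, β, where ⟨α, β^∨⟩ is the
Cartan integer. Concretely: the kernel of the ℤ-linear map from the free abelian group on the index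
type of the roots to the coweight module sending the generator of index β to the coroot β^∨ is the
subgroup generated by the elements [s_α(β)] − [β] + ⟨α, β^∨⟩ [α]. (The source states this for the
cocharacter lattice of a split semi-simple simply connected group, which is the group generated by
the coroots.) -/
theorem result {ι : Type u} {R : Type v} {M : Type w} {N : Type x} [CommRing R] [IsDomain R] [CharZero R]
    [AddCommGroup M] [Module R M] [AddCommGroup N] [Module R N] (P : RootPairing ι R M N)
    [Finite ι] [P.IsCrystallographic] [P.IsReduced] :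
    LinearMap.ker (Finsupp.linearCombination ℤ (fun i : ι => (P.coroot i : N))) =
      Submodule.span ℤ (Set.range fun p : ι × ι =>
        Finsupp.single (P.reflectionPerm p.1 p.2) (1 : ℤ) - Finsupp.single p.2 1 +
          P.pairingIn ℤ p.1 p.2 • Finsupp.single p.1 1) := by
  classical
  have : Module.IsReflexive R M := .of_isPerfPair P.toLinearMap
  have : Module.IsReflexive R N := .of_isPerfPair P.flip.toLinearMap
  let Pz := Groth.Agent.H27.zform P.flip
  obtain ⟨Δ, hΔ⟩ := Groth.Agent.H27.exists_isSimpleSys Pz
  have hind : ∀ k, RootD.IsIndiv Pz k := fun k j =>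
    Groth.Agent.H27.zform_two_smul_ne P.flip k j
  have hrel : ∀ α β : ι, (Finsupp.single (P.reflectionPerm α β) (1 : ℤ) - Finsupp.single β 1 +
      P.pairingIn ℤ α β • Finsupp.single α 1) ∈
      Submodule.span ℤ (Set.range fun p : ι × ι =>
        Finsupp.single (P.reflectionPerm p.1 p.2) (1 : ℤ) - Finsupp.single p.2 1 +
          P.pairingIn ℤ p.1 p.2 • Finsupp.single p.1 1) :=
    fun α β => Submodule.subset_span ⟨(α, β), rfl⟩
  set K := Submodule.span ℤ (Set.range fun p : ι × ι =>
        Finsupp.single (P.reflectionPerm p.1 p.2) (1 : ℤ) - Finsupp.single p.2 1 +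
          P.pairingIn ℤ p.1 p.2 • Finsupp.single p.1 1) with hK
  apply le_antisymm
  · -- the kernel is contained in the span of the relations
    have hstep : ∀ α k : ι,
        Finsupp.single α (1 : ℤ) ∈ K ⊔ Finsupp.supported ℤ ℤ Δ →
        Finsupp.single k (1 : ℤ) ∈ K ⊔ Finsupp.supported ℤ ℤ Δ →
        Finsupp.single (P.reflectionPerm α k) (1 : ℤ) ∈ K ⊔ Finsupp.supported ℤ ℤ Δ := by
      intro α k hα hk
      have h1 : Finsupp.single (P.reflectionPerm α k) (1 : ℤ) =
          (Finsupp.single (P.reflectionPerm α k) (1 : ℤ) - Finsupp.single k 1 +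
            P.pairingIn ℤ α k • Finsupp.single α 1) + Finsupp.single k 1 -
            P.pairingIn ℤ α k • Finsupp.single α 1 := by abel
      rw [h1]
      exact sub_mem (add_mem (Submodule.mem_sup_left (hrel α k)) hk)
        (Submodule.smul_mem _ _ hα)
    have hnegback : ∀ k : ι,
        Finsupp.single (P.reflectionPerm k k) (1 : ℤ) ∈ K ⊔ Finsupp.supported ℤ ℤ Δ →
        Finsupp.single k (1 : ℤ) ∈ K ⊔ Finsupp.supported ℤ ℤ Δ := by
      intro k hk
      have h1 : Finsupp.single k (1 : ℤ) =
          (Finsupp.single (P.reflectionPerm k k) (1 : ℤ) - Finsupp.single k 1 +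
            P.pairingIn ℤ k k • Finsupp.single k 1) -
            Finsupp.single (P.reflectionPerm k k) (1 : ℤ) := by
        rw [P.pairingIn_same ℤ k, two_smul]
        abel
      rw [h1]
      exact sub_mem (Submodule.mem_sup_left (hrel k k)) hk
    have hsimple : ∀ j ∈ Δ, Finsupp.single j (1 : ℤ) ∈ K ⊔ Finsupp.supported ℤ ℤ Δ :=
      fun j hj => Submodule.mem_sup_right (Finsupp.single_mem_supported ℤ 1 hj)
    have hgrp : ∀ g : Pz.Aut, g ∈ Groth.Agent.H27.reflGroup Pz Δ → ∀ k : ι,
        Finsupp.single k (1 : ℤ) ∈ K ⊔ Finsupp.supported ℤ ℤ Δ →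
        Finsupp.single (g • k) (1 : ℤ) ∈ K ⊔ Finsupp.supported ℤ ℤ Δ ∧
        Finsupp.single (g⁻¹ • k) (1 : ℤ) ∈ K ⊔ Finsupp.supported ℤ ℤ Δ := by
      intro g hg
      induction hg using Subgroup.closure_induction with
      | mem x hx =>
        obtain ⟨j, hj, rfl⟩ := hx
        intro k hk
        rw [RootPairing.Equiv.reflection_inv]
        have : RootPairing.Equiv.reflection Pz j • k = P.reflectionPerm j k := rfl
        rw [this]
        exact ⟨hstep j k (hsimple j hj) hk, hstep j k (hsimple j hj) hk⟩
      | one =>
        intro k hk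
        rw [inv_one, one_smul]
        exact ⟨hk, hk⟩
      | mul x y _ _ hx hy =>
        intro k hk
        rw [mul_smul, mul_inv_rev, mul_smul]
        exact ⟨(hx _ (hy k hk).1).1, (hy _ (hx k hk).2).2⟩
      | inv x _ hx =>
        intro k hk
        rw [inv_inv]
        exact ⟨(hx k hk).2, (hx k hk).1⟩
    have hpos : ∀ k ∈ RootD.posOf Pz Δ,
        Finsupp.single k (1 : ℤ) ∈ K ⊔ Finsupp.supported ℤ ℤ Δ := by
      intro k hk
      obtain ⟨g, hg, j, hj, rfl⟩ := Groth.Agent.H27.exists_reflGroup_smul_eq Pz hΔ hk (hind k)
      exact (hgrp g hg j (hsimple j hj)).1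
    have hall : ∀ k : ι, Finsupp.single k (1 : ℤ) ∈ K ⊔ Finsupp.supported ℤ ℤ Δ := by
      intro k
      rcases (Groth.Agent.H27.isPosSys_posOf Pz hΔ).cover k with h | h
      · exact hpos k h
      · exact hnegback k (hpos _ h)
    have htop : ∀ x : ι →₀ ℤ, x ∈ K ⊔ Finsupp.supported ℤ ℤ Δ := by
      intro x
      induction x using Finsupp.induction_linear with
      | zero => exact zero_mem _
      | add f g hf hg => exact add_mem hf hg
      | single a c =>
        rw [← Finsupp.smul_single_one]
        exact Submodule.smul_mem _ _ (hall a)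
    have hKker : K ≤ LinearMap.ker (Finsupp.linearCombination ℤ (fun i : ι => (P.coroot i : N))) := by
      rw [hK, Submodule.span_le]
      rintro _ ⟨⟨α, β⟩, rfl⟩
      show Finsupp.linearCombination ℤ (fun i : ι => (P.coroot i : N)) _ = 0
      simp only [map_add, map_sub, map_smul, Finsupp.linearCombination_single, one_smul]
      have h1 := P.reflectionPerm_coroot α β
      have h2 : (P.pairingIn ℤ α β) • P.coroot α =
          P.toLinearMap (P.root α) (P.coroot β) • P.coroot α := by
        rw [← Int.cast_smul_eq_zsmul R]
        congr 1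
        have := P.algebraMap_pairingIn ℤ α β
        rw [eq_intCast] at this
        exact this
      rw [h2, ← h1]
      abel
    intro x hx
    obtain ⟨κ, hκ, g, hg, rfl⟩ := Submodule.mem_sup.mp (htop x)
    have hg0 : Finsupp.linearCombination ℤ (fun i : ι => (P.coroot i : N)) g = 0 := by
      have h1 : Finsupp.linearCombination ℤ (fun i : ι => (P.coroot i : N)) (κ + g) = 0 := hx
      have h2 : Finsupp.linearCombination ℤ (fun i : ι => (P.coroot i : N)) κ = 0 := hKker hκ
      rw [map_add, h2, zero_add] at h1
      exact h1
    have hgz : Finsupp.linearCombination ℤ Pz.root g = 0 := by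
      apply Subtype.ext
      rw [Groth.Agent.H27.zform_linearCombination]
      exact hg0
    have hg' : g = 0 := linearIndepOn_iff.mp hΔ.linInd g hg hgz
    rw [hg', add_zero]
    exact hκ
  · rw [hK, Submodule.span_le]
    rintro _ ⟨⟨α, β⟩, rfl⟩
    show Finsupp.linearCombination ℤ (fun i : ι => (P.coroot i : N)) _ = 0
    simp only [map_add, map_sub, map_smul, Finsupp.linearCombination_single, one_smul]
    have h1 := P.reflectionPerm_coroot α β
    have h2 : (P.pairingIn ℤ α β) • P.coroot α =
        P.toLinearMap (P.root α) (P.coroot β) • P.coroot α := by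
      rw [← Int.cast_smul_eq_zsmul R]
      congr 1
      have := P.algebraMap_pairingIn ℤ α β
      rw [eq_intCast] at this
      exact this
    rw [h2, ← h1]
    abel

end Groth.Agent.S19011
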