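import Groth.Statements.S19012
import Groth.Agent.H94.RootQ
import Mathlib.LinearAlgebra.RootSystem.Irreducible

set_option autoImplicit false
universe u v w x
open RootD

namespace Groth.Agent.S19012

/-- Let P be a finite reduced crystallographic root pairing over a field of characteristic zero which is
irreducible, and b a base. A quadratic form on the coweight module that is invariant under all root
reflections and vanishes on some simple coroot is zero; in other words an invariant form is
determined by its value on a single simple coroot. (The source proves, component by component of the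
Dynkin diagram, that an invariant integer-valued form on the coroot lattice with prescribed value on
the first simple coroot of each component is unique; here the system is irreducible, the coroots
span the coweight module, and forms take values in the base field.) -/
theorem result {ι : Type u} {K : Type v} {M : Type w} {N : Type x} [Field K] [CharZero K]
    [AddCommGroup M] [Module K M] [AddCommGroup N] [Module K N] (P : RootPairing ι K M N)
    [Finite ι] [P.IsCrystallographic] [P.IsReduced] [P.IsIrreducible] (b : P.Base)
    (Q : QuadraticMap K N K) (hQ : ∀ (i : ι) (y : N), Q (P.coreflection i y) = Q y)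
    (i₀ : ι) (hi₀ : i₀ ∈ b.support) (h0 : Q (P.coroot i₀) = 0) : Q = 0 := by
  classical
  have hpol : ∀ (i : ι) (z : N),
      QuadraticMap.polar Q z (P.coroot i) = P.root' i z * Q (P.coroot i) :=
    fun i z => Groth.Agent.H94.RootQ.polar_coroot P Q i z (hQ i z) (hQ i _)
  have hsym : ∀ i k : ι, P.pairing i k * Q (P.coroot i) = P.pairing k i * Q (P.coroot k) := by
    intro i k
    have h1 := hpol i (P.coroot k)
    have h2 := hpol k (P.coroot i)
    rw [QuadraticMap.polar_comm] at h2
    exact h1.symm.trans h2
  let q : Submodule K N := Submodule.span K (P.coroot '' {i | Q (P.coroot i) = 0})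
  have hq_inv : ∀ k, q ∈ Module.End.invtSubmodule (P.coreflection k) := by
    intro k
    refine (Module.End.mem_invtSubmodule_iff_forall_mem_of_mem _).mpr ?_
    intro x hx
    refine Submodule.span_induction (p := fun x _ => (P.coreflection k) x ∈ q) ?_ ?_ ?_ ?_ hx
    · rintro _ ⟨i, hi, rfl⟩
      have hi' : Q (P.coroot i) = 0 := hi
      rw [P.coreflection_apply_coroot]
      by_cases hki : P.pairing k i = 0
      · rw [hki, zero_smul, sub_zero]
        exact Submodule.subset_span ⟨i, hi, rfl⟩
      · have hk : Q (P.coroot k) = 0 := by
          have h := hsym i k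
          rw [hi', mul_zero] at h
          exact (mul_eq_zero.mp h.symm).resolve_left hki
        exact q.sub_mem (Submodule.subset_span ⟨i, hi, rfl⟩)
          (q.smul_mem _ (Submodule.subset_span ⟨k, hk, rfl⟩))
    · rw [map_zero]; exact q.zero_mem
    · intro x y _ _ hx hy
      rw [map_add]; exact q.add_mem hx hy
    · intro a x _ hx
      rw [map_smul]; exact q.smul_mem a hx
  have hq_ne : q ≠ ⊥ := by
    intro h
    have hmem : P.coroot i₀ ∈ q := Submodule.subset_span ⟨i₀, h0, rfl⟩
    rw [h, Submodule.mem_bot] at hmem
    exact P.ne_zero' i₀ hmem
  have hq_top : q = ⊤ :=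
    RootPairing.IsIrreducible.eq_top_of_invtSubmodule_coreflection q hq_inv hq_ne
  have hB : ∀ z y : N, QuadraticMap.polar Q z y = 0 := by
    intro z y
    have hy : y ∈ q := hq_top ▸ Submodule.mem_top
    refine Submodule.span_induction (p := fun y _ => QuadraticMap.polar Q z y = 0) ?_ ?_ ?_ ?_ hy
    · rintro _ ⟨i, hi, rfl⟩
      have hi' : Q (P.coroot i) = 0 := hi
      rw [hpol, hi', mul_zero]
    · exact QuadraticMap.polar_zero_right Q z
    · intro x y _ _ hx hy
      rw [QuadraticMap.polar_add_right, hx, hy, add_zero]
    · intro a x _ hx
      rw [QuadraticMap.polar_smul_right, hx, smul_zero]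
  ext y
  have h2 : (2 : K) * Q y = 0 := by
    rw [← Groth.Agent.H94.RootQ.polar_self', hB]
  simpa using (mul_eq_zero.mp h2).resolve_left two_ne_zero

end Groth.Agent.S19012
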