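import Groth.Statements.S19013
import Groth.Agent.H94.MilKDVR2

set_option autoImplicit false
universe u v
open MilnorK

namespace Groth.Agent.S19013

/-- Let A ⊆ B be discrete valuation rings, the inclusion being a local homomorphism, with fraction
fields E ⊆ F compatibly, with the induced homomorphism of residue fields κ(A) → κ(B), and with
ramification index e, the natural number such that the maximal ideal of A generates the e-th power
of the maximal ideal of B. Let ∂_A : K_{n+1}(E) → K_n(κ(A)) and ∂_B : K_{n+1}(F) → K_n(κ(B)) be the
residue maps (tame symbols) on Milnor K-groups. Then for every x in K_{n+1}(E) one has ∂_B(x_F) = e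
· (∂_A x)_{κ(B)}, where the subscripts denote the change-of-fields maps along E → F and κ(A) → κ(B).
(The published statement concerns discrete valuations of geometric type on fields finitely generated
over a base field; it is stated here for an arbitrary pair of discrete valuation rings, which is all
the printed computation uses.) -/
theorem result
    (A B : Type u) [CommRing A] [IsDomain A] [IsDiscreteValuationRing A]
    [CommRing B] [IsDomain B] [IsDiscreteValuationRing B] [Algebra A B] [IsLocalHom (algebraMap A B)]
    (E F : Type v) [Field E] [Field F] [Algebra A E] [IsFractionRing A E] [Algebra B F] [IsFractionRing B F]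
    [Algebra E F] [Algebra A F] [IsScalarTower A E F] [IsScalarTower A B F]
    (e : ℕ) (he : Ideal.map (algebraMap A B) (IsLocalRing.maximalIdeal A) = IsLocalRing.maximalIdeal B ^ e)
    (n : ℕ) (dA : MilK.K E (n + 1) →+ MilK.K (IsLocalRing.ResidueField A) n) (hdA : MilK.IsTameSymbol A E n dA)
    (dB : MilK.K F (n + 1) →+ MilK.K (IsLocalRing.ResidueField B) n) (hdB : MilK.IsTameSymbol B F n dB)
    (x : MilK.K E (n + 1)) :
    dB (MilK.map (algebraMap E F) (n + 1) x) =
      e • MilK.map (IsLocalRing.ResidueField.map (algebraMap A B)) n (dA x) := by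
  obtain ⟨ϖA, hϖA⟩ := IsDiscreteValuationRing.exists_irreducible A
  obtain ⟨ϖB, hϖB⟩ := IsDiscreteValuationRing.exists_irreducible B
  -- compatibility of the algebra maps
  have hcomp : ∀ a : A, algebraMap E F (algebraMap A E a) = algebraMap B F (algebraMap A B a) := by
    intro a
    rw [← IsScalarTower.algebraMap_apply A E F, ← IsScalarTower.algebraMap_apply A B F]
  have hAB0 : algebraMap A B ϖA ≠ 0 := by
    intro h0
    have h1 := hcomp ϖA
    rw [h0, map_zero] at h1
    have h2 : algebraMap A E ϖA = 0 := (map_eq_zero (algebraMap E F)).mp h1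
    exact hϖA.ne_zero ((IsFractionRing.to_map_eq_zero_iff (K := E)).mp h2)
  -- the image of ϖA is a unit times ϖB ^ e
  obtain ⟨e', w, hw⟩ := IsDiscreteValuationRing.eq_unit_mul_pow_irreducible hAB0 hϖB
  have hee' : e' = e := by
    have h1 : Ideal.map (algebraMap A B) (IsLocalRing.maximalIdeal A) = Ideal.span {ϖB ^ e'} := by
      rw [hϖA.maximalIdeal_eq, Ideal.map_span, Set.image_singleton, hw,
        Ideal.span_singleton_eq_span_singleton]
      exact ⟨w⁻¹, by rw [mul_comm, ← mul_assoc, Units.inv_mul, one_mul]⟩
    rw [he, hϖB.maximalIdeal_eq, Ideal.span_singleton_pow, Ideal.span_singleton_eq_span_singleton] at h1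
    obtain ⟨c, hc⟩ := h1
    have h2 : ((1 : Bˣ) : B) * ϖB ^ e' = (c : B) * ϖB ^ e := by
      rw [Units.val_one, one_mul, ← hc, mul_comm]
    exact IsDiscreteValuationRing.unit_mul_pow_congr_pow hϖB hϖB 1 c e' e h2
  subst hee'
  -- units of A map to units of B
  have hunit : ∀ v : Aˣ, Units.map (algebraMap E F : E →* F) (MilK.unitToFrac A E v) =
      MilK.unitToFrac B F (Units.map (algebraMap A B : A →* B) v) := by
    intro v
    apply Units.ext
    exact hcomp v
  have hpi : Units.map (algebraMap E F : E →* F) (MilK.unitFrac A E ϖA hϖA.ne_zero) =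
      MilK.unitFrac B F ϖB hϖB.ne_zero ^ e' * MilK.unitToFrac B F w := by
    apply Units.ext
    change algebraMap E F (algebraMap A E ϖA) = _
    rw [hcomp, hw, map_mul, map_pow, mul_comm]
    simp [MilK.unitToFrac]
  have hres : ∀ v : Aˣ, Units.map
      (IsLocalRing.ResidueField.map (algebraMap A B) : IsLocalRing.ResidueField A →* IsLocalRing.ResidueField B)
        (MilK.unitResidue A v) = MilK.unitResidue B (Units.map (algebraMap A B : A →* B) v) := by
    intro v
    apply Units.ext
    rfl
  have key : dB.comp (MilK.map (algebraMap E F) (n + 1)) =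
      e' • ((MilK.map (IsLocalRing.ResidueField.map (algebraMap A B)) n).comp dA) := by
    apply Groth.Agent.H94.hom_ext_gen A E ϖA hϖA n
    · intro v
      rw [AddMonoidHom.comp_apply, MilK.map_symbol, AddMonoidHom.smul_apply, AddMonoidHom.comp_apply,
        Groth.Agent.H94.tame_unit_eq_zero A E n dA hdA v, map_zero, smul_zero]
      simp only [hunit]
      exact Groth.Agent.H94.tame_unit_eq_zero B F n dB hdB _
    · intro v
      rw [AddMonoidHom.comp_apply, MilK.map_symbol, AddMonoidHom.smul_apply, AddMonoidHom.comp_apply,
        hdA ϖA hϖA v, MilK.map_symbol]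
      have hx : (fun i => Units.map (algebraMap E F : E →* F)
          ((Fin.cons (MilK.unitFrac A E ϖA hϖA.ne_zero) (fun i => MilK.unitToFrac A E (v i)) :
            Fin (n + 1) → Eˣ) i)) =
          Function.update (Fin.cons (MilK.unitFrac B F ϖB hϖB.ne_zero)
            (fun i => MilK.unitToFrac B F (Units.map (algebraMap A B : A →* B) (v i))) :
              Fin (n + 1) → Fˣ) 0
            (MilK.unitFrac B F ϖB hϖB.ne_zero ^ e' * MilK.unitToFrac B F w) := by
        funext i
        refine Fin.cases ?_ ?_ i
        · simp [hpi]
        · intro j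
          simp [hunit]
      rw [hx, Groth.Agent.H66.MilKlib.symbol_update_mul, Groth.Agent.H66.MilKlib.symbol_update_pow,
        Fin.update_cons_zero, Fin.update_cons_zero, map_add, map_nsmul,
        hdB ϖB hϖB (fun i => Units.map (algebraMap A B : A →* B) (v i))]
      have hz : dB (MilK.symbol (Fin.cons (MilK.unitToFrac B F w)
          (fun i => MilK.unitToFrac B F (Units.map (algebraMap A B : A →* B) (v i))) :
            Fin (n + 1) → Fˣ)) = 0 := by
        have h := Groth.Agent.H94.tame_unit_eq_zero B F n dB hdB
          (Fin.cons w (fun i => Units.map (algebraMap A B : A →* B) (v i)))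
        have e1 : (fun i => MilK.unitToFrac B F
            ((Fin.cons w (fun i => Units.map (algebraMap A B : A →* B) (v i)) : Fin (n + 1) → Bˣ) i)) =
            (Fin.cons (MilK.unitToFrac B F w)
              (fun i => MilK.unitToFrac B F (Units.map (algebraMap A B : A →* B) (v i))) :
                Fin (n + 1) → Fˣ) := by
          funext i
          refine Fin.cases ?_ ?_ i
          · simp
          · intro j; simp
        rw [e1] at h
        exact h
      rw [hz, add_zero]
      simp only [hres]
  have := DFunLike.congr_fun key x
  exact this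

end Groth.Agent.S19013
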