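import Groth.Statements.S19014
import Groth.Agent.H94.MilK

set_option autoImplicit false
universe u v
open MilnorK

namespace Groth.Agent.S19014

/-- Let B be a discrete valuation ring with fraction field F and residue field κ, and let E be a field
equipped with a ring homomorphism into B, hence into F, so that the valuation of F is trivial on E.
If ∂ : K_{n+1}(F) → K_n(κ) is the residue map (tame symbol) on Milnor K-groups, then ∂(x_F) = 0 for
every x in K_{n+1}(E). (The published statement concerns discrete valuations of geometric type on
fields finitely generated over a base field; it is stated here for an arbitrary discrete valuation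
ring, which is all the printed computation uses.) -/
theorem result
    (B : Type u) [CommRing B] [IsDomain B] [IsDiscreteValuationRing B]
    (E F : Type v) [Field E] [Field F] [Algebra B F] [IsFractionRing B F]
    [Algebra E B] [Algebra E F] [IsScalarTower E B F]
    (n : ℕ) (d : MilK.K F (n + 1) →+ MilK.K (IsLocalRing.ResidueField B) n) (hd : MilK.IsTameSymbol B F n d)
    (x : MilK.K E (n + 1)) :
    d (MilK.map (algebraMap E F) (n + 1) x) = 0 := by
  have key : ∀ e : Fin (n + 1) → Eˣ,
      (d.comp (MilK.map (algebraMap E F) (n + 1))) (MilK.symbol e) = 0 := by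
    intro e
    rw [AddMonoidHom.comp_apply, MilK.map_symbol]
    let v : Fin (n + 1) → Bˣ := fun i => Units.map (algebraMap E B : E →* B) (e i)
    have hv : (fun i => Units.map (algebraMap E F : E →* F) (e i)) =
        (Fin.cons (MilK.unitToFrac B F (v 0)) (fun i => MilK.unitToFrac B F (v i.succ)) :
          Fin (n + 1) → Fˣ) := by
      funext i
      have h1 : ∀ j, Units.map (algebraMap E F : E →* F) (e j) = MilK.unitToFrac B F (v j) := by
        intro j
        apply Units.ext
        change algebraMap E F (e j) = algebraMap B F (algebraMap E B (e j))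
        rw [← IsScalarTower.algebraMap_apply]
      refine Fin.cases ?_ ?_ i
      · simp [h1]
      · intro j; simp [h1]
    rw [hv]
    obtain ⟨ϖ, hϖ⟩ := IsDiscreteValuationRing.exists_irreducible B
    have hϖ' : Irreducible (ϖ * (v 0 : B)) := (irreducible_mul_units (v 0)).mpr hϖ
    have h1 := hd ϖ hϖ (fun i => v i.succ)
    have h2 := hd (ϖ * (v 0 : B)) hϖ' (fun i => v i.succ)
    have h3 : MilK.unitFrac B F (ϖ * (v 0 : B)) hϖ'.ne_zero =
        MilK.unitFrac B F ϖ hϖ.ne_zero * MilK.unitToFrac B F (v 0) := by
      apply Units.ext
      simp [MilK.unitToFrac]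
    rw [h3, Groth.Agent.H94.symbol_cons_mul, map_add, h1] at h2
    exact add_eq_left.mp h2
  exact Groth.Agent.H94.hom_apply_eq_zero_of_symbol _ key x

end Groth.Agent.S19014
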