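import Groth.Statements.S19016
import Groth.Agent.H94.MilKDVR

set_option autoImplicit false
universe u v
open MilnorK

namespace Groth.Agent.S19016

/-- Let B be a discrete valuation ring with fraction field F and residue field κ, let u be a unit of B
with residue class ū, and let ∂ denote the residue maps (tame symbols) K_{n+1}(F) → K_n(κ) and
K_{n+2}(F) → K_{n+1}(κ) on Milnor K-groups. Then ∂({u} · ρ) = −{ū} · ∂(ρ) for every ρ in K_{n+1}(F),
the products {u} · ρ in K_{1+(n+1)}(F) and {ū} · ∂ρ in K_{1+n}(κ) being regarded in K_{n+2}(F) and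
K_{n+1}(κ). (The published statement concerns discrete valuations of geometric type on fields
finitely generated over a base field; it is stated here for an arbitrary discrete valuation ring,
which is all the printed computation uses.) -/
theorem result
    (B : Type u) [CommRing B] [IsDomain B] [IsDiscreteValuationRing B]
    (F : Type v) [Field F] [Algebra B F] [IsFractionRing B F] (n : ℕ)
    (d : MilK.K F (n + 1) →+ MilK.K (IsLocalRing.ResidueField B) n) (hd : MilK.IsTameSymbol B F n d)
    (d' : MilK.K F (n + 1 + 1) →+ MilK.K (IsLocalRing.ResidueField B) (n + 1))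
    (hd' : MilK.IsTameSymbol B F (n + 1) d')
    (u : Bˣ) (ρ : MilK.K F (n + 1)) :
    d' (MilK.cast F (Nat.add_comm 1 (n + 1)) (MilK.mul F 1 (n + 1) (MilK.symbol ![MilK.unitToFrac B F u]) ρ)) =
      -(MilK.cast (IsLocalRing.ResidueField B) (Nat.add_comm 1 n)
          (MilK.mul (IsLocalRing.ResidueField B) 1 n (MilK.symbol ![MilK.unitResidue B u]) (d ρ))) := by
  obtain ⟨ϖ, hϖ⟩ := IsDiscreteValuationRing.exists_irreducible B
  have hcons : ∀ {m : ℕ} (a : Bˣ) (w : Fin m → Bˣ),
      (fun i => MilK.unitToFrac B F ((Fin.cons a w : Fin (m + 1) → Bˣ) i)) =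
        (Fin.cons (MilK.unitToFrac B F a) (fun i => MilK.unitToFrac B F (w i)) : Fin (m + 1) → Fˣ) := by
    intro m a w
    funext i
    refine Fin.cases ?_ ?_ i
    · simp
    · intro j; simp
  have hconsR : ∀ {m : ℕ} (a : Bˣ) (w : Fin m → Bˣ),
      (fun i => MilK.unitResidue B ((Fin.cons a w : Fin (m + 1) → Bˣ) i)) =
        (Fin.cons (MilK.unitResidue B a) (fun i => MilK.unitResidue B (w i)) :
          Fin (m + 1) → (IsLocalRing.ResidueField B)ˣ) := by
    intro m a w
    funext i
    refine Fin.cases ?_ ?_ i
    · simp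
    · intro j; simp
  have key : d'.comp (Groth.Agent.H94.consHom F (n + 1) (MilK.unitToFrac B F u)) =
      -((Groth.Agent.H94.consHom (IsLocalRing.ResidueField B) n (MilK.unitResidue B u)).comp d) := by
    apply Groth.Agent.H94.hom_ext_gen B F ϖ hϖ n
    · intro v
      rw [AddMonoidHom.comp_apply, Groth.Agent.H94.consHom_symbol, AddMonoidHom.neg_apply,
        AddMonoidHom.comp_apply, Groth.Agent.H94.tame_unit_eq_zero B F n d hd v, map_zero, neg_zero,
        ← hcons u v]
      exact Groth.Agent.H94.tame_unit_eq_zero B F (n + 1) d' hd' _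
    · intro v
      rw [AddMonoidHom.comp_apply, Groth.Agent.H94.consHom_symbol, AddMonoidHom.neg_apply,
        AddMonoidHom.comp_apply, hd ϖ hϖ v, Groth.Agent.H94.consHom_symbol]
      -- swap the first two slots
      have hswap := Groth.Agent.H66.MilKlib.symbol_comp_swap
        (Fin.cons (MilK.unitFrac B F ϖ hϖ.ne_zero)
          (Fin.cons (MilK.unitToFrac B F u) (fun i => MilK.unitToFrac B F (v i)) : Fin (n + 1) → Fˣ) :
          Fin (n + 1 + 1) → Fˣ) 0 1 (by simp)
      have hx : ((Fin.cons (MilK.unitFrac B F ϖ hϖ.ne_zero)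
          (Fin.cons (MilK.unitToFrac B F u) (fun i => MilK.unitToFrac B F (v i)) : Fin (n + 1) → Fˣ) :
          Fin (n + 1 + 1) → Fˣ) ∘ Equiv.swap 0 1) =
          (Fin.cons (MilK.unitToFrac B F u)
            (Fin.cons (MilK.unitFrac B F ϖ hϖ.ne_zero) (fun i => MilK.unitToFrac B F (v i)) :
              Fin (n + 1) → Fˣ) : Fin (n + 1 + 1) → Fˣ) := by
        funext i
        refine Fin.cases ?_ ?_ i
        · simp
        · intro j
          refine Fin.cases ?_ ?_ j
          · simp
          · intro l
            have h1 : (Equiv.swap (0 : Fin (n + 1 + 1)) 1) l.succ.succ = l.succ.succ := by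
              apply Equiv.swap_apply_of_ne_of_ne
              · exact Fin.succ_ne_zero _
              · intro h
                have h' := congrArg Fin.val h
                simp at h'
            rw [Function.comp_apply, h1]
            simp
      rw [hx] at hswap
      rw [hswap, map_neg, ← hcons u v, hd' ϖ hϖ (Fin.cons u v), hconsR u v]
  have := DFunLike.congr_fun key ρ
  exact this

end Groth.Agent.S19016
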