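import Groth.Statements.S19018
import Mathlib.RingTheory.Kaehler.Basic
import Mathlib.Tactic

set_option autoImplicit false
universe u
open TensorProduct
open SymTen

namespace Groth.Agent.S19018


section SymPow
open Pointwise

/-- Invariants of the fourth power of an ideal generated by anti-invariant elements. -/
theorem sym_pow_four {k T : Type*} [Field k] [NeZero (2 : k)] [CommRing T] [Algebra k T]
    (σ : T →ₐ[k] T) (hσ : ∀ t, σ (σ t) = t) (D : Set T) (hD : ∀ d ∈ D, σ d = -d) :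
    Ideal.comap (AlgHom.equalizer σ (AlgHom.id k T)).val (Ideal.span D ^ 4) ≤
      (Ideal.comap (AlgHom.equalizer σ (AlgHom.id k T)).val (Ideal.span D ^ 2)) ^ 2 := by
  classical
  have h2 : (2 : k) ≠ 0 := NeZero.ne 2
  have hI2 : Ideal.span D ^ 2 = Ideal.span (D * D) := by
    rw [pow_two, Ideal.span_mul_span']
  have hI4 : Ideal.span D ^ 4 = Ideal.span ((D * D) * (D * D)) := by
    have h4 : (4 : ℕ) = 2 * 2 := rfl
    rw [h4, pow_mul, hI2, pow_two, Ideal.span_mul_span']
  -- the Reynolds operator lands in the invariants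
  have hρ : ∀ t : T, (2 : k)⁻¹ • (t + σ t) ∈ AlgHom.equalizer σ (AlgHom.id k T) := by
    intro t
    rw [AlgHom.mem_equalizer, AlgHom.id_apply, map_smul, map_add, hσ, add_comm]
  -- products of two generators are invariant and lie in the square
  have hm : ∀ d1 ∈ D, ∀ d2 ∈ D, σ (d1 * d2) = d1 * d2 := by
    intro d1 h1 d2 h2'
    rw [map_mul, hD d1 h1, hD d2 h2', neg_mul_neg]
  have key : ∀ x ∈ Ideal.span ((D * D) * (D * D)), ∀ t : T,
      ∃ u : AlgHom.equalizer σ (AlgHom.id k T),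
        u ∈ (Ideal.comap (AlgHom.equalizer σ (AlgHom.id k T)).val (Ideal.span D ^ 2)) ^ 2 ∧
        (u : T) = (2 : k)⁻¹ • (t * x + σ (t * x)) := by
    intro x hx
    refine Submodule.span_induction (p := fun x _ => ∀ t : T,
      ∃ u : AlgHom.equalizer σ (AlgHom.id k T),
        u ∈ (Ideal.comap (AlgHom.equalizer σ (AlgHom.id k T)).val (Ideal.span D ^ 2)) ^ 2 ∧
        (u : T) = (2 : k)⁻¹ • (t * x + σ (t * x))) ?_ ?_ ?_ ?_ hx
    · rintro g ⟨m, ⟨d1, hd1, d2, hd2, rfl⟩, m', ⟨d3, hd3, d4, hd4, rfl⟩, rfl⟩ t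
      have e1 := hm d1 hd1 d2 hd2
      have e2 := hm d3 hd3 d4 hd4
      have hm1 : d1 * d2 ∈ AlgHom.equalizer σ (AlgHom.id k T) := by
        rw [AlgHom.mem_equalizer, AlgHom.id_apply]; exact e1
      have hm2 : d3 * d4 ∈ AlgHom.equalizer σ (AlgHom.id k T) := by
        rw [AlgHom.mem_equalizer, AlgHom.id_apply]; exact e2
      have hJ1 : (⟨d1 * d2, hm1⟩ : AlgHom.equalizer σ (AlgHom.id k T)) ∈
          Ideal.comap (AlgHom.equalizer σ (AlgHom.id k T)).val (Ideal.span D ^ 2) := by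
        rw [Ideal.mem_comap, pow_two]
        exact Ideal.mul_mem_mul (Ideal.subset_span hd1) (Ideal.subset_span hd2)
      have hJ2 : (⟨d3 * d4, hm2⟩ : AlgHom.equalizer σ (AlgHom.id k T)) ∈
          Ideal.comap (AlgHom.equalizer σ (AlgHom.id k T)).val (Ideal.span D ^ 2) := by
        rw [Ideal.mem_comap, pow_two]
        exact Ideal.mul_mem_mul (Ideal.subset_span hd3) (Ideal.subset_span hd4)
      refine ⟨⟨(2 : k)⁻¹ • (t + σ t), hρ t⟩ * (⟨d1 * d2, hm1⟩ * ⟨d3 * d4, hm2⟩), ?_, ?_⟩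
      · refine Ideal.mul_mem_left _ _ ?_
        rw [pow_two]
        exact Ideal.mul_mem_mul hJ1 hJ2
      · show (2 : k)⁻¹ • (t + σ t) * (d1 * d2 * (d3 * d4)) =
          (2 : k)⁻¹ • (t * (d1 * d2 * (d3 * d4)) + σ (t * (d1 * d2 * (d3 * d4))))
        rw [map_mul σ t, map_mul σ (d1 * d2), e1, e2, smul_mul_assoc, add_mul]
    · intro t
      exact ⟨0, Ideal.zero_mem _, by simp⟩
    · intro x y _ _ hx hy t
      obtain ⟨u, hu, hu'⟩ := hx t
      obtain ⟨v, hv, hv'⟩ := hy t
      refine ⟨u + v, Ideal.add_mem _ hu hv, ?_⟩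
      show (u : T) + (v : T) = _
      rw [hu', hv', ← smul_add, mul_add, map_add]
      congr 1
      abel
    · intro a x _ hx t
      obtain ⟨u, hu, hu'⟩ := hx (t * a)
      refine ⟨u, hu, ?_⟩
      rw [hu', smul_eq_mul, mul_assoc]
  intro s hs
  rw [Ideal.mem_comap, hI4] at hs
  obtain ⟨u, hu, hu'⟩ := key _ hs 1
  have hs' : σ (s : T) = (s : T) := by
    have := s.2
    rwa [AlgHom.mem_equalizer, AlgHom.id_apply] at this
  have hus : u = s := by
    apply Subtype.ext
    rw [hu']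
    show (2 : k)⁻¹ • (1 * (s : T) + σ (1 * (s : T))) = (s : T)
    rw [one_mul, hs', ← two_smul k (s : T), smul_smul, inv_mul_cancel₀ h2, one_smul]
  rw [← hus]
  exact hu

end SymPow

/-- Suppose k is a field in which 2 ≠ 0 and R is a commutative k-algebra. Write I for the ideal of the
diagonal, i.e. the kernel of multiplication R ⊗_k R → R, and write S for the subalgebra of R ⊗_k R
consisting of elements invariant under interchanging the two tensor factors. Then, viewed as ideals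
of S, the swap-invariant elements of I^4 form precisely the square of the ideal of swap-invariant
elements of I^2. (The source is stated over the complex numbers; the proof needs only that 2 is
invertible.) -/
theorem result
    (k R : Type u) [Field k] [NeZero (2 : k)] [CommRing R] [Algebra k R] :
    Ideal.comap
        (AlgHom.equalizer ((Algebra.TensorProduct.comm k R R : R ⊗[k] R ≃ₐ[k] R ⊗[k] R) : R ⊗[k] R →ₐ[k] R ⊗[k] R)
          (AlgHom.id k (R ⊗[k] R))).val
        (KaehlerDifferential.ideal k R ^ 4) =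
      (Ideal.comap
        (AlgHom.equalizer ((Algebra.TensorProduct.comm k R R : R ⊗[k] R ≃ₐ[k] R ⊗[k] R) : R ⊗[k] R →ₐ[k] R ⊗[k] R)
          (AlgHom.id k (R ⊗[k] R))).val
        (KaehlerDifferential.ideal k R ^ 2)) ^ 2 := by
  classical
  refine le_antisymm ?_ ?_
  · have hσ : ∀ t : R ⊗[k] R,
        ((Algebra.TensorProduct.comm k R R : R ⊗[k] R ≃ₐ[k] R ⊗[k] R) : R ⊗[k] R →ₐ[k] R ⊗[k] R)
          (((Algebra.TensorProduct.comm k R R : R ⊗[k] R ≃ₐ[k] R ⊗[k] R) : R ⊗[k] R →ₐ[k] R ⊗[k] R) t) = t := by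
      intro t
      show (Algebra.TensorProduct.comm k R R) ((Algebra.TensorProduct.comm k R R) t) = t
      induction t using TensorProduct.induction_on with
      | zero => simp
      | tmul a b => simp
      | add x y hx hy => rw [map_add, map_add, hx, hy]
    have hD : ∀ d ∈ Set.range (fun s : R => (1 : R) ⊗ₜ[k] s - s ⊗ₜ[k] (1 : R)),
        ((Algebra.TensorProduct.comm k R R : R ⊗[k] R ≃ₐ[k] R ⊗[k] R) : R ⊗[k] R →ₐ[k] R ⊗[k] R) d = -d := by
      rintro _ ⟨a, rfl⟩
      show (Algebra.TensorProduct.comm k R R) ((1 : R) ⊗ₜ[k] a - a ⊗ₜ[k] (1 : R)) = _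
      simp
    have h := sym_pow_four
      ((Algebra.TensorProduct.comm k R R : R ⊗[k] R ≃ₐ[k] R ⊗[k] R) : R ⊗[k] R →ₐ[k] R ⊗[k] R) hσ _ hD
    rw [KaehlerDifferential.span_range_eq_ideal] at h
    exact h
  · have h4 : (KaehlerDifferential.ideal k R ^ 2) ^ 2 = KaehlerDifferential.ideal k R ^ 4 := by
      rw [← pow_mul]
    refine (Ideal.le_comap_pow _ 2).trans (le_of_eq ?_)
    rw [h4]

end Groth.Agent.S19018
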