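import Groth.Statements.S19019
import Mathlib.Analysis.SpecialFunctions.Integrals.Basic
import Mathlib.MeasureTheory.Integral.IntervalIntegral.Basic
import Mathlib.MeasureTheory.Measure.Lebesgue.Basic
import Mathlib.Analysis.Complex.Order
import Mathlib.Tactic.Ring
import Mathlib.Tactic.FieldSimp
import Mathlib.Tactic.Linarith

set_option autoImplicit false
open scoped ComplexOrder
open Toeplitz

namespace Groth.Agent.S19019


open MeasureTheory Complex ComplexConjugate Matrix

lemma orth (n : ℤ) :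
    ∫ y in (0:ℝ)..2 * Real.pi, exp (I * n * y) = if n = 0 then (2 * Real.pi : ℂ) else 0 := by
  split_ifs with h
  · subst h; simp
  · have hc : I * (n : ℂ) ≠ 0 := mul_ne_zero I_ne_zero (Int.cast_ne_zero.mpr h)
    rw [integral_exp_mul_complex hc]
    have h1 : exp (I * n * (2 * (Real.pi : ℂ))) = 1 := by
      have := exp_int_mul_two_pi_mul_I n
      convert this using 2
      ring
    simp [h1]

/-- Fourier coefficient of a trigonometric polynomial -/
lemma coef (s : Finset ℤ) (t : ℤ → ℂ) (k : ℤ) (hk : k ∈ s) :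
    ∫ y in (0:ℝ)..2 * Real.pi, (∑ l ∈ s, t l * exp (I * (l : ℂ) * (y : ℂ))) * exp (-(I * (k : ℂ) * (y : ℂ))) =
      2 * Real.pi * t k := by
  have h1 : ∀ y : ℝ, (∑ l ∈ s, t l * exp (I * (l : ℂ) * (y : ℂ))) * exp (-(I * (k : ℂ) * (y : ℂ))) =
      ∑ l ∈ s, t l * exp (I * ((l - k : ℤ) : ℂ) * (y : ℂ)) := by
    intro y
    rw [Finset.sum_mul]
    apply Finset.sum_congr rfl
    intro l _
    rw [mul_assoc, ← Complex.exp_add]
    congr 2
    push_cast; ring
  simp_rw [h1]
  rw [intervalIntegral.integral_finsetSum]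
  · simp_rw [intervalIntegral.integral_const_mul, orth]
    rw [Finset.sum_eq_single k]
    · simp [mul_comm]
    · intro l _ hl
      rw [if_neg (sub_ne_zero.mpr hl), mul_zero]
    · intro h; exact absurd hk h
  · intro l _
    apply Continuous.intervalIntegrable
    fun_prop

/-- the key identity: the quadratic form of a Toeplitz matrix as an integral against its symbol -/
lemma quad_form (m : ℕ) (t : ℤ → ℂ) (x : Fin m → ℂ) :
    ∫ y in (0:ℝ)..2 * Real.pi,
      (∑ k ∈ Finset.Ioo (-(m : ℤ)) (m : ℤ), t k * exp (I * (k : ℂ) * (y : ℂ))) *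
        ((normSq (∑ j : Fin m, x j * exp (-(I * (((j : ℕ) : ℤ) : ℂ) * (y : ℂ)))) : ℝ) : ℂ) =
    2 * Real.pi * ∑ i : Fin m, ∑ j : Fin m,
      conj (x i) * t (((j : ℕ) : ℤ) - ((i : ℕ) : ℤ)) * x j := by
  have hmem : ∀ i j : Fin m, (((j : ℕ) : ℤ) - ((i : ℕ) : ℤ)) ∈ Finset.Ioo (-(m : ℤ)) (m : ℤ) := by
    intro i j
    rw [Finset.mem_Ioo]
    have hi := i.2
    have hj := j.2
    constructor <;> omega
  have h1 : ∀ y : ℝ, (∑ k ∈ Finset.Ioo (-(m : ℤ)) (m : ℤ), t k * exp (I * (k : ℂ) * (y : ℂ))) *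
        ((normSq (∑ j : Fin m, x j * exp (-(I * (((j : ℕ) : ℤ) : ℂ) * (y : ℂ)))) : ℝ) : ℂ) =
      ∑ i : Fin m, ∑ j : Fin m, (conj (x i) * x j) *
        ((∑ k ∈ Finset.Ioo (-(m : ℤ)) (m : ℤ), t k * exp (I * (k : ℂ) * (y : ℂ))) *
         exp (-(I * ((((j : ℕ) : ℤ) - ((i : ℕ) : ℤ) : ℤ) : ℂ) * (y : ℂ)))) := by
    intro y
    rw [normSq_eq_conj_mul_self, map_sum, Finset.sum_mul_sum, Finset.mul_sum]
    apply Finset.sum_congr rfl
    intro i _
    rw [Finset.mul_sum]
    apply Finset.sum_congr rfl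
    intro j _
    have hc : conj (-(I * (((i : ℕ) : ℤ) : ℂ) * (y : ℂ))) = I * (((i : ℕ) : ℤ) : ℂ) * (y : ℂ) := by
      simp
    have e : exp (-(I * ((((j : ℕ) : ℤ) - ((i : ℕ) : ℤ) : ℤ) : ℂ) * (y : ℂ))) =
        exp (I * (((i : ℕ) : ℤ) : ℂ) * (y : ℂ)) * exp (-(I * (((j : ℕ) : ℤ) : ℂ) * (y : ℂ))) := by
      rw [← Complex.exp_add]
      congr 1
      push_cast
      ring
    rw [map_mul, ← Complex.exp_conj, hc, e]
    ring
  simp_rw [h1]
  rw [intervalIntegral.integral_finsetSum]
  · conv_rhs => rw [Finset.mul_sum]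
    apply Finset.sum_congr rfl
    intro i _
    rw [intervalIntegral.integral_finsetSum]
    · conv_rhs => rw [Finset.mul_sum]
      apply Finset.sum_congr rfl
      intro j _
      rw [intervalIntegral.integral_const_mul, coef _ t _ (hmem i j)]
      ring
    · intro j _
      apply Continuous.intervalIntegrable
      fun_prop
  · intro i _
    apply Continuous.intervalIntegrable
    fun_prop

lemma norm_int (m : ℕ) (x : Fin m → ℂ) (hm : 0 < m) :
    ∫ y in (0:ℝ)..2 * Real.pi,
      normSq (∑ j : Fin m, x j * exp (-(I * (((j : ℕ) : ℤ) : ℂ) * (y : ℂ)))) =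
    2 * Real.pi * ∑ i : Fin m, normSq (x i) := by
  have h : ∫ y in (0:ℝ)..2 * Real.pi,
      (∑ k ∈ Finset.Ioo (-(m : ℤ)) (m : ℤ),
        (if k = 0 then (1:ℂ) else 0) * exp (I * (k : ℂ) * (y : ℂ))) *
        ((normSq (∑ j : Fin m, x j * exp (-(I * (((j : ℕ) : ℤ) : ℂ) * (y : ℂ)))) : ℝ) : ℂ) =
    2 * Real.pi * ∑ i : Fin m, ∑ j : Fin m,
      conj (x i) * (if ((j : ℕ) : ℤ) - ((i : ℕ) : ℤ) = 0 then (1:ℂ) else 0) * x j :=
    quad_form m (fun k => if k = 0 then 1 else 0) x
  have hL : ∀ y : ℝ, (∑ k ∈ Finset.Ioo (-(m : ℤ)) (m : ℤ),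
      (if k = 0 then (1:ℂ) else 0) * exp (I * (k : ℂ) * (y : ℂ))) = 1 := by
    intro y
    rw [Finset.sum_eq_single (0:ℤ)]
    · simp
    · intro k _ hk
      rw [if_neg hk, zero_mul]
    · intro h0
      exfalso
      apply h0
      rw [Finset.mem_Ioo]
      constructor <;> omega
  have hR : ∀ i : Fin m, ∑ j : Fin m, conj (x i) *
      (if ((j : ℕ) : ℤ) - ((i : ℕ) : ℤ) = 0 then (1:ℂ) else 0) * x j =
      ((normSq (x i) : ℝ) : ℂ) := by
    intro i
    rw [Finset.sum_eq_single i]
    · rw [sub_self, if_pos rfl, mul_one, normSq_eq_conj_mul_self]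
    · intro j _ hj
      have hne : (((j : ℕ) : ℤ) - ((i : ℕ) : ℤ)) ≠ 0 := by
        intro h0
        apply hj
        apply Fin.ext
        omega
      rw [if_neg hne, mul_zero, zero_mul]
    · intro h0
      exact absurd (Finset.mem_univ i) h0
  simp_rw [hL, one_mul, hR] at h
  rw [intervalIntegral.integral_ofReal, ← ofReal_sum] at h
  exact_mod_cast h

/-- Let A be an m × m complex Hermitian Toeplitz matrix, with entries A i j = t (j - i) constant along
diagonals, and let f(y) = Σ_{-m < k < m} t k · exp(i k y) be the trigonometric polynomial attached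
to it. If f has positive real part at every real y outside a countable set, then A is positive
definite (hence nondegenerate). (The source also states the mirror case: f negative off a countable
set gives A negative definite, which is this statement for -A.) -/
theorem result
    (m : ℕ) (t : ℤ → ℂ) (A : Matrix (Fin m) (Fin m) ℂ)
    (hA : ∀ i j : Fin m, A i j = t ((j : ℤ) - (i : ℤ))) (hH : A.IsHermitian)
    (hpos : Set.Countable {y : ℝ | ¬ 0 < (∑ k ∈ Finset.Ioo (-(m : ℤ)) (m : ℤ),
        t k * Complex.exp (Complex.I * (k : ℂ) * (y : ℂ))).re}) :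
    A.PosDef := by
  classical
  refine Matrix.PosDef.of_dotProduct_mulVec_pos hH ?_
  intro x hx
  have hm : 0 < m := by
    rcases Nat.eq_zero_or_pos m with h | h
    · exfalso
      apply hx
      funext i
      subst h
      exact i.elim0
    · exact h
  have hQ : star x ⬝ᵥ (A *ᵥ x) = ∑ i : Fin m, ∑ j : Fin m,
      conj (x i) * t (((j : ℕ) : ℤ) - ((i : ℕ) : ℤ)) * x j := by
    simp only [dotProduct, Matrix.mulVec, Pi.star_apply, Finset.mul_sum]
    apply Finset.sum_congr rfl
    intro i _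
    apply Finset.sum_congr rfl
    intro j _
    rw [hA, starRingEnd_apply, mul_assoc]
  have hQreal : conj (star x ⬝ᵥ (A *ᵥ x)) = star x ⬝ᵥ (A *ᵥ x) := by
    rw [starRingEnd_apply]
    conv_rhs => rw [Matrix.star_dotProduct, Matrix.star_mulVec, ← Matrix.dotProduct_mulVec, hH.eq]
  set Q := star x ⬝ᵥ (A *ᵥ x) with hQdef
  set F : ℝ → ℂ := fun y => ∑ k ∈ Finset.Ioo (-(m : ℤ)) (m : ℤ),
    t k * exp (I * (k : ℂ) * (y : ℂ)) with hF
  set q : ℝ → ℂ := fun y => ∑ j : Fin m, x j * exp (-(I * (((j : ℕ) : ℤ) : ℂ) * (y : ℂ))) with hq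
  set N : ℝ → ℝ := fun y => normSq (q y) with hN
  have hFc : Continuous F := by
    rw [hF]
    fun_prop
  have hqc : Continuous q := by
    rw [hq]
    fun_prop
  have hNc : Continuous N := continuous_normSq.comp hqc
  have hN0 : ∀ y, 0 ≤ N y := fun y => normSq_nonneg _
  have h1 : ∫ y in (0:ℝ)..2 * Real.pi, F y * ((N y : ℝ) : ℂ) = 2 * Real.pi * Q := by
    rw [hQ]
    exact quad_form m t x
  have h2 : ∫ y in (0:ℝ)..2 * Real.pi, N y = 2 * Real.pi * ∑ i : Fin m, normSq (x i) :=
    norm_int m x hm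
  have hsum_pos : 0 < ∑ i : Fin m, normSq (x i) := by
    obtain ⟨i, hi⟩ := Function.ne_iff.mp hx
    calc 0 < normSq (x i) := normSq_pos.mpr hi
      _ ≤ ∑ i : Fin m, normSq (x i) :=
        Finset.single_le_sum (f := fun i => normSq (x i)) (fun j _ => normSq_nonneg _)
          (Finset.mem_univ i)
  have hNint_pos : 0 < ∫ y in (0:ℝ)..2 * Real.pi, N y := by
    rw [h2]
    exact mul_pos Real.two_pi_pos hsum_pos
  have hab : (0:ℝ) ≤ 2 * Real.pi := Real.two_pi_pos.le
  have hre : (2 * Real.pi) * Q.re = ∫ y in (0:ℝ)..2 * Real.pi, (F y).re * N y := by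
    have hint : IntervalIntegrable (fun y => F y * ((N y : ℝ) : ℂ)) volume 0 (2 * Real.pi) :=
      (hFc.mul (continuous_ofReal.comp hNc)).intervalIntegrable _ _
    have h3 := Complex.reCLM.intervalIntegral_comp_comm hint
    simp only [Complex.reCLM_apply, Complex.re_mul_ofReal] at h3
    rw [h1] at h3
    rw [h3]
    have hc : ((2 * Real.pi : ℝ) : ℂ) = 2 * (Real.pi : ℂ) := by
      push_cast
      rfl
    rw [← hc, Complex.re_ofReal_mul]
  have hae : ∀ᵐ y ∂(volume : Measure ℝ), 0 < (F y).re := by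
    have h0 := hpos.ae_notMem (volume : Measure ℝ)
    filter_upwards [h0] with y hy
    by_contra hcon
    exact hy hcon
  have hg_nonneg : 0 ≤ᵐ[volume] fun y => (F y).re * N y := by
    filter_upwards [hae] with y hy
    exact mul_nonneg hy.le (hN0 y)
  have hgpos : 0 < ∫ y in (0:ℝ)..2 * Real.pi, (F y).re * N y := by
    have hgi : IntervalIntegrable (fun y => (F y).re * N y) volume 0 (2 * Real.pi) :=
      ((continuous_re.comp hFc).mul hNc).intervalIntegrable _ _
    have hNi : IntervalIntegrable N volume 0 (2 * Real.pi) := hNc.intervalIntegrable _ _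
    have h0 := intervalIntegral.integral_nonneg_of_ae (μ := volume) hab hg_nonneg
    rcases h0.lt_or_eq with h | h
    · exact h
    · exfalso
      have hz := (intervalIntegral.integral_eq_zero_iff_of_nonneg_ae
        (ae_restrict_of_ae hg_nonneg) hgi).mp h.symm
      have hNz : N =ᵐ[volume.restrict
          (Set.Ioc 0 (2 * Real.pi) ∪ Set.Ioc (2 * Real.pi) 0)] 0 := by
        filter_upwards [hz, ae_restrict_of_ae hae] with y hy1 hy2
        have h5 : (F y).re * N y = 0 := hy1
        rcases mul_eq_zero.mp h5 with h' | h'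
        · exact absurd h' hy2.ne'
        · exact h'
      have h6 := (intervalIntegral.integral_eq_zero_iff_of_nonneg_ae
        (ae_restrict_of_ae (Filter.Eventually.of_forall hN0)) hNi).mpr hNz
      exact hNint_pos.ne' h6
  rw [Complex.pos_iff]
  refine ⟨?_, ?_⟩
  · have h7 : 0 < 2 * Real.pi * Q.re := by
      rw [hre]
      exact hgpos
    exact (mul_pos_iff_of_pos_left Real.two_pi_pos).mp h7
  · exact (Complex.conj_eq_iff_im.mp hQreal).symm

end Groth.Agent.S19019
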