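import Groth.Statements.S19020
import Groth.Agent.H94.Toeplitz
import Mathlib.Algebra.Order.Star.Real

set_option autoImplicit false
open Toeplitz

namespace Groth.Agent.S19020

/-- For natural numbers n and m, the m × m real Toeplitz matrix with (i, j) entry (-1)^(i+j) · C(2n, n +
|i - j|), i.e. with t_k = (-1)^k C(2n, n + k) on the k-th diagonal for |k| ≤ n and zero beyond, is
positive definite; in particular it is nondegenerate, which is the printed assertion (positive
definiteness is what the printed proof establishes; m = 0 is the empty matrix). -/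
theorem result (n m : ℕ) :
    (Matrix.of fun i j : Fin m =>
        (-1 : ℝ) ^ ((i : ℕ) + (j : ℕ)) * (Nat.choose (2 * n) (n + Nat.dist i j) : ℝ)).PosDef := by
  classical
  let V : Matrix (Fin m) (Fin (m + n)) ℝ := Matrix.of fun i k => H94.W n i k
  have hV : (Matrix.of fun i j : Fin m =>
        (-1 : ℝ) ^ ((i : ℕ) + (j : ℕ)) * (Nat.choose (2 * n) (n + Nat.dist i j) : ℝ)) =
      V * V.conjTranspose := by
    ext i j
    simp only [Matrix.mul_apply, Matrix.conjTranspose_apply, Matrix.of_apply, star_trivial, V]
    rw [Fin.sum_univ_eq_sum_range (fun k => H94.W n i k * H94.W n j k) (m + n)]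
    rcases le_total (i : ℕ) (j : ℕ) with h | h
    · rw [H94.gram n i j (m + n) h (by omega), Nat.dist_eq_sub_of_le h]
    · rw [Finset.sum_congr rfl (fun k _ => mul_comm (H94.W n i k) (H94.W n j k)),
        H94.gram n j i (m + n) h (by omega), Nat.dist_comm, Nat.dist_eq_sub_of_le h, add_comm (j : ℕ)]
  rw [hV]
  apply Matrix.PosDef.mul_conjTranspose_self
  have hker : ∀ z : Fin m → ℝ, Matrix.vecMul z V = 0 → z = 0 := by
    intro z hzV
    have hz : ∀ (N : ℕ) (i : Fin m), (i : ℕ) = N → z i = 0 := by
      intro N
      induction N using Nat.strong_induction_on with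
      | _ N ih =>
        intro i hi
        have h1 := congrFun hzV (Fin.castAdd n i)
        simp only [Matrix.vecMul, dotProduct, Matrix.of_apply, V, Pi.zero_apply,
          Fin.val_castAdd] at h1
        rw [Finset.sum_eq_single i] at h1
        · rwa [H94.W_self, mul_one] at h1
        · intro j _ hji
          rcases lt_or_gt_of_ne (Fin.val_ne_of_ne hji) with h | h
          · rw [ih j (by omega) j rfl, zero_mul]
          · rw [H94.W_of_lt n j i h, mul_zero]
        · intro h; exact absurd (Finset.mem_univ i) h
    funext i
    exact hz i i rfl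
  intro x y hxy
  have h0 : Matrix.vecMul (x - y) V = 0 := by
    have hxy' : Matrix.vecMul x V = Matrix.vecMul y V := hxy
    rw [Matrix.sub_vecMul, hxy', sub_self]
  exact sub_eq_zero.mp (hker _ h0)

end Groth.Agent.S19020
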