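import Groth.Statements.S19021
import Groth.Agent.S19020
import Mathlib.LinearAlgebra.Matrix.ToLinearEquiv
import Mathlib.Data.Nat.Choose.Central

set_option autoImplicit false
open Toeplitz

namespace Groth.Agent.S19021

theorem pascal' (n d : ℕ) :
    (2 * n + 1).choose (n + 1 + d) + (2 * n + 1).choose (n + d) = (2 * (n + 1)).choose (n + 1 + d) := by
  have h1 : 2 * (n + 1) = (2 * n + 1) + 1 := by ring
  have h2 : n + 1 + d = (n + d) + 1 := by ring
  have h3 := Nat.choose_succ_succ' (2 * n + 1) (n + d)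
  rw [h1, h2, h3, add_comm]

/-- For natural numbers n and m, the m × m integer Toeplitz matrix with (i, j) entry (-1)^(i+j) ·
C(2n+1, n+1+i-j) (the binomial coefficient being 0 outside the range 0 ≤ n+1+i-j ≤ 2n+1;
equivalently s_k = (-1)^k C(2n+1, n+k+1) on the diagonal i - j = k for -n-1 ≤ k ≤ n and zero beyond)
is nondegenerate: its determinant is nonzero (m = 0 is the empty matrix, of determinant 1). -/
theorem result (n m : ℕ) :
    (Matrix.of fun i j : Fin m =>
        (-1 : ℤ) ^ ((i : ℕ) + (j : ℕ)) *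
          (if (j : ℕ) ≤ (i : ℕ) then (Nat.choose (2 * n + 1) (n + 1 + ((i : ℕ) - (j : ℕ))) : ℤ)
            else (Nat.choose (2 * n + 1) (n + ((j : ℕ) - (i : ℕ))) : ℤ))).det ≠ 0 := by
  classical
  set A : Matrix (Fin m) (Fin m) ℤ := Matrix.of fun i j : Fin m =>
        (-1 : ℤ) ^ ((i : ℕ) + (j : ℕ)) *
          (if (j : ℕ) ≤ (i : ℕ) then (Nat.choose (2 * n + 1) (n + 1 + ((i : ℕ) - (j : ℕ))) : ℤ)
            else (Nat.choose (2 * n + 1) (n + ((j : ℕ) - (i : ℕ))) : ℤ)) with hA
  intro hdet
  let AR : Matrix (Fin m) (Fin m) ℝ := (Int.castRingHom ℝ).mapMatrix A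
  have hdetR : AR.det = 0 := by
    have := (Int.castRingHom ℝ).map_det A
    rw [hdet, map_zero] at this
    exact this.symm
  obtain ⟨v, hv0, hv⟩ := Matrix.exists_mulVec_eq_zero_iff.mpr hdetR
  have hP := Groth.Agent.S19020.result (n + 1) m
  have hsym : AR + AR.transpose = (Matrix.of fun i j : Fin m =>
      (-1 : ℝ) ^ ((i : ℕ) + (j : ℕ)) * (Nat.choose (2 * (n + 1)) (n + 1 + Nat.dist i j) : ℝ)) := by
    ext i j
    simp only [Matrix.add_apply, Matrix.transpose_apply, AR, RingHom.mapMatrix_apply,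
      Matrix.map_apply, hA, Matrix.of_apply, Int.coe_castRingHom]
    rcases lt_trichotomy (i : ℕ) (j : ℕ) with h | h | h
    · rw [if_neg (by omega), if_pos (by omega), Nat.dist_eq_sub_of_le h.le, add_comm (j : ℕ) (i : ℕ),
        ← pascal' n ((j : ℕ) - i)]
      push_cast
      ring
    · rw [if_pos (by omega), if_pos (by omega), h, Nat.dist_self, Nat.sub_self,
        ← pascal' n 0]
      push_cast
      have := Nat.choose_symm_half n
      simp only [add_zero]
      rw [this]
      ring
    · rw [if_pos (by omega), if_neg (by omega), Nat.dist_comm, Nat.dist_eq_sub_of_le h.le,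
        add_comm (j : ℕ) (i : ℕ), ← pascal' n ((i : ℕ) - j)]
      push_cast
      ring
  have hpos := hP.dotProduct_mulVec_pos hv0
  rw [← hsym, Matrix.add_mulVec, dotProduct_add, hv, dotProduct_zero, zero_add, star_trivial,
    Matrix.dotProduct_mulVec, Matrix.vecMul_transpose, hv, zero_dotProduct] at hpos
  exact lt_irrefl _ hpos

end Groth.Agent.S19021
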