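import Mathlib
import Groth.Statements.S19022
import Groth.Agent.H22.GenSection
import Groth.Agent.H18.AmpleBasis
import Groth.Agent.H41.RelTwistXf
-- import your own Groth.Agent.* helpers here

set_option autoImplicit false
universe u
open CategoryTheory AlgebraicGeometry
open PicF

namespace Groth.Agent.S19022

open CategoryTheory.Limits TopologicalSpace Opposite Groth.Agent.H8 Groth.Agent.H22.GenSection

/-- Let X be a scheme, L an invertible O_X-module and T a finite set of closed points of X that lies in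
some affine open of X. Then T lies in an affine open U of X on which L is trivial (L restricted to U
is isomorphic to the structure sheaf). (The source states this for a smooth quasi-projective complex
surface, where every finite set of points lies in an affine open, and phrases it as: X^n and the
symmetric product S^n X are covered by the opens U^n and S^n U with U affine and L trivial on U; the
printed argument uses only that the finitely many points lie in one affine open, which is taken as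
the hypothesis here.) -/
theorem result
    (X : Scheme.{u}) (L : X.Modules) (hL : PicF.IsInvertible L)
    (T : Finset X) (hT : ∀ x ∈ T, IsClosed ({x} : Set X))
    (hU : ∃ U : X.Opens, IsAffineOpen U ∧ ∀ x ∈ T, x ∈ U) :
    ∃ U : X.Opens, IsAffineOpen U ∧ (∀ x ∈ T, x ∈ U) ∧
      Nonempty (L.restrict U.ι ≅ Coh.structureModule (↑U : Scheme.{u})) := by
  classical
  obtain ⟨U₀, hU₀, hTU₀⟩ := hU
  have : L.IsQuasicoherent := Groth.Agent.H18.AmpleBasis.isQuasicoherent_of_isInvertible hL
  -- Step 2: local generators extended to `U₀`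
  have h2 : ∀ t ∈ T, ∃ (g : Γ(X, U₀)) (p : Γ(L, U₀)), t ∈ X.basicOpen g ∧
      IsGenOn L (X.basicOpen g) (L.presheaf.map (homOfLE (X.basicOpen_le g)).op p) := by
    intro t ht
    obtain ⟨Ut, htUt, ⟨e⟩⟩ := hL t
    obtain ⟨σ, hσ⟩ := exists_isGenOn L Ut e
    obtain ⟨g, hgle, htg⟩ := hU₀.exists_basicOpen_le (V := Ut) ⟨t, htUt⟩ (hTU₀ t ht)
    have hσ₁ := hσ.res hgle
    obtain ⟨n, p, hp⟩ := exists_smul_eq_res_of_qcqs L hU₀.isCompact hU₀.isQuasiSeparated g
      (L.presheaf.map (homOfLE hgle).op σ)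
    refine ⟨g, p, htg, ?_⟩
    rw [hp]
    exact hσ₁.unit_smul _ ((RingedSpace.isUnit_res_basicOpen X.toRingedSpace g).pow n)
  -- Step 3: separating functions
  have h3 : ∀ t ∈ T, ∃ a : Γ(X, U₀), t ∈ X.basicOpen a ∧ ∀ s ∈ T, s ≠ t → s ∉ X.basicOpen a := by
    intro t ht
    have hb : ∀ s ∈ T, s ≠ t → ∃ b : Γ(X, U₀), t ∈ X.basicOpen b ∧ s ∉ X.basicOpen b := by
      intro s hs hst
      obtain ⟨V, hV⟩ : ∃ V : X.Opens, (V : Set X) = ({s} : Set X)ᶜ :=
        ⟨⟨({s} : Set X)ᶜ, (hT s hs).isOpen_compl⟩, rfl⟩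
      have htV : t ∈ V := by
        change t ∈ (V : Set X)
        rw [hV]
        exact fun h => hst (Set.mem_singleton_iff.mp h).symm
      obtain ⟨b, hbV, htb⟩ := hU₀.exists_basicOpen_le (V := V) ⟨t, htV⟩ (hTU₀ t ht)
      refine ⟨b, htb, fun hsb => ?_⟩
      have : s ∈ (V : Set X) := hbV hsb
      rw [hV] at this
      exact this rfl
    choose! b hb using hb
    refine ⟨∏ s ∈ T.erase t, b s, ?_, ?_⟩
    · rw [mem_basicOpen_prod t (hTU₀ t ht)]
      intro s hs
      exact (hb s (Finset.mem_of_mem_erase hs) (Finset.ne_of_mem_erase hs)).1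
    · intro s hs hst hmem
      rw [mem_basicOpen_prod s (hTU₀ s hs)] at hmem
      exact (hb s hs hst).2 (hmem s (Finset.mem_erase.mpr ⟨hst, hs⟩))
  choose! g p htg hgen using h2
  choose! a hta hsa using h3
  obtain ⟨P, hP⟩ : ∃ P : Γ(L, U₀), P = ∑ t ∈ T, a t • p t := ⟨_, rfl⟩
  -- Step 5: `P` generates near each point of `T`
  have h5 : ∀ t ∈ T, ∃ N : X.Opens, t ∈ N ∧ ∃ hN : N ≤ U₀,
      IsGenOn L N (L.presheaf.map (homOfLE hN).op P) := by
    intro t ht
    obtain ⟨D, hD⟩ : ∃ D : X.Opens, D = X.basicOpen (g t) := ⟨_, rfl⟩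
    have hDle : D ≤ U₀ := hD ▸ X.basicOpen_le _
    have htD : t ∈ D := hD ▸ htg t ht
    have hσ' : IsGenOn L D (L.presheaf.map (homOfLE hDle).op (p t)) := by
      subst hD
      exact hgen t ht
    have hc : ∀ s : X, ∃ c : Γ(X, D), L.presheaf.map (homOfLE hDle).op (p s) =
        c • L.presheaf.map (homOfLE hDle).op (p t) := fun s => hσ'.exists_eq_smul _
    choose c hc using hc
    obtain ⟨c', hc', hc't⟩ : ∃ c' : X → Γ(X, D), (∀ s, L.presheaf.map (homOfLE hDle).op (p s) =
        c' s • L.presheaf.map (homOfLE hDle).op (p t)) ∧ c' t = 1 := by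
      refine ⟨fun s => if s = t then 1 else c s, fun s => ?_, if_pos rfl⟩
      by_cases hs : s = t
      · subst hs
        simp
      · simp only [if_neg hs]
        exact hc s
    obtain ⟨u, hu⟩ : ∃ u : Γ(X, D), u = ∑ s ∈ T, X.presheaf.map (homOfLE hDle).op (a s) * c' s :=
      ⟨_, rfl⟩
    have hPu : L.presheaf.map (homOfLE hDle).op P =
        u • L.presheaf.map (homOfLE hDle).op (p t) := by
      rw [hP, map_sum, hu, Finset.sum_smul]
      refine Finset.sum_congr rfl fun s _ => ?_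
      rw [res_smul, hc' s, mul_smul]
    have htu : t ∈ X.basicOpen u := by
      rw [hu]
      refine mem_basicOpen_sum t htD T _ t ht ?_ ?_
      · rw [hc't, mul_one, X.basicOpen_res]
        exact ⟨htD, hta t ht⟩
      · intro s hs hst hmem
        rw [mem_basicOpen_mul t htD] at hmem
        have h1 := hmem.1
        rw [X.basicOpen_res] at h1
        exact hsa s hs t ht hst.symm h1.2
    refine ⟨X.basicOpen u, htu, (X.basicOpen_le u).trans hDle, ?_⟩
    have h7 := hσ'.basicOpen u
    rw [← hPu, res_res] at h7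
    exact h7
  choose! N htN hNle hNgen using h5
  have h6 : ∀ t ∈ T, ∃ h : Γ(X, U₀), t ∈ X.basicOpen h ∧ X.basicOpen h ≤ N t := by
    intro t ht
    obtain ⟨h, hle, hth⟩ := hU₀.exists_basicOpen_le (V := N t) ⟨t, htN t ht⟩ (hTU₀ t ht)
    exact ⟨h, hth, hle⟩
  choose! h hth hhle using h6
  obtain ⟨f, hf⟩ : ∃ f : Γ(X, U₀), f = ∑ t ∈ T, a t * h t := ⟨_, rfl⟩
  have hTf : ∀ t ∈ T, t ∈ X.basicOpen f := by
    intro t ht
    rw [hf]
    refine mem_basicOpen_sum t (hTU₀ t ht) T _ t ht ?_ ?_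
    · rw [mem_basicOpen_mul t (hTU₀ t ht)]
      exact ⟨hta t ht, hth t ht⟩
    · intro s hs hst hmem
      rw [mem_basicOpen_mul t (hTU₀ t ht)] at hmem
      exact hsa s hs t ht hst.symm hmem.1
  have hfN : ∀ z ∈ X.basicOpen f, ∃ t ∈ T, z ∈ N t := by
    intro z hz
    rw [hf] at hz
    obtain ⟨t, ht, hzt⟩ := exists_mem_basicOpen_of_sum z T _ hz
    have hzU : z ∈ U₀ := X.basicOpen_le _ hzt
    rw [mem_basicOpen_mul z hzU] at hzt
    exact ⟨t, ht, hhle t ht hzt.2⟩
  refine ⟨X.basicOpen f, hU₀.basicOpen f, hTf, ?_⟩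
  refine Groth.Agent.H41.RelTwistXf.nonempty_restrict_iso_unit_of_cover (X.basicOpen f) L
    (L.presheaf.map (homOfLE (X.basicOpen_le f)).op P) (fun A => ∃ t ∈ T, A = N t) ?_ ?_
  · intro z hz
    obtain ⟨t, ht, hzt⟩ := hfN z hz
    exact ⟨N t, ⟨t, ht, rfl⟩, hzt⟩
  · rintro W hW ⟨_, ⟨t, ht, rfl⟩, hWN⟩
    have := hNgen t ht W hWN
    simpa only [res_res] using this

end Groth.Agent.S19022
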