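import Groth.Statements.S19025
import Mathlib.Data.Nat.Choose.Sum
import Mathlib.Algebra.Module.LinearMap.End
import Mathlib.Tactic.Ring
import Mathlib.Tactic.Abel

set_option autoImplicit false
universe u
open HigherRestr

namespace Groth.Agent.S19025

open Finset

section
variable {S : Type u} [CommRing S]

/-- the shift operator on sequences -/
def E : Module.End S (ℕ → S) where
  toFun y n := y (n + 1)
  map_add' _ _ := rfl
  map_smul' _ _ := rfl

lemma E_pow_apply (k : ℕ) : ∀ (y : ℕ → S) (n : ℕ), ((E : Module.End S (ℕ → S)) ^ k) y n = y (n + k) := by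
  induction k with
  | zero => intro y n; simp
  | succ k ih =>
    intro y n
    rw [pow_succ, Module.End.mul_apply, ih]
    rfl

lemma fwdDiff_eq (y : ℕ → S) : fwdDiff (1 : ℕ) y = ((E : Module.End S (ℕ → S)) - 1) y := by
  funext n
  simp [fwdDiff, E]

lemma fwdDiff_iter_eq (k : ℕ) (y : ℕ → S) :
    (fwdDiff (1 : ℕ))^[k] y = (((E : Module.End S (ℕ → S)) - 1) ^ k) y := by
  rw [Module.End.pow_apply]
  congr 1

lemma expand1 (g₀ g₁ : S) (N : ℕ) (y : ℕ → S) :
    ((g₁ • (E : Module.End S (ℕ → S)) - g₀ • 1) ^ N) y 0 =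
      (fwdDiff (1 : ℕ))^[N] (fun j : ℕ => g₀ ^ (N - j) * g₁ ^ j * y j) 0 := by
  rw [fwdDiff_iter_eq_sum_shift]
  have hT : g₁ • (E : Module.End S (ℕ → S)) - g₀ • 1 = g₁ • E + (-g₀) • 1 := by
    apply LinearMap.ext
    intro y
    funext n
    simp [sub_eq_add_neg]
  have hc : Commute (g₁ • (E : Module.End S (ℕ → S))) ((-g₀) • 1) :=
    (Commute.one_right _).smul_right _
  rw [hT, hc.add_pow, LinearMap.sum_apply, Finset.sum_apply]
  apply Finset.sum_congr rfl
  intro j hj
  rw [smul_pow, smul_pow, one_pow, Module.End.mul_apply, Module.End.natCast_apply, Module.End.mul_apply,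
    LinearMap.smul_apply, LinearMap.smul_apply, Module.End.one_apply]
  simp only [Pi.smul_apply, E_pow_apply, zero_add, smul_eq_mul, nsmul_eq_mul, Pi.natCast_def,
    Pi.mul_apply, zsmul_eq_mul, Int.cast_mul, Int.cast_pow, Int.cast_neg, Int.cast_one,
    Int.cast_natCast, neg_pow g₀, mul_one]
  ring


lemma Ecomm (k m : ℕ) (y : ℕ → S) (n : ℕ) :
    ((((E : Module.End S (ℕ → S)) - 1) ^ m) (((E : Module.End S (ℕ → S)) ^ k) y)) n =
      ((((E : Module.End S (ℕ → S)) - 1) ^ m) y) (n + k) := by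
  have hc : Commute (((E : Module.End S (ℕ → S)) - 1) ^ m) ((E : Module.End S (ℕ → S)) ^ k) :=
    (((Commute.refl E).sub_left (Commute.one_left E)).pow_left m).pow_right k
  have h1 : ((((E : Module.End S (ℕ → S)) - 1) ^ m) (((E : Module.End S (ℕ → S)) ^ k) y)) =
      ((E : Module.End S (ℕ → S)) ^ k) ((((E : Module.End S (ℕ → S)) - 1) ^ m) y) := by
    rw [← Module.End.mul_apply, hc.eq, Module.End.mul_apply]
  rw [h1, E_pow_apply]

lemma expand2 (g₀ g₁ : S) (N : ℕ) (y : ℕ → S) :
    ((g₁ • (E : Module.End S (ℕ → S)) - g₀ • 1) ^ N) y 0 =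
      ∑ m ∈ range (N + 1), (N.choose m : S) * (g₀ ^ m * (g₁ - g₀) ^ (N - m)) *
        (fwdDiff (1 : ℕ))^[m] y (N - m) := by
  have hT : g₁ • (E : Module.End S (ℕ → S)) - g₀ • 1 = g₀ • (E - 1) + (g₁ - g₀) • E := by
    apply LinearMap.ext
    intro y
    funext n
    simp only [LinearMap.sub_apply, LinearMap.smul_apply, Module.End.one_apply, LinearMap.add_apply,
      Pi.sub_apply, Pi.smul_apply, Pi.add_apply, smul_eq_mul]
    ring
  have hc : Commute (g₀ • ((E : Module.End S (ℕ → S)) - 1)) ((g₁ - g₀) • E) :=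
    (((Commute.refl E).sub_left (Commute.one_left E)).smul_left _).smul_right _
  rw [hT, hc.add_pow, LinearMap.sum_apply, Finset.sum_apply]
  apply Finset.sum_congr rfl
  intro m hm
  rw [smul_pow, smul_pow, Module.End.mul_apply, Module.End.natCast_apply, Module.End.mul_apply,
    LinearMap.smul_apply, LinearMap.smul_apply, fwdDiff_iter_eq, map_nsmul, map_smul, map_nsmul]
  simp only [Pi.smul_apply, smul_eq_mul, nsmul_eq_mul, Pi.mul_apply, Pi.natCast_apply]
  rw [Ecomm, zero_add]
  ring

end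


/-- In abstract form, the estimate its proof establishes. Let S be a commutative ring, I an ideal of S,
g₀ and g₁ elements with g₁ - g₀ ∈ I, N a natural number and y a sequence in S such that, for 1 ≤ i ≤
N, the (N-i)-fold unit-step forward difference of y taken at i lies in I^(N-i). Then g₀^N times the
N-fold forward difference of y at 0, minus the N-fold forward difference at 0 of the twisted
sequence j ↦ g₀^(N-j) g₁^j y_j, lies in I^N. (In the source S is the ring of functions on an affine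
chart of X^n, I the ideal of a pairwise diagonal, g₀ and g₁ the two pullbacks of a transition unit
of L, and y_j the components x_λ along the compositions a₀^(N-j) a₁^j μ; the estimate is what makes
the higher order restrictions D^l_L well defined on ker D^(l-1)_L independently of the
trivialisation.) -/
theorem result
    (S : Type u) [CommRing S] (I : Ideal S) (g₀ g₁ : S) (hg : g₁ - g₀ ∈ I)
    (N : ℕ) (y : ℕ → S)
    (hy : ∀ i : ℕ, 1 ≤ i → i ≤ N → (fwdDiff (1 : ℕ))^[N - i] y i ∈ I ^ (N - i)) :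
    g₀ ^ N * (fwdDiff (1 : ℕ))^[N] y 0 -
        (fwdDiff (1 : ℕ))^[N] (fun j : ℕ => g₀ ^ (N - j) * g₁ ^ j * y j) 0 ∈ I ^ N := by
  rw [← expand1, expand2, Finset.sum_range_succ]
  simp only [Nat.choose_self, Nat.cast_one, one_mul, Nat.sub_self, pow_zero, mul_one]
  rw [sub_add_cancel_right]
  apply neg_mem
  apply Submodule.sum_mem
  intro m hm
  rw [Finset.mem_range] at hm
  have h1 : (g₁ - g₀) ^ (N - m) ∈ I ^ (N - m) := Ideal.pow_mem_pow hg _
  have h2 : (fwdDiff (1 : ℕ))^[m] y (N - m) ∈ I ^ m := by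
    have := hy (N - m) (by omega) (by omega)
    rwa [Nat.sub_sub_self hm.le] at this
  have h3 : (g₁ - g₀) ^ (N - m) * (fwdDiff (1 : ℕ))^[m] y (N - m) ∈ I ^ N := by
    have := Ideal.mul_mem_mul h1 h2
    rwa [← pow_add, Nat.sub_add_cancel hm.le] at this
  have h4 : (N.choose m : S) * (g₀ ^ m * (g₁ - g₀) ^ (N - m)) * (fwdDiff (1 : ℕ))^[m] y (N - m) =
      ((N.choose m : S) * g₀ ^ m) * ((g₁ - g₀) ^ (N - m) * (fwdDiff (1 : ℕ))^[m] y (N - m)) := by ring
  rw [h4]
  exact Ideal.mul_mem_left _ _ h3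

end Groth.Agent.S19025
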