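import Groth.Statements.S19033
import Groth.Agent.H88.LabGraphBI2
import Mathlib.Tactic

set_option autoImplicit false
universe u
open LabGraph

namespace Groth.Agent.S19033

open LabGraph in
/-- Let X be a quasi-wp-stable curve of genus g ≥ 2 over an algebraically closed field, encoded by a
weighted multigraph: vertices are the irreducible components C_v, with the weight w v and the loops
at v chosen so that w v plus the number of loops at v is the arithmetic genus of C_v; two distinct
components are joined by one edge for each node and by two edges for each tacnode at which they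
meet. For a set Y of vertices (a subcurve) canDeg Y is then deg_Y ω_X = 2 g_Y − 2 + k_Y and cut Y is
k_Y, the length of the intersection of Y with its complementary subcurve; a vertex is exceptional
(weight zero, loopless, exactly two edges to other vertices) exactly when C_v is an exceptional
component; the twist of the indicator function of Y is the multidegree Σ_{C ⊆ Y} C of the degree
class group construction; and the graph is a connected quasistable graph. Let d, d' be properly
balanced multidegrees of the same total degree D (each satisfies the Basic Inequality 2·|K·d_Y −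
D·canDeg Y| ≤ cut Y·K for every Y, where K = 2g − 2 = canDeg of the whole graph, and takes the value
1 on every exceptional vertex), with d strictly balanced: for every nonempty proper Y with d_Y equal
to the upper extreme, i.e. 2(K·d_Y − D·canDeg Y) = K·cut Y, every edge with exactly one endpoint in
Y has an exceptional endpoint. Suppose d' = d + Σ_i twist(1_{Z_i}) for nested vertex sets Z_1 ⊆ ⋯ ⊆
Z_m, each with d at its upper extreme, such that for j < i no edge joins a vertex of Z_j to a vertex
outside Z_i. Then d = d'. (The source assumes only that d − d' lies in the lattice generated by the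
multidegrees of the components and takes the existence of such a nested family from an earlier paper
it cites without proof; this row carries that description as its hypothesis.) -/
theorem result {V E : Type u} [Fintype V] [Fintype E]
    [DecidableEq V] [DecidableEq E] (ends : E → V × V) (w : V → ℕ) (hX : IsQuasistableGraph ends w)
    (hg : 2 ≤ genus ends w) (d d' : V → ℤ) (hD : ∑ v, d v = ∑ v, d' v)
    (hBI : SatisfiesBI ends w d) (hBI' : SatisfiesBI ends w d')
    (hone : ∀ v : V, IsExceptional ends w v → d v = 1) (hone' : ∀ v : V, IsExceptional ends w v → d' v = 1)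
    (hstrict : ∀ Y : Finset V, Y.Nonempty → Y ≠ Finset.univ →
      2 * (canDeg ends w Finset.univ * (∑ v ∈ Y, d v) - (∑ v, d v) * canDeg ends w Y)
          = (cut ends Y : ℤ) * canDeg ends w Finset.univ →
      ∀ e : E, (((ends e).1 ∈ Y ∧ (ends e).2 ∉ Y) ∨ ((ends e).1 ∉ Y ∧ (ends e).2 ∈ Y)) →
        (IsExceptional ends w (ends e).1 ∨ IsExceptional ends w (ends e).2))
    (m : ℕ) (Z : Fin m → Finset V) (hmono : ∀ i j : Fin m, i ≤ j → Z i ⊆ Z j)
    (hext : ∀ i : Fin m, 2 * (canDeg ends w Finset.univ * (∑ v ∈ Z i, d v) - (∑ v, d v) * canDeg ends w (Z i))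
          = (cut ends (Z i) : ℤ) * canDeg ends w Finset.univ)
    (hsep : ∀ i j : Fin m, j < i → ∀ e : E,
      ¬ (((ends e).1 ∈ Z j ∧ (ends e).2 ∉ Z i) ∨ ((ends e).2 ∈ Z j ∧ (ends e).1 ∉ Z i)))
    (hsum : ∀ v : V, d' v = d v + ∑ i : Fin m, twist ends (fun u => if u ∈ Z i then (1 : ℤ) else 0) v) :
    d = d' := by
  classical
  obtain ⟨⟨hconn, _⟩, _⟩ := hX
  have hKpos : 0 < canDeg ends w Finset.univ := by
    rw [Groth.Agent.H88.LG.canDeg_univ]; linarith
  have caseIn : ∀ (j : Fin m), (∀ i : Fin m, i < j → Z i = ∅) → ∀ v ∈ Z j,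
      IsExceptional ends w v → ∀ e : E,
      (((ends e).1 = v ∧ (ends e).2 ∉ Z j) ∨ ((ends e).2 = v ∧ (ends e).1 ∉ Z j)) → False := by
    intro j hlt v hv hexc e he
    have h1 := hsum v
    rw [hone v hexc, hone' v hexc] at h1
    have h2 : ∑ i : Fin m, twist ends (fun u => if u ∈ Z i then (1 : ℤ) else 0) v < 0 := by
      refine lt_of_lt_of_eq (Finset.sum_lt_sum (g := fun _ => (0 : ℤ)) ?_ ?_) Finset.sum_const_zero
      · intro i _
        apply Groth.Agent.H88.LG.twist_ind_nonpos
        by_cases hij : i < j
        · exact Or.inr (hlt i hij)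
        · exact Or.inl (hmono j i (not_lt.mp hij) hv)
      · exact ⟨j, Finset.mem_univ _, Groth.Agent.H88.LG.twist_ind_neg ends (Z j) v hv e he⟩
    linarith
  have caseOut : ∀ (j : Fin m), ∀ v, v ∉ Z j → IsExceptional ends w v → ∀ e : E,
      (((ends e).1 = v ∧ (ends e).2 ∈ Z j) ∨ ((ends e).2 = v ∧ (ends e).1 ∈ Z j)) → False := by
    intro j v hv hexc e he
    obtain ⟨hw, hnl, hcut⟩ := hexc
    have hcutlt := Groth.Agent.H88.LG.cut_insert_lt ends (Z j) v hv e he
    have hBIY := hBI (insert v (Z j))
    have hκ : (2 * (w v : ℤ) - 2 + (endCount ends Finset.univ v : ℤ)) = 0 := by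
      rw [Groth.Agent.H88.LG.endCount_univ_eq_cut_singleton ends v hnl, hcut, hw]
      norm_num
    have hcd : canDeg ends w (insert v (Z j)) = canDeg ends w (Z j) := by
      unfold canDeg
      rw [Finset.sum_insert hv, hκ, zero_add]
    have hd : ∑ u ∈ insert v (Z j), d u = 1 + ∑ u ∈ Z j, d u := by
      rw [Finset.sum_insert hv, hone v ⟨hw, hnl, hcut⟩]
    rw [hcd, hd] at hBIY
    have hext' := hext j
    have hcut2 : ((cut ends {v} : ℕ) : ℤ) = 2 := by rw [hcut]; norm_num
    have habs := le_abs_self (canDeg ends w Finset.univ * (1 + ∑ u ∈ Z j, d u)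
      - (∑ v, d v) * canDeg ends w (Z j))
    have h5 : (cut ends (insert v (Z j)) : ℤ) ≤ cut ends (Z j) + 1 := by
      rw [hcut2] at hcutlt
      linarith
    have h6 := mul_le_mul_of_nonneg_right h5 hKpos.le
    nlinarith [h6, habs, hBIY, hext', hKpos]
  have stepA : ∀ j : Fin m, (∀ i : Fin m, i < j → Z i = ∅) →
      Z j = ∅ ∨ Z j = Finset.univ := by
    intro j hlt
    by_contra hcon
    rw [not_or] at hcon
    obtain ⟨hne, hnu⟩ := hcon
    obtain ⟨vin, hvin⟩ := Finset.nonempty_iff_ne_empty.mpr hne
    obtain ⟨vout, hvout⟩ : ∃ x, x ∉ Z j := by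
      by_contra h
      push Not at h
      exact hnu (Finset.eq_univ_iff_forall.mpr h)
    obtain ⟨e, he⟩ := Groth.Agent.H88.LG.exists_crossing ends hconn (fun x => x ∈ Z j)
      vin vout hvin hvout
    have hstr := hstrict (Z j) ⟨vin, hvin⟩ hnu (hext j) e he
    rcases he with ⟨h1, h2⟩ | ⟨h1, h2⟩
    · rcases hstr with hx | hx
      · exact caseIn j hlt _ h1 hx e (Or.inl ⟨rfl, h2⟩)
      · exact caseOut j _ h2 hx e (Or.inr ⟨rfl, h1⟩)
    · rcases hstr with hx | hx
      · exact caseOut j _ h1 hx e (Or.inl ⟨rfl, h2⟩)
      · exact caseIn j hlt _ h2 hx e (Or.inr ⟨rfl, h1⟩)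
  have stepB : ∀ n : ℕ, ∀ i : Fin m, (i : ℕ) = n → (Z i = ∅ ∨ Z i = Finset.univ) := by
    intro n
    induction n using Nat.strong_induction_on with
    | _ n ih =>
      intro i hi
      by_cases hex : ∃ i' : Fin m, i' < i ∧ Z i' = Finset.univ
      · obtain ⟨i', hlt, hu⟩ := hex
        right
        have h1 := hmono i' i hlt.le
        rw [hu] at h1
        exact Finset.univ_subset_iff.mp h1
      · push Not at hex
        apply stepA i
        intro i' hlt
        rcases ih (i' : ℕ) (by rw [← hi]; exact hlt) i' rfl with h | h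
        · exact h
        · exact absurd h (hex i' hlt)
  funext v
  rw [hsum v]
  have h0 : ∑ i : Fin m, twist ends (fun u => if u ∈ Z i then (1 : ℤ) else 0) v = 0 := by
    apply Finset.sum_eq_zero
    intro i _
    rcases stepB (i : ℕ) i rfl with h | h
    · have h' : (fun u : V => if u ∈ Z i then (1 : ℤ) else 0) = fun _ => 0 := by
        funext u
        rw [h]
        simp
      rw [h', Groth.Agent.H88.LG.twist_const]
    · have h' : (fun u : V => if u ∈ Z i then (1 : ℤ) else 0) = fun _ => 1 := by
        funext u
        rw [h]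
        simp
      rw [h', Groth.Agent.H88.LG.twist_const]
  rw [h0, add_zero]

end Groth.Agent.S19033
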