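import Groth.Statements.S19034
import Groth.Agent.H88.LabGraphBI3
import Mathlib.Tactic

set_option autoImplicit false
universe u
open LabGraph

namespace Groth.Agent.S19034

open LabGraph in
/-- Let σ : Z → X be the contraction of some exceptional components of a quasi-wp-stable curve Z of
genus g ≥ 2 onto a quasi-wp-stable curve X, and d a properly balanced multidegree on X; then the
pull-back d̃ of d to Z (d̃_W = d_{σ(W)} when σ(W) is a curve, d̃ = 0 on contracted components) is
balanced. Encode Z by its weighted multigraph (vertices = irreducible components, weight plus number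
of loops = arithmetic genus of the component, one edge per node and two per tacnode joining distinct
components; canDeg Y = deg_Y ω_Z, cut Y = k_Y, K = canDeg of all vertices = 2g − 2; exceptional
vertex = exceptional component), and let S be the set of contracted components, each an exceptional
vertex. The components of X are the vertices outside S; for a set W of them, the subcurve σ(W) of X
has deg ω_X equal to canDeg Ŵ and k equal to cut Ŵ, where Ŵ is W together with the vertices of S all
of whose edges end in W, and the exceptional components of X are the exceptional vertices outside S.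
So the hypotheses below say that d̃ vanishes on S and that d = d̃|_{V∖S} is properly balanced on X
(Basic Inequality 2·|K·d_W − D·canDeg Ŵ| ≤ cut Ŵ·K for every W disjoint from S, D the total degree,
and value 1 on exceptional vertices outside S); the conclusion is the Basic Inequality for d̃ on Z,
for every set of vertices. -/
theorem result {V E : Type u} [Fintype V] [Fintype E]
    [DecidableEq V] [DecidableEq E] (ends : E → V × V) (w : V → ℕ) (hZ : IsQuasistableGraph ends w)
    (hg : 2 ≤ genus ends w) (S : Finset V) (hS : ∀ v ∈ S, IsExceptional ends w v)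
    (dt : V → ℤ) (hzero : ∀ v ∈ S, dt v = 0)
    (hBI : ∀ W : Finset V, Disjoint W S →
      2 * |canDeg ends w Finset.univ * (∑ v ∈ W, dt v) - (∑ v, dt v) * canDeg ends w (Finset.univ.filter (fun v : V => v ∈ W ∨ (v ∈ S ∧ ∀ e : E, ((ends e).1 = v → (ends e).2 ∈ W) ∧ ((ends e).2 = v → (ends e).1 ∈ W))))|
        ≤ (cut ends (Finset.univ.filter (fun v : V => v ∈ W ∨ (v ∈ S ∧ ∀ e : E, ((ends e).1 = v → (ends e).2 ∈ W) ∧ ((ends e).2 = v → (ends e).1 ∈ W)))) : ℤ) * canDeg ends w Finset.univ)
    (hone : ∀ v : V, v ∉ S → IsExceptional ends w v → dt v = 1) :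
    SatisfiesBI ends w dt := by
  obtain ⟨⟨hconn, hss⟩, hq⟩ := hZ
  have hKpos : 0 < canDeg ends w Finset.univ := by
    rw [Groth.Agent.H88.LG.canDeg_univ]; linarith
  intro Y
  obtain ⟨W, hWdef⟩ : ∃ W : Finset V, W = Y \ S := ⟨_, rfl⟩
  obtain ⟨T, hTdef⟩ : ∃ T : Finset V, T = Y ∩ S := ⟨_, rfl⟩
  have hYeq : W ∪ T = Y := by
    rw [hWdef, hTdef]; exact Finset.sdiff_union_inter Y S
  have hWS : Disjoint W S := by
    rw [hWdef]; exact Finset.sdiff_disjoint
  have hTS : T ⊆ S := by
    rw [hTdef]; exact Finset.inter_subset_right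
  have hWT : Disjoint W T := Finset.disjoint_of_subset_right hTS hWS
  obtain ⟨That, hThat⟩ : ∃ Th : Finset V, Th = S.filter (fun v => ∀ e : E,
      ((ends e).1 = v → (ends e).2 ∈ W) ∧ ((ends e).2 = v → (ends e).1 ∈ W)) := ⟨_, rfl⟩
  have hWhat : Finset.univ.filter (fun v : V => v ∈ W ∨ (v ∈ S ∧ ∀ e : E, ((ends e).1 = v → (ends e).2 ∈ W) ∧ ((ends e).2 = v → (ends e).1 ∈ W))) = W ∪ That := by
    ext v
    rw [hThat]
    simp only [Finset.mem_filter, Finset.mem_univ, true_and, Finset.mem_union]
  have hThS : That ⊆ S := by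
    rw [hThat]; exact Finset.filter_subset _ _
  have hWTh : Disjoint W That := Finset.disjoint_of_subset_right hThS hWS
  have hκ : ∀ v ∈ S, (2 * (w v : ℤ) - 2 + (endCount ends Finset.univ v : ℤ)) = 0 := by
    intro v hv
    obtain ⟨hw, hnl, hcut⟩ := hS v hv
    rw [Groth.Agent.H88.LG.endCount_univ_eq_cut_singleton ends v hnl, hcut, hw]
    norm_num
  have hcd : ∀ T' : Finset V, T' ⊆ S → Disjoint W T' →
      canDeg ends w (W ∪ T') = canDeg ends w W := by
    intro T' h1 h2
    unfold canDeg
    rw [Finset.sum_union h2, Finset.sum_eq_zero (fun v hv => hκ v (h1 hv)), add_zero]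
  have hdt : ∑ v ∈ Y, dt v = ∑ v ∈ W, dt v := by
    rw [← hYeq, Finset.sum_union hWT, Finset.sum_eq_zero (fun v hv => hzero v (hTS hv)), add_zero]
  have hcutle : (cut ends (W ∪ That) : ℤ) ≤ cut ends (W ∪ T) := by
    rw [Groth.Agent.H88.LG.cut_union_exc ends w hq S hS W hWS That hThS,
      Groth.Agent.H88.LG.cut_union_exc ends w hq S hS W hWS T hTS]
    have hfT : ∀ s ∈ That, (2 - 2 * Groth.Agent.H88.LG.nb ends s W) = -2 := by
      intro s hs
      rw [hThat] at hs
      obtain ⟨hsS, hall⟩ := Finset.mem_filter.mp hs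
      obtain ⟨hw, hnl, hcut⟩ := hS s hsS
      rw [Groth.Agent.H88.LG.nb_eq_of_all ends s W hall,
        Groth.Agent.H88.LG.endCount_univ_eq_cut_singleton ends s hnl, hcut]
      norm_num
    have hfS : ∀ s ∈ S, s ∉ That → 0 ≤ (2 - 2 * Groth.Agent.H88.LG.nb ends s W) := by
      intro s hsS hsn
      have hex : ∃ e : E, ((ends e).1 = s ∧ (ends e).2 ∉ W) ∨ ((ends e).2 = s ∧ (ends e).1 ∉ W) := by
        by_contra hcon
        apply hsn
        rw [hThat]
        refine Finset.mem_filter.mpr ⟨hsS, fun e => ⟨fun h1 => ?_, fun h2 => ?_⟩⟩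
        · by_contra h; exact hcon ⟨e, Or.inl ⟨h1, h⟩⟩
        · by_contra h; exact hcon ⟨e, Or.inr ⟨h2, h⟩⟩
      obtain ⟨hw, hnl, hcut⟩ := hS s hsS
      have hlt := Groth.Agent.H88.LG.nb_lt_of_not_all ends s W hex
      rw [Groth.Agent.H88.LG.endCount_univ_eq_cut_singleton ends s hnl, hcut] at hlt
      push_cast at hlt
      linarith
    have h1 : ∑ x ∈ T ∩ That, (2 - 2 * Groth.Agent.H88.LG.nb ends x W)
        + ∑ x ∈ T \ That, (2 - 2 * Groth.Agent.H88.LG.nb ends x W)
        = ∑ x ∈ T, (2 - 2 * Groth.Agent.H88.LG.nb ends x W) :=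
      Finset.sum_inter_add_sum_sdiff T That _
    have h2 : ∑ x ∈ That ∩ T, (2 - 2 * Groth.Agent.H88.LG.nb ends x W)
        + ∑ x ∈ That \ T, (2 - 2 * Groth.Agent.H88.LG.nb ends x W)
        = ∑ x ∈ That, (2 - 2 * Groth.Agent.H88.LG.nb ends x W) :=
      Finset.sum_inter_add_sum_sdiff That T _
    rw [Finset.inter_comm] at h2
    have h3 : 0 ≤ ∑ s ∈ T \ That, (2 - 2 * Groth.Agent.H88.LG.nb ends s W) :=
      Finset.sum_nonneg (fun s hs => by
        obtain ⟨hsT, hsn⟩ := Finset.mem_sdiff.mp hs
        exact hfS s (hTS hsT) hsn)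
    have h4 : ∑ s ∈ That \ T, (2 - 2 * Groth.Agent.H88.LG.nb ends s W) ≤ 0 :=
      Finset.sum_nonpos (fun s hs => by
        obtain ⟨hsT, hsn⟩ := Finset.mem_sdiff.mp hs
        rw [hfT s hsT]
        norm_num)
    linarith
  have hb := hBI W hWS
  rw [hWhat, hcd That hThS hWTh] at hb
  have hcY : canDeg ends w Y = canDeg ends w W := by
    rw [← hYeq]; exact hcd T hTS hWT
  rw [hdt, hcY]
  refine le_trans hb ?_
  apply mul_le_mul_of_nonneg_right _ hKpos.le
  rw [← hYeq]
  exact hcutle

end Groth.Agent.S19034
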