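import Groth.Statements.S19035
import Mathlib.RingTheory.FiniteType
import Mathlib.RingTheory.WittVector.Basic
import Mathlib.RingTheory.Polynomial.Basic

set_option autoImplicit false
universe u v w x
open CAlg

namespace Groth.Agent.S19035

/-- Let p be a prime and k a perfect field of characteristic p. Let (A_i) be a directed system of
finitely generated commutative k-algebras, indexed by a nonempty directed preorder, with compatible
k-algebra transition maps, and let B be a finitely generated k-algebra with compatible k-algebra
maps A_i → B which present B as the direct limit of the system (every element of B is the image of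
an element of some A_i, and two elements of some A_i with the same image in B have the same image in
some A_j). Then the p-typical Witt vectors commute with this direct limit: every Witt vector over B
is the image of a Witt vector over some A_i, and two Witt vectors over some A_i with the same image
over B already have the same image over some A_j. (Both finiteness hypotheses matter: for an
arbitrary filtered direct limit of commutative rings either assertion can fail.) -/
theorem result
    (p : ℕ) [Fact p.Prime] (k : Type u) [Field k] [CharP k p] [PerfectRing k p]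
    {ι : Type v} [Preorder ι] [IsDirected ι (· ≤ ·)] [Nonempty ι]
    (A : ι → Type w) [∀ i, CommRing (A i)] [∀ i, Algebra k (A i)]
    [∀ i, Algebra.FiniteType k (A i)]
    (f : ∀ i j, i ≤ j → (A i →ₐ[k] A j))
    (hf : ∀ i j l (hij : i ≤ j) (hjl : j ≤ l) (x : A i),
      f j l hjl (f i j hij x) = f i l (hij.trans hjl) x)
    (B : Type x) [CommRing B] [Algebra k B] [Algebra.FiniteType k B]
    (g : ∀ i, A i →ₐ[k] B)
    (hfg : ∀ i j (hij : i ≤ j) (x : A i), g j (f i j hij x) = g i x)
    (hsurj : ∀ b : B, ∃ i, ∃ x : A i, g i x = b)
    (hinj : ∀ i (x y : A i), g i x = g i y → ∃ j, ∃ hij : i ≤ j, f i j hij x = f i j hij y) :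
    (∀ w : WittVector p B, ∃ i, ∃ v : WittVector p (A i),
        WittVector.map (g i).toRingHom v = w) ∧
    (∀ i (v v' : WittVector p (A i)),
        WittVector.map (g i).toRingHom v = WittVector.map (g i).toRingHom v' →
        ∃ j, ∃ hij : i ≤ j,
          WittVector.map (f i j hij).toRingHom v = WittVector.map (f i j hij).toRingHom v') := by
  classical
  refine ⟨?_, ?_⟩
  · -- find an index with g i surjective
    obtain ⟨s, hs⟩ := (Algebra.FiniteType.out : (⊤ : Subalgebra k B).FG)
    choose ib xb hxb using hsurj
    obtain ⟨i₀, hi₀⟩ := Finset.exists_le (s.image ib)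
    have hi₀' : ∀ b ∈ s, ib b ≤ i₀ := fun b hb => hi₀ _ (Finset.mem_image_of_mem ib hb)
    have hrange : (g i₀).range = ⊤ := by
      rw [eq_top_iff, ← hs]
      apply Algebra.adjoin_le
      intro b hb
      refine ⟨f (ib b) i₀ (hi₀' b hb) (xb b), ?_⟩
      show g i₀ (f (ib b) i₀ (hi₀' b hb) (xb b)) = b
      rw [hfg, hxb]
    have hsurj₀ : Function.Surjective (g i₀) := by
      intro b
      have : b ∈ (g i₀).range := by rw [hrange]; exact Algebra.mem_top
      exact this
    intro w
    choose c hc using fun n => hsurj₀ (w.coeff n)
    refine ⟨i₀, WittVector.mk p c, ?_⟩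
    ext n
    rw [WittVector.map_coeff, WittVector.coeff_mk]
    exact hc n
  · intro i v v' hvv'
    have hcoeff : ∀ n, g i (v.coeff n) = g i (v'.coeff n) := by
      intro n
      have := congrArg (fun z => WittVector.coeff z n) hvv'
      simpa [WittVector.map_coeff] using this
    haveI : IsNoetherianRing (A i) := Algebra.FiniteType.isNoetherianRing k (A i)
    obtain ⟨s, hs⟩ := (isNoetherianRing_iff_ideal_fg (A i)).mp inferInstance
      (RingHom.ker (g i).toRingHom)
    have hy : ∀ y : A i, y ∈ s → ∃ j, ∃ hij : i ≤ j, f i j hij y = 0 := by
      intro y hy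
      have hyker : y ∈ RingHom.ker (g i).toRingHom := by
        rw [← hs]; exact Ideal.subset_span hy
      have h0 : g i y = g i 0 := by
        rw [map_zero]; exact hyker
      obtain ⟨j, hij, hj⟩ := hinj i y 0 h0
      exact ⟨j, hij, by rw [hj, map_zero]⟩
    choose! jy hijy hjy using hy
    obtain ⟨j, hj⟩ := Finset.exists_le (insert i (s.image jy))
    have hij : i ≤ j := hj i (Finset.mem_insert_self _ _)
    have hjy' : ∀ y ∈ s, jy y ≤ j := fun y hy =>
      hj _ (Finset.mem_insert_of_mem (Finset.mem_image_of_mem jy hy))
    have hker : RingHom.ker (g i).toRingHom ≤ RingHom.ker (f i j hij).toRingHom := by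
      rw [← hs, Ideal.span_le]
      intro y hy
      show (f i j hij) y = 0
      rw [← hf i (jy y) j (hijy y hy) (hjy' y hy) y, hjy y hy, map_zero]
    refine ⟨j, hij, ?_⟩
    ext n
    rw [WittVector.map_coeff, WittVector.map_coeff]
    have hmem : v.coeff n - v'.coeff n ∈ RingHom.ker (g i).toRingHom := by
      show g i (v.coeff n - v'.coeff n) = 0
      rw [map_sub, hcoeff n, sub_self]
    have := hker hmem
    have h2 : (f i j hij) (v.coeff n - v'.coeff n) = 0 := this
    rw [map_sub, sub_eq_zero] at h2
    exact h2

end Groth.Agent.S19035
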