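import Groth.Statements.S19037
import Mathlib.Tactic.Ring
import Mathlib.Tactic.NormNum

set_option autoImplicit false
universe u v
open scoped Polynomial LaurentPolynomial
open Instab

namespace Groth.Agent.S19037

/-- Affine form over a ring R. Let A be a commutative ℤ-graded R-algebra and t an element of degree −1
(so A is a graded algebra over R[t] with t in degree −1), and let ψ : A[1/t] → R[T, T⁻¹] be an
R-algebra map sending t to T which is graded, in the sense that each homogeneous element of degree n
of A goes to an element of R times T^(−n). Then ψ is obtained by inverting t from an R-algebra map χ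
: A → R[T] (compared through the inclusion of R[T] in R[T, T⁻¹]) if and only if ψ kills t·a for
every homogeneous a of degree 1; such a χ is unique. (The source states this for quasi-coherent
graded algebras over an arbitrary base scheme; the statement is local on the base and is given here
over an affine base.) -/
theorem result
    {R : Type u} {A : Type v} [CommRing R] [CommRing A] [Algebra R A]
    (𝒜 : ℤ → Submodule R A) [GradedAlgebra 𝒜] (t : A) (ht : t ∈ 𝒜 (-1))
    (ψ : Localization.Away t →ₐ[R] R[T;T⁻¹])
    (hψt : ψ (algebraMap A (Localization.Away t) t) = LaurentPolynomial.T 1)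
    (hψ : ∀ (n : ℤ) (a : A), a ∈ 𝒜 n →
      ∃ r : R, ψ (algebraMap A (Localization.Away t) a) = LaurentPolynomial.C r * LaurentPolynomial.T (-n)) :
    (∃! χ : A →ₐ[R] R[X], ∀ a : A,
        ψ (algebraMap A (Localization.Away t) a) = Polynomial.toLaurentAlg (χ a)) ↔
      ∀ a ∈ 𝒜 1, ψ (algebraMap A (Localization.Away t) (t * a)) = 0 := by
  classical
  set φ : A →ₐ[R] R[T;T⁻¹] := ψ.comp (IsScalarTower.toAlgHom R A (Localization.Away t)) with hφ
  have hφa : ∀ a, φ a = ψ (algebraMap A (Localization.Away t) a) := fun a => rfl
  have hinj : Function.Injective (Polynomial.toLaurentAlg (R := R)) :=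
    Polynomial.toLaurent_injective
  constructor
  · rintro ⟨χ, hχ, -⟩ a ha
    obtain ⟨r, hr⟩ := hψ 1 a ha
    have h1 : χ a = 0 := by
      have h2 := hχ a
      rw [hr, Polynomial.toLaurentAlg_apply] at h2
      have h3 := congrArg LaurentPolynomial.trunc h2
      rw [LaurentPolynomial.trunc_C_mul_T, Polynomial.trunc_toLaurent, if_neg (by norm_num)] at h3
      exact h3.symm
    rw [map_mul, map_mul, hχ a, h1, map_zero, mul_zero]
  · intro h
    have hhom : ∀ (n : ℤ) (a : A), a ∈ 𝒜 n →
        φ a ∈ (Polynomial.toLaurentAlg (R := R)).range := by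
      intro n a ha
      obtain ⟨r, hr⟩ := hψ n a ha
      by_cases hn : 1 ≤ n
      · have hk : (((n - 1).toNat : ℕ) : ℤ) = n - 1 := Int.toNat_of_nonneg (by omega)
        have h1 : t ^ (n - 1).toNat * a ∈ 𝒜 1 := by
          have h0 := SetLike.mul_mem_graded (SetLike.pow_mem_graded (n - 1).toNat ht) ha
          have h00 : (n - 1).toNat • (-1 : ℤ) + n = 1 := by
            rw [nsmul_eq_mul, hk]
            ring
          rwa [h00] at h0
        have h2 := h _ h1
        simp only [map_mul, map_pow, hψt] at h2
        have h3 := ((LaurentPolynomial.isUnit_T (R := R) 1).mul_right_eq_zero).1 h2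
        have h4 := (((LaurentPolynomial.isUnit_T (R := R) 1).pow _).mul_right_eq_zero).1 h3
        rw [hφa, h4]
        exact Subalgebra.zero_mem _
      · have hk : (((-n).toNat : ℕ) : ℤ) = -n := Int.toNat_of_nonneg (by omega)
        rw [AlgHom.mem_range]
        refine ⟨Polynomial.C r * Polynomial.X ^ (-n).toNat, ?_⟩
        rw [hφa, hr, Polynomial.toLaurentAlg_apply, Polynomial.toLaurent_C_mul_X_pow, hk]
    have hrange : ∀ a, φ a ∈ (Polynomial.toLaurentAlg (R := R)).range := by
      intro a
      induction a using DirectSum.Decomposition.inductionOn 𝒜 with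
      | zero =>
        rw [map_zero]
        exact Subalgebra.zero_mem _
      | homogeneous a => exact hhom _ a a.2
      | add a b ha hb =>
        rw [map_add]
        exact Subalgebra.add_mem _ ha hb
    let e := AlgEquiv.ofInjective (Polynomial.toLaurentAlg (R := R)) hinj
    let χ : A →ₐ[R] R[X] := (e.symm : _ →ₐ[R] _).comp (φ.codRestrict _ hrange)
    have hχ : ∀ a, φ a = Polynomial.toLaurentAlg (χ a) := by
      intro a
      have h1 := e.apply_symm_apply ⟨φ a, hrange a⟩
      exact (congrArg Subtype.val h1).symm
    refine ⟨χ, fun a => hχ a, ?_⟩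
    intro χ' hχ'
    apply AlgHom.ext
    intro a
    apply hinj
    exact (hχ' a).symm.trans (hχ a)

end Groth.Agent.S19037
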