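import Groth.Statements.S19042
import Groth.Agent.H95.GcLib

set_option autoImplicit false
universe u
open Dieu

namespace Groth.Agent.S19042

/-- Let `k` be a perfect field of characteristic `2` and `c` a natural number, and consider the explicit
`2c`-dimensional `k`-space on `X_1, …, X_c, Y_1, …, Y_c` with its operators `F` and `V` (`F Y_j =
0`; `F X_j = X_{j/2}` for `j` even and `Y_{c-(j-1)/2}` for `j` odd; `V Y_j = Y_{2j}` when `2j ≤ c`,
else `0`; `V X_j = Y_{2c-2j+1}` when `2j > c`, else `0`). The vectors `X_j` with `c < 2j ≤ 2c`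
generate it as a module over `k[F, V]`: a `k`-subspace stable under `F` and `V` containing them is
everything. (Stated over any perfect field of characteristic `2`; the source works over an
algebraically closed one.) -/
theorem result (c : ℕ) (k : Type u) [Field k] [CharP k 2] [PerfectRing k 2]
    (N : Submodule k (W4c6eohyperellchar2.GcMod c k))
    (hF : ∀ v ∈ N, W4c6eohyperellchar2.F c k v ∈ N) (hV : ∀ v ∈ N, W4c6eohyperellchar2.V c k v ∈ N)
    (hX : ∀ j : ℕ, c < 2 * j → j ≤ c → W4c6eohyperellchar2.X c k j ∈ N) : N = ⊤ := by
  have hXall : ∀ d i : ℕ, c - i = d → W4c6eohyperellchar2.X c k i ∈ N := by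
    intro d
    induction d using Nat.strong_induction_on with
    | _ d ih =>
      intro i hi
      by_cases h0 : i = 0 ∨ c < i
      · rw [Groth.Agent.H95.X_eq_zero c k i h0]
        exact N.zero_mem
      · push_neg at h0
        by_cases h2 : c < 2 * i
        · exact hX i h2 h0.2
        · have h3 : W4c6eohyperellchar2.X c k (2 * i) ∈ N :=
            ih (c - 2 * i) (by omega) (2 * i) rfl
          have h4 := hF _ h3
          rwa [Groth.Agent.H95.F_X_even c k i (by omega)] at h4
  have hXall' : ∀ i, W4c6eohyperellchar2.X c k i ∈ N := fun i => hXall _ i rfl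
  have hYall : ∀ m : ℕ, W4c6eohyperellchar2.Y c k m ∈ N := by
    intro m
    induction m using Nat.strong_induction_on with
    | _ m ih =>
      by_cases h0 : m = 0 ∨ c < m
      · rw [Groth.Agent.H95.Y_eq_zero c k m h0]
        exact N.zero_mem
      · push_neg at h0
        rcases Nat.even_or_odd' m with ⟨q, hq | hq⟩
        · have h3 := hV _ (ih q (by omega))
          rwa [Groth.Agent.H95.V_Y, ← hq] at h3
        · have h3 := hV _ (hXall' (c - q))
          rw [Groth.Agent.H95.V_X c k (c - q) (by omega)] at h3
          have h4 : 2 * c - 2 * (c - q) + 1 = m := by omega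
          rwa [h4] at h3
  rw [eq_top_iff]
  intro v _
  rw [Groth.Agent.H95.eq_sum c k v]
  exact N.sum_mem (fun i _ => N.add_mem (N.smul_mem _ (hXall' _)) (N.smul_mem _ (hYall _)))

end Groth.Agent.S19042
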