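import Groth.Statements.S19043
import Groth.Agent.H95.GcLib

set_option autoImplicit false
universe u
open Dieu

namespace Groth.Agent.S19043

/-- Let `k` be a perfect field of characteristic `2` and `c` a natural number, and let `M` be the
explicit `2c`-dimensional `k`-space on `X_1, …, X_c, Y_1, …, Y_c` with its operators `F` and `V` (`F
Y_j = 0`; `F X_j = X_{j/2}` for `j` even and `Y_{c-(j-1)/2}` for `j` odd; `V Y_j = Y_{2j}` when `2j
≤ c`, else `0`; `V X_j = Y_{2c-2j+1}` when `2j > c`, else `0`). The classes of the `X_j` with `c <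
2j ≤ 2c` in the quotient of `M` by the `k`-span of `F(M) ∪ V(M)` are linearly independent and span
that quotient. (Stated over any perfect field of characteristic `2`; the source works over an
algebraically closed one.) -/
theorem result (c : ℕ) (k : Type u) [Field k] [CharP k 2] [PerfectRing k 2] :
    LinearIndependent k (fun j : {j : ℕ // c < 2 * j ∧ j ≤ c} =>
        Submodule.mkQ (Submodule.span k (Set.range (W4c6eohyperellchar2.F c k) ∪ Set.range (W4c6eohyperellchar2.V c k))) (W4c6eohyperellchar2.X c k j.1)) ∧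
      Submodule.span k (Set.range (fun j : {j : ℕ // c < 2 * j ∧ j ≤ c} =>
        Submodule.mkQ (Submodule.span k (Set.range (W4c6eohyperellchar2.F c k) ∪ Set.range (W4c6eohyperellchar2.V c k))) (W4c6eohyperellchar2.X c k j.1))) = ⊤ := by
  classical
  set W := Submodule.span k (Set.range (W4c6eohyperellchar2.F c k) ∪
    Set.range (W4c6eohyperellchar2.V c k)) with hW
  have hΦW : ∀ j, c < 2 * j → ∀ w ∈ W, W4c6eohyperellchar2.coefX w j = 0 := by
    intro j hj w hw
    obtain ⟨Φ, hΦj⟩ := Groth.Agent.H95.exists_coefX_linear c k j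
    rw [← hΦj]
    have hle : W ≤ LinearMap.ker Φ := by
      rw [hW, Submodule.span_le]
      rintro x (⟨v, rfl⟩ | ⟨v, rfl⟩)
      · rw [SetLike.mem_coe, LinearMap.mem_ker, hΦj]
        exact Groth.Agent.H95.coefX_F c k v j hj
      · rw [SetLike.mem_coe, LinearMap.mem_ker, hΦj]
        exact Groth.Agent.H95.coefX_V c k v j
    exact hle hw
  constructor
  · rw [linearIndependent_iff']
    intro s g hsum i hi
    have h1 : W.mkQ (∑ i' ∈ s, g i' • W4c6eohyperellchar2.X c k i'.1) = 0 := by
      rw [map_sum]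
      simpa [map_smul] using hsum
    have h2 : (∑ i' ∈ s, g i' • W4c6eohyperellchar2.X c k i'.1) ∈ W := by
      rwa [Submodule.mkQ_apply, Submodule.Quotient.mk_eq_zero] at h1
    have h3 := hΦW i.1 i.2.1 _ h2
    obtain ⟨Φ, hΦj⟩ := Groth.Agent.H95.exists_coefX_linear c k i.1
    rw [← hΦj, map_sum] at h3
    simp only [map_smul, smul_eq_mul] at h3
    simp only [hΦj, Groth.Agent.H95.coefX_X] at h3
    rw [Finset.sum_eq_single i] at h3
    · have hc : 1 ≤ i.1 ∧ i.1 ≤ c ∧ i.1 = i.1 := ⟨by have := i.2.1; omega, i.2.2, rfl⟩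
      rw [if_pos hc, mul_one] at h3
      exact h3
    · intro b _ hb
      have hne : ¬ (1 ≤ i.1 ∧ i.1 ≤ c ∧ i.1 = b.1) := fun h => hb (Subtype.ext h.2.2.symm)
      rw [if_neg hne, mul_zero]
    · intro h
      exact absurd hi h
  · rw [eq_top_iff]
    rintro x -
    obtain ⟨v, rfl⟩ := Submodule.mkQ_surjective W x
    rw [Groth.Agent.H95.eq_sum c k v, map_sum]
    refine Submodule.sum_mem _ (fun i _ => ?_)
    rw [map_add, map_smul, map_smul]
    refine Submodule.add_mem _ (Submodule.smul_mem _ _ ?_) (Submodule.smul_mem _ _ ?_)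
    · by_cases h : c < 2 * (i.val + 1)
      · exact Submodule.subset_span ⟨⟨i.val + 1, h, by have := i.2; omega⟩, rfl⟩
      · have hmem : W4c6eohyperellchar2.X c k (i.val + 1) ∈ W := by
          rw [← Groth.Agent.H95.F_X_even c k (i.val + 1) (by omega)]
          exact Submodule.subset_span (Or.inl ⟨_, rfl⟩)
        rw [Submodule.mkQ_apply, (Submodule.Quotient.mk_eq_zero W).2 hmem]
        exact Submodule.zero_mem _
    · have hmem : W4c6eohyperellchar2.Y c k (i.val + 1) ∈ W := by
        have hi := i.2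
        rcases Nat.even_or_odd' (i.val + 1) with ⟨q, hq | hq⟩
        · rw [hq, ← Groth.Agent.H95.V_Y]
          exact Submodule.subset_span (Or.inr ⟨_, rfl⟩)
        · have h4 : 2 * c - 2 * (c - q) + 1 = i.val + 1 := by omega
          rw [← h4, ← Groth.Agent.H95.V_X c k (c - q) (by omega)]
          exact Submodule.subset_span (Or.inr ⟨_, rfl⟩)
      rw [Submodule.mkQ_apply, (Submodule.Quotient.mk_eq_zero W).2 hmem]
      exact Submodule.zero_mem _

end Groth.Agent.S19043
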