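import Groth.Statements.S19045
import Groth.Agent.H55.ASPlaces
open Groth.Agent.H55

set_option autoImplicit false
universe u v
open FunFld

namespace Groth.Agent.S19045

/-- Let `k` be algebraically closed of characteristic `2` and `K = k(x, y)` with `y² + y = f(x)`, `K`
separable of degree `2` over `k(x)`; let `B ⊆ k` be a finite set containing `0` such that `f` has a
pole of odd order `d_β` at `x = β` for every `β ∈ B` and is integral at all other places of `k(x)`.
Then `y` is integral at the places of `K` above `x = ∞` and has order `0` at one of them, and for `α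
∈ B` and `j ∈ ℤ` the divisor of poles of `y (x - α)^j` consists of: order `max(d_α - 2j, 0)` at the
place above `α`, order exactly `d_β` above every other `β ∈ B`, order `max(j - ord_P y, 0)` at each
place `P` above `∞`, and nothing elsewhere. -/
theorem result (k : Type u) (K : Type v)
    [Field k] [IsAlgClosed k] [CharP k 2] [Field K] [Algebra k K] [Algebra (RatFunc k) K] [IsScalarTower k (RatFunc k) K]
    (hK : FunFld.IsFunctionField k K) (hdeg : Module.finrank (RatFunc k) K = 2) [Algebra.IsSeparable (RatFunc k) K]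
    (y : K) (hy : y ∉ Set.range (algebraMap (RatFunc k) K)) (f : RatFunc k)
    (heq : y ^ 2 + y = algebraMap (RatFunc k) K f)
    (B : Finset k) (h0 : (0 : k) ∈ B) (d : k → ℕ) (hd : ∀ β ∈ B, Odd (d β))
    (hpole : ∀ (p : FunFld.Place k (RatFunc k)) (β : k), β ∈ B →
      p.1 ((RatFunc.X : RatFunc k) - RatFunc.C β) < 1 → p.ord f = -(d β : ℤ))
    (hint : ∀ p : FunFld.Place k (RatFunc k), (∀ β ∈ B, 1 ≤ p.1 ((RatFunc.X : RatFunc k) - RatFunc.C β)) → p.1 f ≤ 1) :
    (∀ P : FunFld.Place k K, 1 < P.1 (algebraMap (RatFunc k) K RatFunc.X) → 0 ≤ P.ord y) ∧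
    (∃ P : FunFld.Place k K, 1 < P.1 (algebraMap (RatFunc k) K RatFunc.X) ∧ P.ord y = 0) ∧
    ∀ (α : k), α ∈ B → ∀ (j : ℤ) (P : FunFld.Place k K),
      (P.1 ((algebraMap (RatFunc k) K RatFunc.X) - (algebraMap k K α)) < 1 →
        max (-(P.ord (y * ((algebraMap (RatFunc k) K RatFunc.X) - (algebraMap k K α)) ^ j))) 0 = max ((d α : ℤ) - 2 * j) 0) ∧
      (∀ β : k, β ∈ B → β ≠ α → P.1 ((algebraMap (RatFunc k) K RatFunc.X) - (algebraMap k K β)) < 1 →
        P.ord (y * ((algebraMap (RatFunc k) K RatFunc.X) - (algebraMap k K α)) ^ j) = -(d β : ℤ)) ∧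
      (1 < P.1 (algebraMap (RatFunc k) K RatFunc.X) → max (-(P.ord (y * ((algebraMap (RatFunc k) K RatFunc.X) - (algebraMap k K α)) ^ j))) 0 = max (j - P.ord y) 0) ∧
      (P.1 (algebraMap (RatFunc k) K RatFunc.X) ≤ 1 → (∀ β : k, β ∈ B → 1 ≤ P.1 ((algebraMap (RatFunc k) K RatFunc.X) - (algebraMap k K β))) → 0 ≤ P.ord (y * ((algebraMap (RatFunc k) K RatFunc.X) - (algebraMap k K α)) ^ j)) := by
  classical
  have h2k : (2 : k) = 0 := by exact_mod_cast CharP.cast_eq_zero k 2
  have h2K : (2 : K) = 0 := by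
    have := congrArg (algebraMap k K) h2k
    rwa [map_ofNat, map_zero] at this
  have D : ASData y f B d := ⟨h2K, hdeg, inferInstance, hy, heq, hd, hpole, hint⟩
  have hF : G.IsFF1 k (RatFunc k) := isFF1_ratFunc
  haveI : FiniteDimensional (RatFunc k) K :=
    Module.finite_of_finrank_pos (by rw [hdeg]; norm_num)
  have hy0 : y ≠ 0 := D.y_ne_zero
  refine ⟨fun P hP => (pl_val_le_one_iff P hy0).mp (D.inf P hP).1, ?_, ?_⟩
  · obtain ⟨p, hp⟩ := ratfunc_exists_inf (k := k)
    obtain ⟨P, e, he⟩ := exists_place_over (K' := K) hF p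
    have hPx : 1 < P.1 (algebraMap (RatFunc k) K RatFunc.X) := by
      rw [he]; exact one_lt_pow₀ hp (isOverWith_pos he).ne'
    by_cases h0 : P.ord y = 0
    · exact ⟨P, hPx, h0⟩
    · have hnn : 0 ≤ P.ord y := (pl_val_le_one_iff P hy0).mp (D.inf P hPx).1
      have hlt : P.1 y < 1 := (pl_val_lt_one_iff P hy0).mpr (lt_of_le_of_ne hnn (Ne.symm h0))
      obtain ⟨σ, hσy⟩ := as_sigma h2K hdeg y hy f heq
      refine ⟨comapGal P σ, ?_, ?_⟩
      · rw [comapGal_apply, σ.commutes]; exact hPx
      · rw [← pl_val_eq_one_iff _ hy0, comapGal_apply, hσy]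
        have h1 : P.1 y < P.1 (1 : K) := by rw [map_one]; exact hlt
        rw [Valuation.map_add_eq_of_lt_right _ h1, map_one]
  · intro α hα j P
    have ht0 : algebraMap (RatFunc k) K RatFunc.X - algebraMap k K α ≠ 0 := xK_sub_ne_zero α
    have hw : P.ord (y * (algebraMap (RatFunc k) K RatFunc.X - algebraMap k K α) ^ j) =
        P.ord y + j * P.ord (algebraMap (RatFunc k) K RatFunc.X - algebraMap k K α) := by
      rw [pl_ord_mul P hy0 (zpow_ne_zero _ ht0), pl_ord_zpow]
    refine ⟨?_, ?_, ?_, ?_⟩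
    · intro hP
      obtain ⟨h1, h2, -⟩ := D.fin_pole P hα hP
      rw [hw, h1, h2]
      congr 1
      ring
    · intro β hβ hne hP
      obtain ⟨h1, -, -⟩ := D.fin_pole P hβ hP
      have hc : algebraMap k K (β - α) ≠ 0 :=
        (map_ne_zero_iff _ (algebraMap k K).injective).mpr (sub_ne_zero.mpr hne)
      have h3 : P.1 (algebraMap (RatFunc k) K RatFunc.X - algebraMap k K α) = 1 := by
        have e1 : algebraMap (RatFunc k) K RatFunc.X - algebraMap k K α =
            (algebraMap (RatFunc k) K RatFunc.X - algebraMap k K β) + algebraMap k K (β - α) := by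
          rw [map_sub]; ring
        have h4 : P.1 (algebraMap k K (β - α)) = 1 := pl_val_const P (sub_ne_zero.mpr hne)
        rw [e1, Valuation.map_add_eq_of_lt_right _ (by rw [h4]; exact hP), h4]
      rw [hw, h1, (pl_val_eq_one_iff P ht0).mp h3]
      ring
    · intro hP
      obtain ⟨-, h2⟩ := D.inf P hP
      have h3 : P.ord (algebraMap (RatFunc k) K RatFunc.X - algebraMap k K α) = -1 := by
        rw [← h2]
        unfold Place.ord
        rw [val_sub_const_of_one_lt P hP]
      rw [hw, h3]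
      congr 1
      ring
    · intro hx hB
      have h1 : P.1 y ≤ 1 := D.other P hB
      have h3 : P.1 (algebraMap (RatFunc k) K RatFunc.X - algebraMap k K α) = 1 := by
        apply le_antisymm _ (hB α hα)
        exact (Valuation.map_sub _ _ _).trans (max_le hx (P.2.1 α))
      rw [hw, (pl_val_eq_one_iff P ht0).mp h3, mul_zero, add_zero]
      exact (pl_val_le_one_iff P hy0).mp h1

end Groth.Agent.S19045
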