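import Groth.Statements.S19046
import Groth.Agent.H55.ASH1c
open Groth.Agent.H55

set_option autoImplicit false
universe u v
open Classical
open FunFld

namespace Groth.Agent.S19046

/-- Let `k` be algebraically closed of characteristic `2`, `K = k(x, y)` with `y² + y = f(x)` separable
of degree `2` over `k(x)`, `B ⊆ k` a finite set containing `0` with `f` having a pole of odd order
`d_β` at `x = β` for `β ∈ B` and integral elsewhere, `c_β = (d_β - 1)/2`, and `P_β` a place of `K`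
above `x = β`. Identify `H¹(X, O)` of the smooth projective model with the repartitions (adeles with
components in `K`) modulo `W = A(0) + K` (everywhere-integral repartitions plus constants), a Čech
class with defining component `h` at `β` corresponding to the repartition with component `h` at
`P_β` and `0` elsewhere. Then the repartitions supported at `P_α` with value `y (x - α)^j` (`α ∈ B`,
`1 ≤ j ≤ c_α`) and with value `y` (`α ∈ B`, `α ≠ 0`) are adeles whose classes modulo `W` are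
linearly independent over `k` and, together with `W`, span the adeles: they give a basis of `H¹(X,
O)`. -/
theorem result (k : Type u) (K : Type v)
    [Field k] [IsAlgClosed k] [CharP k 2] [Field K] [Algebra k K] [Algebra (RatFunc k) K] [IsScalarTower k (RatFunc k) K]
    (hK : FunFld.IsFunctionField k K) (hdeg : Module.finrank (RatFunc k) K = 2) [Algebra.IsSeparable (RatFunc k) K]
    (y : K) (hy : y ∉ Set.range (algebraMap (RatFunc k) K)) (f : RatFunc k)
    (heq : y ^ 2 + y = algebraMap (RatFunc k) K f)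
    (B : Finset k) (h0 : (0 : k) ∈ B) (d : k → ℕ) (hd : ∀ β ∈ B, Odd (d β))
    (hpole : ∀ (p : FunFld.Place k (RatFunc k)) (β : k), β ∈ B →
      p.1 ((RatFunc.X : RatFunc k) - RatFunc.C β) < 1 → p.ord f = -(d β : ℤ))
    (hint : ∀ p : FunFld.Place k (RatFunc k), (∀ β ∈ B, 1 ≤ p.1 ((RatFunc.X : RatFunc k) - RatFunc.C β)) → p.1 f ≤ 1)
    (Pl : k → FunFld.Place k K) (hPl : ∀ β ∈ B, (Pl β).1 ((algebraMap (RatFunc k) K RatFunc.X) - (algebraMap k K β)) < 1) :
    (∀ i, (Sum.elim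
        (fun a : {a : ↥B × ℕ // 1 ≤ a.2 ∧ 2 * a.2 + 1 ≤ d (a.1 : k)} =>
          (Pi.single (Pl (a.1.1 : k)) (y * ((algebraMap (RatFunc k) K RatFunc.X) - (algebraMap k K (a.1.1 : k))) ^ a.1.2) : FunFld.Place k K → K))
        (fun b : {b : ↥B // (b : k) ≠ 0} => (Pi.single (Pl (b.1 : k)) y : FunFld.Place k K → K))) i ∈ FunFld.adele k K) ∧
    LinearIndependent k (fun i => Submodule.mkQ (FunFld.AD (0 : FunFld.Divisor k K) ⊔ LinearMap.range (FunFld.diag k K)) ((Sum.elim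
        (fun a : {a : ↥B × ℕ // 1 ≤ a.2 ∧ 2 * a.2 + 1 ≤ d (a.1 : k)} =>
          (Pi.single (Pl (a.1.1 : k)) (y * ((algebraMap (RatFunc k) K RatFunc.X) - (algebraMap k K (a.1.1 : k))) ^ a.1.2) : FunFld.Place k K → K))
        (fun b : {b : ↥B // (b : k) ≠ 0} => (Pi.single (Pl (b.1 : k)) y : FunFld.Place k K → K))) i)) ∧
    ∀ a : FunFld.Place k K → K, a ∈ FunFld.adele k K →
      a ∈ (FunFld.AD (0 : FunFld.Divisor k K) ⊔ LinearMap.range (FunFld.diag k K)) ⊔ Submodule.span k (Set.range (Sum.elim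
        (fun a : {a : ↥B × ℕ // 1 ≤ a.2 ∧ 2 * a.2 + 1 ≤ d (a.1 : k)} =>
          (Pi.single (Pl (a.1.1 : k)) (y * ((algebraMap (RatFunc k) K RatFunc.X) - (algebraMap k K (a.1.1 : k))) ^ a.1.2) : FunFld.Place k K → K))
        (fun b : {b : ↥B // (b : k) ≠ 0} => (Pi.single (Pl (b.1 : k)) y : FunFld.Place k K → K)))) := by
  have h2k : (2 : k) = 0 := by exact_mod_cast CharP.cast_eq_zero k 2
  have h2K : (2 : K) = 0 := by
    have := congrArg (algebraMap k K) h2k
    rwa [map_ofNat, map_zero] at this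
  have D : ASData y f B d := ⟨h2K, hdeg, inferInstance, hy, heq, hd, hpole, hint⟩
  let v : ({a : ↥B × ℕ // 1 ≤ a.2 ∧ 2 * a.2 + 1 ≤ d (a.1 : k)} ⊕ {b : ↥B // (b : k) ≠ 0}) →
      (FunFld.Place k K → K) := Sum.elim
    (fun a : {a : ↥B × ℕ // 1 ≤ a.2 ∧ 2 * a.2 + 1 ≤ d (a.1 : k)} =>
      (Pi.single (Pl (a.1.1 : k)) (y * ((algebraMap (RatFunc k) K RatFunc.X) - (algebraMap k K (a.1.1 : k))) ^ a.1.2) : FunFld.Place k K → K))
    (fun b : {b : ↥B // (b : k) ≠ 0} => (Pi.single (Pl (b.1 : k)) y : FunFld.Place k K → K))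
  change (∀ i, v i ∈ FunFld.adele k K) ∧
    LinearIndependent k (fun i => Submodule.mkQ
      (FunFld.AD (0 : FunFld.Divisor k K) ⊔ LinearMap.range (FunFld.diag k K)) (v i)) ∧
    ∀ a : FunFld.Place k K → K, a ∈ FunFld.adele k K →
      a ∈ (FunFld.AD (0 : FunFld.Divisor k K) ⊔ LinearMap.range (FunFld.diag k K)) ⊔
        Submodule.span k (Set.range v)
  have hdpos : ∀ β ∈ B, 0 < (d β + 1) / 2 := by
    intro β hβ
    obtain ⟨c, hc⟩ := hd β hβ
    omega
  let ψ : ({a : ↥B × ℕ // 1 ≤ a.2 ∧ 2 * a.2 + 1 ≤ d (a.1 : k)} ⊕ {b : ↥B // (b : k) ≠ 0}) →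
      ↥(asIdx B d) := Sum.elim
    (fun a => ⟨⟨(a.1.1 : k), a.1.2⟩, mem_asIdx.mpr ⟨by
      intro h
      have h1 : a.1.2 = 0 := congrArg (fun τ : (Σ _ : k, ℕ) => τ.2) h
      have h2 := a.2.1
      omega, a.1.1.2, by
      have h2 := a.2.2
      show a.1.2 < (d (a.1.1 : k) + 1) / 2
      omega⟩⟩)
    (fun b => ⟨⟨(b.1 : k), 0⟩, mem_asIdx.mpr ⟨by
      intro h
      exact b.2 (congrArg (fun τ : (Σ _ : k, ℕ) => τ.1) h), b.1.2, hdpos _ b.1.2⟩⟩)
  have hvψ : ∀ i, v i = asVec Pl y (ψ i).1 := by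
    rintro (a | b)
    · rfl
    · show (Pi.single (Pl (b.1 : k)) y : FunFld.Place k K → K) =
        Pi.single (Pl (b.1 : k)) (y * _ ^ 0)
      rw [pow_zero, mul_one]
  have hψinj : Function.Injective ψ := by
    rintro (a | b) (a' | b') h
    · have h' : (⟨(a.1.1 : k), a.1.2⟩ : Σ _ : k, ℕ) = ⟨(a'.1.1 : k), a'.1.2⟩ :=
        congrArg Subtype.val h
      have h1 : (a.1.1 : k) = a'.1.1 := congrArg (fun τ : (Σ _ : k, ℕ) => τ.1) h'
      have h2 : a.1.2 = a'.1.2 := congrArg (fun τ : (Σ _ : k, ℕ) => τ.2) h'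
      exact congrArg Sum.inl (Subtype.ext (Prod.ext (Subtype.ext h1) h2))
    · exfalso
      have h' : (⟨(a.1.1 : k), a.1.2⟩ : Σ _ : k, ℕ) = ⟨(b'.1 : k), 0⟩ := congrArg Subtype.val h
      have h2 : a.1.2 = 0 := congrArg (fun τ : (Σ _ : k, ℕ) => τ.2) h'
      have := a.2.1
      omega
    · exfalso
      have h' : (⟨(b.1 : k), 0⟩ : Σ _ : k, ℕ) = ⟨(a'.1.1 : k), a'.1.2⟩ := congrArg Subtype.val h
      have h2 : 0 = a'.1.2 := congrArg (fun τ : (Σ _ : k, ℕ) => τ.2) h'
      have := a'.2.1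
      omega
    · have h' : (⟨(b.1 : k), 0⟩ : Σ _ : k, ℕ) = ⟨(b'.1 : k), 0⟩ := congrArg Subtype.val h
      have h1 : (b.1 : k) = b'.1 := congrArg (fun τ : (Σ _ : k, ℕ) => τ.1) h'
      exact congrArg Sum.inr (Subtype.ext (Subtype.ext h1))
  have hψsurj : Function.Surjective ψ := by
    rintro ⟨⟨β, j⟩, hτ⟩
    obtain ⟨hne, hβ, hj⟩ := mem_asIdx.mp hτ
    by_cases hj0 : j = 0
    · subst hj0
      have hβ0 : β ≠ 0 := by
        rintro rfl
        exact hne rfl
      exact ⟨Sum.inr ⟨⟨β, hβ⟩, hβ0⟩, rfl⟩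
    · refine ⟨Sum.inl ⟨(⟨β, hβ⟩, j), ⟨by omega, ?_⟩⟩, rfl⟩
      show 2 * j + 1 ≤ d β
      change j < (d β + 1) / 2 at hj
      omega
  refine ⟨?_, ?_, ?_⟩
  · intro i
    rw [hvψ]
    exact single_mem_adele _ _
  · have h1 := (D.asVec_indep h0 Pl hPl).comp ψ hψinj
    have h2 : (fun i => Submodule.mkQ
        (FunFld.AD (0 : FunFld.Divisor k K) ⊔ LinearMap.range (FunFld.diag k K)) (v i)) =
        (fun τ : ↥(asIdx B d) => Submodule.mkQ
          (FunFld.AD (0 : FunFld.Divisor k K) ⊔ LinearMap.range (FunFld.diag k K))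
            (asVec Pl y τ.1)) ∘ ψ := by
      funext i
      rw [Function.comp_apply, hvψ]
    rw [h2]
    exact h1
  · intro a ha
    have h1 := D.asVec_span hK h0 Pl hPl a ha
    have hmono : Submodule.span k (Set.range fun τ : ↥(asIdx B d) => asVec Pl y τ.1) ≤
        Submodule.span k (Set.range v) := by
      apply Submodule.span_mono
      rintro _ ⟨τ, rfl⟩
      obtain ⟨i, hi⟩ := hψsurj τ
      exact ⟨i, by rw [hvψ, hi]⟩
    exact (sup_le_sup_left hmono _) h1

end Groth.Agent.S19046
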