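import Groth.Statements.S19048
import Groth.Agent.H95.NfilLib

set_option autoImplicit false
universe u
open Dieu

namespace Groth.Agent.S19048

open W4c6eohyperellchar2 Groth.Agent.H95

/-- Let `k` be a perfect field of characteristic `2`, `c` a natural number and `a_1, …, a_c ∈ k` with
`a_c ≠ 0`. On the `2c`-dimensional `k`-space with basis `λ_1, …, λ_c, σ_1, …, σ_c` let `F` be
Frobenius-semilinear with `F λ_j = 0`, `F σ_j = σ_{2j}` for `2j ≤ c`, `F σ_j = Σ_{i=j}^{c} a_i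
λ_{2i-2j+1}` for `2j > c`, and `V` inverse-Frobenius-semilinear with `V λ_j = λ_{j/2}` (`j` even),
`0` (`j` odd), `V σ_j = 0` (`j` even), `V σ_j = Σ_{i=(j+1)/2}^{c} a_i^{1/2} λ_{i-(j-1)/2}` (`j` odd)
— the shape of `F` and `V` on the block of the first de Rham cohomology of `y² − y = f(x)` belonging
to a branch point with invariant `d = 2c + 1`, `a_i` the coefficients of the odd polynomial `f_α`.
Put `N_i = ⟨λ_1, …, λ_i⟩` for `i ≤ c` and `N_i = ⟨λ_1, …, λ_c, σ_{2c-i+1}, …, σ_c⟩` for `c ≤ i ≤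
2c`. Then for `0 ≤ i ≤ 2c`: `dim N_i = i`, `V(N_i) = N_{⌊i/2⌋}` and `F⁻¹(N_i) = N_{c+⌈i/2⌉}`; so
`(N_i)` is a final filtration with `dim V(N_i) = ⌊i/2⌋`. (The published statement adjoins the `σ_j`
starting from `σ_1`; then `V(N_{c+1})` contains `V σ_1`, whose `λ_c`-coefficient is a square root of
`a_c ≠ 0`, so it is not `N_{⌊(c+1)/2⌋}` once `c ≥ 2`; adjoining them from `σ_c` downward, as here,
makes both identities hold.) -/
theorem result (c : ℕ) (k : Type u) [Field k] [CharP k 2] [PerfectRing k 2]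
    (a : ℕ → k) (ha : a c ≠ 0) (i : ℕ) (hi : i ≤ 2 * c) :
    Module.finrank k (W4c6eohyperellchar2.Nfil c k i) = i ∧
      W4c6eohyperellchar2.NV c k a '' (W4c6eohyperellchar2.Nfil c k i : Set (W4c6eohyperellchar2.GcMod c k)) = (W4c6eohyperellchar2.Nfil c k (i / 2) : Set (W4c6eohyperellchar2.GcMod c k)) ∧
      W4c6eohyperellchar2.NF c k a ⁻¹' (W4c6eohyperellchar2.Nfil c k i : Set (W4c6eohyperellchar2.GcMod c k)) = (W4c6eohyperellchar2.Nfil c k (c + (i + 1) / 2) : Set (W4c6eohyperellchar2.GcMod c k)) := by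
  refine ⟨finrank_Nfil c k i hi, ?_, ?_⟩
  · ext w
    constructor
    · rintro ⟨v, hv, rfl⟩
      exact (mem_Nfil_iff c k _ _).mpr (NV_mem c k a i hi v ((mem_Nfil_iff c k _ _).mp hv))
    · intro hw
      obtain ⟨v, hv, hvw⟩ := NV_surj c k a ha i hi (i / 2) le_rfl w ((mem_Nfil_iff c k _ _).mp hw)
      exact ⟨v, (mem_Nfil_iff c k _ _).mpr hv, hvw⟩
  · ext v
    constructor
    · intro hv
      exact (mem_Nfil_iff c k _ _).mpr
        (NF_preimage c k a ha i hi v ((mem_Nfil_iff c k _ _).mp hv))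
    · intro hv
      exact (mem_Nfil_iff c k _ _).mpr (NF_mem c k a i hi v ((mem_Nfil_iff c k _ _).mp hv))

end Groth.Agent.S19048
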