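import Groth.Statements.S19104
import Groth.Agent.H79.DnFlag

set_option autoImplicit false
open CategoryTheory CategoryTheory.Limits AlgebraicGeometry
universe u
open HilbD

namespace Groth.Agent.S19104

/-- Let f : X ⟶ S be smooth of relative dimension 1, μ a non-empty Young diagram and n a reversed plane
partition of shape μ (a labelling of the cells by naturals, non-decreasing along rows and columns).
Call relative divisor of degree d a closed subscheme of X, given by a quasi-coherent ideal sheaf,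
whose projection to S is finite locally free of degree d; sums of divisors are products of ideal
sheaves. Then every flag (Z_c)_{c ∈ μ} of relative divisors of degrees n_c which grows along rows
and columns has exactly one system of edge data of type n — the corner divisor Z_00, for each cell
(i,j) with i ≥ 1 a divisor X_ij of degree n_ij − n_{i−1,j} with Z_ij = Z_{i−1,j} + X_ij, and for
each cell with j ≥ 1 a divisor Y_ij of degree n_ij − n_{i,j−1} with Z_ij = Z_{i,j−1} + Y_ij — and
this edge data satisfies X_ij + Y_{i−1,j} = Y_ij + X_{i,j−1} for every cell with i, j ≥ 1. (The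
published statement is for X = C × T ⟶ T with C a smooth irreducible quasi-projective complex curve
and T a complex scheme, and identifies, through T-points, the scheme of such flags with the zero
scheme of a section of a vector bundle on the product of symmetric powers that carries the edge
data; the vanishing of the pulled-back section at a T-point amounts to the containment of Y_ij +
X_{i,j−1} in X_ij + Y_{i−1,j}, which for divisors of equal degree is the equality stated last. Here
f is any smooth morphism of relative dimension 1, and neither the bundle nor its section is formed.) -/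
theorem result {X S : Scheme.{u}} (f : X ⟶ S) [SmoothOfRelativeDimension 1 f]
    (μ : YoungDiagram) (h00 : ((0, 0) : ℕ × ℕ) ∈ μ) (n : ℕ × ℕ → ℕ) (hn : HilbD.IsRevPlanePartition μ n)
    (Z : ∀ c : ℕ × ℕ, c ∈ μ → X.IdealSheafData) (hZ : HilbD.IsDnFlag f μ n Z) :
    (∃! E : HilbD.DnEdgeData μ X, E.IsOfType f n ∧ E.IsEdgesOf h00 Z) ∧
      ∀ E : HilbD.DnEdgeData μ X, E.IsOfType f n → E.IsEdgesOf h00 Z →
        ∀ (c : ℕ × ℕ) (hc : c ∈ μ) (hi : 1 ≤ c.1) (hj : 1 ≤ c.2), E.gammaOne c hc hi hj = E.gammaTwo c hc hi hj := by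
  obtain ⟨hdeg, hmono⟩ := hZ
  -- the steps exist by the difference of divisors
  have hup : ∀ (c : ℕ × ℕ) (hc : c ∈ μ), Z c hc ≤ Z (c.1 - 1, c.2) (HilbD.mem_up hc) :=
    fun c hc => hmono _ _ _ _ ⟨Nat.sub_le c.1 1, le_rfl⟩
  have hleft : ∀ (c : ℕ × ℕ) (hc : c ∈ μ), Z c hc ≤ Z (c.1, c.2 - 1) (HilbD.mem_left hc) :=
    fun c hc => hmono _ _ _ _ ⟨le_rfl, Nat.sub_le c.2 1⟩
  have hv : ∀ (c : ℕ × ℕ) (hc : c ∈ μ), ∃ I : X.IdealSheafData,
      HilbD.IsDivOfDeg f (n c - n (c.1 - 1, c.2)) I ∧
        Z c hc = Z (c.1 - 1, c.2) (HilbD.mem_up hc) * I :=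
    fun c hc => Groth.Agent.S1172.result f _ _ (hup c hc) _ _ (hdeg _ _) (hdeg c hc)
  have hh : ∀ (c : ℕ × ℕ) (hc : c ∈ μ), ∃ I : X.IdealSheafData,
      HilbD.IsDivOfDeg f (n c - n (c.1, c.2 - 1)) I ∧
        Z c hc = Z (c.1, c.2 - 1) (HilbD.mem_left hc) * I :=
    fun c hc => Groth.Agent.S1172.result f _ _ (hleft c hc) _ _ (hdeg _ _) (hdeg c hc)
  choose V hVdeg hVeq using hv
  choose W hWdeg hWeq using hh
  refine ⟨⟨⟨Z (0, 0) h00, fun c hc _ => V c hc, fun c hc _ => W c hc⟩, ⟨?_, ?_⟩, ?_⟩, ?_⟩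
  · exact ⟨hdeg _ _, fun c hc _ => hVdeg c hc, fun c hc _ => hWdeg c hc⟩
  · exact ⟨rfl, fun c hc _ => hVeq c hc, fun c hc _ => hWeq c hc⟩
  · rintro E' ⟨-, hE'⟩
    obtain ⟨hb, hv', hh'⟩ := hE'
    apply HilbD.DnEdgeData.ext
    · exact hb.symm
    · funext c hc hi
      exact Groth.Agent.H79.DnFlag.mul_left_cancel f _ _ _ (hdeg _ (HilbD.mem_up hc))
        ((hv' c hc hi).symm.trans (hVeq c hc))
    · funext c hc hj
      exact Groth.Agent.H79.DnFlag.mul_left_cancel f _ _ _ (hdeg _ (HilbD.mem_left hc))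
        ((hh' c hc hj).symm.trans (hWeq c hc))
  · intro E _ hE c hc hi hj
    obtain ⟨-, hv', hh'⟩ := hE
    -- both products, multiplied by the corner divisor, give `Z c`
    have h1 : Z c hc = Z (c.1 - 1, c.2 - 1) (HilbD.mem_left (HilbD.mem_up hc)) *
        E.gammaOne c hc hi hj := by
      rw [hv' c hc hi, hh' (c.1 - 1, c.2) (HilbD.mem_up hc) hj]
      unfold HilbD.DnEdgeData.gammaOne
      rw [mul_assoc, mul_comm (E.horiz _ _ _)]
    have h2 : Z c hc = Z (c.1 - 1, c.2 - 1) (HilbD.mem_left (HilbD.mem_up hc)) *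
        E.gammaTwo c hc hi hj := by
      rw [hh' c hc hj, hv' (c.1, c.2 - 1) (HilbD.mem_left hc) hi]
      unfold HilbD.DnEdgeData.gammaTwo
      rw [mul_assoc, mul_comm (E.vert _ _ _)]
    exact Groth.Agent.H79.DnFlag.mul_left_cancel f _ _ _
      (hdeg _ (HilbD.mem_left (HilbD.mem_up hc))) (h1.symm.trans h2)


end Groth.Agent.S19104
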