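import Groth.Statements.S19105
import Groth.Agent.H79.DnFlag2

set_option autoImplicit false
open CategoryTheory CategoryTheory.Limits AlgebraicGeometry
universe u
open HilbD

namespace Groth.Agent.S19105

/-- Let f : X ⟶ S be smooth of relative dimension 1, μ a non-empty Young diagram and n a reversed plane
partition of shape μ (a labelling of the cells by naturals, non-decreasing along rows and columns).
Call relative divisor of degree d a closed subscheme of X, given by a quasi-coherent ideal sheaf,
whose projection to S is finite locally free of degree d; sums of divisors are products of ideal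
sheaves. Let edge data of type n be given: a relative divisor Z_00 of degree n_00, for each cell
(i,j) with i ≥ 1 a relative divisor X_ij of degree n_ij − n_{i−1,j} and for each cell with j ≥ 1 a
relative divisor Y_ij of degree n_ij − n_{i,j−1}, such that for every cell with i, j ≥ 1 the divisor
Y_ij + X_{i,j−1} is contained in X_ij + Y_{i−1,j} (containment of ideal sheaves the other way). Then
there is exactly one flag (Z_c)_{c ∈ μ} of relative divisors of degrees n_c, growing along rows and
columns, with corner Z_00 and with Z_ij = Z_{i−1,j} + X_ij and Z_ij = Z_{i,j−1} + Y_ij throughout.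
(The published statement is for X = C × T ⟶ T with C a smooth irreducible quasi-projective complex
curve and T a complex scheme, and identifies, through T-points, the scheme of such flags with the
zero scheme of a section of a vector bundle on the product of symmetric powers that carries the edge
data; the vanishing of the pulled-back section at a T-point amounts to the stated containment of
divisors. Here f is any smooth morphism of relative dimension 1, and neither the bundle nor its
section is formed.) -/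
theorem result {X S : Scheme.{u}} (f : X ⟶ S) [SmoothOfRelativeDimension 1 f]
    (μ : YoungDiagram) (h00 : ((0, 0) : ℕ × ℕ) ∈ μ) (n : ℕ × ℕ → ℕ) (hn : HilbD.IsRevPlanePartition μ n)
    (E : HilbD.DnEdgeData μ X) (hE : E.IsOfType f n)
    (hcomm : ∀ (c : ℕ × ℕ) (hc : c ∈ μ) (hi : 1 ≤ c.1) (hj : 1 ≤ c.2), E.gammaOne c hc hi hj ≤ E.gammaTwo c hc hi hj) :
    ∃! Z : ∀ c : ℕ × ℕ, c ∈ μ → X.IdealSheafData, HilbD.IsDnFlag f μ n Z ∧ E.IsEdgesOf h00 Z := by
  have hP4 := Groth.Agent.H79.DnFlag2.Zf_succ_left f n hn hE hcomm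
  refine ⟨fun c _ => Groth.Agent.H79.DnFlag2.Zf E c.1 c.2, ⟨⟨?_, ?_⟩, ?_, ?_, ?_⟩, ?_⟩
  · intro c hc
    exact Groth.Agent.H79.DnFlag2.Zf_deg f n hn hE c.1 c.2 hc
  · intro c c' hc hc' hle
    have hmid : ((c.1, c'.2) : ℕ × ℕ) ∈ μ :=
      μ.isLowerSet (show ((c.1, c'.2) : ℕ × ℕ) ≤ c' from ⟨hle.1, le_rfl⟩) hc'
    exact (Groth.Agent.H79.DnFlag2.Zf_mono_left f n hn hE hcomm c.1 c'.1 c'.2 hle.1 hc').trans
      (Groth.Agent.H79.DnFlag2.Zf_mono_right c.1 c.2 c'.2 hle.2)
  · exact Groth.Agent.H79.DnFlag2.Zf_zero E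
  · rintro ⟨a, b⟩ hc hi
    obtain ⟨i, rfl⟩ : ∃ i, a = i + 1 := ⟨a - 1, by simp at hi; omega⟩
    show Groth.Agent.H79.DnFlag2.Zf E (i + 1) b =
      Groth.Agent.H79.DnFlag2.Zf E (i + 1 - 1) b * E.vert (i + 1, b) hc hi
    rw [Nat.add_sub_cancel, hP4 i b hc, Groth.Agent.H79.DnFlag2.vt_eq E _ hc hi]
  · rintro ⟨a, b⟩ hc hj
    obtain ⟨j, rfl⟩ : ∃ j, b = j + 1 := ⟨b - 1, by simp at hj; omega⟩
    show Groth.Agent.H79.DnFlag2.Zf E a (j + 1) =
      Groth.Agent.H79.DnFlag2.Zf E a (j + 1 - 1) * E.horiz (a, j + 1) hc hj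
    rw [Nat.add_sub_cancel, Groth.Agent.H79.DnFlag2.Zf_succ_right,
      Groth.Agent.H79.DnFlag2.hz_eq E _ hc hj]
  · rintro Z' ⟨-, hb, hv, hh⟩
    have key : ∀ (j i : ℕ) (h : ((i, j) : ℕ × ℕ) ∈ μ),
        Z' (i, j) h = Groth.Agent.H79.DnFlag2.Zf E i j := by
      intro j
      induction j with
      | zero =>
        intro i
        induction i with
        | zero => intro h; rw [Groth.Agent.H79.DnFlag2.Zf_zero]; exact hb
        | succ i ih =>
          intro h
          have hi : 1 ≤ ((i + 1, 0) : ℕ × ℕ).1 := Nat.le_add_left 1 i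
          have hup : ((i, 0) : ℕ × ℕ) ∈ μ := HilbD.mem_up h
          have h1 := hv (i + 1, 0) h hi
          rw [Groth.Agent.H79.DnFlag2.Zf_succ_zero, Groth.Agent.H79.DnFlag2.vt_eq E _ h hi,
            ← ih hup]
          exact h1
      | succ j ih =>
        intro i h
        have hj : 1 ≤ ((i, j + 1) : ℕ × ℕ).2 := Nat.le_add_left 1 j
        have hleft : ((i, j) : ℕ × ℕ) ∈ μ := HilbD.mem_left h
        have h1 := hh (i, j + 1) h hj
        rw [Groth.Agent.H79.DnFlag2.Zf_succ_right, Groth.Agent.H79.DnFlag2.hz_eq E _ h hj,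
          ← ih i hleft]
        exact h1
    funext c hc
    exact key c.2 c.1 hc


end Groth.Agent.S19105
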