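import Groth.Statements.S19106
import Mathlib.Combinatorics.Young.YoungDiagram

set_option autoImplicit false
open HilbD

namespace Groth.Agent.S19106

/-- Let μ be a non-empty Young diagram, V the number of its cells, E the number of unordered pairs of
cells sharing a side (a cell together with the cell immediately below it, or immediately to its
right, both in μ) and Q the number of 2 × 2 blocks of cells of μ (cells c such that the cell
diagonally below-right of c is in μ, the other two corners being in μ automatically). Then V − E + Q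
− 1 = 0, stated as V + Q = E + 1 in the naturals. (The empty diagram, for which the count reads 0 −
0 + 0 − 1, is excluded.) -/
theorem result (μ : YoungDiagram) (hμ : μ ≠ ⊥) :
    μ.cells.card + (μ.cells.filter (fun c => (c.1 + 1, c.2 + 1) ∈ μ)).card =
      (μ.cells.filter (fun c => (c.1 + 1, c.2) ∈ μ)).card + (μ.cells.filter (fun c => (c.1, c.2 + 1) ∈ μ)).card + 1 := by
  classical
  -- the corner cell belongs to μ
  have h00 : ((0, 0) : ℕ × ℕ) ∈ μ := by
    by_contra h
    apply hμ
    rw [eq_bot_iff]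
    intro c hc
    exfalso
    apply h
    have hc' : c ∈ μ := (YoungDiagram.mem_cells c).mp hc
    exact μ.up_left_mem (Nat.zero_le c.1) (Nat.zero_le c.2) hc'
  have hR : 1 ≤ μ.rowLen 0 := by
    have := YoungDiagram.mem_iff_lt_rowLen.mp h00
    omega
  -- bottoms of columns
  have hA : (μ.cells.filter (fun c => ¬ (c.1 + 1, c.2) ∈ μ)).card = μ.rowLen 0 := by
    rw [← Finset.card_range (μ.rowLen 0)]
    symm
    apply Finset.card_bij (fun j _ => (μ.colLen j - 1, j))
    · intro j hj
      rw [Finset.mem_range] at hj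
      have h0j : ((0, j) : ℕ × ℕ) ∈ μ := YoungDiagram.mem_iff_lt_rowLen.mpr hj
      have hpos : 0 < μ.colLen j := YoungDiagram.mem_iff_lt_colLen.mp h0j
      rw [Finset.mem_filter, YoungDiagram.mem_cells, YoungDiagram.mem_iff_lt_colLen,
        YoungDiagram.mem_iff_lt_colLen]
      dsimp only
      constructor <;> omega
    · intro j _ j' _ h
      exact (Prod.mk.inj h).2
    · rintro ⟨i, j⟩ hc
      rw [Finset.mem_filter, YoungDiagram.mem_cells] at hc
      obtain ⟨hc1, hc2⟩ := hc
      have h0j : ((0, j) : ℕ × ℕ) ∈ μ := μ.up_left_mem (Nat.zero_le i) le_rfl hc1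
      refine ⟨j, Finset.mem_range.mpr (YoungDiagram.mem_iff_lt_rowLen.mp h0j), ?_⟩
      rw [YoungDiagram.mem_iff_lt_colLen] at hc1 hc2
      simp only at hc1 hc2
      have : μ.colLen j - 1 = i := by omega
      rw [this]
  -- cells whose right neighbour is a bottom of its column
  have hC : (μ.cells.filter (fun c => (c.1, c.2 + 1) ∈ μ ∧ ¬ (c.1 + 1, c.2 + 1) ∈ μ)).card
      = μ.rowLen 0 - 1 := by
    rw [← Finset.card_range (μ.rowLen 0 - 1)]
    symm
    apply Finset.card_bij (fun j _ => (μ.colLen (j + 1) - 1, j))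
    · intro j hj
      rw [Finset.mem_range] at hj
      have h0j : ((0, j + 1) : ℕ × ℕ) ∈ μ := YoungDiagram.mem_iff_lt_rowLen.mpr (by omega)
      have hpos : 0 < μ.colLen (j + 1) := YoungDiagram.mem_iff_lt_colLen.mp h0j
      have hmem : ((μ.colLen (j + 1) - 1, j + 1) : ℕ × ℕ) ∈ μ :=
        YoungDiagram.mem_iff_lt_colLen.mpr (by omega)
      rw [Finset.mem_filter, YoungDiagram.mem_cells]
      refine ⟨μ.up_left_mem le_rfl (Nat.le_succ j) hmem, hmem, ?_⟩
      rw [YoungDiagram.mem_iff_lt_colLen]
      dsimp only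
      omega
    · intro j _ j' _ h
      exact (Prod.mk.inj h).2
    · rintro ⟨i, j⟩ hc
      rw [Finset.mem_filter, YoungDiagram.mem_cells] at hc
      obtain ⟨_, hc1, hc2⟩ := hc
      simp only at hc1 hc2
      have h0j : ((0, j + 1) : ℕ × ℕ) ∈ μ := μ.up_left_mem (Nat.zero_le i) le_rfl hc1
      have hj : j + 1 < μ.rowLen 0 := YoungDiagram.mem_iff_lt_rowLen.mp h0j
      refine ⟨j, Finset.mem_range.mpr (by omega), ?_⟩
      rw [YoungDiagram.mem_iff_lt_colLen] at hc1 hc2
      have : μ.colLen (j + 1) - 1 = i := by omega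
      rw [this]
  have hV := Finset.card_filter_add_card_filter_not (s := μ.cells)
    (fun c : ℕ × ℕ => (c.1 + 1, c.2) ∈ μ)
  have hE := Finset.card_filter_add_card_filter_not
    (s := μ.cells.filter (fun c : ℕ × ℕ => (c.1, c.2 + 1) ∈ μ))
    (fun c : ℕ × ℕ => (c.1 + 1, c.2 + 1) ∈ μ)
  rw [Finset.filter_filter, Finset.filter_filter] at hE
  have hQ : μ.cells.filter (fun c : ℕ × ℕ => (c.1, c.2 + 1) ∈ μ ∧ (c.1 + 1, c.2 + 1) ∈ μ)
      = μ.cells.filter (fun c : ℕ × ℕ => (c.1 + 1, c.2 + 1) ∈ μ) := by
    apply Finset.filter_congr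
    intro c _
    constructor
    · exact fun h => h.2
    · exact fun h => ⟨μ.up_left_mem (Nat.le_succ c.1) le_rfl h, h⟩
  rw [hQ, hC] at hE
  rw [hA] at hV
  omega

end Groth.Agent.S19106
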