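import Groth.Statements.S19130
import Mathlib
import Groth.Agent.H4.SepClosedPush
import Groth.Agent.S0626
import Groth.Agent.H45.ExtAdjAcy
import Groth.Agent.H45.EtPullExact

set_option autoImplicit false
universe u
open CategoryTheory CategoryTheory.Limits AlgebraicGeometry Opposite
open EtCoh

namespace Groth.Agent.S19130

open Groth.Agent.H4 Groth.Agent.H4.SkyH1 Groth.Agent.H4.GenStalk Groth.Agent.H4.NormalConst

theorem projective_ulift_int : Projective (AddCommGrpCat.of (ULift.{u + 1} ℤ)) := by
  constructor
  intro E X f e he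
  have hs : Function.Surjective e := (AddCommGrpCat.epi_iff_surjective e).1 he
  obtain ⟨x, hx⟩ := hs (f.hom (ULift.up 1))
  refine ⟨AddCommGrpCat.ofHom (uliftZMultiplesHom E x), ?_⟩
  apply AddCommGrpCat.hom_ext
  apply (uliftZMultiplesHom X).symm.injective
  simp [hx]
  rfl

/-- `H^0` is global sections. -/
noncomputable def h0Equiv (Y : Scheme.{u}) (F : EtCoh.Ab Y) :
    EtCoh.H Y F 0 ≃ ToType ((EtCore.gsec Y).obj F) :=
  (Abelian.Ext.homEquiv₀).trans (((EtCore.constAdj Y).homEquiv _ _).trans
    (ConcreteCategory.homEquiv.trans (uliftZMultiplesHom _).symm))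

theorem card_gsec_const (Y : Scheme.{u}) [IsIntegral Y] (M : Type) [AddCommGroup M] :
    Nat.card (ToType ((EtCore.gsec Y).obj (EtCoh.const Y M))) = Nat.card M := by
  let A : AddCommGrpCat.{u + 1} := AddCommGrpCat.of (ULift.{u + 1} M)
  obtain ⟨y₀⟩ : Nonempty Y := inferInstance
  haveI : PreconnectedSpace (EtCoh.top Y).left :=
    inferInstanceAs (PreconnectedSpace Y)
  have hbij : Function.Bijective (etaU (Y := Y) A (EtCoh.top Y)).hom := by
    refine ⟨etaU_injective A (EtCoh.top Y) y₀, fun t => ?_⟩
    obtain ⟨a, ha⟩ := exists_eq_etaU_of_connected (EtCoh.top Y) y₀ A t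
    exact ⟨a, ha.symm⟩
  exact (Nat.card_congr (Equiv.ofBijective _ hbij)).symm.trans (Nat.card_congr Equiv.ulift)


/-- Let p be a prime and Y an integral scheme which is normal (every local ring is integrally closed in
its fraction field) and whose function field is algebraically closed. Then the étale cohomology of
the constant sheaf Z/p on Y is Z/p in degree 0 and vanishes in positive degrees: H^0(Y_et, Z/p) has
exactly p elements and H^i(Y_et, Z/p) = 0 for i > 0. Moreover, for every nonempty open subscheme j :
U → Y, the unit morphism from the constant sheaf Z/p on Y_et to j_* of its restriction to U is an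
isomorphism. -/
theorem result
    (p : ℕ) [Fact p.Prime] (Y : Scheme.{u}) [IsIntegral Y]
    (hnorm : ∀ y : Y, IsIntegrallyClosed (Y.presheaf.stalk y)) [IsAlgClosed Y.functionField] :
    Nat.card (EtCoh.H Y (EtCoh.const Y (ZMod p)) 0) = p ∧
      (∀ i : ℕ, 0 < i → Subsingleton (EtCoh.H Y (EtCoh.const Y (ZMod p)) i)) ∧
      ∀ U : Y.Opens, (U : Set Y).Nonempty →
        IsIso ((EtCoh.pullPushAdj U.ι).unit.app (EtCoh.const Y (ZMod p))) := by
  refine ⟨?_, ?_, ?_⟩
  · rw [Nat.card_congr (h0Equiv Y _), card_gsec_const Y (ZMod p), Nat.card_zmod]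
  · intro i hi
    obtain ⟨n, rfl⟩ : ∃ n, i = n + 1 := ⟨i - 1, by omega⟩
    have hKf : IsField Y.functionField := Field.toIsField _
    haveI : Subsingleton (Spec Y.functionField) :=
      inferInstanceAs (Subsingleton (PrimeSpectrum Y.functionField))
    haveI : IsSepClosed Y.functionField := inferInstance
    have h2 : ∀ s : Spec Y.functionField, IsSepClosed ((Spec Y.functionField).residueField s) :=
      fun s => Groth.Agent.H4.SepClosedPush.isSepClosed_residueField_spec Y.functionField hKf
        inferInstance s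
    have h1 : ∀ s : Spec Y.functionField, IsClosed ({s} : Set (Spec Y.functionField)) :=
      fun s => isClosed_discrete _
    haveI hu := Groth.Agent.S0626.result Y hnorm (ZMod p)
    let g := Y.fromSpecStalk (genericPoint Y)
    let G := (EtCoh.pull g).obj (EtCoh.const Y (ZMod p))
    have e1 : EtCoh.H Y (EtCoh.const Y (ZMod p)) (n + 1) ≃+
        EtCoh.H Y ((EtCoh.push g).obj G) (n + 1) :=
      ((EtCoh.HF Y (n + 1)).mapIso
        (asIso ((EtCoh.pullPushAdj g).unit.app (EtCoh.const Y (ZMod p))))).addCommGroupIsoToAddEquiv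
    haveI : PreservesFiniteColimits (EtCoh.push g) :=
      Groth.Agent.H4.SepClosedPush.preservesFiniteColimits_push h2 _
    haveI : PreservesFiniteLimits (EtCoh.push g) := by
      haveI : PreservesLimitsOfSize.{0, 0} (EtCoh.push g) :=
        (EtCoh.pullPushAdj _).rightAdjoint_preservesLimits
      exact PreservesLimitsOfSize.preservesFiniteLimits _
    haveI : PreservesFiniteLimits (EtCoh.pull g) :=
      Groth.Agent.H45.preservesFiniteLimits_pullAb _
    obtain ⟨e2⟩ := Groth.Agent.H45.ExtAdj.nonempty_ext_addEquiv_of_rightDerived_isZero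
      (EtCoh.pullPushAdj g) G
      (fun q hq => Groth.Agent.H45.ExtAdj.isZero_rightDerived_of_exact (EtCoh.push g) G q hq)
      ((constantSheaf Y.smallEtaleTopology AddCommGrpCat.{u + 1}).obj
        (AddCommGrpCat.of (ULift.{u + 1} ℤ))) (n + 1)
    haveI : (EtCore.gsec (Spec Y.functionField)).PreservesEpimorphisms := by
      constructor
      intro F G φ hφ
      have hs := Groth.Agent.H4.gsec_map_surjective_of_zeroDim (Spec Y.functionField) h1 h2 φ
      exact (AddCommGrpCat.epi_iff_surjective
        ((EtCore.gsec (Spec Y.functionField)).map φ)).2 hs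
    haveI hproj : Projective ((constantSheaf (Spec Y.functionField).smallEtaleTopology
        AddCommGrpCat.{u + 1}).obj (AddCommGrpCat.of (ULift.{u + 1} ℤ))) :=
      (EtCore.constAdj (Spec Y.functionField)).map_projective _ projective_ulift_int
    haveI : Projective ((EtCoh.pull g).obj
        ((constantSheaf Y.smallEtaleTopology AddCommGrpCat.{u + 1}).obj
          (AddCommGrpCat.of (ULift.{u + 1} ℤ)))) :=
      Projective.of_iso (EtCore.pullConst g ℤ).symm hproj
    haveI : Subsingleton (Abelian.Ext ((EtCoh.pull g).obj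
        ((constantSheaf Y.smallEtaleTopology AddCommGrpCat.{u + 1}).obj
          (AddCommGrpCat.of (ULift.{u + 1} ℤ)))) G (n + 1)) :=
      Abelian.Ext.subsingleton_of_projective _ G n
    haveI : Subsingleton (EtCoh.H Y ((EtCoh.push g).obj G) (n + 1)) :=
      e2.symm.toEquiv.subsingleton
    exact e1.toEquiv.subsingleton
  · intro U hU
    apply Groth.Agent.H4.NormalConst.isIso_unit_const Y hnorm U.ι _ (ZMod p)
    rw [Scheme.Opens.range_ι]
    exact ((genericPoint_spec Y).mem_open_set_iff U.isOpen).2 (by simpa using hU)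

end Groth.Agent.S19130
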