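import Groth.Statements.S19131
import Mathlib.CategoryTheory.Localization.CalculusOfFractions
import Mathlib.CategoryTheory.Localization.Triangulated

set_option autoImplicit false
universe v u v' u'
open CategoryTheory CategoryTheory.Limits CategoryTheory.Pretriangulated CategoryTheory.Triangulated
open PervT

namespace Groth.Agent.S19131

section
variable {C : Type u} [Category.{v} C] [Preadditive C] [HasZeroObject C] [HasShift C ℤ]
    [∀ n : ℤ, (shiftFunctor C n).Additive] [Pretriangulated C] [IsTriangulated C]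
    (t : TStructure C) (hb : ∀ X : C, t.bounded X)
    (D : ObjectProperty C) [D.IsTriangulated] [D.IsClosedUnderIsomorphisms]
    (h1 : ∀ X : C, D X → ∀ n : ℤ, D ((t.truncGELE n n).obj X))

include hb h1 in
lemma D_truncLE (X : C) (hX : D X) (n : ℤ) : D ((t.truncLE n).obj X) := by
  obtain ⟨⟨a, ha⟩, -⟩ := hb X
  -- upward induction from a - 1
  have key : ∀ k : ℕ, D ((t.truncLE (a - 1 + k)).obj X) := by
    intro k
    induction k with
    | zero =>
      apply ObjectProperty.prop_of_isZero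
      simpa using t.isZero_truncLE_obj_of_isGE (a - 1) a (by lia) X
    | succ k ih =>
      set m : ℤ := a - 1 + ((k + 1 : ℕ) : ℤ) with hm
      have hm' : a - 1 + (k : ℤ) = m - 1 := by rw [hm]; push_cast; omega
      rw [hm'] at ih
      set Y := (t.truncLE m).obj X with hY
      have hT := t.triangleLEGE_distinguished (m - 1) m (by lia) Y
      refine D.ext_of_isTriangulatedClosed₂ _ hT ?_ ?_
      · dsimp [TStructure.triangleLEGE]
        have := t.isIso_truncLE_map_truncLEι_app (m - 1) m (by lia) X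
        exact D.prop_of_iso (asIso ((t.truncLE (m - 1)).map ((t.truncLEι m).app X))).symm ih
      · dsimp [TStructure.triangleLEGE]
        exact h1 X hX m
  by_cases hn : a - 1 ≤ n
  · obtain ⟨k, hk⟩ := Int.nonneg_def.1 hn
    have : n = a - 1 + k := by lia
    rw [this]; exact key k
  · apply ObjectProperty.prop_of_isZero
    have : t.IsGE X (n + 1) := t.isGE_of_ge X (n + 1) a (by lia)
    exact t.isZero_truncLE_obj_of_isGE n (n + 1) rfl X

include hb h1 in
lemma D_truncGE (X : C) (hX : D X) (n : ℤ) : D ((t.truncGE n).obj X) := by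
  have hT := t.triangleLEGE_distinguished (n - 1) n (by lia) X
  exact D.ext_of_isTriangulatedClosed₃ ((t.triangleLEGE (n - 1) n (by lia)).obj X) hT
    (D_truncLE t hb D h1 X hX (n - 1)) hX

include hb h1 in
lemma D_truncLT (X : C) (hX : D X) (n : ℤ) : D ((t.truncLT n).obj X) := by
  have hT := t.triangleLTGE_distinguished n X
  exact D.ext_of_isTriangulatedClosed₁ ((t.triangleLTGE n).obj X) hT hX
    (D_truncGE t hb D h1 X hX n)


variable (h2 : ∀ (X Y Z : C) (f : X ⟶ Y) (g : Y ⟶ Z) (h : Z ⟶ X⟦(1 : ℤ)⟧),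
      Triangle.mk f g h ∈ distTriang C → t.heart X → t.heart Y → t.heart Z → D Y → D X ∧ D Z)

include hb h1 h2 in
lemma lemmaB {A T P : C} (u : A ⟶ T) (v : T ⟶ P) (w : P ⟶ A⟦(1 : ℤ)⟧)
    (hT : Triangle.mk u v w ∈ distTriang C) (hA : D A) [t.IsGE T 0] [t.IsLE P (-1)] : D T := by
  let A' := (t.truncGE 0).obj A
  let π : A ⟶ A' := (t.truncGEπ 0).app A
  let u' : A' ⟶ T := t.descTruncGE u 0
  have hu' : π ≫ u' = u := t.π_descTruncGE u 0
  obtain ⟨Q, v', w', hQ⟩ := distinguished_cocone_triangle u'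
  have hπ := rot_of_distTriang _ (t.triangleLTGE_distinguished 0 A)
  have H := someOctahedron hu' hπ hQ hT
  have hQle : t.IsLE Q (-1) := by
    have h3 := rot_of_distTriang _ H.mem
    have e0 : t.IsLE ((t.truncLT 0).obj A) (-1) := t.isLE_truncLT_obj A 0 (-1)
    have e1 : t.IsLE (((t.truncLT 0).obj A)⟦(1 : ℤ)⟧) (-2) := t.isLE_shift _ (-1) 1 (-2)
    have e2 : t.IsLE ((((t.truncLT 0).obj A)⟦(1 : ℤ)⟧)⟦(1 : ℤ)⟧) (-3) := t.isLE_shift _ (-2) 1 (-3)
    have e3 : t.IsLE ((((t.truncLT 0).obj A)⟦(1 : ℤ)⟧)⟦(1 : ℤ)⟧) (-1) := t.isLE_of_le _ (-3) (-1)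
    exact t.isLE₂ _ h3 (-1) (by assumption) e3
  have hQge : t.IsGE Q (-1) := by
    have h3 := rot_of_distTriang _ hQ
    have e1 : t.IsGE T (-1) := t.isGE_of_ge T (-1) 0
    have e2 : t.IsGE (A'⟦(1 : ℤ)⟧) (-1) := t.isGE_shift A' 0 1 (-1)
    exact t.isGE₂ _ h3 (-1) e1 e2
  -- the kernel object K = Q[-1] in the heart
  have hK := inv_rot_of_distTriang _ hQ
  let K : C := Q⟦(-1 : ℤ)⟧
  have hKle : t.IsLE K 0 := t.isLE_shift Q (-1) (-1) 0
  have hKge : t.IsGE K 0 := t.isGE_shift Q (-1) (-1) 0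
  let vK : K ⟶ A' := (Triangle.mk u' v' w').invRotate.mor₁
  let v'' : K ⟶ (t.truncLE 0).obj A' := t.liftTruncLE vK 0
  have hv'' : v'' ≫ (t.truncLEι 0).app A' = vK := t.liftTruncLE_ι vK 0
  obtain ⟨T0, p, r, hT0⟩ := distinguished_cocone_triangle v''
  have H2 := someOctahedron hv'' hT0 (t.triangleLEGE_distinguished 0 1 rfl A') hK
  have hT0le : t.IsLE T0 0 := by
    have h3 := rot_of_distTriang _ hT0
    have e1 : t.IsLE (K⟦(1 : ℤ)⟧) (-1) := t.isLE_shift K 0 1 (-1)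
    have e2 : t.IsLE (K⟦(1 : ℤ)⟧) 0 := t.isLE_of_le _ (-1) 0
    have e3 : t.IsLE ((t.truncLE 0).obj A') 0 := inferInstance
    exact t.isLE₂ _ h3 0 e3 e2
  have hT0ge : t.IsGE T0 0 := by
    have h3 := inv_rot_of_distTriang _ H2.mem
    have e1 : t.IsGE (((t.truncGE 1).obj A')⟦(-1 : ℤ)⟧) 2 := t.isGE_shift _ 1 (-1) 2
    have e2 : t.IsGE (((t.truncGE 1).obj A')⟦(-1 : ℤ)⟧) 0 := t.isGE_of_ge _ 0 2
    exact t.isGE₂ _ h3 0 e2 (by assumption)
  have hDA' : D A' := D_truncGE t hb D h1 A hA 0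
  have hDτ : D ((t.truncLE 0).obj A') := D_truncLE t hb D h1 A' hDA' 0
  have hτge : t.IsGE ((t.truncLE 0).obj A') 0 := inferInstance
  obtain ⟨-, hDT0⟩ := h2 K ((t.truncLE 0).obj A') T0 v'' p r hT0
    ((t.mem_heart_iff _).2 ⟨hKle, hKge⟩) ((t.mem_heart_iff _).2 ⟨inferInstance, hτge⟩)
    ((t.mem_heart_iff _).2 ⟨hT0le, hT0ge⟩) hDτ
  have hD1 : D ((t.truncGE 1).obj A') := D_truncGE t hb D h1 A' hDA' 1
  exact D.ext_of_isTriangulatedClosed₂ _ H2.mem hDT0 hD1


include hb h1 h2 in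
lemma lemmaA {A B Cc : C} (f : A ⟶ B) (g : B ⟶ Cc) (h : Cc ⟶ A⟦(1 : ℤ)⟧)
    (hT : Triangle.mk f g h ∈ distTriang C) (hA : D A) [t.IsLE Cc (-1)] :
    D ((t.truncGE 0).obj B) := by
  let T := (t.truncGE 0).obj B
  let π : B ⟶ T := (t.truncGEπ 0).app B
  obtain ⟨P, v, w, hP⟩ := distinguished_cocone_triangle (f ≫ π)
  have hπ := rot_of_distTriang _ (t.triangleLTGE_distinguished 0 B)
  have H := someOctahedron rfl hT hπ hP
  have hPle : t.IsLE P (-1) := by
    have e0 : t.IsLE ((t.truncLT 0).obj B) (-1) := t.isLE_truncLT_obj B 0 (-1)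
    have e1 : t.IsLE (((t.truncLT 0).obj B)⟦(1 : ℤ)⟧) (-2) := t.isLE_shift _ (-1) 1 (-2)
    have e2 : t.IsLE (((t.truncLT 0).obj B)⟦(1 : ℤ)⟧) (-1) := t.isLE_of_le _ (-2) (-1)
    exact t.isLE₂ _ H.mem (-1) (by assumption) e2
  have hTge : t.IsGE T 0 := inferInstance
  exact lemmaB t hb D h1 h2 (f ≫ π) v w hP hA

include hb h1 h2 in
/-- Key lemma: a `D`-quasi-isomorphism into an object `≤ 0` can be precomposed by a
`D`-quasi-isomorphism from an object `≤ 0`. -/
lemma exists_le_trW {X' X : C} (s : X' ⟶ X) (hs : D.trW s) [t.IsLE X 0] :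
    ∃ (X'' : C) (ι : X'' ⟶ X'), t.IsLE X'' 0 ∧ D.trW ι := by
  rw [D.trW_iff] at hs
  obtain ⟨Z, g, h, hT, hZ⟩ := hs
  have hT2 := rot_of_distTriang _ (rot_of_distTriang _ hT)
  have e1 : t.IsLE (X⟦(1 : ℤ)⟧) (-1) := t.isLE_shift X 0 1 (-1)
  have hD : D ((t.truncGE 0).obj (X'⟦(1 : ℤ)⟧)) :=
    lemmaA t hb D h1 h2 (A := Z) (B := X'⟦(1 : ℤ)⟧) (Cc := X⟦(1 : ℤ)⟧) h (-s⟦(1 : ℤ)⟧')
      (-g⟦(1 : ℤ)⟧') hT2 hZ
  have hW : D.trW ((t.truncLTι 0).app (X'⟦(1 : ℤ)⟧)) :=
    ObjectProperty.trW.mk D (t.triangleLTGE_distinguished 0 (X'⟦(1 : ℤ)⟧)) hD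
  have hW' := hW.shift (-1)
  let e : (X'⟦(1 : ℤ)⟧)⟦(-1 : ℤ)⟧ ≅ X' := (shiftEquiv C (1 : ℤ)).unitIso.symm.app X'
  refine ⟨((t.truncLT 0).obj (X'⟦(1 : ℤ)⟧))⟦(-1 : ℤ)⟧,
    ((t.truncLTι 0).app (X'⟦(1 : ℤ)⟧))⟦(-1 : ℤ)⟧' ≫ e.hom, ?_, ?_⟩
  · have e0 : t.IsLE ((t.truncLT 0).obj (X'⟦(1 : ℤ)⟧)) (-1) := t.isLE_truncLT_obj _ 0 (-1)
    exact t.isLE_shift _ (-1) (-1) 0
  · exact D.trW.comp_mem _ _ hW' (D.trW_of_isIso e.hom)


section Quot

variable {E : Type u'} [Category.{v'} E] [Preadditive E] [HasZeroObject E] [HasShift E ℤ]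
    [∀ n : ℤ, (shiftFunctor E n).Additive] [Pretriangulated E]
    (q : C ⥤ E) [q.CommShift ℤ] [q.IsTriangulated] [q.IsLocalization D.trW]

include hb h1 h2 in
lemma hom_zero (X Y : C) [t.IsLE X 0] [t.IsGE Y 1] (f : q.obj X ⟶ q.obj Y) : f = 0 := by
  obtain ⟨φ, rfl⟩ := Localization.exists_rightFraction q D.trW f
  obtain ⟨X'', ι, hX'', hι⟩ := exists_le_trW t hb D h1 h2 φ.s φ.hs
  have hiso : IsIso (q.map ι) := Localization.inverts q D.trW ι hι
  have h0 : ι ≫ φ.f = 0 := t.zero _ 0 1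
  have h3 : q.map φ.f = 0 := by
    rw [← cancel_epi (q.map ι), ← q.map_comp, h0, q.map_zero, comp_zero]
  simp [MorphismProperty.RightFraction.map, h3]

/-- objects of the quotient which are `≤ n`. -/
def qLE (n : ℤ) : ObjectProperty E := fun Y => ∃ X : C, t.IsLE X n ∧ Nonempty (q.obj X ≅ Y)

/-- objects of the quotient which are `≥ n`. -/
def qGE (n : ℤ) : ObjectProperty E := fun Y => ∃ X : C, t.IsGE X n ∧ Nonempty (q.obj X ≅ Y)

instance (n : ℤ) : (qLE t q n).IsClosedUnderIsomorphisms where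
  of_iso e := by
    rintro ⟨X, hX, ⟨e'⟩⟩
    exact ⟨X, hX, ⟨e' ≪≫ e⟩⟩

instance (n : ℤ) : (qGE t q n).IsClosedUnderIsomorphisms where
  of_iso e := by
    rintro ⟨X, hX, ⟨e'⟩⟩
    exact ⟨X, hX, ⟨e' ≪≫ e⟩⟩

set_option backward.isDefEq.respectTransparency.types false in
set_option backward.defeqAttrib.useBackward true in
include hb h1 h2 in
/-- The quotient t-structure. -/
noncomputable def quotT : TStructure E where
  le := qLE t q
  ge := qGE t q
  le_shift := by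
    rintro n a n' h Y ⟨X, hX, ⟨e⟩⟩
    exact ⟨X⟦a⟧, t.isLE_shift X n a n' h,
      ⟨(q.commShiftIso a).app X ≪≫ (shiftFunctor E a).mapIso e⟩⟩
  ge_shift := by
    rintro n a n' h Y ⟨X, hX, ⟨e⟩⟩
    exact ⟨X⟦a⟧, t.isGE_shift X n a n' h,
      ⟨(q.commShiftIso a).app X ≪≫ (shiftFunctor E a).mapIso e⟩⟩
  zero' := by
    rintro Y₁ Y₂ f ⟨X₁, hX₁, ⟨e₁⟩⟩ ⟨X₂, hX₂, ⟨e₂⟩⟩
    have := hom_zero t hb D h1 h2 q X₁ X₂ (e₁.hom ≫ f ≫ e₂.inv)
    rw [← cancel_epi e₁.hom, ← cancel_mono e₂.inv]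
    simpa using this
  le_zero_le := by
    rintro Y ⟨X, hX, e⟩
    exact ⟨X, t.isLE_of_le X 0 1, e⟩
  ge_one_le := by
    rintro Y ⟨X, hX, e⟩
    exact ⟨X, t.isGE_of_ge X 0 1, e⟩
  exists_triangle_zero_one := by
    intro A
    have : q.EssSurj := Localization.essSurj q D.trW
    let e := q.objObjPreimageIso A
    obtain ⟨X, Y, hX, hY, f, g, h, hT⟩ := t.exists_triangle_zero_one (q.objPreimage A)
    refine ⟨q.obj X, q.obj Y, ⟨X, ⟨hX⟩, ⟨Iso.refl _⟩⟩, ⟨Y, ⟨hY⟩, ⟨Iso.refl _⟩⟩,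
      q.map f ≫ e.hom, e.inv ≫ q.map g, q.map h ≫ (q.commShiftIso (1 : ℤ)).hom.app X, ?_⟩
    refine isomorphic_distinguished _ (q.map_distinguished _ hT) _ ?_
    exact Triangle.isoMk _ _ (Iso.refl _) e.symm (Iso.refl _) (by dsimp; simp) (by dsimp; simp)
      (by dsimp; simp)

end Quot

section Uniq

variable {E : Type u'} [Category.{v'} E] [Preadditive E] [HasZeroObject E] [HasShift E ℤ]
    [∀ n : ℤ, (shiftFunctor E n).Additive] [Pretriangulated E]

lemma tstructure_ext {t₁ t₂ : TStructure E} (hle : ∀ n, t₁.le n = t₂.le n)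
    (hge : ∀ n, t₁.ge n = t₂.ge n) : t₁ = t₂ := by
  cases t₁
  cases t₂
  obtain rfl := funext hle
  obtain rfl := funext hge
  rfl

lemma tstructure_eq_of_le {t₁ t₂ : TStructure E} (hle : ∀ n, t₁.le n ≤ t₂.le n)
    (hge : ∀ n, t₁.ge n ≤ t₂.ge n) : t₁ = t₂ := by
  apply tstructure_ext
  · intro n
    apply le_antisymm (hle n)
    intro Y hY
    rw [TStructure.le_iff_isLE] at hY ⊢
    rw [t₁.isLE_iff_orthogonal n (n + 1) rfl]
    intro Z f hZ
    have : t₂.IsGE Z (n + 1) := ⟨hge _ _ hZ.ge⟩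
    exact t₂.zero f n (n + 1)
  · intro n
    apply le_antisymm (hge n)
    intro Y hY
    rw [TStructure.ge_iff_isGE] at hY ⊢
    rw [t₁.isGE_iff_orthogonal (n - 1) n (by lia)]
    intro Z f hZ
    have : t₂.IsLE Z (n - 1) := ⟨hle _ _ hZ.le⟩
    exact t₂.zero f (n - 1) n

end Uniq

end

/-- Let C be a triangulated category (octahedron axiom included) carrying a bounded t-structure t (every
object is ≥ a and ≤ b for some integers a, b), and let D be a strictly full triangulated subcategory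
of C (a property of objects containing zero, stable under shifts, extensions and isomorphisms) such
that (1) for X in D and every integer n the n-th cohomology object of X for t, realised as τ^{≥ n}
τ^{≤ n} X, lies in D, and (2) the objects of D in the heart of t are closed under subobjects and
quotients in the heart: for every distinguished triangle X → Y → Z → X[1] whose three vertices lie
in the heart, if Y is in D then so are X and Z. Let q : C ⥤ E be a triangulated functor to a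
pretriangulated category E which exhibits E as the localization of C at the class of morphisms whose
cone lies in D (the Verdier quotient of C by D). Then E carries exactly one t-structure for which q
is t-exact (q sends objects ≤ n to objects ≤ n and objects ≥ n to objects ≥ n), and for this
t-structure an object of E is ≤ n, respectively ≥ n, if and only if it is isomorphic to q X for some
X ≤ n, respectively X ≥ n, in C. (The source also identifies the heart of this t-structure with the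
quotient of the heart of t by its intersection with D; that identification is not asserted here.) -/
theorem result
    {C : Type u} [Category.{v} C] [Preadditive C] [HasZeroObject C] [HasShift C ℤ]
    [∀ n : ℤ, (shiftFunctor C n).Additive] [Pretriangulated C] [IsTriangulated C]
    (t : TStructure C) (hb : ∀ X : C, t.bounded X)
    (D : ObjectProperty C) [D.IsTriangulated] [D.IsClosedUnderIsomorphisms]
    (h1 : ∀ X : C, D X → ∀ n : ℤ, D ((t.truncGELE n n).obj X))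
    (h2 : ∀ (X Y Z : C) (f : X ⟶ Y) (g : Y ⟶ Z) (h : Z ⟶ X⟦(1 : ℤ)⟧),
      Triangle.mk f g h ∈ distTriang C → t.heart X → t.heart Y → t.heart Z → D Y → D X ∧ D Z)
    {E : Type u'} [Category.{v'} E] [Preadditive E] [HasZeroObject E] [HasShift E ℤ]
    [∀ n : ℤ, (shiftFunctor E n).Additive] [Pretriangulated E]
    (q : C ⥤ E) [q.CommShift ℤ] [q.IsTriangulated] [q.IsLocalization D.trW] :
    ∃ t' : TStructure E,
      (∀ (X : C) (n : ℤ), t.IsLE X n → t'.IsLE (q.obj X) n) ∧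
      (∀ (X : C) (n : ℤ), t.IsGE X n → t'.IsGE (q.obj X) n) ∧
      (∀ (Y : E) (n : ℤ), t'.IsLE Y n ↔ ∃ X : C, t.IsLE X n ∧ Nonempty (q.obj X ≅ Y)) ∧
      (∀ (Y : E) (n : ℤ), t'.IsGE Y n ↔ ∃ X : C, t.IsGE X n ∧ Nonempty (q.obj X ≅ Y)) ∧
      ∀ t'' : TStructure E,
        (∀ (X : C) (n : ℤ), t.IsLE X n → t''.IsLE (q.obj X) n) →
        (∀ (X : C) (n : ℤ), t.IsGE X n → t''.IsGE (q.obj X) n) → t'' = t' := by
  refine ⟨quotT t hb D h1 h2 q, ?_, ?_, ?_, ?_, ?_⟩
  · intro X n hX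
    exact ⟨⟨X, hX, ⟨Iso.refl _⟩⟩⟩
  · intro X n hX
    exact ⟨⟨X, hX, ⟨Iso.refl _⟩⟩⟩
  · intro Y n
    rw [← TStructure.le_iff_isLE]
    exact Iff.rfl
  · intro Y n
    rw [← TStructure.ge_iff_isGE]
    exact Iff.rfl
  · intro t'' hle hge
    symm
    apply tstructure_eq_of_le
    · rintro n Y ⟨X, hX, ⟨e⟩⟩
      have := hle X n hX
      exact (t''.le n).prop_of_iso e this.le
    · rintro n Y ⟨X, hX, ⟨e⟩⟩
      have := hge X n hX
      exact (t''.ge n).prop_of_iso e this.ge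

end Groth.Agent.S19131
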