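import Groth.Statements.S19135
import Groth.Agent.H71.LD.Uniq
import Groth.Agent.S1812
import Groth.Agent.S0299

set_option autoImplicit false
universe u
open CategoryTheory
attribute [local instance] HasDerivedCategory.standard
open Dual

namespace Groth.Agent.S19135

/-- In the case of the spectrum of the base local ring and its closed point, let A be a Noetherian local
ring with maximal ideal m and ω a normalized dualizing complex over A (Hom(k, ω[i]) = 0 in D(A) for
i ≠ 0), assume the total right derived functor RΓ_m of the m-power-torsion functor exists on D(A),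
and let M be an object of D(A) which is bounded with finitely generated cohomology modules. Then
RHom(M, ω) is concentrated in degrees ≥ 0 (Hom(M, ω[i]) = 0 for all i < 0) if and only if RΓ_m M is
concentrated in degrees ≤ 0 (H^i(RΓ_m M) = 0 for all i > 0); and RHom(M, ω) is concentrated in
degrees ≤ 0 if and only if RΓ_m M is concentrated in degrees ≥ 0. In particular M is perverse
coherent (RHom(M, ω) concentrated in degree 0) exactly when its local cohomology at m is
concentrated in degree 0. (The published statement of the two halves, read in cohomological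
indexing, has the inequalities on the local cohomology side exchanged: over a field k with ω = k,
the complex k[1] has RHom(k[1], ω) = k[−1] concentrated in degrees ≥ 0 while its local cohomology
k[1] is concentrated in degree −1, not in degrees ≥ 0. This statement gives the form that local
duality yields, which is the one compatible with the description of the perverse t-structure by
support conditions.) -/
theorem result
    (A : Type u) [CommRing A] [IsLocalRing A] [IsNoetherianRing A]
    (ω : Dual.D A) (hω : Dual.IsDualizing A ω) (hn : Dual.IsNormalized A ω)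
    [DRing.HasRgammaI (IsLocalRing.maximalIdeal A)] (M : Dual.D A)
    (hfin : ∀ i : ℤ, Module.Finite A (Dual.HD A M i))
    (hbd : ∃ a b : ℤ, ∀ i : ℤ, (i < a ∨ b < i) → Subsingleton (Dual.HD A M i)) :
    ((∀ i : ℤ, i < 0 → Subsingleton (M ⟶ ω⟦i⟧)) ↔
      (∀ i : ℤ, 0 < i → Subsingleton (Dual.HD A ((DRing.RgammaI (IsLocalRing.maximalIdeal A)).obj M) i))) ∧
    ((∀ i : ℤ, 0 < i → Subsingleton (M ⟶ ω⟦i⟧)) ↔
      (∀ i : ℤ, i < 0 → Subsingleton (Dual.HD A ((DRing.RgammaI (IsLocalRing.maximalIdeal A)).obj M) i))) := by
  classical
  obtain ⟨E, _, _, f, hf⟩ := Groth.Agent.S0299.result A (IsLocalRing.ResidueField A)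
  obtain ⟨e⟩ := Groth.Agent.H71.LD.exists_e ω hω hn f hf
  haveI : Module.Injective A E := hf.isInjective
  have hE := Groth.Agent.S0311.result A E f hf
  have hres := Groth.Agent.H71.LD.base_case ω hω hn f hf e
  obtain ⟨a, b, hab⟩ := hbd
  have hbdd : ∀ i : ℤ, (i < a ∨ b < i) →
      Limits.IsZero ((DerivedCategory.homologyFunctor (ModuleCat.{u} A) i).obj M) := fun i hi => by
    haveI : Subsingleton ((DerivedCategory.homologyFunctor (ModuleCat.{u} A) i).obj M) := hab i hi
    exact ModuleCat.isZero_of_subsingleton _
  have hP := Groth.Agent.H71.LD.P_of_bounded ω e.toLinearMap hω hE hres M hfin a b hbdd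
  have hFG : (IsLocalRing.maximalIdeal A).FG := IsNoetherian.noetherian _
  have key : ∀ j : ℤ, Subsingleton (Dual.HD A ((DRing.RgammaI (IsLocalRing.maximalIdeal A)).obj M) j) ↔
      Subsingleton (M ⟶ ω⟦(-j)⟧) := by
    intro j
    obtain ⟨e1⟩ := Groth.Agent.S1812.result A (IsLocalRing.maximalIdeal A) hFG M j
    obtain ⟨es⟩ := Groth.Agent.LDS.shiftEquiv A M ω j
    have e2 : Dual2.HDI A (IsLocalRing.maximalIdeal A) M j ≃ₗ[A]
        ((M⟦j⟧ ⟶ ω⟦(0 : ℤ)⟧) →ₗ[A] E) := LinearEquiv.ofBijective _ (hP j)
    have e3 := e1 ≪≫ₗ e2 ≪≫ₗ LinearEquiv.congrLeft E A es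
    haveI : Module.Finite A (M ⟶ ω⟦(-j)⟧) :=
      Groth.Agent.H71.LD.finite_hom_dualizing ω hω M hfin (-j)
    obtain ⟨X', _, _, _, ⟨eX⟩⟩ := Groth.Agent.H71.LD.exists_small_model A (M ⟶ ω⟦(-j)⟧)
    have e4 := e3 ≪≫ₗ LinearEquiv.congrLeft E A eX
    constructor
    · intro h
      haveI : Subsingleton (X' →ₗ[A] E) := e4.symm.toEquiv.subsingleton
      haveI : Subsingleton X' :=
        ⟨fun x y => Groth.Agent.H2.Matlis.applyₗ_injective hf X' (Subsingleton.elim _ _)⟩
      exact eX.toEquiv.subsingleton
    · intro h
      haveI : Subsingleton X' := eX.symm.toEquiv.subsingleton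
      haveI : Subsingleton (X' →ₗ[A] E) :=
        ⟨fun ψ ψ' => LinearMap.ext fun x => by rw [Subsingleton.elim x 0, map_zero, map_zero]⟩
      exact e4.toEquiv.subsingleton
  constructor
  · constructor
    · intro h i hi
      rw [key i]
      exact h (-i) (by omega)
    · intro h i hi
      have := (key (-i)).1 (h (-i) (by omega))
      rwa [neg_neg] at this
  · constructor
    · intro h i hi
      rw [key i]
      exact h (-i) (by omega)
    · intro h i hi
      have := (key (-i)).1 (h (-i) (by omega))
      rwa [neg_neg] at this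

end Groth.Agent.S19135
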