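import Groth.Statements.S19136
-- import your own Groth.Agent.* helpers here

set_option autoImplicit false
universe u
open Instab

namespace Groth.Agent.S19136

theorem aux (P₀ P₁ L₀ L₁ P t : ℝ) (h₀ : 0 < P₀) (h₁ : 0 < P₁) (hL₀ : 0 ≤ L₀) (hL₁ : 0 ≤ L₁)
    (ht₀ : 0 < t) (ht₁ : t < 1) (hP : 0 < P) (hle : P ≤ t * P₀ + (1 - t) * P₁) :
    min (L₀ / P₀) (L₁ / P₁) ≤ (t * L₀ + (1 - t) * L₁) / P ∧
      ((t * L₀ + (1 - t) * L₁) / P = min (L₀ / P₀) (L₁ / P₁) → L₀ / P₀ = L₁ / P₁) := by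
  set m := min (L₀ / P₀) (L₁ / P₁) with hm
  have hm0 : 0 ≤ m := le_min (div_nonneg hL₀ h₀.le) (div_nonneg hL₁ h₁.le)
  have hm₀ : m * P₀ ≤ L₀ := by
    have := min_le_left (L₀ / P₀) (L₁ / P₁)
    rwa [le_div_iff₀ h₀] at this
  have hm₁ : m * P₁ ≤ L₁ := by
    have := min_le_right (L₀ / P₀) (L₁ / P₁)
    rwa [le_div_iff₀ h₁] at this
  have ht1' : 0 < 1 - t := by linarith
  have e1 : m * P ≤ m * (t * P₀ + (1 - t) * P₁) := mul_le_mul_of_nonneg_left hle hm0
  have e2 : t * (m * P₀) ≤ t * L₀ := mul_le_mul_of_nonneg_left hm₀ ht₀.le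
  have e3 : (1 - t) * (m * P₁) ≤ (1 - t) * L₁ := mul_le_mul_of_nonneg_left hm₁ ht1'.le
  have key : m * P ≤ t * L₀ + (1 - t) * L₁ := by nlinarith
  refine ⟨by rw [le_div_iff₀ hP]; exact key, ?_⟩
  intro heq
  rw [div_eq_iff hP.ne'] at heq
  have ha : 0 ≤ L₀ - m * P₀ := by linarith
  have hb : 0 ≤ L₁ - m * P₁ := by linarith
  have hsum : t * (L₀ - m * P₀) + (1 - t) * (L₁ - m * P₁) ≤ 0 := by nlinarith
  have hta : 0 ≤ t * (L₀ - m * P₀) := mul_nonneg ht₀.le ha
  have htb : 0 ≤ (1 - t) * (L₁ - m * P₁) := mul_nonneg ht1'.le hb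
  have ha0 : t * (L₀ - m * P₀) = 0 := by linarith
  have hb0 : (1 - t) * (L₁ - m * P₁) = 0 := by linarith
  have ha1 : L₀ - m * P₀ = 0 := by
    rcases mul_eq_zero.mp ha0 with h | h
    · exact absurd h ht₀.ne'
    · exact h
  have hb1 : L₁ - m * P₁ = 0 := by
    rcases mul_eq_zero.mp hb0 with h | h
    · exact absurd h ht1'.ne'
    · exact h
  have r0 : L₀ / P₀ = m := by rw [div_eq_iff h₀.ne']; linarith
  have r1 : L₁ / P₁ = m := by rw [div_eq_iff h₁.ne']; linarith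
  rw [r0, r1]

/-- Let p be a seminorm and ℓ a linear form on a real vector space, let y₀ and y₁ be vectors at which p
is positive and ℓ is non-negative, and let y = t y₀ + (1 - t) y₁ with 0 < t < 1 be a point of the
open segment at which p is positive. Then ℓ(y)/p(y) is at least the smaller of ℓ(y₀)/p(y₀) and
ℓ(y₁)/p(y₁), and if it equals that smaller value then ℓ(y₀)/p(y₀) = ℓ(y₁)/p(y₁). (The published
lemma concerns the numerical invariant attached to a degree-two cohomology class and a semi-norm on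
graded points of a stack; restricted to one rational simplex that invariant is the quotient of a
linear form by a semi-norm on the non-negative orthant of a real coordinate space, and local
quasi-concavity there amounts to this inequality with its equality clause, the set where the linear
form is non-negative being automatically convex; the lemma's further assertion, that the invariant
is positive at no pair of antipodal points, is not stated here. The vector space is arbitrary here.) -/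
theorem result {E : Type u} [AddCommGroup E] [Module ℝ E]
    (p : Seminorm ℝ E) (ℓ : E →ₗ[ℝ] ℝ) (y₀ y₁ : E) (h₀ : 0 < p y₀) (h₁ : 0 < p y₁)
    (hℓ₀ : 0 ≤ ℓ y₀) (hℓ₁ : 0 ≤ ℓ y₁) (t : ℝ) (ht₀ : 0 < t) (ht₁ : t < 1)
    (hy : 0 < p (t • y₀ + (1 - t) • y₁)) :
    min (ℓ y₀ / p y₀) (ℓ y₁ / p y₁) ≤ ℓ (t • y₀ + (1 - t) • y₁) / p (t • y₀ + (1 - t) • y₁) ∧
      (ℓ (t • y₀ + (1 - t) • y₁) / p (t • y₀ + (1 - t) • y₁) = min (ℓ y₀ / p y₀) (ℓ y₁ / p y₁) →
        ℓ y₀ / p y₀ = ℓ y₁ / p y₁) := by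
  have hle : p (t • y₀ + (1 - t) • y₁) ≤ t * p y₀ + (1 - t) * p y₁ := by
    calc p (t • y₀ + (1 - t) • y₁) ≤ p (t • y₀) + p ((1 - t) • y₁) := map_add_le_add p _ _
      _ = t * p y₀ + (1 - t) * p y₁ := by
        rw [map_smul_eq_mul, map_smul_eq_mul, Real.norm_of_nonneg ht₀.le,
          Real.norm_of_nonneg (by linarith : (0 : ℝ) ≤ 1 - t)]
  have hℓ : ℓ (t • y₀ + (1 - t) • y₁) = t * ℓ y₀ + (1 - t) * ℓ y₁ := by
    simp [map_add, map_smul]
  rw [hℓ]
  exact aux (p y₀) (p y₁) (ℓ y₀) (ℓ y₁) _ t h₀ h₁ hℓ₀ hℓ₁ ht₀ ht₁ hy hle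

end Groth.Agent.S19136
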