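import Groth.Statements.S19137
-- import your own Groth.Agent.* helpers here

set_option autoImplicit false
universe u
open Instab

namespace Groth.Agent.S19137

theorem aux (P₀ P₁ L₀ L₁ P t : ℝ) (h₀ : 0 < P₀) (h₁ : 0 < P₁) (hL₀ : 0 < L₀) (hL₁ : 0 < L₁)
    (ht₀ : 0 < t) (ht₁ : t < 1) (hP : 0 < P) (hlt : P < t * P₀ + (1 - t) * P₁) :
    min (L₀ / P₀) (L₁ / P₁) < (t * L₀ + (1 - t) * L₁) / P := by
  set m := min (L₀ / P₀) (L₁ / P₁) with hm
  have hm0 : 0 < m := lt_min (div_pos hL₀ h₀) (div_pos hL₁ h₁)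
  have hm₀ : m * P₀ ≤ L₀ := by
    have := min_le_left (L₀ / P₀) (L₁ / P₁)
    rwa [le_div_iff₀ h₀] at this
  have hm₁ : m * P₁ ≤ L₁ := by
    have := min_le_right (L₀ / P₀) (L₁ / P₁)
    rwa [le_div_iff₀ h₁] at this
  have ht1' : 0 < 1 - t := by linarith
  have e1 : m * P < m * (t * P₀ + (1 - t) * P₁) := mul_lt_mul_of_pos_left hlt hm0
  have e2 : t * (m * P₀) ≤ t * L₀ := mul_le_mul_of_nonneg_left hm₀ ht₀.le
  have e3 : (1 - t) * (m * P₁) ≤ (1 - t) * L₁ := mul_le_mul_of_nonneg_left hm₁ ht1'.le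
  have key : m * P < t * L₀ + (1 - t) * L₁ := by nlinarith
  rw [lt_div_iff₀ hP]; exact key

/-- Let p be a seminorm on a real vector space whose unit ball is strictly convex in the sense that p(a
+ b) < p(a) + p(b) whenever p(a) and p(b) are non-zero and b is not a positive multiple of a; let ℓ
be a linear form, y₀ and y₁ vectors with p and ℓ positive at both and y₁ not a positive multiple of
y₀, and y = t y₀ + (1 - t) y₁ with 0 < t < 1 a point at which p is positive. Then ℓ(y)/p(y) is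
strictly greater than the smaller of ℓ(y₀)/p(y₀) and ℓ(y₁)/p(y₁). (The published lemma says that
when the norm on graded points is locally a norm with strictly convex unit balls, the numerical
invariant attached to a degree-two class and that norm is strictly quasi-concave on each cone and is
positive at no pair of antipodal points; on one rational simplex the first property is this strict
form of the quasi-concavity inequality for the quotient of a linear form by the norm, at points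
where the linear form is positive, and the second property is not stated here. The vector space is
arbitrary here.) -/
theorem result {E : Type u} [AddCommGroup E] [Module ℝ E]
    (p : Seminorm ℝ E)
    (hp : ∀ a b : E, p a ≠ 0 → p b ≠ 0 → (¬ ∃ c : ℝ, 0 < c ∧ b = c • a) → p (a + b) < p a + p b)
    (ℓ : E →ₗ[ℝ] ℝ) (y₀ y₁ : E) (h₀ : 0 < p y₀) (h₁ : 0 < p y₁)
    (hℓ₀ : 0 < ℓ y₀) (hℓ₁ : 0 < ℓ y₁) (hne : ¬ ∃ c : ℝ, 0 < c ∧ y₁ = c • y₀)
    (t : ℝ) (ht₀ : 0 < t) (ht₁ : t < 1) (hy : 0 < p (t • y₀ + (1 - t) • y₁)) :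
    min (ℓ y₀ / p y₀) (ℓ y₁ / p y₁) < ℓ (t • y₀ + (1 - t) • y₁) / p (t • y₀ + (1 - t) • y₁) := by
  have ht1' : 0 < 1 - t := by linarith
  have hpa : p (t • y₀) = t * p y₀ := by
    rw [map_smul_eq_mul, Real.norm_of_nonneg ht₀.le]
  have hpb : p ((1 - t) • y₁) = (1 - t) * p y₁ := by
    rw [map_smul_eq_mul, Real.norm_of_nonneg ht1'.le]
  have hlt : p (t • y₀ + (1 - t) • y₁) < t * p y₀ + (1 - t) * p y₁ := by
    have := hp (t • y₀) ((1 - t) • y₁) (by rw [hpa]; positivity) (by rw [hpb]; positivity) ?_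
    · rwa [hpa, hpb] at this
    · rintro ⟨c, hc, hcb⟩
      apply hne
      refine ⟨(1 - t)⁻¹ * (c * t), by positivity, ?_⟩
      have : y₁ = (1 - t)⁻¹ • ((1 - t) • y₁) := by
        rw [smul_smul, inv_mul_cancel₀ ht1'.ne', one_smul]
      rw [this, hcb, smul_smul, smul_smul, mul_assoc]
  have hℓ : ℓ (t • y₀ + (1 - t) • y₁) = t * ℓ y₀ + (1 - t) * ℓ y₁ := by
    simp [map_add, map_smul]
  rw [hℓ]
  exact aux (p y₀) (p y₁) (ℓ y₀) (ℓ y₁) _ t h₀ h₁ hℓ₀ hℓ₁ ht₀ ht₁ hy hlt

end Groth.Agent.S19137
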