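import Groth.Statements.S19140
import Groth.Agent.H43.MTInst
import Groth.Agent.H1.HomDiag.LocSplit
import Groth.Agent.H1.HomDiag.Crit
import Groth.Agent.H58.DSmapFF

set_option autoImplicit false
open CategoryTheory MonoidalCategory CartesianMonoidalCategory MonObj GrpObj AlgebraicGeometry
universe u
open SGA3x

namespace Groth.Agent.S19140

/-- Let f : H ⟶ Q be a homomorphism of S-group schemes, with H of multiplicative type (of arbitrary
type: fpqc-locally on S, Zariski-locally isomorphic as a group to some diagonalisable group D(M))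
and Q of multiplicative type and of finite type. Then the set U of points s ∈ S such that the fibre
homomorphism f_s : H_s ⟶ Q_s is faithfully flat (flat and surjective) is open and closed in S, and
the homomorphism H|_U ⟶ Q|_U induced above U is faithfully flat. (No finite-type hypothesis on H.) -/
theorem result {S : Scheme.{u}} (H Q : Over S) [GrpObj H] [GrpObj Q]
    (hH : TwC.Locally S TwC.Topology.fpqc (fun S' g => ∃ (M : Type) (_ : AddCommGroup M), Nonempty (Grp.mk (Red.bc g H) ≅ Grp.mk (Red.DS S' M))))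
    (hQ : SGA3x.IsMultTypeFT Q) (f : H ⟶ Q) [IsMonHom f] :
    ∃ U : S.Opens, IsClosed (U : Set S) ∧
      (∀ s : S, s ∈ U ↔ (Flat ((Over.pullback (S.fromSpecResidueField s)).map f).left ∧ Surjective ((Over.pullback (S.fromSpecResidueField s)).map f).left)) ∧
      (Flat ((Over.pullback U.ι).map f).left ∧ Surjective ((Over.pullback U.ι).map f).left) := by
  obtain ⟨S₁, f₁, hf₁, -, h₁, hH'⟩ := hH
  obtain ⟨S₂, f₂, hf₂, -, h₂, hQ'⟩ := hQ
  haveI := hf₁
  haveI := hf₂
  exact Groth.Agent.H43.MT.main (@Flat ⊓ @Surjective : MorphismProperty Scheme.{u})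
    (fun {N M} _ _ φ => Function.Injective φ)
    (fun X {N M} _ _ φ h => Groth.Agent.H58.DSmapFF.DSmap_flat_surjective X φ h)
    (fun X _ {N M} _ _ φ h => Groth.Agent.H1.HomDiag.injective_of_flat_surjective X φ h)
    f (Limits.pullback.fst f₁ f₂ ≫ f₁)
    (fun Z hZ => Groth.Agent.H26.QcCover.isOpen_of_preimage f₁ f₂ h₁ h₂ Z hZ)
    (fun V hV => Groth.Agent.H26.QcCover.exists_qc_cover f₁ f₂ h₁ h₂ V hV)
    (fun w => Groth.Agent.H1.HomDiag.locSplit_core H Q f f₁ f₂ hH' hQ' w)

end Groth.Agent.S19140
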