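import Groth.Statements.S19148
import Mathlib

set_option autoImplicit false
open scoped TensorProduct
universe u v
open FiltMod

namespace Groth.Agent.S19148

theorem key {R : Type u} [CommRing R] {M : Type v} [AddCommGroup M] [Module R M]
    [Module.Finite R M] [Module.Projective R M] (F₁ F₂ : Submodule R M)
    (h₁ : ∃ C : Submodule R M, IsCompl F₁ C) (h₂ : ∃ C : Submodule R M, IsCompl F₂ C) (n : ℕ)
    (hle : LinearMap.range (PiTensorProduct.map (R := R) (fun _ : Fin (n + 1) => F₁.subtype)) ≤
      LinearMap.range (PiTensorProduct.map (R := R) (fun _ : Fin (n + 1) => F₂.subtype))) :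
    F₁ ≤ F₂ := by
  classical
  obtain ⟨C₁, hc₁⟩ := h₁
  obtain ⟨C₂, hc₂⟩ := h₂
  obtain ⟨N, e, g, -, -, heg⟩ := Module.Finite.exists_comp_eq_id_of_projective R M
  let ee : Fin N → M := fun i => e (fun j => if i = j then 1 else 0)
  let ψ : Fin N → (M →ₗ[R] R) := fun i => (LinearMap.proj i) ∘ₗ g
  have hexp : ∀ x : M, x = ∑ i : Fin N, ψ i x • ee i := by
    intro x
    have h1 : x = e (g x) := by rw [← LinearMap.comp_apply, heg, LinearMap.id_apply]
    conv_lhs => rw [h1, LinearMap.pi_apply_eq_sum_univ e (g x)]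
    rfl
  let p₁ : M →ₗ[R] M := F₁.subtype ∘ₗ (Submodule.projectionOnto F₁ C₁ hc₁)
  have hp₁mem : ∀ m, p₁ m ∈ F₁ := fun m => (Submodule.projectionOnto F₁ C₁ hc₁ m).2
  have hp₁id : ∀ y ∈ F₁, p₁ y = y := by
    intro y hy
    have := Submodule.projectionOnto_apply_left hc₁ (⟨y, hy⟩ : F₁)
    simp only [p₁, LinearMap.comp_apply, Submodule.subtype_apply]
    exact congrArg Subtype.val this
  let q : M →ₗ[R] C₂ := Submodule.projectionOnto C₂ F₂ hc₂.symm
  have hqker : ∀ y, q y = 0 ↔ y ∈ F₂ := by
    intro y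
    exact Submodule.projectionOnto_apply_eq_zero_iff hc₂.symm
  let qq : M →ₗ[R] M := C₂.subtype ∘ₗ q
  -- the multilinear functional
  have star : ∀ (Φ : Fin (n + 1) → (M →ₗ[R] R)) (x : Fin (n + 1) → F₁),
      (∀ y ∈ F₂, Φ 0 y = 0) → ∏ j, Φ j (x j) = 0 := by
    intro Φ x hΦ
    let L : (PiTensorProduct R (fun _ : Fin (n + 1) => M)) →ₗ[R] R :=
      PiTensorProduct.lift ((MultilinearMap.mkPiRing R (Fin (n + 1)) (1 : R)).compLinearMap Φ)
    have hL : ∀ m : Fin (n + 1) → M, L (PiTensorProduct.tprod R m) = ∏ j, Φ j (m j) := by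
      intro m
      simp only [L, PiTensorProduct.lift.tprod, MultilinearMap.compLinearMap_apply,
        MultilinearMap.mkPiRing_apply, smul_eq_mul, mul_one]
    have hx : PiTensorProduct.tprod R (fun j => (x j : M)) ∈
        LinearMap.range (PiTensorProduct.map (R := R) (fun _ : Fin (n + 1) => F₂.subtype)) := by
      apply hle
      refine ⟨PiTensorProduct.tprod R x, ?_⟩
      rw [PiTensorProduct.map_tprod]
      rfl
    obtain ⟨z, hz⟩ := hx
    have hzero : L ∘ₗ (PiTensorProduct.map (R := R) (fun _ : Fin (n + 1) => F₂.subtype)) = 0 := by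
      apply PiTensorProduct.ext
      ext y
      simp only [LinearMap.compMultilinearMap_apply, LinearMap.comp_apply,
        PiTensorProduct.map_tprod, hL, LinearMap.zero_apply]
      exact Finset.prod_eq_zero (Finset.mem_univ 0) (hΦ _ (y 0).2)
    have := congrArg L hz
    rw [hL, ← LinearMap.comp_apply, hzero, LinearMap.zero_apply] at this
    exact this.symm
  -- a functional vanishing on F₂ vanishes on F₁
  have hvan : ∀ Φ₀ : M →ₗ[R] R, (∀ y ∈ F₂, Φ₀ y = 0) → ∀ y ∈ F₁, Φ₀ y = 0 := by
    intro Φ₀ hΦ₀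
    let A : R → Prop := fun t => ∀ y ∈ F₁, t * Φ₀ y = 0
    have hstep : ∀ t, (∀ (φ : M →ₗ[R] R) (y : M), y ∈ F₁ → A (t * φ y)) → A t := by
      intro t ht y₀ hy₀
      have h1 : y₀ = ∑ i : Fin N, ψ i y₀ • p₁ (ee i) := by
        have h2 := congrArg p₁ (hexp y₀)
        rw [hp₁id y₀ hy₀, map_sum] at h2
        simpa only [map_smul] using h2
      rw [h1, map_sum, Finset.mul_sum]
      apply Finset.sum_eq_zero
      intro i _
      rw [map_smul, smul_eq_mul, ← mul_assoc]
      exact ht (ψ i) y₀ hy₀ (p₁ (ee i)) (hp₁mem _)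
    let P : ℕ → Prop := fun s => ∀ (φ : Fin s → (M →ₗ[R] R)) (x : Fin s → F₁), A (∏ j, φ j (x j))
    have hPn : P n := by
      intro φ x y hy
      have := star (Fin.cons Φ₀ φ) (Fin.cons ⟨y, hy⟩ x) (by simpa using hΦ₀)
      rw [Fin.prod_univ_succ] at this
      simp only [Fin.cons_zero, Fin.cons_succ] at this
      rw [mul_comm]; exact this
    have hdown : ∀ s, P (s + 1) → P s := by
      intro s hs φ x
      apply hstep
      intro φ' y hy
      have := hs (Fin.cons φ' φ) (Fin.cons ⟨y, hy⟩ x)
      rw [Fin.prod_univ_succ] at this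
      simp only [Fin.cons_zero, Fin.cons_succ] at this
      rw [mul_comm]; exact this
    have hall : ∀ s, P s → P 0 := by
      intro s
      induction s with
      | zero => exact id
      | succ s ih => exact fun h => ih (hdown s h)
    have hP0 := hall n hPn
    intro y hy
    have := hP0 Fin.elim0 Fin.elim0 y hy
    simpa using this
  intro x₀ hx₀
  rw [← hqker]
  have hqq : qq x₀ = 0 := by
    rw [hexp (qq x₀)]
    apply Finset.sum_eq_zero
    intro i _
    have : (ψ i ∘ₗ qq) x₀ = 0 := by
      apply hvan (ψ i ∘ₗ qq) _ x₀ hx₀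
      intro y hy
      have : q y = 0 := (hqker y).mpr hy
      simp [qq, this]
    rw [LinearMap.comp_apply] at this
    rw [this, zero_smul]
  have : ((q x₀ : C₂) : M) = 0 := hqq
  exact Subtype.ext this

/-- In affine form, let R be a commutative ring, M a finitely generated projective R-module (a finite
locally free sheaf on Spec R), F₁ and F₂ direct summands of M and k ≥ 1. Then the images of F₁^{⊗k}
and F₂^{⊗k} in the k-th tensor power M^{⊗k} are equal if and only if F₁ = F₂. (The source states
this for local direct factors of a finite locally free sheaf on a scheme; equality of subsheaves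
being local, this is the affine case with global direct summands, to which it reduces.) -/
theorem result {R : Type u} [CommRing R] {M : Type v} [AddCommGroup M] [Module R M]
    [Module.Finite R M] [Module.Projective R M] (F₁ F₂ : Submodule R M)
    (h₁ : ∃ C : Submodule R M, IsCompl F₁ C) (h₂ : ∃ C : Submodule R M, IsCompl F₂ C) (k : ℕ) (hk : 1 ≤ k) :
    LinearMap.range (PiTensorProduct.map (R := R) (fun _ : Fin k => F₁.subtype)) =
      LinearMap.range (PiTensorProduct.map (R := R) (fun _ : Fin k => F₂.subtype)) ↔ F₁ = F₂ := by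
  constructor
  · intro h
    obtain ⟨n, rfl⟩ : ∃ n, k = n + 1 := ⟨k - 1, by omega⟩
    exact le_antisymm (key F₁ F₂ h₁ h₂ n h.le) (key F₂ F₁ h₂ h₁ n h.ge)
  · rintro rfl
    rfl

end Groth.Agent.S19148
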