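import Groth.Statements.S19149
import Mathlib
import Groth.Agent.S18962

set_option autoImplicit false
set_option linter.style.haveILetI false
set_option linter.unusedSectionVars false
open TensorProduct
universe u
open GrpSch

namespace Groth.Agent.S19149

/-- Extension of a functional on `J` to a functional on `I/I²`, when `J ∩ I² = IJ` and
`I/(J + I²)` is projective over the base. -/
theorem exists_functional_extension {R A κ : Type u} [CommRing R] [CommRing A] [Algebra R A]
    [CommRing κ] [Algebra R κ] [Algebra A κ] [IsScalarTower R A κ]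
    (I J : Ideal A) (hJI : J ≤ I) (h2 : J ⊓ I ^ 2 = I * J)
    (hproj : Module.Projective R (↥I ⧸ Submodule.comap I.subtype (J ⊔ I ^ 2)))
    (hκ : ∀ x ∈ I, algebraMap A κ x = 0)
    (lam : ↥J →ₗ[A] κ) :
    ∃ ℓ₀ : ↥I →ₗ[R] κ, (∀ x y : ↥I, ℓ₀ (x * y) = 0) ∧
      ∀ (j : A) (hj : j ∈ J), ℓ₀ ⟨j, hJI hj⟩ = lam ⟨j, hj⟩ := by
  classical
  haveI := hproj
  have hkill : ∀ (j : A) (hj : j ∈ J), j ∈ I ^ 2 → lam ⟨j, hj⟩ = 0 := by
    intro j hj hj2
    have hmem : j ∈ I • J := by
      have h : j ∈ J ⊓ I ^ 2 := ⟨hj, hj2⟩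
      rw [h2] at h
      exact h
    have h1 : (⟨j, hj⟩ : ↥J) ∈ I • (⊤ : Submodule A ↥J) :=
      (Submodule.mem_smul_top_iff I J ⟨j, hj⟩).mpr hmem
    have hle : I • (⊤ : Submodule A ↥J) ≤ LinearMap.ker lam :=
      Submodule.smul_le.mpr (fun r hr n _ => by
        rw [LinearMap.mem_ker, map_smul, Algebra.smul_def, hκ r hr, zero_mul])
    exact LinearMap.mem_ker.mp (hle h1)
  have hwd : ∀ (j j' : A) (hj : j ∈ J) (hj' : j' ∈ J), j - j' ∈ I ^ 2 →
      lam ⟨j, hj⟩ = lam ⟨j', hj'⟩ := by
    intro j j' hj hj' hd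
    have h := hkill (j - j') (J.sub_mem hj hj') hd
    have h' : (⟨j - j', J.sub_mem hj hj'⟩ : ↥J) = ⟨j, hj⟩ - ⟨j', hj'⟩ := rfl
    rw [h', map_sub, sub_eq_zero] at h
    exact h
  let N : Submodule A ↥I := Submodule.comap I.subtype (J ⊔ I ^ 2)
  let π : ↥I →ₗ[R] (↥I ⧸ N) := (Submodule.mkQ N).restrictScalars R
  have hπ : Function.Surjective π := Submodule.mkQ_surjective N
  obtain ⟨s, hs⟩ := Module.projective_lifting_property π LinearMap.id hπ
  have hπs : ∀ y, π (s y) = y := fun y => LinearMap.congr_fun hs y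
  have hρN : ∀ x : ↥I, ((x - s (π x) : ↥I) : A) ∈ J ⊔ I ^ 2 := by
    intro x
    have h0 : π (x - s (π x)) = 0 := by rw [map_sub, hπs, sub_self]
    have h1 : (x - s (π x)) ∈ N := (Submodule.Quotient.mk_eq_zero N).mp h0
    exact h1
  have hfix : ∀ z : ↥I, (z : A) ∈ J ⊔ I ^ 2 → z - s (π z) = z := by
    intro z hz
    have h0 : π z = 0 := (Submodule.Quotient.mk_eq_zero N).mpr hz
    rw [h0, map_zero, sub_zero]
  choose jf hjf tf htf hsum using fun x : ↥I => Submodule.mem_sup.mp (hρN x)
  have hadd : ∀ x y : ↥I, lam ⟨jf (x + y), hjf (x + y)⟩ =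
      lam ⟨jf x, hjf x⟩ + lam ⟨jf y, hjf y⟩ := by
    intro x y
    have e1 : ((s (π (x + y)) : ↥I) : A) = (s (π x) : A) + (s (π y) : A) := by
      rw [map_add, map_add]
      rfl
    have h1 : jf (x + y) + tf (x + y) =
        ((x : A) + (y : A)) - ((s (π (x + y)) : ↥I) : A) := hsum (x + y)
    have h2 : jf x + tf x = (x : A) - (s (π x) : A) := hsum x
    have h3 : jf y + tf y = (y : A) - (s (π y) : A) := hsum y
    have hd : jf (x + y) - (jf x + jf y) = tf x + tf y - tf (x + y) := by
      rw [e1] at h1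
      linear_combination h1 - h2 - h3
    have hmem : jf (x + y) - (jf x + jf y) ∈ I ^ 2 := by
      rw [hd]
      exact (I ^ 2).sub_mem ((I ^ 2).add_mem (htf x) (htf y)) (htf (x + y))
    have h4 := hwd (jf (x + y)) (jf x + jf y) (hjf _) (J.add_mem (hjf x) (hjf y)) hmem
    rw [h4]
    exact map_add lam ⟨jf x, hjf x⟩ ⟨jf y, hjf y⟩
  have hsmul : ∀ (r : R) (x : ↥I), lam ⟨jf (r • x), hjf (r • x)⟩ =
      r • lam ⟨jf x, hjf x⟩ := by
    intro r x
    have e1 : ((s (π (r • x)) : ↥I) : A) = algebraMap R A r * (s (π x) : A) := by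
      rw [map_smul, map_smul, Submodule.coe_smul_of_tower, Algebra.smul_def]
    have h1 : jf (r • x) + tf (r • x) =
        algebraMap R A r * (x : A) - ((s (π (r • x)) : ↥I) : A) := by
      rw [← Algebra.smul_def]
      exact hsum (r • x)
    have h2 : jf x + tf x = (x : A) - (s (π x) : A) := hsum x
    have hd : jf (r • x) - algebraMap R A r * jf x =
        algebraMap R A r * tf x - tf (r • x) := by
      rw [e1] at h1
      linear_combination h1 - algebraMap R A r * h2
    have hmem : jf (r • x) - algebraMap R A r * jf x ∈ I ^ 2 := by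
      rw [hd]
      exact (I ^ 2).sub_mem (Ideal.mul_mem_left _ _ (htf x)) (htf (r • x))
    have h4 := hwd (jf (r • x)) (algebraMap R A r * jf x) (hjf _)
      (Ideal.mul_mem_left _ _ (hjf x)) hmem
    rw [h4]
    have h5 : (⟨algebraMap R A r * jf x, Ideal.mul_mem_left _ _ (hjf x)⟩ : ↥J) =
        algebraMap R A r • ⟨jf x, hjf x⟩ := rfl
    rw [h5, map_smul, algebraMap_smul]
  let ℓ₀ : ↥I →ₗ[R] κ :=
    { toFun := fun x => lam ⟨jf x, hjf x⟩
      map_add' := hadd
      map_smul' := fun r x => by
        rw [RingHom.id_apply]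
        exact hsmul r x }
  refine ⟨ℓ₀, ?_, ?_⟩
  · intro x y
    show lam ⟨jf (x * y), hjf (x * y)⟩ = 0
    have hxy : ((x * y : ↥I) : A) ∈ I ^ 2 := by
      rw [pow_two]
      exact Ideal.mul_mem_mul x.2 y.2
    have hz := hfix (x * y) (Submodule.mem_sup_right hxy)
    have h1 : jf (x * y) + tf (x * y) = ((x * y : ↥I) : A) := by
      have h := hsum (x * y)
      rw [hz] at h
      exact h
    apply hkill
    have h6 : jf (x * y) = ((x * y : ↥I) : A) - tf (x * y) := by linear_combination h1
    rw [h6]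
    exact (I ^ 2).sub_mem hxy (htf _)
  · intro j hj
    show lam ⟨jf ⟨j, hJI hj⟩, hjf _⟩ = lam ⟨j, hj⟩
    have hz := hfix ⟨j, hJI hj⟩ (Submodule.mem_sup_left hj)
    have h1 : jf ⟨j, hJI hj⟩ + tf ⟨j, hJI hj⟩ = j := by
      have h := hsum ⟨j, hJI hj⟩
      rw [hz] at h
      exact h
    apply hwd
    have h6 : jf ⟨j, hJI hj⟩ - j = -tf ⟨j, hJI hj⟩ := by linear_combination h1
    rw [h6]
    exact (I ^ 2).neg_mem (htf _)

section Local

variable (R A : Type u) [CommRing R] [CommRing A] [Algebra R A] (J : Ideal A)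
  (P : Ideal (A ⧸ J)) [P.IsPrime]

local notation "SP" => Localization.AtPrime P
local notation "κP" => IsLocalRing.ResidueField (Localization.AtPrime P)
local notation "Aq" => Localization.AtPrime (Ideal.comap (Ideal.Quotient.mk J) P)

/-- The Jacobian criterion in terms of extension of derivations: a quotient of a smooth algebra is
smooth at a prime if every functional on the ideal with values in the residue field extends to a
derivation. -/
theorem isSmoothAt_quotient_of_extend [Algebra.Smooth R A] (hJ : J.FG)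
    (hext : ∀ lam : ↥J →ₗ[A] κP, ∃ d : Derivation R A κP,
      ∀ (j : A) (hj : j ∈ J), d j = lam ⟨j, hj⟩) :
    Algebra.IsSmoothAt R P := by
  classical
  let φ : Aq →+* SP :=
    Localization.localRingHom (Ideal.comap (Ideal.Quotient.mk J) P) P (Ideal.Quotient.mk J) rfl
  letI : Algebra Aq SP := φ.toAlgebra
  have hφ_apply : ∀ z, algebraMap Aq SP z = φ z := fun z => rfl
  haveI : IsScalarTower A Aq SP :=
    IsScalarTower.of_algebraMap_eq (fun a => by
      rw [hφ_apply, Localization.localRingHom_to_map,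
        IsScalarTower.algebraMap_apply A (A ⧸ J) SP]
      rfl)
  haveI : IsScalarTower R Aq SP :=
    IsScalarTower.of_algebraMap_eq (fun r => by
      rw [IsScalarTower.algebraMap_apply R A Aq, ← IsScalarTower.algebraMap_apply A Aq SP,
        ← IsScalarTower.algebraMap_apply R A SP])
  have h₁ : Function.Surjective (algebraMap Aq SP) := by
    intro s
    obtain ⟨y, u, rfl⟩ := IsLocalization.exists_mk'_eq P.primeCompl s
    obtain ⟨x, rfl⟩ := Ideal.Quotient.mk_surjective y
    obtain ⟨t, ht⟩ := Ideal.Quotient.mk_surjective u.1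
    have htq : t ∈ (Ideal.comap (Ideal.Quotient.mk J) P).primeCompl := fun htm => u.2 (by
      rw [← ht]
      exact htm)
    refine ⟨IsLocalization.mk' _ x ⟨t, htq⟩, ?_⟩
    rw [hφ_apply, Localization.localRingHom_mk']
    congr 1
    exact Subtype.ext ht
  have hker : RingHom.ker (algebraMap Aq SP) = J.map (algebraMap A Aq) := by
    have hT : Submonoid.map (Ideal.Quotient.mk J)
        (Ideal.comap (Ideal.Quotient.mk J) P).primeCompl = P.primeCompl := by
      ext y
      constructor
      · rintro ⟨x, hx, rfl⟩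
        exact hx
      · intro hy
        obtain ⟨x, rfl⟩ := Ideal.Quotient.mk_surjective y
        exact ⟨x, hy, rfl⟩
    have h := IsLocalization.ker_map (S := Aq) SP (Ideal.Quotient.mk J) hT
    rw [Ideal.mk_ker] at h
    exact h
  have h₂ : (RingHom.ker (algebraMap Aq SP)).FG := by
    rw [hker]
    exact hJ.map _
  haveI : Algebra.FormallySmooth R Aq := inferInstance
  haveI : Algebra.EssFiniteType A Aq :=
    .of_isLocalization _ (Ideal.comap (Ideal.Quotient.mk J) P).primeCompl
  haveI : Algebra.EssFiniteType R Aq := .comp _ A _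
  haveI : Module.Finite Aq Ω[Aq⁄R] := inferInstance
  haveI : Module.Free Aq Ω[Aq⁄R] := Module.free_of_flat_of_isLocalRing
  haveI : Algebra.FormallyEtale A Aq :=
    Algebra.FormallyEtale.of_isLocalization (Ideal.comap (Ideal.Quotient.mk J) P).primeCompl
  show Algebra.FormallySmooth R SP
  rw [Algebra.FormallySmooth.iff_injective_cotangentComplexBaseChange_residueField Aq h₁ h₂,
    injective_iff_map_eq_zero]
  intro x hx
  refine (Module.forall_dual_apply_eq_zero_iff κP x).mp ?_
  intro φ₀
  let ψ : ↥(RingHom.ker (algebraMap Aq SP)) →ₗ[Aq] κP :=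
    (φ₀.restrictScalars Aq) ∘ₗ (TensorProduct.mk Aq κP ↥(RingHom.ker (algebraMap Aq SP)) 1)
  have hψ : ∀ b, ψ b = φ₀ ((1 : κP) ⊗ₜ[Aq] b) := fun b => rfl
  have hJK : ∀ j ∈ J, algebraMap A Aq j ∈ RingHom.ker (algebraMap Aq SP) := fun j hj => by
    rw [hker]
    exact Ideal.mem_map_of_mem _ hj
  let lam : ↥J →ₗ[A] κP :=
    { toFun := fun j => ψ ⟨algebraMap A Aq j.1, hJK j.1 j.2⟩
      map_add' := fun x y => by
        rw [← map_add]
        congr 1
        exact Subtype.ext (map_add (algebraMap A Aq) x.1 y.1)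
      map_smul' := fun a x => by
        have h1 : (⟨algebraMap A Aq (a • x).1, hJK _ (a • x).2⟩ :
            ↥(RingHom.ker (algebraMap Aq SP))) =
            algebraMap A Aq a • ⟨algebraMap A Aq x.1, hJK _ x.2⟩ :=
          Subtype.ext (map_mul (algebraMap A Aq) a x.1)
        rw [h1, map_smul, algebraMap_smul, RingHom.id_apply] }
  have hlam : ∀ (j : A) (hj : j ∈ J), lam ⟨j, hj⟩ = ψ ⟨algebraMap A Aq j, hJK j hj⟩ :=
    fun j hj => rfl
  obtain ⟨dA, hdA⟩ := hext lam
  obtain ⟨Λq, hΛq⟩ := Groth.Agent.S18962.exists_lift_kaehler R A Aq κP dA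
  have hKκ : ∀ b ∈ RingHom.ker (algebraMap Aq SP), algebraMap Aq κP b = 0 := by
    intro b hb
    rw [IsScalarTower.algebraMap_apply Aq SP κP, RingHom.mem_ker.mp hb, map_zero]
  have hdψ : ∀ (b : Aq) (hb : b ∈ RingHom.ker (algebraMap Aq SP)),
      Λq (KaehlerDifferential.D R Aq b) = ψ ⟨b, hb⟩ := by
    intro b hb
    have hb' : b ∈ Submodule.span Aq (algebraMap A Aq '' (J : Set A)) := by
      have h : b ∈ J.map (algebraMap A Aq) := hker ▸ hb
      exact h
    have hspanK : ∀ z ∈ Submodule.span Aq (algebraMap A Aq '' (J : Set A)),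
        z ∈ RingHom.ker (algebraMap Aq SP) := by
      intro z hz
      rw [hker]
      exact hz
    refine Submodule.span_induction
      (p := fun b _ => ∀ hb : b ∈ RingHom.ker (algebraMap Aq SP),
        Λq (KaehlerDifferential.D R Aq b) = ψ ⟨b, hb⟩) ?_ ?_ ?_ ?_ hb' hb
    · rintro _ ⟨j, hj, rfl⟩ hb
      rw [hΛq, hdA j hj, hlam]
    · intro hb
      rw [map_zero, map_zero]
      exact (map_zero ψ).symm
    · intro x y hx hy ihx ihy hb
      rw [map_add, map_add, ihx (hspanK x hx), ihy (hspanK y hy), ← map_add]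
      rfl
    · intro a x hx ihx hb
      have hL : Λq (KaehlerDifferential.D R Aq (a • x)) =
          a • Λq (KaehlerDifferential.D R Aq x) := by
        rw [smul_eq_mul, Derivation.leibniz, map_add, map_smul, map_smul, Algebra.smul_def x,
          hKκ x (hspanK x hx), zero_mul, add_zero]
      rw [hL, ihx (hspanK x hx), ← map_smul]
      rfl
  have hF : ∀ (a : κP) (b : ↥(RingHom.ker (algebraMap Aq SP))),
      KaehlerDifferential.cotangentComplexBaseChange R SP Aq κP (a ⊗ₜ b) =
        a • ((1 : κP) ⊗ₜ[Aq] KaehlerDifferential.D R Aq (b : Aq)) := fun a b => rfl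
  have key : ∀ z : κP ⊗[Aq] ↥(RingHom.ker (algebraMap Aq SP)),
      φ₀ z = (Λq.liftBaseChange κP)
        (KaehlerDifferential.cotangentComplexBaseChange R SP Aq κP z) := by
    intro z
    induction z using TensorProduct.induction_on with
    | zero => rw [map_zero, map_zero, map_zero]
    | tmul a b =>
      rw [hF, map_smul, LinearMap.liftBaseChange_tmul, one_smul, hdψ b.1 b.2]
      show φ₀ (a ⊗ₜ b) = a • φ₀ ((1 : κP) ⊗ₜ[Aq] b)
      rw [← map_smul, TensorProduct.smul_tmul', smul_eq_mul, mul_one]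
    | add z₁ z₂ h₁ h₂ => rw [map_add, map_add, map_add, h₁, h₂]
  rw [key x, hx, map_zero]

end Local

/-- In affine form, let R be a commutative ring, A a smooth R-algebra with an augmentation ε : A → R
(the unit section of G = Spec A over S = Spec R), I = ker ε its augmentation ideal, and J ⊆ I an
ideal (defining a closed subscheme H of G through the unit section) such that (1) J is finitely
generated, (2) J ∩ I² = I·J in A, and (3) I/(J + I²) is a finitely generated projective R-module
(finite locally free on S). Then H = Spec (A/J) is smooth over S at every point of the unit section: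
for every prime P of A/J containing the image of I, the localization (A/J)_P is formally smooth over
R. (The source states this for G an affine smooth group scheme over a scheme S and H a closed
subgroup, concluding that the neutral component H° is a smooth open subgroup scheme; that conclusion
is smoothness of H along the unit section, which is the statement here in affine form; the group
structure is not used.) -/
theorem result (R A : Type u) [CommRing R] [CommRing A] [Algebra R A]
    [Algebra.Smooth R A] (ε : A →ₐ[R] R) (J : Ideal A) (hJI : J ≤ RingHom.ker ε)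
    (h1 : J.FG)
    (h2 : J ⊓ RingHom.ker ε ^ 2 = RingHom.ker ε * J)
    (h3 : Module.Finite R (↥(RingHom.ker ε) ⧸ Submodule.comap (RingHom.ker ε).subtype (J ⊔ RingHom.ker ε ^ 2)) ∧
      Module.Projective R (↥(RingHom.ker ε) ⧸ Submodule.comap (RingHom.ker ε).subtype (J ⊔ RingHom.ker ε ^ 2)))
    (P : Ideal (A ⧸ J)) [P.IsPrime] (hP : (RingHom.ker ε).map (Ideal.Quotient.mk J) ≤ P) :
    Algebra.IsSmoothAt R P := by
  apply isSmoothAt_quotient_of_extend R A J P h1
  intro lam
  have hκ : ∀ x ∈ RingHom.ker ε,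
      algebraMap A (IsLocalRing.ResidueField (Localization.AtPrime P)) x = 0 := by
    intro x hx
    rw [IsScalarTower.algebraMap_apply A (A ⧸ J) (IsLocalRing.ResidueField (Localization.AtPrime P)),
      IsScalarTower.algebraMap_apply (A ⧸ J) (Localization.AtPrime P)
        (IsLocalRing.ResidueField (Localization.AtPrime P)),
      IsLocalRing.ResidueField.algebraMap_eq, IsLocalRing.residue_eq_zero_iff]
    exact (IsLocalization.AtPrime.to_map_mem_maximal_iff (Localization.AtPrime P) P _).mpr
      (hP (Ideal.mem_map_of_mem _ hx))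
  obtain ⟨ℓ₀, hprod, hℓ₀⟩ := exists_functional_extension (RingHom.ker ε) J hJI h2 h3.2 hκ lam
  refine ⟨Groth.Agent.S18962.derivOfCot ε hκ (Ideal.Cotangent.lift ℓ₀ hprod), fun j hj => ?_⟩
  rw [Groth.Agent.S18962.derivOfCot_apply, Groth.Agent.S18962.tcot_apply,
    Ideal.Cotangent.lift_toCotangent]
  have hε : ε j = 0 := RingHom.mem_ker.mp (hJI hj)
  have hk : Groth.Agent.S18962.toKer ε j = ⟨j, hJI hj⟩ := Subtype.ext (by
    rw [Groth.Agent.S18962.toKer_coe, hε, map_zero, sub_zero])
  rw [hk, hℓ₀]

end Groth.Agent.S19149
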