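import Groth.Statements.S19156
import Groth.Agent.H27.RootDom2

set_option autoImplicit false
open RootPairing
open RootD

namespace Groth.Agent.S19156

/-- Let P be a root datum (root pairing over ℤ with finitely many roots indexed by ι), S a system of
positive roots, Γ a non-trivial totally ordered commutative group and f : M → Γ additive. Then f is
dominant (non-negative on the positive roots) if and only if, for every w in the Weyl group, f − f ∘
w is a combination m ↦ Σ_{α ∈ S} ⟨m, α∨⟩ c_α of the positive coroots with coefficients c_α ≥ 0 in Γ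
(f ∘ w is strongly dominated by f); and f is dominant if and only if f(w m) ≤ f(m) for every w ∈ W
and every dominant weight m (weak dominance). -/
theorem result {ι M N : Type*} [AddCommGroup M] [AddCommGroup N]
    (P : RootPairing ι ℤ M N) [Fintype ι] (S : Set ι) (hS : RootD.IsPosSys P S)
    {Γ : Type*} [AddCommGroup Γ] [LinearOrder Γ] [IsOrderedAddMonoid Γ] [Nontrivial Γ] (f : M →+ Γ) :
    ((∀ i ∈ S, 0 ≤ f (P.root i)) ↔
      ∀ g : P.Aut, g ∈ P.weylGroup → ∃ c : ι → Γ, (∀ i, 0 ≤ c i) ∧ (∀ i, i ∉ S → c i = 0) ∧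
        ∀ m : M, f m - f (RootPairing.Equiv.weightHom P g m) = ∑ i, (P.coroot' i m) • c i) ∧
    ((∀ i ∈ S, 0 ≤ f (P.root i)) ↔
      ∀ g : P.Aut, g ∈ P.weylGroup → ∀ m : M, (∀ i ∈ S, 0 ≤ P.coroot' i m) →
        f (RootPairing.Equiv.weightHom P g m) ≤ f m) := by
  have hB : (∀ g : P.Aut, g ∈ P.weylGroup → ∃ c : ι → Γ, (∀ i, 0 ≤ c i) ∧
        (∀ i, i ∉ S → c i = 0) ∧
        ∀ m : M, f m - f (RootPairing.Equiv.weightHom P g m) = ∑ i, (P.coroot' i m) • c i) →
      ∀ g : P.Aut, g ∈ P.weylGroup → ∀ m : M, (∀ i ∈ S, 0 ≤ P.coroot' i m) →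
        f (RootPairing.Equiv.weightHom P g m) ≤ f m := by
    intro h g hg m hm
    obtain ⟨c, hc0, hcS, hc⟩ := h g hg
    rw [← sub_nonneg, hc m]
    apply Finset.sum_nonneg
    intro i _
    by_cases hi : i ∈ S
    · exact zsmul_nonneg (hc0 i) (hm i hi)
    · rw [hcS i hi, smul_zero]
  have hC : (∀ g : P.Aut, g ∈ P.weylGroup → ∀ m : M, (∀ i ∈ S, 0 ≤ P.coroot' i m) →
        f (RootPairing.Equiv.weightHom P g m) ≤ f m) → ∀ i ∈ S, 0 ≤ f (P.root i) := by
    intro h i hi
    obtain ⟨ρ, hρ⟩ := Groth.Agent.H27.exists_regular_dominant P hS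
    have h1 := h _ (P.reflection_mem_weylGroup i) ρ (fun j hj => (hρ j hj).le)
    have h2 : RootPairing.Equiv.weightHom P (Equiv.reflection P i) ρ =
        ρ - P.coroot' i ρ • P.root i := by
      show Equiv.reflection P i • ρ = _
      rw [Equiv.reflection_smul, P.reflection_apply]
    rw [h2, map_sub, map_zsmul, sub_le_self_iff] at h1
    by_contra hneg
    push Not at hneg
    have h3 := zsmul_pos (neg_pos.mpr hneg) (hρ i hi)
    rw [smul_neg, neg_pos] at h3
    exact absurd h1 (not_le.mpr h3)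
  have hD : (∀ i ∈ S, 0 ≤ f (P.root i)) → ∀ g : P.Aut, g ∈ P.weylGroup → ∃ c : ι → Γ,
      (∀ i, 0 ≤ c i) ∧ (∀ i, i ∉ S → c i = 0) ∧
      ∀ m : M, f m - f (RootPairing.Equiv.weightHom P g m) = ∑ i, (P.coroot' i m) • c i :=
    fun hf g hg => Groth.Agent.H27.dominant_sub_weyl P hS f hf g hg
  exact ⟨⟨hD, fun h => hC (hB h)⟩, ⟨fun hf => hB (hD hf), hC⟩⟩

end Groth.Agent.S19156
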