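import Groth.Statements.S19158
import Mathlib
-- import your own Groth.Agent.* helpers here

set_option autoImplicit false
universe u v w
open FiltMod

namespace Groth.Agent.S19158


section abstract

variable {Γ : Type w} [LinearOrder Γ] {R : Type u} [CommRing R]
  {N : Type v} [AddCommGroup N] [Module R N]

/-- filtration attached to a family of submodules -/
def Fil (G : Γ → Submodule R N) (γ : Γ) : Submodule R N := ⨆ η ∈ Set.Ici γ, G η
/-- strict part -/
def Filp (G : Γ → Submodule R N) (γ : Γ) : Submodule R N := ⨆ η ∈ Set.Ioi γ, G η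

theorem le_Fil (G : Γ → Submodule R N) {γ η : Γ} (h : γ ≤ η) : G η ≤ Fil G γ :=
  le_iSup₂ (f := fun j (_ : j ∈ Set.Ici γ) => G j) η h

theorem le_Filp (G : Γ → Submodule R N) {γ η : Γ} (h : γ < η) : G η ≤ Filp G γ :=
  le_iSup₂ (f := fun j (_ : j ∈ Set.Ioi γ) => G j) η h

theorem Fil_le_Filp (G : Γ → Submodule R N) {γ η : Γ} (h : γ < η) : Fil G η ≤ Filp G γ :=
  iSup₂_le fun ζ hζ => le_Filp G (lt_of_lt_of_le h hζ)

theorem Fil_le_sup (G : Γ → Submodule R N) (γ : Γ) : Fil G γ ≤ G γ ⊔ Filp G γ :=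
  iSup₂_le fun η hη => by
    rcases eq_or_lt_of_le (show γ ≤ η from hη) with h | h
    · subst h; exact le_sup_left
    · exact le_sup_of_le_right (le_Filp G h)

theorem Filp_le_ne (G : Γ → Submodule R N) (γ : Γ) :
    Filp G γ ≤ ⨆ (j) (_ : j ≠ γ), G j :=
  iSup₂_le fun η hη =>
    le_iSup₂ (f := fun j (_ : j ≠ γ) => G j) η (show γ < η from hη).ne'

theorem fin_supp [Module.Finite R N] (G : Γ → Submodule R N) (hind : iSupIndep G)
    (htop : iSup G = ⊤) : ∃ S : Finset Γ, ∀ γ, γ ∉ S → G γ = ⊥ := by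
  have hc : IsCompactElement (⊤ : Submodule R N) :=
    (Submodule.fg_iff_compact ⊤).1 Module.Finite.fg_top
  obtain ⟨S, hS⟩ := CompleteLattice.IsCompactElement.exists_finset_of_le_iSup _ hc G (le_of_eq htop.symm)
  refine ⟨S, fun γ hγ => (hind γ).eq_bot_of_le ?_⟩
  refine le_top.trans (hS.trans ?_)
  refine iSup₂_le fun i hi => ?_
  have hne : i ≠ γ := fun h => hγ (h ▸ hi)
  exact le_iSup₂ (f := fun j (_ : j ≠ γ) => G j) i hne

theorem conj_grading [Module.Finite R N] (G : Γ → Submodule R N) (hind : iSupIndep G)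
    (htop : iSup G = ⊤) (S : Finset Γ) (hS : ∀ γ, γ ∉ S → G γ = ⊥)
    (e : N →ₗ[R] N) (he : ∀ x, e (e x) = e x)
    (hpres : ∀ γ, ∀ x ∈ Fil G γ, e x ∈ Fil G γ) :
    ∃ G' : Γ → Submodule R N, iSupIndep G' ∧ iSup G' = ⊤ ∧
      (∀ γ, (⨆ η ∈ Set.Ici γ, G' η) = ⨆ η ∈ Set.Ici γ, G η) ∧
      ∀ γ, ∀ x ∈ G' γ, e x ∈ G' γ := by
  classical
  have hcompl : ∀ γ, IsCompl (G γ) (⨆ (j) (_ : j ≠ γ), G j) := by
    intro γ
    refine ⟨hind γ, codisjoint_iff.2 (eq_top_iff.2 ?_)⟩
    rw [← htop]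
    refine iSup_le fun j => ?_
    by_cases hj : j = γ
    · subst hj; exact le_sup_left
    · exact le_sup_of_le_right (le_iSup₂ (f := fun j (_ : j ≠ γ) => G j) j hj)
  obtain ⟨π, hπ_self, hπ_C, hπ_mem⟩ : ∃ π : Γ → (N →ₗ[R] N),
      (∀ γ x, x ∈ G γ → π γ x = x) ∧
      (∀ γ x, x ∈ (⨆ (j) (_ : j ≠ γ), G j) → π γ x = 0) ∧ ∀ γ x, π γ x ∈ G γ :=
    ⟨fun γ => (G γ).projection _ (hcompl γ),
      fun γ x hx => Submodule.projection_apply_of_mem_left (hcompl γ) hx,
      fun γ x hx => Submodule.projection_apply_of_mem_right (hcompl γ) hx,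
      fun γ x => Submodule.projection_apply_mem (hcompl γ) x⟩
  have hπ_ne : ∀ γ η x, η ≠ γ → x ∈ G η → π γ x = 0 := fun γ η x h hx =>
    hπ_C γ x (le_iSup₂ (f := fun j (_ : j ≠ γ) => G j) η h hx)
  have hpresp : ∀ γ, ∀ x ∈ Filp G γ, e x ∈ Filp G γ := by
    intro γ
    have hle : Filp G γ ≤ (Filp G γ).comap e := by
      refine iSup₂_le fun η hη x hx => ?_
      exact Fil_le_Filp G (show γ < η from hη) (hpres η x (le_Fil G le_rfl hx))
    exact fun x hx => hle hx
  obtain ⟨t, ht⟩ : ∃ t : Γ → (N →ₗ[R] N), ∀ γ x,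
      t γ x = e (π γ (e x)) + (π γ (x - e x) - e (π γ (x - e x))) :=
    ⟨fun γ => e ∘ₗ π γ ∘ₗ e + (LinearMap.id - e) ∘ₗ π γ ∘ₗ (LinearMap.id - e), fun γ x => by
      simp only [LinearMap.add_apply, LinearMap.comp_apply, LinearMap.sub_apply,
        LinearMap.id_apply]⟩
  obtain ⟨w, hw⟩ : ∃ w : N →ₗ[R] N, ∀ x, w x = ∑ γ ∈ S, t γ (π γ x) :=
    ⟨∑ γ ∈ S, t γ ∘ₗ π γ, fun x => by
      simp only [LinearMap.sum_apply, LinearMap.comp_apply]⟩
  have hdec : ∀ γ, ∀ x ∈ G γ, ∃ g ∈ G γ, ∃ r ∈ Filp G γ, e x = g + r ∧ π γ (e x) = g ∧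
      e g = g + r - e r := by
    intro γ x hx
    have hex : e x ∈ Fil G γ := hpres γ x (le_Fil G le_rfl hx)
    obtain ⟨g, hg, r, hr, hgr⟩ := Submodule.mem_sup.1 (Fil_le_sup G γ hex)
    refine ⟨g, hg, r, hr, hgr.symm, ?_, ?_⟩
    · rw [← hgr, map_add, hπ_self γ g hg, hπ_C γ r (Filp_le_ne G γ hr), add_zero]
    · have h2 : e (g + r) = g + r := by rw [hgr, he]
      rw [map_add] at h2
      rw [eq_sub_iff_add_eq]; exact h2
  have hkey : ∀ γ, ∀ x ∈ G γ, ∃ r ∈ Filp G γ, t γ x = x + r := by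
    intro γ x hx
    obtain ⟨g, hg, r, hr, hex, hπg, heg⟩ := hdec γ x hx
    refine ⟨r - e r - e r, ?_, ?_⟩
    · exact sub_mem (sub_mem hr (hpresp γ r hr)) (hpresp γ r hr)
    · have h2 : π γ (x - e x) = x - g := by
        rw [map_sub, hπ_self γ x hx, hπg]
      rw [ht, hπg, h2, map_sub, heg, hex]
      abel
  have hw_G : ∀ η, ∀ x ∈ G η, w x = t η x := by
    intro η x hx
    by_cases hη : η ∈ S
    · rw [hw, Finset.sum_eq_single η]
      · rw [hπ_self η x hx]
      · intro γ _ hγ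
        rw [hπ_ne γ η x (Ne.symm hγ) hx, map_zero]
      · intro h; exact absurd hη h
    · have hx0 : x = 0 := by
        have hx' : x ∈ (⊥ : Submodule R N) := by rw [← hS η hη]; exact hx
        exact (Submodule.mem_bot R).1 hx'
      rw [hx0, map_zero, map_zero]
  have hstab : ∀ γ, ∀ x ∈ G γ, ∃ g ∈ G γ, e (w x) = w g := by
    intro γ x hx
    obtain ⟨g, hg, r, hr, hex, hπg, heg⟩ := hdec γ x hx
    refine ⟨g, hg, ?_⟩
    have h1 : π γ (e g) = g := by
      rw [heg, map_sub, map_add, hπ_self γ g hg, hπ_C γ r (Filp_le_ne G γ hr),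
        hπ_C γ (e r) (Filp_le_ne G γ (hpresp γ r hr)), add_zero, sub_zero]
    have h2 : π γ (g - e g) = 0 := by rw [map_sub, hπ_self γ g hg, h1, sub_self]
    rw [hw_G γ x hx, hw_G γ g hg, ht, ht, hπg, h1, h2]
    simp only [map_zero, sub_zero, add_zero, map_add, map_sub, he]
    abel
  have hupper : ∀ U : Set Γ, (∀ a ∈ U, ∀ b, a ≤ b → b ∈ U) →
      (⨆ η ∈ U, G η).map w = ⨆ η ∈ U, G η := by
    intro U hU
    have hGU : ∀ η ∈ U, G η ≤ ⨆ ζ ∈ U, G ζ := fun η hη =>
      le_iSup₂ (f := fun j (_ : j ∈ U) => G j) η hη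
    have hFpU : ∀ η ∈ U, Filp G η ≤ ⨆ ζ ∈ U, G ζ := fun η hη =>
      iSup₂_le fun ζ hζ => hGU ζ (hU η hη ζ (le_of_lt hζ))
    apply le_antisymm
    · rw [Submodule.map_le_iff_le_comap]
      refine iSup₂_le fun η hη x hx => ?_
      obtain ⟨r, hr, hx'⟩ := hkey η x hx
      show w x ∈ ⨆ η ∈ U, G η
      rw [hw_G η x hx, hx']
      exact add_mem (hGU η hη hx) (hFpU η hη hr)
    · by_contra hcon
      obtain ⟨T, hTdef⟩ : ∃ T : Finset Γ, ∀ η, η ∈ T ↔
          η ∈ S ∧ η ∈ U ∧ ¬ G η ≤ (⨆ ζ ∈ U, G ζ).map w :=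
        ⟨S.filter (fun η => η ∈ U ∧ ¬ G η ≤ (⨆ ζ ∈ U, G ζ).map w), fun η => Finset.mem_filter⟩
      have hT : T.Nonempty := by
        by_contra hT
        rw [Finset.not_nonempty_iff_eq_empty] at hT
        apply hcon
        refine iSup₂_le fun η hη => ?_
        by_cases hηS : η ∈ S
        · by_contra h
          have hmem : η ∈ T := (hTdef η).2 ⟨hηS, hη, h⟩
          rw [hT] at hmem; exact absurd hmem (Finset.notMem_empty _)
        · rw [hS η hηS]; exact bot_le
      obtain ⟨η₀, hmem, hmax⟩ : ∃ η₀ ∈ T, ∀ ζ ∈ T, ζ ≤ η₀ :=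
        ⟨T.max' hT, Finset.max'_mem T hT, fun ζ hζ => Finset.le_max' T ζ hζ⟩
      obtain ⟨hη₀S, hη₀U, hnot⟩ := (hTdef η₀).1 hmem
      apply hnot
      intro x hx
      obtain ⟨r, hr, hx'⟩ := hkey η₀ x hx
      have hr' : r ∈ (⨆ ζ ∈ U, G ζ).map w := by
        have hle : Filp G η₀ ≤ (⨆ ζ ∈ U, G ζ).map w := by
          refine iSup₂_le fun ζ hζ => ?_
          by_cases hζS : ζ ∈ S
          · by_contra h
            have hζT : ζ ∈ T := (hTdef ζ).2 ⟨hζS, hU η₀ hη₀U ζ (le_of_lt hζ), h⟩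
            exact absurd (hmax ζ hζT) (not_le.2 hζ)
          · rw [hS ζ hζS]; exact bot_le
        exact hle hr
      have hwx : w x ∈ (⨆ ζ ∈ U, G ζ).map w :=
        Submodule.mem_map_of_mem (hGU η₀ hη₀U hx)
      have hxe : x = w x - r := by rw [hw_G η₀ x hx, hx']; abel
      rw [hxe]; exact sub_mem hwx hr'
  have hsurj : Function.Surjective w := by
    have h := hupper Set.univ (fun _ _ _ _ => Set.mem_univ _)
    have h2 : (⨆ η ∈ (Set.univ : Set Γ), G η) = ⊤ := by simpa using htop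
    rw [h2, Submodule.map_top] at h
    exact LinearMap.range_eq_top.1 h
  have hinj : Function.Injective w :=
    OrzechProperty.injective_of_surjective_endomorphism w hsurj
  refine ⟨fun γ => (G γ).map w, ?_, ?_, ?_, ?_⟩
  · intro γ
    rw [Submodule.disjoint_def]
    intro x hx hx'
    have hmap : (⨆ (j) (_ : j ≠ γ), (G j).map w) = (⨆ (j) (_ : j ≠ γ), G j).map w := by
      simp only [Submodule.map_iSup]
    have hx'' : x ∈ (⨆ (j) (_ : j ≠ γ), G j).map w := by rw [← hmap]; exact hx'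
    obtain ⟨y, hy, hyx⟩ := Submodule.mem_map.1 hx
    obtain ⟨z, hz, hzx⟩ := Submodule.mem_map.1 hx''
    have hzy : z = y := hinj (hzx.trans hyx.symm)
    subst hzy
    have hmem : z ∈ G γ ⊓ ⨆ (j) (_ : j ≠ γ), G j := ⟨hy, hz⟩
    rw [(hind γ).eq_bot] at hmem
    rw [← hyx, (Submodule.mem_bot R).1 hmem, map_zero]
  · have hmap : (⨆ γ, (G γ).map w) = (⨆ γ, G γ).map w := by simp only [Submodule.map_iSup]
    show (⨆ γ, (G γ).map w) = ⊤
    rw [hmap, show (⨆ γ, G γ) = ⊤ from htop, Submodule.map_top]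
    exact LinearMap.range_eq_top.2 hsurj
  · intro γ
    have hmap : (⨆ η ∈ Set.Ici γ, (G η).map w) = (⨆ η ∈ Set.Ici γ, G η).map w := by
      simp only [Submodule.map_iSup]
    show (⨆ η ∈ Set.Ici γ, (G η).map w) = _
    rw [hmap]
    exact hupper (Set.Ici γ) (fun a ha b hab => Set.mem_Ici.2 (le_trans (Set.mem_Ici.1 ha) hab))
  · intro γ x hx
    obtain ⟨y, hy, hyx⟩ := Submodule.mem_map.1 hx
    obtain ⟨g, hg, hgw⟩ := hstab γ y hy
    show e x ∈ (G γ).map w
    rw [← hyx]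
    exact Submodule.mem_map.2 ⟨g, hg, hgw.symm⟩

end abstract

section pi

variable {R : Type u} [CommRing R] {A : Type v} (M : A → Type v)
  [∀ a, AddCommGroup (M a)] [∀ a, Module R (M a)]

theorem single_mem_pi [DecidableEq A] (P : ∀ b, Submodule R (M b)) (a : A) {y : M a}
    (hy : y ∈ P a) : (Pi.single a y : ∀ b, M b) ∈ Submodule.pi Set.univ P := by
  rw [Submodule.mem_pi]
  intro b _
  by_cases h : b = a
  · subst h; rw [Pi.single_eq_same]; exact hy
  · rw [Pi.single_eq_of_ne h]; exact zero_mem _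

theorem pi_of_forall {Γ : Type w} [LinearOrder Γ] [Fintype A] [DecidableEq A]
    (F : ∀ a, Γ → Submodule R (M a)) (Ga : ∀ a, Γ → Submodule R (M a))
    (hind : ∀ a, iSupIndep (Ga a)) (htop : ∀ a, iSup (Ga a) = ⊤)
    (hF : ∀ a γ, F a γ = ⨆ η ∈ Set.Ici γ, Ga a η) :
    iSupIndep (fun γ => Submodule.pi Set.univ (fun a => Ga a γ)) ∧
    iSup (fun γ => Submodule.pi Set.univ (fun a => Ga a γ)) = ⊤ ∧
    ∀ γ, Submodule.pi Set.univ (fun a => F a γ) =
      ⨆ η ∈ Set.Ici γ, Submodule.pi Set.univ (fun a => Ga a η) := by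
  have hsingle : ∀ a γ, Ga a γ ≤
      (Submodule.pi Set.univ (fun a => Ga a γ)).comap (LinearMap.single R M a) :=
    fun a γ y hy => single_mem_pi M (fun b => Ga b γ) a hy
  refine ⟨?_, ?_, ?_⟩
  · intro γ
    rw [Submodule.disjoint_def]
    intro x hx hx'
    funext a
    have h1 : x a ∈ Ga a γ := (Submodule.mem_pi.1 hx) a (Set.mem_univ a)
    have h2 : (⨆ (j) (_ : j ≠ γ), Submodule.pi Set.univ (fun a => Ga a j)) ≤
        (⨆ (j) (_ : j ≠ γ), Ga a j).comap (LinearMap.proj a) := by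
      refine iSup₂_le fun j hj z hz => ?_
      exact le_iSup₂ (f := fun j (_ : j ≠ γ) => Ga a j) j hj
        ((Submodule.mem_pi.1 hz) a (Set.mem_univ a))
    have h3 : x a ∈ ⨆ (j) (_ : j ≠ γ), Ga a j := h2 hx'
    exact (Submodule.disjoint_def.1 (hind a γ)) (x a) h1 h3
  · rw [eq_top_iff]
    intro x _
    rw [← Finset.univ_sum_single x]
    refine Submodule.sum_mem _ fun a _ => ?_
    have h2 : (⊤ : Submodule R (M a)) ≤
        (⨆ γ, Submodule.pi Set.univ (fun a => Ga a γ)).comap (LinearMap.single R M a) := by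
      rw [← htop a]
      exact iSup_le fun γ => (hsingle a γ).trans (Submodule.comap_mono
        (le_iSup (fun γ => Submodule.pi Set.univ (fun a => Ga a γ)) γ))
    exact h2 (Submodule.mem_top : x a ∈ ⊤)
  · intro γ
    apply le_antisymm
    · intro x hx
      rw [← Finset.univ_sum_single x]
      refine Submodule.sum_mem _ fun a _ => ?_
      have h2 : F a γ ≤ (⨆ η ∈ Set.Ici γ, Submodule.pi Set.univ (fun a => Ga a η)).comap
          (LinearMap.single R M a) := by
        rw [hF a γ]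
        refine iSup₂_le fun η hη => (hsingle a η).trans (Submodule.comap_mono ?_)
        exact le_iSup₂ (f := fun j (_ : j ∈ Set.Ici γ) =>
          Submodule.pi Set.univ (fun a => Ga a j)) η hη
      exact h2 ((Submodule.mem_pi.1 hx) a (Set.mem_univ a))
    · refine iSup₂_le fun η hη x hx => ?_
      rw [Submodule.mem_pi]
      intro a _
      rw [hF a γ]
      exact le_iSup₂ (f := fun j (_ : j ∈ Set.Ici γ) => Ga a j) η hη
        ((Submodule.mem_pi.1 hx) a (Set.mem_univ a))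

theorem forall_of_pi {Γ : Type w} [LinearOrder Γ] [Fintype A] [DecidableEq A]
    [∀ a, Module.Finite R (M a)]
    (F : ∀ a, Γ → Submodule R (M a)) (G : Γ → Submodule R (∀ a, M a))
    (hind : iSupIndep G) (htop : iSup G = ⊤)
    (hF : ∀ γ, Submodule.pi Set.univ (fun a => F a γ) = ⨆ η ∈ Set.Ici γ, G η) (a : A) :
    ∃ Ga : Γ → Submodule R (M a), iSupIndep Ga ∧ iSup Ga = ⊤ ∧
      ∀ γ, F a γ = ⨆ η ∈ Set.Ici γ, Ga η := by
  obtain ⟨S, hS⟩ := fin_supp G hind htop
  obtain ⟨e, he_apply⟩ : ∃ e : (∀ a, M a) →ₗ[R] (∀ a, M a), ∀ x, e x = Pi.single a (x a) :=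
    ⟨(LinearMap.single R M a) ∘ₗ (LinearMap.proj a), fun x => rfl⟩
  have he : ∀ x, e (e x) = e x := by
    intro x; rw [he_apply, he_apply, Pi.single_eq_same]
  have hpres : ∀ γ, ∀ x ∈ Fil G γ, e x ∈ Fil G γ := by
    intro γ x hx
    have hx' : x ∈ Submodule.pi Set.univ (fun a => F a γ) := by rw [hF γ]; exact hx
    show e x ∈ ⨆ η ∈ Set.Ici γ, G η
    rw [← hF γ, he_apply]
    exact single_mem_pi M (fun b => F b γ) a ((Submodule.mem_pi.1 hx') a (Set.mem_univ a))
  obtain ⟨G', hind', htop', hfil', hstab'⟩ := conj_grading G hind htop S hS e he hpres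
  have hstabC : ∀ γ, ∀ z ∈ (⨆ (j) (_ : j ≠ γ), G' j), e z ∈ (⨆ (j) (_ : j ≠ γ), G' j) := by
    intro γ
    have hle : (⨆ (j) (_ : j ≠ γ), G' j) ≤ (⨆ (j) (_ : j ≠ γ), G' j).comap e := by
      refine iSup₂_le fun j hj z hz => ?_
      exact le_iSup₂ (f := fun j (_ : j ≠ γ) => G' j) j hj (hstab' j z hz)
    exact fun z hz => hle hz
  refine ⟨fun γ => (G' γ).map (LinearMap.proj a), ?_, ?_, ?_⟩
  · intro γ
    rw [Submodule.disjoint_def]
    intro x hx hx'
    have hmap : (⨆ (j) (_ : j ≠ γ), (G' j).map (LinearMap.proj a)) =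
        (⨆ (j) (_ : j ≠ γ), G' j).map (LinearMap.proj a) := by
      simp only [Submodule.map_iSup]
    have hx'' : x ∈ (⨆ (j) (_ : j ≠ γ), G' j).map (LinearMap.proj a) := by
      rw [← hmap]; exact hx'
    obtain ⟨y, hy, hyx⟩ := Submodule.mem_map.1 hx
    obtain ⟨z, hz, hzx⟩ := Submodule.mem_map.1 hx''
    have h1 : (Pi.single a x : ∀ b, M b) ∈ G' γ := by
      have h := hstab' γ y hy
      rw [he_apply, show y a = x from hyx] at h
      exact h
    have h2 : (Pi.single a x : ∀ b, M b) ∈ ⨆ (j) (_ : j ≠ γ), G' j := by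
      have h := hstabC γ z hz
      rw [he_apply, show z a = x from hzx] at h
      exact h
    have h3 := (Submodule.disjoint_def.1 (hind' γ)) _ h1 h2
    simpa [Pi.single_eq_same] using congrFun h3 a
  · rw [eq_top_iff]
    intro x _
    have hx : (Pi.single a x : ∀ b, M b) ∈ iSup G' := by rw [htop']; exact Submodule.mem_top
    have hle : iSup G' ≤ (⨆ γ, (G' γ).map (LinearMap.proj a)).comap (LinearMap.proj a) := by
      refine iSup_le fun γ => ?_
      rw [← Submodule.map_le_iff_le_comap]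
      exact le_iSup (fun γ => (G' γ).map (LinearMap.proj a)) γ
    have h := hle hx
    rw [Submodule.mem_comap, LinearMap.proj_apply, Pi.single_eq_same] at h
    exact h
  · intro γ
    have hmap : (⨆ η ∈ Set.Ici γ, (G' η).map (LinearMap.proj a)) =
        (⨆ η ∈ Set.Ici γ, G' η).map (LinearMap.proj a) := by
      simp only [Submodule.map_iSup]
    show F a γ = ⨆ η ∈ Set.Ici γ, (G' η).map (LinearMap.proj a)
    rw [hmap, hfil' γ, ← hF γ]
    apply le_antisymm
    · intro x hx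
      exact Submodule.mem_map.2 ⟨Pi.single a x, single_mem_pi M (fun b => F b γ) a hx, by
        rw [LinearMap.proj_apply, Pi.single_eq_same]⟩
    · rw [Submodule.map_le_iff_le_comap]
      intro y hy
      exact (Submodule.mem_pi.1 hy) a (Set.mem_univ a)

end pi



/-- In affine form, let Γ be a non-trivial totally ordered commutative group, R a commutative ring and
(M_a) a finite family of finitely generated projective R-modules, each carrying a non-increasing
Γ-indexed family of submodules F_a; give M = Π_a M_a the family F^γ = Π_a F_a^γ. Then F is split by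
a Γ-grading of M (an internal direct sum decomposition M = ⊕_γ G_γ with F^γ = Σ_{η ≥ γ} G_η for all
γ) if and only if each F_a is split by a Γ-grading of M_a. (The published statement is for finite
locally free sheaves on a scheme, where a filtration counts as split when it is split by a grading
locally on the scheme; this row is the affine case, in which that is the same as being split by one
global grading.) -/
theorem result
    {Γ : Type w} [AddCommGroup Γ] [LinearOrder Γ] [IsOrderedAddMonoid Γ] [Nontrivial Γ]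
    {R : Type u} [CommRing R] {A : Type v} [Fintype A] (M : A → Type v) [∀ a, AddCommGroup (M a)] [∀ a, Module R (M a)]
    [∀ a, Module.Finite R (M a)] [∀ a, Module.Projective R (M a)]
    (F : ∀ a, Γ → Submodule R (M a)) (hF : ∀ a, Antitone (F a)) :
    (∃ G : Γ → Submodule R (∀ a, M a), DirectSum.IsInternal G ∧
        ∀ γ, Submodule.pi Set.univ (fun a => F a γ) = ⨆ η ∈ Set.Ici γ, G η) ↔
    ∀ a, ∃ G : Γ → Submodule R (M a), DirectSum.IsInternal G ∧ ∀ γ, F a γ = ⨆ η ∈ Set.Ici γ, G η := by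
  classical
  constructor
  · rintro ⟨G, hG, hF⟩ a
    rw [DirectSum.isInternal_submodule_iff_iSupIndep_and_iSup_eq_top] at hG
    obtain ⟨Ga, h1, h2, h3⟩ := forall_of_pi M F G hG.1 hG.2 hF a
    exact ⟨Ga, (DirectSum.isInternal_submodule_iff_iSupIndep_and_iSup_eq_top _).2 ⟨h1, h2⟩, h3⟩
  · intro h
    choose Ga hGa hFa using h
    have hG := fun a =>
      (DirectSum.isInternal_submodule_iff_iSupIndep_and_iSup_eq_top _).1 (hGa a)
    obtain ⟨h1, h2, h3⟩ := pi_of_forall M F Ga (fun a => (hG a).1) (fun a => (hG a).2) hFa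
    exact ⟨_, (DirectSum.isInternal_submodule_iff_iSupIndep_and_iSup_eq_top _).2 ⟨h1, h2⟩, h3⟩

end Groth.Agent.S19158
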