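import Groth.Statements.S1916
import Groth.Agent.S4637

set_option autoImplicit false
universe u
open CategoryTheory AlgebraicGeometry
open Cyc

namespace Groth.Agent.S1916

open TopologicalSpace
theorem finite_components_meeting {Y : Type*} [TopologicalSpace Y] (O : Set Y) (hO : IsOpen O)
    [NoetherianSpace O] :
    {Z : Set Y | Z ∈ irreducibleComponents Y ∧ (Z ∩ O).Nonempty}.Finite := by
  classical
  have hfinC : (irreducibleComponents O).Finite := NoetherianSpace.finite_irreducibleComponents
  have hemb : Topology.IsOpenEmbedding ((↑) : O → Y) := hO.isOpenEmbedding_subtypeVal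
  have hC : ∀ Z : Set Y, Z ∈ irreducibleComponents Y ∧ (Z ∩ O).Nonempty →
      ∃ C ∈ irreducibleComponents O, ((↑) : O → Y) ⁻¹' Z ⊆ C := by
    rintro Z ⟨hZ, hne⟩
    have hirr : IsIrreducible (((↑) : O → Y) ⁻¹' Z) := by
      refine ⟨?_, hZ.1.isPreirreducible.preimage hemb⟩
      obtain ⟨y, hyZ, hyO⟩ := hne
      exact ⟨⟨y, hyO⟩, hyZ⟩
    exact exists_mem_irreducibleComponents_subset_of_isIrreducible _ hirr
  choose! C hCmem hCsub using hC
  refine Set.Finite.of_injOn (f := C) (t := irreducibleComponents O)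
    (fun Z hZ => hCmem Z hZ) ?_ hfinC
  have key : ∀ Z, (Z ∈ irreducibleComponents Y ∧ (Z ∩ O).Nonempty) →
      Z = closure (((↑) : O → Y) '' C Z) := by
    rintro Z ⟨hZ, hne⟩
    have hirrC : IsIrreducible (closure (((↑) : O → Y) '' C Z)) :=
      ((hCmem Z ⟨hZ, hne⟩).1.image _ continuous_subtype_val.continuousOn).closure
    have hsub : Z ⊆ closure (((↑) : O → Y) '' C Z) := by
      refine (subset_closure_inter_of_isPreirreducible_of_isOpen hZ.1.isPreirreducible hO
        hne).trans (closure_mono ?_)
      rintro y ⟨hyZ, hyO⟩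
      exact ⟨⟨y, hyO⟩, hCsub Z ⟨hZ, hne⟩ hyZ, rfl⟩
    exact le_antisymm hsub (hZ.2 hirrC hsub)
  intro Z₁ h₁ Z₂ h₂ h12
  rw [key Z₁ h₁, key Z₂ h₂, h12]

/-- Let F be a coherent O_X-module on a locally Noetherian scheme X. The irreducible components of Supp
F form a locally finite family of subsets of X, and at every point ξ of Supp F admitting no proper
generalization inside Supp F the stalk F_ξ has finite length over O_{X,ξ}. -/
theorem result (X : Scheme.{u}) [IsLocallyNoetherian X] (F : X.Modules) (hF : Coh.IsCoh F) : LocallyFinite (fun Z : irreducibleComponents {x : X | Nontrivial (F.presheaf.stalk x)} => ((↑) '' (Z : Set {x : X | Nontrivial (F.presheaf.stalk x)}) : Set X)) ∧ ∀ ξ : X, Nontrivial (F.presheaf.stalk ξ) → (∀ x : X, Nontrivial (F.presheaf.stalk x) → x ⤳ ξ → x = ξ) → Module.length (X.presheaf.stalk ξ) (F.presheaf.stalk ξ) < ⊤ := by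
  constructor
  · intro x
    obtain ⟨U, hU0, hxU, -⟩ :=
      Opens.isBasis_iff_nbhd.mp X.isBasis_affineOpens (Opens.mem_top x)
    have hU : IsAffineOpen U := hU0
    haveI : IsNoetherianRing Γ(X, U) := IsLocallyNoetherian.component_noetherian ⟨U, hU⟩
    haveI hNU : NoetherianSpace {y : X // y ∈ U} := noetherianSpace_of_isAffineOpen U hU
    refine ⟨(U : Set X), U.2.mem_nhds hxU, ?_⟩
    let O : Set {x : X | Nontrivial (F.presheaf.stalk x)} := {s | s.1 ∈ U}
    have hO : IsOpen O := U.2.preimage continuous_subtype_val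
    haveI : NoetherianSpace O := by
      have hmem : ∀ s : O, s.1.1 ∈ U := fun s => s.2
      have hind : Topology.IsInducing (fun s : O => (⟨s.1.1, hmem s⟩ : {y : X // y ∈ U})) := by
        refine Topology.IsInducing.of_comp
          (Continuous.subtype_mk (continuous_subtype_val.comp continuous_subtype_val) _)
          continuous_subtype_val ?_
        have h2 : Topology.IsInducing (fun s : O => (s.1.1 : X)) :=
          Topology.IsInducing.subtypeVal.comp Topology.IsInducing.subtypeVal
        exact h2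
      exact hind.noetherianSpace
    have hfin := finite_components_meeting O hO
    refine Set.Finite.of_injOn (f := fun Z => Z.1)
      (t := {Z : Set {x : X | Nontrivial (F.presheaf.stalk x)} |
        Z ∈ irreducibleComponents {x : X | Nontrivial (F.presheaf.stalk x)} ∧
          (Z ∩ O).Nonempty}) ?_ ?_ hfin
    · intro Z hZ
      refine ⟨Z.2, ?_⟩
      obtain ⟨y, ⟨s, hsZ, rfl⟩, hyU⟩ := hZ
      exact ⟨s, hsZ, hyU⟩
    · intro Z₁ _ Z₂ _ h
      exact Subtype.ext h
  · intro ξ hnt hmin
    have h := ((Groth.Agent.S4637.result F hF ξ).mp ⟨hnt, hmin⟩).2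
    exact lt_top_iff_ne_top.mpr (Module.length_ne_top_iff.mpr h)

end Groth.Agent.S1916
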