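import Groth.Statements.S19161
import Groth.Agent.H27.RootDom2

set_option autoImplicit false
open RootPairing
open RootD

namespace Groth.Agent.S19161

/-- Let P be a root datum (root pairing over ℤ, finitely many roots), S a system of positive roots, W
the Weyl group, Γ a non-trivial totally ordered commutative group and f₁, f₂ : M → Γ additive maps
which are dominant (f_i(α) ≥ 0 for α ∈ S). Then f₁ ≤ f₂ in the weak dominance order (f₁(m) ≤ f₂(m)
for every dominant weight m, i.e. every m with ⟨m, α∨⟩ ≥ 0 for all α ∈ S) if and only if, for every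
non-empty finite W-stable subset X ⊆ M, the maximum of f₁ on X is at most the maximum of f₂ on X.
(The source phrases the right-hand side through W-invariant elements x of ℕ[M] and the largest
element of the support of f_i(x) in ℤ[Γ]; for ℕ-coefficients that largest element is the maximum of
f_i over the support of x.) -/
theorem result {ι M N : Type*} [AddCommGroup M] [AddCommGroup N]
    (P : RootPairing ι ℤ M N) [Finite ι] (S : Set ι) (hS : RootD.IsPosSys P S)
    {Γ : Type*} [AddCommGroup Γ] [LinearOrder Γ] [IsOrderedAddMonoid Γ] [Nontrivial Γ] (f₁ f₂ : M →+ Γ)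
    (hf₁ : ∀ i ∈ S, 0 ≤ f₁ (P.root i)) (hf₂ : ∀ i ∈ S, 0 ≤ f₂ (P.root i)) :
    (∀ m : M, (∀ i ∈ S, 0 ≤ P.coroot' i m) → f₁ m ≤ f₂ m) ↔
    ∀ (X : Finset M) (hX : X.Nonempty), (∀ g : P.Aut, g ∈ P.weylGroup → ∀ m ∈ X, RootPairing.Equiv.weightHom P g m ∈ X) →
      X.sup' hX f₁ ≤ X.sup' hX f₂ := by
  have hweak : ∀ (f : M →+ Γ), (∀ i ∈ S, 0 ≤ f (P.root i)) → ∀ g : P.Aut, g ∈ P.weylGroup →
      ∀ m : M, (∀ i ∈ S, 0 ≤ P.coroot' i m) → f (g • m) ≤ f m :=
    fun f hf g hg m hm => Groth.Agent.H27.dominant_weak P hS f hf g hg m hm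
  constructor
  · intro h X hX hstab
    obtain ⟨m₀, hm₀, hsup⟩ := Finset.exists_mem_eq_sup' hX f₁
    obtain ⟨g, hg, hdom⟩ := Groth.Agent.H27.exists_weyl_dominant_weight P hS m₀
    have hmem : g • m₀ ∈ X := hstab g hg m₀ hm₀
    rw [hsup]
    calc f₁ m₀ = f₁ (g⁻¹ • (g • m₀)) := by rw [inv_smul_smul]
      _ ≤ f₁ (g • m₀) := hweak f₁ hf₁ g⁻¹ (inv_mem hg) _ hdom
      _ ≤ f₂ (g • m₀) := h _ hdom
      _ ≤ X.sup' hX f₂ := Finset.le_sup' f₂ hmem
  · intro h m hm
    obtain ⟨X, hXdef⟩ := Groth.Agent.H27.exists_orbit_finset P m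
    have hmX : m ∈ X := (hXdef m).mpr ⟨1, one_mem _, one_smul _ _⟩
    have hX : X.Nonempty := ⟨m, hmX⟩
    have hstab : ∀ g : P.Aut, g ∈ P.weylGroup → ∀ x ∈ X,
        RootPairing.Equiv.weightHom P g x ∈ X := by
      intro g hg x hx
      obtain ⟨k, hk, rfl⟩ := (hXdef x).mp hx
      exact (hXdef _).mpr ⟨g * k, mul_mem hg hk, mul_smul g k m⟩
    have h1 := h X hX hstab
    obtain ⟨b, hb, hsup⟩ := Finset.exists_mem_eq_sup' hX f₂
    obtain ⟨k, hk, rfl⟩ := (hXdef b).mp hb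
    calc f₁ m ≤ X.sup' hX f₁ := Finset.le_sup' f₁ hmX
      _ ≤ X.sup' hX f₂ := h1
      _ = f₂ (k • m) := hsup
      _ ≤ f₂ m := hweak f₂ hf₂ k hk m hm

end Groth.Agent.S19161
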