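import Groth.Statements.S19170
import Mathlib.GroupTheory.FiniteAbelian.Basic
import Mathlib.Topology.Algebra.Group.Basic
import Mathlib.GroupTheory.Index

set_option autoImplicit false
universe u
open ProCompl

namespace Groth.Agent.S19170

theorem isAddTorsion_QmodZ : IsAddTorsion (ℚ ⧸ AddSubgroup.zmultiples (1 : ℚ)) := by
  intro x
  obtain ⟨q, rfl⟩ := QuotientAddGroup.mk_surjective x
  rw [isOfFinAddOrder_iff_nsmul_eq_zero]
  refine ⟨q.den, q.den_pos, ?_⟩
  rw [← QuotientAddGroup.mk_nsmul, QuotientAddGroup.eq_zero_iff, AddSubgroup.mem_zmultiples_iff]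
  refine ⟨q.num, ?_⟩
  rw [nsmul_eq_mul, zsmul_eq_mul, mul_one, mul_comm, Rat.mul_den_eq_num]

theorem isOpen_fiber {B : Type u} [AddCommGroup B] [TopologicalSpace B] [IsTopologicalAddGroup B]
    (χ : B →+ ℚ ⧸ AddSubgroup.zmultiples (1 : ℚ)) (hχ : IsOpen (χ.ker : Set B))
    (c : ℚ ⧸ AddSubgroup.zmultiples (1 : ℚ)) : IsOpen (χ ⁻¹' {c}) := by
  rw [isOpen_iff_mem_nhds]
  intro x hx
  have hcont : Continuous (fun y : B => y - x) := continuous_id.sub continuous_const
  have hopen : IsOpen ((fun y : B => y - x) ⁻¹' (χ.ker : Set B)) := hχ.preimage hcont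
  refine Filter.mem_of_superset (hopen.mem_nhds ?_) ?_
  · show x - x ∈ χ.ker
    rw [sub_self]; exact zero_mem _
  · intro y hy
    have hy' : χ (y - x) = 0 := hy
    rw [map_sub, sub_eq_zero] at hy'
    show χ y = c
    rw [hy']; exact hx

/-- Let B be a topological abelian group generated as a group by a compact subset. Then every character
χ : B → ℚ/ℤ with open kernel (a continuous character for discrete ℚ/ℤ) has kernel of finite index;
consequently each such character factors through B^∧, the completion of B taken along its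
finite-index open subgroups, i.e. (B^∧)^D = B^D. (The published statement assumes moreover that B is
Hausdorff, locally compact and totally disconnected; only compact generation is needed for this
assertion, so those assumptions are dropped here.) -/
theorem result
    {B : Type u} [AddCommGroup B] [TopologicalSpace B] [IsTopologicalAddGroup B]
    (hcg : ∃ K : Set B, IsCompact K ∧ AddSubgroup.closure K = ⊤)
    (χ : B →+ ℚ ⧸ AddSubgroup.zmultiples (1 : ℚ)) (hχ : IsOpen (χ.ker : Set B)) : χ.ker.FiniteIndex := by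
  classical
  obtain ⟨K, hK, hKgen⟩ := hcg
  have hfin : (χ '' K).Finite := by
    obtain ⟨T, hT⟩ := hK.elim_finite_subcover (fun c => χ ⁻¹' {c}) (isOpen_fiber χ hχ)
      (fun x _ => Set.mem_iUnion.mpr ⟨χ x, rfl⟩)
    refine (T.finite_toSet).subset ?_
    rintro _ ⟨x, hx, rfl⟩
    obtain ⟨c, hc, hxc⟩ := Set.mem_iUnion₂.mp (hT hx)
    have : χ x = c := hxc
    rw [this]; exact hc
  have hrange : χ.range = AddSubgroup.closure (χ '' K) := by
    rw [AddMonoidHom.range_eq_map, ← hKgen, AddMonoidHom.map_closure]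
  haveI hfg : AddGroup.FG ↥χ.range := by
    rw [AddGroup.fg_iff_addSubgroup_fg]
    refine ⟨hfin.toFinset, ?_⟩
    rw [hrange, Set.Finite.coe_toFinset]
  have htors : IsAddTorsion ↥χ.range := by
    rintro ⟨x, hx⟩
    have := isAddTorsion_QmodZ x
    rw [isOfFinAddOrder_iff_nsmul_eq_zero] at this ⊢
    obtain ⟨n, hn, hnx⟩ := this
    exact ⟨n, hn, Subtype.ext hnx⟩
  haveI : Finite ↥χ.range := AddCommGroup.finite_of_fg_isAddTorsion _ htors
  refine ⟨?_⟩
  rw [AddSubgroup.index_ker]
  exact Nat.card_pos.ne'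

end Groth.Agent.S19170
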