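import Groth.Statements.S19169
import Groth.Agent.S19170
import Mathlib.Topology.Separation.Profinite
import Mathlib.Topology.Algebra.OpenSubgroup
import Mathlib.Algebra.Module.CharacterModule

set_option autoImplicit false
universe u
open ProCompl

namespace Groth.Agent.S19169

open Pointwise Topology in
theorem exists_nhds_add_subset {B : Type u} [AddCommGroup B] [TopologicalSpace B]
    [IsTopologicalAddGroup B] {W : Set B} (hWc : IsCompact W) (hWo : IsOpen W) :
    ∃ T ∈ 𝓝 (0 : B), W + T ⊆ W := by
  apply hWc.induction_on (p := fun S => ∃ T ∈ 𝓝 (0 : B), S + T ⊆ W)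
  · exact ⟨Set.univ, Filter.univ_mem, by simp⟩
  · rintro s t hst ⟨T, hT, hmem⟩
    exact ⟨T, hT, (Set.add_subset_add_right hst).trans hmem⟩
  · rintro s t ⟨T₁, hT₁, h1⟩ ⟨T₂, hT₂, h2⟩
    refine ⟨T₁ ∩ T₂, Filter.inter_mem hT₁ hT₂, ?_⟩
    rw [Set.union_add]
    exact Set.union_subset ((Set.add_subset_add_left Set.inter_subset_left).trans h1)
      ((Set.add_subset_add_left Set.inter_subset_right).trans h2)
  · intro x hxW
    have hmem : (x, (0 : B)) ∈ (fun p : B × B => p.1 + p.2) ⁻¹' W := by simpa using hxW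
    obtain ⟨U, V, hU, hV, hxU, h0V, hUV⟩ :=
      isOpen_prod_iff.mp (hWo.preimage continuous_add) x 0 hmem
    refine ⟨U ∩ W, ?_, V, hV.mem_nhds h0V, ?_⟩
    · exact mem_nhdsWithin.mpr ⟨U, hU, hxU, fun y hy => hy⟩
    · rintro _ ⟨u, hu, v, hv, rfl⟩
      exact hUV (Set.mk_mem_prod hu.1 hv)

open Pointwise Topology in
theorem exists_open_addSubgroup_subset {B : Type u} [AddCommGroup B] [TopologicalSpace B]
    [IsTopologicalAddGroup B] {W : Set B} (hWc : IsCompact W) (hWo : IsOpen W) (h0 : (0 : B) ∈ W) :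
    ∃ U : AddSubgroup B, IsOpen (U : Set B) ∧ (U : Set B) ⊆ W := by
  obtain ⟨T, hT, hWT⟩ := exists_nhds_add_subset hWc hWo
  obtain ⟨T', hT'T, hT'o, h0T'⟩ := mem_nhds_iff.mp hT
  let V : Set B := T' ∩ -T'
  have hVo : IsOpen V := hT'o.inter hT'o.neg
  have h0V : (0 : B) ∈ V := ⟨h0T', by simpa using h0T'⟩
  have hVneg : ∀ v ∈ V, -v ∈ V := by
    rintro v ⟨hv1, hv2⟩
    exact ⟨by simpa using hv2, by simpa using hv1⟩
  have hWV : ∀ w ∈ W, ∀ v ∈ V, w + v ∈ W := fun w hw v hv =>
    hWT (Set.add_mem_add hw (hT'T hv.1))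
  refine ⟨AddSubgroup.closure V, ?_, ?_⟩
  · exact AddSubgroup.isOpen_of_mem_nhds _ (g := 0)
      (Filter.mem_of_superset (hVo.mem_nhds h0V) AddSubgroup.subset_closure)
  · intro x hx
    have key : ∀ w ∈ W, w + x ∈ W := by
      induction hx using AddSubgroup.closure_induction'' with
      | mem v hv => exact fun w hw => hWV w hw v hv
      | neg_mem v hv => exact fun w hw => hWV w hw (-v) (hVneg v hv)
      | zero => intro w hw; simpa using hw
      | add a b _ _ ha hb =>
        intro w hw
        rw [← add_assoc]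
        exact hb _ (ha w hw)
    simpa using key 0 h0

/-- Let B be a Hausdorff, locally compact, totally disconnected topological abelian group which is
compactly generated, i.e. generated as a group by a compact subset. Then the open subgroups of
finite index of B have trivial intersection: every nonzero b lies outside some open subgroup of
finite index. Equivalently, the natural map from B to its completion with respect to open subgroups
of finite index is injective. -/
theorem result
    {B : Type u} [AddCommGroup B] [TopologicalSpace B] [IsTopologicalAddGroup B]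
    [T2Space B] [LocallyCompactSpace B] [TotallyDisconnectedSpace B]
    (hcg : ∃ K : Set B, IsCompact K ∧ AddSubgroup.closure K = ⊤) (b : B) (hb : b ≠ 0) :
    ∃ B' : AddSubgroup B, IsOpen (B' : Set B) ∧ B'.FiniteIndex ∧ b ∉ B' := by
  classical
  -- a compact open neighbourhood of 0 missing b
  have hO : IsOpen ({b}ᶜ : Set B) := isOpen_compl_singleton
  have h0O : (0 : B) ∈ ({b}ᶜ : Set B) := by
    simp only [Set.mem_compl_iff, Set.mem_singleton_iff]
    exact fun h => hb h.symm
  obtain ⟨K, hK, h0K, hKO⟩ := exists_compact_subset hO h0O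
  obtain ⟨W, hWclopen, h0W, hWK⟩ :=
    (loc_compact_Haus_tot_disc_of_zero_dim (H := B)).exists_subset_of_mem_open h0K isOpen_interior
  have hWc : IsCompact W := hK.of_isClosed_subset hWclopen.1 (hWK.trans interior_subset)
  obtain ⟨U, hUo, hUW⟩ := exists_open_addSubgroup_subset hWc hWclopen.2 h0W
  have hbU : b ∉ U := fun h => hKO (interior_subset (hWK (hUW h))) rfl
  -- a character of B ⧸ U not vanishing at the class of b
  have hbU' : (QuotientAddGroup.mk b : B ⧸ U) ≠ 0 := by
    rw [Ne, QuotientAddGroup.eq_zero_iff]; exact hbU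
  obtain ⟨c, hc⟩ := CharacterModule.exists_character_apply_ne_zero_of_ne_zero hbU'
  let χ : (B ⧸ U) →+ ℚ ⧸ AddSubgroup.zmultiples (1 : ℚ) := c
  let ψ : B →+ ℚ ⧸ AddSubgroup.zmultiples (1 : ℚ) := χ.comp (QuotientAddGroup.mk' U)
  have hUψ : U ≤ ψ.ker := by
    intro x hx
    show χ (QuotientAddGroup.mk x) = 0
    rw [(QuotientAddGroup.eq_zero_iff x).mpr hx, map_zero]
  have hψo : IsOpen (ψ.ker : Set B) := AddSubgroup.isOpen_mono hUψ hUo
  refine ⟨ψ.ker, hψo, Groth.Agent.S19170.result hcg ψ hψo, ?_⟩
  intro h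
  exact hc h

end Groth.Agent.S19169
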