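import Groth.Statements.S19171
import Groth.Agent.S19169

set_option autoImplicit false
universe u v
open ProCompl

namespace Groth.Agent.S19171

theorem exists_open_addSubgroup_subset_open {B : Type v} [AddCommGroup B] [TopologicalSpace B]
    [IsTopologicalAddGroup B] [T2Space B] [LocallyCompactSpace B] [TotallyDisconnectedSpace B]
    {O : Set B} (hO : IsOpen O) (h0O : (0 : B) ∈ O) :
    ∃ U : AddSubgroup B, IsOpen (U : Set B) ∧ (U : Set B) ⊆ O := by
  obtain ⟨K, hK, h0K, hKO⟩ := exists_compact_subset hO h0O
  obtain ⟨W, hWclopen, h0W, hWK⟩ :=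
    (loc_compact_Haus_tot_disc_of_zero_dim (H := B)).exists_subset_of_mem_open h0K isOpen_interior
  have hWc : IsCompact W := hK.of_isClosed_subset hWclopen.1 (hWK.trans interior_subset)
  obtain ⟨U, hUo, hUW⟩ := Groth.Agent.S19169.exists_open_addSubgroup_subset hWc hWclopen.2 h0W
  exact ⟨U, hUo, fun x hx => hKO (interior_subset (hWK (hUW hx)))⟩

/-- Extension of a character with open kernel along a strict injection into a locally compact
Hausdorff totally disconnected group (no compact generation or closedness needed). -/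
theorem extend_character {A : Type u} {B : Type v} [AddCommGroup A] [TopologicalSpace A]
    [AddCommGroup B] [TopologicalSpace B] [IsTopologicalAddGroup B]
    [T2Space B] [LocallyCompactSpace B] [TotallyDisconnectedSpace B]
    (i : A →+ B) (hind : Topology.IsInducing i)
    (χ : A →+ ℚ ⧸ AddSubgroup.zmultiples (1 : ℚ)) (hχ : IsOpen (χ.ker : Set A)) :
    ∃ ψ : B →+ ℚ ⧸ AddSubgroup.zmultiples (1 : ℚ), IsOpen (ψ.ker : Set B) ∧ ψ.comp i = χ := by
  obtain ⟨O, hO, hOχ⟩ := hind.isOpen_iff.mp hχ
  have h0O : (0 : B) ∈ O := by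
    have : (0 : A) ∈ i ⁻¹' O := by rw [hOχ]; exact zero_mem χ.ker
    simpa using this
  obtain ⟨U, hUo, hUO⟩ := exists_open_addSubgroup_subset_open hO h0O
  have hUχ : U.comap i ≤ χ.ker := by
    intro a ha
    have : a ∈ i ⁻¹' O := hUO ha
    rw [hOχ] at this
    exact this
  let ibar : A ⧸ U.comap i →+ B ⧸ U := QuotientAddGroup.map (U.comap i) U i le_rfl
  have hibar : Function.Injective ibar := by
    rw [injective_iff_map_eq_zero]
    intro q hq
    obtain ⟨a, rfl⟩ := QuotientAddGroup.mk_surjective q
    have h1 : ibar (QuotientAddGroup.mk a) = QuotientAddGroup.mk (i a) := rfl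
    rw [h1, QuotientAddGroup.eq_zero_iff] at hq
    rw [QuotientAddGroup.eq_zero_iff]
    exact hq
  let χbar : A ⧸ U.comap i →+ ℚ ⧸ AddSubgroup.zmultiples (1 : ℚ) :=
    QuotientAddGroup.lift (U.comap i) χ hUχ
  obtain ⟨φ, hφ⟩ := (Module.Baer.of_divisible
    (ℚ ⧸ AddSubgroup.zmultiples (1 : ℚ))).extension_property_addMonoidHom ibar hibar χbar
  refine ⟨φ.comp (QuotientAddGroup.mk' U), ?_, ?_⟩
  · have hle : U ≤ (φ.comp (QuotientAddGroup.mk' U)).ker := by
      intro x hx
      show φ (QuotientAddGroup.mk x) = 0
      rw [(QuotientAddGroup.eq_zero_iff x).mpr hx, map_zero]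
    exact AddSubgroup.isOpen_mono hle hUo
  · ext a
    show φ (QuotientAddGroup.mk (i a)) = χ a
    have h1 : ibar (QuotientAddGroup.mk a) = QuotientAddGroup.mk (i a) := rfl
    rw [← h1]
    have h2 : φ (ibar (QuotientAddGroup.mk a)) = χbar (QuotientAddGroup.mk a) := by
      rw [← hφ]; rfl
    rw [h2]
    rfl

open Topology in
/-- Let B be a Hausdorff, locally compact, totally disconnected topological abelian group generated as a
group by a compact subset, and let i : A → B be an injective continuous homomorphism inducing the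
topology of A from that of B (a strict injection) whose image is closed. Then every character χ : A
→ ℚ/ℤ with open kernel extends along i to a character ψ : B → ℚ/ℤ with open kernel; with ℚ/ℤ
discrete this says that restriction B^D → A^D of continuous characters is surjective, i.e. the dual
of a topological exact sequence 0 → A → B → C → 0 with such B, strict closed i and open p is a short
exact sequence 0 → C^D → B^D → A^D → 0. -/
theorem result
    {A : Type u} {B : Type v} [AddCommGroup A] [TopologicalSpace A] [IsTopologicalAddGroup A]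
    [AddCommGroup B] [TopologicalSpace B] [IsTopologicalAddGroup B]
    [T2Space B] [LocallyCompactSpace B] [TotallyDisconnectedSpace B]
    (hcg : ∃ K : Set B, IsCompact K ∧ AddSubgroup.closure K = ⊤)
    (i : A →+ B) (hi : Continuous i) (hinj : Function.Injective i) (hind : IsInducing i)
    (hcl : IsClosed (Set.range i))
    (χ : A →+ ℚ ⧸ AddSubgroup.zmultiples (1 : ℚ)) (hχ : IsOpen (χ.ker : Set A)) :
    ∃ ψ : B →+ ℚ ⧸ AddSubgroup.zmultiples (1 : ℚ), IsOpen (ψ.ker : Set B) ∧ ψ.comp i = χ := by
  exact extend_character i hind χ hχ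

end Groth.Agent.S19171
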