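import Groth.Statements.S19172
import Groth.Agent.H95.FIComplLimit
import Mathlib.Data.Set.Card

set_option autoImplicit false
universe u v w
open ProCompl

namespace Groth.Agent.S19172

open W4c61motalbduality

/-- The image of an open finite-index subgroup under an open surjective homomorphism. -/
def imgFI {B : Type v} {C : Type w} [AddCommGroup B] [TopologicalSpace B]
    [AddCommGroup C] [TopologicalSpace C] (p : B →+ C) (hpo : IsOpenMap p)
    (hps : Function.Surjective p) (V : OpenFI B) : OpenFI C where
  toAddSubgroup := V.toAddSubgroup.map p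
  isOpen' := by
    rw [AddSubgroup.coe_map]
    exact hpo _ V.isOpen'
  finiteIndex' := by
    haveI := V.finiteIndex'
    refine ⟨?_⟩
    intro h0
    have hdvd := V.toAddSubgroup.index_map_dvd hps
    rw [h0, zero_dvd_iff] at hdvd
    exact AddSubgroup.FiniteIndex.index_ne_zero hdvd

/-- The whole group as an open finite-index subgroup. -/
def topFI (B : Type v) [AddCommGroup B] [TopologicalSpace B] : OpenFI B where
  toAddSubgroup := ⊤
  isOpen' := by
    rw [AddSubgroup.coe_top]
    exact isOpen_univ
  finiteIndex' := inferInstance

/-- A downward directed family of nonempty subsets of a finite type has a common point. -/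
theorem exists_mem_all_of_directed {X : Type*} [Finite X] {I : Type*} [Nonempty I]
    (T : I → Set X) (hne : ∀ k, (T k).Nonempty)
    (hdir : ∀ k l, ∃ m, T m ⊆ T k ∧ T m ⊆ T l) : ∃ x, ∀ k, x ∈ T k := by
  classical
  obtain ⟨k₀, -, hk₀⟩ := WellFounded.has_min
    (InvImage.wf (fun k : I => (T k).ncard) Nat.lt_wfRel.wf) Set.univ Set.univ_nonempty
  obtain ⟨x, hx⟩ := hne k₀
  refine ⟨x, fun k => ?_⟩
  obtain ⟨m, hm1, hm2⟩ := hdir k₀ k
  have hle : (T k₀).ncard ≤ (T m).ncard := by
    have := hk₀ m (Set.mem_univ _)
    exact not_lt.mp this
  have heq : T m = T k₀ := Set.eq_of_subset_of_ncard_le hm1 hle (Set.toFinite _)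
  exact hm2 (heq ▸ hx)

open W4c61motalbduality in
/-- Let i : A → B and p : B → C be continuous homomorphisms of topological abelian groups with p
surjective and open and with the kernel of p equal to the image of i. Then the induced sequence of
completions with respect to open subgroups of finite index, A^∧ → B^∧ → C^∧ → 0, is exact: the map
B^∧ → C^∧ is surjective and its kernel is the image of A^∧. The completion is the group of
compatible families of residues modulo all open subgroups of finite index. (The published statement
takes i injective, as the first map of an exact sequence 0 → A → B → C → 0 of topological abelian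
groups; here it is only assumed that the image of i is the kernel of p, which is all the proof
uses.) -/
theorem result
    {A : Type u} {B : Type v} {C : Type w}
    [AddCommGroup A] [TopologicalSpace A] [IsTopologicalAddGroup A]
    [AddCommGroup B] [TopologicalSpace B] [IsTopologicalAddGroup B]
    [AddCommGroup C] [TopologicalSpace C] [IsTopologicalAddGroup C]
    (i : A →+ B) (hi : Continuous i) (p : B →+ C) (hp : Continuous p)
    (hpo : IsOpenMap p) (hps : Function.Surjective p) (hex : p.ker = i.range) :
    Function.Surjective (FICompl.map p hp) ∧ (FICompl.map p hp).ker = (FICompl.map i hi).range := by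
  classical
  refine ⟨?_, ?_⟩
  · -- surjectivity
    intro z
    let S : ∀ V : OpenFI B, Set (B ⧸ V.toAddSubgroup) := fun V =>
      {y | ∀ (W : OpenFI C) (h : V.toAddSubgroup ≤ W.toAddSubgroup.comap p),
        QuotientAddGroup.map V.toAddSubgroup W.toAddSubgroup p h y = z.1 W}
    have hne : ∀ V, (S V).Nonempty := by
      intro V
      obtain ⟨c, hc⟩ := QuotientAddGroup.mk_surjective (z.1 (imgFI p hpo hps V))
      obtain ⟨b, rfl⟩ := hps c
      refine ⟨QuotientAddGroup.mk b, ?_⟩
      intro W h
      have h' : (imgFI p hpo hps V).toAddSubgroup ≤ W.toAddSubgroup :=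
        AddSubgroup.map_le_iff_le_comap.mpr h
      have hz := z.2 (imgFI p hpo hps V) W h'
      rw [← hc, QuotientAddGroup.map_mk] at hz
      rw [QuotientAddGroup.map_mk, ← hz]
      rfl
    have hS : ∀ (U V : OpenFI B) (h : U.toAddSubgroup ≤ V.toAddSubgroup) (y : B ⧸ U.toAddSubgroup),
        y ∈ S U → QuotientAddGroup.map U.toAddSubgroup V.toAddSubgroup (AddMonoidHom.id B) h y
          ∈ S V := by
      intro U V h y hy W h2
      obtain ⟨b, rfl⟩ := QuotientAddGroup.mk_surjective y
      have := hy W (h.trans h2)
      rw [QuotientAddGroup.map_mk] at this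
      rw [QuotientAddGroup.map_mk, QuotientAddGroup.map_mk]
      exact this
    obtain ⟨y, hy⟩ := Groth.Agent.H95.exists_ficompl_mem S hne hS
    refine ⟨y, ?_⟩
    apply Subtype.ext
    funext W
    exact hy (W.comap p hp) W le_rfl
  · ext y
    constructor
    · intro hy
      have hy0 : FICompl.map p hp y = 0 := hy
      -- every component of y comes from A
      have fact1 : ∀ V : OpenFI B, ∃ a : A, y.1 V = QuotientAddGroup.mk (i a) := by
        intro V
        have hVV' : V.toAddSubgroup ≤ ((imgFI p hpo hps V).comap p hp).toAddSubgroup :=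
          AddSubgroup.le_comap_map p V.toAddSubgroup
        have hcompat := y.2 V ((imgFI p hpo hps V).comap p hp) hVV'
        obtain ⟨b, hb⟩ := QuotientAddGroup.mk_surjective (y.1 V)
        rw [← hb, QuotientAddGroup.map_mk] at hcompat
        have h0 : (FICompl.map p hp y).1 (imgFI p hpo hps V) = 0 := by rw [hy0]; rfl
        have h1 : (FICompl.map p hp y).1 (imgFI p hpo hps V) =
            QuotientAddGroup.map ((imgFI p hpo hps V).comap p hp).toAddSubgroup
              (imgFI p hpo hps V).toAddSubgroup p ((imgFI p hpo hps V).comap_le p)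
              (y.1 ((imgFI p hpo hps V).comap p hp)) := rfl
        rw [h1, ← hcompat, QuotientAddGroup.map_mk, QuotientAddGroup.eq_zero_iff] at h0
        obtain ⟨v, hv, hvb⟩ := h0
        have hker : b - v ∈ p.ker := by
          rw [AddMonoidHom.mem_ker, map_sub, sub_eq_zero]
          exact hvb.symm
        rw [hex] at hker
        obtain ⟨a, ha⟩ := hker
        refine ⟨a, ?_⟩
        rw [← hb, ha, QuotientAddGroup.eq]
        have hneg : -b + (b - v) = -v := by abel
        rw [hneg]
        exact neg_mem hv
      let S : ∀ U : OpenFI A, Set (A ⧸ U.toAddSubgroup) := fun U =>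
        {x | ∀ (V : OpenFI B) (h : U.toAddSubgroup ≤ V.toAddSubgroup.comap i),
          QuotientAddGroup.map U.toAddSubgroup V.toAddSubgroup i h x = y.1 V}
      have hS : ∀ (U V : OpenFI A) (h : U.toAddSubgroup ≤ V.toAddSubgroup)
          (x : A ⧸ U.toAddSubgroup), x ∈ S U →
          QuotientAddGroup.map U.toAddSubgroup V.toAddSubgroup (AddMonoidHom.id A) h x ∈ S V := by
        intro U V h x hx W h2
        obtain ⟨a, rfl⟩ := QuotientAddGroup.mk_surjective x
        have := hx W (h.trans h2)
        rw [QuotientAddGroup.map_mk] at this
        rw [QuotientAddGroup.map_mk, QuotientAddGroup.map_mk]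
        exact this
      have hne : ∀ U, (S U).Nonempty := by
        intro U
        haveI := U.finiteIndex'
        haveI : Finite (A ⧸ U.toAddSubgroup) := AddSubgroup.finite_quotient_of_finiteIndex
        let I := {V : OpenFI B // U.toAddSubgroup ≤ V.toAddSubgroup.comap i}
        haveI : Nonempty I := ⟨⟨topFI B, by
          show U.toAddSubgroup ≤ (⊤ : AddSubgroup B).comap i
          rw [AddSubgroup.comap_top]; exact le_top⟩⟩
        let T : I → Set (A ⧸ U.toAddSubgroup) := fun V =>
          {x | QuotientAddGroup.map U.toAddSubgroup V.1.toAddSubgroup i V.2 x = y.1 V.1}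
        have hTne : ∀ k, (T k).Nonempty := by
          rintro ⟨V, hV⟩
          obtain ⟨a, ha⟩ := fact1 V
          refine ⟨QuotientAddGroup.mk a, ?_⟩
          show QuotientAddGroup.map U.toAddSubgroup V.toAddSubgroup i hV (QuotientAddGroup.mk a)
            = y.1 V
          rw [QuotientAddGroup.map_mk, ha]
        have hdir : ∀ k l, ∃ m, T m ⊆ T k ∧ T m ⊆ T l := by
          rintro ⟨V, hV⟩ ⟨V', hV'⟩
          have hVV' : U.toAddSubgroup ≤ (Groth.Agent.H95.openFIInf V V').toAddSubgroup.comap i := by
            show U.toAddSubgroup ≤ (V.toAddSubgroup ⊓ V'.toAddSubgroup).comap i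
            rw [AddSubgroup.comap_inf]
            exact le_inf hV hV'
          refine ⟨⟨Groth.Agent.H95.openFIInf V V', hVV'⟩, ?_, ?_⟩
          · intro x hx
            obtain ⟨a, rfl⟩ := QuotientAddGroup.mk_surjective x
            have hx' : QuotientAddGroup.map U.toAddSubgroup
              (Groth.Agent.H95.openFIInf V V').toAddSubgroup i hVV' (QuotientAddGroup.mk a)
                = y.1 (Groth.Agent.H95.openFIInf V V') := hx
            have hc := y.2 (Groth.Agent.H95.openFIInf V V') V
              (inf_le_left : V.toAddSubgroup ⊓ V'.toAddSubgroup ≤ _)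
            rw [← hx', QuotientAddGroup.map_mk, QuotientAddGroup.map_mk] at hc
            show QuotientAddGroup.map U.toAddSubgroup V.toAddSubgroup i hV (QuotientAddGroup.mk a)
              = y.1 V
            rw [QuotientAddGroup.map_mk, ← hc]
            rfl
          · intro x hx
            obtain ⟨a, rfl⟩ := QuotientAddGroup.mk_surjective x
            have hx' : QuotientAddGroup.map U.toAddSubgroup
              (Groth.Agent.H95.openFIInf V V').toAddSubgroup i hVV' (QuotientAddGroup.mk a)
                = y.1 (Groth.Agent.H95.openFIInf V V') := hx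
            have hc := y.2 (Groth.Agent.H95.openFIInf V V') V'
              (inf_le_right : V.toAddSubgroup ⊓ V'.toAddSubgroup ≤ _)
            rw [← hx', QuotientAddGroup.map_mk, QuotientAddGroup.map_mk] at hc
            show QuotientAddGroup.map U.toAddSubgroup V'.toAddSubgroup i hV' (QuotientAddGroup.mk a)
              = y.1 V'
            rw [QuotientAddGroup.map_mk, ← hc]
            rfl
        obtain ⟨x, hx⟩ := exists_mem_all_of_directed T hTne hdir
        exact ⟨x, fun V h => hx ⟨V, h⟩⟩
      obtain ⟨x, hx⟩ := Groth.Agent.H95.exists_ficompl_mem S hne hS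
      refine ⟨x, ?_⟩
      apply Subtype.ext
      funext V
      exact hx (V.comap i hi) V le_rfl
    · rintro ⟨x, rfl⟩
      show FICompl.map p hp (FICompl.map i hi x) = 0
      apply Subtype.ext
      funext W
      show QuotientAddGroup.map (W.comap p hp).toAddSubgroup W.toAddSubgroup p (W.comap_le p)
        (QuotientAddGroup.map ((W.comap p hp).comap i hi).toAddSubgroup
          (W.comap p hp).toAddSubgroup i ((W.comap p hp).comap_le i)
          (x.1 ((W.comap p hp).comap i hi))) = 0
      obtain ⟨a, ha⟩ := QuotientAddGroup.mk_surjective (x.1 ((W.comap p hp).comap i hi))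
      rw [← ha, QuotientAddGroup.map_mk, QuotientAddGroup.map_mk]
      have : p (i a) = 0 := by
        have : i a ∈ p.ker := by rw [hex]; exact ⟨a, rfl⟩
        exact this
      rw [this]
      rfl

end Groth.Agent.S19172
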