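import Groth.Statements.S19173
import Groth.Agent.S19171

set_option autoImplicit false
universe u v
open ProCompl

namespace Groth.Agent.S19173

open W4c61motalbduality Topology in
/-- Every open finite-index subgroup of `A` contains the preimage of an open finite-index
subgroup of `B`. -/
theorem exists_openFI_comap_le
    {A : Type u} {B : Type v} [AddCommGroup A] [TopologicalSpace A] [IsTopologicalAddGroup A]
    [AddCommGroup B] [TopologicalSpace B] [IsTopologicalAddGroup B]
    [T2Space B] [LocallyCompactSpace B] [TotallyDisconnectedSpace B]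
    (hcg : ∃ K : Set B, IsCompact K ∧ AddSubgroup.closure K = ⊤)
    (i : A →+ B) (hi : Continuous i) (hind : IsInducing i) (U : OpenFI A) :
    ∃ V : OpenFI B, (V.comap i hi).toAddSubgroup ≤ U.toAddSubgroup := by
  classical
  haveI := U.finiteIndex'
  haveI : Finite (A ⧸ U.toAddSubgroup) := AddSubgroup.finite_quotient_of_finiteIndex
  have hc : ∀ q : A ⧸ U.toAddSubgroup, ∃ c : (A ⧸ U.toAddSubgroup) →+ ℚ ⧸ AddSubgroup.zmultiples (1 : ℚ),
      q ≠ 0 → c q ≠ 0 := by
    intro q
    by_cases hq : q = 0
    · exact ⟨0, fun h => absurd hq h⟩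
    · obtain ⟨c, hc⟩ := CharacterModule.exists_character_apply_ne_zero_of_ne_zero hq
      exact ⟨c, fun _ => hc⟩
  choose c hc using hc
  have hχ : ∀ q, IsOpen (((c q).comp (QuotientAddGroup.mk' U.toAddSubgroup)).ker : Set A) := by
    intro q
    have hle : U.toAddSubgroup ≤ ((c q).comp (QuotientAddGroup.mk' U.toAddSubgroup)).ker := by
      intro x hx
      show (c q) (QuotientAddGroup.mk x) = 0
      rw [(QuotientAddGroup.eq_zero_iff x).mpr hx, map_zero]
    exact AddSubgroup.isOpen_mono hle U.isOpen'
  have hψ := fun q => Groth.Agent.S19171.extend_character i hind _ (hχ q)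
  choose ψ hψo hψi using hψ
  have hfi : ∀ q, (ψ q).ker.FiniteIndex := fun q => Groth.Agent.S19170.result hcg (ψ q) (hψo q)
  refine ⟨⟨⨅ q, (ψ q).ker, ?_, AddSubgroup.finiteIndex_iInf hfi⟩, ?_⟩
  · rw [AddSubgroup.coe_iInf]
    exact isOpen_iInter_of_finite hψo
  · intro a ha
    have ha' : i a ∈ ⨅ q, (ψ q).ker := ha
    rw [AddSubgroup.mem_iInf] at ha'
    by_contra hna
    have hq : (QuotientAddGroup.mk a : A ⧸ U.toAddSubgroup) ≠ 0 := by
      rw [Ne, QuotientAddGroup.eq_zero_iff]; exact hna
    apply hc _ hq
    have h1 : ψ (QuotientAddGroup.mk a) (i a) = 0 := ha' _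
    have h2 : ((ψ (QuotientAddGroup.mk a)).comp i) a = 0 := h1
    rw [hψi] at h2
    exact h2

open W4c61motalbduality Topology in
/-- Let B be a Hausdorff, locally compact, totally disconnected topological abelian group generated as a
group by a compact subset, and let i : A → B be an injective continuous homomorphism inducing the
topology of A from that of B (a strict injection) with closed image. Then the map induced by i on
completions with respect to open subgroups of finite index is injective; together with right
exactness for open surjections this makes 0 → A^∧ → B^∧ → C^∧ → 0 exact for a topological exact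
sequence 0 → A → B → C → 0 with such B, strict closed i and open p. -/
theorem result
    {A : Type u} {B : Type v} [AddCommGroup A] [TopologicalSpace A] [IsTopologicalAddGroup A]
    [AddCommGroup B] [TopologicalSpace B] [IsTopologicalAddGroup B]
    [T2Space B] [LocallyCompactSpace B] [TotallyDisconnectedSpace B]
    (hcg : ∃ K : Set B, IsCompact K ∧ AddSubgroup.closure K = ⊤)
    (i : A →+ B) (hi : Continuous i) (hinj : Function.Injective i) (hind : IsInducing i)
    (hcl : IsClosed (Set.range i)) :
    Function.Injective (FICompl.map i hi) := by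
  rw [injective_iff_map_eq_zero]
  intro x hx
  apply Subtype.ext
  funext U
  obtain ⟨V, hV⟩ := exists_openFI_comap_le hcg i hi hind U
  have hcompat := x.2 (V.comap i hi) U hV
  have hxV : x.1 (V.comap i hi) = 0 := by
    have h1 : (FICompl.map i hi x).1 V = 0 := by rw [hx]; rfl
    have h2 : (FICompl.map i hi x).1 V =
        QuotientAddGroup.map (V.comap i hi).toAddSubgroup V.toAddSubgroup i
          (V.comap_le i) (x.1 (V.comap i hi)) := rfl
    rw [h2] at h1
    obtain ⟨a, ha⟩ := QuotientAddGroup.mk_surjective (x.1 (V.comap i hi))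
    rw [← ha] at h1 ⊢
    rw [QuotientAddGroup.map_mk, QuotientAddGroup.eq_zero_iff] at h1
    rw [QuotientAddGroup.eq_zero_iff]
    exact h1
  rw [hxV, map_zero] at hcompat
  exact hcompat.symm

end Groth.Agent.S19173
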