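import Groth.Statements.S19176
import Mathlib.Tactic.Ring
import Mathlib.RingTheory.MvPolynomial.Ideal
import Mathlib.LinearAlgebra.Dimension.Constructions
import Mathlib.LinearAlgebra.Dimension.Free
import Mathlib.LinearAlgebra.FiniteDimensional.Defs
import Mathlib.Algebra.CharP.Lemmas
import Mathlib.Tactic.NormNum

set_option autoImplicit false
universe u
open PlaneCurve

namespace Groth.Agent.S19176

open MvPolynomial in
theorem finrank_quot_monomial (k : Type u) [Field k] (a b : ℕ) :
    Module.finrank k (MvPolynomial (Fin 2) k ⧸ Ideal.span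
      ({X 0 ^ a, X 1 ^ b} : Set (MvPolynomial (Fin 2) k))) = a * b := by
  classical
  let E : (Fin 2 →₀ ℕ) ≃ ℕ × ℕ := Finsupp.equivFunOnFinite.trans (finTwoArrowEquiv ℕ)
  let T : Finset (Fin 2 →₀ ℕ) := (Finset.range a ×ˢ Finset.range b).map E.symm.toEmbedding
  have hE : ∀ m, E m = (m 0, m 1) := fun m => rfl
  have hT : ∀ m, m ∈ T ↔ m 0 < a ∧ m 1 < b := by
    intro m
    rw [show T = (Finset.range a ×ˢ Finset.range b).map E.symm.toEmbedding from rfl,
      Finset.mem_map_equiv, Equiv.symm_symm, Finset.mem_product, hE, Finset.mem_range,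
      Finset.mem_range]
  have hcard : T.card = a * b := by simp [T]
  have hI : Ideal.span ({X 0 ^ a, X 1 ^ b} : Set (MvPolynomial (Fin 2) k)) =
      Ideal.span ((fun s => monomial s (1 : k)) ''
        ({Finsupp.single 0 a, Finsupp.single 1 b} : Set (Fin 2 →₀ ℕ))) := by
    rw [Set.image_pair]
    simp only [X_pow_eq_monomial]
  let π : MvPolynomial (Fin 2) k →ₗ[k] (T → k) :=
    LinearMap.pi (fun m => MvPolynomial.lcoeff k m.1)
  have hπ : ∀ f (m : T), π f m = coeff m.1 f := fun f m => rfl
  have hsurj : Function.Surjective π := by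
    intro c
    refine ⟨∑ m : T, monomial m.1 (c m), ?_⟩
    ext m
    rw [hπ, coeff_sum]
    simp only [coeff_monomial]
    rw [Finset.sum_eq_single m]
    · simp
    · intro m' _ hne
      rw [if_neg]
      intro h
      exact hne (Subtype.ext h)
    · intro h
      exact absurd (Finset.mem_univ m) h
  have hker : LinearMap.ker π =
      (Ideal.span ({X 0 ^ a, X 1 ^ b} : Set (MvPolynomial (Fin 2) k))).restrictScalars k := by
    ext f
    rw [LinearMap.mem_ker, Submodule.restrictScalars_mem, hI, mem_ideal_span_monomial_image]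
    constructor
    · intro hf m hm
      have hmT : m ∉ T := fun hmT => by
        have h1 := congrFun hf ⟨m, hmT⟩
        rw [hπ] at h1
        exact (mem_support_iff.1 hm) h1
      rw [hT, not_and_or, not_lt, not_lt] at hmT
      rcases hmT with h | h
      · exact ⟨Finsupp.single 0 a, by simp, Finsupp.single_le_iff.2 h⟩
      · exact ⟨Finsupp.single 1 b, by simp, Finsupp.single_le_iff.2 h⟩
    · intro hf
      ext ⟨m, hmT⟩
      rw [hπ]
      simp only [Pi.zero_apply]
      by_contra hne
      have hm : m ∈ f.support := mem_support_iff.2 hne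
      obtain ⟨s, hs, hsm⟩ := hf m hm
      rw [hT] at hmT
      rcases hs with rfl | rfl
      · have := Finsupp.single_le_iff.1 hsm
        omega
      · have := Finsupp.single_le_iff.1 hsm
        omega
  let e : (MvPolynomial (Fin 2) k ⧸ Ideal.span
      ({X 0 ^ a, X 1 ^ b} : Set (MvPolynomial (Fin 2) k))) ≃ₗ[k] (T → k) :=
    (Submodule.Quotient.restrictScalarsEquiv k _).symm ≪≫ₗ
      (Submodule.quotEquivOfEq _ _ hker.symm) ≪≫ₗ π.quotKerEquivOfSurjective hsurj
  rw [LinearEquiv.finrank_eq e, Module.finrank_fintype_fun_eq_card, Fintype.card_coe, hcard]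

open MvPolynomial in
theorem span_eq_of_mem {R : Type*} [CommRing R] (s t : Set R)
    (h1 : ∀ x ∈ s, x ∈ Ideal.span t) (h2 : ∀ x ∈ t, x ∈ Ideal.span s) :
    Ideal.span s = Ideal.span t :=
  le_antisymm (Ideal.span_le.2 h1) (Ideal.span_le.2 h2)

theorem mem_of_eq {R : Type*} [CommRing R] {I : Ideal R} {x y : R} (h : x = y) (hy : y ∈ I) :
    x ∈ I := h ▸ hy

open MvPolynomial in
/-- Let k be a field of characteristic p (p = 0 allowed) and F = y² − x³ in k[x, y] (x the variable of
index 0, y of index 1). The singular subscheme of the plane curve F = 0, cut out by F and its two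
partial derivatives, is finite over k of degree 4 when p = 2, of degree 3 when p = 3, and of degree
2 otherwise: the k-dimension of k[x, y]/(F, ∂F/∂x, ∂F/∂y) is that number. (The source phrases this
through the complete local ring of a cusp; the row is the computation for the standard cusp y² =
x³.) -/
theorem result (k : Type u) [Field k] (p : ℕ) [CharP k p] :
    Module.finrank k (MvPolynomial (Fin 2) k ⧸ Ideal.span
      ({X 1 ^ 2 - X 0 ^ 3, pderiv 0 (X 1 ^ 2 - X 0 ^ 3), pderiv 1 (X 1 ^ 2 - X 0 ^ 3)} :
        Set (MvPolynomial (Fin 2) k))) = (if p = 2 then 4 else if p = 3 then 3 else 2) := by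
  have hd0 : pderiv 0 (X 1 ^ 2 - X 0 ^ 3 : MvPolynomial (Fin 2) k) = - (3 * X 0 ^ 2) := by simp
  have hd1 : pderiv 1 (X 1 ^ 2 - X 0 ^ 3 : MvPolynomial (Fin 2) k) = 2 * X 1 := by simp
  rw [hd0, hd1]
  have h2k : ((2 : ℕ) : k) = 0 ↔ p ∣ 2 := CharP.cast_eq_zero_iff k p 2
  have h3k : ((3 : ℕ) : k) = 0 ↔ p ∣ 3 := CharP.cast_eq_zero_iff k p 3
  have hp1 : p ≠ 1 := CharP.char_ne_one k p
  have hC2 : (2 : MvPolynomial (Fin 2) k) = C (2 : k) := (map_ofNat (C : k →+* MvPolynomial (Fin 2) k) 2).symm
  have hC3 : (3 : MvPolynomial (Fin 2) k) = C (3 : k) := (map_ofNat (C : k →+* MvPolynomial (Fin 2) k) 3).symm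
  by_cases hp2 : p = 2
  · rw [if_pos hp2]
    have e2 : (2 : k) = 0 := by
      have := h2k.2 (by rw [hp2])
      exact_mod_cast this
    have e3 : (3 : k) = 1 := by
      have : (3 : k) = 2 + 1 := by norm_num
      rw [this, e2, zero_add]
    have hI : Ideal.span ({X 1 ^ 2 - X 0 ^ 3, - (3 * X 0 ^ 2), 2 * X 1} :
        Set (MvPolynomial (Fin 2) k)) = Ideal.span {X 0 ^ 2, X 1 ^ 2} := by
      rw [hC2, hC3, e2, e3]
      simp only [C_0, C_1, zero_mul, one_mul]
      apply span_eq_of_mem
      · intro x hx
        simp only [Set.mem_insert_iff, Set.mem_singleton_iff] at hx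
        rcases hx with rfl | rfl | rfl
        · have h1 : (X 1 ^ 2 - X 0 ^ 3 : MvPolynomial (Fin 2) k) = X 1 ^ 2 - X 0 * X 0 ^ 2 := by ring
          exact mem_of_eq h1 (Ideal.sub_mem _ (Ideal.subset_span (by simp)) (Ideal.mul_mem_left _ _ (Ideal.subset_span (by simp))))
        · exact neg_mem (Ideal.subset_span (by simp))
        · exact Ideal.zero_mem _
      · intro x hx
        simp only [Set.mem_insert_iff, Set.mem_singleton_iff] at hx
        rcases hx with rfl | rfl
        · have h1 : (X 0 ^ 2 : MvPolynomial (Fin 2) k) = - (- X 0 ^ 2) := by ring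
          exact mem_of_eq h1 (neg_mem (Ideal.subset_span (by simp)))
        · have h1 : (X 1 ^ 2 : MvPolynomial (Fin 2) k) =
              (X 1 ^ 2 - X 0 ^ 3) + X 0 * (- (- X 0 ^ 2)) := by ring
          exact mem_of_eq h1 (Ideal.add_mem _ (Ideal.subset_span (by simp)) (Ideal.mul_mem_left _ _ (neg_mem (Ideal.subset_span (by simp)))))
    rw [hI, finrank_quot_monomial]
  · rw [if_neg hp2]
    have e2 : (2 : k) ≠ 0 := by
      intro h
      have h' : p ∣ 2 := h2k.1 (by exact_mod_cast h)
      rcases (Nat.dvd_prime Nat.prime_two).1 h' with h1 | h1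
      · exact hp1 h1
      · exact hp2 h1
    by_cases hp3 : p = 3
    · rw [if_pos hp3]
      have e3 : (3 : k) = 0 := by
        have := h3k.2 (by rw [hp3])
        exact_mod_cast this
      have hI : Ideal.span ({X 1 ^ 2 - X 0 ^ 3, - (3 * X 0 ^ 2), 2 * X 1} :
          Set (MvPolynomial (Fin 2) k)) = Ideal.span {X 0 ^ 3, X 1 ^ 1} := by
        rw [hC2, hC3, e3]
        simp only [C_0, zero_mul, neg_zero, pow_one]
        apply span_eq_of_mem
        · intro x hx
          simp only [Set.mem_insert_iff, Set.mem_singleton_iff] at hx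
          rcases hx with rfl | rfl | rfl
          · have h1 : (X 1 ^ 2 - X 0 ^ 3 : MvPolynomial (Fin 2) k) = X 1 * X 1 - X 0 ^ 3 := by ring
            exact mem_of_eq h1 (Ideal.sub_mem _ (Ideal.mul_mem_left _ _ (Ideal.subset_span (by simp))) (Ideal.subset_span (by simp)))
          · exact Ideal.zero_mem _
          · exact Ideal.mul_mem_left _ _ (Ideal.subset_span (by simp))
        · intro x hx
          simp only [Set.mem_insert_iff, Set.mem_singleton_iff] at hx
          have hX1 : (X 1 : MvPolynomial (Fin 2) k) ∈ Ideal.span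
              ({X 1 ^ 2 - X 0 ^ 3, 0, C 2 * X 1} : Set (MvPolynomial (Fin 2) k)) := by
            have h1 : (X 1 : MvPolynomial (Fin 2) k) = C (2 : k)⁻¹ * (C 2 * X 1) := by
              rw [← mul_assoc, ← C_mul, inv_mul_cancel₀ e2, C_1, one_mul]
            exact mem_of_eq h1 (Ideal.mul_mem_left _ _ (Ideal.subset_span (by simp)))
          rcases hx with rfl | rfl
          · have h1 : (X 0 ^ 3 : MvPolynomial (Fin 2) k) =
                X 1 * X 1 - (X 1 ^ 2 - X 0 ^ 3) := by ring
            exact mem_of_eq h1 (Ideal.sub_mem _ (Ideal.mul_mem_left _ _ hX1) (Ideal.subset_span (by simp)))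
          · exact hX1
      rw [hI, finrank_quot_monomial]
    · rw [if_neg hp3]
      have e3 : (3 : k) ≠ 0 := by
        intro h
        have h' : p ∣ 3 := h3k.1 (by exact_mod_cast h)
        rcases (Nat.dvd_prime Nat.prime_three).1 h' with h1 | h1
        · exact hp1 h1
        · exact hp3 h1
      have hI : Ideal.span ({X 1 ^ 2 - X 0 ^ 3, - (3 * X 0 ^ 2), 2 * X 1} :
          Set (MvPolynomial (Fin 2) k)) = Ideal.span {X 0 ^ 2, X 1 ^ 1} := by
        rw [hC2, hC3]
        simp only [pow_one]
        apply span_eq_of_mem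
        · intro x hx
          simp only [Set.mem_insert_iff, Set.mem_singleton_iff] at hx
          rcases hx with rfl | rfl | rfl
          · have h1 : (X 1 ^ 2 - X 0 ^ 3 : MvPolynomial (Fin 2) k) =
                X 1 * X 1 - X 0 * X 0 ^ 2 := by ring
            exact mem_of_eq h1 (Ideal.sub_mem _ (Ideal.mul_mem_left _ _ (Ideal.subset_span (by simp))) (Ideal.mul_mem_left _ _ (Ideal.subset_span (by simp))))
          · exact neg_mem (Ideal.mul_mem_left _ _ (Ideal.subset_span (by simp)))
          · exact Ideal.mul_mem_left _ _ (Ideal.subset_span (by simp))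
        · intro x hx
          simp only [Set.mem_insert_iff, Set.mem_singleton_iff] at hx
          rcases hx with rfl | rfl
          · have h1 : (X 0 ^ 2 : MvPolynomial (Fin 2) k) =
                C (-(3 : k)⁻¹) * (- (C 3 * X 0 ^ 2)) := by
              rw [C_neg, neg_mul_neg, ← mul_assoc, ← C_mul, inv_mul_cancel₀ e3, C_1, one_mul]
            exact mem_of_eq h1 (Ideal.mul_mem_left _ _ (Ideal.subset_span (by simp)))
          · have h1 : (X 1 : MvPolynomial (Fin 2) k) = C (2 : k)⁻¹ * (C 2 * X 1) := by
              rw [← mul_assoc, ← C_mul, inv_mul_cancel₀ e2, C_1, one_mul]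
            exact mem_of_eq h1 (Ideal.mul_mem_left _ _ (Ideal.subset_span (by simp)))
      rw [hI, finrank_quot_monomial]

end Groth.Agent.S19176
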