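import Groth.Statements.S19177
import Mathlib

set_option autoImplicit false
universe u
open CAlg

namespace Groth.Agent.S19177

/-- A finite projective algebra of everywhere positive rank admits a linear retraction of the
structure map. -/
theorem exists_retraction (A B : Type u) [CommRing A] [CommRing B] [Algebra A B]
    [Module.Finite A B] [Module.Projective A B]
    (hpos : ∀ p : PrimeSpectrum A, 0 < Module.rankAtStalk (R := A) B p) :
    ∃ ρ : B →ₗ[A] A, ρ 1 = 1 := by
  haveI : Module.FaithfullyFlat A B := Module.FaithfullyFlat.of_comap_surjective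
    ((PrimeSpectrum.rankAtStalk_pos_iff_comap_surjective).mp hpos)
  obtain ⟨s, hs⟩ := (Module.projective_def' (R := A) (P := B)).mp inferInstance
  have h1 : (s 1).sum (fun b a => a • b) = 1 := by
    have := LinearMap.congr_fun hs 1
    simpa [Finsupp.linearCombination_apply] using this
  let ev1 : (B →ₗ[A] A) →ₗ[A] A := LinearMap.applyₗ (1 : B)
  have hJ : (LinearMap.range ev1 : Ideal A) = ⊤ := by
    by_contra hne
    obtain ⟨m, hm, hJm⟩ := Ideal.exists_le_maximal _ hne
    have hmem : (1 : B) ∈ m • (⊤ : Submodule A B) := by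
      rw [← h1, Finsupp.sum]
      refine Submodule.sum_mem _ (fun b _ => ?_)
      exact Submodule.smul_mem_smul (hJm ⟨(Finsupp.lapply b).comp s, by simp [ev1]⟩) trivial
    have htop : m • (⊤ : Submodule A B) = ⊤ := by
      rw [Ideal.smul_top_eq_map] at hmem ⊢
      refine (Submodule.restrictScalars_eq_top_iff _ _ _).mpr ?_
      exact (Ideal.eq_top_iff_one _).mpr hmem
    exact Module.FaithfullyFlat.submodule_ne_top (M := B) hm htop
  have h1mem : (1 : A) ∈ (LinearMap.range ev1 : Ideal A) := by rw [hJ]; trivial
  obtain ⟨ρ, hρ⟩ := h1mem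
  exact ⟨ρ, hρ⟩

theorem result
    (S R : Type u) [CommRing S] [CommRing R] [Algebra S R] [Module.Finite S R] [Module.Projective S R]
    (h2 : ∀ p : PrimeSpectrum S, Module.rankAtStalk (R := S) R p = 2) :
    Module.Projective S (R ⧸ LinearMap.range (Algebra.linearMap S R)) ∧
      ∀ p : PrimeSpectrum S,
        Module.rankAtStalk (R := S) (R ⧸ LinearMap.range (Algebra.linearMap S R)) p = 1 := by
  obtain ⟨ρ, hρ⟩ := exists_retraction S R (fun p => by rw [h2 p]; norm_num)
  have hρι : ∀ s, ρ (Algebra.linearMap S R s) = s := fun s => by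
    rw [Algebra.linearMap_apply, Algebra.algebraMap_eq_smul_one, map_smul, hρ, smul_eq_mul,
      mul_one]
  let g : R →ₗ[S] R := LinearMap.id - (Algebra.linearMap S R).comp ρ
  have hgx : ∀ x, g x = x - Algebra.linearMap S R (ρ x) := fun x => rfl
  have hg : LinearMap.range (Algebra.linearMap S R) ≤ LinearMap.ker g := by
    rintro _ ⟨s, rfl⟩
    rw [LinearMap.mem_ker, hgx, hρι, sub_self]
  let i : (R ⧸ LinearMap.range (Algebra.linearMap S R)) →ₗ[S] R :=
    (LinearMap.range (Algebra.linearMap S R)).liftQ g hg
  have hi : ∀ x : R, i (Submodule.Quotient.mk x) = x - Algebra.linearMap S R (ρ x) := fun x => rfl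
  have hmk0 : ∀ s : S, (Submodule.Quotient.mk (Algebra.linearMap S R s) :
      R ⧸ LinearMap.range (Algebra.linearMap S R)) = 0 := fun s =>
    (Submodule.Quotient.mk_eq_zero _).mpr ⟨s, rfl⟩
  have hsplit : (LinearMap.range (Algebra.linearMap S R)).mkQ.comp i = LinearMap.id := by
    apply Submodule.linearMap_qext
    ext x
    simp only [LinearMap.comp_apply, Submodule.mkQ_apply, LinearMap.id_apply]
    rw [hi, Submodule.Quotient.mk_sub, hmk0, sub_zero]
  have hproj : Module.Projective S (R ⧸ LinearMap.range (Algebra.linearMap S R)) :=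
    Module.Projective.of_split i (LinearMap.range (Algebra.linearMap S R)).mkQ hsplit
  refine ⟨hproj, ?_⟩
  intro p
  haveI : Nontrivial S := by
    by_contra hnt
    rw [not_nontrivial_iff_subsingleton] at hnt
    exact p.2.ne_top (Subsingleton.elim _ _)
  have hρi : ∀ q, ρ (i q) = 0 := by
    intro q
    induction q using Submodule.Quotient.induction_on with
    | H x => rw [hi, map_sub, hρι, sub_self]
  let e : R ≃ₗ[S] S × (R ⧸ LinearMap.range (Algebra.linearMap S R)) :=
    LinearEquiv.ofLinear (ρ.prod (LinearMap.range (Algebra.linearMap S R)).mkQ)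
      ((Algebra.linearMap S R).coprod i)
      (by
        apply LinearMap.ext
        rintro ⟨s, q⟩
        show (ρ (Algebra.linearMap S R s + i q),
          (LinearMap.range (Algebra.linearMap S R)).mkQ (Algebra.linearMap S R s + i q)) = (s, q)
        rw [map_add, map_add, hρι, hρi, add_zero, Submodule.mkQ_apply, hmk0, zero_add]
        exact Prod.ext rfl (LinearMap.congr_fun hsplit q))
      (by
        apply LinearMap.ext
        intro x
        show Algebra.linearMap S R (ρ x) +
          i ((LinearMap.range (Algebra.linearMap S R)).mkQ x) = x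
        rw [Submodule.mkQ_apply, hi]
        abel)
  have hrank := Module.rankAtStalk_eq_of_equiv e
  rw [Module.rankAtStalk_prod, Module.rankAtStalk_self] at hrank
  have := congrFun hrank p
  rw [h2 p] at this
  simp only [Pi.add_apply, Pi.one_apply] at this
  omega

end Groth.Agent.S19177
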