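import Groth.Statements.S19178
import Mathlib

set_option autoImplicit false
universe u
open Curves

namespace Groth.Agent.S19178

/-- For every field k and every choice of coefficients a₁, a₂, a₃, a₄, a₆ in k, the homogeneous
Weierstrass cubic Y²Z + a₁XYZ + a₃YZ² − (X³ + a₂X²Z + a₄XZ² + a₆Z³) is an irreducible polynomial in
k[X, Y, Z]. Applied to all fields, this says every fibre of the Weierstrass family over the affine
space of coefficients is geometrically integral. -/
theorem result (k : Type u) [Field k]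
    (W : WeierstrassCurve k) :
    Irreducible (WeierstrassCurve.Projective.polynomial W) := by
  classical
  obtain ⟨Y', hY'⟩ : ∃ Y' : MvPolynomial (Fin 2) k, Y' = MvPolynomial.X 0 := ⟨_, rfl⟩
  obtain ⟨Z', hZ'⟩ : ∃ Z' : MvPolynomial (Fin 2) k, Z' = MvPolynomial.X 1 := ⟨_, rfl⟩
  obtain ⟨b, hb⟩ : ∃ b : MvPolynomial (Fin 2) k, b = MvPolynomial.C W.a₂ * Z' := ⟨_, rfl⟩
  obtain ⟨c, hc⟩ : ∃ c : MvPolynomial (Fin 2) k,
      c = MvPolynomial.C W.a₄ * Z' ^ 2 - MvPolynomial.C W.a₁ * Y' * Z' := ⟨_, rfl⟩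
  obtain ⟨d, hd⟩ : ∃ d : MvPolynomial (Fin 2) k,
      d = MvPolynomial.C W.a₆ * Z' ^ 3 - Y' ^ 2 * Z' - MvPolynomial.C W.a₃ * Y' * Z' ^ 2 := ⟨_, rfl⟩
  have hΦ : MvPolynomial.finSuccEquiv k 2 (WeierstrassCurve.Projective.polynomial W) =
      - (Cubic.toPoly ⟨1, b, c, d⟩) := by
    have h1 : (1 : Fin 3) = (0 : Fin 2).succ := rfl
    have h2 : (2 : Fin 3) = (1 : Fin 2).succ := rfl
    have hC : ∀ a : k, MvPolynomial.finSuccEquiv k 2 (MvPolynomial.C a) =
        Polynomial.C (MvPolynomial.C a) := by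
      intro a
      rw [← MvPolynomial.algebraMap_eq, AlgEquiv.commutes, Polynomial.algebraMap_apply,
        MvPolynomial.algebraMap_eq]
    rw [WeierstrassCurve.Projective.polynomial, Cubic.toPoly]
    simp only [map_sub, map_add, map_mul, map_pow, hC, h1, h2, MvPolynomial.finSuccEquiv_X_zero,
      MvPolynomial.finSuccEquiv_X_succ, hb, hc, hd, hY', hZ', map_one]
    ring
  have hmonic : (Cubic.toPoly ⟨1, b, c, d⟩ : Polynomial (MvPolynomial (Fin 2) k)).Monic :=
    Cubic.monic_of_a_eq_one'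
  have hdeg : (Cubic.toPoly ⟨1, b, c, d⟩ : Polynomial (MvPolynomial (Fin 2) k)).natDegree = 3 :=
    Cubic.natDegree_of_a_ne_zero' one_ne_zero
  have hirr : Irreducible (Cubic.toPoly ⟨1, b, c, d⟩ : Polynomial (MvPolynomial (Fin 2) k)) := by
    rw [hmonic.irreducible_iff_roots_eq_zero_of_degree_le_three (by rw [hdeg]; norm_num)
      (by rw [hdeg])]
    apply Multiset.eq_zero_of_forall_notMem
    intro g hg
    rw [Polynomial.mem_roots hmonic.ne_zero, Polynomial.IsRoot, Cubic.toPoly] at hg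
    simp only [Polynomial.eval_add, Polynomial.eval_mul, Polynomial.eval_pow, Polynomial.eval_C,
      Polynomial.eval_X] at hg
    obtain ⟨ρ, hρ⟩ : ∃ ρ : MvPolynomial (Fin 2) k →ₐ[k] Polynomial k,
        ρ = MvPolynomial.aeval ![1, Polynomial.X] := ⟨_, rfl⟩
    have hρY : ρ Y' = 1 := by rw [hρ, hY', MvPolynomial.aeval_X]; rfl
    have hρZ : ρ Z' = Polynomial.X := by rw [hρ, hZ', MvPolynomial.aeval_X]; rfl
    have hρC : ∀ a : k, ρ (MvPolynomial.C a) = Polynomial.C a := by
      intro a; rw [hρ, MvPolynomial.aeval_C]; rfl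
    have h := congrArg ρ hg
    rw [hb, hc, hd] at h
    simp only [map_add, map_mul, map_pow, map_sub, map_one, map_zero, hρY, hρZ, hρC] at h
    obtain ⟨γ, hγ⟩ : ∃ γ : Polynomial k, γ = ρ g := ⟨_, rfl⟩
    rw [← hγ] at h
    have h0 : γ.coeff 0 = 0 := by
      have := congrArg (Polynomial.eval 0) h
      simp at this
      rwa [Polynomial.coeff_zero_eq_eval_zero]
    obtain ⟨η, hη⟩ := Polynomial.X_dvd_iff.mpr h0
    rw [hη] at h
    have h' : (Polynomial.X : Polynomial k) * (Polynomial.X * (Polynomial.X * η ^ 3 +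
        Polynomial.C W.a₂ * Polynomial.X * η ^ 2 +
        (Polynomial.C W.a₄ * Polynomial.X - Polynomial.C W.a₁) * η +
        Polynomial.C W.a₆ * Polynomial.X - Polynomial.C W.a₃) - 1) = 0 := by
      linear_combination h
    rcases mul_eq_zero.mp h' with hX | hQ
    · exact Polynomial.X_ne_zero hX
    · have := congrArg (Polynomial.eval 0) hQ
      simp at this
  have hfin : Irreducible (MvPolynomial.finSuccEquiv k 2
      (WeierstrassCurve.Projective.polynomial W)) := by
    rw [hΦ]; exact ((Associated.refl _).neg_left.irreducible_iff).mpr hirr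
  exact (MulEquiv.irreducible_iff (MvPolynomial.finSuccEquiv k 2)).mp hfin

end Groth.Agent.S19178
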