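import Groth.Statements.S19180
import Groth.Agent.H82.ProjCoh
import Groth.Agent.H22.SerreH1
import Groth.Agent.H8.UnitHom

set_option autoImplicit false
universe u
open Coherent

namespace Groth.Agent.S19180

open CategoryTheory AlgebraicGeometry in
/-- Let R be a local ring and m ≥ 1, and consider the projective line P¹_R with its structure sheaf O
and twisting sheaf O(m). For every O-module F and every short exact sequence 0 → O(m) → F → O → 0 of
O-modules, the surjection F → O admits a section; consequently F is isomorphic to O(m) ⊕ O. -/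
theorem result (R : Type u) [CommRing R] [IsLocalRing R]
    (m : ℕ) (hm : 1 ≤ m) (F : (CohB1.ProjSpace 1 R).Modules)
    (i : Twist.twistProjSpace 1 R (m : ℤ) ⟶ F) (p : F ⟶ Coh.structureModule (CohB1.ProjSpace 1 R))
    (w : i ≫ p = 0) (hex : (ShortComplex.mk i p w).ShortExact) :
    ∃ s : Coh.structureModule (CohB1.ProjSpace 1 R) ⟶ F, s ≫ p = 𝟙 _ := by
  have h1 : Subsingleton (Coh.HH (CohB1.ProjSpace 1 R) (Twist.twistProjSpace 1 R (m : ℤ)) 1) :=
    Groth.Agent.H82.ProjCoh.subsingleton_HH 1 R (m : ℤ) 1 (fun h => absurd h.1 one_ne_zero)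
      (fun h => by
        have h2 := h.2
        push_cast at h2
        omega)
  have hsurj := Groth.Agent.H22.SerreH1.app_top_surjective_of_H1 (ShortComplex.mk i p w) hex h1
  obtain ⟨σ, hσ⟩ := hsurj (show Γ(Coh.structureModule (CohB1.ProjSpace 1 R), ⊤) from
    (1 : Γ(CohB1.ProjSpace 1 R, ⊤)))
  obtain ⟨s, hs⟩ := (Groth.Agent.H8.unit_hom_ev_bijective (CohB1.ProjSpace 1 R) F).2 σ
  refine ⟨s, ?_⟩
  apply (Groth.Agent.H8.unit_hom_ev_bijective (CohB1.ProjSpace 1 R) _).1
  show p.app ⊤ (s.app ⊤ _) = _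
  have hs' : s.app ⊤ (show Γ(Coh.structureModule (CohB1.ProjSpace 1 R), ⊤) from
    (1 : Γ(CohB1.ProjSpace 1 R, ⊤))) = σ := hs
  rw [hs']
  exact hσ

end Groth.Agent.S19180
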