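import Groth.Statements.S19181
import Mathlib.Tactic.LinearCombination
import Mathlib.Tactic.Ring
import Mathlib.Tactic.FinCases
import Mathlib.Algebra.Polynomial.AlgebraMap
import Mathlib.Algebra.Polynomial.Degree.TrailingDegree
import Mathlib.Algebra.Polynomial.Monic
import Mathlib.Algebra.Polynomial.Degree.SmallDegree
import Mathlib.Algebra.MvPolynomial.Division

set_option autoImplicit false
universe u
open CAlg

namespace Groth.Agent.S19181

section helpers

variable {R : Type u} [CommRing R]

theorem regular_of_coeff_zero_eq_one (p w : Polynomial R) (hp : p.coeff 0 = 1) (h : p * w = 0) :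
    w = 0 := by
  rcases subsingleton_or_nontrivial R with hR | hR
  · exact Subsingleton.elim _ _
  · have h1 : p.natTrailingDegree = 0 :=
      Polynomial.natTrailingDegree_eq_zero.2 (Or.inr (by rw [hp]; exact one_ne_zero))
    have h2 : p.trailingCoeff = 1 := by rw [Polynomial.trailingCoeff, h1, hp]
    have h3 := Polynomial.coeff_mul_natTrailingDegree_add_natTrailingDegree (p := p) (q := w)
    rw [h, Polynomial.coeff_zero, h2, one_mul] at h3
    exact Polynomial.trailingCoeff_eq_zero.1 h3.symm

/-- Setting `X 0 = 0`. -/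
noncomputable def phi : MvPolynomial (Fin 2) R →ₐ[R] Polynomial R :=
  MvPolynomial.aeval (![0, Polynomial.X] : Fin 2 → Polynomial R)

/-- The section `X ↦ X 1`. -/
noncomputable def iota : Polynomial R →ₐ[R] MvPolynomial (Fin 2) R :=
  Polynomial.aeval (MvPolynomial.X 1 : MvPolynomial (Fin 2) R)

theorem X0_dvd_sub (v : MvPolynomial (Fin 2) R) :
    (MvPolynomial.X 0 : MvPolynomial (Fin 2) R) ∣ v - iota (phi v) := by
  induction v using MvPolynomial.induction_on with
  | C a => simp [phi, iota]
  | add p q hp hq =>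
    have : p + q - iota (phi (p + q)) = (p - iota (phi p)) + (q - iota (phi q)) := by
      rw [map_add, map_add]; ring
    rw [this]
    exact dvd_add hp hq
  | mul_X p i hp =>
    fin_cases i
    · have : phi (p * MvPolynomial.X (0 : Fin 2)) = (0 : Polynomial R) := by
        simp [phi]
      simp only [Fin.zero_eta]
      rw [this, map_zero, sub_zero]
      exact Dvd.intro_left p rfl
    · have : iota (phi (p * MvPolynomial.X (1 : Fin 2))) =
          iota (phi p) * (MvPolynomial.X 1 : MvPolynomial (Fin 2) R) := by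
        simp [phi, iota]
      simp only [Fin.mk_one]
      rw [this, ← sub_mul]
      exact dvd_mul_of_dvd_left hp _

theorem saturation (g : MvPolynomial (Fin 2) R)
    (hreg : ∀ w : Polynomial R, phi g * w = 0 → w = 0) (s : MvPolynomial (Fin 2) R) :
    (∃ n : ℕ, MvPolynomial.X 0 ^ n * s ∈ Ideal.span ({MvPolynomial.X 0 ^ 2 * g} :
        Set (MvPolynomial (Fin 2) R))) ↔
      s ∈ Ideal.span ({g} : Set (MvPolynomial (Fin 2) R)) := by
  have key : ∀ u : MvPolynomial (Fin 2) R, g ∣ MvPolynomial.X 0 * u → g ∣ u := by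
    rintro u ⟨v, hv⟩
    have h1 : phi g * phi v = 0 := by
      rw [← map_mul, ← hv, map_mul]
      simp [phi]
    have h2 : phi v = 0 := hreg _ h1
    have h3 := X0_dvd_sub v
    rw [h2, map_zero, sub_zero] at h3
    obtain ⟨v', rfl⟩ := h3
    refine ⟨v', ?_⟩
    have h4 : (MvPolynomial.X 0 : MvPolynomial (Fin 2) R) * u = MvPolynomial.X 0 * (g * v') := by
      rw [hv]; ring
    exact MvPolynomial.X_mul_cancel_left_iff.1 h4
  have key2 : ∀ (n : ℕ) (u : MvPolynomial (Fin 2) R), g ∣ MvPolynomial.X 0 ^ n * u → g ∣ u := by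
    intro n
    induction n with
    | zero => intro u hu; simpa using hu
    | succ n ih =>
      intro u hu
      apply ih
      apply key
      rw [← mul_assoc, ← pow_succ']
      exact hu
  constructor
  · rintro ⟨n, hn⟩
    rw [Ideal.mem_span_singleton] at hn ⊢
    exact key2 n s (dvd_trans (Dvd.intro_left _ rfl) hn)
  · intro hs
    rw [Ideal.mem_span_singleton] at hs
    obtain ⟨t, rfl⟩ := hs
    refine ⟨2, ?_⟩
    rw [Ideal.mem_span_singleton]
    exact ⟨t, by ring⟩

end helpers

open MvPolynomial in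
/-- Let R be a commutative ring, a₁, a₂ ∈ R, and C ⊂ A²_R the curve y² + a₁xy = x³ + a₂x², blown up at
the section x = y = 0. In the chart where x = yα (variables y = X 0, α = X 1) the equation of C
becomes y²·g₁ with g₁ = 1 + a₁α − yα³ − a₂α², and the y-saturation of the ideal (y²g₁) is (g₁): for
s ∈ R[y, α], some yⁿs lies in (y²g₁) if and only if s ∈ (g₁). In the chart where y = xβ (variables x
= X 0, β = X 1) the equation becomes x²·g₂ with g₂ = β² + a₁β − x − a₂, and some xⁿs lies in (x²g₂)
if and only if s ∈ (g₂). In other words the strict transform of C is cut out by g₁, resp. g₂, in the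
two charts. -/
theorem result (R : Type u) [CommRing R] (a₁ a₂ : R) :
    (∀ s : MvPolynomial (Fin 2) R,
      (∃ n : ℕ, X 0 ^ n * s ∈ Ideal.span ({X 0 ^ 2 * (1 + C a₁ * X 1 - X 0 * X 1 ^ 3 - C a₂ * X 1 ^ 2)} :
        Set (MvPolynomial (Fin 2) R))) ↔
      s ∈ Ideal.span ({1 + C a₁ * X 1 - X 0 * X 1 ^ 3 - C a₂ * X 1 ^ 2} : Set (MvPolynomial (Fin 2) R))) ∧
    (∀ s : MvPolynomial (Fin 2) R,
      (∃ n : ℕ, X 0 ^ n * s ∈ Ideal.span ({X 0 ^ 2 * (X 1 ^ 2 + C a₁ * X 1 - X 0 - C a₂)} :
        Set (MvPolynomial (Fin 2) R))) ↔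
      s ∈ Ideal.span ({X 1 ^ 2 + C a₁ * X 1 - X 0 - C a₂} : Set (MvPolynomial (Fin 2) R))) := by
  constructor
  · intro s
    apply saturation
    intro w hw
    refine regular_of_coeff_zero_eq_one _ w ?_ hw
    simp [phi]
  · intro s
    apply saturation
    intro w hw
    have h1 : phi (X 1 ^ 2 + C a₁ * X 1 - X 0 - C a₂ : MvPolynomial (Fin 2) R) =
        Polynomial.X ^ 2 + (Polynomial.C a₁ * Polynomial.X + Polynomial.C (-a₂)) := by
      simp [phi]
      ring
    have h2 : (phi (X 1 ^ 2 + C a₁ * X 1 - X 0 - C a₂ : MvPolynomial (Fin 2) R)).Monic := by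
      rw [h1]
      exact Polynomial.monic_X_pow_add
        (lt_of_le_of_lt Polynomial.degree_linear_le (by norm_num))
    exact h2.mul_right_eq_zero_iff.1 hw

end Groth.Agent.S19181
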