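import Groth.Statements.S19182
import Groth.Agent.H10.Kummer

set_option autoImplicit false
universe u
open CAlg

namespace Groth.Agent.S19182

open MvPolynomial in
/-- Let R be a commutative ring and a₁, a₂ ∈ R. The two affine charts of the blow-up of the plane curve
y² + a₁xy = x³ + a₂x² at the section x = y = 0, with coordinate rings R[y, α]/(1 + a₁α − yα³ − a₂α²)
and R[x, β]/(β² + a₁β − x − a₂) (variables indexed 0 and 1 in this order), are smooth R-algebras
(formally smooth of finite presentation). This is the local computation behind the statement that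
the blow-up of a Weierstrass curve along a section through its singular locus is a smooth proper
curve of genus 0. -/
theorem result (R : Type u) [CommRing R] (a₁ a₂ : R) :
    Algebra.Smooth R (MvPolynomial (Fin 2) R ⧸
      Ideal.span ({1 + C a₁ * X 1 - X 0 * X 1 ^ 3 - C a₂ * X 1 ^ 2} : Set (MvPolynomial (Fin 2) R))) ∧
    Algebra.Smooth R (MvPolynomial (Fin 2) R ⧸
      Ideal.span ({X 1 ^ 2 + C a₁ * X 1 - X 0 - C a₂} : Set (MvPolynomial (Fin 2) R))) := by
  have hne : (1 : Fin 2) ≠ 0 := by decide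
  constructor
  · -- first chart
    let c : MvPolynomial (Fin 2) R := C a₁ - C a₂ * X 1
    let w : MvPolynomial (Fin 2) R := 1 - X 1 * c + X 1 ^ 2 * c ^ 2
    have hfs : Algebra.FormallySmooth R (MvPolynomial (Fin 2) R ⧸
        Ideal.span ({1 + C a₁ * X 1 - X 0 * X 1 ^ 3 - C a₂ * X 1 ^ 2} :
          Set (MvPolynomial (Fin 2) R))) := by
      refine Groth.Agent.H10.Kummer.formallySmooth_quotient_span_singleton (R := R)
        (1 + C a₁ * X 1 - X 0 * X 1 ^ 3 - C a₂ * X 1 ^ 2 : MvPolynomial (Fin 2) R)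
        ((-(X 0 * w - c ^ 3)) • (pderiv (0 : Fin 2) : Derivation R _ _)) ?_
      have hd : pderiv (0 : Fin 2) (1 + C a₁ * X 1 - X 0 * X 1 ^ 3 - C a₂ * X 1 ^ 2 :
          MvPolynomial (Fin 2) R) = - X 1 ^ 3 := by
        simp [pderiv_X_of_ne hne]
      rw [Derivation.smul_apply, hd, smul_eq_mul]
      refine Ideal.mem_span_singleton'.mpr ⟨-w, ?_⟩
      simp only [w, c]
      ring
    exact ⟨hfs, Algebra.FinitePresentation.quotient ⟨{1 + C a₁ * X 1 - X 0 * X 1 ^ 3 - C a₂ * X 1 ^ 2}, by simp⟩⟩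
  · have hfs : Algebra.FormallySmooth R (MvPolynomial (Fin 2) R ⧸
        Ideal.span ({X 1 ^ 2 + C a₁ * X 1 - X 0 - C a₂} : Set (MvPolynomial (Fin 2) R))) := by
      refine Groth.Agent.H10.Kummer.formallySmooth_quotient_span_singleton (R := R)
        (X 1 ^ 2 + C a₁ * X 1 - X 0 - C a₂ : MvPolynomial (Fin 2) R)
        (-(pderiv (0 : Fin 2) : Derivation R _ _)) ?_
      have hd : pderiv (0 : Fin 2) (X 1 ^ 2 + C a₁ * X 1 - X 0 - C a₂ :
          MvPolynomial (Fin 2) R) = -1 := by
        simp [pderiv_X_of_ne hne]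
      rw [Derivation.neg_apply, hd, neg_neg, sub_self]
      exact Ideal.zero_mem _
    exact ⟨hfs, Algebra.FinitePresentation.quotient ⟨{X 1 ^ 2 + C a₁ * X 1 - X 0 - C a₂}, by simp⟩⟩

end Groth.Agent.S19182
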