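import Groth.Statements.S19183
import Mathlib.LinearAlgebra.Dimension.Constructions
import Mathlib.LinearAlgebra.Dimension.Free
import Mathlib.LinearAlgebra.FreeModule.StrongRankCondition

set_option autoImplicit false
universe u
open CAlg

namespace Groth.Agent.S19183

/-- Let A be a non-zero commutative ring and f ∈ A a non-zero-divisor. The fibre product A ×_{A/(f)} A
of two copies of A over A/(f) — the A-submodule of A × A of pairs (x, y) with x − y ∈ (f), which is
the coordinate ring of two copies of Spec A glued along the Cartier divisor f = 0 — is a free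
A-module of rank 2. (This is what makes the gluing of two copies of a curve along an effective
Cartier divisor finite locally free of degree 2 over the curve.) -/
theorem result (A : Type u) [CommRing A] [Nontrivial A]
    (f : A) (hf : f ∈ nonZeroDivisors A) :
    Module.Free A (Submodule.comap (LinearMap.fst A A A - LinearMap.snd A A A) (Ideal.span ({f} : Set A))) ∧
      Module.finrank A (Submodule.comap (LinearMap.fst A A A - LinearMap.snd A A A) (Ideal.span ({f} : Set A))) = 2 := by
  set N := Submodule.comap (LinearMap.fst A A A - LinearMap.snd A A A) (Ideal.span ({f} : Set A))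
    with hN
  let g : A × A →ₗ[A] A × A :=
    { toFun := fun x => (x.1 + f * x.2, x.1)
      map_add' := by intro x y; ext <;> simp <;> ring
      map_smul' := by intro r x; ext <;> simp <;> ring }
  have hgdef : ∀ x, g x = (x.1 + f * x.2, x.1) := fun x => rfl
  have hmem : ∀ x : A × A, x ∈ N ↔ ∃ c, c * f = x.1 - x.2 := by
    intro x
    simp only [hN, Submodule.mem_comap, LinearMap.sub_apply, LinearMap.fst_apply,
      LinearMap.snd_apply]
    rw [Ideal.mem_span_singleton']
  have hg : ∀ x, g x ∈ N := by
    intro x
    rw [hmem, hgdef]
    exact ⟨x.2, by ring⟩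
  let g' : A × A →ₗ[A] N := LinearMap.codRestrict N g hg
  have hbij : Function.Bijective g' := by
    constructor
    · rw [← LinearMap.ker_eq_bot, LinearMap.ker_codRestrict, LinearMap.ker_eq_bot']
      rintro ⟨a, b⟩ h
      rw [hgdef] at h
      simp only [Prod.mk_eq_zero] at h
      obtain ⟨h1, h2⟩ := h
      subst h2
      rw [zero_add, mul_comm] at h1
      have hb : b = 0 := (mem_nonZeroDivisors_iff_right.mp hf) b h1
      rw [hb]; rfl
    · rintro ⟨⟨x, y⟩, hxy⟩
      obtain ⟨c, hc⟩ := (hmem _).mp hxy
      refine ⟨(y, c), ?_⟩
      apply Subtype.ext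
      show g (y, c) = (x, y)
      rw [hgdef]
      simp only [Prod.mk.injEq, and_true]
      simp only at hc
      rw [mul_comm, hc]; ring
  let e : (A × A) ≃ₗ[A] N := LinearEquiv.ofBijective g' hbij
  refine ⟨Module.Free.of_equiv e, ?_⟩
  rw [← LinearEquiv.finrank_eq e, Module.finrank_prod, Module.finrank_self]

end Groth.Agent.S19183
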