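import Groth.Statements.S19184
import Mathlib.Tactic.LinearCombination
import Mathlib.Tactic.Ring
import Mathlib.LinearAlgebra.Basis.Prod
import Mathlib.LinearAlgebra.Finsupp.VectorSpace

set_option autoImplicit false
universe u
open CAlg

namespace Groth.Agent.S19184

open Polynomial in
theorem f_monic (S : Type u) [CommRing S] (a b : S) : (X ^ 2 + C a * X + C b : S[X]).Monic := by
  rw [add_assoc]
  exact monic_X_pow_add (lt_of_le_of_lt degree_linear_le (by norm_num))

open Polynomial in
theorem f_degree (S : Type u) [CommRing S] [Nontrivial S] (a b : S) :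
    (X ^ 2 + C a * X + C b : S[X]).degree = 2 := by
  rw [add_assoc, degree_add_eq_left_of_degree_lt]
  · simp
  · rw [degree_X_pow]
    exact lt_of_le_of_lt degree_linear_le (by norm_num)

open Polynomial in
theorem mem_B_iff (S : Type u) [CommRing S] (a b : S) (p : S[X]) :
    p ∈ ((⊥ : Subalgebra S (S[X] ⧸ Ideal.span ({X ^ 2 + C a * X + C b} : Set S[X]))).comap
        (Ideal.Quotient.mkₐ S (Ideal.span ({X ^ 2 + C a * X + C b} : Set S[X])))) ↔
      ∃ (c : S) (q : S[X]), p = C c + (X ^ 2 + C a * X + C b) * q := by
  rw [Subalgebra.mem_comap, Algebra.mem_bot]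
  constructor
  · rintro ⟨c, hc⟩
    have h1 : Ideal.Quotient.mk (Ideal.span ({X ^ 2 + C a * X + C b} : Set S[X])) (C c) =
        Ideal.Quotient.mk _ p := hc
    rw [Ideal.Quotient.eq, Ideal.mem_span_singleton] at h1
    obtain ⟨q, hq⟩ := h1
    refine ⟨c, -q, ?_⟩
    linear_combination (-1 : S[X]) * hq
  · rintro ⟨c, q, rfl⟩
    refine ⟨c, ?_⟩
    show Ideal.Quotient.mk (Ideal.span ({X ^ 2 + C a * X + C b} : Set S[X])) (C c) =
        Ideal.Quotient.mk _ _
    rw [Ideal.Quotient.eq, Ideal.mem_span_singleton]
    exact ⟨-q, by ring⟩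

open Polynomial in
/-- Let S be a commutative ring, a, b ∈ S, f = x² + ax + b ∈ S[x] and R = S[x]/(f), a free S-algebra of
rank 2. Let A ⊂ S[x] be the S-subalgebra of polynomials whose class in R lies in the image of S → R;
it is the fibre product S[x] ×_R S, the coordinate ring of the affine line over S with the degree-2
subscheme Spec R collapsed onto Spec S. Then A is a free S-module and S[x] is a finitely generated
A-module. -/
theorem result (S : Type u) [CommRing S] (a b : S) :
    Module.Free S ((⊥ : Subalgebra S (S[X] ⧸ Ideal.span ({X ^ 2 + C a * X + C b} : Set S[X]))).comap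
        (Ideal.Quotient.mkₐ S (Ideal.span ({X ^ 2 + C a * X + C b} : Set S[X])))) ∧
      Module.Finite ((⊥ : Subalgebra S (S[X] ⧸ Ideal.span ({X ^ 2 + C a * X + C b} : Set S[X]))).comap
        (Ideal.Quotient.mkₐ S (Ideal.span ({X ^ 2 + C a * X + C b} : Set S[X])))) S[X] := by
  classical
  set f : S[X] := X ^ 2 + C a * X + C b with hf_def
  have hf : f.Monic := f_monic S a b
  set B := ((⊥ : Subalgebra S (S[X] ⧸ Ideal.span ({f} : Set S[X]))).comap
        (Ideal.Quotient.mkₐ S (Ideal.span ({f} : Set S[X])))) with hB_def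
  have hmem : ∀ p : S[X], p ∈ B ↔ ∃ (c : S) (q : S[X]), p = C c + f * q := mem_B_iff S a b
  constructor
  · -- freeness
    let L : (S × S[X]) →ₗ[S] S[X] := (Algebra.linearMap S S[X]).coprod (LinearMap.mulLeft S f)
    have hL : ∀ c q, L (c, q) = C c + f * q := by
      intro c q
      simp [L, LinearMap.coprod_apply]
    have hinj : Function.Injective L := by
      rw [← LinearMap.ker_eq_bot, LinearMap.ker_eq_bot']
      rintro ⟨c, q⟩ h0
      rw [hL] at h0
      have hq : q = 0 := by
        by_contra hq0
        haveI := Nontrivial.of_polynomial_ne hq0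
        have h1 : f * q = C (-c) := by
          rw [map_neg]
          linear_combination h0
        have h2 := hf.natDegree_mul' hq0
        rw [h1, natDegree_C] at h2
        have h3 : f.natDegree = 2 := natDegree_eq_of_degree_eq_some (f_degree S a b)
        omega
      subst hq
      have hc : c = 0 := by
        rw [mul_zero, add_zero] at h0
        exact C_eq_zero.1 h0
      rw [hc]
      rfl
    have hrange : LinearMap.range L = Subalgebra.toSubmodule B := by
      ext p
      rw [Subalgebra.mem_toSubmodule, hmem, LinearMap.mem_range]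
      constructor
      · rintro ⟨⟨c, q⟩, rfl⟩
        exact ⟨c, q, hL c q⟩
      · rintro ⟨c, q, rfl⟩
        exact ⟨(c, q), hL c q⟩
    let e : (S × S[X]) ≃ₗ[S] B :=
      (LinearEquiv.ofInjective L hinj).trans ((LinearEquiv.ofEq _ _ hrange).trans
        (Subalgebra.toSubmoduleEquiv B))
    exact Module.Free.of_equiv e
  · -- finiteness
    refine ⟨⟨{1, X}, ?_⟩⟩
    rw [eq_top_iff]
    intro p _
    rcases subsingleton_or_nontrivial S with hS | hS
    · have : p = 0 := Subsingleton.elim _ _
      rw [this]
      exact Submodule.zero_mem _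
    · have hr : (p %ₘ f).degree ≤ 1 := by
        have h1 := degree_modByMonic_lt p hf
        rw [show f.degree = 2 from f_degree S a b] at h1
        rw [degree_le_iff_coeff_zero]
        intro m hm
        exact (degree_lt_iff_coeff_zero _ 2).1 (by exact_mod_cast h1) m (by exact_mod_cast hm)
      have hr' := eq_X_add_C_of_degree_le_one hr
      have hp : p = f * (p /ₘ f) + (C ((p %ₘ f).coeff 1) * X + C ((p %ₘ f).coeff 0)) := by
        rw [← hr', add_comm]
        exact (modByMonic_add_div p f).symm
      have hb1 : C ((p %ₘ f).coeff 0) + f * (p /ₘ f) ∈ B := (hmem _).2 ⟨_, _, rfl⟩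
      have hb2 : C ((p %ₘ f).coeff 1) ∈ B := (hmem _).2 ⟨(p %ₘ f).coeff 1, 0, by simp⟩
      have hp2 : p = (⟨_, hb1⟩ : B) • (1 : S[X]) + (⟨_, hb2⟩ : B) • (X : S[X]) := by
        rw [Subalgebra.smul_def, Subalgebra.smul_def]
        simp only [smul_eq_mul, mul_one]
        refine hp.trans ?_
        ring
      rw [hp2]
      refine Submodule.add_mem _ (Submodule.smul_mem _ _ (Submodule.subset_span ?_))
        (Submodule.smul_mem _ _ (Submodule.subset_span ?_))
      · simp
      · simp

end Groth.Agent.S19184
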