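import Groth.Statements.S19185
import Mathlib
import Groth.Agent.H10.Kummer

set_option autoImplicit false
universe u
open Curves

namespace Groth.Agent.S19185

section helpers

variable {k : Type u} [Field k]

/-- Jacobian condition for a plane hypersurface. -/
def Jac (f : MvPolynomial (Fin 2) k) : Prop :=
  ∃ u c₀ c₁ : MvPolynomial (Fin 2) k,
    u * f + c₀ * MvPolynomial.pderiv 0 f + c₁ * MvPolynomial.pderiv 1 f = 1

theorem derivation_apply
    (D : Derivation k (MvPolynomial (Fin 2) k) (MvPolynomial (Fin 2) k))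
    (f : MvPolynomial (Fin 2) k) :
    D f = D (MvPolynomial.X 0) * MvPolynomial.pderiv 0 f
      + D (MvPolynomial.X 1) * MvPolynomial.pderiv 1 f := by
  have h : D = D (MvPolynomial.X 0) • (MvPolynomial.pderiv 0 :
        Derivation k (MvPolynomial (Fin 2) k) (MvPolynomial (Fin 2) k))
      + D (MvPolynomial.X 1) • (MvPolynomial.pderiv 1 :
        Derivation k (MvPolynomial (Fin 2) k) (MvPolynomial (Fin 2) k)) := by
    apply MvPolynomial.derivation_ext
    intro i
    fin_cases i <;> simp [MvPolynomial.pderiv_X, Pi.single_apply]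
  conv_lhs => rw [h]
  simp only [Derivation.add_apply, Derivation.smul_apply, smul_eq_mul]

theorem smooth_iff_jac (f : MvPolynomial (Fin 2) k) (hf : f ≠ 0) :
    Algebra.Smooth k (MvPolynomial (Fin 2) k ⧸
      Ideal.span ({f} : Set (MvPolynomial (Fin 2) k))) ↔ Jac f := by
  constructor
  · intro h
    obtain ⟨D, u, hu, hD⟩ :=
      Groth.Agent.H10.Kummer.exists_derivation_of_formallySmooth_quotient (R := k) f h.1
    have hu0 : u = 0 := by
      rcases mul_eq_zero.1 hu with h1 | h1
      · exact h1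
      · exact absurd h1 hf
    rw [hu0, add_zero] at hD
    obtain ⟨w, hw⟩ := Ideal.mem_span_singleton'.1 hD
    refine ⟨-w, D (MvPolynomial.X 0), D (MvPolynomial.X 1), ?_⟩
    have h3 := derivation_apply D f
    linear_combination (-1 : MvPolynomial (Fin 2) k) * hw - h3
  · rintro ⟨u, c₀, c₁, h⟩
    have hD : (c₀ • (MvPolynomial.pderiv 0 :
          Derivation k (MvPolynomial (Fin 2) k) (MvPolynomial (Fin 2) k))
        + c₁ • (MvPolynomial.pderiv 1 :
          Derivation k (MvPolynomial (Fin 2) k) (MvPolynomial (Fin 2) k))) f - 1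
        ∈ Ideal.span ({f} : Set (MvPolynomial (Fin 2) k)) := by
      rw [Ideal.mem_span_singleton']
      refine ⟨-u, ?_⟩
      simp only [Derivation.add_apply, Derivation.smul_apply, smul_eq_mul]
      linear_combination (-1 : MvPolynomial (Fin 2) k) * h
    have h1 := Groth.Agent.H10.Kummer.formallySmooth_quotient_span_singleton (R := k) f _ hD
    have h2 : Algebra.FinitePresentation k (MvPolynomial (Fin 2) k ⧸
        Ideal.span ({f} : Set (MvPolynomial (Fin 2) k))) :=
      Algebra.FinitePresentation.quotient ⟨{f}, by simp⟩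
    exact ⟨h1, h2⟩

/-- univariate polynomials in the first variable -/
noncomputable def φ : Polynomial k →ₐ[k] MvPolynomial (Fin 2) k :=
  Polynomial.aeval (MvPolynomial.X 0)

theorem φ_X : φ (Polynomial.X : Polynomial k) = MvPolynomial.X 0 := Polynomial.aeval_X _

theorem φ_C (c : k) : φ (Polynomial.C c) = MvPolynomial.C c := Polynomial.aeval_C _ _

theorem pderiv_φ (p : Polynomial k) :
    (∃ p' : Polynomial k, MvPolynomial.pderiv 0 (φ p) = φ p') ∧
      MvPolynomial.pderiv 1 (φ p) = 0 := by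
  induction p using Polynomial.induction_on with
  | C a =>
    refine ⟨⟨0, ?_⟩, ?_⟩
    · rw [φ_C, MvPolynomial.pderiv_C, map_zero]
    · rw [φ_C, MvPolynomial.pderiv_C]
  | add p r hp hr =>
    obtain ⟨⟨p', hp'⟩, hp1⟩ := hp
    obtain ⟨⟨r', hr'⟩, hr1⟩ := hr
    exact ⟨⟨p' + r', by rw [map_add, map_add, map_add, hp', hr']⟩,
      by rw [map_add, map_add, hp1, hr1, add_zero]⟩
  | monomial n a h =>
    obtain ⟨⟨p', hp'⟩, hp1⟩ := h
    have e : φ (Polynomial.C a * Polynomial.X ^ (n + 1))
        = φ (Polynomial.C a * Polynomial.X ^ n) * MvPolynomial.X 0 := by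
      rw [pow_succ, ← mul_assoc, map_mul, φ_X]
    refine ⟨⟨p' * Polynomial.X + Polynomial.C a * Polynomial.X ^ n, ?_⟩, ?_⟩
    · have e2 : φ (p' * Polynomial.X + Polynomial.C a * Polynomial.X ^ n)
          = φ p' * MvPolynomial.X 0 + φ (Polynomial.C a * Polynomial.X ^ n) := by
        rw [map_add, map_mul, φ_X]
      rw [e, Derivation.leibniz, hp', MvPolynomial.pderiv_X_self, e2]
      simp only [smul_eq_mul]
      ring
    · rw [e, Derivation.leibniz, hp1, MvPolynomial.pderiv_X_of_ne (by decide)]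
      simp

/-- evaluation `X 0 ↦ X`, `X 1 ↦ w`. -/
noncomputable def ψ (w : k) : MvPolynomial (Fin 2) k →ₐ[k] Polynomial k :=
  MvPolynomial.aeval (fun i : Fin 2 => if i = 0 then Polynomial.X else Polynomial.C w)

theorem ψ_φ (w : k) (p : Polynomial k) : ψ w (φ p) = p := by
  have h : (ψ w).comp φ = AlgHom.id k (Polynomial k) :=
    Polynomial.algHom_ext (by simp [ψ, φ])
  exact AlgHom.congr_fun h p

theorem ψ_X1 (w : k) : ψ w (MvPolynomial.X 1) = Polynomial.C w := by simp [ψ]

theorem chart_ne_zero (a b : Polynomial k) (h : a ≠ 0 ∨ b ≠ 0) :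
    φ a + φ b * MvPolynomial.X 1 ≠ 0 ∧ φ a * MvPolynomial.X 1 + φ b ≠ 0 := by
  constructor
  · intro h0
    have h1 := congrArg (ψ (0 : k)) h0
    have h2 := congrArg (ψ (1 : k)) h0
    simp only [map_add, map_mul, ψ_φ, ψ_X1, map_zero, mul_zero, add_zero, map_one,
      mul_one] at h1 h2
    rcases h with h | h
    · exact h h1
    · exact h (by rw [h1, zero_add] at h2; exact h2)
  · intro h0
    have h1 := congrArg (ψ (0 : k)) h0
    have h2 := congrArg (ψ (1 : k)) h0
    simp only [map_add, map_mul, ψ_φ, ψ_X1, map_zero, mul_zero, zero_add, map_one,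
      mul_one] at h1 h2
    rcases h with h | h
    · exact h (by rw [h1, add_zero] at h2; exact h2)
    · exact h h1

theorem lemK (a b : Polynomial k) (hab : a ≠ 0 ∨ b ≠ 0) :
    (Jac (φ a + φ b * MvPolynomial.X 1) ∧ Jac (φ a * MvPolynomial.X 1 + φ b)) ↔
      IsCoprime a b := by
  obtain ⟨⟨α, hα⟩, ha1⟩ := pderiv_φ a
  obtain ⟨⟨β, hβ⟩, hb1⟩ := pderiv_φ b
  have d10 : MvPolynomial.pderiv 0 (MvPolynomial.X 1 : MvPolynomial (Fin 2) k) = 0 :=
    MvPolynomial.pderiv_X_of_ne (by decide)
  have d11 : MvPolynomial.pderiv 1 (MvPolynomial.X 1 : MvPolynomial (Fin 2) k) = 1 :=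
    MvPolynomial.pderiv_X_self 1
  have e10 : MvPolynomial.pderiv 0 (φ a + φ b * MvPolynomial.X 1)
      = φ α + φ β * MvPolynomial.X 1 := by
    rw [map_add, Derivation.leibniz, hα, hβ, d10]; simp only [smul_eq_mul]; ring
  have e11 : MvPolynomial.pderiv 1 (φ a + φ b * MvPolynomial.X 1) = φ b := by
    rw [map_add, Derivation.leibniz, ha1, hb1, d11]; simp only [smul_eq_mul]; ring
  have e20 : MvPolynomial.pderiv 0 (φ a * MvPolynomial.X 1 + φ b)
      = φ α * MvPolynomial.X 1 + φ β := by
    rw [map_add, Derivation.leibniz, hα, hβ, d10]; simp only [smul_eq_mul]; ring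
  have e21 : MvPolynomial.pderiv 1 (φ a * MvPolynomial.X 1 + φ b) = φ a := by
    rw [map_add, Derivation.leibniz, ha1, hb1, d11]; simp only [smul_eq_mul]; ring
  constructor
  · rintro ⟨⟨u₁, c₀, c₁, h1⟩, ⟨u₂, d₀, d₁, h2⟩⟩
    rw [e10, e11] at h1
    rw [e20, e21] at h2
    by_contra hcop
    have hex : ∃ z : Polynomial k, Prime z ∧ z ∣ a ∧ z ∣ b := by
      by_contra hno
      apply hcop
      apply isCoprime_of_prime_dvd
      · rintro ⟨ha0, hb0⟩
        rcases hab with h | h
        · exact h ha0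
        · exact h hb0
      · intro z hz hza hzb
        exact hno ⟨z, hz, hza, hzb⟩
    obtain ⟨π, hπ, hπa, hπb⟩ := hex
    haveI : Fact (Irreducible π) := ⟨hπ.irreducible⟩
    obtain ⟨Φ, hΦ⟩ : ∃ Φ : MvPolynomial (Fin 2) k →+* Polynomial (AdjoinRoot π),
        Φ = MvPolynomial.eval₂Hom (Polynomial.C.comp (AdjoinRoot.of π))
          (fun i : Fin 2 => if i = 0 then Polynomial.C (AdjoinRoot.root π)
            else Polynomial.X) := ⟨_, rfl⟩
    have hΦφ : ∀ p : Polynomial k, Φ (φ p) = Polynomial.C (AdjoinRoot.mk π p) := by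
      intro p
      have h : Φ.comp (φ : Polynomial k →ₐ[k] MvPolynomial (Fin 2) k).toRingHom
          = Polynomial.C.comp (AdjoinRoot.mk π) := by
        apply Polynomial.ringHom_ext
        · intro c
          simp [hΦ, φ]
        · simp [hΦ, φ]
      exact RingHom.congr_fun h p
    have hΦX : Φ (MvPolynomial.X 1) = Polynomial.X := by simp [hΦ]
    have ha0 : AdjoinRoot.mk π a = 0 := AdjoinRoot.mk_eq_zero.2 hπa
    have hb0 : AdjoinRoot.mk π b = 0 := AdjoinRoot.mk_eq_zero.2 hπb
    have H1 := congrArg Φ h1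
    have H2 := congrArg Φ h2
    simp only [map_add, map_mul, hΦφ, hΦX, ha0, hb0, map_zero, zero_mul, mul_zero, zero_add,
      add_zero, map_one] at H1 H2
    obtain ⟨α', hα'⟩ : ∃ α' : AdjoinRoot π, α' = AdjoinRoot.mk π α := ⟨_, rfl⟩
    obtain ⟨β', hβ'⟩ : ∃ β' : AdjoinRoot π, β' = AdjoinRoot.mk π β := ⟨_, rfl⟩
    rw [← hα', ← hβ'] at H1 H2
    have hβ0 : β' = 0 := by
      by_contra hne
      have hu : IsUnit (Polynomial.C β' * Polynomial.X + Polynomial.C α') := by
        apply IsUnit.of_mul_eq_one (Φ c₀)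
        rw [mul_comm, add_comm]; exact H1
      have h3 := Polynomial.natDegree_eq_zero_of_isUnit hu
      rw [Polynomial.natDegree_linear hne] at h3
      exact one_ne_zero h3
    rw [hβ0, map_zero, add_zero] at H2
    have hu : IsUnit (Polynomial.X : Polynomial (AdjoinRoot π)) := by
      apply IsUnit.of_mul_eq_one (Polynomial.C α' * Φ d₀)
      rw [← H2]; ring
    exact Polynomial.not_isUnit_X hu
  · rintro ⟨u, v, huv⟩
    have h' : φ u * φ a + φ v * φ b = 1 := by
      rw [← map_mul, ← map_mul, ← map_add, huv, map_one]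
    constructor
    · refine ⟨φ u, 0, φ v - φ u * MvPolynomial.X 1, ?_⟩
      rw [e10, e11]; linear_combination h'
    · refine ⟨φ v, 0, φ u - φ v * MvPolynomial.X 1, ?_⟩
      rw [e20, e21]; linear_combination h'

/-- polynomial with prescribed coefficient vector -/
noncomputable def pol {N : ℕ} (c : Fin (N + 1) → k) : Polynomial k :=
  ∑ j : Fin (N + 1), Polynomial.C (c j) * Polynomial.X ^ (j : ℕ)

/-- reversed polynomial with prescribed coefficient vector -/
noncomputable def polr {N : ℕ} (c : Fin (N + 1) → k) : Polynomial k :=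
  ∑ j : Fin (N + 1), Polynomial.C (c j) * Polynomial.X ^ (N - (j : ℕ))

theorem natDegree_pol_le {N : ℕ} (c : Fin (N + 1) → k) : (pol c).natDegree ≤ N := by
  apply Polynomial.natDegree_sum_le_of_forall_le
  intro j _
  exact (Polynomial.natDegree_C_mul_X_pow_le _ _).trans (by have := j.2; omega)

theorem coeff_pol {N : ℕ} (c : Fin (N + 1) → k) (j : Fin (N + 1)) :
    (pol c).coeff (j : ℕ) = c j := by
  rw [pol, Polynomial.finsetSum_coeff, Finset.sum_eq_single j]
  · rw [Polynomial.coeff_C_mul_X_pow, if_pos rfl]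
  · intro i _ hij
    rw [Polynomial.coeff_C_mul_X_pow, if_neg]
    intro h
    exact hij (Fin.ext h.symm)
  · intro h
    exact absurd (Finset.mem_univ j) h

theorem polr_eq_reflect {N : ℕ} (c : Fin (N + 1) → k) :
    polr c = Polynomial.reflect N (pol c) := by
  rw [pol, polr]
  have hsum : ∀ (s : Finset (Fin (N + 1))) (g : Fin (N + 1) → Polynomial k),
      Polynomial.reflect N (∑ j ∈ s, g j) = ∑ j ∈ s, Polynomial.reflect N (g j) := by
    intro s g
    induction s using Finset.induction_on with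
    | empty => simp
    | insert a s ha ih =>
      rw [Finset.sum_insert ha, Finset.sum_insert ha, Polynomial.reflect_add, ih]
  rw [hsum]
  refine Finset.sum_congr rfl fun j _ => ?_
  rw [Polynomial.reflect_C_mul_X_pow, Polynomial.revAt_le (by have := j.2; omega)]

theorem pol_ne_zero_of {N : ℕ} (c : Fin (N + 1) → k) (hc : c ≠ 0) : pol c ≠ 0 := by
  intro h
  apply hc
  funext j
  rw [← coeff_pol c j, h]
  simp

theorem polr_ne_zero_of {N : ℕ} (c : Fin (N + 1) → k) (hc : c ≠ 0) : polr c ≠ 0 := by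
  rw [polr_eq_reflect, Ne, Polynomial.reflect_eq_zero_iff]
  exact pol_ne_zero_of c hc

theorem φ_pol {N : ℕ} (c : Fin (N + 1) → k) :
    φ (pol c) = ∑ j : Fin (N + 1), MvPolynomial.C (c j) * MvPolynomial.X 0 ^ (j : ℕ) := by
  rw [pol, map_sum]
  refine Finset.sum_congr rfl fun j _ => ?_
  rw [map_mul, map_pow, φ_C, φ_X]

theorem φ_polr {N : ℕ} (c : Fin (N + 1) → k) :
    φ (polr c) = ∑ j : Fin (N + 1), MvPolynomial.C (c j) * MvPolynomial.X 0 ^ (N - (j : ℕ)) := by
  rw [polr, map_sum]
  refine Finset.sum_congr rfl fun j _ => ?_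
  rw [map_mul, map_pow, φ_C, φ_X]

theorem natDegree_lt_of_coeff_eq_zero {p : Polynomial k} {N : ℕ} (hN : 0 < N)
    (h : p.natDegree ≤ N) (hc : p.coeff N = 0) : p.natDegree < N := by
  rcases h.lt_or_eq with h | h
  · exact h
  · exfalso
    by_cases hp : p = 0
    · rw [hp, Polynomial.natDegree_zero] at h; omega
    · apply Polynomial.leadingCoeff_ne_zero.2 hp
      rw [Polynomial.leadingCoeff, h, hc]

theorem res_iff_general (n : ℕ) (hn : 3 ≤ n) (a b : Polynomial k) (da : a.natDegree ≤ 2)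
    (db : b.natDegree ≤ n) (hab : a ≠ 0 ∨ b ≠ 0) :
    Polynomial.resultant a b 2 n ≠ 0 ↔
      IsCoprime a b ∧ IsCoprime (Polynomial.reflect 2 a) (Polynomial.reflect n b) := by
  have c0a : (Polynomial.reflect 2 a).coeff 0 = a.coeff 2 := by
    rw [Polynomial.coeff_reflect, Polynomial.revAt_le (Nat.zero_le 2)]
  have c0b : (Polynomial.reflect n b).coeff 0 = b.coeff n := by
    rw [Polynomial.coeff_reflect, Polynomial.revAt_le (Nat.zero_le n), Nat.sub_zero]
  constructor
  · intro hR
    obtain ⟨R, hRdef⟩ : ∃ R, R = Polynomial.resultant a b 2 n := ⟨_, rfl⟩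
    have hcoef : a.coeff 2 ≠ 0 ∨ b.coeff n ≠ 0 := by
      by_contra h
      rw [not_or, not_not, not_not] at h
      exact hR (Polynomial.resultant_eq_zero_of_lt_lt a b 2 n
        (natDegree_lt_of_coeff_eq_zero (by norm_num) da h.1)
        (natDegree_lt_of_coeff_eq_zero (by omega) db h.2))
    rw [← hRdef] at hR
    obtain ⟨p, r, hp, hr, e⟩ :=
      Polynomial.exists_mul_add_mul_eq_C_resultant a b da db (Or.inl (by norm_num))
    rw [← hRdef] at e
    have hCC : Polynomial.C R⁻¹ * Polynomial.C R = 1 := by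
      rw [← Polynomial.C_mul, inv_mul_cancel₀ hR, Polynomial.C_1]
    have hpn : p.natDegree ≤ n - 1 := by
      by_cases hp0 : p = 0
      · rw [hp0, Polynomial.natDegree_zero]; exact Nat.zero_le _
      · have h1 := (Polynomial.natDegree_lt_iff_degree_lt hp0).2 hp
        omega
    have hr1 : r.natDegree ≤ 1 := by
      by_cases hr0 : r = 0
      · rw [hr0, Polynomial.natDegree_zero]; exact Nat.zero_le _
      · have h1 := (Polynomial.natDegree_lt_iff_degree_lt hr0).2 hr
        omega
    have E : Polynomial.reflect 2 a * Polynomial.reflect (n - 1) p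
        + Polynomial.reflect n b * Polynomial.reflect 1 r
        = Polynomial.C R * Polynomial.X ^ (n + 1) := by
      have e' := congrArg (Polynomial.reflect (n + 1)) e
      rw [Polynomial.reflect_add, Polynomial.reflect_C] at e'
      have h1 := Polynomial.reflect_mul a p da hpn
      have h2 := Polynomial.reflect_mul b r db hr1
      rw [show 2 + (n - 1) = n + 1 by omega] at h1
      rw [h1, h2] at e'
      exact e'
    refine ⟨⟨Polynomial.C R⁻¹ * p, Polynomial.C R⁻¹ * r, by
      linear_combination (Polynomial.C R⁻¹) * e + hCC⟩, ?_⟩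
    rcases hcoef with hc | hc
    · obtain ⟨c, hcdef⟩ : ∃ c, c = (Polynomial.reflect 2 a).coeff 0 := ⟨_, rfl⟩
      have hc0 : c ≠ 0 := by rw [hcdef, c0a]; exact hc
      have hcc : Polynomial.C c⁻¹ * Polynomial.C c = 1 := by
        rw [← Polynomial.C_mul, inv_mul_cancel₀ hc0, Polynomial.C_1]
      have hdiv := Polynomial.divX_mul_X_add (Polynomial.reflect 2 a)
      rw [← hcdef] at hdiv
      have hX : IsCoprime (Polynomial.reflect 2 a) (Polynomial.X : Polynomial k) :=
        ⟨Polynomial.C c⁻¹, -(Polynomial.C c⁻¹ * (Polynomial.reflect 2 a).divX), by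
          linear_combination (-(Polynomial.C c⁻¹)) * hdiv + hcc⟩
      obtain ⟨u, v, huv⟩ := hX.pow_right (n := n + 1)
      exact ⟨u + v * Polynomial.C R⁻¹ * Polynomial.reflect (n - 1) p,
        v * Polynomial.C R⁻¹ * Polynomial.reflect 1 r, by
        linear_combination huv + (v * Polynomial.C R⁻¹) * E
          + (v * Polynomial.X ^ (n + 1)) * hCC⟩
    · obtain ⟨c, hcdef⟩ : ∃ c, c = (Polynomial.reflect n b).coeff 0 := ⟨_, rfl⟩
      have hc0 : c ≠ 0 := by rw [hcdef, c0b]; exact hc
      have hcc : Polynomial.C c⁻¹ * Polynomial.C c = 1 := by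
        rw [← Polynomial.C_mul, inv_mul_cancel₀ hc0, Polynomial.C_1]
      have hdiv := Polynomial.divX_mul_X_add (Polynomial.reflect n b)
      rw [← hcdef] at hdiv
      have hX : IsCoprime (Polynomial.reflect n b) (Polynomial.X : Polynomial k) :=
        ⟨Polynomial.C c⁻¹, -(Polynomial.C c⁻¹ * (Polynomial.reflect n b).divX), by
          linear_combination (-(Polynomial.C c⁻¹)) * hdiv + hcc⟩
      obtain ⟨u, v, huv⟩ := hX.pow_right (n := n + 1)
      exact ⟨v * Polynomial.C R⁻¹ * Polynomial.reflect (n - 1) p,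
        u + v * Polynomial.C R⁻¹ * Polynomial.reflect 1 r, by
        linear_combination huv + (v * Polynomial.C R⁻¹) * E
          + (v * Polynomial.X ^ (n + 1)) * hCC⟩
  · rintro ⟨hc, hcr⟩ hR0
    by_cases h2 : a.coeff 2 = 0
    · by_cases hbn : b.coeff n = 0
      · have hXa : Polynomial.X ∣ Polynomial.reflect 2 a :=
          Polynomial.X_dvd_iff.2 (by rw [c0a]; exact h2)
        have hXb : Polynomial.X ∣ Polynomial.reflect n b :=
          Polynomial.X_dvd_iff.2 (by rw [c0b]; exact hbn)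
        exact Polynomial.not_isUnit_X (hcr.isUnit_of_dvd' hXa hXb)
      · have hnb : b.natDegree = n := Polynomial.natDegree_eq_of_le_of_coeff_ne_zero db hbn
        have h3 := Polynomial.resultant_add_left_deg a b a.natDegree n (2 - a.natDegree) le_rfl
        rw [Nat.add_sub_cancel' da, hR0] at h3
        have h4 : Polynomial.resultant a b a.natDegree n = 0 := by
          rcases mul_eq_zero.1 h3.symm with h | h
          · exfalso
            rcases mul_eq_zero.1 h with h | h
            · exact pow_ne_zero _ (neg_ne_zero.2 one_ne_zero) h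
            · exact pow_ne_zero _ hbn h
          · exact h
        rw [← hnb] at h4
        exact (Polynomial.resultant_eq_zero_iff.1 h4).2 hc
    · have hda2 : a.natDegree = 2 := Polynomial.natDegree_eq_of_le_of_coeff_ne_zero da h2
      have h3 := Polynomial.resultant_add_right_deg a b 2 b.natDegree (n - b.natDegree) le_rfl
      rw [Nat.add_sub_cancel' db, hR0] at h3
      have h4 : Polynomial.resultant a b 2 b.natDegree = 0 :=
        (mul_eq_zero.1 h3.symm).resolve_left (pow_ne_zero _ h2)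
      have h5 : Polynomial.resultant a b a.natDegree b.natDegree = 0 := by
        rw [hda2]; exact h4
      exact (Polynomial.resultant_eq_zero_iff.1 h5).2 hc

end helpers

/-- Let k be a field, n ≥ 3, q a binary quadratic form and ξ a binary form of degree n over k, given by
coefficient vectors (q_i the coefficient of x^i y^(2−i), ξ_j that of x^j y^(n−j)), not both zero.
The pair (q, ξ) is a global section of O(2) ⊕ O(n) on P¹_k, i.e. of the line bundle of class e + nf
on the Hirzebruch surface F_{n−2} = P(O ⊕ O(n−2)) → P¹_k, and cuts out the curve W : q·u + ξ·v = 0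
there ([u : v] the fibre coordinates). Over the two standard opens of P¹ (t = x/y, s = y/x) and the
two opens u ≠ 0, v ≠ 0 of the fibres, W is covered by four affine charts with coordinate rings k[t,
w]/(q(t,1) + ξ(t,1)·w), k[t, w]/(q(t,1)·w + ξ(t,1)), k[s, w]/(q(1,s) + ξ(1,s)·w) and k[s,
w]/(q(1,s)·w + ξ(1,s)) (variables indexed 0 for t or s and 1 for w). Then W is smooth over k — all
four chart algebras are smooth k-algebras — if and only if the resultant of q and ξ (the Sylvester
determinant of the two coefficient vectors with size parameters 2 and n) is nonzero. (The published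
statement is over a general base scheme B, for a section (q, ξ) vanishing on no fibre, with 'the
resultant is a unit on B' in place of 'nonzero'; its proof reduces at once to the statement over a
field given here, which is the case B = Spec k.) -/
theorem result (k : Type u) [Field k] (n : ℕ) (hn : 3 ≤ n)
    (q : Fin 3 → k) (ξ : Fin (n + 1) → k) (hqξ : q ≠ 0 ∨ ξ ≠ 0) :
    (Algebra.Smooth k (MvPolynomial (Fin 2) k ⧸ Ideal.span ({(∑ i : Fin 3, MvPolynomial.C (q i) * MvPolynomial.X 0 ^ (i : ℕ)) + (∑ j : Fin (n + 1), MvPolynomial.C (ξ j) * MvPolynomial.X 0 ^ (j : ℕ)) * MvPolynomial.X 1} : Set (MvPolynomial (Fin 2) k))) ∧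
      Algebra.Smooth k (MvPolynomial (Fin 2) k ⧸ Ideal.span ({(∑ i : Fin 3, MvPolynomial.C (q i) * MvPolynomial.X 0 ^ (i : ℕ)) * MvPolynomial.X 1 + (∑ j : Fin (n + 1), MvPolynomial.C (ξ j) * MvPolynomial.X 0 ^ (j : ℕ))} : Set (MvPolynomial (Fin 2) k))) ∧
      Algebra.Smooth k (MvPolynomial (Fin 2) k ⧸ Ideal.span ({(∑ i : Fin 3, MvPolynomial.C (q i) * MvPolynomial.X 0 ^ (2 - (i : ℕ))) + (∑ j : Fin (n + 1), MvPolynomial.C (ξ j) * MvPolynomial.X 0 ^ (n - (j : ℕ))) * MvPolynomial.X 1} : Set (MvPolynomial (Fin 2) k))) ∧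
      Algebra.Smooth k (MvPolynomial (Fin 2) k ⧸ Ideal.span ({(∑ i : Fin 3, MvPolynomial.C (q i) * MvPolynomial.X 0 ^ (2 - (i : ℕ))) * MvPolynomial.X 1 + (∑ j : Fin (n + 1), MvPolynomial.C (ξ j) * MvPolynomial.X 0 ^ (n - (j : ℕ)))} : Set (MvPolynomial (Fin 2) k)))) ↔
    Polynomial.resultant (∑ i : Fin 3, Polynomial.C (q i) * Polynomial.X ^ (i : ℕ))
      (∑ j : Fin (n + 1), Polynomial.C (ξ j) * Polynomial.X ^ (j : ℕ)) 2 n ≠ 0 := by
  have hab : pol q ≠ 0 ∨ pol ξ ≠ 0 := hqξ.imp (pol_ne_zero_of q) (pol_ne_zero_of ξ)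
  have habr : polr (N := 2) q ≠ 0 ∨ polr ξ ≠ 0 :=
    hqξ.imp (polr_ne_zero_of (N := 2) q) (polr_ne_zero_of ξ)
  have e1 : (∑ i : Fin 3, MvPolynomial.C (q i) * MvPolynomial.X 0 ^ (i : ℕ) :
      MvPolynomial (Fin 2) k) = φ (pol (N := 2) q) := (φ_pol (N := 2) q).symm
  have e2 : (∑ j : Fin (n + 1), MvPolynomial.C (ξ j) * MvPolynomial.X 0 ^ (j : ℕ) :
      MvPolynomial (Fin 2) k) = φ (pol ξ) := (φ_pol ξ).symm
  have e3 : (∑ i : Fin 3, MvPolynomial.C (q i) * MvPolynomial.X 0 ^ (2 - (i : ℕ)) :
      MvPolynomial (Fin 2) k) = φ (polr (N := 2) q) := (φ_polr (N := 2) q).symm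
  have e4 : (∑ j : Fin (n + 1), MvPolynomial.C (ξ j) * MvPolynomial.X 0 ^ (n - (j : ℕ)) :
      MvPolynomial (Fin 2) k) = φ (polr ξ) := (φ_polr ξ).symm
  rw [e1, e2, e3, e4]
  obtain ⟨n1, n2⟩ := chart_ne_zero (pol (N := 2) q) (pol ξ) hab
  obtain ⟨n3, n4⟩ := chart_ne_zero (polr (N := 2) q) (polr ξ) habr
  rw [smooth_iff_jac _ n1, smooth_iff_jac _ n2, smooth_iff_jac _ n3, smooth_iff_jac _ n4]
  rw [← and_assoc, lemK _ _ hab, lemK _ _ habr]
  show IsCoprime (pol (N := 2) q) (pol ξ) ∧ IsCoprime (polr (N := 2) q) (polr ξ) ↔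
    Polynomial.resultant (pol (N := 2) q) (pol ξ) 2 n ≠ 0
  rw [polr_eq_reflect, polr_eq_reflect]
  exact (res_iff_general n hn _ _ (natDegree_pol_le (N := 2) q) (natDegree_pol_le ξ) hab).symm

end Groth.Agent.S19185
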