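import Groth.Statements.S19186
import Mathlib.RingTheory.Coprime.Lemmas
import Mathlib.RingTheory.Int.Basic
import Mathlib.Tactic.Module

set_option autoImplicit false
universe u
open OneMot

namespace Groth.Agent.S19186

theorem aux {A B : Type u} [AddCommGroup A] [AddCommGroup B] (f : A →+ B) (P L : ℤ)
    (hco : IsCoprime P L)
    (hker : ∀ a : A, f a = 0 → P • a = 0) (hcoker : ∀ b : B, ∃ a : A, f a = P • b) :
    (∀ b : B, L • b = 0 → ∃! a : A, L • a = 0 ∧ f a = b) ∧
    (∀ a : A, (∃ b' : B, f a = L • b') → ∃ a' : A, a = L • a') ∧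
    (∀ b : B, ∃ (a : A) (b' : B), b = f a + L • b') := by
  obtain ⟨u, v, huv⟩ := hco
  have hsplitA : ∀ a : A, a = u • P • a + v • L • a := by
    intro a
    rw [← mul_smul, ← mul_smul, ← add_smul, huv, one_smul]
  have hsplitB : ∀ b : B, b = u • P • b + v • L • b := by
    intro b
    rw [← mul_smul, ← mul_smul, ← add_smul, huv, one_smul]
  refine ⟨?_, ?_, ?_⟩
  · intro b hb
    obtain ⟨a₀, ha₀⟩ := hcoker b
    have hPL : P • L • a₀ = 0 := by
      apply hker
      rw [map_zsmul, ha₀, smul_comm, hb, smul_zero]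
    refine ⟨(u * P) • u • a₀, ⟨?_, ?_⟩, ?_⟩
    · have : L • (u * P) • u • a₀ = (u * u) • (P • L • a₀) := by module
      rw [this, hPL, smul_zero]
    · rw [map_zsmul, map_zsmul, ha₀, mul_smul]
      have h1 := hsplitB b
      rw [hb, smul_zero, add_zero] at h1
      rw [← h1, ← h1]
    · rintro a' ⟨ha'1, ha'2⟩
      have hd : f (a' - (u * P) • u • a₀) = 0 := by
        rw [map_sub, ha'2, map_zsmul, map_zsmul, ha₀, mul_smul]
        have h1 := hsplitB b
        rw [hb, smul_zero, add_zero] at h1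
        rw [← h1, ← h1, sub_self]
      have hPd := hker _ hd
      have hLd : L • (a' - (u * P) • u • a₀) = 0 := by
        have : L • (u * P) • u • a₀ = (u * u) • (P • L • a₀) := by module
        rw [smul_sub, ha'1, this, hPL, smul_zero, sub_zero]
      have := hsplitA (a' - (u * P) • u • a₀)
      rw [hPd, hLd, smul_zero, smul_zero, add_zero] at this
      exact sub_eq_zero.mp this
  · rintro a ⟨b', hb'⟩
    obtain ⟨a₁, ha₁⟩ := hcoker b'
    have h0 : f (P • a - L • a₁) = 0 := by
      rw [map_sub, map_zsmul, map_zsmul, hb', ha₁, smul_comm, sub_self]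
    have h1 := hker _ h0
    rw [smul_sub, sub_eq_zero] at h1
    -- P • P • a = P • L • a₁
    have hco2 : IsCoprime (P * P) L := IsCoprime.mul_left ⟨u, v, huv⟩ ⟨u, v, huv⟩
    obtain ⟨u', v', huv'⟩ := hco2
    refine ⟨u' • P • a₁ + v' • a, ?_⟩
    have : a = u' • (P * P) • a + v' • L • a := by
      rw [← mul_smul, ← mul_smul, ← add_smul, huv', one_smul]
    rw [mul_smul, h1] at this
    rw [smul_add, smul_comm L u', smul_comm L P, smul_comm L v']
    exact this
  · intro b
    obtain ⟨a₀, ha₀⟩ := hcoker b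
    refine ⟨u • a₀, v • b, ?_⟩
    rw [map_zsmul, ha₀, smul_comm L v]
    exact hsplitB b

/-- Let p and ℓ be distinct prime numbers, r and n natural numbers, and f : A → B a homomorphism of
abelian groups whose kernel and cokernel are annihilated by p^r (f a = 0 implies p^r • a = 0, and
every p^r • b lies in the image of f). Then f induces a bijection between the ℓ^n-torsion subgroups
of A and B and a bijection A/ℓ^n A → B/ℓ^n B. Spelled out without quotients: every ℓ^n-torsion
element of B has exactly one ℓ^n-torsion preimage; an element of A whose image is an ℓ^n-multiple is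
itself an ℓ^n-multiple; and every element of B is the sum of an image and an ℓ^n-multiple. -/
theorem result {A B : Type u} [AddCommGroup A] [AddCommGroup B] (f : A →+ B) (p ℓ r n : ℕ) (hp : p.Prime) (hl : ℓ.Prime) (hne : ℓ ≠ p) (hker : ∀ a : A, f a = 0 → p ^ r • a = 0) (hcoker : ∀ b : B, ∃ a : A, f a = p ^ r • b) : (∀ b : B, ℓ ^ n • b = 0 → ∃! a : A, ℓ ^ n • a = 0 ∧ f a = b) ∧ (∀ a : A, (∃ b' : B, f a = ℓ ^ n • b') → ∃ a' : A, a = ℓ ^ n • a') ∧ (∀ b : B, ∃ (a : A) (b' : B), b = f a + ℓ ^ n • b') := by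
  have hco : IsCoprime ((p ^ r : ℕ) : ℤ) ((ℓ ^ n : ℕ) : ℤ) := by
    rw [Nat.isCoprime_iff_coprime]
    exact Nat.Coprime.pow _ _ ((Nat.coprime_primes hp hl).mpr hne.symm)
  have h := aux f ((p ^ r : ℕ) : ℤ) ((ℓ ^ n : ℕ) : ℤ) hco
    (by intro a ha; rw [natCast_zsmul]; exact hker a ha)
    (by intro b; obtain ⟨a, ha⟩ := hcoker b; exact ⟨a, by rw [natCast_zsmul]; exact ha⟩)
  simp only [natCast_zsmul] at h
  exact h

end Groth.Agent.S19186
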