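import Groth.Statements.S19189
import Mathlib.Tactic.NoncommRing
import Mathlib.Tactic.Abel
import Mathlib.CategoryTheory.Triangulated.TStructure.TruncLEGT

set_option autoImplicit false
universe v u
open CategoryTheory CategoryTheory.Limits CategoryTheory.Pretriangulated CategoryTheory.Triangulated
open CohDer

namespace Groth.Agent.S19189

theorem ring_lemma {R : Type*} [Ring R] (p q : R) (hp : p * p = p) (hq : q * q = q)
    (H : (p - q) * (p - q) = 0) : p * q * p = p := by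
  have H' : p * q + q * p = p + q := by
    have h1 : (p - q) * (p - q) = p * p - p * q - q * p + q * q := by noncomm_ring
    rw [h1, hp, hq] at H
    have h2 : p + q - (p * q + q * p) = 0 := by
      rw [← H]
      abel
    exact (sub_eq_zero.1 h2).symm
  have e1 : p * (p * q + q * p) * p = p * (p + q) * p := by rw [H']
  have e2 : p * (p * q + q * p) * p = p * q * p + p * q * p := by
    calc p * (p * q + q * p) * p = (p * p) * q * p + p * q * (p * p) := by noncomm_ring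
      _ = p * q * p + p * q * p := by rw [hp]
  have e3 : p * (p + q) * p = p + p * q * p := by
    calc p * (p + q) * p = (p * p) * p + p * q * p := by noncomm_ring
      _ = p + p * q * p := by rw [hp, hp]
  rw [e2, e3] at e1
  exact add_right_cancel e1

section cat

variable {C : Type u} [Category.{v} C] [Preadditive C]

/-- The idempotent `p` splits. -/
def Splits {X : C} (p : X ⟶ X) : Prop :=
  ∃ (Y : C) (i : Y ⟶ X) (e : X ⟶ Y), i ≫ e = 𝟙 Y ∧ e ≫ i = p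

theorem splits_of_sq_zero {X : C} (p q : X ⟶ X) (hp : p ≫ p = p) (hq : q ≫ q = q)
    (H : (p - q) ≫ (p - q) = 0) (hs : Splits q) : Splits p := by
  have h1 : p ≫ q ≫ p = p := by
    have h := ring_lemma (R := End X) p q hp hq H
    simpa [End.mul_def, Category.assoc] using h
  have h2 : q ≫ p ≫ q = q := by
    have H2 : (q - p) ≫ (q - p) = 0 := by
      have : (q - p) ≫ (q - p) = (p - q) ≫ (p - q) := by
        simp only [Preadditive.sub_comp, Preadditive.comp_sub]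
        abel
      rw [this, H]
    have h := ring_lemma (R := End X) q p hq hp H2
    simpa [End.mul_def, Category.assoc] using h
  obtain ⟨Y, i, e, hie, hei⟩ := hs
  subst hei
  have h3 : i ≫ p ≫ e = 𝟙 Y := by
    have h := congrArg (fun f => i ≫ f ≫ e) h2
    simpa [reassoc_of% hie, hie] using h
  refine ⟨Y, i ≫ p, p ≫ e, ?_, ?_⟩
  · rw [Category.assoc, reassoc_of% hp, h3]
  · simpa [Category.assoc] using h1

variable [HasZeroObject C] [HasShift C ℤ] [∀ n : ℤ, (shiftFunctor C n).Additive] [Pretriangulated C]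

theorem sq_zero_of_triangle {T : Triangle C} (hT : T ∈ distTriang C) (f : T.obj₂ ⟶ T.obj₂)
    (h1 : T.mor₁ ≫ f = 0) (h2 : f ≫ T.mor₂ = 0) : f ≫ f = 0 := by
  obtain ⟨r, hr⟩ := Triangle.yoneda_exact₂ T hT f h1
  calc f ≫ f = f ≫ T.mor₂ ≫ r := by rw [← hr]
    _ = 0 := by rw [← Category.assoc, h2, zero_comp]

theorem splits_of_triangle {T : Triangle C} (hT : T ∈ distTriang C) (φ : T ⟶ T)
    (h₂ : φ.hom₂ ≫ φ.hom₂ = φ.hom₂)
    (s₁ : Splits φ.hom₁) (s₃ : Splits φ.hom₃) : Splits φ.hom₂ := by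
  obtain ⟨YA, iA, eA, hA1, hA2⟩ := s₁
  obtain ⟨YB, iB, eB, hB1, hB2⟩ := s₃
  have c1 : T.mor₁ ≫ φ.hom₂ = φ.hom₁ ≫ T.mor₁ := φ.comm₁
  have c2 : T.mor₂ ≫ φ.hom₃ = φ.hom₂ ≫ T.mor₂ := φ.comm₂
  have c3 : T.mor₃ ≫ φ.hom₁⟦(1 : ℤ)⟧' = φ.hom₃ ≫ T.mor₃ := φ.comm₃
  have fact1 : iB ≫ φ.hom₃ = iB := by rw [← hB2, ← Category.assoc, hB1, Category.id_comp]
  have fact4 : φ.hom₁ ≫ eA = eA := by rw [← hA2, Category.assoc, hA1, Category.comp_id]
  obtain ⟨X₁, a₁, b₁, hT₁⟩ := distinguished_cocone_triangle₂ (iB ≫ T.mor₃ ≫ eA⟦(1 : ℤ)⟧')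
  obtain ⟨i, hi1, hi2⟩ : ∃ i : X₁ ⟶ T.obj₂, a₁ ≫ i = iA ≫ T.mor₁ ∧ b₁ ≫ iB = i ≫ T.mor₂ :=
    complete_distinguished_triangle_morphism₂ _ T hT₁ hT iA iB (by
    show (iB ≫ T.mor₃ ≫ eA⟦(1 : ℤ)⟧') ≫ iA⟦(1 : ℤ)⟧' = iB ≫ T.mor₃
    calc (iB ≫ T.mor₃ ≫ eA⟦(1 : ℤ)⟧') ≫ iA⟦(1 : ℤ)⟧'
        = iB ≫ T.mor₃ ≫ (eA ≫ iA)⟦(1 : ℤ)⟧' := by
          simp only [Category.assoc, Functor.map_comp]
      _ = iB ≫ T.mor₃ ≫ φ.hom₁⟦(1 : ℤ)⟧' := by rw [hA2]
      _ = iB ≫ φ.hom₃ ≫ T.mor₃ := by rw [c3]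
      _ = iB ≫ T.mor₃ := by rw [← Category.assoc, fact1])
  obtain ⟨e, he1, he2⟩ : ∃ e : T.obj₂ ⟶ X₁, T.mor₁ ≫ e = eA ≫ a₁ ∧ T.mor₂ ≫ eB = e ≫ b₁ :=
    complete_distinguished_triangle_morphism₂ T _ hT hT₁ eA eB (by
    show T.mor₃ ≫ eA⟦(1 : ℤ)⟧' = eB ≫ iB ≫ T.mor₃ ≫ eA⟦(1 : ℤ)⟧'
    symm
    calc eB ≫ iB ≫ T.mor₃ ≫ eA⟦(1 : ℤ)⟧'
        = φ.hom₃ ≫ T.mor₃ ≫ eA⟦(1 : ℤ)⟧' := by rw [← Category.assoc, hB2]
      _ = T.mor₃ ≫ φ.hom₁⟦(1 : ℤ)⟧' ≫ eA⟦(1 : ℤ)⟧' := by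
          rw [← Category.assoc, ← c3, Category.assoc]
      _ = T.mor₃ ≫ (φ.hom₁ ≫ eA)⟦(1 : ℤ)⟧' := by rw [Functor.map_comp]
      _ = T.mor₃ ≫ eA⟦(1 : ℤ)⟧' := by rw [fact4])
  -- the endomorphism `i ≫ e` of `X₁` is unipotent
  set m : X₁ ⟶ X₁ := i ≫ e - 𝟙 X₁ with hm
  have hm1 : a₁ ≫ m = 0 := by
    rw [hm, Preadditive.comp_sub, Category.comp_id, ← Category.assoc, hi1, Category.assoc, he1,
      ← Category.assoc, hA1, Category.id_comp, sub_self]
  have hm2 : m ≫ b₁ = 0 := by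
    rw [hm, Preadditive.sub_comp, Category.id_comp, Category.assoc, ← he2, ← Category.assoc, ← hi2,
      Category.assoc, hB1, Category.comp_id, sub_self]
  have hmm : m ≫ m = 0 := sq_zero_of_triangle hT₁ m hm1 hm2
  have hie : i ≫ e = 𝟙 X₁ + m := by rw [hm]; abel
  have hie' : i ≫ e ≫ (𝟙 X₁ - m) = 𝟙 X₁ := by
    rw [← Category.assoc, hie]
    simp only [Preadditive.add_comp, Preadditive.comp_sub, Category.id_comp, Category.comp_id, hmm]
    abel
  set q : T.obj₂ ⟶ T.obj₂ := (e ≫ (𝟙 X₁ - m)) ≫ i with hq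
  have hqs : Splits q := ⟨X₁, i, e ≫ (𝟙 X₁ - m), hie', rfl⟩
  have hqq : q ≫ q = q := by
    rw [hq]
    calc ((e ≫ (𝟙 X₁ - m)) ≫ i) ≫ (e ≫ (𝟙 X₁ - m)) ≫ i
        = (e ≫ (𝟙 X₁ - m)) ≫ (i ≫ e ≫ (𝟙 X₁ - m)) ≫ i := by simp only [Category.assoc]
      _ = (e ≫ (𝟙 X₁ - m)) ≫ i := by rw [hie', Category.id_comp]
  have hq1 : T.mor₁ ≫ q = T.mor₁ ≫ φ.hom₂ := by
    rw [c1, hq]
    calc T.mor₁ ≫ (e ≫ (𝟙 X₁ - m)) ≫ i = eA ≫ (a₁ ≫ (𝟙 X₁ - m)) ≫ i := by
          simp only [Category.assoc]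
          rw [← Category.assoc, he1, Category.assoc]
      _ = eA ≫ a₁ ≫ i := by
          rw [Preadditive.comp_sub, hm1, Category.comp_id, sub_zero]
      _ = φ.hom₁ ≫ T.mor₁ := by rw [hi1, ← Category.assoc, hA2]
  have hq2 : q ≫ T.mor₂ = φ.hom₂ ≫ T.mor₂ := by
    rw [← c2, hq]
    calc ((e ≫ (𝟙 X₁ - m)) ≫ i) ≫ T.mor₂ = e ≫ ((𝟙 X₁ - m) ≫ b₁) ≫ iB := by
          simp only [Category.assoc]
          rw [hi2]
      _ = e ≫ b₁ ≫ iB := by
          rw [Preadditive.sub_comp, hm2, Category.id_comp, sub_zero]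
      _ = T.mor₂ ≫ φ.hom₃ := by rw [← Category.assoc, ← he2, Category.assoc, hB2]
  have H : (φ.hom₂ - q) ≫ (φ.hom₂ - q) = 0 := by
    apply sq_zero_of_triangle hT
    · rw [Preadditive.comp_sub, hq1, sub_self]
    · rw [Preadditive.sub_comp, hq2, sub_self]
  exact splits_of_sq_zero φ.hom₂ q h₂ hqq H hqs

theorem splits_one_sub_of_isLE_isGE (t : TStructure C) {X : C} (n : ℤ) (hLE : t.IsLE X n)
    (hGE : t.IsGE X n) (p : X ⟶ X) (hp : p ≫ p = p) : Splits (𝟙 X - p) := by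
  obtain ⟨Z, g, h, hT⟩ := distinguished_cocone_triangle p
  have hpg : p ≫ g = 0 := comp_distTriang_mor_zero₁₂ _ hT
  obtain ⟨s, hs⟩ : ∃ s : Z ⟶ X, 𝟙 X - p = g ≫ s :=
    Triangle.yoneda_exact₂ _ hT (𝟙 X - p) (by
      show p ≫ (𝟙 X - p) = 0
      rw [Preadditive.comp_sub, Category.comp_id, hp, sub_self])
  set π := (t.truncGEπ n).app Z with hπ
  set j := t.descTruncGE s n with hj
  have hπj : π ≫ j = s := t.π_descTruncGE s n
  have hcj : (g ≫ π) ≫ j = 𝟙 X - p := by rw [Category.assoc, hπj, hs]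
  have hd : g ≫ (π ≫ j ≫ g ≫ π - π) = 0 := by
    have h1 : g ≫ π ≫ j ≫ g ≫ π = (𝟙 X - p) ≫ g ≫ π := by
      rw [← hcj]
      simp only [Category.assoc]
    rw [Preadditive.comp_sub, h1, Preadditive.sub_comp, Category.id_comp, reassoc_of% hpg,
      zero_comp, sub_zero, sub_self]
  obtain ⟨r, hr⟩ : ∃ r : X⟦(1 : ℤ)⟧ ⟶ (t.truncGE n).obj Z, π ≫ j ≫ g ≫ π - π = h ≫ r :=
    Triangle.yoneda_exact₃ _ hT _ hd
  have hr0 : r = 0 :=
    t.zero_of_isLE_of_isGE r (n - 1) n (by lia) (t.isLE_shift X n 1 (n - 1) (by lia)) inferInstance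
  rw [hr0, comp_zero, sub_eq_zero] at hr
  have hjc : j ≫ g ≫ π = 𝟙 _ := by
    apply t.from_truncGE_obj_ext (n := n)
    rw [Category.comp_id]
    exact hr
  exact ⟨_, j, g ≫ π, hjc, hcj⟩

theorem splits_of_isLE_isGE (t : TStructure C) {X : C} (n : ℤ) (hLE : t.IsLE X n)
    (hGE : t.IsGE X n) (p : X ⟶ X) (hp : p ≫ p = p) : Splits p := by
  have h1 : (𝟙 X - p) ≫ (𝟙 X - p) = 𝟙 X - p := by
    simp only [Preadditive.sub_comp, Preadditive.comp_sub, Category.id_comp, Category.comp_id, hp]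
    abel
  have h2 := splits_one_sub_of_isLE_isGE t n hLE hGE (𝟙 X - p) h1
  rwa [sub_sub_cancel] at h2

theorem splits_of_width [IsTriangulated C] (t : TStructure C) (d : ℕ) :
    ∀ (X : C) (a : ℤ), t.IsGE X a → t.IsLE X (a + (d : ℤ)) →
      ∀ p : X ⟶ X, p ≫ p = p → Splits p := by
  induction d with
  | zero =>
    intro X a hGE hLE p hp
    have hLE' : t.IsLE X a := by simpa using hLE
    exact splits_of_isLE_isGE t a hLE' hGE p hp
  | succ d ih =>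
    intro X a hGE hLE p hp
    set n : ℤ := a + ((d + 1 : ℕ) : ℤ) with hn
    have hT := t.triangleLTGE_distinguished n X
    have hA1 : t.IsGE ((t.truncLT n).obj X) a := inferInstance
    have hA2 : t.IsLE ((t.truncLT n).obj X) (a + (d : ℤ)) :=
      t.isLE_truncLT_obj X n (a + (d : ℤ)) (by rw [hn]; push_cast; lia)
    have hB1 : t.IsGE ((t.truncGE n).obj X) n := inferInstance
    have hB2 : t.IsLE ((t.truncGE n).obj X) n := inferInstance
    have sA : Splits ((t.truncLT n).map p) :=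
      ih _ a hA1 hA2 _ (by rw [← Functor.map_comp, hp])
    have sB : Splits ((t.truncGE n).map p) :=
      splits_of_isLE_isGE t n hB2 hB1 _ (by rw [← Functor.map_comp, hp])
    exact splits_of_triangle hT ((t.triangleLTGE n).map p) hp sA sB

end cat

/-- Let `C` be a triangulated category (octahedron axiom included) and `t` a t-structure on `C` which is
bounded, i.e. every object of `C` is both `≥ a` and `≤ b` for some integers `a`, `b`. Then `C` is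
idempotent complete (Karoubian): every idempotent endomorphism `p = p ≫ p` of an object splits as `p
= e ≫ i` with `i ≫ e = 𝟙`. -/
theorem result {C : Type u} [Category.{v} C] [Preadditive C]
    [HasZeroObject C] [HasShift C ℤ] [∀ n : ℤ, (shiftFunctor C n).Additive] [Pretriangulated C]
    [IsTriangulated C] (t : TStructure C) (hb : ∀ X : C, t.bounded X) :
    IsIdempotentComplete C := by
  refine ⟨fun X p hp => ?_⟩
  obtain ⟨⟨a, ha⟩, ⟨b, hb'⟩⟩ := hb X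
  have hLE : t.IsLE X (a + (((b - a).toNat : ℕ) : ℤ)) :=
    t.isLE_of_le X b _ (by have := Int.self_le_toNat (b - a); lia)
  exact splits_of_width t _ X a ha hLE p hp

end Groth.Agent.S19189
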