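import Groth.Statements.S19190
-- import your own Groth.Agent.* helpers here

set_option autoImplicit false
universe w v u v' u'
open CategoryTheory CategoryTheory.Limits CategoryTheory.Pretriangulated CategoryTheory.Triangulated
open CohDer

namespace Groth.Agent.S19190

section helpers

variable {A : Type w} [CommRing A] (S : Submonoid A)
  {T : Type u} [Category.{v} T] [Preadditive T] [Linear A T] [HasZeroObject T] [HasShift T ℤ]
  [∀ n : ℤ, (shiftFunctor T n).Additive] [∀ n : ℤ, (shiftFunctor T n).Linear A]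
  [Pretriangulated T]

/-- Objects whose identity is killed by an element of `S`. -/
def tors : ObjectProperty T := fun Z => ∃ s : A, s ∈ S ∧ s • 𝟙 Z = 0

instance tors_iso : (tors (T := T) S).IsClosedUnderIsomorphisms where
  of_iso {X Y} e := by
    rintro ⟨s, hs, h⟩
    refine ⟨s, hs, ?_⟩
    have h1 : s • 𝟙 Y = e.inv ≫ (s • 𝟙 X) ≫ e.hom := by
      simp [Linear.smul_comp, Linear.comp_smul]
    rw [h1, h]
    simp

instance tors_zero : (tors (T := T) S).ContainsZero where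
  exists_zero := ⟨_, isZero_zero T, 1, S.one_mem, (isZero_zero T).eq_of_src _ _⟩

instance tors_shift : (tors (T := T) S).IsStableUnderShift ℤ where
  isStableUnderShiftBy a :=
    { le_shift := by
        rintro X ⟨s, hs, h⟩
        rw [ObjectProperty.prop_shift_iff]
        refine ⟨s, hs, ?_⟩
        have h1 := congrArg (fun f => (shiftFunctor T a).map f) h
        simpa [Functor.map_smul] using h1 }

instance tors_ext : (tors (T := T) S).IsTriangulatedClosed₂ :=
  ObjectProperty.IsTriangulatedClosed₂.mk' (by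
    rintro Tr hTr ⟨s₁, hs₁, h₁⟩ ⟨s₃, hs₃, h₃⟩
    refine ⟨s₁ * s₃, S.mul_mem hs₁ hs₃, ?_⟩
    have e1 : (s₃ • 𝟙 Tr.obj₂) ≫ Tr.mor₂ = 0 := by
      have h2 : (s₃ • 𝟙 Tr.obj₂) ≫ Tr.mor₂ = Tr.mor₂ ≫ (s₃ • 𝟙 Tr.obj₃) := by
        simp [Linear.smul_comp, Linear.comp_smul]
      rw [h2, h₃, comp_zero]
    obtain ⟨w, hw⟩ := Triangle.coyoneda_exact₂ Tr hTr _ e1
    have h3 : (s₁ * s₃) • 𝟙 Tr.obj₂ = w ≫ (s₁ • 𝟙 Tr.obj₁) ≫ Tr.mor₁ := by
      rw [mul_smul, hw]
      simp [Linear.smul_comp, Linear.comp_smul]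
    rw [h3, h₁]
    simp)

instance tors_tri : (tors (T := T) S).IsTriangulated where

instance tors_retract : (tors (T := T) S).IsStableUnderRetracts where
  of_retract {X Y} r := by
    rintro ⟨s, hs, h⟩
    refine ⟨s, hs, ?_⟩
    have h1 : s • 𝟙 X = r.i ≫ (s • 𝟙 Y) ≫ r.r := by
      simp [Linear.smul_comp, Linear.comp_smul]
    rw [h1, h]
    simp

theorem tors_cone (X : T) (f : A) (hf : f ∈ S) (Z : T) (g : X ⟶ Z) (h : Z ⟶ X⟦(1 : ℤ)⟧)
    (hT : Triangle.mk (f • 𝟙 X) g h ∈ distTriang T) : tors S Z := by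
  refine ⟨f * f, S.mul_mem hf hf, ?_⟩
  have e1 : (f • 𝟙 Z) ≫ h = 0 := by
    have h31 : h ≫ (f • 𝟙 X)⟦(1 : ℤ)⟧' = 0 := comp_distTriang_mor_zero₃₁ _ hT
    have h2 : (f • 𝟙 Z) ≫ h = h ≫ (f • 𝟙 X)⟦(1 : ℤ)⟧' := by
      rw [Functor.map_smul]
      simp [Linear.smul_comp, Linear.comp_smul]
    rw [h2, h31]
  obtain ⟨w, hw⟩ : ∃ w : Z ⟶ X, f • 𝟙 Z = w ≫ g := Triangle.coyoneda_exact₃ _ hT _ e1
  have h12 : (f • 𝟙 X) ≫ g = 0 := comp_distTriang_mor_zero₁₂ _ hT
  have h3 : (f * f) • 𝟙 Z = w ≫ ((f • 𝟙 X) ≫ g) := by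
    rw [mul_smul, hw]
    simp [Linear.smul_comp, Linear.comp_smul]
  rw [h3, h12, comp_zero]

theorem exists_smul_id_factor (U : ObjectProperty T) (hle : U ≤ tors S) {X' X : T} (t : X' ⟶ X)
    (ht : U.trW t) : ∃ s : A, s ∈ S ∧ ∃ w : X ⟶ X', w ≫ t = s • 𝟙 X := by
  obtain ⟨Z, g, h, hT, hZ⟩ := ht
  obtain ⟨s, hs, hsZ⟩ := hle Z hZ
  have e1 : (s • 𝟙 X) ≫ g = 0 := by
    have h2 : (s • 𝟙 X) ≫ g = g ≫ (s • 𝟙 Z) := by
      simp [Linear.smul_comp, Linear.comp_smul]
    rw [h2, hsZ, comp_zero]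
  obtain ⟨w, hw⟩ := Triangle.coyoneda_exact₂ _ hT _ e1
  exact ⟨s, hs, w, hw.symm⟩

end helpers

/-- Let `A` be a commutative ring, `S` a multiplicative subset of `A` and `T` an `A`-linear triangulated
category (octahedron axiom included; the shift functors are `A`-linear). Call an object of `T`
`S`-torsion when it lies in the smallest thick subcategory `U` of `T` (a property of objects
containing zero, stable under shifts, extensions, isomorphisms and direct factors) containing every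
cone of an endomorphism `f • 𝟙 X` with `f ∈ S`. Let `Q : T ⥤ E` exhibit `E` as the localization of
`T` at the morphisms whose cone lies in `U` (the Verdier quotient `T/U`), where `E` is preadditive
and `A`-linear and `Q` is `A`-linear. Then for all objects `X`, `Y` of `T` the `A`-linear map
`Hom_T(X, Y) → Hom_E(Q X, Q Y)` given by `Q` exhibits its target as the localization of `Hom_T(X,
Y)` at `S`. Since `Q` is essentially surjective, this says that the comparison functor from `T/U` to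
the category having the objects of `T` and morphism modules `Hom_T(X, Y) ⊗_A S⁻¹A` is an
equivalence. -/
theorem result
    {A : Type w} [CommRing A] (S : Submonoid A)
    {T : Type u} [Category.{v} T] [Preadditive T] [Linear A T] [HasZeroObject T] [HasShift T ℤ]
    [∀ n : ℤ, (shiftFunctor T n).Additive] [∀ n : ℤ, (shiftFunctor T n).Linear A]
    [Pretriangulated T] [IsTriangulated T]
    (U : ObjectProperty T) [U.IsTriangulated] [U.IsClosedUnderIsomorphisms] [U.IsStableUnderRetracts]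
    (hU : ∀ (X : T) (f : A), f ∈ S → ∀ (Z : T) (g : X ⟶ Z) (h : Z ⟶ X⟦(1 : ℤ)⟧),
      Triangle.mk (f • 𝟙 X) g h ∈ distTriang T → U Z)
    (hmin : ∀ (U' : ObjectProperty T) [U'.IsTriangulated] [U'.IsClosedUnderIsomorphisms]
      [U'.IsStableUnderRetracts],
      (∀ (X : T) (f : A), f ∈ S → ∀ (Z : T) (g : X ⟶ Z) (h : Z ⟶ X⟦(1 : ℤ)⟧),
        Triangle.mk (f • 𝟙 X) g h ∈ distTriang T → U' Z) → U ≤ U')
    {E : Type u'} [Category.{v'} E] [Preadditive E] [Linear A E]
    (Q : T ⥤ E) [Q.Additive] [Q.Linear A] [Q.IsLocalization U.trW] (X Y : T) :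
    IsLocalizedModule S (Q.mapLinearMap A : (X ⟶ Y) →ₗ[A] (Q.obj X ⟶ Q.obj Y)) := by
  have hle : U ≤ tors S := hmin (tors S) (fun X f hf Z g h hT => tors_cone S X f hf Z g h hT)
  have hW : ∀ (s : A), s ∈ S → ∀ X : T, U.trW (s • 𝟙 X) := by
    intro s hs X
    obtain ⟨Z, g, h, hT⟩ := distinguished_cocone_triangle (s • 𝟙 X)
    exact ⟨Z, g, h, hT, hU X s hs Z g h hT⟩
  have hiso : ∀ (s : A), s ∈ S → ∀ X : T, IsIso (s • 𝟙 (Q.obj X)) := by
    intro s hs X
    have h1 := Localization.inverts Q U.trW _ (hW s hs X)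
    rwa [Functor.map_smul, Q.map_id] at h1
  refine ⟨?_, ?_, ?_⟩
  · rintro ⟨s, hs⟩
    rw [Module.End.isUnit_iff]
    have := hiso s hs X
    constructor
    · intro φ ψ hφψ
      simp only [Module.algebraMap_end_apply] at hφψ
      have h1 : (s • 𝟙 (Q.obj X)) ≫ φ = (s • 𝟙 (Q.obj X)) ≫ ψ := by
        simpa [Linear.smul_comp] using hφψ
      exact (cancel_epi _).1 h1
    · intro ψ
      refine ⟨inv (s • 𝟙 (Q.obj X)) ≫ ψ, ?_⟩
      simp only [Module.algebraMap_end_apply]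
      have h1 : s • (inv (s • 𝟙 (Q.obj X)) ≫ ψ) =
          (s • 𝟙 (Q.obj X)) ≫ inv (s • 𝟙 (Q.obj X)) ≫ ψ := by
        rw [Linear.smul_comp, Category.id_comp]
      rw [h1, IsIso.hom_inv_id_assoc]
  · intro y
    obtain ⟨φ, hφ⟩ := Localization.exists_rightFraction Q U.trW y
    obtain ⟨s, hs, w, hw⟩ := exists_smul_id_factor S U hle φ.s φ.hs
    refine ⟨(w ≫ φ.f, ⟨s, hs⟩), ?_⟩
    show s • y = Q.map (w ≫ φ.f)
    have h1 : Q.map φ.s ≫ y = Q.map φ.f := by
      rw [hφ]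
      exact φ.map_s_comp_map Q _
    have h2 : Q.map w ≫ Q.map φ.s = s • 𝟙 (Q.obj X) := by
      rw [← Q.map_comp, hw, Functor.map_smul, Q.map_id]
    calc s • y = (s • 𝟙 (Q.obj X)) ≫ y := by simp [Linear.smul_comp]
      _ = Q.map w ≫ Q.map φ.s ≫ y := by rw [← h2, Category.assoc]
      _ = Q.map (w ≫ φ.f) := by rw [h1, Q.map_comp]
  · intro x₁ x₂ hx
    have hx' : Q.map x₁ = Q.map x₂ := hx
    obtain ⟨Z, t, ht, fac⟩ := (MorphismProperty.map_eq_iff_precomp Q U.trW x₁ x₂).1 hx'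
    obtain ⟨s, hs, w, hw⟩ := exists_smul_id_factor S U hle t ht
    refine ⟨⟨s, hs⟩, ?_⟩
    show s • x₁ = s • x₂
    calc s • x₁ = (s • 𝟙 X) ≫ x₁ := by simp [Linear.smul_comp]
      _ = w ≫ t ≫ x₁ := by rw [← hw, Category.assoc]
      _ = w ≫ t ≫ x₂ := by rw [fac]
      _ = (s • 𝟙 X) ≫ x₂ := by rw [← hw, Category.assoc]
      _ = s • x₂ := by simp [Linear.smul_comp]

end Groth.Agent.S19190
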