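import Groth.Statements.S19191
-- import your own Groth.Agent.* helpers here

set_option autoImplicit false
universe w v u v' u'
open CategoryTheory CategoryTheory.Limits CategoryTheory.Pretriangulated CategoryTheory.Triangulated
open CohDer

namespace Groth.Agent.S19191

theorem id_eq_zero_of_isIso_map_zero
    {T : Type u} [Category.{v} T] [Preadditive T]
    {E : Type u'} [Category.{v'} E] [Preadditive E]
    (Q : T ⥤ E) [Q.Additive] {X Y : T} (f : X ⟶ Y) (hf : f = 0) (hiso : IsIso (Q.map f)) :
    𝟙 (Q.obj X) = 0 := by
  have h2 : Q.map f = 0 := by rw [hf, Q.map_zero]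
  refine (cancel_mono (Q.map f)).1 ?_
  rw [h2]
  simp

/-- Let `A` be a commutative ring, `T` an `A`-linear triangulated category (octahedron axiom included;
shift functors `A`-linear), `U` a thick subcategory of `T` (a property of objects containing zero,
stable under shifts, extensions, isomorphisms and direct factors), and `Q : T ⥤ E` a localization of
`T` at the morphisms whose cone lies in `U` (the Verdier quotient `T/U`), where `E` is preadditive
and `A`-linear and `Q` is `A`-linear. For an object `X` of `T` the following two conditions are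
equivalent: (i) `X` lies in `U`; (ii) for every maximal ideal `m` of `A` the image of `X` in the
category obtained from `T/U` by tensoring the morphism modules with `A_m` is zero, i.e. some element
of `A` outside `m` annihilates the identity of `Q X`. (The published statement also lists a third
equivalent condition, phrased with idempotent completions of the localized categories; it is not
asserted here.) -/
theorem result
    {A : Type w} [CommRing A]
    {T : Type u} [Category.{v} T] [Preadditive T] [Linear A T] [HasZeroObject T] [HasShift T ℤ]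
    [∀ n : ℤ, (shiftFunctor T n).Additive] [∀ n : ℤ, (shiftFunctor T n).Linear A]
    [Pretriangulated T] [IsTriangulated T]
    (U : ObjectProperty T) [U.IsTriangulated] [U.IsClosedUnderIsomorphisms] [U.IsStableUnderRetracts]
    {E : Type u'} [Category.{v'} E] [Preadditive E] [Linear A E]
    (Q : T ⥤ E) [Q.Additive] [Q.Linear A] [Q.IsLocalization U.trW] (X : T) :
    U X ↔ ∀ m : Ideal A, m.IsMaximal → ∃ s : A, s ∉ m ∧ s • 𝟙 (Q.obj X) = 0 := by
  constructor
  · intro hX m hm
    refine ⟨1, ?_, ?_⟩
    · intro h1
      exact hm.ne_top ((Ideal.eq_top_iff_one _).2 h1)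
    · rw [one_smul]
      have hT := contractible_distinguished X
      have hW := ObjectProperty.trW.mk' U hT hX
      exact id_eq_zero_of_isIso_map_zero Q _ rfl (Localization.inverts Q U.trW _ hW)
  · intro h
    have hid : 𝟙 (Q.obj X) = 0 := by
      by_contra hne
      let I : Ideal A := LinearMap.ker (LinearMap.toSpanSingleton A (Q.obj X ⟶ Q.obj X) (𝟙 _))
      have hI : I ≠ ⊤ := by
        intro htop
        apply hne
        have h1 : (1 : A) ∈ I := htop ▸ Submodule.mem_top
        simpa [I] using h1
      obtain ⟨m, hm, hIm⟩ := Ideal.exists_le_maximal I hI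
      obtain ⟨s, hs, hs0⟩ := h m hm
      apply hs
      apply hIm
      simpa [I] using hs0
    have hmap : Q.map (𝟙 X) = Q.map (0 : X ⟶ X) := by
      rw [Q.map_id, Q.map_zero, hid]
    obtain ⟨Z, s, hs, fac⟩ := (MorphismProperty.map_eq_iff_postcomp Q U.trW (𝟙 X) 0).1 hmap
    rw [Category.id_comp, zero_comp] at fac
    subst fac
    obtain ⟨C, g, hh, hT, hC⟩ := hs
    have : Epi hh := Triangle.epi₃ _ hT rfl
    have : IsSplitEpi hh := isSplitEpi_of_epi hh
    have hr : Retract (X⟦(1 : ℤ)⟧) C := ⟨section_ hh, hh, IsSplitEpi.id hh⟩
    have hX1 : U (X⟦(1 : ℤ)⟧) := ObjectProperty.prop_of_retract U hr hC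
    exact (U.prop_shift_iff_of_isStableUnderShift X (1 : ℤ)).1 hX1

end Groth.Agent.S19191
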