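import Groth.Statements.S19195
import Groth.Agent.H29.FibReg
set_option maxHeartbeats 400000
set_option linter.style.haveILetI false

set_option autoImplicit false
universe u
open TensorProduct
open RelS1

namespace Groth.Agent.S19195

/-- Let A be a commutative ring, B a finitely presented A-algebra and M a finitely presented B-module
which is flat over A. Suppose that for every prime p of A, with residue field κ(p), the fibre module
(B ⊗_A κ(p)) ⊗_B M over the fibre ring B ⊗_A κ(p) satisfies Serre's condition (S_1) in the form:
each of its associated primes is a minimal prime of its annihilator. Let a be an element of B whose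
image a ⊗ 1 in every fibre ring B ⊗_A κ(p) lies in no minimal prime of the annihilator of the fibre
module. Then a is a non-zero-divisor on M. (Since all hypotheses are preserved by base change of A
and by passing to affine opens, this expresses that a flat finitely presented sheaf with (S_1)
fibres is pure relative to the base after every base change. The published statement is an
equivalence for sheaves on a locally finitely presented morphism, quantified over all base changes;
this row states its direct implication in affine form.) -/
theorem result (A B M : Type u) [CommRing A] [CommRing B] [Algebra A B]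
    [Algebra.FinitePresentation A B] [AddCommGroup M] [Module B M] [Module A M]
    [IsScalarTower A B M] [Module.FinitePresentation B M] [Module.Flat A M]
    (hS1 : ∀ (p : Ideal A) [p.IsPrime],
      associatedPrimes (B ⊗[A] p.ResidueField) ((B ⊗[A] p.ResidueField) ⊗[B] M) ⊆
        (Module.annihilator (B ⊗[A] p.ResidueField) ((B ⊗[A] p.ResidueField) ⊗[B] M)).minimalPrimes)
    (a : B)
    (ha : ∀ (p : Ideal A) [p.IsPrime],
      ∀ P ∈ (Module.annihilator (B ⊗[A] p.ResidueField) ((B ⊗[A] p.ResidueField) ⊗[B] M)).minimalPrimes,
        a ⊗ₜ[A] (1 : p.ResidueField) ∉ P) :
    IsSMulRegular M a := by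
  -- fibre regularity for every prime of A
  have hfib : ∀ (p : Ideal A) [p.IsPrime],
      IsSMulRegular ((B ⊗[A] p.ResidueField) ⊗[B] M)
        (a ⊗ₜ[A] (1 : p.ResidueField) : B ⊗[A] p.ResidueField) := by
    intro p _
    haveI : IsNoetherianRing (p.ResidueField ⊗[A] B) :=
      Algebra.FiniteType.isNoetherianRing p.ResidueField (p.ResidueField ⊗[A] B)
    haveI : IsNoetherianRing (B ⊗[A] p.ResidueField) :=
      isNoetherianRing_of_ringEquiv (p.ResidueField ⊗[A] B)
        (Algebra.TensorProduct.comm A p.ResidueField B).toRingEquiv
    exact Groth.Agent.H29.FibReg.isSMulRegular_of_notMem_minimalPrimes (hS1 p) _ (ha p)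
  have key : ∀ m : M, a • m = 0 → m = 0 := by
    intro m hm
    apply Module.eq_zero_of_localization_maximal (R := B)
      (fun P _ => LocalizedModule P.primeCompl M)
      (fun P _ => LocalizedModule.mkLinearMap P.primeCompl M)
    intro q hq
    haveI : q.IsPrime := hq.isPrime
    haveI : (q.comap (algebraMap A B)).IsPrime := Ideal.comap_isPrime _ _
    have hreg := Groth.Agent.H29.FibReg.isSMulRegular_localizedModule (A := A) (M := M) a q
      (fun y hy => Groth.Agent.H29.FibReg.exists_smul_mem_of_smul_mem
        (q.comap (algebraMap A B)) a (hfib _) y hy)
    apply hreg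
    change algebraMap B (Localization.AtPrime q) a • LocalizedModule.mkLinearMap q.primeCompl M m =
      algebraMap B (Localization.AtPrime q) a • 0
    rw [smul_zero, algebraMap_smul, ← map_smul, hm, map_zero]
  intro x y hxy
  have h1 : a • (x - y) = 0 := by
    rw [smul_sub]
    exact sub_eq_zero.mpr hxy
  exact sub_eq_zero.mp (key _ h1)

end Groth.Agent.S19195
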