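import Groth.Statements.S19198
import Mathlib
import Groth.Agent.H54.LocalIso2
import Groth.Agent.H95.StalkPrimes

set_option autoImplicit false
universe u
open CategoryTheory AlgebraicGeometry
open Models

namespace Groth.Agent.S19198


section Helpers
open AlgebraicGeometry CategoryTheory CategoryTheory.Limits TopologicalSpace Topology IsLocalRing Groth.Agent.H54

lemma prime_eq_max (A : Type*) [CommRing A] [IsDomain A] [IsLocalRing A] [IsNoetherianRing A]
    (hdim : ringKrullDim A = 1) (P : Ideal A) (hP0 : P ≠ ⊥) (hP : P.IsPrime) :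
    P = maximalIdeal A := by
  by_contra hne
  haveI := hP
  have hlt : P < maximalIdeal A := lt_of_le_of_ne (IsLocalRing.le_maximalIdeal hP.ne_top) hne
  have h1 : P.height < (maximalIdeal A).height := Ideal.height_strict_mono_of_isPrime hlt
  have h2 : (((maximalIdeal A).height : ℕ∞) : WithBot ℕ∞) = 1 := by
    rw [IsLocalRing.maximalIdeal_height_eq_ringKrullDim, hdim]
  have h3 : (maximalIdeal A).height = 1 := by exact_mod_cast h2
  rw [h3] at h1
  have h4 : P.height = 0 := ENat.lt_one_iff_eq_zero.mp h1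
  rw [Ideal.height_eq_zero_iff] at h4
  have h5 : P ≤ ⊥ := h4.2 ⟨Ideal.isPrime_bot, le_rfl⟩ bot_le
  exact hP0 (le_bot_iff.mp h5)

lemma pow_regular {B : Type*} [CommRing B] (w : B) (h : ∀ b : B, w * b = 0 → b = 0) (n : ℕ) (b : B)
    (hb : w ^ n * b = 0) : b = 0 := by
  induction n generalizing b with
  | zero => simpa using hb
  | succ n ih =>
    apply h
    apply ih
    rw [← mul_assoc, ← pow_succ]
    exact hb

lemma bijective_of_square {O K B L : Type*} [CommRing O] [IsDomain O] [ValuationRing O]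
    [CommRing K] [Nontrivial K] [CommRing B] [CommRing L]
    (σ : O →+* K) (τ : B →+* L) (φ : O →+* B) (φζ : K →+* L)
    (hcomm : ∀ a, φζ (σ a) = τ (φ a))
    (hφζ : Function.Bijective φζ) (hσ : Function.Injective σ) (hτ : Function.Injective τ)
    (hσsurj : ∀ k : K, ∃ a s : O, IsUnit (σ s) ∧ k * σ s = σ a)
    (hloc : ∀ a : O, IsUnit (φ a) → IsUnit a) : Function.Bijective φ := by
  refine ⟨fun x y hxy => hσ (hφζ.1 (by rw [hcomm, hcomm, hxy])), fun b => ?_⟩
  obtain ⟨k, hk⟩ := hφζ.2 (τ b)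
  obtain ⟨a, s, hs, hks⟩ := hσsurj k
  by_cases hsa : s ∣ a
  · obtain ⟨t, ht⟩ := hsa
    refine ⟨t, hτ ?_⟩
    rw [← hcomm, ← hk]
    congr 1
    have h1 : σ s * σ t = σ s * k := by rw [← map_mul, ← ht, ← hks, mul_comm]
    exact hs.mul_left_cancel h1
  · exfalso
    obtain ⟨t, ht⟩ := (ValuationRing.dvd_total a s).resolve_right hsa
    have htu : ¬ IsUnit t := by
      rintro ⟨u, rfl⟩
      exact hsa ⟨↑u⁻¹, by rw [ht, mul_assoc, Units.mul_inv, mul_one]⟩
    have e1 : σ s = σ a * σ t := by rw [ht, map_mul]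
    have hσa : IsUnit (σ a) := by
      rw [e1] at hs
      exact isUnit_of_mul_isUnit_left hs
    have h1 : k * σ t = 1 := by
      have h0 : σ a * (k * σ t) = σ a * 1 := by
        calc σ a * (k * σ t) = k * (σ a * σ t) := by ring
          _ = k * σ s := by rw [e1]
          _ = σ a := hks
          _ = σ a * 1 := (mul_one _).symm
      exact hσa.mul_left_cancel h0
    have h2 : τ (b * φ t) = τ 1 := by
      rw [map_mul, ← hcomm, ← hk, ← map_mul, h1, map_one, map_one]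
    have h3 : b * φ t = 1 := hτ h2
    have h4 : IsUnit (φ t) := ⟨⟨φ t, b, by rw [mul_comm]; exact h3, h3⟩, rfl⟩
    exact htu (hloc t h4)

lemma germ_isUnit_iff {X : Scheme.{u}} {x y : X} (h : x ⤳ y) (t : Γ(X, ⊤)) :
    IsUnit (X.presheaf.germ ⊤ x trivial t) ↔
      X.presheaf.germ ⊤ y trivial t ∉
        (maximalIdeal (X.presheaf.stalk x)).comap (X.presheaf.stalkSpecializes h).hom := by
  have e : (X.presheaf.stalkSpecializes h).hom (X.presheaf.germ ⊤ y trivial t) =
      X.presheaf.germ ⊤ x trivial t :=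
    TopCat.Presheaf.germ_stalkSpecializes_apply X.presheaf (U := ⊤) trivial h t
  rw [Ideal.mem_comap, e, mem_maximalIdeal, mem_nonunits_iff, not_not]

lemma stalkSpecializes_surj {X : Scheme.{u}} {x y : X} (h : x ⤳ y) (k : X.presheaf.stalk x) :
    ∃ a s : X.presheaf.stalk y, IsUnit ((X.presheaf.stalkSpecializes h).hom s) ∧
      k * (X.presheaf.stalkSpecializes h).hom s = (X.presheaf.stalkSpecializes h).hom a := by
  obtain ⟨W, hW0, hyW, -⟩ := Opens.isBasis_iff_nbhd.mp X.isBasis_affineOpens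
    (show y ∈ (⊤ : X.Opens) from trivial)
  have hW : IsAffineOpen W := hW0
  have hxW : x ∈ W := h.mem_open W.2 hyW
  letI := X.presheaf.algebra_section_stalk ⟨x, hxW⟩
  haveI := IsAffineOpen.isLocalization_stalk hW ⟨x, hxW⟩
  obtain ⟨⟨a₀, s₀⟩, hk⟩ := IsLocalization.surj (hW.primeIdealOf ⟨x, hxW⟩).asIdeal.primeCompl k
  have e : ∀ a : Γ(X, W), (X.presheaf.stalkSpecializes h).hom (X.presheaf.germ W y hyW a) =
      X.presheaf.germ W x hxW a :=
    fun a => TopCat.Presheaf.germ_stalkSpecializes_apply X.presheaf hyW h a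
  refine ⟨X.presheaf.germ W y hyW a₀, X.presheaf.germ W y hyW s₀.1, ?_, ?_⟩
  · rw [e]
    exact IsLocalization.map_units (X.presheaf.stalk x) s₀
  · rw [e, e]
    exact hk

lemma stalkSpecializes_eq_zero {X : Scheme.{u}} {x y : X} (h : x ⤳ y) (b : X.presheaf.stalk y)
    (hb : (X.presheaf.stalkSpecializes h).hom b = 0) :
    ∃ s : X.presheaf.stalk y, IsUnit ((X.presheaf.stalkSpecializes h).hom s) ∧ s * b = 0 := by
  obtain ⟨W, hW0, hyW, -⟩ := Opens.isBasis_iff_nbhd.mp X.isBasis_affineOpens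
    (show y ∈ (⊤ : X.Opens) from trivial)
  have hW : IsAffineOpen W := hW0
  have hxW : x ∈ W := h.mem_open W.2 hyW
  have e : ∀ a : Γ(X, W), (X.presheaf.stalkSpecializes h).hom (X.presheaf.germ W y hyW a) =
      X.presheaf.germ W x hxW a :=
    fun a => TopCat.Presheaf.germ_stalkSpecializes_apply X.presheaf hyW h a
  letI algy := X.presheaf.algebra_section_stalk ⟨y, hyW⟩
  haveI locy := IsAffineOpen.isLocalization_stalk hW ⟨y, hyW⟩
  obtain ⟨⟨b₀, u₀⟩, hbu⟩ := IsLocalization.surj (hW.primeIdealOf ⟨y, hyW⟩).asIdeal.primeCompl b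
  have hbu' : b * X.presheaf.germ W y hyW u₀.1 = X.presheaf.germ W y hyW b₀ := hbu
  have hu : IsUnit (X.presheaf.germ W y hyW u₀.1) :=
    IsLocalization.map_units (X.presheaf.stalk y) u₀
  have hb₀ : X.presheaf.germ W x hxW b₀ = 0 := by
    rw [← e, ← hbu', map_mul, hb, zero_mul]
  letI algx := X.presheaf.algebra_section_stalk ⟨x, hxW⟩
  haveI locx := IsAffineOpen.isLocalization_stalk hW ⟨x, hxW⟩
  obtain ⟨s₀, hs₀⟩ := (IsLocalization.map_eq_zero_iff
    (hW.primeIdealOf ⟨x, hxW⟩).asIdeal.primeCompl (X.presheaf.stalk x) b₀).mp hb₀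
  refine ⟨X.presheaf.germ W y hyW s₀.1, ?_, ?_⟩
  · rw [e]
    exact IsLocalization.map_units (X.presheaf.stalk x) s₀
  · have h1 : X.presheaf.germ W y hyW s₀.1 * b * X.presheaf.germ W y hyW u₀.1 = 0 := by
      rw [mul_assoc, hbu', ← map_mul, hs₀, map_zero]
    exact (hu.mul_left_eq_zero).mp h1

lemma generization_unique {X : Scheme.{u}} {x y₁ y₂ : X} (h₁ : y₁ ⤳ x) (h₂ : y₂ ⤳ x)
    (hP : (maximalIdeal (X.presheaf.stalk y₁)).comap (X.presheaf.stalkSpecializes h₁).hom =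
      (maximalIdeal (X.presheaf.stalk y₂)).comap (X.presheaf.stalkSpecializes h₂).hom) :
    y₁ = y₂ := by
  obtain ⟨W, hW0, hxW, -⟩ := Opens.isBasis_iff_nbhd.mp X.isBasis_affineOpens
    (show x ∈ (⊤ : X.Opens) from trivial)
  have hW : IsAffineOpen W := hW0
  have h₁W : y₁ ∈ W := h₁.mem_open W.2 hxW
  have h₂W : y₂ ∈ W := h₂.mem_open W.2 hxW
  have e1 := Groth.Agent.H95.StalkPrimes.comap_comap_eq hW h₁ hxW h₁W
  have e2 := Groth.Agent.H95.StalkPrimes.comap_comap_eq hW h₂ hxW h₂W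
  rw [hP, e2] at e1
  have e3 : hW.primeIdealOf ⟨y₂, h₂W⟩ = hW.primeIdealOf ⟨y₁, h₁W⟩ := PrimeSpectrum.ext e1
  have e4 := congrArg (fun p => hW.fromSpec p) e3
  simp only [IsAffineOpen.fromSpec_primeIdealOf] at e4
  exact e4.symm

lemma isIso_stalkMap_of_isIso_restrict' {X Y : Scheme.{u}} (f : X ⟶ Y) (U : Y.Opens)
    [IsIso (f ∣_ U)] (x : X) (hx : x ∈ f ⁻¹ᵁ U) : IsIso (f.stalkMap x) := by
  have h := (MorphismProperty.isomorphisms CommRingCat).arrow_mk_iso_iff
    (morphismRestrictStalkMap f U ⟨x, hx⟩)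
  exact h.mp (inferInstance : IsIso ((f ∣_ U).stalkMap ⟨x, hx⟩))

theorem exists_openImmersion_nhd {X S : Scheme.{u}} (f : X ⟶ S) [LocallyOfFiniteType f] (x : X)
    [S.IsGermInjectiveAt (f x)] (hx : IsIso (f.stalkMap x)) :
    ∃ U : X.Opens, x ∈ U ∧ IsOpenImmersion (U.ι ≫ f) := by
  haveI := hx
  have e0 : (𝟙 S : S ⟶ S) (f x) = f x := rfl
  have h' : f.stalkMap x ≫ inv (f.stalkMap x) =
      S.presheaf.stalkSpecializes (Inseparable.of_eq e0).specializes ≫
        (𝟙 S : S ⟶ S).stalkMap (f x) := by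
    rw [IsIso.hom_inv_id, Scheme.Hom.stalkMap_id]
    erw [TopCat.Presheaf.stalkSpecializes_refl, Category.id_comp]
  obtain ⟨V₁, hyV₁, g, hg₁, hg₂⟩ :=
    spread_out_of_isGermInjective (𝟙 S) f e0 (inv (f.stalkMap x)) h'
  obtain ⟨U, hxU, V, f', hf', -, hov⟩ :=
    Groth.Agent.H54.local_iso_of_spread f (𝟙 S) (f.stalkMap x)
      (⊤ : X.Opens) trivial ((⊤ : X.Opens).ι ≫ f)
      (by
        rw [← Category.assoc, Scheme.Opens.fromSpecStalkOfMem_ι,
          Scheme.SpecMap_stalkMap_fromSpecStalk])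
      (Category.comp_id _) V₁ hyV₁ g hg₁ hg₂
  haveI := hf'
  refine ⟨U, hxU, ?_⟩
  rw [← hov, Category.comp_id]
  infer_instance

theorem isIso_morphismRestrict_opensRange_of_dense {X Y : Scheme.{u}} (f : X ⟶ Y)
    [IsSeparated f] (U : X.Opens) [IsOpenImmersion (U.ι ≫ f)] (D : Set X) (hD : Dense D)
    (hDinj : ∀ a ∈ D, ∀ b : X, f a = f b → a = b) :
    IsIso (f ∣_ (U.ι ≫ f).opensRange) := by
  have hrange : Set.range (U.ι ≫ f).opensRange.ι ⊆ Set.range (U.ι ≫ f) := by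
    rw [Scheme.Opens.range_ι]; exact (Scheme.Hom.coe_opensRange (U.ι ≫ f)).subset
  have hl : IsOpenImmersion.lift (U.ι ≫ f) (U.ι ≫ f).opensRange.ι hrange ≫ (U.ι ≫ f) =
      (U.ι ≫ f).opensRange.ι := IsOpenImmersion.lift_fac _ _ _
  have hs : (IsOpenImmersion.lift (U.ι ≫ f) (U.ι ≫ f).opensRange.ι hrange ≫ U.ι) ≫ f =
      (U.ι ≫ f).opensRange.ι := by rw [Category.assoc]; exact hl
  have hrange' : Set.range (IsOpenImmersion.lift (U.ι ≫ f) (U.ι ≫ f).opensRange.ι hrange ≫ U.ι) ⊆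
      Set.range (f ⁻¹ᵁ (U.ι ≫ f).opensRange).ι := by
    rw [Scheme.Opens.range_ι]
    rintro _ ⟨v, rfl⟩
    show f ((IsOpenImmersion.lift (U.ι ≫ f) (U.ι ≫ f).opensRange.ι hrange ≫ U.ι) v) ∈
      (U.ι ≫ f).opensRange
    rw [← Scheme.Hom.comp_apply, hs]
    exact v.2
  have hs' : IsOpenImmersion.lift (f ⁻¹ᵁ (U.ι ≫ f).opensRange).ι
      (IsOpenImmersion.lift (U.ι ≫ f) (U.ι ≫ f).opensRange.ι hrange ≫ U.ι) hrange' ≫
        (f ⁻¹ᵁ (U.ι ≫ f).opensRange).ι =
      IsOpenImmersion.lift (U.ι ≫ f) (U.ι ≫ f).opensRange.ι hrange ≫ U.ι :=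
    IsOpenImmersion.lift_fac _ _ _
  generalize IsOpenImmersion.lift (f ⁻¹ᵁ (U.ι ≫ f).opensRange).ι
      (IsOpenImmersion.lift (U.ι ≫ f) (U.ι ≫ f).opensRange.ι hrange ≫ U.ι) hrange' = s' at hs'
  have hsec : s' ≫ (f ∣_ (U.ι ≫ f).opensRange) = 𝟙 _ := by
    rw [← cancel_mono (U.ι ≫ f).opensRange.ι, Category.assoc, morphismRestrict_ι,
      ← Category.assoc, hs', hs, Category.id_comp]
  haveI : IsOpenImmersion s' := by
    haveI : IsOpenImmersion (s' ≫ (f ⁻¹ᵁ (U.ι ≫ f).opensRange).ι) := by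
      rw [hs']
      haveI : IsOpenImmersion (IsOpenImmersion.lift (U.ι ≫ f) (U.ι ≫ f).opensRange.ι hrange) := by
        haveI : IsOpenImmersion
            (IsOpenImmersion.lift (U.ι ≫ f) (U.ι ≫ f).opensRange.ι hrange ≫ (U.ι ≫ f)) := by
          rw [hl]; infer_instance
        exact IsOpenImmersion.of_comp _ (U.ι ≫ f)
      infer_instance
    exact IsOpenImmersion.of_comp s' (f ⁻¹ᵁ (U.ι ≫ f).opensRange).ι
  haveI : IsClosedImmersion s' := by
    haveI : IsClosedImmersion (s' ≫ (f ∣_ (U.ι ≫ f).opensRange)) := by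
      rw [hsec]; infer_instance
    exact IsClosedImmersion.of_comp s' (f ∣_ (U.ι ≫ f).opensRange)
  have huniv : Set.range s' = Set.univ := by
    by_contra hne
    obtain ⟨t, ht⟩ : ((Set.range s')ᶜ).Nonempty := Set.nonempty_compl.mpr hne
    have hopen : IsOpen ((f ⁻¹ᵁ (U.ι ≫ f).opensRange).ι '' (Set.range s')ᶜ) :=
      (f ⁻¹ᵁ (U.ι ≫ f).opensRange).ι.isOpenEmbedding.isOpenMap _
        s'.isClosedEmbedding.isClosed_range.isOpen_compl
    obtain ⟨_, ⟨t', ht', rfl⟩, hy'D⟩ := (dense_iff_inter_open.mp hD) _ hopen ⟨_, ⟨t, ht, rfl⟩⟩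
    apply ht'
    refine ⟨(f ∣_ (U.ι ≫ f).opensRange) t', ?_⟩
    apply (f ⁻¹ᵁ (U.ι ≫ f).opensRange).ι.isOpenEmbedding.injective
    have e0 : s' ≫ (f ⁻¹ᵁ (U.ι ≫ f).opensRange).ι ≫ f = (U.ι ≫ f).opensRange.ι := by
      rw [← morphismRestrict_ι, ← Category.assoc, hsec, Category.id_comp]
    have e1 : f ((f ⁻¹ᵁ (U.ι ≫ f).opensRange).ι (s' ((f ∣_ (U.ι ≫ f).opensRange) t'))) =
        f ((f ⁻¹ᵁ (U.ι ≫ f).opensRange).ι t') := by
      have e2 : f ((f ⁻¹ᵁ (U.ι ≫ f).opensRange).ι (s' ((f ∣_ (U.ι ≫ f).opensRange) t'))) =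
          (s' ≫ (f ⁻¹ᵁ (U.ι ≫ f).opensRange).ι ≫ f) ((f ∣_ (U.ι ≫ f).opensRange) t') := by
        simp only [Scheme.Hom.comp_apply]
      rw [e2, e0]
      exact morphismRestrict_base_coe f _ t'
    exact (hDinj _ hy'D _ e1.symm).symm
  haveI : Surjective s' := ⟨Set.range_eq_univ.mp huniv⟩
  haveI : IsIso s' := (isIso_iff_isOpenImmersion_and_surjective s').mpr ⟨inferInstance, inferInstance⟩
  have hiso : IsIso (s' ≫ (f ∣_ (U.ι ≫ f).opensRange)) := by rw [hsec]; infer_instance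
  exact IsIso.of_isIso_comp_left s' (f ∣_ (U.ι ≫ f).opensRange)

theorem core {C Z : Scheme.{u}} [IsLocallyNoetherian C] (g : Z ⟶ C) [IsProper g] (ϖC : Γ(C, ⊤))
    (hregC : ∀ (y : C) (b : C.presheaf.stalk y), C.presheaf.germ ⊤ y trivial ϖC * b = 0 → b = 0)
    (hregZ : ∀ (y : Z) (b : Z.presheaf.stalk y),
      Z.presheaf.germ ⊤ y trivial (g.appTop ϖC) * b = 0 → b = 0)
    (hgen : IsIso (g ∣_ C.basicOpen ϖC)) (c : C) (hdom : IsDomain (C.presheaf.stalk c))
    (hnorm : IsIntegrallyClosed (C.presheaf.stalk c))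
    (hdim : ringKrullDim (C.presheaf.stalk c) = 1) :
    ∃ V : C.Opens, c ∈ V ∧ IsIso (g ∣_ V) := by
  classical
  by_cases hcW : c ∈ C.basicOpen ϖC
  · exact ⟨_, hcW, hgen⟩
  haveI := hgen
  have hWC : ∀ y : C, y ∈ C.basicOpen ϖC ↔ IsUnit (C.presheaf.germ ⊤ y trivial ϖC) :=
    fun y => Scheme.mem_basicOpen_top (f := ϖC) (x := y)
  have hWZ : ∀ y : Z, g y ∈ C.basicOpen ϖC ↔
      IsUnit (Z.presheaf.germ ⊤ y trivial (g.appTop ϖC)) := by
    intro y
    have h1 : g y ∈ C.basicOpen ϖC ↔ y ∈ g ⁻¹ᵁ C.basicOpen ϖC := Iff.rfl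
    rw [h1, Scheme.preimage_basicOpen_top, Scheme.mem_basicOpen_top]
  have hinj : ∀ y₁ y₂ : Z, g y₁ ∈ C.basicOpen ϖC → g y₁ = g y₂ → y₁ = y₂ := by
    intro y₁ y₂ h1 h12
    have h2 : g y₂ ∈ C.basicOpen ϖC := h12 ▸ h1
    have h3 := (g ∣_ C.basicOpen ϖC).isOpenEmbedding.injective (a₁ := ⟨y₁, h1⟩) (a₂ := ⟨y₂, h2⟩)
      (Subtype.ext ((morphismRestrict_base_coe g (C.basicOpen ϖC) ⟨y₁, h1⟩).trans
        (h12.trans (morphismRestrict_base_coe g (C.basicOpen ϖC) ⟨y₂, h2⟩).symm)))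
    exact congrArg Subtype.val h3
  haveI := hdom
  obtain ⟨ξ, hξc, hξP⟩ := Groth.Agent.H95.StalkPrimes.exists_generization c
    (⊥ : Ideal (C.presheaf.stalk c))
  have hne0 : C.presheaf.germ ⊤ c trivial ϖC ≠ 0 := by
    intro h0
    have : (1 : C.presheaf.stalk c) = 0 := hregC c 1 (by rw [h0, zero_mul])
    exact one_ne_zero this
  have hξW : ξ ∈ C.basicOpen ϖC := by
    rw [hWC, germ_isUnit_iff hξc ϖC, hξP, Ideal.mem_bot]
    exact hne0
  obtain ⟨ζ', hζ'⟩ := (g ∣_ C.basicOpen ϖC).surjective ⟨ξ, hξW⟩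
  have hζξ : g ζ'.1 = ξ :=
    (morphismRestrict_base_coe g _ ζ').symm.trans (congrArg Subtype.val hζ')
  obtain ⟨ζ, hζdef⟩ : ∃ ζ : Z, ζ = ζ'.1 := ⟨_, rfl⟩
  rw [← hζdef] at hζξ
  subst hζξ
  haveI hζiso : IsIso (g.stalkMap ζ) :=
    isIso_stalkMap_of_isIso_restrict' g (C.basicOpen ϖC) ζ hξW
  have hcl : IsClosed (g '' closure {ζ}) := g.isClosedMap _ isClosed_closure
  have hξmem : g ζ ∈ g '' closure {ζ} := ⟨ζ, subset_closure (Set.mem_singleton ζ), rfl⟩
  obtain ⟨z, hzcl, hzc⟩ : c ∈ g '' closure {ζ} := hξc.mem_closed hcl hξmem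
  have hζz : ζ ⤳ z := specializes_iff_mem_closure.mpr hzcl
  subst hzc
  haveI := hnorm
  have hprime := prime_eq_max (C.presheaf.stalk (g z)) hdim
  have h31 : (IsIntegrallyClosed (C.presheaf.stalk (g z)) ∧
      ∀ P : Ideal (C.presheaf.stalk (g z)), P ≠ ⊥ → P.IsPrime →
        P = maximalIdeal (C.presheaf.stalk (g z))) ↔ ValuationRing (C.presheaf.stalk (g z)) :=
    (tfae_of_isNoetherianRing_of_isLocalRing_of_isDomain (C.presheaf.stalk (g z))).out 3 1
  haveI hval : ValuationRing (C.presheaf.stalk (g z)) := h31.mp ⟨hnorm, hprime⟩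
  have hcmax : C.presheaf.germ ⊤ (g z) trivial ϖC ∈ maximalIdeal (C.presheaf.stalk (g z)) := by
    rw [mem_maximalIdeal, mem_nonunits_iff, ← hWC]
    exact hcW
  have hτ : Function.Injective (Z.presheaf.stalkSpecializes hζz).hom := by
    rw [injective_iff_map_eq_zero]
    intro b hb
    obtain ⟨s', hs'u, hs'b⟩ := stalkSpecializes_eq_zero hζz b hb
    have hrad : Z.presheaf.germ ⊤ z trivial (g.appTop ϖC) ∈ (Ideal.span {s'}).radical := by
      rw [Ideal.radical_eq_sInf, Ideal.mem_sInf]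
      rintro q ⟨hsq, hq⟩
      by_contra hϖq
      haveI := hq
      obtain ⟨y, hyz, hyq⟩ := Groth.Agent.H95.StalkPrimes.exists_generization z q
      have hyW : g y ∈ C.basicOpen ϖC := by
        rw [hWZ, germ_isUnit_iff hyz (g.appTop ϖC), hyq]
        exact hϖq
      have hgy : g y ⤳ g z := hyz.map g.continuous
      have hPy : (maximalIdeal (C.presheaf.stalk (g y))).comap
          (C.presheaf.stalkSpecializes hgy).hom = ⊥ := by
        by_contra hne
        have hmax := hprime _ hne (Ideal.comap_isPrime _ _)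
        have h5 := (germ_isUnit_iff hgy ϖC).mp ((hWC _).mp hyW)
        rw [hmax] at h5
        exact h5 hcmax
      have hyζ : y = ζ := hinj y ζ hyW (generization_unique hgy hξc (hPy.trans hξP.symm))
      subst hyζ
      have hs'q : s' ∈ q := hsq (Ideal.subset_span (Set.mem_singleton s'))
      rw [← hyq, Ideal.mem_comap, mem_maximalIdeal, mem_nonunits_iff] at hs'q
      exact hs'q hs'u
    obtain ⟨n, hn⟩ := Ideal.mem_radical_iff.mp hrad
    obtain ⟨t, ht⟩ := Ideal.mem_span_singleton'.mp hn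
    apply pow_regular _ (hregZ z) n b
    rw [← ht, mul_assoc, hs'b, mul_zero]
  have hσinj : Function.Injective (C.presheaf.stalkSpecializes hξc).hom := by
    rw [injective_iff_map_eq_zero]
    intro a ha
    have hmem : a ∈ (maximalIdeal (C.presheaf.stalk (g ζ))).comap
        (C.presheaf.stalkSpecializes hξc).hom := by
      rw [Ideal.mem_comap, ha]; exact zero_mem _
    rw [hξP, Ideal.mem_bot] at hmem
    exact hmem
  have hbij : Function.Bijective (g.stalkMap z).hom :=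
    bijective_of_square (C.presheaf.stalkSpecializes hξc).hom
      (Z.presheaf.stalkSpecializes hζz).hom (g.stalkMap z).hom (g.stalkMap ζ).hom
      (fun a => Scheme.Hom.stalkSpecializes_stalkMap_apply g ζ z hζz a)
      ((ConcreteCategory.isIso_iff_bijective (g.stalkMap ζ)).mp hζiso) hσinj hτ
      (fun k => stalkSpecializes_surj hξc k)
      (fun a ha => (isUnit_map_iff (g.stalkMap z).hom a).mp ha)
  have hziso : IsIso (g.stalkMap z) :=
    (ConcreteCategory.isIso_iff_bijective (g.stalkMap z)).mpr hbij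
  haveI : C.IsGermInjectiveAt (g z) := (inferInstance : C.IsGermInjective) (g z)
  obtain ⟨U, hzU, hU⟩ := exists_openImmersion_nhd g z hziso
  haveI := hU
  have hD : Dense {y : Z | g y ∈ C.basicOpen ϖC} := by
    rw [dense_iff_inter_open]
    rintro N hN ⟨y, hy⟩
    have hnn : ¬ IsNilpotent (Z.presheaf.germ ⊤ y trivial (g.appTop ϖC)) := by
      rintro ⟨n, hn⟩
      have : (1 : Z.presheaf.stalk y) = 0 :=
        pow_regular _ (hregZ y) n 1 (by rw [mul_one]; exact hn)
      exact one_ne_zero this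
    rw [nilpotent_iff_mem_prime] at hnn
    push Not at hnn
    obtain ⟨q, hq, hϖq⟩ := hnn
    haveI := hq
    obtain ⟨y', hy'y, hy'q⟩ := Groth.Agent.H95.StalkPrimes.exists_generization y q
    refine ⟨y', hy'y.mem_open hN hy, ?_⟩
    show g y' ∈ C.basicOpen ϖC
    rw [hWZ, germ_isUnit_iff hy'y (g.appTop ϖC), hy'q]
    exact hϖq
  exact ⟨(U.ι ≫ g).opensRange, ⟨⟨z, hzU⟩, rfl⟩,
    isIso_morphismRestrict_opensRange_of_dense g U _ hD (fun a ha b hab => hinj a b ha hab)⟩

lemma regular_germ {R : Type u} [CommRing R] [IsDomain R] {X : Scheme.{u}}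
    (π : X ⟶ Spec (CommRingCat.of R)) [Flat π] (ϖ : R) (hϖ : ϖ ≠ 0) (y : X)
    (b : X.presheaf.stalk y)
    (hb : X.presheaf.germ ⊤ y trivial
      (π.appTop ((Scheme.ΓSpecIso (CommRingCat.of R)).inv ϖ)) * b = 0) : b = 0 := by
  have hflat1 : (π.stalkMap y).hom.Flat := Flat.stalkMap π y
  have hflat2 : ((Spec (CommRingCat.of R)).presheaf.germ ⊤ (π y) trivial).hom.Flat := by
    letI := (Spec (CommRingCat.of R)).presheaf.algebra_section_stalk
      (U := (⊤ : (Spec (CommRingCat.of R)).Opens)) ⟨π y, trivial⟩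
    haveI := IsAffineOpen.isLocalization_stalk (isAffineOpen_top (Spec (CommRingCat.of R)))
      ⟨π y, trivial⟩
    have h1 : Module.Flat Γ(Spec (CommRingCat.of R), ⊤)
        ((Spec (CommRingCat.of R)).presheaf.stalk (π y)) :=
      IsLocalization.flat _ ((isAffineOpen_top (Spec (CommRingCat.of R))).primeIdealOf
        ⟨π y, trivial⟩).asIdeal.primeCompl
    exact RingHom.flat_algebraMap_iff.mpr h1
  have hflat3 : (Scheme.ΓSpecIso (CommRingCat.of R)).inv.hom.Flat :=
    RingHom.Flat.of_bijective ((ConcreteCategory.isIso_iff_bijective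
      (Scheme.ΓSpecIso (CommRingCat.of R)).inv).mp inferInstance)
  obtain ⟨ρ, hρ⟩ : ∃ ρ : R →+* X.presheaf.stalk y, ρ = (π.stalkMap y).hom.comp
      (((Spec (CommRingCat.of R)).presheaf.germ ⊤ (π y) trivial).hom.comp
        (Scheme.ΓSpecIso (CommRingCat.of R)).inv.hom) := ⟨_, rfl⟩
  have hflat : ρ.Flat := by
    rw [hρ]
    exact (hflat3.comp hflat2).comp hflat1
  have hρϖ : ρ ϖ = X.presheaf.germ ⊤ y trivial
      (π.appTop ((Scheme.ΓSpecIso (CommRingCat.of R)).inv ϖ)) := by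
    rw [hρ]
    exact Scheme.Hom.germ_stalkMap_apply π ⊤ y trivial _
  letI := ρ.toAlgebra
  haveI : Module.Flat R (X.presheaf.stalk y) := hflat
  have reg : IsSMulRegular R ϖ := fun a b h => mul_left_cancel₀ hϖ h
  have reg' : IsSMulRegular (X.presheaf.stalk y) (algebraMap R (X.presheaf.stalk y) ϖ) :=
    IsSMulRegular.of_flat reg
  apply reg'
  show ρ ϖ * b = ρ ϖ * 0
  rw [mul_zero, hρϖ]
  exact hb

theorem main (R : Type u) [CommRing R] [IsDomain R] [IsDiscreteValuationRing R]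
    {C Z : Scheme.{u}} (πC : C ⟶ Spec (CommRingCat.of R)) [Flat πC] [LocallyOfFiniteType πC]
    (g : Z ⟶ C) [IsProper g] [Flat (g ≫ πC)] (ϖ : R) (hϖ : Irreducible ϖ)
    (hgen : IsIso (g ∣_ (πC ⁻¹ᵁ (PrimeSpectrum.basicOpen ϖ))))
    (c : C) (hdom : IsDomain (C.presheaf.stalk c))
    (hnorm : IsIntegrallyClosed (C.presheaf.stalk c))
    (hdim : ringKrullDim (C.presheaf.stalk c) = 1) :
    ∃ V : C.Opens, c ∈ V ∧ IsIso (g ∣_ V) := by
  haveI : IsNoetherianRing (CommRingCat.of R) := (inferInstance : IsNoetherianRing R)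
  haveI : IsLocallyNoetherian C := LocallyOfFiniteType.isLocallyNoetherian πC
  have hW : πC ⁻¹ᵁ (PrimeSpectrum.basicOpen ϖ) =
      C.basicOpen (πC.appTop ((Scheme.ΓSpecIso (CommRingCat.of R)).inv ϖ)) :=
    (congrArg (fun W => πC ⁻¹ᵁ W) (basicOpen_eq_of_affine (R := CommRingCat.of R) ϖ)).symm.trans
      (Scheme.preimage_basicOpen_top πC _)
  rw [hW] at hgen
  exact core g _ (fun y b hb => regular_germ πC ϖ hϖ.ne_zero y b hb)
    (fun y b hb => regular_germ (g ≫ πC) ϖ hϖ.ne_zero y b hb) hgen c hdom hnorm hdim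

end Helpers


/-- Form over the valuation ring: let R be a discrete valuation ring with a uniformizer ϖ, let C → Spec
R be flat and locally of finite type, f : X → C proper, and Z → X a closed immersion with Z flat
over R such that the composite Z → C restricts to an isomorphism over the generic fibre, the
preimage of the open set D(ϖ) of Spec R. Then for every point c of C whose local ring is an
integrally closed domain of Krull dimension one (a codimension-one point at which C is normal, for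
instance a generic point of the closed fibre lying in the smooth locus), there is an open
neighbourhood V of c over which Z → C is an isomorphism. (The published statement, that the closed
fibre of such a Z maps isomorphically onto the closed fibre of C over every generic point of its
smooth locus, also after a finite extension of R, follows by restriction to the closed fibre and
flat descent.) -/
theorem result (R : Type u) [CommRing R] [IsDomain R]
    [IsDiscreteValuationRing R] {C X Z : Scheme.{u}} (πC : C ⟶ Spec (CommRingCat.of R)) [Flat πC]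
    [LocallyOfFiniteType πC] (f : X ⟶ C) [IsProper f] (i : Z ⟶ X) [IsClosedImmersion i]
    [Flat ((i ≫ f) ≫ πC)] (ϖ : R) (hϖ : Irreducible ϖ)
    (hgen : IsIso ((i ≫ f) ∣_ (πC ⁻¹ᵁ (PrimeSpectrum.basicOpen ϖ))))
    (c : C) (hdom : IsDomain (C.presheaf.stalk c)) (hnorm : IsIntegrallyClosed (C.presheaf.stalk c))
    (hdim : ringKrullDim (C.presheaf.stalk c) = 1) :
    ∃ V : C.Opens, c ∈ V ∧ IsIso ((i ≫ f) ∣_ V) := by
  exact main R πC (i ≫ f) ϖ hϖ hgen c hdom hnorm hdim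

end Groth.Agent.S19198
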