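import Groth.Statements.S19208
import Groth.Agent.H17.HS.Mult

set_option autoImplicit false
universe u
open Filter
open LocAlg

namespace Groth.Agent.S19208

open Groth.Agent.H17.HS Topology

/-- Let O be a Noetherian local ring of Krull dimension r containing a field, with maximal ideal m. The
zeroth flat multiplicity e_0(O), the supremum over m-primary ideals I of e(I)/(r!·length(O/I)) with
e(I) the Samuel multiplicity, is at least 1: for every ε > 0 there is an m-primary ideal I (I ⊆ m,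
m^N ⊆ I for some N) whose multiplicity e(I), the limit of r!·length(O/I^n)/n^r, satisfies e(I) ≥ (1
− ε)·r!·length(O/I). (The same statement for the power-series rings O[[t_1, …, t_k]] is the bound
e_k(O) ≥ 1 for the k-th flat multiplicity.) -/
theorem result (O : Type u) [CommRing O] [IsNoetherianRing O]
    [IsLocalRing O] (K : Type u) [Field K] [Algebra K O] (r : ℕ) (hr : ringKrullDim O = r)
    (ε : ℝ) (hε : 0 < ε) :
    ∃ (I : Ideal O) (e : ℝ), I ≤ IsLocalRing.maximalIdeal O ∧
      (∃ N : ℕ, IsLocalRing.maximalIdeal O ^ N ≤ I) ∧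
      Tendsto (fun n : ℕ => (r.factorial : ℝ) * ((Module.length O (O ⧸ I ^ n)).toNat : ℝ) / (n : ℝ) ^ r)
        atTop (nhds e) ∧
      (1 - ε) * ((r.factorial : ℝ) * ((Module.length O (O ⧸ I)).toNat : ℝ)) ≤ e := by
  classical
  have hJ : ∀ J : Ideal O, (J • (⊤ : Submodule O O)) = J := fun J => by
    rw [smul_eq_mul, Ideal.mul_top]
  have hlen : ∀ J : Ideal O, Module.length O (O ⧸ J) = colen (J • (⊤ : Submodule O O)) :=
    fun J => (LinearEquiv.length_eq (Submodule.quotEquivOfEq _ _ (hJ J))).symm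
  have hseq : ∀ (J : Ideal O) (n : ℕ),
      (Module.length O (O ⧸ J ^ n)).toNat = samuel J O n := fun J n => by
    unfold samuel cn
    rw [hlen]
  have hk1 : IsLocalRing.maximalIdeal O ^ 1 ≤ IsLocalRing.maximalIdeal O := by rw [pow_one]
  obtain ⟨P, hP, hPdeg⟩ := exists_samuelPoly_of_primary hk1 O
  have hdO : Module.supportDim O O = (r : WithBot ℕ∞) := by
    rw [Module.supportDim_self_eq_ringKrullDim, hr]
  have hPr : P.natDegree ≤ r := hPdeg r (le_of_eq hdO)
  have hlim := tendsto_samuel_of_natDegree_le hP hPr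
  haveI : Nontrivial O := inferInstance
  have hEpos : 0 < (r.factorial : ℝ) * ((P.coeff r : ℚ) : ℝ) :=
    factorial_mul_coeff_pos le_rfl hk1 O hdO hP hPr
  obtain ⟨E, hE⟩ : ∃ E : ℝ, E = (r.factorial : ℝ) * ((P.coeff r : ℚ) : ℝ) := ⟨_, rfl⟩
  rw [← hE] at hlim hEpos
  -- eventually `(1 - ε) E'_k < E`
  have hlim2 : Tendsto (fun t : ℕ => (1 - ε) * ((r.factorial : ℝ) *
      (samuel (IsLocalRing.maximalIdeal O) O t : ℝ) / (t : ℝ) ^ r)) atTop (𝓝 ((1 - ε) * E)) :=
    hlim.const_mul (1 - ε)
  have hlt : (1 - ε) * E < E := by nlinarith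
  have hev := hlim2.eventually (gt_mem_nhds hlt)
  obtain ⟨k, hk, hkge⟩ := (hev.and (eventually_ge_atTop 1)).exists
  have hk0 : k ≠ 0 := by omega
  have hkpos : (0 : ℝ) < (k : ℝ) := Nat.cast_pos.mpr (by omega)
  refine ⟨IsLocalRing.maximalIdeal O ^ k, (k : ℝ) ^ r * E, Ideal.pow_le_self hk0, ⟨k, le_rfl⟩,
    ?_, ?_⟩
  · -- the limit for `m^k`
    have hmul : Tendsto (fun n : ℕ => k * n) atTop atTop :=
      tendsto_atTop_mono (fun n => Nat.le_mul_of_pos_left n (by omega)) tendsto_id
    have h1 := (hlim.comp hmul).const_mul ((k : ℝ) ^ r)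
    refine h1.congr' ?_
    filter_upwards [eventually_ge_atTop 1] with n hn
    have hn0 : (n : ℝ) ≠ 0 := Nat.cast_ne_zero.mpr (by omega)
    have hs : samuel (IsLocalRing.maximalIdeal O ^ k) O n =
        samuel (IsLocalRing.maximalIdeal O) O (k * n) := by
      unfold samuel
      rw [← pow_mul]
    rw [hseq, hs]
    simp only [Function.comp_apply]
    push_cast
    rw [mul_pow]
    field_simp
  · have hs1 : (Module.length O (O ⧸ IsLocalRing.maximalIdeal O ^ k)).toNat =
        samuel (IsLocalRing.maximalIdeal O) O k := hseq _ k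
    rw [hs1]
    have hk' : (1 - ε) * ((r.factorial : ℝ) * (samuel (IsLocalRing.maximalIdeal O) O k : ℝ) /
        (k : ℝ) ^ r) < E := hk
    have hkr : (0 : ℝ) < (k : ℝ) ^ r := pow_pos hkpos r
    have h2 := mul_le_mul_of_nonneg_left hk'.le hkr.le
    have h3 : (k : ℝ) ^ r * ((1 - ε) * ((r.factorial : ℝ) *
        (samuel (IsLocalRing.maximalIdeal O) O k : ℝ) / (k : ℝ) ^ r)) =
        (1 - ε) * ((r.factorial : ℝ) * (samuel (IsLocalRing.maximalIdeal O) O k : ℝ)) := by
      field_simp
    rw [h3] at h2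
    exact h2

end Groth.Agent.S19208
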