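import Groth.Statements.S19209
import Mathlib

set_option autoImplicit false
universe u
open Curves

namespace Groth.Agent.S19209

theorem tele (p : ℕ → ℝ) (m : ℕ) :
    ∑ k ∈ Finset.range m, (p k - p (k + 1)) * (((k : ℕ) : ℝ) + ((k + 1 : ℕ) : ℝ))
      = 2 * ∑ k ∈ Finset.range (m + 1), p k - p 0 - (2 * (m : ℝ) + 1) * p m := by
  induction m with
  | zero => simp; ring
  | succ m ih =>
    rw [Finset.sum_range_succ, ih, Finset.sum_range_succ _ (m + 1)]
    push_cast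
    ring

/-- Let n ≥ 1 and let p_0 ≥ p_1 ≥ … ≥ p_n = 0 be real numbers. Then some chain 0 = s_0 < s_1 < … < s_l =
n satisfies Σ_{k<l} (p_{s_k} − p_{s_{k+1}})·(s_k + s_{k+1}) ≤ (2n/(n+1))·(p_0 + p_1 + … + p_n).
Equivalently the minimum of these sums over all chains, which is twice the area under the Newton
polygon (lower convex hull) of the points (k, p_k), is at most 2n/(n+1) times the sum of the
weights. -/
theorem result (n : ℕ) (hn : 1 ≤ n) (p : ℕ → ℝ)
    (hp : ∀ i j : ℕ, i ≤ j → j ≤ n → p j ≤ p i) (hpn : p n = 0) :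
    ∃ (l : ℕ) (s : ℕ → ℕ), s 0 = 0 ∧ s l = n ∧ (∀ k : ℕ, k < l → s k < s (k + 1)) ∧
      (∑ k ∈ Finset.range l, (p (s k) - p (s (k + 1))) * ((s k : ℝ) + (s (k + 1) : ℝ))) ≤
        2 * (n : ℝ) / ((n : ℝ) + 1) * ∑ i ∈ Finset.range (n + 1), p i := by
  have hn0 : (0 : ℝ) < (n : ℝ) + 1 := by positivity
  have hnn : (0 : ℝ) ≤ (n : ℝ) := Nat.cast_nonneg n
  by_cases hc : ((n : ℝ) + 1) * p 0 / 2 ≤ ∑ i ∈ Finset.range (n + 1), p i
  · refine ⟨1, fun k => if k = 0 then 0 else n, by simp, by simp, ?_, ?_⟩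
    · intro k hk
      have hk0 : k = 0 := by omega
      subst hk0
      simp
      omega
    · rw [Finset.sum_range_one]
      simp only [if_true, zero_add, one_ne_zero, if_false, hpn, sub_zero, Nat.cast_zero]
      have h1 : 2 * (n : ℝ) / ((n : ℝ) + 1) * (((n : ℝ) + 1) * p 0 / 2) = p 0 * (n : ℝ) := by
        field_simp
      have h2 : 0 ≤ 2 * (n : ℝ) / ((n : ℝ) + 1) := by positivity
      calc p 0 * (n : ℝ) = 2 * (n : ℝ) / ((n : ℝ) + 1) * (((n : ℝ) + 1) * p 0 / 2) := h1.symm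
        _ ≤ _ := mul_le_mul_of_nonneg_left hc h2
  · push_neg at hc
    refine ⟨n, fun k => k, rfl, rfl, fun k _ => Nat.lt_succ_self k, ?_⟩
    have ht := tele p n
    simp only at ht ⊢
    rw [ht, hpn, mul_zero, sub_zero]
    have h3 : 2 * (n : ℝ) / ((n : ℝ) + 1) * ∑ i ∈ Finset.range (n + 1), p i
        = 2 * ∑ i ∈ Finset.range (n + 1), p i
          - 2 * (∑ i ∈ Finset.range (n + 1), p i) / ((n : ℝ) + 1) := by
      field_simp
      ring
    rw [h3]
    have h4 : 2 * (∑ i ∈ Finset.range (n + 1), p i) / ((n : ℝ) + 1) ≤ p 0 := by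
      rw [div_le_iff₀ hn0]
      linarith
    linarith

end Groth.Agent.S19209
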