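import Groth.Statements.S19210
import Mathlib.Tactic
import Mathlib.Algebra.Ring.GeomSum
import Mathlib.Algebra.Order.BigOperators.Group.Finset

set_option autoImplicit false
universe u
open LocAlg

namespace Groth.Agent.S19210


theorem key (b : ℕ) (x : ℝ) (hx : 0 ≤ x) :
    ((b:ℝ) + 1) * x ^ b ≤ (x + 1) ^ (b + 1) - x ^ (b + 1) ∧
    (x + 1) ^ (b + 1) - x ^ (b + 1) ≤ ((b:ℝ) + 1) * (x + 1) ^ b := by
  have h := geom_sum₂_mul (x + 1) x (b + 1)
  have h1 : (x + 1) - x = 1 := by ring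
  rw [h1, mul_one] at h
  rw [← h]
  have hc : ((b:ℝ) + 1) = ((Finset.range (b+1)).card : ℝ) := by simp
  constructor
  · rw [hc, ← nsmul_eq_mul, ← Finset.sum_const]
    refine Finset.sum_le_sum (fun i hi => ?_)
    have hi' : i ≤ b := Nat.lt_succ_iff.1 (Finset.mem_range.1 hi)
    have e : b + 1 - 1 - i = b - i := by omega
    rw [e]
    calc x ^ b = x ^ i * x ^ (b - i) := by rw [← pow_add, Nat.add_sub_cancel' hi']
      _ ≤ (x + 1) ^ i * x ^ (b - i) :=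
        mul_le_mul_of_nonneg_right (pow_le_pow_left₀ hx (by linarith) i) (pow_nonneg hx _)
  · rw [hc, ← nsmul_eq_mul, ← Finset.sum_const]
    refine Finset.sum_le_sum (fun i hi => ?_)
    have hi' : i ≤ b := Nat.lt_succ_iff.1 (Finset.mem_range.1 hi)
    have e : b + 1 - 1 - i = b - i := by omega
    rw [e]
    have hx1 : 0 ≤ x + 1 := by linarith
    calc (x + 1) ^ i * x ^ (b - i) ≤ (x + 1) ^ i * (x + 1) ^ (b - i) :=
        mul_le_mul_of_nonneg_left (pow_le_pow_left₀ hx (by linarith) _) (pow_nonneg hx1 _)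
      _ = (x + 1) ^ b := by rw [← pow_add, Nat.add_sub_cancel' hi']

theorem base (b n : ℕ) :
    ((b:ℝ) + 1) * ∑ i ∈ Finset.range n, (i:ℝ) ^ b ≤ (n:ℝ) ^ (b + 1) ∧
    (n:ℝ) ^ (b + 1) ≤ ((b:ℝ) + 1) * ∑ i ∈ Finset.range n, ((i:ℝ) + 1) ^ b := by
  induction n with
  | zero => simp
  | succ n ih =>
    obtain ⟨h1, h2⟩ := key b (n:ℝ) (Nat.cast_nonneg n)
    rw [Finset.sum_range_succ, Finset.sum_range_succ]
    push_cast
    constructor
    · linarith [ih.1]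
    · linarith [ih.2]

theorem base_abs (b n : ℕ) :
    |∑ i ∈ Finset.range n, (i:ℝ) ^ b - 1 / ((b:ℝ) + 1) * (n:ℝ) ^ (b + 1)| ≤ (n:ℝ) ^ b := by
  obtain ⟨h1, h2⟩ := base b n
  have hU : ∑ i ∈ Finset.range n, ((i:ℝ) + 1) ^ b ≤
      ∑ i ∈ Finset.range n, (i:ℝ) ^ b + (n:ℝ) ^ b := by
    have e1 := Finset.sum_range_succ (fun i : ℕ => (i:ℝ) ^ b) n
    have e2 := Finset.sum_range_succ' (fun i : ℕ => (i:ℝ) ^ b) n
    simp only [Nat.cast_add, Nat.cast_one, Nat.cast_zero] at e1 e2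
    have h0 : (0:ℝ) ≤ (0:ℝ) ^ b := pow_nonneg le_rfl b
    linarith
  have hb : (0:ℝ) < (b:ℝ) + 1 := by positivity
  set c : ℝ := 1 / ((b:ℝ) + 1) with hc
  have hc0 : 0 < c := by positivity
  have hc1 : c * ((b:ℝ) + 1) = 1 := by rw [hc]; field_simp
  have g1 := mul_le_mul_of_nonneg_left h1 hc0.le
  have g2 := mul_le_mul_of_nonneg_left (h2.trans (mul_le_mul_of_nonneg_left hU hb.le)) hc0.le
  rw [← mul_assoc, hc1, one_mul] at g1 g2
  have hn : (0:ℝ) ≤ (n:ℝ) ^ b := by positivity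
  rw [abs_le]
  constructor <;> linarith

theorem combine {n X Y C1 C2 P : ℝ} (hn : 0 ≤ n) (hX : |X| ≤ C1 * P)
    (hY : |Y| ≤ C2 * (n * P)) : |n * X - Y| ≤ (C1 + C2) * (n * P) := by
  obtain ⟨x1, x2⟩ := abs_le.1 hX
  obtain ⟨y1, y2⟩ := abs_le.1 hY
  have z1 := mul_le_mul_of_nonneg_left x1 hn
  have z2 := mul_le_mul_of_nonneg_left x2 hn
  rw [abs_le]
  constructor <;> nlinarith [z1, z2, y1, y2]

theorem main (a : ℕ) : ∀ b : ℕ, ∃ C : ℝ, ∀ n : ℕ, 1 ≤ n →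
    |(∑ i ∈ Finset.range n, ((n:ℝ) - (i:ℝ)) ^ a * (i:ℝ) ^ b) -
      ((a.factorial:ℝ) * (b.factorial:ℝ) / ((a + b + 1).factorial:ℝ)) * (n:ℝ) ^ (a + b + 1)| ≤
      C * (n:ℝ) ^ (a + b) := by
  induction a with
  | zero =>
    intro b
    refine ⟨1, fun n _ => ?_⟩
    have h := base_abs b n
    have e : (b.factorial:ℝ) / ((b + 1).factorial:ℝ) = 1 / ((b:ℝ) + 1) := by
      rw [Nat.factorial_succ]
      push_cast
      have : (b.factorial:ℝ) ≠ 0 := by positivity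
      field_simp
    simp only [pow_zero, one_mul, Nat.factorial_zero, Nat.cast_one, zero_add]
    rw [e]
    exact h
  | succ a ih =>
    intro b
    obtain ⟨C1, h1⟩ := ih b
    obtain ⟨C2, h2⟩ := ih (b + 1)
    refine ⟨C1 + C2, fun n hn => ?_⟩
    have e1 : a + (b + 1) + 1 = (a + b + 1) + 1 := by omega
    have e2 : a + 1 + b + 1 = (a + b + 1) + 1 := by omega
    have e3 : a + (b + 1) = a + b + 1 := by omega
    have e4 : a + 1 + b = a + b + 1 := by omega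
    rw [e1, e3] at h2
    rw [e2, e4]
    have hS : ∑ i ∈ Finset.range n, ((n:ℝ) - (i:ℝ)) ^ (a + 1) * (i:ℝ) ^ b =
        (n:ℝ) * ∑ i ∈ Finset.range n, ((n:ℝ) - (i:ℝ)) ^ a * (i:ℝ) ^ b -
          ∑ i ∈ Finset.range n, ((n:ℝ) - (i:ℝ)) ^ a * (i:ℝ) ^ (b + 1) := by
      rw [Finset.mul_sum, ← Finset.sum_sub_distrib]
      refine Finset.sum_congr rfl (fun i _ => ?_)
      ring
    have hc : ((a + 1).factorial:ℝ) * (b.factorial:ℝ) / (((a + b + 1) + 1).factorial:ℝ) =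
        (a.factorial:ℝ) * (b.factorial:ℝ) / ((a + b + 1).factorial:ℝ) -
          (a.factorial:ℝ) * ((b + 1).factorial:ℝ) / (((a + b + 1) + 1).factorial:ℝ) := by
      rw [Nat.factorial_succ (a + b + 1), Nat.factorial_succ a, Nat.factorial_succ b]
      push_cast
      have hF : ((a + b + 1).factorial:ℝ) ≠ 0 := by positivity
      field_simp
      ring
    have hn0 : (0:ℝ) ≤ (n:ℝ) := Nat.cast_nonneg n
    have hcomb := combine hn0 (h1 n hn) (by rw [← pow_succ']; exact h2 n hn)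
    calc _ = _ := by
          rw [hS, hc, pow_succ' (n:ℝ) (a + b + 1)]
          ring_nf
      _ ≤ _ := hcomb
      _ = _ := by rw [← pow_succ']

/-- For natural numbers j ≤ r, the sums Σ_{i=0}^{n−1} (n − i)^{r−j} i^j equal n^{r+1}·(r − j)!·j!/(r +
1)! up to O(n^r): there is a real constant C with |Σ_{i<n} (n − i)^{r−j} i^j − ((r − j)!·j!/(r +
1)!)·n^{r+1}| ≤ C·n^r for all n ≥ 1. -/
theorem result (r j : ℕ) (hj : j ≤ r) :
    ∃ C : ℝ, ∀ n : ℕ, 1 ≤ n →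
      |(∑ i ∈ Finset.range n, ((n : ℝ) - (i : ℝ)) ^ (r - j) * (i : ℝ) ^ j) -
          ((r - j).factorial : ℝ) * (j.factorial : ℝ) / ((r + 1).factorial : ℝ) * (n : ℝ) ^ (r + 1)| ≤
        C * (n : ℝ) ^ r := by
  obtain ⟨C, hC⟩ := main (r - j) j
  have e : r - j + j = r := Nat.sub_add_cancel hj
  rw [e] at hC
  exact ⟨C, hC⟩

end Groth.Agent.S19210
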