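import Groth.Statements.S19212
import Groth.Agent.H80.DiagSym3

set_option autoImplicit false
universe u v
open TensorProduct
open DiagIdeal

namespace Groth.Agent.S19212

open Groth.Agent.H80.DiagSym3

/-- Let k be an algebraically closed field of characteristic zero and A a smooth k-algebra which is a
domain. Let the symmetric group on three letters permute the factors of A ⊗ A ⊗ A (it is generated
by the swap of the first two factors and the swap of the last two), let r : A ⊗ (A ⊗ A) → A ⊗ A be
the k-linear map a ⊗ b ⊗ c ↦ ab ⊗ c, and let D : A ⊗ A → Ω_{A/k} be the k-linear map a ⊗ b ↦ 2a·db −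
b·da. Then an element y of A ⊗ A satisfies D y = 0 if and only if y = r x for some x fixed by both
swaps, and D is surjective. (This is exactness at the last two places of the four-term right
resolution of the invariants of the ideal of the big diagonal on the symmetric cube of X = Spec A,
namely invariant functions on X³, then functions on X × X through restriction to a diagonal, then
one-forms on X; exactness at the first two places is immediate. The published statement is the sheaf
version on the symmetric cube of a smooth complex variety of any dimension; an algebraically closed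
field of characteristic zero is used here.) -/
theorem result (k : Type u) [Field k] [IsAlgClosed k] [CharZero k]
    (A : Type v) [CommRing A] [Algebra k A] [Algebra.Smooth k A] [IsDomain A]
    (r : A ⊗[k] (A ⊗[k] A) →ₗ[k] A ⊗[k] A)
    (hr : ∀ a b c : A, r (a ⊗ₜ[k] (b ⊗ₜ[k] c)) = (a * b) ⊗ₜ[k] c)
    (D : A ⊗[k] A →ₗ[k] Ω[A⁄k])
    (hD : ∀ a b : A, D (a ⊗ₜ[k] b) = (2 : A) • (a • KaehlerDifferential.D k A b) - b • KaehlerDifferential.D k A a) :
    (∀ y : A ⊗[k] A, D y = 0 ↔ ∃ x : A ⊗[k] (A ⊗[k] A),
        TensorProduct.leftComm k A A A x = x ∧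
        LinearMap.lTensor A (TensorProduct.comm k A A).toLinearMap x = x ∧ r x = y) ∧
    Function.Surjective D := by
  classical
  have e12 : ∀ x, TensorProduct.leftComm k A A A x = s12 k A x := leftComm_eq
  have e23 : ∀ x, LinearMap.lTensor A (TensorProduct.comm k A A).toLinearMap x = s23 k A x :=
    lTensor_comm_eq
  have er : ∀ x, r x = r12 k A x := by
    have := lin_ext3 r ((r12 k A).toLinearMap) (fun a b c => by
      rw [AlgHom.toLinearMap_apply, hr, r12_tmul])
    exact fun x => LinearMap.congr_fun this x
  have h3 : (3 : k) ≠ 0 := by norm_num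
  have h6 : (6 : k) ≠ 0 := by norm_num
  -- the basic formula `D + d ∘ m = 3 θ`
  have hDth : ∀ y : A ⊗[k] A, D y + KaehlerDifferential.D k A (mm k A y) =
      th k A y + th k A y + th k A y := by
    intro y
    induction y using TensorProduct.induction_on with
    | zero => simp
    | tmul a b =>
      rw [hD, mm_tmul, th_tmul, Derivation.leibniz, two_smul]; abel
    | add y1 y2 h1 h2 =>
      simp only [map_add]
      rw [add_add_add_comm, h1, h2]; abel
  -- symmetric tensors restrict into the kernel of `D`
  have hback : ∀ x, s12 k A x = x → s23 k A x = x → D (r12 k A x) = 0 := by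
    intro x hx12 hx23
    have hN : (D ∘ₗ (r12 k A).toLinearMap) ∘ₗ
        (LinearMap.id + (s12 k A).toLinearMap + (s23 k A).toLinearMap
          + (s12 k A).toLinearMap ∘ₗ (s23 k A).toLinearMap
          + (s23 k A).toLinearMap ∘ₗ (s12 k A).toLinearMap
          + (s12 k A).toLinearMap ∘ₗ (s23 k A).toLinearMap ∘ₗ (s12 k A).toLinearMap) = 0 := by
      apply lin_ext3
      intro a b c
      simp only [LinearMap.comp_apply, LinearMap.add_apply, LinearMap.id_apply,
        AlgEquiv.toLinearMap_apply, AlgHom.toLinearMap_apply, s12_tmul, s23_tmul, map_add,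
        r12_tmul, hD, Derivation.leibniz, LinearMap.zero_apply, smul_add, smul_smul]
      module
    have := LinearMap.congr_fun hN x
    simp only [LinearMap.comp_apply, LinearMap.add_apply, LinearMap.id_apply,
      AlgEquiv.toLinearMap_apply, AlgHom.toLinearMap_apply, hx12, hx23, map_add,
      LinearMap.zero_apply] at this
    have h' : (6 : k) • D (r12 k A x) = 0 := by
      rw [← this]; module
    exact (smul_eq_zero.mp h').resolve_left h6
  refine ⟨fun y => ⟨fun hDy => ?_, ?_⟩, ?_⟩
  · -- kernel of D is hit
    set c : A := (3 : k)⁻¹ • mm k A y with hc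
    have hc3 : c + c + c = mm k A y := by
      have : (3 : k) • c = mm k A y := by rw [hc, smul_smul, mul_inv_cancel₀ h3, one_smul]
      rw [← this]; module
    have hxc12 : s12 k A (i1 k A c + i2 k A c + i3 k A c) = i1 k A c + i2 k A c + i3 k A c := by
      simp only [map_add, s12_i1, s12_i2, s12_i3]; abel
    have hxc23 : s23 k A (i1 k A c + i2 k A c + i3 k A c) = i1 k A c + i2 k A c + i3 k A c := by
      simp only [map_add, s23_i1, s23_i2, s23_i3]; abel
    have hy'I : y - r12 k A (i1 k A c + i2 k A c + i3 k A c) ∈ KaehlerDifferential.ideal k A := by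
      rw [mem_ideal_iff]
      simp only [map_sub, map_add, r12_i1, r12_i2, r12_i3, mm_L, mm_R]
      rw [hc3, sub_self]
    have hDy' : D (y - r12 k A (i1 k A c + i2 k A c + i3 k A c)) = 0 := by
      rw [map_sub, hDy, hback _ hxc12 hxc23, sub_zero]
    have h1 := hDth (y - r12 k A (i1 k A c + i2 k A c + i3 k A c))
    rw [hDy', (mem_ideal_iff _).mp hy'I, map_zero, add_zero] at h1
    have h2 : (3 : k) • th k A (y - r12 k A (i1 k A c + i2 k A c + i3 k A c)) = 0 := by
      rw [h1]; module
    have h3' := (smul_eq_zero.mp h2).resolve_left h3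
    obtain ⟨x', hx'12, hx'23, hx'r⟩ := exists_sym3_of_mem_sq _ ((th_eq_zero_iff hy'I).mp h3')
    refine ⟨i1 k A c + i2 k A c + i3 k A c + x', ?_, ?_, ?_⟩
    · rw [e12, map_add, hxc12, hx'12]
    · rw [e23, map_add, hxc23, hx'23]
    · rw [er, map_add, hx'r]; abel
  · rintro ⟨x, h1, h2, rfl⟩
    rw [e12] at h1
    rw [e23] at h2
    rw [er]
    exact hback x h1 h2
  · -- surjectivity
    intro ω
    obtain ⟨t, rfl⟩ := KaehlerDifferential.tensorProductTo_surjective k A ω
    refine ⟨(3 : k)⁻¹ • (t - L k A (mm k A t)), ?_⟩
    have h1 := hDth t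
    have h2 := hDth (L k A (mm k A t))
    rw [th_L, mm_L, add_zero, add_zero] at h2
    have h4 : D t - D (L k A (mm k A t)) = th k A t + th k A t + th k A t := by
      rw [← h1, ← sub_eq_zero]
      have : D t - D (L k A (mm k A t)) - (D t + KaehlerDifferential.D k A (mm k A t)) =
          -(D (L k A (mm k A t)) + KaehlerDifferential.D k A (mm k A t)) := by abel
      rw [this, h2, neg_zero]
    rw [map_smul, map_sub, h4]
    show (3 : k)⁻¹ • (th k A t + th k A t + th k A t) = th k A t
    have : th k A t + th k A t + th k A t = (3 : k) • th k A t := by module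
    rw [this, smul_smul, inv_mul_cancel₀ h3, one_smul]

end Groth.Agent.S19212
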