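import Groth.Statements.S19213
import Groth.Agent.H80.DiagSym3

set_option autoImplicit false
universe u v
open TensorProduct
open DiagIdeal

namespace Groth.Agent.S19213

open Groth.Agent.H80.DiagSym3

/-- Let k be an algebraically closed field of characteristic zero and A a smooth k-algebra which is a
domain. Let r₁₂, r₂₃ : A ⊗ (A ⊗ A) → A ⊗ A be the k-linear maps a ⊗ u ⊗ v ↦ au ⊗ v and a ⊗ u ⊗ v ↦
uv ⊗ a (restriction to the diagonal of factors 1, 2, resp. 2, 3, the repeated coordinate written
first), let m : A ⊗ A → A be multiplication, and let ψ : (A ⊗ A) × (A ⊗ A) → Ω_{A/k} be the k-linear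
map with ψ(a ⊗ u, b ⊗ v) = 2a·du − v·db. Then for p, q in A ⊗ A with m p = m q one has ψ(p, q) = 0
if and only if (p, q) = (r₁₂ x, r₂₃ x) for some x fixed by the swap of the last two tensor factors;
and every element of Ω_{A/k} is ψ(p, q) for some pair with m p = m q. (This is exactness at the last
two places of the right resolution, on the symmetric cube of X = Spec A, of the invariants of the
ideal of the big diagonal under the transposition of the last two factors; exactness at the first
two places is immediate. The published statement is the sheaf version for a smooth complex variety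
of any dimension; an algebraically closed field of characteristic zero is used here.) -/
theorem result (k : Type u) [Field k] [IsAlgClosed k] [CharZero k]
    (A : Type v) [CommRing A] [Algebra k A] [Algebra.Smooth k A] [IsDomain A]
    (r₁₂ r₂₃ : A ⊗[k] (A ⊗[k] A) →ₗ[k] A ⊗[k] A)
    (h₁₂ : ∀ a u v : A, r₁₂ (a ⊗ₜ[k] (u ⊗ₜ[k] v)) = (a * u) ⊗ₜ[k] v)
    (h₂₃ : ∀ a u v : A, r₂₃ (a ⊗ₜ[k] (u ⊗ₜ[k] v)) = (u * v) ⊗ₜ[k] a)
    (ψ : (A ⊗[k] A) × (A ⊗[k] A) →ₗ[k] Ω[A⁄k])
    (hψ : ∀ a u b v : A, ψ (a ⊗ₜ[k] u, b ⊗ₜ[k] v) =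
      (2 : A) • (a • KaehlerDifferential.D k A u) - v • KaehlerDifferential.D k A b) :
    (∀ p q : A ⊗[k] A, LinearMap.mul' k A p = LinearMap.mul' k A q →
      (ψ (p, q) = 0 ↔ ∃ x : A ⊗[k] (A ⊗[k] A),
        LinearMap.lTensor A (TensorProduct.comm k A A).toLinearMap x = x ∧ r₁₂ x = p ∧ r₂₃ x = q)) ∧
    (∀ ω : Ω[A⁄k], ∃ p q : A ⊗[k] A, LinearMap.mul' k A p = LinearMap.mul' k A q ∧ ψ (p, q) = ω) := by
  classical
  have e23 : ∀ x, LinearMap.lTensor A (TensorProduct.comm k A A).toLinearMap x = s23 k A x :=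
    lTensor_comm_eq
  have er12 : ∀ x, r₁₂ x = r12 k A x := by
    have := lin_ext3 r₁₂ ((r12 k A).toLinearMap) (fun a b c => by
      rw [AlgHom.toLinearMap_apply, h₁₂, r12_tmul])
    exact fun x => LinearMap.congr_fun this x
  have er23 : ∀ x, r₂₃ x = r23 k A x := by
    have := lin_ext3 r₂₃ ((r23 k A).toLinearMap) (fun a b c => by
      rw [AlgHom.toLinearMap_apply, h₂₃, r23_tmul])
    exact fun x => LinearMap.congr_fun this x
  have h2 : (2 : k) ≠ 0 := two_ne_zero
  -- ψ in terms of θ
  have hψ1 : ∀ p : A ⊗[k] A, ψ (p, 0) = th k A p + th k A p := by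
    intro p
    induction p using TensorProduct.induction_on with
    | zero =>
      have : ((0 : A ⊗[k] A), (0 : A ⊗[k] A)) = 0 := rfl
      rw [this, map_zero, map_zero, add_zero]
    | tmul a u =>
      have := hψ a u 0 0
      rw [TensorProduct.zero_tmul, zero_smul, sub_zero, two_smul] at this
      rw [this, th_tmul]
    | add p1 p2 e1 e2 =>
      have : ((p1 + p2 : A ⊗[k] A), (0 : A ⊗[k] A)) = (p1, 0) + (p2, 0) := by
        rw [Prod.mk_add_mk, add_zero]
      rw [this, map_add, e1, e2, map_add]; abel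
  have hψ2 : ∀ q : A ⊗[k] A, ψ (0, q) = - th k A (TensorProduct.comm k A A q) := by
    intro q
    induction q using TensorProduct.induction_on with
    | zero =>
      have : ((0 : A ⊗[k] A), (0 : A ⊗[k] A)) = 0 := rfl
      rw [this, map_zero, map_zero, map_zero, neg_zero]
    | tmul b v =>
      have := hψ 0 0 b v
      rw [TensorProduct.zero_tmul, map_zero, smul_zero, smul_zero, zero_sub] at this
      rw [this, TensorProduct.comm_tmul, th_tmul]
    | add q1 q2 e1 e2 =>
      have : ((0 : A ⊗[k] A), (q1 + q2 : A ⊗[k] A)) = (0, q1) + (0, q2) := by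
        rw [Prod.mk_add_mk, add_zero]
      rw [this, map_add, e1, e2, map_add, map_add]; abel
  have hψ' : ∀ p q : A ⊗[k] A,
      ψ (p, q) = th k A p + th k A p - th k A (TensorProduct.comm k A A q) := by
    intro p q
    have : (p, q) = ((p, 0) : (A ⊗[k] A) × (A ⊗[k] A)) + (0, q) := by
      rw [Prod.mk_add_mk, add_zero, zero_add]
    rw [this, map_add, hψ1, hψ2]; abel
  -- invariant tensors restrict into the kernel of ψ
  have hback : ∀ x, s23 k A x = x → ψ (r12 k A x, r23 k A x) = 0 := by
    intro x hx23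
    have hN : (ψ ∘ₗ (LinearMap.prod (r12 k A).toLinearMap (r23 k A).toLinearMap)) ∘ₗ
        (LinearMap.id + (s23 k A).toLinearMap) = 0 := by
      apply lin_ext3
      intro a b c
      simp only [LinearMap.comp_apply, LinearMap.add_apply, LinearMap.id_apply,
        AlgEquiv.toLinearMap_apply, AlgHom.toLinearMap_apply, s23_tmul, map_add,
        LinearMap.prod_apply, Function.prod_apply, r12_tmul, r23_tmul, hψ', th_tmul, TensorProduct.comm_tmul,
        Derivation.leibniz, LinearMap.zero_apply, smul_add, smul_smul]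
      module
    have := LinearMap.congr_fun hN x
    simp only [LinearMap.comp_apply, LinearMap.add_apply, LinearMap.id_apply,
      AlgEquiv.toLinearMap_apply, AlgHom.toLinearMap_apply, hx23, map_add,
      LinearMap.prod_apply, Function.prod_apply, LinearMap.zero_apply] at this
    have h' : (2 : k) • ψ (r12 k A x, r23 k A x) = 0 := by
      rw [← this]; module
    exact (smul_eq_zero.mp h').resolve_left h2
  refine ⟨fun p q hm => ⟨fun hpq => ?_, ?_⟩, ?_⟩
  · rw [mul'_eq, mul'_eq] at hm
    obtain ⟨x1, hx1, rfl⟩ := exists_sym23_r12 (k := k) p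
    have h0 := hback x1 hx1
    have hqI : q - r23 k A x1 ∈ KaehlerDifferential.ideal k A := by
      rw [mem_ideal_iff, map_sub, ← mm_r12_eq_mm_r23, hm, sub_self]
    have h1 : ψ (0, q - r23 k A x1) = 0 := by
      have : ((0 : A ⊗[k] A), q - r23 k A x1) = (r12 k A x1, q) - (r12 k A x1, r23 k A x1) := by
        rw [Prod.mk_sub_mk, sub_self]
      rw [this, map_sub, hpq, h0, sub_zero]
    rw [hψ2, neg_eq_zero] at h1
    have h3 := th_add_th_comm (q - r23 k A x1)
    rw [h1, add_zero, (mem_ideal_iff _).mp hqI, map_zero] at h3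
    obtain ⟨x2, hx2, hx2r, hx2q⟩ := exists_sym23_of_mem_sq _ ((th_eq_zero_iff hqI).mp h3)
    refine ⟨x1 + x2, ?_, ?_, ?_⟩
    · rw [e23, map_add, hx1, hx2]
    · rw [er12, map_add, hx2r, add_zero]
    · rw [er23, map_add, hx2q]; abel
  · rintro ⟨x, hx, rfl, rfl⟩
    rw [e23] at hx
    rw [er12, er23]
    exact hback x hx
  · intro ω
    obtain ⟨t, rfl⟩ := KaehlerDifferential.tensorProductTo_surjective k A ω
    refine ⟨(2 : k)⁻¹ • (t - L k A (mm k A t)), 0, ?_, ?_⟩
    · rw [mul'_eq, mul'_eq, map_zero, map_smul, map_sub, mm_L, sub_self, smul_zero]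
    · rw [hψ1, map_smul, map_sub, th_L, sub_zero]
      show (2 : k)⁻¹ • th k A t + (2 : k)⁻¹ • th k A t = th k A t
      rw [← add_smul, ← two_mul, mul_inv_cancel₀ h2, one_smul]

end Groth.Agent.S19213
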