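import Groth.Statements.S19216
import Mathlib.Tactic.FieldSimp
import Mathlib.Tactic.LinearCombination
import Mathlib.Algebra.BigOperators.Field

set_option autoImplicit false
universe u
open SymRep

namespace Groth.Agent.S19216

/-- Let k be a field of characteristic zero and r, s ≥ 1. Realise the standard representation of the
symmetric group on a finite set T as the hyperplane of functions T → k with sum zero, the group
acting by precomposition with the inverse. Then the standard representation of the symmetric group
of Fin r ⊕ Fin s, restricted to the subgroup S_r × S_s, is isomorphic to the direct sum of the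
standard representations of S_r and of S_s and of a one-dimensional trivial representation: there is
a k-linear map E from functions on Fin r ⊕ Fin s to triples (function on Fin r, function on Fin s,
scalar), compatible with the actions of S_r × S_s (trivial on the scalar), which maps the sum-zero
hyperplane bijectively onto the product of the two sum-zero hyperplanes and k. (The published
statement is over the complex numbers; a field of characteristic zero is used here. The published
statement also gives the analogous decomposition for any number of blocks, which follows by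
induction; only the two-block case is stated here.) -/
theorem result (k : Type u) [Field k] [CharZero k]
    (r s : ℕ) (hr : 1 ≤ r) (hs : 1 ≤ s) :
    ∃ E : (Fin r ⊕ Fin s → k) →ₗ[k] (Fin r → k) × (Fin s → k) × k,
      (∀ (σ : Equiv.Perm (Fin r)) (τ : Equiv.Perm (Fin s)) (f : Fin r ⊕ Fin s → k),
        E (f ∘ ⇑(Equiv.sumCongr σ τ).symm) = ((E f).1 ∘ ⇑σ.symm, (E f).2.1 ∘ ⇑τ.symm, (E f).2.2)) ∧
      Set.BijOn E {f | ∑ i, f i = 0}
        ({g : Fin r → k | ∑ i, g i = 0} ×ˢ ({h : Fin s → k | ∑ i, h i = 0} ×ˢ Set.univ)) := by
  classical
  have hr0 : (r : k) ≠ 0 := by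
    have : r ≠ 0 := by omega
    exact_mod_cast this
  have hs0 : (s : k) ≠ 0 := by
    have : s ≠ 0 := by omega
    exact_mod_cast this
  let E : (Fin r ⊕ Fin s → k) →ₗ[k] (Fin r → k) × (Fin s → k) × k :=
    { toFun := fun f => (fun i => f (Sum.inl i) - (∑ j, f (Sum.inl j)) / r,
        fun i => f (Sum.inr i) - (∑ j, f (Sum.inr j)) / s, ∑ j, f (Sum.inl j))
      map_add' := by
        intro f g
        ext i
        · simp only [Pi.add_apply, Finset.sum_add_distrib, Prod.mk_add_mk]
          ring
        · simp only [Pi.add_apply, Finset.sum_add_distrib, Prod.mk_add_mk]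
          ring
        · simp only [Pi.add_apply, Finset.sum_add_distrib, Prod.mk_add_mk]
      map_smul' := by
        intro c f
        ext i
        · simp only [Pi.smul_apply, smul_eq_mul, ← Finset.mul_sum, RingHom.id_apply, Prod.smul_mk]
          ring
        · simp only [Pi.smul_apply, smul_eq_mul, ← Finset.mul_sum, RingHom.id_apply, Prod.smul_mk]
          ring
        · simp only [Pi.smul_apply, smul_eq_mul, ← Finset.mul_sum, RingHom.id_apply, Prod.smul_mk] }
  have hE : ∀ f, E f = (fun i => f (Sum.inl i) - (∑ j, f (Sum.inl j)) / r,
        fun i => f (Sum.inr i) - (∑ j, f (Sum.inr j)) / s, ∑ j, f (Sum.inl j)) := fun f => rfl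
  refine ⟨E, ?_, ?_, ?_, ?_⟩
  · intro σ τ f
    have h1 : ∑ j, (f ∘ ⇑(Equiv.sumCongr σ τ).symm) (Sum.inl j) = ∑ j, f (Sum.inl j) := by
      have := Equiv.sum_comp σ.symm (fun j => f (Sum.inl j))
      simpa using this
    have h2 : ∑ j, (f ∘ ⇑(Equiv.sumCongr σ τ).symm) (Sum.inr j) = ∑ j, f (Sum.inr j) := by
      have := Equiv.sum_comp τ.symm (fun j => f (Sum.inr j))
      simpa using this
    rw [hE, hE, h1, h2]
    ext i <;> simp
  · intro f hf
    simp only [Set.mem_setOf_eq] at hf
    rw [hE]
    refine ⟨?_, ?_, Set.mem_univ _⟩
    · simp only [Set.mem_setOf_eq, Finset.sum_sub_distrib, Finset.sum_const, Finset.card_univ,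
        Fintype.card_fin, nsmul_eq_mul]
      field_simp
      ring
    · simp only [Set.mem_setOf_eq, Finset.sum_sub_distrib, Finset.sum_const, Finset.card_univ,
        Fintype.card_fin, nsmul_eq_mul]
      field_simp
      ring
  · intro f hf f' hf' hff'
    simp only [Set.mem_setOf_eq, Fintype.sum_sum_type] at hf hf'
    rw [hE, hE] at hff'
    simp only [Prod.mk.injEq] at hff'
    obtain ⟨h1, h2, h3⟩ := hff'
    have h4 : ∑ j, f (Sum.inr j) = ∑ j, f' (Sum.inr j) := by
      have e1 : ∑ j, f (Sum.inr j) = - ∑ j, f (Sum.inl j) := by linear_combination hf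
      have e2 : ∑ j, f' (Sum.inr j) = - ∑ j, f' (Sum.inl j) := by linear_combination hf'
      rw [e1, e2, h3]
    funext x
    rcases x with i | i
    · have := congrFun h1 i
      simp only [h3] at this
      linear_combination this
    · have := congrFun h2 i
      simp only [h4] at this
      linear_combination this
  · rintro ⟨g, h, c⟩ ⟨hg, hh, -⟩
    simp only [Set.mem_setOf_eq] at hg hh
    refine ⟨Sum.elim (fun i => g i + c / r) (fun i => h i - c / s), ?_, ?_⟩
    · simp only [Set.mem_setOf_eq, Fintype.sum_sum_type, Sum.elim_inl, Sum.elim_inr,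
        Finset.sum_add_distrib, Finset.sum_sub_distrib, hg, hh, Finset.sum_const, Finset.card_univ,
        Fintype.card_fin, nsmul_eq_mul]
      field_simp
      ring
    · rw [hE]
      simp only [Sum.elim_inl, Sum.elim_inr,
        Finset.sum_add_distrib, Finset.sum_sub_distrib, hg, hh, Finset.sum_const, Finset.card_univ,
        Fintype.card_fin, nsmul_eq_mul, Prod.mk.injEq]
      refine ⟨?_, ?_, ?_⟩
      · funext i
        field_simp
        ring
      · funext i
        field_simp
        ring
      · field_simp
        ring

end Groth.Agent.S19216
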