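import Groth.Statements.S19218
import Mathlib

set_option autoImplicit false
universe u v
open TensorProduct
open DiagIdeal

namespace Groth.Agent.S19218

section General
variable {R : Type*} [CommRing R]

lemma key (T : R →+* R) (I : Ideal R) (S : Set R) (hS : I = Ideal.span S)
    (hneg : ∀ g ∈ S, T g = -g) (hT : ∀ h, T h - h ∈ I) :
    ∀ s : ℕ, ∀ x ∈ I ^ s, T x - (-1) ^ s * x ∈ I ^ (s + 1) := by
  have hTI : ∀ g ∈ I, T g ∈ I := fun g hg => by
    have := I.add_mem (hT g) hg
    simpa using this
  have h1 : ∀ g ∈ I, T g + g ∈ I ^ 2 := by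
    intro g hg
    rw [hS] at hg
    induction hg using Submodule.span_induction with
    | mem g hg => rw [hneg g hg]; simp
    | zero => simp
    | add a b _ _ ha hb =>
      have := (I ^ 2).add_mem ha hb
      convert this using 1
      rw [map_add]; ring
    | smul r g hg ih =>
      have hgI : g ∈ I := by rw [hS]; exact hg
      have : T (r • g) + r • g = (T r - r) * T g + r * (T g + g) := by
        rw [smul_eq_mul, map_mul]; ring
      rw [this]
      refine (I ^ 2).add_mem ?_ (Ideal.mul_mem_left _ _ ih)
      rw [pow_two]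
      exact Ideal.mul_mem_mul (hT r) (hTI g hgI)
  intro s
  induction s with
  | zero => intro x _; simpa using hT x
  | succ s ih =>
    intro x hx
    rw [pow_succ] at hx
    refine Submodule.mul_induction_on hx ?_ ?_
    · intro y hy g hg
      have e1 := ih y hy
      have e2 := h1 g hg
      have : T (y * g) - (-1) ^ (s + 1) * (y * g) =
          (T y - (-1) ^ s * y) * T g + (-1) ^ s * y * (T g + g) := by
        rw [map_mul]; ring
      rw [this]
      refine Ideal.add_mem _ ?_ ?_
      · rw [pow_succ I (s + 1)]; exact Ideal.mul_mem_mul e1 (hTI g hg)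
      · have : I ^ (s + 1 + 1) = I ^ s * I ^ 2 := by rw [← pow_add]
        rw [this]
        exact Ideal.mul_mem_mul (Ideal.mul_mem_left _ _ hy) e2
    · intro a b ha hb
      have := Ideal.add_mem _ ha hb
      convert this using 1
      rw [map_add]; ring

end General

section Tensor
variable (k : Type u) [Field k] (A : Type v) [CommRing A] [Algebra k A] (n : ℕ)

lemma reindex_one (σ : Equiv.Perm (Fin n)) :
    PiTensorProduct.reindex k (fun _ : Fin n => A) σ (1 : ⨂[k] _ : Fin n, A) = 1 := by
  rw [PiTensorProduct.one_def, PiTensorProduct.reindex_tprod]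
  rfl

lemma reindex_mul (σ : Equiv.Perm (Fin n)) (x y : ⨂[k] _ : Fin n, A) :
    PiTensorProduct.reindex k (fun _ : Fin n => A) σ (x * y) =
      PiTensorProduct.reindex k (fun _ : Fin n => A) σ x *
        PiTensorProduct.reindex k (fun _ : Fin n => A) σ y := by
  induction x using PiTensorProduct.induction_on with
  | smul_tprod r f =>
    induction y using PiTensorProduct.induction_on with
    | smul_tprod r' g =>
      rw [PiTensorProduct.smul_tprod_mul_smul_tprod, map_smul, map_smul, map_smul,
        PiTensorProduct.reindex_tprod, PiTensorProduct.reindex_tprod,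
        PiTensorProduct.reindex_tprod]
      erw [PiTensorProduct.smul_tprod_mul_smul_tprod]
      rfl
    | add a b ha hb =>
      rw [mul_add, map_add, map_add, ha, hb]
      erw [mul_add]
  | add a b ha hb =>
    rw [add_mul, map_add, map_add, ha, hb]
    erw [add_mul]

noncomputable def Tσ (σ : Equiv.Perm (Fin n)) :
    (⨂[k] _ : Fin n, A) →ₐ[k] (⨂[k] _ : Fin n, A) :=
  AlgHom.ofLinearMap (PiTensorProduct.reindex k (fun _ : Fin n => A) σ).toLinearMap
    (reindex_one k A n σ) (reindex_mul k A n σ)

lemma Tσ_apply (σ : Equiv.Perm (Fin n)) (x : ⨂[k] _ : Fin n, A) :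
    Tσ k A n σ x = PiTensorProduct.reindex k (fun _ : Fin n => A) σ x := rfl

lemma Tσ_single (σ : Equiv.Perm (Fin n)) (l : Fin n) (a : A) :
    Tσ k A n σ (PiTensorProduct.singleAlgHom (R := k) (A := fun _ : Fin n => A) l a) =
      PiTensorProduct.singleAlgHom (R := k) (A := fun _ : Fin n => A) (σ l) a := by
  rw [Tσ_apply, PiTensorProduct.singleAlgHom_apply, PiTensorProduct.singleAlgHom_apply,
    PiTensorProduct.reindex_tprod]
  congr 1
  funext i
  simp only [MonoidHom.mulSingle_apply, Pi.mulSingle_apply]
  by_cases h : i = σ l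
  · subst h; simp
  · rw [if_neg h, if_neg]
    intro h'
    exact h (by rw [← h']; simp)

end Tensor

/-- Let k be an algebraically closed field of characteristic zero and A a smooth k-algebra which is a
domain of Krull dimension 2. In the n-fold tensor power R of A over k, indexed by Fin n, let I_p (p
= (i, j), i < j) be the ideal generated by the a_i − a_j, a ∈ A, and let I be the intersection of
the I_p, the ideal of the big diagonal. Assume that for every s ≥ 0 the power I ^ s is the
intersection of the powers I_p ^ s (a property of the big diagonal of a smooth surface that the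
source takes from the literature). Then for m ≥ 1 every element of R fixed by all permutations of
the n factors and lying in I ^ (2m − 1) lies in I ^ (2m): on the symmetric product the invariants of
the odd power and of the next even power of the ideal of the big diagonal coincide. (The source
states the sheaf version for a smooth quasi-projective complex surface, using the displayed property
of the powers without restating it as a hypothesis.) -/
theorem result (k : Type u) [Field k] [IsAlgClosed k] [CharZero k]
    (A : Type v) [CommRing A] [Algebra k A] [Algebra.Smooth k A] [IsDomain A]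
    (hdim : ringKrullDim A = 2) (n : ℕ)
    (I : Fin n × Fin n → Ideal (⨂[k] _ : Fin n, A))
    (hI : ∀ p, I p = Ideal.span (Set.range fun a : A =>
        PiTensorProduct.singleAlgHom (R := k) (A := fun _ : Fin n => A) p.1 a -
        PiTensorProduct.singleAlgHom (R := k) (A := fun _ : Fin n => A) p.2 a))
    (IΔ : Ideal (⨂[k] _ : Fin n, A))
    (hIΔ : IΔ = ⨅ p ∈ Finset.univ.filter (fun p : Fin n × Fin n => p.1 < p.2), I p)
    (hpow : ∀ s : ℕ, IΔ ^ s = ⨅ p ∈ Finset.univ.filter (fun p : Fin n × Fin n => p.1 < p.2), (I p) ^ s)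
    (m : ℕ) (hm : 1 ≤ m) (x : ⨂[k] _ : Fin n, A)
    (hx : ∀ σ : Equiv.Perm (Fin n), PiTensorProduct.reindex k (fun _ : Fin n => A) σ x = x)
    (hmem : x ∈ IΔ ^ (2 * m - 1)) :
    x ∈ IΔ ^ (2 * m) := by
  classical
  rw [hpow (2 * m)]
  rw [hpow (2 * m - 1)] at hmem
  simp only [Submodule.mem_iInf] at hmem ⊢
  intro p hp
  have hxp := hmem p hp
  have hlt : p.1 < p.2 := (Finset.mem_filter.mp hp).2
  have hne : p.1 ≠ p.2 := ne_of_lt hlt
  set τ : Equiv.Perm (Fin n) := Equiv.swap p.1 p.2 with hτ
  set T := Tσ k A n τ with hTdef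
  -- generators are negated
  have hneg : ∀ g ∈ (Set.range fun a : A =>
        PiTensorProduct.singleAlgHom (R := k) (A := fun _ : Fin n => A) p.1 a -
        PiTensorProduct.singleAlgHom (R := k) (A := fun _ : Fin n => A) p.2 a),
        (T : (⨂[k] _ : Fin n, A) →+* (⨂[k] _ : Fin n, A)) g = -g := by
    rintro g ⟨a, rfl⟩
    show T _ = _
    rw [map_sub, hTdef, Tσ_single, Tσ_single, hτ, Equiv.swap_apply_left, Equiv.swap_apply_right]
    ring
  -- T is congruent to the identity modulo I p
  have hcong : (Ideal.Quotient.mkₐ k (I p)).comp T = Ideal.Quotient.mkₐ k (I p) := by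
    apply PiTensorProduct.algHom_ext
    intro l
    ext a
    simp only [AlgHom.comp_apply, Ideal.Quotient.mkₐ_eq_mk]
    rw [Ideal.Quotient.eq, hTdef, Tσ_single, hI p]
    by_cases h1 : l = p.1
    · subst h1
      rw [hτ, Equiv.swap_apply_left]
      have : PiTensorProduct.singleAlgHom (R := k) (A := fun _ : Fin n => A) p.2 a -
          PiTensorProduct.singleAlgHom (R := k) (A := fun _ : Fin n => A) p.1 a =
          -(PiTensorProduct.singleAlgHom (R := k) (A := fun _ : Fin n => A) p.1 a -
          PiTensorProduct.singleAlgHom (R := k) (A := fun _ : Fin n => A) p.2 a) := by ring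
      rw [this]
      exact Ideal.neg_mem_iff _ |>.mpr (Ideal.subset_span ⟨a, rfl⟩)
    · by_cases h2 : l = p.2
      · subst h2
        rw [hτ, Equiv.swap_apply_right]
        exact Ideal.subset_span ⟨a, rfl⟩
      · rw [hτ, Equiv.swap_apply_of_ne_of_ne h1 h2, sub_self]
        exact Ideal.zero_mem _
  have hT : ∀ h : (⨂[k] _ : Fin n, A), (T : (⨂[k] _ : Fin n, A) →+* (⨂[k] _ : Fin n, A)) h - h ∈ I p := by
    intro h
    rw [← Ideal.Quotient.eq]
    exact DFunLike.congr_fun hcong h
  have hkey := key (T : (⨂[k] _ : Fin n, A) →+* (⨂[k] _ : Fin n, A)) (I p) _ (hI p) hneg hT (2 * m - 1) x hxp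
  have hTx : (T : (⨂[k] _ : Fin n, A) →+* (⨂[k] _ : Fin n, A)) x = x := hx τ
  have hodd : Odd (2 * m - 1) := by
    refine ⟨m - 1, ?_⟩
    omega
  rw [hTx, hodd.neg_one_pow, show 2 * m - 1 + 1 = 2 * m by omega] at hkey
  have h2 : (2 : k) ≠ 0 := two_ne_zero
  have hx2 : x = (2⁻¹ : k) • (x - -1 * x) := by
    have : x - -1 * x = (2 : k) • x := by
      rw [two_smul]; ring
    rw [this, smul_smul, inv_mul_cancel₀ h2, one_smul]
  rw [hx2]
  exact Submodule.smul_of_tower_mem _ _ hkey

end Groth.Agent.S19218
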