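import Groth.Statements.S19221
import Mathlib

set_option autoImplicit false
universe u
open SymRep

namespace Groth.Agent.S19221

/-- integer version of the cycle vectors -/
def zI (c : Fin 2) (i j l : Fin 4) (c' : Fin 2) (a b : Fin 4) : ℤ :=
  if c' = c then
    ((if a = i ∧ b = j then 1 else 0) + (if a = j ∧ b = l then 1 else 0) + (if a = l ∧ b = i then 1 else 0)
      - (if a = j ∧ b = i then 1 else 0) - (if a = l ∧ b = j then 1 else 0) - (if a = i ∧ b = l then 1 else 0))
  else 0

/-- integer coordinate matrix of the transformed wedge -/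
def Mint (σ : Equiv.Perm (Fin 4)) : Matrix (Fin 4) (Fin 4) ℤ :=
  Matrix.of (fun r s => zI (![0,1,0,1] r) (σ 0) (σ (![1,1,2,2] r)) (σ (![2,2,3,3] r))
    (![0,0,1,1] s) 0 (![1,2,1,2] s))

set_option maxRecDepth 100000 in
theorem sumdet : ∑ σ : Equiv.Perm (Fin 4), (Mint σ).det = -12 := by
  decide +kernel


/-- Let k be a field of characteristic zero and F the k-space of functions Fin 2 → Fin 4 → Fin 4 → k,
with the symmetric group of Fin 4 acting through P σ f c a b = f c (σ⁻¹ a) (σ⁻¹ b). The signed edge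
vectors of the complete graph on four vertices live in F as the functions antisymmetric in the two
vertex arguments, and for a colour c and an oriented 3-cycle i → j → l → i the cycle vector z c i j
l is the function equal, in colour c, to +1 at (i,j), (j,l), (l,i), to −1 at (j,i), (l,j), (i,l) and
to 0 elsewhere (and 0 in the other colour); these cycle vectors span k² ⊗ (cycle space), the
representation written C² ⊗ q in the published text. Let Γ be the graph with edges 01, 02, 03, 12,
23 (a 4-cycle with one chord), whose cycle space is spanned by the cycles (0,1,2) and (0,2,3), and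
let ω be the product in the exterior algebra of F of the four vectors z 0 0 1 2, z 1 0 1 2, z 0 0 2
3, z 1 0 2 3 (a generator of the top exterior power of k² ⊗ q_Γ). Then ω is fixed by the stabiliser
of Γ in the symmetric group (generated by the transpositions (0 2) and (1 3)), and the sum over all
24 permutations σ of the images of ω under the maps induced by P σ is nonzero: the projection of ω
to the invariants of the fourth exterior power of k² ⊗ q_{K₄} does not vanish. (The published
statement is over the complex numbers; a field of characteristic zero is used here. The published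
statement also asserts that this map is an isomorphism onto the one-dimensional space of
S₄-invariants of the fourth exterior power of k² ⊗ q_{K₄}; only its non-vanishing is stated here.) -/
theorem result (k : Type u) [Field k] [CharZero k]
    (P : Equiv.Perm (Fin 4) → ((Fin 2 → Fin 4 → Fin 4 → k) →ₗ[k] (Fin 2 → Fin 4 → Fin 4 → k)))
    (hP : ∀ (σ : Equiv.Perm (Fin 4)) (f : Fin 2 → Fin 4 → Fin 4 → k) (c : Fin 2) (a b : Fin 4),
      P σ f c a b = f c (σ.symm a) (σ.symm b))
    (z : Fin 2 → Fin 4 → Fin 4 → Fin 4 → (Fin 2 → Fin 4 → Fin 4 → k))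
    (hz : ∀ (c : Fin 2) (i j l : Fin 4) (c' : Fin 2) (a b : Fin 4), z c i j l c' a b =
      if c' = c then
        ((if a = i ∧ b = j then 1 else 0) + (if a = j ∧ b = l then 1 else 0) + (if a = l ∧ b = i then 1 else 0)
          - (if a = j ∧ b = i then 1 else 0) - (if a = l ∧ b = j then 1 else 0) - (if a = i ∧ b = l then 1 else 0))
      else 0)
    (ω : ExteriorAlgebra k (Fin 2 → Fin 4 → Fin 4 → k))
    (hω : ω = ExteriorAlgebra.ι k (z 0 0 1 2) * ExteriorAlgebra.ι k (z 1 0 1 2) *
      ExteriorAlgebra.ι k (z 0 0 2 3) * ExteriorAlgebra.ι k (z 1 0 2 3)) :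
    ExteriorAlgebra.map (P (Equiv.swap 0 2)) ω = ω ∧
    ExteriorAlgebra.map (P (Equiv.swap 1 3)) ω = ω ∧
    (∑ σ : Equiv.Perm (Fin 4), ExteriorAlgebra.map (P σ) ω) ≠ 0 := by
  classical
  have hPz : ∀ (σ : Equiv.Perm (Fin 4)) (c : Fin 2) (i j l : Fin 4),
      P σ (z c i j l) = z c (σ i) (σ j) (σ l) := by
    intro σ c i j l
    funext c' a b
    rw [hP, hz, hz]
    simp only [Equiv.symm_apply_eq]
  have hrot : ∀ (c : Fin 2) (i j l : Fin 4), z c j l i = z c i j l := by
    intro c i j l
    funext c' a b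
    rw [hz, hz]
    by_cases h : c' = c
    · rw [if_pos h, if_pos h]; ring
    · rw [if_neg h, if_neg h]
  have hrev : ∀ (c : Fin 2) (i j l : Fin 4), z c i l j = - z c i j l := by
    intro c i j l
    funext c' a b
    show z c i l j c' a b = - (z c i j l c' a b)
    rw [hz, hz]
    by_cases h : c' = c
    · rw [if_pos h, if_pos h]; ring
    · rw [if_neg h, if_neg h, neg_zero]
  have hmap : ∀ σ : Equiv.Perm (Fin 4), ExteriorAlgebra.map (P σ) ω =
      ExteriorAlgebra.ι k (z 0 (σ 0) (σ 1) (σ 2)) * ExteriorAlgebra.ι k (z 1 (σ 0) (σ 1) (σ 2)) *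
      ExteriorAlgebra.ι k (z 0 (σ 0) (σ 2) (σ 3)) * ExteriorAlgebra.ι k (z 1 (σ 0) (σ 2) (σ 3)) := by
    intro σ
    rw [hω, map_mul, map_mul, map_mul, ExteriorAlgebra.map_apply_ι, ExteriorAlgebra.map_apply_ι,
      ExteriorAlgebra.map_apply_ι, ExteriorAlgebra.map_apply_ι, hPz, hPz, hPz, hPz]
  have hanti : ∀ x y : Fin 2 → Fin 4 → Fin 4 → k,
      ExteriorAlgebra.ι k x * ExteriorAlgebra.ι k y =
        - (ExteriorAlgebra.ι k y * ExteriorAlgebra.ι k x) :=
    fun x y => eq_neg_of_add_eq_zero_left (ExteriorAlgebra.ι_add_mul_swap x y)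
  refine ⟨?_, ?_, ?_⟩
  · -- invariance under (0 2)
    rw [hmap]
    have e0 : (Equiv.swap (0 : Fin 4) 2) 0 = 2 := by decide
    have e1 : (Equiv.swap (0 : Fin 4) 2) 1 = 1 := by decide
    have e2 : (Equiv.swap (0 : Fin 4) 2) 2 = 0 := by decide
    have e3 : (Equiv.swap (0 : Fin 4) 2) 3 = 3 := by decide
    rw [e0, e1, e2, e3]
    have hA : ∀ c : Fin 2, z c 2 1 0 = - z c 0 1 2 := by
      intro c
      rw [hrot c 0 2 1, hrev c 0 1 2]
    have hC : ∀ c : Fin 2, z c 2 0 3 = - z c 0 2 3 := by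
      intro c
      rw [hrot c 3 2 0, hrot c 0 3 2, hrev c 0 2 3]
    rw [hA, hA, hC, hC, hω]
    simp only [map_neg, neg_mul, mul_neg, neg_neg]
  · -- invariance under (1 3)
    rw [hmap]
    have e0 : (Equiv.swap (1 : Fin 4) 3) 0 = 0 := by decide
    have e1 : (Equiv.swap (1 : Fin 4) 3) 1 = 3 := by decide
    have e2 : (Equiv.swap (1 : Fin 4) 3) 2 = 2 := by decide
    have e3 : (Equiv.swap (1 : Fin 4) 3) 3 = 1 := by decide
    rw [e0, e1, e2, e3]
    rw [hrev 0 0 2 3, hrev 1 0 2 3, hrev 0 0 1 2, hrev 1 0 1 2, hω]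
    simp only [map_neg, neg_mul, mul_neg, neg_neg]
    have hda := hanti (z 1 0 2 3) (z 0 0 1 2)
    have hca := hanti (z 0 0 2 3) (z 0 0 1 2)
    have hdb := hanti (z 1 0 2 3) (z 1 0 1 2)
    have hcb := hanti (z 0 0 2 3) (z 1 0 1 2)
    generalize ExteriorAlgebra.ι k (z 0 0 1 2) = a at hda hca hdb hcb ⊢
    generalize ExteriorAlgebra.ι k (z 1 0 1 2) = b at hda hca hdb hcb ⊢
    generalize ExteriorAlgebra.ι k (z 0 0 2 3) = c at hda hca hdb hcb ⊢
    generalize ExteriorAlgebra.ι k (z 1 0 2 3) = d at hda hca hdb hcb ⊢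
    calc c * d * a * b = c * (d * a) * b := by simp only [mul_assoc]
      _ = - (c * a * d * b) := by rw [hda]; simp only [mul_neg, neg_mul, mul_assoc]
      _ = a * c * d * b := by rw [hca]; simp only [neg_mul, neg_neg]
      _ = a * c * (d * b) := by simp only [mul_assoc]
      _ = - (a * c * b * d) := by rw [hdb]; simp only [mul_neg, mul_assoc]
      _ = - (a * (c * b) * d) := by simp only [mul_assoc]
      _ = a * b * c * d := by rw [hcb]; simp only [mul_neg, neg_mul, neg_neg, mul_assoc]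
  · -- non-vanishing of the symmetrisation
    intro hsum
    let π : (Fin 2 → Fin 4 → Fin 4 → k) →ₗ[k] (Fin 4 → k) :=
      { toFun := fun f s => f (![0,0,1,1] s) 0 (![1,2,1,2] s)
        map_add' := fun f g => rfl
        map_smul' := fun a f => rfl }
    let D : (Fin 2 → Fin 4 → Fin 4 → k) [⋀^Fin 4]→ₗ[k] k :=
      (Matrix.detRowAlternating).compLinearMap π
    let fam : ∀ i : ℕ, (Fin 2 → Fin 4 → Fin 4 → k) [⋀^Fin i]→ₗ[k] k :=
      fun i => if h : i = 4 then (by subst h; exact D) else 0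
    have hfam : fam 4 = D := by
      show (if h : 4 = 4 then _ else _) = D
      rw [dif_pos rfl]
    have hprod : ∀ v0 v1 v2 v3 : Fin 2 → Fin 4 → Fin 4 → k,
        ExteriorAlgebra.ι k v0 * ExteriorAlgebra.ι k v1 * ExteriorAlgebra.ι k v2 *
          ExteriorAlgebra.ι k v3 = ExteriorAlgebra.ιMulti k 4 ![v0, v1, v2, v3] := by
      intro v0 v1 v2 v3
      rw [ExteriorAlgebra.ιMulti_apply]
      simp [List.ofFn_succ, mul_assoc]
    have hzI : ∀ (c : Fin 2) (i j l : Fin 4) (c' : Fin 2) (a b : Fin 4),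
        z c i j l c' a b = ((zI c i j l c' a b : ℤ) : k) := by
      intro c i j l c' a b
      rw [hz]
      unfold zI
      simp only [Int.cast_ite, Int.cast_add, Int.cast_sub, Int.cast_one, Int.cast_zero]
    have hL : ∀ σ : Equiv.Perm (Fin 4),
        ExteriorAlgebra.liftAlternating fam (ExteriorAlgebra.map (P σ) ω) =
          (((Mint σ).det : ℤ) : k) := by
      intro σ
      rw [hmap, hprod, ExteriorAlgebra.liftAlternating_apply_ιMulti, hfam, Int.cast_det]
      show Matrix.det (fun r => π (![z 0 (σ 0) (σ 1) (σ 2), z 1 (σ 0) (σ 1) (σ 2),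
        z 0 (σ 0) (σ 2) (σ 3), z 1 (σ 0) (σ 2) (σ 3)] r)) = _
      congr 1
      funext r s
      have hvec : (![z 0 (σ 0) (σ 1) (σ 2), z 1 (σ 0) (σ 1) (σ 2),
          z 0 (σ 0) (σ 2) (σ 3), z 1 (σ 0) (σ 2) (σ 3)] : Fin 4 → (Fin 2 → Fin 4 → Fin 4 → k)) r =
          z (![0,1,0,1] r) (σ 0) (σ (![1,1,2,2] r)) (σ (![2,2,3,3] r)) := by
        fin_cases r <;> rfl
      show (![z 0 (σ 0) (σ 1) (σ 2), z 1 (σ 0) (σ 1) (σ 2),
          z 0 (σ 0) (σ 2) (σ 3), z 1 (σ 0) (σ 2) (σ 3)] : Fin 4 → (Fin 2 → Fin 4 → Fin 4 → k)) r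
            (![0,0,1,1] s) 0 (![1,2,1,2] s) = ((Mint σ r s : ℤ) : k)
      rw [hvec, hzI]
      rfl
    have h1 := congrArg (ExteriorAlgebra.liftAlternating fam) hsum
    rw [map_sum, map_zero] at h1
    rw [Finset.sum_congr rfl (fun σ _ => hL σ), ← Int.cast_sum, sumdet] at h1
    have h2 : ((-12 : ℤ) : k) ≠ 0 := by
      rw [Ne, Int.cast_eq_zero]
      decide
    exact h2 h1

end Groth.Agent.S19221
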