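import Groth.Statements.S19224
-- import your own Groth.Agent.* helpers here
import Groth.Agent.S7724
import Mathlib.RepresentationTheory.Homological.GroupCohomology.LongExactSequence
import Mathlib.RingTheory.RootsOfUnity.AlgebraicallyClosed
import Mathlib.FieldTheory.IsSepClosed

set_option autoImplicit false
set_option linter.style.haveILetI false
open GalCoh

namespace Groth.Agent.S19224

open CategoryTheory groupCohomology

section aux

variable {Q : Type} [Group Q]

/-- The morphism of trivial representations induced by a linear map. -/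
noncomputable def tmap {V W : Type} [AddCommGroup V] [AddCommGroup W] [Module ℤ V] [Module ℤ W]
    (f : V →ₗ[ℤ] W) : Rep.trivial ℤ Q V ⟶ Rep.trivial ℤ Q W :=
  Rep.ofHom ⟨f, fun _ => rfl⟩

lemma tmap_hom_apply {V W : Type} [AddCommGroup V] [AddCommGroup W] [Module ℤ V] [Module ℤ W]
    (f : V →ₗ[ℤ] W) (x : V) : (tmap (Q := Q) f).hom x = f x := rfl

lemma tmap_comp {U V W : Type} [AddCommGroup U] [AddCommGroup V] [AddCommGroup W]
    [Module ℤ U] [Module ℤ V] [Module ℤ W] (f : U →ₗ[ℤ] V) (g : V →ₗ[ℤ] W) :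
    tmap (Q := Q) f ≫ tmap g = tmap (g ∘ₗ f) := rfl

lemma tmap_nsmul {V W : Type} [AddCommGroup V] [AddCommGroup W] [Module ℤ V] [Module ℤ W]
    (n : ℕ) (f : V →ₗ[ℤ] W) : tmap (Q := Q) (n • f) = n • tmap f := by
  apply Rep.hom_ext
  apply Representation.IntertwiningMap.ext
  rfl

lemma tmap_id {V : Type} [AddCommGroup V] [Module ℤ V] :
    tmap (Q := Q) (LinearMap.id : V →ₗ[ℤ] V) = 𝟙 _ := rfl

/-- Short exactness for sequences of representations, checked on elements. -/
lemma shortExact_of {k : Type} [CommRing k] {X₁ X₂ X₃ : Rep.{0} k Q} (f : X₁ ⟶ X₂) (g : X₂ ⟶ X₃)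
    (hf : Function.Injective f.hom) (hg : Function.Surjective g.hom)
    (hfg : ∀ x, g.hom (f.hom x) = 0) (hex : ∀ y, g.hom y = 0 → ∃ x, f.hom x = y) :
    ∃ w : f ≫ g = 0, (ShortComplex.mk f g w).ShortExact := by
  have w : f ≫ g = 0 := by
    apply Rep.hom_ext
    refine DFunLike.ext _ _ (fun x => ?_)
    exact hfg x
  refine ⟨w, { exact := ?_, mono_f := (Rep.mono_iff_injective f).2 hf,
               epi_g := (Rep.epi_iff_surjective g).2 hg }⟩
  rw [← ShortComplex.exact_map_iff_of_faithful _ (forget₂ (Rep.{0} k Q) (ModuleCat.{0} k))]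
  rw [ShortComplex.moduleCat_exact_iff]
  intro y hy
  exact hex y hy

/-- Additivity of the functoriality of group cohomology in the coefficients. -/
lemma map_nsmul' {k : Type} [CommRing k] {A B : Rep.{0} k Q} (m : ℕ) (φ : A ⟶ B) (i : ℕ) :
    groupCohomology.map (MonoidHom.id Q) (m • φ) i = m • groupCohomology.map (MonoidHom.id Q) φ i := by
  show (HomologicalComplex.homologyFunctor (ModuleCat k) _ i).map
      ((cochainsFunctor k Q).map (m • φ)) =
    m • (HomologicalComplex.homologyFunctor (ModuleCat k) _ i).map ((cochainsFunctor k Q).map φ)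
  rw [Functor.map_nsmul, Functor.map_nsmul]

lemma nsmul_hom_apply {k : Type} [CommRing k] {M N : ModuleCat.{0} k} (n : ℕ) (F : M ⟶ N)
    (a : M) : (n • F) a = n • F a := rfl

lemma nsmul_zsmul_comm' {B : Type*} [AddCommGroup B] (n : ℕ) (m : ℤ) (x : B) :
    n • (m • x) = m • (n • x) := by
  rw [← natCast_zsmul, ← natCast_zsmul, smul_smul, smul_smul, mul_comm]

end aux

/-- Let Q be a finite group such that H^3(Q, ℤ) = 0 for the trivial action, and let k be a separably
closed field of characteristic p ≥ 0 with p not dividing the order of Q. Then H^2(Q, k^×) = 0, where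
Q acts trivially on the units of k. (Groups and fields are taken in the lowest universe, as integral
coefficients in the group-cohomology library require.) -/
theorem result (Q : Type) [Group Q] [Finite Q]
    (hQ : Subsingleton (groupCohomology (Rep.trivial ℤ Q ℤ) 3)) (k : Type) [Field k] [IsSepClosed k]
    (p : ℕ) [CharP k p] (hp : ¬ p ∣ Nat.card Q) :
    Subsingleton (groupCohomology (Rep.trivial ℤ Q (Additive kˣ)) 2) := by
  classical
  set n := Nat.card Q with hn
  have hnpos : 0 < n := Nat.card_pos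
  haveI : NeZero n := ⟨hnpos.ne'⟩
  haveI : NeZero (n : k) := ⟨fun h => hp ((CharP.cast_eq_zero_iff k p n).1 h)⟩
  -- primitive root and its `n`-th root
  obtain ⟨ζ, hζ⟩ := HasEnoughRootsOfUnity.exists_primitiveRoot k n
  have hζ0 : ζ ≠ 0 := (hζ.isUnit hnpos.ne').ne_zero
  obtain ⟨ξ, hξ⟩ := IsSepClosed.exists_pow_nat_eq ζ n
  have hξ0 : ξ ≠ 0 := by
    rintro rfl
    rw [zero_pow hnpos.ne'] at hξ
    exact hζ0 hξ.symm
  let ζu : kˣ := Units.mk0 ζ hζ0
  let ξu : kˣ := Units.mk0 ξ hξ0
  have hζu : IsPrimitiveRoot ζu n := IsPrimitiveRoot.coe_units_iff.1 (by simpa [ζu] using hζ)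
  have hξu : ξu ^ n = ζu := Units.ext (by simpa [ξu, ζu] using hξ)
  let ζa : (Additive kˣ) := Additive.ofMul ζu
  let ξa : (Additive kˣ) := Additive.ofMul ξu
  have hξa : n • ξa = ζa := by
    show n • Additive.ofMul ξu = Additive.ofMul ζu
    rw [← ofMul_pow, hξu]
  have hζa : n • ζa = 0 := by
    show n • Additive.ofMul ζu = 0
    rw [← ofMul_pow, hζu.pow_eq_one]; rfl
  -- the representations
  let A : Rep.{0} ℤ Q := Rep.trivial ℤ Q (Additive kˣ)
  let Z : Rep.{0} ℤ Q := Rep.trivial ℤ Q ℤ
  let nmul : (Additive kˣ) →ₗ[ℤ] (Additive kˣ) := n • LinearMap.id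
  let M : Submodule ℤ (Additive kˣ) := LinearMap.ker nmul
  let Mrep : Rep.{0} ℤ Q := Rep.trivial ℤ Q M
  have hkill : ∀ c : groupCohomology A 2, n • c = 0 := fun c =>
    Groth.Agent.S7724.result ℤ Q A 2 (by norm_num) c
  -- first short exact sequence: 0 → M → A → A → 0
  obtain ⟨w1, hS1⟩ := shortExact_of (Q := Q) (tmap M.subtype) (tmap nmul)
    (fun x y h => Subtype.ext h)
    (by
      intro y
      obtain ⟨z, hz⟩ := IsSepClosed.exists_pow_nat_eq ((Additive.toMul y : kˣ) : k) n
      have hz0 : z ≠ 0 := by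
        rintro rfl
        rw [zero_pow hnpos.ne'] at hz
        exact (Additive.toMul y : kˣ).ne_zero hz.symm
      refine ⟨Additive.ofMul (Units.mk0 z hz0), ?_⟩
      show n • Additive.ofMul (Units.mk0 z hz0) = y
      rw [← ofMul_pow]
      have : (Units.mk0 z hz0) ^ n = Additive.toMul y :=
        Units.ext (by rw [Units.val_pow_eq_pow_val]; exact hz)
      rw [this]; rfl)
    (fun x => LinearMap.mem_ker.1 x.2)
    (fun y hy => ⟨⟨y, LinearMap.mem_ker.2 hy⟩, rfl⟩)
  -- second short exact sequence: 0 → ℤ → ℤ → M → 0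
  let nmulZ : ℤ →ₗ[ℤ] ℤ := n • LinearMap.id
  have hmem : ∀ m : ℤ, LinearMap.toSpanSingleton ℤ (Additive kˣ) ζa m ∈ M := by
    intro m
    rw [LinearMap.mem_ker]
    show n • (m • ζa) = 0
    rw [nsmul_zsmul_comm', hζa, smul_zero]
  let ψ : ℤ →ₗ[ℤ] M := LinearMap.codRestrict M (LinearMap.toSpanSingleton ℤ (Additive kˣ) ζa) hmem
  have hψ : ∀ m : ℤ, ((ψ m : M) : (Additive kˣ)) = m • ζa := fun m => rfl
  obtain ⟨w2, hS2⟩ := shortExact_of (Q := Q) (tmap nmulZ) (tmap ψ)
    (by
      intro x y h
      have h' : n • x = n • y := h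
      simpa [nsmul_eq_mul, hnpos.ne'] using h')
    (by
      intro y
      have hy : n • (y : (Additive kˣ)) = 0 := LinearMap.mem_ker.1 y.2
      have hy' : (Additive.toMul (y : (Additive kˣ)) : kˣ) ^ n = 1 := by
        have := congrArg Additive.toMul hy
        rwa [toMul_nsmul, toMul_zero] at this
      have hy'' : ((Additive.toMul (y : (Additive kˣ)) : kˣ) : k) ^ n = 1 := by
        rw [← Units.val_pow_eq_pow_val, hy']; rfl
      obtain ⟨i, -, hi⟩ := hζ.eq_pow_of_pow_eq_one hy''
      have hi' : ζu ^ i = Additive.toMul (y : (Additive kˣ)) :=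
        Units.ext (by rw [Units.val_pow_eq_pow_val]; exact hi)
      refine ⟨(i : ℤ), Subtype.ext ?_⟩
      show ((ψ (i : ℤ) : M) : (Additive kˣ)) = (y : (Additive kˣ))
      rw [hψ, natCast_zsmul]
      show i • Additive.ofMul ζu = (y : (Additive kˣ))
      rw [← ofMul_pow, hi']; rfl)
    (by
      intro m
      apply Subtype.ext
      show ((ψ (n • m) : M) : (Additive kˣ)) = 0
      rw [hψ, nsmul_eq_mul, mul_comm, mul_smul, natCast_zsmul, hζa, smul_zero])
    (by
      intro m hm
      have hm' : m • ζa = 0 := congrArg Subtype.val hm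
      have hm'' : ζu ^ m = 1 := by
        have := congrArg Additive.toMul hm'
        rwa [toMul_zsmul, toMul_zero] at this
      obtain ⟨m', rfl⟩ := (hζu.zpow_eq_one_iff_dvd m).1 hm''
      exact ⟨m', by show n • m' = (n : ℤ) * m'; simp⟩)
  -- every class of `A` comes from `M`
  have hA : ∀ c : groupCohomology A 2, ∃ b : groupCohomology Mrep 2,
      groupCohomology.map (MonoidHom.id Q) (tmap (Q := Q) M.subtype) 2 b = c := by
    intro c
    have hex := mapShortComplex₂_exact hS1 2
    rw [ShortComplex.moduleCat_exact_iff] at hex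
    refine hex c ?_
    show groupCohomology.map (MonoidHom.id Q) (tmap (Q := Q) nmul) 2 c = 0
    have h1 : tmap (Q := Q) nmul = n • 𝟙 A := by
      rw [show nmul = n • LinearMap.id from rfl, tmap_nsmul, tmap_id]
    rw [h1, map_nsmul', groupCohomology.map_id]
    show n • c = 0
    exact hkill c
  -- every class of `M` comes from `ℤ`
  have hM : ∀ b : groupCohomology Mrep 2, ∃ a : groupCohomology Z 2,
      groupCohomology.map (MonoidHom.id Q) (tmap (Q := Q) ψ) 2 a = b := by
    intro b
    have hex := (map_cochainsFunctor_shortExact hS2).homology_exact₃ 2 3 rfl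
    rw [ShortComplex.moduleCat_exact_iff] at hex
    exact hex b (@Subsingleton.elim _ hQ _ _)
  -- conclusion
  have hzero : ∀ c : groupCohomology A 2, c = 0 := by
    intro c
    obtain ⟨b, rfl⟩ := hA c
    obtain ⟨a, rfl⟩ := hM b
    have hcomp : tmap (Q := Q) ψ ≫ tmap M.subtype
        = n • tmap (LinearMap.toSpanSingleton ℤ (Additive kˣ) ξa) := by
      rw [tmap_comp, ← tmap_nsmul]
      congr 1
      apply LinearMap.ext
      intro m
      show m • ζa = n • (m • ξa)
      rw [nsmul_zsmul_comm', hξa]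
    have h2 := groupCohomology.map_id_comp (tmap (Q := Q) ψ) (tmap M.subtype) 2
    have h3 : groupCohomology.map (MonoidHom.id Q) (tmap (Q := Q) M.subtype) 2
        (groupCohomology.map (MonoidHom.id Q) (tmap (Q := Q) ψ) 2 a)
        = groupCohomology.map (MonoidHom.id Q) (tmap (Q := Q) ψ ≫ tmap M.subtype) 2 a := by
      rw [h2]; rfl
    rw [h3, hcomp, map_nsmul', nsmul_hom_apply]
    exact hkill _
  exact ⟨fun x y => by rw [hzero x, hzero y]⟩

end Groth.Agent.S19224
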