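import Groth.Statements.S19223
-- import your own Groth.Agent.* helpers here
import Groth.Agent.S7724
import Groth.Agent.S19224
import Groth.Agent.H39.GrpCohLim
import Mathlib.RepresentationTheory.Homological.GroupCohomology.LongExactSequence
import Mathlib.RingTheory.Henselian
import Mathlib.Algebra.Ring.GeomSum

set_option autoImplicit false
set_option linter.style.haveILetI false
attribute [local instance] Units.mulDistribMulActionRight
open GalCoh

namespace Groth.Agent.S19223

open CategoryTheory CategoryTheory.Limits groupCohomology

section aux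

variable {G : Type} [Group G]

/-- If multiplication by the order of `G` is bijective on `K`, the higher cohomology of `K`
vanishes. -/
lemma subsingleton_of_card_bijective [Finite G] (K : Rep.{0} ℤ G)
    (hK : Function.Bijective (fun y : K => Nat.card G • y)) (i : ℕ) (hi : 0 < i) :
    Subsingleton (groupCohomology K i) := by
  let ν : K ⟶ K := Nat.card G • 𝟙 K
  have hν : ∀ y : K, ν.hom y = Nat.card G • y := fun y => rfl
  haveI : Mono ν := (Rep.mono_iff_injective ν).2 (by
    intro a b h
    rw [hν, hν] at h
    exact hK.1 h)
  haveI : Epi ν := (Rep.epi_iff_surjective ν).2 (by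
    intro y
    obtain ⟨x, hx⟩ := hK.2 y
    exact ⟨x, by rw [hν]; exact hx⟩)
  haveI : IsIso ν := isIso_of_mono_of_epi ν
  have h0 : ∀ c : groupCohomology K i, groupCohomology.map (MonoidHom.id G) ν i c = 0 := by
    intro c
    rw [Groth.Agent.S19224.map_nsmul', groupCohomology.map_id, Groth.Agent.S19224.nsmul_hom_apply,
      ConcreteCategory.id_apply]
    exact Groth.Agent.S7724.result ℤ G K i hi c
  haveI : IsIso (groupCohomology.map (MonoidHom.id G) ν i) :=
    (inferInstance : IsIso ((functor ℤ G i).map ν))
  have inj : Function.Injective (groupCohomology.map (MonoidHom.id G) ν i) :=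
    (ModuleCat.mono_iff_injective _).1 inferInstance
  exact ⟨fun a b => inj (by rw [h0 a, h0 b])⟩

end aux

/-- For a strictly henselian local ring R whose residue field k has characteristic p ≥ 0, and a finite
group G of order prime to p acting on R by ring automorphisms (hence on the unit groups R^× and
k^×), consider the homomorphism H^n(G, R^×) → H^n(G, k^×) induced by the reduction map. It is
bijective for every n ≥ 2; it is also bijective for n = 1 provided that p = 0 or the only p-power
root of unity in R is 1. (The reduction map on cohomology is pinned by its values on units; groups,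
rings and modules are taken in the lowest universe, as integral coefficients in the group-cohomology
library require.) -/
theorem result (R : Type) [CommRing R]
    [HenselianLocalRing R] [IsSepClosed (IsLocalRing.ResidueField R)] (p : ℕ) [CharP (IsLocalRing.ResidueField R) p]
    (G : Type) [Group G] [Finite G] [MulSemiringAction G R] (hp : ¬ p ∣ Nat.card G)
    (φ : Rep.ofMulDistribMulAction G Rˣ ⟶ Rep.ofMulDistribMulAction G (IsLocalRing.ResidueField R)ˣ)
    (hφ : ∀ x : Rˣ, Additive.toMul (φ.hom (Additive.ofMul x)) = Units.map (IsLocalRing.residue R).toMonoidHom x)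
    (n : ℕ) (hn : 1 ≤ n) (h1 : n = 1 → p ≠ 0 → ∀ (ζ : Rˣ) (m : ℕ), ζ ^ p ^ m = 1 → ζ = 1) :
    Function.Bijective ((groupCohomology.functor ℤ G n).map φ).hom := by
  classical
  have hNpos : 0 < Nat.card G := Nat.card_pos
  have hNk : ((Nat.card G : ℕ) : IsLocalRing.ResidueField R) ≠ 0 := fun h =>
    hp ((CharP.cast_eq_zero_iff _ p (Nat.card G)).1 h)
  -- `φ` on elements
  have hφ' : ∀ x : Rˣ, φ.hom (Additive.ofMul x)
      = Additive.ofMul (Units.map (IsLocalRing.residue R).toMonoidHom x) := fun x => by
    rw [← hφ x]; rfl
  have hres1 : ∀ x : R, x - 1 ∈ IsLocalRing.maximalIdeal R ↔ IsLocalRing.residue R x = 1 := by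
    intro x
    rw [← IsLocalRing.residue_eq_zero_iff, map_sub, map_one, sub_eq_zero]
  have hker : ∀ x : Rˣ, φ.hom (Additive.ofMul x) = 0 ↔
      (x : R) - 1 ∈ IsLocalRing.maximalIdeal R := by
    intro x
    rw [hφ' x, hres1]
    constructor
    · intro h
      have h1 : Units.map (IsLocalRing.residue R).toMonoidHom x = 1 := by
        have h' : (Additive.ofMul (Units.map (IsLocalRing.residue R).toMonoidHom x) :
            Additive (IsLocalRing.ResidueField R)ˣ) = 0 := h
        have := congrArg Additive.toMul h'
        rwa [toMul_ofMul, toMul_zero] at this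
      have := congrArg Units.val h1
      simpa using this
    · intro h
      have h1 : Units.map (IsLocalRing.residue R).toMonoidHom x = 1 :=
        Units.ext (by simpa using h)
      rw [h1]; rfl
  have hsurj : Function.Surjective φ.hom := by
    intro y
    obtain ⟨x, hx⟩ := IsLocalRing.surjective_units_map_of_local_ringHom (IsLocalRing.residue R)
      IsLocalRing.residue_surjective inferInstance (Additive.toMul y)
    exact ⟨Additive.ofMul x, by rw [hφ' x, hx]; rfl⟩
  -- the kernel
  have hι : ∀ y : (kernel φ : Rep.{0} ℤ G),
      ((Additive.toMul ((kernel.ι φ).hom y) : Rˣ) : R) - 1 ∈ IsLocalRing.maximalIdeal R := by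
    intro y
    exact (hker _).1 (Groth.Agent.H39.GrpCohLim.ker_comp_apply φ y)
  have hgeom : ∀ u : R, u - 1 ∈ IsLocalRing.maximalIdeal R →
      IsUnit (∑ i ∈ Finset.range (Nat.card G), u ^ i) := by
    intro u hu
    rw [← IsLocalRing.notMem_maximalIdeal, ← IsLocalRing.residue_eq_zero_iff, map_sum]
    have h1 : IsLocalRing.residue R u = 1 := (hres1 u).1 hu
    simp only [map_pow, h1, one_pow, Finset.sum_const, Finset.card_range, nsmul_eq_mul, mul_one]
    exact hNk
  have hK : Function.Bijective (fun y : (kernel φ : Rep.{0} ℤ G) => Nat.card G • y) := by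
    constructor
    · intro y₁ y₂ h
      have h' : Nat.card G • (y₁ - y₂) = 0 := by
        rw [smul_sub]; exact sub_eq_zero.2 h
      have hz : y₁ - y₂ = 0 := by
        set y := y₁ - y₂ with hy
        apply Groth.Agent.H39.GrpCohLim.ker_injective φ
        rw [map_zero]
        set x : Additive Rˣ := (kernel.ι φ).hom y with hx
        have hxN : Nat.card G • x = 0 := by
          have := congrArg (kernel.ι φ).hom h'
          rw [map_nsmul, map_zero] at this
          exact this
        have huN : (Additive.toMul x : Rˣ) ^ Nat.card G = 1 := by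
          have := congrArg Additive.toMul hxN
          rwa [toMul_nsmul, toMul_zero] at this
        have huN' : ((Additive.toMul x : Rˣ) : R) ^ Nat.card G - 1 = 0 := by
          rw [← Units.val_pow_eq_pow_val, huN]; simp
        rw [← geom_sum_mul] at huN'
        have hu1 : ((Additive.toMul x : Rˣ) : R) - 1 = 0 :=
          (hgeom _ (hι y)).mul_right_eq_zero.1 huN'
        have hu : (Additive.toMul x : Rˣ) = 1 := Units.ext (by simpa using sub_eq_zero.1 hu1)
        show x = 0
        calc x = Additive.ofMul (Additive.toMul x) := rfl
          _ = Additive.ofMul 1 := by rw [hu]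
          _ = 0 := rfl
      exact sub_eq_zero.1 hz
    · intro y
      set u : Rˣ := Additive.toMul ((kernel.ι φ).hom y) with hu
      have hu1 : (u : R) - 1 ∈ IsLocalRing.maximalIdeal R := hι y
      obtain ⟨a, ha, ha1⟩ := HenselianLocalRing.is_henselian
        (Polynomial.X ^ Nat.card G - Polynomial.C (u : R))
        (Polynomial.monic_X_pow_sub_C _ hNpos.ne') 1
        (by
          simp only [Polynomial.eval_sub, Polynomial.eval_pow, Polynomial.eval_X, one_pow,
            Polynomial.eval_C]
          have : (1 : R) - u = -((u : R) - 1) := by ring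
          rw [this]
          exact neg_mem hu1)
        (by
          simp only [Polynomial.derivative_sub, Polynomial.derivative_X_pow, Polynomial.derivative_C,
            sub_zero, Polynomial.eval_mul, Polynomial.eval_C, Polynomial.eval_pow, Polynomial.eval_X,
            one_pow, mul_one]
          rw [← IsLocalRing.notMem_maximalIdeal, ← IsLocalRing.residue_eq_zero_iff, map_natCast]
          exact hNk)
      have haN : a ^ Nat.card G = (u : R) := by
        have := ha
        simp only [Polynomial.IsRoot.def, Polynomial.eval_sub, Polynomial.eval_pow,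
          Polynomial.eval_X, Polynomial.eval_C] at this
        exact sub_eq_zero.1 this
      have haU : IsUnit a := by
        have : IsUnit (a ^ Nat.card G) := by rw [haN]; exact u.isUnit
        exact (isUnit_pow_iff hNpos.ne').1 this
      set au : Rˣ := haU.unit with hau
      have hauN : au ^ Nat.card G = u := Units.ext (by
        rw [Units.val_pow_eq_pow_val]; exact haN)
      have hφa : φ.hom (Additive.ofMul au) = 0 := (hker au).2 ha1
      obtain ⟨y', hy'⟩ := Groth.Agent.H39.GrpCohLim.ker_exists φ (Additive.ofMul au) hφa
      refine ⟨y', ?_⟩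
      apply Groth.Agent.H39.GrpCohLim.ker_injective φ
      have e1 : (kernel.ι φ).hom (Nat.card G • y') = Nat.card G • (kernel.ι φ).hom y' :=
        map_nsmul _ _ _
      show (kernel.ι φ).hom (Nat.card G • y') = (kernel.ι φ).hom y
      rw [e1, hy']
      show (Nat.card G • (Additive.ofMul au : Additive Rˣ)) = ((kernel.ι φ).hom y : Additive Rˣ)
      rw [← ofMul_pow, hauN]
      rfl
  have hvan : ∀ i : ℕ, 0 < i → Subsingleton (groupCohomology (kernel φ : Rep.{0} ℤ G) i) :=
    fun i hi => subsingleton_of_card_bijective _ hK i hi
  -- the short exact sequence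
  let S : ShortComplex (Rep.{0} ℤ G) := ShortComplex.mk (kernel.ι φ) φ (kernel.condition φ)
  have hS : S.ShortExact :=
    { exact := ShortComplex.exact_of_f_is_kernel S (kernelIsKernel φ)
      mono_f := inferInstanceAs (Mono (kernel.ι φ))
      epi_g := (Rep.epi_iff_surjective φ).2 hsurj }
  constructor
  · rw [injective_iff_map_eq_zero]
    intro x hx
    have hex := mapShortComplex₂_exact hS n
    rw [ShortComplex.moduleCat_exact_iff] at hex
    obtain ⟨b, hb⟩ := hex x hx
    have hb0 : b = 0 := @Subsingleton.elim _ (hvan n (by omega)) b 0
    rw [← hb, hb0]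
    exact map_zero _
  · intro y
    have hex := (map_cochainsFunctor_shortExact hS).homology_exact₃ n (n + 1) rfl
    rw [ShortComplex.moduleCat_exact_iff] at hex
    haveI := hvan (n + 1) (by omega)
    obtain ⟨x, hx⟩ := hex y (@Subsingleton.elim _ (hvan (n + 1) (by omega)) _ _)
    exact ⟨x, hx⟩

end Groth.Agent.S19223
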