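import Groth.Statements.S19229
import Mathlib.LinearAlgebra.Dimension.OrzechProperty
import Mathlib.LinearAlgebra.FiniteDimensional.Basic
import Mathlib.RingTheory.Artinian.Module
import Mathlib.LinearAlgebra.Basis.VectorSpace

set_option autoImplicit false
universe u v
open SigmaLin

namespace Groth.Agent.S19229

open Submodule in
theorem map_mem_span_image {k : Type u} [Field k] {σ : k →+* k} {V : Type v} [AddCommGroup V]
    [Module k V] (T : V →ₛₗ[σ] V) (S : Set V) {x : V} (hx : x ∈ span k S) :
    T x ∈ span k (T '' S) := by
  induction hx using Submodule.span_induction with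
  | mem x hx => exact subset_span ⟨x, hx, rfl⟩
  | zero => rw [map_zero]; exact zero_mem _
  | add x y _ _ hx hy => rw [map_add]; exact add_mem hx hy
  | smul c x _ hx => rw [map_smulₛₗ]; exact smul_mem _ _ hx

open Submodule in
/-- If the span of the image of a finite-dimensional subspace `J` under a semilinear map is `J`
again, the map is injective on `J`. -/
theorem eq_zero_of_span_image_eq {k : Type u} [Field k] {σ : k →+* k} {V : Type v}
    [AddCommGroup V] [Module k V] [FiniteDimensional k V] (T : V →ₛₗ[σ] V) (J : Submodule k V)
    (hJ : span k (T '' (J : Set V)) = J) {x : V} (hx : x ∈ J) (hTx : T x = 0) : x = 0 := by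
  classical
  let d := Module.finrank k J
  let b : Module.Basis (Fin d) k J := Module.finBasis k J
  let e : Fin d → V := fun j => (b j : V)
  have hspan_e : span k (Set.range e) = J := by
    have h1 : span k (Set.range b) = ⊤ := b.span_eq
    have h2 := congrArg (Submodule.map J.subtype) h1
    rw [Submodule.map_span, Submodule.map_subtype_top, ← Set.range_comp] at h2
    exact h2
  have himg : T '' Set.range e = Set.range (fun j => T (e j)) := by
    rw [← Set.range_comp]; rfl
  have hspan_b' : span k (Set.range (fun j => T (e j))) = J := by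
    apply le_antisymm
    · rw [span_le]
      rintro _ ⟨j, rfl⟩
      have : T (e j) ∈ span k (T '' (J : Set V)) := subset_span ⟨e j, (b j).2, rfl⟩
      rw [hJ] at this
      exact this
    · conv_lhs => rw [← hJ]
      rw [span_le]
      rintro _ ⟨y, hy, rfl⟩
      have hy' : y ∈ span k (Set.range e) := by rw [hspan_e]; exact hy
      have := map_mem_span_image T _ hy'
      rw [himg] at this
      exact this
  have hli : LinearIndependent k (fun j => T (e j)) := by
    rw [linearIndependent_iff_card_eq_finrank_span, Set.finrank, hspan_b']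
    simp [d]
  -- expand x in the basis
  have hx' : x = ∑ j, (b.repr ⟨x, hx⟩ j) • e j := by
    have := b.sum_repr ⟨x, hx⟩
    have h2 := congrArg (J.subtype) this
    simp only [map_sum, map_smul, Submodule.subtype_apply] at h2
    exact h2.symm
  have hTx' : ∑ j, σ (b.repr ⟨x, hx⟩ j) • T (e j) = 0 := by
    rw [← hTx]
    conv_rhs => rw [hx']
    rw [map_sum]
    refine Finset.sum_congr rfl fun j _ => ?_
    rw [map_smulₛₗ]
  have hcoef := Fintype.linearIndependent_iff.mp hli _ hTx'
  have hzero : ∀ j, b.repr ⟨x, hx⟩ j = 0 := fun j =>
    (map_eq_zero_iff σ σ.injective).mp (hcoef j)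
  rw [hx']
  exact Finset.sum_eq_zero fun j _ => by rw [hzero j, zero_smul]

/-- Let k be a field with a ring endomorphism σ, V a finite-dimensional k-vector space and T : V → V an
additive map with T (c • v) = σ c • T v. If some iterate of T sends v to 0 and v lies in the
k-linear span of the image of every iterate of T, then v = 0. In other words the union of the
kernels of the iterates of T and the intersection of the spans of their images meet only in 0. -/
theorem result
    (k : Type u) [Field k] (σ : k →+* k)
    (V : Type v) [AddCommGroup V] [Module k V] [FiniteDimensional k V] (T : V →ₛₗ[σ] V) (v : V)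
    (hnil : ∃ n : ℕ, (⇑T)^[n] v = 0)
    (hss : ∀ n : ℕ, v ∈ Submodule.span k (Set.range ((⇑T)^[n]))) : v = 0 := by
  classical
  let I : ℕ → Submodule k V := fun n => Submodule.span k (Set.range ((⇑T)^[n]))
  have hanti : ∀ n, I (n + 1) ≤ I n := by
    intro n
    apply Submodule.span_mono
    rintro _ ⟨w, rfl⟩
    exact ⟨T w, (Function.iterate_succ_apply _ _ _).symm⟩
  have himg : ∀ n, (⇑T) '' Set.range ((⇑T)^[n]) = Set.range ((⇑T)^[n + 1]) := by
    intro n
    rw [← Set.range_comp, Function.iterate_succ']
  have hsucc : ∀ n, Submodule.span k ((⇑T) '' (I n : Set V)) = I (n + 1) := by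
    intro n
    apply le_antisymm
    · rw [Submodule.span_le]
      rintro _ ⟨y, hy, rfl⟩
      have := map_mem_span_image T _ hy
      rw [himg] at this
      exact this
    · show Submodule.span k (Set.range ((⇑T)^[n + 1])) ≤ _
      rw [← himg]
      exact Submodule.span_mono (Set.image_mono Submodule.subset_span)
  let f : ℕ →o (Submodule k V)ᵒᵈ :=
    ⟨fun n => OrderDual.toDual (I n), monotone_nat_of_le_succ fun n => hanti n⟩
  obtain ⟨N, hN⟩ := IsArtinian.monotone_stabilizes f
  have hNN : I N = I (N + 1) := congrArg OrderDual.ofDual (hN (N + 1) (Nat.le_succ N))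
  have hJ : Submodule.span k ((⇑T) '' (I N : Set V)) = I N := by rw [hsucc, ← hNN]
  have hstab : ∀ x ∈ I N, T x ∈ I N := by
    intro x hx
    have : T x ∈ Submodule.span k ((⇑T) '' (I N : Set V)) := Submodule.subset_span ⟨x, hx, rfl⟩
    rw [hJ] at this
    exact this
  have hinj : ∀ n : ℕ, ∀ x ∈ I N, (⇑T)^[n] x = 0 → x = 0 := by
    intro n
    induction n with
    | zero => intro x _ h; simpa using h
    | succ n ih =>
      intro x hx h
      rw [Function.iterate_succ_apply] at h
      have hTx : T x = 0 := ih (T x) (hstab x hx) h
      exact eq_zero_of_span_image_eq T (I N) hJ hx hTx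
  obtain ⟨n, hn⟩ := hnil
  exact hinj n v (hss N) hn

end Groth.Agent.S19229
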