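import Groth.Statements.S19230
import Groth.Agent.S19229
import Mathlib.RingTheory.Noetherian.Basic

set_option autoImplicit false
universe u v
open SigmaLin

namespace Groth.Agent.S19230

section
variable {k : Type u} [Field k] {σ : k →+* k} {V : Type v} [AddCommGroup V] [Module k V]

theorem iter_zero (T : V →ₛₗ[σ] V) (n : ℕ) : (⇑T)^[n] 0 = 0 := by
  induction n with
  | zero => rfl
  | succ n ih => rw [Function.iterate_succ_apply', ih, map_zero]

theorem iter_add (T : V →ₛₗ[σ] V) (n : ℕ) (a b : V) :
    (⇑T)^[n] (a + b) = (⇑T)^[n] a + (⇑T)^[n] b := by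
  induction n with
  | zero => rfl
  | succ n ih => simp only [Function.iterate_succ_apply', ih, map_add]

theorem iter_sub (T : V →ₛₗ[σ] V) (n : ℕ) (a b : V) :
    (⇑T)^[n] (a - b) = (⇑T)^[n] a - (⇑T)^[n] b := by
  induction n with
  | zero => rfl
  | succ n ih => simp only [Function.iterate_succ_apply', ih, map_sub]

theorem iter_smul (T : V →ₛₗ[σ] V) (n : ℕ) (c : k) (a : V) :
    (⇑T)^[n] (c • a) = ((⇑σ)^[n] c) • (⇑T)^[n] a := by
  induction n with
  | zero => rfl
  | succ n ih => simp only [Function.iterate_succ_apply', ih, map_smulₛₗ]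

/-- For surjective `σ`, every element of the span of the image of an iterate is in the image. -/
theorem mem_range_iter_of_mem_span (hσ : Function.Surjective σ) (T : V →ₛₗ[σ] V) (n : ℕ) {x : V}
    (hx : x ∈ Submodule.span k (Set.range ((⇑T)^[n]))) : ∃ w, x = (⇑T)^[n] w := by
  induction hx using Submodule.span_induction with
  | mem x hx => obtain ⟨w, rfl⟩ := hx; exact ⟨w, rfl⟩
  | zero => exact ⟨0, (iter_zero T n).symm⟩
  | add x y _ _ hx hy =>
    obtain ⟨a, rfl⟩ := hx
    obtain ⟨b, rfl⟩ := hy
    exact ⟨a + b, (iter_add T n a b).symm⟩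
  | smul c x _ hx =>
    obtain ⟨a, rfl⟩ := hx
    obtain ⟨c', hc'⟩ := (hσ.iterate n) c
    exact ⟨c' • a, by rw [iter_smul, hc']⟩

end

/-- Let k be a field, σ a surjective ring endomorphism of k, V a finite-dimensional k-vector space and T
: V → V additive with T (c • v) = σ c • T v. Then the set of vectors killed by some iterate of T is
a k-subspace on which a single iterate of T vanishes, it is a complement of the intersection over n
of the k-spans of the images of the n-th iterates, and T restricts to a bijection of that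
intersection onto itself. -/
theorem result
    (k : Type u) [Field k] (σ : k →+* k) (hσ : Function.Surjective σ)
    (V : Type v) [AddCommGroup V] [Module k V] [FiniteDimensional k V] (T : V →ₛₗ[σ] V) :
    (∃ W : Submodule k V, (W : Set V) = {v : V | ∃ n : ℕ, (⇑T)^[n] v = 0} ∧
      (∃ N : ℕ, ∀ v ∈ W, (⇑T)^[N] v = 0) ∧
      IsCompl W (⨅ n : ℕ, Submodule.span k (Set.range ((⇑T)^[n])))) ∧
    Set.BijOn (⇑T) (⋂ n : ℕ, (Submodule.span k (Set.range ((⇑T)^[n])) : Set V))
      (⋂ n : ℕ, (Submodule.span k (Set.range ((⇑T)^[n])) : Set V)) := by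
  classical
  let I : ℕ → Submodule k V := fun n => Submodule.span k (Set.range ((⇑T)^[n]))
  have hanti : ∀ n, I (n + 1) ≤ I n := by
    intro n
    apply Submodule.span_mono
    rintro _ ⟨w, rfl⟩
    exact ⟨T w, (Function.iterate_succ_apply _ _ _).symm⟩
  have hantitone : Antitone I := antitone_nat_of_succ_le hanti
  have himg : ∀ n, (⇑T) '' Set.range ((⇑T)^[n]) = Set.range ((⇑T)^[n + 1]) := by
    intro n
    rw [← Set.range_comp, Function.iterate_succ']
  have hsucc : ∀ n, Submodule.span k ((⇑T) '' (I n : Set V)) = I (n + 1) := by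
    intro n
    apply le_antisymm
    · rw [Submodule.span_le]
      rintro _ ⟨y, hy, rfl⟩
      have := Groth.Agent.S19229.map_mem_span_image T _ hy
      rw [himg] at this
      exact this
    · show Submodule.span k (Set.range ((⇑T)^[n + 1])) ≤ _
      rw [← himg]
      exact Submodule.span_mono (Set.image_mono Submodule.subset_span)
  -- kernels of iterates
  let K : ℕ → Submodule k V := fun n =>
    { carrier := {x | (⇑T)^[n] x = 0}
      add_mem' := by
        intro a b ha hb
        show (⇑T)^[n] (a + b) = 0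
        rw [iter_add, ha, hb, add_zero]
      zero_mem' := iter_zero T n
      smul_mem' := by
        intro c a ha
        show (⇑T)^[n] (c • a) = 0
        rw [iter_smul, ha, smul_zero] }
  have hKmem : ∀ n x, x ∈ K n ↔ (⇑T)^[n] x = 0 := fun n x => Iff.rfl
  have hKmono : Monotone K := by
    apply monotone_nat_of_le_succ
    intro n x hx
    rw [hKmem] at hx ⊢
    rw [Function.iterate_succ_apply', hx, map_zero]
  obtain ⟨M, hM⟩ := monotone_stabilizes_iff_noetherian.mpr (inferInstance : IsNoetherian k V)
    ⟨K, hKmono⟩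
  let f : ℕ →o (Submodule k V)ᵒᵈ :=
    ⟨fun n => OrderDual.toDual (I n), monotone_nat_of_le_succ fun n => hanti n⟩
  obtain ⟨N₁, hN₁⟩ := IsArtinian.monotone_stabilizes f
  let N := max M N₁
  have hKN : ∀ m, N ≤ m → K N = K m := by
    intro m hm
    have h1 : K M = K N := hM N (le_max_left _ _)
    have h2 : K M = K m := hM m ((le_max_left _ _).trans hm)
    rw [← h1, h2]
  have hIN : ∀ m, N ≤ m → I N = I m := by
    intro m hm
    have h1 : I N₁ = I N := congrArg OrderDual.ofDual (hN₁ N (le_max_right _ _))
    have h2 : I N₁ = I m := congrArg OrderDual.ofDual (hN₁ m ((le_max_right _ _).trans hm))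
    rw [← h1, h2]
  have hInf : (⨅ n : ℕ, I n) = I N := by
    apply le_antisymm (iInf_le _ N)
    apply le_iInf
    intro n
    rcases le_total n N with h | h
    · exact hantitone h
    · rw [hIN n h]
  have hJ : Submodule.span k ((⇑T) '' (I N : Set V)) = I N := by
    rw [hsucc, ← hIN (N + 1) (Nat.le_succ N)]
  have hstab : ∀ x ∈ I N, T x ∈ I N := by
    intro x hx
    have : T x ∈ Submodule.span k ((⇑T) '' (I N : Set V)) := Submodule.subset_span ⟨x, hx, rfl⟩
    rw [hJ] at this
    exact this
  refine ⟨⟨K N, ?_, ⟨N, fun v hv => hv⟩, ?_⟩, ?_⟩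
  · ext x
    constructor
    · intro hx
      exact ⟨N, hx⟩
    · rintro ⟨n, hn⟩
      have h1 : x ∈ K n := hn
      have h2 : x ∈ K (max n N) := hKmono (le_max_left _ _) h1
      rw [← hKN _ (le_max_right _ _)] at h2
      exact h2
  · show IsCompl (K N) (⨅ n : ℕ, I n)
    rw [hInf]
    constructor
    · rw [Submodule.disjoint_def]
      intro x hxK hxI
      refine Groth.Agent.S19229.result k σ V T x ⟨N, hxK⟩ ?_
      intro n
      have : x ∈ ⨅ n : ℕ, I n := by rw [hInf]; exact hxI
      exact (Submodule.mem_iInf _).mp this n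
    · rw [codisjoint_iff, eq_top_iff]
      intro x _
      have h1 : (⇑T)^[N] x ∈ I N := Submodule.subset_span ⟨x, rfl⟩
      rw [hIN (N + N) (Nat.le_add_right N N)] at h1
      obtain ⟨w, hw⟩ := mem_range_iter_of_mem_span hσ T (N + N) h1
      rw [Function.iterate_add_apply] at hw
      have h2 : x - (⇑T)^[N] w ∈ K N := by
        rw [hKmem, iter_sub, hw, sub_self]
      have h3 : (⇑T)^[N] w ∈ I N := Submodule.subset_span ⟨w, rfl⟩
      have : x = (x - (⇑T)^[N] w) + (⇑T)^[N] w := by abel
      rw [this]
      exact Submodule.add_mem_sup h2 h3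
  · have hset : (⋂ n : ℕ, (Submodule.span k (Set.range ((⇑T)^[n])) : Set V)) = (I N : Set V) := by
      have := congrArg (fun S : Submodule k V => (S : Set V)) hInf
      simp only [Submodule.coe_iInf] at this
      exact this
    rw [hset]
    refine ⟨fun x hx => hstab x hx, ?_, ?_⟩
    · intro x hx y hy hxy
      have hsub : x - y ∈ I N := sub_mem hx hy
      have hT : T (x - y) = 0 := by rw [map_sub, hxy, sub_self]
      have := Groth.Agent.S19229.eq_zero_of_span_image_eq T (I N) hJ hsub hT
      exact sub_eq_zero.mp this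
    · intro y hy
      have hy' : y ∈ I (N + 1) := by rw [← hIN (N + 1) (Nat.le_succ N)]; exact hy
      obtain ⟨w, hw⟩ := mem_range_iter_of_mem_span hσ T (N + 1) hy'
      rw [Function.iterate_succ_apply'] at hw
      exact ⟨(⇑T)^[N] w, Submodule.subset_span ⟨w, rfl⟩, hw.symm⟩

end Groth.Agent.S19230
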