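import Groth.Statements.S19231
import Mathlib.Algebra.Module.BigOperators
import Mathlib.LinearAlgebra.Finsupp.LinearCombination
import Mathlib.Tactic.Ring

set_option autoImplicit false
universe u v
open SigmaLin

namespace Groth.Agent.S19231

theorem result
    (k : Type u) [Field k] (σ : k →+* k) (V : Type v) [AddCommGroup V] [Module k V]
    (d : ℕ) (e e' : Module.Basis (Fin d) k V) (T : V →ₛₗ[σ] V)
    (P A A' : Matrix (Fin d) (Fin d) k)
    (hP : ∀ j, e' j = ∑ i, P i j • e i)
    (hA : ∀ j, T (e j) = ∑ i, A i j • e i)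
    (hA' : ∀ j, T (e' j) = ∑ i, A' i j • e' i) :
    P * A' = A * P.map ⇑σ := by
  ext l j
  -- compute T (e' j) in two ways
  have h1 : T (e' j) = ∑ l, (∑ i, A l i * σ (P i j)) • e l := by
    rw [hP j, map_sum]
    simp_rw [LinearMap.map_smulₛₗ, hA, Finset.smul_sum, smul_smul]
    rw [Finset.sum_comm]
    simp_rw [← Finset.sum_smul]
    refine Finset.sum_congr rfl fun l _ => ?_
    congr 1
    refine Finset.sum_congr rfl fun i _ => ?_
    ring
  have h2 : T (e' j) = ∑ l, (∑ i, P l i * A' i j) • e l := by
    rw [hA' j]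
    simp_rw [hP, Finset.smul_sum, smul_smul]
    rw [Finset.sum_comm]
    simp_rw [← Finset.sum_smul]
    refine Finset.sum_congr rfl fun l _ => ?_
    congr 1
    refine Finset.sum_congr rfl fun i _ => ?_
    ring
  have h3 := h1.symm.trans h2
  have h4 := congrArg (fun v => e.repr v l) h3
  simp only [map_sum, map_smul, Module.Basis.repr_self, Finsupp.smul_single, smul_eq_mul, mul_one,
    Finsupp.coe_finsetSum, Finset.sum_apply, Finsupp.single_apply, Finset.sum_ite_eq',
    Finset.mem_univ, if_true] at h4
  rw [Matrix.mul_apply, Matrix.mul_apply]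
  simp only [Matrix.map_apply]
  exact h4.symm

end Groth.Agent.S19231
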