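import Groth.Statements.S19232
import Mathlib.LinearAlgebra.LinearIndependent.Lemmas
import Mathlib.LinearAlgebra.Dimension.Finite
import Mathlib.LinearAlgebra.FiniteDimensional.Basic
import Mathlib.Tactic.Ring

set_option autoImplicit false
universe u v
open SigmaLin

namespace Groth.Agent.S19232

/-- Let k be a field with a ring endomorphism σ, and assume that for every n and every tuple (b_0, …,
b_n) of elements of k, not all zero, the equation x = Σ_{i=0}^{n} σ^{i+1}(x) σ^{i}(b_{n-i}) has a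
nonzero solution x in k. Let V be a finite-dimensional k-vector space, T : V → V additive with T (c
• v) = σ c • T v, and e ∈ V a vector no iterate of T sends to 0. Then the k-span of the orbit e, T
e, T² e, … contains a nonzero vector v with T v = v. -/
theorem result
    (k : Type u) [Field k] (σ : k →+* k)
    (V : Type v) [AddCommGroup V] [Module k V] [FiniteDimensional k V] (T : V →ₛₗ[σ] V)
    (h2 : ∀ (n : ℕ) (b : Fin (n + 1) → k), b ≠ 0 →
      ∃ x : k, x ≠ 0 ∧ x = ∑ i : Fin (n + 1), (⇑σ)^[i.val + 1] x * (⇑σ)^[i.val] (b (Fin.rev i)))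
    (e : V) (he : ∀ m : ℕ, (⇑T)^[m] e ≠ 0) :
    ∃ v ∈ Submodule.span k (Set.range (fun m : ℕ => (⇑T)^[m] e)), v ≠ 0 ∧ T v = v := by
  classical
  obtain ⟨f, hf0⟩ : ∃ f : ℕ → V, ∀ m, f m = (⇑T)^[m] e := ⟨_, fun _ => rfl⟩
  have hf : ∀ m, f (m + 1) = T (f m) := fun m => by
    rw [hf0, hf0, Function.iterate_succ_apply']
  have hfne : ∀ m, f m ≠ 0 := fun m => by rw [hf0]; exact he m
  have hP : ∃ m, ¬ LinearIndependent k (fun i : Fin m => f i) := by
    refine ⟨Module.finrank k V + 1, fun h => ?_⟩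
    have := h.fintype_card_le_finrank
    simp at this
  obtain ⟨m, hm, hmin⟩ : ∃ m, ¬ LinearIndependent k (fun i : Fin m => f i) ∧
      ∀ m' < m, ¬ ¬ LinearIndependent k (fun i : Fin m' => f i) :=
    ⟨Nat.find hP, Nat.find_spec hP, fun m' h => Nat.find_min hP h⟩
  rcases m with _ | _ | n
  · exact absurd linearIndependent_empty_type hm
  · exfalso
    have hm' : ¬ LinearIndependent k (fun i : Fin 1 => f i) := hm
    apply hm'
    rw [linearIndependent_unique_iff]
    exact hfne _
  have hn1 : LinearIndependent k (fun i : Fin (n + 1) => f i) :=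
    not_not.mp (hmin (n + 1) (by omega))
  have hmem : f (n + 1) ∈ Submodule.span k (Set.range (fun i : Fin (n + 1) => f i)) := by
    by_contra hnot
    apply hm
    rw [linearIndependent_finSucc']
    have hinit : Fin.init (fun i : Fin (n + 1 + 1) => f i) = fun i : Fin (n + 1) => f i := by
      funext i
      simp [Fin.init]
    rw [hinit]
    exact ⟨hn1, by simpa using hnot⟩
  obtain ⟨a, ha⟩ := (Submodule.mem_span_range_iff_exists_fun k).mp hmem
  have ha0 : a ≠ 0 := by
    rintro rfl
    apply hfne (n + 1)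
    rw [← ha]
    simp
  obtain ⟨x, hx0, hx⟩ := h2 n a ha0
  obtain ⟨a', ha'def⟩ : ∃ a' : ℕ → k, ∀ i, a' i = if h : i < n + 1 then a ⟨i, h⟩ else 0 :=
    ⟨_, fun _ => rfl⟩
  have ha'eq : ∀ i : Fin (n + 1), a' i = a i := fun i => by
    rw [ha'def, dif_pos i.2]
  have hrev : ∀ i : Fin (n + 1), a' (n - i) = a (Fin.rev i) := by
    intro i
    have h1 : n - (i : ℕ) < n + 1 := by omega
    rw [ha'def, dif_pos h1]
    congr 1
    ext
    show n - (i : ℕ) = (Fin.rev i : ℕ)
    have := Fin.val_rev i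
    omega
  obtain ⟨X, hXdef⟩ : ∃ X : ℕ → k, ∀ j, X j =
      ∑ i ∈ Finset.range (j + 1), (⇑σ)^[i + 1] x * (⇑σ)^[i] (a' (j - i)) := ⟨_, fun _ => rfl⟩
  have hX0 : X 0 = σ x * a' 0 := by
    rw [hXdef]
    simp
  have hXs : ∀ j, X (j + 1) = σ (X j) + σ x * a' (j + 1) := by
    intro j
    rw [hXdef, hXdef, Finset.sum_range_succ', map_sum]
    congr 1
    · refine Finset.sum_congr rfl fun i _ => ?_
      rw [map_mul, ← Function.iterate_succ_apply' (⇑σ), ← Function.iterate_succ_apply' (⇑σ),
        Nat.succ_sub_succ]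
  have hXn : X n = x := by
    rw [hXdef, Finset.sum_range]
    refine Eq.trans ?_ hx.symm
    refine Finset.sum_congr rfl fun i _ => ?_
    rw [hrev]
  refine ⟨∑ j ∈ Finset.range (n + 1), X j • f j, ?_, ?_, ?_⟩
  · exact Submodule.sum_mem _ fun j _ =>
      Submodule.smul_mem _ _ (Submodule.subset_span ⟨j, (hf0 j).symm⟩)
  · intro hv
    rw [Finset.sum_range] at hv
    have h3 := (Fintype.linearIndependent_iff.mp hn1) (fun i : Fin (n + 1) => X i) hv (Fin.last n)
    simp only [Fin.val_last] at h3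
    exact hx0 (hXn ▸ h3)
  · have hsum : ∑ j ∈ Finset.range n, a' (j + 1) • f (j + 1) + a' 0 • f 0 = f (n + 1) := by
      rw [← Finset.sum_range_succ' (fun j => a' j • f j) n, Finset.sum_range, ← ha]
      exact Finset.sum_congr rfl fun i _ => by rw [ha'eq i]
    have e1 : ∀ j, T (X j • f j) = σ (X j) • f (j + 1) := fun j => by rw [map_smulₛₗ, hf]
    have e2 : ∑ j ∈ Finset.range n, X (j + 1) • f (j + 1) =
        ∑ j ∈ Finset.range n, σ (X j) • f (j + 1) +
          σ x • ∑ j ∈ Finset.range n, a' (j + 1) • f (j + 1) := by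
      rw [Finset.smul_sum, ← Finset.sum_add_distrib]
      refine Finset.sum_congr rfl fun j _ => ?_
      rw [hXs, add_smul, mul_smul]
    rw [map_sum, Finset.sum_range_succ, Finset.sum_range_succ' (fun j => X j • f j) n]
    simp only [e1]
    rw [hXn, hX0, e2, add_assoc, mul_smul, ← smul_add, hsum]

end Groth.Agent.S19232
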