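import Groth.Statements.S19233
import Groth.Agent.S19232
import Mathlib.LinearAlgebra.Quotient.Basic
import Mathlib.LinearAlgebra.Basis.VectorSpace
import Mathlib.LinearAlgebra.Dimension.Finite
import Mathlib.LinearAlgebra.Dimension.Free
import Mathlib.LinearAlgebra.FiniteDimensional.Basic
import Mathlib.Tactic.LinearCombination
import Mathlib.Tactic.Abel

set_option autoImplicit false
universe u v
open SigmaLin

namespace Groth.Agent.S19233

section lemmas

variable {k : Type u} [Field k] {σ : k →+* k} {V : Type v} [AddCommGroup V] [Module k V]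

theorem iterate_zero' (T : V →ₛₗ[σ] V) (m : ℕ) : (⇑T)^[m] 0 = 0 := by
  induction m with
  | zero => rfl
  | succ m ih => rw [Function.iterate_succ_apply', ih, map_zero]

theorem iterate_add' (T : V →ₛₗ[σ] V) (m : ℕ) (x y : V) :
    (⇑T)^[m] (x + y) = (⇑T)^[m] x + (⇑T)^[m] y := by
  induction m with
  | zero => rfl
  | succ m ih =>
    rw [Function.iterate_succ_apply', Function.iterate_succ_apply', Function.iterate_succ_apply',
      ih, map_add]

theorem iterate_smul' (T : V →ₛₗ[σ] V) (m : ℕ) (c : k) (x : V) :
    (⇑T)^[m] (c • x) = (⇑σ)^[m] c • (⇑T)^[m] x := by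
  induction m with
  | zero => rfl
  | succ m ih =>
    rw [Function.iterate_succ_apply', Function.iterate_succ_apply', Function.iterate_succ_apply',
      ih, map_smulₛₗ]

/-- if the image of `T` spans, so does the image of every iterate -/
theorem span_range_iterate (T : V →ₛₗ[σ] V) (h1 : Submodule.span k (Set.range ⇑T) = ⊤) (m : ℕ) :
    Submodule.span k (Set.range ((⇑T)^[m])) = ⊤ := by
  induction m with
  | zero =>
    rw [Function.iterate_zero, Set.range_id, Submodule.span_univ]
  | succ m ih =>
    rw [eq_top_iff, ← h1, Submodule.span_le]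
    rintro _ ⟨v, rfl⟩
    have hv : v ∈ Submodule.span k (Set.range ((⇑T)^[m])) := by rw [ih]; exact Submodule.mem_top
    induction hv using Submodule.span_induction with
    | mem x hx =>
      obtain ⟨w, rfl⟩ := hx
      exact Submodule.subset_span ⟨w, Function.iterate_succ_apply' _ _ _⟩
    | zero => rw [map_zero]; exact Submodule.zero_mem _
    | add x y hx hy ihx ihy => rw [map_add]; exact Submodule.add_mem _ ihx ihy
    | smul a x hx ihx => rw [map_smulₛₗ]; exact Submodule.smul_mem _ _ ihx

/-- existence of a vector with nonvanishing orbit -/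
theorem exists_orbit_ne_zero [FiniteDimensional k V] [Nontrivial V] (T : V →ₛₗ[σ] V)
    (h1 : Submodule.span k (Set.range ⇑T) = ⊤) : ∃ e : V, ∀ m : ℕ, (⇑T)^[m] e ≠ 0 := by
  by_contra h
  push Not at h
  let b := Module.finBasis k V
  choose m hm using fun i => h (b i)
  obtain ⟨M, hM⟩ : ∃ M, ∀ i, m i ≤ M := ⟨Finset.univ.sup m, fun i => Finset.le_sup (Finset.mem_univ i)⟩
  have hb : ∀ i, (⇑T)^[M] (b i) = 0 := by
    intro i
    have : M = (M - m i) + m i := by have := hM i; omega
    rw [this, Function.iterate_add_apply, hm, iterate_zero']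
  have hall : ∀ v : V, (⇑T)^[M] v = 0 := by
    intro v
    have hv : v ∈ Submodule.span k (Set.range b) := by rw [b.span_eq]; exact Submodule.mem_top
    induction hv using Submodule.span_induction with
    | mem x hx =>
      obtain ⟨i, rfl⟩ := hx
      exact hb i
    | zero => exact iterate_zero' T M
    | add x y hx hy ihx ihy => rw [iterate_add', ihx, ihy, add_zero]
    | smul a x hx ihx => rw [iterate_smul', ihx, smul_zero]
  have h2 := span_range_iterate T h1 M
  have h3 : Set.range ((⇑T)^[M]) ⊆ {0} := by
    rintro _ ⟨v, rfl⟩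
    exact hall v
  have h4 : Submodule.span k (Set.range ((⇑T)^[M])) = ⊥ := by
    rw [eq_bot_iff, Submodule.span_le]
    intro x hx
    have := h3 hx
    simpa using this
  rw [h4] at h2
  exact bot_ne_top h2

theorem map_mem_span_fixed (T : V →ₛₗ[σ] V) (w : V)
    (hw : w ∈ Submodule.span k {v : V | T v = v}) :
    T w ∈ Submodule.span k {v : V | T v = v} := by
  induction hw using Submodule.span_induction with
  | mem f hf => rw [show T f = f from hf]; exact Submodule.subset_span hf
  | zero => rw [map_zero]; exact Submodule.zero_mem _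
  | add x y hx hy ihx ihy => rw [map_add]; exact Submodule.add_mem _ ihx ihy
  | smul a x hx ih => rw [map_smulₛₗ]; exact Submodule.smul_mem _ _ ih

theorem exists_sub_eq_smul (T : V →ₛₗ[σ] V) (h3 : ∀ c : k, ∃ y : k, σ y - y + c = 0) (w : V)
    (hw : w ∈ Submodule.span k {v : V | T v = v}) :
    ∀ c : k, ∃ w' ∈ Submodule.span k {v : V | T v = v}, w' - T w' = c • w := by
  induction hw using Submodule.span_induction with
  | mem f hf =>
    intro c
    obtain ⟨y, hy⟩ := h3 c
    refine ⟨y • f, Submodule.smul_mem _ _ (Submodule.subset_span hf), ?_⟩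
    have hf' : T f = f := hf
    rw [map_smulₛₗ, hf', ← sub_smul]
    congr 1
    linear_combination -hy
  | zero =>
    intro c
    exact ⟨0, Submodule.zero_mem _, by simp⟩
  | add x y hx hy ihx ihy =>
    intro c
    obtain ⟨x', hx', ex⟩ := ihx c
    obtain ⟨y', hy', ey⟩ := ihy c
    refine ⟨x' + y', Submodule.add_mem _ hx' hy', ?_⟩
    rw [map_add, smul_add, ← ex, ← ey]
    abel
  | smul a x hx ih =>
    intro c
    obtain ⟨x', hx', ex⟩ := ih (c * a)
    exact ⟨x', hx', by rw [ex, mul_smul]⟩

/-- the fixed vectors span, if the image of `T` spans -/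
theorem span_fixed_eq_top [FiniteDimensional k V] (T : V →ₛₗ[σ] V)
    (h1 : Submodule.span k (Set.range ⇑T) = ⊤)
    (h2 : ∀ (n : ℕ) (b : Fin (n + 1) → k), b ≠ 0 →
      ∃ x : k, x ≠ 0 ∧ x = ∑ i : Fin (n + 1), (⇑σ)^[i.val + 1] x * (⇑σ)^[i.val] (b (Fin.rev i)))
    (h3 : ∀ c : k, ∃ y : k, σ y - y + c = 0) :
    Submodule.span k {v : V | T v = v} = ⊤ := by
  by_contra hW
  set W : Submodule k V := Submodule.span k {v : V | T v = v} with hWdef
  have : Nontrivial (V ⧸ W) := Submodule.Quotient.nontrivial_iff.mpr hW
  have hcomap : W ≤ W.comap T := fun w hw => map_mem_span_fixed T w hw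
  let Tbar : (V ⧸ W) →ₛₗ[σ] (V ⧸ W) := W.mapQ W T hcomap
  have hTbar : ∀ v : V, Tbar (Submodule.Quotient.mk v) = Submodule.Quotient.mk (T v) :=
    fun v => rfl
  have h1bar : Submodule.span k (Set.range ⇑Tbar) = ⊤ := by
    rw [eq_top_iff]
    intro q _
    obtain ⟨v, rfl⟩ := Submodule.Quotient.mk_surjective W q
    have hv : v ∈ Submodule.span k (Set.range ⇑T) := by rw [h1]; exact Submodule.mem_top
    induction hv using Submodule.span_induction with
    | mem x hx =>
      obtain ⟨w, rfl⟩ := hx
      exact Submodule.subset_span ⟨Submodule.Quotient.mk w, hTbar w⟩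
    | zero => rw [Submodule.Quotient.mk_zero]; exact Submodule.zero_mem _
    | add x y hx hy ihx ihy =>
      rw [Submodule.Quotient.mk_add]
      exact Submodule.add_mem _ (ihx Submodule.mem_top) (ihy Submodule.mem_top)
    | smul a x hx ihx =>
      rw [Submodule.Quotient.mk_smul]
      exact Submodule.smul_mem _ _ (ihx Submodule.mem_top)
  obtain ⟨e, he⟩ := exists_orbit_ne_zero Tbar h1bar
  obtain ⟨vbar, -, hv0, hvfix⟩ := Groth.Agent.S19232.result k σ (V ⧸ W) Tbar h2 e he
  obtain ⟨v₀, rfl⟩ := Submodule.Quotient.mk_surjective W vbar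
  rw [hTbar, Submodule.Quotient.eq] at hvfix
  obtain ⟨w', hw', ew⟩ := exists_sub_eq_smul T h3 _ hvfix 1
  rw [one_smul] at ew
  have hfix : T (v₀ + w') = v₀ + w' := by
    rw [map_add]
    have : T w' = w' - (T v₀ - v₀) := by rw [← ew]; abel
    rw [this]
    abel
  have hmem : v₀ + w' ∈ W := Submodule.subset_span hfix
  have hv₀ : v₀ ∈ W := by
    have := Submodule.sub_mem _ hmem hw'
    rwa [add_sub_cancel_right] at this
  exact hv0 ((Submodule.Quotient.mk_eq_zero W).mpr hv₀)

end lemmas

/-- Let k be a field with a ring endomorphism σ such that (i) for every n and every tuple (b_0, …, b_n)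
in k, not all zero, the equation x = Σ_{i=0}^{n} σ^{i+1}(x) σ^{i}(b_{n-i}) has a nonzero solution x
in k, and (ii) for every c in k there is y in k with σ(y) − y + c = 0. Let V be a finite-dimensional
k-vector space and T : V → V additive with T (c • v) = σ c • T v, such that the image of T spans V
over k. Then V admits a k-basis consisting of vectors fixed by T, and the map v ↦ v − T v is
surjective. -/
theorem result
    (k : Type u) [Field k] (σ : k →+* k)
    (V : Type v) [AddCommGroup V] [Module k V] [FiniteDimensional k V] (T : V →ₛₗ[σ] V)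
    (h1 : Submodule.span k (Set.range ⇑T) = ⊤)
    (h2 : ∀ (n : ℕ) (b : Fin (n + 1) → k), b ≠ 0 →
      ∃ x : k, x ≠ 0 ∧ x = ∑ i : Fin (n + 1), (⇑σ)^[i.val + 1] x * (⇑σ)^[i.val] (b (Fin.rev i)))
    (h3 : ∀ c : k, ∃ y : k, σ y - y + c = 0) :
    (∃ b : Module.Basis (Fin (Module.finrank k V)) k V, ∀ i, T (b i) = b i) ∧
    Function.Surjective (fun v : V => v - T v) := by
  have hW := span_fixed_eq_top T h1 h2 h3
  constructor
  · obtain ⟨b, hbF, hbspan, hbli⟩ := exists_linearIndependent k {v : V | T v = v}
    have hsp : ⊤ ≤ Submodule.span k (Set.range (Subtype.val : b → V)) := by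
      rw [Subtype.range_coe, hbspan, hW]
    let B : Module.Basis b k V := Module.Basis.mk hbli hsp
    have : Finite b := Module.Finite.finite_basis B
    have hcard : Nat.card b = Module.finrank k V := (Module.finrank_eq_nat_card_basis B).symm
    let e : b ≃ Fin (Module.finrank k V) := Finite.equivFinOfCardEq hcard
    refine ⟨B.reindex e, fun i => ?_⟩
    rw [Module.Basis.reindex_apply, Module.Basis.mk_apply]
    exact hbF (e.symm i).2
  · intro v
    have hv : v ∈ Submodule.span k {v : V | T v = v} := by rw [hW]; exact Submodule.mem_top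
    obtain ⟨w', -, ew⟩ := exists_sub_eq_smul T h3 v hv 1
    exact ⟨w', by rw [← one_smul k v]; exact ew⟩

end Groth.Agent.S19233
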