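import Groth.Statements.S19234
import Groth.Agent.S19233
import Mathlib.RingTheory.Artinian.Module

set_option autoImplicit false
universe u v
open SigmaLin

namespace Groth.Agent.S19234

section lemmas

variable {k : Type u} [Field k] {σ : k →+* k} {V : Type v} [AddCommGroup V] [Module k V]

/-- the span of the image of the `n`-th iterate -/
def Vn (T : V →ₛₗ[σ] V) (n : ℕ) : Submodule k V := Submodule.span k (Set.range ((⇑T)^[n]))

theorem Vn_succ_le (T : V →ₛₗ[σ] V) (n : ℕ) : Vn T (n + 1) ≤ Vn T n := by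
  unfold Vn
  rw [Submodule.span_le]
  rintro _ ⟨v, rfl⟩
  exact Submodule.subset_span ⟨T v, (Function.iterate_succ_apply _ _ _).symm⟩

theorem Vn_antitone (T : V →ₛₗ[σ] V) : Antitone (Vn T) :=
  antitone_nat_of_succ_le (Vn_succ_le T)

theorem map_mem_Vn_succ (T : V →ₛₗ[σ] V) (n : ℕ) (w : V) (hw : w ∈ Vn T n) :
    T w ∈ Vn T (n + 1) := by
  unfold Vn at hw ⊢
  induction hw using Submodule.span_induction with
  | mem x hx =>
    obtain ⟨v, rfl⟩ := hx
    exact Submodule.subset_span ⟨v, Function.iterate_succ_apply' _ _ _⟩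
  | zero => rw [map_zero]; exact Submodule.zero_mem _
  | add x y hx hy ihx ihy => rw [map_add]; exact Submodule.add_mem _ ihx ihy
  | smul a x hx ih => rw [map_smulₛₗ]; exact Submodule.smul_mem _ _ ih

theorem exists_stable [FiniteDimensional k V] (T : V →ₛₗ[σ] V) :
    ∃ N, ∀ n, N ≤ n → Vn T n = Vn T N := by
  let f : ℕ →o (Submodule k V)ᵒᵈ :=
    ⟨fun n => OrderDual.toDual (Vn T n), fun a b hab => Vn_antitone T hab⟩
  obtain ⟨N, hN⟩ := IsArtinian.monotone_stabilizes f
  exact ⟨N, fun n hn => (congrArg OrderDual.ofDual (hN n hn)).symm⟩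

theorem telescope (T : V →ₛₗ[σ] V) (v : V) (N : ℕ) :
    (∑ j ∈ Finset.range N, (⇑T)^[j] v) - T (∑ j ∈ Finset.range N, (⇑T)^[j] v) =
      v - (⇑T)^[N] v := by
  induction N with
  | zero => simp
  | succ N ih =>
    rw [Finset.sum_range_succ, map_add, Function.iterate_succ_apply' (⇑T) N v]
    have : ∀ a b c : V, a + b - (c + T b) = (a - c) + (b - T b) := fun a b c => by abel
    rw [this, ih]
    abel

end lemmas

/-- Let k be a field with a surjective ring endomorphism σ such that (i) for every n and every tuple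
(b_0, …, b_n) in k, not all zero, the equation x = Σ_{i=0}^{n} σ^{i+1}(x) σ^{i}(b_{n-i}) has a
nonzero solution x in k, and (ii) for every c in k there is y with σ(y) − y + c = 0. Let V be a
finite-dimensional k-vector space and T : V → V additive with T (c • v) = σ c • T v (no further
condition on T). Then v ↦ v − T v is surjective on V, and the intersection over n of the k-spans of
the images of the iterates of T (the part of V on which T is bijective) admits a k-basis of vectors
fixed by T; in particular the fixed vectors of T span that intersection over k. -/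
theorem result
    (k : Type u) [Field k] (σ : k →+* k) (hσ : Function.Surjective σ)
    (V : Type v) [AddCommGroup V] [Module k V] [FiniteDimensional k V] (T : V →ₛₗ[σ] V)
    (h2 : ∀ (n : ℕ) (b : Fin (n + 1) → k), b ≠ 0 →
      ∃ x : k, x ≠ 0 ∧ x = ∑ i : Fin (n + 1), (⇑σ)^[i.val + 1] x * (⇑σ)^[i.val] (b (Fin.rev i)))
    (h3 : ∀ c : k, ∃ y : k, σ y - y + c = 0) :
    Function.Surjective (fun v : V => v - T v) ∧
    ∃ b : Module.Basis (Fin (Module.finrank k ↥(⨅ n : ℕ, Submodule.span k (Set.range ((⇑T)^[n]))))) k ↥(⨅ n : ℕ, Submodule.span k (Set.range ((⇑T)^[n]))),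
      ∀ i, T (b i : V) = (b i : V) := by
  obtain ⟨N, hN⟩ := exists_stable T
  have hV' : (⨅ n : ℕ, Submodule.span k (Set.range ((⇑T)^[n]))) = Vn T N := by
    apply le_antisymm
    · exact iInf_le _ N
    · refine le_iInf fun n => ?_
      rcases le_total n N with hn | hn
      · exact Vn_antitone T hn
      · exact (hN n hn).ge
  obtain ⟨V', hV'def⟩ : ∃ V' : Submodule k V,
    V' = ⨅ n : ℕ, Submodule.span k (Set.range ((⇑T)^[n])) := ⟨_, rfl⟩
  rw [← hV'def] at hV' ⊢
  have hTV' : ∀ w ∈ V', T w ∈ V' := by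
    intro w hw
    rw [hV'] at hw ⊢
    have := map_mem_Vn_succ T N w hw
    rwa [hN (N + 1) (Nat.le_succ N)] at this
  let T' : V' →ₛₗ[σ] V' := (T.domRestrict V').codRestrict V' fun c => hTV' c.1 c.2
  have hT' : ∀ w : V', ((T' w : V') : V) = T (w : V) := fun w => rfl
  have h1' : Submodule.span k (Set.range ⇑T') = ⊤ := by
    rw [eq_top_iff]
    intro w' _
    have hle : Vn T (N + 1) ≤ (Submodule.span k (Set.range ⇑T')).map V'.subtype := by
      unfold Vn
      rw [Submodule.span_le]
      rintro _ ⟨v, rfl⟩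
      have hz : (⇑T)^[N] v ∈ V' := by
        rw [hV']
        exact Submodule.subset_span ⟨v, rfl⟩
      refine ⟨T' ⟨(⇑T)^[N] v, hz⟩, Submodule.subset_span ⟨_, rfl⟩, ?_⟩
      exact (Function.iterate_succ_apply' _ _ _).symm
    have hw' : (w' : V) ∈ Vn T (N + 1) := by
      rw [hN (N + 1) (Nat.le_succ N), ← hV']
      exact w'.2
    obtain ⟨z, hz, hzw⟩ := hle hw'
    have : z = w' := Subtype.ext hzw
    rwa [this] at hz
  obtain ⟨⟨b, hb⟩, hsurj⟩ := Groth.Agent.S19233.result k σ V' T' h1' h2 h3
  constructor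
  · intro v
    have hz : (⇑T)^[N] v ∈ V' := by
      rw [hV']
      exact Submodule.subset_span ⟨v, rfl⟩
    obtain ⟨w', hw'⟩ := hsurj ⟨(⇑T)^[N] v, hz⟩
    have hw'' : (w' : V) - T (w' : V) = (⇑T)^[N] v := by
      have := congrArg Subtype.val hw'
      exact this
    refine ⟨(∑ j ∈ Finset.range N, (⇑T)^[j] v) + (w' : V), ?_⟩
    show (∑ j ∈ Finset.range N, (⇑T)^[j] v) + (w' : V) -
      T ((∑ j ∈ Finset.range N, (⇑T)^[j] v) + (w' : V)) = v
    rw [map_add]
    have : ∀ a b c d : V, a + b - (c + d) = (a - c) + (b - d) := fun a b c d => by abel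
    rw [this, telescope, hw'']
    abel
  · refine ⟨b, fun i => ?_⟩
    have := congrArg Subtype.val (hb i)
    rwa [hT'] at this

end Groth.Agent.S19234
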