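import Groth.Statements.S19235
import Groth.Agent.S19234
import Mathlib.Algebra.Module.Torsion.Basic
import Mathlib.RingTheory.Ideal.Operations
import Mathlib.RingTheory.Ideal.Quotient.Basic
import Mathlib.RingTheory.LocalRing.ResidueField.Basic
import Mathlib.RingTheory.Finiteness.Basic
import Mathlib.Tactic.Abel

set_option autoImplicit false
universe u v
open SigmaLin

namespace Groth.Agent.S19235

section gen

variable {R : Type u} [CommRing R] (I : Ideal R)

/-- the submodule `I M` -/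
abbrev IM (M : Type v) [AddCommGroup M] [Module R M] : Submodule R M :=
  I • (⊤ : Submodule R M)

variable {I} {σ : R →+* R} {M : Type v} [AddCommGroup M] [Module R M]

theorem mem_IM_iff (p : ℕ) (hIp : I = Ideal.span {(p : R)}) (x : M) :
    x ∈ IM I M ↔ ∃ m : M, x = (p : R) • m := by
  rw [IM, hIp, Submodule.ideal_span_singleton_smul, Submodule.mem_smul_pointwise_iff_exists]
  constructor
  · rintro ⟨m, -, rfl⟩
    exact ⟨m, rfl⟩
  · rintro ⟨m, rfl⟩
    exact ⟨m, Submodule.mem_top, rfl⟩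

theorem map_mem_IM (p : ℕ) (hIp : I = Ideal.span {(p : R)}) (T : M →ₛₗ[σ] M) (x : M)
    (hx : x ∈ IM I M) : T x ∈ IM I M := by
  obtain ⟨m, rfl⟩ := (mem_IM_iff p hIp x).mp hx
  rw [map_smulₛₗ, map_natCast]
  exact (mem_IM_iff p hIp _).mpr ⟨T m, rfl⟩

/-- restriction of `T` to `I M` -/
noncomputable def TN (T : M →ₛₗ[σ] M) (h : ∀ x ∈ IM I M, T x ∈ IM I M) :
    IM I M →ₛₗ[σ] IM I M :=
  (T.domRestrict (IM I M)).codRestrict (IM I M) fun c => h c.1 c.2

theorem TN_coe (T : M →ₛₗ[σ] M) (h : ∀ x ∈ IM I M, T x ∈ IM I M) (x : IM I M) :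
    ((TN T h x : IM I M) : M) = T (x : M) := rfl

/-- the map induced by `T` on `M / I M`, semilinear over `R / I` -/
noncomputable def TV (T : M →ₛₗ[σ] M) (h : ∀ x ∈ IM I M, T x ∈ IM I M)
    (σbar : R ⧸ I →+* R ⧸ I)
    (hσbar : ∀ r : R, σbar (Ideal.Quotient.mk I r) = Ideal.Quotient.mk I (σ r)) :
    (M ⧸ IM I M) →ₛₗ[σbar] (M ⧸ IM I M) where
  toFun := (IM I M).mapQ (IM I M) T (fun x hx => h x hx)
  map_add' := map_add _
  map_smul' := by
    intro c x
    obtain ⟨r, rfl⟩ := Ideal.Quotient.mk_surjective c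
    obtain ⟨m, rfl⟩ := Submodule.Quotient.mk_surjective _ x
    rw [hσbar, Module.Quotient.mk_smul_mk, Submodule.mapQ_apply,
      Submodule.mapQ_apply, map_smulₛₗ, Module.Quotient.mk_smul_mk]

theorem TV_mk (T : M →ₛₗ[σ] M) (h : ∀ x ∈ IM I M, T x ∈ IM I M)
    (σbar : R ⧸ I →+* R ⧸ I)
    (hσbar : ∀ r : R, σbar (Ideal.Quotient.mk I r) = Ideal.Quotient.mk I (σ r)) (m : M) :
    TV T h σbar hσbar (Submodule.Quotient.mk m) = Submodule.Quotient.mk (T m) := rfl

variable [hI : I.IsMaximal]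

noncomputable local instance : Field (R ⧸ I) := Ideal.Quotient.field I

/-- one step of the dévissage -/
theorem surj_of_surj_IM [Module.Finite R M] (T : M →ₛₗ[σ] M) (h : ∀ x ∈ IM I M, T x ∈ IM I M)
    (σbar : R ⧸ I →+* R ⧸ I)
    (hσbar : ∀ r : R, σbar (Ideal.Quotient.mk I r) = Ideal.Quotient.mk I (σ r))
    (hsurj : Function.Surjective σbar)
    (h2 : ∀ (n : ℕ) (b : Fin (n + 1) → R ⧸ I), b ≠ 0 →
      ∃ x : R ⧸ I, x ≠ 0 ∧
        x = ∑ i : Fin (n + 1), (⇑σbar)^[i.val + 1] x * (⇑σbar)^[i.val] (b (Fin.rev i)))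
    (h3 : ∀ c : R ⧸ I, ∃ y : R ⧸ I, σbar y - y + c = 0)
    (hN : Function.Surjective (fun x : IM I M => x - TN T h x)) :
    Function.Surjective (fun m : M => m - T m) := by
  have hsV := (Groth.Agent.S19234.result (R ⧸ I) σbar hsurj (M ⧸ IM I M)
    (TV T h σbar hσbar) h2 h3).1
  intro m
  obtain ⟨ubar, hubar⟩ := hsV (Submodule.Quotient.mk m)
  obtain ⟨u, rfl⟩ := Submodule.Quotient.mk_surjective _ ubar
  have h1 : u - T u - m ∈ IM I M := by
    rw [← Submodule.Quotient.mk_eq_zero, Submodule.Quotient.mk_sub, Submodule.Quotient.mk_sub,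
      ← TV_mk T h σbar hσbar u]
    exact sub_eq_zero.mpr hubar
  obtain ⟨⟨w, hw⟩, hw'⟩ := hN ⟨-(u - T u - m), (IM I M).neg_mem h1⟩
  have hw'' : w - T w = -(u - T u - m) := congrArg Subtype.val hw'
  refine ⟨u + w, ?_⟩
  show u + w - T (u + w) = m
  rw [map_add]
  have : u + w - (T u + T w) = (u - T u) + (w - T w) := by abel
  rw [this, hw'']
  abel

theorem aux (p : ℕ) (hIp : I = Ideal.span {(p : R)})
    (σbar : R ⧸ I →+* R ⧸ I)
    (hσbar : ∀ r : R, σbar (Ideal.Quotient.mk I r) = Ideal.Quotient.mk I (σ r))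
    (hsurj : Function.Surjective σbar)
    (h2 : ∀ (n : ℕ) (b : Fin (n + 1) → R ⧸ I), b ≠ 0 →
      ∃ x : R ⧸ I, x ≠ 0 ∧
        x = ∑ i : Fin (n + 1), (⇑σbar)^[i.val + 1] x * (⇑σbar)^[i.val] (b (Fin.rev i)))
    (h3 : ∀ c : R ⧸ I, ∃ y : R ⧸ I, σbar y - y + c = 0) (n : ℕ) :
    ∀ (M : Type v) [AddCommGroup M] [Module R M] [Module.Finite R M] (T : M →ₛₗ[σ] M),
      (∀ m : M, (p : R) ^ n • m = 0) → Function.Surjective (fun m : M => m - T m) := by
  induction n with
  | zero =>
    intro M _ _ _ T hM m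
    have h0 : ∀ x : M, x = 0 := fun x => by
      have := hM x
      rwa [pow_zero, one_smul] at this
    exact ⟨0, by rw [h0 m]; simp⟩
  | succ n ih =>
    intro M _ _ _ T hM
    have hTN : ∀ x ∈ IM I M, T x ∈ IM I M := fun x hx => map_mem_IM p hIp T x hx
    let f : M →ₗ[R] IM I M := (LinearMap.lsmul R M (p : R)).codRestrict (IM I M)
      fun m => (mem_IM_iff p hIp _).mpr ⟨m, rfl⟩
    have hf : Function.Surjective f := by
      rintro ⟨x, hx⟩
      obtain ⟨m, rfl⟩ := (mem_IM_iff p hIp x).mp hx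
      exact ⟨m, Subtype.ext rfl⟩
    have : Module.Finite R (IM I M) := Module.Finite.of_surjective f hf
    have hN' : ∀ x : IM I M, (p : R) ^ n • x = 0 := by
      rintro ⟨x, hx⟩
      obtain ⟨m, rfl⟩ := (mem_IM_iff p hIp x).mp hx
      apply Subtype.ext
      show (p : R) ^ n • ((p : R) • m) = 0
      rw [smul_smul, ← pow_succ]
      exact hM m
    exact surj_of_surj_IM T hTN σbar hσbar hsurj h2 h3 (ih (IM I M) (TN T hTN) hN')

end gen

/-- Let p be a prime number and R a local ring whose maximal ideal is generated by p and in which p^n =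
0 for some n. Let σ be a ring endomorphism of R and σ̄ the induced endomorphism of the residue field
k = R/(p); assume σ̄ is surjective, that for every m and every tuple (b_0, …, b_m) in k, not all
zero, the equation x = Σ_{i=0}^{m} σ̄^{i+1}(x) σ̄^{i}(b_{m-i}) has a nonzero solution x in k, and
that for every c in k there is y with σ̄(y) − y + c = 0. Let M be a finitely generated R-module and
T : M → M additive with T (r • m) = σ r • T m. Then the map m ↦ m − T m is surjective on M. -/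
theorem result
    (p : ℕ) [Fact p.Prime] (R : Type u) [CommRing R] [IsLocalRing R]
    (hmax : IsLocalRing.maximalIdeal R = Ideal.span {(p : R)}) (n : ℕ) (hn : (p : R) ^ n = 0)
    (σ : R →+* R) (σbar : IsLocalRing.ResidueField R →+* IsLocalRing.ResidueField R)
    (hσbar : ∀ r : R, σbar (IsLocalRing.residue R r) = IsLocalRing.residue R (σ r))
    (hsurj : Function.Surjective σbar)
    (h2 : ∀ (n : ℕ) (b : Fin (n + 1) → IsLocalRing.ResidueField R), b ≠ 0 →
      ∃ x : IsLocalRing.ResidueField R, x ≠ 0 ∧ x = ∑ i : Fin (n + 1), (⇑σbar)^[i.val + 1] x * (⇑σbar)^[i.val] (b (Fin.rev i)))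
    (h3 : ∀ c : IsLocalRing.ResidueField R, ∃ y : IsLocalRing.ResidueField R, σbar y - y + c = 0)
    (M : Type v) [AddCommGroup M] [Module R M] [Module.Finite R M] (T : M →ₛₗ[σ] M) :
    Function.Surjective (fun m : M => m - T m) :=
  aux (I := IsLocalRing.maximalIdeal R) p hmax σbar hσbar hsurj h2 h3 n M T
    (fun m => by rw [hn, zero_smul])

end Groth.Agent.S19235
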