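import Groth.Statements.S19236
import Groth.Agent.S19235
import Mathlib.LinearAlgebra.Finsupp.LinearCombination
import Mathlib.LinearAlgebra.Basis.Basic
import Mathlib.Algebra.Ring.Subring.Basic

set_option autoImplicit false
universe u v
open SigmaLin

namespace Groth.Agent.S19236

open Groth.Agent.S19235

section gen

variable {R : Type u} [CommRing R] {I : Ideal R} {σ : R →+* R}

/-- the subring of `σ`-fixed elements -/
def Rσ (σ : R →+* R) : Subring R := σ.eqLocus (RingHom.id R)

theorem mem_Rσ (r : R) : r ∈ Rσ σ ↔ σ r = r := Iff.rfl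

variable [hI : I.IsMaximal]

noncomputable local instance : Field (R ⧸ I) := Ideal.Quotient.field I

variable {M : Type v} [AddCommGroup M] [Module R M]

omit hI in
/-- lifting fixed vectors from `M / I M` to `M` -/
theorem lift_fixed (T : M →ₛₗ[σ] M) (h : ∀ x ∈ IM I M, T x ∈ IM I M)
    (σbar : R ⧸ I →+* R ⧸ I)
    (hσbar : ∀ r : R, σbar (Ideal.Quotient.mk I r) = Ideal.Quotient.mk I (σ r))
    (hN : Function.Surjective (fun x : IM I M => x - TN T h x))
    (vbar : M ⧸ IM I M) (hv : TV T h σbar hσbar vbar = vbar) :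
    ∃ m : M, T m = m ∧ Submodule.Quotient.mk m = vbar := by
  obtain ⟨u, rfl⟩ := Submodule.Quotient.mk_surjective _ vbar
  rw [TV_mk, Submodule.Quotient.eq] at hv
  obtain ⟨⟨w, hw⟩, hw'⟩ := hN ⟨T u - u, hv⟩
  have hw'' : w - T w = T u - u := congrArg Subtype.val hw'
  refine ⟨u + w, ?_, ?_⟩
  · rw [map_add]
    have : T w = w - (T u - u) := by rw [← hw'']; abel
    rw [this]
    abel
  · rw [Submodule.Quotient.mk_add, (Submodule.Quotient.mk_eq_zero _).mpr hw, add_zero]

theorem step [Module.Finite R M] (T : M →ₛₗ[σ] M) (h : ∀ x ∈ IM I M, T x ∈ IM I M)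
    (σbar : R ⧸ I →+* R ⧸ I)
    (hσbar : ∀ r : R, σbar (Ideal.Quotient.mk I r) = Ideal.Quotient.mk I (σ r))
    (hsurj : Function.Surjective σbar)
    (h2 : ∀ (n : ℕ) (b : Fin (n + 1) → R ⧸ I), b ≠ 0 →
      ∃ x : R ⧸ I, x ≠ 0 ∧
        x = ∑ i : Fin (n + 1), (⇑σbar)^[i.val + 1] x * (⇑σbar)^[i.val] (b (Fin.rev i)))
    (h3 : ∀ c : R ⧸ I, ∃ y : R ⧸ I, σbar y - y + c = 0)
    (hlift : ∀ x : R ⧸ I, σbar x = x → ∃ r : R, σ r = r ∧ Ideal.Quotient.mk I r = x)
    (hN : Function.Surjective (fun x : IM I M => x - TN T h x))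
    (sN : Finset (IM I M)) (hsN1 : ∀ x ∈ sN, TN T h x = x)
    (hsN2 : ∀ x : IM I M, TN T h x = x → x ∈ Submodule.span (Rσ σ) (sN : Set (IM I M))) :
    ∃ s : Finset M, (∀ x ∈ s, T x = x) ∧
      ∀ m : M, T m = m → m ∈ Submodule.span (Rσ σ) (s : Set M) := by
  classical
  obtain ⟨-, b, hb⟩ := Groth.Agent.S19234.result (R ⧸ I) σbar hsurj (M ⧸ IM I M)
    (TV T h σbar hσbar) h2 h3
  choose mf hmf1 hmf2 using fun i => lift_fixed T h σbar hσbar hN (b i : M ⧸ IM I M) (hb i)
  refine ⟨Finset.univ.image mf ∪ sN.image Subtype.val, ?_, ?_⟩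
  · intro x hx
    rcases Finset.mem_union.mp hx with hx | hx
    · obtain ⟨i, -, rfl⟩ := Finset.mem_image.mp hx
      exact hmf1 i
    · obtain ⟨y, hy, rfl⟩ := Finset.mem_image.mp hx
      exact congrArg Subtype.val (hsN1 y hy)
  · intro x hx
    -- the class of x
    have hxbar : TV T h σbar hσbar (Submodule.Quotient.mk x) = Submodule.Quotient.mk x := by
      rw [TV_mk, hx]
    have hxV' : (Submodule.Quotient.mk x : M ⧸ IM I M) ∈
        ⨅ n : ℕ, Submodule.span (R ⧸ I) (Set.range ((⇑(TV T h σbar hσbar))^[n])) :=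
      (Submodule.mem_iInf _).mpr fun j => Submodule.subset_span ⟨_, Function.iterate_fixed hxbar j⟩
    obtain ⟨c, hc⟩ : ∃ c : Fin _ → R ⧸ I, c = fun i => b.repr ⟨_, hxV'⟩ i := ⟨_, rfl⟩
    have hx1 : (Submodule.Quotient.mk x : M ⧸ IM I M) = ∑ i, c i • (b i : M ⧸ IM I M) := by
      have h1 := congrArg (Submodule.subtype _) (b.sum_repr ⟨_, hxV'⟩)
      rw [map_sum] at h1
      rw [hc]
      simpa using h1.symm
    have hcfix : ∀ i, σbar (c i) = c i := by
      have h1 : (∑ i, σbar (c i) • b i) = (⟨_, hxV'⟩ : ↥(⨅ n : ℕ, Submodule.span (R ⧸ I)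
          (Set.range ((⇑(TV T h σbar hσbar))^[n])))) := by
        apply Subtype.ext
        have h2 : ((∑ i, σbar (c i) • b i : ↥(⨅ n : ℕ, Submodule.span (R ⧸ I)
            (Set.range ((⇑(TV T h σbar hσbar))^[n])))) : M ⧸ IM I M) =
            ∑ i, σbar (c i) • (b i : M ⧸ IM I M) := by
          simp
        rw [h2]
        show _ = (Submodule.Quotient.mk x : M ⧸ IM I M)
        conv_rhs => rw [← hxbar, hx1, map_sum]
        refine Finset.sum_congr rfl fun i _ => ?_
        rw [map_smulₛₗ, hb i]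
      intro i
      have h2 := congrArg (fun y => b.repr y i) h1
      simp only [Module.Basis.repr_sum_self] at h2
      rw [h2, hc]
    choose r hr1 hr2 using fun i => hlift (c i) (hcfix i)
    -- the difference
    obtain ⟨z, hz⟩ : ∃ z : M, z = x - ∑ i, r i • mf i := ⟨_, rfl⟩
    have hzfix : T z = z := by
      rw [hz, map_sub, map_sum, hx]
      congr 1
      refine Finset.sum_congr rfl fun i _ => ?_
      rw [map_smulₛₗ, hr1, hmf1]
    have hzN : z ∈ IM I M := by
      rw [← Submodule.Quotient.mk_eq_zero, hz, Submodule.Quotient.mk_sub, hx1, sub_eq_zero]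
      have : (Submodule.Quotient.mk (∑ i, r i • mf i) : M ⧸ IM I M) =
          ∑ i, (Submodule.Quotient.mk (r i • mf i) : M ⧸ IM I M) :=
        map_sum (IM I M).mkQ _ _
      rw [this]
      refine Finset.sum_congr rfl fun i _ => ?_
      rw [← hr2 i, ← hmf2 i, Module.Quotient.mk_smul_mk]
    have hz' : TN T h ⟨z, hzN⟩ = ⟨z, hzN⟩ := Subtype.ext hzfix
    have hzspan := hsN2 ⟨z, hzN⟩ hz'
    have hmap : ∀ y : IM I M, y ∈ Submodule.span (Rσ σ) (sN : Set (IM I M)) →
        (y : M) ∈ Submodule.span (Rσ σ)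
          ((Finset.univ.image mf ∪ sN.image Subtype.val : Finset M) : Set M) := by
      intro y hy
      induction hy using Submodule.span_induction with
      | mem y hy =>
        apply Submodule.subset_span
        rw [Finset.mem_coe]
        exact Finset.mem_union_right _ (Finset.mem_image_of_mem _ hy)
      | zero => exact Submodule.zero_mem _
      | add a b ha hb iha ihb => exact Submodule.add_mem _ iha ihb
      | smul a y hy ih => exact Submodule.smul_mem _ a ih
    have hxz : x = z + ∑ i, r i • mf i := by rw [hz]; abel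
    rw [hxz]
    refine Submodule.add_mem _ (hmap _ hzspan) (Submodule.sum_mem _ fun i _ => ?_)
    have : r i • mf i = (⟨r i, (mem_Rσ (r i)).mpr (hr1 i)⟩ : Rσ σ) • mf i := rfl
    rw [this]
    apply Submodule.smul_mem
    apply Submodule.subset_span
    rw [Finset.mem_coe]
    exact Finset.mem_union_left _ (Finset.mem_image_of_mem _ (Finset.mem_univ i))

theorem aux (p : ℕ) (hIp : I = Ideal.span {(p : R)})
    (σbar : R ⧸ I →+* R ⧸ I)
    (hσbar : ∀ r : R, σbar (Ideal.Quotient.mk I r) = Ideal.Quotient.mk I (σ r))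
    (hsurj : Function.Surjective σbar)
    (h2 : ∀ (n : ℕ) (b : Fin (n + 1) → R ⧸ I), b ≠ 0 →
      ∃ x : R ⧸ I, x ≠ 0 ∧
        x = ∑ i : Fin (n + 1), (⇑σbar)^[i.val + 1] x * (⇑σbar)^[i.val] (b (Fin.rev i)))
    (h3 : ∀ c : R ⧸ I, ∃ y : R ⧸ I, σbar y - y + c = 0)
    (hlift : ∀ x : R ⧸ I, σbar x = x → ∃ r : R, σ r = r ∧ Ideal.Quotient.mk I r = x) (n : ℕ) :
    ∀ (M : Type v) [AddCommGroup M] [Module R M] [Module.Finite R M] (T : M →ₛₗ[σ] M),
      (∀ m : M, (p : R) ^ n • m = 0) →
      ∃ s : Finset M, (∀ x ∈ s, T x = x) ∧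
        ∀ m : M, T m = m → m ∈ Submodule.span (Rσ σ) (s : Set M) := by
  induction n with
  | zero =>
    intro M _ _ _ T hM
    have h0 : ∀ x : M, x = 0 := fun x => by
      have := hM x
      rwa [pow_zero, one_smul] at this
    exact ⟨∅, fun x hx => absurd hx (Finset.notMem_empty x),
      fun m _ => by rw [h0 m]; exact Submodule.zero_mem _⟩
  | succ n ih =>
    intro M _ _ _ T hM
    have hTN : ∀ x ∈ IM I M, T x ∈ IM I M := fun x hx => map_mem_IM p hIp T x hx
    let f : M →ₗ[R] IM I M := (LinearMap.lsmul R M (p : R)).codRestrict (IM I M)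
      fun m => (mem_IM_iff p hIp _).mpr ⟨m, rfl⟩
    have hf : Function.Surjective f := by
      rintro ⟨x, hx⟩
      obtain ⟨m, rfl⟩ := (mem_IM_iff p hIp x).mp hx
      exact ⟨m, Subtype.ext rfl⟩
    have : Module.Finite R (IM I M) := Module.Finite.of_surjective f hf
    have hN' : ∀ x : IM I M, (p : R) ^ n • x = 0 := by
      rintro ⟨x, hx⟩
      obtain ⟨m, rfl⟩ := (mem_IM_iff p hIp x).mp hx
      apply Subtype.ext
      show (p : R) ^ n • ((p : R) • m) = 0
      rw [smul_smul, ← pow_succ]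
      exact hM m
    obtain ⟨sN, hsN1, hsN2⟩ := ih (IM I M) (TN T hTN) hN'
    have hN : Function.Surjective (fun x : IM I M => x - TN T hTN x) :=
      Groth.Agent.S19235.aux p hIp σbar hσbar hsurj h2 h3 n (IM I M) (TN T hTN) hN'
    exact step T hTN σbar hσbar hsurj h2 h3 hlift hN sN hsN1 hsN2

end gen

/-- Let p be a prime number and R a local ring whose maximal ideal is generated by p and in which p^n =
0 for some n. Let σ be a ring endomorphism of R and σ̄ the induced endomorphism of the residue field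
k = R/(p); assume σ̄ is surjective, that for every m and every tuple (b_0, …, b_m) in k, not all
zero, the equation x = Σ_{i=0}^{m} σ̄^{i+1}(x) σ̄^{i}(b_{m-i}) has a nonzero solution x in k, that
for every c in k there is y with σ̄(y) − y + c = 0, and that every element of k fixed by σ̄ is the
residue of an element of R fixed by σ. Let M be a finitely generated R-module and T : M → M additive
with T (r • m) = σ r • T m. Then the T-fixed elements of M form a finitely generated module over the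
ring of σ-fixed elements of R: there are finitely many T-fixed elements such that every T-fixed
element is a linear combination of them with σ-fixed coefficients. -/
theorem result
    (p : ℕ) [Fact p.Prime] (R : Type u) [CommRing R] [IsLocalRing R]
    (hmax : IsLocalRing.maximalIdeal R = Ideal.span {(p : R)}) (n : ℕ) (hn : (p : R) ^ n = 0)
    (σ : R →+* R) (σbar : IsLocalRing.ResidueField R →+* IsLocalRing.ResidueField R)
    (hσbar : ∀ r : R, σbar (IsLocalRing.residue R r) = IsLocalRing.residue R (σ r))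
    (hsurj : Function.Surjective σbar)
    (h2 : ∀ (n : ℕ) (b : Fin (n + 1) → IsLocalRing.ResidueField R), b ≠ 0 →
      ∃ x : IsLocalRing.ResidueField R, x ≠ 0 ∧ x = ∑ i : Fin (n + 1), (⇑σbar)^[i.val + 1] x * (⇑σbar)^[i.val] (b (Fin.rev i)))
    (h3 : ∀ c : IsLocalRing.ResidueField R, ∃ y : IsLocalRing.ResidueField R, σbar y - y + c = 0)
    (M : Type v) [AddCommGroup M] [Module R M] [Module.Finite R M] (T : M →ₛₗ[σ] M)
    (hlift : ∀ x : IsLocalRing.ResidueField R, σbar x = x → ∃ r : R, σ r = r ∧ IsLocalRing.residue R r = x) :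
    ∃ s : Finset M, (∀ m ∈ s, T m = m) ∧
      ∀ m : M, T m = m → ∃ c : M → R, (∀ x ∈ s, σ (c x) = c x) ∧ m = ∑ x ∈ s, c x • x := by
  obtain ⟨s, hs1, hs2⟩ := aux (I := IsLocalRing.maximalIdeal R) p hmax σbar hσbar hsurj h2 h3 hlift
    n M T (fun m => by rw [hn, zero_smul])
  refine ⟨s, hs1, fun m hm => ?_⟩
  obtain ⟨f, -, hf⟩ := Submodule.mem_span_finset.mp (hs2 m hm)
  refine ⟨fun x => (f x : R), fun x _ => (f x).2, ?_⟩
  rw [← hf]
  rfl

end Groth.Agent.S19236
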