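import Groth.Statements.S19237
import Groth.Agent.S19235
import Groth.Agent.H96.WittLocal

set_option autoImplicit false
universe u v
open SigmaLin

namespace Groth.Agent.S19237

open Groth.Agent.H96

/-- Let k be an algebraically closed field of characteristic p > 0 and n a natural number; let M be a
finitely generated module over the ring W_n(k) of truncated Witt vectors and T : M → M an additive
map with T (c • m) = σ(c) • T m, where σ is either the Frobenius endomorphism of W_n(k) (induced by
the p-th power map of k) or its inverse (induced by the inverse of the p-th power map). Then m ↦ T m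
− m is surjective on M. (The printed statement takes k perfect and separably closed, which is the
same as algebraically closed.) -/
theorem result
    (p : ℕ) [Fact p.Prime] (k : Type u) [Field k] [CharP k p] [IsAlgClosed k] (n : ℕ)
    (σ : TruncatedWittVector p n k →+* TruncatedWittVector p n k)
    (hσ : σ = WittGrp.truncMap p n (frobenius k p) ∨
      σ = WittGrp.truncMap p n (frobeniusEquiv k p).symm.toRingHom)
    (M : Type v) [AddCommGroup M] [Module (TruncatedWittVector p n k) M] [Module.Finite (TruncatedWittVector p n k) M]
    (T : M →ₛₗ[σ] M) :
    Function.Surjective (fun m : M => T m - m) := by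
  rcases n with _ | n
  · have h0 : Subsingleton (TruncatedWittVector p 0 k) :=
      ⟨fun a b => TruncatedWittVector.ext fun i => i.elim0⟩
    have : Subsingleton M := Module.subsingleton (TruncatedWittVector p 0 k) M
    intro m
    exact ⟨0, Subsingleton.elim _ _⟩
  · obtain ⟨τ, hτ, hτs, rfl⟩ : ∃ τ : k →+* k, ((∀ a, τ a = a ^ p) ∨ (∀ a, τ (a ^ p) = a)) ∧
        Function.Surjective τ ∧ σ = WittGrp.truncMap p (n + 1) τ := by
      rcases hσ with h | h
      · exact ⟨frobenius k p, Or.inl (fun a => rfl), surjective_frobenius k p, h⟩
      · exact ⟨(frobeniusEquiv k p).symm.toRingHom,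
          Or.inr (fun a => frobeniusEquiv_symm_apply_frobenius k p a),
          (frobeniusEquiv k p).symm.surjective, h⟩
    obtain ⟨σbar, hσbar, hsurj, h2, h3, -⟩ := witt_sigma_data (p := p) (k := k) n τ hτ hτs
    have hS := Groth.Agent.S19235.result p (TruncatedWittVector p (n + 1) k)
      (maximalIdeal_truncated n) (n + 1) (p_pow_eq_zero_truncated (n + 1)) _ σbar hσbar hsurj
      h2 h3 M T
    intro m
    obtain ⟨m', hm'⟩ := hS (-m)
    refine ⟨m', ?_⟩
    have h1 : m' - T m' = -m := hm'
    show T m' - m' = m
    rw [← neg_sub, h1, neg_neg]

end Groth.Agent.S19237
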