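import Groth.Statements.S19238
import Groth.Agent.S19236
import Groth.Agent.H96.WittLocal
import Mathlib.Algebra.Polynomial.Roots
import Mathlib.Data.Set.Finite.Lattice
import Mathlib.Data.Fintype.Pi

set_option autoImplicit false
universe u v
open SigmaLin

namespace Groth.Agent.S19238

open Groth.Agent.H96

theorem finite_pow_eq_self (p : ℕ) (hp : 2 ≤ p) (k : Type u) [Field k] :
    {a : k | a ^ p = a}.Finite := by
  have hne : (Polynomial.X ^ p - Polynomial.X : Polynomial k) ≠ 0 := by
    intro h
    have h1 := congrArg (fun q => Polynomial.coeff q p) h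
    simp only [Polynomial.coeff_sub, Polynomial.coeff_X_pow, Polynomial.coeff_X,
      Polynomial.coeff_zero] at h1
    rw [if_pos trivial, if_neg (by omega)] at h1
    simp at h1
  refine (Polynomial.finite_setOfPred_isRoot hne).subset ?_
  intro a ha
  have ha' : a ^ p = a := ha
  simp [Polynomial.IsRoot, ha']

theorem finite_fixed (p : ℕ) [Fact p.Prime] (k : Type u) [Field k] (n : ℕ) (τ : k →+* k)
    (hτ : ∀ a, τ a = a → a ^ p = a) :
    {r : TruncatedWittVector p n k | WittGrp.truncMap p n τ r = r}.Finite := by
  have hp2 : 2 ≤ p := (Fact.out : p.Prime).two_le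
  have hA := finite_pow_eq_self p hp2 k
  have hpi : (Set.pi Set.univ fun _ : Fin n => {a : k | a ^ p = a}).Finite :=
    Set.Finite.pi fun _ => hA
  refine Set.Finite.of_injOn (f := fun (r : TruncatedWittVector p n k) (i : Fin n) => r.coeff i)
    ?_ ?_ hpi
  · intro r hr i _
    have h1 : WittGrp.truncMap p n τ r = r := hr
    have h2 := congrArg (fun x => TruncatedWittVector.coeff i x) h1
    simp only [WittGrp.coeff_truncMap] at h2
    exact hτ _ h2
  · intro r _ r' _ h
    exact TruncatedWittVector.ext fun i => congrFun h i

/-- Let k be an algebraically closed field of characteristic p > 0 and n a natural number; let M be a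
finitely generated module over the ring W_n(k) of truncated Witt vectors and T : M → M an additive
map with T (c • m) = σ(c) • T m, where σ is either the Frobenius endomorphism of W_n(k) or its
inverse. Then the set of T-fixed elements of M is finite. (The printed statement says that the
T-fixed elements form a finitely generated module over the σ-fixed subring of W_n(k), which is the
finite ring of integers modulo p^n.) -/
theorem result
    (p : ℕ) [Fact p.Prime] (k : Type u) [Field k] [CharP k p] [IsAlgClosed k] (n : ℕ)
    (σ : TruncatedWittVector p n k →+* TruncatedWittVector p n k)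
    (hσ : σ = WittGrp.truncMap p n (frobenius k p) ∨
      σ = WittGrp.truncMap p n (frobeniusEquiv k p).symm.toRingHom)
    (M : Type v) [AddCommGroup M] [Module (TruncatedWittVector p n k) M] [Module.Finite (TruncatedWittVector p n k) M]
    (T : M →ₛₗ[σ] M) :
    {m : M | T m = m}.Finite := by
  rcases n with _ | n
  · have h0 : Subsingleton (TruncatedWittVector p 0 k) :=
      ⟨fun a b => TruncatedWittVector.ext fun i => i.elim0⟩
    have : Subsingleton M := Module.subsingleton (TruncatedWittVector p 0 k) M
    exact Set.toFinite _
  · obtain ⟨τ, hτ, hτs, rfl⟩ : ∃ τ : k →+* k, ((∀ a, τ a = a ^ p) ∨ (∀ a, τ (a ^ p) = a)) ∧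
        Function.Surjective τ ∧ σ = WittGrp.truncMap p (n + 1) τ := by
      rcases hσ with h | h
      · exact ⟨frobenius k p, Or.inl (fun a => rfl), surjective_frobenius k p, h⟩
      · exact ⟨(frobeniusEquiv k p).symm.toRingHom,
          Or.inr (fun a => frobeniusEquiv_symm_apply_frobenius k p a),
          (frobeniusEquiv k p).symm.surjective, h⟩
    have hτfix : ∀ a, τ a = a → a ^ p = a := by
      intro a ha
      rcases hτ with h | h
      · rw [← h, ha]
      · have h1 : τ (a ^ p) = a ^ p := by rw [map_pow, ha]
        rw [← h1, h]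
    obtain ⟨σbar, hσbar, hsurj, h2, h3, hlift⟩ := witt_sigma_data (p := p) (k := k) n τ hτ hτs
    obtain ⟨s, hs1, hs2⟩ := Groth.Agent.S19236.result p (TruncatedWittVector p (n + 1) k)
      (maximalIdeal_truncated n) (n + 1) (p_pow_eq_zero_truncated (n + 1)) _ σbar hσbar hsurj
      h2 h3 M T hlift
    have hFix := finite_fixed p k (n + 1) τ hτfix
    have : Finite {r : TruncatedWittVector p (n + 1) k | WittGrp.truncMap p (n + 1) τ r = r} :=
      hFix.to_subtype
    let Φ : (s → {r : TruncatedWittVector p (n + 1) k | WittGrp.truncMap p (n + 1) τ r = r}) →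
        M := fun c => ∑ x : s, ((c x : TruncatedWittVector p (n + 1) k)) • (x : M)
    refine (Set.finite_range Φ).subset ?_
    intro m hm
    obtain ⟨c, hc1, hc2⟩ := hs2 m hm
    refine ⟨fun x => ⟨c x, hc1 x x.2⟩, ?_⟩
    show ∑ x : s, c x • (x : M) = m
    rw [hc2]
    exact Finset.sum_coe_sort s (fun x => c x • x)

end Groth.Agent.S19238
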