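import Mathlib
import Groth.Statements.S19244

set_option autoImplicit false
universe v v' u u'
open HomAlg3

namespace Groth.Agent.S19244

section
open CategoryTheory CategoryTheory.Limits
variable {A : Type u} [Category.{v} A] [Abelian A]

/-- multiplication by a nonzero integer is an isomorphism modulo bounded torsion. -/
theorem isoModSerre_zsmul_id (P : ObjectProperty A)
    (hP : ∀ X : A, P X ↔ ∃ n : ℤ, n ≠ 0 ∧ n • (𝟙 X) = 0) [P.IsSerreClass]
    (n : ℤ) (hn : n ≠ 0) (Z : A) : P.isoModSerre (n • 𝟙 Z) := by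
  refine (P.isoModSerre_iff _).2 ⟨?_, ?_⟩
  · rw [ObjectProperty.monoModSerre_iff, hP]
    refine ⟨n, hn, ?_⟩
    rw [← cancel_mono (kernel.ι (n • 𝟙 Z)), Preadditive.zsmul_comp, Category.id_comp, zero_comp]
    have := kernel.condition (n • 𝟙 Z)
    rwa [Preadditive.comp_zsmul, Category.comp_id] at this
  · rw [ObjectProperty.epiModSerre_iff, hP]
    refine ⟨n, hn, ?_⟩
    rw [← cancel_epi (cokernel.π (n • 𝟙 Z)), Preadditive.comp_zsmul, Category.comp_id, comp_zero]
    have := cokernel.condition (n • 𝟙 Z)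
    rwa [Preadditive.zsmul_comp, Category.id_comp] at this

theorem exists_section_of_isoModSerre (P : ObjectProperty A)
    (hP : ∀ X : A, P X ↔ ∃ n : ℤ, n ≠ 0 ∧ n • (𝟙 X) = 0) [P.IsSerreClass]
    {X' X : A} (s : X' ⟶ X) (hs : P.isoModSerre s) :
    ∃ (n : ℤ) (t : X ⟶ X'), n ≠ 0 ∧ t ≫ s = n • 𝟙 X := by
  obtain ⟨hK, hC⟩ := (P.isoModSerre_iff s).1 hs
  rw [ObjectProperty.monoModSerre_iff, hP] at hK
  rw [ObjectProperty.epiModSerre_iff, hP] at hC
  obtain ⟨a, ha, hKa⟩ := hK
  obtain ⟨b, hb, hCb⟩ := hC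
  have h1 : (b • 𝟙 X) ≫ cokernel.π s = 0 := by
    rw [Preadditive.zsmul_comp, Category.id_comp]
    have : cokernel.π s ≫ (b • 𝟙 (cokernel s)) = 0 := by rw [hCb, comp_zero]
    rwa [Preadditive.comp_zsmul, Category.comp_id] at this
  let u : X ⟶ Abelian.image s := kernel.lift (cokernel.π s) (b • 𝟙 X) h1
  have hu : u ≫ Abelian.image.ι s = b • 𝟙 X := kernel.lift_ι _ _ _
  have h2 : kernel.ι s ≫ (a • 𝟙 X') = 0 := by
    rw [Preadditive.comp_zsmul, Category.comp_id]
    have : (a • 𝟙 (kernel s)) ≫ kernel.ι s = 0 := by rw [hKa, zero_comp]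
    rwa [Preadditive.zsmul_comp, Category.id_comp] at this
  let w : Abelian.coimage s ⟶ X' := cokernel.desc (kernel.ι s) (a • 𝟙 X') h2
  have hw : Abelian.coimage.π s ≫ w = a • 𝟙 X' := cokernel.π_desc _ _ _
  have hws : w ≫ s = a • (Abelian.coimageImageComparison s ≫ Abelian.image.ι s) := by
    rw [← cancel_epi (Abelian.coimage.π s), ← Category.assoc, hw, Preadditive.zsmul_comp,
      Category.id_comp, Preadditive.comp_zsmul]
    congr 1
    exact (Abelian.coimage_image_factorisation s).symm
  refine ⟨a * b, u ≫ inv (Abelian.coimageImageComparison s) ≫ w, mul_ne_zero ha hb, ?_⟩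
  rw [Category.assoc, Category.assoc, hws, Preadditive.comp_zsmul, Preadditive.comp_zsmul,
    IsIso.inv_hom_id_assoc, hu, smul_smul]

end

open CategoryTheory in
/-- Let A be an abelian category and let P be the class of bounded-torsion objects of A, those X with n
• 𝟙_X = 0 for some nonzero integer n; assume P is a Serre class. Let L : A ⥤ D be an additive
functor to a preadditive category exhibiting D as the localization of A at the morphisms whose
kernel and cokernel are in P (so D is the quotient category A_ℚ = A ⧸ A_{b-tor}; the source assumes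
A well-powered, which guarantees that this quotient exists). Then for all objects X, Y of A: (1) for
every nonzero integer n, multiplication by n is bijective on Hom_D(L X, L Y), so that this group is
naturally a ℚ-vector space; (2) a morphism f : X ⟶ Y satisfies L f = 0 if and only if n • f = 0 for
some nonzero integer n; (3) for every g : L X ⟶ L Y there are a nonzero integer n and f : X ⟶ Y with
n • g = L f. Equivalently, the natural map Hom_A(X, Y) ⊗_ℤ ℚ → Hom_D(L X, L Y) is an isomorphism. -/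
theorem result
    {A : Type u} [Category.{v} A] [Abelian A] {D : Type u'} [Category.{v'} D] [Preadditive D]
    (P : ObjectProperty A) (hP : ∀ X : A, P X ↔ ∃ n : ℤ, n ≠ 0 ∧ n • (𝟙 X) = 0) [P.IsSerreClass]
    (L : A ⥤ D) [L.Additive] [L.IsLocalization P.isoModSerre] (X Y : A) :
    (∀ n : ℤ, n ≠ 0 → Function.Bijective (fun g : L.obj X ⟶ L.obj Y => n • g)) ∧
    (∀ f : X ⟶ Y, L.map f = 0 ↔ ∃ n : ℤ, n ≠ 0 ∧ n • f = 0) ∧
    (∀ g : L.obj X ⟶ L.obj Y, ∃ (n : ℤ) (f : X ⟶ Y), n ≠ 0 ∧ n • g = L.map f) := by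
  have hW : ∀ (n : ℤ), n ≠ 0 → ∀ Z : A, IsIso (n • 𝟙 (L.obj Z)) := by
    intro n hn Z
    have h := Localization.inverts L P.isoModSerre _ (isoModSerre_zsmul_id P hP n hn Z)
    rwa [L.map_zsmul, L.map_id] at h
  refine ⟨?_, ?_, ?_⟩
  · intro n hn
    haveI := hW n hn Y
    have key : ∀ g : L.obj X ⟶ L.obj Y, n • g = g ≫ (n • 𝟙 (L.obj Y)) := by
      intro g; rw [Preadditive.comp_zsmul, Category.comp_id]
    constructor
    · intro g₁ g₂ h
      change n • g₁ = n • g₂ at h
      rw [key, key] at h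
      exact (cancel_mono _).1 h
    · intro h
      refine ⟨h ≫ inv (n • 𝟙 (L.obj Y)), ?_⟩
      change n • (h ≫ inv (n • 𝟙 (L.obj Y))) = h
      rw [key, Category.assoc, IsIso.inv_hom_id, Category.comp_id]
  · intro f
    rw [ObjectProperty.SerreClassLocalization.map_eq_zero_iff L P f, hP]
    have hfac : ∀ n : ℤ, Abelian.factorThruImage f ≫ (n • 𝟙 (Abelian.image f)) ≫
        Abelian.image.ι f = n • f := by
      intro n
      rw [Preadditive.zsmul_comp, Category.id_comp, Preadditive.comp_zsmul, Abelian.image.fac]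
    constructor
    · rintro ⟨n, hn, h⟩
      refine ⟨n, hn, ?_⟩
      rw [← hfac n, h, Limits.zero_comp, Limits.comp_zero]
    · rintro ⟨n, hn, h⟩
      refine ⟨n, hn, ?_⟩
      have h3 := hfac n
      rw [h] at h3
      rw [← cancel_epi (Abelian.factorThruImage f), ← cancel_mono (Abelian.image.ι f),
        Category.assoc, h3, Limits.comp_zero, Limits.zero_comp]
  · intro g
    obtain ⟨φ, hφ⟩ := Localization.exists_rightFraction L P.isoModSerre g
    obtain ⟨n, t, hn, ht⟩ := exists_section_of_isoModSerre P hP φ.s φ.hs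
    refine ⟨n, t ≫ φ.f, hn, ?_⟩
    haveI : IsIso (L.map φ.s) := Localization.inverts L P.isoModSerre _ φ.hs
    have h1 : L.map t ≫ L.map φ.s = n • 𝟙 (L.obj X) := by
      rw [← L.map_comp, ht, L.map_zsmul, L.map_id]
    have h2 : L.map t = n • inv (L.map φ.s) := by
      rw [← cancel_mono (L.map φ.s), h1, Preadditive.zsmul_comp, IsIso.inv_hom_id]
    rw [hφ, L.map_comp, h2, Preadditive.zsmul_comp]
    rfl

end Groth.Agent.S19244
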