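import Groth.Statements.S19253
import Mathlib
import Groth.Agent.S0476
import Groth.Agent.S16463
import Groth.Agent.H6.HomologyCoprod
import Groth.Agent.H6.QCoprod
import Groth.Agent.H6.RFAdditive
import Groth.Agent.H6.LerayBdd
import Groth.Agent.H31.StupidTower

set_option autoImplicit false
universe w w' v u
open CategoryTheory CategoryTheory.Limits
open CohDer

namespace Groth.Agent.S19253

open DerivedCategory Groth.Agent.H31 Groth.Agent.H33 Groth.Agent.H6

universe u' v'

section Tel

lemma isIso_homologyMap_of_isIso_f {D : Type*} [Category D] [Abelian D]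
    {K L : CochainComplex D ℤ} (φ : K ⟶ L) (p : ℤ)
    (h1 : IsIso (φ.f (p - 1))) (h2 : IsIso (φ.f p)) (h3 : IsIso (φ.f (p + 1))) :
    IsIso (HomologicalComplex.homologyMap φ p) := by
  have e1 : (ComplexShape.up ℤ).prev p = p - 1 := CochainComplex.prev ℤ p
  have e3 : (ComplexShape.up ℤ).next p = p + 1 := CochainComplex.next ℤ p
  have i1 : IsIso (φ.f ((ComplexShape.up ℤ).prev p)) := by rw [e1]; exact h1
  have i3 : IsIso (φ.f ((ComplexShape.up ℤ).next p)) := by rw [e3]; exact h3
  have i1' : IsIso ((HomologicalComplex.shortComplexFunctor D (ComplexShape.up ℤ) p).map φ).τ₁ := i1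
  have i2' : IsIso ((HomologicalComplex.shortComplexFunctor D (ComplexShape.up ℤ) p).map φ).τ₂ := h2
  have i3' : IsIso ((HomologicalComplex.shortComplexFunctor D (ComplexShape.up ℤ) p).map φ).τ₃ := i3
  have : IsIso ((HomologicalComplex.shortComplexFunctor D (ComplexShape.up ℤ) p).map φ) :=
    ShortComplex.isIso_of_isIso _
  exact inferInstanceAs (IsIso (ShortComplex.homologyMap
    ((HomologicalComplex.shortComplexFunctor D (ComplexShape.up ℤ) p).map φ)))

section Abstract

variable {𝒦 𝒟 ℋ : Type*} [Category 𝒦] [Category 𝒟] [Category ℋ] (L : 𝒦 ⥤ 𝒟) (X' : 𝒦 ⥤ ℋ)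
  (R : 𝒟 ⥤ ℋ) (β : X' ⟶ L ⋙ R) (e : ℕ → 𝒦) (t : ∀ k, e k ⟶ e (k + 1)) (c : 𝒦)
  (jj : ∀ k, e k ⟶ c) (htj : ∀ k, t k ≫ jj (k + 1) = jj k) (hβ : ∀ k, IsIso (β.app (e k)))

/-- the compatible family `RF(e k) ≅ X'(e k) ⟶ X'(c)` -/
noncomputable def phi (k : ℕ) : R.obj (L.obj (e k)) ⟶ X'.obj c :=
  @inv _ _ _ _ (β.app (e k)) (hβ k) ≫ X'.map (jj k)

include htj in
lemma phi_comp (k : ℕ) :
    R.map (L.map (t k)) ≫ phi L X' R β e c jj hβ (k + 1) = phi L X' R β e c jj hβ k := by
  have := hβ
  unfold phi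
  have nat := β.naturality (t k)
  have e1 : R.map (L.map (t k)) ≫ inv (β.app (e (k + 1))) =
      inv (β.app (e k)) ≫ X'.map (t k) := by
    rw [IsIso.comp_inv_eq, Category.assoc, IsIso.eq_inv_comp]
    exact nat.symm
  rw [← Category.assoc, e1, Category.assoc, ← X'.map_comp, htj]

lemma map_jj_eq (k : ℕ) : X'.map (jj k) = β.app (e k) ≫ phi L X' R β e c jj hβ k := by
  have := hβ
  unfold phi
  rw [IsIso.hom_inv_id_assoc]

end Abstract

variable {A : Type u} [Category.{v} A] [Abelian A] [IsGrothendieckAbelian.{v} A]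
  [HasDerivedCategory.{w} A]
  {B : Type u'} [Category.{v'} B] [Abelian B] [HasDerivedCategory.{w'} B]
  (F : A ⥤ B) [F.Additive]

omit [HasDerivedCategory.{w} A] [HasDerivedCategory.{w'} B] in
lemma tower_FAcyc (Δ : RDer.DerivedLES F) (C : CochainComplex A ℤ)
    (hC : ∀ m, UnbDer.FAcyc F (C.X m)) (b : ℤ) (k : ℕ) (m : ℤ) :
    UnbDer.FAcyc F (((Tower.tower C b).obj k).X m) := by
  have h1 := UnbDer.FAcyc_h1 F
  have h2 := UnbDer.FAcyc_h2 F Δ
  by_cases h : Tower.Pm b k m
  · exact UnbRes.P_of_iso (UnbDer.FAcyc F) h1 h2 (Tower.towerXIso C b k m h).symm (hC m)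
  · exact UnbRes.P_of_isZero (UnbDer.FAcyc F) h1 h2 (Tower.isZero_tower_X C b k m h)

omit [IsGrothendieckAbelian.{v} A] [HasDerivedCategory.{w} A] in
lemma tower_isStrictlyGE (C : CochainComplex A ℤ) (b : ℤ) (k : ℕ) :
    ((Tower.tower C b).obj k).IsStrictlyGE (b - k) := by
  rw [CochainComplex.isStrictlyGE_iff]
  intro i hi
  exact Tower.isZero_tower_X C b k i (by unfold Tower.Pm; omega)

omit [IsGrothendieckAbelian.{v} A] [HasDerivedCategory.{w} A] in
lemma tower_homology_isZero (C : CochainComplex A ℤ) (hC : C.Acyclic) (b : ℤ) (k : ℕ) (p : ℤ)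
    (hp : p ≠ b - k) : IsZero (((Tower.tower C b).obj k).homology p) := by
  by_cases h : p < b - k
  · rw [← HomologicalComplex.exactAt_iff_isZero_homology]
    exact ShortComplex.exact_of_isZero_X₂ _
      (Tower.isZero_tower_X C b k p (by unfold Tower.Pm; omega))
  · let jk : (Tower.tower C b).obj k ⟶ C := (Tower.towerCocone C b).ι.app k
    have i0 : ∀ i, b - k ≤ i → IsIso (jk.f i) := fun i hi =>
      Tower.isIso_ι C (show Tower.Pm b k i from hi)
    have hiso : IsIso (HomologicalComplex.homologyMap jk p) :=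
      isIso_homologyMap_of_isIso_f jk p (i0 _ (by omega)) (i0 _ (by omega)) (i0 _ (by omega))
    exact IsZero.of_iso ((hC p).isZero_homology) (asIso (HomologicalComplex.homologyMap jk p))

variable [PreservesFiniteLimits F]
  (RF : DerivedCategory A ⥤ DerivedCategory B)
  (β : F.mapHomotopyCategory (ComplexShape.up ℤ) ⋙ DerivedCategory.Qh ⟶ DerivedCategory.Qh ⋙ RF)
  [RF.IsRightDerivedFunctor β (HomotopyCategory.quasiIso A (ComplexShape.up ℤ))]
  [PreservesColimitsOfShape (Discrete ℕ) RF]

include β in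
/-- The telescope argument: `F` preserves acyclicity of complexes with `F`-acyclic terms as soon as
`RF` commutes with countable coproducts. -/
theorem exactAt_map_of_acyclic (C : CochainComplex A ℤ) (hC : C.Acyclic)
    (hP : ∀ m, UnbDer.FAcyc F (C.X m)) (q : ℤ) :
    ((F.mapHomologicalComplex (ComplexShape.up ℤ)).obj C).ExactAt q := by
  obtain ⟨Δ⟩ := Groth.Agent.S16463.result F
  obtain ⟨b, hb⟩ : ∃ b : ℤ, b = q - 1 := ⟨_, rfl⟩
  let Φ := Tower.tower C b
  let E : ℕ → CochainComplex A ℤ := fun k => Φ.obj k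
  let t : ∀ k : ℕ, E k ⟶ E (k + 1) := fun k => Φ.map (homOfLE (Nat.le_succ k))
  let jj : ∀ k : ℕ, E k ⟶ C := fun k => (Tower.towerCocone C b).ι.app k
  have htj : ∀ k, t k ≫ jj (k + 1) = jj k := fun k =>
    (Tower.towerCocone C b).w (homOfLE (Nat.le_succ k))
  -- the coproduct in `C(A)`
  let c : Cofan E := Cofan.mk (∐ E) (Sigma.ι E)
  have hc : IsColimit c := coproductIsCoproduct E
  let s : c.pt ⟶ c.pt := Sigma.desc (fun k => t k ≫ Sigma.ι E (k + 1))
  have hs : ∀ k, c.inj k ≫ s = t k ≫ c.inj (k + 1) := fun k => Sigma.ι_desc _ _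
  let u : c.pt ⟶ c.pt := 𝟙 _ - s
  -- `u` is a quasi-isomorphism
  have hHs : ∀ p, HomologicalComplex.homologyMap s p = 0 := by
    intro p
    apply HomologyCoprod.homologyMap_eq_zero_of_comp (Discrete.functor E) c hc p
    rintro ⟨k⟩
    show HomologicalComplex.homologyMap (c.inj k) p ≫ HomologicalComplex.homologyMap s p = 0
    rw [← HomologicalComplex.homologyMap_comp, hs, HomologicalComplex.homologyMap_comp]
    have : HomologicalComplex.homologyMap (t k) p = 0 := by
      by_cases hp : p = b - k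
      · apply IsZero.eq_of_tgt
        exact tower_homology_isZero C hC b (k + 1) p (by push_cast; omega)
      · apply IsZero.eq_of_src
        exact tower_homology_isZero C hC b k p hp
    rw [this, zero_comp]
  have hu : QuasiIso u := by
    rw [quasiIso_iff]
    intro p
    rw [quasiIsoAt_iff_isIso_homologyMap]
    have e1 : HomologicalComplex.homologyMap u p = 𝟙 _ := by
      show HomologicalComplex.homologyMap (𝟙 _ - s) p = 𝟙 _
      rw [HomologicalComplex.homologyMap_sub, hHs, sub_zero, HomologicalComplex.homologyMap_id]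
    rw [e1]
    infer_instance
  -- the coproduct in `D(A)`
  let cQ : Cofan (fun k => Q.obj (E k)) := Cofan.mk (Q.obj c.pt) (fun k => Q.map (c.inj k))
  have hcQ : IsColimit cQ := QCoprod.isColimitQCofan c hc
  have hRF : IsColimit (RF.mapCocone cQ) := isColimitOfPreserves RF hcQ
  -- the unit on the truncations
  have hβ : ∀ k, IsIso (β.app ((HomotopyCategory.quotient A (ComplexShape.up ℤ)).obj (E k))) :=
    fun k =>
      haveI := tower_isStrictlyGE C b k
      LerayBdd.isIso_unit_of_isStrictlyGE F RF β (E k) (b - k) (tower_FAcyc F Δ C hP b k)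
  -- the compatible family
  let X' := F.mapHomotopyCategory (ComplexShape.up ℤ) ⋙ Qh
  let eo : ℕ → HomotopyCategory A (ComplexShape.up ℤ) := fun k =>
    (HomotopyCategory.quotient A (ComplexShape.up ℤ)).obj (E k)
  let tq : ∀ k, eo k ⟶ eo (k + 1) := fun k =>
    (HomotopyCategory.quotient A (ComplexShape.up ℤ)).map (t k)
  let jq : ∀ k, eo k ⟶ (HomotopyCategory.quotient A (ComplexShape.up ℤ)).obj C := fun k =>
    (HomotopyCategory.quotient A (ComplexShape.up ℤ)).map (jj k)
  have htq : ∀ k, tq k ≫ jq (k + 1) = jq k := fun k => by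
    show (HomotopyCategory.quotient A (ComplexShape.up ℤ)).map (t k) ≫
      (HomotopyCategory.quotient A (ComplexShape.up ℤ)).map (jj (k + 1)) = _
    rw [← Functor.map_comp, htj]
  let Y : DerivedCategory B := X'.obj ((HomotopyCategory.quotient A (ComplexShape.up ℤ)).obj C)
  let φ : ∀ k, RF.obj (Q.obj (E k)) ⟶ Y := fun k => phi Qh X' RF β eo _ jq hβ k
  have hφ : ∀ k, RF.map (Q.map (t k)) ≫ φ (k + 1) = φ k := fun k =>
    phi_comp Qh X' RF β eo tq _ jq htq hβ k
  let sφ : Cocone (Discrete.functor (fun k => Q.obj (E k)) ⋙ RF) :=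
    Cocone.mk Y (Discrete.natTrans (fun k => φ k.as))
  let Ψ : RF.obj (Q.obj c.pt) ⟶ Y := hRF.desc sφ
  have hΨ : ∀ k, RF.map (Q.map (c.inj k)) ≫ Ψ = φ k := fun k => hRF.fac sφ ⟨k⟩
  have hadd : RF.Additive := RFAdditive.additive _ RF β
  have hzero : RF.map (Q.map u) ≫ Ψ = 0 := by
    apply hRF.hom_ext
    rintro ⟨k⟩
    show RF.map (Q.map (c.inj k)) ≫ RF.map (Q.map u) ≫ Ψ = RF.map (Q.map (c.inj k)) ≫ 0
    rw [comp_zero, ← Category.assoc, ← Functor.map_comp, ← Functor.map_comp]
    have : c.inj k ≫ u = c.inj k - t k ≫ c.inj (k + 1) := by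
      show c.inj k ≫ (𝟙 _ - s) = _
      rw [Preadditive.comp_sub, Category.comp_id, hs]
    rw [this, Functor.map_sub, Functor.map_sub, Preadditive.sub_comp, Functor.map_comp,
      Functor.map_comp, Category.assoc, hΨ, hΨ, hφ, sub_self]
  have hΨ0 : Ψ = 0 := by
    have : IsIso (Q.map u) := inferInstance
    have : IsIso (RF.map (Q.map u)) := inferInstance
    rw [← cancel_epi (RF.map (Q.map u)), hzero, comp_zero]
  have hφ0 : φ 0 = 0 := by rw [← hΨ 0, hΨ0, comp_zero]
  have hj0 : X'.map ((HomotopyCategory.quotient A (ComplexShape.up ℤ)).map (jj 0)) = 0 := by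
    have e := map_jj_eq Qh X' RF β eo _ jq hβ 0
    have e' : phi Qh X' RF β eo _ jq hβ 0 = 0 := hφ0
    rw [e'] at e
    exact e.trans comp_zero
  have hQ : Q.map ((F.mapHomologicalComplex (ComplexShape.up ℤ)).map (jj 0)) = 0 := hj0
  have hH : HomologicalComplex.homologyMap
      ((F.mapHomologicalComplex (ComplexShape.up ℤ)).map (jj 0)) q = 0 := by
    have n := (DerivedCategory.homologyFunctorFactors B q).hom.naturality
      ((F.mapHomologicalComplex (ComplexShape.up ℤ)).map (jj 0))
    rw [Functor.comp_map, hQ, Functor.map_zero, zero_comp] at n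
    exact (cancel_epi ((DerivedCategory.homologyFunctorFactors B q).hom.app _)).1
      (n.symm.trans comp_zero.symm)
  have hiso : IsIso (HomologicalComplex.homologyMap
      ((F.mapHomologicalComplex (ComplexShape.up ℤ)).map (jj 0)) q) := by
    have i0 : ∀ i, b ≤ i →
        IsIso (((F.mapHomologicalComplex (ComplexShape.up ℤ)).map (jj 0)).f i) := by
      intro i hi
      have : IsIso ((jj 0).f i) :=
        Tower.isIso_ι C (show Tower.Pm b 0 i by unfold Tower.Pm; push_cast; omega)
      exact inferInstanceAs (IsIso (F.map ((jj 0).f i)))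
    exact isIso_homologyMap_of_isIso_f _ q (i0 _ (by omega)) (i0 _ (by omega)) (i0 _ (by omega))
  rw [HomologicalComplex.exactAt_iff_isZero_homology, IsZero.iff_id_eq_zero]
  have h2 := (IsIso.inv_hom_id (HomologicalComplex.homologyMap
    ((F.mapHomologicalComplex (ComplexShape.up ℤ)).map (jj 0)) q)).symm
  exact h2.trans ((congrArg (fun x => inv (HomologicalComplex.homologyMap
    ((F.mapHomologicalComplex (ComplexShape.up ℤ)).map (jj 0)) q) ≫ x) hH).trans comp_zero)

end Tel


/-- (iii) ⇒ (iv): let A be a Grothendieck abelian category and F : A ⥤ Ab an additive left exact functor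
such that every right derived functor RⁿF, n ≥ 0, preserves small filtered colimits; let RF : D(A) ⥤
D(Ab) be the total right derived functor of F on unbounded derived categories (its existence is an
instance hypothesis). If RF preserves countable direct sums (countable direct sums in D(A) being
assumed to exist), then for every cochain complex K all of whose terms are F-acyclic (RⁱF(Kᵐ) = 0
for i > 0 and all m) the canonical map F(K) ⟶ RF(K) is an isomorphism in D(Ab). -/
theorem result
    {A : Type u} [Category.{v} A] [Abelian A] [IsGrothendieckAbelian.{v} A] [HasDerivedCategory.{w} A]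
    [HasDerivedCategory.{w'} AddCommGrpCat.{v}]
    (F : A ⥤ AddCommGrpCat.{v}) [F.Additive] [PreservesFiniteLimits F]
    (hcolim : ∀ (n : ℕ) (J : Type v) [SmallCategory J] [IsFiltered J], PreservesColimitsOfShape J (F.rightDerived n))
    [(F.mapHomotopyCategory (ComplexShape.up ℤ) ⋙ DerivedCategory.Qh).HasRightDerivedFunctor
      (HomotopyCategory.quasiIso A (ComplexShape.up ℤ))]
    [HasColimitsOfShape (Discrete ℕ) (DerivedCategory A)]
    [PreservesColimitsOfShape (Discrete ℕ) ((F.mapHomotopyCategory (ComplexShape.up ℤ) ⋙ DerivedCategory.Qh).totalRightDerived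
      DerivedCategory.Qh (HomotopyCategory.quasiIso A (ComplexShape.up ℤ)))]
    (K : CochainComplex A ℤ) (hK : ∀ (m : ℤ) (i : ℕ), 0 < i → IsZero ((F.rightDerived i).obj (K.X m))) :
    IsIso (((F.mapHomotopyCategory (ComplexShape.up ℤ) ⋙ DerivedCategory.Qh).totalRightDerivedUnit DerivedCategory.Qh
      (HomotopyCategory.quasiIso A (ComplexShape.up ℤ))).app ((HomotopyCategory.quotient A (ComplexShape.up ℤ)).obj K)) := by
  obtain ⟨Δ⟩ := Groth.Agent.S16463.result F
  have h1 := UnbDer.FAcyc_h1 F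
  have h2 := UnbDer.FAcyc_h2 F Δ
  obtain ⟨I, f, hI, hf, -, hinj⟩ := Groth.Agent.S0476.result K
  have := hI
  have := hf
  have := hinj
  have hcP : ∀ m, UnbDer.FAcyc F ((CochainComplex.mappingCone f).X m) := fun m =>
    UnbRes.P_of_iso (UnbDer.FAcyc F) h1 h2
      (HomologicalComplex.homotopyCofiber.XIsoBiprod f m (m + 1) rfl).symm
      (UnbRes.P_biprod (UnbDer.FAcyc F) h2 (hK (m + 1)) (LerayBdd.FAcyc_of_injective F (I.X m)))
  have hcA : (CochainComplex.mappingCone f).Acyclic := LerayBdd.acyclic_mappingCone_of_quasiIso f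
  have hFc : ((F.mapHomologicalComplex (ComplexShape.up ℤ)).obj
      (CochainComplex.mappingCone f)).Acyclic := fun q =>
    exactAt_map_of_acyclic F
      ((F.mapHomotopyCategory (ComplexShape.up ℤ) ⋙ DerivedCategory.Qh).totalRightDerived
        DerivedCategory.Qh (HomotopyCategory.quasiIso A (ComplexShape.up ℤ)))
      ((F.mapHomotopyCategory (ComplexShape.up ℤ) ⋙ DerivedCategory.Qh).totalRightDerivedUnit
        DerivedCategory.Qh (HomotopyCategory.quasiIso A (ComplexShape.up ℤ)))
      (CochainComplex.mappingCone f) hcA hcP q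
  exact LerayBdd.isIso_unit_of_acyclic_cone F
    ((F.mapHomotopyCategory (ComplexShape.up ℤ) ⋙ DerivedCategory.Qh).totalRightDerived
      DerivedCategory.Qh (HomotopyCategory.quasiIso A (ComplexShape.up ℤ)))
    ((F.mapHomotopyCategory (ComplexShape.up ℤ) ⋙ DerivedCategory.Qh).totalRightDerivedUnit
      DerivedCategory.Qh (HomotopyCategory.quasiIso A (ComplexShape.up ℤ))) f hFc

end Groth.Agent.S19253
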