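import Groth.Statements.S19258
import Mathlib.Algebra.Module.CharacterModule
import Mathlib.Algebra.Category.Grp.Injective
import Mathlib.Topology.Instances.AddCircle.Defs
import Mathlib.Topology.Order
import Mathlib.GroupTheory.QuotientGroup.Basic
import Mathlib.Tactic.FieldSimp
import Mathlib.Tactic.Linarith

set_option autoImplicit false
universe u
open PontDual

namespace Groth.Agent.S19258

/-- `m`-torsion elements of `ℚ/ℤ` are integer multiples of `1/m`. -/
lemma torsion_eq_zsmul (m : ℕ) (hm : 0 < m) (y : AddCircle (1 : ℚ)) (hy : m • y = 0) :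
    ∃ k : ℤ, y = k • ((((1 : ℚ) / m : ℚ)) : AddCircle (1 : ℚ)) := by
  obtain ⟨q, rfl⟩ := QuotientAddGroup.mk_surjective y
  have h1 : ((m • q : ℚ) : AddCircle (1 : ℚ)) = 0 := by
    rw [← hy]
    rfl
  rw [AddCircle.coe_eq_zero_iff] at h1
  obtain ⟨k, hk⟩ := h1
  refine ⟨k, ?_⟩
  have hq : q = k • ((1 : ℚ) / m) := by
    have hm' : (m : ℚ) ≠ 0 := by exact_mod_cast hm.ne'
    simp only [zsmul_eq_mul, nsmul_eq_mul, mul_one] at hk ⊢
    field_simp
    linarith
  rw [hq]
  rfl

/-- An endomorphism of `ℚ/ℤ` acts on the `m`-torsion as multiplication by an integer. -/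
lemma exists_zsmul_of_torsion (Θ' : AddCircle (1 : ℚ) →+ AddCircle (1 : ℚ)) (m : ℕ)
    (hm : 0 < m) : ∃ a : ℤ, ∀ y : AddCircle (1 : ℚ), m • y = 0 → Θ' y = a • y := by
  have hme : m • ((((1 : ℚ) / m : ℚ)) : AddCircle (1 : ℚ)) = 0 := by
    rw [← AddCircle.coe_nsmul]
    have h2 : m • ((1 : ℚ) / m) = 1 := by
      have hm' : (m : ℚ) ≠ 0 := by exact_mod_cast hm.ne'
      rw [nsmul_eq_mul]
      field_simp
    rw [h2]
    exact AddCircle.coe_period 1
  have h1 : m • Θ' ((((1 : ℚ) / m : ℚ)) : AddCircle (1 : ℚ)) = 0 := by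
    rw [← map_nsmul, hme, map_zero]
  obtain ⟨a, ha⟩ := torsion_eq_zsmul m hm _ h1
  refine ⟨a, fun y hy => ?_⟩
  obtain ⟨k, hk⟩ := torsion_eq_zsmul m hm y hy
  rw [hk, map_zsmul, ha, smul_comm]

lemma exists_finset (G : Type u) (G' : Type u) [AddCommGroup G] [AddCommGroup G']
    (β : G' →+ (G →+ AddCircle (1 : ℚ))) (χ : G →+ AddCircle (1 : ℚ))
    (hχ : @Continuous G (AddCircle (1 : ℚ))
      (⨅ f' : G', TopologicalSpace.induced (fun x : G => β f' x) ⊥) ⊥ χ) :
    ∃ I : Finset G', ∀ g : G, (∀ i ∈ I, β i g = 0) → χ g = 0 := by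
  letI tG : TopologicalSpace G :=
    ⨅ f' : G', TopologicalSpace.induced (fun x : G => β f' x) ⊥
  have hopen : IsOpen (χ ⁻¹' {0}) :=
    @Continuous.isOpen_preimage G (AddCircle (1 : ℚ)) tG ⊥ χ hχ {0}
      (@isOpen_discrete _ ⊥ (discreteTopology_bot _) {0})
  have hmem : χ ⁻¹' {0} ∈
      @nhds G (⨅ f' : G', TopologicalSpace.induced (fun x : G => β f' x) ⊥) 0 :=
    hopen.mem_nhds (by simp)
  rw [nhds_iInf] at hmem
  simp only [nhds_induced] at hmem
  rw [Filter.mem_iInf] at hmem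
  obtain ⟨I, hI, V, hV, hU⟩ := hmem
  refine ⟨hI.toFinset, fun g hg => ?_⟩
  have hgU : g ∈ χ ⁻¹' {0} := by
    rw [hU]
    refine Set.mem_iInter.mpr fun i => ?_
    have hVi := hV i
    rw [Filter.mem_comap] at hVi
    obtain ⟨t, ht, hts⟩ := hVi
    apply hts
    have h0 : (β i) g = (β i) 0 := by rw [hg i (hI.mem_toFinset.mpr i.2), map_zero]
    show (β i) g ∈ t
    rw [h0]
    exact @mem_of_mem_nhds _ ⊥ _ _ ht
  simpa using hgU

/-- Let G and G' be abelian groups such that every element of G' has finite order, and let β : G' →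
Hom(G, ℚ/ℤ) be an injective homomorphism (equivalently a pairing G' × G → ℚ/ℤ with no left kernel).
Endow G with the weak topology defined by G': the coarsest topology for which every character β(f),
f ∈ G', is continuous when ℚ/ℤ carries the discrete topology. Then every homomorphism χ : G → ℚ/ℤ
that is continuous for this topology on G and the discrete topology on ℚ/ℤ equals β(f) for some f ∈
G', so that β is a bijection from G' onto the group of continuous characters of G. -/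
theorem result
    (G : Type u) (G' : Type u) [AddCommGroup G] [AddCommGroup G'] (hG' : IsAddTorsion G')
    (β : G' →+ (G →+ AddCircle (1 : ℚ))) (hβ : Function.Injective β)
    (χ : G →+ AddCircle (1 : ℚ))
    (hχ : @Continuous G (AddCircle (1 : ℚ)) (⨅ f' : G', TopologicalSpace.induced (fun x : G => β f' x) ⊥) ⊥ χ) :
    ∃ f' : G', β f' = χ := by
  classical
  have _hβ := hβ
  obtain ⟨I, hI⟩ := exists_finset G G' β χ hχ
  let Φ : G →+ (I → AddCircle (1 : ℚ)) := AddMonoidHom.pi (fun i : I => β i.1)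
  have hker : Φ.ker ≤ χ.ker := by
    intro g hg
    rw [AddMonoidHom.mem_ker] at hg ⊢
    apply hI
    intro i hi
    exact congrFun hg ⟨i, hi⟩
  let c : G ⧸ Φ.ker →+ AddCircle (1 : ℚ) := QuotientAddGroup.lift Φ.ker χ hker
  let ι : G ⧸ Φ.ker →+ (I → AddCircle (1 : ℚ)) := QuotientAddGroup.kerLift Φ
  have hι : Function.Injective ι := QuotientAddGroup.kerLift_injective Φ
  obtain ⟨Θ, hΘ⟩ :=
    (Module.Baer.of_divisible (AddCircle (1 : ℚ))).extension_property_addMonoidHom ι hι c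
  have hΘ' : ∀ g, Θ (Φ g) = χ g := fun g => by
    have h2 := DFunLike.congr_fun hΘ (g : G ⧸ Φ.ker)
    simpa [ι, c] using h2
  have hord : ∀ i : I, ∃ m : ℕ, 0 < m ∧ ∀ g, m • (β i.1 g) = 0 := by
    intro i
    obtain ⟨m, hm, hmi⟩ := isOfFinAddOrder_iff_nsmul_eq_zero.mp (hG' i.1)
    refine ⟨m, hm, fun g => ?_⟩
    rw [← AddMonoidHom.nsmul_apply, ← map_nsmul, hmi, map_zero, AddMonoidHom.zero_apply]
  have hint : ∀ i : I, ∃ a : ℤ, ∀ g, Θ (Pi.single i (β i.1 g)) = a • (β i.1 g) := by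
    intro i
    obtain ⟨m, hm, hmg⟩ := hord i
    obtain ⟨a, ha⟩ := exists_zsmul_of_torsion
      (Θ.comp (AddMonoidHom.single (fun _ : I => AddCircle (1 : ℚ)) i)) m hm
    exact ⟨a, fun g => ha _ (hmg g)⟩
  choose a ha using hint
  refine ⟨∑ i : I, a i • i.1, ?_⟩
  ext g
  rw [map_sum, AddMonoidHom.finsetSum_apply, ← hΘ' g]
  have hΦ : Φ g = ∑ i : I, Pi.single i (β i.1 g) := by
    rw [Finset.univ_sum_single]
    rfl
  rw [hΦ, map_sum]
  refine Finset.sum_congr rfl fun i _ => ?_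
  rw [ha i g, map_zsmul]
  rfl

end Groth.Agent.S19258
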