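import Groth.Statements.S19263
import Groth.Agent.H96.WittFilBridge

set_option autoImplicit false
universe u
open WittFil

namespace Groth.Agent.S19263

open Groth.Agent.H96

theorem result (p : ℕ) [Fact p.Prime] {A B : Type u} [CommRing A] [IsDomain A]
    [UniqueFactorizationMonoid A] [CharP A p] [CommRing B] [Algebra A B] {r : ℕ} (x : Fin r → A)
    (hx : ∀ i, Prime (x i)) (hxa : ∀ i j, Associated (x i) (x j) → i = j)
    [IsLocalization.Away (∏ i, x i) B] (u : Fin r → Bˣ)
    (hu : ∀ i, (u i : B) = algebraMap A B (x i)) (n : Fin r → ℤ) (m : ℕ)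
    (a b : TruncatedWittVector p m B) (ha : a ∈ WittFil.fil p m (A := A) (WittFil.zmon u n))
    (hb : b ∈ WittFil.fil p m (A := A) (WittFil.zmon u n)) :
    a - b ∈ WittFil.fil p m (A := A) (WittFil.zmon u n) := by
  have hπ : ∏ i, x i ≠ 0 := prod_ne_zero_of_prime x hx
  haveI : IsDomain B := isDomain_of_away (∏ i, x i) hπ
  rw [fil_eq_filInt (∏ i, x i) hπ] at ha hb ⊢
  exact sub_mem_filInt m _ a b ha hb

end Groth.Agent.S19263
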