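import Groth.Statements.S19264
import Groth.Agent.H96.Zmon

set_option autoImplicit false
universe u
open WittFil

namespace Groth.Agent.S19264

open Groth.Agent.H96

theorem core (p : ℕ) [Fact p.Prime] {A B : Type u} [CommRing A] [IsDomain A]
    [UniqueFactorizationMonoid A] [CommRing B] [Algebra A B] {r : ℕ} (x : Fin r → A)
    (hx : ∀ i, Prime (x i)) (hxa : ∀ i j, Associated (x i) (x j) → i = j)
    [IsLocalization.Away (∏ i, x i) B] (u : Fin r → Bˣ)
    (hu : ∀ i, (u i : B) = algebraMap A B (x i)) (n : Fin r → ℤ) (y : B) (e : ℕ) :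
    y ^ p ^ (e + 1) * WittFil.zmon u n ∈ (algebraMap A B).range ↔
      y ^ p ^ e * WittFil.zmon u (fun i => n i / (p : ℤ)) ∈ (algebraMap A B).range := by
  have hpp : p.Prime := Fact.out
  have hp : p ≠ 0 := hpp.ne_zero
  have hp0 : (0 : ℤ) < p := by exact_mod_cast hpp.pos
  have hπ : ∏ i, x i ≠ 0 := prod_ne_zero_of_prime x hx
  have hinj := algebraMap_injective_of_away (B := B) (∏ i, x i) hπ
  -- remainders
  set rr : Fin r → ℕ := fun i => (n i % (p : ℤ)).toNat with hrr
  have hrr_lt : ∀ i, rr i < p := by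
    intro i
    have h1 := Int.emod_nonneg (n i) (ne_of_gt hp0)
    have h2 := Int.emod_lt_of_pos (n i) hp0
    simp only [hrr]
    omega
  have hn : n = fun i => (p : ℤ) * (n i / (p : ℤ)) + ((rr i : ℕ) : ℤ) := by
    funext i
    have h1 := Int.emod_nonneg (n i) (ne_of_gt hp0)
    have h3 := Int.mul_ediv_add_emod (n i) (p : ℤ)
    simp only [hrr]
    rw [Int.toNat_of_nonneg h1]
    omega
  -- c = c' ^ p * mon(rr)
  have hc : WittFil.zmon u n =
      WittFil.zmon u (fun i => n i / (p : ℤ)) ^ p * algebraMap A B (∏ i, x i ^ rr i) := by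
    conv_lhs => rw [hn]
    rw [zmon_add', zmon_pow, zmon_natCast x u hu rr]
  set c' := WittFil.zmon u (fun i => n i / (p : ℤ)) with hc'
  have hz : y ^ p ^ (e + 1) * WittFil.zmon u n =
      (y ^ p ^ e * c') ^ p * algebraMap A B (∏ i, x i ^ rr i) := by
    rw [hc, mul_pow, ← pow_mul, ← pow_succ, mul_assoc]
  rw [hz]
  constructor
  · rintro ⟨w, hw⟩
    set z := y ^ p ^ e * c' with hzdef
    -- t = z * π
    have ht : (z * algebraMap A B (∏ i, x i)) ^ p =
        algebraMap A B (w * ∏ i, x i ^ (p - rr i)) := by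
      rw [map_mul, hw, mul_pow, mul_assoc]
      congr 1
      rw [← map_pow, ← map_mul]
      congr 1
      rw [← Finset.prod_pow, ← Finset.prod_mul_distrib]
      refine Finset.prod_congr rfl fun i _ => ?_
      rw [← pow_add]
      congr 1
      have := hrr_lt i
      omega
    obtain ⟨t', ht'⟩ := mem_range_of_pow_mem_range (∏ i, x i) hπ _ p hp ⟨_, ht.symm⟩
    have h2 : t' ^ p = w * ∏ i, x i ^ (p - rr i) := by
      apply hinj
      rw [map_pow, ht', ht]
    have h3 : ∀ i, x i ∣ t' := by
      intro i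
      apply (hx i).dvd_of_dvd_pow (n := p)
      rw [h2]
      apply Dvd.dvd.mul_left
      exact (dvd_pow_self (x i) (by have := hrr_lt i; omega)).trans
        (Finset.dvd_prod_of_mem (fun i => x i ^ (p - rr i)) (Finset.mem_univ i))
    obtain ⟨z', hz'⟩ := prod_univ_dvd_of_forall_dvd x hx hxa t' h3
    refine ⟨z', ?_⟩
    have hu' : IsUnit (algebraMap A B (∏ i, x i)) := IsLocalization.Away.algebraMap_isUnit _
    apply hu'.mul_left_injective
    simp only
    rw [← ht', hz', map_mul, mul_comm]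
  · rintro ⟨w, hw⟩
    exact ⟨w ^ p * ∏ i, x i ^ rr i, by rw [map_mul, map_pow, hw]⟩

theorem result (p : ℕ) [Fact p.Prime] {A B : Type u} [CommRing A] [IsDomain A]
    [UniqueFactorizationMonoid A] [CharP A p] [CommRing B] [Algebra A B] {r : ℕ} (x : Fin r → A)
    (hx : ∀ i, Prime (x i)) (hxa : ∀ i j, Associated (x i) (x j) → i = j)
    [IsLocalization.Away (∏ i, x i) B] (u : Fin r → Bˣ)
    (hu : ∀ i, (u i : B) = algebraMap A B (x i)) (n : Fin r → ℤ) (m : ℕ) :
    (TruncatedWittVector.truncate (Nat.le_succ m)) '' WittFil.fil p (m + 1) (A := A) (WittFil.zmon u n) =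
      WittFil.fil p m (A := A) (WittFil.zmon u (fun i => n i / (p : ℤ))) := by
  ext b
  constructor
  · rintro ⟨a, ha, rfl⟩ j
    rw [TruncatedWittVector.coeff_truncate]
    have h := ha (Fin.castLE (Nat.le_succ m) j)
    simp only [Fin.val_castLE] at h
    have e : m + 1 - 1 - (j : ℕ) = (m - 1 - (j : ℕ)) + 1 := by have := j.2; omega
    rw [e] at h
    exact (core p x hx hxa u hu n _ _).mp h
  · intro hb
    refine ⟨TruncatedWittVector.mk p (fun i : Fin (m + 1) =>
      if h : (i : ℕ) < m then TruncatedWittVector.coeff ⟨i, h⟩ b else 0), ?_, ?_⟩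
    · intro j
      rw [TruncatedWittVector.coeff_mk]
      by_cases h : (j : ℕ) < m
      · rw [dif_pos h]
        have e : m + 1 - 1 - (j : ℕ) = (m - 1 - (j : ℕ)) + 1 := by omega
        rw [e]
        exact (core p x hx hxa u hu n _ _).mpr (hb ⟨j, h⟩)
      · rw [dif_neg h]
        have hp : p ≠ 0 := (Fact.out : p.Prime).ne_zero
        rw [zero_pow (pow_ne_zero _ hp), zero_mul]
        exact Subring.zero_mem _
    · apply TruncatedWittVector.ext
      intro i
      rw [TruncatedWittVector.coeff_truncate, TruncatedWittVector.coeff_mk]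
      simp only [Fin.val_castLE]
      rw [dif_pos i.2]

end Groth.Agent.S19264
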