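import Groth.Statements.S19266
import Groth.Agent.H96.WittTeich
import Groth.Agent.H96.LocUFD

set_option autoImplicit false
universe u
open WittFil

namespace Groth.Agent.S19266

open Groth.Agent.H96

theorem result (p : ℕ) [Fact p.Prime] {A B : Type u} [CommRing A] [IsDomain A]
    [UniqueFactorizationMonoid A] [CharP A p] [CommRing B] [Algebra A B] {r : ℕ} (x : Fin r → A)
    (hx : ∀ i, Prime (x i)) (hxa : ∀ i j, Associated (x i) (x j) → i = j)
    [IsLocalization.Away (∏ i, x i) B] (u : Fin r → Bˣ)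
    (hu : ∀ i, (u i : B) = algebraMap A B (x i)) (n : Fin r → ℤ) (m : ℕ)
    (a : TruncatedWittVector p m B) :
    a ∈ WittFil.fil p m (A := A) ((WittFil.zmon u n) ^ (p ^ (m - 1))) ↔
      ∀ j : Fin m, TruncatedWittVector.coeff j
          (a * WittVector.truncate m (WittVector.teichmuller p (WittFil.zmon u n))) ∈
        (algebraMap A B).range := by
  have hp : p ≠ 0 := (Fact.out : p.Prime).ne_zero
  have hπ : ∏ i, x i ≠ 0 := prod_ne_zero_of_prime x hx
  have key : ∀ j : Fin m,
      (TruncatedWittVector.coeff j a * (WittFil.zmon u n) ^ p ^ (j : ℕ)) ^ p ^ (m - 1 - (j : ℕ)) =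
        TruncatedWittVector.coeff j a ^ p ^ (m - 1 - (j : ℕ)) * (WittFil.zmon u n) ^ p ^ (m - 1) := by
    intro j
    rw [mul_pow, ← pow_mul, ← pow_add]
    have e : (j : ℕ) + (m - 1 - (j : ℕ)) = m - 1 := by have := j.2; omega
    rw [e]
  constructor
  · intro h j
    rw [truncate_mul_teichmuller_coeff]
    apply mem_range_of_pow_mem_range (∏ i, x i) hπ _ (p ^ (m - 1 - (j : ℕ))) (pow_ne_zero _ hp)
    rw [key j]
    exact h j
  · intro h j
    have h1 := h j
    rw [truncate_mul_teichmuller_coeff] at h1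
    have h2 := Subring.pow_mem _ h1 (p ^ (m - 1 - (j : ℕ)))
    rw [key j] at h2
    exact h2

end Groth.Agent.S19266
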