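import Groth.Statements.S19267
import Groth.Agent.H96.WittTeich

set_option autoImplicit false
universe u
open WittFil

namespace Groth.Agent.S19267

open Groth.Agent.H96

theorem unit_identity (p : ℕ) {B : Type u} [CommRing B] (m : ℕ) (u : Bˣ) (n l : ℤ)
    (j : ℕ) (hj : j < m) :
    (((u ^ l : Bˣ) : B) ^ p ^ j) ^ p ^ (m - 1 - j) * ((u ^ (n - (p : ℤ) ^ (m - 1) * l) : Bˣ) : B)
      = ((u ^ n : Bˣ) : B) := by
  rw [← pow_mul, ← pow_add]
  have e : j + (m - 1 - j) = m - 1 := by omega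
  rw [e, ← Units.val_pow_eq_pow_val, ← Units.val_mul]
  congr 1
  rw [← zpow_natCast, ← zpow_mul, ← zpow_add]
  congr 1
  push_cast
  ring

theorem unit_identity' (p : ℕ) {B : Type u} [CommRing B] (m : ℕ) (u : Bˣ) (n l : ℤ)
    (j : ℕ) (hj : j < m) :
    ((((u ^ l)⁻¹ : Bˣ) : B) ^ p ^ j) ^ p ^ (m - 1 - j) * ((u ^ n : Bˣ) : B)
      = ((u ^ (n - (p : ℤ) ^ (m - 1) * l) : Bˣ) : B) := by
  rw [← pow_mul, ← pow_add]
  have e : j + (m - 1 - j) = m - 1 := by omega
  rw [e, ← Units.val_pow_eq_pow_val, ← Units.val_mul]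
  congr 1
  rw [← zpow_neg, ← zpow_natCast, ← zpow_mul, ← zpow_add]
  congr 1
  push_cast
  ring

theorem result (p : ℕ) [Fact p.Prime] {A B : Type u}
    [CommRing A] [CommRing B] [Algebra A B] (m : ℕ) (u : Bˣ) (n l : ℤ) :
    WittFil.fil p m (A := A) ((u ^ (n - (p : ℤ) ^ (m - 1) * l) : Bˣ) : B) =
      (fun a => WittVector.truncate m (WittVector.teichmuller p ((u ^ l : Bˣ) : B)) * a) ''
        WittFil.fil p m (A := A) ((u ^ n : Bˣ) : B) := by
  ext x
  constructor
  · intro hx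
    refine ⟨WittVector.truncate m (WittVector.teichmuller p (((u ^ l)⁻¹ : Bˣ) : B)) * x, ?_, ?_⟩
    · intro j
      have h := hx j
      rw [truncate_teichmuller_mul_coeff, mul_pow, mul_assoc, mul_comm, mul_assoc,
        mul_comm (((u ^ n : Bˣ) : B)), unit_identity' p m u n l j j.2]
      exact h
    · simp only
      rw [← mul_assoc, ← map_mul, ← map_mul, ← Units.val_mul, mul_inv_cancel, Units.val_one,
        map_one, map_one, one_mul]
  · rintro ⟨a, ha, rfl⟩
    intro j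
    have h := ha j
    simp only
    rw [truncate_teichmuller_mul_coeff, mul_pow, mul_assoc, mul_comm, mul_assoc,
      mul_comm (((u ^ (n - (p : ℤ) ^ (m - 1) * l) : Bˣ) : B)), unit_identity p m u n l j j.2]
    exact h

end Groth.Agent.S19267
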