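import Groth.Statements.S19268
import Groth.Agent.H96.PSeriesLoc
import Groth.Agent.H96.WittFilInt
import Mathlib.RingTheory.WittVector.InitTail
import Mathlib.RingTheory.WittVector.Identities
import Mathlib.RingTheory.WittVector.Domain
import Mathlib.Algebra.Group.Hom.Defs
import Mathlib.Tactic.Abel

set_option autoImplicit false
universe u
open WittFil

namespace Groth.Agent.S19268

open Groth.Agent.H96 WittVector

section gen

variable {p : ℕ} [hp : Fact p.Prime] {A B : Type*} [CommRing A] [CommRing B] [Algebra A B]

theorem truncate_mem_fil_iff (m : ℕ) (e : B) (W : WittVector p B) :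
    WittVector.truncate m W ∈ WittFil.fil p m (A := A) e ↔
      ∀ j, j < m → (W.coeff j) ^ (p ^ (m - 1 - j)) * e ∈ (algebraMap A B).range := by
  constructor
  · intro h j hj
    have := h ⟨j, hj⟩
    rwa [WittVector.coeff_truncate] at this
  · intro h j
    rw [WittVector.coeff_truncate]
    exact h j j.2

theorem vst_coeff (ω : WittVector p B) (v : B) (s j : ℕ) :
    ((verschiebung)^[s] (ω * teichmuller p v)).coeff j =
      if j < s then 0 else ω.coeff (j - s) * v ^ p ^ (j - s) := by
  split_ifs with h
  · exact iterate_verschiebung_coeff_eq_zero _ h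
  · obtain ⟨k, rfl⟩ : ∃ k, j = k + s := ⟨j - s, by omega⟩
    rw [iterate_verschiebung_coeff, Nat.add_sub_cancel, mul_teichmuller_coeff]

omit hp in
theorem unit_calc (u : Bˣ) (i : ℤ) (m s j : ℕ) (hj : j < m) (hsj : s ≤ j) (r E : ℤ)
    (hE : E = -((p : ℤ) ^ (m - 1 - s) * i) + r) (ω : B) :
    (ω * ((u ^ i : Bˣ) : B) ^ p ^ (j - s)) ^ p ^ (m - 1 - j) * ((u ^ E : Bˣ) : B) =
      ω ^ p ^ (m - 1 - j) * ((u ^ r : Bˣ) : B) := by
  have e1 : p ^ (j - s) * p ^ (m - 1 - j) = p ^ (m - 1 - s) := by
    rw [← pow_add]
    congr 1
    omega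
  rw [mul_pow, ← pow_mul, e1, ← Units.val_pow_eq_pow_val, ← zpow_natCast, ← zpow_mul, mul_assoc,
    ← Units.val_mul, ← zpow_add, hE]
  congr 3
  push_cast
  ring

omit hp in
theorem fil_eq_filInt' (hic : ∀ y : B, IsIntegral A y → y ∈ (algebraMap A B).range) (m : ℕ)
    (c : B) : WittFil.fil p m (A := A) c = filInt p m A c := by
  ext x
  constructor
  · intro h j
    obtain ⟨z, hz⟩ := h j
    rw [← hz]
    exact isIntegral_algebraMap
  · intro h j
    exact hic _ (h j)

theorem add_mem_fil [IsDomain B] (hic : ∀ y : B, IsIntegral A y → y ∈ (algebraMap A B).range)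
    (m : ℕ) (c : B) (a b : TruncatedWittVector p m B) (ha : a ∈ WittFil.fil p m (A := A) c)
    (hb : b ∈ WittFil.fil p m (A := A) c) : a + b ∈ WittFil.fil p m (A := A) c := by
  rw [fil_eq_filInt' hic] at ha hb ⊢
  exact add_mem_filInt m c a b ha hb

end gen

theorem cc_algebraMap {S : Type*} [CommRing S] (a : S) :
    PowerSeries.constantCoeff (algebraMap S (PowerSeries S) a) = a := by
  simp

/-- Let S be an integral domain of characteristic p, A = S[[π]] the power series ring, B = A[1/π] with u
the unit of B given by π, and let m > s ≥ 0 and i be an integer with s = 0 or p ∤ i; put n = p ^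
(m−1−s) · i. For e in B write fil(e) for the set of truncated p-typical Witt vectors of length m
over B whose j-th coordinate y_j satisfies y_j ^ (p ^ (m−1−j)) · e ∈ A for all j, and for a Witt
vector c over S let Φ(c) ∈ W_m(B) be the length-m truncation of V^s(c · [u ^ i]) (V the
Verschiebung, [ ] the Teichmüller map, c mapped to B). Then Φ induces a bijection from the
length-(m−s) truncated Witt vectors of S onto the graded piece fil(u^(−n)) / fil(u^(−n−1)): (1) Φ(c)
lies in fil(u^(−n)) for every c; (2) Φ(c) lies in fil(u^(−n−1)) exactly when the length-(m−s)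
truncation of c is zero; (3) every element of fil(u^(−n)) is congruent to some Φ(c) modulo
fil(u^(−n−1)). (Published for S a regular local Noetherian F-finite F_p-algebra; the argument uses
only that S is a domain.) -/
theorem result (p : ℕ) [Fact p.Prime] {S B : Type u} [CommRing S]
    [IsDomain S] [CharP S p] [CommRing B] [Algebra (PowerSeries S) B] [Algebra S B]
    [IsScalarTower S (PowerSeries S) B] [IsLocalization.Away (PowerSeries.X : PowerSeries S) B]
    (u : Bˣ) (hu : (u : B) = algebraMap (PowerSeries S) B PowerSeries.X) (m s : ℕ) (hs : s < m)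
    (i : ℤ) (hsi : s = 0 ∨ ¬ ((p : ℤ) ∣ i)) :
    (∀ c : WittVector p S,
        WittFil.vShiftTeich p m s ((u ^ i : Bˣ) : B) c ∈
          WittFil.fil p m (A := PowerSeries S) ((u ^ (-((p : ℤ) ^ (m - 1 - s) * i)) : Bˣ) : B)) ∧
      (∀ c : WittVector p S,
        WittFil.vShiftTeich p m s ((u ^ i : Bˣ) : B) c ∈
            WittFil.fil p m (A := PowerSeries S) ((u ^ (-((p : ℤ) ^ (m - 1 - s) * i) - 1) : Bˣ) : B) ↔
          WittVector.truncate (m - s) c = 0) ∧
      (∀ y ∈ WittFil.fil p m (A := PowerSeries S) ((u ^ (-((p : ℤ) ^ (m - 1 - s) * i)) : Bˣ) : B),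
        ∃ c : WittVector p S,
          y - WittFil.vShiftTeich p m s ((u ^ i : Bˣ) : B) c ∈
            WittFil.fil p m (A := PowerSeries S)
              ((u ^ (-((p : ℤ) ^ (m - 1 - s) * i) - 1) : Bˣ) : B)) := by
  have hp0 : p ≠ 0 := (Fact.out : p.Prime).ne_zero
  have hSB : ∀ a : S, algebraMap S B a =
      algebraMap (PowerSeries S) B (algebraMap S (PowerSeries S) a) :=
    fun a => IsScalarTower.algebraMap_apply S (PowerSeries S) B a
  refine ⟨?_, ?_, ?_⟩
  · -- (1)
    intro c
    rw [WittFil.vShiftTeich, truncate_mem_fil_iff]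
    intro j hj
    rw [vst_coeff]
    split_ifs with hjs
    · rw [zero_pow (pow_ne_zero _ hp0), zero_mul]
      exact Subring.zero_mem _
    · rw [unit_calc u i m s j hj (not_lt.mp hjs) 0 _ (by rw [add_zero]), zpow_zero, Units.val_one,
        mul_one, WittVector.map_coeff, hSB, ← map_pow]
      exact ⟨_, rfl⟩
  · -- (2)
    intro c
    rw [WittFil.vShiftTeich, truncate_mem_fil_iff]
    constructor
    · intro h
      refine TruncatedWittVector.ext fun k => ?_
      rw [WittVector.coeff_truncate, TruncatedWittVector.coeff_zero]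
      have hk := k.2
      have h1 := h (s + k) (by omega)
      rw [vst_coeff, if_neg (by omega),
        unit_calc u i m s (s + k) (by omega) (by omega) (-1) _ (sub_eq_add_neg _ _),
        Nat.add_sub_cancel_left, WittVector.map_coeff, hSB, ← map_pow] at h1
      have h2 := (pseries_mul_inv_mem_range_iff u hu _).mp h1
      rw [PowerSeries.X_dvd_iff, map_pow, cc_algebraMap] at h2
      exact eq_zero_of_pow_eq_zero h2
    · intro h j hj
      rw [vst_coeff]
      split_ifs with hjs
      · rw [zero_pow (pow_ne_zero _ hp0), zero_mul]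
        exact Subring.zero_mem _
      · have hk : c.coeff (j - s) = 0 := by
          have := congrArg (TruncatedWittVector.coeff ⟨j - s, by omega⟩) h
          rwa [WittVector.coeff_truncate, TruncatedWittVector.coeff_zero] at this
        rw [WittVector.map_coeff, hk, map_zero, zero_mul, zero_pow (pow_ne_zero _ hp0), zero_mul]
        exact Subring.zero_mem _
  · -- (3)
    intro y hy
    have : IsDomain B := pseries_isDomain_of_away (S := S)
    have hic : ∀ β : B, IsIntegral (PowerSeries S) β →
        β ∈ (algebraMap (PowerSeries S) B).range :=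
      fun β h => pseries_mem_range_of_isIntegral β h
    have hg : ∀ k : ℕ, ∃ g : PowerSeries S, s + k < m →
        algebraMap (PowerSeries S) B g =
          y.out.coeff (s + k) * ((u ^ (-((p : ℤ) ^ k * i)) : Bˣ) : B) := by
      intro k
      by_cases hk : s + k < m
      · have h1 := hy ⟨s + k, hk⟩
        have hz : IsIntegral (PowerSeries S)
            (y.out.coeff (s + k) * ((u ^ (-((p : ℤ) ^ k * i)) : Bˣ) : B)) := by
          apply IsIntegral.of_pow (n := p ^ (m - 1 - (s + k)))
            (pow_pos (Nat.pos_of_ne_zero hp0) _)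
          rw [mul_pow, ← Units.val_pow_eq_pow_val, ← zpow_natCast, ← zpow_mul]
          have e : (-((p : ℤ) ^ k * i)) * ((p ^ (m - 1 - (s + k)) : ℕ) : ℤ) =
              -((p : ℤ) ^ (m - 1 - s) * i) := by
            have : m - 1 - s = k + (m - 1 - (s + k)) := by omega
            rw [this, pow_add]
            push_cast
            ring
          rw [e, out_coeff_of_lt y _ hk]
          obtain ⟨z, hz⟩ := h1
          rw [← hz]
          exact isIntegral_algebraMap
        obtain ⟨g, hg⟩ := hic _ hz
        exact ⟨g, fun _ => hg⟩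
      · exact ⟨0, fun h => absurd h hk⟩
    choose g hg using hg
    obtain ⟨γ, hγ⟩ : ∃ γ : WittVector p (PowerSeries S), ∀ k, γ.coeff k = g k :=
      ⟨WittVector.mk p g, fun k => rfl⟩
    obtain ⟨c, hc⟩ : ∃ c : WittVector p S,
      c = WittVector.map (PowerSeries.constantCoeff (R := S)) γ := ⟨_, rfl⟩
    refine ⟨c, ?_⟩
    obtain ⟨Y₁, hY₁⟩ : ∃ Y₁ : WittVector p B,
        ∀ j, Y₁.coeff j = if j < s then y.out.coeff j else 0 :=
      ⟨WittVector.mk p fun j => if j < s then y.out.coeff j else 0, fun j => rfl⟩
    obtain ⟨Y₂, hY₂⟩ : ∃ Y₂ : WittVector p B, Y₂ = (verschiebung)^[s]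
      (WittVector.map (algebraMap (PowerSeries S) B) γ * teichmuller p ((u ^ i : Bˣ) : B)) :=
      ⟨_, rfl⟩
    obtain ⟨δ, hδ⟩ : ∃ δ : WittVector p (PowerSeries S),
      δ = γ - WittVector.map (algebraMap S (PowerSeries S)) c := ⟨_, rfl⟩
    have hy12 : y = WittVector.truncate m (Y₁ + Y₂) := by
      refine TruncatedWittVector.ext fun j => ?_
      rw [WittVector.coeff_truncate, WittVector.coeff_add_of_disjoint]
      · rw [hY₁, hY₂, vst_coeff]
        by_cases hjs : (j : ℕ) < s
        · rw [if_pos hjs, if_pos hjs, add_zero, out_coeff_of_lt y _ j.2]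
        · rw [if_neg hjs, if_neg hjs, zero_add, WittVector.map_coeff, hγ]
          have hj' : s + ((j : ℕ) - s) < m := by have := j.2; omega
          rw [hg _ hj', mul_assoc, ← Units.val_pow_eq_pow_val, ← zpow_natCast, ← zpow_mul,
            ← Units.val_mul, ← zpow_add]
          have e0 : -((p : ℤ) ^ ((j : ℕ) - s) * i) + i * ((p ^ ((j : ℕ) - s) : ℕ) : ℤ) = 0 := by
            push_cast
            ring
          rw [e0, zpow_zero, Units.val_one, mul_one]
          have e1 : s + ((j : ℕ) - s) = j := by omega
          rw [e1, out_coeff_of_lt y _ j.2]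
      · intro n
        rw [hY₁, hY₂, vst_coeff]
        by_cases hns : n < s
        · right
          rw [if_pos hns]
        · left
          rw [if_neg hns]
    have hδ0 : ∀ k, (PowerSeries.X : PowerSeries S) ∣ δ.coeff k := by
      intro k
      rw [PowerSeries.X_dvd_iff]
      have h1 : WittVector.map (PowerSeries.constantCoeff (R := S)) δ = 0 := by
        have h2 : WittVector.map (PowerSeries.constantCoeff (R := S))
            (WittVector.map (algebraMap S (PowerSeries S)) c) = c := by
          ext n
          rw [WittVector.map_coeff, WittVector.map_coeff, cc_algebraMap]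
        rw [hδ, map_sub, h2, hc, sub_self]
      have h3 : (WittVector.map (PowerSeries.constantCoeff (R := S)) δ).coeff k = 0 := by
        rw [h1, WittVector.zero_coeff]
      rwa [WittVector.map_coeff] at h3
    have hdiff : y - WittFil.vShiftTeich p m s ((u ^ i : Bˣ) : B) c =
        WittVector.truncate m Y₁ + WittVector.truncate m ((verschiebung)^[s]
          (WittVector.map (algebraMap (PowerSeries S) B) δ *
            teichmuller p ((u ^ i : Bˣ) : B))) := by
      have hmapc : WittVector.map (algebraMap S B) c =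
          WittVector.map (algebraMap (PowerSeries S) B)
            (WittVector.map (algebraMap S (PowerSeries S)) c) := by
        ext n
        rw [WittVector.map_coeff, WittVector.map_coeff, WittVector.map_coeff, hSB]
      rw [hδ, map_sub, sub_mul, iterate_map_sub, map_sub, ← hY₂, hy12, map_add,
        WittFil.vShiftTeich, hmapc, add_sub_assoc]
    have hm1 : WittVector.truncate m Y₁ ∈ WittFil.fil p m (A := PowerSeries S)
        ((u ^ (-((p : ℤ) ^ (m - 1 - s) * i) - 1) : Bˣ) : B) := by
      rw [truncate_mem_fil_iff]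
      intro j hj
      rw [hY₁]
      split_ifs with hjs
      · have h1 : (y.out.coeff j) ^ p ^ (m - 1 - j) *
            ((u ^ (-((p : ℤ) ^ (m - 1 - s) * i)) : Bˣ) : B) ∈
              (algebraMap (PowerSeries S) B).range := by
          rw [out_coeff_of_lt y j hj]
          exact hy ⟨j, hj⟩
        have hs0 : s ≠ 0 := by omega
        have hpi : ¬ ((p : ℤ) ∣ i) := hsi.resolve_left hs0
        refine val_step' (PowerSeries.X : PowerSeries S) PowerSeries.X_prime pseries_fac u hu
          (p ^ (m - 1 - j)) (pow_ne_zero _ hp0) _ ?_ _ h1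
        intro hdvd
        apply hpi
        rw [dvd_neg] at hdvd
        have e : m - 1 - j = (m - 1 - s) + (s - j) := by omega
        rw [e] at hdvd
        push_cast at hdvd
        rw [pow_add] at hdvd
        have hpz : (p : ℤ) ^ (m - 1 - s) ≠ 0 := pow_ne_zero _ (by exact_mod_cast hp0)
        have h3 := (mul_dvd_mul_iff_left hpz).mp hdvd
        exact dvd_trans (dvd_pow_self _ (by omega)) h3
      · rw [zero_pow (pow_ne_zero _ hp0), zero_mul]
        exact Subring.zero_mem _
    have hm2 : WittVector.truncate m ((verschiebung)^[s]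
        (WittVector.map (algebraMap (PowerSeries S) B) δ * teichmuller p ((u ^ i : Bˣ) : B))) ∈
        WittFil.fil p m (A := PowerSeries S)
          ((u ^ (-((p : ℤ) ^ (m - 1 - s) * i) - 1) : Bˣ) : B) := by
      rw [truncate_mem_fil_iff]
      intro j hj
      rw [vst_coeff]
      split_ifs with hjs
      · rw [zero_pow (pow_ne_zero _ hp0), zero_mul]
        exact Subring.zero_mem _
      · rw [unit_calc u i m s j hj (not_lt.mp hjs) (-1) _ (sub_eq_add_neg _ _),
          WittVector.map_coeff, ← map_pow, pseries_mul_inv_mem_range_iff u hu]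
        exact dvd_pow (hδ0 _) (pow_ne_zero _ hp0)
    rw [hdiff]
    exact add_mem_fil hic m _ _ _ hm1 hm2

end Groth.Agent.S19268
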