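import Groth.Statements.S19269
import Mathlib.RingTheory.AdicCompletion.Exactness
import Mathlib.RingTheory.AdicCompletion.AsTensorProduct
import Mathlib.RingTheory.Filtration

set_option autoImplicit false
universe u
open CAlg

namespace Groth.Agent.S19269

open IsLocalRing in
/-- Let R be a Noetherian local ring with maximal ideal 𝔪, M a finitely generated R-module and M^ its
𝔪-adic completion, a module over the 𝔪-adic completion R^ of R. Let N' be an R^-submodule of M^ and
N an R-submodule of M whose image in M^ is contained in N' and is dense in N' for the 𝔪-adic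
topology, in the sense that for every y in N' and every k there is x in N with y ≡ x modulo the
kernel of M^ → M/𝔪^k M. Then N' equals the image of the completion of N under the map induced by the
inclusion N → M (so N' is the completion of N), and N is the set of elements of M whose image in M^
lies in N'. -/
theorem result {R : Type u} [CommRing R]
    [IsNoetherianRing R] [IsLocalRing R] {M : Type u} [AddCommGroup M] [Module R M]
    [Module.Finite R M] (N : Submodule R M)
    (N' : Submodule (AdicCompletion (maximalIdeal R) R) (AdicCompletion (maximalIdeal R) M))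
    (hle : ∀ x ∈ N, AdicCompletion.of (maximalIdeal R) M x ∈ N')
    (hdense : ∀ y ∈ N', ∀ k : ℕ, ∃ x ∈ N,
      AdicCompletion.eval (maximalIdeal R) M k y = Submodule.Quotient.mk x) :
    (N'.restrictScalars R =
        (LinearMap.range (AdicCompletion.map (maximalIdeal R) N.subtype)).restrictScalars R) ∧
      (∀ x : M, x ∈ N ↔ AdicCompletion.of (maximalIdeal R) M x ∈ N') := by
  constructor
  · apply le_antisymm
    · intro y hy
      have hex := AdicCompletion.map_exact (I := maximalIdeal R) (f := N.subtype) (g := N.mkQ)
        N.injective_subtype (LinearMap.exact_subtype_mkQ N) N.mkQ_surjective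
      have h0 : AdicCompletion.map (maximalIdeal R) N.mkQ y = 0 := by
        apply AdicCompletion.ext
        intro k
        rw [AdicCompletion.map_val_apply]
        obtain ⟨x, hxN, hx⟩ := hdense y hy k
        rw [AdicCompletion.eval_apply] at hx
        rw [hx, LinearMap.reduceModIdeal_apply]
        have : N.mkQ x = 0 := (Submodule.Quotient.mk_eq_zero N).mpr hxN
        rw [this]
        rfl
      exact (hex y).mp h0
    · rintro _ ⟨z, rfl⟩
      obtain ⟨t, rfl⟩ := AdicCompletion.ofTensorProduct_surjective_of_finite (maximalIdeal R) N z
      induction t using TensorProduct.induction_on with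
      | zero =>
        rw [map_zero, map_zero]
        exact Submodule.zero_mem _
      | tmul r n =>
        rw [AdicCompletion.ofTensorProduct_tmul, map_smul, AdicCompletion.map_of]
        exact N'.smul_mem r (hle _ n.2)
      | add a b ha hb =>
        rw [map_add, map_add]
        exact Submodule.add_mem _ ha hb
  · intro x
    refine ⟨hle x, fun hx => ?_⟩
    have hx' : (N.mkQ x) ∈ (⨅ i : ℕ, (maximalIdeal R) ^ i • ⊤ : Submodule R (M ⧸ N)) := by
      rw [Submodule.mem_iInf]
      intro k
      obtain ⟨xk, hxkN, hxk⟩ := hdense _ hx k
      rw [AdicCompletion.eval_of] at hxk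
      have h1 : x - xk ∈ ((maximalIdeal R) ^ k • ⊤ : Submodule R M) :=
        (Submodule.Quotient.eq _).mp hxk
      have h2 : N.mkQ x = N.mkQ (x - xk) := by
        rw [map_sub, show N.mkQ xk = 0 from (Submodule.Quotient.mk_eq_zero N).mpr hxkN, sub_zero]
      rw [h2]
      have h3 : N.mkQ (x - xk) ∈ Submodule.map N.mkQ ((maximalIdeal R) ^ k • ⊤) :=
        Submodule.mem_map_of_mem h1
      rwa [Submodule.map_smul'', Submodule.map_top, Submodule.range_mkQ] at h3
    rw [Ideal.iInf_pow_smul_eq_bot_of_isLocalRing (maximalIdeal R)
      (IsLocalRing.maximalIdeal.isMaximal R).ne_top, Submodule.mem_bot] at hx'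
    exact (Submodule.Quotient.mk_eq_zero N).mp hx'

end Groth.Agent.S19269
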