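import Groth.Statements.S19270
import Mathlib
import Groth.Agent.H44.MacLaneAll
-- import your own Groth.Agent.* helpers here

set_option autoImplicit false
universe u
open CAlg

set_option linter.style.haveILetI false
set_option linter.unusedSectionVars false
set_option linter.unusedVariables false

namespace Groth.Agent.S19270

open TensorProduct

theorem exists_section (p : ℕ) [Fact p.Prime] {A : Type u} [CommRing A] [IsLocalRing A]
    [CharP A p] :
    ∃ s : (A ⧸ IsLocalRing.maximalIdeal A) →+* (A ⧸ IsLocalRing.maximalIdeal A ^ 2),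
      ∀ c, Ideal.Quotient.factor
        (Ideal.pow_le_self two_ne_zero : IsLocalRing.maximalIdeal A ^ 2 ≤ IsLocalRing.maximalIdeal A)
        (s c) = c := by
  classical
  letI a0 : Algebra (ZMod p) A := ZMod.algebra A p
  letI algA : Algebra (ULift.{u} (ZMod p)) A :=
    ((algebraMap (ZMod p) A).comp
      (ULift.ringEquiv : ULift.{u} (ZMod p) ≃+* ZMod p).toRingHom).toAlgebra
  haveI : PerfectField (ULift.{u} (ZMod p)) := inferInstance
  haveI hFS : Algebra.FormallySmooth (ULift.{u} (ZMod p)) (IsLocalRing.ResidueField A) :=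
    Groth.Agent.H44.MacLane.formallySmooth_iff_isGeometricallyReduced.mpr
      Groth.Agent.H44.MacLane.isGeometricallyReduced_of_perfectField
  haveI hFS' : Algebra.FormallySmooth (ULift.{u} (ZMod p)) (A ⧸ IsLocalRing.maximalIdeal A) := hFS
  let g : (A ⧸ IsLocalRing.maximalIdeal A ^ 2) →ₐ[ULift.{u} (ZMod p)]
      (A ⧸ IsLocalRing.maximalIdeal A) :=
    Ideal.Quotient.factorₐ (ULift.{u} (ZMod p)) (Ideal.pow_le_self two_ne_zero)
  have hg_mk : ∀ a : A, g (Ideal.Quotient.mk _ a) = Ideal.Quotient.mk (IsLocalRing.maximalIdeal A) a :=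
    fun a => rfl
  have hg : Function.Surjective g := by
    intro c
    obtain ⟨a, rfl⟩ := Ideal.Quotient.mk_surjective c
    exact ⟨Ideal.Quotient.mk _ a, rfl⟩
  have hKsq : ∀ u v : A ⧸ IsLocalRing.maximalIdeal A ^ 2, g u = 0 → g v = 0 → u * v = 0 := by
    intro u v hu hv
    obtain ⟨a, rfl⟩ := Ideal.Quotient.mk_surjective u
    obtain ⟨b, rfl⟩ := Ideal.Quotient.mk_surjective v
    rw [hg_mk] at hu hv
    rw [← map_mul]
    refine Ideal.Quotient.eq_zero_iff_mem.mpr ?_
    have h2 : IsLocalRing.maximalIdeal A ^ 2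
        = IsLocalRing.maximalIdeal A * IsLocalRing.maximalIdeal A := pow_two _
    rw [h2]
    exact Ideal.mul_mem_mul (Ideal.Quotient.eq_zero_iff_mem.mp hu)
      (Ideal.Quotient.eq_zero_iff_mem.mp hv)
  have hg' : IsNilpotent (RingHom.ker (g : (A ⧸ IsLocalRing.maximalIdeal A ^ 2) →+*
      (A ⧸ IsLocalRing.maximalIdeal A))) := by
    refine ⟨2, ?_⟩
    have hk : RingHom.ker (g : (A ⧸ IsLocalRing.maximalIdeal A ^ 2) →+*
          (A ⧸ IsLocalRing.maximalIdeal A)) ^ 2
        = RingHom.ker (g : (A ⧸ IsLocalRing.maximalIdeal A ^ 2) →+*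
          (A ⧸ IsLocalRing.maximalIdeal A)) *
          RingHom.ker (g : (A ⧸ IsLocalRing.maximalIdeal A ^ 2) →+*
          (A ⧸ IsLocalRing.maximalIdeal A)) := pow_two _
    rw [hk, Ideal.zero_eq_bot, eq_bot_iff, Ideal.mul_le]
    intro x hx y hy
    rw [Ideal.mem_bot]
    exact hKsq x y (RingHom.mem_ker.mp hx) (RingHom.mem_ker.mp hy)
  let s : (A ⧸ IsLocalRing.maximalIdeal A) →ₐ[ULift.{u} (ZMod p)]
      (A ⧸ IsLocalRing.maximalIdeal A ^ 2) :=
    Algebra.FormallySmooth.liftOfSurjective
      (AlgHom.id (ULift.{u} (ZMod p)) (A ⧸ IsLocalRing.maximalIdeal A)) g hg hg'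
  refine ⟨(s : (A ⧸ IsLocalRing.maximalIdeal A) →+* (A ⧸ IsLocalRing.maximalIdeal A ^ 2)),
    fun c => ?_⟩
  exact Algebra.FormallySmooth.liftOfSurjective_apply
    (AlgHom.id (ULift.{u} (ZMod p)) (A ⧸ IsLocalRing.maximalIdeal A)) g hg hg' c

/-- The differentials of a minimal generating system of the maximal ideal stay linearly independent
in `k ⊗ Ω`. -/
theorem linearIndependent_tmul_D (p : ℕ) [Fact p.Prime]
    {A : Type u} [CommRing A] [IsRegularLocalRing A] [CharP A p]
    {N : ℕ} (x : Fin N → A) (hx : Ideal.span (Set.range x) = IsLocalRing.maximalIdeal A)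
    (hN : ringKrullDim A = (N : WithBot ℕ∞)) :
    LinearIndependent (IsLocalRing.ResidueField A)
      (fun i : Fin N => (1 : IsLocalRing.ResidueField A) ⊗ₜ[A] KaehlerDifferential.D ℤ A (x i)) := by
  classical
  obtain ⟨s, hs⟩ := exists_section p (A := A)
  let fac : (A ⧸ IsLocalRing.maximalIdeal A ^ 2) →+* (A ⧸ IsLocalRing.maximalIdeal A) :=
    Ideal.Quotient.factor
      (Ideal.pow_le_self two_ne_zero : IsLocalRing.maximalIdeal A ^ 2 ≤ IsLocalRing.maximalIdeal A)
  have hfac_mk : ∀ a : A, fac (Ideal.Quotient.mk _ a)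
      = Ideal.Quotient.mk (IsLocalRing.maximalIdeal A) a := fun a => rfl
  have hs' : ∀ c, fac (s c) = c := hs
  have hKsq : ∀ u v : A ⧸ IsLocalRing.maximalIdeal A ^ 2, fac u = 0 → fac v = 0 → u * v = 0 := by
    intro u v hu hv
    obtain ⟨a, rfl⟩ := Ideal.Quotient.mk_surjective u
    obtain ⟨b, rfl⟩ := Ideal.Quotient.mk_surjective v
    rw [hfac_mk] at hu hv
    rw [← map_mul]
    refine Ideal.Quotient.eq_zero_iff_mem.mpr ?_
    have h2 : IsLocalRing.maximalIdeal A ^ 2
        = IsLocalRing.maximalIdeal A * IsLocalRing.maximalIdeal A := pow_two _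
    rw [h2]
    exact Ideal.mul_mem_mul (Ideal.Quotient.eq_zero_iff_mem.mp hu)
      (Ideal.Quotient.eq_zero_iff_mem.mp hv)
  have hδ0 : ∀ a : A, fac (Ideal.Quotient.mk (IsLocalRing.maximalIdeal A ^ 2) a
      - s (Ideal.Quotient.mk (IsLocalRing.maximalIdeal A) a)) = 0 := by
    intro a
    rw [map_sub, hfac_mk, hs', sub_self]
  let δ : Derivation ℤ A (A ⧸ IsLocalRing.maximalIdeal A ^ 2) :=
    { toLinearMap := ((Ideal.Quotient.mk (IsLocalRing.maximalIdeal A ^ 2)).toAddMonoidHom
        - (s.comp (Ideal.Quotient.mk (IsLocalRing.maximalIdeal A))).toAddMonoidHom).toIntLinearMap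
      map_one_eq_zero' := by
        show Ideal.Quotient.mk (IsLocalRing.maximalIdeal A ^ 2) 1
          - s (Ideal.Quotient.mk (IsLocalRing.maximalIdeal A) 1) = 0
        rw [map_one, map_one, map_one, sub_self]
      leibniz' := fun a b => by
        show Ideal.Quotient.mk (IsLocalRing.maximalIdeal A ^ 2) (a * b)
            - s (Ideal.Quotient.mk (IsLocalRing.maximalIdeal A) (a * b))
          = a • (Ideal.Quotient.mk (IsLocalRing.maximalIdeal A ^ 2) b
              - s (Ideal.Quotient.mk (IsLocalRing.maximalIdeal A) b))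
            + b • (Ideal.Quotient.mk (IsLocalRing.maximalIdeal A ^ 2) a
              - s (Ideal.Quotient.mk (IsLocalRing.maximalIdeal A) a))
        have hu := hKsq _ _ (hδ0 a) (hδ0 b)
        rw [map_mul, map_mul, map_mul, Algebra.smul_def, Algebra.smul_def,
          Ideal.Quotient.algebraMap_eq]
        linear_combination (-1 : A ⧸ IsLocalRing.maximalIdeal A ^ 2) * hu }
  have hδ : ∀ a, δ a = Ideal.Quotient.mk (IsLocalRing.maximalIdeal A ^ 2) a
      - s (Ideal.Quotient.mk (IsLocalRing.maximalIdeal A) a) := fun a => rfl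
  let ψ : Ω[A⁄ℤ] →ₗ[A] (A ⧸ IsLocalRing.maximalIdeal A ^ 2) := δ.liftKaehlerDifferential
  have hψD : ∀ a, ψ (KaehlerDifferential.D ℤ A a) = δ a :=
    fun a => Derivation.liftKaehlerDifferential_comp_D δ a
  have hfacψ : ∀ ω, fac (ψ ω) = 0 := by
    intro ω
    have hω : ω ∈ Submodule.span A (Set.range (KaehlerDifferential.D ℤ A)) := by
      rw [KaehlerDifferential.span_range_derivation]; exact Submodule.mem_top
    refine Submodule.span_induction (p := fun x _ => fac (ψ x) = 0) ?_ ?_ ?_ ?_ hω
    · rintro _ ⟨a, rfl⟩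
      rw [hψD, hδ]
      exact hδ0 a
    · rw [map_zero, map_zero]
    · intro y z _ _ hy hz
      rw [map_add, map_add, hy, hz, add_zero]
    · intro a y _ hy
      rw [map_smul, Algebra.smul_def, map_mul, hy, mul_zero]
  have hψm : ∀ ω ∈ (IsLocalRing.maximalIdeal A • ⊤ : Submodule A Ω[A⁄ℤ]), ψ ω = 0 := by
    intro ω hω
    refine Submodule.smul_induction_on hω ?_ ?_
    · intro a ha ω' _
      rw [map_smul, Algebra.smul_def, Ideal.Quotient.algebraMap_eq]
      exact hKsq _ _ (by rw [hfac_mk]; exact Ideal.Quotient.eq_zero_iff_mem.mpr ha) (hfacψ ω')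
    · intro y z hy hz
      rw [map_add, hy, hz, add_zero]
  -- the cotangent space side
  have hxm : ∀ i, x i ∈ IsLocalRing.maximalIdeal A := fun i => by
    rw [← hx]; exact Ideal.subset_span ⟨i, rfl⟩
  let w : Fin N → IsLocalRing.CotangentSpace A :=
    fun i => (IsLocalRing.maximalIdeal A).toCotangent ⟨x i, hxm i⟩
  have hwspan : Submodule.span (IsLocalRing.ResidueField A) (Set.range w) = ⊤ := by
    have hrw : Set.range w = (IsLocalRing.maximalIdeal A).toCotangent ''
        (Set.range fun i => (⟨x i, hxm i⟩ : IsLocalRing.maximalIdeal A)) := by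
      rw [← Set.range_comp]; rfl
    rw [hrw, IsLocalRing.CotangentSpace.span_image_eq_top_iff]
    apply Submodule.map_injective_of_injective (f := Submodule.subtype (IsLocalRing.maximalIdeal A))
      (Submodule.injective_subtype _)
    rw [Submodule.map_span, ← Set.range_comp, Submodule.map_top, Submodule.range_subtype]
    exact hx
  have hfin : Module.finrank (IsLocalRing.ResidueField A) (IsLocalRing.CotangentSpace A) = N := by
    have h1 := (IsRegularLocalRing.iff_finrank_cotangentSpace A).mp inferInstance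
    rw [hN] at h1
    exact_mod_cast h1
  have hw : LinearIndependent (IsLocalRing.ResidueField A) w :=
    linearIndependent_of_top_le_span_of_card_eq_finrank hwspan.ge
      (by rw [Fintype.card_fin, hfin])
  rw [Fintype.linearIndependent_iff]
  intro gk hsum
  choose c hc using fun i => IsLocalRing.residue_surjective (gk i)
  have h1 : (1 : IsLocalRing.ResidueField A) ⊗ₜ[A]
      (∑ i, c i • KaehlerDifferential.D ℤ A (x i)) = 0 := by
    rw [TensorProduct.tmul_sum, ← hsum]
    refine Finset.sum_congr rfl fun i _ => ?_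
    have e1 : (1 : IsLocalRing.ResidueField A) ⊗ₜ[A] (c i • KaehlerDifferential.D ℤ A (x i))
        = (gk i) ⊗ₜ[A] KaehlerDifferential.D ℤ A (x i) := by
      rw [← TensorProduct.smul_tmul, Algebra.smul_def, mul_one,
        IsLocalRing.ResidueField.algebraMap_eq, hc i]
    have e2 : gk i • ((1 : IsLocalRing.ResidueField A) ⊗ₜ[A] KaehlerDifferential.D ℤ A (x i))
        = (gk i) ⊗ₜ[A] KaehlerDifferential.D ℤ A (x i) := by
      rw [TensorProduct.smul_tmul', smul_eq_mul, mul_one]
    rw [e1, e2]
  have h2 : (∑ i, c i • KaehlerDifferential.D ℤ A (x i))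
      ∈ (IsLocalRing.maximalIdeal A • ⊤ : Submodule A Ω[A⁄ℤ]) := by
    rw [← LinearMap.ker_tensorProductMk (I := IsLocalRing.maximalIdeal A) (Q := Ω[A⁄ℤ])]
    exact LinearMap.mem_ker.mpr h1
  have h3 := hψm _ h2
  rw [map_sum] at h3
  have h4 : Ideal.Quotient.mk (IsLocalRing.maximalIdeal A ^ 2) (∑ i, c i * x i) = 0 := by
    rw [map_sum, ← h3]
    refine Finset.sum_congr rfl fun i _ => ?_
    rw [map_smul, hψD, hδ, (Ideal.Quotient.eq_zero_iff_mem (I := IsLocalRing.maximalIdeal A)).mpr
      (hxm i), map_zero, sub_zero, Algebra.smul_def, Ideal.Quotient.algebraMap_eq, map_mul]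
  have h5 : ∑ i, c i * x i ∈ IsLocalRing.maximalIdeal A ^ 2 := Ideal.Quotient.eq_zero_iff_mem.mp h4
  have hmem : ∑ i, c i * x i ∈ IsLocalRing.maximalIdeal A :=
    Ideal.sum_mem _ (fun i _ => Ideal.mul_mem_left _ _ (hxm i))
  have h6 : ∑ i, gk i • w i = 0 := by
    have e : (⟨∑ i, c i * x i, hmem⟩ : IsLocalRing.maximalIdeal A)
        = ∑ i, c i • (⟨x i, hxm i⟩ : IsLocalRing.maximalIdeal A) := by
      apply Subtype.ext
      rw [Submodule.coe_sum]
      rfl
    have e' : ∑ i, gk i • w i = (IsLocalRing.maximalIdeal A).toCotangent ⟨∑ i, c i * x i, hmem⟩ := by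
      rw [e, map_sum]
      refine Finset.sum_congr rfl fun i _ => ?_
      rw [map_smul, ← hc i, ← IsLocalRing.ResidueField.algebraMap_eq, algebraMap_smul]
    rw [e', Ideal.toCotangent_eq_zero]
    exact h5
  exact Fintype.linearIndependent_iff.mp hw gk h6


open IsLocalRing in
/-- Let A be a regular local ring of prime characteristic p, of Krull dimension N, with maximal ideal
generated by x_1, …, x_N, and assume that the module Ω_A of absolute Kähler differentials of A
(differentials relative to ℤ, equivalently relative to the prime field) is a free A-module of finite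
rank. Then dx_1, …, dx_N are part of a basis of Ω_A: there exist a basis b of Ω_A and an injection e
of the indices 1, …, N into the index type of b with b (e i) = d(x_i) for all i. (In the published
statement A is a regular local F-finite algebra over the prime field and the freeness and finiteness
of Ω_A form the first assertion, taken there from the literature; here they are hypotheses.) -/
theorem result (p : ℕ) [Fact p.Prime]
    {A : Type u} [CommRing A] [IsRegularLocalRing A] [CharP A p]
    [Module.Free A (KaehlerDifferential ℤ A)] [Module.Finite A (KaehlerDifferential ℤ A)]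
    {N : ℕ} (x : Fin N → A) (hx : Ideal.span (Set.range x) = maximalIdeal A)
    (hN : ringKrullDim A = (N : WithBot ℕ∞)) :
    ∃ (ι : Type u) (b : Module.Basis ι A (KaehlerDifferential ℤ A)) (e : Fin N ↪ ι),
      ∀ i : Fin N, b (e i) = KaehlerDifferential.D ℤ A (x i) := by
  classical
  have hu := linearIndependent_tmul_D p x hx hN
  obtain ⟨W, hW⟩ := Submodule.exists_isCompl (Submodule.span (ResidueField A)
    (Set.range fun i : Fin N => (1 : ResidueField A) ⊗ₜ[A] KaehlerDifferential.D ℤ A (x i)))
  let c := Module.Basis.ofVectorSpace (ResidueField A) W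
  have hmk : Function.Surjective (TensorProduct.mk A (ResidueField A) (KaehlerDifferential ℤ A) 1) :=
    TensorProduct.mk_surjective A _ _ residue_surjective
  choose lift hlift using hmk
  let v : Fin N ⊕ (Module.Basis.ofVectorSpaceIndex (ResidueField A) W) → KaehlerDifferential ℤ A :=
    Sum.elim (fun i => KaehlerDifferential.D ℤ A (x i))
      (fun j => lift ((c j : W) : ResidueField A ⊗[A] KaehlerDifferential ℤ A))
  have hv : TensorProduct.mk A (ResidueField A) (KaehlerDifferential ℤ A) 1 ∘ v
      = Sum.elim (fun i : Fin N => (1 : ResidueField A) ⊗ₜ[A] KaehlerDifferential.D ℤ A (x i))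
        (fun j => ((c j : W) : ResidueField A ⊗[A] KaehlerDifferential ℤ A)) := by
    funext i
    cases i with
    | inl i => rfl
    | inr j => exact hlift _
  have hspanW : Submodule.span (ResidueField A)
      (Set.range fun j => ((c j : W) : ResidueField A ⊗[A] KaehlerDifferential ℤ A)) = W := by
    have hcomp : (fun j => ((c j : W) : ResidueField A ⊗[A] KaehlerDifferential ℤ A))
        = W.subtype ∘ c := rfl
    rw [hcomp, Set.range_comp, ← Submodule.map_span, c.span_eq, Submodule.map_top,
      Submodule.range_subtype]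
  have hli : LinearIndependent (ResidueField A)
      (TensorProduct.mk A (ResidueField A) (KaehlerDifferential ℤ A) 1 ∘ v) := by
    rw [hv]
    refine LinearIndependent.sum_type hu ?_ ?_
    · exact c.linearIndependent.map' W.subtype (Submodule.ker_subtype W)
    · rw [hspanW]
      exact hW.disjoint
  have hsp : Submodule.span (ResidueField A)
      (Set.range (TensorProduct.mk A (ResidueField A) (KaehlerDifferential ℤ A) 1 ∘ v)) = ⊤ := by
    rw [hv, Set.Sum.elim_range, Submodule.span_union, hspanW]
    exact hW.sup_eq_top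
  have H : Function.Injective ((maximalIdeal A).subtype.rTensor (KaehlerDifferential ℤ A)) :=
    Module.Flat.rTensor_preserves_injective_linearMap (maximalIdeal A).subtype
      Subtype.val_injective
  haveI : Module.FinitePresentation A (KaehlerDifferential ℤ A) :=
    Module.finitePresentation_of_projective A _
  obtain ⟨b, hb⟩ := Module.exists_basis_of_basis_baseChange v hli hsp H
  exact ⟨Fin N ⊕ (Module.Basis.ofVectorSpaceIndex (ResidueField A) W), b,
    ⟨Sum.inl, Sum.inl_injective⟩, fun i => hb (Sum.inl i)⟩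

end Groth.Agent.S19270
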