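import Groth.Statements.S19271

set_option autoImplicit false
universe u
open WittFil

namespace Groth.Agent.S19271

theorem result (p : ℕ) [Fact p.Prime] {A B : Type u}
    [CommRing A] [CommRing B] [Algebra A B] [CharP B p] (c : B) (m : ℕ) :
    (∀ x : WittVector p B,
        WittVector.truncate (m + 1) x ∈ WittFil.fil p (m + 1) (A := A) c →
          WittVector.truncate m (WittVector.frobenius x) ∈ WittFil.fil p m (A := A) c) ∧
      (∀ x : WittVector p B,
        WittVector.truncate m x ∈ WittFil.fil p m (A := A) c →
          WittVector.truncate (m + 1) (WittVector.verschiebung x) ∈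
            WittFil.fil p (m + 1) (A := A) c) := by
  constructor
  · intro x hx j
    have h := hx ⟨j, Nat.lt_succ_of_lt j.2⟩
    rw [WittVector.coeff_truncate] at h ⊢
    rw [WittVector.coeff_frobenius_charP, ← pow_mul, ← pow_succ']
    simp only at h
    have e : m - 1 - (j : ℕ) + 1 = m + 1 - 1 - (j : ℕ) := by
      have := j.2; omega
    rw [e]
    exact h
  · intro x hx j
    rw [WittVector.coeff_truncate]
    obtain ⟨j, hj⟩ := j
    cases j with
    | zero =>
      simp only [WittVector.verschiebung_coeff_zero]
      have hp : p ≠ 0 := (Fact.out : p.Prime).ne_zero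
      rw [zero_pow (pow_ne_zero _ hp), zero_mul]
      exact Subring.zero_mem _
    | succ i =>
      have hi : i < m := Nat.lt_of_succ_lt_succ hj
      have h := hx ⟨i, hi⟩
      rw [WittVector.coeff_truncate] at h
      simp only [WittVector.verschiebung_coeff_succ]
      simp only at h
      have e : m + 1 - 1 - (i + 1) = m - 1 - i := by omega
      rw [e]
      exact h

end Groth.Agent.S19271
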