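import Groth.Statements.S19272
import Groth.Agent.H96.Zmon

set_option autoImplicit false
universe u
open WittFil

namespace Groth.Agent.S19272

open Groth.Agent.H96

theorem result (p : ℕ) [Fact p.Prime] {A B : Type u} [CommRing A] [IsDomain A]
    [UniqueFactorizationMonoid A] [CharP A p] [CommRing B] [Algebra A B] {r : ℕ} (x : Fin r → A)
    (hx : ∀ i, Prime (x i)) (hxa : ∀ i j, Associated (x i) (x j) → i = j)
    [IsLocalization.Away (∏ i, x i) B] (u : Fin r → Bˣ)
    (hu : ∀ i, (u i : B) = algebraMap A B (x i)) (m : ℕ) (n : Fin r → ℤ) (hn : ∀ i, n i < 0)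
    (a : TruncatedWittVector p m B) (ha : a ∈ WittFil.fil p m (A := A) (WittFil.zmon u n))
    (j : Fin m) :
    ∃ b : A, TruncatedWittVector.coeff j a = algebraMap A B ((∏ i, x i) * b) := by
  have hp : p ≠ 0 := (Fact.out : p.Prime).ne_zero
  have hπ : ∏ i, x i ≠ 0 := prod_ne_zero_of_prime x hx
  have hinj := algebraMap_injective_of_away (B := B) (∏ i, x i) hπ
  set N := p ^ (m - 1 - (j : ℕ)) with hN
  have hN0 : N ≠ 0 := pow_ne_zero _ hp
  obtain ⟨w, hw⟩ := ha j
  -- k i = -n i as a natural number, positive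
  set k : Fin r → ℕ := fun i => (-n i).toNat with hk
  have hk1 : ∀ i, 1 ≤ k i := by
    intro i
    have := hn i
    simp only [hk]
    omega
  have hkn : (fun i => -n i) = fun i => ((k i : ℕ) : ℤ) := by
    funext i
    have := hn i
    simp only [hk]
    omega
  -- y ^ N = w * x^k
  have h1 : TruncatedWittVector.coeff j a ^ N = algebraMap A B (w * ∏ i, x i ^ k i) := by
    rw [map_mul, ← zmon_natCast x u hu k, ← hkn, hw, mul_assoc, zmon_mul_neg, mul_one]
  obtain ⟨a', ha'⟩ := mem_range_of_pow_mem_range (∏ i, x i) hπ _ N hN0 ⟨_, h1.symm⟩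
  have h2 : a' ^ N = w * ∏ i, x i ^ k i := by
    apply hinj
    rw [map_pow, ha', h1]
  have h3 : ∀ i, x i ∣ a' := by
    intro i
    apply (hx i).dvd_of_dvd_pow (n := N)
    rw [h2]
    apply Dvd.dvd.mul_left
    exact (dvd_pow_self (x i) (by have := hk1 i; omega)).trans
      (Finset.dvd_prod_of_mem (fun i => x i ^ k i) (Finset.mem_univ i))
  obtain ⟨b, hb⟩ := prod_univ_dvd_of_forall_dvd x hx hxa a' h3
  exact ⟨b, by rw [← hb, ha']⟩

end Groth.Agent.S19272
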