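import Groth.Statements.S19273
import Mathlib

set_option autoImplicit false
universe u
open CAlg

namespace Groth.Agent.S19273

open KaehlerDifferential in
/-- Let A be an integral domain of prime characteristic p, x_1, …, x_N elements of A, r ≤ N, B =
A[1/(x_1⋯x_r)] with u_i the unit of B defined by x_i for i ≤ r, and suppose that the module Ω_A of
absolute Kähler differentials of A is free with a basis b indexed by {1, …, N} ⊔ ι whose i-th vector
is d(x_i) for i ≤ N. Then the module of logarithmic 1-forms — the A-submodule of Ω_B spanned by the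
image of Ω_A and the forms u_i⁻¹ · d(x_i), i ≤ r — is a free A-module: it has a basis indexed by {1,
…, N} ⊔ ι whose vector at i ≤ r is u_i⁻¹ · d(x_i), at r < i ≤ N is d(x_i), and at k ∈ ι is the image
of b_k. (In the published statement A is a regular local F-finite algebra over the prime field with
maximal ideal (x_1, …, x_N), the basis of Ω_A comes from the preceding lemma, and the assertion
covers the logarithmic q-forms for all q together with their identification with the log de Rham
complex of the log ring; only the degree-one freeness is stated here, from the properties of A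
actually used.) -/
theorem result (p : ℕ) [Fact p.Prime]
    {A B : Type u} [CommRing A] [IsDomain A] [CharP A p] [CommRing B] [Algebra A B] {r N : ℕ}
    (hr : r ≤ N) (x : Fin N → A) [IsLocalization.Away (∏ i : Fin r, x (Fin.castLE hr i)) B]
    (u : Fin r → Bˣ) (hu : ∀ i, (u i : B) = algebraMap A B (x (Fin.castLE hr i)))
    {ι : Type u} (b : Module.Basis (Fin N ⊕ ι) A (Ω[A⁄ℤ])) (hb : ∀ i, b (Sum.inl i) = D ℤ A (x i)) :
    ∃ e : Module.Basis (Fin N ⊕ ι) A
        (W4c6katofilta.logForms1 (fun i : Fin r => x (Fin.castLE hr i)) u),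
      (∀ i : Fin r, (e (Sum.inl (Fin.castLE hr i)) : Ω[B⁄ℤ]) =
          ((u i)⁻¹ : Bˣ) • KaehlerDifferential.map ℤ ℤ A B (D ℤ A (x (Fin.castLE hr i)))) ∧
      (∀ i : Fin N, r ≤ (i : ℕ) →
          (e (Sum.inl i) : Ω[B⁄ℤ]) = KaehlerDifferential.map ℤ ℤ A B (D ℤ A (x i))) ∧
      (∀ k : ι, (e (Sum.inr k) : Ω[B⁄ℤ]) = KaehlerDifferential.map ℤ ℤ A B (b (Sum.inr k))) := by
  classical
  obtain ⟨P, hP⟩ : ∃ P : A, P = ∏ i : Fin r, x (Fin.castLE hr i) := ⟨_, rfl⟩
  have hloc : IsLocalization (Submonoid.powers P) B := by rw [hP]; infer_instance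
  have hx0 : ∀ j, x j ≠ 0 := by
    intro j h0
    have h1 := b.ne_zero (Sum.inl j)
    rw [hb, h0, map_zero] at h1
    exact h1 rfl
  have hP0 : P ≠ 0 := by rw [hP]; exact Finset.prod_ne_zero_iff.mpr (fun i _ => hx0 _)
  have hinj : Function.Injective (algebraMap A B) :=
    IsLocalization.injective B (M := Submonoid.powers P)
      (powers_le_nonZeroDivisors_of_noZeroDivisors hP0)
  obtain ⟨𝔟, h𝔟⟩ : ∃ 𝔟 : Module.Basis (Fin N ⊕ ι) B (Ω[B⁄ℤ]),
      ∀ j, 𝔟 j = KaehlerDifferential.map ℤ ℤ A B (b j) :=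
    ⟨b.ofIsLocalizedModule B (Submonoid.powers P) (KaehlerDifferential.map ℤ ℤ A B),
      fun j => Module.Basis.ofIsLocalizedModule_apply _ _ _ _ j⟩
  obtain ⟨c, hc1, hc2, hc3⟩ : ∃ c : Fin N ⊕ ι → Bˣ,
      (∀ i : Fin r, c (Sum.inl (Fin.castLE hr i)) = (u i)⁻¹) ∧
      (∀ i : Fin N, r ≤ (i : ℕ) → c (Sum.inl i) = 1) ∧ (∀ k, c (Sum.inr k) = 1) := by
    refine ⟨fun j => Sum.elim (fun i : Fin N => if h : (i : ℕ) < r then (u ⟨i, h⟩)⁻¹ else 1)
      (fun _ => 1) j, ?_, ?_, ?_⟩
    · intro i
      have hlt : ((Fin.castLE hr i : Fin N) : ℕ) < r := by simp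
      simp only [Sum.elim_inl, dif_pos hlt]
      rfl
    · intro i hi; simp only [Sum.elim_inl, dif_neg (not_lt.mpr hi)]
    · intro k; rfl
  obtain ⟨𝔠, h𝔠⟩ : ∃ 𝔠 : Module.Basis (Fin N ⊕ ι) B (Ω[B⁄ℤ]), ∀ j, 𝔠 j = c j • 𝔟 j :=
    ⟨𝔟.unitsSMul c, fun j => Module.Basis.unitsSMul_apply j⟩
  have hliA : LinearIndependent A (fun j => 𝔠 j) := by
    refine 𝔠.linearIndependent.restrict_scalars ?_
    have : (fun a : A => a • (1 : B)) = algebraMap A B := by
      funext a; rw [Algebra.smul_def, mul_one]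
    rw [this]; exact hinj
  obtain ⟨W, hW⟩ : ∃ W : Submodule A (Ω[B⁄ℤ]),
      W = W4c6katofilta.logForms1 (fun i : Fin r => x (Fin.castLE hr i)) u := ⟨_, rfl⟩
  have hmem : ∀ j, 𝔠 j ∈ W := by
    intro j
    rw [hW, h𝔠, h𝔟]
    rcases j with i | k
    · by_cases h : (i : ℕ) < r
      · have hi : i = Fin.castLE hr ⟨i, h⟩ := by ext; simp
        rw [hi, hc1, hb]
        apply Submodule.subset_span
        right
        exact ⟨⟨i, h⟩, rfl⟩
      · rw [hc2 i (not_lt.mp h), one_smul]
        exact Submodule.subset_span (Or.inl ⟨_, rfl⟩)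
    · rw [hc3, one_smul]
      exact Submodule.subset_span (Or.inl ⟨_, rfl⟩)
  have hspan : Submodule.span A (Set.range fun j => 𝔠 j) = W := by
    apply le_antisymm
    · rw [Submodule.span_le]; rintro _ ⟨j, rfl⟩; exact hmem j
    · rw [hW]
      unfold W4c6katofilta.logForms1
      rw [Submodule.span_le]
      rintro _ (⟨ω, rfl⟩ | ⟨i, rfl⟩)
      · have hω : ω ∈ Submodule.span A (Set.range b) := by rw [b.span_eq]; trivial
        induction hω using Submodule.span_induction with
        | mem y hy =>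
          obtain ⟨j, rfl⟩ := hy
          have key : KaehlerDifferential.map ℤ ℤ A B (b j) = ((c j)⁻¹ : Bˣ) • 𝔠 j := by
            rw [h𝔠, h𝔟, smul_smul, inv_mul_cancel, one_smul]
          have hj : 𝔠 j ∈ Submodule.span A (Set.range fun j => 𝔠 j) :=
            Submodule.subset_span ⟨j, rfl⟩
          rw [SetLike.mem_coe, key]
          rcases j with i | k
          · by_cases h : (i : ℕ) < r
            · have hi : i = Fin.castLE hr ⟨i, h⟩ := by ext; simp
              have hci : (c (Sum.inl i))⁻¹ = u ⟨i, h⟩ := by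
                have h2 := hc1 ⟨i, h⟩
                rw [← hi] at h2
                rw [h2, inv_inv]
              rw [hci, Units.smul_def, hu, algebraMap_smul]
              exact Submodule.smul_mem _ _ hj
            · rw [hc2 i (not_lt.mp h), inv_one, one_smul]; exact hj
          · rw [hc3, inv_one, one_smul]; exact hj
        | zero => rw [map_zero]; exact Submodule.zero_mem _
        | add y z _ _ hy hz => rw [map_add]; exact Submodule.add_mem _ hy hz
        | smul a y _ hy => rw [map_smul]; exact Submodule.smul_mem _ a hy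
      · have h1 : 𝔠 (Sum.inl (Fin.castLE hr i)) ∈ Submodule.span A (Set.range fun j => 𝔠 j) :=
          Submodule.subset_span ⟨Sum.inl (Fin.castLE hr i), rfl⟩
        rw [h𝔠, h𝔟, hc1, hb] at h1
        exact h1
  rw [← hW]
  have hli' : LinearIndependent A (fun j => (⟨𝔠 j, hmem j⟩ : W)) := by
    apply LinearIndependent.of_comp W.subtype
    exact hliA
  have hsp' : ⊤ ≤ Submodule.span A (Set.range fun j => (⟨𝔠 j, hmem j⟩ : W)) := by
    intro w _
    have hw : (w : Ω[B⁄ℤ]) ∈ Submodule.span A (Set.range fun j => 𝔠 j) := by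
      rw [hspan]; exact w.2
    have hmap : Submodule.map W.subtype
        (Submodule.span A (Set.range fun j => (⟨𝔠 j, hmem j⟩ : W))) =
        Submodule.span A (Set.range fun j => 𝔠 j) := by
      rw [Submodule.map_span, ← Set.range_comp]; rfl
    rw [← hmap] at hw
    obtain ⟨w', hw', hww'⟩ := hw
    have hEq : w' = w := Subtype.ext hww'
    rwa [← hEq]
  refine ⟨Module.Basis.mk hli' hsp', ?_, ?_, ?_⟩
  · intro i
    rw [Module.Basis.mk_apply]
    show 𝔠 _ = _
    rw [h𝔠, h𝔟, hc1, hb]
  · intro i hi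
    rw [Module.Basis.mk_apply]
    show 𝔠 _ = _
    rw [h𝔠, h𝔟, hc2 i hi, one_smul, hb]
  · intro k
    rw [Module.Basis.mk_apply]
    show 𝔠 _ = _
    rw [h𝔠, h𝔟, hc3, one_smul]

end Groth.Agent.S19273
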