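import Groth.Statements.S19274
import Groth.Agent.H96.LocUFD
import Mathlib.RingTheory.WittVector.InitTail
import Mathlib.RingTheory.WittVector.Domain

set_option autoImplicit false
universe u
open WittFil

namespace Groth.Agent.S19274

open Groth.Agent.H96

/-- the valuation step: `y ^ N * u ^ n ∈ A` and `N ∤ n` imply `y ^ N * u ^ (n - 1) ∈ A`. -/
theorem val_step {A B : Type u} [CommRing A] [IsDomain A] [UniqueFactorizationMonoid A]
    [CommRing B] [Algebra A B] (x : A) (hx : Prime x) [IsLocalization.Away x B] (u : Bˣ)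
    (hu : (u : B) = algebraMap A B x) (N : ℕ) (hN : N ≠ 0) (n : ℤ) (hn : ¬ ((N : ℤ) ∣ n)) (y : B)
    (h : y ^ N * ((u ^ n : Bˣ) : B) ∈ (algebraMap A B).range) :
    y ^ N * ((u ^ (n - 1) : Bˣ) : B) ∈ (algebraMap A B).range := by
  have hinj := algebraMap_injective_of_away (B := B) x hx.ne_zero
  have hun : ∀ e : ℕ, ((u ^ (e : ℤ) : Bˣ) : B) = algebraMap A B (x ^ e) := by
    intro e
    rw [zpow_natCast, Units.val_pow_eq_pow_val, hu, map_pow]
  obtain ⟨w, hw⟩ := h
  -- suffices x ∣ w
  suffices hxw : x ∣ w by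
    obtain ⟨w', rfl⟩ := hxw
    refine ⟨w', ?_⟩
    have : ((u ^ (n - 1) : Bˣ) : B) = ((u ^ n : Bˣ) : B) * ((u⁻¹ : Bˣ) : B) := by
      rw [← Units.val_mul, zpow_sub_one]
    rw [this, ← mul_assoc, ← hw, map_mul, ← hu, mul_comm (u : B), mul_assoc, ← Units.val_mul,
      mul_inv_cancel, Units.val_one, mul_one]
  by_contra hxw
  have hw0 : w ≠ 0 := fun h0 => hxw (h0 ▸ dvd_zero x)
  obtain ⟨k, a, hka⟩ := IsLocalization.Away.surj x y
  have ha0 : a ≠ 0 := by
    rintro rfl
    rw [map_zero] at hka
    have hy : y = 0 := by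
      have hu' : IsUnit (algebraMap A B x ^ k) := (IsLocalization.Away.algebraMap_isUnit x).pow k
      exact (hu'.mul_left_eq_zero).mp hka
    rw [hy, zero_pow hN, zero_mul] at hw
    exact hw0 (hinj (by rw [hw, map_zero]))
  obtain ⟨s, a', ha', rfl⟩ := WfDvdMonoid.max_power_factor ha0 hx.irreducible
  -- y * u^k = u^s * a'
  have h1 : y * ((u ^ (k : ℤ) : Bˣ) : B) = ((u ^ (s : ℤ) : Bˣ) : B) * algebraMap A B a' := by
    rw [hun, hun, map_pow, hka, map_mul]
  -- algebraMap w = u ^ D * a' ^ N
  have h2 : algebraMap A B w =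
      ((u ^ ((s : ℤ) * N + n - (k : ℤ) * N) : Bˣ) : B) * algebraMap A B (a' ^ N) := by
    have hy : y = ((u ^ ((s : ℤ) - (k : ℤ)) : Bˣ) : B) * algebraMap A B a' := by
      rw [zpow_sub, Units.val_mul, mul_assoc, mul_comm _ (algebraMap A B a'), ← mul_assoc, ← h1,
        mul_assoc, ← Units.val_mul, mul_inv_cancel, Units.val_one, mul_one]
    rw [hw, hy, mul_pow, ← Units.val_pow_eq_pow_val, ← zpow_natCast, ← zpow_mul, map_pow,
      mul_assoc, mul_comm _ ((u ^ n : Bˣ) : B), ← mul_assoc, ← Units.val_mul, ← zpow_add]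
    congr 3
    ring
  set D : ℤ := (s : ℤ) * N + n - (k : ℤ) * N with hD
  have hD0 : D ≠ 0 := by
    intro h0
    apply hn
    refine ⟨(k : ℤ) - s, ?_⟩
    rw [hD] at h0
    linear_combination h0
  obtain ⟨e, he | he⟩ := Int.eq_nat_or_neg D
  · -- D = e > 0
    rw [he, hun, ← map_mul] at h2
    have h3 := hinj h2
    have he0 : e ≠ 0 := by
      rintro rfl
      exact hD0 (by rw [he]; rfl)
    apply hxw
    rw [h3]
    exact Dvd.dvd.mul_right (dvd_pow_self x he0) _
  · -- D = -e, e > 0
    have he0 : e ≠ 0 := by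
      rintro rfl
      exact hD0 (by rw [he]; simp)
    have h3 : algebraMap A B (w * x ^ e) = algebraMap A B (a' ^ N) := by
      rw [map_mul, h2, he, ← hun, mul_comm, ← mul_assoc, ← Units.val_mul, ← zpow_add]
      simp
    have h4 := hinj h3
    have h5 : x ∣ a' ^ N := by
      rw [← h4]
      exact Dvd.dvd.mul_left (dvd_pow_self x he0) _
    exact ha' (hx.dvd_of_dvd_pow h5)

theorem witt_decomp (p : ℕ) [Fact p.Prime] {R : Type u} [CommRing R] (z : WittVector p R) :
    z = WittVector.teichmuller p (z.coeff 0) + WittVector.verschiebung (z.shift 1) := by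
  have h := WittVector.init_add_tail z 1
  have h1 : WittVector.init 1 z = WittVector.teichmuller p (z.coeff 0) := by
    ext j
    simp only [WittVector.init, WittVector.select, WittVector.coeff_mk]
    cases j with
    | zero => simp
    | succ j => simp [WittVector.teichmuller_coeff_pos]
  have h2 : WittVector.tail 1 z = WittVector.verschiebung (z.shift 1) := by
    ext j
    simp only [WittVector.tail, WittVector.select, WittVector.coeff_mk]
    cases j with
    | zero => simp [WittVector.verschiebung_coeff_zero]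
    | succ j =>
      rw [WittVector.verschiebung_coeff_succ, WittVector.shift_coeff, add_comm]
      simp
  rw [← h1, ← h2, h]

theorem result (p : ℕ) [Fact p.Prime]
    {A B : Type u} [CommRing A] [IsDomain A] [UniqueFactorizationMonoid A] [CharP A p]
    [CommRing B] [Algebra A B] (x : A) (hx : Prime x) [IsLocalization.Away x B] (u : Bˣ)
    (hu : (u : B) = algebraMap A B x) (m : ℕ) (hm : 0 < m) (n : ℤ) (hn : ¬ ((p : ℤ) ^ m ∣ n)) :
    ∀ a ∈ WittFil.fil p (m + 1) (A := A) ((u ^ n : Bˣ) : B),
      ∃ b ∈ WittFil.fil p (m + 1) (A := A) ((u ^ (n - 1) : Bˣ) : B),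
        ∃ y : WittVector p B,
          WittVector.truncate m y ∈ WittFil.fil p m (A := A) ((u ^ n : Bˣ) : B) ∧
            a = b + WittVector.truncate (m + 1) (WittVector.verschiebung y) := by
  intro a ha
  have hp : p ≠ 0 := (Fact.out : p.Prime).ne_zero
  obtain ⟨z, rfl⟩ := WittVector.truncate_surjective p (m + 1) B a
  refine ⟨WittVector.truncate (m + 1) (WittVector.teichmuller p (z.coeff 0)), ?_, z.shift 1, ?_, ?_⟩
  · intro j
    rw [WittVector.coeff_truncate]
    obtain ⟨j, hj⟩ := j
    cases j with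
    | zero =>
      have h0 := ha ⟨0, hj⟩
      rw [WittVector.coeff_truncate] at h0
      simp only [WittVector.teichmuller_coeff_zero, Nat.add_sub_cancel, Nat.sub_zero] at h0 ⊢
      have hn' : ¬ (((p ^ m : ℕ) : ℤ) ∣ n) := by
        push_cast
        exact hn
      exact val_step x hx u hu (p ^ m) (pow_ne_zero _ hp) n hn' _ h0
    | succ j =>
      simp only
      rw [WittVector.teichmuller_coeff_pos p _ _ (Nat.succ_pos j),
        zero_pow (pow_ne_zero _ hp), zero_mul]
      exact Subring.zero_mem _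
  · intro j
    rw [WittVector.coeff_truncate, WittVector.shift_coeff]
    have h := ha ⟨1 + (j : ℕ), by have := j.2; omega⟩
    rw [WittVector.coeff_truncate] at h
    simp only at h
    have e : m + 1 - 1 - (1 + (j : ℕ)) = m - 1 - (j : ℕ) := by omega
    rw [e] at h
    exact h
  · rw [← map_add, ← witt_decomp]

end Groth.Agent.S19274
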