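import Groth.Statements.S19275
-- no extra imports

set_option autoImplicit false
universe u v w
open Hoch

namespace Groth.Agent.S19275

open TensorProduct

attribute [local instance] CoactBr.Comod.baseChange

section
variable (K : Type u) [Field K] (A : Type v) [CommRing A] [HopfAlgebra K A]
    (V : Type v) [AddCommGroup V] [Module K V] [HopfRep.Comod K A V]
    (R : Type w) [CommRing R] [Algebra K R]

/-- `t ↦ Σ (1 ⊗ t₁) ⊗ (1 ⊗ t₂)` -/
noncomputable def jmap : A ⊗[K] A →ₗ[K] (R ⊗[K] A) ⊗[R] (R ⊗[K] A) :=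
  ((AlgebraTensorModule.tensorTensorTensorComm K R K R R R A A).toLinearMap.restrictScalars K) ∘ₗ
    (TensorProduct.mk K (R ⊗[R] R) (A ⊗[K] A) ((1 : R) ⊗ₜ[R] (1 : R)))

theorem jmap_tmul (a b : A) :
    jmap K A R (a ⊗ₜ[K] b) = ((1 : R) ⊗ₜ[K] a) ⊗ₜ[R] ((1 : R) ⊗ₜ[K] b) := rfl

theorem comul_one_tmul (a : A) :
    Coalgebra.comul (R := R) ((1 : R) ⊗ₜ[K] a) = jmap K A R (Coalgebra.comul (R := K) a) := rfl

theorem redComul_one_tmul (a : A) :
    Hoch.redComul R (R ⊗[K] A) ((1 : R) ⊗ₜ[K] a) = jmap K A R (Hoch.redComul K A a) := by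
  rw [Hoch.redComul_apply, Hoch.redComul_apply, map_sub, map_sub, comul_one_tmul, jmap_tmul,
    jmap_tmul]
  rfl

variable (φ : ∀ n : ℕ, R ⊗[K] (Hoch.cochain K A V n) →ₗ[R]
      (Hoch.cochain R (R ⊗[K] A) (R ⊗[K] V) n))
  (hφ0 : ∀ x : R ⊗[K] V, φ 0 x = x)
  (hφs : ∀ (n : ℕ) (r : R) (c : Hoch.cochain K A V n) (a : A),
      φ (n + 1) (r ⊗ₜ[K] (c ⊗ₜ[K] a)) = (φ n (r ⊗ₜ[K] c)) ⊗ₜ[R] ((1 : R) ⊗ₜ[K] a))

include hφs in
theorem phi_succ (n : ℕ) (x : R ⊗[K] ((Hoch.cochain K A V n) ⊗[K] A)) :
    φ (n + 1) x = (φ n).rTensor (R ⊗[K] A)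
      (AlgebraTensorModule.distribBaseChange K R (Hoch.cochain K A V n) A x) := by
  induction x using TensorProduct.induction_on with
  | zero => simp
  | add x y hx hy => rw [map_add, map_add, map_add, hx, hy]
  | tmul r y =>
    induction y using TensorProduct.induction_on with
    | zero => simp
    | add x y hx hy => rw [TensorProduct.tmul_add, map_add, map_add, map_add, hx, hy]
    | tmul c a =>
      rw [hφs, AlgebraTensorModule.distribBaseChange_tmul, LinearMap.rTensor_tmul]

include hφ0 hφs in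
theorem phi_bijective : ∀ n : ℕ, Function.Bijective (φ n) := by
  intro n
  induction n with
  | zero =>
    have : ⇑(φ 0) = id := funext hφ0
    rw [this]
    exact Function.bijective_id
  | succ n ih =>
    let e : R ⊗[K] (Hoch.cochain K A V n) ≃ₗ[R] (Hoch.cochain R (R ⊗[K] A) (R ⊗[K] V) n) :=
      LinearEquiv.ofBijective (φ n) ih
    have h1 : ⇑(φ (n + 1)) = (⇑(TensorProduct.congr e (LinearEquiv.refl R (R ⊗[K] A)))) ∘
        (⇑(AlgebraTensorModule.distribBaseChange K R (Hoch.cochain K A V n) A)) := by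
      funext x
      rw [phi_succ K A V R φ hφs n x]
      rfl
    rw [h1]
    exact (TensorProduct.congr e (LinearEquiv.refl R (R ⊗[K] A))).bijective.comp
      (AlgebraTensorModule.distribBaseChange K R (Hoch.cochain K A V n) A).bijective

include hφ0 hφs in
theorem phi_one (r : R) (t : V ⊗[K] A) :
    φ 1 (r ⊗ₜ[K] t) = AlgebraTensorModule.tensorTensorTensorComm K R K R R R V A
      (((1 : R) ⊗ₜ[R] r) ⊗ₜ[K] t) := by
  induction t using TensorProduct.induction_on with
  | zero => simp
  | add x y hx hy => rw [TensorProduct.tmul_add, map_add, hx, hy, TensorProduct.tmul_add, map_add]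
  | tmul v a =>
    rw [hφs, hφ0, AlgebraTensorModule.tensorTensorTensorComm_tmul]
    have h1 : r ⊗ₜ[K] v = r • ((1 : R) ⊗ₜ[K] v) := by
      rw [TensorProduct.smul_tmul', smul_eq_mul, mul_one]
    have h2 : r ⊗ₜ[K] a = r • ((1 : R) ⊗ₜ[K] a) := by
      rw [TensorProduct.smul_tmul', smul_eq_mul, mul_one]
    rw [h1, h2, TensorProduct.smul_tmul]

include hφs in
theorem phi_assoc (n : ℕ) (r : R) (c : Hoch.cochain K A V n) (t : A ⊗[K] A) :
    φ (n + 2) (r ⊗ₜ[K] ((TensorProduct.assoc K (Hoch.cochain K A V n) A A).symm (c ⊗ₜ[K] t))) =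
      (TensorProduct.assoc R (Hoch.cochain R (R ⊗[K] A) (R ⊗[K] V) n) (R ⊗[K] A) (R ⊗[K] A)).symm
        ((φ n (r ⊗ₜ[K] c)) ⊗ₜ[R] jmap K A R t) := by
  induction t using TensorProduct.induction_on with
  | zero => simp
  | add x y hx hy =>
    rw [TensorProduct.tmul_add, map_add, TensorProduct.tmul_add, map_add, hx, hy, map_add,
      TensorProduct.tmul_add, map_add]
  | tmul a b =>
    rw [TensorProduct.assoc_symm_tmul, hφs, hφs, jmap_tmul, TensorProduct.assoc_symm_tmul]

include hφ0 hφs in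
theorem phi_d : ∀ (n : ℕ) (x : R ⊗[K] (Hoch.cochain K A V n)),
    φ (n + 1) ((Hoch.d K A V n).baseChange R x) =
      Hoch.d R (R ⊗[K] A) (R ⊗[K] V) n (φ n x) := by
  intro n
  induction n with
  | zero =>
    intro x
    induction x using TensorProduct.induction_on with
    | zero => simp
    | add x y hx hy => rw [map_add, map_add, map_add, map_add, hx, hy]
    | tmul r v =>
      rw [LinearMap.baseChange_tmul, Hoch.d_zero_apply, TensorProduct.tmul_sub, map_sub,
        phi_one K A V R φ hφ0 hφs, hφs, hφ0, Hoch.d_zero_apply]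
      rfl
  | succ n ih =>
    intro x
    induction x using TensorProduct.induction_on with
    | zero => simp
    | add x y hx hy => rw [map_add, map_add, map_add, map_add, hx, hy]
    | tmul r y =>
      induction y using TensorProduct.induction_on with
      | zero => simp
      | add x y hx hy =>
        rw [TensorProduct.tmul_add, map_add, map_add, map_add, map_add, hx, hy]
      | tmul c a =>
        have hIH := ih (r ⊗ₜ[K] c)
        rw [LinearMap.baseChange_tmul] at hIH
        rw [LinearMap.baseChange_tmul, hφs, Hoch.d_succ, Hoch.d_succ, LinearMap.add_apply,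
          LinearMap.add_apply, LinearMap.rTensor_tmul, LinearMap.rTensor_tmul,
          TensorProduct.tmul_add, map_add, hφs, hIH, LinearMap.smul_apply, LinearMap.smul_apply]
        congr 1
        have ht1 : Hoch.tail K A (Hoch.cochain K A V n) (c ⊗ₜ[K] a) =
            (TensorProduct.assoc K (Hoch.cochain K A V n) A A).symm
              (c ⊗ₜ[K] Hoch.redComul K A a) := rfl
        have ht2 : Hoch.tail R (R ⊗[K] A) (Hoch.cochain R (R ⊗[K] A) (R ⊗[K] V) n)
            ((φ n (r ⊗ₜ[K] c)) ⊗ₜ[R] ((1 : R) ⊗ₜ[K] a)) =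
            (TensorProduct.assoc R (Hoch.cochain R (R ⊗[K] A) (R ⊗[K] V) n) (R ⊗[K] A)
              (R ⊗[K] A)).symm
              ((φ n (r ⊗ₜ[K] c)) ⊗ₜ[R] Hoch.redComul R (R ⊗[K] A) ((1 : R) ⊗ₜ[K] a)) := rfl
        have key := phi_assoc K A V R φ hφs n r c (Hoch.redComul K A a)
        rw [← ht1, ← redComul_one_tmul, ← ht2] at key
        rcases Nat.even_or_odd (n + 1) with he | ho
        · rw [he.neg_one_pow, he.neg_one_pow, one_smul, one_smul]
          exact key
        · rw [ho.neg_one_pow, ho.neg_one_pow, neg_one_smul, neg_one_smul, TensorProduct.tmul_neg,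
            map_neg, key]

end

theorem coh_iso {K : Type*} [Field K] {R : Type*} [CommRing R] [Algebra K R]
    {C D : Type*} [AddCommGroup C] [Module K C] [AddCommGroup D] [Module K D]
    {C' D' : Type*} [AddCommGroup C'] [Module R C'] [AddCommGroup D'] [Module R D']
    (d : C →ₗ[K] D) (d' : C' →ₗ[R] D') (B : Submodule K C) (B' : Submodule R C')
    (φ : R ⊗[K] C →ₗ[R] C') (hφ : Function.Bijective φ)
    (φ₁ : R ⊗[K] D →ₗ[R] D') (hφ₁ : Function.Injective φ₁)
    (hcomm : ∀ x, φ₁ (d.baseChange R x) = d' (φ x))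
    (hB1 : ∀ (r : R) (b : C), b ∈ B → φ (r ⊗ₜ[K] b) ∈ B')
    (hB2 : ∀ x : R ⊗[K] C, φ x ∈ B' → x ∈ LinearMap.range (B.subtype.baseChange R)) :
    ∃ e : R ⊗[K] (LinearMap.ker d ⧸ B.comap (LinearMap.ker d).subtype) ≃ₗ[R]
        (LinearMap.ker d' ⧸ B'.comap (LinearMap.ker d').subtype),
      ∀ (r : R) (z : LinearMap.ker d) (hz : φ (r ⊗ₜ[K] (z : C)) ∈ LinearMap.ker d'),
        e (r ⊗ₜ[K] Submodule.Quotient.mk z) =
          Submodule.Quotient.mk ⟨φ (r ⊗ₜ[K] (z : C)), hz⟩ := by
  classical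
  set Z := LinearMap.ker d with hZ
  set Z' := LinearMap.ker d' with hZ'
  set B₀ := B.comap Z.subtype with hB₀
  set B₀' := B'.comap Z'.subtype with hB₀'
  -- flatness
  have hflat : ∀ {M N : Type _} [AddCommGroup M] [AddCommGroup N] [Module K M] [Module K N]
      (f : M →ₗ[K] N), Function.Injective f → Function.Injective (f.baseChange R) := by
    intro M N _ _ _ _ f hf
    exact Module.Flat.lTensor_preserves_injective_linearMap (M := R) f hf
  set ιZ : R ⊗[K] Z →ₗ[R] R ⊗[K] C := Z.subtype.baseChange R with hιZ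
  have hιZinj : Function.Injective ιZ := hflat Z.subtype Z.injective_subtype
  have hdι : ∀ x, d.baseChange R (ιZ x) = 0 := by
    intro x
    rw [hιZ, ← LinearMap.comp_apply, ← LinearMap.baseChange_comp]
    have : d ∘ₗ Z.subtype = 0 := by
      ext z
      exact z.2
    rw [this, LinearMap.baseChange_zero, LinearMap.zero_apply]
  let ψ : R ⊗[K] Z →ₗ[R] Z' := LinearMap.codRestrict Z' (φ ∘ₗ ιZ) (fun x => by
    rw [hZ', LinearMap.mem_ker, LinearMap.comp_apply, ← hcomm, hdι, map_zero])
  have hψ : ∀ x, ((ψ x : Z') : C') = φ (ιZ x) := fun x => rfl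
  have hψsurj : Function.Surjective ψ := by
    intro z'
    obtain ⟨x, hx⟩ := hφ.2 z'.1
    have h1 : d.baseChange R x = 0 := by
      apply hφ₁
      rw [hcomm, hx, map_zero]
      exact z'.2
    have hex : Function.Exact (Z.subtype.lTensor R) (d.lTensor R) :=
      Module.Flat.lTensor_exact R (LinearMap.exact_subtype_ker_map d)
    obtain ⟨y, hy⟩ := (hex x).1 h1
    refine ⟨y, Subtype.ext ?_⟩
    rw [hψ, ← hx]
    congr 1
  set π : R ⊗[K] Z →ₗ[R] R ⊗[K] (Z ⧸ B₀) := B₀.mkQ.baseChange R with hπ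
  have hπsurj : Function.Surjective π :=
    LinearMap.lTensor_surjective R (Submodule.mkQ_surjective B₀)
  set F : R ⊗[K] Z →ₗ[R] (Z' ⧸ B₀') := B₀'.mkQ ∘ₗ ψ with hF
  have hFsurj : Function.Surjective F := (Submodule.mkQ_surjective B₀').comp hψsurj
  have hFmem : ∀ x, F x = 0 ↔ φ (ιZ x) ∈ B' := by
    intro x
    rw [hF, LinearMap.comp_apply, Submodule.mkQ_apply, Submodule.Quotient.mk_eq_zero, hB₀',
      Submodule.mem_comap]
    rfl
  have hker : LinearMap.ker π = LinearMap.ker F := by
    ext x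
    rw [LinearMap.mem_ker, LinearMap.mem_ker, hFmem]
    constructor
    · intro hx
      have hex : Function.Exact (B₀.subtype.lTensor R) (B₀.mkQ.lTensor R) :=
        lTensor_exact R (LinearMap.exact_subtype_mkQ B₀) (Submodule.mkQ_surjective B₀)
      obtain ⟨y, hy⟩ := (hex x).1 hx
      rw [← hy]
      clear hy
      induction y using TensorProduct.induction_on with
      | zero => simp
      | add y₁ y₂ h₁ h₂ =>
        rw [map_add, map_add, map_add]
        exact B'.add_mem h₁ h₂
      | tmul r b =>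
        exact hB1 r _ b.2
    · intro hx
      obtain ⟨y, hy⟩ := hB2 _ hx
      -- the injective map `Z/B₀ → C/B`
      let μ : (Z ⧸ B₀) →ₗ[K] (C ⧸ B) := Submodule.mapQ B₀ B Z.subtype le_rfl
      have hμinj : Function.Injective μ := by
        rw [← LinearMap.ker_eq_bot, Submodule.eq_bot_iff]
        intro q hq
        obtain ⟨z, rfl⟩ := Submodule.Quotient.mk_surjective _ q
        rw [LinearMap.mem_ker, Submodule.mapQ_apply, Submodule.Quotient.mk_eq_zero] at hq
        rw [Submodule.Quotient.mk_eq_zero]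
        exact hq
      apply hflat μ hμinj
      rw [map_zero, hπ, ← LinearMap.comp_apply, ← LinearMap.baseChange_comp]
      have h1 : μ ∘ₗ B₀.mkQ = B.mkQ ∘ₗ Z.subtype := by
        ext z
        rfl
      rw [h1, LinearMap.baseChange_comp, LinearMap.comp_apply, ← hιZ, ← hy,
        ← LinearMap.comp_apply, ← LinearMap.baseChange_comp]
      have h2 : B.mkQ ∘ₗ B.subtype = 0 := by
        ext b
        simp
      rw [h2, LinearMap.baseChange_zero, LinearMap.zero_apply]
  let e : R ⊗[K] (Z ⧸ B₀) ≃ₗ[R] (Z' ⧸ B₀') :=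
    (LinearMap.quotKerEquivOfSurjective π hπsurj).symm ≪≫ₗ
      (Submodule.quotEquivOfEq _ _ hker) ≪≫ₗ (LinearMap.quotKerEquivOfSurjective F hFsurj)
  refine ⟨e, fun r z hz => ?_⟩
  have h1 : (LinearMap.quotKerEquivOfSurjective π hπsurj).symm (r ⊗ₜ[K] Submodule.Quotient.mk z) =
      Submodule.Quotient.mk (r ⊗ₜ[K] z) := by
    rw [LinearEquiv.symm_apply_eq]
    rfl
  change (LinearMap.quotKerEquivOfSurjective F hFsurj) ((Submodule.quotEquivOfEq _ _ hker)
    ((LinearMap.quotKerEquivOfSurjective π hπsurj).symm (r ⊗ₜ[K] Submodule.Quotient.mk z))) = _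
  rw [h1]
  rfl

open TensorProduct in

open TensorProduct in
/-- In the case of an affine group scheme over a field (a K-groupoid acting on Spec K itself),
cohomology commutes with arbitrary base change. Precisely: let K be a field, A a commutative Hopf
algebra over K (the coordinate ring of an affine K-group scheme G), V a right A-comodule (a linear
representation of G) and R any commutative K-algebra. Give R ⊗ V the base-changed comodule structure
over the R-bialgebra R ⊗ A, whose coaction sends r ⊗ v to the image of r ⊗ ρ(v) under the canonical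
identification of R ⊗ (V ⊗ A) with (R ⊗ V) ⊗_R (R ⊗ A), and let φ_n : R ⊗ C^n(A, V) → C^n(R ⊗ A, R ⊗
V) be the canonical R-linear maps between the Hochschild cochain modules, determined by φ_0 = id and
φ_{n+1}(r ⊗ (c ⊗ a)) = φ_n(r ⊗ c) ⊗ (1 ⊗ a). Then every φ_n is bijective, the φ_n commute with the
Hochschild differentials, and for every n there is an R-linear isomorphism R ⊗ H^n(A, V) ≅ H^n(R ⊗
A, R ⊗ V) sending r ⊗ [z] to [φ_n(r ⊗ z)] for every n-cocycle z. (The published statement is for an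
affine K-groupoid acting on the spectrum of a finite extension L of K and its coherent
representations, with K of characteristic 0; this is its case L = K, in which the cochain complex of
a representation is the Hochschild complex of the comodule; V is not assumed finite-dimensional and
K may be any field.) -/
theorem result
    (K : Type u) [Field K] (A : Type v) [CommRing A] [HopfAlgebra K A]
    (V : Type v) [AddCommGroup V] [Module K V] [HopfRep.Comod K A V]
    (R : Type w) [CommRing R] [Algebra K R]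
    (φ : ∀ n : ℕ, R ⊗[K] (Hoch.cochain K A V n) →ₗ[R] (Hoch.cochain R (R ⊗[K] A) (R ⊗[K] V) n))
    (hφ0 : ∀ x : R ⊗[K] V, φ 0 x = x)
    (hφs : ∀ (n : ℕ) (r : R) (c : Hoch.cochain K A V n) (a : A),
      φ (n + 1) (r ⊗ₜ[K] (c ⊗ₜ[K] a)) = (φ n (r ⊗ₜ[K] c)) ⊗ₜ[R] ((1 : R) ⊗ₜ[K] a)) :
    letI := CoactBr.Comod.baseChange K R A V
    (∀ n : ℕ, Function.Bijective (φ n)) ∧
    (∀ (n : ℕ) (x : R ⊗[K] (Hoch.cochain K A V n)),
        φ (n + 1) ((Hoch.d K A V n).baseChange R x) = Hoch.d R (R ⊗[K] A) (R ⊗[K] V) n (φ n x)) ∧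
      ∀ n : ℕ, ∃ e : R ⊗[K] Hoch.H K A V n ≃ₗ[R] Hoch.H R (R ⊗[K] A) (R ⊗[K] V) n,
        ∀ (r : R) (z : Hoch.cocycles K A V n)
          (hz : φ n (r ⊗ₜ[K] (z : Hoch.cochain K A V n)) ∈ Hoch.cocycles R (R ⊗[K] A) (R ⊗[K] V) n),
          e (r ⊗ₜ[K] Hoch.H.mk K A V n z) = Hoch.H.mk R (R ⊗[K] A) (R ⊗[K] V) n ⟨φ n (r ⊗ₜ[K] (z : Hoch.cochain K A V n)), hz⟩ := by
  have hbij := phi_bijective K A V R φ hφ0 hφs
  have hd := phi_d K A V R φ hφ0 hφs
  refine ⟨hbij, hd, fun n => ?_⟩
  have hB : (∀ (r : R) (b : Hoch.cochain K A V n), b ∈ Hoch.coboundaries K A V n →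
      φ n (r ⊗ₜ[K] b) ∈ Hoch.coboundaries R (R ⊗[K] A) (R ⊗[K] V) n) ∧
      (∀ x : R ⊗[K] (Hoch.cochain K A V n),
        φ n x ∈ Hoch.coboundaries R (R ⊗[K] A) (R ⊗[K] V) n →
        x ∈ LinearMap.range ((Hoch.coboundaries K A V n).subtype.baseChange R)) := by
    cases n with
    | zero =>
      constructor
      · intro r b hb
        have hb0 : b = 0 := hb
        rw [hb0, TensorProduct.tmul_zero, map_zero]
        exact Submodule.zero_mem _
      · intro x hx
        have hx0 : φ 0 x = 0 := hx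
        have : x = 0 := (hbij 0).1 (by rw [hx0, map_zero])
        rw [this]
        exact Submodule.zero_mem _
    | succ n =>
      constructor
      · rintro r b ⟨c, rfl⟩
        have h1 := hd n (r ⊗ₜ[K] c)
        rw [LinearMap.baseChange_tmul] at h1
        exact ⟨_, h1.symm⟩
      · rintro x ⟨w', hw'⟩
        obtain ⟨w, rfl⟩ := (hbij n).2 w'
        have h1 : x = (Hoch.d K A V n).baseChange R w := by
          apply (hbij (n + 1)).1
          rw [hd n w]
          exact hw'.symm
        have h2 : Hoch.d K A V n = (LinearMap.range (Hoch.d K A V n)).subtype ∘ₗ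
            (Hoch.d K A V n).rangeRestrict := by
          ext c
          rfl
        rw [h1, h2, LinearMap.baseChange_comp]
        exact ⟨_, rfl⟩
  exact coh_iso (Hoch.d K A V n) (Hoch.d R (R ⊗[K] A) (R ⊗[K] V) n) (Hoch.coboundaries K A V n)
    (Hoch.coboundaries R (R ⊗[K] A) (R ⊗[K] V) n) (φ n) (hbij n) (φ (n + 1)) (hbij (n + 1)).1
    (hd n) hB.1 hB.2

end Groth.Agent.S19275
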