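import Groth.Statements.S19277
import Groth.Agent.H96.CycUnit

set_option autoImplicit false
universe u v
open GrpAlg

namespace Groth.Agent.S19277

/-- Let `M` be a commutative group, `B ≠ B'` subgroups of finite index with `M ⧸ B` and `M ⧸ B'` cyclic,
and `Λ` a commutative ring in which both indices are invertible. Then the localization of the
`Λ[M]`-module `Λ[M ⧸ B]/(Φ_{|M/B|})` at the multiplicative subset of `Λ[M]` of elements with image
`1` in `Λ[M ⧸ B']/(Φ_{|M/B'|})` is zero. (In terms of group schemes: for two distinct dual cyclic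
subgroups σ, σ' of the diagonalizable group with character group `M`, the ring R̃(σ) with
coefficients in `Λ` vanishes after localization at σ'. The published statement has a split torus,
i.e. `M` free of finite rank, and `Λ = ℤ[1/N]` for `N` the order of the subgroup generated by σ and
σ'; here `M` is any commutative group and `Λ` any commutative ring in which the orders of σ and σ'
are invertible.) -/
theorem result (Λ : Type u) [CommRing Λ] (M : Type v)
    [AddCommGroup M] (B B' : AddSubgroup M) [B.FiniteIndex] [B'.FiniteIndex]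
    [IsAddCyclic (M ⧸ B)] [IsAddCyclic (M ⧸ B')] (hne : B ≠ B')
    (hu : IsUnit ((B.index * B'.index : ℕ) : Λ)) :
    Subsingleton (LocalizedModule (W4c6equivkfinstab.locSubmonoid Λ M B')
      (W4c6equivkfinstab.CycQuot Λ (M ⧸ B))) := by
  have huB : IsUnit ((B.index : ℕ) : Λ) := by
    rw [Nat.cast_mul] at hu
    exact isUnit_of_mul_isUnit_left hu
  have huB' : IsUnit ((B'.index : ℕ) : Λ) := by
    rw [Nat.cast_mul] at hu
    exact isUnit_of_mul_isUnit_right hu
  rw [LocalizedModule.subsingleton_iff]
  have hsmul : ∀ (s : AddMonoidAlgebra Λ M) (x : W4c6equivkfinstab.CycQuot Λ (M ⧸ B)),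
      s • x = W4c6equivkfinstab.cycQuotMap Λ M B s * x := fun s x => by
    obtain ⟨x', rfl⟩ := Ideal.Quotient.mk_surjective x
    rfl
  by_cases hBB' : B ≤ B'
  · -- some `b' ∈ B'` is not in `B`
    have hne' : ¬ B' ≤ B := fun h => hne (le_antisymm hBB' h)
    obtain ⟨b', hb', hb'B⟩ := SetLike.not_le_iff_exists.mp hne'
    obtain ⟨v, hv⟩ := Groth.Agent.H96.exists_cycQuotMap_one_sub_mul Λ M B huB b' hb'B
    intro x
    refine ⟨1 - (1 - AddMonoidAlgebra.single b' 1) * v, ?_, ?_⟩
    · show W4c6equivkfinstab.cycQuotMap Λ M B' (1 - (1 - AddMonoidAlgebra.single b' 1) * v) = 1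
      rw [map_sub, map_one, map_mul]
      have h0 : W4c6equivkfinstab.cycQuotMap Λ M B' (1 - AddMonoidAlgebra.single b' 1) = 0 := by
        show Ideal.Quotient.mk _ (W4c6equivkfinstab.quotMap Λ M B'
          (1 - AddMonoidAlgebra.single b' 1)) = 0
        rw [Groth.Agent.H96.quotMap_one_sub_single_of_mem Λ M B' b' hb', map_zero]
      rw [h0, zero_mul, sub_zero]
    · rw [hsmul, map_sub, map_one, hv, sub_self, zero_mul]
  · obtain ⟨b, hb, hbB'⟩ := SetLike.not_le_iff_exists.mp hBB'
    obtain ⟨v, hv⟩ := Groth.Agent.H96.exists_cycQuotMap_one_sub_mul Λ M B' huB' b hbB'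
    intro x
    refine ⟨(1 - AddMonoidAlgebra.single b 1) * v, hv, ?_⟩
    rw [hsmul, map_mul]
    have h0 : W4c6equivkfinstab.cycQuotMap Λ M B (1 - AddMonoidAlgebra.single b 1) = 0 := by
      show Ideal.Quotient.mk _ (W4c6equivkfinstab.quotMap Λ M B
        (1 - AddMonoidAlgebra.single b 1)) = 0
      rw [Groth.Agent.H96.quotMap_one_sub_single_of_mem Λ M B b hb, map_zero]
    rw [h0, zero_mul, zero_mul]

end Groth.Agent.S19277
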