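import Groth.Statements.S19279
import Groth.Agent.H96.CycDecomp

set_option autoImplicit false
universe u v
open GrpAlg

namespace Groth.Agent.S19279

open W4c6equivkfinstab Groth.Agent.H96

/-- subgroups of `M ⧸ B₀` with cyclic quotient. -/
abbrev JIdx (M : Type v) [AddCommGroup M] (B₀ : AddSubgroup M) : Type v :=
  {C : AddSubgroup (M ⧸ B₀) // IsAddCyclic ((M ⧸ B₀) ⧸ C)}

/-- Let `M` be a commutative group, `B₀` a subgroup of finite index and `Λ` a commutative ring in which
the index of `B₀` is invertible. Then the `Λ[M]`-linear map from `Λ[M ⧸ B₀]` to the product, over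
the subgroups `B ⊇ B₀` with `M ⧸ B` cyclic, of the localizations of `Λ[M ⧸ B₀]` at the
multiplicative subsets of `Λ[M]` of elements with image `1` in `Λ[M ⧸ B]/(Φ_{|M/B|})`, with
components the localization maps, is bijective. (In terms of group schemes: for a finite closed
subgroup T' = D(M/B₀) of the diagonalizable group with character group `M`, the representation ring
of T' with coefficients in `Λ` is the product of its localizations at the dual cyclic subgroups of
T'. The published statement has a split torus and `Λ = ℤ[1/|T'|]`; here `M` is any commutative group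
and `Λ` any commutative ring in which the order of T' is invertible.) -/
theorem result (Λ : Type u) [CommRing Λ]
    (M : Type v) [AddCommGroup M] (B₀ : AddSubgroup M) [B₀.FiniteIndex]
    (hu : IsUnit ((B₀.index : ℕ) : Λ)) :
    Function.Bijective (LinearMap.pi (R := AddMonoidAlgebra Λ M)
      fun B : {B : AddSubgroup M // B₀ ≤ B ∧ IsAddCyclic (M ⧸ B)} =>
        LocalizedModule.mkLinearMap (W4c6equivkfinstab.locSubmonoid Λ M B.1)
          (AddMonoidAlgebra Λ (M ⧸ B₀))) := by
  classical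
  have hA : IsUnit ((Nat.card (M ⧸ B₀) : ℕ) : Λ) := hu
  have hker : (QuotientAddGroup.mk' B₀).ker = B₀ := QuotientAddGroup.ker_mk' B₀
  have D1 : ∀ (B : AddSubgroup M), B₀ ≤ B → ∀ s : AddMonoidAlgebra Λ M,
      (cycQuotMap Λ M B s = 1 ↔
        cycQuotMap Λ (M ⧸ B₀) (B.map (QuotientAddGroup.mk' B₀)) (quotMap Λ M B₀ s) = 1) := by
    intro B hle s
    have h := CycDecomp.cycQuotMap_eq_zero_iff_of_le Λ M B₀ B hle (s - 1)
    simp only [map_sub, map_one, sub_eq_zero] at h
    exact h.symm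
  have D2 : ∀ (B : AddSubgroup M) (hle : B₀ ≤ B), IsAddCyclic (M ⧸ B) →
      IsAddCyclic ((M ⧸ B₀) ⧸ B.map (QuotientAddGroup.mk' B₀)) := by
    intro B hle hcyc
    exact isAddCyclic_of_surjective (QuotientAddGroup.quotientQuotientEquivQuotient B₀ B hle).symm
      (QuotientAddGroup.quotientQuotientEquivQuotient B₀ B hle).symm.surjective
  have D2' : ∀ (B : AddSubgroup M) (hle : B₀ ≤ B),
      IsAddCyclic ((M ⧸ B₀) ⧸ B.map (QuotientAddGroup.mk' B₀)) → IsAddCyclic (M ⧸ B) := by
    intro B hle hcyc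
    exact isAddCyclic_of_surjective (QuotientAddGroup.quotientQuotientEquivQuotient B₀ B hle)
      (QuotientAddGroup.quotientQuotientEquivQuotient B₀ B hle).surjective
  have hcomap_le : ∀ C : AddSubgroup (M ⧸ B₀), B₀ ≤ C.comap (QuotientAddGroup.mk' B₀) := by
    intro C b hb
    rw [AddSubgroup.mem_comap, QuotientAddGroup.mk'_apply, (QuotientAddGroup.eq_zero_iff b).mpr hb]
    exact C.zero_mem
  have hmapcomap : ∀ C : AddSubgroup (M ⧸ B₀),
      (C.comap (QuotientAddGroup.mk' B₀)).map (QuotientAddGroup.mk' B₀) = C :=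
    fun C => AddSubgroup.map_comap_eq_self_of_surjective (QuotientAddGroup.mk'_surjective B₀) C
  have hcomapmap : ∀ B : AddSubgroup M, B₀ ≤ B →
      (B.map (QuotientAddGroup.mk' B₀)).comap (QuotientAddGroup.mk' B₀) = B := by
    intro B hle
    apply AddSubgroup.comap_map_eq_self
    rw [hker]
    exact hle
  have hcongr : ∀ C C' : AddSubgroup (M ⧸ B₀), C = C' → IsAddCyclic ((M ⧸ B₀) ⧸ C) →
      IsAddCyclic ((M ⧸ B₀) ⧸ C') := by
    intro C C' h hc
    subst h
    exact hc
  have hsmul : ∀ (s : AddMonoidAlgebra Λ M) (y : AddMonoidAlgebra Λ (M ⧸ B₀)),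
      s • y = quotMap Λ M B₀ s * y := fun s y => by
    rw [Algebra.smul_def]
    rfl
  constructor
  · rw [injective_iff_map_eq_zero]
    intro y hy
    apply CycDecomp.inj_aux Λ (Nat.card (M ⧸ B₀)) (M ⧸ B₀) rfl hA y
    intro C hC
    have hmap := hmapcomap C
    have hle := hcomap_le C
    generalize C.comap (QuotientAddGroup.mk' B₀) = B at hmap hle
    subst hmap
    have hcyc : IsAddCyclic (M ⧸ B) := D2' B hle hC
    have h1 := congrFun hy ⟨B, hle, hcyc⟩
    have h2 : LocalizedModule.mkLinearMap (locSubmonoid Λ M B)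
        (AddMonoidAlgebra Λ (M ⧸ B₀)) y = 0 := h1
    rw [IsLocalizedModule.eq_zero_iff (locSubmonoid Λ M B)] at h2
    obtain ⟨s, hs⟩ := h2
    have hs1 : cycQuotMap Λ M B (s : AddMonoidAlgebra Λ M) = 1 := s.2
    rw [D1 B hle] at hs1
    have hs2 : quotMap Λ M B₀ (s : AddMonoidAlgebra Λ M) * y = 0 := by
      rw [← hsmul]
      exact hs
    calc cycQuotMap Λ (M ⧸ B₀) (B.map (QuotientAddGroup.mk' B₀)) y
        = cycQuotMap Λ (M ⧸ B₀) (B.map (QuotientAddGroup.mk' B₀)) (quotMap Λ M B₀ s) *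
            cycQuotMap Λ (M ⧸ B₀) (B.map (QuotientAddGroup.mk' B₀)) y := by rw [hs1, one_mul]
      _ = 0 := by rw [← map_mul, hs2, map_zero]
  · intro w
    have hφ := CycDecomp.bijective_pi_cycQuotMap Λ (M ⧸ B₀) hA
    choose ε hε using fun C : JIdx M B₀ => hφ.2 (Pi.single C 1)
    have P1 : ∀ C : JIdx M B₀, cycQuotMap Λ (M ⧸ B₀) C.1 (ε C) = 1 := by
      intro C
      have h := congrFun (hε C) C
      rwa [Pi.single_eq_same] at h
    have P2 : ∀ C C' : JIdx M B₀, C' ≠ C → cycQuotMap Λ (M ⧸ B₀) C'.1 (ε C) = 0 := by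
      intro C C' hne
      have h := congrFun (hε C) C'
      rwa [Pi.single_eq_of_ne hne] at h
    have P3 : ∀ (C : JIdx M B₀) (i : AddMonoidAlgebra Λ (M ⧸ B₀)),
        cycQuotMap Λ (M ⧸ B₀) C.1 i = 0 → ε C * i = 0 := by
      intro C i hi
      apply hφ.1
      rw [map_zero]
      funext C'
      show cycQuotMap Λ (M ⧸ B₀) C'.1 (ε C * i) = 0
      rw [map_mul]
      by_cases h : C' = C
      · subst h
        rw [hi, mul_zero]
      · rw [P2 C C' h, zero_mul]
    have P4 : ∀ C C' : JIdx M B₀, C ≠ C' → ε C * ε C' = 0 :=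
      fun C C' hne => P3 C (ε C') (P2 C' C hne)
    have P5 : ∀ C : JIdx M B₀, ε C * ε C = ε C := by
      intro C
      have h := P3 C (ε C - 1) (by rw [map_sub, map_one, P1, sub_self])
      rw [mul_sub, mul_one, sub_eq_zero] at h
      exact h
    have hrep : ∀ B : {B : AddSubgroup M // B₀ ≤ B ∧ IsAddCyclic (M ⧸ B)},
        ∃ (m : AddMonoidAlgebra Λ (M ⧸ B₀)) (s : locSubmonoid Λ M B.1),
          w B = LocalizedModule.mk m s :=
      fun B => LocalizedModule.induction_on (fun m s => ⟨m, s, rfl⟩) (w B)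
    choose m s hms using hrep
    let lift : JIdx M B₀ → {B : AddSubgroup M // B₀ ≤ B ∧ IsAddCyclic (M ⧸ B)} := fun C =>
      ⟨C.1.comap (QuotientAddGroup.mk' B₀), hcomap_le C.1,
        D2' _ (hcomap_le C.1) (hcongr _ _ (hmapcomap C.1).symm C.2)⟩
    let down : {B : AddSubgroup M // B₀ ≤ B ∧ IsAddCyclic (M ⧸ B)} → JIdx M B₀ := fun B =>
      ⟨B.1.map (QuotientAddGroup.mk' B₀), D2 B.1 B.2.1 B.2.2⟩
    have hld : ∀ B, lift (down B) = B := fun B => Subtype.ext (hcomapmap B.1 B.2.1)
    let _ : Fintype (JIdx M B₀) := Fintype.ofFinite _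
    have hy : ∀ C : JIdx M B₀, ε C * (∑ C' : JIdx M B₀, ε C' * m (lift C')) =
        ε C * m (lift C) := by
      intro C
      rw [Finset.mul_sum, Finset.sum_eq_single C]
      · rw [← mul_assoc, P5]
      · intro C' _ hne
        rw [← mul_assoc, P4 C C' (Ne.symm hne), zero_mul]
      · intro h
        exact absurd (Finset.mem_univ C) h
    refine ⟨∑ C' : JIdx M B₀, ε C' * m (lift C'), funext fun B => ?_⟩
    show LocalizedModule.mkLinearMap (locSubmonoid Λ M B.1) _ _ = w B
    rw [hms B, LocalizedModule.mkLinearMap_apply, LocalizedModule.mk_eq]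
    obtain ⟨t, ht⟩ := quotMap_surjective Λ M B₀ (ε (down B))
    have ht1 : cycQuotMap Λ M B.1 t = 1 := by
      rw [D1 B.1 B.2.1, ht]
      exact P1 (down B)
    refine ⟨⟨t, ht1⟩, ?_⟩
    show t • ((s B : AddMonoidAlgebra Λ M) • _) = t • ((1 : AddMonoidAlgebra Λ M) • m B)
    rw [one_smul, hsmul, hsmul, hsmul, ht]
    have hs1 : cycQuotMap Λ (M ⧸ B₀) (down B).1 (quotMap Λ M B₀ (s B)) = 1 :=
      (D1 B.1 B.2.1 _).mp (s B).2
    have h3 : ε (down B) * (quotMap Λ M B₀ (s B) - 1) = 0 :=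
      P3 (down B) _ (by rw [map_sub, map_one, hs1, sub_self])
    rw [mul_sub, mul_one, sub_eq_zero] at h3
    rw [← mul_assoc, h3, hy, hld]

end Groth.Agent.S19279
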