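import Groth.Statements.S19288
import Mathlib

set_option autoImplicit false
universe u
open CategoryTheory CategoryTheory.Limits MonoidalCategory CartesianMonoidalCategory MonObj AlgebraicGeometry
open AbSch

namespace Groth.Agent.S19288

open TopologicalSpace GrpObj


theorem main {S : Scheme.{u}} (P X : Over S)
    [GrpObj P] [GrpObj X]
    [Etale X.hom] [IsSeparated X.hom]
    (hP : ∀ s : S, ConnectedSpace ↥(P.hom.fiber s))
    (f : P ⟶ X) [IsMonHom f] : f = 1 := by
  let e : S ⟶ X.left := η[X].left
  have he : e ≫ X.hom = 𝟙 S := Over.w η[X]
  have heP : η[P].left ≫ P.hom = 𝟙 S := Over.w η[P]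
  haveI : Etale e := by
    apply MorphismProperty.of_postcomp (W := @Etale) (W' := @Etale) e X.hom inferInstance
    rw [he]; infer_instance
  haveI : Mono e := mono_of_mono_fac he
  haveI : IsOpenImmersion e := IsOpenImmersion.of_flat_of_mono e
  haveI : IsClosedImmersion e := by
    apply MorphismProperty.of_postcomp (W := @IsClosedImmersion) (W' := @IsSeparated) e X.hom
      inferInstance
    rw [he]; infer_instance
  -- the clopen set
  let W : Set P.left := f.left ⁻¹' (Set.range e)
  have hWclopen : IsClopen W :=
    ⟨e.isClosedEmbedding.isClosed_range.preimage f.left.continuous,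
      e.isOpenEmbedding.isOpen_range.preimage f.left.continuous⟩
  have hone : η[P] ≫ f = η[X] := IsMonHom.one_hom f
  have hunit : ∀ s : S, η[P].left s ∈ W := by
    intro s
    refine ⟨s, ?_⟩
    have : η[P].left ≫ f.left = e := by
      rw [← Over.comp_left, hone]
    rw [← this]; rfl
  have hW : W = Set.univ := by
    rw [Set.eq_univ_iff_forall]
    intro p
    let s : S := P.hom p
    haveI := hP s
    have hconn : _root_.IsPreconnected (P.hom ⁻¹' {s}) := by
      rw [← Scheme.Hom.range_fiberι]
      exact (isConnected_range (P.hom.fiberι s).continuous).isPreconnected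
    have hmeet : (P.hom ⁻¹' {s} ∩ W).Nonempty := by
      refine ⟨η[P].left s, ?_, hunit s⟩
      change P.hom (η[P].left s) = s
      rw [← Scheme.Hom.comp_apply, heP]; rfl
    exact hconn.subset_isClopen hWclopen hmeet rfl
  have hrange : Set.range f.left ⊆ Set.range e := by
    rintro _ ⟨p, rfl⟩
    have : p ∈ W := by rw [hW]; trivial
    exact this
  let l : P.left ⟶ S := IsOpenImmersion.lift e f.left hrange
  have hl : l ≫ e = f.left := IsOpenImmersion.lift_fac _ _ _
  have hl' : l = P.hom := by
    have h1 : l = f.left ≫ X.hom := by
      rw [← hl, Category.assoc, he, Category.comp_id]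
    rw [h1]; exact Over.w f
  ext1
  rw [← hl, hl']
  rw [Hom.one_def]
  rfl


/-- Let S be a scheme, X a commutative S-group scheme which is etale and separated over S (hence locally
of finite presentation), and P a commutative S-group scheme of finite presentation over S all of
whose fibres are connected. Then every homomorphism of S-group schemes from P to X is trivial (it
factors through the unit section). -/
theorem result {S : Scheme.{u}} (P X : Over S)
    [GrpObj P] [IsCommMonObj P] [GrpObj X] [IsCommMonObj X]
    [Etale X.hom] [IsSeparated X.hom]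
    [QuasiCompact P.hom] [QuasiSeparated P.hom] [LocallyOfFinitePresentation P.hom]
    (hP : ∀ s : S, ConnectedSpace ↥(P.hom.fiber s))
    (f : P ⟶ X) [IsMonHom f] : f = 1 := by
  exact main P X hP f

end Groth.Agent.S19288
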