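import Groth.Statements.S19308
import Mathlib
import Groth.Agent.H25.FibreNZD

set_option autoImplicit false
universe u
open TensorProduct
open CAlg

namespace Groth.Agent.S19308

set_option linter.style.haveILetI false
set_option linter.unusedVariables false
open TensorProduct
open Groth.Agent.H25


/-- Let k be an algebraically closed field, A a finitely generated k-algebra which is an integral domain
(an affine variety X = Spec A), Z a finite (possibly empty) set of k-points of A, R a commutative
k-algebra and U an open dense subset of Spec (R ⊗_k A) = X_R containing every point of Z_R and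
meeting every fibre of X_R → Spec R. Then locally on Spec R there is a principal relative effective
Cartier divisor missing Z_R whose complement lies in U: for every prime p of R there are r ∉ p and f
∈ R[1/r] ⊗_k A such that f is a non-zero-divisor, (R[1/r] ⊗_k A)/(f) is flat over R[1/r], f maps to
a unit under every point of Z, and the basic open set D(f) of X_{R[1/r]} maps into U. (The published
statement is for a quasi-projective variety X and asks for relative Cartier divisors D_i over an
open cover of Spec R; this row is the affine case, to which the published proof reduces, where the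
divisors produced are principal.) -/
theorem result
    (k : Type u) [Field k] [IsAlgClosed k]
    (A : Type u) [CommRing A] [Algebra k A] [IsDomain A] [Algebra.FiniteType k A]
    (Z : Finset (A →ₐ[k] k))
    (R : Type u) [CommRing R] [Algebra k R]
    (U : TopologicalSpace.Opens (PrimeSpectrum (TensorProduct k R A)))
    (hU : Dense (U : Set (PrimeSpectrum (TensorProduct k R A))))
    (hZ : ∀ z ∈ Z, ∀ q : PrimeSpectrum R,
      PrimeSpectrum.comap (Algebra.TensorProduct.lift (AlgHom.id k R) ((Algebra.ofId k R).comp z)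
        (fun _ _ => Commute.all _ _)).toRingHom q ∈ U)
    (hsurj : ∀ q : PrimeSpectrum R, ∃ P ∈ U,
      PrimeSpectrum.comap (Algebra.TensorProduct.includeLeftRingHom : R →+* TensorProduct k R A) P = q)
    (p : PrimeSpectrum R) :
    ∃ r : R, r ∉ p.asIdeal ∧
      ∃ f : TensorProduct k (Localization.Away r) A,
        f ∈ nonZeroDivisors (TensorProduct k (Localization.Away r) A) ∧
        Module.Flat (Localization.Away r)
          (TensorProduct k (Localization.Away r) A ⧸ Ideal.span {f}) ∧
        (∀ z ∈ Z, IsUnit (Algebra.TensorProduct.lift (AlgHom.id k (Localization.Away r))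
          ((Algebra.ofId k (Localization.Away r)).comp z) (fun _ _ => Commute.all _ _) f)) ∧
        (∀ P : PrimeSpectrum (TensorProduct k (Localization.Away r) A), f ∉ P.asIdeal →
          PrimeSpectrum.comap (Algebra.TensorProduct.map
            (IsScalarTower.toAlgHom k R (Localization.Away r)) (AlgHom.id k A)).toRingHom P ∈ U) := by
  classical
  obtain ⟨J, hJ⟩ := (PrimeSpectrum.isClosed_iff_zeroLocus_ideal _).mp U.isOpen.isClosed_compl
  have hUJ : ∀ P : PrimeSpectrum (R ⊗[k] A), P ∈ U ↔ ¬ (J ≤ P.asIdeal) := by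
    intro P
    have h1 : P ∈ (U : Set (PrimeSpectrum (R ⊗[k] A)))ᶜ ↔
        P ∈ PrimeSpectrum.zeroLocus (J : Set (R ⊗[k] A)) := by rw [hJ]
    rw [Set.mem_compl_iff, PrimeSpectrum.mem_zeroLocus, SetLike.coe_subset_coe] at h1
    constructor
    · intro h hle; exact (h1.mpr hle) h
    · intro h; by_contra hn; exact h (h1.mp hn)
  -- the sections
  let zR : (A →ₐ[k] k) → (R ⊗[k] A →ₐ[k] R) := fun z =>
    Algebra.TensorProduct.lift (AlgHom.id k R) ((Algebra.ofId k R).comp z)
      (fun _ _ => Commute.all _ _)
  have hzR : ∀ z s a, zR z (s ⊗ₜ[k] a) = s * algebraMap k R (z a) := by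
    intro z s a
    simp [zR, Algebra.ofId_apply]
  -- the fibre over p
  let ρp := Algebra.TensorProduct.map (Ideal.Quotient.mkₐ k p.asIdeal) (AlgHom.id k A)
  haveI : IsDomain ((R ⧸ p.asIdeal) ⊗[k] A) := by
    haveI : IsDomain (FractionRing (R ⧸ p.asIdeal) ⊗[k] A) := GeomDomain.isDomain_tensor k _ A
    exact Function.Injective.isDomain
      (Algebra.TensorProduct.map (IsScalarTower.toAlgHom k (R ⧸ p.asIdeal)
        (FractionRing (R ⧸ p.asIdeal))) (AlgHom.id k A)).toRingHom
      (GeomIrr.tensor_map_injective (k := k) (R := A)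
        (IsScalarTower.toAlgHom k (R ⧸ p.asIdeal) (FractionRing (R ⧸ p.asIdeal)))
        (fun a b hab => IsFractionRing.injective (R ⧸ p.asIdeal) (FractionRing (R ⧸ p.asIdeal)) hab))
  let Np : Ideal (R ⊗[k] A) := RingHom.ker ρp
  haveI hNpprime : Np.IsPrime := RingHom.ker_isPrime ρp
  have hNple : ∀ P : PrimeSpectrum (R ⊗[k] A),
      PrimeSpectrum.comap (Algebra.TensorProduct.includeLeftRingHom : R →+* R ⊗[k] A) P = p →
      Np ≤ P.asIdeal := by
    intro P hP
    have hk : RingHom.ker (Ideal.Quotient.mkₐ k p.asIdeal) = p.asIdeal := by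
      ext x; exact Ideal.Quotient.eq_zero_iff_mem
    have hker : Np = Ideal.map (Algebra.TensorProduct.includeLeft : R →ₐ[k] R ⊗[k] A) p.asIdeal := by
      show RingHom.ker (Algebra.TensorProduct.map (Ideal.Quotient.mkₐ k p.asIdeal) (AlgHom.id k A)) = _
      rw [Algebra.TensorProduct.rTensor_ker (S := k) _ (Ideal.Quotient.mkₐ_surjective k p.asIdeal), hk]
    rw [hker, Ideal.map_le_iff_le_comap]
    intro r hr
    have : r ∈ (PrimeSpectrum.comap
        (Algebra.TensorProduct.includeLeftRingHom : R →+* R ⊗[k] A) P).asIdeal := by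
      rw [hP]; exact hr
    exact this
  have hJNp : ¬ J ≤ Np := by
    obtain ⟨P, hPU, hP⟩ := hsurj p
    intro hle
    exact (hUJ P).mp hPU (hle.trans (hNple P hP))
  let Pz : (A →ₐ[k] k) → Ideal (R ⊗[k] A) := fun z =>
    (PrimeSpectrum.comap (zR z).toRingHom p).asIdeal
  have hJPz : ∀ z ∈ Z, ¬ J ≤ Pz z := fun z hz => (hUJ _).mp (hZ z hz p)
  -- prime avoidance
  let s : Finset (Ideal (R ⊗[k] A)) := insert Np (Z.image Pz)
  have hnot : ¬ ((J : Set (R ⊗[k] A)) ⊆ ⋃ i ∈ (↑s : Set (Ideal (R ⊗[k] A))), ((id i : Ideal (R ⊗[k] A)) : Set (R ⊗[k] A))) := by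
    rw [Ideal.subset_union_prime (s := s) (f := id) Np Np]
    · rintro ⟨i, hi, hle⟩
      rcases Finset.mem_insert.mp hi with rfl | hi
      · exact hJNp hle
      · obtain ⟨z, hz, rfl⟩ := Finset.mem_image.mp hi
        exact hJPz z hz hle
    · intro i hi _ _
      rcases Finset.mem_insert.mp hi with rfl | hi
      · exact hNpprime
      · obtain ⟨z, hz, rfl⟩ := Finset.mem_image.mp hi
        exact (PrimeSpectrum.comap (zR z).toRingHom p).isPrime
  obtain ⟨f0, hf0J, hf0⟩ := Set.not_subset.mp hnot
  have hf0Np : f0 ∉ Np := fun h => hf0 (Set.mem_biUnion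
    (Finset.mem_coe.mpr (Finset.mem_insert_self _ _)) h)
  have hf0z : ∀ z ∈ Z, zR z f0 ∉ p.asIdeal := fun z hz h => hf0 (Set.mem_biUnion
    (Finset.mem_coe.mpr (Finset.mem_insert_of_mem (Finset.mem_image_of_mem Pz hz))) h)
  -- a functional
  obtain ⟨l, hl⟩ := FibreNZD.exists_Lam_ne_zero (ρp f0) hf0Np
  have hl' : FibreNZD.Lam R l f0 ∉ p.asIdeal := by
    intro h
    apply hl
    rw [← FibreNZD.Lam_map (Ideal.Quotient.mkₐ k p.asIdeal) l f0]
    exact Ideal.Quotient.eq_zero_iff_mem.mpr h
  -- r
  let r : R := FibreNZD.Lam R l f0 * ∏ z ∈ Z, zR z f0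
  have hr : r ∉ p.asIdeal := by
    intro h
    rcases p.isPrime.mem_or_mem h with h1 | h2
    · exact hl' h1
    · obtain ⟨z, hz, hzp⟩ := (Ideal.IsPrime.prod_mem_iff).mp h2
      exact hf0z z hz hzp
  let ψ : R →ₐ[k] Localization.Away r := IsScalarTower.toAlgHom k R (Localization.Away r)
  let Ψ := Algebra.TensorProduct.map ψ (AlgHom.id k A)
  have hrunit : IsUnit (ψ r) := IsLocalization.Away.algebraMap_isUnit r
  have hLunit : IsUnit (FibreNZD.Lam (Localization.Away r) l (Ψ f0)) := by
    rw [← FibreNZD.Lam_map ψ l f0]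
    exact isUnit_of_dvd_unit (map_dvd ψ (Dvd.intro _ rfl)) hrunit
  have hK := FibreNZD.mem_map_of_mul_mem k A (Localization.Away r) (Ψ f0) l hLunit
  refine ⟨r, hr, Ψ f0, ?_, ?_, ?_, ?_⟩
  · -- nonzerodivisor
    rw [mem_nonZeroDivisors_iff_left]
    intro t ht
    have := hK ⊥ t (by rw [ht, Ideal.map_bot]; exact Ideal.zero_mem _)
    rwa [Ideal.map_bot, Ideal.mem_bot] at this
  · -- flatness
    have hflat := FibreNZD.flat_quotient_of_forall_mem (S := Localization.Away r)
      (M := Localization.Away r ⊗[k] A) (LinearMap.mulLeft (Localization.Away r) (Ψ f0))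
      ((Ideal.span {Ψ f0}).restrictScalars (Localization.Away r))
      (fun y => by
        rw [Submodule.restrictScalars_mem, Ideal.mem_span_singleton']
        constructor
        · rintro ⟨a, rfl⟩; exact ⟨a, by rw [LinearMap.mulLeft_apply, mul_comm]⟩
        · rintro ⟨t, rfl⟩; exact ⟨t, by rw [LinearMap.mulLeft_apply, mul_comm]⟩)
      (fun I t ht => by
        rw [Ideal.smul_top_eq_map, Submodule.restrictScalars_mem] at ht ⊢
        exact hK I t ht)
    exact Module.Flat.of_linearEquiv
      (Submodule.Quotient.restrictScalarsEquiv (Localization.Away r) (Ideal.span {Ψ f0})).symm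
  · -- units at the points of Z
    intro z hz
    have hcomm : ∀ x : R ⊗[k] A,
        Algebra.TensorProduct.lift (AlgHom.id k (Localization.Away r))
          ((Algebra.ofId k (Localization.Away r)).comp z) (fun _ _ => Commute.all _ _) (Ψ x) =
          ψ (zR z x) := by
      intro x
      induction x using TensorProduct.induction_on with
      | zero => simp
      | tmul s a =>
        rw [hzR]
        simp [Ψ, Algebra.ofId_apply]
      | add x y hx hy => simp only [map_add, hx, hy]
    rw [hcomm]
    refine isUnit_of_dvd_unit (map_dvd ψ ?_) hrunit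
    exact Dvd.dvd.mul_left (Finset.dvd_prod_of_mem (fun z => zR z f0) hz) _
  · -- the basic open lies in U
    intro P hfP
    rw [hUJ]
    intro hle
    exact hfP (hle hf0J)

end Groth.Agent.S19308
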