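import Groth.Statements.S19309
import Mathlib

set_option autoImplicit false
set_option linter.style.haveILetI false
set_option linter.unusedSectionVars false
set_option linter.unusedVariables false
universe u
open PowerSeries LaurentSeries
open CAlg

namespace Groth.Agent.S19309

section Helpers

variable {R R' : Type u} [CommRing R] [CommRing R']

theorem coeff_theta (φ : R →+* R') (θ : R⸨X⸩ →+* R'⸨X⸩)
    (hθ : θ.comp (algebraMap R⟦X⟧ R⸨X⸩) = (algebraMap R'⟦X⟧ R'⸨X⸩).comp (PowerSeries.map φ))
    (f : R⸨X⸩) (n : ℤ) : (θ f).coeff n = φ (f.coeff n) := by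
  obtain ⟨⟨g, ⟨_, N, rfl⟩⟩, h⟩ :=
    IsLocalization.surj (Submonoid.powers (PowerSeries.X : R⟦X⟧)) f
  have h1 : f * HahnSeries.single (N : ℤ) (1 : R) = HahnSeries.ofPowerSeries ℤ R g := by
    rw [← HahnSeries.ofPowerSeries_X_pow]
    exact h
  have hθg : ∀ p : R⟦X⟧, θ (HahnSeries.ofPowerSeries ℤ R p)
      = HahnSeries.ofPowerSeries ℤ R' (PowerSeries.map φ p) := by
    intro p
    exact RingHom.congr_fun hθ p
  have e1 : θ (HahnSeries.single (N : ℤ) (1 : R)) = HahnSeries.single (N : ℤ) (1 : R') := by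
    rw [← HahnSeries.ofPowerSeries_X_pow (R := R), hθg, map_pow, PowerSeries.map_X,
      HahnSeries.ofPowerSeries_X_pow]
  have h2 : θ f * HahnSeries.single (N : ℤ) (1 : R')
      = HahnSeries.ofPowerSeries ℤ R' (PowerSeries.map φ g) := by
    rw [← e1, ← map_mul, h1, hθg]
  have c1 : f.coeff n = (HahnSeries.ofPowerSeries ℤ R g).coeff (n + N) := by
    rw [← h1, HahnSeries.coeff_mul_single_add, mul_one]
  have c2 : (θ f).coeff n
      = (HahnSeries.ofPowerSeries ℤ R' (PowerSeries.map φ g)).coeff (n + N) := by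
    rw [← h2, HahnSeries.coeff_mul_single_add, mul_one]
  rw [c1, c2, PowerSeries.coeff_coe, PowerSeries.coeff_coe]
  split_ifs with hlt
  · simp
  · rw [PowerSeries.coeff_map]

end Helpers


/-- Let k be a field, R a commutative k-algebra, B a finitely presented R⟦X⟧-algebra (an affine scheme V
= Spec B of finite presentation over the disc D_R = Spec R⟦X⟧) and s : B → R((X)) an R⟦X⟧-algebra
map (a section of V over the punctured disc). Then there is an ideal I of R such that for every ring
map φ : R → R', writing θ : R((X)) → R'((X)) for the ring map compatible with R⟦X⟧ → R'⟦X⟧, the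
section s extends to a section over D_{R'} — an R⟦X⟧-algebra map s' : B → R'⟦X⟧ whose composite with
R'⟦X⟧ → R'((X)) is θ ∘ s — if and only if φ kills I. In other words the sub-presheaf of Spec R where
s extends over the disc is the closed subscheme defined by I. -/
theorem result
    (k : Type u) [Field k] (R : Type u) [CommRing R] [Algebra k R]
    (B : Type u) [CommRing B] [Algebra R⟦X⟧ B] [Algebra.FinitePresentation R⟦X⟧ B]
    (s : B →ₐ[R⟦X⟧] R⸨X⸩) :
    ∃ I : Ideal R, ∀ (R' : Type u) [CommRing R'] (φ : R →+* R') (θ : R⸨X⸩ →+* R'⸨X⸩),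
      θ.comp (algebraMap R⟦X⟧ R⸨X⸩) = (algebraMap R'⟦X⟧ R'⸨X⸩).comp (PowerSeries.map φ) →
      ((∃ s' : B →+* R'⟦X⟧, s'.comp (algebraMap R⟦X⟧ B) = PowerSeries.map φ ∧
          (algebraMap R'⟦X⟧ R'⸨X⸩).comp s' = θ.comp s.toRingHom) ↔ I ≤ RingHom.ker φ) := by
  classical
  refine ⟨Ideal.span {c : R | ∃ (b : B) (n : ℤ), n < 0 ∧ c = (s b).coeff n}, ?_⟩
  intro R' _ φ θ hθ
  have hco := coeff_theta φ θ hθ
  have hinj : Function.Injective (algebraMap R'⟦X⟧ R'⸨X⸩) := HahnSeries.ofPowerSeries_injective
  constructor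
  · rintro ⟨s', hs1, hs2⟩
    rw [Ideal.span_le]
    rintro c ⟨b, n, hn, rfl⟩
    rw [SetLike.mem_coe, RingHom.mem_ker, ← hco]
    have hthis : θ (s b) = HahnSeries.ofPowerSeries ℤ R' (s' b) :=
      (RingHom.congr_fun hs2 b).symm
    rw [hthis, PowerSeries.coeff_coe, if_pos hn]
  · intro hI
    have hrange : ∀ b : B, ∃ t : R'⟦X⟧, algebraMap R'⟦X⟧ R'⸨X⸩ t = θ (s b) := by
      intro b
      refine ⟨PowerSeries.mk fun m => (θ (s b)).coeff (m : ℤ), ?_⟩
      ext n
      rw [LaurentSeries.coe_algebraMap, PowerSeries.coeff_coe]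
      split_ifs with hn
      · rw [hco]
        have hmem : (s b).coeff n ∈ RingHom.ker φ :=
          hI (Ideal.subset_span ⟨b, n, hn, rfl⟩)
        exact (RingHom.mem_ker.mp hmem).symm
      · rw [PowerSeries.coeff_mk]
        congr 1
        omega
    choose t ht using hrange
    refine ⟨{ toFun := t
              map_one' := hinj (by simp only [ht, map_one])
              map_mul' := fun a b => hinj (by simp only [ht, map_mul])
              map_zero' := hinj (by simp only [ht, map_zero])
              map_add' := fun a b => hinj (by simp only [ht, map_add]) }, ?_, ?_⟩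
    · refine RingHom.ext fun p => hinj ?_
      show algebraMap R'⟦X⟧ R'⸨X⸩ (t (algebraMap R⟦X⟧ B p))
        = algebraMap R'⟦X⟧ R'⸨X⸩ (PowerSeries.map φ p)
      rw [ht, AlgHom.commutes]
      exact RingHom.congr_fun hθ p
    · refine RingHom.ext fun b => ?_
      show algebraMap R'⟦X⟧ R'⸨X⸩ (t b) = θ (s b)
      exact ht b

end Groth.Agent.S19309
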