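import Groth.Statements.S19310
import Mathlib
import Groth.Agent.H25.GeomDomain

set_option autoImplicit false
universe u
open TensorProduct
open CAlg

namespace Groth.Agent.S19310

set_option linter.style.haveILetI false
set_option linter.unusedVariables false
open TensorProduct


/-- Let k be an algebraically closed field, A a finitely generated k-algebra which is an integral domain
(X = Spec A an affine variety), R a commutative k-algebra, possibly non-reduced, and U an open
subset of X_R = Spec (R ⊗_k A) meeting every fibre of X_R → Spec R (a very dense open subset). Then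
a regular function on X_R whose restriction to U vanishes is zero: if f ∈ R ⊗_k A maps to 0 in the
localisation (R ⊗_k A)[1/g] for every g with D(g) ⊆ U, then f = 0. (The published statement is that
automorphisms of a torsor under a smooth affine group scheme over X_R which are the identity over a
very dense open subset are the identity, for X a smooth projective curve; its proof reduces this to
the present assertion about functions, for quasi-projective X; this row is the affine case.) -/
theorem result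
    (k : Type u) [Field k] [IsAlgClosed k]
    (A : Type u) [CommRing A] [Algebra k A] [IsDomain A] [Algebra.FiniteType k A]
    (R : Type u) [CommRing R] [Algebra k R]
    (U : TopologicalSpace.Opens (PrimeSpectrum (TensorProduct k R A)))
    (hsurj : ∀ q : PrimeSpectrum R, ∃ P ∈ U,
      PrimeSpectrum.comap (Algebra.TensorProduct.includeLeftRingHom : R →+* TensorProduct k R A) P = q)
    (f : TensorProduct k R A)
    (hf : ∀ g : TensorProduct k R A, (PrimeSpectrum.basicOpen g : Set (PrimeSpectrum (TensorProduct k R A))) ⊆ U →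
      algebraMap (TensorProduct k R A) (Localization.Away g) f = 0) :
    f = 0 := by
  classical
  by_contra hne
  let b := Module.Free.chooseBasis k A
  let B := Algebra.TensorProduct.basis R b
  have hBsmul : ∀ (a : R) i, a • B i = a ⊗ₜ[k] b i :=
    fun a i => Algebra.TensorProduct.basis_repr_symm_apply' b a i
  obtain ⟨c, hc⟩ : ∃ c, c = B.repr f := ⟨_, rfl⟩
  have hsumf : (∑ i ∈ c.support, c i ⊗ₜ[k] b i) = f := by
    have := B.linearCombination_repr f
    rw [← hc, Finsupp.linearCombination_apply, Finsupp.sum] at this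
    rw [← this]
    exact Finset.sum_congr rfl (fun i _ => (hBsmul _ _).symm)
  let C : Ideal R := Ideal.span ((c.support.image c : Finset R) : Set R)
  have hCfg : C.FG := ⟨_, rfl⟩
  have hcmem : ∀ i, c i ∈ C := by
    intro i
    by_cases hi : i ∈ c.support
    · exact Ideal.subset_span (Finset.mem_coe.mpr (Finset.mem_image_of_mem c hi))
    · rw [Finsupp.notMem_support_iff.mp hi]; exact zero_mem _
  obtain ⟨i0, hi0⟩ : ∃ i, c i ≠ 0 := by
    by_contra h; push Not at h
    apply hne
    have : c = 0 := Finsupp.ext h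
    rw [hc] at this
    exact B.repr.map_eq_zero_iff.mp this
  have hann : (Submodule.annihilator C : Ideal R) ≠ ⊤ := by
    intro h
    have h1 : (1 : R) ∈ Submodule.annihilator C := h ▸ Submodule.mem_top
    have := Submodule.mem_annihilator.mp h1 (c i0) (hcmem i0)
    rw [one_smul] at this
    exact hi0 this
  obtain ⟨q, hqmax, hq⟩ := Ideal.exists_le_maximal _ hann
  haveI := hqmax
  have hCq : ¬ C ≤ q • C := by
    intro hle
    obtain ⟨r, hr1, hr2⟩ :=
      Submodule.exists_sub_one_mem_and_smul_eq_zero_of_fg_of_le_smul q C hCfg hle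
    have hrq : r ∈ q := hq (Submodule.mem_annihilator.mpr hr2)
    have h1 : (1 : R) ∈ q := by
      have h := q.sub_mem hrq hr1
      rwa [sub_sub_cancel] at h
    exact hqmax.ne_top ((Ideal.eq_top_iff_one q).mpr h1)
  obtain ⟨i1, hi1s, hi1⟩ : ∃ i ∈ c.support, c i ∉ q • C := by
    by_contra h; push Not at h
    apply hCq
    refine Ideal.span_le.mpr ?_
    intro x hx
    obtain ⟨i, hi, rfl⟩ := Finset.mem_image.mp (Finset.mem_coe.mp hx)
    exact h i hi
  letI : Field (R ⧸ q) := Ideal.Quotient.field q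
  have hv : (Submodule.Quotient.mk ⟨c i1, hcmem i1⟩ : ↥C ⧸ (q • (⊤ : Submodule R ↥C))) ≠ 0 := by
    intro h0
    have h1 : (⟨c i1, hcmem i1⟩ : ↥C) ∈ q • (⊤ : Submodule R ↥C) :=
      (Submodule.Quotient.mk_eq_zero _).mp h0
    apply hi1
    have h2 : C.subtype ⟨c i1, hcmem i1⟩ ∈ Submodule.map C.subtype (q • (⊤ : Submodule R ↥C)) :=
      Submodule.mem_map_of_mem h1
    rw [Submodule.map_smul'', Submodule.map_subtype_top] at h2
    exact h2
  obtain ⟨lam, hlam⟩ := Module.Projective.exists_dual_ne_zero (R ⧸ q) hv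
  let ℓ : ↥C →ₗ[R] R ⧸ q :=
    { toFun := fun x => lam (Submodule.Quotient.mk x)
      map_add' := fun x y => by rw [Submodule.Quotient.mk_add, map_add]
      map_smul' := fun r x => by
        show lam (Submodule.Quotient.mk (r • x)) = r • lam (Submodule.Quotient.mk x)
        rw [← Module.Quotient.mk_smul_mk ↥C q r x, map_smul, smul_eq_mul, Algebra.smul_def,
          Ideal.Quotient.algebraMap_eq] }
  let Cs : ↥C →ₗ[k] R := C.subtype.restrictScalars k
  let ℓk : ↥C →ₗ[k] R ⧸ q := ℓ.restrictScalars k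
  let ι : ↥C ⊗[k] A →ₗ[k] R ⊗[k] A := Cs.rTensor A
  let Ψ : ↥C ⊗[k] A →ₗ[k] (R ⧸ q) ⊗[k] A := ℓk.rTensor A
  let π : R ⊗[k] A →ₐ[k] (R ⧸ q) ⊗[k] A :=
    Algebra.TensorProduct.map (Ideal.Quotient.mkₐ k q) (AlgHom.id k A)
  have hι : ∀ (r : ↥C) (a : A), ι (r ⊗ₜ[k] a) = (r : R) ⊗ₜ[k] a := fun r a => rfl
  have hΨ : ∀ (r : ↥C) (a : A), Ψ (r ⊗ₜ[k] a) = ℓ r ⊗ₜ[k] a := fun r a => rfl
  have hπ : ∀ (s : R) (a : A), π (s ⊗ₜ[k] a) = (Ideal.Quotient.mk q s) ⊗ₜ[k] a := fun s a => rfl
  have key : ∀ (g : R ⊗[k] A) (y : ↥C ⊗[k] A),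
      ∃ z : ↥C ⊗[k] A, ι z = g * ι y ∧ Ψ z = π g * Ψ y := by
    intro g
    induction g using TensorProduct.induction_on with
    | zero => intro y; exact ⟨0, by simp, by simp⟩
    | add g1 g2 h1 h2 =>
      intro y
      obtain ⟨z1, h11, h12⟩ := h1 y
      obtain ⟨z2, h21, h22⟩ := h2 y
      exact ⟨z1 + z2, by rw [map_add, h11, h21, add_mul],
        by rw [map_add, h12, h22, map_add, add_mul]⟩
    | tmul s a =>
      intro y
      induction y using TensorProduct.induction_on with
      | zero => exact ⟨0, by simp, by simp⟩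
      | add y1 y2 h1 h2 =>
        obtain ⟨z1, h11, h12⟩ := h1
        obtain ⟨z2, h21, h22⟩ := h2
        exact ⟨z1 + z2, by rw [map_add, h11, h21, map_add, mul_add],
          by rw [map_add, h12, h22, map_add, mul_add]⟩
      | tmul r a' =>
        refine ⟨(s • r) ⊗ₜ[k] (a * a'), ?_, ?_⟩
        · rw [hι, hι, Algebra.TensorProduct.tmul_mul_tmul]; rfl
        · rw [hΨ, hΨ, hπ, Algebra.TensorProduct.tmul_mul_tmul, map_smul, Algebra.smul_def,
            Ideal.Quotient.algebraMap_eq]
  let f' : ↥C ⊗[k] A := ∑ i ∈ c.support, (⟨c i, hcmem i⟩ : ↥C) ⊗ₜ[k] b i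
  have hιf : ι f' = f := by
    simp only [f', map_sum, hι]
    exact hsumf
  have hΨf : Ψ f' = ∑ i ∈ c.support, ℓ ⟨c i, hcmem i⟩ ⊗ₜ[k] b i := by
    simp only [f', map_sum, hΨ]
  -- geometry
  obtain ⟨P, hPU, hPq⟩ := hsurj ⟨q, hqmax.isPrime⟩
  obtain ⟨_, ⟨g, rfl⟩, hPg, hgU⟩ :=
    TopologicalSpace.Opens.isBasis_iff_nbhd.mp PrimeSpectrum.isBasis_basic_opens hPU
  have h0 := hf g (SetLike.coe_subset_coe.mpr hgU)
  obtain ⟨⟨_, n, rfl⟩, hn⟩ :=
    (IsLocalization.map_eq_zero_iff (Submonoid.powers g) (Localization.Away g) f).mp h0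
  have hGf : g ^ n * f = 0 := hn
  have hgP : g ∉ P.asIdeal := hPg
  have hGP : g ^ n ∉ P.asIdeal := fun h => hgP (P.isPrime.mem_of_pow_mem n h)
  have hπG : π (g ^ n) ≠ 0 := by
    intro h
    have hker : g ^ n ∈ RingHom.ker
        (Algebra.TensorProduct.map (Ideal.Quotient.mkₐ k q) (AlgHom.id k A)) := h
    have hk : RingHom.ker (Ideal.Quotient.mkₐ k q) = q := by
      ext x; exact Ideal.Quotient.eq_zero_iff_mem
    rw [Algebra.TensorProduct.rTensor_ker (S := k) _ (Ideal.Quotient.mkₐ_surjective k q),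
      hk] at hker
    have hle : Ideal.map (Algebra.TensorProduct.includeLeft : R →ₐ[k] R ⊗[k] A) q ≤ P.asIdeal := by
      rw [Ideal.map_le_iff_le_comap]
      intro r hr
      have : r ∈ (PrimeSpectrum.comap
          (Algebra.TensorProduct.includeLeftRingHom : R →+* R ⊗[k] A) P).asIdeal := by
        rw [hPq]; exact hr
      exact this
    exact hGP (hle hker)
  obtain ⟨z, hz1, hz2⟩ := key (g ^ n) f'
  rw [hιf, hGf] at hz1
  have hιinj : Function.Injective ι :=
    Module.Flat.rTensor_preserves_injective_linearMap (M := A) Cs (fun a b h => Subtype.ext h)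
  have hz0 : z = 0 := hιinj (by rw [hz1, map_zero])
  rw [hz0, map_zero] at hz2
  haveI : IsDomain ((R ⧸ q) ⊗[k] A) := Groth.Agent.H25.GeomDomain.isDomain_tensor k (R ⧸ q) A
  have hΨ0 : Ψ f' = 0 := (mul_eq_zero.mp hz2.symm).resolve_left hπG
  let B' := Algebra.TensorProduct.basis (R ⧸ q) b
  have hB'smul : ∀ (a : R ⧸ q) i, a • B' i = a ⊗ₜ[k] b i :=
    fun a i => Algebra.TensorProduct.basis_repr_symm_apply' b a i
  have hli := linearIndependent_iff'.mp B'.linearIndependent c.support
    (fun i => ℓ ⟨c i, hcmem i⟩)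
    (by rw [← hΨ0, hΨf]; exact Finset.sum_congr rfl (fun i _ => hB'smul _ _)) i1 hi1s
  exact hlam hli

end Groth.Agent.S19310
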