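import Groth.Statements.S19322
import Groth.Agent.S14355

set_option autoImplicit false
universe v u
open CategoryTheory CategoryTheory.Limits
open SpSeq

namespace Groth.Agent.S19322

set_option linter.unusedVariables false
set_option linter.unusedSectionVars false

open Module

section Lin

variable {K : Type u} [Field K]

/-- homology of a complex of vector spaces at a finite-dimensional term -/
lemma step_fin {ι : Type*} {c : ComplexShape ι} (P : HomologicalComplex (ModuleCat.{v} K) c) (j : ι)
    [Module.Finite K (P.X j)] :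
    Module.Finite K (P.homology j) ∧ finrank K (P.homology j) ≤ finrank K (P.X j) ∧
    (finrank K (P.homology j) = finrank K (P.X j) → ∀ i k, P.d i j = 0 ∧ P.d j k = 0) := by
  have hinj : Function.Injective (P.iCycles j).hom :=
    (ModuleCat.mono_iff_injective _).1 inferInstance
  have hsurj : Function.Surjective (P.homologyπ j).hom :=
    (ModuleCat.epi_iff_surjective _).1 inferInstance
  have hfc : Module.Finite K (P.cycles j) := Module.Finite.of_injective _ hinj
  have hfh : Module.Finite K (P.homology j) := Module.Finite.of_surjective _ hsurj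
  have h1 : finrank K (P.cycles j) ≤ finrank K (P.X j) :=
    LinearMap.finrank_le_finrank_of_injective hinj
  have h2 : finrank K (P.homology j) ≤ finrank K (P.cycles j) :=
    LinearMap.finrank_le_finrank_of_surjective hsurj
  refine ⟨hfh, h2.trans h1, fun heq i k => ?_⟩
  have e1 : finrank K (P.cycles j) = finrank K (P.X j) := le_antisymm h1 (heq ▸ h2)
  have e2 : finrank K (P.cycles j) = finrank K (P.homology j) := by omega
  have s1 : Function.Surjective (P.iCycles j).hom :=
    (LinearMap.injective_iff_surjective_of_finrank_eq_finrank e1).1 hinj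
  have s2 : Function.Injective (P.homologyπ j).hom :=
    (LinearMap.injective_iff_surjective_of_finrank_eq_finrank e2).2 hsurj
  have : Epi (P.iCycles j) := (ModuleCat.epi_iff_surjective _).2 s1
  have : Mono (P.homologyπ j) := (ModuleCat.mono_iff_injective _).2 s2
  constructor
  · have h3 : P.toCycles i j = 0 := by
      rw [← cancel_mono (P.homologyπ j), P.toCycles_comp_homologyπ, zero_comp]
    rw [← P.toCycles_i i j, h3, zero_comp]
  · rw [← cancel_epi (P.iCycles j), P.iCycles_d, comp_zero]

variable {r₀ : ℤ} (E : CohomologicalSpectralSequence (ModuleCat.{v} K) r₀)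

lemma page_succ_fin (pq : ℤ × ℤ) (r : ℤ) (hr : r₀ ≤ r) [Module.Finite K ((E.page r hr).X pq)] :
    Module.Finite K ((E.page (r + 1) (by omega)).X pq) ∧
    finrank K ((E.page (r + 1) (by omega)).X pq) ≤ finrank K ((E.page r hr).X pq) ∧
    (finrank K ((E.page (r + 1) (by omega)).X pq) = finrank K ((E.page r hr).X pq) →
      ∀ i k, (E.page r hr).d i pq = 0 ∧ (E.page r hr).d pq k = 0) := by
  obtain ⟨h1, h2, h3⟩ := step_fin (E.page r hr) pq
  let e := (E.iso r (r + 1) pq rfl hr).toLinearEquiv
  have h4 : finrank K ((E.page (r + 1) (by omega)).X pq) = finrank K ((E.page r hr).homology pq) :=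
    e.finrank_eq.symm
  refine ⟨Module.Finite.equiv e, by omega, fun heq => h3 (by omega)⟩

lemma page_le_fin (pq : ℤ × ℤ) (r : ℤ) (hr : r₀ ≤ r) [Module.Finite K ((E.page r hr).X pq)] :
    ∀ (r' : ℤ) (hrr' : r ≤ r'), Module.Finite K ((E.page r' (hr.trans hrr')).X pq) ∧
      finrank K ((E.page r' (hr.trans hrr')).X pq) ≤ finrank K ((E.page r hr).X pq) := by
  intro r' hrr'
  induction r', hrr' using Int.leInduction with
  | base => exact ⟨inferInstance, le_rfl⟩
  | succ n hn ih =>
    obtain ⟨i1, i2⟩ := ih
    obtain ⟨j1, j2, _⟩ := page_succ_fin E pq n (hr.trans hn)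
    exact ⟨j1, j2.trans i2⟩

/-- sandwich : if the dimension at page `r''` equals that at page `r`, the differentials at all
intermediate pages vanish -/
lemma d_eq_zero_of_finrank_eq (pq : ℤ × ℤ) (r : ℤ) (hr : r₀ ≤ r)
    [Module.Finite K ((E.page r hr).X pq)] (r'' : ℤ) (hrr'' : r ≤ r'')
    (heq : finrank K ((E.page r'' (hr.trans hrr'')).X pq) = finrank K ((E.page r hr).X pq))
    (r' : ℤ) (h1 : r ≤ r') (h2 : r' < r'') (i k : ℤ × ℤ) :
    (E.page r' (hr.trans h1)).d i pq = 0 ∧ (E.page r' (hr.trans h1)).d pq k = 0 := by
  obtain ⟨f1, l1⟩ := page_le_fin E pq r hr r' h1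
  obtain ⟨f2, l2, l3⟩ := page_succ_fin E pq r' (hr.trans h1)
  obtain ⟨f3, l4⟩ := page_le_fin E pq (r' + 1) _ r'' (by omega)
  exact l3 (by omega) i k

end Lin

section Fil

variable {K : Type u} [Field K] (L : SpSeq.FilObj (ModuleCat.{v} K)) [Module.Finite K L.obj]

include L in
lemma step_finite (p : ℤ) : Module.Finite K (L.step p) :=
  Module.Finite.of_injective (L.fil p).arrow.hom ((ModuleCat.mono_iff_injective _).1 inferInstance)

lemma finrank_step (p : ℤ) :
    finrank K (L.step p) = finrank K (L.gr p) + finrank K (L.step (p + 1)) := by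
  have := step_finite L p
  have := step_finite L (p + 1)
  have hS : (ShortComplex.mk (L.stepLE (Int.le_add_one (le_refl p)))
      (cokernel.π (L.stepLE (Int.le_add_one (le_refl p)))) (cokernel.condition _)).ShortExact :=
    { exact := ShortComplex.exact_cokernel _ }
  have hinj := hS.moduleCat_injective_f
  have hsurj := hS.moduleCat_surjective_g
  have hex := hS.exact.moduleCat_range_eq_ker
  dsimp at hinj hsurj hex
  have e1 := LinearMap.finrank_range_add_finrank_ker
    (cokernel.π (L.stepLE (Int.le_add_one (le_refl p)))).hom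
  have e2 : finrank K (LinearMap.range (cokernel.π (L.stepLE (Int.le_add_one (le_refl p)))).hom) =
      finrank K (L.gr p) := by
    rw [LinearMap.range_eq_top.2 hsurj, finrank_top]
    rfl
  have e3 : finrank K (LinearMap.ker (cokernel.π (L.stepLE (Int.le_add_one (le_refl p)))).hom) =
      finrank K (L.step (p + 1)) := by
    rw [← hex]
    exact (LinearEquiv.ofInjective _ hinj).finrank_eq.symm
  omega

lemma sum_gr (m : ℤ) (hm : -1 ≤ m) :
    ∑ s ∈ Finset.Icc (0 : ℤ) m, finrank K (L.gr s) + finrank K (L.step (m + 1)) =
      finrank K (L.step 0) := by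
  induction m, hm using Int.leInduction with
  | base =>
    rw [Finset.Icc_eq_empty (by norm_num), Finset.sum_empty, zero_add]
    rfl
  | succ n hn ih =>
    have : Finset.Icc (0 : ℤ) (n + 1) = insert (n + 1) (Finset.Icc 0 n) := by
      ext x
      simp only [Finset.mem_Icc, Finset.mem_insert]
      omega
    rw [this, Finset.sum_insert (by simp), ← ih, finrank_step L (n + 1)]
    ring

end Fil

/-- Let K be a field and E a cohomological spectral sequence of K-vector spaces, pages from r₀,
concentrated in the first quadrant on page r₀ and with all terms of page r₀ finite-dimensional, and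
let H be abutment data for E whose filtration in degree n is finite, H n finite-dimensional. If the
dimensions of the page-r₀ terms E^{s, n-s}, 0 ≤ s ≤ n, add up to the dimension of H n, then every
position of total degree n is stationary from page r₀ on: all differentials into and out of it
vanish on every page. (The printed statement takes r₀ a positive integer and n ≥ 0; neither
restriction is needed.) -/
theorem result
    {K : Type u} [Field K] {r₀ : ℤ}
    (E : CohomologicalSpectralSequence (ModuleCat.{v} K) r₀) (H : ℤ → ModuleCat.{v} K)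
    (a : SpSeq.Abutment E H) (n : ℤ) (hfin : a.IsFinite n)
    (hquad : ∀ pq : ℤ × ℤ, pq.1 < 0 ∨ pq.2 < 0 → IsZero ((E.page r₀ le_rfl).X pq))
    (hfd : ∀ pq : ℤ × ℤ, Module.Finite K ((E.page r₀ le_rfl).X pq))
    (hH : Module.Finite K (H n))
    (hsum : ∑ s ∈ Finset.Icc (0 : ℤ) n, Module.finrank K ((E.page r₀ le_rfl).X (s, n - s)) =
      Module.finrank K (H n)) :
    ∀ s : ℤ, SpSeq.StationaryAt E (s, n - s) r₀ := by
  have hz : ∀ (pq : ℤ × ℤ), pq.1 < 0 ∨ pq.2 < 0 → ∀ (r : ℤ) (hr : r₀ ≤ r),
      IsZero ((E.page r hr).X pq) :=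
    fun pq h r hr => Groth.Agent.S14355.isZero_page_of_le E pq r₀ le_rfl (hquad pq h) r hr
  intro s
  refine ⟨le_rfl, fun r' h₀ _ => ?_⟩
  by_cases hs : s < 0 ∨ n - s < 0
  · have hZ := hz (s, n - s) hs r' h₀
    exact ⟨hZ.eq_of_tgt _ _, hZ.eq_of_src _ _⟩
  · push Not at hs
    obtain ⟨hs0, hsn⟩ := hs
    have hfH : Module.Finite K (a.filObj n).obj := hH
    have hgrz : ∀ i, i < 0 ∨ n < i → IsZero ((a.filObj n).gr i) := by
      intro i hi
      have h1 := hz (i, n - i) (by
        rcases hi with h | h
        · exact Or.inl h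
        · exact Or.inr (by show n - i < 0; omega)) (a.rk (i, n - i)) (a.stat (i, n - i)).1
      have h2 := IsZero.of_iso h1 (a.β (i, n - i)).symm
      have key : ∀ m, m = n → IsZero (SpSeq.grPiece (a.fil m) (a.anti m) i) →
          IsZero (SpSeq.grPiece (a.fil n) (a.anti n) i) := by
        rintro m rfl h; exact h
      exact key (i + (n - i)) (by ring) h2
    have hK : (a.filObj n).fil 0 = ⊤ := by
      obtain ⟨⟨p, hp⟩, _⟩ := hfin
      rcases le_or_gt 0 p with h | h
      · exact top_le_iff.mp (by rw [← hp]; exact (a.filObj n).anti h)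
      · have : ∀ (m : ℤ) (hm : p ≤ m), m ≤ 0 → (a.filObj n).fil m = ⊤ := by
          intro m hm
          induction m, hm using Int.leInduction with
          | base => intro _; exact hp
          | succ k hk ih =>
            intro hle
            rw [← Groth.Agent.S14355.fil_eq_of_isZero_gr _ k (hgrz k (Or.inl (by omega)))]
            exact ih (by omega)
        exact this 0 h.le le_rfl
    have hL : (a.filObj n).fil (n + 1) = ⊥ := by
      obtain ⟨_, ⟨q, hq⟩⟩ := hfin
      rcases le_or_gt q (n + 1) with h | h
      · exact le_bot_iff.mp (by rw [← hq]; exact (a.filObj n).anti h)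
      · have : ∀ (m : ℤ) (hm : n + 1 ≤ m), (a.filObj n).fil (n + 1) = (a.filObj n).fil m := by
          intro m hm
          induction m, hm using Int.leInduction with
          | base => rfl
          | succ k hk ih =>
            rw [ih]
            exact Groth.Agent.S14355.fil_eq_of_isZero_gr _ k (hgrz k (Or.inr (by omega)))
        rw [this q h.le]
        exact hq
    have hsumgr : ∑ i ∈ Finset.Icc (0 : ℤ) n, finrank K ((a.filObj n).gr i) = finrank K (H n) := by
      have h := sum_gr (a.filObj n) n (by omega)
      have e0 : finrank K ((a.filObj n).step 0) = finrank K (H n) := by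
        have : IsIso ((a.filObj n).fil 0).arrow := (Subobject.isIso_arrow_iff_eq_top _).mpr hK
        exact (asIso ((a.filObj n).fil 0).arrow).toLinearEquiv.finrank_eq
      have e1 : finrank K ((a.filObj n).step (n + 1)) = 0 := by
        have harr : ((a.filObj n).fil (n + 1)).arrow = 0 :=
          Subobject.mk_eq_bot_iff_zero.mp (by rw [Subobject.mk_arrow]; exact hL)
        have hinj : Function.Injective ((a.filObj n).fil (n + 1)).arrow.hom :=
          (ModuleCat.mono_iff_injective _).1 inferInstance
        have : Subsingleton ((a.filObj n).step (n + 1)) := ⟨fun x y => hinj (by rw [harr]; rfl)⟩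
        exact finrank_zero_of_subsingleton
      omega
    have hβ : ∀ i, finrank K ((E.page (a.rk (i, n - i)) (a.stat (i, n - i)).1).X (i, n - i)) =
        finrank K ((a.filObj n).gr i) := by
      intro i
      have e := (a.β (i, n - i)).toLinearEquiv.finrank_eq
      have key : ∀ m, m = n → finrank K (SpSeq.grPiece (a.fil m) (a.anti m) i : ModuleCat.{v} K) =
          finrank K (SpSeq.grPiece (a.fil n) (a.anti n) i : ModuleCat.{v} K) := by
        rintro m rfl; rfl
      exact e.trans (key (i + (n - i)) (by ring))
    have hle : ∀ i ∈ Finset.Icc (0 : ℤ) n,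
        finrank K ((E.page (a.rk (i, n - i)) (a.stat (i, n - i)).1).X (i, n - i)) ≤
          finrank K ((E.page r₀ le_rfl).X (i, n - i)) := by
      intro i _
      have := hfd (i, n - i)
      exact (page_le_fin E (i, n - i) r₀ le_rfl _ (a.stat (i, n - i)).1).2
    have heqs := (Finset.sum_eq_sum_iff_of_le hle).1 (by
      rw [hsum, ← hsumgr]
      exact Finset.sum_congr rfl (fun i _ => hβ i))
    have heq := heqs s (Finset.mem_Icc.2 ⟨hs0, by omega⟩)
    have := hfd (s, n - s)
    by_cases hr' : r' < a.rk (s, n - s)
    · exact d_eq_zero_of_finrank_eq E (s, n - s) r₀ le_rfl (a.rk (s, n - s)) (a.stat _).1 heq r' h₀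
        hr' _ _
    · exact (a.stat (s, n - s)).2 r' h₀ (by omega)

end Groth.Agent.S19322
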