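import Groth.Statements.S19323
import Mathlib.Algebra.Homology.SpectralSequence.Basic
import Mathlib.Algebra.Homology.ShortComplex.HomologicalComplex
import Mathlib.Tactic.Linarith

set_option autoImplicit false
universe v u
open CategoryTheory CategoryTheory.Limits
open SpSeq

namespace Groth.Agent.S19323

/-- If all four differentials around `j` vanish in `K` and `L`, then a chain map which is a
monomorphism in degree `j` induces a monomorphism on homology in degree `j`. -/
lemma mono_homologyMap {C : Type u} [Category.{v} C] [Abelian C]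
    {ι : Type*} {c : ComplexShape ι} {K L : HomologicalComplex C c} (f : K ⟶ L) (i j k : ι)
    (hi : c.prev j = i) (hk : c.next j = k)
    (h1 : K.d i j = 0) (h2 : K.d j k = 0) (h3 : L.d i j = 0) (h4 : L.d j k = 0)
    [Mono (f.f j)] : Mono (HomologicalComplex.homologyMap f j) := by
  have i1 : IsIso (K.iCycles j) := K.isIso_iCycles j k hk h2
  have i2 : IsIso (L.iCycles j) := L.isIso_iCycles j k hk h4
  have i3 : IsIso (K.homologyπ j) := K.isIso_homologyπ i j hi h1
  have i4 : IsIso (L.homologyπ j) := L.isIso_homologyπ i j hi h3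
  have m1 : Mono (HomologicalComplex.cyclesMap f j) := by
    have : Mono (K.iCycles j ≫ f.f j) := mono_comp _ _
    exact mono_of_mono_fac (HomologicalComplex.cyclesMap_i f j)
  have e : HomologicalComplex.homologyMap f j =
      inv (K.homologyπ j) ≫ (HomologicalComplex.cyclesMap f j ≫ L.homologyπ j) := by
    rw [← HomologicalComplex.homologyπ_naturality, IsIso.inv_hom_id_assoc]
  rw [e]
  infer_instance

section

variable {C : Type u} [Category.{v} C] [Abelian C]
  (E E' : E₂CohomologicalSpectralSequence C) (φ : E ⟶ E')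

lemma d_eq_zero
    (hφd : ∀ (r : ℤ) (hr : 2 ≤ r) (pq : ℤ × ℤ),
      (φ.hom r hr).f pq ≫ (E'.page r hr).d pq (pq + (r, 1 - r)) = 0)
    (r : ℤ) (hr : 2 ≤ r)
    (ha : ∀ pq : ℤ × ℤ, pq.1 < 0 → IsZero ((E.page r hr).X pq))
    (hb : ∀ pq : ℤ × ℤ, r ≤ pq.1 → Mono ((φ.hom r hr).f pq))
    (pq pq' : ℤ × ℤ) : (E.page r hr).d pq pq' = 0 := by
  by_cases hrel : pq + (r, 1 - r) = pq'
  · subst hrel
    by_cases hp : pq.1 < 0
    · exact (ha pq hp).eq_of_src _ _
    · have hm : Mono ((φ.hom r hr).f (pq + (r, 1 - r))) := by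
        apply hb
        simp only [Prod.fst_add]
        omega
      rw [← cancel_mono ((φ.hom r hr).f (pq + (r, 1 - r))), zero_comp,
        ← (φ.hom r hr).comm pq _, hφd]
  · exact (E.page r hr).shape pq pq' hrel

end

/-- In an abelian category let E and E' be first-quadrant E₂ cohomological spectral sequences and φ : E
⟶ E' a morphism of spectral sequences such that (i) every differential of E' leaving a position
whose first coordinate is nonzero vanishes, (ii) on every page the map φ at each position followed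
by the outgoing differential of E' is zero, and (iii) φ is a monomorphism at every position of page
2. Then E degenerates at page 2. -/
theorem result
    {C : Type u} [Category.{v} C] [Abelian C]
    (E E' : E₂CohomologicalSpectralSequence C) (φ : E ⟶ E')
    (hE : ∀ pq : ℤ × ℤ, pq.1 < 0 ∨ pq.2 < 0 → IsZero ((E.page 2 le_rfl).X pq))
    (hE' : ∀ pq : ℤ × ℤ, pq.1 < 0 ∨ pq.2 < 0 → IsZero ((E'.page 2 le_rfl).X pq))
    (hd' : ∀ (r : ℤ) (hr : 2 ≤ r) (pq : ℤ × ℤ), pq.1 ≠ 0 →
      (E'.page r hr).d pq (pq + (r, 1 - r)) = 0)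
    (hφd : ∀ (r : ℤ) (hr : 2 ≤ r) (pq : ℤ × ℤ),
      (φ.hom r hr).f pq ≫ (E'.page r hr).d pq (pq + (r, 1 - r)) = 0)
    (hmono : ∀ pq : ℤ × ℤ, Mono ((φ.hom 2 le_rfl).f pq)) :
    SpSeq.Degenerates E 2 := by
  have _hE' := hE'
  have key : ∀ (r : ℤ) (hr : 2 ≤ r),
      (∀ pq : ℤ × ℤ, pq.1 < 0 → IsZero ((E.page r hr).X pq)) ∧
      (∀ pq : ℤ × ℤ, r ≤ pq.1 → Mono ((φ.hom r hr).f pq)) := by
    intro r hr
    induction r, hr using Int.leInduction with
    | base => exact ⟨fun pq hp => hE pq (Or.inl hp), fun pq _ => hmono pq⟩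
    | succ r hr ih =>
      obtain ⟨ha, hb⟩ := ih
      have hd := d_eq_zero E E' φ hφd r hr ha hb
      refine ⟨fun pq hp => ?_, fun pq hp => ?_⟩
      · have hz : IsZero ((E.page r hr).homology pq) :=
          (HomologicalComplex.ExactAt.of_isZero (ha pq hp)).isZero_homology
        exact hz.of_iso (E.iso r (r + 1) pq rfl hr).symm
      · have hm : Mono ((φ.hom r hr).f pq) := hb pq (by omega)
        have hne1 : (pq - (r, 1 - r)).1 ≠ 0 := by
          simp only [Prod.fst_sub]
          omega
        have hne2 : pq.1 ≠ 0 := by omega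
        have h3 : (E'.page r hr).d (pq - (r, 1 - r)) pq = 0 := by
          have h := hd' r hr (pq - (r, 1 - r)) hne1
          rwa [sub_add_cancel] at h
        have h4 : (E'.page r hr).d pq (pq + (r, 1 - r)) = 0 := hd' r hr pq hne2
        have hmonoH : Mono (HomologicalComplex.homologyMap (φ.hom r hr) pq) :=
          mono_homologyMap (φ.hom r hr) (pq - (r, 1 - r)) pq (pq + (r, 1 - r))
            ((ComplexShape.up' (⟨r, 1 - r⟩ : ℤ × ℤ)).prev_eq' (sub_add_cancel pq _))
            ((ComplexShape.up' (⟨r, 1 - r⟩ : ℤ × ℤ)).next_eq' rfl)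
            (hd _ _) (hd _ _) h3 h4
        have hcomm := φ.comm r (r + 1) pq rfl hr
        have e : (φ.hom (r + 1) (by omega)).f pq =
            (E.iso r (r + 1) pq rfl hr).inv ≫
              HomologicalComplex.homologyMap (φ.hom r hr) pq ≫
                (E'.iso r (r + 1) pq rfl hr).hom := by
          rw [hcomm, Iso.inv_hom_id_assoc]
        rw [e]
        infer_instance
  refine ⟨le_rfl, fun r' h₀ _ pq pq' => ?_⟩
  obtain ⟨ha, hb⟩ := key r' h₀
  exact d_eq_zero E E' φ hφd r' h₀ ha hb pq pq'

end Groth.Agent.S19323
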