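import Groth.Statements.S19326
import Mathlib.RingTheory.Bialgebra.MonoidAlgebra
import Mathlib.RingTheory.Coalgebra.MonoidAlgebra
import Mathlib.Algebra.MonoidAlgebra.Module
import Mathlib.LinearAlgebra.TensorProduct.Associator
import Mathlib.LinearAlgebra.Basis.Defs

set_option autoImplicit false
universe u
open TensorProduct
open GLin

namespace Groth.Agent.S19326

section General

variable {k : Type u} [CommRing k] {M : Type u} [AddCommGroup M] [Fintype M] [DecidableEq M]

/-- coordinate functional at `a` on `k[M]` -/
noncomputable def φ (a : M) : AddMonoidAlgebra k M →ₗ[k] k :=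
  (AddMonoidAlgebra.basis M k).coord a

omit [Fintype M] in
lemma φ_single (a b : M) :
    φ (k := k) a (AddMonoidAlgebra.single b 1) = if b = a then 1 else 0 := by
  have h := (AddMonoidAlgebra.basis M k).repr_self_apply b a
  rw [AddMonoidAlgebra.basis_apply] at h
  rw [φ, Module.Basis.coord_apply]
  exact h

omit [DecidableEq M] in
lemma sum_φ_smul (x : AddMonoidAlgebra k M) :
    ∑ a, φ a x • AddMonoidAlgebra.single a (1 : k) = x := by
  have h := (AddMonoidAlgebra.basis M k).sum_repr x
  simpa only [φ, Module.Basis.coord_apply, AddMonoidAlgebra.basis_apply] using h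

omit [DecidableEq M] in
lemma sum_φ (x : AddMonoidAlgebra k M) : ∑ a, φ a x = Coalgebra.counit (R := k) x := by
  conv_rhs => rw [← sum_φ_smul x]
  rw [map_sum]
  refine Finset.sum_congr rfl fun a _ => ?_
  rw [map_smul,
    (AddMonoidAlgebra.isGroupLikeElem_single_one (R := k) (A := k) a).counit_eq_one,
    smul_eq_mul, mul_one]

/-- `x ⊗ y ↦ φ_a(y) • x` -/
noncomputable def ψ (a : M) :
    AddMonoidAlgebra k M ⊗[k] AddMonoidAlgebra k M →ₗ[k] AddMonoidAlgebra k M :=
  (TensorProduct.rid k (AddMonoidAlgebra k M)).toLinearMap ∘ₗ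
    (φ a).lTensor (AddMonoidAlgebra k M)

omit [Fintype M] [DecidableEq M] in
lemma ψ_tmul (a : M) (x y : AddMonoidAlgebra k M) : ψ a (x ⊗ₜ[k] y) = φ a y • x := by
  simp [ψ]

omit [Fintype M] in
lemma ψ_comul (a : M) (x : AddMonoidAlgebra k M) :
    ψ a (Coalgebra.comul (R := k) x) = φ a x • AddMonoidAlgebra.single a (1 : k) := by
  have key : (ψ a) ∘ₗ (Coalgebra.comul (R := k) (A := AddMonoidAlgebra k M)) =
      (φ a).smulRight (AddMonoidAlgebra.single a (1 : k)) := by
    refine (AddMonoidAlgebra.basis M k).ext fun b => ?_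
    rw [AddMonoidAlgebra.basis_apply, LinearMap.comp_apply,
      (AddMonoidAlgebra.isGroupLikeElem_single_one (R := k) (A := k) b).comul_eq_tmul_self,
      ψ_tmul, LinearMap.smulRight_apply, φ_single]
    split_ifs with h
    · rw [h]
    · simp
  exact LinearMap.congr_fun key x

variable {V : Type u} [AddCommGroup V] [Module k V]

/-- The `a`-component map `V ⊗ k[M] → V`. -/
noncomputable def P (a : M) : V ⊗[k] AddMonoidAlgebra k M →ₗ[k] V :=
  (TensorProduct.rid k V).toLinearMap ∘ₗ (φ a).lTensor V

omit [Fintype M] [DecidableEq M] in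
lemma P_tmul (a : M) (v : V) (x : AddMonoidAlgebra k M) :
    P a (v ⊗ₜ[k] x) = φ a x • v := by
  simp [P]

omit [DecidableEq M] in
lemma expand (t : V ⊗[k] AddMonoidAlgebra k M) :
    ∑ a, (P a t) ⊗ₜ[k] AddMonoidAlgebra.single a (1 : k) = t := by
  induction t using TensorProduct.induction_on with
  | zero => simp
  | tmul v x =>
    simp only [P_tmul]
    conv_rhs => rw [← sum_φ_smul x]
    rw [TensorProduct.tmul_sum]
    refine Finset.sum_congr rfl fun a _ => ?_
    rw [TensorProduct.smul_tmul]
  | add x y hx hy =>
    simp only [map_add, TensorProduct.add_tmul, Finset.sum_add_distrib, hx, hy]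

omit [DecidableEq M] in
lemma sum_P (t : V ⊗[k] AddMonoidAlgebra k M) :
    ∑ a, P a t = TensorProduct.rid k V
      ((Coalgebra.counit (R := k) (A := AddMonoidAlgebra k M)).lTensor V t) := by
  induction t using TensorProduct.induction_on with
  | zero => simp
  | tmul v x =>
    simp only [P_tmul, LinearMap.lTensor_tmul, TensorProduct.rid_tmul]
    rw [← Finset.sum_smul, sum_φ]
  | add x y hx hy =>
    simp only [map_add, Finset.sum_add_distrib, hx, hy]

omit [Fintype M] [DecidableEq M] in
lemma aux1 (a : M) (s : V ⊗[k] AddMonoidAlgebra k M) (x : AddMonoidAlgebra k M) :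
    (ψ a).lTensor V (TensorProduct.assoc k V (AddMonoidAlgebra k M) (AddMonoidAlgebra k M)
      (s ⊗ₜ[k] x)) = φ a x • s := by
  induction s using TensorProduct.induction_on with
  | zero => simp
  | tmul w y =>
    rw [TensorProduct.assoc_tmul, LinearMap.lTensor_tmul, ψ_tmul, TensorProduct.tmul_smul]
  | add s₁ s₂ h₁ h₂ =>
    rw [TensorProduct.add_tmul, map_add, map_add, h₁, h₂, smul_add]

variable [HopfRep.Comod k (AddMonoidAlgebra k M) V]

omit [Fintype M] [DecidableEq M] in
lemma aux2 (a : M) (t : V ⊗[k] AddMonoidAlgebra k M) :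
    (ψ a).lTensor V (TensorProduct.assoc k V (AddMonoidAlgebra k M) (AddMonoidAlgebra k M)
      ((HopfRep.Comod.coact (k := k) (A := AddMonoidAlgebra k M) (V := V)).rTensor
        (AddMonoidAlgebra k M) t)) =
      HopfRep.Comod.coact (k := k) (A := AddMonoidAlgebra k M) (P a t) := by
  induction t using TensorProduct.induction_on with
  | zero => simp
  | tmul v x =>
    rw [LinearMap.rTensor_tmul, aux1, P_tmul, map_smul]
  | add s₁ s₂ h₁ h₂ =>
    simp only [map_add, h₁, h₂]

omit [Fintype M] in
lemma aux3 (a : M) (t : V ⊗[k] AddMonoidAlgebra k M) :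
    (ψ a).lTensor V ((Coalgebra.comul (R := k) (A := AddMonoidAlgebra k M)).lTensor V t) =
      (P a t) ⊗ₜ[k] AddMonoidAlgebra.single a (1 : k) := by
  induction t using TensorProduct.induction_on with
  | zero => simp
  | tmul v x =>
    rw [LinearMap.lTensor_tmul, LinearMap.lTensor_tmul, ψ_comul, P_tmul,
      TensorProduct.tmul_smul, TensorProduct.smul_tmul']
  | add s₁ s₂ h₁ h₂ =>
    simp only [map_add, TensorProduct.add_tmul, h₁, h₂]

omit [Fintype M] in
lemma coact_P (a : M) (f : V) :
    HopfRep.Comod.coact (k := k) (A := AddMonoidAlgebra k M)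
        (P a (HopfRep.Comod.coact (k := k) (A := AddMonoidAlgebra k M) f)) =
      (P a (HopfRep.Comod.coact (k := k) (A := AddMonoidAlgebra k M) f)) ⊗ₜ[k]
        AddMonoidAlgebra.single a (1 : k) := by
  have h := LinearMap.congr_fun
    (HopfRep.Comod.coassoc (k := k) (A := AddMonoidAlgebra k M) (V := V)) f
  simp only [LinearMap.comp_apply, LinearEquiv.coe_coe] at h
  rw [← aux2, h, aux3]

omit [DecidableEq M] in
lemma sum_P_coact (f : V) :
    ∑ a, P a (HopfRep.Comod.coact (k := k) (A := AddMonoidAlgebra k M) f) = f := by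
  have h := LinearMap.congr_fun
    (HopfRep.Comod.counit_comp (k := k) (A := AddMonoidAlgebra k M) (V := V)) f
  simp only [LinearMap.comp_apply, LinearMap.flip_apply, TensorProduct.mk_apply] at h
  rw [sum_P, h, TensorProduct.rid_tmul, one_smul]

end General

/-- Let k be a field, M a finite abelian group and D = Spec k[M] the finite diagonalizable group scheme
it defines, acting on an affine k-scheme U = Spec R through a multiplicative coaction R → R ⊗ k[M];
write R_a for the weight space of a ∈ M (elements with coaction f ⊗ a). For an ideal J of R the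
induced action of D on the closed subscheme V(J) is trivial, meaning that the coaction followed by
reduction modulo J equals f ↦ (f mod J) ⊗ 1, exactly when J contains the ideal generated by the
weight spaces R_a for a ≠ 0; in other words that ideal defines the largest closed subscheme of U on
which D acts trivially. (The printed setting has U smooth, which plays no role here and is not
assumed; the further assertion that the construction commutes with flat base change on U/D is not
part of this statement.) -/
theorem result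
    {k : Type u} [Field k] {M : Type u} [AddCommGroup M] [Finite M]
    {R : Type u} [CommRing R] [Algebra k R] [HopfRep.Comod k (AddMonoidAlgebra k M) R]
    [GLin.IsCoactAlg k (AddMonoidAlgebra k M) R] (J : Ideal R) :
    (∀ f : R, LinearMap.rTensor (AddMonoidAlgebra k M) (Ideal.Quotient.mkₐ k J).toLinearMap
        (HopfRep.Comod.coact (k := k) (A := AddMonoidAlgebra k M) f) =
        (Ideal.Quotient.mk J f) ⊗ₜ[k] (1 : AddMonoidAlgebra k M)) ↔
      Ideal.span (⋃ (a : M) (_ : a ≠ 0),
        (HopfRep.eigenspace k (AddMonoidAlgebra k M) R (AddMonoidAlgebra.single a 1) : Set R)) ≤ J := by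
  classical
  haveI : Fintype M := Fintype.ofFinite M
  constructor
  · intro h
    rw [Ideal.span_le]
    refine Set.iUnion₂_subset fun a ha f hf => ?_
    have hf' : HopfRep.Comod.coact (k := k) (A := AddMonoidAlgebra k M) f =
        f ⊗ₜ[k] AddMonoidAlgebra.single a 1 := hf
    have h1 := h f
    rw [hf', LinearMap.rTensor_tmul] at h1
    have h2 := congrArg (P (k := k) (V := R ⧸ J) a) h1
    rw [P_tmul, P_tmul, AddMonoidAlgebra.one_def, φ_single, φ_single, if_pos rfl,
      if_neg (Ne.symm ha), one_smul, zero_smul] at h2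
    exact Ideal.Quotient.eq_zero_iff_mem.mp h2
  · intro h f
    have hJ : ∀ a : M, a ≠ 0 → (Ideal.Quotient.mkₐ k J).toLinearMap
        (P a (HopfRep.Comod.coact (k := k) (A := AddMonoidAlgebra k M) f)) = 0 := by
      intro a ha
      apply Ideal.Quotient.eq_zero_iff_mem.mpr
      apply h
      apply Ideal.subset_span
      refine Set.mem_iUnion₂.mpr ⟨a, ha, ?_⟩
      exact coact_P a f
    conv_lhs => rw [← expand (HopfRep.Comod.coact (k := k) (A := AddMonoidAlgebra k M) f)]
    rw [map_sum]
    simp only [LinearMap.rTensor_tmul]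
    rw [Finset.sum_eq_single (0 : M)]
    · rw [AddMonoidAlgebra.one_def]
      congr 1
      have h3 : Ideal.Quotient.mk J f = (Ideal.Quotient.mkₐ k J).toLinearMap
          (∑ a, P a (HopfRep.Comod.coact (k := k) (A := AddMonoidAlgebra k M) f)) := by
        rw [sum_P_coact]
        rfl
      rw [h3, map_sum, Finset.sum_eq_single (0 : M)]
      · intro a _ ha
        exact hJ a ha
      · intro h0
        exact absurd (Finset.mem_univ _) h0
    · intro a _ ha
      rw [hJ a ha, TensorProduct.zero_tmul]
    · intro h0
      exact absurd (Finset.mem_univ _) h0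

end Groth.Agent.S19326
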