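import Groth.Statements.S19328
import Mathlib.RingTheory.AdjoinRoot
import Mathlib.RingTheory.Polynomial.ScaleRoots
import Mathlib.RingTheory.Localization.Integral
import Mathlib.FieldTheory.IsAlgClosed.Basic
import Mathlib.AlgebraicGeometry.Morphisms.Flat
import Mathlib.AlgebraicGeometry.Morphisms.FinitePresentation
import Mathlib.AlgebraicGeometry.Morphisms.QuasiSeparated
import Mathlib.AlgebraicGeometry.Morphisms.Affine
import Mathlib.AlgebraicGeometry.Sites.MorphismProperty
import Mathlib.RingTheory.RingHom.FaithfullyFlat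
import Mathlib.RingTheory.LocalRing.ResidueField.Ideal
import Mathlib.Algebra.Polynomial.Lifts

set_option autoImplicit false
universe u
open CategoryTheory CategoryTheory.Limits AlgebraicGeometry
open ModPair

namespace Groth.Agent.S19328

open Polynomial in
/-- If `Spec A` is local for fppf coverings then every monic polynomial of positive degree
over `A` has a root in `A`. -/
theorem exists_root_of_monic (A : Type u) [CommRing A] [Nontrivial A]
    (hloc : ∀ (X : Scheme.{u}) (R : Presieve X),
      R ∈ Scheme.precoverage (@Flat ⊓ @LocallyOfFinitePresentation ⊓ @QuasiCompact ⊓ @QuasiSeparated) X →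
      ∀ g : Spec (CommRingCat.of A) ⟶ X,
        ∃ (Y : Scheme.{u}) (v : Y ⟶ X) (h : Spec (CommRingCat.of A) ⟶ Y), R v ∧ h ≫ v = g)
    (F : A[X]) (hF : F.Monic) (hdeg : 0 < F.natDegree) : ∃ r : A, F.eval r = 0 := by
  classical
  have hnt : Nontrivial (AdjoinRoot F) := by
    refine Ideal.Quotient.nontrivial_iff.mpr ?_
    rw [Ne, Ideal.span_singleton_eq_top]
    intro hu
    have h1 := hF.eq_one_of_isUnit hu
    simp [h1] at hdeg
  have hfree : Module.Free A (AdjoinRoot F) :=
    Module.Free.of_basis (AdjoinRoot.powerBasis' hF).basis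
  have hff : Module.FaithfullyFlat A (AdjoinRoot F) := inferInstance
  have hfp : Algebra.FinitePresentation A (AdjoinRoot F) := inferInstance
  have h1 : Flat (Spec.map (CommRingCat.ofHom (algebraMap A (AdjoinRoot F)))) ∧
      Surjective (Spec.map (CommRingCat.ofHom (algebraMap A (AdjoinRoot F)))) :=
    (flat_and_surjective_SpecMap_iff _).mpr (RingHom.faithfullyFlat_algebraMap_iff.mpr hff)
  have h2 : LocallyOfFinitePresentation
      (Spec.map (CommRingCat.ofHom (algebraMap A (AdjoinRoot F)))) :=
    (LocallyOfFinitePresentation.SpecMap_iff _).mpr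
      (RingHom.finitePresentation_algebraMap.mpr hfp)
  have h3 : QuasiCompact (Spec.map (CommRingCat.ofHom (algebraMap A (AdjoinRoot F)))) :=
    inferInstance
  have h4 : QuasiSeparated (Spec.map (CommRingCat.ofHom (algebraMap A (AdjoinRoot F)))) :=
    inferInstance
  have hmem : Presieve.singleton (Spec.map (CommRingCat.ofHom (algebraMap A (AdjoinRoot F)))) ∈
      Scheme.precoverage
        (@Flat ⊓ @LocallyOfFinitePresentation ⊓ @QuasiCompact ⊓ @QuasiSeparated)
        (Spec (CommRingCat.of A)) := by
    rw [Scheme.singleton_mem_precoverage_iff]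
    exact ⟨h1.2.surj, ⟨⟨h1.1, h2⟩, h3⟩, h4⟩
  obtain ⟨Y, v, h, hRv, hcomp⟩ := hloc _ _ hmem (𝟙 _)
  obtain ⟨⟩ := hRv
  obtain ⟨ψ, rfl⟩ := Spec.map_surjective h
  rw [← Spec.map_comp, ← Spec.map_id] at hcomp
  have hψ := Spec.map_injective hcomp
  refine ⟨ψ.hom (AdjoinRoot.root F), ?_⟩
  have e1 : ψ.hom.comp (AdjoinRoot.of F) = RingHom.id A := by
    ext a
    have h5 := congrArg (fun t => t.hom a) hψ
    simpa using h5
  have e2 := Polynomial.hom_eval₂ F (AdjoinRoot.of F) ψ.hom (AdjoinRoot.root F)
  rw [AdjoinRoot.eval₂_root, map_zero, e1, Polynomial.eval₂_id] at e2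
  exact e2.symm

open Polynomial in
/-- Let A be a commutative ring such that Spec A is local for fppf coverings, in the sense that for
every scheme X, every jointly surjective family of morphisms to X each of which is flat and of
finite presentation (locally of finite presentation, quasi-compact and quasi-separated), and every
morphism Spec A ⟶ X, the morphism factors through a member of the family. Then the residue field of
A at every prime ideal is algebraically closed. -/
theorem result (A : Type u) [CommRing A]
    (hloc : ∀ (X : Scheme.{u}) (R : Presieve X),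
      R ∈ Scheme.precoverage (@Flat ⊓ @LocallyOfFinitePresentation ⊓ @QuasiCompact ⊓ @QuasiSeparated) X →
      ∀ g : Spec (CommRingCat.of A) ⟶ X,
        ∃ (Y : Scheme.{u}) (v : Y ⟶ X) (h : Spec (CommRingCat.of A) ⟶ Y), R v ∧ h ≫ v = g)
    (p : Ideal A) [p.IsPrime] : IsAlgClosed p.ResidueField := by
  classical
  have hntA : Nontrivial A := by
    refine ⟨⟨0, 1, fun h01 => ?_⟩⟩
    exact (Ideal.IsPrime.ne_top ‹p.IsPrime›) ((Ideal.eq_top_iff_one p).mpr (h01 ▸ p.zero_mem))
  apply IsAlgClosed.of_exists_root
  intro q hq hirr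
  obtain ⟨b, hbM, hb⟩ := IsLocalization.integerNormalization_spec (nonZeroDivisors (A ⧸ p)) q
  obtain ⟨s, hs⟩ := Ideal.Quotient.mk_surjective b
  have hs' : algebraMap A p.ResidueField s ≠ 0 := by
    rw [← Ideal.algebraMap_quotient_residueField_mk, hs]
    exact map_ne_zero_of_mem_nonZeroDivisors _
      (IsFractionRing.injective (A ⧸ p) p.ResidueField) hbM
  have hcoef : ∀ i, ∃ a : A,
      algebraMap A p.ResidueField a = algebraMap A p.ResidueField s * q.coeff i := by
    intro i
    obtain ⟨a, ha⟩ := Ideal.Quotient.mk_surjective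
      ((IsLocalization.integerNormalization (nonZeroDivisors (A ⧸ p)) q).coeff i)
    refine ⟨a, ?_⟩
    have hbi := congrArg (fun P => P.coeff i) hb
    simp only [Polynomial.coeff_map, Polynomial.coeff_smul] at hbi
    rw [← Ideal.algebraMap_quotient_residueField_mk, ha, hbi, Algebra.smul_def,
      ← hs, Ideal.algebraMap_quotient_residueField_mk]
  have hlift : q.scaleRoots (algebraMap A p.ResidueField s) ∈
      Polynomial.lifts (algebraMap A p.ResidueField) := by
    rw [Polynomial.lifts_iff_coeff_lifts]
    intro i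
    rw [Polynomial.coeff_scaleRoots]
    rcases lt_trichotomy i q.natDegree with hi | hi | hi
    · obtain ⟨a, ha⟩ := hcoef i
      obtain ⟨k, hk⟩ : ∃ k, q.natDegree - i = k + 1 := ⟨q.natDegree - i - 1, by omega⟩
      refine ⟨a * s ^ k, ?_⟩
      rw [map_mul, map_pow, ha, hk, pow_succ]
      ring
    · subst hi
      refine ⟨1, ?_⟩
      rw [map_one, Nat.sub_self, pow_zero, mul_one]
      exact hq.coeff_natDegree.symm
    · refine ⟨0, ?_⟩
      rw [map_zero, Polynomial.coeff_eq_zero_of_natDegree_lt hi, zero_mul]
  have hmonic : (q.scaleRoots (algebraMap A p.ResidueField s)).Monic :=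
    (Polynomial.monic_scaleRoots_iff _).mpr hq
  obtain ⟨F, hFmap, hFdeg, hFmonic⟩ :=
    Polynomial.lifts_and_natDegree_eq_and_monic hlift hmonic
  have hdegpos : 0 < F.natDegree := by
    rw [hFdeg, Polynomial.natDegree_scaleRoots]
    exact hirr.natDegree_pos
  obtain ⟨r, hr⟩ := exists_root_of_monic A hloc F hFmonic hdegpos
  refine ⟨algebraMap A p.ResidueField r / algebraMap A p.ResidueField s, ?_⟩
  have h1 : (q.scaleRoots (algebraMap A p.ResidueField s)).eval
      (algebraMap A p.ResidueField r) = 0 := by
    rw [← hFmap, Polynomial.eval_map, Polynomial.eval₂_at_apply, hr, map_zero]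
  have h2 := Polynomial.scaleRoots_eval_mul q
    (algebraMap A p.ResidueField r / algebraMap A p.ResidueField s)
    (algebraMap A p.ResidueField s)
  rw [mul_div_cancel₀ _ hs', h1] at h2
  rcases mul_eq_zero.mp h2.symm with h3 | h3
  · exact absurd h3 (pow_ne_zero _ hs')
  · exact h3

end Groth.Agent.S19328
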