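import Groth.Statements.S19330
import Mathlib
import Groth.Agent.S18732
import Groth.Agent.S13426
import Groth.Agent.H94.EffCartierDense

set_option autoImplicit false
universe u
open CategoryTheory CategoryTheory.Limits AlgebraicGeometry TopologicalSpace
open ModPair

namespace Groth.Agent.S19330

open AlgebraicGeometry CategoryTheory Limits TopologicalSpace Groth.Agent.H94.EffCartierDense

theorem exists_prime_le_notMem {A : Type*} [CommRing A] (t : A) (ht : t ∈ nonZeroDivisors A)
    (p : Ideal A) [p.IsPrime] : ∃ q : Ideal A, q.IsPrime ∧ q ≤ p ∧ t ∉ q := by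
  let M : Submonoid A := Submonoid.powers t ⊔ p.primeCompl
  have hdisj : Disjoint ((⊥ : Ideal A) : Set A) (M : Set A) := by
    rw [Set.disjoint_left]
    rintro x hx hxM
    have hx0 : x = 0 := hx
    obtain ⟨a, ⟨n, rfl⟩, b, hb, hab⟩ := Submonoid.mem_sup.mp hxM
    have h1 : t ^ n * b = 0 := by rw [hab, hx0]
    have h2 : b = 0 := (mem_nonZeroDivisors_iff.mp (pow_mem ht n)).1 b h1
    exact hb (h2 ▸ p.zero_mem)
  obtain ⟨q, hq, _, hqM⟩ := Ideal.exists_le_prime_disjoint ⊥ M hdisj
  refine ⟨q, hq, fun x hx => ?_, fun htq => ?_⟩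
  · by_contra hxp
    exact Set.disjoint_left.mp hqM hx (Submonoid.mem_sup_right hxp)
  · exact Set.disjoint_left.mp hqM htq (Submonoid.mem_sup_left (Submonoid.mem_powers t))

theorem exists_generization {S : Scheme.{u}} (I : S.IdealSheafData)
    (hI : BlowUp.IsEffCartierIdeal I) (s : S) :
    ∃ u : S, u ∈ ModPair.interior I ∧ u ⤳ s := by
  obtain ⟨V, hsV, t, ht, hIt⟩ := hI s
  let p := V.2.primeIdealOf ⟨s, hsV⟩
  obtain ⟨q, hq, hqp, htq⟩ := exists_prime_le_notMem t ht p.asIdeal
  let y : Spec Γ(S, V.1) := (⟨q, hq⟩ : PrimeSpectrum Γ(S, V.1))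
  refine ⟨V.2.fromSpec y, ?_, ?_⟩
  · have h := compl_inf_eq_basicOpen I V t hIt
    have hy : V.2.fromSpec y ∈ S.basicOpen t := by
      have h1 : y ∈ V.2.fromSpec ⁻¹ᵁ S.basicOpen t := by
        rw [V.2.fromSpec_preimage_basicOpen]
        exact htq
      exact h1
    rw [← h] at hy
    exact hy.1
  · have h1 : y ⤳ p := (PrimeSpectrum.le_iff_specializes y p).mp hqp
    have h2 := h1.map V.2.fromSpec.continuous
    rwa [V.2.fromSpec_primeIdealOf] at h2


theorem range_imageι {W S : Scheme.{u}} (k : W ⟶ S) [QuasiCompact k] :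
    Set.range k.imageι = closure (Set.range k) := by
  show Set.range k.ker.subschemeι = _
  rw [Scheme.IdealSheafData.range_subschemeι, Scheme.Hom.support_ker]

section main
variable {S : Scheme.{u}} (I : S.IdealSheafData) (hI : BlowUp.IsEffCartierIdeal I)

include hI in
theorem part_a {ι : Type u} (V : ι → Scheme.{u})
    (g : ∀ i, V i ⟶ (ModPair.interior I : Scheme.{u})) [∀ i, IsClosedImmersion (g i)]
    (hsurj : ∀ u : (ModPair.interior I : Scheme.{u}), ∃ (i : ι) (v : V i), (g i).base v = u)
    (s : S) :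
    ∃ (i : ι) (v : (g i ≫ (ModPair.interior I).ι).image),
        (g i ≫ (ModPair.interior I).ι).imageι.base v = s := by
  haveI : IsAffineHom (Scheme.Opens.ι (ModPair.interior I)) :=
    Groth.Agent.S18732.isAffineHom_compl_ι I hI
  obtain ⟨u, hu, hus⟩ := exists_generization I hI s
  obtain ⟨i, v, hv⟩ := hsurj ⟨u, hu⟩
  refine ⟨i, ?_⟩
  have hs : s ∈ Set.range (g i ≫ (ModPair.interior I).ι).imageι := by
    rw [range_imageι]
    have hu' : u ∈ Set.range (g i ≫ (ModPair.interior I).ι) := by
      refine ⟨v, ?_⟩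
      rw [Scheme.Hom.comp_apply]
      show ((g i) v).1 = u
      rw [show (g i) v = ⟨u, hu⟩ from hv]
    exact hus.mem_closed isClosed_closure (subset_closure hu')
  exact hs

include hI in
theorem part_b {W : Scheme.{u}} (g : W ⟶ (ModPair.interior I : Scheme.{u})) [IsClosedImmersion g] :
    BlowUp.IsEffCartierIdeal (I.comap (g ≫ (ModPair.interior I).ι).imageι) := by
  haveI : IsAffineHom (Scheme.Opens.ι (ModPair.interior I)) :=
    Groth.Agent.S18732.isAffineHom_compl_ι I hI
  set k := g ≫ (ModPair.interior I).ι with hk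
  haveI : IsSchemeTheoreticallyDominant (k.imageι ⁻¹ᵁ ModPair.interior I).ι := by
    have hrange : Set.range k.toImage ⊆ Set.range (k.imageι ⁻¹ᵁ ModPair.interior I).ι := by
      rintro _ ⟨w, rfl⟩
      rw [Scheme.Opens.range_ι]
      show k.imageι (k.toImage w) ∈ ModPair.interior I
      rw [← Scheme.Hom.comp_apply, k.toImage_imageι]
      exact (g w).2
    let l := IsOpenImmersion.lift (k.imageι ⁻¹ᵁ ModPair.interior I).ι k.toImage hrange
    have hl : l ≫ (k.imageι ⁻¹ᵁ ModPair.interior I).ι = k.toImage :=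
      IsOpenImmersion.lift_fac _ _ _
    haveI := Groth.Agent.S13426.toImage_dominant k
    have hdom : k.toImage.ker = ⊥ := (isSchemeTheoreticallyDominant_iff k.toImage).mp inferInstance
    have h1 : (k.imageι ⁻¹ᵁ ModPair.interior I).ι.ker ≤
        (l ≫ (k.imageι ⁻¹ᵁ ModPair.interior I).ι).ker := Scheme.Hom.le_ker_comp l _
    rw [hl, hdom] at h1
    exact (isSchemeTheoreticallyDominant_iff _).mpr (le_bot_iff.mp h1)
  exact (Groth.Agent.S18732.main I hI k.imageι).2

include hI in
theorem part_c {W : Scheme.{u}} (g : W ⟶ (ModPair.interior I : Scheme.{u})) [IsClosedImmersion g] :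
    IsOpenImmersion (g ≫ (ModPair.interior I).ι).toImage ∧
      Set.range (g ≫ (ModPair.interior I).ι).toImage.base =
        (g ≫ (ModPair.interior I).ι).imageι.base ⁻¹' (ModPair.interior I : Set S) := by
  haveI : IsAffineHom (Scheme.Opens.ι (ModPair.interior I)) :=
    Groth.Agent.S18732.isAffineHom_compl_ι I hI
  set k := g ≫ (ModPair.interior I).ι with hk
  refine ⟨inferInstance, ?_⟩
  ext y
  constructor
  · rintro ⟨w, rfl⟩
    show k.imageι (k.toImage w) ∈ ModPair.interior I
    rw [← Scheme.Hom.comp_apply, k.toImage_imageι]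
    exact (g w).2
  · intro hy
    have hy' : k.imageι y ∈ ModPair.interior I := hy
    have h1 : k.imageι y ∈ closure (Set.range k) := by
      rw [← range_imageι]; exact ⟨y, rfl⟩
    obtain ⟨x, hx⟩ : ∃ x : (ModPair.interior I : Scheme.{u}),
        (ModPair.interior I).ι x = k.imageι y := by
      have hmem : k.imageι y ∈ Set.range (ModPair.interior I).ι := by
        rw [Scheme.Opens.range_ι]; exact hy'
      exact hmem
    have hrk : Set.range k = (ModPair.interior I).ι '' Set.range g := by
      ext z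
      constructor
      · rintro ⟨w, rfl⟩
        exact ⟨g w, ⟨w, rfl⟩, rfl⟩
      · rintro ⟨_, ⟨w, rfl⟩, rfl⟩
        exact ⟨w, rfl⟩
    have h2 : x ∈ closure (Set.range g) := by
      rw [(ModPair.interior I).ι.isOpenEmbedding.isEmbedding.closure_eq_preimage_closure_image]
      show (ModPair.interior I).ι x ∈ closure ((ModPair.interior I).ι '' Set.range g)
      rw [hx, ← hrk]; exact h1
    rw [IsClosed.closure_eq g.isClosedEmbedding.isClosed_range] at h2
    obtain ⟨w, hw⟩ := h2
    refine ⟨w, k.imageι.isClosedEmbedding.injective ?_⟩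
    show k.imageι (k.toImage w) = k.imageι y
    rw [← Scheme.Hom.comp_apply, k.toImage_imageι, ← hx, ← hw]
    rfl

end main

theorem main {S : Scheme.{u}} (I : S.IdealSheafData)
    (hI : BlowUp.IsEffCartierIdeal I) {ι : Type u} (V : ι → Scheme.{u})
    (g : ∀ i, V i ⟶ (ModPair.interior I : Scheme.{u})) [∀ i, IsClosedImmersion (g i)]
    (hsurj : ∀ u : (ModPair.interior I : Scheme.{u}), ∃ (i : ι) (v : V i), (g i).base v = u) :
    (∀ s : S, ∃ (i : ι) (v : (g i ≫ (ModPair.interior I).ι).image),
        (g i ≫ (ModPair.interior I).ι).imageι.base v = s) ∧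
      (∀ i, BlowUp.IsEffCartierIdeal (I.comap (g i ≫ (ModPair.interior I).ι).imageι)) ∧
      ∀ i, IsOpenImmersion (g i ≫ (ModPair.interior I).ι).toImage ∧
        Set.range (g i ≫ (ModPair.interior I).ι).toImage.base =
          (g i ≫ (ModPair.interior I).ι).imageι.base ⁻¹' (ModPair.interior I : Set S) :=
  ⟨fun s => part_a I hI V g hsurj s, fun i => part_b I hI (g i), fun i => part_c I hI (g i)⟩


/-- Let (S, I) be a modulus pair, i.e. a scheme with the quasi-coherent ideal sheaf of an effective
Cartier divisor, with interior U, and let g_i : V_i ⟶ U be a jointly surjective family of closed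
immersions into the interior. Let V̄_i be the scheme-theoretic image of V_i ⟶ U ⟶ S. Then the closed
immersions V̄_i ⟶ S are jointly surjective, the modulus restricted to each V̄_i is again the ideal
sheaf of an effective Cartier divisor (so that V̄_i ⟶ S is a minimal morphism of modulus pairs), and
the interior of V̄_i is V_i: the canonical morphism V_i ⟶ V̄_i is an open immersion whose image is
the preimage of U. -/
theorem result {S : Scheme.{u}} (I : S.IdealSheafData)
    (hI : BlowUp.IsEffCartierIdeal I) {ι : Type u} (V : ι → Scheme.{u})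
    (g : ∀ i, V i ⟶ (ModPair.interior I : Scheme.{u})) [∀ i, IsClosedImmersion (g i)]
    (hsurj : ∀ u : (ModPair.interior I : Scheme.{u}), ∃ (i : ι) (v : V i), (g i).base v = u) :
    (∀ s : S, ∃ (i : ι) (v : (g i ≫ (ModPair.interior I).ι).image),
        (g i ≫ (ModPair.interior I).ι).imageι.base v = s) ∧
      (∀ i, BlowUp.IsEffCartierIdeal (I.comap (g i ≫ (ModPair.interior I).ι).imageι)) ∧
      ∀ i, IsOpenImmersion (g i ≫ (ModPair.interior I).ι).toImage ∧
        Set.range (g i ≫ (ModPair.interior I).ι).toImage.base =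
          (g i ≫ (ModPair.interior I).ι).imageι.base ⁻¹' (ModPair.interior I : Set S) := by
  exact main I hI V g hsurj

end Groth.Agent.S19330
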