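import Groth.Statements.S19333
import Mathlib.RingTheory.Valuation.LocalSubring
import Mathlib.RingTheory.IntegralClosure.IntegrallyClosed

set_option autoImplicit false
universe u
open ModPair

namespace Groth.Agent.S19333

open Polynomial in
/-- Let A → B be any homomorphism of commutative rings. An element x of B is integral over A if and only
if for every field K, every valuation subring R of K and every ring homomorphism φ : B → K which
sends the image of A into R, the element φ(x) lies in R. In other words the integral closure of A in
B is the intersection of the subrings R ×_K B taken over all commutative squares A → R ⊆ K ← B with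
R a valuation ring of the field K. -/
theorem result {A B : Type u} [CommRing A]
    [CommRing B] [Algebra A B] (x : B) :
    x ∈ integralClosure A B ↔
      ∀ (K : Type u) [Field K] (R : ValuationSubring K) (φ : B →+* K),
        (∀ a : A, φ (algebraMap A B a) ∈ R) → φ x ∈ R := by
  constructor
  · intro hx K _ R φ hφ
    have hx' : IsIntegral A x := hx
    let f : A →+* R := (φ.comp (algebraMap A B)).codRestrict R.toSubring hφ
    have h1 : IsIntegral R (φ x) :=
      hx'.map_of_comp_eq f φ (by ext a; rfl)
    obtain ⟨y, hy⟩ := IsIntegrallyClosedIn.isIntegral_iff.mp h1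
    rw [← hy]
    exact y.2
  · intro h
    by_contra hx
    let S : Submonoid B :=
      { carrier := {b | ∃ p : A[X], p.Monic ∧ b = Polynomial.aeval x p}
        one_mem' := ⟨1, monic_one, by simp⟩
        mul_mem' := by
          rintro _ _ ⟨p, hp, rfl⟩ ⟨q, hq, rfl⟩
          exact ⟨p * q, hp.mul hq, by simp⟩ }
    have hdisj : Disjoint ((⊥ : Ideal B) : Set B) S := by
      rw [Set.disjoint_left]
      rintro b hb ⟨p, hp, rfl⟩
      have h0 : Polynomial.aeval x p = 0 := by simpa using hb
      exact hx ⟨p, hp, by rwa [← Polynomial.aeval_def]⟩
    obtain ⟨P, hP, -, hPS⟩ := Ideal.exists_le_prime_disjoint (I := ⊥) S hdisj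
    haveI := hP
    let K := FractionRing (B ⧸ P)
    let φ : B →+* K := (algebraMap (B ⧸ P) K).comp (Ideal.Quotient.mk P)
    let g : A →+* K := φ.comp (algebraMap A B)
    letI : Algebra A K := g.toAlgebra
    have hnot : φ x ∉ (integralClosure A K).toSubring := by
      intro hmem
      obtain ⟨p, hp, hpx⟩ : IsIntegral A (φ x) := hmem
      have h2 : φ (Polynomial.aeval x p) = 0 := by
        rw [Polynomial.aeval_def, Polynomial.hom_eval₂]
        exact hpx
      have h3 : Ideal.Quotient.mk P (Polynomial.aeval x p) = 0 := by
        have hinj := IsFractionRing.injective (B ⧸ P) K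
        apply hinj
        rw [map_zero]
        exact h2
      rw [Ideal.Quotient.eq_zero_iff_mem] at h3
      exact Set.disjoint_left.mp hPS h3 ⟨p, hp, rfl⟩
    obtain ⟨V, hV, hxV⟩ := Subring.exists_le_valuationSubring_of_isIntegrallyClosedIn hnot
    apply hxV
    apply h K V φ
    intro a
    apply hV
    exact (integralClosure A K).algebraMap_mem a

end Groth.Agent.S19333
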