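import Groth.Statements.S19334
import Mathlib
import Groth.Agent.H94.ValTestSch
import Groth.Agent.H9.EffCartier

set_option autoImplicit false
universe u
open CategoryTheory CategoryTheory.Limits AlgebraicGeometry TopologicalSpace
open ModPair

namespace Groth.Agent.S19334

open Groth.Agent.H94.EffCartierDense Groth.Agent.H94.ValTestSch Groth.Agent.H94.ValTest

theorem main {X : Scheme.{u}}
    (I : X.IdealSheafData) (hI : BlowUp.IsEffCartierIdeal I)
    (h : ∀ (R : Type u) [CommRing R] [IsDomain R] [ValuationRing R]
      (p : Spec (CommRingCat.of R) ⟶ X), BlowUp.IsEffCartierIdeal (I.comap p) → I.comap p = ⊤) :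
    I = ⊤ := by
  rw [← Scheme.IdealSheafData.support_eq_bot_iff, eq_bot_iff]
  intro x hx
  exfalso
  obtain ⟨V, hxV, -, t, ht, hIt⟩ := Groth.Agent.H9.exists_affine_isPrincipalNZD hI ⊤ x trivial
  have hnu : ¬ IsUnit (X.presheaf.germ V.1 x hxV t) := by
    intro hu
    have h1 : x ∈ X.basicOpen t := (X.mem_basicOpen t x hxV).2 hu
    rw [← compl_inf_eq_basicOpen I V t hIt] at h1
    exact h1.1 hx
  obtain ⟨R, iC, iD, iV, φ, hloc, hne0, -⟩ :=
    exists_valuationRing_test (X.presheaf.germ V.1 x hxV t) (germ_not_isNilpotent V t ht x hxV)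
  letI := iC
  haveI := iD
  haveI := iV
  let ψ : Γ(X, V.1) →+* R := φ.comp (X.presheaf.germ V.1 x hxV).hom
  have hcart := isEffCartier_comap_testMap I V t hIt R ψ hne0
  have htop := h R (testMap V R ψ) hcart
  have hu : IsUnit (ψ t) := isUnit_of_comap_testMap_eq_top I V t hIt R ψ htop
  haveI := hloc
  exact hnu (isUnit_of_map_unit φ _ hu)

/-- Let (X, I) be a modulus pair, i.e. a scheme X with the quasi-coherent ideal sheaf I of an effective
Cartier divisor. Suppose that for every valuation ring R and every morphism p : Spec R ⟶ X along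
which the divisor of I pulls back to an effective Cartier divisor on Spec R (so that p is a minimal
morphism of modulus pairs for the pulled-back modulus), the pulled-back divisor is empty, I.comap p
= ⊤. Then the divisor of I is empty: I = ⊤. -/
theorem result {X : Scheme.{u}}
    (I : X.IdealSheafData) (hI : BlowUp.IsEffCartierIdeal I)
    (h : ∀ (R : Type u) [CommRing R] [IsDomain R] [ValuationRing R]
      (p : Spec (CommRingCat.of R) ⟶ X), BlowUp.IsEffCartierIdeal (I.comap p) → I.comap p = ⊤) :
    I = ⊤ := by
  exact main I hI h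

end Groth.Agent.S19334
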