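import Groth.Statements.S19335
import Mathlib
import Groth.Agent.H94.ValTestSch
import Groth.Agent.H9.EffCartier

set_option autoImplicit false
universe u
open CategoryTheory CategoryTheory.Limits AlgebraicGeometry TopologicalSpace
open ModPair

namespace Groth.Agent.S19335

open Groth.Agent.H94.EffCartierDense Groth.Agent.H94.ValTestSch Groth.Agent.H94.ValTest

theorem main {X : Scheme.{u}} (I J : X.IdealSheafData)
    (hI : BlowUp.IsEffCartierIdeal I) (hJ : BlowUp.IsEffCartierIdeal J) (hJI : J ≤ I)
    (h : ∀ (R : Type u) [CommRing R] [IsDomain R] [ValuationRing R]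
      (p : Spec (CommRingCat.of R) ⟶ X), BlowUp.IsEffCartierIdeal (I.comap p) →
        (∀ x : Spec (CommRingCat.of R),
          x ∈ (ModPair.interior (I.comap p) : Set (Spec (CommRingCat.of R))) ↔ x.asIdeal = ⊥) →
        I.comap p = J.comap p) :
    I = J := by
  have key : ∀ x : X, ∃ V' : X.affineOpens, x ∈ V'.1 ∧ I.ideal V' = J.ideal V' := by
    intro x
    obtain ⟨V, hxV, -, ⟨i, hi, hIi⟩, ⟨j, hj, hJj⟩⟩ :=
      Groth.Agent.H9.exists_affine_isPrincipalNZD₂ hI hJ ⊤ x trivial
    have hji : j ∈ Ideal.span {i} := by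
      rw [← hIi]
      apply (Scheme.IdealSheafData.le_def.1 hJI) V
      rw [hJj]
      exact Ideal.mem_span_singleton_self j
    obtain ⟨a, ha⟩ := Ideal.mem_span_singleton'.1 hji
    obtain ⟨R, iC, iD, iV, φ, hloc, hne0, hprimes⟩ :=
      exists_valuationRing_test (X.presheaf.germ V.1 x hxV i) (germ_not_isNilpotent V i hi x hxV)
    letI := iC
    haveI := iD
    haveI := iV
    haveI := hloc
    let ψ : Γ(X, V.1) →+* R := φ.comp (X.presheaf.germ V.1 x hxV).hom
    have hψi : ψ i ≠ 0 := hne0
    have hcart := isEffCartier_comap_testMap I V i hIi R ψ hψi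
    have hint : ∀ y : Spec (CommRingCat.of R),
        y ∈ (ModPair.interior (I.comap (testMap V R ψ)) : Set (Spec (CommRingCat.of R))) ↔
          y.asIdeal = ⊥ := by
      intro y
      rw [SetLike.mem_coe, mem_interior_comap_testMap_iff I V i hIi R ψ y]
      exact hprimes y.asIdeal y.isPrime
    have heq := h R (testMap V R ψ) hcart hint
    have h1 := comap_testMap_ideal I V i hIi R ψ
    have h2 := comap_testMap_ideal J V j hJj R ψ
    rw [heq, h2] at h1
    -- ψ i ∈ span {ψ j}
    have h3 : (Scheme.ΓSpecIso (CommRingCat.of R)).inv.hom (ψ i) ∈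
        Ideal.span {(Scheme.ΓSpecIso (CommRingCat.of R)).inv.hom (ψ j)} := by
      rw [h1]; exact Ideal.mem_span_singleton_self _
    obtain ⟨c, hc⟩ := Ideal.mem_span_singleton'.1 h3
    have h4 := congrArg (Scheme.ΓSpecIso (CommRingCat.of R)).hom.hom hc
    have e1 : ∀ r : R, (Scheme.ΓSpecIso (CommRingCat.of R)).hom.hom
        ((Scheme.ΓSpecIso (CommRingCat.of R)).inv.hom r) = r :=
      fun r => Iso.inv_hom_id_apply (Scheme.ΓSpecIso (CommRingCat.of R)) r
    rw [map_mul, e1, e1] at h4
    set c' := (Scheme.ΓSpecIso (CommRingCat.of R)).hom.hom c with hc'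
    have h5 : ψ j = ψ a * ψ i := by rw [← ha, map_mul]
    rw [h5] at h4
    have h6 : c' * ψ a = 1 := by
      have : (c' * ψ a - 1) * ψ i = 0 := by rw [sub_mul, one_mul, mul_assoc, h4, sub_self]
      exact sub_eq_zero.1 ((mul_eq_zero.1 this).resolve_right hψi)
    have hua : IsUnit (ψ a) := IsUnit.of_mul_eq_one _ (by rw [mul_comm]; exact h6)
    have huga : IsUnit (X.presheaf.germ V.1 x hxV a) := isUnit_of_map_unit φ _ hua
    have hxa : x ∈ X.basicOpen a := (X.mem_basicOpen a x hxV).2 huga
    refine ⟨X.affineBasicOpen a, hxa, ?_⟩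
    rw [← I.map_ideal_basicOpen V a, ← J.map_ideal_basicOpen V a, hIi, hJj, Ideal.map_span,
      Ideal.map_span, Set.image_singleton, Set.image_singleton, ← ha, map_mul]
    exact (Ideal.span_singleton_mul_left_unit (X.toRingedSpace.isUnit_res_basicOpen a) _).symm
  choose V hxV hV using key
  apply Scheme.IdealSheafData.ext_of_iSup_eq_top V
  · rw [eq_top_iff]
    intro x _
    exact Opens.mem_iSup.2 ⟨x, hxV x⟩
  · exact hV

/-- Let X be a scheme and I, J quasi-coherent ideal sheaves of effective Cartier divisors D_I ≤ D_J on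
X, i.e. J ≤ I. Suppose that for every valuation ring R and every morphism p : Spec R ⟶ X such that
I.comap p is the ideal sheaf of an effective Cartier divisor on Spec R (so p is a minimal morphism
of modulus pairs for (X, I)) whose open complement consists of the generic point of Spec R only, the
two divisors agree after pull-back, I.comap p = J.comap p. Then I = J. -/
theorem result {X : Scheme.{u}} (I J : X.IdealSheafData)
    (hI : BlowUp.IsEffCartierIdeal I) (hJ : BlowUp.IsEffCartierIdeal J) (hJI : J ≤ I)
    (h : ∀ (R : Type u) [CommRing R] [IsDomain R] [ValuationRing R]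
      (p : Spec (CommRingCat.of R) ⟶ X), BlowUp.IsEffCartierIdeal (I.comap p) →
        (∀ x : Spec (CommRingCat.of R),
          x ∈ (ModPair.interior (I.comap p) : Set (Spec (CommRingCat.of R))) ↔ x.asIdeal = ⊥) →
        I.comap p = J.comap p) :
    I = J := by
  exact main I J hI hJ hJI h

end Groth.Agent.S19335
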