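import Groth.Statements.S19337

set_option autoImplicit false
universe v u
open CategoryTheory
open ModPair

namespace Groth.Agent.S19337

theorem result {C : Type u} [Category.{v} C] (P : Precoverage C)
    (hloc : ∀ ⦃X : C⦄ (R : Presieve X), R ∈ P X →
      ∀ (Q : ∀ ⦃Y : C⦄ ⦃f : Y ⟶ X⦄, R f → Presieve Y),
        (∀ ⦃Y : C⦄ ⦃f : Y ⟶ X⦄ (hf : R f), Q hf ∈ P Y) →
          ∃ W ∈ P X, W ≤ (Sieve.generate (R.bind Q)).arrows)
    (hstab : ∀ ⦃X Y : C⦄ (f : Y ⟶ X) (R : Presieve X), R ∈ P X →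
      ∃ T ∈ P Y, T ≤ ((Sieve.generate R).pullback f).arrows) :
    ∃ J : GrothendieckTopology C, ∀ (X : C) (S : Sieve X),
      S ∈ J X ↔ S = ⊤ ∨ ∃ R ∈ P X, R ≤ S.arrows := by
  classical
  refine ⟨{
    sieves := fun X => {S | S = ⊤ ∨ ∃ R ∈ P X, R ≤ S.arrows}
    top_mem' := fun X => Or.inl rfl
    pullback_stable' := ?_
    transitive' := ?_ }, fun X S => Iff.rfl⟩
  · rintro X Y S f (rfl | ⟨R, hR, hRS⟩)
    · left; exact Sieve.pullback_top
    · right
      obtain ⟨T, hT, hTR⟩ := hstab f R hR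
      refine ⟨T, hT, fun Z g hg => ?_⟩
      have h1 := hTR Z _ hg
      have h2 : Sieve.generate R ≤ S := Sieve.generate_le_iff R S |>.mpr hRS
      exact h2 _ h1
  · rintro X S (rfl | ⟨R, hR, hRS⟩) R' hR'
    · have := hR' (f := 𝟙 X) trivial
      simpa using this
    · -- for each f in R choose a family in P on its source contained in the pullback of R'
      have hex : ∀ ⦃Y : C⦄ ⦃f : Y ⟶ X⦄ (hf : R f), ∃ Q ∈ P Y, Q ≤ (R'.pullback f).arrows := by
        intro Y f hf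
        rcases hR' (hRS Y _ hf) with h | ⟨Q, hQ, hQR⟩
        · obtain ⟨T, hT, -⟩ := hstab f R hR
          exact ⟨T, hT, fun Z g _ => by rw [h]; trivial⟩
        · exact ⟨Q, hQ, hQR⟩
      choose Q hQ hQR using hex
      obtain ⟨W, hW, hWle⟩ := hloc R hR Q hQ
      right
      refine ⟨W, hW, fun Z g hg => ?_⟩
      obtain ⟨Z', a, b, ⟨Y, c, f, hf, hc, rfl⟩, rfl⟩ := hWle Z _ hg
      have := hQR hf Z' _ hc
      exact R'.downward_closed this a

end Groth.Agent.S19337
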