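import Groth.Statements.S19338
import Mathlib.CategoryTheory.Localization.CalculusOfFractions
import Mathlib.CategoryTheory.Sites.Sheaf
import Mathlib.CategoryTheory.Sites.IsSheafFor

set_option autoImplicit false
universe w v u
open CategoryTheory
open ModPair

namespace Groth.Agent.S19338

open Opposite in
/-- Let C be a category and S a class of morphisms which contains the identities, is closed under
composition, admits a right calculus of fractions, and consists of monomorphisms. Then the sieves
containing a morphism of S are the covering sieves of a Grothendieck topology on C, and for every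
such topology J a presheaf of types F on C is a J-sheaf if and only if it is S-local, i.e. F sends
every morphism of S to a bijection. -/
theorem result {C : Type u} [Category.{v} C]
    (S : MorphismProperty C) [S.HasRightCalculusOfFractions]
    (hmono : ∀ ⦃X Y : C⦄ (s : X ⟶ Y), S s → Mono s) :
    (∃ J : GrothendieckTopology C, ∀ (X : C) (T : Sieve X),
        T ∈ J X ↔ ∃ (Y : C) (s : Y ⟶ X), S s ∧ T s) ∧
      ∀ J : GrothendieckTopology C, (∀ (X : C) (T : Sieve X),
          T ∈ J X ↔ ∃ (Y : C) (s : Y ⟶ X), S s ∧ T s) →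
        ∀ F : Cᵒᵖ ⥤ Type w,
          Presheaf.IsSheaf J F ↔ ∀ ⦃X Y : C⦄ (s : X ⟶ Y), S s → IsIso (F.map s.op) := by
  let J₀ : GrothendieckTopology C :=
    { sieves := fun X => {T | ∃ (Y : C) (s : Y ⟶ X), S s ∧ T s}
      top_mem' := fun X => ⟨X, 𝟙 X, S.id_mem X, trivial⟩
      pullback_stable' := by
        rintro X X' T f ⟨Y, s, hs, hT⟩
        let φ : S.LeftFraction X' Y := ⟨f, s, hs⟩
        obtain ⟨ψ, hψ⟩ := φ.exists_rightFraction
        refine ⟨ψ.X', ψ.s, ψ.hs, ?_⟩
        show T (ψ.s ≫ f)
        have h1 : ψ.s ≫ f = ψ.f ≫ s := hψ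
        rw [h1]
        exact T.downward_closed hT _
      transitive' := by
        rintro X T ⟨Y, s, hs, hT⟩ R hR
        obtain ⟨Z, t, ht, hRt⟩ := hR hT
        exact ⟨Z, t ≫ s, S.comp_mem _ _ ht hs, hRt⟩ }
  refine ⟨⟨J₀, fun X T => Iff.rfl⟩, ?_⟩
  intro J hJ F
  rw [isSheaf_iff_isSheaf_of_type]
  constructor
  · intro hF X Y s hs
    have hm : Mono s := hmono s hs
    rw [isIso_iff_bijective]
    have hmem : Sieve.generate (Presieve.singleton s) ∈ J Y := by
      rw [hJ]
      exact ⟨X, s, hs, ⟨X, 𝟙 X, s, Presieve.singleton.mk, Category.id_comp s⟩⟩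
    have hsh := hF _ hmem
    rw [← Presieve.isSheafFor_iff_generate] at hsh
    rw [Presieve.isSheafFor_singleton] at hsh
    rw [Function.bijective_iff_existsUnique]
    intro x
    refine hsh x ?_
    intro Z p₁ p₂ h12
    rw [(cancel_mono s).mp h12]
  · intro hS X T hT
    rw [hJ] at hT
    obtain ⟨Y, s, hs, hTs⟩ := hT
    intro x hx
    have hbij : Function.Bijective (F.map s.op) := (isIso_iff_bijective _).mp (hS s hs)
    obtain ⟨b, hb⟩ := hbij.2 (x s hTs)
    refine ⟨b, ?_, ?_⟩
    · intro Z f hf
      let φ : S.LeftFraction Z Y := ⟨f, s, hs⟩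
      obtain ⟨ψ, hψ⟩ := φ.exists_rightFraction
      have hψ' : ψ.s ≫ f = ψ.f ≫ s := hψ
      have hinj : Function.Injective (F.map ψ.s.op) :=
        ((isIso_iff_bijective _).mp (hS ψ.s ψ.hs)).1
      apply hinj
      have e1 : F.map ψ.s.op (F.map f.op b) = F.map (ψ.s ≫ f).op b := by
        rw [op_comp, Functor.map_comp_apply]
      have e2 : F.map ψ.f.op (F.map s.op b) = F.map (ψ.f ≫ s).op b := by
        rw [op_comp, Functor.map_comp_apply]
      rw [hx ψ.s ψ.f hf hTs hψ', ← hb, e1, e2, hψ']
    · intro b' hb'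
      apply hbij.1
      rw [hb, hb' s hTs]

end Groth.Agent.S19338
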