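import Groth.Statements.S19340
import Mathlib.CategoryTheory.Localization.CalculusOfFractions
import Mathlib.CategoryTheory.Filtered.Basic
import Mathlib.CategoryTheory.Comma.StructuredArrow.Basic

set_option autoImplicit false
universe v v' u u'
open CategoryTheory
open ModPair

namespace Groth.Agent.S19340

/-- Let C be a category, S a class of morphisms of C containing the identities, closed under composition
and admitting a right calculus of fractions, and L : C ⥤ D a localization functor for S. Then for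
every object X of C the comma category of L under X, whose objects are pairs (Y, L(X) ⟶ L(Y)) and
whose morphisms are morphisms Y ⟶ Y' of C compatible with the structure maps, is cofiltered. The
published statement calls this category filtered; its proof verifies, and this row states,
cofilteredness. -/
theorem result {C : Type u}
    [Category.{v} C] {D : Type u'} [Category.{v'} D] (S : MorphismProperty C)
    [S.HasRightCalculusOfFractions] (L : C ⥤ D) [L.IsLocalization S] (X : C) :
    IsCofiltered (StructuredArrow (L.obj X) L) := by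
  have hL : S.IsInvertedBy L := Localization.inverts L S
  have key : ∀ (A : StructuredArrow (L.obj X) L), ∃ (X' : C) (s : X' ⟶ X) (_ : S s)
      (a : X' ⟶ A.right), L.map s ≫ A.hom = L.map a := by
    intro A
    obtain ⟨φ, hφ⟩ := Localization.exists_rightFraction L S A.hom
    refine ⟨φ.X', φ.s, φ.hs, φ.f, ?_⟩
    rw [hφ]
    exact φ.map_s_comp_map L hL
  refine { cone_objs := ?_, cone_maps := ?_, nonempty := ⟨StructuredArrow.mk (Y := X) (𝟙 _)⟩ }
  · intro A₁ A₂
    obtain ⟨X₁, s₁, hs₁, a₁, e₁⟩ := key A₁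
    obtain ⟨X₂, s₂, hs₂, a₂, e₂⟩ := key A₂
    let φ : S.LeftFraction X₁ X₂ := ⟨s₁, s₂, hs₂⟩
    obtain ⟨ψ, hψ⟩ := φ.exists_rightFraction
    have hψ' : ψ.s ≫ s₁ = ψ.f ≫ s₂ := hψ
    have hs₃ : S (ψ.s ≫ s₁) := S.comp_mem _ _ ψ.hs hs₁
    have : IsIso (L.map (ψ.s ≫ s₁)) := hL _ hs₃
    refine ⟨StructuredArrow.mk (Y := ψ.X') (inv (L.map (ψ.s ≫ s₁))),
      StructuredArrow.homMk (ψ.s ≫ a₁) ?_, StructuredArrow.homMk (ψ.f ≫ a₂) ?_, trivial⟩
    · simp only [StructuredArrow.mk_hom_eq_self, IsIso.inv_comp_eq]
      show L.map (ψ.s ≫ a₁) = L.map (ψ.s ≫ s₁) ≫ A₁.hom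
      rw [L.map_comp, L.map_comp, Category.assoc, e₁]
    · simp only [StructuredArrow.mk_hom_eq_self, IsIso.inv_comp_eq]
      show L.map (ψ.f ≫ a₂) = L.map (ψ.s ≫ s₁) ≫ A₂.hom
      rw [hψ', L.map_comp, L.map_comp, Category.assoc, e₂]
  · intro A B g g'
    obtain ⟨X₁, s, hs, a, e⟩ := key A
    have h1 : L.map (a ≫ g.right) = L.map (a ≫ g'.right) := by
      rw [L.map_comp, L.map_comp, ← e, Category.assoc, Category.assoc,
        StructuredArrow.w g, StructuredArrow.w g']
    obtain ⟨X₂, t, ht, fac⟩ := (MorphismProperty.map_eq_iff_precomp L S _ _).mp h1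
    have hs₃ : S (t ≫ s) := S.comp_mem _ _ ht hs
    have : IsIso (L.map (t ≫ s)) := hL _ hs₃
    refine ⟨StructuredArrow.mk (Y := X₂) (inv (L.map (t ≫ s))),
      StructuredArrow.homMk (t ≫ a) ?_, ?_⟩
    · simp only [StructuredArrow.mk_hom_eq_self, IsIso.inv_comp_eq]
      show L.map (t ≫ a) = L.map (t ≫ s) ≫ A.hom
      rw [L.map_comp, L.map_comp, Category.assoc, e]
    · apply StructuredArrow.hom_ext
      simp only [StructuredArrow.comp_right, StructuredArrow.homMk_right, Category.assoc]
      exact fac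

end Groth.Agent.S19340
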