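import Groth.Statements.S19345
import Mathlib

set_option autoImplicit false
universe u
open CategoryTheory CategoryTheory.Limits AlgebraicGeometry TopologicalSpace
open ModPair

namespace Groth.Agent.S19345

open AlgebraicGeometry CategoryTheory Limits Polynomial

/-- Over an AIC ring, an integral extension which is a domain is surjective. -/
theorem surj_of_aic {A D : Type*} [CommRing A] [CommRing D] [IsDomain D] (φ : A →+* D)
    (hA : Curves.IsAIC A) (hint : φ.IsIntegral) : Function.Surjective φ := by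
  haveI : Nontrivial A := φ.domain_nontrivial
  have key : ∀ n : ℕ, ∀ (p : A[X]) (c : D), p.Monic → p.natDegree = n → p.eval₂ φ c = 0 →
      ∃ a, φ a = c := by
    intro n
    induction n with
    | zero =>
      intro p c hp hn h0
      rw [eq_one_of_monic_natDegree_zero hp hn] at h0
      simp at h0
    | succ n ih =>
      intro p c hp hn h0
      obtain ⟨a, ha⟩ := hA p hp (by omega)
      have hroot : p.IsRoot a := ha
      have hfac : (X - C a) * (p /ₘ (X - C a)) = p := mul_divByMonic_eq_iff_isRoot.mpr hroot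
      have hqm : (p /ₘ (X - C a)).Monic := by
        refine Monic.of_mul_monic_left (monic_X_sub_C a) ?_
        rw [hfac]; exact hp
      have hqd : (p /ₘ (X - C a)).natDegree = n := by
        rw [natDegree_divByMonic _ (monic_X_sub_C a), hn, natDegree_X_sub_C]; rfl
      rw [← hfac, eval₂_mul] at h0
      rcases mul_eq_zero.mp h0 with h1 | h1
      · refine ⟨a, ?_⟩
        simp only [eval₂_sub, eval₂_X, eval₂_C] at h1
        exact (sub_eq_zero.mp h1).symm
      · exact ih _ c hqm hqd h1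
  intro c
  obtain ⟨p, hp, hpc⟩ := hint c
  exact key _ p c hp rfl hpc

theorem exists_retraction {A B : Type*} [CommRing A] [CommRing B] (φ : A →+* B)
    (hA : Curves.IsAIC A) (hint : φ.IsIntegral) (q : Ideal B) [q.IsPrime] (hq : q.comap φ = ⊥) :
    ∃ ψ : B →+* A, ψ.comp φ = RingHom.id A := by
  let χ : A →+* B ⧸ q := (Ideal.Quotient.mk q).comp φ
  have hinj : Function.Injective χ := by
    rw [injective_iff_map_eq_zero]
    intro a ha
    have : a ∈ q.comap φ := by
      rw [Ideal.mem_comap]; exact Ideal.Quotient.eq_zero_iff_mem.mp ha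
    rw [hq] at this; exact this
  have hχint : χ.IsIntegral :=
    RingHom.IsIntegral.trans _ _ hint (RingHom.isIntegral_of_surjective _ Ideal.Quotient.mk_surjective)
  have hsurj : Function.Surjective χ := surj_of_aic χ hA hχint
  let e := RingEquiv.ofBijective χ ⟨hinj, hsurj⟩
  refine ⟨e.symm.toRingHom.comp (Ideal.Quotient.mk q), ?_⟩
  ext a
  show e.symm (Ideal.Quotient.mk q (φ a)) = a
  have : Ideal.Quotient.mk q (φ a) = e a := rfl
  rw [this, RingEquiv.symm_apply_apply]


/-- Finite coverings: (⇐). -/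
theorem finite_local {P : Scheme.{u}} [IsAffine P] (hA : Curves.IsAIC Γ(P, ⊤))
    (hdom : IsDomain Γ(P, ⊤))
    (X : Scheme.{u}) (R : Presieve X) (hR : R ∈ Scheme.precoverage @IsFinite X) (g : P ⟶ X) :
    ∃ (Y : Scheme.{u}) (w : Y ⟶ X) (h : P ⟶ Y), R w ∧ h ≫ w = g := by
  let η0 : Spec Γ(P, ⊤) := (⟨⊥, Ideal.isPrime_bot⟩ : PrimeSpectrum Γ(P, ⊤))
  let η : P := P.isoSpec.inv η0
  have hη : P.isoSpec.hom η = η0 := by
    show P.isoSpec.hom (P.isoSpec.inv η0) = η0
    rw [← Scheme.Hom.comp_apply, Iso.inv_hom_id]; rfl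
  obtain ⟨Y, w, hw, y, hy⟩ := (Presieve.mem_comap_jointlySurjectivePrecoverage_iff Scheme.forget).mp hR.1 (g η)
  haveI : IsFinite w := hR.2 hw
  obtain ⟨z, hz1, hz2⟩ := Scheme.Pullback.exists_preimage_pullback (f := g) (g := w) η y hy.symm
  haveI : IsAffine (pullback g w) := isAffine_of_isAffineHom (pullback.fst g w)
  let φ := (pullback.fst g w).appTop
  have hfin : φ.hom.Finite :=
    IsFinite.finite_app (pullback.fst g w) ⊤ (isAffineOpen_top P)
  have hnat : (pullback g w).isoSpec.hom ≫ Spec.map φ = pullback.fst g w ≫ P.isoSpec.hom :=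
    Scheme.isoSpec_hom_naturality _
  let q : Ideal Γ(pullback g w, ⊤) := ((pullback g w).isoSpec.hom z).asIdeal
  haveI : q.IsPrime := ((pullback g w).isoSpec.hom z).isPrime
  have hq : q.comap φ.hom = ⊥ := by
    have h1 : (Spec.map φ) ((pullback g w).isoSpec.hom z) = η0 := by
      rw [← Scheme.Hom.comp_apply, hnat, Scheme.Hom.comp_apply, hz1, hη]
    have h2 := congrArg PrimeSpectrum.asIdeal h1
    exact h2
  obtain ⟨ψ, hψ⟩ := exists_retraction φ.hom hA hfin.to_isIntegral q hq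
  let s : P ⟶ pullback g w := P.isoSpec.hom ≫ Spec.map (CommRingCat.ofHom ψ) ≫ (pullback g w).isoSpec.inv
  have hs : s ≫ pullback.fst g w = 𝟙 P := by
    have h3 : (pullback g w).isoSpec.inv ≫ pullback.fst g w = Spec.map φ ≫ P.isoSpec.inv :=
      (Scheme.isoSpec_inv_naturality _).symm
    show (P.isoSpec.hom ≫ Spec.map (CommRingCat.ofHom ψ) ≫ (pullback g w).isoSpec.inv) ≫ pullback.fst g w = 𝟙 P
    simp only [Category.assoc]
    rw [h3, ← Spec.map_comp_assoc]
    have h4 : φ ≫ CommRingCat.ofHom ψ = 𝟙 _ := by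
      ext a
      exact congrFun (congrArg DFunLike.coe hψ) a
    rw [h4, Spec.map_id, Category.id_comp, Iso.hom_inv_id]
  refine ⟨Y, w, s ≫ pullback.snd g w, hw, ?_⟩
  rw [Category.assoc, ← pullback.condition, ← Category.assoc, hs, Category.id_comp]


/-- Zariski coverings: (⇐). -/
theorem zariski_local {P : Scheme.{u}} [IsAffine P] (hloc : IsLocalRing Γ(P, ⊤))
    (X : Scheme.{u}) (R : Presieve X)
    (hR : R ∈ Scheme.precoverage (@IsOpenImmersion ⊓ @QuasiCompact) X) (g : P ⟶ X) :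
    ∃ (Y : Scheme.{u}) (w : Y ⟶ X) (h : P ⟶ Y), R w ∧ h ≫ w = g := by
  let x0 : Spec Γ(P, ⊤) := IsLocalRing.closedPoint Γ(P, ⊤)
  let x : P := P.isoSpec.inv x0
  obtain ⟨Y, w, hw, y, hy⟩ :=
    (Presieve.mem_comap_jointlySurjectivePrecoverage_iff Scheme.forget).mp hR.1 (g x)
  haveI : IsOpenImmersion w := (hR.2 hw).1
  have hrange : Set.range g ⊆ Set.range w := by
    rintro _ ⟨p, rfl⟩
    have h1 : P.isoSpec.hom p ⤳ x0 := IsLocalRing.specializes_closedPoint _
    have h2 : p ⤳ x := by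
      have h := h1.map (P.isoSpec.inv.continuous)
      have e : P.isoSpec.inv (P.isoSpec.hom p) = p := by
        rw [← Scheme.Hom.comp_apply, Iso.hom_inv_id]; rfl
      rw [e] at h
      exact h
    have h3 : g p ⤳ g x := h2.map g.continuous
    exact h3.mem_open w.isOpenEmbedding.isOpen_range ⟨y, hy⟩
  exact ⟨Y, w, IsOpenImmersion.lift w g hrange, hw, IsOpenImmersion.lift_fac _ _ _⟩


section forward
variable {P : Scheme.{u}} [QuasiSeparatedSpace P]

theorem nonempty_of_zar
    (hZ : ∀ (X : Scheme.{u}) (R : Presieve X),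
      R ∈ Scheme.precoverage (@IsOpenImmersion ⊓ @QuasiCompact) X →
        ∀ g : P ⟶ X, ∃ (Y : Scheme.{u}) (w : Y ⟶ X) (h : P ⟶ Y), R w ∧ h ≫ w = g) :
    Nonempty P := by
  by_contra hne
  haveI : IsEmpty P := not_nonempty_iff.mp hne
  obtain ⟨Y, w, h, hw, _⟩ := hZ P ⊥ (Scheme.bot_mem_precoverage _ P) (𝟙 P)
  exact hw

theorem isAffine_of_zar
    (hZ : ∀ (X : Scheme.{u}) (R : Presieve X),
      R ∈ Scheme.precoverage (@IsOpenImmersion ⊓ @QuasiCompact) X →
        ∀ g : P ⟶ X, ∃ (Y : Scheme.{u}) (w : Y ⟶ X) (h : P ⟶ Y), R w ∧ h ≫ w = g) :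
    IsAffine P := by
  have hmem : Presieve.ofArrows P.affineCover.X P.affineCover.f ∈
      Scheme.precoverage (@IsOpenImmersion ⊓ @QuasiCompact) P := by
    rw [Scheme.ofArrows_mem_precoverage_iff]
    refine ⟨fun x => ⟨P.affineCover.idx x, P.affineCover.covers x⟩,
      fun i => ⟨inferInstance, inferInstance⟩⟩
  obtain ⟨Y, w, h, ⟨i⟩, hw⟩ := hZ P _ hmem (𝟙 P)
  have hsurj : Surjective (P.affineCover.f i) :=
    ⟨fun x => ⟨h x, by rw [← Scheme.Hom.comp_apply, hw]; rfl⟩⟩
  haveI : IsIso (P.affineCover.f i) :=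
    (isIso_iff_isOpenImmersion_and_surjective _).mpr ⟨inferInstance, hsurj⟩
  exact IsAffine.of_isIso (inv (P.affineCover.f i))


theorem isLocalRing_of_zar [IsAffine P] (hne : Nonempty P)
    (hZ : ∀ (X : Scheme.{u}) (R : Presieve X),
      R ∈ Scheme.precoverage (@IsOpenImmersion ⊓ @QuasiCompact) X →
        ∀ g : P ⟶ X, ∃ (Y : Scheme.{u}) (w : Y ⟶ X) (h : P ⟶ Y), R w ∧ h ≫ w = g) :
    IsLocalRing Γ(P, ⊤) := by
  haveI : Nonempty (⊤ : P.Opens) := ⟨⟨hne.some, trivial⟩⟩
  haveI : Nontrivial Γ(P, ⊤) := Scheme.component_nontrivial P ⊤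
  refine IsLocalRing.of_isUnit_or_isUnit_one_sub_self fun f => ?_
  let s : Bool → Γ(P, ⊤) := fun b => cond b f (1 - f)
  have hmem : Presieve.ofArrows (fun b => ((P.basicOpen (s b) : P.Opens) : Scheme.{u}))
      (fun b => (P.basicOpen (s b)).ι) ∈
      Scheme.precoverage (@IsOpenImmersion ⊓ @QuasiCompact) P := by
    rw [Scheme.ofArrows_mem_precoverage_iff]
    refine ⟨fun x => ?_, fun b => ?_⟩
    · have hx : x ∈ P.basicOpen (f + (1 - f)) := by
        rw [add_sub_cancel, Scheme.basicOpen_one]; trivial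
      rcases P.basicOpen_add_le f (1 - f) hx with h | h
      · exact ⟨true, by rw [Scheme.Opens.range_ι]; exact h⟩
      · exact ⟨false, by rw [Scheme.Opens.range_ι]; exact h⟩
    · haveI : IsAffine (P.basicOpen (s b) : P.Opens) := ((isAffineOpen_top P).basicOpen (s b))
      exact ⟨inferInstance, inferInstance⟩
  obtain ⟨Y, w, h, ⟨b⟩, hw⟩ := hZ P _ hmem (𝟙 P)
  have htop : ∀ x : P, x ∈ P.basicOpen (s b) := fun x => by
    have hx : x = (P.basicOpen (s b)).ι (h x) := by rw [← Scheme.Hom.comp_apply, hw]; rfl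
    rw [hx]; exact (h x).2
  have hunit : IsUnit (s b) := by
    refine RingedSpace.isUnit_of_isUnit_germ (X := P.toSheafedSpace) ⊤ (s b) fun x hx => ?_
    exact (Scheme.mem_basicOpen P (s b) x hx).mp (htop x)
  cases b
  · right; exact hunit
  · left; exact hunit


theorem exists_ring_retraction [IsAffine P]
    (hF : ∀ (X : Scheme.{u}) (R : Presieve X), R ∈ Scheme.precoverage @IsFinite X →
        ∀ g : P ⟶ X, ∃ (Y : Scheme.{u}) (w : Y ⟶ X) (h : P ⟶ Y), R w ∧ h ≫ w = g)
    {ι : Type} (B : ι → CommRingCat.{u}) (φ : ∀ i, Γ(P, ⊤) ⟶ B i) (hfin : ∀ i, (φ i).hom.Finite)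
    (hsurj : ∀ x : PrimeSpectrum Γ(P, ⊤), ∃ i, x ∈ Set.range (PrimeSpectrum.comap (φ i).hom)) :
    ∃ (i : ι) (ψ : B i ⟶ Γ(P, ⊤)), φ i ≫ ψ = 𝟙 _ := by
  have hmem : Presieve.ofArrows (fun i => Spec (B i)) (fun i => Spec.map (φ i)) ∈
      Scheme.precoverage @IsFinite (Spec Γ(P, ⊤)) := by
    refine (Scheme.ofArrows_mem_precoverage_iff (P := @IsFinite)).mpr
      ⟨fun x => ?_, fun i => (IsFinite.SpecMap_iff (φ i)).mpr (hfin i)⟩
    obtain ⟨i, y, hy⟩ := hsurj x
    exact ⟨i, y, hy⟩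
  obtain ⟨Y, w, h, ⟨i⟩, hw⟩ := hF _ _ hmem P.isoSpec.hom
  let σ : Spec Γ(P, ⊤) ⟶ Spec (B i) := P.isoSpec.inv ≫ h
  have hσ : σ ≫ Spec.map (φ i) = 𝟙 _ := by
    show (P.isoSpec.inv ≫ h) ≫ Spec.map (φ i) = 𝟙 _
    rw [Category.assoc, hw, Iso.inv_hom_id]
  refine ⟨i, Spec.preimage σ, Spec.map_injective ?_⟩
  rw [Spec.map_comp, Spec.map_preimage, hσ, Spec.map_id]

theorem isDomain_of_fin [IsAffine P] [Nontrivial Γ(P, ⊤)]
    (hF : ∀ (X : Scheme.{u}) (R : Presieve X), R ∈ Scheme.precoverage @IsFinite X →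
        ∀ g : P ⟶ X, ∃ (Y : Scheme.{u}) (w : Y ⟶ X) (h : P ⟶ Y), R w ∧ h ≫ w = g) :
    IsDomain Γ(P, ⊤) := by
  haveI : NoZeroDivisors Γ(P, ⊤) := by
    refine ⟨fun {a b} hab => ?_⟩
    let s : Bool → Γ(P, ⊤) := fun c => cond c a b
    obtain ⟨c, ψ, hψ⟩ := exists_ring_retraction hF
      (fun c => CommRingCat.of (Γ(P, ⊤) ⧸ Ideal.span {s c}))
      (fun c => CommRingCat.ofHom (Ideal.Quotient.mk (Ideal.span {s c})))
      (fun c => RingHom.Finite.of_surjective _ Ideal.Quotient.mk_surjective)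
      (fun x => by
        have hx : a * b ∈ x.asIdeal := by rw [hab]; exact x.asIdeal.zero_mem
        have key : ∀ c, s c ∈ x.asIdeal →
            x ∈ Set.range (PrimeSpectrum.comap (Ideal.Quotient.mk (Ideal.span {s c}))) := by
          intro c hc
          rw [_root_.range_comap_of_surjective _ _ Ideal.Quotient.mk_surjective,
            Ideal.mk_ker, PrimeSpectrum.mem_zeroLocus]
          intro y hy
          obtain ⟨r, rfl⟩ := Ideal.mem_span_singleton'.mp hy
          exact x.asIdeal.mul_mem_left _ hc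
        rcases x.isPrime.mem_or_mem hx with h | h
        · exact ⟨true, key true h⟩
        · exact ⟨false, key false h⟩)
    have h0 : s c = 0 := by
      have h1 : (ψ.hom) (Ideal.Quotient.mk (Ideal.span {s c}) (s c)) = s c :=
        congrFun (congrArg (fun k => (k.hom : _ → _)) hψ) (s c)
      rw [Ideal.Quotient.eq_zero_iff_mem.mpr (Ideal.mem_span_singleton_self _), map_zero] at h1
      exact h1.symm
    cases c
    · right; exact h0
    · left; exact h0
  exact NoZeroDivisors.to_isDomain _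

theorem isAIC_of_fin [IsAffine P] [IsDomain Γ(P, ⊤)]
    (hF : ∀ (X : Scheme.{u}) (R : Presieve X), R ∈ Scheme.precoverage @IsFinite X →
        ∀ g : P ⟶ X, ∃ (Y : Scheme.{u}) (w : Y ⟶ X) (h : P ⟶ Y), R w ∧ h ≫ w = g) :
    Curves.IsAIC Γ(P, ⊤) := by
  intro f hf hdeg
  have hfin : (AdjoinRoot.of f).Finite := by
    rw [← AdjoinRoot.algebraMap_eq, RingHom.finite_algebraMap]
    exact hf.finite_adjoinRoot
  have hinj : Function.Injective (AdjoinRoot.of f) := by
    refine AdjoinRoot.of.injective_of_degree_ne_zero fun h0 => ?_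
    have := Polynomial.natDegree_eq_zero_iff_degree_le_zero.mpr (le_of_eq h0)
    omega
  obtain ⟨_, ψ, hψ⟩ := exists_ring_retraction hF (ι := Unit)
    (fun _ => CommRingCat.of (AdjoinRoot f))
    (fun _ => CommRingCat.ofHom (AdjoinRoot.of f))
    (fun _ => hfin)
    (fun x => ⟨(), hfin.to_isIntegral.comap_surjective hinj x⟩)
  refine ⟨ψ.hom (AdjoinRoot.root f), ?_⟩
  have h1 : ∀ a, ψ.hom (AdjoinRoot.of f a) = a := fun a =>
    congrFun (congrArg (fun k => (k.hom : _ → _)) hψ) a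
  have h2 : ψ.hom (f.eval₂ (AdjoinRoot.of f) (AdjoinRoot.root f)) =
      f.eval₂ (ψ.hom.comp (AdjoinRoot.of f)) (ψ.hom (AdjoinRoot.root f)) :=
    Polynomial.hom_eval₂ f (AdjoinRoot.of f) ψ.hom (AdjoinRoot.root f)
  rw [AdjoinRoot.eval₂_root, map_zero] at h2
  have h3 : ψ.hom.comp (AdjoinRoot.of f) = RingHom.id _ := RingHom.ext h1
  rw [h3] at h2
  rw [← Polynomial.eval₂_id]
  exact h2.symm

end forward

theorem main (P : Scheme.{u}) [QuasiSeparatedSpace P] :
    ((∀ (X : Scheme.{u}) (R : Presieve X), R ∈ Scheme.precoverage (@IsOpenImmersion ⊓ @QuasiCompact) X →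
        ∀ g : P ⟶ X, ∃ (Y : Scheme.{u}) (w : Y ⟶ X) (h : P ⟶ Y), R w ∧ h ≫ w = g) ∧
      (∀ (X : Scheme.{u}) (R : Presieve X), R ∈ Scheme.precoverage @IsFinite X →
        ∀ g : P ⟶ X, ∃ (Y : Scheme.{u}) (w : Y ⟶ X) (h : P ⟶ Y), R w ∧ h ≫ w = g)) ↔
    (IsAffine P ∧ IsLocalRing Γ(P, ⊤) ∧ IsDomain Γ(P, ⊤) ∧ Curves.IsAIC Γ(P, ⊤)) := by
  constructor
  · rintro ⟨hZ, hF⟩
    haveI := isAffine_of_zar hZ
    have hne := nonempty_of_zar hZ
    have hloc := isLocalRing_of_zar hne hZ
    haveI : Nontrivial Γ(P, ⊤) := hloc.toNontrivial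
    haveI := isDomain_of_fin hF
    exact ⟨inferInstance, hloc, inferInstance, isAIC_of_fin hF⟩
  · rintro ⟨hA, hloc, hdom, haic⟩
    exact ⟨fun X R hR g => zariski_local hloc X R hR g,
      fun X R hR g => finite_local haic hdom X R hR g⟩


/-- Let P be a quasi-separated scheme. Then P is local for Zariski coverings (for every scheme X, every
jointly surjective family of quasi-compact open immersions into X and every morphism P ⟶ X, the
morphism factors through a member) and for finite coverings (the same for jointly surjective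
families of finite morphisms) — which together is locality for the rqfh coverings, the finite
composites of coverings of these two kinds — if and only if P is affine and Γ(P) is a local integral
domain in which every monic polynomial of positive degree has a root, i.e. the spectrum of an
absolutely integrally closed local domain. The published statement allows any scheme P; this row
assumes P quasi-separated. -/
theorem result (P : Scheme.{u}) [QuasiSeparatedSpace P] :
    ((∀ (X : Scheme.{u}) (R : Presieve X), R ∈ Scheme.precoverage (@IsOpenImmersion ⊓ @QuasiCompact) X →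
        ∀ g : P ⟶ X, ∃ (Y : Scheme.{u}) (w : Y ⟶ X) (h : P ⟶ Y), R w ∧ h ≫ w = g) ∧
      (∀ (X : Scheme.{u}) (R : Presieve X), R ∈ Scheme.precoverage @IsFinite X →
        ∀ g : P ⟶ X, ∃ (Y : Scheme.{u}) (w : Y ⟶ X) (h : P ⟶ Y), R w ∧ h ≫ w = g)) ↔
    (IsAffine P ∧ IsLocalRing Γ(P, ⊤) ∧ IsDomain Γ(P, ⊤) ∧ Curves.IsAIC Γ(P, ⊤)) := by
  exact main P

end Groth.Agent.S19345
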