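import Groth.Statements.S19348
import Mathlib.RingTheory.Jacobson.Ideal

set_option autoImplicit false
universe u
open RigCh

namespace Groth.Agent.S19348

theorem result (p : ℕ) [Fact p.Prime] (m : ℕ)
    (P : Type u) [CommRing P] [IsAdicComplete (Ideal.span {(p : P)}) P]
    (I J : Ideal P) (hJ : DividedPowers J) (hJI : J ≤ I)
    (hpow : ∀ x ∈ I, x ^ (p ^ m) ∈ J) (hmul : ∀ x ∈ I, (p : P) * x ∈ J)
    (u : P) (hu : IsUnit (Ideal.Quotient.mk I u)) : IsUnit u := by
  have hpp : p.Prime := Fact.out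
  have hjac : Ideal.span {(p : P)} ≤ (⊥ : Ideal P).jacobson := IsAdicComplete.le_jacobson_bot _
  have hI : I ≤ (⊥ : Ideal P).jacobson := by
    intro x hx
    have hy : x ^ (p ^ m) ∈ J := hpow x hx
    have h1 : (x ^ (p ^ m)) ^ p ∈ Ideal.span {(p : P)} := by
      rw [← hJ.factorial_mul_dpow_eq_pow hy]
      apply Ideal.mul_mem_right
      obtain ⟨c, hc⟩ := Nat.dvd_factorial hpp.pos le_rfl
      rw [hc, Nat.cast_mul]
      exact Ideal.mul_mem_right _ _ (Ideal.mem_span_singleton_self _)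
    have h2 : x ^ (p ^ m * p) ∈ (⊥ : Ideal P).jacobson := by
      rw [pow_mul]; exact hjac h1
    have h3 : x ∈ ((⊥ : Ideal P).jacobson).radical := ⟨_, h2⟩
    have h4 := Ideal.radical_le_jacobson h3
    rwa [Ideal.jacobson_idem] at h4
  obtain ⟨w, hw⟩ := hu.exists_right_inv
  obtain ⟨v, rfl⟩ := Ideal.Quotient.mk_surjective w
  rw [← map_mul, ← map_one (Ideal.Quotient.mk I), Ideal.Quotient.eq] at hw
  have h5 : IsUnit (u * v) := Ideal.isUnit_of_sub_one_mem_jacobson_bot _ (hI hw)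
  exact isUnit_of_mul_isUnit_left h5

end Groth.Agent.S19348
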