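import Groth.Statements.S19350
-- import your own Groth.Agent.* helpers here
import Groth.Agent.S1696
import Groth.Agent.H8.StalkLocal
import Groth.Agent.H8.LocFreeNearFinite
import Groth.Agent.H17.KerLocFree
import Groth.Agent.H28.LpullLoc

set_option autoImplicit false
universe u
open RigCh

namespace Groth.Agent.S19350

open AlgebraicGeometry CategoryTheory in
/-- Let X be a separated scheme of finite type over a field k, I a quasi-coherent ideal sheaf on X, b :
X' → X a blowing up of X in I and F a finite locally free O_X-module. Then for any strict transform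
G of F along b (an epimorphism π from the pullback of F onto G whose kernel consists,
affine-locally, of the sections annihilated by a power of the exceptional ideal), π is an
isomorphism and G is finite locally free. (The published statement asserts only that the strict
transform is locally free. The source assumes k of positive characteristic, which plays no role
here.) -/
theorem result (k : Type u) [Field k]
    (X : Scheme.{u}) (f : X ⟶ Spec (CommRingCat.of k)) [IsSeparated f] [QuasiCompact f] [LocallyOfFiniteType f]
    (I : X.IdealSheafData) {X' : Scheme.{u}} (b : X' ⟶ X) (hb : BlowUp.IsBlowUp b I)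
    (F : X.Modules) (hF : FlatMod.IsFinLocFree F) (G : X'.Modules) (π : (Scheme.Modules.pullback b).obj F ⟶ G)
    (hG : BlowUp.IsStrictTransform b I F G π) : IsIso π ∧ FlatMod.IsFinLocFree G := by
  have hq : Coh.IsQCoh F := Groth.Agent.H8.isQuasicoherent_of_isFinLocFree F hF
  have hflat : ∀ s : ↥X, s ∈ I.support → FlatMod.IsFlatAt F s := by
    intro s _
    haveI := Groth.Agent.H17.KerLocFree.free_stalk_of_isFinLocFree hF s
    show Module.Flat _ _
    infer_instance
  have h0 := Groth.Agent.S1696.result I b hb F hq hflat
  obtain ⟨hepi, hker⟩ := hG
  -- π is injective on sections over affine opens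
  have hinjaff : ∀ (V : X'.affineOpens)
      (m : ((Scheme.Modules.pullback b).obj F).presheaf.obj (Opposite.op V.1)),
      π.app V.1 m = 0 → m = 0 := by
    intro V m hm
    have h1 := (hker V m).mp hm
    exact (h0.2 V m).mpr h1
  have hinj : ∀ O : X'.Opens, Function.Injective (π.app O) := by
    intro O
    rw [injective_iff_map_eq_zero]
    intro m hm
    apply TopCat.Presheaf.section_ext ⟨((Scheme.Modules.pullback b).obj F).presheaf,
      ((Scheme.Modules.pullback b).obj F).isSheaf⟩ O m 0
    intro x hx
    rw [map_zero]
    obtain ⟨W, hW, hxW, hWle⟩ := exists_isAffineOpen_mem_and_subset (x := x) (U := O) hx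
    have e1 : ((Scheme.Modules.pullback b).obj F).presheaf.map (homOfLE hWle).op m = 0 := by
      apply hinjaff ⟨W, hW⟩
      have nat := congr($(π.mapPresheaf.naturality (homOfLE hWle).op) m)
      change π.app W (((Scheme.Modules.pullback b).obj F).presheaf.map (homOfLE hWle).op m) =
        G.presheaf.map (homOfLE hWle).op (π.app O m) at nat
      rw [nat, hm, map_zero]
    have e3 : ((Scheme.Modules.pullback b).obj F).presheaf.germ W x hxW
        (((Scheme.Modules.pullback b).obj F).presheaf.map (homOfLE hWle).op m) =
        ((Scheme.Modules.pullback b).obj F).presheaf.germ O x hx m :=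
      TopCat.Presheaf.germ_res_apply _ _ _ _ _
    rw [← e3, e1, map_zero]
  haveI : Mono π := Groth.Agent.H8.mono_of_app_injective π hinj
  haveI : Epi π := hepi
  haveI : IsIso π := isIso_of_mono_of_epi π
  refine ⟨inferInstance, ?_⟩
  have hpb := Groth.Agent.H28.LpullLoc.isFinLocFree_pullback b hF
  intro x
  obtain ⟨U, n, hxU, ⟨e⟩⟩ := hpb x
  exact ⟨U, n, hxU, ⟨(Scheme.Modules.restrictFunctor U.ι).mapIso (asIso π).symm ≪≫ e⟩⟩

end Groth.Agent.S19350
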