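import Groth.Statements.S19356
import Mathlib

set_option autoImplicit false
universe u
open AbVar

namespace Groth.Agent.S19356


open scoped ComplexConjugate

/-- a positive definite rational quadratic form dominates the square of any linear functional. -/
theorem bound_of_posDef {V : Type*} [AddCommGroup V] [Module ℚ V] [FiniteDimensional ℚ V]
    (Q : QuadraticForm ℚ V) (hQ : ∀ x, x ≠ 0 → 0 < Q x) (ℓ : V →ₗ[ℚ] ℂ) :
    ∃ C : ℝ, ∀ x, ‖ℓ x‖ ^ 2 ≤ C * ((Q x : ℚ) : ℝ) := by
  classical
  obtain ⟨w, ⟨e₀⟩⟩ := QuadraticForm.equivalent_weightedSumSquares Q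
  obtain ⟨e, he⟩ : ∃ e : V ≃ₗ[ℚ] (Fin (Module.finrank ℚ V) → ℚ),
      ∀ x, QuadraticMap.weightedSumSquares ℚ w (e x) = Q x := ⟨e₀.toLinearEquiv, e₀.map_app⟩
  let f : Fin (Module.finrank ℚ V) → V := fun i => e.symm (Pi.single i 1)
  have hef : ∀ i, e (f i) = Pi.single i 1 := fun i => e.apply_symm_apply _
  have hQf : ∀ i, Q (f i) = w i := by
    intro i
    rw [← he (f i), hef, QuadraticMap.weightedSumSquares_apply]
    rw [Finset.sum_eq_single i]
    · simp
    · intro j _ hj
      simp [hj]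
    · intro h
      exact absurd (Finset.mem_univ i) h
  have hw : ∀ i, 0 < w i := by
    intro i
    rw [← hQf i]
    apply hQ
    intro h0
    have h1 := hef i
    rw [h0, map_zero] at h1
    have h2 := congrFun h1 i
    simp at h2
  have hQx : ∀ x, Q x = ∑ i, w i * (e x i * e x i) := by
    intro x
    rw [← he x, QuadraticMap.weightedSumSquares_apply]
    simp [smul_eq_mul]
  have hx : ∀ x, x = ∑ i, e x i • f i := by
    intro x
    apply e.injective
    rw [map_sum]
    simp_rw [map_smul, hef]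
    funext j
    simp [Finset.sum_apply, Pi.single_apply]
  let c : Fin (Module.finrank ℚ V) → ℝ := fun i => ‖ℓ (f i)‖
  obtain ⟨S, hSdef⟩ : ∃ S : ℝ, S = ∑ j, c j ^ 2 / (w j : ℝ) := ⟨_, rfl⟩
  have hS : ∀ i, c i ^ 2 / (w i : ℝ) ≤ S := by
    intro i
    rw [hSdef]
    exact Finset.single_le_sum (f := fun j => c j ^ 2 / (w j : ℝ))
      (fun j _ => div_nonneg (sq_nonneg _) (by exact_mod_cast (hw j).le)) (Finset.mem_univ i)
  refine ⟨(Module.finrank ℚ V : ℝ) * S, ?_⟩
  intro x
  have h1 : ‖ℓ x‖ ≤ ∑ i, |((e x i : ℚ) : ℝ)| * c i := by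
    conv_lhs => rw [hx x, map_sum]
    refine (norm_sum_le _ _).trans (le_of_eq ?_)
    apply Finset.sum_congr rfl
    intro i _
    rw [map_smul, Rat.smul_def, norm_mul, Complex.norm_ratCast]
  have h2 : (∑ i, |((e x i : ℚ) : ℝ)| * c i) ^ 2 ≤
      (Module.finrank ℚ V : ℝ) * ∑ i, (|((e x i : ℚ) : ℝ)| * c i) ^ 2 := by
    have h := sq_sum_le_card_mul_sum_sq (s := (Finset.univ : Finset (Fin (Module.finrank ℚ V))))
      (f := fun i => |((e x i : ℚ) : ℝ)| * c i)
    simpa using h
  have h3 : ∑ i, (|((e x i : ℚ) : ℝ)| * c i) ^ 2 ≤ S * ((Q x : ℚ) : ℝ) := by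
    rw [hQx x, Rat.cast_sum, Finset.mul_sum]
    apply Finset.sum_le_sum
    intro i _
    have hwi : (0:ℝ) < w i := by exact_mod_cast hw i
    rw [mul_pow, sq_abs]
    push_cast
    calc ((e x i : ℚ) : ℝ) ^ 2 * c i ^ 2
        = (c i ^ 2 / (w i : ℝ)) * ((w i : ℝ) * (((e x i : ℚ) : ℝ) * ((e x i : ℚ) : ℝ))) := by
          field_simp
      _ ≤ S * ((w i : ℝ) * (((e x i : ℚ) : ℝ) * ((e x i : ℚ) : ℝ))) := by
          apply mul_le_mul_of_nonneg_right (hS i)
          exact mul_nonneg hwi.le (mul_self_nonneg _)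
  calc ‖ℓ x‖ ^ 2 ≤ (∑ i, |((e x i : ℚ) : ℝ)| * c i) ^ 2 :=
        pow_le_pow_left₀ (norm_nonneg _) h1 2
    _ ≤ (Module.finrank ℚ V : ℝ) * ∑ i, (|((e x i : ℚ) : ℝ)| * c i) ^ 2 := h2
    _ ≤ (Module.finrank ℚ V : ℝ) * (S * ((Q x : ℚ) : ℝ)) :=
        mul_le_mul_of_nonneg_left h3 (Nat.cast_nonneg _)
    _ = (Module.finrank ℚ V : ℝ) * S * ((Q x : ℚ) : ℝ) := by ring

/-- Let R be a finite-dimensional ℚ-algebra with a ℚ-linear involution x ↦ x† (an anti-automorphism of
order two) and a ℚ-linear functional σ with σ(x x†) > 0 for every x ≠ 0; this is the positivity of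
the involution, σ being the trace of R over ℚ in the case of the endomorphism algebra of an abelian
variety with a Rosati involution, and the trace on a cohomology group in the case of an algebra of
correspondences with the adjoint for a Weil form. Let α ∈ R with α α† = q for a rational number q.
Then α† lies in the subalgebra ℚ[α], and for every ℚ-algebra homomorphism ρ : ℚ[α] → ℂ one has ρ(α†)
= the complex conjugate of ρ(α) and |ρ(α)|² = q. (The published statement is for the endomorphism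
algebra of an abelian variety with a Rosati involution, with σ its trace over ℚ and q an integer;
the form given here, for an arbitrary ℚ-linear functional σ positive on every x x† with x ≠ 0 and
rational q, is what its proof establishes.) -/
theorem result (R : Type u) [Ring R] [Algebra ℚ R]
    [Module.Finite ℚ R] [StarRing R] [StarModule ℚ R]
    (σ : R →ₗ[ℚ] ℚ) (hpos : ∀ x : R, x ≠ 0 → 0 < σ (x * star x))
    (α : R) (q : ℚ) (hα : α * star α = algebraMap ℚ R q) :
    ∃ hmem : star α ∈ Algebra.adjoin ℚ ({α} : Set R),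
      ∀ ρ : Algebra.adjoin ℚ ({α} : Set R) →ₐ[ℚ] ℂ,
        ρ ⟨star α, hmem⟩ = starRingEnd ℂ (ρ ⟨α, Algebra.self_mem_adjoin_singleton ℚ α⟩) ∧
          ‖ρ ⟨α, Algebra.self_mem_adjoin_singleton ℚ α⟩‖ ^ 2 = (q : ℝ) := by
  classical
  set E : Subalgebra ℚ R := Algebra.adjoin ℚ ({α} : Set R) with hE
  have hαE : α ∈ E := Algebra.self_mem_adjoin_singleton ℚ α
  rcases eq_or_ne α 0 with hα0 | hα0
  · -- the degenerate case
    have hs : star α = 0 := by rw [hα0, star_zero]
    have hmem : star α ∈ E := by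
      rw [hs]
      exact zero_mem _
    refine ⟨hmem, fun ρ => ?_⟩
    have e1 : (⟨star α, hmem⟩ : E) = 0 := Subtype.ext hs
    have e2 : ∀ h : α ∈ E, (⟨α, h⟩ : E) = 0 := fun h => Subtype.ext hα0
    rw [e1, e2, map_zero, map_zero, norm_zero]
    have hq : q = 0 := by
      by_contra hq
      have h1 : algebraMap ℚ R q = 0 := by rw [← hα, hα0, zero_mul]
      have h2 : (1 : R) = 0 := by
        have h := congrArg (fun z => algebraMap ℚ R q⁻¹ * z) h1
        simp only [mul_zero] at h
        rw [← map_mul, inv_mul_cancel₀ hq, map_one] at h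
        exact h
      have h3 : (1 : E) = 0 := Subtype.ext h2
      have h4 := congrArg ρ h3
      rw [map_one, map_zero] at h4
      exact one_ne_zero h4
    simp [hq]
  · have hσpos := hpos α hα0
    rw [hα] at hσpos
    have hq0 : q ≠ 0 := by
      rintro rfl
      simp at hσpos
    have h1R : (1 : R) ≠ 0 := by
      intro h
      apply hα0
      rw [← mul_one α, h, mul_zero]
    have hσ1 : 0 < σ 1 := by
      have h := hpos 1 h1R
      simpa using h
    have hqpos : 0 < q := by
      rw [Algebra.algebraMap_eq_smul_one, map_smul, smul_eq_mul] at hσpos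
      exact (mul_pos_iff_of_pos_right hσ1).mp hσpos
    obtain ⟨β, hβ⟩ : ∃ β : R, β = q⁻¹ • star α := ⟨_, rfl⟩
    have hαβ : α * β = 1 := by
      rw [hβ, mul_smul_comm, hα, Algebra.algebraMap_eq_smul_one, smul_smul, inv_mul_cancel₀ hq0,
        one_smul]
    have hsurjR : Function.Surjective (LinearMap.mulLeft ℚ α) := fun y =>
      ⟨β * y, by simp [← mul_assoc, hαβ]⟩
    have hinjR : Function.Injective (LinearMap.mulLeft ℚ α) :=
      LinearMap.injective_iff_surjective.mpr hsurjR
    have hβα : β * α = 1 := by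
      apply hinjR
      simp only [LinearMap.mulLeft_apply]
      rw [← mul_assoc, hαβ, one_mul, mul_one]
    have : FiniteDimensional ℚ E :=
      Module.Finite.of_injective E.val.toLinearMap Subtype.val_injective
    have hinjE : Function.Injective (LinearMap.mulLeft ℚ (⟨α, hαE⟩ : E)) := by
      intro x y hxy
      apply Subtype.ext
      apply hinjR
      have h := congrArg Subtype.val hxy
      simpa using h
    have hsurjE : Function.Surjective (LinearMap.mulLeft ℚ (⟨α, hαE⟩ : E)) :=
      LinearMap.injective_iff_surjective.mp hinjE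
    obtain ⟨γ, hγ⟩ := hsurjE 1
    have hγβ : (γ : R) = β := by
      have h1 : α * (γ : R) = 1 := by
        have h := congrArg Subtype.val hγ
        simpa using h
      calc (γ : R) = (β * α) * γ := by rw [hβα, one_mul]
        _ = β * (α * γ) := mul_assoc _ _ _
        _ = β := by rw [h1, mul_one]
    have hβE : β ∈ E := hγβ ▸ γ.2
    have hstar : star α = q • β := by
      rw [hβ, smul_smul, mul_inv_cancel₀ hq0, one_smul]
    have hmem : star α ∈ E := by
      rw [hstar]
      exact E.smul_mem hβE q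
    have hstarE : ∀ x ∈ E, star x ∈ E := by
      intro x hx
      rw [hE] at hx
      induction hx using Algebra.adjoin_induction with
      | mem y hy =>
        rw [Set.mem_singleton_iff.mp hy]
        exact hmem
      | algebraMap r =>
        rw [← algebraMap_star_comm, star_trivial]
        exact E.algebraMap_mem r
      | add y z _ _ hy hz =>
        rw [star_add]
        exact E.add_mem hy hz
      | mul y z _ _ hy hz =>
        rw [star_mul]
        exact E.mul_mem hz hy
    have hcomm : ∀ x ∈ E, ∀ y ∈ E, x * y = y * x := by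
      intro x hx y hy
      rw [hE] at hx hy
      have h1 : Commute α x := Algebra.commute_of_mem_adjoin_self hx
      have h2 : Commute x y := Algebra.commute_of_mem_adjoin_singleton_of_commute hy h1.symm
      exact h2.eq
    -- the positive definite quadratic form on E
    let starL : R →ₗ[ℚ] R :=
      { toFun := star
        map_add' := star_add
        map_smul' := fun c x => by simp }
    let B : R →ₗ[ℚ] R →ₗ[ℚ] ℚ := ((LinearMap.mul ℚ R).compl₂ starL).compr₂ σ
    let QR : QuadraticForm ℚ R := LinearMap.BilinMap.toQuadraticMap B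
    let QE : QuadraticForm ℚ E := QR.comp E.val.toLinearMap
    have hQE : ∀ x : E, QE x = σ ((x : R) * star (x : R)) := fun x => rfl
    have hQEpos : ∀ x : E, x ≠ 0 → 0 < QE x := fun x hx => by
      rw [hQE]
      exact hpos _ (fun h => hx (Subtype.ext h))
    have hqR : (0:ℝ) < q := by exact_mod_cast hqpos
    have key : ∀ (a : R) (ha : a ∈ E) (hsa : a * star a = algebraMap ℚ R q) (ρ : E →ₐ[ℚ] ℂ),
        ‖ρ ⟨a, ha⟩‖ ^ 2 ≤ (q : ℝ) := by
      intro a ha hsa ρ
      obtain ⟨C, hC⟩ := bound_of_posDef QE hQEpos ρ.toLinearMap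
      by_contra hlt
      rw [not_le] at hlt
      obtain ⟨lam0, hlam0⟩ : ∃ l : ℝ, l = ‖ρ ⟨a, ha⟩‖ ^ 2 := ⟨_, rfl⟩
      rw [← hlam0] at hlt
      have hr : 1 < lam0 / q := by
        rw [lt_div_iff₀ hqR, one_mul]
        exact hlt
      obtain ⟨n, hn⟩ := pow_unbounded_of_one_lt (C * ((σ 1 : ℚ) : ℝ)) hr
      have h1 := hC ((⟨a, ha⟩ : E) ^ n)
      have h2 : ‖ρ.toLinearMap ((⟨a, ha⟩ : E) ^ n)‖ ^ 2 = lam0 ^ n := by
        rw [AlgHom.toLinearMap_apply, map_pow, norm_pow, hlam0, ← pow_mul, ← pow_mul, mul_comm]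
      have h3 : QE ((⟨a, ha⟩ : E) ^ n) = q ^ n * σ 1 := by
        rw [hQE]
        have h4 : (((⟨a, ha⟩ : E) ^ n : E) : R) = a ^ n := by simp
        rw [h4, star_pow]
        have hc : Commute a (star a) := hcomm a ha (star a) (hstarE a ha)
        rw [← hc.mul_pow, hsa, ← map_pow, Algebra.algebraMap_eq_smul_one, map_smul, smul_eq_mul]
      rw [h2, h3] at h1
      have h4 : (lam0 / q) ^ n ≤ C * ((σ 1 : ℚ) : ℝ) := by
        rw [div_pow, div_le_iff₀ (pow_pos hqR n)]
        push_cast at h1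
        linarith
      linarith
    refine ⟨hmem, fun ρ => ?_⟩
    obtain ⟨lam, hlam⟩ : ∃ l : ℂ, l = ρ ⟨α, hαE⟩ := ⟨_, rfl⟩
    obtain ⟨lam', hlam'⟩ : ∃ l : ℂ, l = ρ ⟨star α, hmem⟩ := ⟨_, rfl⟩
    have hgoal : lam' = conj lam ∧ ‖lam‖ ^ 2 = (q : ℝ) := by
      have k1 : ‖lam‖ ^ 2 ≤ (q:ℝ) := by
        rw [hlam]
        exact key α hαE hα ρ
      have hsα : star α * star (star α) = algebraMap ℚ R q := by
        rw [star_star, hstar, smul_mul_assoc, hβα, Algebra.algebraMap_eq_smul_one]
      have k2 : ‖lam'‖ ^ 2 ≤ (q:ℝ) := by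
        rw [hlam']
        exact key (star α) hmem hsα ρ
      have hprod : lam * lam' = (q : ℂ) := by
        rw [hlam, hlam', ← map_mul]
        have h : (⟨α, hαE⟩ : E) * ⟨star α, hmem⟩ = algebraMap ℚ E q := Subtype.ext hα
        rw [h, AlgHom.commutes]
        simp
      have hnprod : ‖lam‖ ^ 2 * ‖lam'‖ ^ 2 = (q:ℝ) ^ 2 := by
        rw [← mul_pow, ← norm_mul, hprod, Complex.norm_ratCast, sq_abs]
      have ha0 : 0 ≤ ‖lam‖ ^ 2 := sq_nonneg _
      have h6 : (q:ℝ) * q ≤ ‖lam‖ ^ 2 * q := by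
        rw [← sq, ← hnprod]
        exact mul_le_mul_of_nonneg_left k2 ha0
      have h7 : (q:ℝ) ≤ ‖lam‖ ^ 2 := le_of_mul_le_mul_right h6 hqR
      have e1 : ‖lam‖ ^ 2 = (q:ℝ) := le_antisymm k1 h7
      refine ⟨?_, e1⟩
      have hlam0 : lam ≠ 0 := by
        intro h
        rw [h, norm_zero] at e1
        have : (q:ℝ) = 0 := by rw [← e1]; simp
        exact hqR.ne' this
      have h5 : conj lam * lam = (q : ℂ) := by
        rw [Complex.conj_mul', ← Complex.ofReal_pow, e1]
        simp
      apply mul_right_cancel₀ hlam0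
      rw [mul_comm lam' lam, hprod, h5]
    rw [hlam, hlam'] at hgoal
    exact hgoal

end Groth.Agent.S19356
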