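import Groth.Statements.S19368
import Groth.Agent.H77.FanD

set_option autoImplicit false
universe u
open CategoryTheory Opposite Instab
open Instab Instab.Fan

namespace Groth.Agent.S19368

/-- Let F be a formal fan; a subset of P F is realizable when it is the image of the projective
realization of some sub-fan of F. The intersection of two realizable subsets is realizable, and the
union of an arbitrary family of realizable subsets is realizable. -/
theorem result (F : Fan.{u}) :
    (∀ U V : Set (Fan.P F), Fan.IsRealizable U → Fan.IsRealizable V → Fan.IsRealizable (U ∩ V)) ∧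
    ∀ (ι : Type u) (U : ι → Set (Fan.P F)), (∀ i, Fan.IsRealizable (U i)) →
      Fan.IsRealizable (Set.iUnion U) := by
  refine ⟨?_, ?_⟩
  · rintro U V ⟨S, rfl⟩ ⟨S', rfl⟩
    refine ⟨S ⊓ S', ?_⟩
    rw [Groth.Agent.H77.FanB.range_P_map_ι, Groth.Agent.H77.FanB.range_P_map_ι,
      Groth.Agent.H77.FanB.range_P_map_ι, Groth.Agent.H77.FanB.cellsOf_inf]
  · intro ι U hU
    choose S hS using hU
    refine ⟨⨆ i, S i, ?_⟩
    rw [Groth.Agent.H77.FanB.range_P_map_ι, ← Groth.Agent.H77.FanB.cellsOf_iSup]
    congr 1
    funext i
    rw [hS i, Groth.Agent.H77.FanB.range_P_map_ι]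

end Groth.Agent.S19368
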