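import Groth.Statements.S19374
import Mathlib
-- import your own Groth.Agent.* helpers here

set_option autoImplicit false
universe u
open CategoryTheory Opposite Instab
open Instab Instab.Fan

namespace Groth.Agent.S19374

theorem mk_smul {F : Fan.{u}} {n : ICone} (ξ : F.obj (op n)) (v w : Fan.Orth n) (c : ℝ)
    (hc : 0 < c) (h : w.1 = c • v.1) : Fan.P.mk ξ v = Fan.P.mk ξ w := by
  have hreal : (𝟙 n : n ⟶ n).realMap v.1 = v.1 := by
    funext j
    show ∑ i, (((𝟙 n : n ⟶ n).toLin (Pi.single i 1) j : ℤ) : ℝ) * v.1 i = v.1 j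
    have hid : ∀ i, ((𝟙 n : n ⟶ n).toLin (Pi.single i 1) j : ℤ)
        = (Pi.single i (1 : ℤ) : Fin n.dim → ℤ) j := fun i => rfl
    simp only [hid]
    rw [Finset.sum_eq_single j]
    · simp
    · intro i _ hij
      simp [Pi.single_apply, hij, hij.symm]
    · intro h; exact absurd (Finset.mem_univ _) h
  have hrel := Fan.Rel.glue (F := F) (𝟙 n) ξ v w c hc (by rw [hreal]; exact h)
  have hid : F.map (𝟙 n : n ⟶ n).op ξ = ξ := by simp
  rw [hid] at hrel
  exact Quot.sound hrel


/-- Let F be a formal fan and U ⊆ P F. Then U is locally convex in the simplex-wise sense — for every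
rational simplex, a ray lying strictly between two rays that map into U also maps into U — if and
only if, for every n-cone ξ of F, the set of nonzero nonnegative vectors v of ℝ^n whose point of the
rational simplex of ξ lies in U is a convex subset of ℝ^n (convexity of the preimage of U in each
punctured cone of the affine realization). -/
theorem result (F : Fan.{u}) (U : Set (Fan.P F)) :
    Fan.IsLocallyConvex U ↔
      ∀ (n : ICone) (ξ : F.obj (op n)),
        Convex ℝ {v : Fin n.dim → ℝ | ∃ h : (∀ i, 0 ≤ v i) ∧ v ≠ 0, Fan.P.mk ξ (⟨v, h⟩ : Fan.Orth n) ∈ U} := by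
  constructor
  · intro hU n ξ x hx y hy a b ha hb hab
    obtain ⟨hx1, hxU⟩ := hx
    obtain ⟨hy1, hyU⟩ := hy
    rcases eq_or_lt_of_le ha with ha0 | ha0
    · have hb1 : b = 1 := by rw [← ha0, zero_add] at hab; exact hab
      have e : a • x + b • y = y := by rw [← ha0, hb1, zero_smul, one_smul, zero_add]
      rw [e]; exact ⟨hy1, hyU⟩
    rcases eq_or_lt_of_le hb with hb0 | hb0
    · have ha1 : a = 1 := by rw [← hb0, add_zero] at hab; exact hab
      have e : a • x + b • y = x := by rw [← hb0, ha1, zero_smul, one_smul, add_zero]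
      rw [e]; exact ⟨hx1, hxU⟩
    have hnn : ∀ i, 0 ≤ (a • x + b • y) i := by
      intro i
      simp only [Pi.add_apply, Pi.smul_apply, smul_eq_mul]
      exact add_nonneg (mul_nonneg ha (hx1.1 i)) (mul_nonneg hb (hy1.1 i))
    have hne : a • x + b • y ≠ 0 := by
      intro h0
      apply hx1.2
      funext i
      have hi := congr_fun h0 i
      simp only [Pi.add_apply, Pi.smul_apply, smul_eq_mul, Pi.zero_apply] at hi
      have h1 : 0 ≤ a * x i := mul_nonneg ha (hx1.1 i)
      have h2 : 0 ≤ b * y i := mul_nonneg hb (hy1.1 i)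
      have h3 : a * x i = 0 := by linarith
      rcases mul_eq_zero.mp h3 with h4 | h4
      · exact absurd h4 (ne_of_gt ha0)
      · exact h4
    refine ⟨⟨hnn, hne⟩, ?_⟩
    exact hU n ξ ⟨x, hx1⟩ ⟨a • x + b • y, ⟨hnn, hne⟩⟩ ⟨y, hy1⟩ hxU hyU ⟨a, b, ha0, hb0, rfl⟩
  · intro hC n ξ v₀ v₁ v₂ h0 h2 hv
    obtain ⟨a, b, ha, hb, hv⟩ := hv
    have hab : 0 < a + b := add_pos ha hb
    have hne : a + b ≠ 0 := hab.ne'
    have hconv := hC n ξ
    have hx : v₀.1 ∈ {v : Fin n.dim → ℝ | ∃ h : (∀ i, 0 ≤ v i) ∧ v ≠ 0,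
        Fan.P.mk ξ (⟨v, h⟩ : Fan.Orth n) ∈ U} := ⟨v₀.2, h0⟩
    have hy : v₂.1 ∈ {v : Fin n.dim → ℝ | ∃ h : (∀ i, 0 ≤ v i) ∧ v ≠ 0,
        Fan.P.mk ξ (⟨v, h⟩ : Fan.Orth n) ∈ U} := ⟨v₂.2, h2⟩
    have hmem := hconv hx hy (div_nonneg ha.le hab.le) (div_nonneg hb.le hab.le)
      (by rw [← add_div, div_self hne])
    obtain ⟨hw, hwU⟩ := hmem
    have e1 : (a + b) * (a / (a + b)) = a := by field_simp
    have e2 : (a + b) * (b / (a + b)) = b := by field_simp
    have hscale : v₁.1 = (a + b) • ((a / (a + b)) • v₀.1 + (b / (a + b)) • v₂.1) := by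
      rw [hv, smul_add, smul_smul, smul_smul, e1, e2]
    rw [← mk_smul ξ ⟨_, hw⟩ v₁ (a + b) hab hscale]
    exact hwU

end Groth.Agent.S19374
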