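import Groth.Statements.S19376
import Groth.Agent.H10.AdicExt
import Groth.Agent.H10.AdicFinite
import Mathlib

set_option autoImplicit false
universe u
open EGA4

namespace Groth.Agent.S19376

/-- Let V be an excellent normal ring with no additive torsion, I an ideal of V such that (V, I) is a
henselian pair, A and C smooth V-algebras, and φ₀ a V-algebra homomorphism from A/IA to C/IC which
is finite. Then φ₀ lifts to a finite V-algebra homomorphism φ from the IA-adic completion of A to
the IC-adic completion of C: composing φ with the projection onto C/IC equals the projection onto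
A/IA followed by φ₀. (The published statement also treats finite flat, finite faithfully flat and
finite étale maps, whose proofs are referred elsewhere; only the finite case is stated.) -/
theorem result
    (V : Type u) [CommRing V] [IsAddTorsionFree V]
    (hexc : EGA4.IsExcellent V) (hV : EGA4.IsNormalRing V)
    (I : Ideal V) [HenselianRing V I]
    (A C : Type u) [CommRing A] [Algebra V A] [Algebra.Smooth V A]
    [CommRing C] [Algebra V C] [Algebra.Smooth V C]
    (φ₀ : (A ⧸ I.map (algebraMap V A)) →ₐ[V] (C ⧸ I.map (algebraMap V C)))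
    (hφ₀ : φ₀.toRingHom.Finite) :
    ∃ φ : AdicCompletion (I.map (algebraMap V A)) A →ₐ[V]
        AdicCompletion (I.map (algebraMap V C)) C,
      φ.toRingHom.Finite ∧
      (AdicCompletion.evalOneₐ (I.map (algebraMap V C))).toRingHom.comp φ.toRingHom =
        φ₀.toRingHom.comp (AdicCompletion.evalOneₐ (I.map (algebraMap V A))).toRingHom := by
  classical
  obtain ⟨hN, -, -, -⟩ := hexc
  have : IsNoetherianRing V := hN
  have : IsNoetherianRing A := Algebra.FiniteType.isNoetherianRing V A
  have : IsNoetherianRing C := Algebra.FiniteType.isNoetherianRing V C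
  have fgA : (I.map (algebraMap V A)).FG := IsNoetherian.noetherian _
  have fgC : (I.map (algebraMap V C)).FG := IsNoetherian.noetherian _
  -- Step 1: lift to `A → Ĉ`
  obtain ⟨ψ, hψ⟩ := Algebra.FormallySmooth.exists_adicCompletionEvalOneₐ_comp_eq
    (R := V) (A := A) (S := C) (I := I.map (algebraMap V C))
    (φ₀.comp (Ideal.Quotient.mkₐ V (I.map (algebraMap V A))))
  have hψ' : ∀ a : A, AdicCompletion.evalOneₐ (I.map (algebraMap V C)) (ψ a) =
      φ₀ (Ideal.Quotient.mk _ a) := fun a => congrArg (fun h => h a) hψ
  -- Step 2: extend to `Â`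
  obtain ⟨φ, hφ⟩ := Groth.Agent.H10.AdicExt.exists_extension I ψ
  have hcomp : ∀ x, AdicCompletion.evalOneₐ (I.map (algebraMap V C)) (φ x) =
      φ₀ (AdicCompletion.evalOneₐ (I.map (algebraMap V A)) x) := by
    intro x
    obtain ⟨a, ha⟩ := Ideal.Quotient.mk_surjective
      (AdicCompletion.evalₐ (I.map (algebraMap V A)) 1 x)
    have h1 := hφ 1 x a ha.symm
    rw [← AdicCompletion.factorₐ_evalₐ_one, ← AdicCompletion.factorₐ_evalₐ_one, h1,
      AdicCompletion.factorₐ_evalₐ_one, hψ', ← ha]
    rfl
  refine ⟨φ, Groth.Agent.H10.AdicFinite.finite_of_finite_mod I fgA fgC φ φ₀ hφ₀ hcomp, ?_⟩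
  refine RingHom.ext fun x => ?_
  exact hcomp x

end Groth.Agent.S19376
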