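import Groth.Statements.S19379
import Mathlib
import Groth.Agent.Lead.GeomReg
import Groth.Agent.H34.FibLoc
import Groth.Agent.S2038
-- import your own Groth.Agent.* helpers here

set_option autoImplicit false
universe u
open CAlg

set_option linter.style.haveILetI false
set_option linter.unusedSectionVars false
set_option linter.unusedVariables false

namespace Groth.Agent.S19379

open IsLocalRing TensorProduct

/-- A Noetherian algebra over a field which is formally smooth (discrete topologies) is a regular
ring. -/
theorem isRegularRing_of_formallySmooth_field (K T : Type u) [Field K] [CommRing T] [Algebra K T]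
    [IsNoetherianRing T] [Algebra.FormallySmooth K T] : IsRegularRing T := by
  rw [isRegularRing_iff]
  intro 𝔫 _
  haveI : IsNoetherianRing (Localization.AtPrime 𝔫) :=
    IsLocalization.isNoetherianRing 𝔫.primeCompl _ inferInstance
  haveI : Algebra.FormallySmooth K (Localization.AtPrime 𝔫) := inferInstance
  apply Groth.Agent.Lead.GeomReg.regular_of_fs (k := K)
  intro C _ _ J hJ ψ _
  exact Algebra.FormallySmooth.exists_lift J ⟨2, hJ⟩ ψ

/-- localizations of a formally smooth Noetherian algebra are flat over the base -/
theorem flat_loc (A B : Type u) [CommRing A] [CommRing B] [Algebra A B] [IsNoetherianRing A]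
    [IsNoetherianRing B] [Algebra.FormallySmooth A B] (P : Ideal B) [P.IsPrime] :
    Module.Flat A (Localization.AtPrime P) := by
  haveI hLO : P.LiesOver (P.comap (algebraMap A B)) := ⟨rfl⟩
  letI alg := Localization.AtPrime.algebraOfLiesOver (P.comap (algebraMap A B)) P
  haveI : IsNoetherianRing (Localization.AtPrime (P.comap (algebraMap A B))) :=
    IsLocalization.isNoetherianRing (P.comap (algebraMap A B)).primeCompl _ inferInstance
  haveI : IsNoetherianRing (Localization.AtPrime P) :=
    IsLocalization.isNoetherianRing P.primeCompl _ inferInstance
  haveI : IsLocalHom (algebraMap (Localization.AtPrime (P.comap (algebraMap A B)))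
      (Localization.AtPrime P)) :=
    Localization.isLocalHom_localRingHom _ _ _ _
  haveI : Algebra.FormallySmooth A (Localization.AtPrime P) := inferInstance
  haveI : Algebra.FormallyEtale A (Localization.AtPrime (P.comap (algebraMap A B))) :=
    Algebra.FormallyEtale.of_isLocalization (P.comap (algebraMap A B)).primeCompl
  haveI hfs : Algebra.FormallySmooth (Localization.AtPrime (P.comap (algebraMap A B)))
      (Localization.AtPrime P) :=
    (Algebra.FormallySmooth.iff_restrictScalars (R := A)
      (A := Localization.AtPrime (P.comap (algebraMap A B)))
      (B := Localization.AtPrime P)).mp inferInstance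
  have hadic : CAlgX.IsAdicFormallySmooth (Localization.AtPrime (P.comap (algebraMap A B)))
      (Localization.AtPrime P) (maximalIdeal (Localization.AtPrime P)) := by
    intro C _ _ J hJ ψ _
    exact Algebra.FormallySmooth.exists_lift J ⟨2, hJ⟩ ψ
  haveI hflat : Module.Flat (Localization.AtPrime (P.comap (algebraMap A B)))
      (Localization.AtPrime P) := (Groth.Agent.S2038.result.mpr hadic).1
  haveI : Module.Flat A (Localization.AtPrime (P.comap (algebraMap A B))) :=
    IsLocalization.flat _ (P.comap (algebraMap A B)).primeCompl
  exact Module.Flat.trans A (Localization.AtPrime (P.comap (algebraMap A B)))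
    (Localization.AtPrime P)


/-- Let A and B be Noetherian rings and let B be an A-algebra which is formally smooth for the discrete
topologies. Then A → B is a regular homomorphism, that is, flat with (Noetherian) geometrically
regular fibres. -/
theorem result
    (A B : Type u) [CommRing A] [CommRing B] [Algebra A B]
    [IsNoetherianRing A] [IsNoetherianRing B] [Algebra.FormallySmooth A B] :
    CAlg.IsRegularHom A B := by
  refine ⟨?_, fun p _ => ⟨Groth.Agent.H34.FibLoc.isNoetherianRing_fiber A B p, ?_⟩⟩
  · refine Module.flat_of_isLocalized_maximal B B (fun P _ => Localization.AtPrime P)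
      (fun P _ => Algebra.linearMap B (Localization.AtPrime P)) ?_
    intro P hP
    exact flat_loc A B P
  · intro k' _ _ hfin
    haveI := Groth.Agent.H34.FibLoc.isNoetherianRing_fiber A B p
    haveI := hfin
    haveI hN' : IsNoetherianRing (p.Fiber B ⊗[p.ResidueField] k') :=
      IsNoetherianRing.of_finite (p.Fiber B) _
    haveI hN : IsNoetherianRing (k' ⊗[p.ResidueField] p.Fiber B) :=
      isNoetherianRing_of_ringEquiv _
        (Algebra.TensorProduct.comm p.ResidueField (p.Fiber B) k').toRingEquiv
    exact isRegularRing_of_formallySmooth_field k' _

end Groth.Agent.S19379
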