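import Groth.Statements.S19380
import Mathlib.LinearAlgebra.Matrix.SchurComplement

set_option autoImplicit false
universe u
open CAlg

namespace Groth.Agent.S19380

open Polynomial in
theorem charpolyRev_map' {L : Type u} [CommRing L] {r : ℕ} (f : L →+* L)
    (M : Matrix (Fin r) (Fin r) L) :
    (Matrix.charpolyRev M).map f = Matrix.charpolyRev (M.map f) := by
  unfold Matrix.charpolyRev
  rw [← Polynomial.coe_mapRingHom, RingHom.map_det]
  congr 1
  ext i j : 1
  simp only [RingHom.mapMatrix_apply, Matrix.map_apply, Matrix.sub_apply, Matrix.smul_apply,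
    smul_eq_mul, map_sub, Polynomial.coe_mapRingHom]
  congr 1
  · by_cases h : i = j
    · subst h; simp
    · simp [Matrix.one_apply_ne h]
  · rw [Polynomial.map_mul, Polynomial.map_X, Polynomial.map_C]

open Polynomial in
theorem charpolyRev_mul_comm' {L : Type u} [CommRing L] {r : ℕ}
    (A B : Matrix (Fin r) (Fin r) L) :
    Matrix.charpolyRev (A * B) = Matrix.charpolyRev (B * A) := by
  unfold Matrix.charpolyRev
  have h1 : (1 : Matrix (Fin r) (Fin r) L[X]) - (X : L[X]) • (A * B).map C
      = 1 - ((X : L[X]) • A.map C) * B.map C := by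
    rw [Matrix.map_mul, Matrix.smul_mul]
  have h2 : (1 : Matrix (Fin r) (Fin r) L[X]) - (X : L[X]) • (B * A).map C
      = 1 - B.map C * ((X : L[X]) • A.map C) := by
    rw [Matrix.map_mul, Matrix.mul_smul]
  rw [h1, h2, Matrix.det_one_sub_mul_comm]

theorem result
    (L : Type u) [CommRing L] (σ : L ≃+* L) (d : ℕ) (hσ : σ ^ d = 1)
    (r : ℕ) (C : Matrix (Fin r) (Fin r) L) :
    (Matrix.charpolyRev (((List.range d).map fun i => C.map ⇑(σ ^ i)).prod)).map (σ : L →+* L) =
      Matrix.charpolyRev (((List.range d).map fun i => C.map ⇑(σ ^ i)).prod) := by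
  rw [charpolyRev_map']
  cases d with
  | zero =>
    simp only [List.range_zero, List.map_nil, List.prod_nil]
    congr 1
    ext i j
    by_cases h : i = j
    · subst h; simp
    · simp [Matrix.one_apply_ne h]
  | succ d' =>
    -- B = product of σ^{i+1}(C), i < d'
    set B : Matrix (Fin r) (Fin r) L := ((List.range d').map fun i => C.map ⇑(σ ^ (i + 1))).prod with hB
    have hN : ((List.range (d' + 1)).map fun i => C.map ⇑(σ ^ i)).prod = C * B := by
      rw [List.range_succ_eq_map, List.map_cons, List.prod_cons, List.map_map]
      congr 1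
    have hσN : (((List.range (d' + 1)).map fun i => C.map ⇑(σ ^ i)).prod).map (σ : L →+* L)
        = B * C := by
      have h1 : (((List.range (d' + 1)).map fun i => C.map ⇑(σ ^ i)).prod).map (σ : L →+* L)
          = ((List.range (d' + 1)).map fun i => C.map ⇑(σ ^ (i + 1))).prod := by
        rw [← RingHom.mapMatrix_apply, map_list_prod, List.map_map]
        congr 1
        apply List.map_congr_left
        intro i _
        ext a b
        simp [pow_succ', RingAut.mul_apply]
      rw [h1, List.range_succ, List.map_append, List.prod_append, List.map_singleton,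
        List.prod_singleton, hσ]
      congr 1
    rw [hσN, hN]
    exact charpolyRev_mul_comm' B C

end Groth.Agent.S19380
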