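import Groth.Statements.S19383
import Mathlib.RingTheory.AdicCompletion.AsTensorProduct
import Mathlib.RingTheory.Flat.TorsionFree
import Mathlib.RingTheory.Filtration
import Mathlib.RingTheory.Flat.Stability

set_option autoImplicit false
universe u
open CAlg

namespace Groth.Agent.S19383

theorem result
    (V : Type u) [CommRing V] [IsDomain V] [IsDiscreteValuationRing V] [HenselianLocalRing V]
    (B : Type u) [CommRing B] [Algebra V B] [IsNoetherianRing B] :
    Module.Flat V B ↔
      Module.Flat V (AdicCompletion ((IsLocalRing.maximalIdeal V).map (algebraMap V B)) B) := by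
  set J := (IsLocalRing.maximalIdeal V).map (algebraMap V B) with hJ
  constructor
  · intro hB
    exact Module.Flat.trans V B (AdicCompletion J B)
  · intro hBhat
    obtain ⟨ϖ, hϖ⟩ := IsDiscreteValuationRing.exists_irreducible V
    have hϖ0 : ϖ ≠ 0 := hϖ.ne_zero
    have hJspan : J = Ideal.span {algebraMap V B ϖ} := by
      rw [hJ, hϖ.maximalIdeal_eq, Ideal.map_span, Set.image_singleton]
    -- key: `ϖ • b = 0 → b = 0`
    have key : ∀ b : B, ϖ • b = 0 → b = 0 := by
      intro b hb
      have h1 : ϖ • AdicCompletion.of J B b = 0 := by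
        rw [← algebraMap_smul B ϖ (AdicCompletion.of J B b), ← map_smul, algebraMap_smul, hb,
          map_zero]
      have h2 : AdicCompletion.of J B b = 0 := by
        have hreg : IsSMulRegular (AdicCompletion J B) ϖ :=
          Module.Flat.isSMulRegular_of_nonZeroDivisors (mem_nonZeroDivisors_of_ne_zero hϖ0)
        apply hreg
        simp only [h1, smul_zero]
      have h3 : b ∈ (⨅ i : ℕ, J ^ i • ⊤ : Submodule B B) := by
        rw [Submodule.mem_iInf]
        intro n
        have := AdicCompletion.of_apply J B b n
        rw [h2] at this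
        rw [← Submodule.Quotient.mk_eq_zero]
        exact this.symm
      obtain ⟨⟨r, hr⟩, hrb⟩ := (Ideal.mem_iInf_smul_pow_eq_bot_iff J b).mp h3
      rw [hJspan, Ideal.mem_span_singleton'] at hr
      obtain ⟨c, rfl⟩ := hr
      have : b = c * (ϖ • b) := by
        conv_lhs => rw [← hrb]
        simp only [smul_eq_mul, Algebra.smul_def]
        ring
      rw [this, hb, mul_zero]
    rw [Module.Flat.flat_iff_torsion_eq_bot_of_isBezout, eq_bot_iff]
    rintro b ⟨⟨a, ha⟩, hab⟩
    have ha0 : a ≠ 0 := nonZeroDivisors.ne_zero ha
    obtain ⟨n, u, rfl⟩ := IsDiscreteValuationRing.eq_unit_mul_pow_irreducible ha0 hϖ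
    have h1 : ϖ ^ n • b = 0 := by
      have : ((u : V) * ϖ ^ n) • b = 0 := hab
      rw [mul_smul] at this
      have h2 := congrArg (fun x => ((u⁻¹ : Vˣ) : V) • x) this
      simpa [smul_smul] using h2
    have h2 : ∀ n : ℕ, ϖ ^ n • b = 0 → b = 0 := by
      intro n
      induction n with
      | zero => intro h; simpa using h
      | succ n ih =>
        intro h
        apply ih
        apply key
        rw [smul_smul, ← pow_succ']
        exact h
    rw [Submodule.mem_bot]
    exact h2 n h1

end Groth.Agent.S19383
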