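import Groth.Statements.S19390
import Mathlib

set_option autoImplicit false
universe u
open GIT

namespace Groth.Agent.S19390

def Uf (e k : ℕ) : ℕ :=
  if k = 0 then 0 else if k = 1 then e else if k = 2 then 2 * e
  else if k % 2 = 1 then (k - 1) / 2 else (k - 2) / 2 + e

def Vf (e k : ℕ) : ℕ :=
  if k = 0 then e else if k = 1 then 2 * e else if k = 2 then 0
  else if k % 2 = 1 then (k - 1) / 2 + e else (k - 2) / 2

theorem Uf_lt (e k : ℕ) (he : 1 ≤ e) (hk : k < 2 * e + 1) : Uf e k < 2 * e + 1 := by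
  simp only [Uf]; split_ifs <;> omega

theorem Vf_lt (e k : ℕ) (he : 1 ≤ e) (hk : k < 2 * e + 1) : Vf e k < 2 * e + 1 := by
  simp only [Vf]; split_ifs <;> omega

theorem Uf_inj (e k k' : ℕ) (he : 1 ≤ e) (hk : k < 2 * e + 1) (hk' : k' < 2 * e + 1)
    (h : Uf e k = Uf e k') : k = k' := by
  simp only [Uf] at h; split_ifs at h <;> omega

theorem Vf_inj (e k k' : ℕ) (he : 1 ≤ e) (hk : k < 2 * e + 1) (hk' : k' < 2 * e + 1)
    (h : Vf e k = Vf e k') : k = k' := by
  simp only [Vf] at h; split_ifs at h <;> omega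

theorem UV_far (e k : ℕ) (he : 1 ≤ e) (hk : k < 2 * e + 1) :
    Uf e k + e ≤ Vf e k ∨ Vf e k + e ≤ Uf e k := by
  simp only [Uf, Vf]; split_ifs <;> omega

theorem card_filter_eq_one {n : ℕ} (f : Fin n → Fin n) (hf : Function.Injective f) (m : Fin n) :
    (Finset.univ.filter fun k => f k = m).card = 1 := by
  obtain ⟨k0, hk0⟩ := (Finite.injective_iff_surjective.mp hf) m
  have h : (Finset.univ.filter fun k => f k = m) = {k0} := by
    ext k
    simp only [Finset.mem_filter, Finset.mem_univ, true_and, Finset.mem_singleton]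
    constructor
    · intro h; exact hf (h.trans hk0.symm)
    · rintro rfl; exact hk0
  rw [h, Finset.card_singleton]

noncomputable def gkey {α : Type u} [DecidableEq α] {n : ℕ} (x : Fin n → α) (a : α) : ℕ :=
  if h : a ∈ Finset.univ.image x then ((Finset.univ.image x).equivFin ⟨a, h⟩ : ℕ) else 0

theorem gkey_inj {α : Type u} [DecidableEq α] {n : ℕ} (x : Fin n → α) (k k' : Fin n)
    (h : gkey x (x k) = gkey x (x k')) : x k = x k' := by
  have hk : x k ∈ Finset.univ.image x := Finset.mem_image_of_mem x (Finset.mem_univ k)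
  have hk' : x k' ∈ Finset.univ.image x := Finset.mem_image_of_mem x (Finset.mem_univ k')
  unfold gkey at h
  rw [dif_pos hk, dif_pos hk'] at h
  have h2 := (Finset.univ.image x).equivFin.injective (Fin.val_injective h)
  exact congrArg Subtype.val h2

theorem far_ne {α : Type u} [DecidableEq α] (e : ℕ) (x : Fin (2 * e + 1) → α)
    (hx : ∀ a : α, (Finset.univ.filter fun k => x k = a).card ≤ e)
    (s : Equiv.Perm (Fin (2 * e + 1))) (hmono : Monotone (fun k => gkey x (x (s k))))
    (a b : Fin (2 * e + 1)) (hab : (a : ℕ) + e ≤ (b : ℕ)) :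
    x (s a) ≠ x (s b) := by
  intro heq
  have hall : ∀ c ∈ Finset.Icc a b, x (s c) = x (s a) := by
    intro c hc
    rw [Finset.mem_Icc] at hc
    apply gkey_inj
    have h1 : gkey x (x (s a)) ≤ gkey x (x (s c)) := hmono hc.1
    have h2 : gkey x (x (s c)) ≤ gkey x (x (s b)) := hmono hc.2
    rw [← heq] at h2
    exact le_antisymm h2 h1
  have hsub : (Finset.Icc a b).image s ⊆ Finset.univ.filter fun k => x k = x (s a) := by
    intro k hk
    rw [Finset.mem_image] at hk
    obtain ⟨c, hc, rfl⟩ := hk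
    simp only [Finset.mem_filter, Finset.mem_univ, true_and]
    exact hall c hc
  have hcard := Finset.card_le_card hsub
  rw [Finset.card_image_of_injective _ s.injective, Fin.card_Icc] at hcard
  have h3 := hx (x (s a))
  omega

/-- Let e ≥ 1, n = 2e + 1, and let x_1, …, x_n be points such that no point occurs more than e times
among them (the stability condition for n ordered points on a line, n odd). Then there are index
sequences i_1, …, i_n and j_1, …, j_n in which every index between 1 and n occurs exactly twice in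
total, such that x_{i_k} ≠ x_{j_k} for every k and (i_1, i_2, i_3) = (j_3, j_1, j_2). Indices are
written 0, …, n − 1 here. -/
theorem result {α : Type u} [DecidableEq α] (e : ℕ) (he : 1 ≤ e)
    (x : Fin (2 * e + 1) → α)
    (hx : ∀ a : α, (Finset.univ.filter fun k => x k = a).card ≤ e) :
    ∃ i j : Fin (2 * e + 1) → Fin (2 * e + 1),
      (∀ m : Fin (2 * e + 1),
        (Finset.univ.filter fun k => i k = m).card + (Finset.univ.filter fun k => j k = m).card = 2) ∧
      (∀ k, x (i k) ≠ x (j k)) ∧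
      i 0 = j 2 ∧ i 1 = j 0 ∧ i 2 = j 1 := by
  classical
  let s : Equiv.Perm (Fin (2 * e + 1)) := Tuple.sort (fun k => gkey x (x k))
  have hmono : Monotone (fun k => gkey x (x (s k))) := Tuple.monotone_sort (fun k => gkey x (x k))
  have hfar := far_ne e x hx s hmono
  let U : Fin (2 * e + 1) → Fin (2 * e + 1) := fun k => ⟨Uf e k, Uf_lt e k he k.isLt⟩
  let V : Fin (2 * e + 1) → Fin (2 * e + 1) := fun k => ⟨Vf e k, Vf_lt e k he k.isLt⟩
  have hU : Function.Injective U := by
    intro k k' h
    have h' : Uf e k = Uf e k' := congrArg Fin.val h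
    exact Fin.ext (Uf_inj e k k' he k.isLt k'.isLt h')
  have hV : Function.Injective V := by
    intro k k' h
    have h' : Vf e k = Vf e k' := congrArg Fin.val h
    exact Fin.ext (Vf_inj e k k' he k.isLt k'.isLt h')
  have v0 : ((0 : Fin (2 * e + 1)) : ℕ) = 0 := rfl
  have v1 : ((1 : Fin (2 * e + 1)) : ℕ) = 1 := by
    have h : ((1 : Fin (2 * e + 1)) : ℕ) = 1 % (2 * e + 1) := rfl
    rw [h]; exact Nat.mod_eq_of_lt (by omega)
  have v2 : ((2 : Fin (2 * e + 1)) : ℕ) = 2 := by
    have h : ((2 : Fin (2 * e + 1)) : ℕ) = 2 % (2 * e + 1) := rfl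
    rw [h]; exact Nat.mod_eq_of_lt (by omega)
  refine ⟨fun k => s (U k), fun k => s (V k), ?_, ?_, ?_, ?_, ?_⟩
  · intro m
    rw [card_filter_eq_one (fun k => s (U k)) (s.injective.comp hU) m,
      card_filter_eq_one (fun k => s (V k)) (s.injective.comp hV) m]
  · intro k
    rcases UV_far e k he k.isLt with h | h
    · exact hfar (U k) (V k) h
    · exact (hfar (V k) (U k) h).symm
  · show s (U 0) = s (V 2)
    congr 1
    apply Fin.ext
    show Uf e ((0 : Fin (2 * e + 1)) : ℕ) = Vf e ((2 : Fin (2 * e + 1)) : ℕ)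
    rw [v0, v2]; simp [Uf, Vf]
  · show s (U 1) = s (V 0)
    congr 1
    apply Fin.ext
    show Uf e ((1 : Fin (2 * e + 1)) : ℕ) = Vf e ((0 : Fin (2 * e + 1)) : ℕ)
    rw [v0, v1]; simp [Uf, Vf]
  · show s (U 2) = s (V 1)
    congr 1
    apply Fin.ext
    show Uf e ((2 : Fin (2 * e + 1)) : ℕ) = Vf e ((1 : Fin (2 * e + 1)) : ℕ)
    rw [v1, v2]; simp [Uf, Vf]

end Groth.Agent.S19390
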