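import Groth.Statements.S19394
import Mathlib.LinearAlgebra.Projection
import Mathlib.LinearAlgebra.Matrix.ToLin
import Mathlib.Algebra.Polynomial.Roots
import Mathlib.Algebra.MvPolynomial.Eval
import Mathlib.Tactic.NoncommRing
import Mathlib.Tactic.Abel

set_option autoImplicit false
universe u
open InvQ

namespace Groth.Agent.S19394


section helpers

variable {k : Type u} [Field k] {n : ℕ}

/-- an idempotent matrix `E`, commuting with `S`, with `N E = N` and killing the kernel of `N` -/
theorem exists_proj (S N : Matrix (Fin n) (Fin n) k)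
    (hS : Module.End.IsSemisimple (Matrix.toLin' S)) (hSN : Commute S N) :
    ∃ E : Matrix (Fin n) (Fin n) k, N * E = N ∧
      (∀ M : Matrix (Fin n) (Fin n) k, N * M = 0 → E * M = 0) ∧ E * S = S * E ∧ E * E = E := by
  have hsν : ∀ x, Matrix.toLin' S (Matrix.toLin' N x) = Matrix.toLin' N (Matrix.toLin' S x) := by
    intro x
    rw [← Matrix.toLin'_mul_apply, ← Matrix.toLin'_mul_apply, hSN.eq]
  have hK : LinearMap.ker (Matrix.toLin' N) ∈ Module.End.invtSubmodule (Matrix.toLin' S) := by
    rw [Module.End.mem_invtSubmodule]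
    intro x hx
    rw [Submodule.mem_comap, LinearMap.mem_ker, ← hsν, LinearMap.mem_ker.mp hx, map_zero]
  obtain ⟨Q, hQ, hKQ⟩ := (Module.End.isSemisimple_iff.mp hS) _ hK
  rw [Module.End.mem_invtSubmodule] at hQ hK
  obtain ⟨e, he⟩ : ∃ e : (Fin n → k) →ₗ[k] (Fin n → k),
    e = Q.projection (LinearMap.ker (Matrix.toLin' N)) hKQ.symm := ⟨_, rfl⟩
  -- decomposition
  have hdec : ∀ x, ∃ q ∈ Q, ∃ κ ∈ LinearMap.ker (Matrix.toLin' N), x = q + κ ∧ e x = q := by
    intro x
    refine ⟨e x, ?_, (LinearMap.ker (Matrix.toLin' N)).projection Q hKQ x, ?_, ?_, rfl⟩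
    · rw [he]
      exact Submodule.projection_apply_mem _ _
    · exact Submodule.projection_apply_mem _ _
    · rw [he]
      exact (Submodule.projection_add_projection_eq_self hKQ.symm x).symm
  have heQ : ∀ q ∈ Q, e q = q := fun q hq => by
    rw [he]
    exact Submodule.projection_apply_of_mem_left _ hq
  have heK : ∀ κ ∈ LinearMap.ker (Matrix.toLin' N), e κ = 0 := fun κ hκ => by
    rw [he]
    exact Submodule.projection_apply_of_mem_right _ hκ
  have h1 : ∀ x, Matrix.toLin' N (e x) = Matrix.toLin' N x := by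
    intro x
    obtain ⟨q, hq, κ, hκ, hx, hex⟩ := hdec x
    rw [hex, hx, map_add, LinearMap.mem_ker.mp hκ, add_zero]
  have h3 : ∀ x, e (Matrix.toLin' S x) = Matrix.toLin' S (e x) := by
    intro x
    obtain ⟨q, hq, κ, hκ, hx, hex⟩ := hdec x
    rw [hex, hx, map_add, map_add, heQ _ (hQ hq), heK _ (hK hκ), add_zero]
  have h4 : ∀ x, e (e x) = e x := by
    intro x
    obtain ⟨q, hq, κ, hκ, hx, hex⟩ := hdec x
    rw [hex, heQ q hq]
  refine ⟨LinearMap.toMatrix' e, ?_, ?_, ?_, ?_⟩
  · apply Matrix.toLin'.injective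
    apply LinearMap.ext
    intro x
    rw [Matrix.toLin'_mul, LinearMap.comp_apply, Matrix.toLin'_toMatrix', h1]
  · intro M hM
    apply Matrix.toLin'.injective
    apply LinearMap.ext
    intro x
    rw [Matrix.toLin'_mul, LinearMap.comp_apply, Matrix.toLin'_toMatrix', map_zero,
      LinearMap.zero_apply]
    apply heK
    rw [LinearMap.mem_ker, ← Matrix.toLin'_mul_apply, hM, map_zero, LinearMap.zero_apply]
  · apply Matrix.toLin'.injective
    apply LinearMap.ext
    intro x
    rw [Matrix.toLin'_mul, Matrix.toLin'_mul, LinearMap.comp_apply, LinearMap.comp_apply,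
      Matrix.toLin'_toMatrix', h3]
  · apply Matrix.toLin'.injective
    apply LinearMap.ext
    intro x
    rw [Matrix.toLin'_mul, LinearMap.comp_apply, Matrix.toLin'_toMatrix', h4]

theorem eval_aeval_line (P₀ P₁ : Matrix (Fin n) (Fin n) k) (F : MvPolynomial (Fin n × Fin n) k)
    (t : k) :
    Polynomial.eval t (MvPolynomial.aeval (fun p : Fin n × Fin n =>
      Polynomial.C (P₀ p.1 p.2) + Polynomial.X * Polynomial.C (P₁ p.1 p.2)) F) =
    MvPolynomial.eval (fun p => (P₀ + t • P₁) p.1 p.2) F := by
  induction F using MvPolynomial.induction_on with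
  | C a => simp
  | add p q hp hq => rw [map_add, Polynomial.eval_add, hp, hq, map_add]
  | mul_X p i hp =>
    rw [map_mul, Polynomial.eval_mul, hp, map_mul, MvPolynomial.aeval_X, MvPolynomial.eval_X]
    simp only [Polynomial.eval_add, Polynomial.eval_C, Polynomial.eval_mul, Polynomial.eval_X,
      Matrix.add_apply, Matrix.smul_apply, smul_eq_mul]

/-- conjugating by `C t = t (1 - E) + E` -/
theorem conj_line (E S N : Matrix (Fin n) (Fin n) k) (hNE : N * E = N) (hES : E * S = S * E)
    (hEE : E * E = E) (t : k) (ht : t ≠ 0) :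
    (t • (1 - E) + E) * (t⁻¹ • (1 - E) + E) = 1 ∧
      (t • (1 - E) + E) * (S + N) * (t⁻¹ • (1 - E) + E) = S + E * N + t • (N - E * N) := by
  have h1 : (1 - E) * (1 - E) = 1 - E := by
    calc (1 - E) * (1 - E) = 1 - E - E + E * E := by noncomm_ring
      _ = 1 - E := by rw [hEE]; abel
  have h2 : (1 - E) * E = 0 := by rw [sub_mul, one_mul, hEE, sub_self]
  have h3 : E * (1 - E) = 0 := by rw [mul_sub, mul_one, hEE, sub_self]
  have hCD : (t • (1 - E) + E) * (t⁻¹ • (1 - E) + E) = 1 := by
    simp only [add_mul, mul_add, smul_mul_assoc, mul_smul_comm, h1, h2, h3, hEE, smul_zero,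
      add_zero, zero_add, smul_smul, inv_mul_cancel₀ ht, one_smul,
      sub_add_cancel]
  refine ⟨hCD, ?_⟩
  have hCS : (t • (1 - E) + E) * S = S * (t • (1 - E) + E) := by
    simp only [add_mul, mul_add, smul_mul_assoc, mul_smul_comm, sub_mul, mul_sub, one_mul,
      mul_one, hES]
  have hND : N * (t⁻¹ • (1 - E) + E) = N := by
    simp only [mul_add, mul_smul_comm, mul_sub, mul_one, hNE, sub_self, smul_zero, zero_add]
  have e1 : (t • (1 - E) + E) * S * (t⁻¹ • (1 - E) + E) = S := by
    rw [hCS, mul_assoc, hCD, mul_one]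
  have e2 : (t • (1 - E) + E) * N * (t⁻¹ • (1 - E) + E) = t • (N - E * N) + E * N := by
    rw [mul_assoc, hND]
    simp only [add_mul, smul_mul_assoc, sub_mul, one_mul]
  rw [mul_add (t • (1 - E) + E) S N, add_mul, e1, e2]
  abel

/-- the induction on the nilpotency index -/
theorem aux [IsAlgClosed k] (m : ℕ) :
    ∀ (S N : Matrix (Fin n) (Fin n) k), Module.End.IsSemisimple (Matrix.toLin' S) →
      N ^ (m + 1) = 0 → Commute S N → ∀ F : MvPolynomial (Fin n × Fin n) k,
      (∀ A : Matrix (Fin n) (Fin n) k, IsUnit A.det →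
        MvPolynomial.eval (fun p => (A * (S + N) * A⁻¹) p.1 p.2) F = 0) →
      MvPolynomial.eval (fun p => S p.1 p.2) F = 0 := by
  induction m with
  | zero =>
    intro S N _ hN _ F hF
    rw [zero_add, pow_one] at hN
    have := hF 1 (by rw [Matrix.det_one]; exact isUnit_one)
    rwa [hN, add_zero, one_mul, inv_one, mul_one] at this
  | succ m ih =>
    intro S N hS hN hSN F hF
    obtain ⟨E, hNE, hE2, hES, hEE⟩ := exists_proj S N hS hSN
    have hpow : ∀ j : ℕ, (E * N) ^ (j + 1) = E * N ^ (j + 1) := by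
      intro j
      induction j with
      | zero => rw [zero_add, pow_one, pow_one]
      | succ j ihj =>
        calc (E * N) ^ (j + 1 + 1) = (E * N) ^ (j + 1) * (E * N) := pow_succ _ _
          _ = E * N ^ (j + 1) * (E * N) := by rw [ihj]
          _ = E * (N ^ j * (N * E) * N) := by rw [pow_succ N j]; noncomm_ring
          _ = E * N ^ (j + 1 + 1) := by rw [hNE, pow_succ N (j + 1), pow_succ N j]
    have hN' : (E * N) ^ (m + 1) = 0 := by
      rw [hpow]
      apply hE2
      rw [← pow_succ', hN]
    have hSN' : Commute S (E * N) := by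
      show S * (E * N) = E * N * S
      rw [← mul_assoc, ← hES, mul_assoc, hSN.eq, mul_assoc]
    refine ih S (E * N) hS hN' hSN' F ?_
    intro A hA
    -- the polynomial in `t`
    obtain ⟨P₀, hP₀⟩ : ∃ P₀ : Matrix (Fin n) (Fin n) k, P₀ = A * (S + E * N) * A⁻¹ := ⟨_, rfl⟩
    obtain ⟨P₁, hP₁⟩ : ∃ P₁ : Matrix (Fin n) (Fin n) k, P₁ = A * (N - E * N) * A⁻¹ := ⟨_, rfl⟩
    obtain ⟨G, hG⟩ : ∃ G : Polynomial k, G = MvPolynomial.aeval (fun p : Fin n × Fin n =>
      Polynomial.C (P₀ p.1 p.2) + Polynomial.X * Polynomial.C (P₁ p.1 p.2)) F := ⟨_, rfl⟩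
    have hroot : ∀ t : k, t ≠ 0 → Polynomial.eval t G = 0 := by
      intro t ht
      obtain ⟨hCD, hconj⟩ := conj_line E S N hNE hES hEE t ht
      have hdet : IsUnit (A * (t • (1 - E) + E)).det := by
        rw [Matrix.det_mul]
        exact hA.mul (Matrix.isUnit_det_of_right_inverse hCD)
      have hinv : (A * (t • (1 - E) + E))⁻¹ = (t⁻¹ • (1 - E) + E) * A⁻¹ := by
        rw [Matrix.mul_inv_rev, Matrix.inv_eq_right_inv hCD]
      have h1 := hF _ hdet
      rw [hinv] at h1
      have h2 : A * (t • (1 - E) + E) * (S + N) * ((t⁻¹ • (1 - E) + E) * A⁻¹) = P₀ + t • P₁ := by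
        rw [hP₀, hP₁]
        calc A * (t • (1 - E) + E) * (S + N) * ((t⁻¹ • (1 - E) + E) * A⁻¹)
            = A * ((t • (1 - E) + E) * (S + N) * (t⁻¹ • (1 - E) + E)) * A⁻¹ := by
              simp only [mul_assoc]
          _ = A * (S + E * N) * A⁻¹ + t • (A * (N - E * N) * A⁻¹) := by
              rw [hconj, mul_add, add_mul, mul_smul_comm, smul_mul_assoc]
      rw [h2] at h1
      rw [hG, eval_aeval_line]
      exact h1
    have hG0 : G = 0 := by
      have h1 : Polynomial.X * G = 0 := by
        apply Polynomial.funext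
        intro t
        rw [Polynomial.eval_mul, Polynomial.eval_X, Polynomial.eval_zero]
        by_cases ht : t = 0
        · rw [ht, zero_mul]
        · rw [hroot t ht, mul_zero]
      exact (mul_eq_zero.mp h1).resolve_left Polynomial.X_ne_zero
    have h0 : Polynomial.eval 0 G = 0 := by rw [hG0, Polynomial.eval_zero]
    rw [hG, eval_aeval_line, zero_smul, add_zero, hP₀] at h0
    exact h0

end helpers

/-- Over an algebraically closed field, the semisimple part of a square matrix B lies in the Zariski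
closure of the orbit of B under conjugation by the general linear group. The semisimple part is
given as S with B = S + N, S semisimple, N nilpotent and SN = NS; membership in the Zariski closure
is spelled out as: every polynomial in the n² matrix entries vanishing at all conjugates A B A⁻¹ (A
invertible) vanishes at S. -/
theorem result (k : Type u) [Field k] [IsAlgClosed k] (n : ℕ)
    (B S N : Matrix (Fin n) (Fin n) k) (hS : Module.End.IsSemisimple (Matrix.toLin' S))
    (hN : IsNilpotent N) (hSN : Commute S N) (hB : B = S + N)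
    (F : MvPolynomial (Fin n × Fin n) k)
    (hF : ∀ A : Matrix (Fin n) (Fin n) k, IsUnit A.det →
      MvPolynomial.eval (fun p => (A * B * A⁻¹) p.1 p.2) F = 0) :
    MvPolynomial.eval (fun p => S p.1 p.2) F = 0 := by
  obtain ⟨m, hm⟩ := hN
  have hm' : N ^ (m + 1) = 0 := by rw [pow_succ, hm, zero_mul]
  exact aux m S N hS hm' hSN F (fun A hA => by rw [← hB]; exact hF A hA)

end Groth.Agent.S19394
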