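import Groth.Statements.S19395
import Groth.Agent.S19394
import Mathlib.LinearAlgebra.Eigenspace.Semisimple
import Mathlib.LinearAlgebra.Eigenspace.Zero
import Mathlib.LinearAlgebra.Matrix.Charpoly.Univ
import Mathlib.LinearAlgebra.Charpoly.ToMatrix
import Mathlib.Algebra.DirectSum.LinearMap

set_option autoImplicit false
universe u
open InvQ

namespace Groth.Agent.S19395

section helpers

open Module

/-- two semisimple endomorphisms with the same characteristic polynomial are conjugate -/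
theorem conj_of_charpoly_eq {K V : Type*} [Field K] [IsAlgClosed K] [AddCommGroup V] [Module K V]
    [FiniteDimensional K V] (f g : Module.End K V) (hf : f.IsSemisimple) (hg : g.IsSemisimple)
    (h : f.charpoly = g.charpoly) :
    ∃ T : V ≃ₗ[K] V, ∀ v, T (f v) = g (T v) := by
  classical
  have hdim : ∀ μ, finrank K (f.eigenspace μ) = finrank K (g.eigenspace μ) := by
    intro μ
    rw [← (Module.End.isFinitelySemisimple_iff_isSemisimple.mpr hf).maxGenEigenspace_eq_eigenspace,
      ← (Module.End.isFinitelySemisimple_iff_isSemisimple.mpr hg).maxGenEigenspace_eq_eigenspace,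
      LinearMap.finrank_maxGenEigenspace_eq, LinearMap.finrank_maxGenEigenspace_eq, h]
  have hIf := DirectSum.isInternal_submodule_of_iSupIndep_of_iSup_eq_top
    f.eigenspaces_iSupIndep hf.iSup_eigenspace_eq_top
  have hIg := DirectSum.isInternal_submodule_of_iSupIndep_of_iSup_eq_top
    g.eigenspaces_iSupIndep hg.iSup_eigenspace_eq_top
  let bf := hIf.collectedBasis (fun μ => Module.finBasis K (f.eigenspace μ))
  let bg := hIg.collectedBasis (fun μ => Module.finBasis K (g.eigenspace μ))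
  let σ : (Σ μ, Fin (finrank K (f.eigenspace μ))) ≃ (Σ μ, Fin (finrank K (g.eigenspace μ))) :=
    Equiv.sigmaCongrRight (fun μ => finCongr (hdim μ))
  let T := bf.equiv bg σ
  refine ⟨T, ?_⟩
  have key : (T.toLinearMap ∘ₗ f) = g ∘ₗ T.toLinearMap := by
    apply bf.ext
    intro a
    have h1 : bf a ∈ f.eigenspace a.1 := hIf.collectedBasis_mem _ a
    have h2 : bg (σ a) ∈ g.eigenspace (σ a).1 := hIg.collectedBasis_mem _ (σ a)
    have h3 : (σ a).1 = a.1 := by
      obtain ⟨μ, i⟩ := a
      rfl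
    simp only [LinearMap.comp_apply, LinearEquiv.coe_coe]
    rw [Module.End.mem_eigenspace_iff.mp h1, map_smul, Basis.equiv_apply,
      Module.End.mem_eigenspace_iff.mp h2, h3]
  intro v
  exact LinearMap.congr_fun key v

variable {k : Type u} [Field k] {n : ℕ}

theorem matrix_conj [IsAlgClosed k] (S₁ S₂ : Matrix (Fin n) (Fin n) k)
    (h₁ : Module.End.IsSemisimple (Matrix.toLin' S₁))
    (h₂ : Module.End.IsSemisimple (Matrix.toLin' S₂)) (hc : S₁.charpoly = S₂.charpoly) :
    ∃ A : Matrix (Fin n) (Fin n) k, IsUnit A.det ∧ A * S₁ * A⁻¹ = S₂ := by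
  obtain ⟨T, hT⟩ := conj_of_charpoly_eq (Matrix.toLin' S₁) (Matrix.toLin' S₂) h₁ h₂
    (by rw [Matrix.charpoly_toLin', Matrix.charpoly_toLin', hc])
  have hid : T.toLinearMap.comp T.symm.toLinearMap = LinearMap.id := by
    ext v
    simp
  have hAA' : LinearMap.toMatrix' T.toLinearMap * LinearMap.toMatrix' T.symm.toLinearMap = 1 := by
    rw [← LinearMap.toMatrix'_comp, hid, LinearMap.toMatrix'_id]
  have hdet : IsUnit (LinearMap.toMatrix' T.toLinearMap).det :=
    Matrix.isUnit_det_of_right_inverse hAA'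
  have hcomm : LinearMap.toMatrix' T.toLinearMap * S₁ = S₂ * LinearMap.toMatrix' T.toLinearMap := by
    apply Matrix.toLin'.injective
    apply LinearMap.ext
    intro v
    rw [Matrix.toLin'_mul, Matrix.toLin'_mul, LinearMap.comp_apply, LinearMap.comp_apply,
      Matrix.toLin'_toMatrix']
    exact hT v
  refine ⟨LinearMap.toMatrix' T.toLinearMap, hdet, ?_⟩
  rw [hcomm, Matrix.mul_nonsing_inv_cancel_right _ _ hdet]

/-- the polynomial function `M ↦ coeff_j (charpoly M) - coeff_j (charpoly B)` -/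
noncomputable def Fj (B : Matrix (Fin n) (Fin n) k) (j : ℕ) : MvPolynomial (Fin n × Fin n) k :=
  (Matrix.charpoly.univ k (Fin n)).coeff j - MvPolynomial.C (B.charpoly.coeff j)

theorem eval_Fj (B M : Matrix (Fin n) (Fin n) k) (j : ℕ) :
    MvPolynomial.eval (fun p => M p.1 p.2) (Fj B j) = M.charpoly.coeff j - B.charpoly.coeff j := by
  have h := Matrix.charpoly.univ_coeff_eval₂Hom (Fin n) (RingHom.id k)
    (fun p : Fin n × Fin n => M p.1 p.2) j
  have hM : Matrix.of (Function.curry fun p : Fin n × Fin n => M p.1 p.2) = M := rfl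
  rw [hM] at h
  rw [Fj, map_sub, MvPolynomial.eval_C]
  congr 1

theorem charpoly_conj (A B : Matrix (Fin n) (Fin n) k) (hA : IsUnit A.det) :
    (A * B * A⁻¹).charpoly = B.charpoly := by
  obtain ⟨u, hu⟩ := (Matrix.isUnit_iff_isUnit_det A).mpr hA
  rw [← hu]
  exact Matrix.charpoly_units_conj u B

theorem Fj_orbit (B : Matrix (Fin n) (Fin n) k) (j : ℕ) (A : Matrix (Fin n) (Fin n) k)
    (hA : IsUnit A.det) :
    MvPolynomial.eval (fun p => (A * B * A⁻¹) p.1 p.2) (Fj B j) = 0 := by
  rw [eval_Fj, charpoly_conj A B hA, sub_self]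

theorem charpoly_eq_of_closure (B C : Matrix (Fin n) (Fin n) k)
    (h : ∀ F : MvPolynomial (Fin n × Fin n) k,
      (∀ A : Matrix (Fin n) (Fin n) k, IsUnit A.det →
        MvPolynomial.eval (fun p => (A * B * A⁻¹) p.1 p.2) F = 0) →
      MvPolynomial.eval (fun p => C p.1 p.2) F = 0) :
    C.charpoly = B.charpoly := by
  apply Polynomial.ext
  intro j
  have := h (Fj B j) (Fj_orbit B j)
  rw [eval_Fj] at this
  exact sub_eq_zero.mp this

theorem conj_pow (A N : Matrix (Fin n) (Fin n) k) (hA : IsUnit A.det) (j : ℕ) :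
    (A * N * A⁻¹) ^ j = A * N ^ j * A⁻¹ := by
  induction j with
  | zero => rw [pow_zero, pow_zero, Matrix.mul_one, Matrix.mul_nonsing_inv A hA]
  | succ j ih =>
    rw [pow_succ, ih, pow_succ]
    calc A * N ^ j * A⁻¹ * (A * N * A⁻¹) = A * N ^ j * (A⁻¹ * A) * N * A⁻¹ := by
          simp only [Matrix.mul_assoc]
      _ = A * (N ^ j * N) * A⁻¹ := by
          rw [Matrix.nonsing_inv_mul A hA, Matrix.mul_one]
          simp only [Matrix.mul_assoc]

end helpers

/-- Over an algebraically closed field, the Zariski closures of the conjugation orbits of two square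
matrices B₁, B₂ meet if and only if their semisimple parts lie in one orbit. The semisimple parts
are given as S_i with B_i = S_i + N_i, S_i semisimple, N_i nilpotent, S_i N_i = N_i S_i; a common
point of the two closures is a matrix C at which every polynomial in the matrix entries vanishing on
the whole orbit of B₁, and every one vanishing on the whole orbit of B₂, vanishes. -/
theorem result (k : Type u) [Field k] [IsAlgClosed k]
    (n : ℕ) (B₁ S₁ N₁ B₂ S₂ N₂ : Matrix (Fin n) (Fin n) k)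
    (hS₁ : Module.End.IsSemisimple (Matrix.toLin' S₁)) (hN₁ : IsNilpotent N₁) (hc₁ : Commute S₁ N₁)
    (hB₁ : B₁ = S₁ + N₁)
    (hS₂ : Module.End.IsSemisimple (Matrix.toLin' S₂)) (hN₂ : IsNilpotent N₂) (hc₂ : Commute S₂ N₂)
    (hB₂ : B₂ = S₂ + N₂) :
    (∃ C : Matrix (Fin n) (Fin n) k,
        (∀ F : MvPolynomial (Fin n × Fin n) k,
          (∀ A : Matrix (Fin n) (Fin n) k, IsUnit A.det →
            MvPolynomial.eval (fun p => (A * B₁ * A⁻¹) p.1 p.2) F = 0) →
          MvPolynomial.eval (fun p => C p.1 p.2) F = 0) ∧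
        (∀ F : MvPolynomial (Fin n × Fin n) k,
          (∀ A : Matrix (Fin n) (Fin n) k, IsUnit A.det →
            MvPolynomial.eval (fun p => (A * B₂ * A⁻¹) p.1 p.2) F = 0) →
          MvPolynomial.eval (fun p => C p.1 p.2) F = 0)) ↔
      ∃ A : Matrix (Fin n) (Fin n) k, IsUnit A.det ∧ A * S₁ * A⁻¹ = S₂ := by
  constructor
  · rintro ⟨C, h1, h2⟩
    have e1 : C.charpoly = B₁.charpoly := charpoly_eq_of_closure B₁ C h1
    have e2 : C.charpoly = B₂.charpoly := charpoly_eq_of_closure B₂ C h2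
    have e3 : S₁.charpoly = B₁.charpoly := charpoly_eq_of_closure B₁ S₁
      (fun F hF => Groth.Agent.S19394.result k n B₁ S₁ N₁ hS₁ hN₁ hc₁ hB₁ F hF)
    have e4 : S₂.charpoly = B₂.charpoly := charpoly_eq_of_closure B₂ S₂
      (fun F hF => Groth.Agent.S19394.result k n B₂ S₂ N₂ hS₂ hN₂ hc₂ hB₂ F hF)
    exact matrix_conj S₁ S₂ hS₁ hS₂ (by rw [e3, ← e1, e2, ← e4])
  · rintro ⟨A, hA, hAS⟩
    refine ⟨S₂, ?_, ?_⟩
    · intro F hF
      have hnil : IsNilpotent (A * N₁ * A⁻¹) := by
        obtain ⟨m, hm⟩ := hN₁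
        exact ⟨m, by rw [conj_pow A N₁ hA, hm, Matrix.mul_zero, Matrix.zero_mul]⟩
      have hcomm : Commute S₂ (A * N₁ * A⁻¹) := by
        show S₂ * (A * N₁ * A⁻¹) = A * N₁ * A⁻¹ * S₂
        rw [← hAS]
        calc A * S₁ * A⁻¹ * (A * N₁ * A⁻¹) = A * S₁ * (A⁻¹ * A) * N₁ * A⁻¹ := by
              simp only [Matrix.mul_assoc]
          _ = A * (S₁ * N₁) * A⁻¹ := by
              rw [Matrix.nonsing_inv_mul A hA, Matrix.mul_one]
              simp only [Matrix.mul_assoc]
          _ = A * (N₁ * S₁) * A⁻¹ := by rw [hc₁.eq]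
          _ = A * N₁ * (A⁻¹ * A) * S₁ * A⁻¹ := by
              rw [Matrix.nonsing_inv_mul A hA, Matrix.mul_one]
              simp only [Matrix.mul_assoc]
          _ = A * N₁ * A⁻¹ * (A * S₁ * A⁻¹) := by simp only [Matrix.mul_assoc]
      have hB : A * B₁ * A⁻¹ = S₂ + A * N₁ * A⁻¹ := by
        rw [hB₁, ← hAS, Matrix.mul_add, Matrix.add_mul]
      refine Groth.Agent.S19394.result k n (A * B₁ * A⁻¹) S₂ (A * N₁ * A⁻¹) hS₂ hnil hcomm hB F ?_
      intro A' hA'
      have hdet : IsUnit (A' * A).det := by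
        rw [Matrix.det_mul]
        exact hA'.mul hA
      have := hF (A' * A) hdet
      rw [Matrix.mul_inv_rev] at this
      have e : A' * (A * B₁ * A⁻¹) * A'⁻¹ = A' * A * B₁ * (A⁻¹ * A'⁻¹) := by
        simp only [Matrix.mul_assoc]
      rw [e]
      exact this
    · intro F hF
      exact Groth.Agent.S19394.result k n B₂ S₂ N₂ hS₂ hN₂ hc₂ hB₂ F hF

end Groth.Agent.S19395
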