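import Groth.Statements.S19396
import Groth.Agent.H55.FFWeier

set_option autoImplicit false
universe u v
open FunFld

namespace Groth.Agent.S19396

/-- On an elliptic curve with base point 0, if f has a double pole at 0 and no other pole and g a triple
pole at 0 and no other pole, then for n ≥ 2 the functions 1, f, …, f^[n/2], g, fg, …, f^[(n−3)/2] g
form a basis of the space of functions with at most an n-fold pole at 0. Stated for a function field
K/k of one variable of genus 1 with a place P of degree 1 in the role of the curve and its base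
point: the family indexed by Fin (n/2 + 1) ⊕ Fin ((n − 1)/2), sending i on the left to f^i and i on
the right to f^i g, is linearly independent over k and spans L(nP). -/
theorem result (k : Type u) (K : Type v) [Field k] [Field K]
    [Algebra k K] (hK : FunFld.IsFunctionField k K) (hgen : FunFld.genus k K = 1)
    (P : FunFld.Place k K) (hP : P.deg = 1) (f g : K)
    (hf : f ∈ FunFld.L (Finsupp.single P 2)) (hf2 : P.ord f = -2)
    (hg : g ∈ FunFld.L (Finsupp.single P 3)) (hg3 : P.ord g = -3) (n : ℕ) (hn : 2 ≤ n) :
    LinearIndependent k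
        (Sum.elim (fun i : Fin (n / 2 + 1) => f ^ (i : ℕ)) (fun i : Fin ((n - 1) / 2) => f ^ (i : ℕ) * g)) ∧
      Submodule.span k (Set.range
        (Sum.elim (fun i : Fin (n / 2 + 1) => f ^ (i : ℕ)) (fun i : Fin ((n - 1) / 2) => f ^ (i : ℕ) * g))) =
        FunFld.L (Finsupp.single P (n : ℤ)) := by
  classical
  have hf0 : f ≠ 0 := by
    rintro rfl
    rw [Groth.Agent.H55.pl_ord_zero] at hf2
    norm_num at hf2
  have hg0 : g ≠ 0 := by
    rintro rfl
    rw [Groth.Agent.H55.pl_ord_zero] at hg3
    norm_num at hg3
  set u : Fin (n / 2 + 1) ⊕ Fin ((n - 1) / 2) → K :=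
    Sum.elim (fun i : Fin (n / 2 + 1) => f ^ (i : ℕ)) (fun i : Fin ((n - 1) / 2) => f ^ (i : ℕ) * g)
    with hu
  have hu0 : ∀ a, u a ≠ 0 := by
    rintro (i | i)
    · exact pow_ne_zero _ hf0
    · exact mul_ne_zero (pow_ne_zero _ hf0) hg0
  have hord : ∀ a, P.ord (u a) = Sum.elim (fun i : Fin (n / 2 + 1) => -2 * ((i : ℕ) : ℤ))
      (fun i : Fin ((n - 1) / 2) => -2 * ((i : ℕ) : ℤ) - 3) a := by
    rintro (i | i)
    · change P.ord (f ^ (i : ℕ)) = _
      rw [Groth.Agent.H55.pl_ord_pow, hf2]; simp; ring
    · change P.ord (f ^ (i : ℕ) * g) = _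
      rw [Groth.Agent.H55.pl_ord_mul P (pow_ne_zero _ hf0) hg0, Groth.Agent.H55.pl_ord_pow, hf2,
        hg3]
      simp; ring
  have hinj : Function.Injective (fun a => P.ord (u a)) := by
    intro a b hab
    simp only [hord] at hab
    rcases a with i | i <;> rcases b with j | j
    · simp only [Sum.elim_inl] at hab
      congr 1
      apply Fin.ext
      omega
    · simp only [Sum.elim_inl, Sum.elim_inr] at hab
      omega
    · simp only [Sum.elim_inl, Sum.elim_inr] at hab
      omega
    · simp only [Sum.elim_inr] at hab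
      congr 1
      apply Fin.ext
      omega
  have hli : LinearIndependent k u := by
    rw [linearIndependent_iff']
    intro s c hs i hi
    exact Groth.Agent.H55.eq_zero_of_sum_eq_zero_of_ord_injOn P s c u (fun a _ => hu0 a)
      (hinj.injOn) hs i hi
  refine ⟨hli, ?_⟩
  -- membership
  have hPdeg : (P.deg : ℤ) = 1 := by exact_mod_cast hP
  have hmem : ∀ a, u a ∈ FunFld.L (Finsupp.single P (n : ℤ) : FunFld.Divisor k K) := by
    intro a
    intro R
    rw [Groth.Agent.H55.pl_val_le_exp_iff R (hu0 a)]
    by_cases hR : R = P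
    · rw [hR, Finsupp.single_eq_same, hord]
      rcases a with i | i
      · have := i.2
        simp only [Sum.elim_inl]
        omega
      · have := i.2
        simp only [Sum.elim_inr]
        omega
    · rw [Finsupp.single_eq_of_ne hR, neg_zero]
      have hfR : 0 ≤ R.ord f := by
        have h := hf R
        rw [Groth.Agent.H55.pl_val_le_exp_iff R hf0, Finsupp.single_eq_of_ne hR] at h
        simpa using h
      have hgR : 0 ≤ R.ord g := by
        have h := hg R
        rw [Groth.Agent.H55.pl_val_le_exp_iff R hg0, Finsupp.single_eq_of_ne hR] at h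
        simpa using h
      rcases a with i | i
      · change 0 ≤ R.ord (f ^ (i : ℕ))
        rw [Groth.Agent.H55.pl_ord_pow]
        positivity
      · change 0 ≤ R.ord (f ^ (i : ℕ) * g)
        rw [Groth.Agent.H55.pl_ord_mul R (pow_ne_zero _ hf0) hg0, Groth.Agent.H55.pl_ord_pow]
        positivity
  have hle : Submodule.span k (Set.range u) ≤ FunFld.L (Finsupp.single P (n : ℤ)) := by
    rw [Submodule.span_le]
    rintro _ ⟨a, rfl⟩
    exact hmem a
  haveI := Groth.Agent.H55.L_finite hK (Finsupp.single P (n : ℤ) : FunFld.Divisor k K)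
  apply Submodule.eq_of_le_of_finrank_eq hle
  rw [finrank_span_eq_card hli, Fintype.card_sum, Fintype.card_fin, Fintype.card_fin]
  have hell := Groth.Agent.H55.ell_eq_of_deg_ge hK (Finsupp.single P (n : ℤ) : FunFld.Divisor k K)
    (by rw [Groth.Agent.H55.deg_single, hPdeg, hgen]; push_cast; omega)
  rw [Groth.Agent.H55.deg_single, hPdeg, hgen] at hell
  have h2 : (FunFld.ell (Finsupp.single P (n : ℤ) : FunFld.Divisor k K) : ℤ) = n := by
    rw [hell]; push_cast; ring
  change _ = FunFld.ell _
  omega

end Groth.Agent.S19396
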