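import Groth.Statements.S19397
import Groth.Agent.H81.EllAut

set_option autoImplicit false
universe u v
open FunFld

namespace Groth.Agent.S19397

open Classical in
/-- Over an algebraically closed field of characteristic different from 2 and 3, the automorphism group
of an elliptic curve (automorphisms fixing the base point) with invariant j has order 2 if j ≠ 0,
12³, order 4 if j = 12³ and order 6 if j = 0. Stated for the function field K/k of the curve: K of
genus 1 generated by x, y with y² = x³ + a x + b and 4a³ + 27b² ≠ 0, P the place where x has its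
double and y its triple pole (and no other poles), so that j = 12³ · 4a³/(4a³ + 27b²) and the three
cases are a, b ≠ 0; b = 0; a = 0; the automorphisms are the k-algebra automorphisms of K preserving
the valuation of P. -/
theorem result (k : Type u) (K : Type v) [Field k]
    [IsAlgClosed k] [Field K] [Algebra k K] (h2 : (2 : k) ≠ 0) (h3 : (3 : k) ≠ 0)
    (hK : FunFld.IsFunctionField k K) (hgen : FunFld.genus k K = 1) (P : FunFld.Place k K)
    (a b : k) (hdisc : 4 * a ^ 3 + 27 * b ^ 2 ≠ 0) (x y : K)
    (heq : y ^ 2 = x ^ 3 + algebraMap k K a * x + algebraMap k K b)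
    (hxy : IntermediateField.adjoin k ({x, y} : Set K) = ⊤)
    (hx : x ∈ FunFld.L (Finsupp.single P 2)) (hx2 : P.ord x = -2)
    (hy : y ∈ FunFld.L (Finsupp.single P 3)) (hy3 : P.ord y = -3) :
    Nat.card {σ : K ≃ₐ[k] K // ∀ z : K, P.1 (σ z) = P.1 z} =
      if a = 0 then 6 else if b = 0 then 4 else 2 := by
  have s : Groth.Agent.H81.EllAut.Setup P a b x y :=
    ⟨hK, hgen, h2, h3, heq, hxy, hx, hx2, hy, hy3⟩
  by_cases ha : a = 0
  · rw [if_pos ha]
    have hb0 : b ≠ 0 := by
      rintro rfl
      apply hdisc
      rw [ha]; ring
    haveI : NeZero ((6 : ℕ) : k) := ⟨by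
      push_cast
      have : (6 : k) = 2 * 3 := by norm_num
      rw [this]
      exact mul_ne_zero h2 h3⟩
    apply s.card_of_key 6
    intro u hu
    constructor
    · rintro ⟨-, h⟩
      rcases mul_eq_zero.mp h with h | h
      · exact absurd h hb0
      · linear_combination h
    · intro h
      exact ⟨by rw [ha, zero_mul], by rw [h, sub_self, mul_zero]⟩
  · rw [if_neg ha]
    by_cases hb : b = 0
    · rw [if_pos hb]
      haveI : NeZero ((4 : ℕ) : k) := ⟨by
        push_cast
        have : (4 : k) = 2 * 2 := by norm_num
        rw [this]
        exact mul_ne_zero h2 h2⟩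
      apply s.card_of_key 4
      intro u hu
      constructor
      · rintro ⟨h, -⟩
        rcases mul_eq_zero.mp h with h | h
        · exact absurd h ha
        · linear_combination h
      · intro h
        exact ⟨by rw [h, sub_self, mul_zero], by rw [hb, zero_mul]⟩
    · rw [if_neg hb]
      haveI : NeZero ((2 : ℕ) : k) := ⟨by push_cast; exact h2⟩
      apply s.card_of_key 2
      intro u hu
      constructor
      · rintro ⟨h4, h6⟩
        have e4 : u ^ 4 = 1 := by
          rcases mul_eq_zero.mp h4 with h | h
          · exact absurd h ha
          · linear_combination h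
        have e6 : u ^ 6 = 1 := by
          rcases mul_eq_zero.mp h6 with h | h
          · exact absurd h hb
          · linear_combination h
        calc u ^ 2 = 1 * u ^ 2 := (one_mul _).symm
          _ = u ^ 4 * u ^ 2 := by rw [e4]
          _ = u ^ 6 := by ring
          _ = 1 := e6
      · intro h
        have e4 : u ^ 4 = 1 := by
          have : u ^ 4 = (u ^ 2) ^ 2 := by ring
          rw [this, h, one_pow]
        have e6 : u ^ 6 = 1 := by
          have : u ^ 6 = (u ^ 2) ^ 3 := by ring
          rw [this, h, one_pow]
        exact ⟨by rw [e4, sub_self, mul_zero], by rw [e6, sub_self, mul_zero]⟩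

end Groth.Agent.S19397
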