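import Groth.Statements.S19401
import Groth.Agent.H62.OrbitFin

set_option autoImplicit false
universe u
open TensorProduct
open GLin

namespace Groth.Agent.S19401

/-- Suppose the field k is algebraically closed and has characteristic zero. Take A to be a finitely
generated commutative Hopf algebra over k (an affine algebraic group G), and take S and R to be
finitely generated commutative k-algebras, each equipped with a multiplicative A-coaction (so G acts
on Y = Spec S and on X = Spec R). Assume S → R is a finite algebra map respecting the coactions (a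
G-morphism X → Y). Given a k-point x of X whose image in Y is y, the orbit of x is closed (meaning
its orbit morphism Spec A → Spec R has closed image) exactly when the orbit of y is closed. (This is
the affine version of the source's result about G-morphisms of varieties.) -/
theorem result (k : Type u) [Field k] [IsAlgClosed k] [CharZero k]
    (A : Type u) [CommRing A] [HopfAlgebra k A] [Algebra.FiniteType k A]
    (S : Type u) [CommRing S] [Algebra k S] [Algebra.FiniteType k S] [HopfRep.Comod k A S] [GLin.IsCoactAlg k A S]
    (R : Type u) [CommRing R] [Algebra k R] [Algebra.FiniteType k R] [HopfRep.Comod k A R] [GLin.IsCoactAlg k A R]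
    [Algebra S R] [IsScalarTower k S R] [Module.Finite S R]
    (hequiv : ∀ s : S, HopfRep.Comod.coact (k := k) (A := A) (algebraMap S R s) =
      Algebra.TensorProduct.map (IsScalarTower.toAlgHom k S R) (AlgHom.id k A) (HopfRep.Comod.coact (k := k) (A := A) s))
    (x : R →ₐ[k] k) :
    GLin.IsClosedOrbit k A x ↔ GLin.IsClosedOrbit k A (x.comp (IsScalarTower.toAlgHom k S R)) := by
  classical
  haveI : Nontrivial A := Groth.Agent.H62.OrbitDim.nontrivial_of_hopf k
  let θ : S →ₐ[k] R := IsScalarTower.toAlgHom k S R
  let y : S →ₐ[k] k := x.comp θ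
  have hE : ∀ (w : R →ₐ[k] k) (s : S),
      GLin.orbitHom k A (w.comp θ) s = GLin.orbitHom k A w (algebraMap S R s) :=
    fun w s => Groth.Agent.H62.OrbitFin.orbitHom_comp_toAlgHom hequiv w s
  have hEr : ∀ w : R →ₐ[k] k, (GLin.orbitHom k A (w.comp θ)).toRingHom =
      (GLin.orbitHom k A w).toRingHom.comp (algebraMap S R) := fun w => RingHom.ext (hE w)
  have hint : (algebraMap S R).IsIntegral :=
    RingHom.Finite.to_isIntegral (RingHom.finite_algebraMap.mpr inferInstance)
  unfold GLin.IsClosedOrbit
  constructor
  · intro hcl
    have hrange : Set.range (PrimeSpectrum.comap (GLin.orbitHom k A (x.comp θ)).toRingHom) =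
        PrimeSpectrum.comap (algebraMap S R) ''
          Set.range (PrimeSpectrum.comap (GLin.orbitHom k A x).toRingHom) := by
      rw [hEr x, PrimeSpectrum.comap_comp, Set.range_comp]
    rw [hrange]
    exact PrimeSpectrum.isClosedMap_comap_of_isIntegral _ hint _ hcl
  · intro hcl
    have hNR : IsNoetherianRing R := Algebra.FiniteType.isNoetherianRing k R
    have hJR : IsJacobsonRing R := isJacobsonRing_of_finiteType (A := k) (B := R)
    have hfp : (GLin.orbitHom k A x).toRingHom.FinitePresentation := by
      apply RingHom.FinitePresentation.of_finiteType.mp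
      have h1 : ((GLin.orbitHom k A x).toRingHom.comp (algebraMap k R)).FiniteType := by
        have : (GLin.orbitHom k A x).toRingHom.comp (algebraMap k R) = algebraMap k A :=
          (GLin.orbitHom k A x).comp_algebraMap
        rw [this]
        exact RingHom.finiteType_algebraMap.mpr inferInstance
      exact RingHom.FiniteType.of_comp_finiteType h1
    have hcl_eq : closure (Set.range (PrimeSpectrum.comap (GLin.orbitHom k A x).toRingHom)) =
        PrimeSpectrum.zeroLocus (RingHom.ker (GLin.orbitHom k A x).toRingHom : Set R) :=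
      PrimeSpectrum.closure_range_comap _
    suffices h : PrimeSpectrum.zeroLocus (RingHom.ker (GLin.orbitHom k A x).toRingHom : Set R) ⊆
        Set.range (PrimeSpectrum.comap (GLin.orbitHom k A x).toRingHom) by
      have heq : Set.range (PrimeSpectrum.comap (GLin.orbitHom k A x).toRingHom) =
          PrimeSpectrum.zeroLocus (RingHom.ker (GLin.orbitHom k A x).toRingHom : Set R) :=
        Set.Subset.antisymm (hcl_eq ▸ subset_closure) h
      rw [heq]; exact PrimeSpectrum.isClosed_zeroLocus _
    by_contra hnot
    obtain ⟨P, hPV, hPT⟩ := Set.not_subset.mp hnot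
    have hDc : Topology.IsConstructible
        (PrimeSpectrum.zeroLocus (RingHom.ker (GLin.orbitHom k A x).toRingHom : Set R) \
          Set.range (PrimeSpectrum.comap (GLin.orbitHom k A x).toRingHom)) :=
      (Groth.Agent.H62.OrbitFin.isConstructible_zeroLocus _).sdiff
        (PrimeSpectrum.isConstructible_range_comap hfp)
    obtain ⟨w₀, ⟨hw₀V, hw₀T⟩, hw₀max⟩ :=
      Groth.Agent.H62.OrbitPts.exists_isMaximal_of_isConstructible hDc ⟨P, hPV, hPT⟩
    obtain ⟨w, hw⟩ := Groth.Agent.S11795.exists_point_of_isMaximal k R w₀.asIdeal hw₀max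
    have hkerw : w₀.asIdeal = RingHom.ker w :=
      hw₀max.eq_of_le (RingHom.ker_ne_top _) (fun f hf => hw f hf)
    have hxw : RingHom.ker (GLin.orbitHom k A x) ≤ RingHom.ker w := by
      rw [← hkerw]
      intro f hf
      exact (PrimeSpectrum.mem_zeroLocus _ _).mp hw₀V hf
    have hxw' := Groth.Agent.H62.OrbitPts.ker_orbitHom_le_of_le x w hxw
    have hyw : Groth.Agent.H62.OrbitPts.Orb (A := A) (x.comp θ) (w.comp θ) := by
      apply Groth.Agent.H62.OrbitFin.orb_of_mem_range
      have hmemcl : (⟨RingHom.ker (w.comp θ), RingHom.ker_isPrime _⟩ : PrimeSpectrum S) ∈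
          closure (Set.range (PrimeSpectrum.comap (GLin.orbitHom k A (x.comp θ)).toRingHom)) := by
        rw [PrimeSpectrum.closure_range_comap, PrimeSpectrum.mem_zeroLocus]
        intro s hs
        have h1 : GLin.orbitHom k A (x.comp θ) s = 0 := hs
        rw [hE x s] at h1
        have h2 : algebraMap S R s ∈ RingHom.ker w := hxw ((RingHom.mem_ker).mpr h1)
        exact (RingHom.mem_ker).mpr ((RingHom.mem_ker).mp h2)
      rwa [hcl.closure_eq] at hmemcl
    have hker_eq := Groth.Agent.H62.OrbitPts.ker_orbitHom_eq_of_orb hyw
    have hcomap : (RingHom.ker (GLin.orbitHom k A x)).comap (algebraMap S R) =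
        (RingHom.ker (GLin.orbitHom k A w)).comap (algebraMap S R) := by
      ext s
      simp only [Ideal.mem_comap, RingHom.mem_ker]
      rw [← hE x s, ← hE w s, ← RingHom.mem_ker, ← RingHom.mem_ker, hker_eq]
    obtain ⟨η, hη1, hη2⟩ := Groth.Agent.H62.OrbitFin.exists_common_minimalPrime_of_finite k
      (S := S) (RingHom.ker (GLin.orbitHom k A x)) (RingHom.ker (GLin.orbitHom k A w)) hxw'
      (RingHom.ker_ne_top _) hcomap
    have horb : Groth.Agent.H62.OrbitPts.Orb (A := A) x w :=
      Groth.Agent.H62.OrbitFin.orb_of_common_minimalPrime x w η hη1 hη2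
    have hmem := Groth.Agent.H62.OrbitFin.mem_range_of_orb x w horb
    apply hw₀T
    have hw₀eq : w₀ = ⟨RingHom.ker w, RingHom.ker_isPrime w⟩ := PrimeSpectrum.ext hkerw
    rw [hw₀eq]
    exact hmem

end Groth.Agent.S19401
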