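import Groth.Statements.S19414
import Groth.Agent.H77.WeilPush

set_option autoImplicit false
universe u v
open CategoryTheory AlgebraicGeometry
open WeilCoh

namespace Groth.Agent.S19414

/-- Let H be a Weil cohomology theory with coefficients in a field K of characteristic zero on
nonsingular connected projective varieties over an algebraically closed field k, X such a variety, P
= X × X with its projections p and q, and d : X → P the diagonal (the section of p and of q). For a
closed irreducible subset Z ⊆ X with generic point η and a class α ∈ H^i(X), the cohomological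
correspondence given by the class of the diagonal image d(Z) ⊆ P acts on α as cup product with the
class of Z: q_*(p^*(α) · cl_P(d(Z))) = α · cl_X(Z) in the total cohomology ring of X. The
push-forward q_* (Gysin map, defined through Poincaré duality) is taken on the homogeneous component
of degree i + 2 codim_P(d(Z)) that contains p^*(α) · cl_P(d(Z)). The published statement takes Z to
be a smooth hyperplane section, in which case cup product with cl_X(Z) is the Lefschetz operator L
and the identity says that L is given by an algebraic correspondence; it is stated here for every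
closed irreducible Z, which is what the argument establishes. -/
theorem result (k : Type u) [Field k] [IsAlgClosed k]
    (K : Type v) [Field K] [CharZero K] (T : WeilCoh.Theory k K) (X P : WeilCoh.Var k)
    (p q : P ⟶ X) (hP : WeilCoh.IsProd p q) (d : X ⟶ P) (hdp : d ≫ p = 𝟙 X) (hdq : d ≫ q = 𝟙 X)
    (η : ↥X.obj.left) (i : ℤ) (a : ↥(T.gr X i)) :
    (T.push q (i + 2 * (WeilCoh.codim P.obj.left (WeilCoh.sm d η) : ℤ))
        ⟨T.pull p (a : T.H X) * T.cl P (WeilCoh.sm d η),
          SetLike.mul_mem_graded (T.pull_mem p i a a.2) (T.cl_mem P (WeilCoh.sm d η))⟩ : T.H X) =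
      (a : T.H X) * T.cl X η := by
  classical
  have hdim : dim P.obj.left = dim X.obj.left + dim X.obj.left :=
    Groth.Agent.H77.dim_eq_add_of_isProd T p q hP
  have hres : (WeilCoh.sm d).residueDegree η = 1 :=
    Groth.Agent.H77.residueDegree_section (WeilCoh.sm d) (WeilCoh.sm p)
      (by rw [← Groth.Agent.H77.sm_comp, hdp, Groth.Agent.H77.sm_id]) η
  have hpd : pdim P.obj.left (WeilCoh.sm d η) = pdim X.obj.left η :=
    Groth.Agent.H77.pdim_map_eq_of_residueDegree_ne_zero d η (by rw [hres]; exact one_ne_zero)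
  have hcodP := Groth.Agent.H77.codim_cast P (WeilCoh.sm d η)
  have hcodX := Groth.Agent.H77.codim_cast X η
  have hmemL : (T.push q (i + 2 * (WeilCoh.codim P.obj.left (WeilCoh.sm d η) : ℤ))
        ⟨T.pull p (a : T.H X) * T.cl P (WeilCoh.sm d η),
          SetLike.mul_mem_graded (T.pull_mem p i a a.2) (T.cl_mem P (WeilCoh.sm d η))⟩ : T.H X) ∈
      T.gr X (i + 2 * (WeilCoh.codim P.obj.left (WeilCoh.sm d η) : ℤ) +
        2 * (dim X.obj.left : ℤ) - 2 * (dim P.obj.left : ℤ)) := Subtype.property _
  have hmemR : (a : T.H X) * T.cl X η ∈ T.gr X (i + 2 * (WeilCoh.codim X.obj.left η : ℤ)) :=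
    SetLike.mul_mem_graded a.2 (T.cl_mem X η)
  have hdeg : i + 2 * (WeilCoh.codim P.obj.left (WeilCoh.sm d η) : ℤ) +
        2 * (dim X.obj.left : ℤ) - 2 * (dim P.obj.left : ℤ) =
      i + 2 * (WeilCoh.codim X.obj.left η : ℤ) := by
    rw [hcodP, hcodX, hpd, hdim]; push_cast; ring
  refine Groth.Agent.H77.eq_of_forall_tr_mul_eq' T X _
    (2 * (dim X.obj.left : ℤ) - (i + 2 * (WeilCoh.codim P.obj.left (WeilCoh.sm d η) : ℤ) +
        2 * (dim X.obj.left : ℤ) - 2 * (dim P.obj.left : ℤ))) (by ring) _ _ hmemL
    (Groth.Agent.H77.mem_gr_of_eq T X hdeg.symm hmemR) ?_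
  intro b hb
  rw [Groth.Agent.H77.tr_push_mul' T q _ _ b _ (by ring) hb]
  simp only
  have hcomm1 : T.pull p (a : T.H X) * T.cl P (WeilCoh.sm d η) =
      T.cl P (WeilCoh.sm d η) * T.pull p (a : T.H X) :=
    Groth.Agent.H77.mul_comm_of_mem_even T P i _ _ _ (T.pull_mem p i a a.2)
      (T.cl_mem P (WeilCoh.sm d η))
  have hcomm2 : (a : T.H X) * T.cl X η = T.cl X η * (a : T.H X) :=
    Groth.Agent.H77.mul_comm_of_mem_even T X i _ _ _ a.2 (T.cl_mem X η)
  rw [hcomm1, hcomm2, mul_assoc, mul_assoc]
  have key := Groth.Agent.H77.tr_cl_mul_pull T d η (T.pull p (a : T.H X) * T.pull q b)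
  rw [hres, Nat.cast_one, one_mul] at key
  rw [← key, map_mul (T.pull d)]
  have e1 : T.pull d (T.pull p (a : T.H X)) = (a : T.H X) := by
    rw [← AlgHom.comp_apply, ← T.pull_comp, hdp, T.pull_id]; rfl
  have e2 : T.pull d (T.pull q b) = b := by
    rw [← AlgHom.comp_apply, ← T.pull_comp, hdq, T.pull_id]; rfl
  rw [e1, e2]

end Groth.Agent.S19414
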