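import Groth.Statements.S19416
import Mathlib
import Groth.Agent.H54.RegInter
import Groth.Agent.H54.SchemeDim2
import Groth.Agent.H38.ProdLocalDim
import Groth.Agent.H38.NowhereDenseDim
import Groth.Agent.H56.SmoothDimField
import Groth.Agent.H56.SmoothSecSchLen

set_option autoImplicit false
universe u
open CategoryTheory AlgebraicGeometry
open IntMult

namespace Groth.Agent.S19416


section Helpers
open AlgebraicGeometry CategoryTheory CategoryTheory.Limits TopologicalSpace Topology Groth.Agent.H54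

theorem tdeg_congr {k : Type u} [Field k] {X : Scheme.{u}}
    {s s' : X ⟶ Spec (CommRingCat.of k)} [LocallyOfFiniteType s] [LocallyOfFiniteType s']
    (h : s = s') (x : X) : tdeg s x = tdeg s' x := by
  subst h
  rfl

theorem main (k : Type u) [Field k] (X : Scheme.{u})
    (f : X ⟶ Spec (CommRingCat.of k)) [Smooth f] [IsSeparated f] [QuasiCompact f] [IsIntegral X]
    (n r s : ℕ) (hn : topologicalKrullDim X = n) (V W : Set X) (hVc : IsClosed V)
    (hVi : IsIrreducible V) (hWc : IsClosed W) (hWi : IsIrreducible W)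
    (hr : topologicalKrullDim ↥V = r) (hs : topologicalKrullDim ↥W = s) (Z : Set ↥(V ∩ W))
    (hZ : Z ∈ irreducibleComponents ↥(V ∩ W)) :
    ((r + s : ℕ) : WithBot ℕ∞) ≤ topologicalKrullDim ↥Z + n := by
  classical
  haveI : LocallyOfFiniteType f := inferInstance
  haveI : SmoothOfRelativeDimension n f :=
    Groth.Agent.H56.SmoothDimField.smoothOfRelativeDimension_of_isIntegral k X f n hn
  haveI := smoothOfRelativeDimension_isStableUnderBaseChange n
  haveI : SmoothOfRelativeDimension n (pullback.fst f f) :=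
    MorphismProperty.pullback_fst (P := @SmoothOfRelativeDimension n) f f inferInstance
  obtain ⟨himm, hloc⟩ := Groth.Agent.H56.SmoothSecLen.section_isRegularImmersionOfCodim n
    (pullback.fst f f) (pullback.diagonal f) (pullback.diagonal_fst f)
  -- generic points of V and W, integral closed subschemes
  obtain ⟨ξV, hξV⟩ := QuasiSober.sober hVi hVc
  obtain ⟨ξW, hξW⟩ := QuasiSober.sober hWi hWc
  have hVcl : closure ({ξV} : Set X) = V := hξV.def
  have hWcl : closure ({ξW} : Set X) = W := hξW.def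
  obtain ⟨CV, ιV, hιV, hCVint, hCVr⟩ :=
    Groth.Agent.H38.ProdLocalDim.exists_integral_closedImmersion ξV
  obtain ⟨CW, ιW, hιW, hCWint, hCWr⟩ :=
    Groth.Agent.H38.ProdLocalDim.exists_integral_closedImmersion ξW
  haveI := hιV
  haveI := hιW
  haveI := hCVint
  haveI := hCWint
  have hdV : topologicalKrullDim CV = (r : WithBot ℕ∞) := by
    rw [Groth.Agent.H38.ProdLocalDim.dim_of_range_eq_closure f ιV ξV hCVr,
      ← topologicalKrullDim_closure_singleton f ξV, hVcl]
    exact hr
  have hdW : topologicalKrullDim CW = (s : WithBot ℕ∞) := by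
    rw [Groth.Agent.H38.ProdLocalDim.dim_of_range_eq_closure f ιW ξW hCWr,
      ← topologicalKrullDim_closure_singleton f ξW, hWcl]
    exact hs
  -- generic point of Z
  haveI : QuasiSober ↥(V ∩ W) := (hVc.inter hWc).isClosedEmbedding_subtypeVal.quasiSober
  obtain ⟨ζ, hζ⟩ := QuasiSober.sober hZ.1 (isClosed_of_mem_irreducibleComponents Z hZ)
  have hζcl : closure ({ζ} : Set ↥(V ∩ W)) = Z := hζ.def
  have hζZ : ζ ∈ Z := hζcl ▸ subset_closure rfl
  have hmaxZ : ∀ b : ↥(V ∩ W), b ⤳ ζ → b = ζ := by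
    intro b hb
    have hirr : IsIrreducible (closure ({b} : Set ↥(V ∩ W))) := isIrreducible_singleton.closure
    have hsub : Z ⊆ closure ({b} : Set ↥(V ∩ W)) := by
      rw [← hζcl]
      exact closure_minimal
        (Set.singleton_subset_iff.mpr (specializes_iff_mem_closure.mp hb)) isClosed_closure
    have hle : closure ({b} : Set ↥(V ∩ W)) ⊆ Z := hZ.2 hirr hsub
    have hbZ : b ∈ Z := hle (subset_closure rfl)
    have hab : ζ ⤳ b := specializes_iff_mem_closure.mpr (hζcl ▸ hbZ)
    exact (hb.antisymm hab).eq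
  have hmaxX : ∀ x' : X, x' ∈ V → x' ∈ W → x' ⤳ ζ.1 → x' = ζ.1 := by
    intro x' h1 h2 h3
    have h4 : (⟨x', h1, h2⟩ : ↥(V ∩ W)) ⤳ ζ :=
      (IsInducing.subtypeVal.specializes_iff (x := (⟨x', h1, h2⟩ : ↥(V ∩ W))) (y := ζ)).mp h3
    exact congrArg Subtype.val (hmaxZ _ h4)
  -- the product of the two subschemes inside X × X
  let m : pullback (ιV ≫ f) (ιW ≫ f) ⟶ pullback f f :=
    pullback.map (ιV ≫ f) (ιW ≫ f) f f ιV ιW (𝟙 _)
      ((Category.comp_id _).trans rfl) ((Category.comp_id _).trans rfl)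
  haveI : MorphismProperty.IsStableUnderComposition @IsClosedImmersion.{u} :=
    (inferInstance : MorphismProperty.IsMultiplicative
      @IsClosedImmersion.{u}).toIsStableUnderComposition
  haveI hm : IsClosedImmersion m :=
    MorphismProperty.pullbackMap (P := @IsClosedImmersion.{u}) hιV hιW rfl rfl
  have hrange : Set.range m.base =
      (pullback.fst f f).base ⁻¹' Set.range ιV.base ∩
        (pullback.snd f f).base ⁻¹' Set.range ιW.base :=
    Scheme.Pullback.range_map (ιV ≫ f) (ιW ≫ f) f f ιV ιW (𝟙 _) _ _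
  have hfst : ∀ x : X, (pullback.fst f f).base ((pullback.diagonal f).base x) = x := by
    intro x
    have h := congrArg (fun φ : X ⟶ X => φ.base x) (pullback.diagonal_fst f)
    exact h
  have hsnd : ∀ x : X, (pullback.snd f f).base ((pullback.diagonal f).base x) = x := by
    intro x
    have h := congrArg (fun φ : X ⟶ X => φ.base x) (pullback.diagonal_snd f)
    exact h
  have hΔm : (pullback.diagonal f).base ζ.1 ∈ Set.range m.base := by
    rw [hrange, hCVr, hCWr, hVcl, hWcl]
    refine ⟨?_, ?_⟩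
    · rw [Set.mem_preimage, hfst]
      exact ζ.2.1
    · rw [Set.mem_preimage, hsnd]
      exact ζ.2.2
  obtain ⟨p, hp⟩ := hΔm
  obtain ⟨p₀, hp₀p, hp₀⟩ := exists_generic_specializes p
  have hcomp : m ≫ pullback.fst f f ≫ f = pullback.fst (ιV ≫ f) (ιW ≫ f) ≫ ιV ≫ f := by
    rw [← Category.assoc, ← Category.assoc]
    congr 1
    exact pullback.lift_fst _ _ _
  have hcompΔ : pullback.diagonal f ≫ pullback.fst f f ≫ f = f := by
    rw [← Category.assoc, pullback.diagonal_fst, Category.id_comp]
  have htd : ∀ w, tdeg (pullback.fst f f ≫ f) (m.base w) =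
      tdeg (pullback.fst (ιV ≫ f) (ιW ≫ f) ≫ ιV ≫ f) w := by
    intro w
    rw [← Groth.Agent.H38.NowhereDenseDim.tdeg_comp_closedImmersion (pullback.fst f f ≫ f) m w]
    exact tdeg_congr hcomp w
  have htdΔ : ∀ w, tdeg (pullback.fst f f ≫ f) ((pullback.diagonal f).base w) = tdeg f w := by
    intro w
    rw [← Groth.Agent.H38.NowhereDenseDim.tdeg_comp_closedImmersion (pullback.fst f f ≫ f)
      (pullback.diagonal f) w]
    exact tdeg_congr hcompΔ w
  -- dimension of the generic point of the product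
  have h1 := Groth.Agent.H38.DimProdComp.tdeg_pullback_eq (ιV ≫ f) (ιW ≫ f) p₀
    (fun ζ'' h => eq_of_specializes_generic hp₀ h)
  rw [hdV, hdW] at h1
  have h1' : tdeg (pullback.fst (ιV ≫ f) (ιW ≫ f) ≫ ιV ≫ f) p₀ = r + s := by
    exact_mod_cast h1
  -- Krull
  obtain ⟨U, hzU, hcl, rs, hlen, -, hker⟩ := hloc ζ.1
  haveI := hcl
  have hxU : m.base p ∈ (U.1 : Set ↥(pullback f f)) := by
    rw [hp]
    exact hzU
  have hKR : tdeg (pullback.fst (ιV ≫ f) (ιW ≫ f) ≫ ιV ≫ f) p₀ ≤
      tdeg (pullback.fst (ιV ≫ f) (ιW ≫ f) ≫ ιV ≫ f) p + n :=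
    tdeg_le_tdeg_add_of_minimal (pullback.fst (ιV ≫ f) (ιW ≫ f) ≫ ιV ≫ f) m
      (pullback.diagonal f) U rs n hlen hker p₀ p hp₀p hxU ⟨ζ.1, hp.symm⟩ (by
        rintro y - hyp ⟨x', hx'⟩
        have hx'' : (pullback.diagonal f).base x' = m.base y := hx'
        have hsp : m.base y ⤳ m.base p := hyp.map m.continuous
        have hx'z : x' ⤳ ζ.1 := by
          have h2 : (pullback.fst f f).base (m.base y) ⤳ (pullback.fst f f).base (m.base p) :=
            hsp.map (pullback.fst f f).continuous
          rw [hp, hfst ζ.1, ← hx'', hfst x'] at h2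
          exact h2
        have hmy : m.base y ∈ Set.range m.base := ⟨y, rfl⟩
        rw [hrange] at hmy
        obtain ⟨hy1, hy2⟩ := hmy
        have hx'V : x' ∈ V := by
          rw [Set.mem_preimage, ← hx'', hfst x', hCVr, hVcl] at hy1
          exact hy1
        have hx'W : x' ∈ W := by
          rw [Set.mem_preimage, ← hx'', hsnd x', hCWr, hWcl] at hy2
          exact hy2
        have hxz : x' = ζ.1 := hmaxX x' hx'V hx'W hx'z
        have hmy_eq : m.base y = m.base p := by
          rw [← hx'', hxz, hp]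
        exact m.isClosedEmbedding.injective hmy_eq)
  have htp : tdeg (pullback.fst (ιV ≫ f) (ιW ≫ f) ≫ ιV ≫ f) p = tdeg f ζ.1 := by
    rw [← htd p, hp, htdΔ ζ.1]
  have hLC : (tdeg f ζ.1 : WithBot ℕ∞) ≤ topologicalKrullDim ↥Z :=
    tdeg_le_dim_of_embedding f (fun t : ↥Z => (t.1 : ↥(V ∩ W)).1)
      (IsInducing.subtypeVal.comp IsInducing.subtypeVal) ⟨ζ, hζZ⟩ ⊤ trivial (by
        rintro y ⟨hy1, -⟩
        have hsp : ζ.1 ⤳ y := specializes_iff_mem_closure.mpr hy1
        have hyV : y ∈ V := hsp.mem_closed hVc ζ.2.1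
        have hyW : y ∈ W := hsp.mem_closed hWc ζ.2.2
        have hb : ζ ⤳ (⟨y, hyV, hyW⟩ : ↥(V ∩ W)) :=
          (IsInducing.subtypeVal.specializes_iff (x := ζ)
            (y := (⟨y, hyV, hyW⟩ : ↥(V ∩ W)))).mp hsp
        have hyZ : (⟨y, hyV, hyW⟩ : ↥(V ∩ W)) ∈ Z := hζcl ▸ specializes_iff_mem_closure.mp hb
        exact ⟨⟨⟨y, hyV, hyW⟩, hyZ⟩, rfl⟩)
  have hfin : r + s ≤ tdeg f ζ.1 + n := by
    rw [← h1', ← htp]
    exact hKR
  calc ((r + s : ℕ) : WithBot ℕ∞) ≤ ((tdeg f ζ.1 + n : ℕ) : WithBot ℕ∞) := by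
        exact_mod_cast hfin
    _ = (tdeg f ζ.1 : WithBot ℕ∞) + (n : WithBot ℕ∞) := Nat.cast_add _ _
    _ ≤ topologicalKrullDim ↥Z + (n : WithBot ℕ∞) := add_le_add hLC le_rfl

end Helpers


/-- Let k be a field and X a smooth variety over k (the structure morphism X → Spec k smooth, separated
and quasi-compact, X integral) of dimension n, and let V, W ⊆ X be closed irreducible subsets of
dimensions r and s. Then every irreducible component Z of V ∩ W has dimension at least r + s − n,
stated as r + s ≤ dim Z + n with Krull dimensions of the subspaces; equivalently the codimension of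
Z is at most the sum of the codimensions of V and W. The base field is arbitrary here; the same
statement over an algebraically closed field is the classical dimension count for intersections on a
nonsingular variety. -/
theorem result (k : Type u) [Field k] (X : Scheme.{u})
    (f : X ⟶ Spec (CommRingCat.of k)) [Smooth f] [IsSeparated f] [QuasiCompact f] [IsIntegral X]
    (n r s : ℕ) (hn : topologicalKrullDim X = n) (V W : Set X) (hVc : IsClosed V)
    (hVi : IsIrreducible V) (hWc : IsClosed W) (hWi : IsIrreducible W)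
    (hr : topologicalKrullDim ↥V = r) (hs : topologicalKrullDim ↥W = s) (Z : Set ↥(V ∩ W))
    (hZ : Z ∈ irreducibleComponents ↥(V ∩ W)) :
    ((r + s : ℕ) : WithBot ℕ∞) ≤ topologicalKrullDim ↥Z + n := by
  exact main k X f n r s hn V W hVc hVi hWc hWi hr hs Z hZ
end Groth.Agent.S19416
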