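import Groth.Statements.S19418
import Groth.Agent.H77.WeilJac

set_option autoImplicit false
universe u v
open CategoryTheory AlgebraicGeometry
open WeilCoh

namespace Groth.Agent.S19418

/-- Key step, cohomological form: let H be a Weil cohomology theory with coefficients in a field K of
characteristic zero on nonsingular connected projective varieties over an algebraically closed field
k, X such a variety of dimension n, P = X × X with projections p, q and the swap automorphism σ (σ p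
= q, σ q = p); the identity dim P = 2n is carried as the arithmetic hypothesis hdim. A class u ∈
H^{2n}(P) acts as a degree-0 correspondence on each H^j(X), 0 ≤ j ≤ 2n, by β ↦ q_*(p^*(β) · u); call
u algebraic when it lies in the K-linear span of the classes of closed irreducible subsets of P, and
let A be the K-subalgebra of ∏_j End_K(H^j(X)) generated by the actions of the algebraic classes in
H^{2n}(P). If u is algebraic and ψ ∘ (action of u) is nilpotent for every ψ ∈ A — that is, the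
action of u lies in the Jacobson radical of the finite-dimensional algebra A — then u is numerically
trivial against algebraic classes: Tr_P(u · v) = 0 for every algebraic v ∈ H^{2n}(P). In the
published argument this is the step showing that the algebra of degree-0 algebraic correspondences
modulo numerical equivalence has zero Jacobson radical, hence is semisimple; it is stated here on
the cohomological side, with the algebra generated by the correspondence actions in place of the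
algebra of cycle classes. -/
theorem result (k : Type u) [Field k] [IsAlgClosed k]
    (K : Type v) [Field K] [CharZero K] (T : WeilCoh.Theory k K) (X P : WeilCoh.Var k)
    (p q : P ⟶ X) (hP : WeilCoh.IsProd p q) (σ : P ⟶ P) (hσp : σ ≫ p = q) (hσq : σ ≫ q = p)
    (hdim : ∀ j : ℤ, j + 2 * (WeilCoh.dim X.obj.left : ℤ) + 2 * (WeilCoh.dim X.obj.left : ℤ) - 2 * (WeilCoh.dim P.obj.left : ℤ) = j)
    (u : ↥(T.gr P (2 * (WeilCoh.dim X.obj.left : ℤ)))) (hu : (u : T.H P) ∈ Submodule.span K (Set.range (T.cl P)))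
    (hJ : ∀ ψ ∈ Algebra.adjoin K
          (Set.range (fun w : {w : ↥(T.gr P (2 * (WeilCoh.dim X.obj.left : ℤ))) // (w : T.H P) ∈ Submodule.span K (Set.range (T.cl P))} =>
            fun j : Fin (2 * WeilCoh.dim X.obj.left + 1) =>
              ((LinearEquiv.ofEq (T.gr X (((j : ℕ) : ℤ) + 2 * (WeilCoh.dim X.obj.left : ℤ) + 2 * (WeilCoh.dim X.obj.left : ℤ) - 2 * (WeilCoh.dim P.obj.left : ℤ))) (T.gr X ((j : ℕ) : ℤ)) (congrArg (T.gr X) (hdim ((j : ℕ) : ℤ)))).toLinearMap ∘ₗ
              ((T.push q (((j : ℕ) : ℤ) + 2 * (WeilCoh.dim X.obj.left : ℤ))) ∘ₗ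
                (((LinearMap.mulRight K (w.1 : T.H P)).restrict (p := T.gr P ((j : ℕ) : ℤ))
                    (q := T.gr P (((j : ℕ) : ℤ) + 2 * (WeilCoh.dim X.obj.left : ℤ))) (fun x hx => SetLike.mul_mem_graded hx w.1.2)) ∘ₗ
                  T.pullDeg p ((j : ℕ) : ℤ)))))),
        IsNilpotent (ψ * fun j : Fin (2 * WeilCoh.dim X.obj.left + 1) =>
          ((LinearEquiv.ofEq (T.gr X (((j : ℕ) : ℤ) + 2 * (WeilCoh.dim X.obj.left : ℤ) + 2 * (WeilCoh.dim X.obj.left : ℤ) - 2 * (WeilCoh.dim P.obj.left : ℤ))) (T.gr X ((j : ℕ) : ℤ)) (congrArg (T.gr X) (hdim ((j : ℕ) : ℤ)))).toLinearMap ∘ₗ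
              ((T.push q (((j : ℕ) : ℤ) + 2 * (WeilCoh.dim X.obj.left : ℤ))) ∘ₗ
                (((LinearMap.mulRight K (u : T.H P)).restrict (p := T.gr P ((j : ℕ) : ℤ))
                    (q := T.gr P (((j : ℕ) : ℤ) + 2 * (WeilCoh.dim X.obj.left : ℤ))) (fun x hx => SetLike.mul_mem_graded hx u.2)) ∘ₗ
                  T.pullDeg p ((j : ℕ) : ℤ))))))
    (v : ↥(T.gr P (2 * (WeilCoh.dim X.obj.left : ℤ)))) (hv : (v : T.H P) ∈ Submodule.span K (Set.range (T.cl P))) :
    T.tr P ((u : T.H P) * (v : T.H P)) = 0 := by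
  classical
  have hσσ := Groth.Agent.H77.swap_comp_swap p q hP σ hσp hσq
  have hv'mem : T.pull σ (v : T.H P) ∈ T.gr P (2 * (WeilCoh.dim X.obj.left : ℤ)) :=
    T.pull_mem σ _ _ v.2
  have hv'alg : T.pull σ (v : T.H P) ∈ Submodule.span K (Set.range (T.cl P)) :=
    Groth.Agent.H77.pull_mem_span_of_involution T σ hσσ _ hv
  have hvv : T.pull σ (T.pull σ (v : T.H P)) = (v : T.H P) := by
    rw [← AlgHom.comp_apply, ← T.pull_comp, hσσ, T.pull_id]
    rfl
  have hD : ∀ i : ℤ, T.gr X (i + 2 * (WeilCoh.dim X.obj.left : ℤ) +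
      2 * (WeilCoh.dim X.obj.left : ℤ) - 2 * (WeilCoh.dim P.obj.left : ℤ) +
      2 * (WeilCoh.dim X.obj.left : ℤ) + 2 * (WeilCoh.dim X.obj.left : ℤ) -
      2 * (WeilCoh.dim P.obj.left : ℤ)) = T.gr X i := by
    intro i
    congr 1
    have h0 := hdim 0
    have hi := hdim i
    linarith
  have hkey := Groth.Agent.H77.tr_mul_pull_swap_eq T p q hP p q hP σ hσp hσq
    (2 * (WeilCoh.dim X.obj.left : ℤ)) (2 * (WeilCoh.dim X.obj.left : ℤ)) (by ring) u
    ⟨T.pull σ (v : T.H P), hv'mem⟩ hD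
  simp only [] at hkey
  rw [hvv] at hkey
  rw [hkey]
  refine Finset.sum_eq_zero (fun i hi => ?_)
  have hnil := hJ _ (Algebra.subset_adjoin
    ⟨⟨⟨T.pull σ (v : T.H P), hv'mem⟩, hv'alg⟩, rfl⟩)
  obtain ⟨N, hN⟩ := hnil
  have hNj := congrFun hN ⟨i, Finset.mem_range.1 hi⟩
  rw [Pi.pow_apply, Pi.mul_apply] at hNj
  have hE : ((LinearEquiv.ofEq _ _ (hD (i : ℤ))).toLinearMap ∘ₗ
      (Groth.Agent.H77.corr T p q (2 * (WeilCoh.dim X.obj.left : ℤ))
        ⟨T.pull σ (v : T.H P), hv'mem⟩ _) ∘ₗ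
      (Groth.Agent.H77.corr T p q (2 * (WeilCoh.dim X.obj.left : ℤ)) u (i : ℤ))) =
      ((LinearEquiv.ofEq _ _ (congrArg (T.gr X) (hdim (i : ℤ)))).toLinearMap ∘ₗ
        (Groth.Agent.H77.corr T p q (2 * (WeilCoh.dim X.obj.left : ℤ))
          ⟨T.pull σ (v : T.H P), hv'mem⟩ (i : ℤ))) *
      ((LinearEquiv.ofEq _ _ (congrArg (T.gr X) (hdim (i : ℤ)))).toLinearMap ∘ₗ
        (Groth.Agent.H77.corr T p q (2 * (WeilCoh.dim X.obj.left : ℤ)) u (i : ℤ))) := by
    apply LinearMap.ext
    intro b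
    apply Subtype.ext
    simp only [LinearMap.comp_apply, LinearEquiv.coe_coe, LinearEquiv.coe_ofEq_apply,
      Module.End.mul_apply]
    exact (Groth.Agent.H77.coe_corr_congr T p q _ _ (hdim (i : ℤ)).symm _ _
      (by rw [LinearEquiv.coe_ofEq_apply])).symm
  rw [hE]
  have hnil' : IsNilpotent
      (((LinearEquiv.ofEq _ _ (congrArg (T.gr X) (hdim (i : ℤ)))).toLinearMap ∘ₗ
        (Groth.Agent.H77.corr T p q (2 * (WeilCoh.dim X.obj.left : ℤ))
          ⟨T.pull σ (v : T.H P), hv'mem⟩ (i : ℤ))) *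
      ((LinearEquiv.ofEq _ _ (congrArg (T.gr X) (hdim (i : ℤ)))).toLinearMap ∘ₗ
        (Groth.Agent.H77.corr T p q (2 * (WeilCoh.dim X.obj.left : ℤ)) u (i : ℤ)))) :=
    ⟨N, hNj⟩
  rw [IsNilpotent.eq_zero (LinearMap.isNilpotent_trace_of_isNilpotent hnil'), mul_zero]

end Groth.Agent.S19418
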