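import Groth.Statements.S19422
import Groth.Agent.H62.GLinMu

set_option autoImplicit false
universe u
open TensorProduct LaurentPolynomial
open GIT

namespace Groth.Agent.S19422


section Gm
variable {k : Type u} [Field k] {ι : Type u} [Fintype ι]
  [HopfRep.Comod k k[T;T⁻¹] (MvPolynomial ι k)] [GLin.IsCoactAlg k k[T;T⁻¹] (MvPolynomial ι k)]
  (r : ι → ℤ)

/-- The weight of a monomial. -/
def wt (m : ι →₀ ℕ) : ℤ := ∑ i, (m i : ℤ) * r i

omit [Fintype ι] [HopfRep.Comod k k[T;T⁻¹] (MvPolynomial ι k)]
  [GLin.IsCoactAlg k k[T;T⁻¹] (MvPolynomial ι k)] in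
theorem coeff_smul_T (a : k) (m n : ℤ) :
    (a • (T m : k[T;T⁻¹])).coeff n = if m = n then a else 0 := by
  rw [AddMonoidAlgebra.coeff_smul_apply, LaurentPolynomial.T_apply]
  split_ifs <;> simp

omit [HopfRep.Comod k k[T;T⁻¹] (MvPolynomial ι k)]
  [GLin.IsCoactAlg k k[T;T⁻¹] (MvPolynomial ι k)] in
theorem wt_add (m n : ι →₀ ℕ) : wt r (m + n) = wt r m + wt r n := by
  unfold wt
  rw [← Finset.sum_add_distrib]
  refine Finset.sum_congr rfl fun i _ => ?_
  rw [Finsupp.add_apply]
  push_cast
  ring

omit [HopfRep.Comod k k[T;T⁻¹] (MvPolynomial ι k)]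
  [GLin.IsCoactAlg k k[T;T⁻¹] (MvPolynomial ι k)] in
theorem wt_single (i : ι) (n : ℕ) : wt r (Finsupp.single i n) = (n : ℤ) * r i := by
  classical
  unfold wt
  rw [Finset.sum_eq_single i]
  · rw [Finsupp.single_eq_same]
  · intro j _ hji
    rw [Finsupp.single_eq_of_ne (Ne.symm hji.symm)]
    simp
  · intro h
    exact absurd (Finset.mem_univ i) h

variable (hr : ∀ i : ι, HopfRep.Comod.coact (k := k) (A := k[T;T⁻¹])
    (MvPolynomial.X i : MvPolynomial ι k) =
      (MvPolynomial.X i : MvPolynomial ι k) ⊗ₜ[k] (T (r i) : k[T;T⁻¹]))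

omit [Fintype ι] in
include hr in
theorem coact_X_pow (i : ι) (n : ℕ) :
    HopfRep.Comod.coact (k := k) (A := k[T;T⁻¹]) ((MvPolynomial.X i : MvPolynomial ι k) ^ n) =
      ((MvPolynomial.X i : MvPolynomial ι k) ^ n) ⊗ₜ[k] (T ((n : ℤ) * r i) : k[T;T⁻¹]) := by
  rw [← GLin.coactAlgHom_apply, map_pow, GLin.coactAlgHom_apply, hr i,
    Algebra.TensorProduct.tmul_pow, LaurentPolynomial.T_pow]

include hr in
theorem coact_monomial (m : ι →₀ ℕ) (a : k) :
    HopfRep.Comod.coact (k := k) (A := k[T;T⁻¹]) (MvPolynomial.monomial m a) =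
      (MvPolynomial.monomial m a) ⊗ₜ[k] (T (wt r m) : k[T;T⁻¹]) := by
  classical
  induction m using Finsupp.induction generalizing a with
  | zero =>
    have h0 : wt r (0 : ι →₀ ℕ) = 0 := by simp [wt]
    rw [h0, LaurentPolynomial.T_zero]
    have : (MvPolynomial.monomial (0 : ι →₀ ℕ) a : MvPolynomial ι k) = a • 1 := by
      rw [MvPolynomial.smul_eq_C_mul, mul_one]; rfl
    rw [this, map_smul, GLin.IsCoactAlg.coact_one (k := k) (A := k[T;T⁻¹]),
      Algebra.TensorProduct.one_def, TensorProduct.smul_tmul']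
  | single_add i n f hi hn ih =>
    have hmul : (MvPolynomial.monomial (Finsupp.single i n + f) a : MvPolynomial ι k) =
        (MvPolynomial.X i) ^ n * MvPolynomial.monomial f a := by
      rw [MvPolynomial.X_pow_eq_monomial, MvPolynomial.monomial_mul, one_mul]
    rw [hmul, GLin.IsCoactAlg.coact_mul (k := k) (A := k[T;T⁻¹]), coact_X_pow r hr, ih,
      Algebra.TensorProduct.tmul_mul_tmul, ← LaurentPolynomial.T_add, wt_add, wt_single]

include hr in
/-- Monomials in the support of an invariant have weight zero. -/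
theorem wt_eq_zero_of_invariant {F : MvPolynomial ι k}
    (hF : F ∈ GLin.invariants k k[T;T⁻¹] (MvPolynomial ι k)) {m : ι →₀ ℕ}
    (hm : m ∈ F.support) : wt r m = 0 := by
  classical
  have hF' : HopfRep.Comod.coact (k := k) (A := k[T;T⁻¹]) F = F ⊗ₜ[k] (1 : k[T;T⁻¹]) := hF
  let L : MvPolynomial ι k ⊗[k] k[T;T⁻¹] →ₗ[k] k[T;T⁻¹] :=
    (TensorProduct.lid k k[T;T⁻¹]).toLinearMap ∘ₗ (MvPolynomial.lcoeff k m).rTensor k[T;T⁻¹]
  have h1 : L (HopfRep.Comod.coact (k := k) (A := k[T;T⁻¹]) F) =
      MvPolynomial.coeff m F • (T (wt r m) : k[T;T⁻¹]) := by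
    conv_lhs => rw [F.as_sum]
    rw [map_sum, map_sum]
    rw [Finset.sum_eq_single m]
    · rw [coact_monomial r hr]
      simp [L]
    · intro s _ hsm
      rw [coact_monomial r hr]
      simp [L, MvPolynomial.coeff_monomial, hsm]
    · intro h
      exact absurd hm h
  have h2 : L (F ⊗ₜ[k] (1 : k[T;T⁻¹])) = MvPolynomial.coeff m F • (T 0 : k[T;T⁻¹]) := by
    simp [L]
  rw [hF', h2] at h1
  by_contra hne
  have h3 := congrArg (fun p : k[T;T⁻¹] => p.coeff 0) h1
  simp only [coeff_smul_T] at h3
  rw [if_neg hne] at h3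
  simp only [if_true] at h3
  exact (MvPolynomial.mem_support_iff.mp hm) h3

end Gm

/-- Over an algebraically closed field k, let the multiplicative group, whose coordinate Hopf algebra is
the Laurent polynomial ring, act diagonally on affine ι-space, ι finite: the coaction on the
polynomial ring is multiplicative and sends the coordinate function X_i to X_i ⊗ T^(r_i) for
integers r_i. Then a vector v is semistable (some invariant homogeneous polynomial of positive
degree does not vanish at v) if and only if there are indices i and j, possibly equal, with v_i ≠ 0,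
v_j ≠ 0 and r_i ≤ 0 ≤ r_j, i.e. the origin lies in the convex hull of the weights of v. (Stated for
the ambient projective space on its affine cone; the published statement is for a point of a closed
invariant subvariety, whose semistability is that of the point in the ambient space.) -/
theorem result (k : Type u) [Field k] [IsAlgClosed k]
    (ι : Type u) [Fintype ι] [HopfRep.Comod k k[T;T⁻¹] (MvPolynomial ι k)] [GLin.IsCoactAlg k k[T;T⁻¹] (MvPolynomial ι k)]
    (r : ι → ℤ)
    (hr : ∀ i : ι, HopfRep.Comod.coact (k := k) (A := k[T;T⁻¹]) (MvPolynomial.X i : MvPolynomial ι k) =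
      (MvPolynomial.X i : MvPolynomial ι k) ⊗ₜ[k] (T (r i) : k[T;T⁻¹]))
    (v : ι → k) :
    GLin.IsSemistableVec k k[T;T⁻¹] v ↔ ∃ i j : ι, v i ≠ 0 ∧ v j ≠ 0 ∧ r i ≤ 0 ∧ 0 ≤ r j := by
  classical
  unfold GLin.IsSemistableVec GLin.IsNullform
  push Not
  constructor
  · rintro ⟨F, hF, d, hd, hhom, hev⟩
    rw [MvPolynomial.eval_eq] at hev
    obtain ⟨m, hm, hterm⟩ := Finset.exists_ne_zero_of_sum_ne_zero hev
    have hvm : ∀ i ∈ m.support, v i ≠ 0 := by
      intro i hi hvi
      apply hterm
      rw [Finset.prod_eq_zero hi, mul_zero]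
      rw [hvi, zero_pow (Finsupp.mem_support_iff.mp hi)]
    have hwt := wt_eq_zero_of_invariant r hr hF hm
    have hm0 : m ≠ 0 := by
      rintro rfl
      have := hhom.coeff_eq_zero (d := (0 : ι →₀ ℕ)) (by simpa using hd.ne)
      exact (MvPolynomial.mem_support_iff.mp hm) this
    have hsupp : m.support.Nonempty := by
      rw [Finsupp.support_nonempty_iff]; exact hm0
    unfold wt at hwt
    have hsum : ∑ i ∈ m.support, (m i : ℤ) * r i = 0 := by
      rw [← hwt]
      apply Finset.sum_subset (Finset.subset_univ _)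
      intro i _ hi
      rw [Finsupp.notMem_support_iff.mp hi]
      simp
    have hpos : ∀ i ∈ m.support, (0 : ℤ) < m i := by
      intro i hi
      have := Finsupp.mem_support_iff.mp hi
      omega
    have h1 : ∃ i ∈ m.support, r i ≤ 0 := by
      by_contra hcon
      push Not at hcon
      have : 0 < ∑ i ∈ m.support, (m i : ℤ) * r i :=
        Finset.sum_pos (fun i hi => mul_pos (hpos i hi) (hcon i hi)) hsupp
      omega
    have h2 : ∃ j ∈ m.support, 0 ≤ r j := by
      by_contra hcon
      push Not at hcon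
      have : ∑ i ∈ m.support, (m i : ℤ) * r i < 0 :=
        Finset.sum_neg (fun i hi => mul_neg_of_pos_of_neg (hpos i hi) (hcon i hi)) hsupp
      omega
    obtain ⟨i, hi, hri⟩ := h1
    obtain ⟨j, hj, hrj⟩ := h2
    exact ⟨i, j, hvm i hi, hvm j hj, hri, hrj⟩
  · rintro ⟨i, j, hvi, hvj, hri, hrj⟩
    by_cases hri0 : r i = 0
    · refine ⟨MvPolynomial.X i, ?_, 1, one_pos, MvPolynomial.isHomogeneous_X _ _, by simpa using hvi⟩
      change HopfRep.Comod.coact (k := k) (A := k[T;T⁻¹]) _ = _
      rw [hr i, hri0, LaurentPolynomial.T_zero]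
    · have hri' : r i < 0 := lt_of_le_of_ne hri hri0
      set a : ℕ := (r j).toNat with ha
      set b : ℕ := (- r i).toNat with hb
      have hbpos : 0 < b := by omega
      have hhom : (MvPolynomial.X i ^ a * MvPolynomial.X j ^ b : MvPolynomial ι k).IsHomogeneous
          (a + b) := by
        have h1 := (MvPolynomial.isHomogeneous_X k i).pow a
        have h2 := (MvPolynomial.isHomogeneous_X k j).pow b
        rw [one_mul] at h1 h2
        exact h1.mul h2
      refine ⟨MvPolynomial.X i ^ a * MvPolynomial.X j ^ b, ?_, a + b, by omega, hhom, ?_⟩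
      · change HopfRep.Comod.coact (k := k) (A := k[T;T⁻¹]) _ = _
        rw [GLin.IsCoactAlg.coact_mul (k := k) (A := k[T;T⁻¹]), coact_X_pow r hr,
          coact_X_pow r hr, Algebra.TensorProduct.tmul_mul_tmul, ← LaurentPolynomial.T_add]
        have : (a : ℤ) * r i + (b : ℤ) * r j = 0 := by
          have h1 : (a : ℤ) = r j := by omega
          have h2 : (b : ℤ) = - r i := by omega
          rw [h1, h2]; ring
        rw [this, LaurentPolynomial.T_zero]
      · simp only [map_mul, map_pow, MvPolynomial.eval_X]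
        exact mul_ne_zero (pow_ne_zero _ hvi) (pow_ne_zero _ hvj)

end Groth.Agent.S19422
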