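import Groth.Statements.S19423
import Mathlib.RingTheory.Spectrum.Prime.Topology
import Mathlib.RingTheory.FiniteType
import Mathlib.RingTheory.IntegralClosure.IsIntegralClosure.Basic
import Mathlib.RingTheory.Polynomial.Basic

set_option autoImplicit false
universe u
open TensorProduct LaurentPolynomial
open GIT

namespace Groth.Agent.S19423


section Gm
variable {k : Type u} [Field k] {ι : Type u}

theorem isIntegral_of_T {R S : Type*} [CommRing R] [CommRing S] [Algebra R S]
    (g : k[T;T⁻¹] →+* S) (hC : ∀ a, IsIntegral R (g (C a))) (h1 : IsIntegral R (g (T 1)))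
    (h2 : IsIntegral R (g (T (-1)))) (x : k[T;T⁻¹]) : IsIntegral R (g x) := by
  induction x using LaurentPolynomial.induction_on' with
  | add p q hp hq => rw [map_add]; exact hp.add hq
  | C_mul_T n a =>
    rw [map_mul]
    refine (hC a).mul ?_
    rcases le_total 0 n with hn | hn
    · have : (T n : k[T;T⁻¹]) = T 1 ^ n.toNat := by
        rw [LaurentPolynomial.T_pow]; congr 1; omega
      rw [this, map_pow]
      exact h1.pow _
    · have : (T n : k[T;T⁻¹]) = T (-1) ^ (-n).toNat := by
        rw [LaurentPolynomial.T_pow]; congr 1; omega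
      rw [this, map_pow]
      exact h2.pow _

variable (r : ι → ℤ) (v : ι → k) (φ : MvPolynomial ι k →ₐ[k] k[T;T⁻¹])
  (hφ : ∀ i, φ (MvPolynomial.X i) = v i • (T (r i) : k[T;T⁻¹]))

include hφ in
theorem isClosed_of_strict {i j : ι} (hvi : v i ≠ 0) (hvj : v j ≠ 0) (hri : r i < 0)
    (hrj : 0 < r j) :
    IsClosed (Set.range (PrimeSpectrum.comap φ.toRingHom)) := by
  refine (PrimeSpectrum.isClosedMap_comap_of_isIntegral φ.toRingHom ?_).isClosed_range
  let _ := φ.toRingHom.toAlgebra
  have hmap : ∀ f : MvPolynomial ι k, algebraMap (MvPolynomial ι k) k[T;T⁻¹] f = φ f :=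
    fun f => rfl
  have hT : ∀ l : ι, v l ≠ 0 → IsIntegral (MvPolynomial ι k) (T (r l) : k[T;T⁻¹]) := by
    intro l hvl
    have : (T (r l) : k[T;T⁻¹]) =
        algebraMap (MvPolynomial ι k) k[T;T⁻¹] ((v l)⁻¹ • MvPolynomial.X l) := by
      rw [hmap, map_smul, hφ l, smul_smul, inv_mul_cancel₀ hvl, one_smul]
    rw [this]
    exact isIntegral_algebraMap
  intro x
  change IsIntegral (MvPolynomial ι k) ((RingHom.id k[T;T⁻¹]) x)
  refine isIntegral_of_T (RingHom.id _) ?_ ?_ ?_ x
  · intro a
    have : (RingHom.id k[T;T⁻¹]) (C a) = algebraMap (MvPolynomial ι k) k[T;T⁻¹] (MvPolynomial.C a) := by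
      rw [hmap]
      change C a = φ (algebraMap k _ a)
      rw [AlgHom.commutes]
      rfl
    rw [this]
    exact isIntegral_algebraMap
  · refine IsIntegral.of_pow (n := (r j).toNat) (by omega) ?_
    rw [RingHom.id_apply, LaurentPolynomial.T_pow]
    have : ((r j).toNat : ℤ) * 1 = r j := by omega
    rw [this]
    exact hT j hvj
  · refine IsIntegral.of_pow (n := (- r i).toNat) (by omega) ?_
    rw [RingHom.id_apply, LaurentPolynomial.T_pow]
    have : ((- r i).toNat : ℤ) * (-1) = r i := by omega
    rw [this]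
    exact hT i hvi

include hφ in
theorem finite_of_ne {j : ι} (hvj : v j ≠ 0) (hrj : r j ≠ 0) :
    Module.Finite k (k[T;T⁻¹] ⧸ Ideal.map φ (RingHom.ker (MvPolynomial.aeval v :
      MvPolynomial ι k →ₐ[k] k))) := by
  set J := Ideal.map φ (RingHom.ker (MvPolynomial.aeval v : MvPolynomial ι k →ₐ[k] k)) with hJ
  have h1 : (T (r j) : k[T;T⁻¹]) - 1 ∈ J := by
    have hmem : φ (MvPolynomial.X j - MvPolynomial.C (v j)) ∈ J := by
      apply Ideal.mem_map_of_mem
      rw [RingHom.mem_ker]
      simp
    have : (T (r j) : k[T;T⁻¹]) - 1 =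
        C (v j)⁻¹ * φ (MvPolynomial.X j - MvPolynomial.C (v j)) := by
      rw [map_sub, hφ j, ← LaurentPolynomial.smul_eq_C_mul, smul_sub, smul_smul,
        inv_mul_cancel₀ hvj, one_smul]
      congr 1
      have : φ (MvPolynomial.C (v j)) = C (v j) := by
        change φ (algebraMap k _ (v j)) = _
        rw [AlgHom.commutes]; rfl
      rw [this, LaurentPolynomial.smul_eq_C_mul, ← map_mul, inv_mul_cancel₀ hvj, map_one]
    rw [this]
    exact Ideal.mul_mem_left _ _ hmem
  -- `T n ≡ 1` and `T (-n) ≡ 1` with `n = |r j| > 0`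
  have h2 : (T (- r j) : k[T;T⁻¹]) - 1 ∈ J := by
    have : (T (- r j) : k[T;T⁻¹]) - 1 = - T (- r j) * (T (r j) - 1) := by
      rw [mul_sub, neg_mul, neg_mul, ← LaurentPolynomial.T_add]
      simp only [neg_add_cancel, LaurentPolynomial.T_zero, mul_one, sub_neg_eq_add]
      ring
    rw [this]
    exact Ideal.mul_mem_left _ _ h1
  set n : ℕ := (r j).natAbs with hn
  have hnpos : 0 < n := Int.natAbs_pos.mpr hrj
  have h3 : (T (n : ℤ) : k[T;T⁻¹]) - 1 ∈ J ∧ (T (-(n : ℤ)) : k[T;T⁻¹]) - 1 ∈ J := by
    rcases le_total 0 (r j) with h | h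
    · have : (n : ℤ) = r j := by omega
      rw [this]; exact ⟨h1, h2⟩
    · have : (n : ℤ) = - r j := by omega
      rw [this, neg_neg]; exact ⟨h2, h1⟩
  have hint : Algebra.IsIntegral k (k[T;T⁻¹] ⧸ J) := by
    refine ⟨fun q => ?_⟩
    obtain ⟨x, rfl⟩ := Ideal.Quotient.mk_surjective q
    refine isIntegral_of_T (Ideal.Quotient.mk J) ?_ ?_ ?_ x
    · intro a
      exact isIntegral_algebraMap (x := a)
    · refine IsIntegral.of_pow hnpos ?_
      rw [← map_pow, LaurentPolynomial.T_pow, mul_one]
      have : Ideal.Quotient.mk J (T (n : ℤ)) = 1 := by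
        rw [← map_one (Ideal.Quotient.mk J), Ideal.Quotient.eq]
        exact h3.1
      rw [this]
      exact isIntegral_one
    · refine IsIntegral.of_pow hnpos ?_
      rw [← map_pow, LaurentPolynomial.T_pow, mul_neg, mul_one]
      have : Ideal.Quotient.mk J (T (-(n : ℤ))) = 1 := by
        rw [← map_one (Ideal.Quotient.mk J), Ideal.Quotient.eq]
        exact h3.2
      rw [this]
      exact isIntegral_one
  exact Algebra.IsIntegral.finite

include hφ in
theorem not_finite_of_zero (h0 : ∀ i, v i ≠ 0 → r i = 0) :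
    ¬ Module.Finite k (k[T;T⁻¹] ⧸ Ideal.map φ (RingHom.ker (MvPolynomial.aeval v :
      MvPolynomial ι k →ₐ[k] k))) := by
  intro hfin
  set J := Ideal.map φ (RingHom.ker (MvPolynomial.aeval v : MvPolynomial ι k →ₐ[k] k)) with hJ
  have hφ' : φ = (Algebra.ofId k k[T;T⁻¹]).comp (MvPolynomial.aeval v) := by
    apply MvPolynomial.algHom_ext
    intro i
    rw [hφ i, AlgHom.comp_apply, MvPolynomial.aeval_X]
    by_cases hvi : v i = 0
    · rw [hvi, zero_smul, map_zero]
    · rw [h0 i hvi, LaurentPolynomial.T_zero, Algebra.ofId_apply, Algebra.algebraMap_eq_smul_one]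
  have hJbot : J = ⊥ := by
    rw [eq_bot_iff, hJ, Ideal.map_le_iff_le_comap]
    intro f hf
    rw [RingHom.mem_ker] at hf
    rw [Ideal.mem_comap, Ideal.mem_bot, hφ', AlgHom.comp_apply, hf, map_zero]
  let ψ : Polynomial k →ₗ[k] (k[T;T⁻¹] ⧸ J) :=
    (Ideal.Quotient.mkₐ k J).toLinearMap ∘ₗ (Polynomial.toLaurentAlg (R := k)).toLinearMap
  have hinj : Function.Injective ψ := by
    rw [← LinearMap.ker_eq_bot, LinearMap.ker_eq_bot']
    intro p hp
    have : Polynomial.toLaurent p ∈ J := by
      rw [← Ideal.Quotient.eq_zero_iff_mem]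
      exact hp
    rw [hJbot, Ideal.mem_bot] at this
    exact Polynomial.toLaurent_injective (this.trans (map_zero _).symm)
  exact Polynomial.not_finite (R := k) (Module.Finite.of_injective ψ hinj)

omit hφ in
theorem not_closed_of_factor (g : Polynomial k →ₐ[k] k[T;T⁻¹]) (hg : Function.Injective g)
    (h : MvPolynomial ι k →ₐ[k] Polynomial k) (hgh : g.comp h = φ) (i₀ : ι)
    (h0 : (h (MvPolynomial.X i₀)).eval 0 = 0) (hu : IsUnit (φ (MvPolynomial.X i₀))) :
    ¬ IsClosed (Set.range (PrimeSpectrum.comap φ.toRingHom)) := by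
  intro hcl
  let w : MvPolynomial ι k →ₐ[k] k := (Polynomial.aeval (0 : k)).comp h
  let P : PrimeSpectrum (MvPolynomial ι k) := ⟨RingHom.ker w, RingHom.ker_isPrime w⟩
  have hP : P ∈ closure (Set.range (PrimeSpectrum.comap φ.toRingHom)) := by
    rw [PrimeSpectrum.closure_range_comap, PrimeSpectrum.mem_zeroLocus]
    intro f hf
    have hf' : φ f = 0 := hf
    rw [← hgh, AlgHom.comp_apply] at hf'
    have : h f = 0 := hg (hf'.trans (map_zero g).symm)
    change w f = 0
    change (Polynomial.aeval (0 : k)) (h f) = 0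
    rw [this, map_zero]
  rw [hcl.closure_eq] at hP
  obtain ⟨q, hq⟩ := hP
  have hmem : MvPolynomial.X i₀ ∈ P.asIdeal := by
    change w (MvPolynomial.X i₀) = 0
    change (Polynomial.aeval (0 : k)) (h (MvPolynomial.X i₀)) = 0
    rw [Polynomial.coe_aeval_eq_eval]
    exact h0
  rw [← hq] at hmem
  have hmem' : φ (MvPolynomial.X i₀) ∈ q.asIdeal := hmem
  exact q.2.ne_top (Ideal.eq_top_of_isUnit_mem _ hmem' hu)

end Gm

/-- Over an algebraically closed field k, let the multiplicative group, whose coordinate Hopf algebra is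
the Laurent polynomial ring, act diagonally on affine ι-space, ι finite: the coaction on the
polynomial ring is multiplicative and sends the coordinate function X_i to X_i ⊗ T^(r_i) for
integers r_i. Then a vector v is stable (the orbit of the point v of affine space is closed and its
stabiliser is a finite group scheme) if and only if there are indices i and j with v_i ≠ 0, v_j ≠ 0
and r_i < 0 < r_j, i.e. the origin is an interior point of the convex hull of the weights of v.
(Stated for the ambient projective space on its affine cone, where stability means a closed orbit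
with finite stabiliser in the cone.) -/
theorem result (k : Type u) [Field k] [IsAlgClosed k]
    (ι : Type u) [Fintype ι] [HopfRep.Comod k k[T;T⁻¹] (MvPolynomial ι k)] [GLin.IsCoactAlg k k[T;T⁻¹] (MvPolynomial ι k)]
    (r : ι → ℤ)
    (hr : ∀ i : ι, HopfRep.Comod.coact (k := k) (A := k[T;T⁻¹]) (MvPolynomial.X i : MvPolynomial ι k) =
      (MvPolynomial.X i : MvPolynomial ι k) ⊗ₜ[k] (T (r i) : k[T;T⁻¹]))
    (v : ι → k) :
    GLin.IsStableVec k k[T;T⁻¹] v ↔ ∃ i j : ι, v i ≠ 0 ∧ v j ≠ 0 ∧ r i < 0 ∧ 0 < r j := by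
  classical
  have hφ : ∀ i, GLin.orbitHom k k[T;T⁻¹] (GLin.vecPt k ι v) (MvPolynomial.X i) =
      v i • (T (r i) : k[T;T⁻¹]) := by
    intro i
    unfold GLin.orbitHom
    rw [AlgHom.comp_apply, AlgHom.comp_apply, GLin.coactAlgHom_apply, hr i]
    simp
  set φ := GLin.orbitHom k k[T;T⁻¹] (GLin.vecPt k ι v) with hφdef
  have hunit : ∀ i, v i ≠ 0 → IsUnit (φ (MvPolynomial.X i)) := by
    intro i hvi
    rw [hφ i, LaurentPolynomial.smul_eq_C_mul]
    refine IsUnit.mul ?_ (LaurentPolynomial.isUnit_T _)
    exact (IsUnit.mk0 _ hvi).map (C : k →+* k[T;T⁻¹])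
  unfold GLin.IsStableVec GLin.IsStablePt GLin.IsClosedOrbit GLin.HasFiniteStab GLin.stabIdeal
  constructor
  · rintro ⟨hcl, hfin⟩
    by_cases hA : ∃ i, v i ≠ 0 ∧ r i < 0
    · by_cases hB : ∃ j, v j ≠ 0 ∧ 0 < r j
      · obtain ⟨i, hvi, hri⟩ := hA
        obtain ⟨j, hvj, hrj⟩ := hB
        exact ⟨i, j, hvi, hvj, hri, hrj⟩
      · exfalso
        push Not at hB
        obtain ⟨i₀, hv0, hr0⟩ := hA
        let g : Polynomial k →ₐ[k] k[T;T⁻¹] :=
          (LaurentPolynomial.invert (R := k)).toAlgHom.comp (Polynomial.toLaurentAlg (R := k))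
        have hg : Function.Injective g := by
          intro p q hpq
          exact Polynomial.toLaurent_injective ((LaurentPolynomial.invert (R := k)).injective hpq)
        let h : MvPolynomial ι k →ₐ[k] Polynomial k :=
          MvPolynomial.aeval fun i => Polynomial.C (v i) * Polynomial.X ^ (- r i).toNat
        have hgh : g.comp h = φ := by
          apply MvPolynomial.algHom_ext
          intro i
          rw [hφ i, AlgHom.comp_apply, MvPolynomial.aeval_X]
          change LaurentPolynomial.invert (Polynomial.toLaurent _) = _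
          rw [Polynomial.toLaurent_C_mul_X_pow, map_mul, LaurentPolynomial.invert_T,
            LaurentPolynomial.invert_C, LaurentPolynomial.smul_eq_C_mul]
          by_cases hvi : v i = 0
          · rw [hvi, map_zero, zero_mul, zero_mul]
          · have := hB i hvi
            congr 2
            omega
        refine not_closed_of_factor φ g hg h hgh i₀ ?_ (hunit i₀ hv0) hcl
        change (MvPolynomial.aeval _ (MvPolynomial.X i₀) : Polynomial k).eval 0 = 0
        rw [MvPolynomial.aeval_X]
        have : (- r i₀).toNat ≠ 0 := by omega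
        simp [this]
    · push Not at hA
      exfalso
      by_cases hB : ∃ j, v j ≠ 0 ∧ 0 < r j
      · obtain ⟨i₀, hv0, hr0⟩ := hB
        let g : Polynomial k →ₐ[k] k[T;T⁻¹] := Polynomial.toLaurentAlg (R := k)
        have hg : Function.Injective g := Polynomial.toLaurent_injective
        let h : MvPolynomial ι k →ₐ[k] Polynomial k :=
          MvPolynomial.aeval fun i => Polynomial.C (v i) * Polynomial.X ^ (r i).toNat
        have hgh : g.comp h = φ := by
          apply MvPolynomial.algHom_ext
          intro i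
          rw [hφ i, AlgHom.comp_apply, MvPolynomial.aeval_X]
          change Polynomial.toLaurent _ = _
          rw [Polynomial.toLaurent_C_mul_X_pow, LaurentPolynomial.smul_eq_C_mul]
          by_cases hvi : v i = 0
          · rw [hvi, map_zero, zero_mul, zero_mul]
          · have := hA i hvi
            congr 2
            omega
        refine not_closed_of_factor φ g hg h hgh i₀ ?_ (hunit i₀ hv0) hcl
        change (MvPolynomial.aeval _ (MvPolynomial.X i₀) : Polynomial k).eval 0 = 0
        rw [MvPolynomial.aeval_X]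
        have : (r i₀).toNat ≠ 0 := by omega
        simp [this]
      · push Not at hB
        refine not_finite_of_zero r v φ hφ (fun i hvi => ?_) hfin
        have h1 := hA i hvi
        have h2 := hB i hvi
        omega
  · rintro ⟨i, j, hvi, hvj, hri, hrj⟩
    exact ⟨isClosed_of_strict r v φ hφ hvi hvj hri hrj, finite_of_ne r v φ hφ hvj hrj.ne'⟩

end Groth.Agent.S19423
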