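import Groth.Statements.S19424
import Groth.Agent.H63.RatPt
import Groth.Agent.H63.OrbitLC2
import Groth.Agent.H63.QuotTower

set_option autoImplicit false
universe u
open CategoryTheory MonoidalCategory CartesianMonoidalCategory MonObj AlgebraicGeometry Topology
open NRQuot

namespace Groth.Agent.S19424

/-- Let k be an algebraically closed field, G an affine group scheme of finite type over k acting on a
k-scheme X locally of finite type, and φ : X → Y a good quotient (affine and invariant, functions on
every open of Y are exactly the invariant functions on its preimage, invariant closed subsets have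
closed images, and images commute with intersections of families of invariant closed subsets). Then
for two k-points x₁, x₂ of X, the closures of their orbits (the images of the orbit morphisms G → X)
have a common point if and only if x₁ and x₂ have the same image in Y. -/
theorem result
    (k : Type u) [Field k] [IsAlgClosed k]
    (G X Y : Over (Spec (CommRingCat.of k))) [GrpObj G] [IsAffine G.left] [LocallyOfFiniteType G.hom]
    [LocallyOfFiniteType X.hom]
    (a : AlgGrp.Action G X) (φ : X ⟶ Y) (h : NRQuot.IsGoodQuot a φ)
    (x₁ x₂ : 𝟙_ (Over (Spec (CommRingCat.of k))) ⟶ X) :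
    (closure (Set.range (a.orbitMap x₁).left.base) ∩ closure (Set.range (a.orbitMap x₂).left.base)).Nonempty ↔
      x₁ ≫ φ = x₂ ≫ φ := by
  haveI : Subsingleton ↥(𝟙_ (Over (Spec (CommRingCat.of k)))).left :=
    inferInstanceAs (Subsingleton (PrimeSpectrum k))
  let pt : ↥(𝟙_ (Over (Spec (CommRingCat.of k)))).left := IsLocalRing.closedPoint k
  have hp₂ : IsOpenMap (snd G X).left.base := by
    haveI : UniversallyOpen G.hom := inferInstance
    haveI : UniversallyOpen (snd G X).left := by rw [Over.snd_left]; infer_instance
    exact (snd G X).left.isOpenMap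
  have hmem : ∀ x : 𝟙_ (Over (Spec (CommRingCat.of k))) ⟶ X,
      x.left.base pt ∈ Set.range (a.orbitMap x).left.base := by
    intro x
    refine ⟨η[G].left.base pt, ?_⟩
    have e : η[G] ≫ a.orbitMap x = x := by
      have h1 := Groth.Agent.H63.QuotTower.one_comp_orbitMap a x
        (T := 𝟙_ (Over (Spec (CommRingCat.of k))))
      rw [toUnit_unit, Category.id_comp] at h1
      have h0 : (1 : 𝟙_ (Over (Spec (CommRingCat.of k))) ⟶ G) = η[G] := by
        rw [Hom.one_def, toUnit_unit, Category.id_comp]
      rw [← h0]
      exact h1
    have h2 := congrArg (fun t => t.left.base pt) e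
    simp only [Over.comp_left, Scheme.Hom.comp_base, TopCat.comp_app] at h2
    exact h2
  have hZ : ∀ x : 𝟙_ (Over (Spec (CommRingCat.of k))) ⟶ X,
      NRQuot.IsInvariantSet a (closure (Set.range (a.orbitMap x).left.base)) := fun x =>
    (Groth.Agent.H63.OrbitLC.isStable_range_orbitMap a x).closure hp₂
  have horb : ∀ x : 𝟙_ (Over (Spec (CommRingCat.of k))) ⟶ X,
      a.orbitMap x ≫ φ = toUnit G ≫ x ≫ φ := by
    intro x
    have e : a.orbitMap x = lift (𝟙 G) (toUnit G ≫ x) ≫ a.act := rfl
    have hinv : a.act ≫ φ = snd G X ≫ φ := h.inv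
    rw [e, Category.assoc, hinv, ← Category.assoc, lift_snd, Category.assoc]
  constructor
  · rintro ⟨z, hz1, hz2⟩
    have key : ∀ x : 𝟙_ (Over (Spec (CommRingCat.of k))) ⟶ X,
        z ∈ closure (Set.range (a.orbitMap x).left.base) →
        φ.left.base z = (x ≫ φ).left.base pt := by
      intro x hz
      have hcl : IsClosed ({(x ≫ φ).left.base pt} : Set Y.left) :=
        Groth.Agent.H63.RatPt.isClosed_singleton' (x ≫ φ) pt
      have hsub : Set.range (a.orbitMap x).left.base ⊆
          φ.left.base ⁻¹' {(x ≫ φ).left.base pt} := by
        rintro _ ⟨g, rfl⟩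
        have h1 := congrArg (fun t => t.left.base g) (horb x)
        simp only [Over.comp_left, Scheme.Hom.comp_base, TopCat.comp_app] at h1
        rw [Set.mem_preimage, Set.mem_singleton_iff, h1]
        simp only [Over.comp_left, Scheme.Hom.comp_base, TopCat.comp_app]
        congr 2
        exact Subsingleton.elim _ _
      exact closure_minimal hsub (hcl.preimage φ.left.base.hom.continuous) hz
    apply Groth.Agent.H63.RatPt.over_ext _ _ pt
    rw [← key x₁ hz1, ← key x₂ hz2]
  · intro e
    let xs : ULift.{u} Bool → (𝟙_ (Over (Spec (CommRingCat.of k))) ⟶ X) :=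
      fun i => cond i.down x₁ x₂
    have hxs : ∀ i, xs i ≫ φ = x₁ ≫ φ := by
      rintro ⟨_ | _⟩
      · exact e.symm
      · rfl
    have hinter := h.inter (ULift.{u} Bool)
      (fun i => closure (Set.range (a.orbitMap (xs i)).left.base))
      (fun i => isClosed_closure) (fun i => hZ (xs i))
    have hy : (x₁ ≫ φ).left.base pt ∈
        ⋂ i, φ.left.base '' closure (Set.range (a.orbitMap (xs i)).left.base) := by
      rw [Set.mem_iInter]
      intro i
      refine ⟨(xs i).left.base pt, subset_closure (hmem (xs i)), ?_⟩
      rw [← hxs i]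
      simp only [Over.comp_left, Scheme.Hom.comp_base, TopCat.comp_app]
    rw [← hinter] at hy
    obtain ⟨z, hz, -⟩ := hy
    rw [Set.mem_iInter] at hz
    exact ⟨z, hz ⟨true⟩, hz ⟨false⟩⟩

end Groth.Agent.S19424
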