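import Groth.Statements.S19426
import Mathlib
import Groth.Agent.H63.StabFibre
import Groth.Agent.H63.GeomQuot2
import Groth.Agent.H93.GrpFibDim

set_option autoImplicit false
universe u
open CategoryTheory MonoidalCategory CartesianMonoidalCategory MonObj AlgebraicGeometry Topology
open GIT

namespace Groth.Agent.S19426

open CategoryTheory.Limits in
theorem stab_isPullback {S : Scheme.{u}} {G X : Over S} [GrpObj G] (a : AlgGrp.Action G X)
    {T : Over S} (f : T ⟶ X) :
    ∃ θ : pullback (GIT.psi a f).left (lift f (𝟙 T)).left ⟶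
        pullback (lift a.act (snd G X)).left (lift (𝟙 X) (𝟙 X)).left,
      IsPullback θ (pullback.snd (GIT.psi a f).left (lift f (𝟙 T)).left)
        (pullback.snd (lift a.act (snd G X)).left (lift (𝟙 X) (𝟙 X)).left) f.left := by
  have hΨ : GIT.psi a (𝟙 X) = lift a.act (snd G X) := by
    simp only [GIT.psi, whiskerLeft_id, Category.id_comp]
  have sqA := (Groth.Agent.H63.GeomQuot.sq_psi a f).map (Over.forget S)
  rw [hΨ] at sqA
  simp only [Over.forget_obj, Over.forget_map] at sqA
  have sqB := (Groth.Agent.H63.GeomQuot.sq_graph f).map (Over.forget S)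
  simp only [Over.forget_obj, Over.forget_map] at sqB
  let p₁ := pullback.fst (GIT.psi a f).left (lift f (𝟙 T)).left
  let p₂ := pullback.snd (GIT.psi a f).left (lift f (𝟙 T)).left
  let s₁ := pullback.fst (lift a.act (snd G X)).left (lift (𝟙 X) (𝟙 X)).left
  let s₂ := pullback.snd (lift a.act (snd G X)).left (lift (𝟙 X) (𝟙 X)).left
  have hcondP : p₁ ≫ (GIT.psi a f).left = p₂ ≫ (lift f (𝟙 T)).left := pullback.condition
  have hcondS : s₁ ≫ (lift a.act (snd G X)).left = s₂ ≫ (lift (𝟙 X) (𝟙 X)).left :=
    pullback.condition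
  have hθ : (p₁ ≫ (G ◁ f).left) ≫ (lift a.act (snd G X)).left =
      (p₂ ≫ f.left) ≫ (lift (𝟙 X) (𝟙 X)).left := by
    rw [Category.assoc, ← sqA.w, ← Category.assoc, hcondP, Category.assoc, sqB.w, Category.assoc]
  refine ⟨pullback.lift (p₁ ≫ (G ◁ f).left) (p₂ ≫ f.left) hθ, ?_⟩
  refine Groth.Agent.H40.FpqcFam.isPullback_of_pts (pullback.lift_snd _ _ _) ?_
  intro T' s t hst
  have hc : (t ≫ (lift f (𝟙 T)).left) ≫ (X ◁ f).left =
      (s ≫ s₁) ≫ (lift a.act (snd G X)).left := by
    rw [Category.assoc, sqB.w, ← Category.assoc, ← hst, Category.assoc, Category.assoc, hcondS]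
  have hw1 : sqA.lift (t ≫ (lift f (𝟙 T)).left) (s ≫ s₁) hc ≫ (GIT.psi a f).left =
      t ≫ (lift f (𝟙 T)).left := sqA.lift_fst _ _ _
  have hw2 : sqA.lift (t ≫ (lift f (𝟙 T)).left) (s ≫ s₁) hc ≫ (G ◁ f).left = s ≫ s₁ :=
    sqA.lift_snd _ _ _
  refine ⟨pullback.lift (sqA.lift (t ≫ (lift f (𝟙 T)).left) (s ≫ s₁) hc) t hw1, ⟨?_, ?_⟩, ?_⟩
  · apply pullback.hom_ext
    · rw [Category.assoc, pullback.lift_fst, ← Category.assoc, pullback.lift_fst, hw2]
    · rw [Category.assoc, pullback.lift_snd, ← Category.assoc, pullback.lift_snd, hst]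
  · exact pullback.lift_snd _ _ _
  · rintro m ⟨hm1, hm2⟩
    apply pullback.hom_ext
    · rw [pullback.lift_fst]
      apply sqA.hom_ext
      · rw [hw1, Category.assoc, hcondP, ← Category.assoc]
        congr 1
      · have h3 : pullback.lift (p₁ ≫ (G ◁ f).left) (p₂ ≫ f.left) hθ ≫ s₁ =
            p₁ ≫ (G ◁ f).left := pullback.lift_fst _ _ _
        rw [hw2, ← hm1, Category.assoc, Category.assoc, h3]
    · rw [pullback.lift_snd]
      exact hm2


/-- Let k be an algebraically closed field, G an affine group scheme of finite type over k acting on a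
k-scheme X locally of finite type, and for a point x of X let G_x denote its stabiliser, the group
scheme over the residue field of x obtained as the fibre of (g, t) ↦ (g · x(t), t) over (x, id).
Then for every n the set of points x of X with dim G_x ≥ n is closed: the stabiliser dimension is an
upper semicontinuous function on X. (Stated at all points of the scheme X; the published statement
is for the closed points of a variety, and also phrases it through the orbit dimension dim G − dim
G_x, which is not restated here.) -/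
theorem result
    (k : Type u) [Field k] [IsAlgClosed k]
    (G X : Over (Spec (CommRingCat.of k))) [GrpObj G] [IsAffine G.left] [LocallyOfFiniteType G.hom]
    [LocallyOfFiniteType X.hom]
    (a : AlgGrp.Action G X) (n : WithBot ℕ∞) :
    IsClosed {x : X.left | n ≤ topologicalKrullDim
      (GLinSh.stab a (Over.homMk (X.left.fromSpecResidueField x) rfl :
        Over.mk (X.left.fromSpecResidueField x ≫ X.hom) ⟶ X))} := by
  classical
  obtain ⟨str, -⟩ := Groth.Agent.H63.StabGrp.exists_grpObj_stab a
  letI := str
  haveI hlftΨ : LocallyOfFiniteType (lift a.act (snd G X)).left :=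
    Groth.Agent.H63.StabFibre.lft_psi a
  haveI : LocallyOfFiniteType (Groth.Agent.H63.StabGrp.stabObj a).hom :=
    MorphismProperty.pullback_snd (P := @LocallyOfFiniteType) _ _ inferInstance
  have husc := Groth.Agent.H93.GrpFibDim.upperSemicontinuous_dim (Groth.Agent.H63.StabGrp.stabObj a)
  have key : ∀ x : X.left, topologicalKrullDim
      (GLinSh.stab a (Over.homMk (X.left.fromSpecResidueField x) rfl :
        Over.mk (X.left.fromSpecResidueField x ≫ X.hom) ⟶ X)) =
      topologicalKrullDim ↥((Groth.Agent.H63.StabGrp.stabObj a).hom.base ⁻¹' {x}) := by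
    intro x
    obtain ⟨θ, sq⟩ := stab_isPullback a (Over.homMk (X.left.fromSpecResidueField x) rfl :
        Over.mk (X.left.fromSpecResidueField x ≫ X.hom) ⟶ X)
    have e1 := (Scheme.homeoOfIso sq.isoPullback).isHomeomorph.topologicalKrullDim_eq
    have e2 := ((Groth.Agent.H63.StabGrp.stabObj a).hom.fiberHomeo x).isHomeomorph.topologicalKrullDim_eq
    exact e1.trans e2
  have hset : {x : X.left | n ≤ topologicalKrullDim
      (GLinSh.stab a (Over.homMk (X.left.fromSpecResidueField x) rfl :
        Over.mk (X.left.fromSpecResidueField x ≫ X.hom) ⟶ X))} =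
      (fun x : X.left => topologicalKrullDim
        ↥((Groth.Agent.H63.StabGrp.stabObj a).hom.base ⁻¹' {x})) ⁻¹' Set.Ici n := by
    ext x
    simp only [Set.mem_setOf_eq, Set.mem_preimage, Set.mem_Ici, key x]
  rw [hset]
  exact husc.isClosed_preimage n

end Groth.Agent.S19426
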