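import Groth.Statements.S19427
import Mathlib.Tactic.FinCases
import Mathlib.Tactic.FieldSimp
import Mathlib.Tactic.Abel
import Mathlib.Tactic.Ring
import Mathlib.Tactic.LinearCombination

set_option autoImplicit false
universe u
open MilnorK

namespace Groth.Agent.S19427


section helpers

open MilK

variable {F : Type u} [Field F]

theorem P_mul_left (x x' y : Fˣ) :
    (symbol ![x * x', y] : K F 2) = symbol ![x, y] + symbol ![x', y] := by
  unfold symbol
  rw [← map_add]
  congr 1
  have h1 : (fun i => Additive.ofMul (![x * x', y] i)) =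
      Function.update (fun i => Additive.ofMul (![x, y] i)) 0
        (Additive.ofMul x + Additive.ofMul x') := by
    funext i
    fin_cases i <;> simp
  have h2 : (fun i => Additive.ofMul (![x, y] i)) =
      Function.update (fun i => Additive.ofMul (![x, y] i)) 0 (Additive.ofMul x) := by
    funext i
    fin_cases i <;> simp
  have h3 : (fun i => Additive.ofMul (![x', y] i)) =
      Function.update (fun i => Additive.ofMul (![x, y] i)) 0 (Additive.ofMul x') := by
    funext i
    fin_cases i <;> simp
  rw [h1, MultilinearMap.map_update_add, ← h2, ← h3]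

theorem P_mul_right (x y y' : Fˣ) :
    (symbol ![x, y * y'] : K F 2) = symbol ![x, y] + symbol ![x, y'] := by
  unfold symbol
  rw [← map_add]
  congr 1
  have h1 : (fun i => Additive.ofMul (![x, y * y'] i)) =
      Function.update (fun i => Additive.ofMul (![x, y] i)) 1
        (Additive.ofMul y + Additive.ofMul y') := by
    funext i
    fin_cases i <;> simp
  have h2 : (fun i => Additive.ofMul (![x, y] i)) =
      Function.update (fun i => Additive.ofMul (![x, y] i)) 1 (Additive.ofMul y) := by
    funext i
    fin_cases i <;> simp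
  have h3 : (fun i => Additive.ofMul (![x, y'] i)) =
      Function.update (fun i => Additive.ofMul (![x, y] i)) 1 (Additive.ofMul y') := by
    funext i
    fin_cases i <;> simp
  rw [h1, MultilinearMap.map_update_add, ← h2, ← h3]

theorem P_one_left (y : Fˣ) : (symbol ![1, y] : K F 2) = 0 := by
  have h := P_mul_left (1 : Fˣ) 1 y
  rw [one_mul] at h
  exact left_eq_add.mp h

theorem P_one_right (x : Fˣ) : (symbol ![x, 1] : K F 2) = 0 := by
  have h := P_mul_right x (1 : Fˣ) 1
  rw [one_mul] at h
  exact left_eq_add.mp h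

theorem P_inv_left (x y : Fˣ) : (symbol ![x⁻¹, y] : K F 2) = -symbol ![x, y] := by
  have h := P_mul_left x x⁻¹ y
  rw [mul_inv_cancel, P_one_left] at h
  exact eq_neg_of_add_eq_zero_right h.symm

theorem P_inv_right (x y : Fˣ) : (symbol ![x, y⁻¹] : K F 2) = -symbol ![x, y] := by
  have h := P_mul_right x y y⁻¹
  rw [mul_inv_cancel, P_one_right] at h
  exact eq_neg_of_add_eq_zero_right h.symm

theorem P_steinberg (x w : Fˣ) (h : (x : F) + (w : F) = 1) : (symbol ![x, w] : K F 2) = 0 :=
  symbol_eq_zero_of_isSteinberg _ ⟨0, 1, by decide, h⟩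

theorem P_neg_self (x : Fˣ) : (symbol ![x, -x] : K F 2) = 0 := by
  by_cases hx : (x : F) = 1
  · have : x = 1 := Units.ext hx
    rw [this]
    exact P_one_left _
  · have hx0 : (x : F) ≠ 0 := x.ne_zero
    have h1 : (1 : F) - x ≠ 0 := sub_ne_zero.mpr (Ne.symm hx)
    have h2 : (1 : F) - (x : F)⁻¹ ≠ 0 := by
      intro h
      apply hx
      have : (x : F)⁻¹ = 1 := (sub_eq_zero.mp h).symm
      have h4 : (x : F) * (x : F)⁻¹ = 1 := mul_inv_cancel₀ hx0
      rw [this, mul_one] at h4
      exact h4
    have e : -x = Units.mk0 _ h1 * (Units.mk0 _ h2)⁻¹ := by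
      apply Units.ext
      rw [Units.val_neg, Units.val_mul, Units.val_inv_eq_inv_val, Units.val_mk0, Units.val_mk0]
      field_simp
      ring
    rw [e, P_mul_right, P_inv_right, P_steinberg x (Units.mk0 _ h1) (by rw [Units.val_mk0]; ring),
      zero_add, neg_eq_zero]
    have h3 : (symbol ![x⁻¹, Units.mk0 _ h2] : K F 2) = 0 :=
      P_steinberg x⁻¹ (Units.mk0 _ h2) (by rw [Units.val_mk0, Units.val_inv_eq_inv_val]; ring)
    rw [P_inv_left, neg_eq_zero] at h3
    exact h3

theorem P_antisymm (x y : Fˣ) : (symbol ![x, y] : K F 2) + symbol ![y, x] = 0 := by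
  have h := P_neg_self (x * y)
  have e : -(x * y) = (-x) * y := (neg_mul x y).symm
  have e' : (-x) * y = x * (-y) := by rw [neg_mul, mul_neg]
  rw [P_mul_left, e, P_mul_right, ← e, e, e', P_mul_right, P_neg_self, P_neg_self] at h
  rw [← h]
  abel

theorem P_self (x : Fˣ) : (symbol ![x, x] : K F 2) = symbol ![x, -1] := by
  have e : x = (-1) * (-x) := by rw [neg_mul_neg, one_mul]
  conv_lhs => rw [e]
  rw [← e]
  have h := P_mul_right x (-1) (-x)
  rw [← e, P_neg_self, add_zero] at h
  exact h

end helpers

/-- For a field F and nonzero b, c with b + c ≠ 0, in the Milnor K-group K_2(F) one has {b, c} + {b + c,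
-b/c} = 0, that is {b, c} = -{b + c, -b/c} = {b + c, -c/b}. (The identity as displayed in the source
is {b, c} = {b + c, -b/c}, which differs from this by a sign and fails in general: for b = 3, c = 5
over the rationals the tame symbol at 5 takes the values 3 and 1/3 on the two sides; the
accompanying derivation from the Steinberg relation b/(b+c) + c/(b+c) = 1 gives exactly the identity
stated here.) -/
theorem result (F : Type u) [Field F] (b c : Fˣ)
    (h : (b : F) + (c : F) ≠ 0) :
    (MilK.symbol ![b, c] : MilK.K F 2) + MilK.symbol ![Units.mk0 ((b : F) + (c : F)) h, -(b / c)] = 0 := by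
  obtain ⟨s, hs⟩ : ∃ s : Fˣ, s = Units.mk0 ((b : F) + (c : F)) h := ⟨_, rfl⟩
  rw [← hs]
  have hsv : (s : F) = b + c := by rw [hs, Units.val_mk0]
  have hst : (MilK.symbol ![b * s⁻¹, c * s⁻¹] : MilK.K F 2) = 0 := by
    apply P_steinberg
    rw [Units.val_mul, Units.val_mul, Units.val_inv_eq_inv_val, ← add_mul, ← hsv,
      mul_inv_cancel₀ s.ne_zero]
  rw [P_mul_left, P_mul_right, P_mul_right, P_inv_right, P_inv_left, P_inv_left, P_inv_right,
    P_self] at hst
  have e : -(b / c) = (-1) * (b * c⁻¹) := by rw [neg_mul, one_mul, div_eq_mul_inv]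
  rw [e, P_mul_right, P_mul_right, P_inv_right]
  have h1 := P_antisymm b s
  have hbs : (MilK.symbol ![b, s] : MilK.K F 2) = -MilK.symbol ![s, b] :=
    eq_neg_of_add_eq_zero_left h1
  rw [hbs] at hst
  rw [← hst]
  abel

end Groth.Agent.S19427
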