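import Groth.Statements.S19436
import Mathlib

set_option autoImplicit false
universe u
open CAlg

namespace Groth.Agent.S19436

/-- For a Noetherian local commutative algebra R over a field k, with maximal ideal M, and an ideal I of
R whose quotient R/I is finite-dimensional over k of dimension n, the power M^n lies in I. -/
theorem result (k : Type u) [Field k] (R : Type u) [CommRing R]
    [Algebra k R] [IsNoetherianRing R] [IsLocalRing R] (I : Ideal R) [Module.Finite k (R ⧸ I)] (n : ℕ)
    (hn : Module.finrank k (R ⧸ I) = n) : IsLocalRing.maximalIdeal R ^ n ≤ I := by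
  by_cases hI : I = ⊤
  · rw [hI]; exact le_top
  set M := IsLocalRing.maximalIdeal R with hM
  set f := Ideal.Quotient.mk I with hf
  have hfs : Function.Surjective f := Ideal.Quotient.mk_surjective
  set m' : Ideal (R ⧸ I) := Ideal.map f M with hm'
  have hjac : m' ≤ Ideal.jacobson (⊥ : Ideal (R ⧸ I)) := by
    have h1 : Ideal.map f (Ideal.jacobson I) = Ideal.jacobson (Ideal.map f I) :=
      Ideal.map_jacobson_of_surjective hfs (by simp [hf])
    rw [IsLocalRing.jacobson_eq_maximalIdeal I hI] at h1
    rw [hm', hM, h1]
    simp [hf]
  -- key claim
  have key : ∀ i : ℕ, (m' ^ i = ⊥) ∨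
      Module.finrank k ((m' ^ i).restrictScalars k) + i ≤ n := by
    intro i
    induction i with
    | zero =>
      right
      simp only [pow_zero, Ideal.one_eq_top, add_zero]
      rw [← hn]
      exact Submodule.finrank_le _
    | succ i ih =>
      rcases ih with h | h
      · left
        rw [pow_succ, h]; simp
      · by_cases hbot : m' ^ i = ⊥
        · left; rw [pow_succ, hbot]; simp
        · right
          have hlt : m' ^ (i+1) < m' ^ i := by
            refine lt_of_le_of_ne (Ideal.pow_le_pow_right (Nat.le_succ i)) ?_
            intro heq
            apply hbot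
            have hfg : (m' ^ i).FG := IsNoetherian.noetherian _
            refine Submodule.eq_bot_of_le_smul_of_le_jacobson_bot m' (m' ^ i) hfg ?_ hjac
            rw [smul_eq_mul, ← pow_succ', heq]
          have hlt' : (m' ^ (i+1)).restrictScalars k < (m' ^ i).restrictScalars k := by
            simpa using hlt
          have := Submodule.finrank_lt_finrank_of_lt hlt'
          omega
  have hbot : m' ^ n = ⊥ := by
    rcases key n with h | h
    · exact h
    · have h0 : Module.finrank k ((m' ^ n).restrictScalars k) = 0 := by omega
      have := Submodule.finrank_eq_zero.mp h0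
      simpa using this
  rw [hm', ← Ideal.map_pow, Ideal.map_eq_bot_iff_le_ker] at hbot
  simpa [hf] using hbot

end Groth.Agent.S19436
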