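import Groth.Statements.S19438
import Mathlib

set_option autoImplicit false
universe u
open CAlg

namespace Groth.Agent.S19438

/-- First assertion: let A be a Noetherian local commutative algebra over a field k with maximal ideal
M, residue field k (the map from k to A/M is onto) and embedding dimension dim M/M^2 at least 2, and
let I be a proper ideal with A/I finite-dimensional over k. If A/I is generated as a k-algebra by
one element, then some element of I does not lie in M^2; that is, the finite closed subscheme
defined by I lies on a smooth hypersurface germ (it is curvilinear). (The published statement is for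
the local ring of a smooth surface at a closed point; only a Noetherian local algebra with residue
field k and embedding dimension at least 2 is assumed here, which is what the published argument
uses.) -/
theorem result (k : Type u) [Field k]
    (A : Type u) [CommRing A] [Algebra k A] [IsNoetherianRing A] [IsLocalRing A]
    (hres : Function.Surjective (algebraMap k (IsLocalRing.ResidueField A)))
    (hemb : 2 ≤ Module.finrank (IsLocalRing.ResidueField A) (IsLocalRing.CotangentSpace A))
    (I : Ideal A) (hI : I ≠ ⊤) [Module.Finite k (A ⧸ I)]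
    (f : A ⧸ I) (hf : Algebra.adjoin k {f} = ⊤) :
    ∃ g ∈ I, g ∉ IsLocalRing.maximalIdeal A ^ 2 := by
  classical
  by_contra hcon
  push Not at hcon
  set m := IsLocalRing.maximalIdeal A with hm
  obtain ⟨F, rfl⟩ := Ideal.Quotient.mk_surjective f
  obtain ⟨c, hc⟩ := hres (IsLocalRing.residue A F)
  set ν : A := F - algebraMap k A c with hν
  have hres' : ∀ b : k, IsLocalRing.residue A (algebraMap k A b) =
      algebraMap k (IsLocalRing.ResidueField A) b := fun b => rfl
  have hνm : ν ∈ m := by
    rw [hm, ← IsLocalRing.residue_eq_zero_iff, hν, map_sub, hres', hc, sub_self]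
  have hadj : Algebra.adjoin k {Ideal.Quotient.mk I ν} = ⊤ := by
    rw [eq_top_iff, ← hf]
    apply Algebra.adjoin_le
    rintro _ rfl
    have h0 : Ideal.Quotient.mk I F = Ideal.Quotient.mk I ν + algebraMap k (A ⧸ I) c := by
      rw [hν, map_sub]
      simp
    rw [h0]
    exact Subalgebra.add_mem _ (Algebra.subset_adjoin rfl) (Subalgebra.algebraMap_mem _ c)
  have key : ∀ x ∈ m, ∃ b : k, x - algebraMap k A b * ν ∈ m ^ 2 := by
    intro x hx
    have hx' : Ideal.Quotient.mk I x ∈ Algebra.adjoin k {Ideal.Quotient.mk I ν} := by
      rw [hadj]; trivial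
    rw [Algebra.adjoin_singleton_eq_range_aeval] at hx'
    obtain ⟨p, hp⟩ := hx'
    have h1 : x - Polynomial.aeval ν p ∈ I := by
      rw [← Ideal.Quotient.eq]
      have := Polynomial.aeval_algHom_apply (Ideal.Quotient.mkₐ k I) ν p
      simp only [Ideal.Quotient.mkₐ_eq_mk] at this
      rw [← this]
      exact hp.symm
    have h2 : x - Polynomial.aeval ν p ∈ m ^ 2 := hcon _ h1
    have hp0 : p = (p.divX.divX * Polynomial.X + Polynomial.C (p.divX.coeff 0)) * Polynomial.X
        + Polynomial.C (p.coeff 0) := by
      rw [Polynomial.divX_mul_X_add, Polynomial.divX_mul_X_add]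
    have h3 : Polynomial.aeval ν p = Polynomial.aeval ν p.divX.divX * ν ^ 2
        + algebraMap k A (p.divX.coeff 0) * ν + algebraMap k A (p.coeff 0) := by
      conv_lhs => rw [hp0]
      simp only [map_add, map_mul, Polynomial.aeval_X, Polynomial.aeval_C]
      ring
    have h4 : ν ^ 2 ∈ m ^ 2 := Ideal.pow_mem_pow hνm 2
    have h5 : x - algebraMap k A (p.divX.coeff 0) * ν - algebraMap k A (p.coeff 0) ∈ m ^ 2 := by
      have e : x - algebraMap k A (p.divX.coeff 0) * ν - algebraMap k A (p.coeff 0) =
          (x - Polynomial.aeval ν p) + Polynomial.aeval ν p.divX.divX * ν ^ 2 := by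
        rw [h3]; ring
      rw [e]
      exact Ideal.add_mem _ h2 (Ideal.mul_mem_left _ _ h4)
    have h6 : algebraMap k A (p.coeff 0) ∈ m := by
      have hle : m ^ 2 ≤ m := Ideal.pow_le_self two_ne_zero
      have h5' := hle h5
      have e : algebraMap k A (p.coeff 0) = x - algebraMap k A (p.divX.coeff 0) * ν -
          (x - algebraMap k A (p.divX.coeff 0) * ν - algebraMap k A (p.coeff 0)) := by ring
      rw [e]
      exact Ideal.sub_mem _ (Ideal.sub_mem _ hx (Ideal.mul_mem_left _ _ hνm)) h5'
    have h7 : p.coeff 0 = 0 := by
      by_contra hne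
      have hu : IsUnit (algebraMap k A (p.coeff 0)) := (IsUnit.mk0 _ hne).map (algebraMap k A)
      exact (IsLocalRing.mem_maximalIdeal _).mp h6 hu
    refine ⟨p.divX.coeff 0, ?_⟩
    simpa [h7] using h5
  have hfin : Module.finrank (IsLocalRing.ResidueField A) (IsLocalRing.CotangentSpace A) ≤ 1 := by
    apply finrank_le_one (m.toCotangent ⟨ν, hνm⟩)
    intro w
    obtain ⟨⟨x, hx⟩, rfl⟩ := m.toCotangent_surjective w
    obtain ⟨b, hb⟩ := key x hx
    refine ⟨IsLocalRing.residue A (algebraMap k A b), ?_⟩
    have h8 : (IsLocalRing.residue A (algebraMap k A b)) • m.toCotangent ⟨ν, hνm⟩ =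
        (algebraMap k A b) • m.toCotangent ⟨ν, hνm⟩ :=
      algebraMap_smul (IsLocalRing.ResidueField A) (algebraMap k A b) _
    rw [h8, ← map_smul, eq_comm, Ideal.toCotangent_eq]
    simpa [Algebra.smul_def] using hb
  omega

end Groth.Agent.S19438
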