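import Groth.Statements.S19439
import Mathlib

set_option autoImplicit false
universe u
open CAlg

namespace Groth.Agent.S19439

/-- Affine form: for all n and N there is an integer d, that depends only on n and N, such that for
every algebraically closed field k and every ideal I of the polynomial ring in N variables over k
whose quotient has finite dimension n over k, the polynomials of total degree at most d map onto the
quotient. -/
theorem result (n N : ℕ) :
    ∃ d : ℕ, ∀ (k : Type u) [Field k] [IsAlgClosed k] (I : Ideal (MvPolynomial (Fin N) k))
      [Module.Finite k (MvPolynomial (Fin N) k ⧸ I)],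
      Module.finrank k (MvPolynomial (Fin N) k ⧸ I) = n →
      Submodule.map (Ideal.Quotient.mkₐ k I).toLinearMap (MvPolynomial.restrictTotalDegree (Fin N) k d) = ⊤ := by
  refine ⟨n, fun k _ _ I _ hn => ?_⟩
  classical
  set π := (Ideal.Quotient.mkₐ k I).toLinearMap with hπ
  set V : ℕ → Submodule k (MvPolynomial (Fin N) k ⧸ I) := fun j =>
    Submodule.map π (MvPolynomial.restrictTotalDegree (Fin N) k j) with hV
  have hπmul : ∀ p q : MvPolynomial (Fin N) k, π (p * q) = π p * π q := fun p q => by
    simp [hπ]
  have hmono : ∀ i j, i ≤ j → V i ≤ V j := by
    intro i j hij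
    apply Submodule.map_mono
    intro p hp
    rw [MvPolynomial.mem_restrictTotalDegree] at hp ⊢
    exact hp.trans hij
  have hone : ∀ j, π 1 ∈ V j := by
    intro j
    refine ⟨1, ?_, rfl⟩
    rw [SetLike.mem_coe, MvPolynomial.mem_restrictTotalDegree]
    simp
  -- stabilisation implies everything
  have hstab : ∀ j, V (j + 1) = V j → V j = ⊤ := by
    intro j hj
    have hX : ∀ (i : Fin N) (w), w ∈ V j → w * π (MvPolynomial.X i) ∈ V j := by
      rintro i _ ⟨q, hq, rfl⟩
      rw [← hj, ← hπmul]
      refine ⟨q * MvPolynomial.X i, ?_, rfl⟩
      rw [SetLike.mem_coe, MvPolynomial.mem_restrictTotalDegree] at hq ⊢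
      calc (q * MvPolynomial.X i).totalDegree ≤ q.totalDegree + (MvPolynomial.X i : MvPolynomial (Fin N) k).totalDegree :=
            MvPolynomial.totalDegree_mul _ _
        _ ≤ j + 1 := by
            rw [MvPolynomial.totalDegree_X]; omega
    have hall : ∀ p : MvPolynomial (Fin N) k, π p ∈ V j := by
      intro p
      induction p using MvPolynomial.induction_on with
      | C a =>
        have : π (MvPolynomial.C a) = a • π 1 := by
          rw [← map_smul]; congr 1
          rw [MvPolynomial.smul_eq_C_mul, mul_one]
        rw [this]
        exact Submodule.smul_mem _ _ (hone j)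
      | add p q hp hq => rw [map_add]; exact Submodule.add_mem _ hp hq
      | mul_X p i hp => rw [hπmul]; exact hX i _ hp
    rw [eq_top_iff]
    intro w _
    obtain ⟨p, rfl⟩ := Ideal.Quotient.mk_surjective w
    exact hall p
  have key : ∀ j, V j = ⊤ ∨ j + 1 ≤ Module.finrank k (V j) := by
    intro j
    induction j with
    | zero =>
      by_cases hsub : Subsingleton (MvPolynomial (Fin N) k ⧸ I)
      · left
        exact Subsingleton.elim _ _
      · right
        rw [not_subsingleton_iff_nontrivial] at hsub
        have h1 : π 1 ≠ 0 := by
          have : π 1 = 1 := by simp [hπ]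
          rw [this]; exact one_ne_zero
        have hne : V 0 ≠ ⊥ := fun hb => h1 (by
          have := hone 0
          rwa [hb, Submodule.mem_bot] at this)
        have := Submodule.one_le_finrank_iff.mpr hne
        omega
    | succ j ih =>
      rcases ih with h | h
      · left
        exact top_le_iff.mp (h ▸ hmono j (j + 1) (Nat.le_succ j))
      · by_cases heq : V (j + 1) = V j
        · left
          rw [heq]; exact hstab j heq
        · right
          have hlt : V j < V (j + 1) := lt_of_le_of_ne (hmono j (j + 1) (Nat.le_succ j)) (Ne.symm heq)
          have := Submodule.finrank_lt_finrank_of_lt hlt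
          omega
  rcases key n with h | h
  · exact h
  · exfalso
    have := Submodule.finrank_le (V n)
    omega

end Groth.Agent.S19439
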