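import Groth.Statements.S19444
import Mathlib

set_option autoImplicit false
universe u
open SymTen

namespace Groth.Agent.S19444

open PiTensorProduct
open scoped TensorProduct

section
variable (A : Type u) [CommRing A] (R : Type u) [CommRing R] [Algebra A R] (n : ℕ)

/-- span of the diagonal pure tensors -/
def V : Submodule A (⨂[A] _ : Fin n, R) :=
  Submodule.span A (Set.range fun r : R => tprod A (fun _ : Fin n => r))

theorem sym_tprod_mem (r : Fin n → R) :
    ∑ σ : Equiv.Perm (Fin n), reindex A (fun _ : Fin n => R) σ (tprod A r) ∈ V A R n := by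
  classical
  have h1 : ∑ σ : Equiv.Perm (Fin n), reindex A (fun _ : Fin n => R) σ (tprod A r) =
      ∑ f ∈ (Finset.univ : Finset (Fin n → Fin n)).filter Function.Surjective,
        tprod A (fun j => r (f j)) := by
    refine Finset.sum_bij (fun σ _ => (⇑σ.symm : Fin n → Fin n)) ?_ ?_ ?_ ?_
    · intro σ _
      exact Finset.mem_filter.2 ⟨Finset.mem_univ _, σ.symm.surjective⟩
    · intro σ₁ _ σ₂ _ h
      have h' : σ₁.symm = σ₂.symm := DFunLike.coe_injective h
      calc σ₁ = σ₁.symm.symm := (Equiv.symm_symm σ₁).symm
        _ = σ₂.symm.symm := by rw [h']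
        _ = σ₂ := Equiv.symm_symm σ₂
    · intro f hf
      have hsurj : Function.Surjective f := (Finset.mem_filter.1 hf).2
      have hbij : Function.Bijective f := ⟨Finite.injective_iff_surjective.2 hsurj, hsurj⟩
      refine ⟨(Equiv.ofBijective f hbij).symm, Finset.mem_univ _, ?_⟩
      rw [Equiv.symm_symm]; rfl
    · intro σ _
      rw [reindex_tprod]
  rw [h1]
  let S : Fin n → Finset (Fin n → Fin n) := fun i =>
    (Finset.univ : Finset (Fin n → Fin n)).filter (fun f => ∀ j, f j ≠ i)
  have h2 : (Finset.univ : Finset (Fin n → Fin n)).filter Function.Surjective =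
      (Finset.univ : Finset (Fin n)).inf (fun i => (S i)ᶜ) := by
    ext f
    simp only [Finset.mem_inf, Finset.mem_compl, Finset.mem_filter, Finset.mem_univ, true_and,
      S, forall_true_left]
    constructor
    · intro hf i hi
      obtain ⟨j, hj⟩ := hf i
      exact hi j hj
    · intro h i
      by_contra hcon
      push Not at hcon
      exact h i hcon
  have h3 : ∀ t : Finset (Fin n), t.inf S = Fintype.piFinset (fun _ : Fin n => tᶜ) := by
    intro t
    ext f
    simp only [Finset.mem_inf, Finset.mem_filter, Finset.mem_univ, true_and, S,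
      Fintype.mem_piFinset, Finset.mem_compl]
    constructor
    · intro h j hj
      exact h (f j) hj j rfl
    · intro h i hi j hji
      exact h j (hji ▸ hi)
  rw [h2, Finset.inclusion_exclusion_sum_inf_compl]
  refine Submodule.sum_mem _ (fun t _ => ?_)
  refine zsmul_mem ?_ _
  rw [h3 t]
  have h4 := MultilinearMap.map_sum_finset (tprod A (s := fun _ : Fin n => R))
    (fun (_ : Fin n) (i : Fin n) => r i) (fun _ : Fin n => tᶜ)
  rw [← h4]
  exact Submodule.subset_span ⟨_, rfl⟩

theorem mem_V_of_mem_TS (hfact : IsUnit ((Nat.factorial n : ℕ) : A))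
    (t : ⨂[A] _ : Fin n, R) (ht : t ∈ SymTen.TS A R n) : t ∈ V A R n := by
  classical
  have hsym : ∑ σ : Equiv.Perm (Fin n), reindex A (fun _ : Fin n => R) σ t =
      ((Nat.factorial n : ℕ) : A) • t := by
    rw [Finset.sum_congr rfl (fun σ _ => ht σ), Finset.sum_const, Finset.card_univ,
      Fintype.card_perm, Fintype.card_fin, Nat.cast_smul_eq_nsmul]
  have hall : ∀ t' : ⨂[A] _ : Fin n, R,
      ∑ σ : Equiv.Perm (Fin n), reindex A (fun _ : Fin n => R) σ t' ∈ V A R n := by
    intro t'
    induction t' using PiTensorProduct.induction_on with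
    | smul_tprod a r =>
      simp only [map_smul]
      rw [← Finset.smul_sum]
      exact Submodule.smul_mem _ _ (sym_tprod_mem A R n r)
    | add x y hx hy =>
      simp only [map_add]
      rw [Finset.sum_add_distrib]
      exact add_mem hx hy
  obtain ⟨c, hc⟩ := hfact.exists_left_inv
  have : t = c • (((Nat.factorial n : ℕ) : A) • t) := by rw [smul_smul, hc, one_smul]
  rw [this, ← hsym]
  exact Submodule.smul_mem _ _ (hall t)

/-- the determinant functional -/
noncomputable def Psi (b : Module.Basis (Fin n) A R) : (⨂[A] _ : Fin n, R) →ₗ[A] A :=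
  PiTensorProduct.lift ((b.det.toMultilinearMap).compLinearMap
    (fun i => LinearMap.mulRight A (b i)))

theorem Psi_tpow (b : Module.Basis (Fin n) A R) (x : R) :
    Psi A R n b (tprod A (fun _ : Fin n => x)) = Algebra.norm A x := by
  rw [Psi, PiTensorProduct.lift.tprod]
  show b.det (fun i => x * b i) = _
  have : (fun i => x * b i) = ⇑(Algebra.lmul A R x) ∘ ⇑b := by
    funext i; rfl
  rw [this, Module.Basis.det_comp, Module.Basis.det_self, mul_one, Algebra.norm_apply]

end

/-- Linearised norm: let A be a commutative ring in which n! is invertible and R a commutative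
A-algebra, free of rank n as an A-module. There is a unique A-algebra homomorphism from the
symmetric tensors TS^n_A(R) to A taking r ⊗ ⋯ ⊗ r to the norm of r for every r in R. (The published
corollary is stated for any free algebra of rank n; the construction printed for it divides by n!,
and n! invertible is assumed here.) -/
theorem result (A : Type u) [CommRing A] (R : Type u) [CommRing R]
    [Algebra A R] [Module.Free A R] [Module.Finite A R] (n : ℕ) (hn : Module.finrank A R = n)
    (hfact : IsUnit ((Nat.factorial n : ℕ) : A)) :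
    ∃! φ : SymTen.TS A R n →ₐ[A] A, ∀ r : R, φ (SymTen.tpow A R n r) = Algebra.norm A r := by
  classical
  rcases subsingleton_or_nontrivial A with hA | hA
  · refine ⟨AlgHom.ofLinearMap 0 (Subsingleton.elim _ _) (fun _ _ => Subsingleton.elim _ _),
      fun r => Subsingleton.elim _ _, ?_⟩
    intro φ' _
    exact AlgHom.ext fun x => Subsingleton.elim _ _
  let b : Module.Basis (Fin n) A R := Module.finBasisOfFinrankEq A R hn
  have hW : Submodule.span A (Set.range fun r : R => (SymTen.tpow A R n r : SymTen.TS A R n)) = ⊤ := by
    rw [eq_top_iff]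
    intro t _
    have htV := mem_V_of_mem_TS A R n hfact t.1 t.2
    have hmap : V A R n = Submodule.map (SymTen.TS A R n).val.toLinearMap
        (Submodule.span A (Set.range fun r : R => (SymTen.tpow A R n r : SymTen.TS A R n))) := by
      rw [Submodule.map_span, ← Set.range_comp]; rfl
    rw [hmap] at htV
    obtain ⟨w, hw, hwt⟩ := htV
    have : w = t := Subtype.ext hwt
    rwa [← this]
  let ψ : SymTen.TS A R n →ₗ[A] A := (Psi A R n b).comp (SymTen.TS A R n).val.toLinearMap
  have hψ : ∀ r, ψ (SymTen.tpow A R n r) = Algebra.norm A r := fun r => Psi_tpow A R n b r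
  have hmul : ∀ x y : SymTen.TS A R n, ψ (x * y) = ψ x * ψ y := by
    intro x y
    have hx : x ∈ Submodule.span A
        (Set.range fun r : R => (SymTen.tpow A R n r : SymTen.TS A R n)) := by
      rw [hW]; trivial
    have hy : y ∈ Submodule.span A
        (Set.range fun r : R => (SymTen.tpow A R n r : SymTen.TS A R n)) := by
      rw [hW]; trivial
    induction hx using Submodule.span_induction with
    | mem x hx =>
      obtain ⟨r, rfl⟩ := hx
      induction hy using Submodule.span_induction with
      | mem y hy =>
        obtain ⟨s, rfl⟩ := hy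
        rw [← map_mul, hψ, hψ, hψ, map_mul]
      | zero => simp
      | add y y' _ _ h h' => rw [mul_add, map_add, h, h', map_add, mul_add]
      | smul a y _ h =>
        rw [mul_smul_comm, map_smul, h, map_smul, smul_eq_mul, smul_eq_mul, mul_left_comm]
    | zero => simp
    | add x x' _ _ h h' => rw [add_mul, map_add, h, h', map_add, add_mul]
    | smul a x _ h =>
      rw [smul_mul_assoc, map_smul, h, map_smul, smul_eq_mul, smul_eq_mul, mul_assoc]
  have hone : ψ 1 = 1 := by rw [← map_one (SymTen.tpow A R n), hψ, map_one]
  refine ⟨AlgHom.ofLinearMap ψ hone hmul, fun r => hψ r, ?_⟩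
  intro φ' hφ'
  apply AlgHom.toLinearMap_injective
  apply LinearMap.ext_on hW
  rintro _ ⟨r, rfl⟩
  show φ' (SymTen.tpow A R n r) = ψ (SymTen.tpow A R n r)
  rw [hφ', hψ]

end Groth.Agent.S19444
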