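import Groth.Statements.S19445
import Groth.Agent.H23.RegularSeq3
import Mathlib.Tactic

set_option autoImplicit false
universe u
open CAlg

namespace Groth.Agent.S19445

section Aux
open IsLocalRing

/-- generators of the coinvariant ideal -/
def gens (G A : Type u) [Group G] [CommRing A] [MulSemiringAction G A] : Set A :=
  {x : A | ∃ (g : G) (a : A), x = g • a - a}

variable {k : Type u} [Field k] {A : Type u} [CommRing A] [Algebra k A] [IsLocalRing A]
  {G : Type u} [Group G] [MulSemiringAction G A] [SMulCommClass G k A]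

theorem smul_mem_maximalIdeal (g : G) (a : A) (ha : a ∈ maximalIdeal A) :
    g • a ∈ maximalIdeal A := by
  rw [mem_maximalIdeal, mem_nonunits_iff] at ha ⊢
  intro hu
  apply ha
  obtain ⟨b, hb⟩ := isUnit_iff_exists_inv.mp hu
  refine isUnit_iff_exists_inv.mpr ⟨g⁻¹ • b, ?_⟩
  have h1 : g⁻¹ • ((g • a) * b) = g⁻¹ • (1 : A) := by rw [hb]
  rw [smul_mul', inv_smul_smul, smul_one] at h1
  exact h1

theorem smul_algebraMap (g : G) (c : k) : g • (algebraMap k A c) = algebraMap k A c := by
  rw [Algebra.algebraMap_eq_smul_one, smul_comm, smul_one]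

theorem exists_sub_mem (hres : Function.Surjective (algebraMap k (ResidueField A))) (a : A) :
    ∃ c : k, a - algebraMap k A c ∈ maximalIdeal A := by
  obtain ⟨c, hc⟩ := hres (residue A a)
  refine ⟨c, ?_⟩
  have h1 : residue A (algebraMap k A c) = residue A a := by
    rw [← hc, IsScalarTower.algebraMap_apply k A (ResidueField A), ResidueField.algebraMap_eq]
  apply (residue_eq_zero_iff _).mp
  rw [map_sub, h1, sub_self]

theorem gens_subset (hres : Function.Surjective (algebraMap k (ResidueField A))) :
    ∀ x ∈ gens G A, x ∈ maximalIdeal A := by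
  rintro x ⟨g, a, rfl⟩
  obtain ⟨c, hc⟩ := exists_sub_mem hres a
  have h1 : g • a - a = g • (a - algebraMap k A c) - (a - algebraMap k A c) := by
    rw [smul_sub, smul_algebraMap]; ring
  rw [h1]
  exact sub_mem (smul_mem_maximalIdeal g _ hc) hc

theorem smul_mem_span_gens (g : G) (u : A) (hu : u ∈ Ideal.span (gens G A)) :
    g • u ∈ Ideal.span (gens G A) := by
  induction hu using Submodule.span_induction with
  | mem x hx =>
    obtain ⟨h, a, rfl⟩ := hx
    refine Ideal.subset_span ⟨g * h * g⁻¹, g • a, ?_⟩
    rw [smul_sub, mul_smul, mul_smul, inv_smul_smul]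
  | zero => rw [smul_zero]; exact Submodule.zero_mem _
  | add x y _ _ hx hy => rw [smul_add]; exact Submodule.add_mem _ hx hy
  | smul r x _ hx =>
    rw [smul_eq_mul, smul_mul']
    exact Ideal.mul_mem_left _ _ hx

theorem sub_smul_mem (g : G) (y : A) (hy : y ∈ maximalIdeal A * maximalIdeal A) :
    y - g • y ∈ maximalIdeal A * Ideal.span (gens G A) := by
  rw [← Ideal.smul_eq_mul] at hy
  refine Submodule.smul_induction_on hy ?_ ?_
  · intro m hm n hn
    have h1 : m • n - g • (m • n) = m * (-(g • n - n)) + (g • n) * (-(g • m - m)) := by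
      rw [smul_eq_mul, smul_mul']; ring
    rw [h1]
    exact add_mem (Ideal.mul_mem_mul hm (neg_mem (Ideal.subset_span ⟨g, n, rfl⟩)))
      (Ideal.mul_mem_mul (smul_mem_maximalIdeal g n hn)
        (neg_mem (Ideal.subset_span ⟨g, m, rfl⟩)))
  · intro x y hx hy
    have h1 : x + y - g • (x + y) = (x - g • x) + (y - g • y) := by rw [smul_add]; ring
    rw [h1]; exact add_mem hx hy

theorem sum_smul_eq_zero [Fintype G] (u : A) (hu : u ∈ Submodule.span k (gens G A)) :
    ∑ g : G, g • u = 0 := by
  induction hu using Submodule.span_induction with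
  | mem x hx =>
    obtain ⟨h, a, rfl⟩ := hx
    simp only [smul_sub, Finset.sum_sub_distrib]
    rw [sub_eq_zero]
    simp only [← mul_smul]
    exact Fintype.sum_equiv (Equiv.mulRight h) _ _ (fun g => by simp)
  | zero => simp
  | add x y _ _ hx hy => simp only [smul_add, Finset.sum_add_distrib, hx, hy, add_zero]
  | smul c x _ hx =>
    have h1 : ∀ g : G, g • (c • x) = c • (g • x) := fun g => smul_comm g c x
    simp only [h1, ← Finset.smul_sum, hx, smul_zero]

theorem span_k_le (u : A) (hu : u ∈ Submodule.span k (gens G A)) :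
    u ∈ Ideal.span (gens G A) := by
  induction hu using Submodule.span_induction with
  | mem x hx => exact Ideal.subset_span hx
  | zero => exact Submodule.zero_mem _
  | add x y _ _ hx hy => exact Submodule.add_mem _ hx hy
  | smul c x _ hx => rw [Algebra.smul_def]; exact Ideal.mul_mem_left _ _ hx

theorem exists_decomp (hres : Function.Surjective (algebraMap k (ResidueField A)))
    (u : A) (hu : u ∈ Ideal.span (gens G A)) :
    ∃ u' ∈ Submodule.span k (gens G A),
      u - u' ∈ maximalIdeal A * Ideal.span (gens G A) := by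
  induction hu using Submodule.span_induction with
  | mem x hx =>
    exact ⟨x, Submodule.subset_span hx, by rw [sub_self]; exact Submodule.zero_mem _⟩
  | zero => exact ⟨0, Submodule.zero_mem _, by rw [sub_self]; exact Submodule.zero_mem _⟩
  | add x y _ _ hx hy =>
    obtain ⟨x', hx', hxx⟩ := hx
    obtain ⟨y', hy', hyy⟩ := hy
    refine ⟨x' + y', Submodule.add_mem _ hx' hy', ?_⟩
    have h1 : x + y - (x' + y') = (x - x') + (y - y') := by ring
    rw [h1]; exact add_mem hxx hyy
  | smul b x _ hx =>
    obtain ⟨x', hx', hxx⟩ := hx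
    obtain ⟨c, hc⟩ := exists_sub_mem hres b
    refine ⟨c • x', Submodule.smul_mem _ c hx', ?_⟩
    have h1 : b • x - c • x' = b * (x - x') + (b - algebraMap k A c) * x' := by
      rw [smul_eq_mul, Algebra.smul_def]; ring
    rw [h1]
    exact add_mem (Ideal.mul_mem_left _ _ hxx) (Ideal.mul_mem_mul hc (span_k_le x' hx'))

theorem mem_mul_of_mem_sq (hres : Function.Surjective (algebraMap k (ResidueField A)))
    [Finite G] (hG : (Nat.card G : k) ≠ 0) (u : A) (hu : u ∈ Ideal.span (gens G A))
    (hu2 : u ∈ maximalIdeal A ^ 2) : u ∈ maximalIdeal A * Ideal.span (gens G A) := by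
  classical
  haveI : Fintype G := Fintype.ofFinite G
  have hJle : Ideal.span (gens G A) ≤ maximalIdeal A := Ideal.span_le.mpr (gens_subset hres)
  obtain ⟨u', hu', huu⟩ := exists_decomp hres u hu
  have hu'2 : u' ∈ maximalIdeal A * maximalIdeal A := by
    have h1 : u' = u - (u - u') := by ring
    rw [h1, ← pow_two]
    refine sub_mem hu2 ?_
    rw [pow_two]
    exact Ideal.mul_mono_right hJle huu
  have hsum : ∑ g : G, (u' - g • u') ∈ maximalIdeal A * Ideal.span (gens G A) :=
    Ideal.sum_mem _ (fun g _ => sub_smul_mem g u' hu'2)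
  rw [Finset.sum_sub_distrib, sum_smul_eq_zero (k := k) u' hu', sub_zero, Finset.sum_const,
    Finset.card_univ] at hsum
  have h2 : u' = (Nat.card G : k)⁻¹ • ((Nat.card G : k) • u') := by
    rw [smul_smul, inv_mul_cancel₀ hG, one_smul]
  have h3 : (Nat.card G : k) • u' = Fintype.card G • u' := by
    rw [Nat.card_eq_fintype_card, Nat.cast_smul_eq_nsmul]
  have h4 : u' ∈ maximalIdeal A * Ideal.span (gens G A) := by
    rw [h2, h3, Algebra.smul_def]
    exact Ideal.mul_mem_left _ _ hsum
  have h5 : u = u' + (u - u') := by ring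
  rw [h5]; exact add_mem h4 huu

theorem exists_lift_span {ι : Type*} (x : ι → maximalIdeal A) (v : (maximalIdeal A).Cotangent)
    (hv : v ∈ Submodule.span (ResidueField A)
      (Set.range fun i => (maximalIdeal A).toCotangent (x i))) :
    ∃ y : maximalIdeal A, (y : A) ∈ Ideal.span (Set.range fun i => (x i : A)) ∧
      (maximalIdeal A).toCotangent y = v := by
  induction hv using Submodule.span_induction with
  | mem w hw =>
    obtain ⟨i, rfl⟩ := hw
    exact ⟨x i, Ideal.subset_span ⟨i, rfl⟩, rfl⟩
  | zero => exact ⟨0, by simp, map_zero _⟩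
  | add w₁ w₂ _ _ h₁ h₂ =>
    obtain ⟨y₁, hy₁, rfl⟩ := h₁
    obtain ⟨y₂, hy₂, rfl⟩ := h₂
    exact ⟨y₁ + y₂, by rw [Submodule.coe_add]; exact Ideal.add_mem _ hy₁ hy₂, map_add _ _ _⟩
  | smul c w _ h =>
    obtain ⟨y, hy, rfl⟩ := h
    obtain ⟨r, rfl⟩ := residue_surjective c
    refine ⟨r • y, ?_, ?_⟩
    · show r * (y : A) ∈ _
      exact Ideal.mul_mem_left _ _ hy
    · rw [map_smul, ← ResidueField.algebraMap_eq, algebraMap_smul]

end Aux

/-- Local form: let k be a field and A a regular local k-algebra with maximal ideal M and residue field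
k (k maps onto A/M); let a finite group G whose order is invertible in k act on A by k-algebra
automorphisms. Then A/J is a regular local ring, where J is the ideal generated by the elements g·a
− a (J defines the fixed-point subscheme, so the fixed locus of G is smooth at the point). The
accompanying identification of its tangent space with the G-invariants of the tangent space of A is
not restated here. -/
theorem result (k : Type u) [Field k] (A : Type u) [CommRing A]
    [Algebra k A] [IsRegularLocalRing A]
    (hres : Function.Surjective (algebraMap k (IsLocalRing.ResidueField A)))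
    (G : Type u) [Group G] [Finite G] [MulSemiringAction G A] [SMulCommClass G k A]
    (hG : (Nat.card G : k) ≠ 0) :
    IsRegularLocalRing (A ⧸ Ideal.span {x : A | ∃ (g : G) (a : A), x = g • a - a}) := by
  classical
  open IsLocalRing in
  change IsRegularLocalRing (A ⧸ Ideal.span (gens G A))
  have hJle : Ideal.span (gens G A) ≤ IsLocalRing.maximalIdeal A :=
    Ideal.span_le.mpr (gens_subset hres)
  let T : Set ((IsLocalRing.maximalIdeal A).Cotangent) :=
    {v | ∃ a : IsLocalRing.maximalIdeal A, (a : A) ∈ Ideal.span (gens G A) ∧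
      (IsLocalRing.maximalIdeal A).toCotangent a = v}
  obtain ⟨b, hbT, hbspan, hbli⟩ := exists_linearIndependent (IsLocalRing.ResidueField A) T
  have hbfin : b.Finite := hbli.setFinite
  haveI : Fintype b := hbfin.fintype
  let e := Fintype.equivFin b
  have hex : ∀ i : Fin (Fintype.card b), ∃ a : IsLocalRing.maximalIdeal A,
      (a : A) ∈ Ideal.span (gens G A) ∧
      (IsLocalRing.maximalIdeal A).toCotangent a =
        ((e.symm i : b) : (IsLocalRing.maximalIdeal A).Cotangent) :=
    fun i => hbT (e.symm i).2
  choose x hxJ hxv using hex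
  have hli : LinearIndependent (IsLocalRing.ResidueField A)
      (fun i => (IsLocalRing.maximalIdeal A).toCotangent (x i)) := by
    have h1 : (fun i => (IsLocalRing.maximalIdeal A).toCotangent (x i)) =
        (Subtype.val : b → _) ∘ e.symm := by
      funext i; exact hxv i
    rw [h1]
    exact hbli.comp _ e.symm.injective
  have hrange : Set.range (fun i => (IsLocalRing.maximalIdeal A).toCotangent (x i)) = b := by
    ext v; constructor
    · rintro ⟨i, rfl⟩
      show (IsLocalRing.maximalIdeal A).toCotangent (x i) ∈ b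
      rw [hxv i]; exact (e.symm i).2
    · intro hv
      exact ⟨e ⟨v, hv⟩, by simp only [hxv, Equiv.symm_apply_apply]⟩
  have hspanle : Ideal.span (Set.range fun i => (x i : A)) ≤ Ideal.span (gens G A) := by
    rw [Ideal.span_le]; rintro _ ⟨i, rfl⟩; exact hxJ i
  have hJ : Ideal.span (gens G A) = Ideal.span (Set.range fun i => (x i : A)) := by
    refine le_antisymm ?_ hspanle
    refine Submodule.le_of_le_smul_of_le_jacobson_bot (I := IsLocalRing.maximalIdeal A)
      (IsNoetherian.noetherian _) (IsLocalRing.maximalIdeal_le_jacobson ⊥) ?_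
    intro u hu
    have hum : u ∈ IsLocalRing.maximalIdeal A := hJle hu
    have hT : (IsLocalRing.maximalIdeal A).toCotangent ⟨u, hum⟩ ∈ T := ⟨⟨u, hum⟩, hu, rfl⟩
    have hsp : (IsLocalRing.maximalIdeal A).toCotangent ⟨u, hum⟩ ∈
        Submodule.span (IsLocalRing.ResidueField A)
          (Set.range fun i => (IsLocalRing.maximalIdeal A).toCotangent (x i)) := by
      rw [hrange, hbspan]; exact Submodule.subset_span hT
    obtain ⟨y, hy, hyv⟩ := exists_lift_span x _ hsp
    have h0 : (IsLocalRing.maximalIdeal A).toCotangent (⟨u, hum⟩ - y) = 0 := by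
      rw [map_sub, hyv, sub_self]
    rw [Ideal.toCotangent_eq_zero] at h0
    have h0' : u - (y : A) ∈ IsLocalRing.maximalIdeal A ^ 2 := h0
    have h1 : u - (y : A) ∈ IsLocalRing.maximalIdeal A * Ideal.span (gens G A) :=
      mem_mul_of_mem_sq hres hG _ (sub_mem hu (hspanle hy)) h0'
    have h2 : u = (y : A) + (u - y) := by ring
    rw [h2]
    exact Submodule.add_mem_sup hy (by rw [Ideal.smul_eq_mul]; exact h1)
  rw [hJ]
  exact ((Groth.Agent.H23.regular_iff_quotient A _ x).mp ⟨inferInstance, hli⟩).2

end Groth.Agent.S19445
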