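import Groth.Statements.S19448
import Mathlib

set_option autoImplicit false
universe u
open CAlg

namespace Groth.Agent.S19448

/-- Let k be a field, A a Noetherian local k-algebra with maximal ideal M and residue field k, and G a
finite group with |G| ≠ 0 in k acting on A by k-algebra automorphisms. An element of G which acts
trivially on M/M^2 acts trivially on A; in other words the stabilizer acts faithfully on the
cotangent space whenever it acts faithfully on the local ring. -/
theorem result (k : Type u) [Field k] (A : Type u) [CommRing A]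
    [Algebra k A] [IsLocalRing A] [IsNoetherianRing A]
    (hres : Function.Surjective (algebraMap k (IsLocalRing.ResidueField A)))
    (G : Type u) [Group G] [Finite G] [MulSemiringAction G A] [SMulCommClass G k A]
    (hG : (Nat.card G : k) ≠ 0) (g : G)
    (hg : ∀ a ∈ IsLocalRing.maximalIdeal A, g • a - a ∈ IsLocalRing.maximalIdeal A ^ 2) (a : A) :
    g • a = a := by
  classical
  set m := IsLocalRing.maximalIdeal A with hm
  have hfix : ∀ c : k, g • (algebraMap k A c) = algebraMap k A c := by
    intro c
    rw [Algebra.algebraMap_eq_smul_one, smul_comm, smul_one]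
  have hdec : ∀ x : A, ∃ c : k, x - algebraMap k A c ∈ m := by
    intro x
    obtain ⟨c, hc⟩ := hres (IsLocalRing.residue A x)
    refine ⟨c, ?_⟩
    have hres' : IsLocalRing.residue A (algebraMap k A c) =
      algebraMap k (IsLocalRing.ResidueField A) c := rfl
    rw [hm, ← IsLocalRing.residue_eq_zero_iff, map_sub, hres', hc, sub_self]
  have hm2 : m ^ 2 ≤ m := Ideal.pow_le_self two_ne_zero
  have hB0 : ∀ x : A, g • x - x ∈ m := by
    intro x
    obtain ⟨c, hc⟩ := hdec x
    have e : g • x - x = g • (x - algebraMap k A c) - (x - algebraMap k A c) := by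
      rw [smul_sub, hfix]; ring
    rw [e]; exact hm2 (hg _ hc)
  have hgm : ∀ z ∈ m, g • z ∈ m := by
    intro z hz
    have e : g • z = z + (g • z - z) := by ring
    rw [e]; exact Ideal.add_mem _ hz (hB0 z)
  have hB : ∀ j : ℕ, ∀ x ∈ m ^ j, g • x - x ∈ m ^ (j + 1) := by
    intro j
    induction j with
    | zero => intro x _; simpa using hB0 x
    | succ j ih =>
      intro x hx
      rw [pow_succ] at hx
      refine Submodule.mul_induction_on hx ?_ ?_
      · intro y hy z hz
        have e : g • (y * z) - y * z = (g • y - y) * (g • z) + y * (g • z - z) := by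
          rw [smul_mul']; ring
        rw [e]
        apply Ideal.add_mem
        · rw [pow_succ m (j + 1)]; exact Ideal.mul_mem_mul (ih y hy) (hgm z hz)
        · have e2 : m ^ (j + 1 + 1) = m ^ j * m ^ 2 := by rw [← pow_add]
          rw [e2]; exact Ideal.mul_mem_mul hy (hg z hz)
      · intro y z hy hz
        have e : g • (y + z) - (y + z) = (g • y - y) + (g • z - z) := by rw [smul_add]; ring
        rw [e]; exact Ideal.add_mem _ hy hz
  set n := Nat.card G with hn
  have hgn : g ^ n = 1 := pow_card_eq_one'
  have hunit : IsUnit (algebraMap k A (n : k)) := (IsUnit.mk0 _ hG).map _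
  have hA : ∀ i : ℕ, ∀ a : A, g • a - a ∈ m ^ (i + 1) := by
    intro i
    induction i with
    | zero => intro a; simpa using hB0 a
    | succ i ih =>
      intro a
      have hL1 : ∀ s : ℕ, ∀ b : A, g ^ s • b - b ∈ m ^ (i + 1) := by
        intro s
        induction s with
        | zero => intro b; simp
        | succ s ihs =>
          intro b
          have e : g ^ (s + 1) • b - b = (g • (g ^ s • b) - g ^ s • b) + (g ^ s • b - b) := by
            rw [pow_succ', mul_smul]; ring
          rw [e]; exact Ideal.add_mem _ (ih _) (ihs b)
      set ε := ∑ s ∈ Finset.range n, (g ^ s • a - a) with hε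
      have hεm : ε ∈ m ^ (i + 1) := Ideal.sum_mem _ (fun s _ => hL1 s a)
      have hS : ∑ s ∈ Finset.range n, g ^ s • a = algebraMap k A (n : k) * a + ε := by
        rw [hε, Finset.sum_sub_distrib, Finset.sum_const, Finset.card_range, nsmul_eq_mul,
          map_natCast]
        ring
      have htel : g • (∑ s ∈ Finset.range n, g ^ s • a) - ∑ s ∈ Finset.range n, g ^ s • a = 0 := by
        rw [Finset.smul_sum]
        have h3 : ∀ s, g • g ^ s • a = g ^ (s + 1) • a := fun s => by rw [pow_succ', mul_smul]
        simp_rw [h3]
        rw [← Finset.sum_sub_distrib, Finset.sum_range_sub (fun s => g ^ s • a), hgn]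
        simp
      rw [hS, smul_add, smul_mul', hfix] at htel
      have h1 : algebraMap k A (n : k) * (g • a - a) = -(g • ε - ε) := by
        linear_combination htel
      have h2 : algebraMap k A (n : k) * (g • a - a) ∈ m ^ (i + 1 + 1) := by
        rw [h1]; exact (Ideal.neg_mem_iff _).mpr (hB (i + 1) ε hεm)
      obtain ⟨u, hu⟩ := hunit
      have e3 : g • a - a = ↑u⁻¹ * (algebraMap k A (n : k) * (g • a - a)) := by
        rw [← hu, ← mul_assoc, Units.inv_mul, one_mul]
      rw [e3]; exact Ideal.mul_mem_left _ _ h2
  have hK : ⨅ i, m ^ i = ⊥ :=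
    Ideal.iInf_pow_eq_bot_of_isLocalRing m (IsLocalRing.maximalIdeal.isMaximal A).ne_top
  have hz : g • a - a ∈ (⊥ : Ideal A) := by
    rw [← hK, Ideal.mem_iInf]
    intro i
    cases i with
    | zero => simp
    | succ i => exact hA i a
  exact sub_eq_zero.mp (by simpa using hz)

end Groth.Agent.S19448
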