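import Groth.Statements.S19449
import Mathlib

set_option autoImplicit false
universe u
open SymRep

namespace Groth.Agent.S19449

open MvPolynomial Equiv

abbrev Pn (k : Type u) [Field k] (n : ℕ) := MvPolynomial (Fin n × Fin 2) k

noncomputable def Delta (k : Type u) [Field k] {n : ℕ} (p : Fin n → ℕ × ℕ) : Pn k n :=
  (Matrix.of fun i j : Fin n => (X (i, 0) : Pn k n) ^ (p j).1 * X (i, 1) ^ (p j).2).det

noncomputable def rho (k : Type u) [Field k] {n : ℕ} (σ : Perm (Fin n)) : Pn k n →ₐ[k] Pn k n :=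
  rename (fun v : Fin n × Fin 2 => (σ v.1, v.2))

section
variable {k : Type u} [Field k] {n : ℕ}

lemma rho_mu (σ : Perm (Fin n)) (i : Fin n) (a b : ℕ) :
    rho k σ (X (i, 0) ^ a * X (i, 1) ^ b) = X (σ i, 0) ^ a * X (σ i, 1) ^ b := by
  simp [rho, rename_X]

lemma Delta_expand (p : Fin n → ℕ × ℕ) :
    Delta k p = ∑ σ : Perm (Fin n), ((Perm.sign σ : ℤˣ) : ℤ) •
      ∏ i, ((X (σ i, 0) : Pn k n) ^ (p i).1 * X (σ i, 1) ^ (p i).2) := by
  rw [Delta, Matrix.det_apply]
  refine Finset.sum_congr rfl fun σ _ => ?_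
  rw [Units.smul_def]
  rfl

lemma rho_Delta (σ : Perm (Fin n)) (p : Fin n → ℕ × ℕ) :
    rho k σ (Delta k p) = ((Perm.sign σ : ℤˣ) : ℤ) • Delta k p := by
  rw [Delta, AlgHom.map_det, zsmul_eq_mul, ← Matrix.det_permute]
  congr 1
  ext i j
  simp [rho_mu]

lemma alt_of_mem_span (f : Pn k n)
    (hf : f ∈ Submodule.span k (Set.range (Delta k (n := n)))) (σ : Perm (Fin n)) :
    rho k σ f = ((Perm.sign σ : ℤˣ) : ℤ) • f := by
  induction hf using Submodule.span_induction with
  | mem x hx => obtain ⟨p, rfl⟩ := hx; exact rho_Delta σ p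
  | zero => simp
  | add x y _ _ hx hy => rw [map_add, hx, hy, smul_add]
  | smul c x _ hx => rw [map_smul, hx, smul_comm]

noncomputable def A (k : Type u) [Field k] {n : ℕ} (g : Pn k n) : Pn k n :=
  ∑ σ : Perm (Fin n), ((Perm.sign σ : ℤˣ) : ℤ) • rho k σ g

lemma A_add (g h : Pn k n) : A k (g + h) = A k g + A k h := by
  simp only [A, map_add, smul_add, Finset.sum_add_distrib]

lemma mono_eq (m : (Fin n × Fin 2) →₀ ℕ) (c : k) :
    (monomial m c : Pn k n) =
      C c * ∏ i : Fin n, (X (i, 0) ^ m (i, 0) * X (i, 1) ^ m (i, 1)) := by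
  rw [monomial_eq, Finsupp.prod_fintype _ _ (fun v => pow_zero _), Fintype.prod_prod_type]
  congr 1
  refine Finset.prod_congr rfl fun i _ => ?_
  rw [Fin.prod_univ_two]

def pOf (m : (Fin n × Fin 2) →₀ ℕ) : Fin n → ℕ × ℕ := fun i => (m (i, 0), m (i, 1))

lemma A_monomial (m : (Fin n × Fin 2) →₀ ℕ) (c : k) :
    A k (monomial m c : Pn k n) = c • Delta k (pOf m) := by
  rw [mono_eq, Delta_expand, A, Finset.smul_sum]
  refine Finset.sum_congr rfl fun σ _ => ?_
  have h1 : rho k σ (C c * ∏ i : Fin n, (X (i, 0) ^ m (i, 0) * X (i, 1) ^ m (i, 1)))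
      = C c * ∏ i : Fin n, (X (σ i, 0) ^ m (i, 0) * X (σ i, 1) ^ m (i, 1)) := by
    rw [map_mul, map_prod]
    congr 1
    · simp [rho, rename_C]
    · exact Finset.prod_congr rfl fun i _ => rho_mu σ i _ _
  rw [h1, smul_comm c, smul_eq_C_mul]
  rfl

lemma A_alt (f : Pn k n) (hf : ∀ σ, rho k σ f = ((Perm.sign σ : ℤˣ) : ℤ) • f) :
    A k f = (n.factorial : k) • f := by
  rw [A]
  have : ∀ σ : Perm (Fin n), ((Perm.sign σ : ℤˣ) : ℤ) • rho k σ f = f := by
    intro σ
    rw [hf σ, smul_smul, ← Units.val_mul, ← sq, Int.units_sq, Units.val_one, one_smul]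
  rw [Finset.sum_congr rfl (fun σ _ => this σ), Finset.sum_const, Finset.card_univ,
    Fintype.card_perm, Fintype.card_fin, Nat.cast_smul_eq_nsmul]

lemma A_mem (g : Pn k n) : A k g ∈ Submodule.span k (Set.range (Delta k (n := n))) := by
  refine MvPolynomial.induction_on' g ?_ ?_
  · intro m c
    rw [A_monomial]
    exact Submodule.smul_mem _ _ (Submodule.subset_span ⟨_, rfl⟩)
  · intro p q hp hq
    rw [A_add]; exact Submodule.add_mem _ hp hq

noncomputable def E (r : Fin n → ℕ × ℕ) : (Fin n × Fin 2) →₀ ℕ :=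
  Finsupp.equivFunOnFinite.symm (fun v => if v.2 = 0 then (r v.1).1 else (r v.1).2)

lemma E_zero (r : Fin n → ℕ × ℕ) (i : Fin n) : E r (i, 0) = (r i).1 := by simp [E]
lemma E_one (r : Fin n → ℕ × ℕ) (i : Fin n) : E r (i, 1) = (r i).2 := by simp [E]

lemma E_inj {r r' : Fin n → ℕ × ℕ} (h : E r = E r') : r = r' := by
  funext i
  apply Prod.ext
  · rw [← E_zero, ← E_zero, h]
  · rw [← E_one, ← E_one, h]

lemma prod_mu_eq (r : Fin n → ℕ × ℕ) :
    ∏ i : Fin n, ((X (i, 0) : Pn k n) ^ (r i).1 * X (i, 1) ^ (r i).2) = monomial (E r) 1 := by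
  rw [mono_eq, C_1, one_mul]
  refine Finset.prod_congr rfl fun i _ => ?_
  rw [E_zero, E_one]

lemma Delta_monomials (q : Fin n → ℕ × ℕ) :
    Delta k q = ∑ σ : Perm (Fin n), ((Perm.sign σ : ℤˣ) : ℤ) •
      (monomial (E (q ∘ σ.symm)) (1 : k) : Pn k n) := by
  rw [Delta_expand]
  refine Finset.sum_congr rfl fun σ _ => ?_
  congr 1
  rw [← prod_mu_eq]
  exact Fintype.prod_equiv σ _ _ (fun i => by simp)

open Classical in
lemma coeff_Delta (p q : Fin n → ℕ × ℕ) :
    coeff (E p) (Delta k q) = ∑ σ : Perm (Fin n), ((Perm.sign σ : ℤˣ) : ℤ) •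
      (if q ∘ σ.symm = p then (1 : k) else 0) := by
  rw [Delta_monomials, coeff_sum]
  refine Finset.sum_congr rfl fun σ _ => ?_
  rw [coeff_smul, coeff_monomial]
  congr 1
  by_cases h : q ∘ σ.symm = p
  · rw [if_pos h, if_pos (by rw [h])]
  · rw [if_neg h, if_neg (fun h' => h (E_inj h'))]

lemma comp_symm_eq_iff (P Q : Fin n → ℕ ×ₗ ℕ) (hP : StrictMono P) (hQ : StrictMono Q)
    (σ : Perm (Fin n)) :
    (fun j => ofLex (Q j)) ∘ σ.symm = (fun j => ofLex (P j)) ↔ (Q = P ∧ σ = 1) := by
  constructor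
  · intro h
    have h' : Q ∘ σ.symm = P := by
      funext j
      have := congrFun h j
      simp only [Function.comp_apply] at this
      exact ofLex_inj.mp this
    have hr : Set.range Q = Set.range P := by
      rw [← h', Function.Surjective.range_comp σ.symm.surjective]
    have hQP : Q = P := (hQ.range_inj hP).mp hr
    refine ⟨hQP, ?_⟩
    subst hQP
    ext j
    have := congrFun h' (σ j)
    simp only [Function.comp_apply, Equiv.symm_apply_apply] at this
    have h3 : j = σ j := hQ.injective this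
    rw [← h3]
    rfl
  · rintro ⟨rfl, rfl⟩
    rfl

open Classical in
lemma coeff_Delta_strict (P Q : {p : Fin n → ℕ ×ₗ ℕ // StrictMono p}) :
    coeff (E (fun j => ofLex (P.1 j))) (Delta k (fun j => ofLex (Q.1 j)))
      = if Q = P then (1 : k) else 0 := by
  rw [coeff_Delta]
  by_cases h : Q = P
  · subst h
    rw [if_pos rfl, Finset.sum_eq_single 1]
    · rw [if_pos (by rfl), Equiv.Perm.sign_one, Units.val_one, one_smul]
    · intro σ _ hσ
      rw [if_neg, smul_zero]
      intro h'
      exact hσ ((comp_symm_eq_iff _ _ Q.2 Q.2 σ).mp h').2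
    · intro h; exact absurd (Finset.mem_univ _) h
  · rw [if_neg h]
    apply Finset.sum_eq_zero
    intro σ _
    rw [if_neg, smul_zero]
    intro h'
    exact h (Subtype.ext ((comp_symm_eq_iff _ _ P.2 Q.2 σ).mp h').1)

end

/-- Over a field k of characteristic zero, let the symmetric group S_n act on the polynomial ring in the
2n variables x_i, y_i (i < n; the variable (i, 0) is x_i and (i, 1) is y_i) by permuting the index
i, and for an n-tuple p of pairs (p_j, q_j) of exponents let Δ_p be the determinant det(x_i^{p_j}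
y_i^{q_j}). A polynomial is alternating — each permutation acts on it by its sign — exactly when it
is a k-linear combination of the Δ_p; and the Δ_p for p strictly increasing in the lexicographic
order on pairs (one for each n-element set of exponent pairs) are linearly independent. Hence these
Δ_p form a basis of the space of alternating polynomials. -/
theorem result (k : Type u) [Field k] [CharZero k] (n : ℕ) :
    (∀ f : MvPolynomial (Fin n × Fin 2) k,
      (∀ σ : Equiv.Perm (Fin n),
          MvPolynomial.rename (fun v : Fin n × Fin 2 => (σ v.1, v.2)) f = ((Equiv.Perm.sign σ : ℤˣ) : ℤ) • f) ↔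
        f ∈ Submodule.span k (Set.range fun p : Fin n → ℕ × ℕ =>
          (Matrix.of fun i j : Fin n =>
            (MvPolynomial.X (i, 0) : MvPolynomial (Fin n × Fin 2) k) ^ (p j).1 * MvPolynomial.X (i, 1) ^ (p j).2).det)) ∧
    LinearIndependent k (fun p : {p : Fin n → ℕ ×ₗ ℕ // StrictMono p} =>
      (Matrix.of fun i j : Fin n =>
        (MvPolynomial.X (i, 0) : MvPolynomial (Fin n × Fin 2) k) ^ (ofLex (p.1 j)).1 *
          MvPolynomial.X (i, 1) ^ (ofLex (p.1 j)).2).det) := by
  refine ⟨fun f => ?_, ?_⟩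
  · change (∀ σ : Equiv.Perm (Fin n), rho k σ f = ((Equiv.Perm.sign σ : ℤˣ) : ℤ) • f) ↔
      f ∈ Submodule.span k (Set.range (Delta k (n := n)))
    constructor
    · intro hf
      have h1 := A_alt f hf
      have hne : (n.factorial : k) ≠ 0 := Nat.cast_ne_zero.mpr (Nat.factorial_ne_zero n)
      have : f = (n.factorial : k)⁻¹ • A k f := by
        rw [h1, smul_smul, inv_mul_cancel₀ hne, one_smul]
      rw [this]
      exact Submodule.smul_mem _ _ (A_mem _)
    · intro hf σ; exact alt_of_mem_span f hf σ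
  · change LinearIndependent k (fun p : {p : Fin n → ℕ ×ₗ ℕ // StrictMono p} =>
      Delta k (fun j => ofLex (p.1 j)))
    classical
    rw [linearIndependent_iff']
    intro s g hg P hP
    have h2 : ∑ Q ∈ s, g Q * (if Q = P then (1 : k) else 0) = 0 := by
      have := congrArg (MvPolynomial.coeff (E (fun j => ofLex (P.1 j)))) hg
      rw [MvPolynomial.coeff_sum, MvPolynomial.coeff_zero] at this
      refine Eq.trans (Finset.sum_congr rfl fun Q _ => ?_) this
      rw [MvPolynomial.coeff_smul, smul_eq_mul, coeff_Delta_strict]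
    rw [Finset.sum_eq_single P] at h2
    · simpa using h2
    · intro Q _ hQ; rw [if_neg hQ, mul_zero]
    · intro h; exact absurd hP h

end Groth.Agent.S19449
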