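import Groth.Statements.S19452
import Mathlib
import Groth.Agent.H30.NilFlat2

set_option autoImplicit false
universe u
attribute [local instance] W4c6puncthilbintro.dualAlgebra
open HilbD

namespace Groth.Agent.S19452

open TensorProduct DualNumber TrivSqZeroExt

/-- Flatness transfers along a bijective algebra map. -/
theorem flatX {A B : Type u} [CommRing A] [CommRing B] [Algebra A B]
    (hb : Function.Bijective (algebraMap A B))
    {N : Type u} [AddCommGroup N] [Module B N]
    {Q : Type u} [AddCommGroup Q] [Module A Q] [Module.Flat A Q]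
    (g : N →+ Q) (hg : Function.Bijective g)
    (hgs : ∀ (a : A) (n : N), g (algebraMap A B a • n) = a • g n) :
    Module.Flat B N := by
  letI : Module A N := Module.compHom N (algebraMap A B)
  haveI : IsScalarTower A B N := ⟨fun a b n => by
    show (a • b) • n = algebraMap A B a • (b • n)
    rw [Algebra.smul_def, mul_smul]⟩
  haveI : IsLocalization (⊥ : Submonoid A) B :=
    IsLocalization.of_le_isUnit_of_bijective (by
      intro y hy
      obtain ⟨x, hx, rfl⟩ := Submonoid.mem_map.mp hy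
      rw [Submonoid.mem_bot.mp hx, map_one]
      exact (IsUnit.submonoid B).one_mem) hb
  let gl : N →ₗ[A] Q :=
    { toFun := g
      map_add' := g.map_add
      map_smul' := fun a n => hgs a n }
  haveI : Module.Flat A N := Module.Flat.of_linearEquiv (LinearEquiv.ofBijective gl hg)
  exact (Module.flat_iff_of_isLocalization B (⊥ : Submonoid A) N).mpr inferInstance

set_option maxHeartbeats 1000000 in
/-- Flatness over a ring `S` with a square-zero principal ideal `(e)` such that `S/(e) = A`. -/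
theorem flat_sqzero {S : Type u} [CommRing S] {A : Type u} [CommRing A] [Algebra A S]
    (e : S) (he : e * e = 0) (π : S →+* A) (hπe : π e = 0) (hπ : ∀ a, π (algebraMap A S a) = a)
    (hker : ∀ s, π s = 0 → ∃ t, s = t * e)
    {M : Type u} [AddCommGroup M] [Module S M]
    {Q : Type u} [AddCommGroup Q] [Module A Q] [Module.Flat A Q]
    (q : M →+ Q) (hqs : Function.Surjective q)
    (hqsmul : ∀ (s : S) (m : M), q (s • m) = π s • q m)
    (hkerq : ∀ m, q m = 0 → ∃ m', m = e • m')
    (hε : ∀ m : M, e • m = 0 → q m = 0) :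
    Module.Flat S M := by
  have heI : e ∈ Ideal.span {e} := Ideal.subset_span rfl
  have hnil : IsNilpotent (Ideal.span {e}) := by
    refine ⟨2, ?_⟩
    rw [Ideal.span_singleton_pow, pow_two, he, Ideal.zero_eq_bot]
    exact Ideal.span_singleton_eq_bot.mpr rfl
  have hinj : Function.Injective (LinearMap.rTensor M (Ideal.span {e}).subtype) := by
    have hform : ∀ x : (Ideal.span {e} : Ideal S) ⊗[S] M,
        ∃ m : M, x = (⟨e, heI⟩ : (Ideal.span {e} : Ideal S)) ⊗ₜ[S] m := by
      intro x
      induction x using TensorProduct.induction_on with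
      | zero => exact ⟨0, (TensorProduct.tmul_zero _ _).symm⟩
      | tmul i m =>
        obtain ⟨s, hs⟩ := Ideal.mem_span_singleton'.mp i.2
        refine ⟨s • m, ?_⟩
        rw [show (⟨e, heI⟩ : (Ideal.span {e} : Ideal S)) ⊗ₜ[S] (s • m) =
          (s • (⟨e, heI⟩ : (Ideal.span {e} : Ideal S))) ⊗ₜ[S] m from
          (TensorProduct.smul_tmul _ _ _).symm]
        congr 1
        exact Subtype.ext hs.symm
      | add x y hx hy =>
        obtain ⟨m1, rfl⟩ := hx
        obtain ⟨m2, rfl⟩ := hy
        exact ⟨m1 + m2, (TensorProduct.tmul_add _ _ _).symm⟩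
    rw [injective_iff_map_eq_zero]
    intro x hx
    obtain ⟨m, rfl⟩ := hform x
    rw [LinearMap.rTensor_tmul] at hx
    have h2 : e • m = 0 := by
      have := congrArg (TensorProduct.lid S M) hx
      simpa using this
    obtain ⟨m', rfl⟩ := hkerq m (hε m h2)
    rw [show (⟨e, heI⟩ : (Ideal.span {e} : Ideal S)) ⊗ₜ[S] (e • m') =
      (e • (⟨e, heI⟩ : (Ideal.span {e} : Ideal S))) ⊗ₜ[S] m' from
      (TensorProduct.smul_tmul _ _ _).symm]
    have h0 : e • (⟨e, heI⟩ : (Ideal.span {e} : Ideal S)) = 0 := Subtype.ext he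
    rw [h0, TensorProduct.zero_tmul]
  have hσ0 : ∀ s ∈ (Ideal.span {e} : Ideal S), π s = 0 := by
    intro s hs
    obtain ⟨t, rfl⟩ := Ideal.mem_span_singleton'.mp hs
    rw [map_mul, hπe, mul_zero]
  let σ : (S ⧸ (Ideal.span {e} : Ideal S)) →+* A := Ideal.Quotient.lift _ π hσ0
  have hσmk : ∀ s, σ (Ideal.Quotient.mk _ s) = π s := fun s => rfl
  have hbij : Function.Bijective (algebraMap A (S ⧸ (Ideal.span {e} : Ideal S))) := by
    constructor
    · intro a a' h
      have h1 := congrArg σ h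
      rwa [← Ideal.Quotient.mk_algebraMap, ← Ideal.Quotient.mk_algebraMap, hσmk, hσmk, hπ, hπ]
        at h1
    · intro b
      obtain ⟨s, rfl⟩ := Ideal.Quotient.mk_surjective b
      refine ⟨π s, ?_⟩
      rw [← Ideal.Quotient.mk_algebraMap]
      refine (Ideal.Quotient.eq.mpr ?_).symm
      obtain ⟨t, ht⟩ := hker (s - algebraMap A S (π s)) (by rw [map_sub, hπ, sub_self])
      exact Ideal.mem_span_singleton'.mpr ⟨t, ht.symm⟩
  have hflat : Module.Flat (S ⧸ (Ideal.span {e} : Ideal S))
      ((S ⧸ (Ideal.span {e} : Ideal S)) ⊗[S] M) := by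
    let f : (S ⧸ (Ideal.span {e} : Ideal S)) →+ M →+ Q :=
      { toFun := fun b =>
          { toFun := fun m => σ b • q m
            map_zero' := by simp
            map_add' := fun m m' => by simp [smul_add] }
        map_zero' := by ext m; simp
        map_add' := fun b b' => by ext m; simp [add_smul] }
    have hfapp : ∀ b m, f b m = σ b • q m := fun b m => rfl
    have hf : ∀ (s : S) (b : S ⧸ (Ideal.span {e} : Ideal S)) (m : M),
        f (s • b) m = f b (s • m) := by
      intro s b m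
      obtain ⟨t, rfl⟩ := Ideal.Quotient.mk_surjective b
      have h9 : s • Ideal.Quotient.mk (Ideal.span {e} : Ideal S) t =
        Ideal.Quotient.mk (Ideal.span {e} : Ideal S) (s * t) := rfl
      rw [hfapp, hfapp, hqsmul, h9, hσmk, hσmk, smul_smul, map_mul, mul_comm]
    let g : ((S ⧸ (Ideal.span {e} : Ideal S)) ⊗[S] M) →+ Q := TensorProduct.liftAddHom f hf
    have hgt : ∀ b m, g (b ⊗ₜ[S] m) = σ b • q m := fun b m => by
      show TensorProduct.liftAddHom f hf _ = _
      rw [TensorProduct.liftAddHom_tmul, hfapp]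
    have hg1 : ∀ m : M, g ((1 : S ⧸ (Ideal.span {e} : Ideal S)) ⊗ₜ[S] m) = q m := by
      intro m
      rw [hgt, map_one, one_smul]
    have hform : ∀ x : (S ⧸ (Ideal.span {e} : Ideal S)) ⊗[S] M,
        ∃ m : M, x = (1 : S ⧸ (Ideal.span {e} : Ideal S)) ⊗ₜ[S] m := by
      intro x
      induction x using TensorProduct.induction_on with
      | zero => exact ⟨0, (TensorProduct.tmul_zero _ _).symm⟩
      | tmul b m =>
        obtain ⟨s, rfl⟩ := Ideal.Quotient.mk_surjective b
        refine ⟨s • m, ?_⟩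
        rw [show (1 : S ⧸ (Ideal.span {e} : Ideal S)) ⊗ₜ[S] (s • m) =
          (s • (1 : S ⧸ (Ideal.span {e} : Ideal S))) ⊗ₜ[S] m from
          (TensorProduct.smul_tmul _ _ _).symm]
        congr 1
        have h9 : s • (1 : S ⧸ (Ideal.span {e} : Ideal S)) =
            Ideal.Quotient.mk (Ideal.span {e} : Ideal S) (s * 1) := rfl
        rw [h9, mul_one]
      | add x y hx hy =>
        obtain ⟨m1, rfl⟩ := hx
        obtain ⟨m2, rfl⟩ := hy
        exact ⟨m1 + m2, (TensorProduct.tmul_add _ _ _).symm⟩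
    refine flatX hbij g ⟨?_, ?_⟩ ?_
    · rw [injective_iff_map_eq_zero]
      intro x hx
      obtain ⟨m, rfl⟩ := hform x
      rw [hg1] at hx
      obtain ⟨m', rfl⟩ := hkerq m hx
      rw [show (1 : S ⧸ (Ideal.span {e} : Ideal S)) ⊗ₜ[S] (e • m') =
        (e • (1 : S ⧸ (Ideal.span {e} : Ideal S))) ⊗ₜ[S] m' from
        (TensorProduct.smul_tmul _ _ _).symm]
      have h0 : e • (1 : S ⧸ (Ideal.span {e} : Ideal S)) = 0 := by
        have h9 : e • (1 : S ⧸ (Ideal.span {e} : Ideal S)) =
            Ideal.Quotient.mk (Ideal.span {e} : Ideal S) (e * 1) := rfl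
        rw [h9, mul_one]
        exact Ideal.Quotient.eq_zero_iff_mem.mpr heI
      rw [h0, TensorProduct.zero_tmul]
    · intro x
      obtain ⟨m, rfl⟩ := hqs x
      exact ⟨_, hg1 m⟩
    · intro a x
      obtain ⟨m, rfl⟩ := hform x
      have e7 : ∀ b : S ⧸ (Ideal.span {e} : Ideal S),
          b • ((1 : S ⧸ (Ideal.span {e} : Ideal S)) ⊗ₜ[S] m) = b ⊗ₜ[S] m :=
        fun b => by
          rw [TensorProduct.smul_tmul']
          congr 1
          exact mul_one b
      rw [e7]
      refine Eq.trans ?_ (congrArg (fun z => a • z) (hg1 m).symm)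
      rw [hgt, ← Ideal.Quotient.mk_algebraMap, hσmk, hπ]
  exact Groth.Agent.H30.NilFlat.flat_of_nilpotent (Ideal.span {e}) hnil hflat hinj

theorem flat_dual {A : Type u} [CommRing A] {M : Type u} [AddCommGroup M] [Module (DualNumber A) M]
    {Q : Type u} [AddCommGroup Q] [Module A Q] [Module.Flat A Q]
    (q : M →+ Q) (hqs : Function.Surjective q)
    (hqsmul : ∀ (s : DualNumber A) (m : M), q (s • m) = s.fst • q m)
    (hker : ∀ m, q m = 0 → ∃ m', m = (ε : DualNumber A) • m')
    (hε : ∀ m : M, (ε : DualNumber A) • m = 0 → q m = 0) :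
    Module.Flat (DualNumber A) M := by
  refine flat_sqzero (S := DualNumber A) (A := A) (ε : DualNumber A) DualNumber.eps_mul_eps
    (fstHom A A A : DualNumber A →+* A) rfl (fun a => rfl) ?_ q hqs hqsmul hker hε
  intro s hs
  have hs' : s.fst = 0 := hs
  refine ⟨inl s.snd, ?_⟩
  ext
  · simp [hs']
  · simp [DualNumber.snd_mul]

theorem eps_torsion_of_flat {A : Type u} [CommRing A] {M : Type u} [AddCommGroup M]
    [Module (DualNumber A) M] [Module.Flat (DualNumber A) M] (m : M)
    (h : (ε : DualNumber A) • m = 0) : ∃ m' : M, m = (ε : DualNumber A) • m' := by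
  have h' : ∑ i : Fin 1, (fun _ => (ε : DualNumber A)) i • (fun _ => m) i = 0 := by simpa using h
  obtain ⟨k, a, y, h1, h2⟩ := Module.Flat.isTrivialRelation_of_sum_smul_eq_zero h'
  refine ⟨∑ j, (inl (a 0 j).snd : DualNumber A) • y j, ?_⟩
  have h10 : m = ∑ j, a 0 j • y j := h1 0
  rw [h10, Finset.smul_sum]
  refine Finset.sum_congr rfl fun j _ => ?_
  rw [smul_smul]
  congr 1
  have h3 := h2 j
  simp only [Fin.sum_univ_one] at h3
  have h4 := congrArg TrivSqZeroExt.snd h3
  simp [DualNumber.snd_mul] at h4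
  ext
  · simpa using h4
  · simp [DualNumber.snd_mul]

section Main
variable {A : Type u} [CommRing A] {R : Type u} [CommRing R] [Algebra A R]

theorem dualMap_apply (s : DualNumber A) :
    W4c6puncthilbintro.dualMap A R s =
      inl (algebraMap A R s.fst) + inr (algebraMap A R s.snd) := by
  conv_lhs => rw [← TrivSqZeroExt.inl_fst_add_inr_snd_eq s]
  rw [map_add, W4c6puncthilbintro.dualMap_inl, DualNumber.inr_eq_smul_eps, map_smul,
    W4c6puncthilbintro.dualMap_eps, TrivSqZeroExt.algebraMap_eq_inl']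
  congr 1
  ext
  · simp
  · rw [TrivSqZeroExt.snd_smul, TrivSqZeroExt.snd_inr, DualNumber.snd_eps, Algebra.smul_def, mul_one]

theorem smul_def' (s : DualNumber A) (x : DualNumber R) :
    s • x = W4c6puncthilbintro.dualMap A R s * x := rfl

theorem fst_smul' (s : DualNumber A) (x : DualNumber R) :
    (s • x).fst = algebraMap A R s.fst * x.fst := by
  rw [smul_def', TrivSqZeroExt.fst_mul, dualMap_apply]
  simp

theorem eps_smul' (x : DualNumber R) : (ε : DualNumber A) • x = inr x.fst := by
  rw [smul_def', W4c6puncthilbintro.dualMap_eps]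
  ext <;> simp [DualNumber.snd_mul]

theorem flat_quot (I : Ideal R) [Module.Flat A (R ⧸ I)] (J : Ideal (DualNumber R))
    (hJI : ∀ x ∈ J, x.fst ∈ I)
    (hP : ∀ x : DualNumber R, x.fst ∈ I → ∃ c : R, x - inr c ∈ J)
    (hE : ∀ a : R, (inr a : DualNumber R) ∈ J → a ∈ I) :
    Module.Flat (DualNumber A) (DualNumber R ⧸ J) := by
  let q : (DualNumber R ⧸ J) →+ (R ⧸ I) :=
    (Ideal.Quotient.lift J ((Ideal.Quotient.mk I).comp (fstHom A R R).toRingHom)
      (fun x hx => Ideal.Quotient.eq_zero_iff_mem.mpr (hJI x hx))).toAddMonoidHom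
  have hq : ∀ x : DualNumber R, q (Ideal.Quotient.mk J x) = Ideal.Quotient.mk I x.fst :=
    fun x => rfl
  have hsm : ∀ (s : DualNumber A) (x : DualNumber R),
      s • Ideal.Quotient.mk J x = Ideal.Quotient.mk J (s • x) := fun s x => rfl
  refine flat_dual q ?_ ?_ ?_ ?_
  · intro y
    obtain ⟨r, rfl⟩ := Ideal.Quotient.mk_surjective y
    exact ⟨Ideal.Quotient.mk J (inl r), hq _⟩
  · intro s m
    obtain ⟨x, rfl⟩ := Ideal.Quotient.mk_surjective m
    rw [hsm, hq, hq, fst_smul']
    have e2 : s.fst • Ideal.Quotient.mk I x.fst = Ideal.Quotient.mk I (s.fst • x.fst) := rfl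
    rw [e2, Algebra.smul_def]
  · intro m hm
    obtain ⟨x, rfl⟩ := Ideal.Quotient.mk_surjective m
    rw [hq] at hm
    obtain ⟨c, hc⟩ := hP x (Ideal.Quotient.eq_zero_iff_mem.mp hm)
    refine ⟨Ideal.Quotient.mk J (inl c), ?_⟩
    rw [hsm, eps_smul']
    exact Ideal.Quotient.eq.mpr hc
  · intro m hm
    obtain ⟨x, rfl⟩ := Ideal.Quotient.mk_surjective m
    rw [hsm, eps_smul'] at hm
    rw [hq]
    exact Ideal.Quotient.eq_zero_iff_mem.mpr (hE _ (Ideal.Quotient.eq_zero_iff_mem.mp hm))

theorem mem_lift_of {I : Ideal R} {φ : I →ₗ[R] R ⧸ I} {a b : R} (ha : a ∈ I)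
    (hb : Ideal.Quotient.mk I b = φ ⟨a, ha⟩) {z : DualNumber R} (h1 : z.fst = a)
    (h2 : z.snd = b) : z ∈ W4c6puncthilbintro.liftIdeal I φ := by
  subst h1 h2
  show ∃ h : z.fst ∈ I, Ideal.Quotient.mk I z.snd = φ ⟨z.fst, h⟩
  exact ⟨ha, hb⟩

theorem snd_of_mem {I : Ideal R} {φ : I →ₗ[R] R ⧸ I} {z : DualNumber R}
    (hz : z ∈ W4c6puncthilbintro.liftIdeal I φ) {a : R} (ha : a ∈ I) (h1 : z.fst = a) :
    Ideal.Quotient.mk I z.snd = φ ⟨a, ha⟩ := by
  subst h1
  have hz' : ∃ h : z.fst ∈ I, Ideal.Quotient.mk I z.snd = φ ⟨z.fst, h⟩ := hz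
  obtain ⟨h, h'⟩ := hz'
  exact h'

theorem fst_of_mem {I : Ideal R} {φ : I →ₗ[R] R ⧸ I} {z : DualNumber R}
    (hz : z ∈ W4c6puncthilbintro.liftIdeal I φ) : z.fst ∈ I := by
  have hz' : ∃ h : z.fst ∈ I, Ideal.Quotient.mk I z.snd = φ ⟨z.fst, h⟩ := hz
  exact hz'.1

end Main

/-- Let A be a commutative ring, R a commutative A-algebra free as an A-module, I an ideal of R with R/I
flat over A, and view the dual numbers R[ε] as an algebra over A[ε] (ε ↦ ε). For φ : I → R/I linear
over R, let J_φ be the ideal of elements a + bε of R[ε] with a ∈ I and b ≡ φ(a) modulo I. Then each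
R[ε]/J_φ is flat over A[ε] and J_φ reduces to I modulo ε; the assignment φ ↦ J_φ is injective; and
every ideal J of R[ε] with R[ε]/J flat over A[ε] which reduces to I modulo ε equals some J_φ. Thus
the first-order liftings of I correspond one-to-one to Hom_R(I, R/I) (the tangent space of the
Hilbert scheme at I). -/
theorem result (A : Type u) [CommRing A] (R : Type u) [CommRing R]
    [Algebra A R] [Module.Free A R] (I : Ideal R) [Module.Flat A (R ⧸ I)] :
    (∀ φ : I →ₗ[R] R ⧸ I,
        Module.Flat (DualNumber A) (DualNumber R ⧸ W4c6puncthilbintro.liftIdeal I φ) ∧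
          Ideal.map (TrivSqZeroExt.fstHom A R R) (W4c6puncthilbintro.liftIdeal I φ) = I) ∧
      Function.Injective (W4c6puncthilbintro.liftIdeal I) ∧
      ∀ J : Ideal (DualNumber R), Module.Flat (DualNumber A) (DualNumber R ⧸ J) →
        Ideal.map (TrivSqZeroExt.fstHom A R R) J = I →
          ∃ φ : I →ₗ[R] R ⧸ I, J = W4c6puncthilbintro.liftIdeal I φ := by
  refine ⟨fun φ => ⟨?_, ?_⟩, ?_, ?_⟩
  · refine flat_quot I (W4c6puncthilbintro.liftIdeal I φ) (fun x hx => fst_of_mem hx) ?_ ?_
    · intro x hx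
      obtain ⟨c, hc⟩ := Ideal.Quotient.mk_surjective (φ ⟨x.fst, hx⟩)
      refine ⟨x.snd - c, ?_⟩
      exact mem_lift_of hx hc (by simp) (by simp)
    · intro a ha
      have h0 : (0 : R) ∈ I := I.zero_mem
      have h1 := snd_of_mem ha h0 (by simp)
      have hz : (⟨0, h0⟩ : I) = 0 := rfl
      rw [hz, map_zero] at h1
      exact Ideal.Quotient.eq_zero_iff_mem.mp h1
  · apply le_antisymm
    · rw [Ideal.map_le_iff_le_comap]
      intro x hx
      exact fst_of_mem hx
    · intro a ha
      obtain ⟨c, hc⟩ := Ideal.Quotient.mk_surjective (φ ⟨a, ha⟩)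
      have hz : (TrivSqZeroExt.inl a + TrivSqZeroExt.inr c : DualNumber R) ∈
          W4c6puncthilbintro.liftIdeal I φ := mem_lift_of ha hc (by simp) (by simp)
      have h1 := Ideal.mem_map_of_mem (TrivSqZeroExt.fstHom A R R) hz
      simpa using h1
  · intro φ ψ h
    ext ⟨a, ha⟩
    obtain ⟨c, hc⟩ := Ideal.Quotient.mk_surjective (φ ⟨a, ha⟩)
    have hz : (TrivSqZeroExt.inl a + TrivSqZeroExt.inr c : DualNumber R) ∈
        W4c6puncthilbintro.liftIdeal I φ := mem_lift_of ha hc (by simp) (by simp)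
    rw [h] at hz
    have h1 := snd_of_mem hz ha (by simp)
    rw [← hc, ← h1]
    simp
  · intro J hflat hmap
    haveI := hflat
    have hJI : ∀ x ∈ J, x.fst ∈ I := fun x hx => by
      rw [← hmap]
      exact Ideal.mem_map_of_mem (TrivSqZeroExt.fstHom A R R) hx
    have hsurj : ∀ a ∈ I, ∃ b : R,
        (TrivSqZeroExt.inl a + TrivSqZeroExt.inr b : DualNumber R) ∈ J := by
      intro a ha
      rw [← hmap] at ha
      obtain ⟨x, hx, rfl⟩ := (Ideal.mem_map_iff_of_surjective (TrivSqZeroExt.fstHom A R R)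
        (fun r => ⟨TrivSqZeroExt.inl r, rfl⟩)).mp ha
      refine ⟨x.snd, ?_⟩
      have e : (TrivSqZeroExt.inl ((TrivSqZeroExt.fstHom A R R) x) + TrivSqZeroExt.inr x.snd :
          DualNumber R) = x := TrivSqZeroExt.inl_fst_add_inr_snd_eq x
      rw [e]
      exact hx
    have htors : ∀ b : R, (TrivSqZeroExt.inr b : DualNumber R) ∈ J → b ∈ I := by
      intro b hb
      have h1 : (DualNumber.eps : DualNumber A) • (Ideal.Quotient.mk J (TrivSqZeroExt.inl b)) = 0 := by
        have e : (DualNumber.eps : DualNumber A) • (Ideal.Quotient.mk J (TrivSqZeroExt.inl b)) =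
            Ideal.Quotient.mk J ((DualNumber.eps : DualNumber A) •
              (TrivSqZeroExt.inl b : DualNumber R)) := rfl
        rw [e, eps_smul']
        exact Ideal.Quotient.eq_zero_iff_mem.mpr hb
      obtain ⟨m', hm'⟩ := eps_torsion_of_flat (A := A) (M := DualNumber R ⧸ J) _ h1
      obtain ⟨y, rfl⟩ := Ideal.Quotient.mk_surjective m'
      have e : (DualNumber.eps : DualNumber A) • (Ideal.Quotient.mk J y) =
          Ideal.Quotient.mk J ((DualNumber.eps : DualNumber A) • y) := rfl
      rw [e, eps_smul'] at hm'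
      have h2 := hJI _ (Ideal.Quotient.eq.mp hm')
      simpa using h2
    have huniq : ∀ a b b' : R, (TrivSqZeroExt.inl a + TrivSqZeroExt.inr b : DualNumber R) ∈ J →
        (TrivSqZeroExt.inl a + TrivSqZeroExt.inr b' : DualNumber R) ∈ J →
        Ideal.Quotient.mk I b = Ideal.Quotient.mk I b' := by
      intro a b b' h1 h2
      refine Ideal.Quotient.eq.mpr (htors _ ?_)
      have h3 := J.sub_mem h1 h2
      have e : (TrivSqZeroExt.inl a + TrivSqZeroExt.inr b : DualNumber R) -
          (TrivSqZeroExt.inl a + TrivSqZeroExt.inr b') = TrivSqZeroExt.inr (b - b') := by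
        ext <;> simp
      rwa [e] at h3
    choose β hβ using fun a : I => hsurj a.1 a.2
    let φ : I →ₗ[R] R ⧸ I :=
      { toFun := fun a => Ideal.Quotient.mk I (β a)
        map_add' := fun a a' => by
          rw [← map_add]
          refine huniq ((a + a' : I) : R) _ _ (hβ (a + a')) ?_
          have h3 := J.add_mem (hβ a) (hβ a')
          have e : (TrivSqZeroExt.inl ((a + a' : I) : R) + TrivSqZeroExt.inr (β a + β a') :
              DualNumber R) = (TrivSqZeroExt.inl (a : R) + TrivSqZeroExt.inr (β a)) +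
                (TrivSqZeroExt.inl (a' : R) + TrivSqZeroExt.inr (β a')) := by
            ext <;> simp
          rw [e]
          exact h3
        map_smul' := fun r a => by
          show Ideal.Quotient.mk I (β (r • a)) = Ideal.Quotient.mk I (r * β a)
          refine huniq ((r • a : I) : R) _ _ (hβ (r • a)) ?_
          have h3 := J.mul_mem_left (TrivSqZeroExt.inl r) (hβ a)
          have e : (TrivSqZeroExt.inl ((r • a : I) : R) + TrivSqZeroExt.inr (r * β a) :
              DualNumber R) = TrivSqZeroExt.inl r *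
                (TrivSqZeroExt.inl (a : R) + TrivSqZeroExt.inr (β a)) := by
            ext <;> simp [DualNumber.snd_mul]
          rw [e]
          exact h3 }
    refine ⟨φ, ?_⟩
    ext x
    constructor
    · intro hx
      have hx1 := hJI x hx
      show ∃ h : x.fst ∈ I, Ideal.Quotient.mk I x.snd = φ ⟨x.fst, h⟩
      refine ⟨hx1, ?_⟩
      show Ideal.Quotient.mk I x.snd = Ideal.Quotient.mk I (β ⟨x.fst, hx1⟩)
      refine huniq x.fst _ _ ?_ (hβ ⟨x.fst, hx1⟩)
      rw [TrivSqZeroExt.inl_fst_add_inr_snd_eq]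
      exact hx
    · intro hx
      have hx' : ∃ h : x.fst ∈ I, Ideal.Quotient.mk I x.snd = φ ⟨x.fst, h⟩ := hx
      obtain ⟨h, hx2⟩ := hx'
      have hx3 : Ideal.Quotient.mk I x.snd = Ideal.Quotient.mk I (β ⟨x.fst, h⟩) := hx2
      have hd : x.snd - β ⟨x.fst, h⟩ ∈ I := Ideal.Quotient.eq.mp hx3
      obtain ⟨b', hb'⟩ := hsurj _ hd
      have h5 := J.mul_mem_left (DualNumber.eps : DualNumber R) hb'
      have e5 : (DualNumber.eps : DualNumber R) *
          (TrivSqZeroExt.inl (x.snd - β ⟨x.fst, h⟩) + TrivSqZeroExt.inr b') =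
          TrivSqZeroExt.inr (x.snd - β ⟨x.fst, h⟩) := by
        ext <;> simp [DualNumber.snd_mul]
      rw [e5] at h5
      have h6 := J.add_mem (hβ ⟨x.fst, h⟩) h5
      have e6 : (TrivSqZeroExt.inl x.fst + TrivSqZeroExt.inr (β ⟨x.fst, h⟩) : DualNumber R) +
          TrivSqZeroExt.inr (x.snd - β ⟨x.fst, h⟩) = x := by
        ext <;> simp
      rwa [e6] at h6

end Groth.Agent.S19452
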