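import Groth.Statements.S19453
import Mathlib

set_option autoImplicit false
set_option linter.style.haveILetI false
set_option linter.unusedSectionVars false
universe u
open CAlg

namespace Groth.Agent.S19453

theorem span_eq_of_unit {A : Type*} [CommRing A] {a b g α β : A} (hα : IsUnit α)
    (h : α * a + β * b = g) : Ideal.span {g, b} = Ideal.span {a, b} := by
  obtain ⟨α', hα'⟩ := hα.exists_left_inv
  apply le_antisymm
  · rw [Ideal.span_le]
    rintro x hx
    simp only [Set.mem_insert_iff, Set.mem_singleton_iff] at hx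
    rcases hx with rfl | rfl
    · exact Ideal.mem_span_pair.mpr ⟨α, β, h⟩
    · exact Ideal.subset_span (by simp)
  · rw [Ideal.span_le]
    rintro x hx
    simp only [Set.mem_insert_iff, Set.mem_singleton_iff] at hx
    rcases hx with rfl | rfl
    · exact Ideal.mem_span_pair.mpr ⟨α', -(α' * β), by linear_combination x * hα' + (-α') * h⟩
    · exact Ideal.subset_span (by simp)


/-- Converse direction: let k be a field, A a regular local k-algebra of Krull dimension 2 with maximal
ideal M and residue field k, and I an ideal with A/I of finite dimension n ≥ 1 over k. If some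
element of I does not lie in M^2, then A/I is isomorphic as a k-algebra to k[x]/(x^n): a cluster
lying on a smooth curve germ of a smooth surface is curvilinear, with coordinate ring generated by
one element. -/
theorem result (k : Type u) [Field k]
    (A : Type u) [CommRing A] [Algebra k A] [IsRegularLocalRing A] (hdim : ringKrullDim A = 2)
    (hres : Function.Surjective (algebraMap k (IsLocalRing.ResidueField A)))
    (I : Ideal A) [Module.Finite k (A ⧸ I)] (n : ℕ) (hn : Module.finrank k (A ⧸ I) = n) (h1 : 1 ≤ n)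
    (g : A) (hgI : g ∈ I) (hg : g ∉ IsLocalRing.maximalIdeal A ^ 2) :
    Nonempty ((A ⧸ I) ≃ₐ[k] (Polynomial k ⧸ Ideal.span {(Polynomial.X : Polynomial k) ^ n})) := by
  classical
  have hItop : I ≠ ⊤ := by
    intro h
    have hs : Subsingleton (A ⧸ I) := Ideal.Quotient.subsingleton_iff.mpr h
    have := Module.finrank_zero_of_subsingleton (R := k) (M := A ⧸ I)
    omega
  have hIM : I ≤ IsLocalRing.maximalIdeal A := IsLocalRing.le_maximalIdeal hItop
  have hgM : g ∈ IsLocalRing.maximalIdeal A := hIM hgI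
  have hrank : (IsLocalRing.maximalIdeal A).spanFinrank = 2 := by
    have h1 := IsRegularLocalRing.spanFinrank_maximalIdeal (R := A)
    rw [hdim] at h1
    exact_mod_cast h1
  obtain ⟨s, hs, hspan⟩ := Submodule.FG.exists_span_finset_card_eq_spanFinrank
    (IsNoetherian.noetherian (IsLocalRing.maximalIdeal A))
  rw [hrank, Finset.card_eq_two] at hs
  obtain ⟨a, b, -, rfl⟩ := hs
  have hspan' : Ideal.span {a, b} = IsLocalRing.maximalIdeal A := by
    rw [← hspan]
    simp [Ideal.span]
  have haM : a ∈ IsLocalRing.maximalIdeal A := hspan' ▸ Ideal.subset_span (by simp)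
  have hbM : b ∈ IsLocalRing.maximalIdeal A := hspan' ▸ Ideal.subset_span (by simp)
  obtain ⟨h, hgh⟩ : ∃ h : A, Ideal.span {g, h} = IsLocalRing.maximalIdeal A := by
    have hg' : g ∈ Ideal.span {a, b} := hspan' ▸ hgM
    obtain ⟨α, β, hαβ⟩ := Ideal.mem_span_pair.mp hg'
    by_cases hα : IsUnit α
    · exact ⟨b, (span_eq_of_unit hα hαβ).trans hspan'⟩
    · have hαM : α ∈ IsLocalRing.maximalIdeal A := (IsLocalRing.mem_maximalIdeal α).mpr hα
      have hβ : IsUnit β := by
        by_contra hβ
        have hβM : β ∈ IsLocalRing.maximalIdeal A := (IsLocalRing.mem_maximalIdeal β).mpr hβ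
        apply hg
        rw [← hαβ, pow_two]
        exact Ideal.add_mem _ (Ideal.mul_mem_mul hαM haM) (Ideal.mul_mem_mul hβM hbM)
      refine ⟨a, (span_eq_of_unit (a := b) (b := a) (α := β) (β := α) hβ
        (by rw [← hαβ]; ring)).trans ?_⟩
      rw [Set.pair_comm b a]
      exact hspan'
  have hhM : h ∈ IsLocalRing.maximalIdeal A :=
    hgh ▸ (Ideal.subset_span (by simp) : h ∈ Ideal.span {g, h})
  let π : A →ₐ[k] A ⧸ I := Ideal.Quotient.mkₐ k I
  have hπ : Function.Surjective π := Ideal.Quotient.mkₐ_surjective k I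
  have hπg : π g = 0 := Ideal.Quotient.eq_zero_iff_mem.mpr hgI
  have hdec : ∀ x : A ⧸ I, ∃ (c : k) (y : A ⧸ I), x = algebraMap k (A ⧸ I) c + π h * y := by
    intro x
    obtain ⟨a, rfl⟩ := hπ x
    obtain ⟨c, hc⟩ := hres (IsLocalRing.residue A a)
    rw [IsScalarTower.algebraMap_apply k A (IsLocalRing.ResidueField A),
      IsLocalRing.ResidueField.algebraMap_eq] at hc
    have hmem : a - algebraMap k A c ∈ IsLocalRing.maximalIdeal A := by
      rw [← IsLocalRing.residue_eq_zero_iff, map_sub, hc, sub_self]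
    rw [← hgh] at hmem
    obtain ⟨r, s, hrs⟩ := Ideal.mem_span_pair.mp hmem
    refine ⟨c, π s, ?_⟩
    have e : a = algebraMap k A c + (r * g + s * h) := by rw [hrs]; ring
    have e2 : π a = π (algebraMap k A c) + (π r * π g + π s * π h) := by
      conv_lhs => rw [e]
      simp only [map_add, map_mul]
    rw [e2, hπg, AlgHom.commutes]
    ring
  have hnil : ∃ r : ℕ, (π h) ^ r = 0 := by
    haveI : IsArtinianRing (A ⧸ I) := IsArtinianRing.of_finite k (A ⧸ I)
    obtain ⟨r, y, hy⟩ := IsArtinian.exists_pow_succ_smul_dvd (π h) (1 : A ⧸ I)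
    obtain ⟨y', rfl⟩ := hπ y
    have hu : IsUnit (1 - h * y') := by
      by_contra hnu
      have h1 : 1 - h * y' ∈ IsLocalRing.maximalIdeal A :=
        (IsLocalRing.mem_maximalIdeal _).mpr hnu
      have h2 : h * y' ∈ IsLocalRing.maximalIdeal A := Ideal.mul_mem_right _ _ hhM
      have h3 : (1 : A) ∈ IsLocalRing.maximalIdeal A := by
        have := Ideal.add_mem _ h1 h2
        rwa [sub_add_cancel] at this
      exact (Ideal.ne_top_iff_one _).mp (IsLocalRing.maximalIdeal.isMaximal A).ne_top h3
    refine ⟨r, ?_⟩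
    have h4 : (π h) ^ r * π (1 - h * y') = 0 := by
      rw [smul_eq_mul, smul_eq_mul, mul_one, pow_succ] at hy
      rw [map_sub, map_one, map_mul]
      linear_combination (-1 : A ⧸ I) * hy
    exact (IsUnit.mul_left_eq_zero (hu.map π)).mp h4
  obtain ⟨r, hr⟩ := hnil
  let φ : Polynomial k →ₐ[k] A ⧸ I := Polynomial.aeval (π h)
  have hφX : φ Polynomial.X = π h := Polynomial.aeval_X _
  have hφC : ∀ c : k, φ (Polynomial.C c) = algebraMap k (A ⧸ I) c := fun c =>
    Polynomial.aeval_C _ c
  have hφsurj : Function.Surjective φ := by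
    have key : ∀ m : ℕ, ∀ x : A ⧸ I, ∃ (p : Polynomial k) (y : A ⧸ I),
        x = φ p + (π h) ^ m * y := by
      intro m
      induction m with
      | zero => intro x; exact ⟨0, x, by simp⟩
      | succ m ih =>
        intro x
        obtain ⟨p, y, hxy⟩ := ih x
        obtain ⟨c, y', hy'⟩ := hdec y
        refine ⟨p + Polynomial.C c * Polynomial.X ^ m, y', ?_⟩
        rw [hxy, hy', map_add, map_mul, map_pow, hφX, hφC]
        ring
    intro x
    obtain ⟨p, y, hxy⟩ := key r x
    exact ⟨p, by rw [hxy, hr, zero_mul, add_zero]⟩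
  have hXr : (Polynomial.X : Polynomial k) ^ r ∈ RingHom.ker φ := by
    rw [RingHom.mem_ker, map_pow, hφX]
    exact hr
  obtain ⟨p, hp⟩ := (IsPrincipalIdealRing.principal (RingHom.ker φ)).principal
  have hdvd : p ∣ Polynomial.X ^ r := by
    have h1 : (Polynomial.X : Polynomial k) ^ r ∈ Ideal.span {p} := by
      rw [Ideal.span, ← hp]
      exact hXr
    exact Ideal.mem_span_singleton.mp h1
  obtain ⟨s, -, hs⟩ := (dvd_prime_pow Polynomial.prime_X r).mp hdvd
  have hker : RingHom.ker φ = Ideal.span {(Polynomial.X : Polynomial k) ^ s} := by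
    rw [hp]
    exact Ideal.span_singleton_eq_span_singleton.mpr hs
  let e1 : (Polynomial k ⧸ RingHom.ker φ) ≃ₐ[k] A ⧸ I :=
    Ideal.quotientKerAlgEquivOfSurjective hφsurj
  let e2 : (Polynomial k ⧸ RingHom.ker φ) ≃ₐ[k]
      (Polynomial k ⧸ Ideal.span {(Polynomial.X : Polynomial k) ^ s}) :=
    Ideal.quotientEquivAlgOfEq k hker
  have hsn : s = n := by
    have h1 : Module.finrank k
        (Polynomial k ⧸ Ideal.span {(Polynomial.X : Polynomial k) ^ s}) = s := by
      rw [finrank_quotient_span_eq_natDegree, Polynomial.natDegree_X_pow]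
    have h2 := (e2.symm.trans e1).toLinearEquiv.finrank_eq
    rw [h1, hn] at h2
    exact h2
  subst hsn
  exact ⟨e1.symm.trans e2⟩

end Groth.Agent.S19453
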