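import Groth.Statements.S19456
import Groth.Agent.H95.ZeroSch
import Groth.Agent.H95.DivOfData2
import Groth.Agent.H95.TestPts
import Groth.Agent.H95.RefGen
import Groth.Agent.H18.TensorCoh

set_option autoImplicit false
universe u
open CategoryTheory CategoryTheory.Limits AlgebraicGeometry TopologicalSpace Opposite
open Mero

namespace Groth.Agent.S19456

open Groth.Agent.H18.TensorGen (IsGen)
open Groth.Agent.H18.TensorCoh (exists_affine_gen)
open Groth.Agent.H18.SecTw (sv sv_res res_self')
open Groth.Agent.H95.ZeroSch (ideal_zeroScheme_eq_span regUnit)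
open Groth.Agent.H95.DivMod
open Groth.Agent.H95.RefGen (FreeAt freeAt_of_isGen)
open Groth.Agent.H95.GenIso (GRel)
open Groth.Agent.H95.DivOfData2 (exists_divisor_iso')
open Groth.Agent.H95.TestPts (isUnit_toK_of_regSub)
open Groth.Agent.H8 (section_eq_of_cover)
open TopologicalSpace

/-- With the preceding paragraph: let X be an integral scheme, L an invertible O_X-module and s a
nonzero global section of L, given as a nonzero morphism O_X → L. Then the zero scheme Z(s) of s is
an effective Cartier divisor: there is a divisor D on X (a global section of the sheaf of units of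
K_X modulo units of O_X) which, around every point of X, on some affine open neighbourhood, is the
class of a regular function generating the ideal of Z(s) there; and there is an isomorphism of
O_X-modules L ≅ O_X(D) which carries s to the element 1 of Γ(X, O_X(D)) ⊆ K(X). (The published
statement is for an irreducible variety over an algebraically closed field; this row states it for
an arbitrary integral scheme.) -/
theorem result (X : Scheme.{u}) [AlgebraicGeometry.IsIntegral X]
    (L : X.Modules) (hL : PicF.IsInvertible L) (s : Coh.structureModule X ⟶ L) (hs : s ≠ 0) :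
    ∃ D : Mero.Divisor X, Mero.IsDivOfIdeal D (PicF2.zeroScheme L s) ∧
      ∃ e : L ≅ Mero.divMod D,
        (Mero.divModι D).app ⊤ (e.hom.app ⊤ (SecTwist.val s ⊤)) = 1 := by
  classical
  choose V τ hVaff hxV hτ using fun x : X => exists_affine_gen hL x
  choose g hg using fun x : X => (hτ x).self.2 (sv s (V x))
  have hg' : ∀ x, g x • τ x = sv s (V x) := hg
  have hη : ∀ x : X, genericPoint X ∈ V x := fun x =>
    (genericPoint_specializes x).mem_open (V x).2 (hxV x)
  -- vanishing of one coefficient forces vanishing of all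
  have hA : ∀ x x' : X, g x = 0 → g x' = 0 := by
    intro x x' h0
    have h1 : L.presheaf.germ (V x) (genericPoint X) (hη x) (sv s (V x)) =
        L.presheaf.germ (V x') (genericPoint X) (hη x') (sv s (V x')) := by
      rw [← sv_res s (le_top : V x ≤ ⊤), ← sv_res s (le_top : V x' ≤ ⊤),
        TopCat.Presheaf.germ_res_apply, TopCat.Presheaf.germ_res_apply]
    rw [← hg' x, ← hg' x', h0, zero_smul, map_zero, Mero.germ_smul] at h1
    have h2 := (freeAt_of_isGen (hτ x') (genericPoint X) (hη x')).eq_zero _ h1.symm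
    exact germ_injective_of_isIntegral X (genericPoint X) (hη x') (h2.trans (map_zero _).symm)
  have hB : (∀ x, sv s (V x) = 0) → s = 0 := by
    intro h0
    have hall : ∀ U : X.Opens, sv s U = 0 := by
      intro U
      refine section_eq_of_cover L _ _ (fun z hz => ⟨U ⊓ V z, inf_le_left, ⟨hz, hxV z⟩, ?_⟩)
      rw [sv_res s inf_le_left, map_zero, ← sv_res s (inf_le_right : U ⊓ V z ≤ V z), h0 z,
        map_zero]
    apply L.unitHomEquiv.injective
    apply PresheafOfModules.sections_ext
    intro U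
    rw [SheafOfModules.unitHomEquiv_apply_coe, SheafOfModules.unitHomEquiv_apply_coe]
    exact hall U.unop
  have hgne : ∀ x, g x ≠ 0 := by
    intro x h0
    apply hs
    apply hB
    intro x'
    rw [← hg' x', hA x x' h0, zero_smul]
  have hgreg : ∀ x, g x ∈ Mero.regSub X (V x) := by
    intro x y
    show X.presheaf.germ (V x) y.1 y.2 (g x) ∈ nonZeroDivisors (X.presheaf.stalk y.1)
    rw [mem_nonZeroDivisors_iff_ne_zero]
    exact (map_ne_zero_iff _ (germ_injective_of_isIntegral X y.1 y.2)).mpr (hgne x)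
  obtain ⟨F, hF⟩ : ∃ F : ∀ x : X, (Γ(Mero.kmod X, V x))ˣ,
      ∀ x, (F x : Γ(Mero.kmod X, V x)) = Mero.toK X (V x) (g x) :=
    ⟨fun x => (isUnit_toK_of_regSub (V x) (g x) (hgreg x)).unit, fun x => IsUnit.unit_spec _⟩
  have hFval : ∀ (x : X) (z : V x), (F x : Γ(Mero.kmod X, V x)).1 z =
      algebraMap (X.presheaf.stalk z.1) (Mero.KStalk X z.1)
        (X.presheaf.germ (V x) z.1 z.2 (g x)) := by
    intro x z
    rw [hF x, Mero.toK_apply, kmk_one]
  have hcomp : ∀ (i j : X) (W : X.Opens) (hi : W ≤ V i) (hj : W ≤ V j) (u : Γ(X, W)),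
      L.presheaf.map (homOfLE hj).op (τ j) = u • L.presheaf.map (homOfLE hi).op (τ i) →
      ∀ z : W, (F i : Γ(Mero.kmod X, V i)).1 ⟨z.1, hi z.2⟩ =
        algebraMap (X.presheaf.stalk z.1) (Mero.KStalk X z.1) (X.presheaf.germ W z.1 z.2 u) *
          (F j : Γ(Mero.kmod X, V j)).1 ⟨z.1, hj z.2⟩ := by
    intro i j W hi hj u hu z
    have e1 : X.presheaf.map (homOfLE hi).op (g i) =
        X.presheaf.map (homOfLE hj).op (g j) * u := by
      apply ((hτ i) W hi).1
      show X.presheaf.map (homOfLE hi).op (g i) • L.presheaf.map (homOfLE hi).op (τ i) =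
        (X.presheaf.map (homOfLE hj).op (g j) * u) • L.presheaf.map (homOfLE hi).op (τ i)
      rw [mul_smul, ← hu, ← L.map_smul, ← L.map_smul, hg' i, hg' j, sv_res, sv_res]
    rw [hFval i ⟨z.1, hi z.2⟩, hFval j ⟨z.1, hj z.2⟩, ← map_mul]
    congr 1
    have e2 := congrArg (X.presheaf.germ W z.1 z.2) e1
    rw [map_mul, TopCat.Presheaf.germ_res_apply, TopCat.Presheaf.germ_res_apply] at e2
    rw [e2, mul_comm]
  obtain ⟨D, hf, e, he⟩ := exists_divisor_iso' L V (fun x => ⟨x, hxV x⟩) τ hτ F hcomp
  refine ⟨D, ?_, e, ?_⟩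
  · intro x
    refine ⟨⟨V x, hVaff x⟩, hxV x, g x, hgreg x, ?_, ?_⟩
    · exact ideal_zeroScheme_eq_span hL ⟨V x, hVaff x⟩ (hτ x) (hg' x).symm
    · intro y
      rw [hf x y]
      show (QuotientGroup.mk (unitAt (F x) y) : Mero.Germ X y.1) =
        QuotientGroup.mk (regUnit y (g x) (hgreg x))
      congr 1
      apply Units.ext
      show (F x : Γ(Mero.kmod X, V x)).1 y = _
      rw [hFval x y]
      rfl
  · refine Subtype.ext (funext fun z => ?_)
    have hrel := he ⊤ (sv s ⊤) z.1 (V z.1) le_top le_rfl (g z.1) (by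
      rw [sv_res s (le_top : V z.1 ≤ ⊤), res_self']
      exact (hg' z.1).symm)
    have h1 := congrArg (fun q : Γ(Mero.divMod D, V z.1) => q.1 ⟨z.1, hxV z.1⟩) hrel
    have h2 := smul_res_gen_apply D (F z.1) (hf z.1) (le_refl (V z.1)) (g z.1) ⟨z.1, hxV z.1⟩
    have h3 : (e.hom.app ⊤ (sv s ⊤)).1 z =
        algebraMap (X.presheaf.stalk z.1) (Mero.KStalk X z.1)
          (X.presheaf.germ (V z.1) z.1 (hxV z.1) (g z.1)) *
        (((F z.1)⁻¹ : (Γ(Mero.kmod X, V z.1))ˣ) : Γ(Mero.kmod X, V z.1)).1
          ⟨z.1, hxV z.1⟩ := h1.trans h2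
    show (e.hom.app ⊤ (sv s ⊤)).1 z = 1
    rw [h3, ← hFval z.1 ⟨z.1, hxV z.1⟩]
    exact mul_inv_apply (F z.1) ⟨z.1, hxV z.1⟩

end Groth.Agent.S19456
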