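import Groth.Statements.S19457
import Groth.Agent.H95.ZeroSch2

set_option autoImplicit false
universe u
open CategoryTheory CategoryTheory.Limits AlgebraicGeometry TopologicalSpace Opposite
open PicF2

namespace Groth.Agent.S19457

open Groth.Agent.H18.TensorGen (IsGen)
open Groth.Agent.H18.TensorCoh (exists_affine_gen)
open Groth.Agent.H95.ZeroSch
open Groth.Agent.H8 (section_eq_of_cover)
open TopologicalSpace

/-- Let X be an integral scheme, L an invertible O_X-module and s, s' two nonzero global sections of L,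
given as nonzero morphisms O_X → L. Then the zero schemes Z(s') and Z(s) are equal (as
quasi-coherent ideal sheaves of O_X, that is, as effective Cartier divisors) if and only if s' = h ·
s for some unit h of the ring of global functions Γ(X, O_X). (The published statement is for an
irreducible variety over an algebraically closed field; this row states it for an arbitrary integral
scheme.) -/
theorem result (X : Scheme.{u}) [AlgebraicGeometry.IsIntegral X]
    (L : X.Modules) (hL : PicF.IsInvertible L) (s s' : Coh.structureModule X ⟶ L) (hs : s ≠ 0) (hs' : s' ≠ 0) :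
    PicF2.zeroScheme L s' = PicF2.zeroScheme L s ↔
      ∃ h : Γ(X, ⊤), IsUnit h ∧ (SecTwist.val s' ⊤ : Γ(L, ⊤)) = h • (SecTwist.val s ⊤ : Γ(L, ⊤)) := by
  classical
  constructor
  · intro hZ
    choose V τ hVaff hxV hτ using fun x : X => exists_affine_gen hL x
    choose g hg using fun x : X => (hτ x).self.2 (sv L s (V x))
    choose g' hg' using fun x : X => (hτ x).self.2 (sv L s' (V x))
    have hg1 : ∀ x, g x • τ x = sv L s (V x) := hg
    have hg1' : ∀ x, g' x • τ x = sv L s' (V x) := hg'
    have hη : ∀ x : X, genericPoint X ∈ V x := fun x =>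
      (genericPoint_specializes x).mem_open (V x).2 (hxV x)
    have hw : ∀ x : X, ∃ w : (Γ(X, V x))ˣ, g' x = (w : Γ(X, V x)) * g x := by
      intro x
      haveI : IsDomain Γ(X, V x) := @IsIntegral.component_integral X _ (V x) ⟨⟨x, hxV x⟩⟩
      have hspan : Ideal.span {g' x} = Ideal.span {g x} :=
        (ideal_zeroScheme_eq_span hL ⟨V x, hVaff x⟩ (hτ x) (hg1' x).symm).symm.trans
          ((congrArg (fun I : X.IdealSheafData => I.ideal ⟨V x, hVaff x⟩) hZ).trans
            (ideal_zeroScheme_eq_span hL ⟨V x, hVaff x⟩ (hτ x) (hg1 x).symm))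
      obtain ⟨u, hu⟩ := Ideal.span_singleton_eq_span_singleton.mp hspan
      refine ⟨u⁻¹, ?_⟩
      rw [← hu, mul_comm, mul_assoc, Units.mul_inv, mul_one]
    choose w hw using hw
    have hsw : ∀ x, sv L s' (V x) = (w x : Γ(X, V x)) • sv L s (V x) := by
      intro x
      rw [← hg1' x, hw x, mul_smul, hg1 x]
    have hcompat : TopCat.Presheaf.IsCompatible X.presheaf V (fun x => (w x : Γ(X, V x))) := by
      intro x y
      change X.presheaf.map (homOfLE (inf_le_left : V x ⊓ V y ≤ V x)).op (w x : Γ(X, V x)) =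
        X.presheaf.map (homOfLE (inf_le_right : V x ⊓ V y ≤ V y)).op (w y : Γ(X, V y))
      have h1 := congrArg (L.presheaf.map (homOfLE (inf_le_left : V x ⊓ V y ≤ V x)).op) (hsw x)
      have h2 := congrArg (L.presheaf.map (homOfLE (inf_le_right : V x ⊓ V y ≤ V y)).op) (hsw y)
      rw [L.map_smul, res_secVal, res_secVal] at h1 h2
      have h3 : (X.presheaf.map (homOfLE (inf_le_left : V x ⊓ V y ≤ V x)).op (w x : Γ(X, V x)) -
          X.presheaf.map (homOfLE (inf_le_right : V x ⊓ V y ≤ V y)).op (w y : Γ(X, V y))) •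
          sv L s (V x ⊓ V y) = 0 := by
        rw [sub_smul, ← h1, ← h2, sub_self]
      exact sub_eq_zero.mp (smul_sv_eq_zero hL hs (V x ⊓ V y) ⟨genericPoint X, ⟨hη x, hη y⟩⟩ _ h3)
    have hcover : (⊤ : X.Opens) ≤ iSup V := fun x _ => Opens.mem_iSup.mpr ⟨x, hxV x⟩
    obtain ⟨h0, hh, -⟩ := TopCat.Sheaf.existsUnique_gluing' (F := X.sheaf)
      V ⊤ (fun x => homOfLE le_top) hcover (fun x => (w x : Γ(X, V x))) hcompat
    obtain ⟨h, rfl⟩ : ∃ h : Γ(X, ⊤), h = h0 := ⟨h0, rfl⟩
    have hh' : ∀ x, X.presheaf.map (homOfLE (le_top : V x ≤ ⊤)).op h = (w x : Γ(X, V x)) := hh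
    refine ⟨h, ?_, ?_⟩
    · refine RingedSpace.isUnit_of_isUnit_germ X.toRingedSpace ⊤ h (fun z hz => ?_)
      have h1 : X.presheaf.germ ⊤ z hz h = X.presheaf.germ (V z) z (hxV z) (w z : Γ(X, V z)) := by
        rw [← hh' z, TopCat.Presheaf.germ_res_apply]
      show IsUnit (X.presheaf.germ ⊤ z hz h)
      rw [h1]
      exact (w z).isUnit.map _
    · show sv L s' ⊤ = h • sv L s ⊤
      refine section_eq_of_cover L _ _ (fun z _ => ⟨V z, le_top, hxV z, ?_⟩)
      rw [L.map_smul, res_secVal, res_secVal, hh' z]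
      exact hsw z
  · rintro ⟨h, hu, hh⟩
    obtain ⟨v, hv⟩ := hu
    have hh' : sv L s' ⊤ = h • sv L s ⊤ := hh
    have key : ∀ U : X.Opens, sv L s' U =
        X.presheaf.map (homOfLE (le_top : U ≤ ⊤)).op h • sv L s U := by
      intro U
      rw [← res_secVal L s' (le_top : U ≤ ⊤), hh', L.map_smul, res_secVal]
    have key' : ∀ U : X.Opens, sv L s U =
        X.presheaf.map (homOfLE (le_top : U ≤ ⊤)).op (↑v⁻¹ : Γ(X, ⊤)) • sv L s' U := by
      intro U
      rw [key U, ← mul_smul, ← map_mul, ← hv, Units.inv_mul, map_one, one_smul]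
    show Scheme.IdealSheafData.ofIdeals _ = Scheme.IdealSheafData.ofIdeals _
    congr 1
    funext U
    exact le_antisymm (zeroIdealOn_le_of_smul _ (key U.1)) (zeroIdealOn_le_of_smul _ (key' U.1))

end Groth.Agent.S19457
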