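import Groth.Statements.S19458
import Groth.Agent.H95.ZeroSch2
import Groth.Agent.H95.DivMod
import Groth.Agent.H18.FreeEpi

set_option autoImplicit false
universe u
open CategoryTheory CategoryTheory.Limits AlgebraicGeometry TopologicalSpace Opposite
open Mero

namespace Groth.Agent.S19458


open Groth.Agent.H95.ZeroSch Groth.Agent.H95.DivMod Groth.Agent.H18.TensorGen Groth.Agent.H18
open Opposite

section Helpers

variable {X : Scheme.{u}}

lemma app_res {M N : X.Modules} (φ : M ⟶ N) {V W : X.Opens} (h : W ≤ V)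
    (s : M.presheaf.obj (op V)) :
    φ.app W (M.presheaf.map (homOfLE h).op s) = N.presheaf.map (homOfLE h).op (φ.app V s) :=
  NatTrans.naturality_apply φ.mapPresheaf (homOfLE h).op s

/-- Generators are transported along isomorphisms. -/
lemma isGen_iso {L N : X.Modules} (e : L ≅ N) {V : X.Opens} {ν : Γ(N, V)} (hν : IsGen N V ν) :
    IsGen L V (e.inv.app V ν) := by
  intro V' h
  have hb := hν V' h
  have he : (fun r : Γ(X, V') => r • L.presheaf.map (homOfLE h).op (e.inv.app V ν)) =
      (fun t : Γ(N, V') => e.inv.app V' t) ∘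
        (fun r : Γ(X, V') => r • N.presheaf.map (homOfLE h).op ν) := by
    funext r
    show _ = e.inv.app V' (r • N.presheaf.map (homOfLE h).op ν)
    rw [Scheme.Modules.Hom.app_smul, app_res]
  rw [he]
  exact Function.Bijective.comp (ConcreteCategory.bijective_of_isIso (e.inv.app V')) hb

/-- The section `1` of `O_X(D)` for an effective divisor `D`. -/
noncomputable def oneSec (D : Mero.Divisor X) (hD : Mero.IsEffective D) : Γ(Mero.divMod D, ⊤) :=
  ⟨(1 : Γ(Mero.kmod X, ⊤)).1, ⟨(1 : Γ(Mero.kmod X, ⊤)).2, fun x => by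
    obtain ⟨a, ha⟩ := hD x.1
    rw [divCond_iff D x.1 _ ha]
    refine ⟨a.1, ?_⟩
    rw [IsUnit.unit_spec, Mero.kmod_one_apply, one_mul]⟩⟩

end Helpers

/-- Let X be an integral scheme, L an invertible O_X-module and D an effective Cartier divisor on X (a
global section of the sheaf of units of K_X modulo units of O_X whose germ at every point is the
class of a germ of a regular function) such that O_X(D) is isomorphic to L. Then there is a nonzero
global section s of L, given as a nonzero morphism O_X → L, whose zero scheme Z(s) is D: around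
every point of X, on some affine open neighbourhood, the ideal of Z(s) is generated by a regular
function whose classes are the germs of D there. (The published statement is for an irreducible
variety over an algebraically closed field; this row states it for an arbitrary integral scheme.) -/
theorem result (X : Scheme.{u}) [AlgebraicGeometry.IsIntegral X]
    (L : X.Modules) (hL : PicF.IsInvertible L) (D : Mero.Divisor X) (hD : Mero.IsEffective D)
    (e : L ≅ Mero.divMod D) :
    ∃ s : Coh.structureModule X ⟶ L, s ≠ 0 ∧ Mero.IsDivOfIdeal D (PicF2.zeroScheme L s) := by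
  classical
  let σ : Γ(Mero.divMod D, ⊤) := oneSec D hD
  let s0 : Coh.structureModule X ⟶ Mero.divMod D :=
    (SheafOfModules.unitHomEquiv (R := X.ringCatSheaf) (Mero.divMod D)).symm
      (RestrictUnit.globalSections (Mero.divMod D) σ)
  have hs0 : ∀ V : X.Opens, sv (Mero.divMod D) s0 V =
      (Mero.divMod D).presheaf.map (homOfLE (le_top : V ≤ ⊤)).op σ := by
    intro V
    have h := FreeEpi.unitHomEquiv_symm_app_apply (Mero.divMod D)
      (RestrictUnit.globalSections (Mero.divMod D) σ) V 1
    rw [one_smul] at h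
    exact h
  have hval : ∀ (V : X.Opens) (z : V), (sv (Mero.divMod D) s0 V).1 z = 1 := by
    intro V z
    rw [hs0 V]
    rfl
  have hcomp : ∀ V : X.Opens, sv L (s0 ≫ e.inv) V = e.inv.app V (sv (Mero.divMod D) s0 V) :=
    fun V => rfl
  refine ⟨s0 ≫ e.inv, ?_, ?_⟩
  · intro hs
    obtain ⟨x⟩ : Nonempty X := inferInstance
    have h1 : sv L (s0 ≫ e.inv) ⊤ = 0 := by
      rw [hs]
      rfl
    rw [hcomp] at h1
    have hinj : Function.Injective (e.inv.app ⊤) :=
      (ConcreteCategory.bijective_of_isIso (e.inv.app ⊤)).1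
    have h2 : sv (Mero.divMod D) s0 ⊤ = 0 := hinj (h1.trans (map_zero _).symm)
    have h3 := hval ⊤ ⟨x, trivial⟩
    rw [h2] at h3
    have h4 : (0 : Γ(Mero.divMod D, ⊤)).1 ⟨x, trivial⟩ = (0 : Mero.KStalk X x) := rfl
    rw [h4] at h3
    exact zero_ne_one h3
  · intro x
    obtain ⟨U, hxU, F, hF⟩ := D.2 x
    obtain ⟨a, ha⟩ := hD x
    have hrange : (F : Γ(Mero.kmod X, U)).1 ⟨x, hxU⟩ ∈
        (algebraMap (X.presheaf.stalk x) (Mero.KStalk X x)).range := by
      have hmk : (QuotientGroup.mk (IsLocalization.map_units (Mero.KStalk X x) a).unit :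
          Mero.Germ X x) = QuotientGroup.mk (unitAt F ⟨x, hxU⟩) :=
        ha.symm.trans (hF ⟨x, hxU⟩)
      have h1 := mul_mem_range_of_mk_eq x _ _ hmk 1
        ⟨a.1, by rw [IsUnit.unit_spec, one_mul]⟩
      rw [one_mul] at h1
      exact h1
    obtain ⟨W, hWU, hxW, r, hr⟩ :=
      exists_local_section U (F : Γ(Mero.kmod X, U)) x hxU hrange
    obtain ⟨W', hW'aff, hxW', hW'W⟩ := Opens.isBasis_iff_nbhd.mp X.isBasis_affineOpens hxW
    have hW'U : W' ≤ U := hW'W.trans hWU
    let F' : (Γ(Mero.kmod X, W'))ˣ := resUnit F hW'U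
    have hF' : ∀ z : W', D.1 z.1 = Mero.germOf F' z := fun z => by
      rw [germOf_resUnit]
      exact hF ⟨z.1, hW'U z.2⟩
    let q0 : Γ(X, W') := X.presheaf.map (homOfLE hW'W).op r
    have hq : ∀ z : W', (F' : Γ(Mero.kmod X, W')).1 z =
        algebraMap (X.presheaf.stalk z.1) (Mero.KStalk X z.1)
          (X.presheaf.germ W' z.1 z.2 q0) := fun z => by
      have h1 : (F' : Γ(Mero.kmod X, W')).1 z =
          (F : Γ(Mero.kmod X, U)).1 ⟨z.1, hW'U z.2⟩ := rfl
      rw [h1, hr z.1 (hW'W z.2)]
      show _ = algebraMap _ _ (X.presheaf.germ W' z.1 z.2 (X.presheaf.map (homOfLE hW'W).op r))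
      rw [TopCat.Presheaf.germ_res_apply]
    have hq0 : q0 ∈ Mero.regSub X W' := fun z => by
      have hu : IsUnit (algebraMap (X.presheaf.stalk z.1) (Mero.KStalk X z.1)
          (X.presheaf.germ W' z.1 z.2 q0)) := by
        rw [← hq z]
        exact (unitAt F' z).isUnit
      exact mem_nonZeroDivisors_of_injective (Mero.algebraMap_KStalk_injective z.1)
        hu.mem_nonZeroDivisors
    have hkey : sv (Mero.divMod D) s0 W' = q0 • gen D F' hF' := by
      refine Subtype.ext (funext fun z => ?_)
      have h1 : (q0 • gen D F' hF').1 z = X.presheaf.germ W' z.1 z.2 q0 •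
          ((F'⁻¹ : (Γ(Mero.kmod X, W'))ˣ) : Γ(Mero.kmod X, W')).1 z := rfl
      rw [hval W' z, h1, Algebra.smul_def, ← hq z]
      exact (mul_inv_apply F' z).symm
    have hf : sv L (s0 ≫ e.inv) W' = q0 • e.inv.app W' (gen D F' hF') := by
      rw [hcomp, hkey, Scheme.Modules.Hom.app_smul]
    refine ⟨⟨W', hW'aff⟩, hxW', q0, hq0,
      ideal_zeroScheme_eq_span hL ⟨W', hW'aff⟩ (isGen_iso e (isGen_gen D F' hF')) hf,
      fun y => ?_⟩
    rw [hF' y, germOf_eq]
    congr 1
    apply Units.ext
    rw [unitAt_val, hq y]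
    rfl

end Groth.Agent.S19458
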