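import Groth.Statements.S19459
import Groth.Agent.H95.ZeroSch

set_option autoImplicit false
universe u
open CategoryTheory CategoryTheory.Limits AlgebraicGeometry TopologicalSpace Opposite
open Mero

namespace Groth.Agent.S19459

open Groth.Agent.H18.TensorGen (IsGen exists_isGen_pair isGen_tm isInvertible_tensorMod)
open Groth.Agent.H18.SecTw (sv tm tm_smul_left tm_smul_right)
open Groth.Agent.H95.ZeroSch (ideal_zeroScheme_eq_span regUnit regUnit_mul regUnit_res)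
open TopologicalSpace

/-- Let X be an integral scheme, L₁ and L₂ invertible O_X-modules with nonzero global sections s₁ and s₂
(nonzero morphisms O_X → L₁ and O_X → L₂), and let D₁, D₂ be the effective Cartier divisors of the
zero schemes Z(s₁), Z(s₂): divisors on X (global sections of the sheaf of units of K_X modulo units
of O_X) which around every point, on some affine open neighbourhood, are the class of a regular
function generating the ideal of the zero scheme. Then the divisor D₁ · D₂ (multiplicative notation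
for the sum D₁ + D₂) is in the same sense the effective Cartier divisor of the zero scheme of the
global section s₁ ⊗ s₂ of the tensor product L₁ ⊗ L₂; that is, Z(s₁ ⊗ s₂) = Z(s₁) + Z(s₂). (The
published statement is for an irreducible variety over an algebraically closed field; this row
states it for an arbitrary integral scheme.) -/
theorem result (X : Scheme.{u}) [AlgebraicGeometry.IsIntegral X]
    (L₁ L₂ : X.Modules) (hL₁ : PicF.IsInvertible L₁) (hL₂ : PicF.IsInvertible L₂)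
    (s₁ : Coh.structureModule X ⟶ L₁) (s₂ : Coh.structureModule X ⟶ L₂) (hs₁ : s₁ ≠ 0) (hs₂ : s₂ ≠ 0)
    (D₁ D₂ : Mero.Divisor X) (hD₁ : Mero.IsDivOfIdeal D₁ (PicF2.zeroScheme L₁ s₁))
    (hD₂ : Mero.IsDivOfIdeal D₂ (PicF2.zeroScheme L₂ s₂)) :
    Mero.IsDivOfIdeal (D₁ * D₂) (PicF2.zeroScheme (CohB1.tensorMod L₁ L₂) (SecTwist.tmulHom s₁ s₂)) := by
  intro x
  obtain ⟨U₁, hx₁, f₁, hf₁, hI₁, hDf₁⟩ := hD₁ x
  obtain ⟨U₂, hx₂, f₂, hf₂, hI₂, hDf₂⟩ := hD₂ x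
  obtain ⟨V, α, β, hxV, hα, hβ⟩ := exists_isGen_pair hL₁ hL₂ x
  have hxW : x ∈ (U₁ : X.Opens) ⊓ (U₂ : X.Opens) ⊓ V := ⟨⟨hx₁, hx₂⟩, hxV⟩
  obtain ⟨_, ⟨U, hU, rfl⟩, hxU, hUle⟩ := X.isBasis_affineOpens.exists_subset_of_mem_open hxW
    ((U₁ : X.Opens) ⊓ (U₂ : X.Opens) ⊓ V).2
  have hUU₁ : U ≤ (U₁ : X.Opens) := fun y hy => (hUle hy).1.1
  have hUU₂ : U ≤ (U₂ : X.Opens) := fun y hy => (hUle hy).1.2
  have hUV : U ≤ V := fun y hy => (hUle hy).2
  obtain ⟨Ua, hUa⟩ : ∃ Ua : X.affineOpens, Ua = ⟨U, hU⟩ := ⟨_, rfl⟩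
  have hα' := hα.res hUV
  have hβ' := hβ.res hUV
  obtain ⟨a, ha⟩ := hα'.self.2 (sv s₁ U)
  obtain ⟨b, hb⟩ := hβ'.self.2 (sv s₂ U)
  have ha' : a • L₁.presheaf.map (homOfLE hUV).op α = sv s₁ U := ha
  have hb' : b • L₂.presheaf.map (homOfLE hUV).op β = sv s₂ U := hb
  have h3 : sv (SecTwist.tmulHom s₁ s₂) U = (a * b) • tm L₁ L₂
      (L₁.presheaf.map (homOfLE hUV).op α) (L₂.presheaf.map (homOfLE hUV).op β) := by
    have h4 : sv (SecTwist.tmulHom s₁ s₂) U = tm L₁ L₂ (sv s₁ U) (sv s₂ U) :=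
      SecTwist.val_tmulHom s₁ s₂ U
    rw [h4, ← ha', ← hb', tm_smul_left, tm_smul_right, mul_smul]
  have e1 : (PicF2.zeroScheme L₁ s₁).ideal ⟨U, hU⟩ = Ideal.span {a} :=
    ideal_zeroScheme_eq_span hL₁ ⟨U, hU⟩ hα' ha'.symm
  have e2 : (PicF2.zeroScheme L₂ s₂).ideal ⟨U, hU⟩ = Ideal.span {b} :=
    ideal_zeroScheme_eq_span hL₂ ⟨U, hU⟩ hβ' hb'.symm
  have e3 : (PicF2.zeroScheme (CohB1.tensorMod L₁ L₂) (SecTwist.tmulHom s₁ s₂)).ideal ⟨U, hU⟩ =
      Ideal.span {a * b} :=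
    ideal_zeroScheme_eq_span (isInvertible_tensorMod hL₁ hL₂) ⟨U, hU⟩ (isGen_tm hα' hβ') h3
  have r1 : (PicF2.zeroScheme L₁ s₁).ideal ⟨U, hU⟩ =
      Ideal.span {(X.presheaf.map (homOfLE hUU₁).op).hom f₁} := by
    rw [← (PicF2.zeroScheme L₁ s₁).map_ideal (U := ⟨U, hU⟩) (V := U₁) hUU₁, hI₁, Ideal.map_span,
      Set.image_singleton]
    rfl
  have r2 : (PicF2.zeroScheme L₂ s₂).ideal ⟨U, hU⟩ =
      Ideal.span {(X.presheaf.map (homOfLE hUU₂).op).hom f₂} := by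
    rw [← (PicF2.zeroScheme L₂ s₂).map_ideal (U := ⟨U, hU⟩) (V := U₂) hUU₂, hI₂, Ideal.map_span,
      Set.image_singleton]
    rfl
  have hf₁' : (X.presheaf.map (homOfLE hUU₁).op).hom f₁ ∈ Mero.regSub X U :=
    Mero.regSub_res (homOfLE hUU₁) hf₁
  have hf₂' : (X.presheaf.map (homOfLE hUU₂).op).hom f₂ ∈ Mero.regSub X U :=
    Mero.regSub_res (homOfLE hUU₂) hf₂
  refine ⟨⟨U, hU⟩, hxU, (X.presheaf.map (homOfLE hUU₁).op).hom f₁ *
    (X.presheaf.map (homOfLE hUU₂).op).hom f₂, Submonoid.mul_mem _ hf₁' hf₂', ?_, ?_⟩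
  · rw [e3, ← Ideal.span_singleton_mul_span_singleton, ← e1, ← e2, r1, r2,
      Ideal.span_singleton_mul_span_singleton]
  · intro y
    have h1 := hDf₁ ⟨y.1, hUU₁ y.2⟩
    have h2 := hDf₂ ⟨y.1, hUU₂ y.2⟩
    have hmul : (D₁ * D₂).1 y.1 = D₁.1 y.1 * D₂.1 y.1 := rfl
    rw [hmul, h1, h2]
    show (QuotientGroup.mk (regUnit (⟨y.1, hUU₁ y.2⟩ : (U₁ : X.Opens)) f₁ hf₁) : Mero.Germ X y.1) *
        QuotientGroup.mk (regUnit (⟨y.1, hUU₂ y.2⟩ : (U₂ : X.Opens)) f₂ hf₂) =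
      QuotientGroup.mk (regUnit y ((X.presheaf.map (homOfLE hUU₁).op).hom f₁ *
        (X.presheaf.map (homOfLE hUU₂).op).hom f₂) (Submonoid.mul_mem _ hf₁' hf₂'))
    rw [regUnit_mul y _ _ hf₁' hf₂', ← regUnit_res hUU₁ y f₁ hf₁, ← regUnit_res hUU₂ y f₂ hf₂,
      QuotientGroup.mk_mul]

end Groth.Agent.S19459
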