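import Groth.Statements.S19460
import Mathlib
import Groth.Agent.S10936
import Groth.Agent.H70.RelDimPointwise

set_option autoImplicit false
universe u
open CategoryTheory CategoryTheory.Limits AlgebraicGeometry
open Variety

namespace Groth.Agent.S19460

set_option linter.style.haveILetI false
open IsLocalRing

set_option maxHeartbeats 1600000 in
/-- injective cotangent maps at all closed points ⟹ `f` smooth (extracted from `S10936.main`) -/
theorem smooth_of_injective (k : Type u) [Field k] [IsAlgClosed k]
    {X Y : Scheme.{u}} (qX : X ⟶ Spec (CommRingCat.of k)) (qY : Y ⟶ Spec (CommRingCat.of k))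
    [LocallyOfFiniteType qX] [Smooth qX]
    [LocallyOfFiniteType qY] [Smooth qY]
    (f : X ⟶ Y) (hf : f ≫ qY = qX)
    (hinj : ∀ x : X, IsClosed ({x} : Set ↥X) →
        Function.Injective (FixPt.cotangentMapAt f x (f.base x) rfl)) :
    Smooth f := by
  haveI hlftc : LocallyOfFiniteType (f ≫ qY) := by rw [hf]; infer_instance
  haveI hsmc : Smooth (f ≫ qY) := by rw [hf]; infer_instance
  haveI : LocallyOfFiniteType f := locallyOfFiniteType_of_comp f qY
  haveI : IsLocallyNoetherian Y := LocallyOfFiniteType.isLocallyNoetherian qY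
  haveI : LocallyOfFinitePresentation f := inferInstance
  have hregY : ∀ y : Y, IsRegularLocalRing (Y.presheaf.stalk y) := fun y =>
    Groth.Agent.H70.RegBaseFlat.regular_stalk_of_mem_smoothLocus k qY y
      (by rw [qY.smoothLocus_eq_top]; trivial)
  have hregX : ∀ x : X, IsRegularLocalRing (X.presheaf.stalk x) := fun x =>
    Groth.Agent.H70.RegBaseFlat.regular_stalk_of_mem_smoothLocus k (f ≫ qY) x
      (by rw [(f ≫ qY).smoothLocus_eq_top]; trivial)
  have key : ∀ x : X, IsClosed ({x} : Set X) → x ∈ f.smoothLocus := by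
    intro x hx
    have hinjx := (Groth.Agent.S10936.cotangentMapAt_injective_iff f x).mp (hinj x hx)
    haveI := hregY (f x)
    haveI := hregX x
    obtain ⟨e⟩ := Groth.Agent.H29.FiberStalkAt.nonempty_fiberStalkEquiv f x
    haveI : IsLocalRing (X.presheaf.stalk x ⧸ Ideal.map (f.stalkMap x).hom
        (maximalIdeal (Y.presheaf.stalk (f.base x)))) := RingEquiv.isLocalRing e.symm
    have hres : Function.Surjective (ResidueField.map (f.stalkMap x).hom) :=
      (Groth.Agent.H70.ClosedPtAlgClosed.residueFieldMap_bijective (f ≫ qY) qY f rfl x hx).2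
    obtain ⟨hreg, hdim⟩ := Groth.Agent.H70.CotangentInj.regular_fibre_of_injective
      (f.stalkMap x).hom (Groth.Agent.S10936.hle f x) hres hinjx
    haveI := hreg
    have hfib : IsRegularLocalRing ((f.fiber (f x)).presheaf.stalk (f.asFiber x)) :=
      IsRegularLocalRing.of_ringEquiv e
    rw [ringKrullDim_eq_of_ringEquiv e] at hdim
    have hflat := Groth.Agent.H70.RegBaseFlat.flat_stalkMap_of_regular f x (hregY (f x)) hfib hdim
    have hy := Groth.Agent.H70.ClosedPtAlgClosed.isClosed_singleton_image (f ≫ qY) qY f rfl x hx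
    haveI : IsAlgClosed (Y.residueField (f x)) :=
      Groth.Agent.H70.ClosedPtAlgClosed.isAlgClosed_residueField qY (f x) hy
    haveI : LocallyOfFinitePresentation (f.fiberToSpecResidueField (f x)) :=
      MorphismProperty.pullback_snd (P := @LocallyOfFinitePresentation) _ _ inferInstance
    haveI : LocallyOfFiniteType (f.fiberToSpecResidueField (f x)) := inferInstance
    have hz := Groth.Agent.S12422.smooth_of_regular (Y.residueField (f x))
      (f.fiberToSpecResidueField (f x)) (f.asFiber x) hfib
    exact (Groth.Agent.H49.SmoothFibre.mem_smoothLocus_iff_flat_and_fiber f x (f x) rfl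
      (f.asFiber x) (f.fiberι_asFiber x)).mpr ⟨hflat, hz⟩
  haveI : JacobsonSpace X := LocallyOfFiniteType.jacobsonSpace (f ≫ qY)
  have htop : f.smoothLocus = ⊤ := by
    by_contra hne
    have hZ : ((f.smoothLocus : Set X)ᶜ).Nonempty := by
      rw [Set.nonempty_compl]
      intro h
      exact hne (TopologicalSpace.Opens.ext h)
    obtain ⟨x, hxZ, hxc⟩ := nonempty_inter_closedPoints hZ
      f.smoothLocus.isOpen.isClosed_compl.isLocallyClosed
    exact hxZ (key x hxc)
  exact Scheme.Hom.smoothLocus_eq_top_iff.mp htop

set_option maxHeartbeats 1600000 in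
theorem main (k : Type u) [Field k] [IsAlgClosed k]
    {X Y : Scheme.{u}} (qX : X ⟶ Spec (CommRingCat.of k)) (qY : Y ⟶ Spec (CommRingCat.of k))
    [AlgebraicGeometry.IsIntegral X] [LocallyOfFiniteType qX] [Smooth qX]
    [AlgebraicGeometry.IsIntegral Y] [LocallyOfFiniteType qY] [Smooth qY]
    (f : X ⟶ Y) (hf : f ≫ qY = qX) (dX dY : ℕ) (hX : topologicalKrullDim ↥X = dX)
    (hY : topologicalKrullDim ↥Y = dY)
    (hT : ∀ x : X, IsClosed ({x} : Set ↥X) →
      Function.Injective (FixPt.cotangentMapAt f x (f.base x) rfl)) :
    DenseRange f.base ∧ dY ≤ dX ∧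
      ∀ y : Y, IsClosed ({y} : Set ↥Y) → y ∈ Set.range f.base →
        Smooth (f.fiberToSpecResidueField y) ∧
          ∀ Z ∈ irreducibleComponents ↥(f.fiber y),
            topologicalKrullDim ↥Z = ((dX - dY : ℕ) : WithBot ℕ∞) := by
  haveI hsm : Smooth f := smooth_of_injective k qX qY f hf hT
  haveI hlftc : LocallyOfFiniteType (f ≫ qY) := by rw [hf]; infer_instance
  haveI : LocallyOfFiniteType f := locallyOfFiniteType_of_comp f qY
  -- dimension count at one point
  obtain ⟨x₀⟩ : Nonempty X := inferInstance
  have hXx : ∀ x : X, FlatMor.fibreDimAt (f ≫ qY) x = ((dX : ℕ) : WithBot ℕ∞) := by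
    intro x
    rw [Groth.Agent.S12422.fibreDimAt_eq_localDim k (f ≫ qY) x]
    haveI : IrreducibleSpace X := inferInstance
    exact Groth.Agent.S12422.localDim_eq_of_irreducible k (f ≫ qY) dX hX x
  have hYy : ∀ y : Y, FlatMor.fibreDimAt qY y = ((dY : ℕ) : WithBot ℕ∞) := by
    intro y
    rw [Groth.Agent.S12422.fibreDimAt_eq_localDim k qY y]
    haveI : IrreducibleSpace Y := inferInstance
    exact Groth.Agent.S12422.localDim_eq_of_irreducible k qY dY hY y
  have hdim : ∀ x : X, dY ≤ dX ∧ FlatMor.fibreDimAt f x = ((dX - dY : ℕ) : WithBot ℕ∞) := by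
    intro x
    have hxs : x ∈ f.smoothLocus := by rw [f.smoothLocus_eq_top]; trivial
    obtain ⟨U, hU, V, hV, hxV, e, m, hm⟩ :=
      Groth.Agent.H70.SmoothLocusChart.exists_chart_of_mem_smoothLocus f x hxs
    have h1 := Groth.Agent.H70.SmoothCharts.fibreDimAt_of_chart f hU hV e m hm x hxV
    have hflat := Groth.Agent.H49.SmoothFibre.flat_stalkMap_of_mem_smoothLocus f x hxs
    have hadd0 := (Groth.Agent.H70.FibDimComp.fibreDimAt_comp f qY x).2 hflat
    rw [hXx x, hYy (f x), h1] at hadd0
    have h2 : dX = m + dY := by exact_mod_cast hadd0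
    refine ⟨by omega, ?_⟩
    rw [h1]
    have : m = dX - dY := by omega
    rw [this]
  refine ⟨?_, (hdim x₀).1, fun y hy hyr =>
    ⟨MorphismProperty.pullback_snd (P := @Smooth) _ _ inferInstance, ?_⟩⟩
  · -- dense range: open nonempty in irreducible
    have hopen : IsOpen (Set.range f.base) := f.isOpenMap.isOpen_range
    exact hopen.dense ⟨f.base x₀, x₀, rfl⟩
  · exact (Groth.Agent.H70.RelDimPointwise.hasRelDim_iff f (dX - dY)).mpr
      (fun x => (hdim x).2) y


/-- Let k be an algebraically closed field, X and Y smooth irreducible varieties over k (integral,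
separated, of finite type and smooth over k) of dimensions dX and dY, and f : X → Y a k-morphism
which is smooth in the sense that at every closed point x of X the tangent map T_x X → T_{f(x)} Y is
surjective, equivalently the cotangent map m_{f(x)}/m_{f(x)}² → m_x/m_x² of the local rings is
injective. Then f is dominant, dY ≤ dX, and for every closed point y of Y in the image of f the
scheme-theoretic fibre X_y is smooth over the residue field κ(y) (which is k) and each of its
irreducible components has dimension dX − dY. (The published statement is for varieties in the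
classical sense, with the fibre carrying its reduced structure, and it also identifies the tangent
space of the fibre at each point with the kernel of the tangent map; that identification is not part
of this row.) -/
theorem result (k : Type u) [Field k] [IsAlgClosed k]
    {X Y : Scheme.{u}} (qX : X ⟶ Spec (CommRingCat.of k)) (qY : Y ⟶ Spec (CommRingCat.of k))
    [AlgebraicGeometry.IsIntegral X] [IsSeparated qX] [LocallyOfFiniteType qX] [QuasiCompact qX] [Smooth qX]
    [AlgebraicGeometry.IsIntegral Y] [IsSeparated qY] [LocallyOfFiniteType qY] [QuasiCompact qY] [Smooth qY]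
    (f : X ⟶ Y) (hf : f ≫ qY = qX) (dX dY : ℕ) (hX : topologicalKrullDim ↥X = dX)
    (hY : topologicalKrullDim ↥Y = dY)
    (hT : ∀ x : X, IsClosed ({x} : Set ↥X) → Function.Injective (FixPt.cotangentMapAt f x (f.base x) rfl)) :
    DenseRange f.base ∧ dY ≤ dX ∧
      ∀ y : Y, IsClosed ({y} : Set ↥Y) → y ∈ Set.range f.base →
        Smooth (f.fiberToSpecResidueField y) ∧
          ∀ Z ∈ irreducibleComponents ↥(f.fiber y),
            topologicalKrullDim ↥Z = ((dX - dY : ℕ) : WithBot ℕ∞) := by
  exact main k qX qY f hf dX dY hX hY hT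

end Groth.Agent.S19460
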