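import Groth.Statements.S19461
import Groth.Agent.H2.LocalCriterionMain
import Mathlib.RingTheory.AdicCompletion.LocalRing
import Mathlib.RingTheory.AdicCompletion.AsTensorProduct
import Mathlib.RingTheory.Flat.FaithfullyFlat.Algebra

set_option autoImplicit false
universe u
open CAlg

namespace Groth.Agent.S19461

/-- The implication from isomorphic completions to flat and unramified. Let A → B be a local
homomorphism of Noetherian local rings and ψ a ring map from the completion of A at its maximal
ideal to that of B whose composite with A → A^ is A → B → B^. If ψ is bijective, then A → B is flat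
and the maximal ideal of A generates the maximal ideal of B. (The published statement is the
implication, for a morphism of algebraic varieties over an algebraically closed field, from
isomorphic induced maps of completed local rings at every point to flat and unramified; its proof is
this local-ring argument, valid for any Noetherian local rings. The converse implication is a
separate result.) -/
theorem result (A B : Type u) [CommRing A]
    [CommRing B] [IsLocalRing A] [IsLocalRing B] [IsNoetherianRing A] [IsNoetherianRing B]
    [Algebra A B] [IsLocalHom (algebraMap A B)]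
    (ψ : AdicCompletion (IsLocalRing.maximalIdeal A) A →+* AdicCompletion (IsLocalRing.maximalIdeal B) B)
    (hψ : ψ.comp (algebraMap A (AdicCompletion (IsLocalRing.maximalIdeal A) A)) =
      (algebraMap B (AdicCompletion (IsLocalRing.maximalIdeal B) B)).comp (algebraMap A B))
    (hbij : Function.Bijective ψ) :
    Module.Flat A B ∧
      Ideal.map (algebraMap A B) (IsLocalRing.maximalIdeal A) = IsLocalRing.maximalIdeal B := by
  have hffB : Module.FaithfullyFlat B (AdicCompletion (IsLocalRing.maximalIdeal B) B) :=
    Module.FaithfullyFlat.of_flat_of_isLocalHom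
  have hψa : ∀ a : A, ψ (algebraMap A (AdicCompletion (IsLocalRing.maximalIdeal A) A) a) =
      algebraMap B (AdicCompletion (IsLocalRing.maximalIdeal B) B) (algebraMap A B a) :=
    fun a => RingHom.congr_fun hψ a
  let ψe := RingEquiv.ofBijective ψ hbij
  let e : AdicCompletion (IsLocalRing.maximalIdeal A) A ≃ₗ[A]
      AdicCompletion (IsLocalRing.maximalIdeal B) B :=
    { ψe.toAddEquiv with
      map_smul' := fun a x => by
        show ψ (a • x) = a • ψ x
        rw [Algebra.smul_def, map_mul, hψa, ← Algebra.smul_def, algebraMap_smul] }
  have hflatB' : Module.Flat A (AdicCompletion (IsLocalRing.maximalIdeal B) B) :=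
    Module.Flat.of_linearEquiv e.symm
  have hflat : Module.Flat A B :=
    Groth.Agent.H2.flat_of_faithfullyFlat_module (R := A) (S := B)
      (M := AdicCompletion (IsLocalRing.maximalIdeal B) B)
  refine ⟨hflat, ?_⟩
  have hmB := AdicCompletion.maximalIdeal_eq_map (R := B)
  have hmA := AdicCompletion.maximalIdeal_eq_map (R := A)
  have hψm : (IsLocalRing.maximalIdeal (AdicCompletion (IsLocalRing.maximalIdeal A) A)).map ψ =
      IsLocalRing.maximalIdeal (AdicCompletion (IsLocalRing.maximalIdeal B) B) := by
    apply le_antisymm
    · rw [Ideal.map_le_iff_le_comap]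
      intro x hx
      rw [Ideal.mem_comap, IsLocalRing.mem_maximalIdeal, mem_nonunits_iff]
      intro hu
      have h1 : IsUnit (ψe.symm (ψ x)) := hu.map ψe.symm
      have h2 : ψe.symm (ψ x) = x := ψe.symm_apply_apply x
      rw [h2] at h1
      exact (IsLocalRing.mem_maximalIdeal x).mp hx h1
    · intro y hy
      obtain ⟨x, rfl⟩ := hbij.2 y
      apply Ideal.mem_map_of_mem
      rw [IsLocalRing.mem_maximalIdeal, mem_nonunits_iff]
      intro hu
      exact (IsLocalRing.mem_maximalIdeal _).mp hy (hu.map ψ)
  have hJ : ((IsLocalRing.maximalIdeal A).map (algebraMap A B)).map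
      (algebraMap B (AdicCompletion (IsLocalRing.maximalIdeal B) B)) =
      (IsLocalRing.maximalIdeal B).map
        (algebraMap B (AdicCompletion (IsLocalRing.maximalIdeal B) B)) := by
    rw [Ideal.map_map, ← hψ, ← Ideal.map_map, ← hmA, hψm, hmB]
  have h3 := congrArg (Ideal.comap (algebraMap B (AdicCompletion (IsLocalRing.maximalIdeal B) B))) hJ
  rwa [Ideal.comap_map_eq_self_of_faithfullyFlat, Ideal.comap_map_eq_self_of_faithfullyFlat] at h3

end Groth.Agent.S19461
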