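import Groth.Statements.S19462
import Mathlib
-- import your own Groth.Agent.* helpers here

set_option autoImplicit false
universe u
open GrNak

namespace Groth.Agent.S19462

open DirectSum

/-- additive projection onto the degree-`n` component -/
noncomputable def pr {ι M σ : Type*} [DecidableEq ι] [AddCommMonoid M] [SetLike σ M]
    [AddSubmonoidClass σ M] (ℳ : ι → σ) [DirectSum.Decomposition ℳ] (n : ι) : M →+ M :=
  (AddSubmonoidClass.subtype (ℳ n)).comp
    ((DFinsupp.evalAddMonoidHom n).comp (DirectSum.decomposeAddEquiv ℳ).toAddMonoidHom)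

theorem pr_apply {ι M σ : Type*} [DecidableEq ι] [AddCommMonoid M] [SetLike σ M]
    [AddSubmonoidClass σ M] (ℳ : ι → σ) [DirectSum.Decomposition ℳ] (n : ι) (x : M) :
    pr ℳ n x = ((DirectSum.decompose ℳ x) n : M) := rfl

section ring
variable {R : Type*} [CommRing R] {σ : Type*} [SetLike σ R] [AddSubmonoidClass σ R]
  (𝒜 : ℤ → σ) [GradedRing 𝒜]

/-- elements all of whose components have degree `≥ N`. -/
def RN (N : ℤ) : AddSubmonoid R := AddSubmonoid.closure {x | ∃ i, N ≤ i ∧ x ∈ 𝒜 i}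

theorem mem_RN_of (N : ℤ) (r : R) (h : ∀ i < N, pr 𝒜 i r = 0) : r ∈ RN 𝒜 N := by
  classical
  rw [← DirectSum.sum_support_decompose 𝒜 r]
  refine AddSubmonoid.sum_mem _ (fun i _ => ?_)
  by_cases hi : i < N
  · have := h i hi
    rw [pr_apply] at this
    rw [this]; exact zero_mem _
  · exact AddSubmonoid.subset_closure ⟨i, not_lt.mp hi, SetLike.coe_mem _⟩

theorem pr_eq_zero_of_mem_RN (N : ℤ) (r : R) (hr : r ∈ RN 𝒜 N) (i : ℤ) (hi : i < N) :
    pr 𝒜 i r = 0 := by
  induction hr using AddSubmonoid.closure_induction with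
  | mem x hx =>
    obtain ⟨j, hj, hxj⟩ := hx
    rw [pr_apply]
    exact DirectSum.decompose_of_mem_ne 𝒜 hxj (by omega)
  | zero => exact map_zero _
  | add x y _ _ hx hy => rw [map_add, hx, hy, add_zero]

theorem mul_mem_RN {p q : ℤ} {a b : R} (ha : a ∈ RN 𝒜 p) (hb : b ∈ RN 𝒜 q) :
    a * b ∈ RN 𝒜 (p + q) := by
  induction ha using AddSubmonoid.closure_induction with
  | mem x hx =>
    induction hb using AddSubmonoid.closure_induction with
    | mem y hy =>
      obtain ⟨i, hi, hxi⟩ := hx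
      obtain ⟨j, hj, hyj⟩ := hy
      exact AddSubmonoid.subset_closure ⟨i + j, add_le_add hi hj, SetLike.mul_mem_graded hxi hyj⟩
    | zero => rw [mul_zero]; exact zero_mem _
    | add y z _ _ hy hz => rw [mul_add]; exact add_mem hy hz
  | zero => rw [zero_mul]; exact zero_mem _
  | add x y _ _ hx hy => rw [add_mul]; exact add_mem hx hy

variable {M : Type*} [AddCommGroup M] [Module R M] {τ : Type*} [SetLike τ M]
  [AddSubmonoidClass τ M] (ℳ : ℤ → τ) [DirectSum.Decomposition ℳ] [SetLike.GradedSMul 𝒜 ℳ]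

theorem proj_smul_of_mem {x : M} {e : ℤ} (hx : x ∈ ℳ e) (r : R) (n : ℤ) :
    pr ℳ n (r • x) = (pr 𝒜 (n - e) r) • x := by
  classical
  have hr : r • x = ∑ p ∈ (DirectSum.decompose 𝒜 r).support, ((DirectSum.decompose 𝒜 r p : R) • x) := by
    rw [← Finset.sum_smul, DirectSum.sum_support_decompose 𝒜 r]
  have hmem : ∀ p : ℤ, ((DirectSum.decompose 𝒜 r p : R) • x) ∈ ℳ (p + e) := fun p => by
    have := SetLike.GradedSMul.smul_mem (A := 𝒜) (B := ℳ)
      (SetLike.coe_mem (DirectSum.decompose 𝒜 r p)) hx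
    rwa [vadd_eq_add] at this
  rw [hr, map_sum, Finset.sum_eq_single (n - e)]
  · rw [pr_apply, pr_apply]
    have h1 : ((DirectSum.decompose 𝒜 r (n - e) : R) • x) ∈ ℳ n := by
      have := hmem (n - e)
      rwa [sub_add_cancel] at this
    exact DirectSum.decompose_of_mem_same ℳ h1
  · intro p _ hp
    rw [pr_apply]
    exact DirectSum.decompose_of_mem_ne ℳ (hmem p) (by omega)
  · intro hn
    rw [DFinsupp.notMem_support_iff] at hn
    rw [hn]
    simp

theorem exists_hom_gen [Module.Finite R M] :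
    ∃ T : Finset M, (∀ t ∈ T, SetLike.IsHomogeneousElem ℳ t) ∧
      Submodule.span R (T : Set M) = ⊤ := by
  classical
  obtain ⟨S₀, hS₀⟩ := (Module.Finite.fg_top : (⊤ : Submodule R M).FG)
  refine ⟨S₀.biUnion (fun s => (DirectSum.decompose ℳ s).support.image
    (fun l => (DirectSum.decompose ℳ s l : M))), ?_, ?_⟩
  · intro t ht
    rw [Finset.mem_biUnion] at ht
    obtain ⟨s, _, ht⟩ := ht
    rw [Finset.mem_image] at ht
    obtain ⟨l, _, rfl⟩ := ht
    exact ⟨l, SetLike.coe_mem _⟩
  · rw [eq_top_iff, ← hS₀, Submodule.span_le]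
    intro s hs
    rw [SetLike.mem_coe, ← DirectSum.sum_support_decompose ℳ s]
    refine Submodule.sum_mem _ (fun l hl => Submodule.subset_span ?_)
    rw [Finset.mem_coe, Finset.mem_biUnion]
    exact ⟨s, hs, Finset.mem_image.mpr ⟨l, hl, rfl⟩⟩

theorem comp_rel (T : Finset M) (d : M → ℤ) (hd : ∀ t ∈ T, t ∈ ℳ (d t)) (c : ↥T → R)
    (hrel : ∑ j : ↥T, c j • (j : M) = 0) (n : ℤ) :
    ∑ j : ↥T, (pr 𝒜 (n - d j) (c j)) • (j : M) = 0 := by
  have := congrArg (pr ℳ n) hrel
  rw [map_sum, map_zero] at this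
  rw [← this]
  refine Finset.sum_congr rfl (fun j _ => ?_)
  exact (proj_smul_of_mem 𝒜 ℳ (hd j j.2) (c j) n).symm

end ring

set_option maxHeartbeats 1600000 in
theorem forward {k : Type u} [Field k] {R : Type u} [CommRing R] [Algebra k R]
    {σ : Type u} [SetLike σ R] [AddSubmonoidClass σ R] (𝒜 : ℤ → σ) [GradedRing 𝒜]
    (hneg : ∀ i : ℤ, i < 0 → ∀ x ∈ 𝒜 i, x = 0)
    (h0 : ∀ x ∈ 𝒜 0, ∃ c : k, algebraMap k R c = x)
    {M : Type u} [AddCommGroup M] [Module R M] [Module.Finite R M]
    {τ : Type u} [SetLike τ M] [AddSubmonoidClass τ M] (ℳ : ℤ → τ) [DirectSum.Decomposition ℳ]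
    [SetLike.GradedSMul 𝒜 ℳ] [Module.Projective R M] :
    ∃ (ι : Type u) (b : Module.Basis ι R M), ∀ i : ι, SetLike.IsHomogeneousElem ℳ (b i) := by
  classical
  have hex : ∃ n, ∃ T : Finset M, T.card = n ∧ (∀ t ∈ T, SetLike.IsHomogeneousElem ℳ t) ∧
      Submodule.span R (T : Set M) = ⊤ := by
    obtain ⟨T, h1, h2⟩ := exists_hom_gen (R := R) ℳ
    exact ⟨_, T, rfl, h1, h2⟩
  obtain ⟨T, hTcard, hThom, hTspan⟩ := Nat.find_spec hex
  have hmin : ∀ T' : Finset M, (∀ t ∈ T', SetLike.IsHomogeneousElem ℳ t) →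
      Submodule.span R (T' : Set M) = ⊤ → T.card ≤ T'.card := by
    intro T' h1 h2
    rw [hTcard]
    exact Nat.find_min' hex ⟨T', rfl, h1, h2⟩
  choose! d hd using hThom
  obtain ⟨π, hπ⟩ : ∃ π : (↥T → R) →ₗ[R] M, ∀ v, π v = ∑ t : ↥T, v t • (t : M) :=
    ⟨Fintype.linearCombination R (fun t : ↥T => (t : M)),
      fun v => Fintype.linearCombination_apply R _ v⟩
  have hπsingle : ∀ t : ↥T, π (Pi.single t 1) = (t : M) := by
    intro t
    rw [hπ, Finset.sum_eq_single t]
    · simp
    · intro b _ hb; simp [Pi.single_apply, hb]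
    · intro h; exact absurd (Finset.mem_univ t) h
  have hsurj : Function.Surjective π := by
    rw [← LinearMap.range_eq_top, eq_top_iff, ← hTspan, Submodule.span_le]
    intro t ht
    exact ⟨Pi.single ⟨t, ht⟩ 1, hπsingle ⟨t, ht⟩⟩
  obtain ⟨s, hs⟩ := Module.projective_lifting_property π LinearMap.id hsurj
  have hs' : ∀ x, π (s x) = x := fun x => LinearMap.congr_fun hs x
  obtain ⟨Q, hQ⟩ : ∃ Q : (↥T → R) →ₗ[R] (↥T → R), ∀ v, Q v = v - s (π v) :=
    ⟨LinearMap.id - s ∘ₗ π, fun v => rfl⟩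
  have hπQ : ∀ v, π (Q v) = 0 := by intro v; rw [hQ, map_sub, hs', sub_self]
  have hQQ : ∀ v, Q (Q v) = Q v := by intro v; rw [hQ (Q v), hπQ, map_zero, sub_zero]
  obtain ⟨C, hC⟩ : ∃ C : ↥T → ↥T → R, ∀ i j, C i j = Q (Pi.single i 1) j := ⟨_, fun _ _ => rfl⟩
  have hQv : ∀ v : ↥T → R, Q v = ∑ i, v i • Q (Pi.single i 1) := by
    intro v
    conv_lhs => rw [← Finset.univ_sum_single v]
    rw [map_sum]
    refine Finset.sum_congr rfl (fun i _ => ?_)
    rw [← map_smul, ← Pi.single_smul, smul_eq_mul, mul_one]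
  have hrel : ∀ i, ∑ j : ↥T, C i j • (j : M) = 0 := by
    intro i
    have := hπQ (Pi.single i 1)
    rw [hπ] at this
    rw [← this]
    exact Finset.sum_congr rfl (fun j _ => by rw [hC])
  have hidem : ∀ i l, C i l = ∑ j, C i j * C j l := by
    intro i l
    have := congrFun (hQQ (Pi.single i 1)) l
    rw [hQv (Q (Pi.single i 1)), Finset.sum_apply] at this
    rw [hC i l, ← this]
    refine Finset.sum_congr rfl (fun j _ => ?_)
    rw [Pi.smul_apply, smul_eq_mul, hC, hC]
  have hC0 : ∀ i j0, pr 𝒜 0 (C i j0) = 0 := by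
    intro i j0
    by_contra hu
    have hcr := comp_rel 𝒜 ℳ T d hd (C i) (hrel i) (d j0)
    rw [← Finset.add_sum_erase Finset.univ _ (Finset.mem_univ j0), sub_self] at hcr
    obtain ⟨a, ha⟩ := h0 (pr 𝒜 0 (C i j0)) (by rw [pr_apply]; exact SetLike.coe_mem _)
    have ha0 : a ≠ 0 := by
      rintro rfl
      rw [map_zero] at ha
      exact hu ha.symm
    have hj0 : (j0 : M) ∈ Submodule.span R ((T.erase j0 : Finset M) : Set M) := by
      have e1 : (j0 : M) = algebraMap k R a⁻¹ • (pr 𝒜 0 (C i j0) • (j0 : M)) := by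
        rw [← ha, smul_smul, ← map_mul, inv_mul_cancel₀ ha0, map_one, one_smul]
      have hmem : algebraMap k R a⁻¹ • (pr 𝒜 0 (C i j0) • (j0 : M)) ∈
          Submodule.span R ((T.erase j0 : Finset M) : Set M) := by
        rw [eq_neg_of_add_eq_zero_left hcr]
        refine Submodule.smul_mem _ _ (Submodule.neg_mem _ (Submodule.sum_mem _ (fun j hj => ?_)))
        refine Submodule.smul_mem _ _ (Submodule.subset_span ?_)
        rw [Finset.mem_coe, Finset.mem_erase]
        exact ⟨fun h => (Finset.mem_erase.mp hj).1 (Subtype.ext h), j.2⟩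
      rw [← e1] at hmem
      exact hmem
    have hspan : Submodule.span R ((T.erase j0 : Finset M) : Set M) = ⊤ := by
      have e : (T : Set M) = insert (j0 : M) ((T.erase j0 : Finset M) : Set M) := by
        rw [← Finset.coe_insert, Finset.insert_erase j0.2]
      rw [← hTspan, e, Submodule.span_insert_eq_span hj0]
    have h1 := hmin (T.erase j0)
      (fun t ht => ⟨d t, hd t (Finset.mem_of_mem_erase ht)⟩) hspan
    have hlt := Finset.card_erase_lt_of_mem j0.2
    omega
  have hCbase : ∀ i j, C i j ∈ RN 𝒜 1 := by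
    intro i j
    apply mem_RN_of
    intro n hn
    have hn' : n < 0 ∨ n = 0 := by omega
    rcases hn' with h | rfl
    · exact hneg n h _ (by rw [pr_apply]; exact SetLike.coe_mem _)
    · exact hC0 i j
  have hCN : ∀ N : ℕ, ∀ i j, C i j ∈ RN 𝒜 ((N : ℤ) + 1) := by
    intro N
    induction N with
    | zero => intro i j; simpa using hCbase i j
    | succ N ih =>
      intro i l
      rw [hidem i l]
      refine AddSubmonoid.sum_mem _ (fun j _ => ?_)
      have e : ((N + 1 : ℕ) : ℤ) + 1 = ((N : ℤ) + 1) + 1 := by push_cast; ring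
      rw [e]
      exact mul_mem_RN 𝒜 (ih i j) (hCbase j l)
  have hCzero : ∀ i j, C i j = 0 := by
    intro i j
    rw [← DirectSum.sum_support_decompose 𝒜 (C i j)]
    refine Finset.sum_eq_zero (fun n _ => ?_)
    have := pr_eq_zero_of_mem_RN 𝒜 _ _ (hCN n.toNat i j) n
      (by have := Int.self_le_toNat n; omega)
    rwa [pr_apply] at this
  have hQ0 : ∀ v, Q v = 0 := by
    intro v
    rw [hQv]
    refine Finset.sum_eq_zero (fun i _ => ?_)
    have : Q (Pi.single i 1) = 0 := by
      ext j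
      rw [← hC, hCzero]; rfl
    rw [this, smul_zero]
  have hinj : Function.Injective π := by
    intro v w hvw
    have h1 : s (π v) = v := by
      have := hQ0 v
      rw [hQ] at this
      exact (sub_eq_zero.mp this).symm
    have h2 : s (π w) = w := by
      have := hQ0 w
      rw [hQ] at this
      exact (sub_eq_zero.mp this).symm
    rw [← h1, ← h2, hvw]
  refine ⟨↥T, (Pi.basisFun R ↥T).map (LinearEquiv.ofBijective π ⟨hinj, hsurj⟩), ?_⟩
  intro t
  rw [Module.Basis.map_apply, Pi.basisFun_apply]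
  change SetLike.IsHomogeneousElem ℳ (π (Pi.single t 1))
  rw [hπsingle]
  exact ⟨d t, hd t t.2⟩


/-- Let k be a field and R a commutative ℤ-graded k-algebra whose pieces of negative degree vanish and
whose degree-zero piece is the image of k, and let M be a finitely generated ℤ-graded R-module,
graded compatibly with R. Then M is a projective R-module if and only if M has an R-basis consisting
of homogeneous elements, i.e. M is a free graded module. (The published statement takes R a graded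
quotient of a polynomial ring k[x_0, …, x_n] with its standard grading; stated here for any
commutative graded k-algebra concentrated in non-negative degrees with degree-zero part k, to which
the same graded-Nakayama argument applies.) -/
theorem result {k : Type u} [Field k] {R : Type u} [CommRing R] [Algebra k R]
    {σ : Type u} [SetLike σ R] [AddSubmonoidClass σ R] (𝒜 : ℤ → σ) [GradedRing 𝒜]
    (hneg : ∀ i : ℤ, i < 0 → ∀ x ∈ 𝒜 i, x = 0)
    (hk : ∀ c : k, algebraMap k R c ∈ 𝒜 0) (h0 : ∀ x ∈ 𝒜 0, ∃ c : k, algebraMap k R c = x)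
    {M : Type u} [AddCommGroup M] [Module R M] [Module.Finite R M]
    {τ : Type u} [SetLike τ M] [AddSubmonoidClass τ M] (ℳ : ℤ → τ) [DirectSum.Decomposition ℳ]
    [SetLike.GradedSMul 𝒜 ℳ] :
    Module.Projective R M ↔
      ∃ (ι : Type u) (b : Module.Basis ι R M), ∀ i : ι, SetLike.IsHomogeneousElem ℳ (b i) := by
  constructor
  · intro hproj
    exact forward 𝒜 hneg h0 ℳ
  · rintro ⟨ι, b, -⟩
    exact Module.Projective.of_basis b

end Groth.Agent.S19462
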