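import Groth.Statements.S19473
import Mathlib

set_option autoImplicit false
set_option maxHeartbeats 400000
universe u
open CategoryTheory CategoryTheory.Limits MonoidalCategory CartesianMonoidalCategory MonObj GrpObj AlgebraicGeometry
open AlgGrp

namespace Groth.Agent.S19473

theorem isPullback_of_mono_of_forall_exists {C : Type*} [Category C] {M G Hb Q : C} (jM : M ⟶ G)
    (c : M ⟶ Hb) (q : G ⟶ Q) (jb : Hb ⟶ Q) [Mono jM] [Mono jb] (w : jM ≫ q = c ≫ jb)
    (h : ∀ (T : C) (g : T ⟶ G) (y : T ⟶ Hb), g ≫ q = y ≫ jb → ∃ m : T ⟶ M, m ≫ jM = g) :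
    IsPullback jM c q jb := by
  refine ⟨⟨w⟩, ⟨PullbackCone.IsLimit.mk _
    (fun s => (h s.pt s.fst s.snd s.condition).choose) ?_ ?_ ?_⟩⟩
  · intro s
    exact (h s.pt s.fst s.snd s.condition).choose_spec
  · intro s
    rw [← cancel_mono jb, Category.assoc, ← w, ← Category.assoc,
      (h s.pt s.fst s.snd s.condition).choose_spec, s.condition]
  · intro s m hm _
    rw [← cancel_mono jM, hm]
    exact (h s.pt s.fst s.snd s.condition).choose_spec.symm

set_option backward.isDefEq.respectTransparency.types false in

/-- Let S be a scheme and G an S-group scheme whose structure morphism G → S is locally of finite type.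
Then G → S is unramified — formally unramified, since it is locally of finite type — if and only if
the identity section S → G is an open immersion. (The separated and quasi-separated clauses of the
published item are separate results.) -/
theorem result (S : Scheme.{u})
    (G : Over S) [GrpObj G] [LocallyOfFiniteType G.hom] :
    FormallyUnramified G.hom ↔ IsOpenImmersion η[G].left := by
  have hΔ : (lift (𝟙 G) (𝟙 G) : G ⟶ G ⊗ G).left = pullback.diagonal G.hom := rfl
  haveI : Mono (lift (𝟙 G) (𝟙 G) : G ⟶ G ⊗ G) := mono_of_mono_fac (lift_fst (𝟙 G) (𝟙 G))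
  haveI : Mono η[G] := ⟨fun a b _ => toUnit_unique a b⟩
  constructor
  · intro hU
    haveI := hU
    haveI : Mono (lift (𝟙 G) (toUnit G ≫ η[G]) : G ⟶ G ⊗ G) :=
      mono_of_mono_fac (lift_fst (𝟙 G) (toUnit G ≫ η[G]))
    have sq : IsPullback η[G] η[G] (lift (𝟙 G) (𝟙 G) : G ⟶ G ⊗ G)
        (lift (𝟙 G) (toUnit G ≫ η[G]) : G ⟶ G ⊗ G) := by
      refine isPullback_of_mono_of_forall_exists _ _ _ _ ?_ ?_
      · apply CartesianMonoidalCategory.hom_ext
        · rw [Category.assoc, Category.assoc, lift_fst, lift_fst]
        · rw [Category.assoc, Category.assoc, lift_snd, lift_snd, ← Category.assoc,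
            toUnit_unique (η[G] ≫ toUnit G) (𝟙 _), Category.id_comp, Category.comp_id]
      · intro T g y h
        refine ⟨toUnit T, ?_⟩
        calc toUnit T ≫ η[G] = (y ≫ toUnit G) ≫ η[G] := by
              rw [toUnit_unique (y ≫ toUnit G) (toUnit T)]
          _ = (y ≫ (lift (𝟙 G) (toUnit G ≫ η[G]) : G ⟶ G ⊗ G)) ≫ snd G G := by
              rw [Category.assoc, Category.assoc, lift_snd]
          _ = (g ≫ (lift (𝟙 G) (𝟙 G) : G ⟶ G ⊗ G)) ≫ snd G G := by rw [h]
          _ = g := by rw [Category.assoc, lift_snd, Category.comp_id]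
    have sqS := sq.map (Over.forget S)
    have hd : IsOpenImmersion (lift (𝟙 G) (𝟙 G) : G ⟶ G ⊗ G).left := by
      rw [hΔ]; infer_instance
    exact MorphismProperty.of_isPullback (P := @IsOpenImmersion) sqS hd
  · intro hO
    haveI := hO
    have sq : IsPullback (lift (𝟙 G) (𝟙 G) : G ⟶ G ⊗ G) (toUnit G) (fst G G / snd G G) η[G] := by
      refine isPullback_of_mono_of_forall_exists _ _ _ _ ?_ ?_
      · rw [GrpObj.comp_div, lift_fst, lift_snd, div_self']
        rfl
      · intro T g y h
        refine ⟨g ≫ fst G G, ?_⟩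
        have h1 : g ≫ fst G G = g ≫ snd G G := by
          rw [GrpObj.comp_div, MonObj.one_eq_one, MonObj.comp_one, div_eq_one] at h
          exact h
        apply CartesianMonoidalCategory.hom_ext
        · rw [Category.assoc, lift_fst, Category.comp_id]
        · rw [Category.assoc, lift_snd, Category.comp_id, h1]
    have sqS := (sq.map (Over.forget S)).flip
    have hd : IsOpenImmersion (lift (𝟙 G) (𝟙 G) : G ⟶ G ⊗ G).left :=
      MorphismProperty.of_isPullback (P := @IsOpenImmersion) sqS hO
    rw [hΔ] at hd
    haveI := hd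
    infer_instance

end Groth.Agent.S19473
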