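import Groth.Statements.S19465
import Mathlib
import Groth.Agent.S19473
import Groth.Agent.H49.UnramFibre

set_option autoImplicit false
set_option maxHeartbeats 400000
universe u
open CategoryTheory CategoryTheory.Limits MonoidalCategory CartesianMonoidalCategory MonObj GrpObj AlgebraicGeometry
open AlgGrp

namespace Groth.Agent.S19465

set_option backward.isDefEq.respectTransparency.types false in

/-- Let S be a scheme and G an S-group scheme whose structure morphism G → S is locally of finite type.
Then G → S is an isomorphism (G is the trivial group scheme over S) if and only if every fibre G_s →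
Spec κ(s), s ∈ S, is an isomorphism. -/
theorem result (S : Scheme.{u}) (G : Over S)
    [GrpObj G] [LocallyOfFiniteType G.hom] :
    IsIso G.hom ↔ ∀ s : S, IsIso (G.hom.fiberToSpecResidueField s) := by
  constructor
  · intro h s
    haveI := h
    unfold Scheme.Hom.fiberToSpecResidueField
    exact pullback_snd_iso_of_left_iso _ _
  · intro H
    have hU : FormallyUnramified G.hom := by
      apply Groth.Agent.H49.UnramFibre.formallyUnramified_of_fiberToSpecResidueField
      intro s
      haveI := H s
      exact Groth.Agent.H49.UnramFibre.formallyUnramified_of_isOpenImmersion _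
    have hO : IsOpenImmersion η[G].left := (Groth.Agent.S19473.result S G).mp hU
    have hsec : η[G].left ≫ G.hom = 𝟙 S := by
      have h1 := Over.w η[G]
      exact h1
    have hinj : Function.Injective G.hom := by
      intro x y hxy
      have hsub : Subsingleton ↥(G.hom.fiber (G.hom x)) := by
        haveI := H (G.hom x)
        exact (G.hom.fiberToSpecResidueField (G.hom x)).homeomorph.subsingleton
      have hx : x ∈ Set.range (G.hom.fiberι (G.hom x)) := by
        rw [Scheme.Hom.range_fiberι]; exact rfl
      have hy : y ∈ Set.range (G.hom.fiberι (G.hom x)) := by
        rw [Scheme.Hom.range_fiberι]; exact hxy.symm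
      obtain ⟨x', hx'⟩ := hx
      obtain ⟨y', hy'⟩ := hy
      rw [← hx', ← hy', Subsingleton.elim x' y']
    have hsurj : Function.Surjective η[G].left := by
      intro x
      refine ⟨G.hom x, hinj ?_⟩
      rw [← Scheme.Hom.comp_apply, hsec]
      rfl
    haveI : Surjective η[G].left := ⟨hsurj⟩
    haveI : IsIso η[G].left := (isIso_iff_isOpenImmersion_and_surjective _).mpr ⟨hO, inferInstance⟩
    have hG : G.hom = inv η[G].left := by
      rw [← cancel_epi η[G].left, hsec, IsIso.hom_inv_id]
      rfl
    rw [hG]
    infer_instance

end Groth.Agent.S19465
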