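import Groth.Statements.S19474
import Groth.Agent.Lead.CompleteNoetherian
import Mathlib.RingTheory.AdicCompletion.AsTensorProduct
import Mathlib.RingTheory.Ideal.KrullsHeightTheorem
import Mathlib.RingTheory.Ideal.GoingDown
import Mathlib.RingTheory.AdicCompletion.LocalRing
import Mathlib.RingTheory.Flat.FaithfullyFlat.Algebra
import Mathlib.RingTheory.Nakayama
import Mathlib.RingTheory.RegularLocalRing.Defs
import Mathlib.Tactic

set_option autoImplicit false
universe u
open CAlg

namespace Groth.Agent.S19474

theorem spanFinrank_le_of_approx {A B : Type u} [CommRing A] [CommRing B] [Algebra A B]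
    [IsLocalRing A] [IsLocalRing B] [IsNoetherianRing B] [Module.FaithfullyFlat A B]
    (hM : IsLocalRing.maximalIdeal B = (IsLocalRing.maximalIdeal A).map (algebraMap A B))
    (happrox : ∀ y ∈ IsLocalRing.maximalIdeal B, ∃ x ∈ IsLocalRing.maximalIdeal A,
       y - algebraMap A B x ∈ IsLocalRing.maximalIdeal B * IsLocalRing.maximalIdeal B) :
    (IsLocalRing.maximalIdeal A).spanFinrank ≤ (IsLocalRing.maximalIdeal B).spanFinrank := by
  classical
  obtain ⟨s, hs_card, hs_span⟩ := Submodule.FG.exists_span_finset_card_eq_spanFinrank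
    (IsLocalRing.maximalIdeal B).fg_of_isNoetherianRing
  have hsM : ∀ y ∈ s, y ∈ IsLocalRing.maximalIdeal B := fun y hy => by
    rw [← hs_span]
    exact Submodule.subset_span (Finset.mem_coe.mpr hy)
  choose! x hxm hx using happrox
  obtain ⟨𝔞, h𝔞⟩ : ∃ 𝔞 : Ideal A, 𝔞 = Ideal.span ((s.image x : Finset A) : Set A) := ⟨_, rfl⟩
  have h𝔞m : 𝔞 ≤ IsLocalRing.maximalIdeal A := by
    rw [h𝔞, Ideal.span_le]
    intro a ha
    rw [Finset.mem_coe, Finset.mem_image] at ha
    obtain ⟨y, hy, rfl⟩ := ha
    exact hxm y (hsM y hy)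
  have hMle : IsLocalRing.maximalIdeal B ≤ 𝔞.map (algebraMap A B) := by
    apply Submodule.le_of_le_smul_of_le_jacobson_bot (I := IsLocalRing.maximalIdeal B)
      (IsLocalRing.maximalIdeal B).fg_of_isNoetherianRing
      (IsLocalRing.maximalIdeal_le_jacobson ⊥)
    conv_lhs => rw [← hs_span]
    rw [Submodule.span_le]
    intro y hy
    have hy' := hsM y (Finset.mem_coe.mp hy)
    have h1 : algebraMap A B (x y) ∈ 𝔞.map (algebraMap A B) := by
      apply Ideal.mem_map_of_mem
      rw [h𝔞]
      exact Ideal.subset_span (Finset.mem_coe.mpr (Finset.mem_image_of_mem x (Finset.mem_coe.mp hy)))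
    have h2 : y - algebraMap A B (x y) ∈
        IsLocalRing.maximalIdeal B • IsLocalRing.maximalIdeal B := by
      rw [smul_eq_mul]
      exact hx y hy'
    have h4 := Submodule.add_mem_sup h1 h2
    rwa [add_sub_cancel] at h4
  have heq : 𝔞.map (algebraMap A B) = (IsLocalRing.maximalIdeal A).map (algebraMap A B) := by
    apply le_antisymm (Ideal.map_mono h𝔞m)
    rw [← hM]
    exact hMle
  have h𝔞eq : 𝔞 = IsLocalRing.maximalIdeal A := by
    calc 𝔞 = (𝔞.map (algebraMap A B)).comap (algebraMap A B) :=
          (Ideal.comap_map_eq_self_of_faithfullyFlat 𝔞).symm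
      _ = ((IsLocalRing.maximalIdeal A).map (algebraMap A B)).comap (algebraMap A B) := by
          rw [heq]
      _ = IsLocalRing.maximalIdeal A := Ideal.comap_map_eq_self_of_faithfullyFlat _
  calc (IsLocalRing.maximalIdeal A).spanFinrank = 𝔞.spanFinrank := by rw [h𝔞eq]
    _ ≤ ((s.image x : Finset A) : Set A).ncard := by
        rw [h𝔞]
        exact Submodule.spanFinrank_span_le_ncard_of_finite (Finset.finite_toSet _)
    _ = (s.image x).card := Set.ncard_coe_finset _
    _ ≤ s.card := Finset.card_image_le
    _ = _ := hs_card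

theorem approx (A : Type u) [CommRing A] [IsLocalRing A] [IsNoetherianRing A] (I : Ideal A)
    (fg : I.FG) (hle : I ≤ IsLocalRing.maximalIdeal A) [IsLocalRing (AdicCompletion I A)]
    (hM : IsLocalRing.maximalIdeal (AdicCompletion I A) =
      (IsLocalRing.maximalIdeal A).map (algebraMap A (AdicCompletion I A))) :
    ∀ y ∈ IsLocalRing.maximalIdeal (AdicCompletion I A), ∃ x ∈ IsLocalRing.maximalIdeal A,
      y - algebraMap A (AdicCompletion I A) x ∈
        IsLocalRing.maximalIdeal (AdicCompletion I A) *
          IsLocalRing.maximalIdeal (AdicCompletion I A) := by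
  have key : ∀ b : AdicCompletion I A, ∃ β : A,
      b - algebraMap A (AdicCompletion I A) β ∈ IsLocalRing.maximalIdeal (AdicCompletion I A) := by
    intro b
    obtain ⟨β, hβ⟩ := Ideal.Quotient.mk_surjective (AdicCompletion.evalOneₐ I b)
    refine ⟨β, ?_⟩
    have h1 : b - algebraMap A (AdicCompletion I A) β ∈
        RingHom.ker (AdicCompletion.evalOneₐ I).toRingHom := by
      rw [RingHom.mem_ker]
      show (AdicCompletion.evalOneₐ I) (b - algebraMap A (AdicCompletion I A) β) = 0
      rw [map_sub, AlgHom.commutes, ← hβ]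
      exact sub_self _
    rw [AdicCompletion.ker_evalOneₐ_eq_map I fg] at h1
    rw [hM]
    exact Ideal.map_mono hle h1
  have main : ∀ y ∈ (IsLocalRing.maximalIdeal A).map (algebraMap A (AdicCompletion I A)),
      y ∈ IsLocalRing.maximalIdeal (AdicCompletion I A) ∧
      ∃ x ∈ IsLocalRing.maximalIdeal A, y - algebraMap A (AdicCompletion I A) x ∈
        IsLocalRing.maximalIdeal (AdicCompletion I A) *
          IsLocalRing.maximalIdeal (AdicCompletion I A) := by
    intro y hy
    unfold Ideal.map at hy
    refine Submodule.span_induction (p := fun y _ =>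
      y ∈ IsLocalRing.maximalIdeal (AdicCompletion I A) ∧
      ∃ x ∈ IsLocalRing.maximalIdeal A, y - algebraMap A (AdicCompletion I A) x ∈
        IsLocalRing.maximalIdeal (AdicCompletion I A) *
          IsLocalRing.maximalIdeal (AdicCompletion I A)) ?_ ?_ ?_ ?_ hy
    · rintro _ ⟨x₀, hx₀, rfl⟩
      refine ⟨?_, x₀, hx₀, ?_⟩
      · rw [hM]
        exact Ideal.mem_map_of_mem _ hx₀
      · rw [sub_self]
        exact zero_mem _
    · refine ⟨zero_mem _, 0, zero_mem _, ?_⟩
      rw [map_zero, sub_zero]
      exact zero_mem _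
    · rintro a b _ _ ⟨ha, xa, hxa, hxa'⟩ ⟨hb, xb, hxb, hxb'⟩
      refine ⟨add_mem ha hb, xa + xb, add_mem hxa hxb, ?_⟩
      have h3 : a + b - algebraMap A (AdicCompletion I A) (xa + xb) =
          (a - algebraMap A (AdicCompletion I A) xa) +
            (b - algebraMap A (AdicCompletion I A) xb) := by
        rw [map_add]; ring
      rw [h3]
      exact add_mem hxa' hxb'
    · rintro b a _ ⟨ha, xa, hxa, hxa'⟩
      obtain ⟨β, hβ⟩ := key b
      refine ⟨Submodule.smul_mem _ b ha, β * xa, Ideal.mul_mem_left _ β hxa, ?_⟩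
      have h3 : b • a - algebraMap A (AdicCompletion I A) (β * xa) =
          (b - algebraMap A (AdicCompletion I A) β) * a +
            algebraMap A (AdicCompletion I A) β *
              (a - algebraMap A (AdicCompletion I A) xa) := by
        rw [map_mul, smul_eq_mul]; ring
      rw [h3]
      exact add_mem (Ideal.mul_mem_mul hβ ha) (Ideal.mul_mem_left _ _ hxa')
  intro y hy
  rw [hM] at hy
  exact (main y hy).2


/-- Let A be a Noetherian local ring and I an ideal of A different from A. Then the I-adic completion of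
A has the same Krull dimension as A, and A is a regular local ring if and only if the I-adic
completion of A is a regular local ring (in particular the completion is then local and Noetherian).
The case where I is the maximal ideal is the classical one; here I is any proper ideal. -/
theorem result (A : Type u) [CommRing A]
    [IsLocalRing A] [IsNoetherianRing A] (I : Ideal A) (hI : I ≠ ⊤) :
    ringKrullDim (AdicCompletion I A) = ringKrullDim A ∧
      (IsRegularLocalRing A ↔ IsRegularLocalRing (AdicCompletion I A)) := by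
  have fg : I.FG := I.fg_of_isNoetherianRing
  have hle : I ≤ IsLocalRing.maximalIdeal A := IsLocalRing.le_maximalIdeal hI
  haveI hN : IsNoetherianRing (AdicCompletion I A) :=
    Groth.Agent.Lead.isNoetherianRing_adicCompletion I fg
  haveI hcomp : IsAdicComplete (I.map (algebraMap A (AdicCompletion I A))) (AdicCompletion I A) :=
    AdicCompletion.isAdicComplete_self I fg
  have hjac : I.map (algebraMap A (AdicCompletion I A)) ≤ Ideal.jacobson ⊥ :=
    IsAdicComplete.le_jacobson_bot _
  have hker := AdicCompletion.ker_evalOneₐ_eq_map I fg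
  haveI : Nontrivial (A ⧸ I) := Ideal.Quotient.nontrivial_iff.mpr hI
  haveI : IsLocalRing (A ⧸ I) :=
    IsLocalRing.of_surjective' (Ideal.Quotient.mk I) Ideal.Quotient.mk_surjective
  haveI hloc : IsLocalHom (AdicCompletion.evalOneₐ I).toRingHom := by
    constructor
    intro a ha
    obtain ⟨b, hb⟩ := AdicCompletion.evalOneₐ_surjective I (↑(ha.unit⁻¹) : A ⧸ I)
    have h1 : a * b - 1 ∈ RingHom.ker (AdicCompletion.evalOneₐ I).toRingHom := by
      rw [RingHom.mem_ker, map_sub, map_mul, map_one]
      have h0 : (AdicCompletion.evalOneₐ I).toRingHom b = ↑(ha.unit⁻¹) := hb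
      rw [h0, ha.mul_val_inv, sub_self]
    rw [hker] at h1
    have h3 := Ideal.mem_jacobson_bot.mp (hjac h1) 1
    rw [mul_one, sub_add_cancel] at h3
    exact isUnit_of_mul_isUnit_left h3
  haveI : IsLocalRing (AdicCompletion I A) :=
    RingHom.domain_isLocalRing (AdicCompletion.evalOneₐ I).toRingHom
  haveI hmax : ((IsLocalRing.maximalIdeal A).map
      (algebraMap A (AdicCompletion I A))).IsMaximal :=
    AdicCompletion.isMaximal_map_of_le I (IsLocalRing.maximalIdeal A) hle fg
  have hMeq : IsLocalRing.maximalIdeal (AdicCompletion I A) =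
      (IsLocalRing.maximalIdeal A).map (algebraMap A (AdicCompletion I A)) :=
    (IsLocalRing.eq_maximalIdeal hmax).symm
  haveI hlh : IsLocalHom (algebraMap A (AdicCompletion I A)) := by
    apply ((IsLocalRing.local_hom_TFAE _).out 0 2).mpr
    exact le_of_eq hMeq.symm
  haveI hff : Module.FaithfullyFlat A (AdicCompletion I A) :=
    Module.FaithfullyFlat.of_flat_of_isLocalHom
  haveI : (IsLocalRing.maximalIdeal (AdicCompletion I A)).LiesOver
      (IsLocalRing.maximalIdeal A) :=
    ⟨(IsLocalRing.maximalIdeal_comap (algebraMap A (AdicCompletion I A))).symm⟩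
  have h := Ideal.height_eq_height_add_of_liesOver_of_hasGoingDown (IsLocalRing.maximalIdeal A)
    (IsLocalRing.maximalIdeal (AdicCompletion I A))
  have hbot : ((IsLocalRing.maximalIdeal (AdicCompletion I A)).map
      (Ideal.Quotient.mk ((IsLocalRing.maximalIdeal A).map
        (algebraMap A (AdicCompletion I A))))) = ⊥ := by
    rw [← hMeq]
    exact Ideal.map_quotient_self _
  haveI : Nontrivial ((AdicCompletion I A) ⧸
      (IsLocalRing.maximalIdeal A).map (algebraMap A (AdicCompletion I A))) := by
    rw [← hMeq]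
    exact Ideal.Quotient.nontrivial_iff.mpr (IsLocalRing.maximalIdeal.isMaximal _).ne_top
  rw [hbot, Ideal.height_bot, add_zero] at h
  have hdim : ringKrullDim (AdicCompletion I A) = ringKrullDim A := by
    rw [← IsLocalRing.maximalIdeal_height_eq_ringKrullDim,
      ← IsLocalRing.maximalIdeal_height_eq_ringKrullDim (R := A), h]
  have hspan : (IsLocalRing.maximalIdeal (AdicCompletion I A)).spanFinrank =
      (IsLocalRing.maximalIdeal A).spanFinrank := by
    apply le_antisymm
    · rw [hMeq]
      exact Ideal.spanFinrank_map_le_of_fg _ (IsLocalRing.maximalIdeal A).fg_of_isNoetherianRing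
    · exact spanFinrank_le_of_approx hMeq (approx A I fg hle hMeq)
  refine ⟨hdim, ?_⟩
  rw [isRegularLocalRing_iff, isRegularLocalRing_iff, hspan, hdim]

end Groth.Agent.S19474
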