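import Groth.Statements.S19475
import Mathlib

set_option autoImplicit false
universe u
open CAlg

namespace Groth.Agent.S19475

open IsLocalRing in
/-- Let A be a Noetherian ring, B an A-algebra, q a prime ideal of B and p its preimage in A; let A_p
and B_q be the local rings at p and q and Â_p the completion of A_p at its maximal ideal pA_p. Then
the ideal generated by qB_q in B_q ⊗ Â_p is maximal. (The tensor product is formed over A; since A_p
is a localization of A it agrees with the tensor product over A_p used in the published statement.) -/
theorem result (A B : Type u) [CommRing A] [CommRing B]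
    [Algebra A B] [IsNoetherianRing A] (q : Ideal B) [q.IsPrime] :
    ((maximalIdeal (Localization.AtPrime q)).map
      (Algebra.TensorProduct.includeLeftRingHom :
        Localization.AtPrime q →+* TensorProduct A (Localization.AtPrime q)
          (AdicCompletion (maximalIdeal (Localization.AtPrime (q.under A)))
            (Localization.AtPrime (q.under A))))).IsMaximal := by
  classical
  have hfg : (maximalIdeal (Localization.AtPrime (q.under A))).FG :=
    Ideal.fg_of_isNoetherianRing _
  let ρ : Localization.AtPrime (q.under A) →+* Localization.AtPrime q :=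
    Localization.localRingHom (q.under A) q (algebraMap A B) rfl
  have hρ : ∀ a : A, ρ (algebraMap A (Localization.AtPrime (q.under A)) a) =
      algebraMap A (Localization.AtPrime q) a := fun a => by
    rw [Localization.localRingHom_to_map, ← IsScalarTower.algebraMap_apply]
  have hρloc : ∀ x ∈ maximalIdeal (Localization.AtPrime (q.under A)),
      ρ x ∈ maximalIdeal (Localization.AtPrime q) := by
    intro x hx
    rw [mem_maximalIdeal, mem_nonunits_iff] at hx ⊢
    exact fun h => hx (isUnit_of_map_unit ρ x h)
  let h : (Localization.AtPrime (q.under A) ⧸ maximalIdeal (Localization.AtPrime (q.under A))) →+*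
      ResidueField (Localization.AtPrime q) :=
    Ideal.Quotient.lift _ ((residue (Localization.AtPrime q)).comp ρ)
      (fun x hx => (residue_eq_zero_iff _).mpr (hρloc x hx))
  let g₂ : AdicCompletion (maximalIdeal (Localization.AtPrime (q.under A)))
      (Localization.AtPrime (q.under A)) →ₐ[A] ResidueField (Localization.AtPrime q) :=
    { toRingHom := h.comp (AdicCompletion.evalOneₐ
        (maximalIdeal (Localization.AtPrime (q.under A)))).toRingHom
      commutes' := fun a => by
        show h (AdicCompletion.evalOneₐ _ (algebraMap A _ a)) = algebraMap A _ a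
        rw [AdicCompletion.algebraMap_apply, AdicCompletion.evalOneₐ_of]
        show (residue (Localization.AtPrime q)) (ρ (algebraMap A _ a)) = _
        rw [hρ, IsScalarTower.algebraMap_apply A (Localization.AtPrime q)
          (ResidueField (Localization.AtPrime q)), ResidueField.algebraMap_eq] }
  let g₁ : Localization.AtPrime q →ₐ[A] ResidueField (Localization.AtPrime q) :=
    IsScalarTower.toAlgHom A _ _
  have hg₁ : ∀ b, g₁ b = residue _ b := fun b => rfl
  let φ := Algebra.TensorProduct.lift g₁ g₂ (fun _ _ => Commute.all _ _)
  have hφ : ∀ b : Localization.AtPrime q, φ (b ⊗ₜ 1) = residue _ b := fun b => by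
    rw [Algebra.TensorProduct.lift_tmul, map_one, mul_one, hg₁]
  have hφsurj : Function.Surjective φ := fun y => by
    obtain ⟨b, rfl⟩ := residue_surjective y
    exact ⟨b ⊗ₜ 1, hφ b⟩
  -- the two maps from `A_p` to the tensor product agree
  have hψ : (Algebra.TensorProduct.includeRight (R := A) (A := Localization.AtPrime q)
      (B := AdicCompletion (maximalIdeal (Localization.AtPrime (q.under A)))
        (Localization.AtPrime (q.under A)))).toRingHom.comp
      (algebraMap (Localization.AtPrime (q.under A)) _) =
      (Algebra.TensorProduct.includeLeftRingHom).comp ρ := by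
    apply IsLocalization.ringHom_ext (q.under A).primeCompl
    ext a
    simp only [RingHom.coe_comp, Function.comp_apply, AlgHom.toRingHom_eq_coe, RingHom.coe_coe,
      Algebra.TensorProduct.includeRight_apply, Algebra.TensorProduct.includeLeftRingHom_apply, hρ]
    rw [← IsScalarTower.algebraMap_apply A (Localization.AtPrime (q.under A)),
      Algebra.algebraMap_eq_smul_one, Algebra.algebraMap_eq_smul_one a, TensorProduct.smul_tmul]
  have hmove : ∀ (b : Localization.AtPrime q) (x : Localization.AtPrime (q.under A)),
      (b ⊗ₜ[A] algebraMap _ (AdicCompletion (maximalIdeal (Localization.AtPrime (q.under A)))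
        (Localization.AtPrime (q.under A))) x) = (b * ρ x) ⊗ₜ[A] 1 := by
    intro b x
    have h1 := congrArg (fun f => f x) hψ
    simp only [RingHom.coe_comp, Function.comp_apply, AlgHom.toRingHom_eq_coe, RingHom.coe_coe,
      Algebra.TensorProduct.includeRight_apply,
      Algebra.TensorProduct.includeLeftRingHom_apply] at h1
    calc (b ⊗ₜ[A] algebraMap (Localization.AtPrime (q.under A))
            (AdicCompletion (maximalIdeal (Localization.AtPrime (q.under A)))
              (Localization.AtPrime (q.under A))) x)
        = (b ⊗ₜ[A] (1 : AdicCompletion (maximalIdeal (Localization.AtPrime (q.under A)))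
              (Localization.AtPrime (q.under A)))) *
            ((1 : Localization.AtPrime q) ⊗ₜ[A] algebraMap (Localization.AtPrime (q.under A))
            (AdicCompletion (maximalIdeal (Localization.AtPrime (q.under A)))
              (Localization.AtPrime (q.under A))) x) := by
          rw [Algebra.TensorProduct.tmul_mul_tmul, mul_one, one_mul]
      _ = (b ⊗ₜ[A] (1 : AdicCompletion (maximalIdeal (Localization.AtPrime (q.under A)))
              (Localization.AtPrime (q.under A)))) *
            (ρ x ⊗ₜ[A] (1 : AdicCompletion (maximalIdeal (Localization.AtPrime (q.under A)))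
              (Localization.AtPrime (q.under A)))) := by rw [h1]
      _ = (b * ρ x) ⊗ₜ[A] 1 := by rw [Algebra.TensorProduct.tmul_mul_tmul, mul_one]
  -- elements of `𝔪 Â` are absorbed
  have habs : ∀ y ∈ (maximalIdeal (Localization.AtPrime (q.under A))).map
      (algebraMap _ (AdicCompletion (maximalIdeal (Localization.AtPrime (q.under A)))
        (Localization.AtPrime (q.under A)))), ∀ b : Localization.AtPrime q,
      (b ⊗ₜ[A] y) ∈ (maximalIdeal (Localization.AtPrime q)).map
        (Algebra.TensorProduct.includeLeftRingHom :
          Localization.AtPrime q →+* TensorProduct A (Localization.AtPrime q)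
            (AdicCompletion (maximalIdeal (Localization.AtPrime (q.under A)))
              (Localization.AtPrime (q.under A)))) := by
    intro y hy
    refine Submodule.span_induction ?_ ?_ ?_ ?_ hy
    · rintro _ ⟨m, hm, rfl⟩ b
      rw [hmove]
      exact Ideal.mem_map_of_mem _ (Ideal.mul_mem_left _ _ (hρloc m hm))
    · intro b
      rw [TensorProduct.tmul_zero]
      exact Ideal.zero_mem _
    · intro y₁ y₂ _ _ h₁ h₂ b
      rw [TensorProduct.tmul_add]
      exact Ideal.add_mem _ (h₁ b) (h₂ b)
    · intro c y₁ _ h₁ b
      have : (b ⊗ₜ[A] (c • y₁)) = ((1 : Localization.AtPrime q) ⊗ₜ[A] c) * (b ⊗ₜ[A] y₁) := by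
        rw [Algebra.TensorProduct.tmul_mul_tmul, one_mul, smul_eq_mul]
      rw [this]
      exact Ideal.mul_mem_left _ _ (h₁ b)
  -- every element is congruent to `b ⊗ 1`
  have hS : ∀ t : TensorProduct A (Localization.AtPrime q)
      (AdicCompletion (maximalIdeal (Localization.AtPrime (q.under A)))
        (Localization.AtPrime (q.under A))), ∃ b : Localization.AtPrime q,
      t - b ⊗ₜ[A] 1 ∈ (maximalIdeal (Localization.AtPrime q)).map
        (Algebra.TensorProduct.includeLeftRingHom :
          Localization.AtPrime q →+* TensorProduct A (Localization.AtPrime q)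
            (AdicCompletion (maximalIdeal (Localization.AtPrime (q.under A)))
              (Localization.AtPrime (q.under A)))) := by
    intro t
    induction t using TensorProduct.induction_on with
    | zero => exact ⟨0, by simp⟩
    | add t₁ t₂ h₁ h₂ =>
      obtain ⟨b₁, hb₁⟩ := h₁
      obtain ⟨b₂, hb₂⟩ := h₂
      refine ⟨b₁ + b₂, ?_⟩
      have : t₁ + t₂ - (b₁ + b₂) ⊗ₜ[A] 1 = (t₁ - b₁ ⊗ₜ[A] 1) + (t₂ - b₂ ⊗ₜ[A] 1) := by
        rw [TensorProduct.add_tmul]; abel
      rw [this]
      exact Ideal.add_mem _ hb₁ hb₂
    | tmul b ahat =>
      obtain ⟨a₀, ha₀⟩ := Ideal.Quotient.mk_surjective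
        (AdicCompletion.evalOneₐ (maximalIdeal (Localization.AtPrime (q.under A))) ahat)
      have hker : ahat - algebraMap (Localization.AtPrime (q.under A)) (AdicCompletion (maximalIdeal (Localization.AtPrime (q.under A))) (Localization.AtPrime (q.under A))) a₀ ∈
          (maximalIdeal (Localization.AtPrime (q.under A))).map
            (algebraMap _ (AdicCompletion (maximalIdeal (Localization.AtPrime (q.under A)))
              (Localization.AtPrime (q.under A)))) := by
        rw [← AdicCompletion.ker_evalOneₐ_eq_map _ hfg, RingHom.mem_ker]
        show AdicCompletion.evalOneₐ _ (ahat - algebraMap (Localization.AtPrime (q.under A)) (AdicCompletion (maximalIdeal (Localization.AtPrime (q.under A))) (Localization.AtPrime (q.under A))) a₀) = 0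
        rw [map_sub, ← ha₀]
        have : AdicCompletion.evalOneₐ (maximalIdeal (Localization.AtPrime (q.under A)))
            (algebraMap (Localization.AtPrime (q.under A)) (AdicCompletion (maximalIdeal (Localization.AtPrime (q.under A))) (Localization.AtPrime (q.under A))) a₀) = Ideal.Quotient.mk _ a₀ := AdicCompletion.evalOneₐ_of _ a₀
        rw [this, sub_self]
      refine ⟨b * ρ a₀, ?_⟩
      have : b ⊗ₜ[A] ahat - (b * ρ a₀) ⊗ₜ[A] 1 = b ⊗ₜ[A] (ahat - algebraMap (Localization.AtPrime (q.under A)) (AdicCompletion (maximalIdeal (Localization.AtPrime (q.under A))) (Localization.AtPrime (q.under A))) a₀) := by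
        rw [TensorProduct.tmul_sub, hmove]
      rw [this]
      exact habs _ hker b
  have hker_eq : (maximalIdeal (Localization.AtPrime q)).map
      (Algebra.TensorProduct.includeLeftRingHom :
        Localization.AtPrime q →+* TensorProduct A (Localization.AtPrime q)
          (AdicCompletion (maximalIdeal (Localization.AtPrime (q.under A)))
            (Localization.AtPrime (q.under A)))) = RingHom.ker φ.toRingHom := by
    apply le_antisymm
    · rw [Ideal.map_le_iff_le_comap]
      intro b hb
      rw [Ideal.mem_comap, RingHom.mem_ker]
      show φ (b ⊗ₜ 1) = 0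
      rw [hφ]
      exact (residue_eq_zero_iff _).mpr hb
    · intro t ht
      obtain ⟨b, hb⟩ := hS t
      have h1 : φ t = 0 := ht
      have h2 : φ (t - b ⊗ₜ[A] 1) = 0 := by
        have hle : (maximalIdeal (Localization.AtPrime q)).map
            (Algebra.TensorProduct.includeLeftRingHom :
              Localization.AtPrime q →+* TensorProduct A (Localization.AtPrime q)
                (AdicCompletion (maximalIdeal (Localization.AtPrime (q.under A)))
                  (Localization.AtPrime (q.under A)))) ≤ RingHom.ker φ.toRingHom := by
          rw [Ideal.map_le_iff_le_comap]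
          intro b hb
          rw [Ideal.mem_comap, RingHom.mem_ker]
          show φ (b ⊗ₜ 1) = 0
          rw [hφ]
          exact (residue_eq_zero_iff _).mpr hb
        exact hle hb
      rw [map_sub, h1, zero_sub, neg_eq_zero, hφ] at h2
      have h3 : b ⊗ₜ[A] (1 : AdicCompletion (maximalIdeal (Localization.AtPrime (q.under A)))
          (Localization.AtPrime (q.under A))) ∈ (maximalIdeal (Localization.AtPrime q)).map
        (Algebra.TensorProduct.includeLeftRingHom :
          Localization.AtPrime q →+* TensorProduct A (Localization.AtPrime q)
            (AdicCompletion (maximalIdeal (Localization.AtPrime (q.under A)))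
              (Localization.AtPrime (q.under A)))) :=
        Ideal.mem_map_of_mem _ ((residue_eq_zero_iff _).mp h2)
      have : t = (t - b ⊗ₜ[A] 1) + b ⊗ₜ[A] 1 := by abel
      rw [this]
      exact Ideal.add_mem _ hb h3
  rw [hker_eq]
  exact RingHom.ker_isMaximal_of_surjective φ.toRingHom hφsurj

end Groth.Agent.S19475
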