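import Groth.Statements.S19477
import Mathlib
-- import your own Groth.Agent.* helpers here

set_option autoImplicit false
universe u
open Variety

namespace Groth.Agent.S19477

open TensorProduct Pointwise

section Action

variable (K F L : Type u) [Field K] [Field F] [Algebra K F] [Field L] [Algebra K L]

/-- The Galois group acts on `F ⊗ L` through the second factor. -/
noncomputable def rho : (L ≃ₐ[K] L) →* ((F ⊗[K] L) ≃ₐ[F] (F ⊗[K] L)) where
  toFun g := Algebra.TensorProduct.congr AlgEquiv.refl g
  map_one' := by
    apply AlgEquiv.ext; intro x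
    induction x using TensorProduct.induction_on with
    | zero => simp
    | tmul a b => simp
    | add x y hx hy => simp only [map_add, hx, hy]
  map_mul' g h := by
    apply AlgEquiv.ext; intro x
    induction x using TensorProduct.induction_on with
    | zero => simp
    | tmul a b => simp
    | add x y hx hy => simp only [map_add, hx, hy]

lemma rho_tmul (g : L ≃ₐ[K] L) (a : F) (b : L) : rho K F L g (a ⊗ₜ b) = a ⊗ₜ g b := by
  simp [rho]

/-- The action as a `MulSemiringAction`. -/
noncomputable def act : MulSemiringAction (L ≃ₐ[K] L) (F ⊗[K] L) :=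
  MulSemiringAction.compHom _ (rho K F L)

attribute [local instance] act

lemma smul_def (g : L ≃ₐ[K] L) (t : F ⊗[K] L) : g • t = rho K F L g t := rfl

instance smulComm : SMulCommClass (L ≃ₐ[K] L) F (F ⊗[K] L) :=
  ⟨fun g f t => by
    rw [smul_def, smul_def]
    exact map_smul (rho K F L g) f t⟩

lemma isInvariant [IsGalois K L] : Algebra.IsInvariant F (F ⊗[K] L) (L ≃ₐ[K] L) := by
  classical
  constructor
  intro t ht
  let b := Module.Free.chooseBasis K F
  let e := TensorProduct.equivFinsuppOfBasisLeft (N := L) b
  have key : ∀ (g : L ≃ₐ[K] L) (t : F ⊗[K] L) i, e (g • t) i = g (e t i) := by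
    intro g t i
    induction t using TensorProduct.induction_on with
    | zero => simp
    | tmul a l =>
      rw [smul_def, rho_tmul]
      simp only [e, TensorProduct.equivFinsuppOfBasisLeft_apply_tmul_apply]
      rw [map_smul]
    | add x y hx hy =>
      rw [smul_add, map_add, map_add, Finsupp.add_apply, Finsupp.add_apply, hx, hy, map_add]
  have hfix : ∀ i, e t i ∈ Set.range (algebraMap K L) := by
    intro i
    rw [InfiniteGalois.mem_range_algebraMap_iff_fixed]
    intro g
    rw [← key, ht]
  choose c hc using hfix
  refine ⟨∑ i ∈ (e t).support, c i • b i, ?_⟩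
  have h1 : e.symm (e t) = t := e.symm_apply_apply t
  refine Eq.trans ?_ h1
  simp only [e, TensorProduct.equivFinsuppOfBasisLeft_symm_apply, Finsupp.sum]
  rw [Algebra.TensorProduct.algebraMap_apply, Algebra.algebraMap_self, RingHom.id_apply,
    TensorProduct.sum_tmul]
  refine Finset.sum_congr rfl fun i _ => ?_
  have := hc i
  simp only [e] at this
  rw [← this, Algebra.algebraMap_eq_smul_one, TensorProduct.smul_tmul]

/-- Every element is fixed by an open subgroup. -/
lemma exists_open_fixing [Algebra.IsIntegral K L] (t : F ⊗[K] L) :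
    ∃ N : Subgroup (L ≃ₐ[K] L), IsOpen (N : Set (L ≃ₐ[K] L)) ∧ ∀ n ∈ N, n • t = t := by
  induction t using TensorProduct.induction_on with
  | zero => exact ⟨⊤, by simp, fun n _ => smul_zero n⟩
  | tmul a l =>
    refine ⟨MulAction.stabilizer (L ≃ₐ[K] L) l, stabilizer_isOpen_of_isIntegral l, fun n hn => ?_⟩
    rw [smul_def, rho_tmul]
    have : n • l = l := hn
    rw [AlgEquiv.smul_def] at this
    rw [this]
  | add x y hx hy =>
    obtain ⟨N1, h1, h1'⟩ := hx
    obtain ⟨N2, h2, h2'⟩ := hy
    refine ⟨N1 ⊓ N2, ?_, fun n hn => ?_⟩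
    · rw [Subgroup.coe_inf]; exact h1.inter h2
    · rw [smul_add, h1' n hn.1, h2' n hn.2]

lemma continuousSMul [Algebra.IsIntegral K L] [TopologicalSpace (F ⊗[K] L)]
    [DiscreteTopology (F ⊗[K] L)] : ContinuousSMul (L ≃ₐ[K] L) (F ⊗[K] L) := by
  refine ⟨?_⟩
  rw [continuous_prod_of_discrete_right]
  intro t
  rw [continuous_discrete_rng]
  intro s
  rw [isOpen_iff_mem_nhds]
  intro g0 hg0
  obtain ⟨N, hN, hN'⟩ := exists_open_fixing K F L t
  have hopen : IsOpen (g0 • (N : Set (L ≃ₐ[K] L))) := hN.leftCoset g0
  refine Filter.mem_of_superset (hopen.mem_nhds ⟨1, N.one_mem, by simp⟩) ?_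
  rintro _ ⟨n, hn, rfl⟩
  simp only [Set.mem_preimage, Set.mem_singleton_iff] at hg0 ⊢
  rw [smul_eq_mul, mul_smul, hN' n hn, hg0]

end Action

/-- Let K be a field, B an integral K-algebra of finite type with fraction field F, and L a Galois
extension of K with group Γ = Aut_K(L). Then F ⊗_K L has only finitely many prime ideals and Γ,
acting through the second factor, permutes them transitively: for prime ideals P, Q there is γ ∈ Γ
with Q the preimage of P under id ⊗ γ. (The published statement is the geometric one, that the
points of an algebraic K-scheme X correspond to the Γ-orbits of points of X_L and that these orbits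
are finite; it reduces to this algebraic statement by passing to the fibre over a point, and the
algebraic statement is what is proved.) -/
theorem result (K B L : Type u) [Field K]
    [CommRing B] [IsDomain B] [Algebra K B] [Algebra.FiniteType K B] [Field L] [Algebra K L] [IsGalois K L] :
    Finite (PrimeSpectrum (TensorProduct K (FractionRing B) L)) ∧
      ∀ P Q : PrimeSpectrum (TensorProduct K (FractionRing B) L), ∃ γ : L ≃ₐ[K] L,
        Q.asIdeal = P.asIdeal.comap
          (Algebra.TensorProduct.map (AlgHom.id K (FractionRing B)) (γ : L →ₐ[K] L)) := by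
  classical
  set F := FractionRing B with hF
  set T := F ⊗[K] L with hT
  haveI : Algebra.IsIntegral K L := inferInstance
  constructor
  · -- Noetherian
    haveI : Algebra.EssFiniteType B F := Algebra.EssFiniteType.of_isLocalization F (nonZeroDivisors B)
    haveI : Algebra.EssFiniteType K F := Algebra.EssFiniteType.comp K B F
    haveI : Algebra.EssFiniteType L (L ⊗[K] F) := inferInstance
    haveI : IsNoetherianRing (L ⊗[K] F) := Algebra.EssFiniteType.isNoetherianRing L _
    haveI : IsNoetherianRing T :=
      isNoetherianRing_of_ringEquiv _ (Algebra.TensorProduct.comm K L F).toRingEquiv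
    haveI : Algebra.IsIntegral F T := inferInstance
    haveI : Ring.KrullDimLE 0 T := by
      refine Ring.KrullDimLE.mk₀ fun I hI => ?_
      haveI := hI
      refine Ideal.isMaximal_of_isIntegral_of_isMaximal_comap (R := F) I ?_
      have : (I.comap (algebraMap F T)) = ⊥ := Ideal.eq_bot_of_prime _
      rw [this]
      exact Ideal.bot_isMaximal
    haveI : IsArtinianRing T := isArtinianRing_iff_isNoetherianRing_krullDimLE_zero.mpr ⟨‹_›, ‹_›⟩
    infer_instance
  · intro P Q
    letI : MulSemiringAction (L ≃ₐ[K] L) T := act K F L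
    letI : TopologicalSpace T := ⊥
    haveI : DiscreteTopology T := ⟨rfl⟩
    haveI : ContinuousSMul (L ≃ₐ[K] L) T := continuousSMul K F L
    haveI : Algebra.IsInvariant F T (L ≃ₐ[K] L) := isInvariant K F L
    haveI := P.2
    haveI := Q.2
    have hPQ : P.asIdeal.under F = Q.asIdeal.under F := by
      rw [Ideal.eq_bot_of_prime (P.asIdeal.under F), Ideal.eq_bot_of_prime (Q.asIdeal.under F)]
    obtain ⟨g, hg⟩ := Algebra.IsInvariant.exists_smul_of_under_eq_of_profinite (A := F)
      (G := L ≃ₐ[K] L) P.asIdeal Q.asIdeal hPQ
    refine ⟨g⁻¹, ?_⟩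
    rw [hg, Ideal.pointwise_smul_eq_comap]
    ext x
    simp only [Ideal.mem_comap]
    have : (MulSemiringAction.toRingAut (L ≃ₐ[K] L) T g).symm x =
        (Algebra.TensorProduct.map (AlgHom.id K F) ((g⁻¹ : L ≃ₐ[K] L) : L →ₐ[K] L)) x := by
      change g⁻¹ • x = _
      rw [smul_def]
      induction x using TensorProduct.induction_on with
      | zero => simp
      | tmul a l => rw [rho_tmul]; simp
      | add x y hx hy => rw [map_add, map_add, hx, hy]
    rw [this]

end Groth.Agent.S19477
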