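import Groth.Statements.S19479
import Groth.Agent.S7972
import Groth.Agent.H40.Comod
import Mathlib.LinearAlgebra.FiniteDimensional.Lemmas

set_option autoImplicit false
universe u v w
open HopfRep

namespace Groth.Agent.S19479


section Simple

variable {K : Type u} {C : Type v} [Field K] [AddCommGroup C] [Module K C] [Coalgebra K C]
variable {V : Type w} [AddCommGroup V] [Module K V] [HopfRep.Comod K C V]

/-- `W` is a simple subcomodule. -/
def IsSimpleSub (W : Submodule K V) : Prop :=
  HopfRep.IsSubcomod (k := K) (A := C) W ∧ W ≠ ⊥ ∧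
    ∀ W' : Submodule K V, HopfRep.IsSubcomod (k := K) (A := C) W' → W' ≤ W → W' = ⊥ ∨ W' = W

/-- every nonzero subcomodule contains a simple subcomodule -/
theorem exists_simple_le {U : Submodule K V} (hU : HopfRep.IsSubcomod (k := K) (A := C) U)
    (hne : U ≠ ⊥) : ∃ W : Submodule K V, W ≤ U ∧ IsSimpleSub (C := C) W := by
  classical
  obtain ⟨u, hu, hu0⟩ := (Submodule.ne_bot_iff _).mp hne
  obtain ⟨F, hFfin, huF, hF⟩ := Groth.Agent.H40.exists_finite_subcomod_mem (k := K) (C := C) u
  have hex : ∃ n : ℕ, ∃ W : Submodule K V, W ≤ U ⊓ F ∧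
      HopfRep.IsSubcomod (k := K) (A := C) W ∧ W ≠ ⊥ ∧ Module.finrank K W = n :=
    ⟨_, U ⊓ F, le_rfl, Groth.Agent.H40.isSubcomod_inf hU hF,
      (Submodule.ne_bot_iff _).mpr ⟨u, ⟨hu, huF⟩, hu0⟩, rfl⟩
  obtain ⟨W, hWle, hWsub, hWne, hWrank⟩ := Nat.find_spec hex
  have hmin : ∀ {m : ℕ}, m < Nat.find hex → ¬ ∃ W : Submodule K V, W ≤ U ⊓ F ∧
      HopfRep.IsSubcomod (k := K) (A := C) W ∧ W ≠ ⊥ ∧ Module.finrank K W = m :=
    fun {m} hm => Nat.find_min hex hm
  refine ⟨W, hWle.trans inf_le_left, hWsub, hWne, ?_⟩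
  intro W' hW' hle
  by_contra hcon
  push_neg at hcon
  have hlt : W' < W := lt_of_le_of_ne hle hcon.2
  haveI : FiniteDimensional K F := hFfin
  haveI : FiniteDimensional K W := Submodule.finiteDimensional_of_le (hWle.trans inf_le_right)
  have hrank := Submodule.finrank_lt_finrank_of_lt hlt
  rw [hWrank] at hrank
  exact hmin hrank ⟨W', hle.trans hWle, hW', hcon.1, rfl⟩

end Simple

open TensorProduct in
/-- Let K be a field, C a K-coalgebra and V a right C-comodule. The following are equivalent: (i) V is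
the internal direct sum of a family of simple subcomodules, i.e. there is an independent family of
subcomodules W_i with sum V, each W_i nonzero and having no subcomodules inside it other than 0 and
W_i; (ii) every subcomodule of V has a complementary subcomodule. A subcomodule is a subspace W
whose coaction lands in the image of W ⊗ C. (The source states this for left comodules; a left
comodule over C is a right comodule over the co-opposite coalgebra, so the statement is the same.) -/
theorem result {K : Type u} {C : Type v} [Field K]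
    [AddCommGroup C] [Module K C] [Coalgebra K C] (V : Type w) [AddCommGroup V] [Module K V] [HopfRep.Comod K C V] :
    (∃ (ι : Type w) (W : ι → Submodule K V), iSupIndep W ∧ iSup W = ⊤ ∧ ∀ i,
        HopfRep.IsSubcomod (k := K) (A := C) (W i) ∧ W i ≠ ⊥ ∧
          ∀ W' : Submodule K V, HopfRep.IsSubcomod (k := K) (A := C) W' → W' ≤ W i → W' = ⊥ ∨ W' = W i) ↔
      HopfRep.IsSemisimpleComod K C V := by
  constructor
  · rintro ⟨ι, W, _, hsum, hW⟩ U hU
    obtain ⟨J, _, hJ⟩ := Groth.Agent.S7972.result K C V W (fun i => (hW i).1)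
      (fun i => (hW i).2) hsum U hU
    exact ⟨⨆ j : J, W j, Groth.Agent.H40.isSubcomod_iSup (fun j => (hW j).1), hJ⟩
  · intro hss
    let ι : Type w := {W : Submodule K V // IsSimpleSub (C := C) W}
    let S : ι → Submodule K V := fun i => i.1
    have hS : ∀ i, HopfRep.IsSubcomod (k := K) (A := C) (S i) := fun i => i.2.1
    have hsimple : ∀ i, S i ≠ ⊥ ∧ ∀ W' : Submodule K V,
        HopfRep.IsSubcomod (k := K) (A := C) W' → W' ≤ S i → W' = ⊥ ∨ W' = S i := fun i => i.2.2
    have hSig : HopfRep.IsSubcomod (k := K) (A := C) (⨆ i, S i) :=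
      Groth.Agent.H40.isSubcomod_iSup hS
    obtain ⟨W', hW', hcompl⟩ := hss _ hSig
    have hW'bot : W' = ⊥ := by
      by_contra hne
      obtain ⟨W0, hle, hW0⟩ := exists_simple_le (C := C) hW' hne
      have h1 : W0 ≤ ⨆ i, S i := le_iSup S ⟨W0, hW0⟩
      have h2 : W0 ≤ (⨆ i, S i) ⊓ W' := le_inf h1 hle
      rw [hcompl.inf_eq_bot, le_bot_iff] at h2
      exact hW0.2.1 h2
    have hsum : ⨆ i, S i = ⊤ := by
      have := hcompl.sup_eq_top
      rwa [hW'bot, sup_bot_eq] at this
    obtain ⟨J, hJind, hJ⟩ := Groth.Agent.S7972.result K C V S hS hsimple hsum ⊥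
      Groth.Agent.H40.isSubcomod_bot
    refine ⟨J, fun j => S j, hJind, ?_, fun j => ⟨hS j, hsimple j⟩⟩
    have := hJ.sup_eq_top
    rwa [bot_sup_eq] at this

end Groth.Agent.S19479
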