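import Groth.Statements.S19485
import Groth.Agent.H94.Crimp
import Mathlib.Tactic

set_option autoImplicit false
universe u
open Crimp

namespace Groth.Agent.S19485

open Groth.Agent.H94.Crimp W4c1hurwitzcpt

/-- The criterion for closedness under multiplication on which the description of the stratum rests.
Over R = k⟦t⟧ with k an algebraically closed field of characteristic zero, let S̃ = k⟦x⟧ regarded as
an R-algebra through t ↦ x ^ 3, that is S̃ = R[x] / (x ^ 3 - t). Let m, n be natural numbers with m
not divisible by 3, and let g be a power series with nonzero constant term. Then the R-submodule of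
S̃ spanned by 1 and x ^ m g together with the ideal x ^ n S̃ is closed under multiplication if and
only if n ≤ 2m. (The published proposition goes on to describe the stratum of crimps with these
invariants as irreducible of dimension ⌊(n - m)/3⌋ with a normal form for g; only the closedness
criterion is stated here.) -/
theorem result {k : Type u} [Field k] [IsAlgClosed k] [CharZero k]
    (m n : ℕ) (hm : ¬ 3 ∣ m) (x g : W4c1hurwitzcpt.RootDisk 3 k)
    (hx : W4c1hurwitzcpt.RootDisk.val x = PowerSeries.X) (hg : PowerSeries.order (W4c1hurwitzcpt.RootDisk.val g) = 0)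
    (M : Submodule (PowerSeries k) (W4c1hurwitzcpt.RootDisk 3 k))
    (hM : M = Submodule.span (PowerSeries k) {1, x ^ m * g} ⊔
      (Ideal.span {x ^ n} : Ideal (W4c1hurwitzcpt.RootDisk 3 k)).restrictScalars (PowerSeries k)) :
    (∀ a ∈ M, ∀ b ∈ M, a * b ∈ M) ↔ n ≤ 2 * m := by
  have hJM : ∀ z, z ∈ (Ideal.span {x ^ n} : Ideal (RootDisk 3 k)) → z ∈ M := by
    intro z hz
    rw [hM]
    exact Submodule.mem_sup_right ((Submodule.restrictScalars_mem _ _ _).mpr hz)
  have h1M : (1 : RootDisk 3 k) ∈ M := by
    rw [hM]; exact Submodule.mem_sup_left (Submodule.subset_span (by simp))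
  have hyM : x ^ m * g ∈ M := by
    rw [hM]; exact Submodule.mem_sup_left (Submodule.subset_span (by simp))
  constructor
  · intro hclosed
    by_contra hlt
    push Not at hlt
    have hmem := hclosed _ hyM _ hyM
    rw [hM] at hmem
    obtain ⟨u, hu, j, hj, huj⟩ := Submodule.mem_sup.mp hmem
    obtain ⟨r₁, r₂, rfl⟩ := Submodule.mem_span_pair.mp hu
    have hj' : j ∈ (Ideal.span {x ^ n} : Ideal (RootDisk 3 k)) := hj
    obtain ⟨c, rfl⟩ := Ideal.mem_span_singleton'.mp hj'
    have h1 := congrArg RootDisk.val huj
    simp only [map_add, map_mul, map_pow, val_smul, map_one, mul_one, hx] at h1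
    exact not_sq_three m n hm hlt _ _ _ _ _ hg h1
  · intro hle a ha b hb
    have hMspan : M = Submodule.span (PowerSeries k)
        (({1, x ^ m * g} : Set (RootDisk 3 k)) ∪
          (((Ideal.span {x ^ n} : Ideal (RootDisk 3 k)).restrictScalars (PowerSeries k) :
            Submodule (PowerSeries k) (RootDisk 3 k)) : Set (RootDisk 3 k))) := by
      rw [hM, Submodule.span_union, Submodule.span_eq]
    have hyy : x ^ m * g * (x ^ m * g) ∈ (Ideal.span {x ^ n} : Ideal (RootDisk 3 k)) := by
      refine Ideal.mem_span_singleton'.mpr ⟨x ^ (2 * m - n) * g * g, ?_⟩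
      have hpow : x ^ (2 * m - n) * x ^ n = x ^ m * x ^ m := by
        rw [← pow_add, ← pow_add]
        congr 1
        omega
      linear_combination (g * g) * hpow
    have hmul : M * M ≤ M := by
      conv_lhs => rw [hMspan]
      rw [Submodule.span_mul_span]
      refine Submodule.span_le.mpr ?_
      rintro _ ⟨a, ha, b, hb, rfl⟩
      rcases (Set.mem_union _ _ _).mp ha with ha | ha
      · rcases (Set.mem_union _ _ _).mp hb with hb | hb
        · rcases ha with rfl | ha
          · rcases hb with rfl | hb
            · simpa using h1M
            · rw [Set.mem_singleton_iff] at hb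
              subst hb
              simpa using hyM
          · rw [Set.mem_singleton_iff] at ha
            subst ha
            rcases hb with rfl | hb
            · simpa using hyM
            · rw [Set.mem_singleton_iff] at hb
              subst hb
              exact hJM _ hyy
        · have hb' : b ∈ (Ideal.span {x ^ n} : Ideal (RootDisk 3 k)) := hb
          exact hJM _ (Ideal.mul_mem_left _ a hb')
      · have ha' : a ∈ (Ideal.span {x ^ n} : Ideal (RootDisk 3 k)) := ha
        exact hJM _ (Ideal.mul_mem_right b _ ha')
    exact hmul (Submodule.mul_mem_mul ha hb)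

end Groth.Agent.S19485
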