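import Groth.Statements.S19486
import Groth.Agent.H94.Crimp
import Mathlib.Tactic

set_option autoImplicit false
universe u
open Crimp

namespace Groth.Agent.S19486

open Groth.Agent.H94.Crimp W4c1hurwitzcpt

/-- The emptiness of the stratum rests on the following computation. Over R = k⟦t⟧ with k an
algebraically closed field of characteristic zero, let S̃ = S̃₁ × R where S̃₁ = k⟦x⟧ is regarded as
an R-algebra through t ↦ x ^ 2, that is S̃₁ = R[x] / (x ^ 2 - t), with R embedded diagonally in the
product. Let m be odd, n > 2m, and let g be a power series with nonzero constant term. Then the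
R-submodule of S̃ spanned by 1 = (1, 1) and (x ^ m g, 0) together with the ideal x ^ n S̃₁ × 0 is
not closed under multiplication. (The published item concludes that the corresponding stratum of
crimps is empty; only this computation is stated here, with the ideal read as x ^ n S̃₁ × 0.) -/
theorem result {k : Type u} [Field k] [IsAlgClosed k] [CharZero k]
    (m n : ℕ) (hm : Odd m) (hmn : 2 * m < n) (x g : W4c1hurwitzcpt.RootDisk 2 k)
    (hx : W4c1hurwitzcpt.RootDisk.val x = PowerSeries.X) (hg : PowerSeries.order (W4c1hurwitzcpt.RootDisk.val g) = 0)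
    (M : Submodule (PowerSeries k) (W4c1hurwitzcpt.RootDisk 2 k × PowerSeries k))
    (hM : M = Submodule.span (PowerSeries k) {(1 : W4c1hurwitzcpt.RootDisk 2 k × PowerSeries k), (x ^ m * g, 0)} ⊔
      ((Ideal.span {x ^ n} : Ideal (W4c1hurwitzcpt.RootDisk 2 k)).restrictScalars (PowerSeries k)).prod ⊥) :
    ∃ a ∈ M, ∃ b ∈ M, a * b ∉ M := by
  subst hM
  have hy : ((x ^ m * g, 0) : RootDisk 2 k × PowerSeries k) ∈
      Submodule.span (PowerSeries k)
        {(1 : RootDisk 2 k × PowerSeries k), (x ^ m * g, 0)} ⊔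
      ((Ideal.span {x ^ n} : Ideal (RootDisk 2 k)).restrictScalars (PowerSeries k)).prod ⊥ :=
    Submodule.mem_sup_left (Submodule.subset_span (by simp))
  refine ⟨_, hy, _, hy, ?_⟩
  intro hmem
  obtain ⟨u, hu, j, hj, huj⟩ := Submodule.mem_sup.mp hmem
  obtain ⟨r₁, r₂, rfl⟩ := Submodule.mem_span_pair.mp hu
  obtain ⟨hj1, hj2⟩ := Submodule.mem_prod.mp hj
  have hj2' : j.2 = 0 := (Submodule.mem_bot _).mp hj2
  have hj1' : j.1 ∈ (Ideal.span {x ^ n} : Ideal (RootDisk 2 k)) := hj1
  obtain ⟨c, hc⟩ := Ideal.mem_span_singleton'.mp hj1'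
  have h1 := congrArg Prod.fst huj
  have h2 := congrArg Prod.snd huj
  simp only [Prod.fst_add, Prod.snd_add, Prod.smul_fst, Prod.smul_snd, Prod.fst_mul,
    Prod.snd_mul, Prod.fst_one, Prod.snd_one, smul_zero, mul_zero, add_zero, hj2'] at h1 h2
  have hr₁ : r₁ = 0 := by simpa using h2
  rw [hr₁, zero_smul, zero_add, ← hc] at h1
  have h3 := congrArg RootDisk.val h1
  simp only [map_add, map_mul, map_pow, val_smul, hx] at h3
  exact not_sq_two m n hm hmn _ _ _ _ hg h3

end Groth.Agent.S19486
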