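import Groth.Statements.S19487
import Mathlib

set_option autoImplicit false
open W4c1frobunstiva

namespace Groth.Agent.S19487


lemma exists_sigma (n D : ℕ) (S : Finset (Fin n)) (hS : S.card = D) :
    ∃ σ : Fin D ⊕ Fin (n - D) ≃ Fin n,
      (∀ a, σ (Sum.inl a) ∈ S) ∧ (∀ b, σ (Sum.inr b) ∉ S) := by
  classical
  have h1 : Fintype.card {x // x ∈ S} = D := by rw [Fintype.card_coe, hS]
  have h2 : Fintype.card {x // ¬ (x ∈ S)} = n - D := by
    rw [Fintype.card_subtype_compl, Fintype.card_fin, Fintype.card_coe, hS]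
  refine ⟨(Equiv.sumCongr (Fintype.equivFinOfCardEq h1).symm
    (Fintype.equivFinOfCardEq h2).symm).trans (Equiv.sumCompl (· ∈ S)), ?_, ?_⟩
  · intro a
    simp only [Equiv.trans_apply, Equiv.sumCongr_apply, Sum.map_inl, Equiv.sumCompl_apply_inl]
    exact ((Fintype.equivFinOfCardEq h1).symm a).2
  · intro b
    simp only [Equiv.trans_apply, Equiv.sumCongr_apply, Sum.map_inr, Equiv.sumCompl_apply_inr]
    exact ((Fintype.equivFinOfCardEq h2).symm b).2

lemma sum_split {n D : ℕ} (σ : Fin D ⊕ Fin (n - D) ≃ Fin n) (w : Fin n → ℕ) :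
    ∑ x, w x = ∑ a, w (σ (Sum.inl a)) + ∑ b, w (σ (Sum.inr b)) := by
  rw [← Equiv.sum_comp σ w, Fintype.sum_sum_type]

lemma fiber_count (h n s D : ℕ) (S : Finset (Fin n)) (hS : S.card = D) :
    (Finset.univ.filter fun e : Fin n → Fin (2 * h + 1) =>
        (∀ i, 1 ≤ (e i : ℕ)) ∧ ∑ i, (e i : ℕ) = s ∧
          (Finset.univ.filter fun i => 2 * (e i : ℕ) < 2 * h + 1) = S).card =
    (Finset.univ.filter fun fg : (Fin D → Fin (h + 1)) × (Fin (n - D) → Fin (h + 1)) =>
        (∀ a, 1 ≤ (fg.1 a : ℕ)) ∧ (∀ b, 1 ≤ (fg.2 b : ℕ)) ∧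
          ∑ a, (fg.1 a : ℕ) + ∑ b, (fg.2 b : ℕ) + (n - D) * h = s).card := by
  obtain ⟨σ, hσ1, hσ2⟩ := exists_sigma n D S hS
  refine Finset.card_bij'
    (fun e _ => ((fun a => (⟨min (e (σ (Sum.inl a)) : ℕ) h, by omega⟩ : Fin (h + 1))),
      (fun b => (⟨min ((e (σ (Sum.inr b)) : ℕ) - h) h, by omega⟩ : Fin (h + 1)))))
    (fun fg _ => fun x => Sum.elim (fun a => (⟨(fg.1 a : ℕ), by omega⟩ : Fin (2 * h + 1)))
      (fun b => (⟨(fg.2 b : ℕ) + h, by omega⟩ : Fin (2 * h + 1))) (σ.symm x))
    ?_ ?_ ?_ ?_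
  · -- forward maps into target
    intro e he
    simp only [Finset.mem_filter, Finset.mem_univ, true_and] at he ⊢
    obtain ⟨he1, he2, he3⟩ := he
    have hin : ∀ x, x ∈ S ↔ 2 * (e x : ℕ) < 2 * h + 1 := by
      intro x; rw [← he3]; simp
    have hA : ∀ a, min (e (σ (Sum.inl a)) : ℕ) h = (e (σ (Sum.inl a)) : ℕ) := by
      intro a
      have := (hin _).mp (hσ1 a)
      omega
    have hB : ∀ b, min ((e (σ (Sum.inr b)) : ℕ) - h) h + h = (e (σ (Sum.inr b)) : ℕ) := by
      intro b
      have h1 : ¬ (2 * (e (σ (Sum.inr b)) : ℕ) < 2 * h + 1) := fun hh => hσ2 b ((hin _).mpr hh)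
      have h2 := (e (σ (Sum.inr b))).isLt
      omega
    refine ⟨fun a => ?_, fun b => ?_, ?_⟩
    · show 1 ≤ min (e (σ (Sum.inl a)) : ℕ) h
      rw [hA]; exact he1 _
    · show 1 ≤ min ((e (σ (Sum.inr b)) : ℕ) - h) h
      have h1 : ¬ (2 * (e (σ (Sum.inr b)) : ℕ) < 2 * h + 1) := fun hh => hσ2 b ((hin _).mpr hh)
      have h2 := (e (σ (Sum.inr b))).isLt
      omega
    · show ∑ a, min (e (σ (Sum.inl a)) : ℕ) h + ∑ b, min ((e (σ (Sum.inr b)) : ℕ) - h) h
        + (n - D) * h = s
      rw [← he2, sum_split σ (fun x => (e x : ℕ))]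
      have : ∑ b : Fin (n - D), min ((e (σ (Sum.inr b)) : ℕ) - h) h + (n - D) * h
          = ∑ b : Fin (n - D), (e (σ (Sum.inr b)) : ℕ) := by
        rw [← Finset.sum_congr rfl (fun b _ => hB b), Finset.sum_add_distrib, Finset.sum_const,
          Finset.card_univ, Fintype.card_fin, smul_eq_mul]
      rw [add_assoc, this]
      congr 1
      exact Finset.sum_congr rfl (fun a _ => hA a)
  · -- backward maps into source
    intro fg hfg
    simp only [Finset.mem_filter, Finset.mem_univ, true_and] at hfg ⊢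
    obtain ⟨hf1, hg1, hsum⟩ := hfg
    refine ⟨fun x => ?_, ?_, ?_⟩
    · rcases hx : σ.symm x with a | b
      · simp only [Sum.elim_inl]; exact hf1 a
      · simp only [Sum.elim_inr]; have := hg1 b; omega
    · rw [sum_split σ]
      simp only [Equiv.symm_apply_apply, Sum.elim_inl, Sum.elim_inr]
      rw [Finset.sum_add_distrib, Finset.sum_const, Finset.card_univ, Fintype.card_fin,
        smul_eq_mul]
      omega
    · ext x
      simp only [Finset.mem_filter, Finset.mem_univ, true_and]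
      obtain ⟨y, rfl⟩ := σ.surjective x
      rw [Equiv.symm_apply_apply]
      rcases y with a | b
      · simp only [Sum.elim_inl]
        have := (fg.1 a).isLt
        constructor
        · intro _; exact hσ1 a
        · intro _; omega
      · simp only [Sum.elim_inr]
        have := hg1 b
        constructor
        · intro hh; omega
        · intro hh; exact absurd hh (hσ2 b)
  · -- left inverse
    intro e he
    simp only [Finset.mem_filter, Finset.mem_univ, true_and] at he
    obtain ⟨he1, he2, he3⟩ := he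
    have hin : ∀ x, x ∈ S ↔ 2 * (e x : ℕ) < 2 * h + 1 := by
      intro x; rw [← he3]; simp
    funext x
    obtain ⟨y, rfl⟩ := σ.surjective x
    rw [Equiv.symm_apply_apply]
    apply Fin.ext
    rcases y with a | b
    · simp only [Sum.elim_inl]
      have := (hin _).mp (hσ1 a)
      omega
    · simp only [Sum.elim_inr]
      have h1 : ¬ (2 * (e (σ (Sum.inr b)) : ℕ) < 2 * h + 1) := fun hh => hσ2 b ((hin _).mpr hh)
      have h2 := (e (σ (Sum.inr b))).isLt
      omega
  · -- right inverse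
    intro fg _
    apply Prod.ext
    · funext a
      apply Fin.ext
      simp only [Equiv.symm_apply_apply, Sum.elim_inl]
      have := (fg.1 a).isLt
      omega
    · funext b
      apply Fin.ext
      simp only [Equiv.symm_apply_apply, Sum.elim_inr]
      have := (fg.2 b).isLt
      omega

lemma conv_count (h n s D : ℕ) :
    (Finset.univ.filter fun fg : (Fin D → Fin (h + 1)) × (Fin (n - D) → Fin (h + 1)) =>
        (∀ a, 1 ≤ (fg.1 a : ℕ)) ∧ (∀ b, 1 ≤ (fg.2 b : ℕ)) ∧
          ∑ a, (fg.1 a : ℕ) + ∑ b, (fg.2 b : ℕ) + (n - D) * h = s).card =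
    ∑ j ∈ Finset.range (s + 1),
      (Finset.univ.filter fun f : Fin D → Fin (h + 1) =>
        (∀ a, 1 ≤ (f a : ℕ)) ∧ ∑ a, (f a : ℕ) = j).card *
      (Finset.univ.filter fun g : Fin (n - D) → Fin (h + 1) =>
        (∀ b, 1 ≤ (g b : ℕ)) ∧ ∑ b, (g b : ℕ) = s - j - (n - D) * h).card := by
  rw [Finset.card_eq_sum_card_fiberwise
    (f := fun fg : (Fin D → Fin (h + 1)) × (Fin (n - D) → Fin (h + 1)) => ∑ a, (fg.1 a : ℕ))
    (t := Finset.range (s + 1))]
  · apply Finset.sum_congr rfl
    intro j hj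
    rw [Finset.mem_range] at hj
    rw [← Finset.card_product]
    congr 1
    ext ⟨f, g⟩
    simp only [Finset.mem_filter, Finset.mem_univ, true_and, Finset.mem_product]
    constructor
    · rintro ⟨⟨hf1, hg1, hsum⟩, hj'⟩
      refine ⟨⟨hf1, hj'⟩, hg1, ?_⟩
      omega
    · rintro ⟨⟨hf1, hj'⟩, hg1, hsum⟩
      refine ⟨⟨hf1, hg1, ?_⟩, hj'⟩
      have hc : (∑ b, (g b : ℕ)) = 0 → (n - D) * h = 0 := by
        intro h0
        rcases Nat.eq_zero_or_pos (n - D) with hz | hz
        · rw [hz, Nat.zero_mul]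
        · exfalso
          have h1 := Finset.single_le_sum (f := fun b => (g b : ℕ)) (fun _ _ => Nat.zero_le _)
            (Finset.mem_univ (⟨0, hz⟩ : Fin (n - D)))
          have h2 := hg1 ⟨0, hz⟩
          omega
      omega
  · intro fg hfg
    simp only [Finset.coe_filter, Finset.mem_univ, true_and, Set.mem_ofPred_eq] at hfg
    simp only [Finset.coe_range, Set.mem_Iio]
    omega

/-- The second formula. For p odd and natural numbers n, s, write N_p(n, s) for the number of monomials
of degree s in n variables in which every variable occurs with a positive exponent strictly less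
than p, that is of exponent vectors (e_1, …, e_n) with sum s and 1 ≤ e_i ≤ p − 1, and N_p^D(n, s)
for the number of those in which exactly D variables occur with exponent less than p/2. Then
N_p^D(n, s) = C(n, D) · Σ_j N_{(p+1)/2}(D, j) · N_{(p+1)/2}(n − D, s − j − (n − D)(p − 1)/2), the
sum running over 0 ≤ j ≤ s. (Natural-number subtraction is used in the last argument; when it
truncates and n > D the factor vanishes, as it should. The published setting has p an odd prime;
only p odd is used. The companion inclusion–exclusion expression for N_p(n, s) itself is a separate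
statement.) -/
theorem result (p n s D : ℕ) (hp : Odd p) :
    Fintype.card {e : Fin n → Fin p // (∀ i, 1 ≤ (e i : ℕ)) ∧ ∑ i, (e i : ℕ) = s ∧
        (Finset.univ.filter fun i => 2 * (e i : ℕ) < p).card = D} =
      n.choose D * ∑ j ∈ Finset.range (s + 1),
        Fintype.card {e : Fin D → Fin ((p + 1) / 2) // (∀ i, 1 ≤ (e i : ℕ)) ∧ ∑ i, (e i : ℕ) = j} *
          Fintype.card {e : Fin (n - D) → Fin ((p + 1) / 2) // (∀ i, 1 ≤ (e i : ℕ)) ∧ ∑ i, (e i : ℕ) = (s - j - (n - D) * ((p - 1) / 2))} := by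
  obtain ⟨h, rfl⟩ := hp
  have hp1 : (2 * h + 1 + 1) / 2 = h + 1 := by omega
  have hp2 : (2 * h + 1 - 1) / 2 = h := by omega
  rw [hp1, hp2]
  rw [Fintype.card_of_subtype (Finset.univ.filter fun e : Fin n → Fin (2 * h + 1) =>
        (∀ i, 1 ≤ (e i : ℕ)) ∧ ∑ i, (e i : ℕ) = s ∧
          (Finset.univ.filter fun i => 2 * (e i : ℕ) < 2 * h + 1).card = D) (by simp)]
  have hA : ∀ (m t : ℕ), Fintype.card {e : Fin m → Fin (h + 1) //
      (∀ i, 1 ≤ (e i : ℕ)) ∧ ∑ i, (e i : ℕ) = t} =
      (Finset.univ.filter fun f : Fin m → Fin (h + 1) =>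
        (∀ a, 1 ≤ (f a : ℕ)) ∧ ∑ a, (f a : ℕ) = t).card := by
    intro m t
    exact Fintype.card_of_subtype _ (by simp)
  simp only [hA]
  rw [← conv_count]
  rw [Finset.card_eq_sum_card_fiberwise
    (f := fun e : Fin n → Fin (2 * h + 1) => Finset.univ.filter fun i => 2 * (e i : ℕ) < 2 * h + 1)
    (t := Finset.powersetCard D Finset.univ)]
  · have key : ∀ S ∈ Finset.powersetCard D (Finset.univ : Finset (Fin n)),
        (Finset.filter (fun e : Fin n → Fin (2 * h + 1) =>
          (Finset.univ.filter fun i => 2 * (e i : ℕ) < 2 * h + 1) = S)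
          (Finset.univ.filter fun e : Fin n → Fin (2 * h + 1) =>
            (∀ i, 1 ≤ (e i : ℕ)) ∧ ∑ i, (e i : ℕ) = s ∧
            (Finset.univ.filter fun i => 2 * (e i : ℕ) < 2 * h + 1).card = D)).card =
        (Finset.univ.filter fun fg : (Fin D → Fin (h + 1)) × (Fin (n - D) → Fin (h + 1)) =>
          (∀ a, 1 ≤ (fg.1 a : ℕ)) ∧ (∀ b, 1 ≤ (fg.2 b : ℕ)) ∧
            ∑ a, (fg.1 a : ℕ) + ∑ b, (fg.2 b : ℕ) + (n - D) * h = s).card := by
      intro S hS
      rw [Finset.mem_powersetCard] at hS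
      rw [← fiber_count h n s D S hS.2]
      congr 1
      ext e
      simp only [Finset.mem_filter, Finset.mem_univ, true_and]
      constructor
      · rintro ⟨⟨h1, h2, _⟩, h4⟩
        exact ⟨h1, h2, h4⟩
      · rintro ⟨h1, h2, h4⟩
        exact ⟨⟨h1, h2, by rw [h4]; exact hS.2⟩, h4⟩
    rw [Finset.sum_congr rfl key, Finset.sum_const, Finset.card_powersetCard, Finset.card_univ,
      Fintype.card_fin, smul_eq_mul]
  · intro e he
    simp only [Finset.coe_filter, Finset.mem_univ, true_and, Set.mem_ofPred_eq] at he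
    simp only [Finset.mem_coe, Finset.mem_powersetCard]
    exact ⟨Finset.subset_univ _, he.2.2⟩

end Groth.Agent.S19487
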