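import Groth.Statements.S19488
import Mathlib

set_option autoImplicit false
set_option maxHeartbeats 400000
universe u
open CategoryTheory CategoryTheory.Limits AlgebraicGeometry
open W4c1frobunstiva

namespace Groth.Agent.S19488

theorem push_faithful {S T : Scheme.{u}} (f : S ⟶ T) [IsClosedImmersion f] {E E' : S.Modules}
    (h : E ⟶ E') (hh : (Scheme.Modules.pushforward f).map h = 0) : h = 0 := by
  apply Scheme.Modules.hom_ext
  intro V
  obtain ⟨t, ht, htV⟩ := f.isEmbedding.toIsInducing.isOpen_iff.mp V.isOpen
  obtain rfl : f ⁻¹ᵁ (⟨t, ht⟩ : T.Opens) = V := TopologicalSpace.Opens.ext htV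
  have h3 := congr(Scheme.Modules.Hom.app $hh (⟨t, ht⟩ : T.Opens))
  exact h3


/-- Fix a closed immersion of schemes f : S → T, an O_T-module G, an O_S-module E and an epimorphism ψ :
G → f_*E. Then the morphism ψ′ : f^*G → E that corresponds to ψ under the adjunction between
pullback and pushforward (it is the pullback f^*ψ followed by the counit f^*f_*E → E, an isomorphism
for a closed immersion) is an epimorphism, and the canonical map f^*(ker ψ) → ker(f^*ψ) is an
epimorphism. (The published statement takes G and E locally free, which these two assertions do not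
use.) -/
theorem result
    {S T : Scheme.{u}} (f : S ⟶ T) [IsClosedImmersion f] (G : T.Modules) (E : S.Modules)
    (ψ : G ⟶ (Scheme.Modules.pushforward f).obj E) [Epi ψ] :
    Epi (((Scheme.Modules.pullbackPushforwardAdjunction f).homEquiv G E).symm ψ) ∧
      Epi (kernelComparison ψ (Scheme.Modules.pullback f)) := by
  constructor
  · apply Preadditive.epi_of_cancel_zero
    intro E' h hz
    apply push_faithful f
    have hnat := (Scheme.Modules.pullbackPushforwardAdjunction f).homEquiv_naturality_right_symm ψ h
    rw [hz] at hnat
    have h2 : ψ ≫ (Scheme.Modules.pushforward f).map h = 0 := by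
      apply ((Scheme.Modules.pullbackPushforwardAdjunction f).homEquiv G E').symm.injective
      rw [hnat, Adjunction.homEquiv_counit, Functor.map_zero, zero_comp]
    exact zero_of_epi_comp ψ h2
  · have hS := ShortComplex.kernelSequence_exact ψ
    haveI : Epi (ShortComplex.kernelSequence ψ).g := by
      dsimp [ShortComplex.kernelSequence]; infer_instance
    have hS' := hS.map_of_epi_of_preservesCokernel (Scheme.Modules.pullback f) inferInstance
      inferInstance
    rw [ShortComplex.exact_iff_epi_kernel_lift] at hS'
    exact hS'

end Groth.Agent.S19488
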