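import Groth.Statements.S19502
import Mathlib

set_option autoImplicit false
universe u
open W4c3ghconstell

namespace Groth.Agent.S19502

section aux
variable {ι : Type u} [DecidableEq ι]

lemma tsum_split (a : ι → ℝ) (ha : Summable a) (D : Finset ι) :
    Summable (fun i => if i ∈ D then (0:ℝ) else a i) ∧
    ∑' i, a i = ∑ i ∈ D, a i + ∑' i, if i ∈ D then (0:ℝ) else a i := by
  have h1 : Summable (fun i => if i ∈ D then a i else (0:ℝ)) :=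
    summable_of_ne_finset_zero (s := D) (fun i hi => by simp [hi])
  have h2 : Summable (fun i => if i ∈ D then (0:ℝ) else a i) := by
    have := ha.sub h1
    refine this.congr (fun i => ?_)
    by_cases hi : i ∈ D <;> simp [hi]
  refine ⟨h2, ?_⟩
  have e : ∀ i, a i = (if i ∈ D then a i else (0:ℝ)) + (if i ∈ D then (0:ℝ) else a i) := by
    intro i; by_cases hi : i ∈ D <;> simp [hi]
  calc ∑' i, a i = ∑' i, ((if i ∈ D then a i else (0:ℝ)) + (if i ∈ D then (0:ℝ) else a i)) :=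
        tsum_congr e
    _ = ∑' i, (if i ∈ D then a i else (0:ℝ)) + ∑' i, (if i ∈ D then (0:ℝ) else a i) :=
        h1.tsum_add h2
    _ = _ := by
      congr 1
      rw [tsum_eq_sum (s := D) (fun i hi => by simp [hi])]
      exact Finset.sum_congr rfl (fun i hi => by simp [hi])

lemma main (a b q : ι → ℝ) (hab : ∀ i, a i * q i = b i) (ha : Summable a) (hb : Summable b)
    (Dm D D' : Finset ι) (hDm : Dm ⊆ D) (hDD' : D ⊆ D') :
    (((∑ i ∈ D', b i) + ((∑' i, if i ∈ D' then (0 : ℝ) else a i) / ((D' \ Dm).card : ℝ)) *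
        (∑ σ ∈ D' \ Dm, q σ)) -
      ((∑ i ∈ D, b i) + ((∑' i, if i ∈ D then (0 : ℝ) else a i) / ((D \ Dm).card : ℝ)) *
        (∑ σ ∈ D \ Dm, q σ)) =
      ∑ τ ∈ D' \ D, (a τ + (∑' i, if i ∈ D' then (0 : ℝ) else a i) / ((D' \ Dm).card : ℝ)) *
        (q τ - (1 / ((D \ Dm).card : ℝ)) * (∑ σ ∈ D \ Dm, q σ))) ∧
    ((∑' i, b i) - ((∑ i ∈ D, b i) + ((∑' i, if i ∈ D then (0 : ℝ) else a i) /
        ((D \ Dm).card : ℝ)) * (∑ σ ∈ D \ Dm, q σ)) =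
      ∑' τ, if τ ∈ D then (0 : ℝ) else a τ *
        (q τ - (1 / ((D \ Dm).card : ℝ)) * (∑ σ ∈ D \ Dm, q σ))) := by
  obtain ⟨sD, eD⟩ := tsum_split a ha D
  obtain ⟨sD', eD'⟩ := tsum_split a ha D'
  obtain ⟨sbD, ebD⟩ := tsum_split b hb D
  -- finite sum splittings
  have hA : ∑ i ∈ D', a i = ∑ i ∈ D' \ D, a i + ∑ i ∈ D, a i := (Finset.sum_sdiff hDD').symm
  have hB : ∑ i ∈ D', b i = ∑ i ∈ D' \ D, b i + ∑ i ∈ D, b i := (Finset.sum_sdiff hDD').symm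
  have hsd : D' \ Dm = (D' \ D) ∪ (D \ Dm) := by
    ext x
    simp only [Finset.mem_sdiff, Finset.mem_union]
    constructor
    · rintro ⟨h1, h2⟩
      by_cases hx : x ∈ D
      · exact Or.inr ⟨hx, h2⟩
      · exact Or.inl ⟨h1, hx⟩
    · rintro (⟨h1, h2⟩ | ⟨h1, h2⟩)
      · exact ⟨h1, fun h => h2 (hDm h)⟩
      · exact ⟨hDD' h1, h2⟩
  have hdisj : Disjoint (D' \ D) (D \ Dm) := by
    rw [Finset.disjoint_left]
    intro x hx hx'
    exact (Finset.mem_sdiff.1 hx).2 (Finset.mem_sdiff.1 hx').1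
  have hQ : ∑ σ ∈ D' \ Dm, q σ = ∑ σ ∈ D' \ D, q σ + ∑ σ ∈ D \ Dm, q σ := by
    rw [hsd, Finset.sum_union hdisj]
  have hcard : ((D' \ Dm).card : ℝ) = ((D' \ D).card : ℝ) + ((D \ Dm).card : ℝ) := by
    rw [hsd, Finset.card_union_of_disjoint hdisj]; push_cast; ring
  have hQ0 : (D \ Dm).card = 0 → ∑ σ ∈ D \ Dm, q σ = 0 := by
    intro h0
    rw [Finset.card_eq_zero] at h0
    rw [h0, Finset.sum_empty]
  have hBt : ∑ τ ∈ D' \ D, b τ = ∑ τ ∈ D' \ D, a τ * q τ :=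
    Finset.sum_congr rfl (fun τ _ => (hab τ).symm)
  constructor
  · have hR : ∀ (c m : ℝ), ∑ τ ∈ D' \ D, (a τ + c) * (q τ - m) =
        ∑ τ ∈ D' \ D, a τ * q τ + c * ∑ τ ∈ D' \ D, q τ - m * ∑ τ ∈ D' \ D, a τ
          - ((D' \ D).card : ℝ) * (c * m) := by
      intro c m
      have : ∀ τ ∈ D' \ D, (a τ + c) * (q τ - m) = a τ * q τ + c * q τ - m * a τ - c * m := by
        intro τ _; ring
      rw [Finset.sum_congr rfl this, Finset.sum_sub_distrib, Finset.sum_sub_distrib,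
        Finset.sum_add_distrib, ← Finset.mul_sum, ← Finset.mul_sum, Finset.sum_const,
        nsmul_eq_mul]
    rw [hR, hB, hQ, hcard, ← hBt]
    have hS : (∑' i, if i ∈ D then (0 : ℝ) else a i) =
        (∑' i, if i ∈ D' then (0 : ℝ) else a i) + ∑ i ∈ D' \ D, a i := by
      linarith
    rw [hS]
    generalize (∑' i, if i ∈ D' then (0 : ℝ) else a i) = S'
    generalize ∑ i ∈ D' \ D, a i = A
    generalize ∑ i ∈ D' \ D, b i = Bt
    generalize ∑ i ∈ D, b i = B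
    generalize ∑ σ ∈ D' \ D, q σ = T
    by_cases hd : (D \ Dm).card = 0
    · rw [hQ0 hd]
      ring
    · generalize ∑ σ ∈ D \ Dm, q σ = Q
      have hd' : ((D \ Dm).card : ℝ) ≠ 0 := by exact_mod_cast hd
      have he : (0:ℝ) ≤ ((D' \ D).card : ℝ) := Nat.cast_nonneg _
      have hd0 : (0:ℝ) < ((D \ Dm).card : ℝ) := by positivity
      generalize ((D \ Dm).card : ℝ) = d at *
      generalize ((D' \ D).card : ℝ) = e at *
      have : e + d ≠ 0 := by positivity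
      field_simp
      ring
  · have hint : ∀ τ, (if τ ∈ D then (0 : ℝ) else a τ *
        (q τ - (1 / ((D \ Dm).card : ℝ)) * (∑ σ ∈ D \ Dm, q σ))) =
        (if τ ∈ D then (0:ℝ) else b τ) -
          ((1 / ((D \ Dm).card : ℝ)) * (∑ σ ∈ D \ Dm, q σ)) * (if τ ∈ D then (0:ℝ) else a τ) := by
      intro τ
      by_cases hτ : τ ∈ D
      · simp [hτ]
      · simp only [hτ, if_false]
        rw [← hab τ]; ring
    rw [tsum_congr hint, sbD.tsum_sub (sD.mul_left _), tsum_mul_left, ebD]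
    ring

end aux

theorem result {ι : Type u} [DecidableEq ι]
    (θ : ι → ℚ) (h h' : ι → ℕ) (hle : ∀ i, h' i ≤ h i) (hfin : {i | θ i < 0}.Finite)
    (hsum : Summable (fun i => (θ i : ℝ) * (h i : ℝ))) (D D' : Finset ι)
    (hDm : hfin.toFinset ⊆ D) (hDD' : D ⊆ D') (hsupp : ∀ i ∈ D', θ i ≠ 0) :
    (((∑ i ∈ D', (θ i : ℝ) * (h' i : ℝ)) + ((∑' i, if i ∈ D' then (0 : ℝ) else (θ i : ℝ) * (h i : ℝ)) / ((D' \ hfin.toFinset).card : ℝ)) * (∑ σ ∈ D' \ hfin.toFinset, ((h' σ : ℝ) / (h σ : ℝ)))) - ((∑ i ∈ D, (θ i : ℝ) * (h' i : ℝ)) + ((∑' i, if i ∈ D then (0 : ℝ) else (θ i : ℝ) * (h i : ℝ)) / ((D \ hfin.toFinset).card : ℝ)) * (∑ σ ∈ D \ hfin.toFinset, ((h' σ : ℝ) / (h σ : ℝ)))) =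
      ∑ τ ∈ D' \ D, ((θ τ : ℝ) * (h τ : ℝ) + (∑' i, if i ∈ D' then (0 : ℝ) else (θ i : ℝ) * (h i : ℝ)) / ((D' \ hfin.toFinset).card : ℝ)) *
        (((h' τ : ℝ) / (h τ : ℝ)) - (1 / ((D \ hfin.toFinset).card : ℝ)) * (∑ σ ∈ D \ hfin.toFinset, ((h' σ : ℝ) / (h σ : ℝ))))) ∧
    ((∑' i, (θ i : ℝ) * (h' i : ℝ)) - ((∑ i ∈ D, (θ i : ℝ) * (h' i : ℝ)) + ((∑' i, if i ∈ D then (0 : ℝ) else (θ i : ℝ) * (h i : ℝ)) / ((D \ hfin.toFinset).card : ℝ)) * (∑ σ ∈ D \ hfin.toFinset, ((h' σ : ℝ) / (h σ : ℝ)))) =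
      ∑' τ, if τ ∈ D then (0 : ℝ) else (θ τ : ℝ) * (h τ : ℝ) *
        (((h' τ : ℝ) / (h τ : ℝ)) - (1 / ((D \ hfin.toFinset).card : ℝ)) * (∑ σ ∈ D \ hfin.toFinset, ((h' σ : ℝ) / (h σ : ℝ))))) := by
  have hab : ∀ i, (θ i : ℝ) * (h i : ℝ) * ((h' i : ℝ) / (h i : ℝ)) = (θ i : ℝ) * (h' i : ℝ) := by
    intro i
    by_cases h0 : h i = 0
    · have : h' i = 0 := Nat.le_zero.1 (h0 ▸ hle i)
      simp [h0, this]
    · have : (h i : ℝ) ≠ 0 := by exact_mod_cast h0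
      field_simp
  have hb : Summable (fun i => (θ i : ℝ) * (h' i : ℝ)) := by
    refine Summable.of_norm_bounded hsum.abs (fun i => ?_)
    rw [Real.norm_eq_abs, abs_mul, abs_mul]
    refine mul_le_mul_of_nonneg_left ?_ (abs_nonneg _)
    rw [abs_of_nonneg (Nat.cast_nonneg _), abs_of_nonneg (Nat.cast_nonneg _)]
    exact_mod_cast hle i
  exact main (fun i => (θ i : ℝ) * (h i : ℝ)) (fun i => (θ i : ℝ) * (h' i : ℝ))
    (fun i => (h' i : ℝ) / (h i : ℝ)) hab hsum hb hfin.toFinset D D' hDm hDD'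

end Groth.Agent.S19502
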