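import Groth.Statements.S19505
import Groth.Agent.H36.OrdEnd
import Groth.Agent.H1.Hyp_F2
import Groth.Agent.H73.LocHilbHfin_HFC
import Groth.Agent.H17.HomSh
import Groth.Agent.H88.HypPhi
-- import your own Groth.Agent.* helpers here

set_option autoImplicit false
universe u
open CategoryTheory CategoryTheory.Limits AlgebraicGeometry TopologicalSpace Opposite
open OrdSurf

namespace Groth.Agent.S19505

/-- Let k be an algebraically closed field of characteristic zero and X a smooth projective surface over
k (an integral k-scheme, smooth over k, of dimension two, admitting a closed immersion over k into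
some projective space P^n_k), with generic point η. Let A be a sheaf of rings on X with a morphism φ
: O_X → A of sheaves of rings with central image whose generic stalk A_η is a division ring (simple
as a left module over itself), and let M be a sheaf of A-modules whose underlying O_X-module is
coherent with torsion-free stalks and whose generic stalk M_η is a simple A_η-module. Then M is
simple in the sense that End_A(M) = k: every endomorphism ψ of the sheaf of A-modules M is
multiplication by a scalar c ∈ k, i.e. on every open U it acts on sections as multiplication by the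
image of c in Γ(U, O_X) under the structure map, pushed into A by φ. (The published statement takes
A to be an order on X and M a torsion-free A-module of rank one; only the hypotheses listed are
assumed here, the others playing no role in the argument.) -/
theorem result (k : Type u) [Field k] [IsAlgClosed k] [CharZero k]
    (X : Scheme.{u}) [X.Over (Spec (CommRingCat.of k))] [IsIntegral X]
    [Smooth (X ↘ Spec (CommRingCat.of k))] (hdim : topologicalKrullDim X = 2)
    (hproj : ∃ (n : ℕ) (ι : X ⟶ CohB1.ProjSpace n k), IsClosedImmersion ι ∧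
      ι ≫ CohB1.ProjSpace.toSpec n k = X ↘ Spec (CommRingCat.of k))
    (A : Sheaf (Opens.grothendieckTopology X) RingCat.{u}) (φ : X.ringCatSheaf ⟶ A)
    (hcen : ∀ (U : (Opens X)ᵒᵖ) (s : X.ringCatSheaf.obj.obj U) (a : A.obj.obj U),
      φ.hom.app U s * a = a * φ.hom.app U s)
    (hAη : IsSimpleModule (↑(TopCat.Presheaf.stalk (C := RingCat.{u}) (X := X.carrier) A.obj (genericPoint X))) (↑(TopCat.Presheaf.stalk (C := RingCat.{u}) (X := X.carrier) A.obj (genericPoint X))))
    (M : SheafOfModules.{u} A)
    (hMc : Coh.IsCoh (X := X) ((SheafOfModules.restrictScalars φ).obj M))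
    (hMt : TorSh.IsTorsionFree (X := X) ((SheafOfModules.restrictScalars φ).obj M))
    (hMη : IsSimpleModule (↑(TopCat.Presheaf.stalk (C := RingCat.{u}) (X := X.carrier) A.obj (genericPoint X))) (↑(TopCat.Presheaf.stalk (C := Ab.{u}) (X := X.carrier) M.val.presheaf (genericPoint X))))
    (ψ : M ⟶ M) :
    ∃ c : k, ∀ (U : (Opens X)ᵒᵖ) (m : M.val.obj U),
      (ψ.val.app U).hom m =
        φ.hom.app U ((X.presheaf.map (homOfLE (le_top (a := U.unop))).op)
          (((X ↘ Spec (CommRingCat.of k)).appTop).hom ((Scheme.ΓSpecIso (CommRingCat.of k)).inv.hom c))) • m := by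
  classical
  have hLN : IsLocallyNoetherian X :=
    Groth.Agent.H36.OrdStalk.isLocallyNoetherian_of_lft_field k X
  obtain ⟨n, ι, hι, hιk⟩ := hproj
  let N : X.Modules := (SheafOfModules.restrictScalars φ).obj M
  have hNc : Coh.IsCoh N := hMc
  have hcohH : Coh.IsCoh (RefHull.homSh N N) := Groth.Agent.H17.HomSh.isCoh_homSh N N hNc hNc
  have hfin : Module.Finite k (Coh.HH X (RefHull.homSh N N) 0) :=
    Groth.Agent.H1.Hyp_F2.finite_HH_zero_of_closedImmersion k X n ι hιk _ hcohH
  obtain ⟨e, he⟩ := Groth.Agent.H73.LocHilbHfin_HFC.HFC N N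
  -- the `k`-structure on global sections of the sheaf Hom
  let tg : k →+* Γ(X, ⊤) := Coh.toGlobal (X ↘ Spec (CommRingCat.of k))
  let modV : Module k Γ(RefHull.homSh N N, ⊤) := Module.compHom _ tg
  let E0 := Groth.Agent.H21.Hyp.e0 (RefHull.homSh N N)
  let E0l : Coh.HH X (RefHull.homSh N N) 0 ≃ₗ[k] Γ(RefHull.homSh N N, ⊤) :=
    { E0 with
      map_smul' := fun c t => Groth.Agent.H88.HypPhi.e0_smul _ (tg c) t }
  have hfinV : Module.Finite k Γ(RefHull.homSh N N, ⊤) := Module.Finite.equiv E0l
  -- the endomorphism of `O_X`-modules underlying `ψ`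
  let ψ' : N ⟶ N := (SheafOfModules.restrictScalars φ).map ψ
  -- the operator `g ↦ g ≫ ψ'`
  let T : Γ(RefHull.homSh N N, ⊤) →ₗ[k] Γ(RefHull.homSh N N, ⊤) :=
    { toFun := fun g => e.symm (e g ≫ ψ')
      map_add' := fun g h => by rw [map_add, Preadditive.add_comp, map_add]
      map_smul' := fun c g => by
        apply e.injective
        rw [AddEquiv.apply_symm_apply]
        apply Scheme.Modules.hom_ext
        intro U
        ext m
        have h1 := he (tg c) g U m
        have h2 := he (tg c) (e.symm (e g ≫ ψ')) U m
        rw [AddEquiv.apply_symm_apply] at h2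
        show ψ'.app U ((e (tg c • g)).app U m) = (e (tg c • e.symm (e g ≫ ψ'))).app U m
        rw [h1, h2]
        exact Scheme.Modules.Hom.app_smul ψ' _ _ }
  by_cases hnt : Nontrivial Γ(RefHull.homSh N N, ⊤)
  · obtain ⟨c, hc⟩ := Module.End.exists_eigenvalue T
    obtain ⟨g, hg⟩ := hc.exists_hasEigenvector
    have hg0 : g ≠ 0 := hg.2
    have hTg : e g ≫ ψ' = e (tg c • g) := by
      have h' : e.symm (e g ≫ ψ') = tg c • g := hg.apply_eq_smul
      rw [← h', AddEquiv.apply_symm_apply]
    have hsec : ∀ (U : X.Opens) (m : Γ(N, U)),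
        ψ'.app U ((e g).app U m) =
          (X.presheaf.map (homOfLE (le_top : U ≤ ⊤)).op (tg c)) • (e g).app U m := by
      intro U m
      have h1 := he (tg c) g U m
      rw [← h1, ← hTg]
      rfl
    let a : ∀ U : (Opens X)ᵒᵖ, A.obj.obj U := fun U =>
      φ.hom.app U ((X.presheaf.map (homOfLE (le_top (a := U.unop))).op)
        (((X ↘ Spec (CommRingCat.of k)).appTop).hom
          ((Scheme.ΓSpecIso (CommRingCat.of k)).inv.hom c)))
    have hnat : ∀ {U V : (Opens X)ᵒᵖ} (f : U ⟶ V), A.obj.map f (a U) = a V := by
      intro U V f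
      have h1 := congrArg (fun t => t.hom ((X.presheaf.map (homOfLE (le_top (a := U.unop))).op)
        (tg c))) (φ.hom.naturality f)
      refine h1.symm.trans ?_
      show φ.hom.app V (X.presheaf.map f (X.presheaf.map (homOfLE (le_top (a := U.unop))).op
        (tg c))) = φ.hom.app V (X.presheaf.map (homOfLE (le_top (a := V.unop))).op (tg c))
      congr 1
      rw [← ConcreteCategory.comp_apply, ← X.presheaf.map_comp]
      rfl
    have hcen' : ∀ (U : (Opens X)ᵒᵖ) (b : A.obj.obj U), a U * b = b * a U :=
      fun U b => hcen U _ b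
    let D : M ⟶ M := ψ - Groth.Agent.H36.OrdEnd.scalarEnd M a hnat hcen'
    rcases Groth.Agent.H36.OrdEnd.injective_or_eq_zero φ M M hMc.1 hMt hMc.1 hMt hMη D with
      hinj | hD
    · exfalso
      apply hg0
      have hz : e g = 0 := by
        apply Scheme.Modules.hom_ext
        intro U
        ext m
        apply hinj (op U)
        have h3 := hsec U m
        obtain ⟨x, hx⟩ : ∃ x : M.val.obj (op U), x = (e g).app U m := ⟨_, rfl⟩
        have h4 : (ModuleCat.Hom.hom (D.val.app (op U))) (0 : M.val.obj (op U)) = 0 := map_zero _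
        have h5 : (ModuleCat.Hom.hom (D.val.app (op U))) x = 0 := by
          show (ψ.val.app (op U)).hom x - a (op U) • x = 0
          rw [sub_eq_zero, hx]
          exact h3
        exact (hx ▸ h5).trans h4.symm
      apply e.injective
      rw [hz, map_zero]
    · refine ⟨c, fun U m => ?_⟩
      have h := sub_eq_zero.mp hD
      rw [h]
      rfl
  · rw [not_nontrivial_iff_subsingleton] at hnt
    have h1 : 𝟙 N = 0 := by
      apply e.symm.injective
      exact Subsingleton.elim _ _
    have hm0 : ∀ (U : (Opens X)ᵒᵖ) (m : M.val.obj U), m = 0 := by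
      intro U m
      have h2 := congrArg (fun f : N ⟶ N => f.app U.unop m) h1
      exact h2
    refine ⟨0, fun U m => ?_⟩
    rw [hm0 U m, map_zero, smul_zero]

end Groth.Agent.S19505
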