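import Groth.Statements.S19506
import Groth.Agent.S9316
import Groth.Agent.S2453

set_option autoImplicit false
universe u
open CAlg

namespace Groth.Agent.S19506

/-- (i) ⇔ (iii): let k be a field and A a complete local Noetherian k-algebra with residue field k (a
k-algebra map π : A → k with kernel the maximal ideal; A complete for the adic topology of its
maximal ideal). Then A is regular if and only if A satisfies the infinitesimal lifting criterion:
for every Artinian local k-algebra R and every ideal J of R of square zero, every local k-algebra
homomorphism A → R/J (one carrying non-units to non-units) lifts to a k-algebra homomorphism A → R.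
(The test algebras R range over one universe, that of A. The published criterion is worded for
arbitrary k-algebra homomorphisms A → R/J; it is stated here for local ones, the case the argument
establishes and the form in which the text itself restates the criterion afterwards. The published
statement lists a third equivalent condition, A ≅ k[[x_1, …, x_d]].) -/
theorem result (k A : Type u) [Field k]
    [CommRing A] [Algebra k A] [IsLocalRing A] [IsNoetherianRing A]
    [IsAdicComplete (IsLocalRing.maximalIdeal A) A]
    (π : A →ₐ[k] k) (hπ : RingHom.ker π = IsLocalRing.maximalIdeal A) :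
    IsRegularLocalRing A ↔
      ∀ (R : Type u) [CommRing R] [Algebra k R] [IsArtinianRing R] [IsLocalRing R] (J : Ideal R),
        J ^ 2 = ⊥ → ∀ f : A →ₐ[k] R ⧸ J, IsLocalHom (f : A →+* R ⧸ J) →
          ∃ g : A →ₐ[k] R, (Ideal.Quotient.mkₐ k J).comp g = f := by
  classical
  -- residue field is `k`, so geometrically reduced
  have hπm : ∀ a ∈ IsLocalRing.maximalIdeal A, π a = 0 := by
    intro a ha
    rw [← hπ] at ha
    exact ha
  let φ : IsLocalRing.ResidueField A →ₐ[k] k :=
    Ideal.Quotient.liftₐ (IsLocalRing.maximalIdeal A) π hπm
  haveI hkk : Algebra.IsGeometricallyReduced k k := by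
    rw [Algebra.isGeometricallyReduced_field_iff]
    exact isReduced_of_injective (Algebra.TensorProduct.rid k k (AlgebraicClosure k))
      (Algebra.TensorProduct.rid k k (AlgebraicClosure k)).injective
  haveI hgr : Algebra.IsGeometricallyReduced k (IsLocalRing.ResidueField A) :=
    Algebra.IsGeometricallyReduced.of_injective φ (RingHom.injective φ.toRingHom)
  have hiff : CAlgX.IsAdicFormallySmooth k A (IsLocalRing.maximalIdeal A) ↔ IsRegularLocalRing A :=
    (Groth.Agent.S2453.result (k := k) (A := A)).out 0 3
  rw [← hiff]
  constructor
  · intro hfs R _ _ _ _ J hJ f hf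
    have hJtop : J ≠ ⊤ := by
      intro h
      have h1 : (1 : R) ∈ J ^ 2 := by rw [h, Ideal.top_pow]; exact Submodule.mem_top
      rw [hJ] at h1
      exact one_ne_zero h1
    haveI : Nontrivial (R ⧸ J) := Ideal.Quotient.nontrivial_iff.mpr hJtop
    haveI : IsLocalRing (R ⧸ J) :=
      IsLocalRing.of_surjective' (Ideal.Quotient.mk J) Ideal.Quotient.mk_surjective
    obtain ⟨N, hN⟩ := IsArtinianRing.isNilpotent_jacobson_bot (R := R ⧸ J)
    rw [IsLocalRing.jacobson_eq_maximalIdeal ⊥ bot_ne_top] at hN
    refine hfs R J hJ f ⟨N, fun x hx => ?_⟩
    have h1 : (IsLocalRing.maximalIdeal A).map (f : A →+* R ⧸ J) ≤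
        IsLocalRing.maximalIdeal (R ⧸ J) := by
      rw [Ideal.map_le_iff_le_comap]
      intro a ha
      rw [Ideal.mem_comap, IsLocalRing.mem_maximalIdeal, mem_nonunits_iff]
      intro hu
      exact ha (hf.map_nonunit a hu)
    have h2 : (f : A →+* R ⧸ J) x ∈ ((IsLocalRing.maximalIdeal A) ^ N).map (f : A →+* R ⧸ J) :=
      Ideal.mem_map_of_mem _ hx
    rw [Ideal.map_pow] at h2
    have h3 := Ideal.pow_right_mono h1 N h2
    rw [hN] at h3
    exact h3
  · intro h
    haveI : IsLocalHom (algebraMap k A) := by
      constructor
      intro a ha
      have : a ≠ 0 := by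
        rintro rfl
        rw [map_zero] at ha
        exact not_isUnit_zero ha
      exact isUnit_iff_ne_zero.mpr this
    refine (Groth.Agent.S9316.result (R := k) (S := A)).mpr ?_
    intro A' _ _ _ _ _ J hJ _ _ ψ hψ _
    exact h A' J hJ ψ hψ

end Groth.Agent.S19506
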