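import Groth.Statements.S19507
import Groth.Agent.H63.RegUnit
import Groth.Agent.H63.TangentData
import Groth.Agent.H23.RegularLocal
import Groth.Agent.S15595
import Groth.Agent.S14588

set_option autoImplicit false
universe u
open CategoryTheory MonoidalCategory CartesianMonoidalCategory MonObj GrpObj AlgebraicGeometry
open AlgGrp
attribute [local instance] RingHom.ker_isPrime

namespace Groth.Agent.S19507

/-- (iv) ⇒ (i): let k be a field, G a k-group scheme of finite type and e ∈ G the identity point (the
image of the unit section Spec k → G). If the local ring of G at e is regular, then G is smooth over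
k. (The corollary lists six equivalent conditions; (i) ⇒ (iv) is the standard fact that smooth
schemes over a field have regular local rings, and the remaining conditions concern the base change
to an algebraic closure and the completed local ring.) -/
theorem result (k : Type u) [Field k]
    (G : Over (Spec (CommRingCat.of k))) [GrpObj G] [LocallyOfFiniteType G.hom] [QuasiCompact G.hom]
    (e : G.left) (he : e ∈ Set.range (η[G]).left.base)
    (hreg : IsRegularLocalRing (G.left.presheaf.stalk e)) : Smooth G.hom := by
  obtain ⟨pt, rfl⟩ := he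
  have hpt : (η[G]).left.base pt = Groth.Agent.H63.GrpDer.e₀ G := by
    show (η[G]).left.base pt = (η[G]).left.base (IsLocalRing.closedPoint k)
    congr 1
    exact @Subsingleton.elim (PrimeSpectrum k) inferInstance _ _
  rw [hpt] at hreg
  let K : Type u := AlgebraicClosure k
  let g : Spec (CommRingCat.of K) ⟶ Spec (CommRingCat.of k) :=
    Spec.map (CommRingCat.ofHom (algebraMap k K))
  haveI : LocallyOfFiniteType (Red.bc g G).hom :=
    inferInstanceAs (LocallyOfFiniteType (Limits.pullback.snd G.hom g))
  let t' : ↥((𝟙_ (Over (Spec (CommRingCat.of K)))).left) := IsLocalRing.closedPoint K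
  -- the unit point of the base change lies over the unit point
  have hcomp : (η[Red.bc g G]).left ≫ Limits.pullback.fst G.hom g =
      ((Functor.LaxMonoidal.ε (Over.pullback g)).left ≫ Limits.pullback.fst _ _) ≫ (η[G]).left := by
    have h1 : η[Red.bc g G] =
        Functor.LaxMonoidal.ε (Over.pullback g) ≫ (Over.pullback g).map η[G] := rfl
    rw [h1, Over.comp_left, Category.assoc, Category.assoc]
    congr 1
    simp [Over.pullback]
    exact Limits.pullback.lift_fst _ _ _
  have hπ' : (Limits.pullback.fst G.hom g).base ((η[Red.bc g G]).left.base t') =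
      Groth.Agent.H63.GrpDer.e₀ G := by
    have h2 := congrArg (fun φ => φ.base t') hcomp
    simp only [Scheme.Hom.comp_base, TopCat.hom_comp, ContinuousMap.comp_apply] at h2
    rw [h2]
    show (η[G]).left.base _ = (η[G]).left.base (IsLocalRing.closedPoint k)
    congr 1
    exact @Subsingleton.elim (PrimeSpectrum k) inferInstance _ _
  letI algk := Groth.Agent.H63.StalkBaseChange.stalkAlgebra G.hom (Groth.Agent.H63.GrpDer.e₀ G)
  obtain ⟨Q, hQ, hQm, ⟨e⟩⟩ := Groth.Agent.H63.StalkBaseChange.exists_prime_ringEquiv_stalk (K := K)
    G.hom (Limits.pullback.fst G.hom g) (Limits.pullback.snd G.hom g)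
    (IsPullback.of_hasPullback G.hom g) ((η[Red.bc g G]).left.base t')
    (Groth.Agent.H63.GrpDer.e₀ G) hπ'
  have halg : algebraMap k (Groth.Agent.H63.GrpDer.A G) = Groth.Agent.H63.GrpDer.α G :=
    Groth.Agent.H63.RegUnit.algebraMap_stalk_unit G
  let π : Groth.Agent.H63.GrpDer.A G →ₐ[k] k :=
    { Groth.Agent.H63.GrpDer.φ G with
      commutes' := fun r => by
        show Groth.Agent.H63.GrpDer.φ G (algebraMap k (Groth.Agent.H63.GrpDer.A G) r) = r
        rw [halg]
        exact RingHom.congr_fun (Groth.Agent.H63.GrpDer.φ_comp_α G) r }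
  have hkerπ : RingHom.ker π = IsLocalRing.maximalIdeal (Groth.Agent.H63.GrpDer.A G) :=
    Groth.Agent.H63.TangentData.ker_eq_maximalIdeal (Groth.Agent.H63.GrpDer.α G)
      (Groth.Agent.H63.GrpDer.φ G) (Groth.Agent.H63.GrpDer.φ_comp_α G)
  have hQeq := Groth.Agent.H63.RegUnit.ker_eq_of_one_tmul_mem π Q hQ.ne_top
    (fun a ha => hQm a (hkerπ ▸ ha))
  haveI : IsLocallyNoetherian G.left := LocallyOfFiniteType.isLocallyNoetherian G.hom
  haveI : IsLocallyNoetherian (Red.bc g G).left :=
    LocallyOfFiniteType.isLocallyNoetherian (Red.bc g G).hom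
  haveI hN : IsNoetherianRing (Localization.AtPrime Q) :=
    isNoetherianRing_of_ringEquiv _ e.symm
  subst hQeq
  haveI hreg' : IsRegularLocalRing (Groth.Agent.H63.GrpDer.A G) := hreg
  have hregQ := (Groth.Agent.S15595.result k K (Groth.Agent.H63.GrpDer.A G) π hkerπ).mp hreg'
  haveI : IsDomain (Localization.AtPrime (RingHom.ker
      ((Algebra.TensorProduct.rid k K K).toAlgHom.comp
        (Algebra.TensorProduct.map (AlgHom.id K K) π)))) :=
    @Groth.Agent.H23.isDomain_of_isRegularLocalRing _ _ hregQ
  have h4 : _root_.IsReduced ((Red.bc g G).left.presheaf.stalk ((η[Red.bc g G]).left.base t')) :=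
    isReduced_of_injective e.symm.toRingHom e.symm.injective
  exact Groth.Agent.S14588.result k G t' h4

end Groth.Agent.S19507
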