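import Groth.Statements.S19512
import Mathlib

set_option autoImplicit false
universe u
open CategoryTheory CategoryTheory.Limits AlgebraicGeometry
open Variety

namespace Groth.Agent.S19512

/-- Let k be a field and f : X → Y a k-morphism between proper k-schemes which is a fibration, i.e. O_Y
→ f_*O_X is an isomorphism (Γ(V, O_Y) → Γ(f⁻¹V, O_X) bijective for every open V ⊆ Y). If X is
integral, then Y is integral. (The second assertion of (ii), generic flatness of f, is quoted from
the literature and not stated.) -/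
theorem result (k : Type u) [Field k] (X Y : Scheme.{u})
    [X.Over (Spec (CommRingCat.of k))] [Y.Over (Spec (CommRingCat.of k))] [IsProper (X ↘ Spec (CommRingCat.of k))] [IsProper (Y ↘ Spec (CommRingCat.of k))]
    (f : X ⟶ Y) (hf : f ≫ (Y ↘ Spec (CommRingCat.of k)) = X ↘ Spec (CommRingCat.of k)) (hfib : ∀ V : Y.Opens, IsIso (f.app V))
    [AlgebraicGeometry.IsIntegral X] : AlgebraicGeometry.IsIntegral Y := by
  refine ⟨⟨f.base (Nonempty.some inferInstance)⟩, ?_⟩
  intro U hU
  haveI := hfib U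
  let e : Γ(Y, U) ≃+* Γ(X, f ⁻¹ᵁ U) := (asIso (f.app U)).commRingCatIsoToRingEquiv
  obtain ⟨⟨y, hyU⟩⟩ := hU
  have hne : Nonempty ↥(f ⁻¹ᵁ U) := by
    by_contra hempty
    have hpre : f ⁻¹ᵁ U = ⊥ := by
      ext x
      simp only [TopologicalSpace.Opens.coe_bot, Set.mem_empty_iff_false, iff_false]
      intro hx
      exact hempty ⟨⟨x, hx⟩⟩
    have hsub : Subsingleton Γ(X, f ⁻¹ᵁ U) := by
      rw [hpre]; infer_instance
    have hsubY : Subsingleton Γ(Y, U) := e.toEquiv.subsingleton
    have h01 : (0 : Γ(Y, U)) = 1 := Subsingleton.elim _ _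
    have := congrArg (Y.presheaf.germ U y hyU).hom h01
    rw [map_zero, map_one] at this
    exact zero_ne_one this
  have hdom : IsDomain Γ(X, f ⁻¹ᵁ U) :=
    @IsIntegral.component_integral X _ (f ⁻¹ᵁ U) (by
      obtain ⟨⟨x, hx⟩⟩ := hne
      exact ⟨⟨x, hx⟩⟩)
  exact MulEquiv.isDomain Γ(X, f ⁻¹ᵁ U) e.toMulEquiv

end Groth.Agent.S19512
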