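import Groth.Statements.S19514
import Groth.Agent.S1544
import Mathlib

set_option autoImplicit false
universe u
open CategoryTheory CategoryTheory.Limits AlgebraicGeometry
open Variety

namespace Groth.Agent.S19514

attribute [local instance] Curv2.resAlgebra Curv2.stalkAlgebra

theorem opens_eq_bot_of_one_eq_zero (X : Scheme.{u}) (U : X.Opens) (h : (1 : Γ(X, U)) = 0) :
    U = ⊥ := by
  rw [eq_bot_iff]
  intro y hy
  exfalso
  have h1 : (X.presheaf.germ U y hy).hom 1 = (X.presheaf.germ U y hy).hom 0 := by rw [h]
  rw [map_one, map_zero] at h1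
  exact one_ne_zero h1

theorem surjective_of_fib {X Y : Scheme.{u}} (f : X ⟶ Y) [UniversallyClosed f]
    (hfib : ∀ V : Y.Opens, IsIso (f.app V)) : Function.Surjective f := by
  have hcl : IsClosed (Set.range f) := f.isClosedMap.isClosed_range
  let V : Y.Opens := ⟨(Set.range f)ᶜ, hcl.isOpen_compl⟩
  have hpre : f ⁻¹ᵁ V = ⊥ := by
    rw [eq_bot_iff]
    intro x hx
    exact hx ⟨x, rfl⟩
  haveI := hfib V
  have hsubX : Subsingleton Γ(X, f ⁻¹ᵁ V) := by
    rw [hpre]
    infer_instance
  have hsubY : Subsingleton Γ(Y, V) :=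
    (asIso (f.app V)).commRingCatIsoToRingEquiv.toEquiv.subsingleton
  have hV : V = ⊥ := opens_eq_bot_of_one_eq_zero Y V (Subsingleton.elim _ _)
  intro y
  by_contra hy
  have hyV : y ∈ V := hy
  rw [hV] at hyV
  exact hyV

theorem geomIrr_of_surj {X Y S : Scheme.{u}} (f : X ⟶ Y) (g : Y ⟶ S) [Surjective f]
    [GeometricallyIrreducible (f ≫ g)] : GeometricallyIrreducible g := by
  refine ⟨fun K _ y W fst snd h => ?_⟩
  have htop : IsPullback (pullback.fst f fst) (pullback.snd f fst) f fst :=
    IsPullback.of_hasPullback f fst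
  have hbig := htop.paste_vert h
  haveI : IrreducibleSpace ↥(pullback f fst) :=
    GeometricallyIrreducible.geometrically_irreducibleSpace y _ _ hbig
  exact (pullback.snd f fst).surjective.irreducibleSpace (pullback.snd f fst).continuous

/-- Let k be a field and f : X → Y a k-morphism between proper k-schemes which is a fibration, i.e. O_Y
→ f_*O_X is an isomorphism (Γ(V, O_Y) → Γ(f⁻¹V, O_X) bijective for every open V ⊆ Y). If X is
geometrically integral over k, then so is Y. (The assertion of (iii) for geometric normality is not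
stated here.) -/
theorem result (k : Type u) [Field k] (X Y : Scheme.{u})
    [X.Over (Spec (CommRingCat.of k))] [Y.Over (Spec (CommRingCat.of k))] [IsProper (X ↘ Spec (CommRingCat.of k))] [IsProper (Y ↘ Spec (CommRingCat.of k))]
    (f : X ⟶ Y) (hf : f ≫ (Y ↘ Spec (CommRingCat.of k)) = X ↘ Spec (CommRingCat.of k)) (hfib : ∀ V : Y.Opens, IsIso (f.app V))
    [GeometricallyIntegral (X ↘ Spec (CommRingCat.of k))] : GeometricallyIntegral (Y ↘ Spec (CommRingCat.of k)) := by
  haveI : UniversallyClosed (f ≫ (Y ↘ Spec (CommRingCat.of k))) := by rw [hf]; infer_instance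
  haveI : UniversallyClosed f :=
    UniversallyClosed.of_comp_of_isSeparated f (Y ↘ Spec (CommRingCat.of k))
  have hsurj : Function.Surjective f := surjective_of_fib f hfib
  haveI : Surjective f := ⟨hsurj⟩
  haveI : Subsingleton ↥(Spec (CommRingCat.of k)) :=
    (inferInstance : Subsingleton (PrimeSpectrum k))
  haveI : IsIntegral X :=
    GeometricallyIntegral.isIntegral_of_subsingleton (X ↘ Spec (CommRingCat.of k))
  haveI : IrreducibleSpace Y := hsurj.irreducibleSpace f.continuous
  haveI : IsReduced Y := ⟨fun V => by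
    haveI := hfib V
    exact isReduced_of_injective (f.app V).hom (ConcreteCategory.bijective_of_isIso (f.app V)).1⟩
  haveI : IsIntegral Y := isIntegral_of_irreducibleSpace_of_isReduced Y
  -- function field embedding
  have hgen : IsGenericPoint (f (genericPoint X)) (Set.univ : Set Y) := by
    have h1 := (genericPoint_spec X).image f.continuous
    rwa [Set.image_univ, hsurj.range_eq, closure_univ] at h1
  have hspec : f (genericPoint X) ⤳ genericPoint Y := hgen.specializes (Set.mem_univ _)
  let ι₀ : Y.functionField →+* X.functionField :=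
    (f.stalkMap (genericPoint X)).hom.comp (Y.presheaf.stalkSpecializes hspec).hom
  have hglob : ∀ c : k, f.appTop.hom (Coh.toGlobal (Y ↘ Spec (CommRingCat.of k)) c) =
      Coh.toGlobal (X ↘ Spec (CommRingCat.of k)) c := by
    intro c
    have h2 : (f ≫ (Y ↘ Spec (CommRingCat.of k))).appTop =
        (Y ↘ Spec (CommRingCat.of k)).appTop ≫ f.appTop := Scheme.Hom.comp_appTop _ _
    rw [hf] at h2
    show f.appTop.hom ((Y ↘ Spec (CommRingCat.of k)).appTop.hom
        ((Scheme.ΓSpecIso (CommRingCat.of k)).inv.hom c)) =
      (X ↘ Spec (CommRingCat.of k)).appTop.hom ((Scheme.ΓSpecIso (CommRingCat.of k)).inv.hom c)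
    rw [h2]
    rfl
  have hcomm : ∀ c : k, ι₀ (algebraMap k Y.functionField c) = algebraMap k X.functionField c := by
    intro c
    have e1 := ConcreteCategory.congr_hom
      (Y.presheaf.germ_stalkSpecializes (U := ⊤) (y := genericPoint Y) trivial hspec)
      (Coh.toGlobal (Y ↘ Spec (CommRingCat.of k)) c)
    have e2 := Scheme.Hom.germ_stalkMap_apply f ⊤ (genericPoint X) trivial
      (Coh.toGlobal (Y ↘ Spec (CommRingCat.of k)) c)
    show (f.stalkMap (genericPoint X)).hom ((Y.presheaf.stalkSpecializes hspec).hom
      ((Y.presheaf.germ ⊤ (genericPoint Y) trivial).hom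
        (Coh.toGlobal (Y ↘ Spec (CommRingCat.of k)) c))) =
      (X.presheaf.germ ⊤ (genericPoint X) trivial).hom
        (Coh.toGlobal (X ↘ Spec (CommRingCat.of k)) c)
    rw [← hglob c]
    exact (congrArg (f.stalkMap (genericPoint X)).hom e1).trans e2
  let ι : Y.functionField →ₐ[k] X.functionField := { ι₀ with commutes' := hcomm }
  have hιinj : Function.Injective ι := ι₀.injective
  haveI : Algebra.IsGeometricallyReduced k X.functionField :=
    (Groth.Agent.S1544.result k X).mp inferInstance
  haveI : Algebra.IsGeometricallyReduced k Y.functionField :=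
    Algebra.IsGeometricallyReduced.of_injective ι hιinj
  haveI : GeometricallyReduced (Y ↘ Spec (CommRingCat.of k)) :=
    (Groth.Agent.S1544.result k Y).mpr inferInstance
  haveI : GeometricallyIrreducible (f ≫ (Y ↘ Spec (CommRingCat.of k))) := by
    rw [hf]; infer_instance
  haveI : GeometricallyIrreducible (Y ↘ Spec (CommRingCat.of k)) :=
    geomIrr_of_surj f (Y ↘ Spec (CommRingCat.of k))
  exact GeometricallyIntegral.of_geometricallyReduced_of_geometricallyIrreducible _

end Groth.Agent.S19514
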