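import Groth.Statements.S19515
import Groth.Agent.H73.NormalFib
import Mathlib

set_option autoImplicit false
universe u
open CategoryTheory CategoryTheory.Limits AlgebraicGeometry
open Variety

namespace Groth.Agent.S19515

open Groth.Agent.H73.NormalSections

theorem appLE_congr_hom {X Y : Scheme.{u}} {f g : X ⟶ Y} (h : f = g) (U : Y.Opens) (V : X.Opens)
    (e : V ≤ f ⁻¹ᵁ U) : f.appLE U V e = g.appLE U V (h ▸ e) := by
  subst h; rfl

/-- Local version of `H73.NormalFib.isNormalScheme_of_app_bijective`. -/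
theorem isNormalScheme_of_app_bijective_local {X Y : Scheme.{u}} (f : X ⟶ Y)
    (hX : Pi1.IsNormalScheme X)
    (hop : ∀ Z ∈ irreducibleComponents X, IsOpen Z)
    (hfib : ∀ y : Y, ∃ V : Y.Opens, IsAffineOpen V ∧ y ∈ V ∧ Function.Bijective (f.app V)) :
    Pi1.IsNormalScheme Y := by
  intro y
  obtain ⟨V, hV, hyV, hb⟩ := hfib y
  have hEN : Groth.Agent.H25.NormalElem.ElemNormal Γ(Y, V) :=
    elemNormal_of_integrallyClosedIn (f.app V).hom hb.1 (fun z _ => hb.2 z)
      (fun n c a b hrel => exists_idem_div hX hop n c a b hrel)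
  exact Groth.Agent.H25.NormalAffine.stalk_normal_of_isNormalRing_sections hV
    (Groth.Agent.H25.NormalElem.isNormalRing_of_elemNormal hEN) y hyV

/-- Flat base change for `O_Y → f_* O_X` on preimages of affine opens. -/
theorem isIso_app_baseChange {S T X Y : Scheme.{u}} [IsAffine S] [IsAffine T]
    (pX : X ⟶ S) (pY : Y ⟶ S) (q : T ⟶ S) [Flat q]
    (f : X ⟶ Y) (hf : f ≫ pY = pX) [QuasiCompact f] [QuasiSeparatedSpace X]
    (V : Y.Opens) (hV : IsAffineOpen V) [IsIso (f.app V)] :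
    IsIso ((pullback.map pX q pY q f (𝟙 T) (𝟙 S) (by rw [Category.comp_id, hf])
      (by rw [Category.comp_id, Category.id_comp])).app (pullback.fst pY q ⁻¹ᵁ V)) := by
  subst hf
  set fK := pullback.map (f ≫ pY) q pY q f (𝟙 T) (𝟙 S) _ _ with hfK
  have hfst : fK ≫ pullback.fst pY q = pullback.fst (f ≫ pY) q ≫ f := pullback.lift_fst _ _ _
  have hsnd : fK ≫ pullback.snd pY q = pullback.snd (f ≫ pY) q := by
    rw [hfK, pullback.lift_snd, Category.comp_id]
  have HX : IsPullback (pullback.fst (f ≫ pY) q) (pullback.snd (f ≫ pY) q) (f ≫ pY) q :=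
    IsPullback.of_hasPullback _ _
  have HY : IsPullback (pullback.fst pY q) (pullback.snd pY q) pY q :=
    IsPullback.of_hasPullback _ _
  have hUST : (⊤ : T.Opens) ≤ q ⁻¹ᵁ ⊤ := fun _ _ => trivial
  have hUSXY : V ≤ pY ⁻¹ᵁ ⊤ := fun _ _ => trivial
  have hUSXX : f ⁻¹ᵁ V ≤ (f ≫ pY) ⁻¹ᵁ ⊤ := fun _ _ => trivial
  have hUYY : pullback.fst pY q ⁻¹ᵁ V =
      pullback.fst pY q ⁻¹ᵁ V ⊓ pullback.snd pY q ⁻¹ᵁ ⊤ := by
    ext x
    exact ⟨fun h => ⟨h, trivial⟩, fun h => h.1⟩
  have hUYX : fK ⁻¹ᵁ (pullback.fst pY q ⁻¹ᵁ V) =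
      pullback.fst (f ≫ pY) q ⁻¹ᵁ (f ⁻¹ᵁ V) ⊓ pullback.snd (f ≫ pY) q ⁻¹ᵁ ⊤ := by
    rw [← Scheme.Hom.comp_preimage, hfst, Scheme.Hom.comp_preimage]
    ext x
    exact ⟨fun h => ⟨h, trivial⟩, fun h => h.1⟩
  haveI hφY : IsIso (pushoutSection HY hUST hUSXY hUYY) :=
    isIso_pushoutSection_of_isAffineOpen HY hUST hUSXY hUYY (isAffineOpen_top S)
      (isAffineOpen_top T) hV
  haveI hφX : IsIso (pushoutSection HX hUST hUSXX hUYX) :=
    isIso_pushoutSection_of_isQuasiSeparated_of_flat_right HX hUST hUSXX hUYX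
      (isAffineOpen_top S) (isAffineOpen_top T) (f.isCompact_preimage hV.isCompact)
      (IsQuasiSeparated.of_quasiSeparatedSpace _)
  have eq₁ : pY.appLE ⊤ V hUSXY ≫ f.app V = 𝟙 _ ≫ (f ≫ pY).appLE ⊤ (f ⁻¹ᵁ V) hUSXX := by
    rw [Category.id_comp, Scheme.Hom.app_eq_appLE, Scheme.Hom.appLE_comp_appLE]
  have eq₂ : q.appLE ⊤ ⊤ hUST ≫ 𝟙 _ = 𝟙 _ ≫ q.appLE ⊤ ⊤ hUST := by
    rw [Category.comp_id, Category.id_comp]
  let m := pushout.map (pY.appLE ⊤ V hUSXY) (q.appLE ⊤ ⊤ hUST)
    ((f ≫ pY).appLE ⊤ (f ⁻¹ᵁ V) hUSXX) (q.appLE ⊤ ⊤ hUST) (f.app V) (𝟙 _) (𝟙 _) eq₁ eq₂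
  haveI : IsIso m := pushout.map_isIso _ _ _ _ _ _ _ eq₁ eq₂
  have hcomm : pushoutSection HY hUST hUSXY hUYY ≫ fK.app (pullback.fst pY q ⁻¹ᵁ V) =
      m ≫ pushoutSection HX hUST hUSXX hUYX := by
    apply pushout.hom_ext
    · rw [pushout.inl_desc_assoc, pushout.inl_desc_assoc, Category.assoc, pushout.inl_desc,
        Scheme.Hom.app_eq_appLE, Scheme.Hom.app_eq_appLE, Scheme.Hom.appLE_comp_appLE,
        Scheme.Hom.appLE_comp_appLE]
      exact appLE_congr_hom hfst _ _ _
    · rw [pushout.inr_desc_assoc, pushout.inr_desc_assoc, Category.assoc, pushout.inr_desc,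
        Category.id_comp, Scheme.Hom.app_eq_appLE, Scheme.Hom.appLE_comp_appLE]
      exact appLE_congr_hom hsnd _ _ _
  haveI : IsIso (pushoutSection HY hUST hUSXY hUYY ≫
      fK.app (pullback.fst pY q ⁻¹ᵁ V)) := by
    rw [hcomm]; infer_instance
  exact IsIso.of_isIso_comp_left (pushoutSection HY hUST hUSXY hUYY) _

/-- Let k be a field and f : X → Y a k-morphism between proper k-schemes which is a fibration, i.e. O_Y
→ f_*O_X is an isomorphism (Γ(V, O_Y) → Γ(f⁻¹V, O_X) bijective for every open V ⊆ Y). If X is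
geometrically normal, i.e. its base change to every algebraic closure of k has all local rings
integrally closed domains, then Y is geometrically normal in the same sense. -/
theorem result (k : Type u) [Field k] (X Y : Scheme.{u})
    [X.Over (Spec (CommRingCat.of k))] [Y.Over (Spec (CommRingCat.of k))] [IsProper (X ↘ Spec (CommRingCat.of k))] [IsProper (Y ↘ Spec (CommRingCat.of k))]
    (f : X ⟶ Y) (hf : f ≫ (Y ↘ Spec (CommRingCat.of k)) = X ↘ Spec (CommRingCat.of k)) (hfib : ∀ V : Y.Opens, IsIso (f.app V))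
    (hX : ∀ (K : Type u) [Field K] [Algebra k K] [IsAlgClosure k K],
      Pi1.IsNormalScheme (pullback (X ↘ Spec (CommRingCat.of k)) (Spec.map (CommRingCat.ofHom (algebraMap k K)))))
    (K : Type u) [Field K] [Algebra k K] [IsAlgClosure k K] :
    Pi1.IsNormalScheme (pullback (Y ↘ Spec (CommRingCat.of k)) (Spec.map (CommRingCat.ofHom (algebraMap k K)))) := by
  haveI : Subsingleton ↥(Spec (CommRingCat.of k)) :=
    (inferInstance : Subsingleton (PrimeSpectrum k))
  haveI : Flat (Spec.map (CommRingCat.ofHom (algebraMap k K))) := inferInstance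
  haveI : IsProper (f ≫ (Y ↘ Spec (CommRingCat.of k))) := by rw [hf]; infer_instance
  haveI : IsProper f := IsProper.of_comp f (Y ↘ Spec (CommRingCat.of k))
  haveI : QuasiSeparatedSpace X :=
    quasiSeparatedSpace_of_quasiSeparated (X ↘ Spec (CommRingCat.of k))
  haveI : CompactSpace ↥(pullback (X ↘ Spec (CommRingCat.of k))
      (Spec.map (CommRingCat.ofHom (algebraMap k K)))) :=
    QuasiCompact.compactSpace_of_compactSpace (pullback.snd (X ↘ Spec (CommRingCat.of k))
      (Spec.map (CommRingCat.ofHom (algebraMap k K))))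
  haveI : IsNoetherian (pullback (X ↘ Spec (CommRingCat.of k))
      (Spec.map (CommRingCat.ofHom (algebraMap k K)))) := { }
  have hop := Groth.Agent.H73.NormalFib.isOpen_components_of_isNoetherian (hX K)
  haveI : IsAffineHom (pullback.fst (Y ↘ Spec (CommRingCat.of k))
      (Spec.map (CommRingCat.ofHom (algebraMap k K)))) :=
    MorphismProperty.pullback_fst _ _ inferInstance
  refine isNormalScheme_of_app_bijective_local
    (pullback.map (X ↘ Spec (CommRingCat.of k)) (Spec.map (CommRingCat.ofHom (algebraMap k K)))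
      (Y ↘ Spec (CommRingCat.of k)) (Spec.map (CommRingCat.ofHom (algebraMap k K))) f (𝟙 _) (𝟙 _)
      (by rw [Category.comp_id, hf]) (by rw [Category.comp_id, Category.id_comp]))
    (hX K) hop ?_
  intro y'
  obtain ⟨_, ⟨V, hV, rfl⟩, hyV, -⟩ := Y.isBasis_affineOpens.exists_subset_of_mem_open
    (Set.mem_univ (pullback.fst (Y ↘ Spec (CommRingCat.of k))
      (Spec.map (CommRingCat.ofHom (algebraMap k K))) y')) isOpen_univ
  haveI := hfib V
  refine ⟨pullback.fst (Y ↘ Spec (CommRingCat.of k))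
      (Spec.map (CommRingCat.ofHom (algebraMap k K))) ⁻¹ᵁ V, hV.preimage _, hyV, ?_⟩
  haveI := isIso_app_baseChange (X ↘ Spec (CommRingCat.of k)) (Y ↘ Spec (CommRingCat.of k))
    (Spec.map (CommRingCat.ofHom (algebraMap k K))) f hf V hV
  exact ConcreteCategory.bijective_of_isIso _

end Groth.Agent.S19515
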