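import Groth.Statements.S19519
import Groth.Agent.H63.OrbitDim

set_option autoImplicit false
universe u
open CategoryTheory MonoidalCategory CartesianMonoidalCategory MonObj GrpObj AlgebraicGeometry
open AlgGrp

namespace Groth.Agent.S19519

/-- Let k be an algebraically closed field, G a smooth k-group scheme of finite type acting on a
k-scheme X of finite type, and x a rational point of X. If the orbit of x — the image of the orbit
map G → X, g ↦ g · x, with its subspace topology — has Krull dimension at most that of the orbit of
every rational point of X, then the orbit of x is closed in X. (The first assertions of the lemma,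
local closedness and smoothness of orbits over any field, are not restated here.) -/
theorem result (k : Type u) [Field k] [IsAlgClosed k]
    (G X : Over (Spec (CommRingCat.of k))) [GrpObj G] [Smooth G.hom] [QuasiCompact G.hom]
    [LocallyOfFiniteType X.hom] [QuasiCompact X.hom] (a : AlgGrp.Action G X)
    (x : 𝟙_ (Over (Spec (CommRingCat.of k))) ⟶ X)
    (hmin : ∀ y : 𝟙_ (Over (Spec (CommRingCat.of k))) ⟶ X,
      topologicalKrullDim (Set.range (a.orbitMap x).left.base) ≤ topologicalKrullDim (Set.range (a.orbitMap y).left.base)) :
    IsClosed (Set.range (a.orbitMap x).left.base) := by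
  haveI : LocallyOfFinitePresentation G.hom := inferInstance
  haveI : LocallyOfFiniteType G.hom := inferInstance
  by_contra hncl
  have hlc := Groth.Agent.H63.OrbitLC.isLocallyClosed_range_orbitMap' a x
  have hD : IsClosed (closure (Set.range (a.orbitMap x).left.base) \
      Set.range (a.orbitMap x).left.base) := by
    have h : IsOpen (closure (Set.range (a.orbitMap x).left.base) \
        Set.range (a.orbitMap x).left.base)ᶜ := hlc.isOpen_coborder
    exact isOpen_compl_iff.mp h
  have hne : (closure (Set.range (a.orbitMap x).left.base) \
      Set.range (a.orbitMap x).left.base).Nonempty := by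
    by_contra h
    rw [Set.not_nonempty_iff_eq_empty, Set.sdiff_eq_empty] at h
    exact hncl (closure_subset_iff_isClosed.mp h)
  have hstO := Groth.Agent.H63.OrbitLC.isStable_range_orbitMap a x
  have hst := (hstO.closure Groth.Agent.H63.OrbitLC.isOpenMap_snd).diff hstO
  haveI : IsLocallyNoetherian X.left := LocallyOfFiniteType.isLocallyNoetherian X.hom
  haveI : CompactSpace X.left := QuasiCompact.compactSpace_of_compactSpace X.hom
  haveI : IsNoetherian X.left := {}
  haveI : TopologicalSpace.NoetherianSpace X.left := inferInstance
  obtain ⟨y, hy1, hy2⟩ := Groth.Agent.H63.OrbitLC.exists_isClosed_orbit_in a _ hD hst hne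
  have hsub := hst.range_orbitMap_subset y hy1
  have h1 : topologicalKrullDim ↥(Set.range (a.orbitMap y).left.base) ≤
      topologicalKrullDim ↥(closure (Set.range (a.orbitMap x).left.base) \
        Set.range (a.orbitMap x).left.base) :=
    (Topology.IsEmbedding.inclusion hsub).isInducing.topologicalKrullDim_le
  have h2 := Groth.Agent.H63.OrbitDim.dim_boundary_lt a x
  exact absurd (hmin y) (not_le.mpr (lt_of_le_of_lt h1 h2))

end Groth.Agent.S19519
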