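import Groth.Statements.S19520
-- import your own Groth.Agent.* helpers here
import Groth.Agent.H39.GenericDiffSch
import Groth.Agent.H54.DimClosure
import Groth.Agent.H54.OmegaRank_P1
import Groth.Agent.H70.OmegaRankP4
import Groth.Agent.H54.OmegaRank_P2

set_option autoImplicit false
set_option linter.style.haveILetI false
universe u
open CategoryTheory CategoryTheory.Limits AlgebraicGeometry
open OmegaSh
open scoped TensorProduct

namespace Groth.Agent.S19520

theorem trdeg_eq_of_ringEquiv {k R : Type u} {L : Type u} [CommRing k] [CommRing R] [CommRing L]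
    [Algebra k L] [Algebra R L] (σ : k ≃+* R)
    (h : (algebraMap R L).comp (σ : k →+* R) = algebraMap k L) :
    Algebra.trdeg k L = Algebra.trdeg R L := by
  unfold Algebra.trdeg
  have key : ∀ s : Set L, AlgebraicIndepOn k id s ↔ AlgebraicIndepOn R id s := by
    intro s
    have := algebraicIndependent_ringHom_iff_of_comp_eq (R := k) (S := R) (A := L) (B := L)
      (x := fun a : s => (a : L)) σ (RingHom.id L) Function.injective_id
      (by rw [h]; rfl)
    exact this.symm
  apply le_antisymm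
  · apply ciSup_le'
    rintro ⟨s, hs⟩
    exact le_ciSup_of_le Cardinal.bddAbove_of_small ⟨s, (key s).mp hs⟩ le_rfl
  · apply ciSup_le'
    rintro ⟨s, hs⟩
    exact le_ciSup_of_le Cardinal.bddAbove_of_small ⟨s, (key s).mpr hs⟩ le_rfl

open Groth.Agent.H39 Groth.Agent.H39.GenericDiffSch in
set_option maxHeartbeats 1600000 in
/-- Core: on a small nonempty affine `V₂`, `m` of the images of the global generators of `f^*Ω_Z`
are linearly independent in `Γ(Ω_X, V₂)`. -/
theorem core {k : Type u} [Field k] {X Z : Scheme.{u}} [IsIntegral X]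
    (pZ : Z ⟶ Spec (CommRingCat.of k)) [Smooth pZ]
    (f : X ⟶ Z) [QuasiCompact f] [LocallyOfFiniteType f]
    (m : ℕ) (hm : topologicalKrullDim ↥(closure ({f.base (genericPoint X)} : Set Z)) = m)
    (hsep : GeometricallyReduced (f.fiberToSpecResidueField (f.base (genericPoint X))))
    {ΩZ : Z.Modules} {dZ : OmegaSh.Der pZ ΩZ} (hdZ : OmegaSh.IsUniversal dZ)
    {ΩX : X.Modules} {dX : OmegaSh.Der (f ≫ pZ) ΩX} (hdX : OmegaSh.IsUniversal dX)
    {c : (Scheme.Modules.pullback f).obj ΩZ ⟶ ΩX} (hc : OmegaSh.IsDiffCompat f dZ dX c)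
    {d : ℕ} (e : Fin d → Γ((Scheme.Modules.pullback f).obj ΩZ, ⊤))
    (he : ∀ W : X.Opens, Submodule.span Γ(X, W)
      (Set.range fun i => ((Scheme.Modules.pullback f).obj ΩZ).presheaf.map
        (homOfLE (le_top : W ≤ ⊤)).op (e i)) = ⊤)
    {V₁ : Z.Opens} (hV₁ : IsAffineOpen V₁) {V₂ : X.Opens} (hV₂ : IsAffineOpen V₂)
    (e₀ : V₂ ≤ f ⁻¹ᵁ V₁) (hne : (V₂ : Set X).Nonempty) :
    ∃ σ : Fin m → Fin d, LinearIndependent Γ(X, V₂)
      (fun j => ΩX.presheaf.map (homOfLE (le_top : V₂ ≤ ⊤)).op (c.app ⊤ (e (σ j)))) := by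
  have hξ : genericPoint X ∈ V₂ :=
    ((genericPoint_spec X).mem_open_set_iff V₂.isOpen).mpr (by simpa using hne)
  have hη : f.base (genericPoint X) ∈ V₁ := e₀ hξ
  let U₀ : (Spec (CommRingCat.of k)).Opens := ⊤
  have hU₀ : IsAffineOpen U₀ := isAffineOpen_top _
  have e₁ : V₁ ≤ pZ ⁻¹ᵁ U₀ := fun _ _ => trivial
  have e₂ : V₂ ≤ (f ≫ pZ) ⁻¹ᵁ U₀ := fun _ _ => trivial
  haveI : IsLocallyNoetherian Z := LocallyOfFiniteType.isLocallyNoetherian pZ
  -- the base ring is a field
  let σ₀ : k ≃+* Γ(Spec (CommRingCat.of k), U₀) :=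
    (Scheme.ΓSpecIso (CommRingCat.of k)).symm.commRingCatIsoToRingEquiv
  have hRF : IsField Γ(Spec (CommRingCat.of k), U₀) :=
    MulEquiv.isField (Field.toIsField k) σ₀.symm.toMulEquiv
  letI : Field Γ(Spec (CommRingCat.of k), U₀) := hRF.toField
  letI : Algebra Γ(Spec (CommRingCat.of k), U₀) Γ(Z, V₁) := (pZ.appLE U₀ V₁ e₁).hom.toAlgebra
  letI : Algebra Γ(Spec (CommRingCat.of k), U₀) Γ(X, V₂) := ((f ≫ pZ).appLE U₀ V₂ e₂).hom.toAlgebra
  letI : Algebra Γ(Z, V₁) Γ(X, V₂) := (f.appLE V₁ V₂ e₀).hom.toAlgebra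
  haveI : IsScalarTower Γ(Spec (CommRingCat.of k), U₀) Γ(Z, V₁) Γ(X, V₂) := by
    refine IsScalarTower.of_algebraMap_eq' ?_
    show ((f ≫ pZ).appLE U₀ V₂ e₂).hom =
      (f.appLE V₁ V₂ e₀).hom.comp (pZ.appLE U₀ V₁ e₁).hom
    rw [← CommRingCat.hom_comp, Scheme.Hom.appLE_comp_appLE]
  letI iBK : Algebra Γ(X, V₂) (X.residueField (genericPoint X)) :=
    (X.evaluation V₂ (genericPoint X) hξ).hom.toAlgebra
  letI iAK : Algebra Γ(Z, V₁) (X.residueField (genericPoint X)) :=
    ((algebraMap Γ(X, V₂) (X.residueField (genericPoint X))).comp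
      (algebraMap Γ(Z, V₁) Γ(X, V₂))).toAlgebra
  letI iRK : Algebra Γ(Spec (CommRingCat.of k), U₀) (X.residueField (genericPoint X)) :=
    ((algebraMap Γ(X, V₂) (X.residueField (genericPoint X))).comp
      (algebraMap Γ(Spec (CommRingCat.of k), U₀) Γ(X, V₂))).toAlgebra
  haveI : IsScalarTower Γ(Z, V₁) Γ(X, V₂) (X.residueField (genericPoint X)) :=
    IsScalarTower.of_algebraMap_eq' rfl
  haveI : IsScalarTower Γ(Spec (CommRingCat.of k), U₀) Γ(X, V₂) (X.residueField (genericPoint X)) :=
    IsScalarTower.of_algebraMap_eq' rfl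
  haveI : IsScalarTower Γ(Spec (CommRingCat.of k), U₀) Γ(Z, V₁) (X.residueField (genericPoint X)) := by
    refine IsScalarTower.of_algebraMap_eq' ?_
    show (algebraMap Γ(X, V₂) (X.residueField (genericPoint X))).comp
        (algebraMap Γ(Spec (CommRingCat.of k), U₀) Γ(X, V₂)) =
      ((algebraMap Γ(X, V₂) (X.residueField (genericPoint X))).comp
        (algebraMap Γ(Z, V₁) Γ(X, V₂))).comp (algebraMap Γ(Spec (CommRingCat.of k), U₀) Γ(Z, V₁))
    rw [RingHom.comp_assoc, ← IsScalarTower.algebraMap_eq Γ(Spec (CommRingCat.of k), U₀) Γ(Z, V₁) Γ(X, V₂)]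
  -- the residue field `L` of `Z` at the image of the generic point
  letI iAL : Algebra Γ(Z, V₁) (Z.residueField (f.base (genericPoint X))) :=
    (Z.evaluation V₁ (f.base (genericPoint X)) hη).hom.toAlgebra
  letI iLK : Algebra (Z.residueField (f.base (genericPoint X))) (X.residueField (genericPoint X)) :=
    (f.residueFieldMap (genericPoint X)).hom.toAlgebra
  haveI : IsScalarTower Γ(Z, V₁) (Z.residueField (f.base (genericPoint X)))
      (X.residueField (genericPoint X)) := by
    refine IsScalarTower.of_algebraMap_eq' ?_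
    show (X.evaluation V₂ (genericPoint X) hξ).hom.comp (f.appLE V₁ V₂ e₀).hom =
      (f.residueFieldMap (genericPoint X)).hom.comp
        (Z.evaluation V₁ (f.base (genericPoint X)) hη).hom
    rw [← CommRingCat.hom_comp, ← CommRingCat.hom_comp, appLE_evaluation]
  letI iRL : Algebra Γ(Spec (CommRingCat.of k), U₀) (Z.residueField (f.base (genericPoint X))) :=
    ((algebraMap Γ(Z, V₁) (Z.residueField (f.base (genericPoint X)))).comp
      (algebraMap Γ(Spec (CommRingCat.of k), U₀) Γ(Z, V₁))).toAlgebra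
  haveI : IsScalarTower Γ(Spec (CommRingCat.of k), U₀) Γ(Z, V₁)
      (Z.residueField (f.base (genericPoint X))) := IsScalarTower.of_algebraMap_eq' rfl
  haveI : IsScalarTower Γ(Spec (CommRingCat.of k), U₀) (Z.residueField (f.base (genericPoint X)))
      (X.residueField (genericPoint X)) := by
    refine IsScalarTower.of_algebraMap_eq' ?_
    rw [IsScalarTower.algebraMap_eq Γ(Spec (CommRingCat.of k), U₀) Γ(Z, V₁)
      (X.residueField (genericPoint X)),
      IsScalarTower.algebraMap_eq Γ(Z, V₁) (Z.residueField (f.base (genericPoint X)))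
      (X.residueField (genericPoint X)), RingHom.comp_assoc]
    rfl
  -- the stalk `Ap`
  letI iAAp : Algebra Γ(Z, V₁) (Z.presheaf.stalk (f.base (genericPoint X))) :=
    (Z.presheaf.germ V₁ (f.base (genericPoint X)) hη).hom.toAlgebra
  letI iApL : Algebra (Z.presheaf.stalk (f.base (genericPoint X)))
      (Z.residueField (f.base (genericPoint X))) := (Z.residue (f.base (genericPoint X))).hom.toAlgebra
  haveI : IsScalarTower Γ(Z, V₁) (Z.presheaf.stalk (f.base (genericPoint X)))
      (Z.residueField (f.base (genericPoint X))) := IsScalarTower.of_algebraMap_eq' rfl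
  haveI hloc : IsLocalization.AtPrime (Z.presheaf.stalk (f.base (genericPoint X)))
      (hV₁.primeIdealOf ⟨f.base (genericPoint X), hη⟩).asIdeal :=
    hV₁.isLocalization_stalk ⟨f.base (genericPoint X), hη⟩
  have hsurj : Function.Surjective (algebraMap (Z.presheaf.stalk (f.base (genericPoint X)))
      (Z.residueField (f.base (genericPoint X)))) := Z.residue_surjective _
  have hinj : Function.Injective (algebraMap Γ(X, V₂) (X.residueField (genericPoint X))) := by
    show Function.Injective ((X.residue (genericPoint X)).hom ∘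
      (X.presheaf.germ V₂ (genericPoint X) hξ).hom)
    exact (residue_injective_of_isField (genericPoint X)
      (isField_stalk_of_eq_genericPoint _ rfl)).comp
      (germ_injective_of_isIntegral X (genericPoint X) hξ)
  haveI : Algebra.FormallySmooth (Z.residueField (f.base (genericPoint X)))
      (X.residueField (genericPoint X)) :=
    Groth.Agent.H54.OmegaRank_P2.formallySmooth_residueFieldMap_genericPoint f hsep
  haveI : Algebra.FiniteType Γ(Spec (CommRingCat.of k), U₀) Γ(Z, V₁) :=
    pZ.finiteType_appLE hU₀ hV₁ e₁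
  -- transcendence degree
  have hm' : Algebra.trdeg Γ(Spec (CommRingCat.of k), U₀)
      (Z.residueField (f.base (genericPoint X))) = (m : Cardinal.{u}) := by
    have h1 := Groth.Agent.H54.topologicalKrullDim_closure_singleton pZ (f.base (genericPoint X))
    have h2 := Groth.Agent.H54.tdeg_spec pZ (f.base (genericPoint X))
    rw [hm] at h1
    have h3 : Groth.Agent.H54.tdeg pZ (f.base (genericPoint X)) = m := by exact_mod_cast h1.symm
    rw [h3] at h2
    rw [← h2]
    symm
    letI := (Groth.Agent.H54.resMapOf pZ (f.base (genericPoint X))).toAlgebra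
    refine trdeg_eq_of_ringEquiv σ₀ ?_
    have h4 : pZ.appLE U₀ V₁ e₁ ≫ Z.evaluation V₁ (f.base (genericPoint X)) hη =
        pZ.appTop ≫ Z.presheaf.germ ⊤ (f.base (genericPoint X)) trivial ≫
          Z.residue (f.base (genericPoint X)) := by
      rw [Scheme.Hom.appLE, Category.assoc, ← Scheme.germ_residue,
        ← Category.assoc (Z.presheaf.map _), TopCat.Presheaf.germ_res]
      rfl
    show ((Z.evaluation V₁ (f.base (genericPoint X)) hη).hom.comp (pZ.appLE U₀ V₁ e₁).hom).comp
      (σ₀ : k →+* Γ(Spec (CommRingCat.of k), U₀)) =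
        Groth.Agent.H54.resMapOf pZ (f.base (genericPoint X))
    rw [← CommRingCat.hom_comp, h4]
    rfl
  -- the tracking isomorphisms
  obtain ⟨Ψ, ψ', -, -, hfac⟩ := DiffCompatLocal.exists_tracking pZ (f ≫ pZ) f hdZ hdX hc hU₀ hV₁ e₁
    hU₀ hV₂ e₂ e₀ (KaehlerDifferential.mapBaseChange Γ(Spec (CommRingCat.of k), U₀) Γ(Z, V₁) Γ(X, V₂))
    (fun s => by
      rw [KaehlerDifferential.mapBaseChange_tmul, one_smul, KaehlerDifferential.map_D]
      rfl)
  let e' : Fin d → Γ(X, V₂) ⊗[Γ(Z, V₁)] Ω[Γ(Z, V₁)⁄Γ(Spec (CommRingCat.of k), U₀)] :=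
    fun i => Ψ (((Scheme.Modules.pullback f).obj ΩZ).presheaf.map
      (homOfLE (le_top : V₂ ≤ ⊤)).op (e i))
  have he' : Submodule.span Γ(X, V₂) (Set.range e') = ⊤ := by
    have h1 : Set.range e' = Ψ.toLinearMap '' (Set.range fun i => ((Scheme.Modules.pullback f).obj ΩZ).presheaf.map
        (homOfLE (le_top : V₂ ≤ ⊤)).op (e i)) := by
      rw [← Set.range_comp]; rfl
    rw [h1, Submodule.span_image, he V₂, Submodule.map_top, LinearMap.range_eq_top]
    exact Ψ.surjective
  obtain ⟨σ, hσ⟩ := Groth.Agent.H54.OmegaRank_P1.exists_linearIndependent_mapBaseChange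
    Γ(Spec (CommRingCat.of k), U₀) Γ(Z, V₁) Γ(X, V₂) (Z.presheaf.stalk (f.base (genericPoint X)))
    (Z.residueField (f.base (genericPoint X))) (X.residueField (genericPoint X))
    (hV₁.primeIdealOf ⟨f.base (genericPoint X), hη⟩).asIdeal.primeCompl hsurj hinj m hm' e' he'
  refine ⟨σ, ?_⟩
  refine LinearIndependent.of_comp ψ'.toLinearMap ?_
  have h2 : (ψ'.toLinearMap ∘ fun j => ΩX.presheaf.map (homOfLE (le_top : V₂ ≤ ⊤)).op
      (c.app ⊤ (e (σ j)))) = fun j => KaehlerDifferential.mapBaseChange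
        Γ(Spec (CommRingCat.of k), U₀) Γ(Z, V₁) Γ(X, V₂) (e' (σ j)) := by
    funext j
    show ψ' (ΩX.presheaf.map (homOfLE (le_top : V₂ ≤ ⊤)).op (c.app ⊤ (e (σ j)))) = _
    rw [← PullTrack.app_res c (le_top : V₂ ≤ ⊤) (e (σ j)), hfac]
  rw [h2]
  exact hσ


/-- The germ-free injectivity of restriction to a nonempty open of an integral scheme. -/
theorem res_injective {X : Scheme.{u}} [IsIntegral X] {V U : X.Opens} (h : V ≤ U)
    (hV : (V : Set X).Nonempty) : Function.Injective (X.presheaf.map (homOfLE h).op) := by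
  haveI : Nonempty V := hV.to_subtype
  exact AlgebraicGeometry.map_injective_of_isIntegral X (homOfLE h)

set_option maxHeartbeats 1000000 in
theorem main {k : Type u} [Field k] (X Z : Scheme.{u}) [IsIntegral X] [IsIntegral Z]
    (pX : X ⟶ Spec (CommRingCat.of k)) (pZ : Z ⟶ Spec (CommRingCat.of k))
    [IsProper pX] [IsProper pZ] [Smooth pZ]
    (f : X ⟶ Z) (hf : f ≫ pZ = pX)
    (η : Z) (hη : closure {η} = closure (Set.range f.base)) (m : ℕ)
    (hm : topologicalKrullDim (closure (Set.range f.base)) = m)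
    (hsep : GeometricallyReduced (pullback.snd f (Z.fromSpecResidueField η)))
    (ΩZ : Z.Modules) (dZ : OmegaSh.Der pZ ΩZ) (hdZ : OmegaSh.IsUniversal dZ)
    (ΩX : X.Modules) (dX : OmegaSh.Der pX ΩX) (hdX : OmegaSh.IsUniversal dX)
    (c : (Scheme.Modules.pullback f).obj ΩZ ⟶ ΩX) (hc : OmegaSh.IsDiffCompat f dZ dX c)
    (hfree : ∃ d : ℕ, Nonempty ((Scheme.Modules.pullback f).obj ΩZ ≅ FlatMod.freeMod X d))
    (U : X.Opens) :
    ∃ s : Fin m → Γ(ΩX, U), LinearIndependent Γ(X, U) s := by
  classical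
  subst hf
  haveI : LocallyOfFiniteType f := locallyOfFiniteType_of_comp f pZ
  haveI : QuasiCompact f := QuasiCompact.of_comp f pZ
  obtain ⟨d, ⟨φ⟩⟩ := hfree
  obtain ⟨e, he⟩ := Groth.Agent.H70.OmegaRankP4.exists_global_spanning φ
  -- the generic point maps to `η`
  have hcl : closure ({f.base (genericPoint X)} : Set Z) = closure (Set.range f.base) := by
    apply subset_antisymm
    · exact closure_mono (Set.singleton_subset_iff.mpr ⟨_, rfl⟩)
    · apply closure_minimal _ isClosed_closure
      rintro _ ⟨x, rfl⟩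
      have hx : x ∈ closure ({genericPoint X} : Set X) := by
        rw [(genericPoint_spec X).def]; trivial
      have := image_closure_subset_closure_image f.base.hom.continuous ⟨x, hx, rfl⟩
      rwa [Set.image_singleton] at this
  have hfη : f.base (genericPoint X) = η :=
    IsGenericPoint.eq (S := closure (Set.range f.base)) hcl hη
  subst hfη
  have hm' : topologicalKrullDim ↥(closure ({f.base (genericPoint X)} : Set Z)) = m := by
    rw [hcl]; exact hm
  by_cases hUne : (U : Set X).Nonempty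
  · have hξU : genericPoint X ∈ U :=
      ((genericPoint_spec X).mem_open_set_iff U.isOpen).mpr (by simpa using hUne)
    obtain ⟨V₁, hV₁, hηV₁, -⟩ := (TopologicalSpace.Opens.isBasis_iff_nbhd.mp Z.isBasis_affineOpens)
      (TopologicalSpace.Opens.mem_top (f.base (genericPoint X)))
    have hξ2 : genericPoint X ∈ U ⊓ f ⁻¹ᵁ V₁ := ⟨hξU, hηV₁⟩
    obtain ⟨V₂, hV₂, hξV₂, hV₂le⟩ :=
      (TopologicalSpace.Opens.isBasis_iff_nbhd.mp X.isBasis_affineOpens) hξ2
    have e₀ : V₂ ≤ f ⁻¹ᵁ V₁ := hV₂le.trans inf_le_right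
    have hVU : V₂ ≤ U := hV₂le.trans inf_le_left
    obtain ⟨σ, hσ⟩ := core pZ f m hm' hsep hdZ hdX hc e he hV₁ hV₂ e₀ ⟨_, hξV₂⟩
    refine ⟨fun j => ΩX.presheaf.map (homOfLE (le_top : U ≤ ⊤)).op (c.app ⊤ (e (σ j))), ?_⟩
    rw [Fintype.linearIndependent_iff]
    intro g hg j
    have h1 := congrArg (ΩX.presheaf.map (homOfLE hVU).op) hg
    rw [map_sum, map_zero] at h1
    have h2 : ∀ i, ΩX.presheaf.map (homOfLE hVU).op
        (g i • ΩX.presheaf.map (homOfLE (le_top : U ≤ ⊤)).op (c.app ⊤ (e (σ i)))) =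
        X.presheaf.map (homOfLE hVU).op (g i) •
          ΩX.presheaf.map (homOfLE (le_top : V₂ ≤ ⊤)).op (c.app ⊤ (e (σ i))) := by
      intro i
      rw [Scheme.Modules.map_smul, Groth.Agent.H39.PullTrack.res_res]
    simp only [h2] at h1
    have h3 := Fintype.linearIndependent_iff.mp hσ
      (fun i => X.presheaf.map (homOfLE hVU).op (g i)) h1 j
    apply res_injective hVU ⟨_, hξV₂⟩
    rw [h3, map_zero]
  · have hUbot : U = ⊥ := by
      ext x
      simp only [TopologicalSpace.Opens.coe_bot, Set.mem_empty_iff_false, iff_false]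
      exact fun hx => hUne ⟨x, hx⟩
    subst hUbot
    haveI : Subsingleton Γ(X, (⊥ : X.Opens)) :=
      CommRingCat.subsingleton_of_isTerminal X.sheaf.isTerminalOfEmpty
    exact ⟨fun _ => 0, linearIndependent_of_subsingleton⟩

/-- Let k be a field and f : X → Z a k-morphism between integral proper k-schemes, where X is
geometrically normal (its base change to an algebraic closure of k has integrally closed local
domains) and Z is smooth over k; let Y ⊆ Z be the closure of the image of f, m its dimension, and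
assume the fibre of f over the generic point of Y is geometrically reduced over the residue field
there (the function field extension K(Y) ⊆ K(X) is separable). Let d_Z : O_Z → Ω_Z and d_X : O_X →
Ω_X be universal k-derivations and c : f^*Ω_Z → Ω_X the O_X-linear map compatible with them, and let
U ⊆ X be the largest open subscheme smooth over k. If f^*Ω_Z is a free O_X-module of finite rank,
then there are m sections of Ω_X over U which are linearly independent over Γ(U, O_X); in particular
the space of sections of Ω¹ over U has dimension at least m. (The second estimate of (ii), a nonzero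
section of Ω^m over U, is not stated.) -/
theorem result (k : Type u) [Field k]
    (X Z : Scheme.{u}) [X.Over (Spec (CommRingCat.of k))] [Z.Over (Spec (CommRingCat.of k))]
    [IsProper (X ↘ Spec (CommRingCat.of k))] [IsProper (Z ↘ Spec (CommRingCat.of k))] [IsIntegral X] [IsIntegral Z]
    [Smooth (Z ↘ Spec (CommRingCat.of k))]
    (hgn : ∀ (K : Type u) [Field K] [Algebra k K] [IsAlgClosure k K],
      Pi1.IsNormalScheme (pullback (X ↘ Spec (CommRingCat.of k)) (Spec.map (CommRingCat.ofHom (algebraMap k K)))))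
    (f : X ⟶ Z) (hf : f ≫ (Z ↘ Spec (CommRingCat.of k)) = X ↘ Spec (CommRingCat.of k))
    (η : Z) (hη : closure {η} = closure (Set.range f.base)) (m : ℕ)
    (hm : topologicalKrullDim (closure (Set.range f.base)) = m)
    (hsep : GeometricallyReduced (pullback.snd f (Z.fromSpecResidueField η)))
    (ΩZ : Z.Modules) (dZ : OmegaSh.Der (Z ↘ Spec (CommRingCat.of k)) ΩZ) (hdZ : OmegaSh.IsUniversal dZ)
    (ΩX : X.Modules) (dX : OmegaSh.Der (X ↘ Spec (CommRingCat.of k)) ΩX) (hdX : OmegaSh.IsUniversal dX)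
    (c : (Scheme.Modules.pullback f).obj ΩZ ⟶ ΩX) (hc : OmegaSh.IsDiffCompat f dZ dX c)
    (hfree : ∃ d : ℕ, Nonempty ((Scheme.Modules.pullback f).obj ΩZ ≅ FlatMod.freeMod X d))
    (U : X.Opens) (hU : Smooth (U.ι ≫ (X ↘ Spec (CommRingCat.of k))))
    (hUmax : ∀ V : X.Opens, Smooth (V.ι ≫ (X ↘ Spec (CommRingCat.of k))) → V ≤ U) :
    ∃ s : Fin m → ΩX.val.obj (Opposite.op U),
      LinearIndependent (X.ringCatSheaf.obj.obj (Opposite.op U)) s := by
  obtain ⟨s, hs⟩ := main X Z (X ↘ Spec (CommRingCat.of k)) (Z ↘ Spec (CommRingCat.of k)) f hf η hη m hm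
    hsep ΩZ dZ hdZ ΩX dX hdX c hc hfree U
  exact ⟨s, hs⟩


end Groth.Agent.S19520
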