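import Groth.Statements.S19522
import Mathlib.Algebra.Polynomial.Coeff
import Mathlib.RingTheory.TensorProduct.Maps

set_option autoImplicit false
universe u
open TensorProduct
open GLin

namespace Groth.Agent.S19522

/-- Let k be a field, A a commutative k-bialgebra coacting multiplicatively on a commutative k-algebra
R, and χ ∈ A a group-like element with an inverse χ' (χχ' = 1). Suppose the polynomial ring R[t]
carries a multiplicative coaction which restricts to the given one on constants and sends t to t ⊗
χ'. Then g ∈ R[t] is coinvariant if and only if, for every r, its r-th coefficient has coaction g_r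
↦ g_r ⊗ χ^r; that is, the ring of invariants of R[t] is the sum over r ≥ 0 of the weight-χ^r
semi-invariants of R times t^r. (The published statement is phrased for an affine variety with an
action of a linear algebraic group over an algebraically closed field of characteristic zero and
identifies the invariants of X × A¹ with the graded ring of invariant sections of the powers of the
linearised trivial bundle; this is its coordinate-ring content, valid over any field.) -/
theorem result (k : Type u) [Field k]
    (A : Type u) [CommRing A] [Bialgebra k A]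
    (R : Type u) [CommRing R] [Algebra k R] [HopfRep.Comod k A R] [GLin.IsCoactAlg k A R]
    [HopfRep.Comod k A (Polynomial R)] [GLin.IsCoactAlg k A (Polynomial R)]
    (χ χ' : A) (hχ : CoalgebraStruct.comul (R := k) (A := A) χ = χ ⊗ₜ[k] χ)
    (hχε : CoalgebraStruct.counit (R := k) (A := A) χ = 1) (hχχ' : χ * χ' = 1)
    (hC : ∀ r : R, HopfRep.Comod.coact (k := k) (A := A) (Polynomial.C r) =
      Algebra.TensorProduct.map (Polynomial.CAlgHom : R →ₐ[k] Polynomial R) (AlgHom.id k A)
        (HopfRep.Comod.coact (k := k) (A := A) r))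
    (hX : HopfRep.Comod.coact (k := k) (A := A) (Polynomial.X : Polynomial R) = Polynomial.X ⊗ₜ[k] χ')
    (g : Polynomial R) :
    g ∈ GLin.invariants k A (Polynomial R) ↔
      ∀ r : ℕ, g.coeff r ∈ HopfRep.eigenspace k A R (χ ^ r) := by
  classical
  have _h1 := hχ
  have _h2 := hχε
  have hXpow : ∀ j : ℕ, HopfRep.Comod.coact (k := k) (A := A) ((Polynomial.X : Polynomial R) ^ j) =
      (Polynomial.X ^ j) ⊗ₜ[k] (χ' ^ j) := by
    intro j
    have h3 := map_pow (GLin.coactAlgHom k A (Polynomial R)) (Polynomial.X : Polynomial R) j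
    simp only [GLin.coactAlgHom_apply] at h3
    rw [h3, hX, Algebra.TensorProduct.tmul_pow]
  have hterm : ∀ (r : R) (j : ℕ),
      HopfRep.Comod.coact (k := k) (A := A) (Polynomial.C r * Polynomial.X ^ j) =
        Algebra.TensorProduct.map (Polynomial.CAlgHom : R →ₐ[k] Polynomial R) (AlgHom.id k A)
          (HopfRep.Comod.coact (k := k) (A := A) r) *
          ((Polynomial.X ^ j) ⊗ₜ[k] (χ' ^ j)) := by
    intro r j
    rw [GLin.IsCoactAlg.coact_mul, hC, hXpow]
  have hsum : HopfRep.Comod.coact (k := k) (A := A) g = ∑ j ∈ g.support,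
      Algebra.TensorProduct.map (Polynomial.CAlgHom : R →ₐ[k] Polynomial R) (AlgHom.id k A)
          (HopfRep.Comod.coact (k := k) (A := A) (g.coeff j)) *
          ((Polynomial.X ^ j) ⊗ₜ[k] (χ' ^ j)) := by
    conv_lhs => rw [g.as_sum_support_C_mul_X_pow, map_sum]
    exact Finset.sum_congr rfl fun j _ => hterm _ j
  have hχpow : ∀ j : ℕ, χ ^ j * χ' ^ j = 1 := fun j => by rw [← mul_pow, hχχ', one_pow]
  have hCA : ∀ m : R, (Polynomial.CAlgHom : R →ₐ[k] Polynomial R) m = Polynomial.C m :=
    fun m => rfl
  constructor
  · intro hinv r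
    have hinv' : HopfRep.Comod.coact (k := k) (A := A) g = g ⊗ₜ[k] (1 : A) := hinv
    have hc_tmul : ∀ (p : Polynomial R) (a : A),
        LinearMap.rTensor A ((Polynomial.lcoeff R r).restrictScalars k) (p ⊗ₜ[k] a) =
          p.coeff r ⊗ₜ[k] a := fun p a => rfl
    have hL : ∀ (u : R ⊗[k] A) (j : ℕ) (a : A),
        LinearMap.rTensor A ((Polynomial.lcoeff R r).restrictScalars k)
          (Algebra.TensorProduct.map (Polynomial.CAlgHom : R →ₐ[k] Polynomial R) (AlgHom.id k A) u *
            ((Polynomial.X ^ j) ⊗ₜ[k] a)) = if j = r then u * ((1 : R) ⊗ₜ[k] a) else 0 := by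
      intro u j a
      induction u using TensorProduct.induction_on with
      | zero => simp
      | tmul m a' =>
        rw [Algebra.TensorProduct.map_tmul, Algebra.TensorProduct.tmul_mul_tmul, hc_tmul, hCA,
          AlgHom.id_apply, Polynomial.coeff_C_mul_X_pow]
        split_ifs with h1 h2 h2
        · rw [Algebra.TensorProduct.tmul_mul_tmul, mul_one]
        · exact absurd h1.symm h2
        · exact absurd h2.symm h1
        · rw [TensorProduct.zero_tmul]
      | add u v hu hv =>
        rw [map_add, add_mul, map_add, hu, hv]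
        split_ifs <;> simp [add_mul]
    have h1 := congrArg (LinearMap.rTensor A ((Polynomial.lcoeff R r).restrictScalars k)) hinv'
    rw [hsum, map_sum, hc_tmul] at h1
    simp only [hL] at h1
    rw [Finset.sum_ite_eq'] at h1
    show HopfRep.Comod.coact (k := k) (A := A) (g.coeff r) = g.coeff r ⊗ₜ[k] (χ ^ r)
    by_cases hr : r ∈ g.support
    · rw [if_pos hr] at h1
      have h2 := congrArg (fun t => t * ((1 : R) ⊗ₜ[k] (χ ^ r))) h1
      simp only [mul_assoc, Algebra.TensorProduct.tmul_mul_tmul, mul_one, one_mul] at h2
      rw [mul_comm (χ' ^ r), hχpow, ← Algebra.TensorProduct.one_def, mul_one] at h2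
      exact h2
    · rw [Polynomial.notMem_support_iff.mp hr, map_zero, TensorProduct.zero_tmul]
  · intro h
    show HopfRep.Comod.coact (k := k) (A := A) g = g ⊗ₜ[k] (1 : A)
    rw [hsum]
    conv_rhs => rw [g.as_sum_support_C_mul_X_pow, TensorProduct.sum_tmul]
    refine Finset.sum_congr rfl fun j _ => ?_
    have hj : HopfRep.Comod.coact (k := k) (A := A) (g.coeff j) = g.coeff j ⊗ₜ[k] (χ ^ j) := h j
    rw [hj, Algebra.TensorProduct.map_tmul, Algebra.TensorProduct.tmul_mul_tmul, AlgHom.id_apply,
      hχpow, hCA]

end Groth.Agent.S19522
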