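import Groth.Statements.S19524
-- import your own Groth.Agent.* helpers here
import Groth.Agent.S19520
import Groth.Agent.H70.OmegaWedgeQ1
import Groth.Agent.H33.OmegaWedge_Q2

set_option autoImplicit false
set_option linter.style.haveILetI false
universe u
open CategoryTheory CategoryTheory.Limits AlgebraicGeometry
open OmegaSh

namespace Groth.Agent.S19524

set_option maxHeartbeats 1000000 in
theorem main {k : Type u} [Field k] (X Z : Scheme.{u}) [IsIntegral X] [IsIntegral Z]
    (pX : X ⟶ Spec (CommRingCat.of k)) (pZ : Z ⟶ Spec (CommRingCat.of k))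
    [IsProper pX] [IsProper pZ] [Smooth pZ]
    (hgn : ∀ (K : Type u) [Field K] [Algebra k K] [IsAlgClosure k K],
      Pi1.IsNormalScheme (pullback pX (Spec.map (CommRingCat.ofHom (algebraMap k K)))))
    (f : X ⟶ Z) (hf : f ≫ pZ = pX)
    (η : Z) (hη : closure {η} = closure (Set.range f.base)) (m : ℕ)
    (hm : topologicalKrullDim (closure (Set.range f.base)) = m)
    (hsep : GeometricallyReduced (pullback.snd f (Z.fromSpecResidueField η)))
    (ΩZ : Z.Modules) (dZ : OmegaSh.Der pZ ΩZ) (hdZ : OmegaSh.IsUniversal dZ)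
    (ΩX : X.Modules) (dX : OmegaSh.Der pX ΩX) (hdX : OmegaSh.IsUniversal dX)
    (c : (Scheme.Modules.pullback f).obj ΩZ ⟶ ΩX) (hc : OmegaSh.IsDiffCompat f dZ dX c)
    (hfree : ∃ d : ℕ, Nonempty ((Scheme.Modules.pullback f).obj ΩZ ≅ FlatMod.freeMod X d))
    (U : X.Opens)
    (hUmax : ∀ V : X.Opens, Smooth (V.ι ≫ pX) → V ≤ U)
    (Ωm : X.Modules) (hΩm : ExtPow.IsExtPow m ΩX Ωm) :
    ∃ s : Γ(Ωm, U), s ≠ 0 := by
  classical
  -- `U` is nonempty
  obtain ⟨V, hVne, hVsm⟩ := Groth.Agent.H70.OmegaWedgeQ1.exists_nonempty_smooth_open k X pX hgn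
  have hUne : (U : Set X).Nonempty := hVne.mono (hUmax V hVsm)
  subst hf
  haveI : LocallyOfFiniteType f := locallyOfFiniteType_of_comp f pZ
  haveI : QuasiCompact f := QuasiCompact.of_comp f pZ
  obtain ⟨d, ⟨φ⟩⟩ := hfree
  obtain ⟨e, he⟩ := Groth.Agent.H70.OmegaRankP4.exists_global_spanning φ
  have hcl : closure ({f.base (genericPoint X)} : Set Z) = closure (Set.range f.base) := by
    apply subset_antisymm
    · exact closure_mono (Set.singleton_subset_iff.mpr ⟨_, rfl⟩)
    · apply closure_minimal _ isClosed_closure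
      rintro _ ⟨x, rfl⟩
      have hx : x ∈ closure ({genericPoint X} : Set X) := by
        rw [(genericPoint_spec X).def]; trivial
      have := image_closure_subset_closure_image f.base.hom.continuous ⟨x, hx, rfl⟩
      rwa [Set.image_singleton] at this
  have hfη : f.base (genericPoint X) = η :=
    IsGenericPoint.eq (S := closure (Set.range f.base)) hcl hη
  subst hfη
  have hm' : topologicalKrullDim ↥(closure ({f.base (genericPoint X)} : Set Z)) = m := by
    rw [hcl]; exact hm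
  have hξU : genericPoint X ∈ U :=
    ((genericPoint_spec X).mem_open_set_iff U.isOpen).mpr (by simpa using hUne)
  obtain ⟨V₁, hV₁, hηV₁, -⟩ := (TopologicalSpace.Opens.isBasis_iff_nbhd.mp Z.isBasis_affineOpens)
    (TopologicalSpace.Opens.mem_top (f.base (genericPoint X)))
  have hξ2 : genericPoint X ∈ U ⊓ f ⁻¹ᵁ V₁ := ⟨hξU, hηV₁⟩
  obtain ⟨V₂, hV₂, hξV₂, hV₂le⟩ :=
    (TopologicalSpace.Opens.isBasis_iff_nbhd.mp X.isBasis_affineOpens) hξ2
  have e₀ : V₂ ≤ f ⁻¹ᵁ V₁ := hV₂le.trans inf_le_right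
  have hVU : V₂ ≤ U := hV₂le.trans inf_le_left
  obtain ⟨σ, hσ⟩ := Groth.Agent.S19520.core pZ f m hm' hsep hdZ hdX hc e he hV₁ hV₂ e₀ ⟨_, hξV₂⟩
  refine Groth.Agent.H33.OmegaWedge_Q2.exists_section_ne_zero m hΩm U
    (fun j => ΩX.presheaf.map (homOfLE (le_top : U ≤ ⊤)).op (c.app ⊤ (e (σ j))))
    V₂ hV₂ hVU ⟨_, hξV₂⟩ ?_
  have h2 : (fun j => ΩX.presheaf.map (homOfLE hVU).op
      (ΩX.presheaf.map (homOfLE (le_top : U ≤ ⊤)).op (c.app ⊤ (e (σ j))))) =
      fun j => ΩX.presheaf.map (homOfLE (le_top : V₂ ≤ ⊤)).op (c.app ⊤ (e (σ j))) := by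
    funext j
    rw [Groth.Agent.H39.PullTrack.res_res]
  rw [h2]
  exact hσ

/-- Let k be a field and f : X → Z a k-morphism between integral proper k-schemes, where X is
geometrically normal (its base change to an algebraic closure of k has integrally closed local
domains) and Z is smooth over k; let Y ⊆ Z be the closure of the image of f, m its dimension, and
assume the fibre of f over the generic point of Y is geometrically reduced over the residue field
there (the function field extension K(Y) ⊆ K(X) is separable). Let d_Z : O_Z → Ω_Z and d_X : O_X →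
Ω_X be universal k-derivations and c : f^*Ω_Z → Ω_X the O_X-linear map compatible with them, and let
U ⊆ X be the largest open subscheme smooth over k. If f^*Ω_Z is a free O_X-module of finite rank and
Ω^m_X is an m-th exterior power of Ω_X (affine-locally the exterior power of the sections), then
Ω^m_X has a nonzero section over U: h⁰(U, Ω^m) ≥ 1. -/
theorem result (k : Type u) [Field k]
    (X Z : Scheme.{u}) [X.Over (Spec (CommRingCat.of k))] [Z.Over (Spec (CommRingCat.of k))]
    [IsProper (X ↘ Spec (CommRingCat.of k))] [IsProper (Z ↘ Spec (CommRingCat.of k))] [IsIntegral X] [IsIntegral Z]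
    [Smooth (Z ↘ Spec (CommRingCat.of k))]
    (hgn : ∀ (K : Type u) [Field K] [Algebra k K] [IsAlgClosure k K],
      Pi1.IsNormalScheme (pullback (X ↘ Spec (CommRingCat.of k)) (Spec.map (CommRingCat.ofHom (algebraMap k K)))))
    (f : X ⟶ Z) (hf : f ≫ (Z ↘ Spec (CommRingCat.of k)) = X ↘ Spec (CommRingCat.of k))
    (η : Z) (hη : closure {η} = closure (Set.range f.base)) (m : ℕ)
    (hm : topologicalKrullDim (closure (Set.range f.base)) = m)
    (hsep : GeometricallyReduced (pullback.snd f (Z.fromSpecResidueField η)))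
    (ΩZ : Z.Modules) (dZ : OmegaSh.Der (Z ↘ Spec (CommRingCat.of k)) ΩZ) (hdZ : OmegaSh.IsUniversal dZ)
    (ΩX : X.Modules) (dX : OmegaSh.Der (X ↘ Spec (CommRingCat.of k)) ΩX) (hdX : OmegaSh.IsUniversal dX)
    (c : (Scheme.Modules.pullback f).obj ΩZ ⟶ ΩX) (hc : OmegaSh.IsDiffCompat f dZ dX c)
    (hfree : ∃ d : ℕ, Nonempty ((Scheme.Modules.pullback f).obj ΩZ ≅ FlatMod.freeMod X d))
    (U : X.Opens) (hU : Smooth (U.ι ≫ (X ↘ Spec (CommRingCat.of k))))
    (hUmax : ∀ V : X.Opens, Smooth (V.ι ≫ (X ↘ Spec (CommRingCat.of k))) → V ≤ U)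
    (Ωm : X.Modules) (hΩm : ExtPow.IsExtPow m ΩX Ωm) :
    ∃ s : Ωm.val.obj (Opposite.op U), s ≠ 0 := by
  obtain ⟨s, hs⟩ := main X Z (X ↘ Spec (CommRingCat.of k)) (Z ↘ Spec (CommRingCat.of k)) hgn f hf η hη m hm
    hsep ΩZ dZ hdZ ΩX dX hdX c hc hfree U hUmax Ωm hΩm
  exact ⟨s, hs⟩


end Groth.Agent.S19524
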