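import Groth.Statements.S19530
import Groth.Agent.H69.ChainLift

set_option autoImplicit false
set_option linter.style.haveILetI false
universe u
open CategoryTheory CategoryTheory.Limits AlgebraicGeometry
open Subtr

namespace Groth.Agent.S19530

/-- Let f : X ⟶ Y be a morphism of schemes such that every base change of f has the lifting property for
ordered pairs of points (every point together with a specialization of it is the image of such a
pair). Then every finite chain of points y_0, y_1, …, y_n of Y, in which y_j is a specialization of
y_i whenever i ≤ j, lifts to a chain in X: there are points x_0, …, x_n of X with x_j a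
specialization of x_i for i ≤ j and f(x_i) = y_i for every i. (The published statement is for
universally subtrusive f, which adds submersiveness for the constructible topologies, and for
arbitrary chains having a lower bound in Y; this row keeps the pair-lifting property alone and
finite chains, whose most special member is a lower bound.) -/
theorem result {X Y : Scheme.{u}} (f : X ⟶ Y)
    (hf : Subtr.UnivSSubtrusive f) (n : ℕ) (y : Fin (n + 1) → Y)
    (hy : ∀ i j : Fin (n + 1), i ≤ j → y i ⤳ y j) :
    ∃ x : Fin (n + 1) → X, (∀ i j : Fin (n + 1), i ≤ j → x i ⤳ x j) ∧ ∀ i, f (x i) = y i := by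
  let y' : ℕ → Y := fun i => y ⟨min i n, by omega⟩
  have hy' : ∀ i, y' i ⤳ y' (i + 1) := fun i => hy _ _ (by
    rw [Fin.le_def]
    exact min_le_min_right n (Nat.le_succ i))
  obtain ⟨x', hx'sp, hx'⟩ := Groth.Agent.H69.ChainLift.exists_chain_lift f hf y' hy' n
  refine ⟨fun i => x' i, ?_, ?_⟩
  · intro i j hij
    exact Groth.Agent.H69.ChainLift.specializes_of_le x' hx'sp i j hij
  · intro i
    have hi : (i : ℕ) ≤ n := Nat.lt_succ_iff.mp i.2
    have h1 := hx' i hi
    rw [h1]
    change y ⟨min (i : ℕ) n, _⟩ = y i
    congr 1
    apply Fin.ext
    exact min_eq_left hi

end Groth.Agent.S19530
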