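import Groth.Statements.S19540
import Mathlib

set_option autoImplicit false
open CategoryTheory CategoryTheory.Limits Opposite
universe w v u
open CohSite

namespace Groth.Agent.S19540

/-- Let (C, J) be a site and B a class of objects of C, each weakly contractible (every epimorphism of
sheaves of sets, valued in a fixed universe, is surjective on sections over it), such that every
object V of C has a covering sieve all of whose arrows factor through some object of B. Then a
three-term complex F ⟶ G ⟶ H of abelian sheaves on (C, J) is exact if and only if for every U in B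
the sequence of section groups F(U) ⟶ G(U) ⟶ H(U) is exact. (The published statement is for sheaves
of modules over a sheaf of rings O; this row is the case of the constant sheaf of rings ℤ, i.e.
abelian sheaves, to which exactness questions for O-modules reduce. The universe set-up assumes that
abelian sheafification exists and inverts exactly the locally bijective maps, as on any small site.) -/
theorem result
    {C : Type u} [Category.{v} C] (J : GrothendieckTopology C) [HasSheafify J AddCommGrpCat.{w}]
    [J.WEqualsLocallyBijective AddCommGrpCat.{w}]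
    (B : C → Prop)
    (hB : ∀ U : C, B U → ∀ (P Q : Sheaf J (Type w)) (ψ : P ⟶ Q), Epi ψ → Function.Surjective (ψ.hom.app (op U)))
    (hcov : ∀ V : C, ∃ S : Sieve V, S ∈ J V ∧ ∀ ⦃W : C⦄ (f : W ⟶ V), S.arrows f →
      ∃ (U : C) (g : W ⟶ U) (h : U ⟶ V), B U ∧ g ≫ h = f)
    (S : ShortComplex (Sheaf J AddCommGrpCat.{w})) :
    S.Exact ↔ ∀ U : C, B U →
      (S.map (sheafToPresheaf J AddCommGrpCat.{w} ⋙ (evaluation Cᵒᵖ AddCommGrpCat.{w}).obj (op U))).Exact := by
  have epi_surj : ∀ U : C, B U → ∀ {I Q : Sheaf J AddCommGrpCat.{w}} (g : I ⟶ Q), Epi g →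
      Function.Surjective (g.hom.app (op U)) := by
    intro U hU I Q g hg
    haveI : Sheaf.IsLocallySurjective g := (Sheaf.isLocallySurjective_iff_epi' AddCommGrpCat.{w} g).2 hg
    haveI : Sheaf.IsLocallySurjective ((sheafCompose J (forget AddCommGrpCat.{w})).map g) :=
      inferInstance
    have hepi : Epi ((sheafCompose J (forget AddCommGrpCat.{w})).map g) := inferInstance
    intro s
    obtain ⟨t, ht⟩ := hB U hU _ _ _ hepi s
    exact ⟨t, ht⟩
  let Γ : C → (Sheaf J AddCommGrpCat.{w} ⥤ AddCommGrpCat.{w}) := fun U =>
    sheafToPresheaf J AddCommGrpCat.{w} ⋙ (evaluation Cᵒᵖ AddCommGrpCat.{w}).obj (op U)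
  let K : ShortComplex (Sheaf J AddCommGrpCat.{w}) :=
    ShortComplex.mk (kernel.ι S.g) S.g (kernel.condition S.g)
  have hK : K.Exact := ShortComplex.exact_of_f_is_kernel K (kernelIsKernel S.g)
  have hKU : ∀ U : C, (K.map (Γ U)).Exact := fun U =>
    hK.map_of_mono_of_preservesKernel (Γ U) (inferInstanceAs (Mono (kernel.ι S.g))) inferInstance
  have hmonoU : ∀ U : C, Function.Injective ((kernel.ι S.g).hom.app (op U)) := fun U => by
    haveI : Mono ((Γ U).map (kernel.ι S.g)) := inferInstance
    exact (AddCommGrpCat.mono_iff_injective ((Γ U).map (kernel.ι S.g))).1 inferInstance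
  have hlift : ∀ (U : C) (t : S.X₁.obj.obj (op U)),
      ((kernel.ι S.g).hom.app (op U)).hom (((kernel.lift S.g S.f S.zero).hom.app (op U)).hom t) =
        (S.f.hom.app (op U)).hom t := fun U t =>
    congrArg (fun φ => (φ.hom.app (op U)).hom t) (kernel.lift_ι S.g S.f S.zero)
  rw [ShortComplex.exact_iff_epi_kernel_lift]
  constructor
  · intro hepi U hU
    rw [ShortComplex.ab_exact_iff]
    intro x hx
    obtain ⟨s, hs⟩ := (ShortComplex.ab_exact_iff _).1 (hKU U) x hx
    obtain ⟨t, ht⟩ := epi_surj U hU (kernel.lift S.g S.f S.zero) hepi s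
    refine ⟨t, ?_⟩
    exact (hlift U t).symm.trans
      ((congrArg (fun z => ((kernel.ι S.g).hom.app (op U)).hom z) ht).trans hs)
  · intro h
    refine (Sheaf.isLocallySurjective_iff_epi' AddCommGrpCat.{w}
      (kernel.lift S.g S.f S.zero)).1 ?_
    refine ⟨fun {V} s => ?_⟩
    obtain ⟨R, hR, hRf⟩ := hcov V
    refine J.superset_covering ?_ hR
    intro W f hf
    obtain ⟨U, g, h', hBU, rfl⟩ := hRf f hf
    refine Sieve.downward_closed _ ?_ g
    -- the restriction of `s` to `U`
    have hzero : (S.g.hom.app (op U)).hom (((kernel.ι S.g).hom.app (op U)).hom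
        (((kernel S.g).obj.map h'.op).hom s)) = 0 :=
      congrArg (fun φ => (φ.hom.app (op U)).hom (((kernel S.g).obj.map h'.op).hom s))
        (kernel.condition S.g)
    obtain ⟨t, ht⟩ := (ShortComplex.ab_exact_iff _).1 (h U hBU) _ hzero
    refine ⟨t, hmonoU U ?_⟩
    exact (hlift U t).trans ht

end Groth.Agent.S19540
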