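import Groth.Statements.S19541
import Groth.Agent.S9566
import Groth.Agent.H63.SmoothRegular2
import Groth.Agent.H63.GeomRegAtSmooth
import Groth.Agent.H79.SmoothReg
import Groth.Agent.H7.DedekindOpen
import Groth.Agent.H9.SchemeDimStalk

set_option autoImplicit false
universe u
open CategoryTheory CategoryTheory.Limits AlgebraicGeometry TopologicalSpace
open Curves

namespace Groth.Agent.S19541

theorem flat_of_map_maximalIdeal {A B : Type u} [CommRing A] [CommRing B] [IsLocalRing A]
    [IsLocalRing B] [IsDomain A] [IsPrincipalIdealRing A] [IsDomain B] (f : A →+* B)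
    (hm : (IsLocalRing.maximalIdeal A).map f = IsLocalRing.maximalIdeal B)
    (hB : IsLocalRing.maximalIdeal B ≠ ⊥) : f.Flat := by
  have hinj : Function.Injective f := by
    rw [RingHom.injective_iff_ker_eq_bot]
    by_contra hne
    haveI hprime : (RingHom.ker f).IsPrime := RingHom.ker_isPrime f
    have hmax : (RingHom.ker f).IsMaximal := IsPrime.to_maximal_ideal hne
    have hker : RingHom.ker f = IsLocalRing.maximalIdeal A := IsLocalRing.eq_maximalIdeal hmax
    apply hB
    rw [← hm, ← hker]
    exact (Ideal.map_eq_bot_iff_le_ker f).mpr le_rfl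
  algebraize [f]
  haveI : Module.IsTorsionFree A B := Module.isTorsionFree_iff_algebraMap_injective.mpr hinj
  show Module.Flat A B
  infer_instance

theorem resField_surjective_of_closed (k : Type u) [Field k] [IsAlgClosed k] {X : Scheme.{u}}
    (pX : X ⟶ Spec (CommRingCat.of k)) [LocallyOfFiniteType pX] (x : X)
    (hx : IsClosed ({x} : Set X))
    (ψ : CommRingCat.of k ⟶ X.residueField x)
    (hψ : Spec.map ψ = X.fromSpecResidueField x ≫ pX) :
    Function.Surjective ψ.hom := by
  haveI : IsClosedImmersion (X.fromSpecResidueField x) :=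
    isClosed_singleton_iff_isClosedImmersion.mp hx
  haveI : LocallyOfFiniteType (Spec.map ψ) := by rw [hψ]; infer_instance
  have hfin : IsFinite (Spec.map ψ) :=
    (isFinite_iff_locallyOfFiniteType_of_jacobsonSpace).mpr inferInstance
  rw [IsFinite.SpecMap_iff] at hfin
  exact (IsAlgClosed.ringHom_bijective_of_isIntegral ψ.hom hfin.to_isIntegral).2

theorem residueFieldMap_surjective (k : Type u) [Field k] [IsAlgClosed k] {X Y : Scheme.{u}}
    (pX : X ⟶ Spec (CommRingCat.of k)) (pY : Y ⟶ Spec (CommRingCat.of k)) (φ : X ⟶ Y)
    (w : φ ≫ pY = pX) [LocallyOfFiniteType pX] (x : X) (hx : IsClosed ({x} : Set X)) :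
    Function.Surjective (φ.residueFieldMap x).hom := by
  obtain ⟨ψx, hψx⟩ := Spec.map_surjective (X.fromSpecResidueField x ≫ pX)
  obtain ⟨ψy, hψy⟩ := Spec.map_surjective (Y.fromSpecResidueField (φ.base x) ≫ pY)
  have hsurj := resField_surjective_of_closed k pX x hx ψx hψx
  have hcomp : ψx = ψy ≫ φ.residueFieldMap x := by
    apply Spec.map_injective
    rw [Spec.map_comp, hψx, hψy, ← Category.assoc,
      Scheme.Hom.SpecMap_residueFieldMap_fromSpecResidueField, Category.assoc, w]
  intro b
  obtain ⟨a, rfl⟩ := hsurj b
  exact ⟨ψy.hom a, by rw [hcomp]; rfl⟩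

/-- Pointwise criterion for a map of smooth curves to be étale: let k be an algebraically closed field,
X and Y integral schemes each smooth, separated and quasi-compact over Spec k and of dimension one,
φ : X → Y a morphism over k and x a closed point of X. Then φ is étale at x (the restriction of φ to
some open neighbourhood of x is étale) if and only if the induced homomorphism of stalks O_{Y,φ(x)}
→ O_{X,x} carries the maximal ideal of the discrete valuation ring O_{Y,φ(x)} to an ideal generating
the maximal ideal of O_{X,x}; equivalently a uniformiser at φ(x) pulls back to a uniformiser at x.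
(The published statement is for smooth curves, which are in addition geometrically connected;
integrality is what is used. For a constant φ both sides fail.) -/
theorem result (k : Type u) [Field k] [IsAlgClosed k] {X Y : Scheme.{u}}
    (pX : X ⟶ Spec (CommRingCat.of k)) (pY : Y ⟶ Spec (CommRingCat.of k)) (φ : X ⟶ Y) (w : φ ≫ pY = pX)
    [IsIntegral X] [Smooth pX] [IsSeparated pX] [QuasiCompact pX] (hdX : topologicalKrullDim X = 1)
    [IsIntegral Y] [Smooth pY] [IsSeparated pY] [QuasiCompact pY] (hdY : topologicalKrullDim Y = 1)
    (x : X) (hx : IsClosed ({x} : Set X)) :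
    (∃ U : X.Opens, x ∈ U ∧ Etale (U.ι ≫ φ)) ↔
      Ideal.map (φ.stalkMap x).hom (IsLocalRing.maximalIdeal (Y.presheaf.stalk (φ.base x))) =
        IsLocalRing.maximalIdeal (X.presheaf.stalk x) := by
  haveI : LocallyOfFiniteType pX := inferInstance
  haveI : LocallyOfFiniteType pY := inferInstance
  haveI : IsLocallyNoetherian Y := LocallyOfFiniteType.isLocallyNoetherian pY
  haveI : LocallyOfFiniteType φ := by
    haveI : LocallyOfFiniteType (φ ≫ pY) := by rw [w]; infer_instance
    exact locallyOfFiniteType_of_comp φ pY
  rw [Groth.Agent.S9566.result φ x]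
  constructor
  · exact fun h => h.2.1
  · intro hm
    haveI hregA : IsRegularLocalRing (Y.presheaf.stalk (φ.base x)) :=
      Groth.Agent.H63.SmoothRegular.isRegularLocalRing_stalk_of_smooth pY (φ.base x)
    have hdimA : ringKrullDim (Y.presheaf.stalk (φ.base x)) ≤ 1 :=
      (Groth.Agent.H9.FibDim.ringKrullDim_stalk_le Y (φ.base x)).trans hdY.le
    obtain ⟨hdomA, hpid⟩ :=
      Groth.Agent.H7.isDomain_isPrincipalIdealRing_of_regular_dim_le_one
        (Y.presheaf.stalk (φ.base x)) hdimA
    haveI := hpid
    have hB : IsLocalRing.maximalIdeal (X.presheaf.stalk x) ≠ ⊥ := by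
      intro hbot
      have hη : IsGenericPoint (genericPoint X) (Set.univ : Set X) := genericPoint_spec X
      have h1 := Groth.Agent.H7.fromSpecStalk_bot_eq x (genericPoint X) hη
      have h2 : (⟨⊥, Ideal.isPrime_bot⟩ : PrimeSpectrum (X.presheaf.stalk x)) =
          IsLocalRing.closedPoint _ := by
        apply PrimeSpectrum.ext
        exact hbot.symm
      rw [h2, Scheme.fromSpecStalk_closedPoint] at h1
      have huniv : ({x} : Set X) = Set.univ := by
        rw [← hx.closure_eq, h1]
        exact hη.def
      haveI : Subsingleton X := ⟨fun a b => by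
        have ha : a ∈ ({x} : Set X) := huniv ▸ Set.mem_univ a
        have hb : b ∈ ({x} : Set X) := huniv ▸ Set.mem_univ b
        rw [Set.mem_singleton_iff.mp ha, Set.mem_singleton_iff.mp hb]⟩
      have h0 := topologicalKrullDim_zero_of_discreteTopology X
      rw [hdX] at h0
      exact absurd h0 (by simp)
    have hsurj := residueFieldMap_surjective k pX pY φ w x hx
    refine ⟨flat_of_map_maximalIdeal _ hm hB, hm, ?_, ?_⟩
    · letI := (φ.residueFieldMap x).hom.toAlgebra
      exact Module.Finite.of_surjective (Algebra.linearMap _ _) hsurj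
    · letI := (φ.residueFieldMap x).hom.toAlgebra
      have hbij : Function.Bijective
          (algebraMap (Y.residueField (φ.base x)) (X.residueField x)) :=
        ⟨(algebraMap (Y.residueField (φ.base x)) (X.residueField x)).injective, hsurj⟩
      exact AlgEquiv.Algebra.isSeparable (AlgEquiv.ofBijective (Algebra.ofId _ _) hbij)

end Groth.Agent.S19541
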