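import Groth.Statements.S19546
import Mathlib
import Groth.Agent.H66.SegreCone

set_option autoImplicit false
universe u v w
open scoped TensorProduct
open VBCurve

namespace Groth.Agent.S19546




/-- Let A, B, C be complex vector spaces, A and B finite-dimensional, and ν : A ⊗ B → C a linear map
injective on each factor separately (b ↦ ν(a ⊗ b) is injective for every a ≠ 0 and a ↦ ν(a ⊗ b) is
injective for every b ≠ 0). Then the image of ν has dimension at least dim A + dim B - 1. (For A = 0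
the separate-injectivity hypothesis is empty and the inequality fails as soon as dim B ≥ 2, so A and
B are taken nonzero here, the case the inequality is about.) -/
theorem result
    (A : Type u) (B : Type v) (C : Type w) [AddCommGroup A] [Module ℂ A] [AddCommGroup B] [Module ℂ B]
    [AddCommGroup C] [Module ℂ C] [FiniteDimensional ℂ A] [FiniteDimensional ℂ B]
    [Nontrivial A] [Nontrivial B] (ν : A ⊗[ℂ] B →ₗ[ℂ] C)
    (hA : ∀ a : A, a ≠ 0 → Function.Injective (fun b : B => ν (a ⊗ₜ[ℂ] b)))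
    (hB : ∀ b : B, b ≠ 0 → Function.Injective (fun a : A => ν (a ⊗ₜ[ℂ] b))) :
    Module.finrank ℂ A + Module.finrank ℂ B ≤ Module.finrank ℂ (LinearMap.range ν) + 1 := by
  classical
  by_contra hcon
  push Not at hcon
  have hApos : 0 < Module.finrank ℂ A := Module.finrank_pos
  have hBpos : 0 < Module.finrank ℂ B := Module.finrank_pos
  obtain ⟨a', ha'⟩ : ∃ a', Module.finrank ℂ A = a' + 1 := ⟨Module.finrank ℂ A - 1, by omega⟩
  obtain ⟨b', hb'⟩ : ∃ b', Module.finrank ℂ B = b' + 1 := ⟨Module.finrank ℂ B - 1, by omega⟩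
  obtain ⟨c, hc⟩ : ∃ c, Module.finrank ℂ (LinearMap.range ν) = c := ⟨_, rfl⟩
  rw [ha', hb', hc] at hcon
  have eA : Module.Basis (Fin (a' + 1)) ℂ A := Module.finBasisOfFinrankEq ℂ A ha'
  have eB : Module.Basis (Fin (b' + 1)) ℂ B := Module.finBasisOfFinrankEq ℂ B hb'
  have eC : Module.Basis (Fin c) ℂ (LinearMap.range ν) := Module.finBasisOfFinrankEq ℂ _ hc
  have hcab : c ≤ a' + b' := by omega
  obtain ⟨α, β, hα, hβ, hzero⟩ :=
    Groth.Agent.H66.SegreCone.exists_rank_one_zero ℂ a' b' c hcab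
      (fun l i j => eC.repr (ν.rangeRestrict (eA i ⊗ₜ[ℂ] eB j)) l)
  obtain ⟨a₀, ha₀⟩ : ∃ a₀ : A, a₀ = ∑ i, α i • eA i := ⟨_, rfl⟩
  obtain ⟨b₀, hb₀⟩ : ∃ b₀ : B, b₀ = ∑ j, β j • eB j := ⟨_, rfl⟩
  have ha₀ne : a₀ ≠ 0 := by
    intro h
    apply hα
    funext i
    exact Fintype.linearIndependent_iff.1 eA.linearIndependent α (ha₀ ▸ h) i
  have hb₀ne : b₀ ≠ 0 := by
    intro h
    apply hβ
    funext j
    exact Fintype.linearIndependent_iff.1 eB.linearIndependent β (hb₀ ▸ h) j
  have key : ν.rangeRestrict (a₀ ⊗ₜ[ℂ] b₀) =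
      ∑ i, ∑ j, (α i * β j) • ν.rangeRestrict (eA i ⊗ₜ[ℂ] eB j) := by
    rw [ha₀, hb₀, TensorProduct.sum_tmul, map_sum]
    refine Finset.sum_congr rfl fun i _ => ?_
    rw [TensorProduct.tmul_sum, map_sum]
    refine Finset.sum_congr rfl fun j _ => ?_
    rw [TensorProduct.smul_tmul_smul, map_smul]
  have hz : ν.rangeRestrict (a₀ ⊗ₜ[ℂ] b₀) = 0 := by
    apply eC.repr.injective
    ext l
    rw [key]
    simp only [map_sum, map_smul, map_zero, Finsupp.coe_finsetSum, Finset.sum_apply,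
      Finsupp.smul_apply, Finsupp.coe_zero, Pi.zero_apply, smul_eq_mul]
    refine Eq.trans ?_ (hzero l)
    refine Finset.sum_congr rfl fun i _ => Finset.sum_congr rfl fun j _ => ?_
    ring
  have hν : ν (a₀ ⊗ₜ[ℂ] b₀) = 0 := by
    have := congrArg Subtype.val hz
    simpa using this
  apply hb₀ne
  apply hA a₀ ha₀ne
  simp only [hν, TensorProduct.tmul_zero, map_zero]

end Groth.Agent.S19546
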