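import Groth.Statements.S19547
import Mathlib

set_option autoImplicit false
universe u
open TensorProduct
open Desc

namespace Groth.Agent.S19547

/-- Let A → A' be a faithfully flat homomorphism of commutative rings, M' an A'-module and φ : M' ⊗_A A'
→ A' ⊗_A M' an isomorphism of (A' ⊗_A A')-modules for the diagonal actions (x ⊗ y)(u ⊗ z) = xu ⊗ yz
and (x ⊗ y)(z ⊗ u) = xz ⊗ yu, satisfying the cocycle condition φ_13 = φ_23 ∘ φ_12 between the three
pullbacks to A' ⊗_A A' ⊗_A A'. Here linearity over A' ⊗_A A' is stated on the generators x ⊗ 1 and 1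
⊗ y, and the cocycle condition on pure tensors u ⊗ a ⊗ b: writing φ(u ⊗ a) = Σ a_i ⊗ u_i, it says Σ
a_i ⊗ φ(u_i ⊗ b) = Σ b_j ⊗ a ⊗ u'_j where φ(u ⊗ b) = Σ b_j ⊗ u'_j. Let M = {u ∈ M' : φ(u ⊗ 1) = 1 ⊗
u}, an A-submodule of M'. Then the canonical map λ : A' ⊗_A M → M', x ⊗ u ↦ xu, is an isomorphism. -/
theorem result (A A' : Type u) [CommRing A] [CommRing A']
    [Algebra A A'] [Module.FaithfullyFlat A A'] (M' : Type u) [AddCommGroup M'] [Module A M']
    [Module A' M'] [IsScalarTower A A' M']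
    (φ : M' ⊗[A] A' →ₗ[A] A' ⊗[A] M') (hφ : Function.Bijective φ)
    (h1 : ∀ (x : A') (u : M') (z : A'),
      φ ((x • u) ⊗ₜ[A] z) = LinearMap.rTensor M' (LinearMap.mulLeft A x) (φ (u ⊗ₜ[A] z)))
    (h2 : ∀ (y : A') (u : M') (z : A'),
      φ (u ⊗ₜ[A] (y * z)) = LinearMap.lTensor A' (Algebra.lsmul A A M' y) (φ (u ⊗ₜ[A] z)))
    (hcoc : ∀ (u : M') (a b : A'),
      LinearMap.lTensor A' φ (TensorProduct.assoc A A' M' A' (LinearMap.rTensor A' φ ((u ⊗ₜ[A] a) ⊗ₜ[A] b))) =
        LinearMap.lTensor A' (TensorProduct.mk A A' M' a) (φ (u ⊗ₜ[A] b)))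
    (M : Submodule A M') (hM : ∀ u : M', u ∈ M ↔ φ (u ⊗ₜ[A] (1 : A')) = (1 : A') ⊗ₜ[A] u) :
    Function.Bijective
      ((TensorProduct.lift (Algebra.lsmul A A M').toLinearMap) ∘ₗ (LinearMap.lTensor A' M.subtype)) := by
  classical
  let j : A' ⊗[A] M →ₗ[A] A' ⊗[A] M' := LinearMap.lTensor A' M.subtype
  let mult : A' ⊗[A] M' →ₗ[A] M' := TensorProduct.lift (Algebra.lsmul A A M').toLinearMap
  let α : M' →ₗ[A] A' ⊗[A] M' := TensorProduct.mk A A' M' 1
  let ι : M' →ₗ[A] M' ⊗[A] A' := (TensorProduct.mk A M' A').flip 1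
  let β : M' →ₗ[A] A' ⊗[A] M' := φ ∘ₗ ι
  have hβ_apply : ∀ u, β u = φ (u ⊗ₜ[A] (1 : A')) := fun u => rfl
  have hα_apply : ∀ u, α u = (1 : A') ⊗ₜ[A] u := fun u => rfl
  have hι : Function.Injective ι := by
    have h0 : Function.Injective (TensorProduct.mk A A' M' 1) :=
      Module.FaithfullyFlat.tensorProduct_mk_injective (A := A) (B := A') M'
    intro u v huv
    apply h0
    have := congrArg (TensorProduct.comm A M' A') huv
    simpa [ι] using this
  have hβ : Function.Injective β := hφ.1.comp hι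
  have hex : Function.Exact M.subtype (α - β) := by
    intro u
    constructor
    · intro hu
      have h3 : α u - β u = 0 := hu
      have h4 : u ∈ M := by
        rw [hM, ← hβ_apply, ← hα_apply]
        exact (sub_eq_zero.1 h3).symm
      exact ⟨⟨u, h4⟩, rfl⟩
    · rintro ⟨m, rfl⟩
      have h3 := (hM m.1).1 m.2
      change α m.1 - β m.1 = 0
      rw [sub_eq_zero, hβ_apply, hα_apply]
      exact h3.symm
  have hex' : Function.Exact j (LinearMap.lTensor A' (α - β)) := Module.Flat.lTensor_exact A' hex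
  have hjinj : Function.Injective j :=
    Module.Flat.lTensor_preserves_injective_linearMap M.subtype M.injective_subtype
  have hassoc : ∀ z : A' ⊗[A] M',
      TensorProduct.assoc A A' M' A' (z ⊗ₜ[A] (1 : A')) = LinearMap.lTensor A' ι z := by
    intro z
    induction z using TensorProduct.induction_on with
    | zero => simp
    | tmul b n => simp [ι]
    | add x y hx hy => rw [TensorProduct.add_tmul, map_add, map_add, hx, hy]
  have step2 : ∀ u : M', ∃ w, j w = β u := by
    intro u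
    apply (hex' (β u)).1
    rw [LinearMap.lTensor_sub, LinearMap.sub_apply, sub_eq_zero]
    have hc := hcoc u 1 1
    rw [LinearMap.rTensor_tmul, hassoc, ← LinearMap.lTensor_comp_apply] at hc
    exact hc.symm
  have step3 : ∀ w : A' ⊗[A] M, β (mult (j w)) = j w := by
    intro w
    induction w using TensorProduct.induction_on with
    | zero => simp
    | tmul x m =>
      have hm := (hM m.1).1 m.2
      have e1 : j (x ⊗ₜ[A] m) = x ⊗ₜ[A] (m : M') := rfl
      have e2 : mult (x ⊗ₜ[A] (m : M')) = x • (m : M') := rfl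
      rw [e1, e2, hβ_apply, h1, hm, LinearMap.rTensor_tmul, LinearMap.mulLeft_apply, mul_one]
    | add x y hx hy => rw [map_add, map_add, map_add, hx, hy]
  constructor
  · intro w w' h
    apply hjinj
    rw [← step3 w, ← step3 w']
    exact congrArg β h
  · intro u
    obtain ⟨w, hw⟩ := step2 u
    refine ⟨w, hβ ?_⟩
    change β (mult (j w)) = β u
    rw [step3, hw]

end Groth.Agent.S19547
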