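import Groth.Statements.S19550
import Groth.Agent.H78.SpecConnected
import Mathlib.Tactic

set_option autoImplicit false
set_option maxHeartbeats 400000
universe u
open SchFin SchFin.RSpace

namespace Groth.Agent.S19550

open SchFin in
/-- Let X be a well-connected schematic finite space and f : A → B a morphism of quasi-coherent algebras
between trivial étale covers A ≅ O_X^F and B ≅ O_X^E, F and E finite sets. Then f is induced by a
map of finite sets φ : E → F. Here the trivial algebras are written out: f is a family of
O_p-algebra maps (F → O_p) → (E → O_p), one for each point p, compatible with the restriction maps,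
and the conclusion says f_p(g) = g ∘ φ for every p and g. (The published statement names a map F →
E; a map of algebras of functions O^F → O^E is composition with a map E → F, which is what this row
states.) -/
theorem result (X : RSpace.{u})
    (hX : X.IsSchematic) (hW : X.IsWellConnected) (F E : Type) [Finite F] [Finite E]
    (f : ∀ p : X.pt, (F → X.ring p) →ₐ[X.ring p] (E → X.ring p))
    (hf : ∀ (p q : X.pt) (h : p ≤ q) (g : F → X.ring p) (e : E),
      X.res h (f p g e) = f q (fun i => X.res h (g i)) e) :
    ∃ φ : E → F, ∀ (p : X.pt) (g : F → X.ring p) (e : E), f p g e = g (φ e) := by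
  classical
  have : Fintype F := Fintype.ofFinite F
  obtain ⟨hnt, hidem⟩ := (Groth.Agent.H78.connectedSpace_primeSpectrum_iff _).mp hW.1
  have hsingle : ∀ (p q : X.pt) (h : p ≤ q) (i : F),
      (fun j => X.res h ((Pi.single i 1 : F → X.ring p) j)) = (Pi.single i 1 : F → X.ring q) := by
    intro p q h i
    funext j
    by_cases hj : j = i
    · subst hj; simp
    · simp [Pi.single_apply, hj]
  -- the global sections
  let s : E → F → X.sectRing Set.univ := fun e i =>
    ⟨fun q => f q.1 (Pi.single i 1) e, fun q q' h => by
      show X.res h (f q.1 (Pi.single i 1) e) = f q'.1 (Pi.single i 1) e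
      rw [hf q.1 q'.1 h, hsingle]⟩
  have hs_idem : ∀ e i, IsIdempotentElem (s e i) := by
    intro e i
    apply Subtype.ext
    funext q
    show f q.1 (Pi.single i 1) e * f q.1 (Pi.single i 1) e = f q.1 (Pi.single i 1) e
    have h1 : (Pi.single i 1 : F → X.ring q.1) * Pi.single i 1 = Pi.single i 1 := by
      funext j
      by_cases hj : j = i
      · subst hj; simp
      · simp [Pi.single_apply, hj]
    have h2 := congrFun (map_mul (f q.1) (Pi.single i 1) (Pi.single i 1)) e
    rw [h1] at h2
    exact h2.symm
  have hs_sum : ∀ e, ∑ i, s e i = 1 := by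
    intro e
    apply Subtype.ext
    funext q
    have h0 : ((∑ i, s e i : X.sectRing Set.univ) : (q : ↥(Set.univ : Set X.pt)) → X.ring q.1) q
        = ∑ i, f q.1 (Pi.single i 1) e := by
      exact map_sum (X.evalRing Set.univ q) (fun i => s e i) Finset.univ
    rw [h0]
    have h1 : (∑ i, (Pi.single i 1 : F → X.ring q.1)) = 1 := by
      have := Finset.univ_sum_single (fun _ : F => (1 : X.ring q.1))
      exact this
    have h2 := congrFun (map_sum (f q.1) (fun i => (Pi.single i 1 : F → X.ring q.1)) Finset.univ) e
    rw [h1, map_one, Finset.sum_apply] at h2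
    rw [← h2]; rfl
  have hex : ∀ e, ∃ i, s e i = 1 := by
    intro e
    by_contra hne
    push Not at hne
    have h0 : ∀ i, s e i = 0 := fun i => (hidem _ (hs_idem e i)).resolve_right (hne i)
    have := hs_sum e
    rw [Finset.sum_eq_zero (fun i _ => h0 i)] at this
    exact zero_ne_one this
  choose φ hφ using hex
  refine ⟨φ, fun p g e => ?_⟩
  have h1 : f p (Pi.single (φ e) 1) e = 1 := by
    have := congrArg (fun t : X.sectRing Set.univ => t.1 ⟨p, trivial⟩) (hφ e)
    exact this
  have h2 : g * (Pi.single (φ e) 1 : F → X.ring p) = g (φ e) • (Pi.single (φ e) 1 : F → X.ring p) := by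
    funext j
    by_cases hj : j = φ e
    · rw [hj]; simp
    · simp [Pi.single_apply, hj]
  have h3 := congrFun (map_mul (f p) g (Pi.single (φ e) 1)) e
  rw [h2, map_smul] at h3
  simp only [Pi.smul_apply, Pi.mul_apply, smul_eq_mul, h1, mul_one] at h3
  exact h3.symm

end Groth.Agent.S19550
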