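import Groth.Statements.S19551
import Mathlib

set_option autoImplicit false
universe u v w

namespace Groth.Agent.S19551

open Module

section aux
variable {K : Type u} [Field K]

/-- rank–nullity for the restriction to a subspace -/
lemma finrank_map_add {V : Type v} {W : Type w} [AddCommGroup V] [Module K V]
    [FiniteDimensional K V] [AddCommGroup W] [Module K W] (F : V →ₗ[K] W) (T : Submodule K V) :
    finrank K ↥(T.map F) + finrank K ↥(LinearMap.ker F ⊓ T) = finrank K T := by
  have h := LinearMap.finrank_range_add_finrank_ker (F.domRestrict T)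
  rw [LinearMap.range_domRestrict, LinearMap.ker_domRestrict] at h
  have h2 : finrank K ↥(Submodule.comap T.subtype (LinearMap.ker F)) =
      finrank K ↥(LinearMap.ker F ⊓ T) := by
    rw [← Submodule.finrank_map_subtype_eq T (Submodule.comap T.subtype (LinearMap.ker F)),
      Submodule.map_comap_subtype, inf_comm]
  rw [h2] at h
  exact h

lemma case_inj {V : Type v} {W : Type w} [AddCommGroup V] [Module K V] [FiniteDimensional K V]
    [AddCommGroup W] [Module K W] [FiniteDimensional K W] (f0 f1 : V →ₗ[K] W)
    (hdim : finrank K V = finrank K W) (h0 : Function.Injective f0) :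
    ∃ S : Set K, S.Finite ∧ ∀ t, t ∉ S → Function.Bijective (f0 + t • f1) := by
  have hb : Function.Bijective f0 :=
    ⟨h0, (LinearMap.injective_iff_surjective_of_finrank_eq_finrank hdim).1 h0⟩
  let e := LinearEquiv.ofBijective f0 hb
  let N : Module.End K V := e.symm.toLinearMap ∘ₗ f1
  have hfin : {μ | N.HasEigenvalue μ}.Finite := Module.End.finite_hasEigenvalue N
  refine ⟨insert 0 ((fun μ => -μ⁻¹) '' {μ | N.HasEigenvalue μ}), (hfin.image _).insert 0, ?_⟩
  intro t ht
  have ht0 : t ≠ 0 := fun h => ht (h ▸ Set.mem_insert _ _)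
  have hne : ¬ N.HasEigenvalue (-t⁻¹) := fun h =>
    ht (Set.mem_insert_of_mem _ ⟨-t⁻¹, h, by simp⟩)
  have hinj : Function.Injective (f0 + t • f1) := by
    rw [← LinearMap.ker_eq_bot, LinearMap.ker_eq_bot']
    intro v hv
    by_contra hv0
    apply hne
    apply Module.End.hasEigenvalue_of_hasEigenvector (x := v)
    refine ⟨Module.End.mem_eigenspace_iff.2 ?_, hv0⟩
    have hv' : f0 v + t • f1 v = 0 := by simpa using hv
    have h1 : e.symm (f0 v + t • f1 v) = 0 := by rw [hv', map_zero]
    have h2 : e.symm (f0 v) = v := by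
      have : f0 v = e v := rfl
      rw [this, LinearEquiv.symm_apply_apply]
    rw [map_add, map_smul, h2] at h1
    -- h1 : v + t • e.symm (f1 v) = 0
    have h3 : N v = e.symm (f1 v) := rfl
    rw [h3]
    have h4 : t • e.symm (f1 v) = -v := by
      rw [eq_neg_iff_add_eq_zero, add_comm]; exact h1
    calc e.symm (f1 v) = t⁻¹ • (t • e.symm (f1 v)) := by
          rw [smul_smul, inv_mul_cancel₀ ht0, one_smul]
      _ = (-t⁻¹) • v := by rw [h4, smul_neg, neg_smul]
  exact ⟨hinj, (LinearMap.injective_iff_surjective_of_finrank_eq_finrank hdim).1 hinj⟩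

theorem key (k : ℕ) : ∀ (V : Type v) (W : Type w) [AddCommGroup V] [Module K V]
    [FiniteDimensional K V] [AddCommGroup W] [Module K W] [FiniteDimensional K W]
    (f0 f1 : V →ₗ[K] W), finrank K V = k → finrank K W = k →
    (∀ V' : Submodule K V, finrank K V' ≤ finrank K ↥(V'.map f0 ⊔ V'.map f1)) →
    ∃ S : Set K, S.Finite ∧ ∀ t, t ∉ S → Function.Bijective (f0 + t • f1) := by
  induction k with
  | zero =>
    intro V W _ _ _ _ _ _ f0 f1 hV hW _
    have : Subsingleton V := Module.finrank_zero_iff.1 hV
    exact case_inj f0 f1 (hV.trans hW.symm) (Function.injective_of_subsingleton _)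
  | succ k ih =>
    intro V W _ _ _ _ _ _ f0 f1 hV hW hSS
    by_cases h0 : Function.Injective f0
    · exact case_inj f0 f1 (hV.trans hW.symm) h0
    · -- a kernel vector
      have : ∃ x, f0 x = 0 ∧ x ≠ 0 := by
        by_contra hcon
        push Not at hcon
        exact h0 ((injective_iff_map_eq_zero f0).2 hcon)
      obtain ⟨x, hx0, hx⟩ := this
      set y := f1 x with hy_def
      have hmap0 : (K ∙ x).map f0 = ⊥ := by
        rw [Submodule.map_span, Set.image_singleton, hx0, Submodule.span_zero_singleton]
      have hmap1 : (K ∙ x).map f1 = K ∙ y := by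
        rw [Submodule.map_span, Set.image_singleton]
      have hy : y ≠ 0 := by
        intro hy0
        have h := hSS (K ∙ x)
        rw [hmap0, hmap1, bot_sup_eq, hy0, Submodule.span_zero_singleton, finrank_bot,
          finrank_span_singleton hx] at h
        omega
      -- quotients
      have hA1 : finrank K ↥(K ∙ x) = 1 := finrank_span_singleton hx
      have hB1 : finrank K ↥(K ∙ y) = 1 := finrank_span_singleton hy
      have hV'' : finrank K (V ⧸ (K ∙ x)) = k := by
        have := Submodule.finrank_quotient_add_finrank (K ∙ x)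
        omega
      have hW'' : finrank K (W ⧸ (K ∙ y)) = k := by
        have := Submodule.finrank_quotient_add_finrank (K ∙ y)
        omega
      have h0' : (K ∙ x) ≤ (K ∙ y).comap f0 := by
        rw [Submodule.span_le, Set.singleton_subset_iff]
        show f0 x ∈ K ∙ y
        rw [hx0]; exact Submodule.zero_mem _
      have h1' : (K ∙ x) ≤ (K ∙ y).comap f1 := by
        rw [Submodule.span_le, Set.singleton_subset_iff]
        show f1 x ∈ K ∙ y
        exact Submodule.mem_span_singleton_self _
      let g0 := (K ∙ x).mapQ (K ∙ y) f0 h0'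
      let g1 := (K ∙ x).mapQ (K ∙ y) f1 h1'
      have hSS'' : ∀ U'' : Submodule K (V ⧸ (K ∙ x)),
          finrank K U'' ≤ finrank K ↥(U''.map g0 ⊔ U''.map g1) := by
        intro U''
        set U := U''.comap (K ∙ x).mkQ with hU
        have hAU : (K ∙ x) ≤ U := Submodule.le_comap_mkQ _ _
        have hmapU : U.map (K ∙ x).mkQ = U'' :=
          Submodule.map_comap_eq_of_surjective (Submodule.mkQ_surjective _) _
        have hdimU : finrank K U'' + 1 = finrank K U := by
          have := finrank_map_add (K ∙ x).mkQ U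
          rw [hmapU, Submodule.ker_mkQ, inf_eq_left.2 hAU, hA1] at this
          exact this
        set T := U.map f0 ⊔ U.map f1 with hT
        have hBT : (K ∙ y) ≤ T := by
          rw [Submodule.span_le, Set.singleton_subset_iff]
          exact Submodule.mem_sup_right
            (Submodule.mem_map_of_mem (hAU (Submodule.mem_span_singleton_self x)))
        have hmapT : T.map (K ∙ y).mkQ = U''.map g0 ⊔ U''.map g1 := by
          rw [hT, Submodule.map_sup, ← Submodule.map_comp, ← Submodule.map_comp, ← hmapU,
            ← Submodule.map_comp, ← Submodule.map_comp]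
          have e0 : (K ∙ y).mkQ ∘ₗ f0 = g0 ∘ₗ (K ∙ x).mkQ := (Submodule.mapQ_mkQ _ _ f0).symm
          have e1 : (K ∙ y).mkQ ∘ₗ f1 = g1 ∘ₗ (K ∙ x).mkQ := (Submodule.mapQ_mkQ _ _ f1).symm
          rw [e0, e1]
        have hdimT : finrank K ↥(U''.map g0 ⊔ U''.map g1) + 1 = finrank K T := by
          have := finrank_map_add (K ∙ y).mkQ T
          rw [hmapT, Submodule.ker_mkQ, inf_eq_left.2 hBT, hB1] at this
          exact this
        have h5 : finrank K U ≤ finrank K T := hSS U
        omega
      obtain ⟨S'', hS''fin, hS''⟩ := ih (V ⧸ (K ∙ x)) (W ⧸ (K ∙ y)) g0 g1 hV'' hW'' hSS''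
      refine ⟨insert 0 S'', hS''fin.insert 0, ?_⟩
      intro t ht
      have ht0 : t ≠ 0 := fun h => ht (h ▸ Set.mem_insert _ _)
      have htS : t ∉ S'' := fun h => ht (Set.mem_insert_of_mem _ h)
      have hbij := hS'' t htS
      have hinj : Function.Injective (f0 + t • f1) := by
        rw [← LinearMap.ker_eq_bot, LinearMap.ker_eq_bot']
        intro v hv
        have hq : (g0 + t • g1) ((K ∙ x).mkQ v) = (K ∙ y).mkQ ((f0 + t • f1) v) := by
          simp [g0, g1]
        rw [hv, map_zero] at hq
        have hv2 : (K ∙ x).mkQ v = 0 := hbij.1 (by rw [hq, map_zero])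
        rw [Submodule.mkQ_apply, Submodule.Quotient.mk_eq_zero] at hv2
        obtain ⟨c, rfl⟩ := Submodule.mem_span_singleton.1 hv2
        have hv' : c • (t • y) = 0 := by
          have : (f0 + t • f1) (c • x) = c • (t • y) := by
            simp [hx0, hy_def]
          rw [← this]; exact hv
        rcases smul_eq_zero.1 hv' with hc | hty
        · rw [hc, zero_smul]
        · exfalso
          rcases smul_eq_zero.1 hty with h | h
          · exact ht0 h
          · exact hy h
      exact ⟨hinj, (LinearMap.injective_iff_surjective_of_finrank_eq_finrank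
        (hV.trans hW.symm)).1 hinj⟩

end aux

theorem result (K : Type u) [Field K] [IsAlgClosed K]
    (V : Type v) (W : Type w)
    [AddCommGroup V] [Module K V] [FiniteDimensional K V]
    [AddCommGroup W] [Module K W] [FiniteDimensional K W]
    (f : Fin 2 → (V →ₗ[K] W)) (k : ℕ)
    (hV : Module.finrank K V = k) (hW : Module.finrank K W = k)
    (hf : KronMod.IsSemistable f) :
    ∃ z : Fin 2 → K, Function.Bijective ((∑ j, z j • f j : V →ₗ[K] W) : V → W) := by
  obtain ⟨hpos, hss⟩ := hf
  have hk : 0 < k := by omega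
  have hSS : ∀ V' : Submodule K V,
      finrank K V' ≤ finrank K ↥(V'.map (f 0) ⊔ V'.map (f 1)) := by
    intro V'
    by_cases hbot : V' = ⊥
    · rw [hbot, finrank_bot]; exact Nat.zero_le _
    by_cases htop : V' = ⊤ ∧ V'.map (f 0) ⊔ V'.map (f 1) = ⊤
    · rw [htop.2, htop.1, finrank_top, finrank_top, hV, hW]
    have hsub : KronMod.IsSubrep f V' (V'.map (f 0) ⊔ V'.map (f 1)) := by
      intro j
      fin_cases j
      · exact le_sup_left
      · exact le_sup_right
    have := hss V' _ hsub (fun h => hbot h.1) htop
    rw [hV, hW] at this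
    exact Nat.le_of_mul_le_mul_left this hk
  obtain ⟨S, hSfin, hS⟩ := key k V W (f 0) (f 1) hV hW hSS
  obtain ⟨t, ht⟩ := hSfin.exists_notMem
  refine ⟨![1, t], ?_⟩
  have : (∑ j, (![1, t] : Fin 2 → K) j • f j : V →ₗ[K] W) = f 0 + t • f 1 := by
    simp [Fin.sum_univ_two]
  rw [this]
  exact hS t ht

end Groth.Agent.S19551
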