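import Groth.Statements.S19552
import Mathlib
import Groth.Agent.H13.EE

set_option autoImplicit false
universe u
open CAlg

namespace Groth.Agent.S19552

theorem stab {R : Type u} [CommRing R] (P Q : Type u) [AddCommGroup P] [Module R P]
    [AddCommGroup Q] [Module R Q] (m : ℕ)
    (e : (P × (Fin m → R)) ≃ₗ[R] (Q × (Fin m → R))) :
    ∀ N : ℕ, Nonempty (((Fin N → P) × (Fin m → R)) ≃ₗ[R] ((Fin N → Q) × (Fin m → R))) := by
  intro N
  induction N with
  | zero =>
    exact ⟨(LinearEquiv.uniqueProd (R := R) (M := Fin m → R) (M₂ := Fin 0 → P)) ≪≫ₗ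
      (LinearEquiv.uniqueProd (R := R) (M := Fin m → R) (M₂ := Fin 0 → Q)).symm⟩
  | succ N ih =>
    obtain ⟨g⟩ := ih
    let cP : (P × (Fin N → P)) ≃ₗ[R] (Fin (N + 1) → P) :=
      Fin.consLinearEquiv R (fun _ : Fin (N + 1) => P)
    let cQ : (Q × (Fin N → Q)) ≃ₗ[R] (Fin (N + 1) → Q) :=
      Fin.consLinearEquiv R (fun _ : Fin (N + 1) => Q)
    -- (P × P^N) × F ≃ P^N × (P × F) ≃ P^N × (Q × F) ≃ Q × (P^N × F) ≃ Q × (Q^N × F) ≃ (Q × Q^N) × F
    let s1 : ((P × (Fin N → P)) × (Fin m → R)) ≃ₗ[R] ((Fin N → P) × (P × (Fin m → R))) :=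
      (LinearEquiv.prodCongr (LinearEquiv.prodComm R P (Fin N → P)) (LinearEquiv.refl R _)) ≪≫ₗ
        (LinearEquiv.prodAssoc R (Fin N → P) P (Fin m → R))
    let s2 : ((Fin N → P) × (Q × (Fin m → R))) ≃ₗ[R] (Q × ((Fin N → P) × (Fin m → R))) :=
      (LinearEquiv.prodAssoc R (Fin N → P) Q (Fin m → R)).symm ≪≫ₗ
        (LinearEquiv.prodCongr (LinearEquiv.prodComm R (Fin N → P) Q) (LinearEquiv.refl R _)) ≪≫ₗ
        (LinearEquiv.prodAssoc R Q (Fin N → P) (Fin m → R))
    exact ⟨(LinearEquiv.prodCongr cP.symm (LinearEquiv.refl R (Fin m → R))) ≪≫ₗ s1 ≪≫ₗ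
      (LinearEquiv.prodCongr (LinearEquiv.refl R (Fin N → P)) e) ≪≫ₗ s2 ≪≫ₗ
      (LinearEquiv.prodCongr (LinearEquiv.refl R Q) g) ≪≫ₗ
      (LinearEquiv.prodAssoc R Q (Fin N → Q) (Fin m → R)).symm ≪≫ₗ
      (LinearEquiv.prodCongr cQ (LinearEquiv.refl R (Fin m → R)))⟩


/-- Let R be a Noetherian ring of Krull dimension d and P, Q finitely generated projective R-modules of
constant rank at every prime which have the same class in the Grothendieck group, i.e. are stably
isomorphic: P ⊕ R^m ≅ Q ⊕ R^m for some m. Then there is a positive integer N with P^N ≅ Q^N. (The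
two exponents in the published display are read as the same integer N; for modules of positive rank
an isomorphism between direct powers forces equal exponents.) -/
theorem result (R : Type u) [CommRing R] [IsNoetherianRing R]
    (d n : ℕ) (hdim : ringKrullDim R = d)
    (P Q : Type u) [AddCommGroup P] [Module R P] [Module.Finite R P] [Module.Projective R P]
    [AddCommGroup Q] [Module R Q] [Module.Finite R Q] [Module.Projective R Q]
    (hrk : ∀ p : PrimeSpectrum R, Module.rankAtStalk (R := R) P p = n)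
    (hrk' : ∀ p : PrimeSpectrum R, Module.rankAtStalk (R := R) Q p = n)
    (m : ℕ) (e : (P × (Fin m → R)) ≃ₗ[R] (Q × (Fin m → R))) :
    ∃ N : ℕ, 1 ≤ N ∧ Nonempty ((Fin N → P) ≃ₗ[R] (Fin N → Q)) := by
  haveI := Groth.Agent.H13.EE.nontrivial_of_ringKrullDim_eq d hdim
  by_cases hn : n = 0
  · subst hn
    haveI : Subsingleton P := Module.rankAtStalk_eq_zero_iff_subsingleton.mp (funext hrk)
    haveI : Subsingleton Q := Module.rankAtStalk_eq_zero_iff_subsingleton.mp (funext hrk')
    refine ⟨1, le_refl 1, ⟨?_⟩⟩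
    exact LinearEquiv.ofLinear 0 0 (Subsingleton.elim _ _) (Subsingleton.elim _ _)
  · refine ⟨d + 1, by omega, ?_⟩
    have hstab := stab P Q m e (d + 1)
    haveI : Module.Projective R (Fin (d + 1) → P) :=
      Module.Projective.of_equiv
        (DFinsupp.linearEquivFunOnFintype (R := R) (ι := Fin (d + 1)) (M := fun _ => P))
    refine Groth.Agent.H13.EE.cancel d hdim (P := Fin (d + 1) → P) (fun p => ?_) m hstab
    rw [Module.rankAtStalk_pi, finsum_eq_sum_of_fintype]
    simp only [hrk p, Finset.sum_const, Finset.card_univ, Fintype.card_fin, smul_eq_mul]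
    have : 1 ≤ n := Nat.one_le_iff_ne_zero.mpr hn
    nlinarith


end Groth.Agent.S19552
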