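import Groth.Statements.S19556
import Mathlib

set_option autoImplicit false
universe u
open CategoryTheory AlgebraicGeometry
open Mor

namespace Groth.Agent.S19556

/-- Let S be a scheme, p : X → S and q : Y → S schemes over S, and π : X → Y a finite surjective
morphism over S (π ≫ q = p). If X is separated over S then Y is separated over S. (The published
statement is about the quotient map X → X/G of a scheme by an action of a finite group scheme,
assumed to exist and then finite and surjective; this row keeps of it only a finite surjective
S-morphism π, which is all the argument uses.) -/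
theorem result {S X Y : Scheme.{u}} (p : X ⟶ S) (q : Y ⟶ S)
    (π : X ⟶ Y) (hπ : π ≫ q = p) [IsFinite π] [Surjective π] [IsSeparated p] :
    IsSeparated q := by
  have e : p = π ≫ q := hπ.symm
  set Pm := Limits.pullback.map p p q q π π (𝟙 S) ((Category.comp_id _).trans e)
    ((Category.comp_id _).trans e) with hPmdef
  have hPm : IsFinite Pm :=
    MorphismProperty.pullbackMap (P := @IsFinite) ‹IsFinite π› ‹IsFinite π› e e
  have hcomm : Limits.pullback.diagonal p ≫ Pm = π ≫ Limits.pullback.diagonal q := by
    apply Limits.pullback.hom_ext
    · simp only [Pm, Limits.pullback.map, Category.assoc]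
      rw [Limits.pullback.lift_fst, ← Category.assoc, Limits.pullback.diagonal_fst,
        Category.id_comp, Limits.pullback.diagonal_fst, Category.comp_id]
    · simp only [Pm, Limits.pullback.map, Category.assoc]
      rw [Limits.pullback.lift_snd, ← Category.assoc, Limits.pullback.diagonal_snd,
        Category.id_comp, Limits.pullback.diagonal_snd, Category.comp_id]
  have hrange : Set.range (Limits.pullback.diagonal q) =
      Pm '' Set.range (Limits.pullback.diagonal p) := by
    ext z
    constructor
    · rintro ⟨y, rfl⟩
      obtain ⟨x, rfl⟩ := π.surjective y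
      refine ⟨Limits.pullback.diagonal p x, ⟨x, rfl⟩, ?_⟩
      rw [← Scheme.Hom.comp_apply, hcomm, Scheme.Hom.comp_apply]
    · rintro ⟨_, ⟨x, rfl⟩, rfl⟩
      refine ⟨π x, ?_⟩
      rw [← Scheme.Hom.comp_apply, ← hcomm, Scheme.Hom.comp_apply]
  have hclosed : IsClosed (Set.range (Limits.pullback.diagonal q)) := by
    rw [hrange]
    exact Pm.isClosedMap _ (Limits.pullback.diagonal p).isClosedEmbedding.isClosed_range
  exact ⟨IsClosedImmersion.of_isPreimmersion _ hclosed⟩

end Groth.Agent.S19556
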