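import Groth.Statements.S19562
import Mathlib

set_option autoImplicit false
universe u
open W4c1limliniiii

namespace Groth.Agent.S19562

section aux
variable {k : Type u} [Field k] {M : Type u} [AddCommGroup M] [Module k M] [Module.Finite k M]

/-- rank-nullity for the restriction of `F` to a subspace `V`. -/
lemma finrank_map_add_finrank_ker_inf (F : M →ₗ[k] M) (V : Submodule k M) :
    Module.finrank k ↥(Submodule.map F V) + Module.finrank k ↥(LinearMap.ker F ⊓ V) =
      Module.finrank k V := by
  have h := LinearMap.finrank_range_add_finrank_ker (F.domRestrict V)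
  rw [LinearMap.range_domRestrict, LinearMap.ker_domRestrict] at h
  have h2 : Module.finrank k ↥(Submodule.comap V.subtype (LinearMap.ker F)) =
      Module.finrank k ↥(LinearMap.ker F ⊓ V) := by
    rw [← Submodule.finrank_map_subtype_eq V (Submodule.comap V.subtype (LinearMap.ker F)),
      Submodule.map_comap_subtype, inf_comm]
  rw [h2] at h
  exact h

lemma exact_iff (F G : M →ₗ[k] M) (hGF : G.comp F = 0) (hFG : F.comp G = 0)
    (V1 V2 : Submodule k M) (r : ℕ) (h1 : Module.finrank k V1 = r) (h2 : Module.finrank k V2 = r)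
    (hF : Submodule.map F V1 ≤ V2) (hG : Submodule.map G V2 ≤ V1) :
    (LinearMap.ker G ⊓ V2 ≤ Submodule.map F V1 ∧ LinearMap.ker F ⊓ V1 ≤ Submodule.map G V2) ↔
      Module.finrank k ↥(Submodule.map F V1) + Module.finrank k ↥(Submodule.map G V2) = r := by
  have e1 := finrank_map_add_finrank_ker_inf F V1
  have e2 := finrank_map_add_finrank_ker_inf G V2
  have l1 : Submodule.map F V1 ≤ LinearMap.ker G ⊓ V2 := by
    refine le_inf ?_ hF
    rintro _ ⟨x, _, rfl⟩
    rw [LinearMap.mem_ker]
    exact LinearMap.congr_fun hGF x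
  have l2 : Submodule.map G V2 ≤ LinearMap.ker F ⊓ V1 := by
    refine le_inf ?_ hG
    rintro _ ⟨x, _, rfl⟩
    rw [LinearMap.mem_ker]
    exact LinearMap.congr_fun hFG x
  constructor
  · rintro ⟨a, b⟩
    have : Submodule.map F V1 = LinearMap.ker G ⊓ V2 := le_antisymm l1 a
    rw [this]
    omega
  · intro h
    have q1 : Module.finrank k ↥(Submodule.map F V1) = Module.finrank k ↥(LinearMap.ker G ⊓ V2) := by
      omega
    have q2 : Module.finrank k ↥(Submodule.map G V2) = Module.finrank k ↥(LinearMap.ker F ⊓ V1) := by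
      omega
    exact ⟨(Submodule.eq_of_le_of_finrank_eq l1 q1).ge, (Submodule.eq_of_le_of_finrank_eq l2 q2).ge⟩

end aux

open TensorProduct in
lemma finrank_grass (k : Type u) [Field k] (d r : ℕ) (hrd : r < d)
    (W : Module.Grassmannian k (k ⊗[k] (Fin d → k)) (d - r)) :
    Module.finrank k W.toSubmodule = r := by
  have h := W.rankAtStalk_eq ⊥
  rw [Module.rankAtStalk_eq_finrank_of_free] at h
  simp only [Pi.natCast_apply, Nat.cast_id] at h
  have h2 := Submodule.finrank_quotient_add_finrank W.toSubmodule
  have h3 : Module.finrank k (k ⊗[k] (Fin d → k)) = d := by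
    rw [LinearEquiv.finrank_eq (TensorProduct.lid k (Fin d → k))]
    simp
  omega

open TensorProduct in
theorem result (k : Type u) [Field k]
    (d r n : ℕ) (hr : 0 < r) (hrd : r < d) (f g : Fin n → ((Fin d → k) →ₗ[k] (Fin d → k)))
    (hI : ∀ i, (f i).comp (g i) = 0 ∧ (g i).comp (f i) = 0)
    (hII : ∀ i, d ≤ Module.finrank k (LinearMap.range (f i)) + Module.finrank k (LinearMap.range (g i)))
    (hIII : ∀ i j : Fin n, i.val + 1 = j.val →
      LinearMap.range (f i) ⊓ LinearMap.ker (f j) = ⊥ ∧
        LinearMap.range (g j) ⊓ LinearMap.ker (g i) = ⊥)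
    (V : Fin (n + 1) → Module.Grassmannian k (k ⊗[k] (Fin d → k)) (d - r))
    (hV : V ∈ W4c1limliniiii.LGPoints k d r n f g k) :
    W4c1limliniiii.IsExact k d r n f g k V ↔
      ∀ i : Fin n,
        Module.finrank k ↥(Submodule.map ((f i).baseChange k) (V i.castSucc).toSubmodule) +
          Module.finrank k ↥(Submodule.map ((g i).baseChange k) (V i.succ).toSubmodule) = r := by
  unfold W4c1limliniiii.IsExact
  refine forall_congr' fun i => ?_
  have hGF : ((g i).baseChange k).comp ((f i).baseChange k) = 0 := by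
    rw [← LinearMap.baseChange_comp, (hI i).2, LinearMap.baseChange_zero]
  have hFG : ((f i).baseChange k).comp ((g i).baseChange k) = 0 := by
    rw [← LinearMap.baseChange_comp, (hI i).1, LinearMap.baseChange_zero]
  exact exact_iff _ _ hGF hFG _ _ r (finrank_grass k d r hrd _) (finrank_grass k d r hrd _)
    (hV i).1 (hV i).2

end Groth.Agent.S19562
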