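import Groth.Statements.S19565
import Mathlib.LinearAlgebra.RootSystem.CartanMatrix
import Mathlib.LinearAlgebra.RootSystem.Finite.Lemmas
import Mathlib.LinearAlgebra.RootSystem.Base
import Mathlib.LinearAlgebra.Finsupp.LinearCombination
import Mathlib.Tactic

set_option autoImplicit false
universe u v w
open RootComb

namespace Groth.Agent.S19565


theorem pairingIn_of_sum {ι : Type u} {k : Type v} [Field k] [CharZero k]
    {M : Type w} [AddCommGroup M] [Module k M] {N : Type w} [AddCommGroup N] [Module k N]
    (P : RootPairing ι k M N) [P.IsCrystallographic]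
    (S : Finset ι) (c : ι → ℕ) (m l : ι)
    (hm : P.root m = ∑ i ∈ S, c i • P.root i) :
    P.pairingIn ℤ m l = ∑ i ∈ S, (c i : ℤ) * P.pairingIn ℤ i l := by
  have h1 : ∀ i, ((P.pairingIn ℤ i l : ℤ) : k) = P.pairing i l := fun i => by
    have := P.algebraMap_pairingIn ℤ i l
    simpa [algebraMap_int_eq] using this
  have hk : ((P.pairingIn ℤ m l : ℤ) : k) =
      ((∑ i ∈ S, (c i : ℤ) * P.pairingIn ℤ i l : ℤ) : k) := by
    rw [Int.cast_sum]
    simp only [Int.cast_mul, Int.cast_natCast, h1]
    rw [← P.root_coroot_eq_pairing m l, hm, map_sum, LinearMap.sum_apply]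
    refine Finset.sum_congr rfl fun i _ => ?_
    rw [← Nat.cast_smul_eq_nsmul k, map_smul, LinearMap.smul_apply, smul_eq_mul,
      P.root_coroot_eq_pairing]
  exact Int.cast_injective hk

theorem sum_neg_of {ι : Type*} (S : Finset ι) (f : ι → ℤ) (hle : ∀ i ∈ S, f i ≤ 0) (i₀ : ι)
    (hi₀ : i₀ ∈ S) (hlt : f i₀ < 0) : ∑ i ∈ S, f i < 0 := by
  have := Finset.sum_lt_sum (g := fun _ => (0 : ℤ)) hle ⟨i₀, hi₀, hlt⟩
  simpa using this

theorem notMem_span_of_pos {ι : Type u} {k : Type v} [Field k] [CharZero k]
    {M : Type w} [AddCommGroup M] [Module k M] {N : Type w} [AddCommGroup N] [Module k N]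
    [DecidableEq ι]
    (P : RootPairing ι k M N) (b : P.Base) (I B : Finset ι) (hsub : I ∪ B ⊆ b.support)
    (hIB : Disjoint I B) (c : ι → ℕ) (x : M) (hx : x = ∑ i ∈ I ∪ B, c i • P.root i)
    (i₀ : ι) (hi₀ : i₀ ∈ B) (hc : 0 < c i₀) : x ∉ Submodule.span k (P.root '' ↑I) := by
  classical
  intro hmem
  have hli : LinearIndepOn k P.root (↑(I ∪ B) : Set ι) :=
    b.linearIndepOn_root.mono (Finset.coe_subset.mpr hsub)
  obtain ⟨d, hd⟩ := (Submodule.mem_span_image_finset_iff_exists_fun' k).mp hmem
  have h1 : ∑ i ∈ I ∪ B, (c i : k) • P.root i =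
      ∑ i ∈ I ∪ B, (if i ∈ I then d i else 0) • P.root i := by
    have h2 : ∑ i ∈ I ∪ B, (if i ∈ I then d i else 0) • P.root i = ∑ i ∈ I, d i • P.root i := by
      rw [← Finset.sum_subset (Finset.subset_union_left (s₁ := I) (s₂ := B))
        (f := fun i => (if i ∈ I then d i else 0) • P.root i)
        (fun i _ hi => by simp [hi])]
      exact Finset.sum_congr rfl fun i hi => by simp [hi]
    rw [h2, hd, hx]
    exact Finset.sum_congr rfl fun i _ => Nat.cast_smul_eq_nsmul k (c i) (P.root i)
  have h3 := (linearIndepOn_finset_iffₛ.mp hli) _ _ h1 i₀ (Finset.mem_union_right _ hi₀)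
  have hi₀I : i₀ ∉ I := fun h => (Finset.disjoint_left.mp hIB h) hi₀
  rw [if_neg hi₀I] at h3
  have h4 : c i₀ = 0 := by exact_mod_cast h3
  omega

/-- The predicate propagated along the Dynkin diagram. -/
def Pred {ι : Type u} {k : Type v} [Field k]
    {M : Type w} [AddCommGroup M] [Module k M] {N : Type w} [AddCommGroup N] [Module k N]
    (P : RootPairing ι k M N) (I B : Finset ι) [DecidableEq ι] (x : ι) : Prop :=
  x ∈ I ∪ B ∧ ∃ (m : ι) (c : ι → ℕ),
    P.root m = ∑ i ∈ I ∪ B, c i • P.root i ∧ 0 < c x ∧ ∃ i ∈ B, 0 < c i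

/-- Let Φ be a finite reduced crystallographic irreducible root system over a field of characteristic
zero, Δ a base of simple roots, I ⊆ Δ, and suppose the simple roots outside I are split into two
disjoint non-empty sets A and B. Then there are a simple root β ∈ A and a root δ such that δ is a
non-negative integer combination of the simple roots of I ∪ B (a positive root whose support avoids
A), δ is not in the linear span of I (so δ is not a root of the Levi subsystem of I), and ⟨δ, β^∨⟩ <
0. (The published statement is made for the root system of a semisimple group; for a reducible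
system such as A₁ × A₁ with I empty and A, B the two simple roots there is no such δ, and the
argument measures distances in a connected Dynkin diagram, so the root system is taken irreducible
here.) -/
theorem result
    {ι : Type u} [Finite ι] [DecidableEq ι] {k : Type v} [Field k] [CharZero k]
    {M : Type w} [AddCommGroup M] [Module k M] {N : Type w} [AddCommGroup N] [Module k N]
    (P : RootPairing ι k M N) [P.IsCrystallographic] [P.IsReduced] [P.IsIrreducible] (b : P.Base)
    (I A B : Finset ι) (hcover : I ∪ A ∪ B = b.support) (hIA : Disjoint I A) (hIB : Disjoint I B)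
    (hAB : Disjoint A B) (hA : A.Nonempty) (hB : B.Nonempty) :
    ∃ l ∈ A, ∃ j : ι, P.root j ∈ AddSubmonoid.closure (P.root '' ↑(I ∪ B)) ∧
      P.root j ∉ Submodule.span k (P.root '' ↑I) ∧ P.pairingIn ℤ j l < 0 := by
  classical
  by_contra H
  have H' : ∀ l ∈ A, ∀ j : ι, P.root j ∈ AddSubmonoid.closure (P.root '' ↑(I ∪ B)) →
      P.root j ∉ Submodule.span k (P.root '' ↑I) → 0 ≤ P.pairingIn ℤ j l := by
    intro l hl j h1 h2
    by_contra h3
    exact H ⟨l, hl, j, h1, h2, not_le.mp h3⟩
  have hSsub : I ∪ B ⊆ b.support := by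
    rw [← hcover]
    intro x hx
    rcases Finset.mem_union.mp hx with h | h
    · exact Finset.mem_union_left _ (Finset.mem_union_left _ h)
    · exact Finset.mem_union_right _ h
  have hAsub : A ⊆ b.support := by
    rw [← hcover]
    intro x hx
    exact Finset.mem_union_left _ (Finset.mem_union_right _ hx)
  have hcases : ∀ x ∈ b.support, x ∈ I ∪ B ∨ x ∈ A := by
    intro x hx
    rw [← hcover] at hx
    rcases Finset.mem_union.mp hx with h | h
    · rcases Finset.mem_union.mp h with h' | h'
      · exact Or.inl (Finset.mem_union_left _ h')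
      · exact Or.inr h'
    · exact Or.inl (Finset.mem_union_right _ h)
  have hclos : ∀ (c : ι → ℕ),
      ∑ i ∈ I ∪ B, c i • P.root i ∈ AddSubmonoid.closure (P.root '' ↑(I ∪ B)) := by
    intro c
    exact AddSubmonoid.sum_mem _ fun i hi => AddSubmonoid.nsmul_mem _
      (AddSubmonoid.subset_closure (Set.mem_image_of_mem P.root (Finset.mem_coe.mpr hi))) _
  have hli : LinearIndepOn k P.root (↑(I ∪ B) : Set ι) :=
    b.linearIndepOn_root.mono (Finset.coe_subset.mpr hSsub)
  obtain ⟨i₀, hi₀⟩ := hB
  obtain ⟨l, hl⟩ := hA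
  have hbase : Pred P I B i₀ := by
    refine ⟨Finset.mem_union_right _ hi₀, i₀, Pi.single i₀ 1, ?_, by simp, i₀, hi₀, by simp⟩
    rw [Finset.sum_eq_single i₀]
    · simp
    · intro j _ hj
      simp [hj]
    · intro h
      exact absurd (Finset.mem_union_right _ hi₀) h
  have hstep : ∀ i j : b.support, Pred P I B (i : ι) → b.cartanMatrix j i ≠ 0 →
      Pred P I B (j : ι) := by
    rintro ⟨i, hi⟩ ⟨j, hj⟩ ⟨hiS, m, c, hm, hci0, i₁, hi₁, hci₁⟩ hcart
    have hci : 0 < c i := hci0
    have hiS : i ∈ I ∪ B := hiS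
    by_cases hjc : j ∈ I ∪ B ∧ 0 < c j
    · exact ⟨hjc.1, m, c, hm, hjc.2, i₁, hi₁, hci₁⟩
    · have hji : i ≠ j := by
        rintro rfl
        exact hjc ⟨hiS, hci⟩
      have hcart' : b.cartanMatrix ⟨i, hi⟩ ⟨j, hj⟩ ≠ 0 := by
        rwa [ne_eq, RootPairing.Base.cartanMatrix_apply_eq_zero_iff_symm]
      have hcart'' : P.pairingIn ℤ i j ≠ 0 :=
        fun h => hcart' ((b.cartanMatrixIn_def ℤ ⟨i, hi⟩ ⟨j, hj⟩).trans h)
      have hneg_ij : P.pairingIn ℤ i j < 0 :=
        lt_of_le_of_ne (b.pairingIn_le_zero_of_ne hji hi hj) hcart''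
      have hne : ∀ i' ∈ I ∪ B, c i' ≠ 0 → i' ≠ j := by
        rintro i' hi' hc' rfl
        exact hjc ⟨hi', Nat.pos_of_ne_zero hc'⟩
      have hneg : P.pairingIn ℤ m j < 0 := by
        rw [pairingIn_of_sum P (I ∪ B) c m j hm]
        refine sum_neg_of _ _ ?_ i hiS ?_
        · intro i' hi'
          by_cases hc' : c i' = 0
          · simp [hc']
          · exact mul_nonpos_of_nonneg_of_nonpos (by positivity)
              (b.pairingIn_le_zero_of_ne (hne i' hi' hc') (hSsub hi') hj)
        · exact mul_neg_of_pos_of_neg (by exact_mod_cast hci) hneg_ij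
      have hmclos : P.root m ∈ AddSubmonoid.closure (P.root '' ↑(I ∪ B)) := hm ▸ hclos c
      have hmspan : P.root m ∉ Submodule.span k (P.root '' ↑I) :=
        notMem_span_of_pos P b I B hSsub hIB c _ hm i₁ hi₁ hci₁
      rcases hcases j hj with hjS | hjA
      · have hcj : c j = 0 := by
          by_contra h
          exact hjc ⟨hjS, Nat.pos_of_ne_zero h⟩
        have hne' : P.root m ≠ - P.root j := by
          intro heq
          have h0 : ∑ i' ∈ I ∪ B, ((c i' : k) + if i' = j then (1 : k) else 0) • P.root i' = 0 := by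
            simp only [add_smul, Finset.sum_add_distrib, ite_smul, one_smul, zero_smul]
            rw [Finset.sum_ite_eq' (I ∪ B) j, if_pos hjS]
            simp only [Nat.cast_smul_eq_nsmul]
            rw [← hm, heq, neg_add_cancel]
          have h4 := linearIndepOn_finset_iff.mp hli _ h0 i hiS
          rw [if_neg hji, add_zero] at h4
          have h5 : c i = 0 := by exact_mod_cast h4
          omega
        obtain ⟨m', hm'⟩ := P.root_add_root_mem_of_pairingIn_neg hneg hne'
        refine ⟨hjS, m', c + Pi.single j 1, ?_, by simp, i₁, hi₁, ?_⟩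
        · rw [hm']
          simp only [Pi.add_apply, add_smul, Finset.sum_add_distrib]
          rw [← hm]
          congr 1
          rw [Finset.sum_eq_single j]
          · simp
          · intro i' _ hne''
            simp [hne'']
          · intro h
            exact absurd hjS h
        · rw [Pi.add_apply]
          exact Nat.add_pos_left hci₁ _
      · exact absurd (H' j hjA m hmclos hmspan) (not_le.mpr hneg)
  have hpl : Pred P I B l :=
    b.induction_on_cartanMatrix (fun x : b.support => Pred P I B (x : ι))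
      (i := ⟨i₀, hSsub (Finset.mem_union_right _ hi₀)⟩) (j := ⟨l, hAsub hl⟩) hbase hstep
  rcases Finset.mem_union.mp hpl.1 with h | h
  · exact (Finset.disjoint_left.mp hIA h) hl
  · exact (Finset.disjoint_left.mp hAB hl) h

end Groth.Agent.S19565
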