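import Groth.Statements.S19567
import Groth.Agent.H3.PH7

set_option autoImplicit false
universe u
open Hensel

namespace Groth.Agent.S19567

/-- Let A be a ring and I an ideal of A, and consider étale A-algebras A' for which the induced map A/I
→ A'/IA' is bijective. (1) For any two such algebras A₁ and A₂ there is a third such algebra A₃
admitting A-algebra maps from both. (2) For any two A-algebra maps f, g : A₁ → A₂ between such
algebras there are such an algebra A₃ and an A-algebra map h : A₂ → A₃ with h ∘ f = h ∘ g. (All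
algebras are taken in the universe of A. Since A itself is such an algebra, (1) and (2) say that the
category of these algebras and A-algebra maps is filtered.) -/
theorem result (A : Type u) [CommRing A] (I : Ideal A) :
    (∀ (A₁ A₂ : Type u) [CommRing A₁] [Algebra A A₁] [Algebra.Etale A A₁] [CommRing A₂] [Algebra A A₂]
        [Algebra.Etale A A₂],
        Function.Bijective (Ideal.quotientMap (I.map (algebraMap A A₁)) (algebraMap A A₁) Ideal.le_comap_map) →
        Function.Bijective (Ideal.quotientMap (I.map (algebraMap A A₂)) (algebraMap A A₂) Ideal.le_comap_map) →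
          ∃ (A₃ : Type u) (_ : CommRing A₃) (_ : Algebra A A₃) (_ : Algebra.Etale A A₃),
            Function.Bijective (Ideal.quotientMap (I.map (algebraMap A A₃)) (algebraMap A A₃) Ideal.le_comap_map) ∧
              Nonempty (A₁ →ₐ[A] A₃) ∧ Nonempty (A₂ →ₐ[A] A₃)) ∧
    (∀ (A₁ A₂ : Type u) [CommRing A₁] [Algebra A A₁] [Algebra.Etale A A₁] [CommRing A₂] [Algebra A A₂]
        [Algebra.Etale A A₂],
        Function.Bijective (Ideal.quotientMap (I.map (algebraMap A A₁)) (algebraMap A A₁) Ideal.le_comap_map) →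
        Function.Bijective (Ideal.quotientMap (I.map (algebraMap A A₂)) (algebraMap A A₂) Ideal.le_comap_map) →
          ∀ (f g : A₁ →ₐ[A] A₂),
            ∃ (A₃ : Type u) (_ : CommRing A₃) (_ : Algebra A A₃) (_ : Algebra.Etale A A₃),
              Function.Bijective (Ideal.quotientMap (I.map (algebraMap A A₃)) (algebraMap A A₃) Ideal.le_comap_map) ∧
                ∃ h : A₂ →ₐ[A] A₃, h.comp f = h.comp g) := by
  constructor
  · intro A₁ A₂ _ _ _ _ _ _ hq₁ hq₂
    obtain ⟨χ₁⟩ := Groth.Agent.H3.PH.exists_point_of_nbhd I A₁ hq₁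
    obtain ⟨χ₂⟩ := Groth.Agent.H3.PH.exists_point_of_nbhd I A₂ hq₂
    haveI : Algebra.Etale A₁ (TensorProduct A A₁ A₂) := inferInstance
    haveI : Algebra.Etale A (TensorProduct A A₁ A₂) := Algebra.Etale.comp A A₁ _
    obtain ⟨f, hf1, hf2⟩ := Groth.Agent.H3.PH.exists_shrink I (TensorProduct A A₁ A₂)
      (Algebra.TensorProduct.lift χ₁ χ₂ (fun _ _ => Commute.all _ _))
    haveI : Algebra.Etale (TensorProduct A A₁ A₂) (Localization.Away f) :=
      Algebra.Etale.of_isLocalizationAway f
    exact ⟨Localization.Away f, inferInstance, inferInstance,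
      Algebra.Etale.comp A (TensorProduct A A₁ A₂) _,
      Groth.Agent.H3.PH.nbhd_localization_away I _ _ f hf1 hf2,
      ⟨(IsScalarTower.toAlgHom A (TensorProduct A A₁ A₂) (Localization.Away f)).comp
        Algebra.TensorProduct.includeLeft⟩,
      ⟨(IsScalarTower.toAlgHom A (TensorProduct A A₁ A₂) (Localization.Away f)).comp
        Algebra.TensorProduct.includeRight⟩⟩
  · intro A₁ A₂ _ _ _ _ _ _ hq₁ hq₂ f g
    obtain ⟨χ₂⟩ := Groth.Agent.H3.PH.exists_point_of_nbhd I A₂ hq₂
    obtain ⟨e', he', hK⟩ := Groth.Agent.H3.PH.exists_idempotent_coequalizer (R := A) A₁ A₂ f g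
    obtain ⟨K, hKdef⟩ : ∃ K : Ideal A₂, K = Ideal.span (Set.range fun a : A₁ => f a - g a) :=
      ⟨_, rfl⟩
    rw [← hKdef] at hK
    have hkerK : RingHom.ker (algebraMap A₂ (A₂ ⧸ K)) = Ideal.span {1 - e'} := by
      rw [← hK]
      exact Ideal.mk_ker
    haveI := IsLocalization.away_of_isIdempotentElem (R := A₂) (S := A₂ ⧸ K) he' hkerK
      Ideal.Quotient.mk_surjective
    haveI : Algebra.Etale A₂ (A₂ ⧸ K) := Algebra.Etale.of_isLocalizationAway e'
    haveI : Algebra.Etale A (A₂ ⧸ K) := Algebra.Etale.comp A A₂ _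
    have hχeq : χ₂.comp f = χ₂.comp g :=
      Groth.Agent.H3.PH.algHom_unique_of_nbhd I A₁ (Groth.Agent.H3.PH.nbhd_surj I hq₁.2)
        (A ⧸ I) ⊥ bot_le (by
          rw [Ideal.Quotient.algebraMap_eq, Ideal.map_quotient_self]) _ _
    have hker : ∀ x ∈ K, χ₂ x = 0 := by
      have hle : K ≤ RingHom.ker χ₂.toRingHom := by
        rw [hKdef, Ideal.span_le]
        rintro _ ⟨a, rfl⟩
        rw [SetLike.mem_coe, RingHom.mem_ker, map_sub, sub_eq_zero]
        exact AlgHom.congr_fun hχeq a
      exact fun x hx => hle hx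
    obtain ⟨f₀, hf1, hf2⟩ := Groth.Agent.H3.PH.exists_shrink I (A₂ ⧸ K)
      (Ideal.Quotient.liftₐ K χ₂ hker)
    haveI : Algebra.Etale (A₂ ⧸ K) (Localization.Away f₀) :=
      Algebra.Etale.of_isLocalizationAway f₀
    refine ⟨Localization.Away f₀, inferInstance, inferInstance,
      Algebra.Etale.comp A (A₂ ⧸ K) _,
      Groth.Agent.H3.PH.nbhd_localization_away I _ _ f₀ hf1 hf2,
      (IsScalarTower.toAlgHom A (A₂ ⧸ K) (Localization.Away f₀)).comp (Ideal.Quotient.mkₐ A K),
      ?_⟩
    apply AlgHom.ext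
    intro a
    show algebraMap (A₂ ⧸ K) (Localization.Away f₀) (Ideal.Quotient.mk K (f a)) =
      algebraMap (A₂ ⧸ K) (Localization.Away f₀) (Ideal.Quotient.mk K (g a))
    congr 1
    rw [Ideal.Quotient.eq, hKdef]
    exact Ideal.subset_span ⟨a, rfl⟩

end Groth.Agent.S19567
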