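import Groth.Statements.S19569
import Mathlib

set_option autoImplicit false
universe u
open CAlg

namespace Groth.Agent.S19569

open TensorProduct in
/-- Let A be the colimit of a directed system of rings (A_i), given by compatible ring maps A_i → A
which are jointly surjective and such that an element of some A_i mapping to zero in A already maps
to zero in some later A_j, and let B be an étale A-algebra. Then for some index i there is an étale
A_i-algebra B_i such that B is isomorphic, as an A-algebra, to the base change A ⊗_{A_i} B_i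
(existence of an isomorphism). (Stated for a system indexed by a directed preordered set.) -/
theorem result {ι : Type u} [Preorder ι] [IsDirected ι (· ≤ ·)] [Nonempty ι]
    (G : ι → Type u) [∀ i, CommRing (G i)] (f : ∀ i j, i ≤ j → (G i →+* G j))
    (A : Type u) [CommRing A] (g : ∀ i, G i →+* A) (hg : ∀ i j (h : i ≤ j), (g j).comp (f i j h) = g i)
    (hsurj : ∀ a : A, ∃ i, ∃ x : G i, g i x = a)
    (hker : ∀ i (x : G i), g i x = 0 → ∃ j, ∃ h : i ≤ j, f i j h x = 0)
    (B : Type u) [CommRing B] [Algebra A B] [Algebra.Etale A B] :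
    ∃ (i : ι) (Bi : Type u) (_ : CommRing Bi) (_ : Algebra (G i) Bi), Algebra.Etale (G i) Bi ∧
      letI : Algebra (G i) A := (g i).toAlgebra
      Nonempty (B ≃ₐ[A] A ⊗[G i] Bi) := by
  classical
  obtain ⟨A₀, B₀, _, _, hfg, hét, ⟨e⟩⟩ := Algebra.Etale.exists_subalgebra_fg ℤ A B
  haveI := hét
  have hft : Algebra.FiniteType ℤ A₀ := (Subalgebra.fg_iff_finiteType A₀).mp hfg
  have hfp : Algebra.FinitePresentation ℤ A₀ := Algebra.FinitePresentation.of_finiteType.mp hft
  obtain ⟨n, π, hπsurj, hπker⟩ := hfp.out
  obtain ⟨s, hs⟩ := hπker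
  have key : ∀ t : Finset (MvPolynomial (Fin n) ℤ), (∀ r ∈ t, π r = 0) →
      ∃ (j : ι) (ψ : MvPolynomial (Fin n) ℤ →+* G j),
        (∀ p, g j (ψ p) = ((π p : A₀) : A)) ∧ ∀ r ∈ t, ψ r = 0 := by
    intro t
    induction t using Finset.induction_on with
    | empty =>
      intro _
      have hl : ∀ k : Fin n, ∃ i, ∃ x : G i, g i x = ((π (MvPolynomial.X k) : A₀) : A) :=
        fun k => hsurj _
      choose ik xk hxk using hl
      obtain ⟨M, hM⟩ := Finset.exists_le (Finset.univ.image ik)
      have hM' : ∀ k, ik k ≤ M := fun k => hM _ (Finset.mem_image_of_mem _ (Finset.mem_univ k))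
      refine ⟨M, MvPolynomial.eval₂Hom (Int.castRingHom (G M))
        (fun k => f (ik k) M (hM' k) (xk k)), ?_, by simp⟩
      have heq : (g M).comp (MvPolynomial.eval₂Hom (Int.castRingHom (G M))
          (fun k => f (ik k) M (hM' k) (xk k))) = (A₀.val.toRingHom).comp π.toRingHom := by
        apply MvPolynomial.ringHom_ext
        · intro z
          rw [eq_intCast (MvPolynomial.C) z]
          simp
        · intro k
          have h1 := RingHom.congr_fun (hg (ik k) M (hM' k)) (xk k)
          simp only [RingHom.comp_apply] at h1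
          simp only [RingHom.comp_apply, MvPolynomial.coe_eval₂Hom, MvPolynomial.eval₂_X]
          rw [h1, hxk k]
          rfl
      intro p
      exact RingHom.congr_fun heq p
    | insert r t hr ih =>
      intro hrt
      obtain ⟨i, ψ, hψ, hψt⟩ := ih (fun r' hr' => hrt r' (Finset.mem_insert_of_mem hr'))
      have h0 : g i (ψ r) = 0 := by
        rw [hψ r, hrt r (Finset.mem_insert_self _ _)]
        simp
      obtain ⟨j, hij, hj⟩ := hker i (ψ r) h0
      refine ⟨j, (f i j hij).comp ψ, ?_, ?_⟩
      · intro p
        have h1 := RingHom.congr_fun (hg i j hij) (ψ p)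
        simp only [RingHom.comp_apply] at h1 ⊢
        rw [h1, hψ p]
      · intro r' hr'
        rcases Finset.mem_insert.mp hr' with rfl | h'
        · exact hj
        · simp [hψt r' h']
  obtain ⟨j, ψ, hψ, hψs⟩ := key s (fun r hr => by
      have : r ∈ RingHom.ker π.toRingHom := hs ▸ Ideal.subset_span hr
      exact this)
  have hker' : RingHom.ker π.toRingHom ≤ RingHom.ker ψ := by
    rw [← hs, Ideal.span_le]
    intro r hr
    exact hψs r hr
  let φ : A₀ →+* G j := RingHom.liftOfSurjective π.toRingHom hπsurj ⟨ψ, hker'⟩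
  have hφ : ∀ a : A₀, g j (φ a) = (a : A) := by
    intro a
    obtain ⟨p, rfl⟩ := hπsurj a
    have h1 : φ (π p) = ψ p :=
      RingHom.liftOfRightInverse_comp_apply π.toRingHom _ _ ⟨ψ, hker'⟩ p
    rw [h1]
    exact hψ p
  letI : Algebra (G j) A := (g j).toAlgebra
  letI : Algebra A₀ (G j) := φ.toAlgebra
  haveI : IsScalarTower A₀ (G j) A := IsScalarTower.of_algebraMap_eq (fun a => (hφ a).symm)
  refine ⟨j, G j ⊗[A₀] B₀, inferInstance, inferInstance, inferInstance, ?_⟩
  exact ⟨e.trans (Algebra.TensorProduct.cancelBaseChange A₀ (G j) A A B₀).symm⟩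

end Groth.Agent.S19569
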