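import Groth.Statements.S1957
import Groth.Agent.H14.EtaleNbhd

set_option autoImplicit false
universe u
open Polynomial
open EtAlg

namespace Groth.Agent.S1957

/-- Let A be a ring, I an ideal and f a monic polynomial over A. Suppose the image of f in (A/I)[x]
factors as g h where the leading coefficient of g is a unit and g, h generate the unit ideal. Then
there is an etale A-algebra A' such that A/I -> A'/IA' is bijective, together with a factorization f
= g' h' in A'[x] whose reduction modulo IA' is the image of the given one. -/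
theorem result (A : Type u) [CommRing A] (I : Ideal A) (f : A[X]) (hf : f.Monic)
    (g h : (A ⧸ I)[X]) (hgh : f.map (Ideal.Quotient.mk I) = g * h) (hlead : IsUnit g.leadingCoeff)
    (hcop : IsCoprime g h) :
    ∃ (A' : Type u) (_ : CommRing A') (_ : Algebra A A') (_ : Algebra.Etale A A'),
      Function.Bijective (Ideal.quotientMap (I.map (algebraMap A A')) (algebraMap A A') Ideal.le_comap_map) ∧
      ∃ g' h' : A'[X], f.map (algebraMap A A') = g' * h' ∧
        g'.map (Ideal.Quotient.mk (I.map (algebraMap A A'))) =
          g.map (Ideal.quotientMap (I.map (algebraMap A A')) (algebraMap A A') Ideal.le_comap_map) ∧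
        h'.map (Ideal.Quotient.mk (I.map (algebraMap A A'))) =
          h.map (Ideal.quotientMap (I.map (algebraMap A A')) (algebraMap A A') Ideal.le_comap_map) := by
  have huv : g.leadingCoeff * h.leadingCoeff = 1 := by
    by_cases hI : Nontrivial (A ⧸ I)
    · have hfm : (f.map (Ideal.Quotient.mk I)).Monic := hf.map _
      have hh0 : h ≠ 0 := by
        rintro rfl
        rw [mul_zero] at hgh
        exact hfm.ne_zero hgh
      have hne : g.leadingCoeff * h.leadingCoeff ≠ 0 := by
        intro h0
        have := hlead.mul_right_eq_zero.mp h0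
        exact hh0 (Polynomial.leadingCoeff_eq_zero.mp this)
      rw [← Polynomial.leadingCoeff_mul' hne, ← hgh]; exact hfm
    · rw [not_nontrivial_iff_subsingleton] at hI
      exact Subsingleton.elim _ _
  have hvu : h.leadingCoeff * g.leadingCoeff = 1 := by rw [mul_comm]; exact huv
  have hg1 : (C h.leadingCoeff * g).Monic := Polynomial.monic_C_mul_of_mul_leadingCoeff_eq_one hvu
  have hh1 : (C g.leadingCoeff * h).Monic := Polynomial.monic_C_mul_of_mul_leadingCoeff_eq_one huv
  have hprod : f.map (Ideal.Quotient.mk I) = (C h.leadingCoeff * g) * (C g.leadingCoeff * h) := by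
    rw [hgh]
    calc g * h = C (h.leadingCoeff * g.leadingCoeff) * (g * h) := by rw [hvu, map_one, one_mul]
      _ = (C h.leadingCoeff * g) * (C g.leadingCoeff * h) := by rw [map_mul]; ring
  have hcop1 : IsCoprime (C h.leadingCoeff * g) (C g.leadingCoeff * h) := by
    have hCv : IsUnit (C h.leadingCoeff : (A ⧸ I)[X]) :=
      Polynomial.isUnit_C.mpr (IsUnit.of_mul_eq_one _ hvu)
    have hCu : IsUnit (C g.leadingCoeff : (A ⧸ I)[X]) :=
      Polynomial.isUnit_C.mpr (IsUnit.of_mul_eq_one _ huv)
    exact (isCoprime_mul_unit_left_left hCv _ _).mpr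
      ((isCoprime_mul_unit_left_right hCu _ _).mpr hcop)
  obtain ⟨r, hr⟩ := Ideal.Quotient.mk_surjective g.leadingCoeff
  obtain ⟨A', i1, i2, hE, hru, hbij, g1', h1', -, -, -, hfact, hgm, hhm⟩ :=
    Groth.Agent.H14.exists_etale_lift_monic_factorization I f hf _ _ hg1 hh1 hcop1 hprod r
      (by rw [hr]; exact hlead)
  obtain ⟨w, hw⟩ := hru.exists_right_inv
  have e1 : Ideal.Quotient.mk (I.map (algebraMap A A')) (algebraMap A A' r) =
      algebraMap (A ⧸ I) (A' ⧸ I.map (algebraMap A A')) g.leadingCoeff := by
    rw [← hr]; rfl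
  have e2 : Ideal.Quotient.mk (I.map (algebraMap A A')) w *
      algebraMap (A ⧸ I) (A' ⧸ I.map (algebraMap A A')) g.leadingCoeff = 1 := by
    rw [← e1, ← map_mul, mul_comm, hw, map_one]
  refine ⟨A', i1, i2, hE, hbij, C (algebraMap A A' r) * g1', C w * h1', ?_, ?_, ?_⟩
  · rw [hfact]
    calc g1' * h1' = C (algebraMap A A' r * w) * (g1' * h1') := by rw [hw, map_one, one_mul]
      _ = (C (algebraMap A A' r) * g1') * (C w * h1') := by rw [map_mul]; ring
  · show _ = g.map (algebraMap (A ⧸ I) (A' ⧸ I.map (algebraMap A A')))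
    rw [Polynomial.map_mul, Polynomial.map_C, hgm, Polynomial.map_mul, Polynomial.map_C,
      ← mul_assoc, ← Polynomial.C_mul, e1, ← map_mul, huv, map_one, Polynomial.C_1, one_mul]
  · show _ = h.map (algebraMap (A ⧸ I) (A' ⧸ I.map (algebraMap A A')))
    rw [Polynomial.map_mul, Polynomial.map_C, hhm, Polynomial.map_mul, Polynomial.map_C,
      ← mul_assoc, ← Polynomial.C_mul, e2, Polynomial.C_1, one_mul]

end Groth.Agent.S1957
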