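import Groth.Statements.S19573
import Groth.Agent.H76.CokerProj
import Mathlib.LinearAlgebra.Matrix.Determinant.Basic
import Mathlib.LinearAlgebra.Alternating.Basic
import Mathlib.LinearAlgebra.StdBasis
import Mathlib.LinearAlgebra.Dimension.Constructions
import Mathlib.LinearAlgebra.FiniteDimensional.Lemmas
import Mathlib.LinearAlgebra.TensorProduct.RightExactness
import Mathlib.LinearAlgebra.Dimension.Free
-- import your own Groth.Agent.* helpers here

set_option autoImplicit false
universe u
open LocInt

namespace Groth.Agent.S19573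

open TensorProduct

section
variable {R : Type u} [CommRing R] {n : ℕ} (a : Fin n → R)

lemma coord_smul_ιMulti_eq_zero (N : Submodule R (Fin n → R)) (ha : a ∈ N) (i : Fin n)
    (v : Fin n → (Fin n → R)) :
    a i • ExteriorAlgebra.ιMulti R n (fun j => N.mkQ (v j)) = 0 := by
  classical
  let g : (Fin n → R) [⋀^Fin n]→ₗ[R] ExteriorAlgebra R ((Fin n → R) ⧸ N) :=
    (ExteriorAlgebra.ιMulti R n).compLinearMap N.mkQ
  have hg : ∀ w : Fin n → (Fin n → R),
      g w = ExteriorAlgebra.ιMulti R n (fun j => N.mkQ (w j)) := fun w => rfl
  have ha0 : N.mkQ a = 0 := by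
    rw [Submodule.mkQ_apply, Submodule.Quotient.mk_eq_zero]
    exact ha
  have key : a i • g = 0 := by
    apply Module.Basis.ext_alternating (Pi.basisFun R (Fin n))
    intro σ hσ
    obtain ⟨j, hj⟩ := (Finite.injective_iff_surjective.1 hσ) i
    let w : Fin n → (Fin n → R) := fun j' => Pi.basisFun R (Fin n) (σ j')
    show (a i • g) w = (0 : (Fin n → R) [⋀^Fin n]→ₗ[R] ExteriorAlgebra R ((Fin n → R) ⧸ N)) w
    rw [AlternatingMap.smul_apply, AlternatingMap.zero_apply]
    have h1 : a i • g w = g (Function.update w j (a i • w j)) := by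
      rw [AlternatingMap.map_update_smul, Function.update_eq_self]
    rw [h1]
    have h3 : ∑ l, a l • Pi.basisFun R (Fin n) l = a := by
      have h := (Pi.basisFun R (Fin n)).sum_repr a
      simp only [Pi.basisFun_repr] at h
      exact h
    have h4 := Finset.add_sum_erase Finset.univ (fun l => a l • Pi.basisFun R (Fin n) l)
      (Finset.mem_univ i)
    beta_reduce at h4
    have h2 : a i • w j = a - ∑ l ∈ Finset.univ.erase i, a l • Pi.basisFun R (Fin n) l := by
      show a i • Pi.basisFun R (Fin n) (σ j) = _
      rw [hj, eq_sub_iff_add_eq, h4, h3]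
    let L : (Fin n → R) →ₗ[R] ExteriorAlgebra R ((Fin n → R) ⧸ N) :=
      g.toMultilinearMap.toLinearMap w j
    have hL : ∀ x, L x = g (Function.update w j x) := fun x => rfl
    rw [← hL, h2, map_sub, map_sum]
    have hLa : L a = 0 := by
      rw [hL, hg]
      apply AlternatingMap.map_coord_zero _ j
      show N.mkQ (Function.update w j a j) = 0
      rw [Function.update_self, ha0]
    have hLe : ∀ l ∈ Finset.univ.erase i, L (a l • Pi.basisFun R (Fin n) l) = 0 := by
      intro l hl
      have hli : l ≠ i := (Finset.mem_erase.1 hl).1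
      obtain ⟨j', hj'⟩ := (Finite.injective_iff_surjective.1 hσ) l
      have hjj' : j ≠ j' := by
        rintro rfl
        exact hli (hj'.symm.trans hj)
      rw [map_smul, hL]
      have h5 : g (Function.update w j (Pi.basisFun R (Fin n) l)) = 0 := by
        refine AlternatingMap.map_eq_zero_of_eq g _ ?_ hjj'
        rw [Function.update_self, Function.update_of_ne hjj'.symm]
        show Pi.basisFun R (Fin n) l = Pi.basisFun R (Fin n) (σ j')
        rw [hj']
      rw [h5, smul_zero]
    rw [hLa, Finset.sum_eq_zero hLe, sub_zero]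
  have h5 : (a i • g) v =
      (0 : (Fin n → R) [⋀^Fin n]→ₗ[R] ExteriorAlgebra R ((Fin n → R) ⧸ N)) v := by rw [key]
  rw [AlternatingMap.smul_apply, AlternatingMap.zero_apply] at h5
  exact h5

lemma mem_span_of_mem_annihilator (r : R)
    (hr : r ∈ (⋀[R]^n ((Fin n → R) ⧸ Submodule.span R {a})).annihilator) :
    r ∈ Ideal.span (Set.range a) := by
  classical
  let ρ : (Fin n → R) →ₗ[R] (Fin n → R ⧸ Ideal.span (Set.range a)) :=
    LinearMap.pi (fun j => (Submodule.mkQ (Ideal.span (Set.range a))) ∘ₗ LinearMap.proj j)
  have hρ : ∀ x j, ρ x j = Ideal.Quotient.mk (Ideal.span (Set.range a)) (x j) := fun x j => rfl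
  have hρa : ρ a = 0 := by
    funext j
    rw [hρ]
    exact Ideal.Quotient.eq_zero_iff_mem.2 (Ideal.subset_span ⟨j, rfl⟩)
  have hle : Submodule.span R {a} ≤ LinearMap.ker ρ := by
    rw [Submodule.span_le]
    rintro _ rfl
    exact hρa
  let ρ' : ((Fin n → R) ⧸ Submodule.span R {a}) →ₗ[R] (Fin n → R ⧸ Ideal.span (Set.range a)) :=
    (Submodule.span R {a}).liftQ ρ hle
  have hρ' : ∀ x, ρ' ((Submodule.span R {a}).mkQ x) = ρ x := fun x => rfl
  let D : ((Fin n → R) ⧸ Submodule.span R {a}) [⋀^Fin n]→ₗ[R] (R ⧸ Ideal.span (Set.range a)) :=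
    { (((Matrix.detRowAlternating (R := R ⧸ Ideal.span (Set.range a))
          (n := Fin n)).toMultilinearMap.restrictScalars R).compLinearMap (fun _ => ρ')) with
      map_eq_zero_of_eq' := fun v i j h hij =>
        (Matrix.detRowAlternating (R := R ⧸ Ideal.span (Set.range a))
          (n := Fin n)).map_eq_zero_of_eq (fun k => ρ' (v k)) (by rw [h]) hij }
  have hD : ∀ v, D v = Matrix.det (fun k => ρ' (v k)) := fun v => rfl
  have h1 : exteriorPower.alternatingMapLinearEquiv D
      (exteriorPower.ιMulti R n (fun j => (Submodule.span R {a}).mkQ (Pi.single j 1))) = 1 := by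
    rw [exteriorPower.alternatingMapLinearEquiv_apply_ιMulti, hD]
    have h6 : (fun k => ρ' ((Submodule.span R {a}).mkQ (Pi.single k (1 : R)))) =
        (1 : Matrix (Fin n) (Fin n) (R ⧸ Ideal.span (Set.range a))) := by
      funext k l
      rw [hρ', hρ, Matrix.one_apply, Pi.single_apply]
      by_cases h : k = l
      · subst h; simp
      · have h' : ¬ l = k := fun e => h e.symm
        simp [h, h']
    rw [h6, Matrix.det_one]
  have h2 : r • ((exteriorPower.ιMulti R n
      (fun j => (Submodule.span R {a}).mkQ (Pi.single j 1)) :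
        ⋀[R]^n ((Fin n → R) ⧸ Submodule.span R {a})) :
        ExteriorAlgebra R ((Fin n → R) ⧸ Submodule.span R {a})) = 0 :=
    Submodule.mem_annihilator.1 hr _ (Subtype.property _)
  have h3 : r • (exteriorPower.ιMulti R n
      (fun j => (Submodule.span R {a}).mkQ (Pi.single j 1)) :
        ⋀[R]^n ((Fin n → R) ⧸ Submodule.span R {a})) = 0 := Subtype.ext h2
  have h4 : r • (1 : R ⧸ Ideal.span (Set.range a)) = 0 := by
    rw [← h1, ← map_smul, h3, map_zero]
  have h5 : Ideal.Quotient.mk (Ideal.span (Set.range a)) r = 0 := by
    rw [← h4, Algebra.smul_def, mul_one]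
    rfl
  exact Ideal.Quotient.eq_zero_iff_mem.1 h5

lemma baseChange_toSpanSingleton_injective (p : PrimeSpectrum R) (i : Fin n)
    (hi : a i ∉ p.asIdeal) :
    Function.Injective
      ((LinearMap.toSpanSingleton R (Fin n → R) a).baseChange p.asIdeal.ResidueField) := by
  have key : ∀ x : p.asIdeal.ResidueField ⊗[R] R,
      (TensorProduct.AlgebraTensorModule.rid R p.asIdeal.ResidueField p.asIdeal.ResidueField)
        ((LinearMap.proj i : (Fin n → R) →ₗ[R] R).baseChange p.asIdeal.ResidueField
          ((LinearMap.toSpanSingleton R (Fin n → R) a).baseChange p.asIdeal.ResidueField x)) =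
      a i • (TensorProduct.AlgebraTensorModule.rid R p.asIdeal.ResidueField
        p.asIdeal.ResidueField x) := by
    intro x
    induction x using TensorProduct.induction_on with
    | zero => simp
    | tmul c r =>
      rw [LinearMap.baseChange_tmul, LinearMap.baseChange_tmul,
        TensorProduct.AlgebraTensorModule.rid_tmul, TensorProduct.AlgebraTensorModule.rid_tmul]
      show ((r • a) i) • c = a i • (r • c)
      rw [Pi.smul_apply, smul_eq_mul, mul_smul, smul_comm]
    | add x y hx hy => simp only [map_add, smul_add, hx, hy]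
  rw [injective_iff_map_eq_zero]
  intro x hx
  have h1 : a i • (TensorProduct.AlgebraTensorModule.rid R p.asIdeal.ResidueField
      p.asIdeal.ResidueField x) = 0 := by rw [← key, hx, map_zero, map_zero]
  have h2 : algebraMap R p.asIdeal.ResidueField (a i) ≠ 0 := by
    rw [ne_eq, Ideal.algebraMap_residueField_eq_zero]
    exact hi
  rw [Algebra.smul_def] at h1
  have h3 : TensorProduct.AlgebraTensorModule.rid R p.asIdeal.ResidueField
      p.asIdeal.ResidueField x = 0 := (mul_eq_zero.1 h1).resolve_left h2
  exact (LinearEquiv.map_eq_zero_iff _).1 h3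

lemma freeLocus_and_rank (p : PrimeSpectrum R) (i : Fin n) (hi : a i ∉ p.asIdeal) :
    p ∈ Module.freeLocus R
      ((Fin n → R) ⧸ LinearMap.range (LinearMap.toSpanSingleton R (Fin n → R) a)) ∧
    Module.rankAtStalk
      ((Fin n → R) ⧸ LinearMap.range (LinearMap.toSpanSingleton R (Fin n → R) a)) p = n - 1 := by
  haveI : Nontrivial R := PrimeSpectrum.nonempty_iff_nontrivial.1 ⟨p⟩
  have hinj := baseChange_toSpanSingleton_injective a p i hi
  have hfree : p ∈ Module.freeLocus R
      ((Fin n → R) ⧸ LinearMap.range (LinearMap.toSpanSingleton R (Fin n → R) a)) := by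
    rw [Groth.Agent.H76.mem_freeLocus_coker_iff R R (Fin n → R)
      (LinearMap.toSpanSingleton R (Fin n → R) a) p]
    have h0 : LinearMap.ker ((LinearMap.toSpanSingleton R (Fin n → R) a).baseChange
        p.asIdeal.ResidueField) = ⊥ := LinearMap.ker_eq_bot.2 hinj
    rw [h0]
    exact bot_le
  refine ⟨hfree, ?_⟩
  haveI : Module.Free (Localization.AtPrime p.asIdeal) (Localization.AtPrime p.asIdeal ⊗[R]
      ((Fin n → R) ⧸ LinearMap.range (LinearMap.toSpanSingleton R (Fin n → R) a))) :=
    (Module.mem_freeLocus_iff_tensor p (Localization.AtPrime p.asIdeal)).1 hfree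
  have e : p.asIdeal.ResidueField ⊗[Localization.AtPrime p.asIdeal]
      (Localization.AtPrime p.asIdeal ⊗[R]
        ((Fin n → R) ⧸ LinearMap.range (LinearMap.toSpanSingleton R (Fin n → R) a)))
      ≃ₗ[p.asIdeal.ResidueField] p.asIdeal.ResidueField ⊗[R]
        ((Fin n → R) ⧸ LinearMap.range (LinearMap.toSpanSingleton R (Fin n → R) a)) :=
    TensorProduct.AlgebraTensorModule.cancelBaseChange _ _ _ _ _
  have hrank : Module.rankAtStalk
      ((Fin n → R) ⧸ LinearMap.range (LinearMap.toSpanSingleton R (Fin n → R) a)) p =
      Module.finrank p.asIdeal.ResidueField (p.asIdeal.ResidueField ⊗[R]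
        ((Fin n → R) ⧸ LinearMap.range (LinearMap.toSpanSingleton R (Fin n → R) a))) := by
    rw [Module.rankAtStalk_eq_finrank_tensorProduct, ← e.finrank_eq]
    exact Module.finrank_baseChange.symm
  rw [hrank]
  have hex : Function.Exact
      ((LinearMap.toSpanSingleton R (Fin n → R) a).baseChange p.asIdeal.ResidueField)
      ((LinearMap.range (LinearMap.toSpanSingleton R (Fin n → R) a)).mkQ.baseChange
        p.asIdeal.ResidueField) := by
    rw [LinearMap.baseChange_eq_ltensor, LinearMap.baseChange_eq_ltensor]
    exact lTensor_exact p.asIdeal.ResidueField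
      (LinearMap.exact_map_mkQ_range (LinearMap.toSpanSingleton R (Fin n → R) a))
      (Submodule.mkQ_surjective _)
  have hsurj : Function.Surjective
      ((LinearMap.range (LinearMap.toSpanSingleton R (Fin n → R) a)).mkQ.baseChange
        p.asIdeal.ResidueField) := by
    rw [LinearMap.baseChange_eq_ltensor]
    exact LinearMap.lTensor_surjective _ (Submodule.mkQ_surjective _)
  have hker := LinearMap.exact_iff.1 hex
  have h1 := LinearMap.finrank_range_add_finrank_ker
    ((LinearMap.range (LinearMap.toSpanSingleton R (Fin n → R) a)).mkQ.baseChange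
      p.asIdeal.ResidueField)
  have h2 : Module.finrank p.asIdeal.ResidueField (LinearMap.range
      ((LinearMap.range (LinearMap.toSpanSingleton R (Fin n → R) a)).mkQ.baseChange
        p.asIdeal.ResidueField)) =
      Module.finrank p.asIdeal.ResidueField (p.asIdeal.ResidueField ⊗[R]
        ((Fin n → R) ⧸ LinearMap.range (LinearMap.toSpanSingleton R (Fin n → R) a))) := by
    rw [LinearMap.range_eq_top.2 hsurj, finrank_top]
  have h3 : Module.finrank p.asIdeal.ResidueField (LinearMap.ker
      ((LinearMap.range (LinearMap.toSpanSingleton R (Fin n → R) a)).mkQ.baseChange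
        p.asIdeal.ResidueField)) = 1 := by
    rw [hker, LinearMap.finrank_range_of_inj hinj, Module.finrank_baseChange, Module.finrank_self]
  have h4 : Module.finrank p.asIdeal.ResidueField
      (p.asIdeal.ResidueField ⊗[R] (Fin n → R)) = n := by
    rw [Module.finrank_baseChange, Module.finrank_fin_fun]
  omega

end


/-- The first sentence of the lemma together with the description of the closed subscheme Z given in its
proof, in the local model. Let R be a commutative ring, n ≥ 1, a ∈ R^n, and F = R^n / R·a the
cokernel of R → R^n, 1 ↦ a (the zeroth homology of the two-term complex R → R^n). Then the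
annihilator ideal of the top exterior power ⋀^n F is the ideal generated by the coordinates a_1, …,
a_n of a, and at every prime p of R off the closed set V(a_1, …, a_n) the module F is free of rank n
− 1 after localization at p. (The published statement is for a complex on a scheme which is locally
quasi-isomorphic to such a two-term complex L → E with L invertible and E locally free of rank n,
and says that H^0 restricted to the complement of the closed subscheme cut out by the annihilator of
its n-th exterior power is locally free of rank n − 1; this row is the local model.) -/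
theorem result (R : Type u) [CommRing R]
    (n : ℕ) (hn : 1 ≤ n) (a : Fin n → R) :
    (⋀[R]^n ((Fin n → R) ⧸ Submodule.span R {a})).annihilator = Ideal.span (Set.range a) ∧
    ∀ p : PrimeSpectrum R, ¬ Ideal.span (Set.range a) ≤ p.asIdeal →
      p ∈ Module.freeLocus R ((Fin n → R) ⧸ Submodule.span R {a}) ∧
      Module.rankAtStalk ((Fin n → R) ⧸ Submodule.span R {a}) p = n - 1 := by
  have hrange : Submodule.span R {a} =
      LinearMap.range (LinearMap.toSpanSingleton R (Fin n → R) a) :=
    LinearMap.span_singleton_eq_range R (Fin n → R) a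
  refine ⟨?_, ?_⟩
  · apply le_antisymm
    · intro r hr
      exact mem_span_of_mem_annihilator a r hr
    · rw [Ideal.span_le]
      rintro _ ⟨i, rfl⟩
      rw [SetLike.mem_coe, Submodule.mem_annihilator]
      intro ω hω
      rw [← exteriorPower.ιMulti_span_fixedDegree] at hω
      induction hω using Submodule.span_induction with
      | mem x hx =>
        obtain ⟨y, rfl⟩ := hx
        have hex : ∃ v : Fin n → (Fin n → R), ∀ j, (Submodule.span R {a}).mkQ (v j) = y j :=
          ⟨fun j => ((Submodule.span R {a}).mkQ_surjective (y j)).choose,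
            fun j => ((Submodule.span R {a}).mkQ_surjective (y j)).choose_spec⟩
        obtain ⟨v, hv⟩ := hex
        have hy : y = fun j => (Submodule.span R {a}).mkQ (v j) := funext fun j => (hv j).symm
        rw [hy]
        exact coord_smul_ιMulti_eq_zero a _ (Submodule.mem_span_singleton_self a) i v
      | zero => exact smul_zero _
      | add x y _ _ hx hy => rw [smul_add, hx, hy, add_zero]
      | smul c x _ hx => rw [smul_comm, hx, smul_zero]
  · intro p hp
    have hex : ∃ i, a i ∉ p.asIdeal := by
      by_contra hcon
      push Not at hcon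
      exact hp (Ideal.span_le.2 (by rintro _ ⟨i, rfl⟩; exact hcon i))
    obtain ⟨i, hi⟩ := hex
    rw [hrange]
    exact freeLocus_and_rank a p i hi

end Groth.Agent.S19573
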