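import Groth.Statements.S19574
import Mathlib

set_option autoImplicit false
universe u
open CategoryTheory MonoidalCategory

namespace Groth.Agent.S19574

section aux
open TensorProduct

variable {R : Type u} [CommRing R] (I : Ideal R)

/-- the multiplication map `I ⊗ N → N` -/
noncomputable def mu (N : Type u) [AddCommGroup N] [Module R N] : I ⊗[R] N →ₗ[R] N :=
  TensorProduct.lift ((LinearMap.lsmul R N).comp I.subtype)

lemma mu_tmul (N : Type u) [AddCommGroup N] [Module R N] (a : I) (n : N) :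
    mu I N (a ⊗ₜ n) = (a : R) • n := by simp [mu]

lemma mu_nat {N N' : Type u} [AddCommGroup N] [Module R N] [AddCommGroup N'] [Module R N']
    (g : N →ₗ[R] N') (t : I ⊗[R] N) :
    mu I N' (LinearMap.lTensor I g t) = g (mu I N t) := by
  induction t using TensorProduct.induction_on with
  | zero => simp
  | tmul a n => simp [mu_tmul]
  | add x y hx hy => simp only [map_add, hx, hy]

lemma pi_mu {N : Type u} [AddCommGroup N] [Module R N] (t : I ⊗[R] N) :
    (1 : R ⧸ I) ⊗ₜ[R] (mu I N t) = 0 := by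
  induction t using TensorProduct.induction_on with
  | zero => simp
  | tmul a n =>
    rw [mu_tmul, ← TensorProduct.smul_tmul]
    have : ((a : R) • (1 : R ⧸ I)) = 0 := by
      rw [Algebra.smul_def, mul_one]
      exact Ideal.Quotient.eq_zero_iff_mem.2 a.2
    rw [this, TensorProduct.zero_tmul]
  | add x y hx hy => rw [map_add, TensorProduct.tmul_add, hx, hy, add_zero]

lemma exists_mu_of_pi_eq_zero {N : Type u} [AddCommGroup N] [Module R N] (n : N)
    (h : (1 : R ⧸ I) ⊗ₜ[R] n = 0) : ∃ t : I ⊗[R] N, mu I N t = n := by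
  have h2 : n ∈ (I • ⊤ : Submodule R N) := by
    have := congrArg (TensorProduct.quotTensorEquivQuotSMul N I) h
    rw [TensorProduct.quotTensorEquivQuotSMul_mk_one_tmul, map_zero,
      Submodule.Quotient.mk_eq_zero] at this
    exact this
  have hle : (I • ⊤ : Submodule R N) ≤ LinearMap.range (mu I N) := by
    rw [Submodule.smul_le]
    intro a ha n _
    exact ⟨(⟨a, ha⟩ : I) ⊗ₜ n, mu_tmul I N _ _⟩
  exact hle h2

lemma pi_surj {N : Type u} [AddCommGroup N] [Module R N] (t : (R ⧸ I) ⊗[R] N) :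
    ∃ n : N, (1 : R ⧸ I) ⊗ₜ[R] n = t := by
  induction t using TensorProduct.induction_on with
  | zero => exact ⟨0, by simp⟩
  | tmul r n =>
    obtain ⟨r, rfl⟩ := Ideal.Quotient.mk_surjective r
    refine ⟨r • n, ?_⟩
    rw [← TensorProduct.smul_tmul, Algebra.smul_def, mul_one]
    rfl
  | add x y hx hy =>
    obtain ⟨a, rfl⟩ := hx
    obtain ⟨b, rfl⟩ := hy
    exact ⟨a + b, TensorProduct.tmul_add _ _ _⟩

lemma flat_of_data {M P1 P2 P3 : Type u}
    [AddCommGroup M] [Module R M] [AddCommGroup P1] [Module R P1] [AddCommGroup P2] [Module R P2]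
    [AddCommGroup P3] [Module R P3] [Module.Flat R P1]
    (d1 : P1 →ₗ[R] M) (d2 : P2 →ₗ[R] P1) (d3 : P3 →ₗ[R] P2)
    (h1 : Function.Surjective d1) (h12 : ∀ y, d1 y = 0 → ∃ p, d2 p = y)
    (c12 : ∀ p, d1 (d2 p) = 0) (c23 : ∀ p, d2 (d3 p) = 0)
    (hT : ∀ J : Ideal R, ∀ t : (R ⧸ J) ⊗[R] P2, LinearMap.lTensor (R ⧸ J) d2 t = 0 →
      ∃ s : (R ⧸ J) ⊗[R] P3, LinearMap.lTensor (R ⧸ J) d3 s = t) : Module.Flat R M := by
  rw [Module.Flat.iff_lift_lsmul_comp_subtype_injective]
  intro I hI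
  rw [injective_iff_map_eq_zero]
  intro x hx
  change mu I M x = 0 at hx
  obtain ⟨y, rfl⟩ := LinearMap.lTensor_surjective I h1 x
  rw [mu_nat] at hx
  obtain ⟨p, hp⟩ := h12 _ hx
  have h0 : LinearMap.lTensor (R ⧸ I) d2 ((1 : R ⧸ I) ⊗ₜ p) = 0 := by
    rw [LinearMap.lTensor_tmul, hp]
    exact pi_mu I y
  obtain ⟨s, hs⟩ := hT I _ h0
  obtain ⟨p3, rfl⟩ := pi_surj I s
  rw [LinearMap.lTensor_tmul] at hs
  have h0' : (1 : R ⧸ I) ⊗ₜ[R] (p - d3 p3) = 0 := by
    rw [TensorProduct.tmul_sub, hs, sub_self]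
  obtain ⟨w, hw⟩ := exists_mu_of_pi_eq_zero I _ h0'
  have e : mu I P1 (LinearMap.lTensor I d2 w) = mu I P1 y := by
    rw [mu_nat, hw, map_sub, c23, sub_zero, hp]
  have hinj : Function.Injective (mu I P1) :=
    (Module.Flat.iff_lift_lsmul_comp_subtype_injective.1 inferInstance) hI
  have e2 := hinj e
  rw [← e2, ← LinearMap.lTensor_comp_apply]
  have e3 : d1 ∘ₗ d2 = 0 := LinearMap.ext c12
  rw [e3, LinearMap.lTensor_zero, LinearMap.zero_apply]

end aux

theorem result (R : Type u) [CommRing R]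
    (d : ℕ) (hd : 1 ≤ d) (K : ChainComplex (ModuleCat.{u} R) ℕ)
    (hzero : ∀ i : ℕ, d + 1 < i → Limits.IsZero (K.X i))
    (hflat : ∀ i : ℕ, 1 ≤ i → i ≤ d → Module.Flat R (K.X i))
    (hK : K.Acyclic)
    (hbc : ∀ I : Ideal R,
      (((tensorLeft (ModuleCat.of R (R ⧸ I))).mapHomologicalComplex (ComplexShape.down ℕ)).obj K).Acyclic) :
    Module.Flat R (K.X 0) := by
  have : Module.Flat R (K.X 1) := hflat 1 le_rfl hd
  have ex0 := (K.exactAt_iff' 1 0 0 (by simp) (by simp)).1 (hK 0)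
  have ex1 := (K.exactAt_iff' 2 1 0 (by simp) (by simp)).1 (hK 1)
  rw [ShortComplex.moduleCat_exact_iff_ker_sub_range] at ex0 ex1
  refine flat_of_data (K.d 1 0).hom (K.d 2 1).hom (K.d 3 2).hom ?_ ?_ ?_ ?_ ?_
  · intro x
    have hx : x ∈ LinearMap.ker (K.sc' 1 0 0).g.hom := by
      change (K.d 0 0).hom x = 0
      rw [K.shape 0 0 (by simp)]
      rfl
    exact ex0 hx
  · intro y hy
    exact ex1 (LinearMap.mem_ker.2 hy)
  · intro p
    have := K.d_comp_d 2 1 0
    exact congrArg (fun f => f.hom p) this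
  · intro p
    have := K.d_comp_d 3 2 1
    exact congrArg (fun f => f.hom p) this
  · intro J t ht
    have exT := ((((tensorLeft (ModuleCat.of R (R ⧸ J))).mapHomologicalComplex
      (ComplexShape.down ℕ)).obj K).exactAt_iff' 3 2 1 (by simp) (by simp)).1 (hbc J 2)
    rw [ShortComplex.moduleCat_exact_iff_ker_sub_range] at exT
    have ht' : t ∈ LinearMap.ker ((((tensorLeft (ModuleCat.of R (R ⧸ J))).mapHomologicalComplex
      (ComplexShape.down ℕ)).obj K).sc' 3 2 1).g.hom := by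
      change ((ModuleCat.of R (R ⧸ J)) ◁ (K.d 2 1)).hom t = 0
      rw [ModuleCat.hom_whiskerLeft]
      exact ht
    obtain ⟨s, hs⟩ := exT ht'
    refine ⟨s, ?_⟩
    have : ((ModuleCat.of R (R ⧸ J)) ◁ (K.d 3 2)).hom s = t := hs
    rw [ModuleCat.hom_whiskerLeft] at this
    exact this

end Groth.Agent.S19574
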