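import Groth.Statements.S19575
import Groth.Agent.S13829

set_option autoImplicit false
universe u
open EtaPt

namespace Groth.Agent.S19575

/-- Let η be the field-endofunctor datum of the pointwise construction, A a commutative ring with
finitely many minimal prime ideals and φ : A → B a ring map inducing a surjection on prime spectra.
If the canonical map A → (B/A)_η (the corestriction of φ onto the subring of B of elements whose
image in ∏_q F(k(q)) comes from M_η(A)) is bijective, then for every f ∈ A the canonical map A_f →
(B_f/A_f)_η attached to the localized map A_f → B_{φ(f)} is bijective as well. -/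
theorem result (η : EtaPt.FieldEndo.{u}) {A B : Type u} [CommRing A] [CommRing B]
    (hA : (minimalPrimes A).Finite) (φ : A →+* B) (hs : Function.Surjective (PrimeSpectrum.comap φ))
    (h : Function.Bijective (η.qRel φ)) (f : A) :
    Function.Bijective (η.qRel (Localization.awayMap φ f)) := by
  have hloc := Groth.Agent.S13829.result η hA φ hs f
  have hφinj : Function.Injective φ := by
    intro a b hab
    apply h.1
    apply Subtype.ext
    exact hab
  have hcomm : ∀ a : A, Localization.awayMap φ f (algebraMap A (Localization.Away f) a) =
      algebraMap B (Localization.Away (φ f)) (φ a) := fun a => IsLocalization.map_eq _ a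
  constructor
  · have hinj : Function.Injective (Localization.awayMap φ f) := by
      rw [Localization.awayMap_injective_iff]
      intro a ha
      refine ⟨0, ?_⟩
      rw [pow_zero, one_mul]
      exact hφinj (by rw [ha, map_zero])
    intro a b hab
    apply hinj
    exact congrArg Subtype.val hab
  · rintro ⟨y, hy⟩
    obtain ⟨x, hx, n, hxn⟩ := hloc.2 y hy
    obtain ⟨a, ha⟩ := h.2 ⟨x, hx⟩
    have hax : φ a = x := congrArg Subtype.val ha
    have hu : IsUnit (algebraMap A (Localization.Away f) f) :=
      IsLocalization.Away.algebraMap_isUnit f
    obtain ⟨v, hv⟩ := hu.exists_right_inv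
    refine ⟨algebraMap A (Localization.Away f) a * v ^ n, ?_⟩
    apply Subtype.ext
    show Localization.awayMap φ f (algebraMap A (Localization.Away f) a * v ^ n) = y
    have hu' : IsUnit (algebraMap B (Localization.Away (φ f)) (φ f)) :=
      IsLocalization.Away.algebraMap_isUnit (φ f)
    have hv' : algebraMap B (Localization.Away (φ f)) (φ f) * Localization.awayMap φ f v = 1 := by
      rw [← hcomm, ← map_mul, hv, map_one]
    rw [map_mul, map_pow, hcomm, hax, ← hxn, mul_assoc, ← mul_pow, hv', one_pow, mul_one]

end Groth.Agent.S19575
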