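import Groth.Statements.S19576
import Groth.Agent.S13829

set_option autoImplicit false
universe u
open EtaPt

namespace Groth.Agent.S19576

/-- Let η be the field-endofunctor datum of the pointwise construction, A a commutative ring with
finitely many minimal prime ideals and φ : A → B a ring map inducing a surjection on prime spectra.
If finitely many elements f_1, …, f_n of A generate the unit ideal and, for each i, the canonical
map A_{f_i} → (B_{f_i}/A_{f_i})_η attached to the localized map A_{f_i} → B_{φ(f_i)} is bijective,
then the canonical map A → (B/A)_η is bijective. -/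
theorem result (η : EtaPt.FieldEndo.{u}) {A B : Type u} [CommRing A] [CommRing B]
    (hA : (minimalPrimes A).Finite) (φ : A →+* B) (hs : Function.Surjective (PrimeSpectrum.comap φ))
    (s : Finset A) (hspan : Ideal.span (s : Set A) = ⊤)
    (h : ∀ f ∈ s, Function.Bijective (η.qRel (Localization.awayMap φ f))) :
    Function.Bijective (η.qRel φ) := by
  have key : ∀ J : Ideal A, (∀ f ∈ s, ∃ n : ℕ, f ^ n ∈ J) → (1 : A) ∈ J := by
    intro J hJ
    have h1 : Ideal.span (s : Set A) ≤ J.radical := by
      rw [Ideal.span_le]
      intro f hf
      exact hJ f hf
    rw [hspan, top_le_iff, Ideal.radical_eq_top] at h1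
    rw [h1]
    trivial
  have hcomm : ∀ (f : A) (a : A), Localization.awayMap φ f (algebraMap A (Localization.Away f) a) =
      algebraMap B (Localization.Away (φ f)) (φ a) := fun f a => IsLocalization.map_eq _ a
  constructor
  · intro a b hab
    have hab' : φ a = φ b := congrArg Subtype.val hab
    have hc : φ (a - b) = 0 := by rw [map_sub, hab', sub_self]
    let J : Ideal A :=
      { carrier := {r | r * (a - b) = 0}
        add_mem' := by
          intro x y hx hy
          show (x + y) * (a - b) = 0
          rw [add_mul, hx, hy, add_zero]
        zero_mem' := by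
          show (0 : A) * (a - b) = 0
          rw [zero_mul]
        smul_mem' := by
          intro t x hx
          show (t • x) * (a - b) = 0
          rw [smul_eq_mul, mul_assoc, hx, mul_zero] }
    have h1 : (1 : A) ∈ J := by
      apply key
      intro f hf
      have hinj := (h f hf).1
      have hz : algebraMap A (Localization.Away f) (a - b) = 0 := by
        apply hinj
        apply Subtype.ext
        show Localization.awayMap φ f (algebraMap A (Localization.Away f) (a - b)) =
          Localization.awayMap φ f 0
        rw [hcomm, hc, map_zero, map_zero]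
      rw [IsLocalization.map_eq_zero_iff (Submonoid.powers f)] at hz
      obtain ⟨⟨m, n, hn⟩, hm⟩ := hz
      refine ⟨n, ?_⟩
      show f ^ n * (a - b) = 0
      have hn' : f ^ n = m := hn
      rw [hn']
      exact hm
    have h2 : (1 : A) * (a - b) = 0 := h1
    rw [one_mul] at h2
    exact sub_eq_zero.mp h2
  · rintro ⟨b, hb⟩
    let J : Ideal A :=
      { carrier := {r | ∃ a : A, φ r * b = φ a}
        add_mem' := by
          rintro x y ⟨ax, hx⟩ ⟨ay, hy⟩
          exact ⟨ax + ay, by rw [map_add, add_mul, hx, hy, map_add]⟩
        zero_mem' := ⟨0, by rw [map_zero, zero_mul]⟩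
        smul_mem' := by
          rintro t x ⟨ax, hx⟩
          exact ⟨t * ax, by rw [smul_eq_mul, map_mul, mul_assoc, hx, map_mul]⟩ }
    have h1 : (1 : A) ∈ J := by
      apply key
      intro f hf
      have hloc := Groth.Agent.S13829.result η hA φ hs f
      have hmem : algebraMap B (Localization.Away (φ f)) b ∈ η.rel (Localization.awayMap φ f) :=
        hloc.1 ⟨b, hb, rfl⟩
      obtain ⟨z, hz⟩ := (h f hf).2 ⟨_, hmem⟩
      have hz' : Localization.awayMap φ f z = algebraMap B (Localization.Away (φ f)) b :=
        congrArg Subtype.val hz
      obtain ⟨⟨a', ⟨t, n, hn⟩⟩, ha'⟩ := IsLocalization.surj (Submonoid.powers f) z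
      have ha'' : z * algebraMap A (Localization.Away f) (f ^ n) =
          algebraMap A (Localization.Away f) a' := by
        rw [← ha']
        show z * algebraMap A (Localization.Away f) (f ^ n) = z * algebraMap A (Localization.Away f) t
        have hn' : f ^ n = t := hn
        rw [hn']
      have h3 : algebraMap B (Localization.Away (φ f)) (b * φ f ^ n) =
          algebraMap B (Localization.Away (φ f)) (φ a') := by
        have e1 : Localization.awayMap φ f (z * algebraMap A (Localization.Away f) (f ^ n)) =
            Localization.awayMap φ f (algebraMap A (Localization.Away f) a') := by rw [ha'']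
        rw [map_mul (Localization.awayMap φ f), hz', hcomm, hcomm, map_pow φ] at e1
        rw [map_mul]
        exact e1
      rw [IsLocalization.eq_iff_exists (Submonoid.powers (φ f))] at h3
      obtain ⟨⟨c, m, hm⟩, hc⟩ := h3
      refine ⟨m + n, f ^ m * a', ?_⟩
      have hc' : φ f ^ m * (b * φ f ^ n) = φ f ^ m * φ a' := by
        have hm' : φ f ^ m = c := hm
        rw [hm']
        exact hc
      rw [map_pow, map_mul, map_pow, ← hc', pow_add]
      ring
    obtain ⟨a, ha⟩ := h1
    refine ⟨a, ?_⟩
    apply Subtype.ext
    show φ a = b
    rw [← ha, map_one, one_mul]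

end Groth.Agent.S19576
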