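import Groth.Statements.S19577
import Groth.Agent.S13802
import Groth.Agent.S13803
import Groth.Agent.H69.EtaPtRel2

set_option autoImplicit false
universe u
open EtaPt

namespace Groth.Agent.S19577

/-- Let f : A → B be a homomorphism of commutative rings, each with only finitely many minimal primes.
Then M_η(f) : M_η(A) → M_η(B) is integral exactly when f is integral, and Spec M_η(f) is surjective
exactly when Spec f is. Here η is the field-endofunctor datum of the pointwise construction, M_η(A)
⊆ ∏_p F(k(p)) the subring attached to A with q_A : A → M_η(A), and M_η(f) : M_η(A) → M_η(B) the ring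
map induced by N_η(f), pinned here as the ring map g compatible with N_η(f) under the two subring
inclusions. -/
theorem result (η : EtaPt.FieldEndo.{u}) {A B : Type u} [CommRing A] [CommRing B]
    (hA : (minimalPrimes A).Finite) (hB : (minimalPrimes B).Finite) (f : A →+* B)
    (g : η.M A →+* η.M B) (hg : ∀ x : η.M A, ((g x : η.M B) : η.N B) = η.Nmap f (x : η.N A)) :
    (f.IsIntegral ↔ g.IsIntegral) ∧
      (Function.Surjective (PrimeSpectrum.comap f) ↔ Function.Surjective (PrimeSpectrum.comap g)) := by
  have hcomm : g.comp (η.q A) = (η.q B).comp f := by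
    refine RingHom.ext fun a => ?_
    apply Subtype.ext
    show ((g (η.q A a) : η.M B) : η.N B) = η.t B (f a)
    rw [hg]
    exact η.Nmap_t_apply f a
  have hqA : (η.q A).IsIntegral := Groth.Agent.S13802.result η A hA
  have hqB : (η.q B).IsIntegral := Groth.Agent.S13802.result η B hB
  have hbA : Function.Bijective (PrimeSpectrum.comap (η.q A)) := (Groth.Agent.S13803.result η A hA).1
  have hbB : Function.Bijective (PrimeSpectrum.comap (η.q B)) := (Groth.Agent.S13803.result η B hB).1
  have hsq : (PrimeSpectrum.comap (η.q A)) ∘ (PrimeSpectrum.comap g) =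
      (PrimeSpectrum.comap f) ∘ (PrimeSpectrum.comap (η.q B)) := by
    funext Q
    show PrimeSpectrum.comap (g.comp (η.q A)) Q = PrimeSpectrum.comap ((η.q B).comp f) Q
    rw [hcomm]
  refine ⟨⟨fun hf => ?_, fun hgi => ?_⟩, ⟨fun hf => ?_, fun hgs => ?_⟩⟩
  · have h1 : ((η.q B).comp f).IsIntegral := RingHom.IsIntegral.trans f (η.q B) hf hqB
    rw [← hcomm] at h1
    exact RingHom.IsIntegral.tower_top (η.q A) g h1
  · have h1 : (g.comp (η.q A)).IsIntegral := RingHom.IsIntegral.trans (η.q A) g hqA hgi
    rw [hcomm] at h1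
    intro b
    obtain ⟨P, hP, hP0⟩ := h1 (η.q B b)
    rw [← Polynomial.hom_eval₂] at hP0
    have ht : η.t B (Polynomial.eval₂ f b P) = 0 := congrArg Subtype.val hP0
    obtain ⟨n, hn⟩ := Groth.Agent.H69.isNilpotent_of_t_eq_zero η B _ ht
    exact ⟨P ^ n, hP.pow n, by rw [Polynomial.eval₂_pow, hn]⟩
  · have h1 : Function.Surjective ((PrimeSpectrum.comap f) ∘ (PrimeSpectrum.comap (η.q B))) :=
      hf.comp hbB.2
    rw [← hsq] at h1
    intro Q
    obtain ⟨Q', hQ'⟩ := h1 (PrimeSpectrum.comap (η.q A) Q)
    exact ⟨Q', hbA.1 hQ'⟩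
  · have h1 : Function.Surjective ((PrimeSpectrum.comap (η.q A)) ∘ (PrimeSpectrum.comap g)) :=
      hbA.2.comp hgs
    rw [hsq] at h1
    exact Function.Surjective.of_comp h1

end Groth.Agent.S19577
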