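import Groth.Statements.S19578
import Groth.Agent.S13803

set_option autoImplicit false
universe u
open EtaPt

namespace Groth.Agent.S19578

/-- Let f : A → B be a homomorphism of commutative rings, each with only finitely many minimal primes,
and suppose the induced map M_η(f) : M_η(A) → M_η(B) is an isomorphism. Then Spec f is a bijection
between the prime ideals of B and of A, and for every prime q of B, with p = f⁻¹(q), there is a ring
map φ : k(q) → F(k(p)) whose composite with the residue field map k(p) → k(q) equals η_{k(p)}. Here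
η is the field-endofunctor datum of the pointwise construction, M_η(A) ⊆ ∏_p F(k(p)) the subring
attached to A with q_A : A → M_η(A), and M_η(f) : M_η(A) → M_η(B) the ring map induced by N_η(f),
pinned here as the ring map g compatible with N_η(f) under the two subring inclusions. -/
theorem result (η : EtaPt.FieldEndo.{u}) {A B : Type u} [CommRing A] [CommRing B]
    (hA : (minimalPrimes A).Finite) (hB : (minimalPrimes B).Finite) (f : A →+* B)
    (g : η.M A →+* η.M B) (hg : ∀ x : η.M A, ((g x : η.M B) : η.N B) = η.Nmap f (x : η.N A))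
    (hbij : Function.Bijective g) :
    Function.Bijective (PrimeSpectrum.comap f) ∧
      ∀ Q : PrimeSpectrum B,
        ∃ φ : Q.asIdeal.ResidueField →+* η.obj (PrimeSpectrum.comap f Q).asIdeal.ResidueField,
          φ.comp (Ideal.ResidueField.map (PrimeSpectrum.comap f Q).asIdeal Q.asIdeal f rfl) =
            η.eta (PrimeSpectrum.comap f Q).asIdeal.ResidueField := by
  have hcomm : g.comp (η.q A) = (η.q B).comp f := by
    refine RingHom.ext fun a => ?_
    apply Subtype.ext
    show ((g (η.q A a) : η.M B) : η.N B) = η.t B (f a)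
    rw [hg]
    exact η.Nmap_t_apply f a
  have hbA := Groth.Agent.S13803.result η A hA
  have hbB := Groth.Agent.S13803.result η B hB
  let e : η.M A ≃+* η.M B := RingEquiv.ofBijective g hbij
  have heg : ∀ x, e x = g x := fun _ => rfl
  have hgb : Function.Bijective (PrimeSpectrum.comap g) := by
    refine ⟨PrimeSpectrum.comap_injective_of_surjective g hbij.2, fun P => ?_⟩
    refine ⟨PrimeSpectrum.comap (e.symm : η.M B →+* η.M A) P, ?_⟩
    rw [← PrimeSpectrum.comap_comp_apply]
    have : (e.symm : η.M B →+* η.M A).comp g = RingHom.id _ := by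
      refine RingHom.ext fun x => ?_
      show e.symm (g x) = x
      rw [← heg, RingEquiv.symm_apply_apply]
    rw [this]
    rfl
  have hsq : (PrimeSpectrum.comap (η.q A)) ∘ (PrimeSpectrum.comap g) =
      (PrimeSpectrum.comap f) ∘ (PrimeSpectrum.comap (η.q B)) := by
    funext Q
    show PrimeSpectrum.comap (g.comp (η.q A)) Q = PrimeSpectrum.comap ((η.q B).comp f) Q
    rw [hcomm]
  have hfb : Function.Bijective (PrimeSpectrum.comap f) := by
    have h1 : Function.Bijective ((PrimeSpectrum.comap f) ∘ (PrimeSpectrum.comap (η.q B))) := by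
      rw [← hsq]
      exact hbA.1.comp hgb
    exact (Function.Bijective.of_comp_iff (PrimeSpectrum.comap f) hbB.1).mp h1
  refine ⟨hfb, fun Q => ?_⟩
  obtain ⟨Q', hQ'⟩ := hbB.1.2 Q
  obtain ⟨φA, hφA⟩ := hbA.2 (PrimeSpectrum.comap g Q')
  -- the ideals
  have hQQ' : Q.asIdeal = Q'.asIdeal.comap (η.q B) := by
    rw [← hQ']
    rfl
  have hQ'P' : Q'.asIdeal = (PrimeSpectrum.comap g Q').asIdeal.comap (e.symm : η.M B →+* η.M A) := by
    ext x
    show x ∈ Q'.asIdeal ↔ g (e.symm x) ∈ Q'.asIdeal
    rw [← heg, RingEquiv.apply_symm_apply]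
  have hIp : (PrimeSpectrum.comap (η.q A) (PrimeSpectrum.comap g Q')).asIdeal =
      (PrimeSpectrum.comap f Q).asIdeal.comap (RingHom.id A) := by
    have h1 := congrFun hsq Q'
    simp only [Function.comp_apply] at h1
    rw [h1, hQ']
    rfl
  refine ⟨(η.map (Ideal.ResidueField.map _ _ (RingHom.id A) hIp)).comp
    (φA.comp ((Ideal.ResidueField.map _ _ (e.symm : η.M B →+* η.M A) hQ'P').comp
      (Ideal.ResidueField.map _ _ (η.q B) hQQ'))), ?_⟩
  apply Ideal.ResidueField.ringHom_ext
  refine RingHom.ext fun a => ?_
  simp only [RingHom.comp_apply]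
  rw [Ideal.ResidueField.map_algebraMap, Ideal.ResidueField.map_algebraMap,
    Ideal.ResidueField.map_algebraMap]
  have h2 : (e.symm : η.M B →+* η.M A) (η.q B (f a)) = η.q A a := by
    have h3 : η.q B (f a) = g (η.q A a) := by
      have := congrArg (fun h => h a) hcomm
      exact this.symm
    rw [h3]
    show e.symm (g (η.q A a)) = η.q A a
    rw [← heg, RingEquiv.symm_apply_apply]
  rw [h2]
  have h4 := congrArg (fun h => h (algebraMap A _ a)) hφA
  simp only [RingHom.comp_apply] at h4
  rw [Ideal.ResidueField.map_algebraMap] at h4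
  rw [h4]
  have h5 := congrArg (fun h => h (algebraMap A _ a))
    (η.eta_natural (Ideal.ResidueField.map _ _ (RingHom.id A) hIp))
  simp only [RingHom.comp_apply] at h5
  rw [h5, Ideal.ResidueField.map_algebraMap]
  rfl

end Groth.Agent.S19578
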