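import Groth.Statements.S19583
import Mathlib
import Groth.Agent.S17086
import Groth.Agent.H73.FC_ZERO
import Groth.Agent.H41.FC_FL
import Groth.Agent.H41.FC_TF
import Groth.Agent.H27.FC_OI

set_option autoImplicit false
universe u
open Cyc

namespace Groth.Agent.S19583

open CategoryTheory CategoryTheory.Limits AlgebraicGeometry


section Main

variable {Z S S' : Scheme.{u}}
  (R : Type u) [CommRing R] [IsDomain R] [IsDiscreteValuationRing R]

/-- `Spec K ⟶ Spec R` hits the generic point. -/
theorem specK_apply (y : Spec (CommRingCat.of (FractionRing R))) :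
    (Spec.map (CommRingCat.ofHom (algebraMap R (FractionRing R)))) y =
      (⟨⊥, Ideal.isPrime_bot⟩ : PrimeSpectrum R) := by
  apply PrimeSpectrum.ext
  have hy : y.asIdeal = ⊥ := by
    rcases Ideal.eq_bot_or_top y.asIdeal with h | h
    · exact h
    · exact absurd h y.2.ne_top
  show Ideal.comap (algebraMap R (FractionRing R)) y.asIdeal = ⊥
  rw [hy, ← RingHom.ker_eq_comap_bot]
  exact (RingHom.injective_iff_ker_eq_bot _).mp (IsFractionRing.injective R (FractionRing R))

theorem part1 (𝓘 : S.IdealSheafData) (b : S' ⟶ S) (hb : BlowUp.IsBlowUp b 𝓘)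
    (f : Spec (CommRingCat.of R) ⟶ S)
    (hf : f.base ⟨⊥, Ideal.isPrime_bot⟩ ∉ (𝓘.support : Set ↥S)) :
    ∃! f' : Spec (CommRingCat.of R) ⟶ S', f' ≫ b = f := by
  apply hb.2
  haveI : IrreducibleSpace (Spec (CommRingCat.of R)) := inferInstance
  apply Groth.Agent.S17086.isEffCartier_of_pid
  · intro x
    exact ⟨R, inferInstance, inferInstance, inferInstance, 𝟙 _, inferInstance, ⟨x, rfl⟩⟩
  · intro h
    have h1 : (⟨⊥, Ideal.isPrime_bot⟩ : Spec (CommRingCat.of R)) ∈
        ((𝓘.comap f).support : Set (Spec (CommRingCat.of R))) := by rw [h]; exact Set.mem_univ _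
    rw [Scheme.IdealSheafData.support_comap] at h1
    exact hf h1

theorem part2 (a : Z ⟶ S) (𝓘 : S.IdealSheafData) (b : S' ⟶ S)
    (𝒥 : (pullback a b).IdealSheafData)
    (h𝒥 : ∀ (V : (pullback a b).affineOpens) (c : Γ(pullback a b, V.1)), c ∈ 𝒥.ideal V ↔
      BlowUp.KilledByPowerNear ((𝓘.comap a).comap (pullback.fst a b))
        (Coh.structureModule (pullback a b)) V c)
    (hfl : Flat (𝒥.subschemeι ≫ pullback.snd a b))
    (f : Spec (CommRingCat.of R) ⟶ S)
    (hf : f.base ⟨⊥, Ideal.isPrime_bot⟩ ∉ (𝓘.support : Set ↥S))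
    (f' : Spec (CommRingCat.of R) ⟶ S') (hf' : f' ≫ b = f)
    (j : Spec (CommRingCat.of (FractionRing R)) ⟶ Spec (CommRingCat.of R))
    (hj : j = Spec.map (CommRingCat.ofHom (algebraMap R (FractionRing R))))
    (e1 : a ≫ 𝟙 S = 𝟙 Z ≫ a) (e2 : (j ≫ f) ≫ 𝟙 S = j ≫ f) (e3 : f ≫ 𝟙 S = f' ≫ b) :
    (pullback.map a (j ≫ f) a f (𝟙 Z) j (𝟙 S) e1 e2).ker =
      𝒥.comap (pullback.map a f a b (𝟙 Z) f' (𝟙 S) e1 e3) := by
  subst hj
  obtain ⟨ϖ, hϖ⟩ := IsDiscreteValuationRing.exists_irreducible R
  set m := pullback.map a ((Spec.map (CommRingCat.ofHom (algebraMap R (FractionRing R)))) ≫ f) a f (𝟙 Z) (Spec.map (CommRingCat.ofHom (algebraMap R (FractionRing R)))) (𝟙 S) e1 e2 with hm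
  set h := pullback.map a f a b (𝟙 Z) f' (𝟙 S) e1 e3 with hh
  have hm1 : m ≫ pullback.fst a f = pullback.fst a ((Spec.map (CommRingCat.ofHom (algebraMap R (FractionRing R)))) ≫ f) :=
    (pullback.lift_fst _ _ _).trans (Category.comp_id _)
  have hm2 : m ≫ pullback.snd a f = pullback.snd a ((Spec.map (CommRingCat.ofHom (algebraMap R (FractionRing R)))) ≫ f) ≫ (Spec.map (CommRingCat.ofHom (algebraMap R (FractionRing R)))) := pullback.lift_snd _ _ _
  have hh1 : h ≫ pullback.fst a b = pullback.fst a f :=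
    (pullback.lift_fst _ _ _).trans (Category.comp_id _)
  have hh2 : h ≫ pullback.snd a b = pullback.snd a f ≫ f' := pullback.lift_snd _ _ _
  have pbm : IsPullback m (pullback.snd a ((Spec.map (CommRingCat.ofHom (algebraMap R (FractionRing R)))) ≫ f)) (pullback.snd a f) (Spec.map (CommRingCat.ofHom (algebraMap R (FractionRing R)))) := by
    refine IsPullback.of_right ?_ hm2 (IsPullback.of_hasPullback a f)
    rw [hm1]
    exact IsPullback.of_hasPullback a ((Spec.map (CommRingCat.ofHom (algebraMap R (FractionRing R)))) ≫ f)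
  have pbh : IsPullback h (pullback.snd a f) (pullback.snd a b) f' := by
    refine IsPullback.of_right ?_ hh2 (IsPullback.of_hasPullback a b)
    rw [hh1, hf']
    exact IsPullback.of_hasPullback a f
  apply le_antisymm
  · rw [Scheme.IdealSheafData.le_def]
    intro U c hc
    obtain ⟨n, hn⟩ := Groth.Agent.H27.FC_OI.OI R ϖ hϖ (pullback.snd a f) m _ pbm U c hc
    exact Groth.Agent.H41.FC_TF.TF R ϖ hϖ (pullback.snd a f) (𝒥.comap h)
      (Groth.Agent.H41.FC_FL.FL h (pullback.snd a f) (pullback.snd a b) f' pbh 𝒥 hfl) U c n hn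
  · rw [← Scheme.IdealSheafData.map_bot m, Scheme.IdealSheafData.le_map_iff_comap_le,
      ← Scheme.IdealSheafData.comap_comp]
    have hz : 𝒥.comap (m ≫ h) = ⊥ := by
      refine Groth.Agent.H73.FC_ZERO.ZERO 𝒥 _ h𝒥 (m ≫ h) ?_
      intro x hx
      rw [Scheme.IdealSheafData.support_comap, Scheme.IdealSheafData.support_comap] at hx
      have hx' : a (pullback.fst a b ((m ≫ h) x)) ∈ 𝓘.support := hx
      have hmor : (m ≫ h) ≫ pullback.fst a b ≫ a = pullback.snd a ((Spec.map (CommRingCat.ofHom (algebraMap R (FractionRing R)))) ≫ f) ≫ (Spec.map (CommRingCat.ofHom (algebraMap R (FractionRing R)))) ≫ f := by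
        rw [Category.assoc, ← Category.assoc h, hh1, ← Category.assoc, hm1, pullback.condition]
      have e := congrArg (fun φ : pullback a ((Spec.map (CommRingCat.ofHom (algebraMap R (FractionRing R)))) ≫ f) ⟶ S => φ x) hmor
      simp only [Scheme.Hom.comp_apply] at e hx'
      rw [e, specK_apply] at hx'
      exact hf hx'
    rw [hz]

end Main

open CategoryTheory CategoryTheory.Limits AlgebraicGeometry in
/-- Let S be a separated Noetherian scheme, p : X → S a morphism from a separated scheme X (no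
finiteness condition), ι : Z → X a closed immersion, and b : S' → S a blowing up of S in a
quasi-coherent ideal with support S₀ such that (1) b restricts to a bijection between the generic
points of the irreducible components of S' and of S and (2) the strict transform Z~ of Z — the
closed subscheme of Z ×_S S' whose ideal consists, on each affine open, of the functions annihilated
by a power of the pulled-back centre — is flat over S'. Let R be a discrete valuation ring with
fraction field K and f : Spec R → S a morphism sending the generic point of Spec R into S ∖ S₀. Then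
f factors uniquely through b, and for the factorisation f' : Spec R → S' the flat closure φ_f(Z) ⊆ Z
×_S Spec R (the scheme-theoretic image of Z ×_S Spec K) coincides with Spec R ×_{S'} Z~: its ideal
sheaf equals the inverse image of the ideal of Z~ under the map Z ×_S Spec R → Z ×_S S' induced by
f'. -/
theorem result {X S Z S' : Scheme.{u}} [IsNoetherian S] [S.IsSeparated] [X.IsSeparated]
    (p : X ⟶ S) (ι : Z ⟶ X) [IsClosedImmersion ι]
    (𝓘 : S.IdealSheafData) (b : S' ⟶ S) (hb : BlowUp.IsBlowUp b 𝓘)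
    (hgen : Set.BijOn b.base {s' : ↥S' | closure {s'} ∈ irreducibleComponents ↥S'} {s : ↥S | closure {s} ∈ irreducibleComponents ↥S})
    (𝒥 : (pullback (ι ≫ p) b).IdealSheafData)
    (h𝒥 : ∀ (V : (pullback (ι ≫ p) b).affineOpens) (a : Γ(pullback (ι ≫ p) b, V.1)), a ∈ 𝒥.ideal V ↔
      BlowUp.KilledByPowerNear ((𝓘.comap (ι ≫ p)).comap (pullback.fst (ι ≫ p) b)) (Coh.structureModule (pullback (ι ≫ p) b)) V a)
    [Flat (𝒥.subschemeι ≫ pullback.snd (ι ≫ p) b)]
    (R : Type u) [CommRing R] [IsDomain R] [IsDiscreteValuationRing R] (f : Spec (CommRingCat.of R) ⟶ S)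
    (hf : f.base ⟨⊥, Ideal.isPrime_bot⟩ ∉ (𝓘.support : Set ↥S)) :
    (∃! f' : Spec (CommRingCat.of R) ⟶ S', f' ≫ b = f) ∧
      ∀ (f' : Spec (CommRingCat.of R) ⟶ S') (hf' : f' ≫ b = f),
        (pullback.map (ι ≫ p) (Spec.map (CommRingCat.ofHom (algebraMap R (FractionRing R))) ≫ f) (ι ≫ p) f (𝟙 Z) (Spec.map (CommRingCat.ofHom (algebraMap R (FractionRing R)))) (𝟙 S) ((Category.comp_id _).trans (Category.id_comp _).symm) (Category.comp_id _)).ker = 𝒥.comap (pullback.map (ι ≫ p) f (ι ≫ p) b (𝟙 Z) f' (𝟙 S) ((Category.comp_id _).trans (Category.id_comp _).symm) ((Category.comp_id f).trans hf'.symm)) := by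
  refine ⟨part1 R 𝓘 b hb f hf, ?_⟩
  intro f' hf'
  exact part2 R (ι ≫ p) 𝓘 b 𝒥 h𝒥 inferInstance f hf f' hf' _ rfl _ _ _

end Groth.Agent.S19583
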