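import Groth.Statements.S1959
import Mathlib.RingTheory.IntegralClosure.Algebra.Ideal
-- import your own Groth.Agent.* helpers here

set_option autoImplicit false
universe u
open Polynomial
open EtAlg

namespace Groth.Agent.S1959

/-- Let I be an ideal of a ring A, A -> B an integral ring map and b an element of B whose image in B/IB
is idempotent. Then there are d ≥ 1 and a monic polynomial f over A with f(b) = 0 whose reduction
modulo I is x^d (x - 1)^d. -/
theorem result (A B : Type u) [CommRing A] [CommRing B] [Algebra A B]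
    [Algebra.IsIntegral A B] (I : Ideal A) (b : B)
    (hb : IsIdempotentElem (Ideal.Quotient.mk (I.map (algebraMap A B)) b)) :
    ∃ (f : A[X]) (d : ℕ), f.Monic ∧ 1 ≤ d ∧ aeval b f = 0 ∧
      f.map (Ideal.Quotient.mk I) = X ^ d * (X - 1) ^ d := by
  have hz : b ^ 2 - b ∈ I.map (algebraMap A B) := by
    rw [← Ideal.Quotient.eq_zero_iff_mem, map_sub, map_pow, pow_two, hb.eq, sub_self]
  obtain ⟨g, hg, hgz, hgI⟩ := Polynomial.exists_monic_aeval_eq_zero_forall_mem_of_mem_map hz
  have hgmap : g.map (Ideal.Quotient.mk I) = X ^ g.natDegree := by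
    ext i
    rw [coeff_map, coeff_X_pow]
    split_ifs with h
    · rw [h, hg.coeff_natDegree, map_one]
    · exact Ideal.Quotient.eq_zero_iff_mem.mpr (hgI i h)
  have hq : (X ^ 2 - X : A[X]) = X * (X - C 1) := by simp; ring
  refine ⟨(X * g).comp (X ^ 2 - X), g.natDegree + 1, ?_, by omega, ?_, ?_⟩
  · rcases subsingleton_or_nontrivial A with h | h
    · exact monic_of_subsingleton _
    · refine (monic_X.mul hg).comp ?_ ?_
      · rw [hq]; exact monic_X.mul (monic_X_sub_C 1)
      · rw [hq, natDegree_X_mul (X_sub_C_ne_zero 1), natDegree_X_sub_C]; omega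
  · rw [aeval_comp]
    simp [hgz]
  · rw [Polynomial.map_comp, Polynomial.map_mul, hgmap]
    have h2 : (X ^ 2 - X : (A ⧸ I)[X]) = X * (X - 1) := by ring
    simp only [Polynomial.map_sub, Polynomial.map_pow, map_X, mul_comp, X_comp, pow_comp]
    rw [h2, ← mul_pow, ← pow_succ']

end Groth.Agent.S1959
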