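import Groth.Statements.S19590
import Mathlib.Algebra.Ring.GeomSum
import Mathlib.Data.ZMod.Basic
import Mathlib.GroupTheory.OrderOfElement
import Mathlib.Tactic.NoncommRing
import Mathlib.RingTheory.Coprime.Lemmas
import Mathlib.RingTheory.Int.Basic
import Mathlib.Tactic.Ring
import Mathlib.Tactic.Linarith

set_option autoImplicit false
open BddFin

namespace Groth.Agent.S19590


section Helpers

variable {n : ℕ}

/-- all entries divisible by `3 ^ j` -/
def D (j : ℕ) (M : Matrix (Fin n) (Fin n) ℤ) : Prop := ∀ a b, (3 : ℤ) ^ j ∣ M a b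

lemma D_zero (M : Matrix (Fin n) (Fin n) ℤ) : D 0 M := fun a b => by simp

lemma D_mul {i j : ℕ} {M N : Matrix (Fin n) (Fin n) ℤ} (hM : D i M) (hN : D j N) :
    D (i + j) (M * N) := by
  intro a b
  rw [Matrix.mul_apply]
  apply Finset.dvd_sum
  intro c _
  rw [pow_add]
  exact mul_dvd_mul (hM a c) (hN c b)

lemma D_mono {i j : ℕ} (h : i ≤ j) {M : Matrix (Fin n) (Fin n) ℤ} (hM : D j M) : D i M :=
  fun a b => (pow_dvd_pow 3 h).trans (hM a b)

lemma exists_expansion (M : Matrix (Fin n) (Fin n) ℤ) (q : ℕ) :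
    ∃ P : Matrix (Fin n) (Fin n) ℤ, (1 + M) ^ q = 1 + (q : ℤ) • M + M * M * P := by
  induction q with
  | zero => exact ⟨0, by simp⟩
  | succ q ih =>
    obtain ⟨P, hP⟩ := ih
    refine ⟨P + (q : ℤ) • 1 + P * M, ?_⟩
    rw [pow_succ, hP]
    push_cast
    noncomm_ring
    rw [add_smul, one_smul]
    abel

lemma eq_zero_of_forall_D {M : Matrix (Fin n) (Fin n) ℤ} (h : ∀ j, D j M) : M = 0 := by
  ext a b
  by_contra hne
  have hne' : M a b ≠ 0 := hne
  have h1 := h (M a b).natAbs a b
  have h2 : ((3 : ℤ) ^ (M a b).natAbs).natAbs ≤ (M a b).natAbs :=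
    Int.natAbs_le_of_dvd_ne_zero h1 hne'
  rw [Int.natAbs_pow] at h2
  have h3 : (M a b).natAbs < 3 ^ (M a b).natAbs := Nat.lt_pow_self (by norm_num)
  have h4 : (3 : ℤ).natAbs = 3 := rfl
  rw [h4] at h2
  omega

lemma step_three {M : Matrix (Fin n) (Fin n) ℤ} {j : ℕ} (hj : 1 ≤ j) (hM : D j M)
    (h : (1 + M) ^ 3 = 1) : D (j + 1) M := by
  have hexp : (1 + M) ^ 3 = 1 + (3 : ℤ) • M + (3 : ℤ) • (M * M) + M * M * M := by noncomm_ring
  rw [hexp] at h
  have h2 : (3 : ℤ) • M = -((3 : ℤ) • (M * M) + M * M * M) := by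
    have : (3 : ℤ) • M + ((3 : ℤ) • (M * M) + M * M * M) = 0 := by
      have h' := congrArg (fun X => X - 1) h
      simp only [sub_self] at h'
      rw [← h']; abel
    exact eq_neg_of_add_eq_zero_left this
  intro a b
  have hMM : D (j + j) (M * M) := D_mul hM hM
  have hMMM : D (j + j + j) (M * M * M) := D_mul hMM hM
  have e := congrFun (congrFun h2 a) b
  simp only [Matrix.smul_apply, Matrix.neg_apply, Matrix.add_apply, smul_eq_mul] at e
  have d1 : (3 : ℤ) ^ (j + 2) ∣ 3 * (M * M) a b := by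
    have : (3 : ℤ) ^ (j + 2) ∣ 3 * 3 ^ (j + j) := by
      rw [← pow_succ']; exact pow_dvd_pow 3 (by omega)
    exact this.trans (mul_dvd_mul_left 3 (hMM a b))
  have d2 : (3 : ℤ) ^ (j + 2) ∣ (M * M * M) a b :=
    (pow_dvd_pow 3 (by omega)).trans (hMMM a b)
  have d3 : (3 : ℤ) ^ (j + 2) ∣ 3 * M a b := by
    rw [e]; exact (dvd_add d1 d2).neg_right
  have : (3 : ℤ) * 3 ^ (j + 1) ∣ 3 * M a b := by rwa [← pow_succ']
  exact (mul_dvd_mul_iff_left (by norm_num : (3 : ℤ) ≠ 0)).mp this

lemma step_ne_three {M : Matrix (Fin n) (Fin n) ℤ} {j q : ℕ} (hq : q.Prime) (hq3 : q ≠ 3)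
    (hj : 1 ≤ j) (hM : D j M) (h : (1 + M) ^ q = 1) : D (j + 1) M := by
  obtain ⟨P, hP⟩ := exists_expansion M q
  rw [hP] at h
  have h2 : (q : ℤ) • M = -(M * M * P) := by
    have : (q : ℤ) • M + M * M * P = 0 := by
      have h' := congrArg (fun X => X - 1) h
      simp only [sub_self] at h'
      rw [← h']; abel
    exact eq_neg_of_add_eq_zero_left this
  intro a b
  have hMMP : D (j + j + 0) (M * M * P) := D_mul (D_mul hM hM) (D_zero P)
  have e := congrFun (congrFun h2 a) b
  simp only [Matrix.smul_apply, Matrix.neg_apply, smul_eq_mul] at e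
  have d1 : (3 : ℤ) ^ (j + 1) ∣ (q : ℤ) * M a b := by
    rw [e]
    exact ((pow_dvd_pow 3 (by omega)).trans (hMMP a b)).neg_right
  have hcop : IsCoprime ((3 : ℤ) ^ (j + 1)) (q : ℤ) := by
    apply IsCoprime.pow_left
    have : Nat.Coprime 3 q := (Nat.coprime_primes Nat.prime_three hq).mpr (Ne.symm hq3)
    exact_mod_cast Nat.isCoprime_iff_coprime.mpr this
  exact hcop.dvd_of_dvd_mul_left d1

lemma prime_case {M : Matrix (Fin n) (Fin n) ℤ} {q : ℕ} (hq : q.Prime) (hM : D 1 M)
    (h : (1 + M) ^ q = 1) : M = 0 := by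
  apply eq_zero_of_forall_D
  have key : ∀ j, D (j + 1) M := by
    intro j
    induction j with
    | zero => exact hM
    | succ j ih =>
      by_cases hq3 : q = 3
      · subst hq3; exact step_three (by omega) ih h
      · exact step_ne_three hq hq3 (by omega) ih h
  intro j
  exact D_mono (Nat.le_succ j) (key j)

lemma D_one_pow_sub_one {M : Matrix (Fin n) (Fin n) ℤ} (hM : D 1 M) (k : ℕ) :
    D 1 ((1 + M) ^ k - 1) := by
  have := mul_geom_sum (1 + M) k
  rw [add_sub_cancel_left] at this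
  rw [← this]
  exact D_mul (j := 0) hM (D_zero _)

lemma torsion_case : ∀ (m : ℕ), 0 < m → ∀ M : Matrix (Fin n) (Fin n) ℤ, D 1 M →
    (1 + M) ^ m = 1 → M = 0 := by
  intro m
  induction m using Nat.strong_induction_on with
  | _ m ih =>
    intro hm M hM h
    by_cases h1 : m = 1
    · subst h1; simpa using h
    · have hq : (m.minFac).Prime := Nat.minFac_prime h1
      obtain ⟨m', hm'⟩ := Nat.minFac_dvd m
      have hm'pos : 0 < m' := by
        rcases Nat.eq_zero_or_pos m' with h0 | h0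
        · rw [h0, mul_zero] at hm'; omega
        · exact h0
      have hm'lt : m' < m := by
        rw [hm']
        have := hq.two_le
        nlinarith
      set N := (1 + M) ^ m' - 1 with hN
      have hDN : D 1 N := D_one_pow_sub_one hM m'
      have hNq : (1 + N) ^ m.minFac = 1 := by
        rw [hN, add_sub_cancel, ← pow_mul, mul_comm, ← hm', h]
      have hN0 : N = 0 := prime_case hq hDN hNq
      have : (1 + M) ^ m' = 1 := by
        rw [hN, sub_eq_zero] at hN0; exact hN0
      exact ih m' hm'lt hm'pos M hM this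

end Helpers

/-- For every n, the orders of the finite subgroups of GL_n(ℤ) are bounded: there is B such that every
finite subgroup of GL_n(ℤ) has at most B elements. -/
theorem result (n : ℕ) :
    ∃ B : ℕ, ∀ H : Subgroup (Matrix.GeneralLinearGroup (Fin n) ℤ), Finite H → Nat.card H ≤ B := by
  classical
  let ρ : Matrix (Fin n) (Fin n) ℤ →+* Matrix (Fin n) (Fin n) (ZMod 3) :=
    (Int.castRingHom (ZMod 3)).mapMatrix
  let φ : Matrix.GeneralLinearGroup (Fin n) ℤ →* (Matrix (Fin n) (Fin n) (ZMod 3))ˣ :=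
    Units.map ρ.toMonoidHom
  refine ⟨Nat.card (Matrix (Fin n) (Fin n) (ZMod 3))ˣ, ?_⟩
  intro H hH
  have hinj : Function.Injective (φ.comp H.subtype) := by
    rw [injective_iff_map_eq_one]
    intro h hh
    have hfin : IsOfFinOrder h := isOfFinOrder_of_finite h
    obtain ⟨m, hm, hpow⟩ := isOfFinOrder_iff_pow_eq_one.mp hfin
    set A : Matrix (Fin n) (Fin n) ℤ := ((h : Matrix.GeneralLinearGroup (Fin n) ℤ) : Matrix (Fin n) (Fin n) ℤ) with hA
    have hAm : A ^ m = 1 := by
      have := congrArg (fun x : H => ((x : Matrix.GeneralLinearGroup (Fin n) ℤ) : Matrix (Fin n) (Fin n) ℤ)) hpow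
      simpa using this
    have hρ : ρ A = 1 := by
      have := congrArg (fun x : (Matrix (Fin n) (Fin n) (ZMod 3))ˣ => (x : Matrix (Fin n) (Fin n) (ZMod 3))) hh
      simpa [φ] using this
    have hD : D 1 (A - 1) := by
      intro a b
      have := congrFun (congrFun hρ a) b
      have h2 : ((A - 1) a b : ZMod 3) = 0 := by
        simp only [ρ, RingHom.mapMatrix_apply, Matrix.map_apply, Int.coe_castRingHom] at this
        rw [Matrix.sub_apply]
        push_cast
        rw [this]
        by_cases hab : a = b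
        · subst hab; simp
        · simp [Matrix.one_apply_ne hab]
      rw [pow_one]
      exact (ZMod.intCast_zmod_eq_zero_iff_dvd _ 3).mp h2
    have hA1 : A - 1 = 0 := torsion_case m hm (A - 1) hD (by rw [add_sub_cancel]; exact hAm)
    have hA1' : A = 1 := sub_eq_zero.mp hA1
    apply Subtype.ext
    apply Units.ext
    exact hA1'
  exact Nat.card_le_card_of_injective _ hinj

end Groth.Agent.S19590
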