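import Groth.Statements.S19591
import Mathlib

set_option autoImplicit false
universe u v
open BddFin

namespace Groth.Agent.S19591

/-- Let K be a perfect field of characteristic 2, V a finite-dimensional K-vector space with dim V > 2
and q a quadratic form on V whose polar bilinear form is non-degenerate. Then q represents zero
non-trivially. (Non-degeneracy of the polar form, which is alternating in characteristic 2, forces
dim V to be even, as the published lemma notes.) -/
theorem result
    (K : Type u) [Field K] [CharP K 2] [PerfectField K]
    (V : Type v) [AddCommGroup V] [Module K V] [FiniteDimensional K V]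
    (hV : 2 < Module.finrank K V) (q : QuadraticForm K V)
    (hq : (QuadraticMap.polarBilin q).Nondegenerate) :
    ∃ v : V, v ≠ 0 ∧ q v = 0 := by
  classical
  set B := QuadraticMap.polarBilin q with hB
  haveI : Nontrivial V := Module.nontrivial_of_finrank_pos (R := K) (by omega)
  obtain ⟨v, hv⟩ := exists_ne (0 : V)
  by_cases hqv : q v = 0
  · exact ⟨v, hv, hqv⟩
  -- the functional B v
  set φ : V →ₗ[K] K := B v with hφ
  have hker : Module.finrank K V ≤ Module.finrank K (LinearMap.ker φ) + 1 := by
    have h1 := LinearMap.finrank_range_add_finrank_ker φ
    have h2 : Module.finrank K (LinearMap.range φ) ≤ 1 := by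
      have := Submodule.finrank_le (LinearMap.range φ)
      simpa using this
    omega
  have hspan : Module.finrank K (Submodule.span K {v}) = 1 := finrank_span_singleton hv
  have hnot : ¬ (LinearMap.ker φ ≤ Submodule.span K {v}) := by
    intro hle
    have := Submodule.finrank_mono hle
    omega
  obtain ⟨w, hwker, hwspan⟩ := Set.not_subset.mp hnot
  have hvw : QuadraticMap.polar q v w = 0 := by
    have : φ w = 0 := hwker
    simpa [hφ, hB] using this
  -- square root
  haveI : Fact (Nat.Prime 2) := ⟨Nat.prime_two⟩
  haveI : ExpChar K 2 := ExpChar.prime Nat.prime_two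
  haveI : PerfectRing K 2 := PerfectField.toPerfectRing 2
  obtain ⟨c, hc⟩ := (bijective_frobenius K 2).surjective (q w / q v)
  rw [frobenius_def] at hc
  refine ⟨c • v + w, ?_, ?_⟩
  · intro h0
    apply hwspan
    have : w = (-c) • v := by
      rw [neg_smul]; exact eq_neg_of_add_eq_zero_right h0
    rw [this]
    exact Submodule.smul_mem _ _ (Submodule.subset_span rfl)
  · rw [QuadraticMap.map_add (⇑q), QuadraticMap.map_smul, QuadraticMap.polar_smul_left, hvw]
    have h2 : c * c = q w / q v := by rw [← hc]; ring
    rw [h2]
    simp only [smul_eq_mul, mul_zero, add_zero]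
    rw [div_mul_cancel₀ _ hqv]
    exact CharTwo.add_self_eq_zero _

end Groth.Agent.S19591
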