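import Groth.Statements.S19593
import Groth.Agent.S5732
import Groth.Agent.H41.FundMap
import Groth.Agent.H41.SymGraded2
import Groth.Agent.H41.DegOneMod
import Groth.Agent.H41.RelTwistInv
import Groth.Agent.H41.RelTwistXf
import Groth.Agent.H18.TensorPowIso
import Groth.Agent.H18.TwistAmple
import Groth.Agent.H22.PullGen

set_option autoImplicit false
universe u
open CategoryTheory AlgebraicGeometry
open PicF

namespace Groth.Agent.S19593

open TopologicalSpace Opposite in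
/-- The statement without properness. -/
theorem aux (k : Type u) [Field k] [Infinite k] (Y : Scheme.{u})
    (f : Y ⟶ Spec (CommRingCat.of k)) (A : Y.Modules) (hA : RelProj.IsRelVeryAmple f A)
    (ι : Type) [Finite ι] (y : ι → ↥Y) :
    ∃ s : Coh.structureModule Y ⟶ A, ∀ i : ι, y i ∈ CohB1.genLocus A s := by
  classical
  obtain ⟨E, hE, 𝒮, j, hj, P, p, chart, hP, O1, lam, hO1, i, hi, hip, ⟨e⟩⟩ := hA
  have hEq : E.IsQuasicoherent := hE
  have hT : IsAffineOpen (⊤ : (Spec (CommRingCat.of k)).Opens) := isAffineOpen_top _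
  have hgen := Groth.Agent.H41.SymGraded.isGenDegOne_of_isGrSymAlg 𝒮 j hj
  have hO1inv : PicF.IsInvertible O1 :=
    Groth.Agent.H41.RelTwistInv.isInvertible_of_isGenDegOne 𝒮 p chart 1 O1 lam hO1 hgen
  have hjdeg : ∀ (U : (Spec (CommRingCat.of k)).Opens) (hU : IsAffineOpen U) (x : Γ(E, U)),
      ((j.app U) x : 𝒮.presheaf.obj (op U)) ∈ 𝒮.deg U hU 1 := fun U hU x => hj.2 U hU x
  let φ := Groth.Agent.H41.FundMap.fundMap 𝒮 p chart 1 O1 lam hO1 hP E j hjdeg
  let z : ι → ProjectiveSpectrum (𝒮.deg ⊤ hT) := fun a =>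
    (chart ⊤ hT).hom.base ⟨i.base (y a), (show i.base (y a) ∈ p ⁻¹ᵁ ⊤ from trivial)⟩
  have hz : ∀ a, (RelProj.emb p chart ⊤ hT).base (z a) = i.base (y a) := fun a =>
    congrArg (fun ψ : (↑(p ⁻¹ᵁ ⊤) : Scheme.{u}) ⟶ P => ψ.base ⟨i.base (y a), trivial⟩)
      (Groth.Agent.H41.RelTwistXf.chart_hom_comp_emb 𝒮 p chart ⊤ hT)
  let ρ : k →+* Γ(Spec (CommRingCat.of k), ⊤) := (Scheme.ΓSpecIso (CommRingCat.of k)).inv.hom
  let _ : Module k Γ(E, ⊤) := Module.compHom _ ρ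
  let H : ι → Submodule k Γ(E, ⊤) := fun a =>
    { carrier := {x | Groth.Agent.H22.toB 𝒮.toQCAlg ⊤ ((j.app ⊤) x) ∈
        (z a).asHomogeneousIdeal.toIdeal}
      add_mem' := by
        intro x x' hx hx'
        show Groth.Agent.H22.toB 𝒮.toQCAlg ⊤ ((j.app ⊤) (x + x')) ∈
          (z a).asHomogeneousIdeal.toIdeal
        rw [map_add, Groth.Agent.H41.DegOneMod.toB_add']
        exact Ideal.add_mem _ hx hx'
      zero_mem' := by
        show Groth.Agent.H22.toB 𝒮.toQCAlg ⊤ ((j.app ⊤) 0) ∈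
          (z a).asHomogeneousIdeal.toIdeal
        rw [map_zero, Groth.Agent.H22.toB_zero]
        exact zero_mem _
      smul_mem' := by
        intro c x hx
        show Groth.Agent.H22.toB 𝒮.toQCAlg ⊤ ((j.app ⊤) (ρ c • x)) ∈
          (z a).asHomogeneousIdeal.toIdeal
        rw [Scheme.Modules.Hom.app_smul, Groth.Agent.H22.toB_smul]
        exact Ideal.mul_mem_left _ _ hx }
  have hne : ∀ a, H a ≠ ⊤ := by
    intro a htop
    obtain ⟨e₁, he₁⟩ := Groth.Agent.S5732.exists_not_mem E hE 𝒮 j hj ⊤ hT (z a)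
    have hmem : e₁ ∈ H a := by rw [htop]; exact Submodule.mem_top
    exact he₁ hmem
  obtain ⟨e₀, he₀⟩ : ∃ e₀ : Γ(E, ⊤), ∀ a, e₀ ∉ H a := by
    by_contra hcon
    push Not at hcon
    have hcov : ⋃ a, ((H a : Submodule k Γ(E, ⊤)) : Set Γ(E, ⊤)) = Set.univ :=
      Set.eq_univ_of_forall fun x => Set.mem_iUnion.mpr (hcon x)
    obtain ⟨a, ha⟩ := Subspace.exists_eq_top_of_iUnion_eq_univ hcov
    exact hne a ha
  have he₀' : ∀ a, ((j.app ⊤) e₀ : 𝒮.presheaf.obj (op ⊤)) ∉ (z a).asHomogeneousIdeal :=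
    fun a hmem => he₀ a hmem
  let t : Γ(O1, p ⁻¹ᵁ ⊤) := φ.app ⊤ e₀
  have htop : (⊤ : P.Opens) ≤ p ⁻¹ᵁ ⊤ := fun _ _ => trivial
  let σ : Coh.structureModule P ⟶ O1 :=
    Groth.Agent.H18.TensorPowIso.secHom O1 (O1.presheaf.map (homOfLE htop).op t)
  let V : P.Opens := RelProj.emb p chart ⊤ hT ''ᵁ
    (Proj.basicOpen (𝒮.deg ⊤ hT) ((j.app ⊤) e₀ : 𝒮.presheaf.obj (op ⊤)))
  have hVU : V ≤ p ⁻¹ᵁ ⊤ := fun _ _ => trivial
  have hμ : Groth.Agent.H18.TensorGen.IsGen O1 V (O1.presheaf.map (homOfLE hVU).op t) := by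
    intro V' hV'
    have hr := Groth.Agent.H41.FundMap.fundMap_reads 𝒮 p chart 1 O1 lam hO1 hP E j hjdeg ⊤ hT e₀
    have hr' := Groth.Agent.H41.RelTwistXf.ReadsFrac.res 𝒮 p chart 1 O1 lam (hV'.trans hVU) hr
    have hux : ∀ x' : (RelProj.emb p chart ⊤ hT ⁻¹ᵁ V' : (Proj (𝒮.deg ⊤ hT)).Opens),
        ((j.app ⊤) e₀ : 𝒮.presheaf.obj (op ⊤)) ∉ x'.1.asHomogeneousIdeal := by
      intro x'
      have h2 : x'.1 ∈ RelProj.emb p chart ⊤ hT ⁻¹ᵁ (RelProj.emb p chart ⊤ hT ''ᵁ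
          (Proj.basicOpen (𝒮.deg ⊤ hT) ((j.app ⊤) e₀ : 𝒮.presheaf.obj (op ⊤)))) := hV' x'.2
      rw [(RelProj.emb p chart ⊤ hT).preimage_image_eq] at h2
      exact (ProjectiveSpectrum.mem_basicOpen (𝒮.deg ⊤ hT) _ x'.1).mp h2
    have hb := Groth.Agent.H41.RelTwistXf.ReadsFrac.bijective_smul 𝒮 p chart 1 O1 lam hO1
      (hV'.trans hVU)
      (⟨((j.app ⊤) e₀ : 𝒮.presheaf.obj (op ⊤)), hj.2 ⊤ hT e₀⟩ : 𝒮.deg ⊤ hT 1)
      (⟨1, SetLike.GradedOne.one_mem⟩ : 𝒮.deg ⊤ hT 0) (by norm_num) hux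
      (Groth.Agent.H41.FundMap.one_not_mem 𝒮 p chart ⊤ hT _) hr'
    have he : (fun r : Γ(P, V') => r • O1.presheaf.map (homOfLE hV').op
        (O1.presheaf.map (homOfLE hVU).op t)) =
        fun r : Γ(P, V') => r • O1.presheaf.map (homOfLE (hV'.trans hVU)).op t := by
      funext r
      rw [Groth.Agent.H8.res_res]
    rw [he]
    exact hb
  have ha : Groth.Agent.H18.SecTw.sv σ V =
      (1 : Γ(P, V)) • O1.presheaf.map (homOfLE hVU).op t := by
    rw [one_smul, Groth.Agent.H18.TensorPowIso.sv_secHom, Groth.Agent.H8.res_res]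
  refine ⟨Groth.Agent.H22.PullGen.pbSec i σ ≫ e.inv, fun a => ?_⟩
  have e1 : CohB1.genLocus A (Groth.Agent.H22.PullGen.pbSec i σ ≫ e.inv) =
      CohB1.genLocus _ (Groth.Agent.H22.PullGen.pbSec i σ) :=
    Groth.Agent.H18.TwistAmple.genLocus_comp_iso (Groth.Agent.H22.PullGen.pbSec i σ) e.symm
  rw [e1, Groth.Agent.H22.PullGen.mem_genLocus_pbSec i hO1inv σ (y a)]
  have hzV : (RelProj.emb p chart ⊤ hT).base (z a) ∈ V :=
    ⟨z a, (ProjectiveSpectrum.mem_basicOpen (𝒮.deg ⊤ hT) _ (z a)).mpr (he₀' a), rfl⟩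
  have hgoal : (RelProj.emb p chart ⊤ hT).base (z a) ∈ CohB1.genLocus O1 σ := by
    rw [Groth.Agent.H18.TensorGen.mem_genLocus_iff_of_isGen σ hμ 1 ha _ hzV,
      P.basicOpen_of_isUnit isUnit_one]
    exact hzV
  rw [hz a] at hgoal
  exact hgoal


/-- Let k be an infinite field, Y a scheme proper over k with a relatively very ample O_Y-module A (the
pullback of O(1) along an immersion of Y into the Proj of a symmetric algebra over k), and y_1, …,
y_m finitely many points of Y. Then some global section of A generates A at every y_i. (The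
published statement takes Y projective over k and A a very ample line bundle; here Y is proper over
k and A very ample relative to Y → Spec k, which makes Y projective.) -/
theorem result
    (k : Type u) [Field k] [Infinite k] (Y : Scheme.{u}) (f : Y ⟶ Spec (CommRingCat.of k)) [IsProper f]
    (A : Y.Modules) (hA : RelProj.IsRelVeryAmple f A)
    (ι : Type) [Finite ι] (y : ι → ↥Y) :
    ∃ s : Coh.structureModule Y ⟶ A, ∀ i : ι, y i ∈ CohB1.genLocus A s := by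
  exact aux k Y f A hA ι y

end Groth.Agent.S19593
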