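import Groth.Statements.S19595
import Mathlib
import Groth.Agent.H76.NodeAlg
import Groth.Agent.H76.PSFix
-- import your own Groth.Agent.* helpers here

set_option autoImplicit false
universe u
open ArLef

namespace Groth.Agent.S19595

open Groth.Agent.H76.NodeAlg Groth.Agent.H76.PSFix


/-- In the case of a smooth point lying on the divisorial part of the fixed locus with multiplicity i
strictly between 0 and j, let B be a discrete valuation ring with uniformizer π and residue field k,
B[[t]] the complete local ring of a semi-stable arithmetic surface over B at a point x where the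
closed fibre is smooth, and σ a ring automorphism of B[[t]] with σ(π) = π + γ π^j (γ a unit of B, j
≥ 1) and σ(b) - b ∈ π^j B[[t]] for all b ∈ B (σ lies over an automorphism τ of B with v(τ(π) - π) =
j). Suppose σ(t) - t = π^i f with 0 < i < j and π not dividing f, so that the fixed-point ideal I of
σ is (π^j, π^i f) and its divisorial part near x is the closed fibre with multiplicity i. Then the
residual fixed-point scheme, with ideal (I : π^i), has length (j - i) m at x, where m is the length
of k[[t]]/(f mod π) (the order at x of the derivation induced by σ on the closed fibre). -/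
theorem result (B : Type u) [CommRing B] [IsDomain B] [IsDiscreteValuationRing B] (π : B) (hπ : Irreducible π)
    (j i : ℕ) (hi : 0 < i) (hij : i < j) (γ : B) (hγ : IsUnit γ)
    (σ : PowerSeries B ≃+* PowerSeries B)
    (hσB : ∀ b : B, σ (algebraMap B (PowerSeries B) b) - algebraMap B (PowerSeries B) b ∈
      Ideal.span ({algebraMap B (PowerSeries B) (π ^ j)} : Set (PowerSeries B)))
    (hσπ : σ (algebraMap B (PowerSeries B) π) = algebraMap B (PowerSeries B) (π + γ * π ^ j))
    (f : PowerSeries B) (hf : σ PowerSeries.X - PowerSeries.X = algebraMap B (PowerSeries B) (π ^ i) * f)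
    (hfπ : ¬ (algebraMap B (PowerSeries B) π ∣ f)) :
    Module.length (PowerSeries B) (PowerSeries B ⧸ (ArLef.fixIdeal σ).colon ({algebraMap B (PowerSeries B) (π ^ i)} : Set (PowerSeries B))) =
      ((j - i : ℕ) : ℕ∞) * Module.length (PowerSeries (IsLocalRing.ResidueField B)) (PowerSeries (IsLocalRing.ResidueField B) ⧸
        Ideal.span ({PowerSeries.map (IsLocalRing.residue B) f} : Set (PowerSeries (IsLocalRing.ResidueField B)))) := by
  classical
  have hC : ∀ b : B, algebraMap B (PowerSeries B) b = PowerSeries.C b := fun b => rfl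
  simp only [hC, map_pow] at hσB hσπ hf hfπ ⊢
  have hπ0 : PowerSeries.C π ≠ 0 := by
    intro h
    have h1 := congrArg PowerSeries.constantCoeff h
    rw [PowerSeries.constantCoeff_C, map_zero] at h1
    exact hπ.ne_zero h1
  have hsub : ∀ r, σ r - r ∈ ArLef.fixIdeal σ := fun r =>
    show σ r - r ∈ Ideal.span _ from Ideal.subset_span ⟨r, rfl⟩
  obtain ⟨d, rfl⟩ : ∃ d, j = i + d := ⟨j - i, by omega⟩
  have hfix : ArLef.fixIdeal σ = Ideal.span {PowerSeries.C π ^ i * f} ⊔
      Ideal.span {PowerSeries.C π ^ (i + d)} := by
    apply le_antisymm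
    · refine ps_fixIdeal_le σ _ ?_ ?_
      · intro b
        exact Ideal.mem_sup_right (hσB b)
      · rw [hf]; exact Ideal.mem_sup_left (Ideal.mem_span_singleton_self _)
    · refine sup_le ?_ ?_
      · rw [Ideal.span_le, Set.singleton_subset_iff, SetLike.mem_coe, ← hf]; exact hsub _
      · rw [Ideal.span_le, Set.singleton_subset_iff]
        obtain ⟨u', rfl⟩ := hγ
        have h1 := hsub (PowerSeries.C π)
        have h2 : σ (PowerSeries.C π) - PowerSeries.C π =
            PowerSeries.C (u' : B) * PowerSeries.C π ^ (i + d) := by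
          rw [hσπ, map_add, map_mul, map_pow]; ring
        have h3 : PowerSeries.C π ^ (i + d) = PowerSeries.C ((u'⁻¹ : Bˣ) : B) *
            (σ (PowerSeries.C π) - PowerSeries.C π) := by
          rw [h2, ← mul_assoc, ← map_mul, Units.inv_mul, map_one, one_mul]
        rw [SetLike.mem_coe, h3]; exact Ideal.mul_mem_left _ _ h1
  have hcolon : (ArLef.fixIdeal σ).colon
      ({algebraMap B (PowerSeries B) (π ^ i)} : Set (PowerSeries B)) =
      Ideal.span {f} ⊔ Ideal.span {PowerSeries.C π ^ d} := by
    ext x
    rw [Submodule.mem_colon_singleton, smul_eq_mul, hC, map_pow, hfix, mem_sup_span, mem_sup_span]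
    constructor
    · rintro ⟨y, hy, v, hxv⟩
      obtain ⟨u, rfl⟩ := Ideal.mem_span_singleton'.mp hy
      refine ⟨u * f, Ideal.mem_span_singleton'.mpr ⟨u, rfl⟩, v, ?_⟩
      apply mul_left_cancel₀ (pow_ne_zero i hπ0)
      rw [mul_comm, hxv, pow_add]; ring
    · rintro ⟨y, hy, v, rfl⟩
      obtain ⟨u, rfl⟩ := Ideal.mem_span_singleton'.mp hy
      exact ⟨u * (PowerSeries.C π ^ i * f), Ideal.mem_span_singleton'.mpr ⟨u, rfl⟩, v,
        by rw [pow_add]; ring⟩
  have hd : i + d - i = d := by omega
  rw [hcolon, hd]
  exact ps_length hπ f hfπ d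

end Groth.Agent.S19595
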