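import Groth.Statements.S19596
import Mathlib
import Groth.Agent.H76.NodeAlg
-- import your own Groth.Agent.* helpers here

set_option autoImplicit false
universe u
open ArLef ArLef.NodeAlg

namespace Groth.Agent.S19596

open Groth.Agent.H76.NodeAlg

theorem lenBase {R : Type*} [CommRing R] (T E a b : R)
    (hT : Prime T) (hE : Prime E) (hTE : ¬ T ∣ E) (hET : ¬ E ∣ T)
    (hone : Module.length R (R ⧸ Ideal.span {T, E}) = 1) :
    Module.length R (R ⧸ (Ideal.span {a * T, b * E} ⊔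
      Ideal.span {T ^ (0 + 1) * E ^ (0 + 1)})) =
      Module.length R (R ⧸ Ideal.span {E, a}) +
        (Module.length R (R ⧸ Ideal.span {T, b}) + 1) := by
  have e1 : Module.length R (R ⧸ (Ideal.span {a * T, b * E} ⊔
      Ideal.span {T ^ (0 + 1) * E ^ (0 + 1)})) =
      Module.length R (R ⧸ Ideal.span {a, E}) + Module.length R (R ⧸ Ideal.span {T, b * E}) := by
    apply length_step _ _ _ T
    · intro x hx
      obtain ⟨u, v, rfl⟩ := Ideal.mem_span_pair.mp hx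
      exact (mem_sup_span _ _ _).mpr
        ⟨u * (a * T), Ideal.mem_span_pair.mpr ⟨u, 0, by ring⟩, v, by ring⟩
    · intro x hx
      obtain ⟨y, hy, u, hxu⟩ := (mem_sup_span _ _ _).mp hx
      obtain ⟨v, w, rfl⟩ := Ideal.mem_span_pair.mp hy
      have h1 : E ∣ T * (x - v * a - u * E) := ⟨w * b, by linear_combination hxu⟩
      obtain ⟨z, hz⟩ := (hE.dvd_or_dvd h1).resolve_left hET
      exact Ideal.mem_span_pair.mpr ⟨v, u + z, by linear_combination (-1 : R) * hz⟩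
    · refine sup_le (Ideal.span_le.mpr ?_) (Ideal.span_le.mpr (Set.singleton_subset_iff.mpr ?_))
      · rintro w (hw | hw)
        · rw [hw]; exact Ideal.mem_span_pair.mpr ⟨a, 0, by ring⟩
        · rw [Set.mem_singleton_iff] at hw
          rw [hw]; exact Ideal.mem_span_pair.mpr ⟨0, 1, by ring⟩
      · exact Ideal.mem_span_pair.mpr ⟨E, 0, by ring⟩
    · intro x hx
      obtain ⟨u, w, rfl⟩ := Ideal.mem_span_pair.mp hx
      exact ⟨u, Ideal.mem_sup_left (Ideal.mem_span_pair.mpr ⟨0, w, by ring⟩)⟩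
    · intro z
      exact Ideal.mem_span_pair.mpr ⟨z, 0, by ring⟩
  rw [e1, lemA T E b hT hTE, hone, Ideal.span_pair_comm (x := a) (y := E)]

theorem stepT {R : Type*} [CommRing R] (T E a b γ D : R) (k₁ k₂ d₁ d₂ : ℕ)
    (hT : Prime T) (hE : Prime E) (hTE : ¬ T ∣ E) (hET : ¬ E ∣ T)
    (cT : ∀ x y, T * x = T * y → x = y) (cE : ∀ x y, E * x = E * y → x = y)
    (hβ : IsUnit (1 + D * b))
    (hrel : a + b + D * a * b = γ * T ^ (k₁ + 1 + d₁) * E ^ (k₂ + d₂))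
    (htb : ¬ T ∣ b) (hea : ¬ E ∣ a) (heb : 1 ≤ k₂ → ¬ E ∣ b)
    (I₀ : Ideal R) (hI₀ : I₀ = Ideal.span {a * T, b * E}) (c c' : R)
    (hc : c = T ^ (k₁ + 1) * E ^ (k₂ + 1)) (hc' : c' = T ^ (k₁ + 1 + 1) * E ^ (k₂ + 1)) :
    Module.length R (R ⧸ (I₀ ⊔ Ideal.span {c'})) =
      Module.length R (R ⧸ Ideal.span {T, b}) + Module.length R (R ⧸ (I₀ ⊔ Ideal.span {c})) := by
  subst hI₀ hc hc'
  obtain ⟨βu, hβu⟩ := hβ
  obtain ⟨bi, hbi⟩ : ∃ bi : R, bi * (1 + D * b) = 1 :=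
    ⟨((βu⁻¹ : Rˣ) : R), by rw [← hβu]; exact Units.inv_mul βu⟩
  have ha : a = bi * (γ * T ^ (k₁ + 1 + d₁) * E ^ (k₂ + d₂) - b) := by
    linear_combination bi * hrel - a * hbi
  have hTbE : ∀ w, T ∣ w * (b * E) → T ∣ w := by
    intro w h
    rcases hT.dvd_or_dvd h with h1 | h1
    · exact h1
    · rcases hT.dvd_or_dvd h1 with h2 | h2
      · exact absurd h2 htb
      · exact absurd h2 hTE
  have hEaT : ∀ v, E ∣ v * (a * T) → E ∣ v := by
    intro v h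
    rcases hE.dvd_or_dvd h with h1 | h1
    · exact h1
    · rcases hE.dvd_or_dvd h1 with h2 | h2
      · exact absurd h2 hea
      · exact absurd h2 hET
  apply length_step _ _ _ (T ^ (k₁ + 1) * E ^ (k₂ + 1))
  · intro x hx
    obtain ⟨u, w, rfl⟩ := Ideal.mem_span_pair.mp hx
    exact (mem_sup_span _ _ _).mpr ⟨(w * T ^ (k₁ + 1) * E ^ k₂) * (b * E),
      Ideal.mem_span_pair.mpr ⟨0, w * T ^ (k₁ + 1) * E ^ k₂, by ring⟩, u, by ring⟩
  · intro x hx
    obtain ⟨y, hy, u, hxu⟩ := (mem_sup_span _ _ _).mp hx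
    obtain ⟨v, w, rfl⟩ := Ideal.mem_span_pair.mp hy
    have h1 : T ∣ w * (b * E) :=
      ⟨T ^ k₁ * E ^ (k₂ + 1) * x - v * a - u * (T ^ (k₁ + 1) * E ^ (k₂ + 1)),
        by linear_combination (-1 : R) * hxu⟩
    obtain ⟨w₁, rfl⟩ := hTbE w h1
    have h2 : E ∣ v * (a * T) :=
      ⟨T ^ (k₁ + 1) * E ^ k₂ * x - T * w₁ * b - u * (T ^ (k₁ + 1 + 1) * E ^ k₂),
        by linear_combination (-1 : R) * hxu⟩
    obtain ⟨v₁, rfl⟩ := hEaT v h2
    have h3 : T ^ k₁ * E ^ k₂ * x = v₁ * a + w₁ * b + u * (T ^ (k₁ + 1) * E ^ k₂) := by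
      apply cE; apply cT
      linear_combination hxu
    have h4 : T ^ k₁ * (E ^ k₂ * (x - v₁ * bi * γ * (T ^ (d₁ + 1) * E ^ d₂) - u * T)) =
        b * (w₁ - v₁ * bi) := by
      linear_combination h3 + v₁ * ha
    obtain ⟨r₁, hr₁⟩ := Tdvd T b hT cT htb k₁ _ _ h4
    obtain ⟨r', hr'⟩ : ∃ r', x - v₁ * bi * γ * (T ^ (d₁ + 1) * E ^ d₂) - u * T = b * r' := by
      rcases Nat.eq_zero_or_pos k₂ with h0 | h0
      · rw [h0, pow_zero, one_mul] at hr₁
        exact ⟨r₁, hr₁⟩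
      · exact Tdvd E b hE cE (heb h0) k₂ _ _ hr₁
    exact Ideal.mem_span_pair.mpr ⟨v₁ * bi * γ * (T ^ d₁ * E ^ d₂) + u, r',
      by linear_combination (-1 : R) * hr'⟩
  · refine sup_le le_sup_left (Ideal.span_le.mpr (Set.singleton_subset_iff.mpr ?_))
    exact Ideal.mem_sup_right (Ideal.mem_span_singleton'.mpr ⟨T, by ring⟩)
  · intro x hx
    obtain ⟨y, hy, u, rfl⟩ := (mem_sup_span _ _ _).mp hx
    refine ⟨u, ?_⟩
    have : y + u * (T ^ (k₁ + 1) * E ^ (k₂ + 1)) - T ^ (k₁ + 1) * E ^ (k₂ + 1) * u = y := by ring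
    rw [this]; exact Ideal.mem_sup_left hy
  · intro z
    exact Ideal.mem_sup_right (Ideal.mem_span_singleton'.mpr ⟨z, by ring⟩)

theorem lenG2 {R : Type*} [CommRing R] (T E a b γ D : R) (N₁ N₂ : ℕ)
    (hT : Prime T) (hE : Prime E) (hTE : ¬ T ∣ E) (hET : ¬ E ∣ T)
    (cT : ∀ x y, T * x = T * y → x = y) (cE : ∀ x y, E * x = E * y → x = y)
    (hone : Module.length R (R ⧸ Ideal.span {T, E}) = 1)
    (hα : IsUnit (1 + D * a)) (hβ : IsUnit (1 + D * b))
    (hrel : a + b + D * a * b = γ * T ^ N₁ * E ^ N₂)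
    (htb : ¬ T ∣ b) (hea : ¬ E ∣ a) :
    Module.length R (R ⧸ (Ideal.span {a * T, b * E} ⊔
      Ideal.span {T ^ (N₁ + 1) * E ^ (N₂ + 1)})) =
      1 + ((N₁ + 1 : ℕ) : ℕ∞) * Module.length R (R ⧸ Ideal.span {T, b}) +
        ((N₂ + 1 : ℕ) : ℕ∞) * Module.length R (R ⧸ Ideal.span {E, a}) := by
  have hTa : 1 ≤ N₁ → ¬ T ∣ a := by
    intro hN hd
    apply htb
    obtain ⟨ai, hai⟩ : ∃ ai : R, ai * (1 + D * a) = 1 := by
      obtain ⟨αu, hαu⟩ := hα
      exact ⟨((αu⁻¹ : Rˣ) : R), by rw [← hαu]; exact Units.inv_mul αu⟩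
    obtain ⟨d, rfl⟩ : ∃ d, N₁ = d + 1 := ⟨N₁ - 1, by omega⟩
    have hb : b = ai * (γ * T ^ (d + 1) * E ^ N₂ - a) := by
      linear_combination ai * hrel - b * hai
    rw [hb]
    exact Dvd.dvd.mul_left (dvd_sub (Dvd.intro (γ * T ^ d * E ^ N₂) (by ring)) hd) _
  have hP1 : ∀ k₁ : ℕ, k₁ ≤ N₁ →
      Module.length R (R ⧸ (Ideal.span {a * T, b * E} ⊔
        Ideal.span {T ^ (k₁ + 1) * E ^ (0 + 1)})) =
      1 + ((k₁ + 1 : ℕ) : ℕ∞) * Module.length R (R ⧸ Ideal.span {T, b}) +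
        Module.length R (R ⧸ Ideal.span {E, a}) := by
    intro k₁
    induction k₁ with
    | zero => intro _; rw [lenBase T E a b hT hE hTE hET hone]; push_cast; ring
    | succ n ih =>
      intro hn
      obtain ⟨d₁, hd₁⟩ : ∃ d₁, N₁ = n + 1 + d₁ := ⟨N₁ - (n + 1), by omega⟩
      rw [stepT T E a b γ D n 0 d₁ N₂ hT hE hTE hET cT cE hβ
        (by rw [← hd₁, zero_add]; exact hrel) htb hea
        (fun h => absurd h (by omega)) _ rfl _ _ rfl rfl, ih (by omega)]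
      push_cast; ring
  have hP2 : ∀ k₂ : ℕ, k₂ ≤ N₂ →
      Module.length R (R ⧸ (Ideal.span {a * T, b * E} ⊔
        Ideal.span {T ^ (N₁ + 1) * E ^ (k₂ + 1)})) =
      1 + ((N₁ + 1 : ℕ) : ℕ∞) * Module.length R (R ⧸ Ideal.span {T, b}) +
        ((k₂ + 1 : ℕ) : ℕ∞) * Module.length R (R ⧸ Ideal.span {E, a}) := by
    intro k₂
    induction k₂ with
    | zero => intro _; rw [hP1 N₁ le_rfl]; push_cast; ring
    | succ n ih =>
      intro hn
      obtain ⟨d₁, hd₁⟩ : ∃ d₁, N₂ = n + 1 + d₁ := ⟨N₂ - (n + 1), by omega⟩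
      rw [stepT E T b a γ D n N₁ d₁ 0 hE hT hET hTE cE cT hα
        (by rw [← hd₁, add_zero]; linear_combination hrel) hea htb hTa
        (Ideal.span {a * T, b * E}) Ideal.span_pair_comm
        (T ^ (N₁ + 1) * E ^ (n + 1)) (T ^ (N₁ + 1) * E ^ (n + 1 + 1))
        (mul_comm _ _) (mul_comm _ _), ih (by omega)]
      push_cast; ring
  exact hP2 N₂ le_rfl



/-- In the cases where σ fixes the two branches through the point, these lie on different components,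
and the second branch lies in the divisorial part of the fixed locus with multiplicity i₂ strictly
between 0 and j while the first has multiplicity i₁ ≤ i₂, let B be a discrete valuation ring with
uniformizer π, N = B[[t, e]]/(te - π) the complete local ring of a semi-stable arithmetic surface
over B at a singular point x of the closed fibre, and σ a ring automorphism of N with σ(π) = π + γ
π^j (γ a unit of B, j ≥ 1) and σ(c) - c ∈ π^j N for all c ∈ B. Suppose σ(t) = α t and σ(e) = β e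
with units α, β, and α - 1 = t^{i₁} e^{i₂} a, β - 1 = t^{i₁} e^{i₂} b with i₁ ≤ i₂, 0 < i₂ < j, e
not dividing a and t not dividing b. Then, I being the fixed-point ideal of σ, whose divisorial part
near x is t^{i₁} e^{i₂}, the residual fixed-point scheme with ideal (I : t^{i₁} e^{i₂}) has length 1
+ (j - i₁)·Leng N/(t, b) + (j - i₂)·Leng N/(e, a) at x; here Leng N/(t, b) + i₂ + 1 and Leng N/(e,
a) + i₁ + 1 are the orders at x of the derivations σ induces on the two components (the fixed-point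
multiplicities when the component is outside the divisorial part). -/
theorem result (B : Type u) [CommRing B] [IsDomain B] [IsDiscreteValuationRing B] (π : B) (hπ : Irreducible π)
    (j i₁ i₂ : ℕ) (h12 : i₁ ≤ i₂) (h2 : 0 < i₂) (h2j : i₂ < j) (γ : B) (hγ : IsUnit γ)
    (σ : ArLef.NodeAlg B π ≃+* ArLef.NodeAlg B π)
    (hσB : ∀ c : B, σ (algebraMap B (ArLef.NodeAlg B π) c) - algebraMap B (ArLef.NodeAlg B π) c ∈
      Ideal.span ({algebraMap B (ArLef.NodeAlg B π) (π ^ j)} : Set (ArLef.NodeAlg B π)))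
    (hσπ : σ (algebraMap B (ArLef.NodeAlg B π) π) = algebraMap B (ArLef.NodeAlg B π) (π + γ * π ^ j))
    (α β : (ArLef.NodeAlg B π)ˣ) (ht : σ (ArLef.NodeAlg.t π) = (α : ArLef.NodeAlg B π) * ArLef.NodeAlg.t π) (he : σ (ArLef.NodeAlg.e π) = (β : ArLef.NodeAlg B π) * ArLef.NodeAlg.e π)
    (a b : ArLef.NodeAlg B π) (ha : (α : ArLef.NodeAlg B π) - 1 = ArLef.NodeAlg.t π ^ i₁ * ArLef.NodeAlg.e π ^ i₂ * a) (hb : (β : ArLef.NodeAlg B π) - 1 = ArLef.NodeAlg.t π ^ i₁ * ArLef.NodeAlg.e π ^ i₂ * b)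
    (hea : ¬ (ArLef.NodeAlg.e π ∣ a)) (htb : ¬ (ArLef.NodeAlg.t π ∣ b)) :
    Module.length (ArLef.NodeAlg B π) (ArLef.NodeAlg B π ⧸ (ArLef.fixIdeal σ).colon ({ArLef.NodeAlg.t π ^ i₁ * ArLef.NodeAlg.e π ^ i₂} : Set (ArLef.NodeAlg B π))) =
      1 + ((j - i₁ : ℕ) : ℕ∞) * Module.length (ArLef.NodeAlg B π) (ArLef.NodeAlg B π ⧸ Ideal.span ({ArLef.NodeAlg.t π, b} : Set (ArLef.NodeAlg B π))) +
        ((j - i₂ : ℕ) : ℕ∞) * Module.length (ArLef.NodeAlg B π) (ArLef.NodeAlg B π ⧸ Ideal.span ({ArLef.NodeAlg.e π, a} : Set (ArLef.NodeAlg B π))) := by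
  classical
  have hπm : π ∈ IsLocalRing.maximalIdeal B := by
    rw [IsLocalRing.mem_maximalIdeal, mem_nonunits_iff]; exact hπ.1
  have hm : IsLocalRing.maximalIdeal B = Ideal.span {π} := hπ.maximalIdeal_eq
  have hπ0 : π ≠ 0 := hπ.ne_zero
  have hT : Prime (gen π 0) := gen_prime hπm zero_ne_one' hm
  have hE : Prime (gen π 1) := gen_prime hπm one_ne_zero' hm
  have hTE : ¬ gen π 0 ∣ gen π 1 := gen_not_dvd hπm zero_ne_one' hm
  have hET : ¬ gen π 1 ∣ gen π 0 := gen_not_dvd hπm one_ne_zero' hm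
  have cT : ∀ x y : ArLef.NodeAlg B π, gen π 0 * x = gen π 0 * y → x = y :=
    fun x y => gen_cancel hπm hπ0 0
  have cE : ∀ x y : ArLef.NodeAlg B π, gen π 1 * x = gen π 1 * y → x = y :=
    fun x y => gen_cancel hπm hπ0 1
  have ht' : σ (gen π 0) = (α : ArLef.NodeAlg B π) * gen π 0 := ht
  have he' : σ (gen π 1) = (β : ArLef.NodeAlg B π) * gen π 1 := he
  obtain ⟨p, rfl⟩ : ∃ p, j = i₂ + p + 1 := ⟨j - i₂ - 1, by omega⟩
  obtain ⟨d, rfl⟩ : ∃ d, i₂ = i₁ + d := ⟨i₂ - i₁, by omega⟩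
  have ha0 : (α : ArLef.NodeAlg B π) - 1 = gen π 0 ^ i₁ * gen π 1 ^ (i₁ + d) * a := ha
  have hb0 : (β : ArLef.NodeAlg B π) - 1 = gen π 0 ^ i₁ * gen π 1 ^ (i₁ + d) * b := hb
  have ha' : (α : ArLef.NodeAlg B π) = 1 + gen π 0 ^ i₁ * gen π 1 ^ (i₁ + d) * a := by
    linear_combination ha0
  have hb' : (β : ArLef.NodeAlg B π) = 1 + gen π 0 ^ i₁ * gen π 1 ^ (i₁ + d) * b := by
    linear_combination hb0
  have hαβ := stab_rel hπ (i₁ + d + p) γ σ hσπ α β ht' he'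
  have hrel : a + b + gen π 0 ^ i₁ * gen π 1 ^ (i₁ + d) * a * b =
      algebraMap B (ArLef.NodeAlg B π) γ * gen π 0 ^ (d + p) * gen π 1 ^ p := by
    apply pow_cancel (gen π 0) cT i₁
    apply pow_cancel (gen π 1) cE (i₁ + d)
    rw [ha', hb'] at hαβ
    linear_combination hαβ
  have hfix := stab_fixIdeal hπ (i₁ + d + p) γ hγ σ hσB hσπ α β ht' he'
  have hcolon : (ArLef.fixIdeal σ).colon
      ({gen π 0 ^ i₁ * gen π 1 ^ (i₁ + d)} : Set (ArLef.NodeAlg B π)) =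
      Ideal.span {a * gen π 0, b * gen π 1} ⊔
        Ideal.span {gen π 0 ^ (d + p + 1) * gen π 1 ^ (p + 1)} := by
    ext x
    rw [Submodule.mem_colon_singleton, smul_eq_mul, hfix, mem_sup_span, mem_sup_span]
    constructor
    · rintro ⟨y, hy, u, hxu⟩
      obtain ⟨v, w, rfl⟩ := Ideal.mem_span_pair.mp hy
      refine ⟨v * (a * gen π 0) + w * (b * gen π 1),
        Ideal.mem_span_pair.mpr ⟨v, w, rfl⟩, u, ?_⟩
      apply pow_cancel (gen π 0) cT i₁
      apply pow_cancel (gen π 1) cE (i₁ + d)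
      linear_combination hxu + v * gen π 0 * ha0 + w * gen π 1 * hb0
    · rintro ⟨y, hy, u, hxu⟩
      obtain ⟨v, w, rfl⟩ := Ideal.mem_span_pair.mp hy
      refine ⟨v * (((α : ArLef.NodeAlg B π) - 1) * gen π 0) +
        w * (((β : ArLef.NodeAlg B π) - 1) * gen π 1),
        Ideal.mem_span_pair.mpr ⟨v, w, rfl⟩, u, ?_⟩
      linear_combination (gen π 0 ^ i₁ * gen π 1 ^ (i₁ + d)) * hxu
        - v * gen π 0 * ha0 - w * gen π 1 * hb0
  change Module.length (ArLef.NodeAlg B π) (ArLef.NodeAlg B π ⧸ (ArLef.fixIdeal σ).colon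
      ({gen π 0 ^ i₁ * gen π 1 ^ (i₁ + d)} : Set (ArLef.NodeAlg B π))) =
      1 + ((i₁ + d + p + 1 - i₁ : ℕ) : ℕ∞) * Module.length (ArLef.NodeAlg B π)
        (ArLef.NodeAlg B π ⧸ Ideal.span {gen π 0, b}) +
      ((i₁ + d + p + 1 - (i₁ + d) : ℕ) : ℕ∞) * Module.length (ArLef.NodeAlg B π)
        (ArLef.NodeAlg B π ⧸ Ideal.span {gen π 1, a})
  have e1 : i₁ + d + p + 1 - i₁ = d + p + 1 := by omega
  have e2 : i₁ + d + p + 1 - (i₁ + d) = p + 1 := by omega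
  rw [e1, e2, hcolon]
  exact lenG2 (gen π 0) (gen π 1) a b (algebraMap B (ArLef.NodeAlg B π) γ)
    (gen π 0 ^ i₁ * gen π 1 ^ (i₁ + d)) (d + p) p hT hE hTE hET cT cE
    (length_quot_gens hπm hm)
    (by rw [← ha']; exact α.isUnit) (by rw [← hb']; exact β.isUnit) hrel htb hea

end Groth.Agent.S19596
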