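import Groth.Statements.S19597
import Mathlib
import Groth.Agent.H76.NodeAlg
-- import your own Groth.Agent.* helpers here

set_option autoImplicit false
universe u
open ArLef ArLef.NodeAlg

namespace Groth.Agent.S19597

open Groth.Agent.H76.NodeAlg

theorem lenH {R : Type*} [CommRing R] (T E a b γ D : R) (m : ℕ)
    (hT : Prime T) (hTE : ¬ T ∣ E)
    (cT : ∀ x y, T * x = T * y → x = y)
    (hone : Module.length R (R ⧸ Ideal.span {T, E}) = 1)
    (hα : IsUnit (1 + D * a))
    (hrel : E * a + b + D * a * b = γ * T ^ m)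
    (htb : ¬ T ∣ b) :
    Module.length R (R ⧸ (Ideal.span {a * T, b} ⊔ Ideal.span {T ^ (m + 1)})) + (m : ℕ∞) =
      ((m + 1 : ℕ) : ℕ∞) * Module.length R (R ⧸ Ideal.span {T, b}) := by
  obtain ⟨αu, hαu⟩ := hα
  obtain ⟨ai, hai⟩ : ∃ ai : R, ai * (1 + D * a) = 1 :=
    ⟨((αu⁻¹ : Rˣ) : R), by rw [← hαu]; exact Units.inv_mul αu⟩
  have hb : b = ai * (γ * T ^ m - E * a) := by
    linear_combination ai * hrel - b * hai
  have hbase : Ideal.span {a * T, b} ⊔ Ideal.span {T ^ (0 + 1)} = Ideal.span {T, b} := by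
    apply le_antisymm
    · refine sup_le (Ideal.span_le.mpr ?_) (Ideal.span_le.mpr (Set.singleton_subset_iff.mpr ?_))
      · rintro w (hw | hw)
        · rw [hw]; exact Ideal.mem_span_pair.mpr ⟨a, 0, by ring⟩
        · rw [Set.mem_singleton_iff] at hw
          rw [hw]; exact Ideal.mem_span_pair.mpr ⟨0, 1, by ring⟩
      · exact Ideal.mem_span_pair.mpr ⟨1, 0, by ring⟩
    · refine Ideal.span_le.mpr ?_
      rintro w (hw | hw)
      · rw [hw]; exact Ideal.mem_sup_right (Ideal.mem_span_singleton'.mpr ⟨1, by ring⟩)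
      · rw [Set.mem_singleton_iff] at hw
        rw [hw]; exact Ideal.mem_sup_left (Ideal.subset_span (by simp))
  rcases Nat.eq_zero_or_pos m with rfl | hm
  · rw [hbase]; simp
  have hTa : ¬ T ∣ a := by
    intro hd
    apply htb
    obtain ⟨d, rfl⟩ : ∃ d, m = d + 1 := ⟨m - 1, by omega⟩
    rw [hb]
    exact Dvd.dvd.mul_left (dvd_sub (Dvd.intro (γ * T ^ d) (by ring)) (Dvd.dvd.mul_left hd _)) _
  have hTb : Module.length R (R ⧸ Ideal.span {T, b}) =
      Module.length R (R ⧸ Ideal.span {T, a}) + 1 := by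
    have e3 : Ideal.span {T, b} = Ideal.span {T, a * E} := by
      obtain ⟨d, rfl⟩ : ∃ d, m = d + 1 := ⟨m - 1, by omega⟩
      apply le_antisymm
      · refine Ideal.span_le.mpr ?_
        rintro w (hw | hw)
        · rw [hw]; exact Ideal.mem_span_pair.mpr ⟨1, 0, by ring⟩
        · rw [Set.mem_singleton_iff] at hw
          rw [hw]
          exact Ideal.mem_span_pair.mpr ⟨ai * γ * T ^ d, -ai,
            by linear_combination (-1 : R) * hb⟩
      · refine Ideal.span_le.mpr ?_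
        rintro w (hw | hw)
        · rw [hw]; exact Ideal.mem_span_pair.mpr ⟨1, 0, by ring⟩
        · rw [Set.mem_singleton_iff] at hw
          rw [hw]
          exact Ideal.mem_span_pair.mpr ⟨γ * T ^ d, -(1 + D * a),
            by linear_combination (-1 : R) * hrel⟩
    rw [e3, lemA T E a hT hTE, hone]
  have hstep : ∀ k : ℕ, k + 1 ≤ m →
      Module.length R (R ⧸ (Ideal.span {a * T, b} ⊔ Ideal.span {T ^ (k + 1 + 1)})) =
      Module.length R (R ⧸ Ideal.span {T, a}) +
        Module.length R (R ⧸ (Ideal.span {a * T, b} ⊔ Ideal.span {T ^ (k + 1)})) := by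
    intro k hk
    apply length_step _ _ _ (T ^ (k + 1))
    · intro x hx
      obtain ⟨u, v, rfl⟩ := Ideal.mem_span_pair.mp hx
      exact (mem_sup_span _ _ _).mpr ⟨(v * T ^ k) * (a * T),
        Ideal.mem_span_pair.mpr ⟨v * T ^ k, 0, by ring⟩, u, by ring⟩
    · intro x hx
      obtain ⟨y, hy, u, hxu⟩ := (mem_sup_span _ _ _).mp hx
      obtain ⟨v, w, rfl⟩ := Ideal.mem_span_pair.mp hy
      have h1 : T ∣ w * b := ⟨T ^ k * x - v * a - u * T ^ (k + 1),
        by linear_combination (-1 : R) * hxu⟩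
      obtain ⟨w₁, rfl⟩ := (hT.dvd_or_dvd h1).resolve_right htb
      have h3 : T ^ k * x = v * a + w₁ * b + u * T ^ (k + 1) := by
        apply cT
        linear_combination hxu
      obtain ⟨d, hd⟩ : ∃ d, m = k + 1 + d := ⟨m - (k + 1), by omega⟩
      have hb' := hb
      rw [hd] at hb'
      have h4 : T ^ k * (x - ai * γ * w₁ * T ^ (d + 1) - u * T) = a * (v - ai * w₁ * E) := by
        linear_combination h3 + w₁ * hb'
      obtain ⟨r', hr'⟩ := Tdvd T a hT cT hTa k _ _ h4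
      exact Ideal.mem_span_pair.mpr ⟨ai * γ * w₁ * T ^ d + u, r',
        by linear_combination (-1 : R) * hr'⟩
    · refine sup_le le_sup_left (Ideal.span_le.mpr (Set.singleton_subset_iff.mpr ?_))
      exact Ideal.mem_sup_right (Ideal.mem_span_singleton'.mpr ⟨T, by ring⟩)
    · intro x hx
      obtain ⟨y, hy, u, rfl⟩ := (mem_sup_span _ _ _).mp hx
      refine ⟨u, ?_⟩
      have : y + u * T ^ (k + 1) - T ^ (k + 1) * u = y := by ring
      rw [this]; exact Ideal.mem_sup_left hy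
    · intro z
      exact Ideal.mem_sup_right (Ideal.mem_span_singleton'.mpr ⟨z, by ring⟩)
  have hind : ∀ k : ℕ, k ≤ m →
      Module.length R (R ⧸ (Ideal.span {a * T, b} ⊔ Ideal.span {T ^ (k + 1)})) =
      Module.length R (R ⧸ Ideal.span {T, b}) +
        (k : ℕ∞) * Module.length R (R ⧸ Ideal.span {T, a}) := by
    intro k
    induction k with
    | zero => intro _; rw [hbase]; simp
    | succ n ih =>
      intro hn
      rw [hstep n hn, ih (by omega)]
      push_cast; ring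
  rw [hind m le_rfl, hTb]
  push_cast; ring



/-- In the cases where σ fixes the two branches through the point, these lie on different components,
the second lies in the divisorial part of the fixed locus with the maximal multiplicity j and the
first with multiplicity i₁ < j, let B be a discrete valuation ring with uniformizer π, N = B[[t,
e]]/(te - π) the complete local ring of a semi-stable arithmetic surface over B at a singular point
x of the closed fibre, and σ a ring automorphism of N with σ(π) = π + γ π^j (γ a unit of B, j ≥ 1)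
and σ(c) - c ∈ π^j N for all c ∈ B. Suppose σ(t) = α t and σ(e) = β e with units α, β, that α - 1 =
t^{i₁} e^j a and β - 1 = t^{i₁} e^{j-1} b with i₁ < j and t not dividing b. Then, I being the
fixed-point ideal of σ, whose divisorial part near x is t^{i₁} e^j, the length l of the residual
fixed-point scheme with ideal (I : t^{i₁} e^j) satisfies l + (j - 1 - i₁) = (j - i₁)·Leng N/(t, b);
for i₁ = 0, Leng N/(t, b) + j is the fixed-point multiplicity s₁ of σ at x on the first component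
and l = j (s₁ - j - 1) + 1. -/
theorem result (B : Type u) [CommRing B] [IsDomain B] [IsDiscreteValuationRing B] (π : B) (hπ : Irreducible π)
    (j i₁ : ℕ) (h1 : i₁ < j) (γ : B) (hγ : IsUnit γ)
    (σ : ArLef.NodeAlg B π ≃+* ArLef.NodeAlg B π)
    (hσB : ∀ c : B, σ (algebraMap B (ArLef.NodeAlg B π) c) - algebraMap B (ArLef.NodeAlg B π) c ∈
      Ideal.span ({algebraMap B (ArLef.NodeAlg B π) (π ^ j)} : Set (ArLef.NodeAlg B π)))
    (hσπ : σ (algebraMap B (ArLef.NodeAlg B π) π) = algebraMap B (ArLef.NodeAlg B π) (π + γ * π ^ j))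
    (α β : (ArLef.NodeAlg B π)ˣ) (ht : σ (ArLef.NodeAlg.t π) = (α : ArLef.NodeAlg B π) * ArLef.NodeAlg.t π) (he : σ (ArLef.NodeAlg.e π) = (β : ArLef.NodeAlg B π) * ArLef.NodeAlg.e π)
    (a b : ArLef.NodeAlg B π) (ha : (α : ArLef.NodeAlg B π) - 1 = ArLef.NodeAlg.t π ^ i₁ * ArLef.NodeAlg.e π ^ j * a) (hb : (β : ArLef.NodeAlg B π) - 1 = ArLef.NodeAlg.t π ^ i₁ * ArLef.NodeAlg.e π ^ (j - 1) * b)
    (htb : ¬ (ArLef.NodeAlg.t π ∣ b)) :
    Module.length (ArLef.NodeAlg B π) (ArLef.NodeAlg B π ⧸ (ArLef.fixIdeal σ).colon ({ArLef.NodeAlg.t π ^ i₁ * ArLef.NodeAlg.e π ^ j} : Set (ArLef.NodeAlg B π))) + ((j - 1 - i₁ : ℕ) : ℕ∞) =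
      ((j - i₁ : ℕ) : ℕ∞) * Module.length (ArLef.NodeAlg B π) (ArLef.NodeAlg B π ⧸ Ideal.span ({ArLef.NodeAlg.t π, b} : Set (ArLef.NodeAlg B π))) := by
  classical
  have hπm : π ∈ IsLocalRing.maximalIdeal B := by
    rw [IsLocalRing.mem_maximalIdeal, mem_nonunits_iff]; exact hπ.1
  have hm : IsLocalRing.maximalIdeal B = Ideal.span {π} := hπ.maximalIdeal_eq
  have hπ0 : π ≠ 0 := hπ.ne_zero
  have hT : Prime (gen π 0) := gen_prime hπm zero_ne_one' hm
  have hTE : ¬ gen π 0 ∣ gen π 1 := gen_not_dvd hπm zero_ne_one' hm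
  have cT : ∀ x y : ArLef.NodeAlg B π, gen π 0 * x = gen π 0 * y → x = y :=
    fun x y => gen_cancel hπm hπ0 0
  have cE : ∀ x y : ArLef.NodeAlg B π, gen π 1 * x = gen π 1 * y → x = y :=
    fun x y => gen_cancel hπm hπ0 1
  have ht' : σ (gen π 0) = (α : ArLef.NodeAlg B π) * gen π 0 := ht
  have he' : σ (gen π 1) = (β : ArLef.NodeAlg B π) * gen π 1 := he
  obtain ⟨m, rfl⟩ : ∃ m, j = i₁ + m + 1 := ⟨j - i₁ - 1, by omega⟩
  have e0 : i₁ + m + 1 - 1 = i₁ + m := by omega
  rw [e0] at hb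
  have ha0 : (α : ArLef.NodeAlg B π) - 1 = gen π 0 ^ i₁ * gen π 1 ^ (i₁ + m + 1) * a := ha
  have hb0 : (β : ArLef.NodeAlg B π) - 1 = gen π 0 ^ i₁ * gen π 1 ^ (i₁ + m) * b := hb
  have ha' : (α : ArLef.NodeAlg B π) = 1 + gen π 0 ^ i₁ * gen π 1 ^ (i₁ + m + 1) * a := by
    linear_combination ha0
  have hb' : (β : ArLef.NodeAlg B π) = 1 + gen π 0 ^ i₁ * gen π 1 ^ (i₁ + m) * b := by
    linear_combination hb0
  have hαβ := stab_rel hπ (i₁ + m) γ σ hσπ α β ht' he'
  have hrel : gen π 1 * a + b + gen π 0 ^ i₁ * gen π 1 ^ (i₁ + m + 1) * a * b =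
      algebraMap B (ArLef.NodeAlg B π) γ * gen π 0 ^ m := by
    apply pow_cancel (gen π 0) cT i₁
    apply pow_cancel (gen π 1) cE (i₁ + m)
    rw [ha', hb'] at hαβ
    linear_combination hαβ
  have hfix := stab_fixIdeal hπ (i₁ + m) γ hγ σ hσB hσπ α β ht' he'
  have hcolon : (ArLef.fixIdeal σ).colon
      ({gen π 0 ^ i₁ * gen π 1 ^ (i₁ + m + 1)} : Set (ArLef.NodeAlg B π)) =
      Ideal.span {a * gen π 0, b} ⊔ Ideal.span {gen π 0 ^ (m + 1)} := by
    ext x
    rw [Submodule.mem_colon_singleton, smul_eq_mul, hfix, mem_sup_span, mem_sup_span]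
    constructor
    · rintro ⟨y, hy, u, hxu⟩
      obtain ⟨v, w, rfl⟩ := Ideal.mem_span_pair.mp hy
      refine ⟨v * (a * gen π 0) + w * b, Ideal.mem_span_pair.mpr ⟨v, w, rfl⟩, u, ?_⟩
      apply pow_cancel (gen π 0) cT i₁
      apply pow_cancel (gen π 1) cE (i₁ + m + 1)
      linear_combination hxu + v * gen π 0 * ha0 + w * gen π 1 * hb0
    · rintro ⟨y, hy, u, hxu⟩
      obtain ⟨v, w, rfl⟩ := Ideal.mem_span_pair.mp hy
      refine ⟨v * (((α : ArLef.NodeAlg B π) - 1) * gen π 0) +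
        w * (((β : ArLef.NodeAlg B π) - 1) * gen π 1),
        Ideal.mem_span_pair.mpr ⟨v, w, rfl⟩, u, ?_⟩
      linear_combination (gen π 0 ^ i₁ * gen π 1 ^ (i₁ + m + 1)) * hxu
        - v * gen π 0 * ha0 - w * gen π 1 * hb0
  change Module.length (ArLef.NodeAlg B π) (ArLef.NodeAlg B π ⧸ (ArLef.fixIdeal σ).colon
      ({gen π 0 ^ i₁ * gen π 1 ^ (i₁ + m + 1)} : Set (ArLef.NodeAlg B π))) +
      ((i₁ + m + 1 - 1 - i₁ : ℕ) : ℕ∞) =
      ((i₁ + m + 1 - i₁ : ℕ) : ℕ∞) * Module.length (ArLef.NodeAlg B π)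
        (ArLef.NodeAlg B π ⧸ Ideal.span {gen π 0, b})
  have e1 : i₁ + m + 1 - 1 - i₁ = m := by omega
  have e2 : i₁ + m + 1 - i₁ = m + 1 := by omega
  rw [e1, e2, hcolon]
  exact lenH (gen π 0) (gen π 1) a b (algebraMap B (ArLef.NodeAlg B π) γ)
    (gen π 0 ^ i₁ * gen π 1 ^ (i₁ + m + 1)) m hT hTE cT (length_quot_gens hπm hm)
    (by rw [← ha']; exact α.isUnit) hrel htb

end Groth.Agent.S19597
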