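import Groth.Statements.S19603
import Groth.Agent.H62.OrbitSep

set_option autoImplicit false
universe u
open GIT

namespace Groth.Agent.S19603

open MvPolynomial in
theorem aeval_zero_of_isHomogeneous {k : Type u} [Field k] {ι : Type u} {F : MvPolynomial ι k} {d : ℕ}
    (hd : 0 < d) (hF : F.IsHomogeneous d) :
    MvPolynomial.aeval (fun _ : ι => (0 : k)) F = 0 := by
  have h := MvPolynomial.aeval_zero (S₁ := k) F
  have h0 : (fun _ : ι => (0 : k)) = 0 := rfl
  rw [h0, h]
  have : MvPolynomial.constantCoeff F = 0 := by
    rw [MvPolynomial.constantCoeff_eq]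
    apply hF.coeff_eq_zero
    rw [map_zero]
    omega
  rw [this, map_zero]

/-- For the whole projective space U = P(V), let k be an algebraically closed field of arbitrary
characteristic and G = Spec A a linearly reductive affine algebraic group acting linearly on affine
ι-space, and let v be a vector. Then some invariant homogeneous polynomial of positive degree is
non-zero at v (the point of v is semistable) if and only if the origin is not in the closure of the
orbit of v. -/
theorem result (k : Type u) [Field k] [IsAlgClosed k]
    (A : Type u) [CommRing A] [HopfAlgebra k A] [Algebra.FiniteType k A] (hG : HopfRep.IsLinearlyReductive k A)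
    (ι : Type u) [Fintype ι] [HopfRep.Comod k A (MvPolynomial ι k)] [GLin.IsCoactAlg k A (MvPolynomial ι k)]
    (hlin : GLin.IsLinear k A ι) (v : ι → k) :
    GLin.IsSemistableVec k A v ↔
      ¬ GLin.InOrbitClosure k A (GLin.vecPt k ι v) (GLin.vecPt k ι (fun _ => (0 : k))) := by
  constructor
  · intro hss hcl
    apply hss
    intro F hF d hd hhom
    have h := Groth.Agent.H62.OrbitSep.apply_eq_of_inOrbitClosure hcl hF
    rw [aeval_zero_of_isHomogeneous hd hhom] at h
    rw [← MvPolynomial.aeval_eq_eval]
    exact h.symm
  · intro hncl hnull
    apply hncl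
    have hinv : ∀ F ∈ GLin.invariants k A (MvPolynomial ι k),
        GLin.vecPt k ι v F = GLin.vecPt k ι (fun _ => (0 : k)) F := by
      intro F hF
      rw [← MvPolynomial.sum_homogeneousComponent F, map_sum, map_sum]
      refine Finset.sum_congr rfl fun i _ => ?_
      rcases Nat.eq_zero_or_pos i with rfl | hi
      · rw [MvPolynomial.homogeneousComponent_zero]
        simp
      · have h1 := hnull _ (Groth.Agent.H62.OrbitSep.homogeneousComponent_mem_invariants k A ι hlin hF i)
          i hi (MvPolynomial.homogeneousComponent_isHomogeneous i F)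
        rw [aeval_zero_of_isHomogeneous hi (MvPolynomial.homogeneousComponent_isHomogeneous i F)]
        rw [← h1, ← MvPolynomial.aeval_eq_eval]
    obtain ⟨z, hz, hz0⟩ := Groth.Agent.H62.OrbitSep.exists_common_point hG _ _ hinv
    have hz_eq : z = GLin.vecPt k ι (fun _ => (0 : k)) := by
      apply MvPolynomial.algHom_ext
      intro i
      have hmem : (MvPolynomial.X i : MvPolynomial ι k) ∈
          RingHom.ker (GLin.orbitHom k A (GLin.vecPt k ι (fun _ => (0 : k)))) := by
        rw [RingHom.mem_ker, Groth.Agent.S11794.orbitHom_apply, Groth.Agent.S11794.oLin_apply]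
        obtain ⟨m, hm⟩ := hlin i
        have hm' : Groth.Agent.H40.ρ k A (MvPolynomial ι k) (MvPolynomial.X i) =
            ∑ j, (MvPolynomial.X j : MvPolynomial ι k) ⊗ₜ[k] m j := hm
        rw [hm', map_sum, map_sum]
        refine Finset.sum_eq_zero fun j _ => ?_
        simp
      have := hz0 hmem
      rw [RingHom.mem_ker] at this
      rw [this]
      simp
    rw [← hz_eq]
    exact hz

end Groth.Agent.S19603
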