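import Groth.Statements.S19606
import Groth.Agent.H22.SerreAffine
import Groth.Agent.H39.ConormalLocal
import Groth.Agent.H95.ZClosAss
import Groth.Agent.H18.Serre.Generation

set_option autoImplicit false
universe u
open CategoryTheory CategoryTheory.Limits AlgebraicGeometry
open ClSub

namespace Groth.Agent.S19606

section Helpers

variable {X : Scheme.{u}}

/-- view a function as a section of the structure module -/
def toM (V : X.Opens) (s : Γ(X, V)) : Γ(Coh.structureModule X, V) := s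

/-- view a section of the structure module as a function -/
def ofM (V : X.Opens) (s : Γ(Coh.structureModule X, V)) : Γ(X, V) := s

lemma toM_ofM (V : X.Opens) (s : Γ(Coh.structureModule X, V)) : toM V (ofM V s) = s := rfl

lemma toSub_surj (I : X.IdealSheafData) (U : X.affineOpens) (a : Γ(ClSub.quotMod I, U.1)) :
    ∃ s : Γ(X, U.1), (ClSub.toSubscheme I).app U.1 (toM U.1 s) = a := by
  obtain ⟨s, hs⟩ := I.subschemeι_app_surjective U a
  exact ⟨s, hs⟩

lemma toSub_surj' (I : X.IdealSheafData) (U : X.affineOpens) :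
    Function.Surjective ((ClSub.toSubscheme I).app U.1) := by
  intro a
  obtain ⟨s, hs⟩ := toSub_surj I U a
  exact ⟨toM U.1 s, hs⟩

lemma toSub_eq_iff (I : X.IdealSheafData) (U : X.affineOpens) (x y : Γ(X, U.1)) :
    (ClSub.toSubscheme I).app U.1 (toM U.1 x) = (ClSub.toSubscheme I).app U.1 (toM U.1 y) ↔
      x - y ∈ I.ideal U := by
  rw [← I.ker_subschemeι_app U, RingHom.mem_ker, map_sub, sub_eq_zero]
  exact Iff.rfl

end Helpers

/-- Let X be a scheme and I₁, I₂ quasi-coherent ideal sheaves with I₁ ⊓ I₂ = 0, cutting out closed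
subschemes X₁, X₂ and X₁ ∩ X₂ (ideal I₁ + I₂). Then 0 → O_X → O_X/I₁ ⊕ O_X/I₂ → O_X/(I₁ + I₂) → 0 is
an exact sequence of O_X-modules, the maps being the two restrictions and the difference of the
restrictions q₁, q₂ (the module maps compatible with the quotient maps from O_X). The published
statement is for a locally free sheaf E on a reduced scheme with two irreducible components X₁, X₂
(whose ideals meet in zero); this row is the case E = O_X for any two ideals with zero intersection,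
which is what the local argument uses. -/
theorem result (X : Scheme.{u}) (I₁ I₂ : X.IdealSheafData)
    (h : I₁ ⊓ I₂ = ⊥)
    (q₁ : ClSub.quotMod I₁ ⟶ ClSub.quotMod (I₁ ⊔ I₂)) (q₂ : ClSub.quotMod I₂ ⟶ ClSub.quotMod (I₁ ⊔ I₂))
    (hq₁ : ClSub.toSubscheme I₁ ≫ q₁ = ClSub.toSubscheme (I₁ ⊔ I₂))
    (hq₂ : ClSub.toSubscheme I₂ ≫ q₂ = ClSub.toSubscheme (I₁ ⊔ I₂)) :
    Epi (biprod.desc q₁ (-q₂)) ∧
      ∃ w : biprod.lift (ClSub.toSubscheme I₁) (ClSub.toSubscheme I₂) ≫ biprod.desc q₁ (-q₂) = 0,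
        Nonempty (IsLimit (KernelFork.ofι (biprod.lift (ClSub.toSubscheme I₁) (ClSub.toSubscheme I₂)) w)) := by
  classical
  have hcov : TopologicalSpace.IsOpenCover (fun i : X.affineOpens => (i : X.Opens)) :=
    iSup_affineOpens_eq_top X
  have haff : ∀ i : X.affineOpens, IsAffineOpen (i : X.Opens) := fun i => i.2
  haveI hπepi : Epi (ClSub.toSubscheme (I₁ ⊔ I₂)) :=
    Groth.Agent.H18.Serre.epi_of_surjective_affine_cover _ _ hcov haff
      (fun i => toSub_surj' _ i)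
  haveI : Epi (ClSub.toSubscheme I₁ ≫ q₁) := by rw [hq₁]; exact hπepi
  haveI hq₁epi : Epi q₁ := epi_of_epi (ClSub.toSubscheme I₁) q₁
  have hinl : biprod.inl ≫ biprod.desc q₁ (-q₂) = q₁ := biprod.inl_desc _ _
  haveI : Epi (biprod.inl ≫ biprod.desc q₁ (-q₂)) := by rw [hinl]; exact hq₁epi
  have hepi : Epi (biprod.desc q₁ (-q₂)) := epi_of_epi biprod.inl _
  refine ⟨hepi, ?_⟩
  have w : biprod.lift (ClSub.toSubscheme I₁) (ClSub.toSubscheme I₂) ≫ biprod.desc q₁ (-q₂) = 0 := by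
    rw [biprod.lift_desc, hq₁, Preadditive.comp_neg, hq₂, add_neg_cancel]
  refine ⟨w, ?_⟩
  let SC : ShortComplex X.Modules := ShortComplex.mk _ _ w
  haveI : SC.X₂.IsQuasicoherent :=
    Groth.Agent.H22.QCohLimits.isQuasicoherent_biprod (ClSub.quotMod I₁) (ClSub.quotMod I₂)
  haveI : SC.X₃.IsQuasicoherent := inferInstanceAs ((ClSub.quotMod (I₁ ⊔ I₂)).IsQuasicoherent)
  -- sections of the biproduct
  have htot : ∀ (V : X.Opens) (t : Γ(SC.X₂, V)),
      (biprod.inl : ClSub.quotMod I₁ ⟶ _).app V ((biprod.fst : SC.X₂ ⟶ _).app V t) +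
        (biprod.inr : ClSub.quotMod I₂ ⟶ _).app V ((biprod.snd : SC.X₂ ⟶ _).app V t) = t :=
    fun V t => congrArg (fun φ : SC.X₂ ⟶ SC.X₂ => φ.app V t) biprod.total
  have hfst : ∀ (V : X.Opens) (s : Γ(SC.X₁, V)),
      (biprod.fst : SC.X₂ ⟶ _).app V (SC.f.app V s) = (ClSub.toSubscheme I₁).app V s :=
    fun V s => congrArg (fun φ : SC.X₁ ⟶ ClSub.quotMod I₁ => φ.app V s) (biprod.lift_fst _ _)
  have hsnd : ∀ (V : X.Opens) (s : Γ(SC.X₁, V)),
      (biprod.snd : SC.X₂ ⟶ _).app V (SC.f.app V s) = (ClSub.toSubscheme I₂).app V s :=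
    fun V s => congrArg (fun φ : SC.X₁ ⟶ ClSub.quotMod I₂ => φ.app V s) (biprod.lift_snd _ _)
  have hexact : SC.Exact := by
    refine Groth.Agent.H39.ConormalLocal.exact_of_exact_affine_cover SC _ hcov haff
      (fun i t ht => ?_)
    set a := (biprod.fst : SC.X₂ ⟶ _).app i.1 t with ha
    set b := (biprod.snd : SC.X₂ ⟶ _).app i.1 t with hb
    obtain ⟨x, hx⟩ := toSub_surj I₁ i a
    obtain ⟨y, hy⟩ := toSub_surj I₂ i b
    have e1 : SC.g.app i.1 ((biprod.inl : ClSub.quotMod I₁ ⟶ _).app i.1 a) = q₁.app i.1 a :=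
      congrArg (fun φ : ClSub.quotMod I₁ ⟶ _ => φ.app i.1 a) (biprod.inl_desc q₁ (-q₂))
    have e2 : SC.g.app i.1 ((biprod.inr : ClSub.quotMod I₂ ⟶ _).app i.1 b) + q₂.app i.1 b = 0 :=
      congrArg (fun φ : ClSub.quotMod I₂ ⟶ _ => φ.app i.1 b)
        (show biprod.inr ≫ biprod.desc q₁ (-q₂) + q₂ = 0 by
          rw [biprod.inr_desc]; exact neg_add_cancel q₂)
    have e0 : SC.g.app i.1 ((biprod.inl : ClSub.quotMod I₁ ⟶ _).app i.1 a) +
        SC.g.app i.1 ((biprod.inr : ClSub.quotMod I₂ ⟶ _).app i.1 b) = 0 := by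
      rw [← map_add, htot i.1 t]; exact ht
    have e3 : q₁.app i.1 a = q₂.app i.1 b := by
      rw [e1] at e0
      calc q₁.app i.1 a = q₁.app i.1 a + (SC.g.app i.1 ((biprod.inr : ClSub.quotMod I₂ ⟶ _).app i.1 b)
              + q₂.app i.1 b) := by rw [e2, add_zero]
        _ = (q₁.app i.1 a + SC.g.app i.1 ((biprod.inr : ClSub.quotMod I₂ ⟶ _).app i.1 b))
              + q₂.app i.1 b := (add_assoc _ _ _).symm
        _ = q₂.app i.1 b := by rw [e0, zero_add]
    have f1 : q₁.app i.1 ((ClSub.toSubscheme I₁).app i.1 (toM i.1 x)) =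
        (ClSub.toSubscheme (I₁ ⊔ I₂)).app i.1 (toM i.1 x) :=
      congrArg (fun φ : Coh.structureModule X ⟶ _ => φ.app i.1 (toM i.1 x)) hq₁
    have f2 : q₂.app i.1 ((ClSub.toSubscheme I₂).app i.1 (toM i.1 y)) =
        (ClSub.toSubscheme (I₁ ⊔ I₂)).app i.1 (toM i.1 y) :=
      congrArg (fun φ : Coh.structureModule X ⟶ _ => φ.app i.1 (toM i.1 y)) hq₂
    rw [hx] at f1
    rw [hy] at f2
    have f3 : x - y ∈ (I₁ ⊔ I₂).ideal i := by
      rw [← toSub_eq_iff, ← f1, ← f2, e3]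
    have f4 : x - y ∈ I₁.ideal i ⊔ I₂.ideal i := f3
    obtain ⟨j₁, hj₁, j₂, hj₂, hj⟩ := Submodule.mem_sup.mp f4
    have g1 : (ClSub.toSubscheme I₁).app i.1 (toM i.1 (x - j₁)) = a := by
      rw [← hx, toSub_eq_iff]
      have : x - j₁ - x = -j₁ := by ring
      rw [this]
      exact (I₁.ideal i).neg_mem hj₁
    have g2 : (ClSub.toSubscheme I₂).app i.1 (toM i.1 (x - j₁)) = b := by
      rw [← hy, toSub_eq_iff]
      have : x - j₁ - y = j₂ := by
        have : x - j₁ - y = (x - y) - j₁ := by ring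
        rw [this, ← hj]; ring
      rw [this]
      exact hj₂
    refine ⟨toM i.1 (x - j₁), ?_⟩
    rw [← htot i.1 (SC.f.app i.1 (toM i.1 (x - j₁))), hfst, hsnd, g1, g2]
    exact htot i.1 t
  haveI : Mono SC.f := by
    refine Groth.Agent.H95.ZClos.mono_of_app_injective_of_affine _ (fun V hV s s' hss' => ?_)
    have h1 : (ClSub.toSubscheme I₁).app V s = (ClSub.toSubscheme I₁).app V s' := by
      rw [← hfst, ← hfst, hss']
    have h2 : (ClSub.toSubscheme I₂).app V s = (ClSub.toSubscheme I₂).app V s' := by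
      rw [← hsnd, ← hsnd, hss']
    have m1 : ofM V s - ofM V s' ∈ I₁.ideal ⟨V, hV⟩ :=
      (toSub_eq_iff I₁ ⟨V, hV⟩ (ofM V s) (ofM V s')).mp h1
    have m2 : ofM V s - ofM V s' ∈ I₂.ideal ⟨V, hV⟩ :=
      (toSub_eq_iff I₂ ⟨V, hV⟩ (ofM V s) (ofM V s')).mp h2
    have m3 : ofM V s - ofM V s' ∈ (I₁ ⊓ I₂).ideal ⟨V, hV⟩ :=
      show _ ∈ I₁.ideal ⟨V, hV⟩ ⊓ I₂.ideal ⟨V, hV⟩ from ⟨m1, m2⟩
    rw [h] at m3
    have m4 : ofM V s - ofM V s' = 0 := (Submodule.mem_bot _).mp m3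
    exact sub_eq_zero.mp m4
  exact ⟨hexact.fIsKernel⟩

end Groth.Agent.S19606
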