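import Groth.Statements.S19609
import Mathlib

set_option autoImplicit false
universe u
open CartMod

namespace Groth.Agent.S19609

/-- Let p be a prime and u : A → B a ring homomorphism between commutative rings which are complete and
separated for the p-adic topology and have no p-torsion (flat over the p-adic base). If u induces a
bijection A/pA → B/pB (injectivity: u a ∈ pB forces a ∈ pA; surjectivity: every b ∈ B is congruent
to some u a modulo pB), then u is bijective. (The published statement is for a morphism of flat
p-adic formal schemes over the Witt vectors of a perfect field: if its special fibre is an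
isomorphism, so is the morphism; this row is its affine, ring-level case.) -/
theorem result (p : ℕ) [Fact p.Prime]
    {A B : Type u} [CommRing A] [CommRing B]
    [IsAdicComplete (Ideal.span {(p : A)}) A] [IsAdicComplete (Ideal.span {(p : B)}) B]
    (hA : IsSMulRegular A (p : A)) (hB : IsSMulRegular B (p : B)) (u : A →+* B)
    (hinj : ∀ a : A, u a ∈ Ideal.span {(p : B)} → a ∈ Ideal.span {(p : A)})
    (hsurj : ∀ b : B, ∃ a : A, b - u a ∈ Ideal.span {(p : B)}) :
    Function.Bijective u := by
  have hup : u (p : A) = (p : B) := map_natCast u p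
  have hHausA : ∀ a : A, (∀ n : ℕ, (p : A) ^ n ∣ a) → a = 0 := by
    intro a ha
    apply IsHausdorff.haus (inferInstance : IsHausdorff (Ideal.span {(p : A)}) A) a
    intro n
    rw [SModEq.zero, smul_eq_mul, Ideal.mul_top, Ideal.span_singleton_pow,
      Ideal.mem_span_singleton]
    exact ha n
  have hHausB : ∀ b : B, (∀ n : ℕ, (p : B) ^ n ∣ b) → b = 0 := by
    intro b hb
    apply IsHausdorff.haus (inferInstance : IsHausdorff (Ideal.span {(p : B)}) B) b
    intro n
    rw [SModEq.zero, smul_eq_mul, Ideal.mul_top, Ideal.span_singleton_pow,
      Ideal.mem_span_singleton]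
    exact hb n
  have hinj' : ∀ n : ℕ, ∀ a : A, u a = 0 → (p : A) ^ n ∣ a := by
    intro n
    induction n with
    | zero => intro a _; simp
    | succ n ih =>
      intro a ha
      have h1 : a ∈ Ideal.span {(p : A)} := hinj a (by rw [ha]; exact Ideal.zero_mem _)
      obtain ⟨a', rfl⟩ := Ideal.mem_span_singleton.mp h1
      have h2 : u a' = 0 := by
        rw [map_mul, hup] at ha
        have : (p : B) • u a' = (p : B) • (0 : B) := by
          simpa [smul_eq_mul] using ha
        exact hB this
      obtain ⟨c, hc⟩ := ih a' h2
      exact ⟨c, by rw [hc]; ring⟩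
  refine ⟨?_, ?_⟩
  · rw [injective_iff_map_eq_zero]
    intro a ha
    exact hHausA a (fun n => hinj' n a ha)
  · choose g hg using hsurj
    have hg' : ∀ b, ∃ b', b - u (g b) = (p : B) * b' := fun b => by
      obtain ⟨c, hc⟩ := Ideal.mem_span_singleton.mp (hg b)
      exact ⟨c, hc⟩
    choose r hr using hg'
    intro b
    let bs : ℕ → B := fun n => r^[n] b
    let s : ℕ → A := fun n => ∑ i ∈ Finset.range n, (p : A) ^ i * g (bs i)
    have hs_succ : ∀ n, s (n + 1) = s n + (p : A) ^ n * g (bs n) := fun n =>
      Finset.sum_range_succ _ n
    have hbs_succ : ∀ n, bs (n + 1) = r (bs n) := fun n =>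
      Function.iterate_succ_apply' r n b
    have hkey : ∀ n, b - u (s n) = (p : B) ^ n * bs n := by
      intro n
      induction n with
      | zero => simp [s, bs]
      | succ n ih =>
        rw [hs_succ, map_add, map_mul, map_pow, hup, hbs_succ]
        have h3 := hr (bs n)
        calc b - (u (s n) + (p : B) ^ n * u (g (bs n)))
            = (b - u (s n)) - (p : B) ^ n * u (g (bs n)) := by ring
          _ = (p : B) ^ n * (bs n - u (g (bs n))) := by rw [ih]; ring
          _ = (p : B) ^ (n + 1) * r (bs n) := by rw [h3]; ring
    have hcauchy : ∀ m n, m ≤ n → (p : A) ^ m ∣ s m - s n := by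
      intro m n hmn
      induction n, hmn using Nat.le_induction with
      | base => simp
      | succ n hmn ih =>
        rw [hs_succ]
        have h4 : (p : A) ^ m ∣ (p : A) ^ n * g (bs n) :=
          Dvd.dvd.mul_right (pow_dvd_pow _ hmn) _
        have : s m - (s n + (p : A) ^ n * g (bs n)) = (s m - s n) - (p : A) ^ n * g (bs n) := by
          ring
        rw [this]
        exact dvd_sub ih h4
    obtain ⟨L, hL⟩ := IsPrecomplete.prec (inferInstance : IsPrecomplete (Ideal.span {(p : A)}) A)
      (f := s) (by
        intro m n hmn
        rw [SModEq.sub_mem, smul_eq_mul, Ideal.mul_top, Ideal.span_singleton_pow,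
          Ideal.mem_span_singleton]
        exact hcauchy m n hmn)
    refine ⟨L, ?_⟩
    have hfin : b - u L = 0 := by
      apply hHausB
      intro n
      have h5 := hL n
      rw [SModEq.sub_mem, smul_eq_mul, Ideal.mul_top, Ideal.span_singleton_pow,
        Ideal.mem_span_singleton] at h5
      obtain ⟨c, hc⟩ := h5
      have h6 : b - u L = (b - u (s n)) + u (s n - L) := by
        rw [map_sub]; ring
      rw [h6, hkey, hc, map_mul, map_pow, hup]
      exact dvd_add (Dvd.intro _ rfl) (Dvd.intro _ rfl)
    exact (sub_eq_zero.mp hfin).symm

end Groth.Agent.S19609
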