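import Groth.Statements.S1961
import Groth.Agent.H47.Hens5

set_option autoImplicit false
universe u
open EtAlg

namespace Groth.Agent.S1961

open CategoryTheory Groth.Agent.H47.Hens Groth.Agent.H47.Hens.EtPt in
theorem formallyEtale_H (R : Type u) [CommRing R] (p : Ideal R) [p.IsPrime] :
    Algebra.FormallyEtale R (H R p) := by
  rw [Algebra.FormallyEtale.iff_comp_bijective]
  intro B _ _ I hI
  constructor
  · intro g₁ g₂ h
    have key : ∀ X : EtPt R p, g₁.comp (ιₐ R p X) = g₂.comp (ιₐ R p X) := fun X =>
      Algebra.FormallyUnramified.comp_injective I hI (by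
        show (Ideal.Quotient.mkₐ R I).comp (g₁.comp (ιₐ R p X)) =
          (Ideal.Quotient.mkₐ R I).comp (g₂.comp (ιₐ R p X))
        rw [← AlgHom.comp_assoc, ← AlgHom.comp_assoc]
        exact congrArg (fun t => t.comp (ιₐ R p X)) h)
    refine AlgHom.ext fun x => ?_
    obtain ⟨X, a, rfl⟩ := exists_rep R p x
    exact AlgHom.congr_fun (key X) a
  · intro g
    have hl : ∀ X : EtPt R p, ∃ l : X.A →ₐ[R] B,
        (Ideal.Quotient.mkₐ R I).comp l = g.comp (ιₐ R p X) := fun X =>
      (Algebra.FormallyEtale.comp_bijective R X.A I hI).2 _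
    choose l hl using hl
    have hnat : ∀ (X Y : EtPt R p) (u : X ⟶ Y),
        ((l Y).toRingHom).comp u.f.toRingHom = (l X).toRingHom := by
      intro X Y u
      have : (l Y).comp u.f = l X := Algebra.FormallyUnramified.comp_injective I hI (by
        show (Ideal.Quotient.mkₐ R I).comp ((l Y).comp u.f) = (Ideal.Quotient.mkₐ R I).comp (l X)
        rw [← AlgHom.comp_assoc, hl, hl, AlgHom.comp_assoc, ιₐ_comp])
      exact congrArg AlgHom.toRingHom this
    let G : H R p →ₐ[R] B :=
      { toRingHom := desc R p (fun X => (l X).toRingHom) hnat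
        commutes' := fun r => by
          show desc R p _ hnat (algebraMap R (H R p) r) = algebraMap R B r
          rw [← ι_algebraMap R p (X₀ R p) r, desc_ι]
          exact (l _).commutes r }
    refine ⟨G, AlgHom.ext fun x => ?_⟩
    obtain ⟨X, a, rfl⟩ := exists_rep R p x
    show Ideal.Quotient.mk I (desc R p _ hnat (ι R p X a)) = g (ι R p X a)
    rw [desc_ι]
    exact AlgHom.congr_fun (hl X) a


/-- A henselization S of a local ring R (characterized by its universal property) is formally étale over
R. -/
theorem result (R S : Type u) [CommRing R] [IsLocalRing R] [CommRing S] [IsLocalRing S]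
    [Algebra R S] [IsLocalHom (algebraMap R S)] [Hensel.IsHenselization R S] : Algebra.FormallyEtale R S := by
  obtain ⟨e⟩ := Groth.Agent.H47.Hens.exists_algEquiv R S
  haveI := formallyEtale_H R (IsLocalRing.maximalIdeal R)
  exact Algebra.FormallyEtale.of_equiv e

end Groth.Agent.S1961
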