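import Groth.Statements.S6349
import Groth.Agent.H2.NilpCriterion
import Mathlib
-- import your own Groth.Agent.* helpers here

set_option autoImplicit false
universe u
open scoped TensorProduct
open CAlg

namespace Groth.Agent.S6349

open Function Groth.Agent.H2 in
theorem aux (R : Type u) [CommRing R] (I : Ideal R) (M : Type u)
    [AddCommGroup M] [Module R M] [Module.Flat (R ⧸ I) ((R ⧸ I) ⊗[R] M)]
    {K : Type u} [AddCommGroup K] [Module R K]
    (ι : K →ₗ[R] (M →₀ R)) (π : (M →₀ R) →ₗ[R] M) (hex : Function.Exact ι π)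
    (hπ : Surjective π) (hι : Injective ι)
    (htor : Function.Injective ((Submodule.subtype I).rTensor M)) (n : ℕ) :
    Module.Flat (R ⧸ I ^ n) ((R ⧸ I ^ n) ⊗[R] M) := by
  have hTI : Injective (ι.lTensor (R ⧸ I)) := by
    have hginj : Injective (ι.lTensor R) :=
      Module.Flat.lTensor_preserves_injective_linearMap (M := R) ι hι
    have h2 := lTensor_injective_of_exact_of_exact_of_rTensor_injective
      (LinearMap.exact_subtype_mkQ I) (Submodule.mkQ_surjective I) hex hπ
    exact h2 htor hginj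
  have hT := T_of_pow_smul_eq_zero hex hπ I hTI n
  have hex' : Function.Exact (ι.baseChange (R ⧸ I ^ n))
      (π.baseChange (R ⧸ I ^ n)) := fun y => lTensor_exact (R ⧸ I ^ n) hex hπ y
  have hπ' : Surjective (π.baseChange (R ⧸ I ^ n)) :=
    LinearMap.lTensor_surjective (R ⧸ I ^ n) hπ
  rw [Module.Flat.iff_lTensor_injective']
  intro 𝔞
  have hkill : ∀ a ∈ I ^ n, ∀ q : (R ⧸ I ^ n) ⧸ 𝔞, a • q = 0 := by
    intro a ha q
    have ha0 : (algebraMap R (R ⧸ I ^ n) a) = 0 := Ideal.Quotient.eq_zero_iff_mem.mpr ha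
    rw [← algebraMap_smul (R ⧸ I ^ n) a q, ha0, zero_smul]
  have h1 : Injective (ι.lTensor ((R ⧸ I ^ n) ⧸ 𝔞)) :=
    hT ((R ⧸ I ^ n) ⧸ 𝔞) hkill
  have h2 : Injective ((ι.baseChange (R ⧸ I ^ n)).lTensor ((R ⧸ I ^ n) ⧸ 𝔞)) :=
    baseChange_lTensor_injective (A := R ⧸ I ^ n) ((R ⧸ I ^ n) ⧸ 𝔞) ι h1
  exact lTensor_subtype_injective_of_T hex' hπ' 𝔞 h2

open Function in
/-- Let I be an ideal of a commutative ring R and M an R-module such that M/IM is flat over R/I and
Tor_1^R(R/I, M) = 0, i.e. the map I ⊗_R M → M is injective. Then M/IⁿM is flat over R/Iⁿ for every n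
≥ 1. (When I is nilpotent this yields flatness of M itself, a standard companion statement.) -/
theorem result (R : Type u) [CommRing R] (I : Ideal R) (M : Type u)
    [AddCommGroup M] [Module R M] [Module.Flat (R ⧸ I) ((R ⧸ I) ⊗[R] M)]
    (htor : Function.Injective ((Submodule.subtype I).rTensor M)) (n : ℕ) (hn : 1 ≤ n) :
    Module.Flat (R ⧸ I ^ n) ((R ⧸ I ^ n) ⊗[R] M) := by
  obtain ⟨π, hπ⟩ : ∃ π : (M →₀ R) →ₗ[R] M, Surjective π :=
    ⟨Finsupp.linearCombination R id, fun m => ⟨Finsupp.single m 1, by simp⟩⟩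
  exact aux R I M (K := ↥(LinearMap.ker π)) (LinearMap.ker π).subtype π
    (LinearMap.exact_subtype_ker_map π) hπ (Submodule.injective_subtype _) htor n

end Groth.Agent.S6349
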