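import Groth.Statements.S19610
import Groth.Agent.S6349
import Mathlib
-- import your own Groth.Agent.* helpers here

set_option autoImplicit false
universe u
open scoped TensorProduct
open CartMod

namespace Groth.Agent.S19610

/-- For a principal ideal `(a)` and a module `B` on which `a` acts injectively, `(a) ⊗ B → B`
is injective. -/
theorem rTensor_span_singleton_injective {A : Type*} [CommRing A] (a : A) (B : Type*)
    [AddCommGroup B] [Module A B] (hB : IsSMulRegular B a) :
    Function.Injective ((Submodule.subtype (Ideal.span {a})).rTensor B) := by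
  have hmem : a ∈ Ideal.span {a} := Ideal.subset_span rfl
  have hrep : ∀ x : ↥(Ideal.span {a}) ⊗[A] B, ∃ b : B, x = (⟨a, hmem⟩ : ↥(Ideal.span {a})) ⊗ₜ[A] b := by
    intro x
    induction x using TensorProduct.induction_on with
    | zero => exact ⟨0, by simp⟩
    | tmul i b =>
      obtain ⟨i, hi⟩ := i
      obtain ⟨c, rfl⟩ := Ideal.mem_span_singleton'.mp hi
      refine ⟨c • b, ?_⟩
      rw [← TensorProduct.smul_tmul]
      rfl
    | add x y hx hy =>
      obtain ⟨b, rfl⟩ := hx
      obtain ⟨b', rfl⟩ := hy
      exact ⟨b + b', by rw [TensorProduct.tmul_add]⟩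
  intro x y hxy
  obtain ⟨b, rfl⟩ := hrep x
  obtain ⟨b', rfl⟩ := hrep y
  have h1 := congrArg (TensorProduct.lid A B) hxy
  simp only [LinearMap.rTensor_tmul, Submodule.subtype_apply, TensorProduct.lid_tmul] at h1
  rw [hB h1]

/-- Let p be a prime and B a commutative algebra over the commutative ring A, both complete and
separated for the p-adic topology and both without p-torsion (flat over the p-adic base). If B/pB is
flat over A/pA, then B/p^nB is flat over A/p^nA for every n ≥ 1 (the quotients are written as base
changes (A/p^n) ⊗_A B). (The published statement is for a morphism of flat p-adic formal schemes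
over the Witt vectors of a perfect field: if its special fibre is flat, so are the induced morphisms
of schemes modulo every power of p; this row is its affine, ring-level case.) -/
theorem result (p : ℕ) [Fact p.Prime]
    {A B : Type u} [CommRing A] [CommRing B] [Algebra A B]
    [IsAdicComplete (Ideal.span {(p : A)}) A] [IsAdicComplete (Ideal.span {(p : B)}) B]
    (hA : IsSMulRegular A (p : A)) (hB : IsSMulRegular B (p : B))
    (h : Module.Flat (A ⧸ Ideal.span {(p : A)}) ((A ⧸ Ideal.span {(p : A)}) ⊗[A] B))
    (n : ℕ) (hn : 1 ≤ n) :
    Module.Flat (A ⧸ (Ideal.span {(p : A)} ^ n)) ((A ⧸ (Ideal.span {(p : A)} ^ n)) ⊗[A] B) := by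
  have hB' : IsSMulRegular B (p : A) := by
    intro x y hxy
    apply hB
    simp only [Algebra.smul_def, map_natCast] at hxy
    simpa [smul_eq_mul] using hxy
  exact Groth.Agent.S6349.result A (Ideal.span {(p : A)}) B
    (rTensor_span_singleton_injective (p : A) B hB') n hn

end Groth.Agent.S19610
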