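import Groth.Statements.S19612
import Mathlib
-- import your own Groth.Agent.* helpers here

set_option autoImplicit false
universe u
open scoped TensorProduct
open CartMod

namespace Groth.Agent.S19612

/-- Over a flat module, solutions of `s • x = 0` lie in `r • M` when `Ann(s) ⊆ (r)`. -/
theorem exists_eq_smul_of_flat {R M : Type*} [CommRing R] [AddCommGroup M] [Module R M]
    [Module.Flat R M] (s r : R) (hann : ∀ c : R, s * c = 0 → ∃ d, c = r * d) (x : M)
    (hx : s • x = 0) : ∃ y : M, x = r • y := by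
  have h : ∑ i : Unit, (fun _ => s) i • (fun _ => x) i = 0 := by simpa using hx
  obtain ⟨k, a, y, hxy, ha⟩ := Module.Flat.isTrivialRelation_of_sum_smul_eq_zero h
  have hd : ∀ j, ∃ d, a () j = r * d := fun j => hann _ (by simpa using ha j)
  choose d hd using hd
  refine ⟨∑ j, d j • y j, ?_⟩
  have hx' : x = ∑ j, a () j • y j := hxy ()
  rw [hx', Finset.smul_sum]
  refine Finset.sum_congr rfl fun j _ => ?_
  rw [hd j, mul_smul]

theorem exists_one_tmul {W : Type*} [CommRing W] (J : Ideal W) (A : Type*) [AddCommGroup A]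
    [Module W A] (y : (W ⧸ J) ⊗[W] A) : ∃ a : A, y = (1 : W ⧸ J) ⊗ₜ[W] a := by
  induction y using TensorProduct.induction_on with
  | zero => exact ⟨0, by simp⟩
  | tmul c b =>
    obtain ⟨c₀, rfl⟩ := Ideal.Quotient.mk_surjective c
    refine ⟨c₀ • b, ?_⟩
    rw [← TensorProduct.smul_tmul]
    congr 1
    rw [Algebra.smul_def, mul_one]
    rfl
  | add x y hx hy =>
    obtain ⟨b, rfl⟩ := hx
    obtain ⟨b', rfl⟩ := hy
    exact ⟨b + b', by rw [TensorProduct.tmul_add]⟩

theorem key {W : Type*} [CommRing W] [IsDomain W] (π : W) (hπ : π ≠ 0) (A : Type*)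
    [AddCommGroup A] [Module W A] (n : ℕ)
    [Module.Flat (W ⧸ (Ideal.span {π}) ^ (n + 2)) ((W ⧸ (Ideal.span {π}) ^ (n + 2)) ⊗[W] A)]
    (a' : A) (h : π ^ (n + 1) • a' = 0) : ∃ a'' : A, a' = π • a'' := by
  have hmk : ∀ w : W, (Ideal.Quotient.mk ((Ideal.span {π}) ^ (n + 2)) w) =
      w • (1 : W ⧸ (Ideal.span {π}) ^ (n + 2)) := by
    intro w
    rw [Algebra.smul_def, mul_one]
    rfl
  have hann : ∀ c : W ⧸ (Ideal.span {π}) ^ (n + 2),
      Ideal.Quotient.mk _ (π ^ (n + 1)) * c = 0 → ∃ d, c = Ideal.Quotient.mk _ π * d := by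
    intro c hc
    obtain ⟨c₀, rfl⟩ := Ideal.Quotient.mk_surjective c
    rw [← map_mul, Ideal.Quotient.eq_zero_iff_mem, Ideal.span_singleton_pow,
      Ideal.mem_span_singleton'] at hc
    obtain ⟨e, he⟩ := hc
    refine ⟨Ideal.Quotient.mk _ e, ?_⟩
    rw [← map_mul]
    congr 1
    have h1 : π ^ (n + 1) * c₀ = π ^ (n + 1) * (π * e) := by
      rw [← he]; ring
    exact mul_left_cancel₀ (pow_ne_zero _ hπ) h1
  have hx : Ideal.Quotient.mk ((Ideal.span {π}) ^ (n + 2)) (π ^ (n + 1)) •
      ((1 : W ⧸ (Ideal.span {π}) ^ (n + 2)) ⊗ₜ[W] a') = 0 := by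
    rw [TensorProduct.smul_tmul', smul_eq_mul, mul_one, hmk, TensorProduct.smul_tmul, h,
      TensorProduct.tmul_zero]
  obtain ⟨y, hy⟩ := exists_eq_smul_of_flat
    (M := (W ⧸ (Ideal.span {π}) ^ (n + 2)) ⊗[W] A) _ _ hann _ hx
  obtain ⟨b, rfl⟩ := exists_one_tmul _ A y
  rw [TensorProduct.smul_tmul', smul_eq_mul, mul_one, hmk, TensorProduct.smul_tmul] at hy
  have h0 : (1 : W ⧸ (Ideal.span {π}) ^ (n + 2)) ⊗ₜ[W] (a' - π • b) = 0 := by
    rw [TensorProduct.tmul_sub, hy, sub_self]
  have hmem : a' - π • b ∈ (Ideal.span {π}) ^ (n + 2) • (⊤ : Submodule W A) := by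
    rw [← LinearMap.ker_tensorProductMk (R := W) (Q := A) (I := (Ideal.span {π}) ^ (n + 2)),
      LinearMap.mem_ker]
    exact h0
  have hle : (Ideal.span {π}) ^ (n + 2) • (⊤ : Submodule W A) ≤
      (Ideal.span {π}) • (⊤ : Submodule W A) :=
    Submodule.smul_mono_left (Ideal.pow_le_self (by omega))
  have hex : ∀ z ∈ (Ideal.span {π}) • (⊤ : Submodule W A), ∃ c : A, z = π • c := by
    intro z hz
    refine Submodule.smul_induction_on hz ?_ ?_
    · intro r hr m _
      obtain ⟨e, rfl⟩ := Ideal.mem_span_singleton'.mp hr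
      exact ⟨e • m, by rw [mul_comm, mul_smul]⟩
    · rintro x y ⟨c, rfl⟩ ⟨c', rfl⟩
      exact ⟨c + c', by rw [smul_add]⟩
  obtain ⟨c, hc⟩ := hex _ (hle hmem)
  refine ⟨c + b, ?_⟩
  rw [smul_add, ← hc]
  abel

/-- Let k be a perfect field of characteristic p, W = W(k) the ring of Witt vectors of k, and A a
commutative W-algebra which is complete and separated for the p-adic topology (an adic W-algebra).
Then flatness of A over W is equivalent to flatness of A/p^nA = (W/p^nW) ⊗_W A over W/p^nW for every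
n ≥ 1. -/
theorem result (p : ℕ) [Fact p.Prime] (k : Type u) [Field k]
    [CharP k p] [PerfectRing k p] (A : Type u) [CommRing A] [Algebra (WittVector p k) A]
    [IsAdicComplete (Ideal.span {(p : WittVector p k)}) A] :
    Module.Flat (WittVector p k) A ↔
      ∀ n : ℕ, 1 ≤ n →
        Module.Flat (WittVector p k ⧸ (Ideal.span {(p : WittVector p k)} ^ n))
          ((WittVector p k ⧸ (Ideal.span {(p : WittVector p k)} ^ n)) ⊗[WittVector p k] A) := by
  constructor
  · intro h n _
    infer_instance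
  · intro hflat
    have hπ : (p : WittVector p k) ≠ 0 := WittVector.p_nonzero p k
    -- p-torsion-freeness
    have hp : ∀ a : A, (p : WittVector p k) • a = 0 → a = 0 := by
      intro a ha
      have hpow : ∀ n : ℕ, ∃ b : A, a = (p : WittVector p k) ^ n • b := by
        intro n
        induction n with
        | zero => exact ⟨a, by simp⟩
        | succ n ih =>
          obtain ⟨b, hb⟩ := ih
          have := hflat (n + 2) (by omega)
          have h1 : (p : WittVector p k) ^ (n + 1) • b = 0 := by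
            rw [pow_succ', mul_smul, ← hb, ha]
          obtain ⟨b', hb'⟩ := key (p : WittVector p k) hπ A n b h1
          exact ⟨b', by rw [hb, hb', ← mul_smul, ← pow_succ]⟩
      apply IsHausdorff.haus' (I := Ideal.span {(p : WittVector p k)}) a
      intro n
      rw [SModEq.zero]
      obtain ⟨b, hb⟩ := hpow n
      rw [hb]
      exact Submodule.smul_mem_smul (Ideal.pow_mem_pow (Ideal.mem_span_singleton_self _) n)
        Submodule.mem_top
    have hpn : ∀ (m : ℕ) (a : A), (p : WittVector p k) ^ m • a = 0 → a = 0 := by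
      intro m
      induction m with
      | zero => intro a ha; simpa using ha
      | succ m ih =>
        intro a ha
        apply ih
        apply hp
        rw [← mul_smul, ← pow_succ']
        exact ha
    rw [IsDedekindDomain.flat_iff_torsion_eq_bot, eq_bot_iff]
    rintro a ⟨⟨r, hr⟩, h⟩
    rw [Submodule.mem_bot]
    have hr0 : r ≠ 0 := nonZeroDivisors.ne_zero hr
    obtain ⟨m, b, rfl⟩ := WittVector.exists_eq_pow_p_mul' r hr0
    have h' : ((p : WittVector p k) ^ m * (b : WittVector p k)) • a = 0 := h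
    rw [mul_smul] at h'
    have h2 : (b : WittVector p k) • a = 0 := hpn m _ h'
    have h3 := congrArg (fun z => ((b⁻¹ : (WittVector p k)ˣ) : WittVector p k) • z) h2
    simpa [← mul_smul] using h3

end Groth.Agent.S19612
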