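import Groth.Statements.S19616
import Mathlib

set_option autoImplicit false
universe u
open CartMod

namespace Groth.Agent.S19616

/-- `p`-power torsion ideal. -/
def torsionIdeal (R : Type*) [CommRing R] (p : R) : Ideal R where
  carrier := {x | ∃ m : ℕ, p ^ m * x = 0}
  zero_mem' := ⟨0, by simp⟩
  add_mem' := by
    rintro x y ⟨m, hm⟩ ⟨m', hm'⟩
    refine ⟨m + m', ?_⟩
    have h : p ^ (m + m') * (x + y) = p ^ m' * (p ^ m * x) + p ^ m * (p ^ m' * y) := by ring
    rw [h, hm, hm', mul_zero, mul_zero, add_zero]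
  smul_mem' := by
    rintro c x ⟨m, hm⟩
    refine ⟨m, ?_⟩
    have h : p ^ m * (c • x) = c * (p ^ m * x) := by rw [smul_eq_mul]; ring
    rw [h, hm, mul_zero]

theorem regular_quot_torsion (R : Type*) [CommRing R] (p : R) :
    IsSMulRegular (R ⧸ torsionIdeal R p) (Ideal.Quotient.mk (torsionIdeal R p) p) := by
  intro x y hxy
  have hxy' : Ideal.Quotient.mk (torsionIdeal R p) p * x =
      Ideal.Quotient.mk (torsionIdeal R p) p * y := hxy
  obtain ⟨x, rfl⟩ := Ideal.Quotient.mk_surjective x
  obtain ⟨y, rfl⟩ := Ideal.Quotient.mk_surjective y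
  rw [← map_mul, ← map_mul, Ideal.Quotient.eq] at hxy'
  rw [Ideal.Quotient.eq]
  obtain ⟨m, hm⟩ := hxy'
  refine ⟨m + 1, ?_⟩
  have h : p ^ (m + 1) * (x - y) = p ^ m * (p * x - p * y) := by ring
  rw [h, hm]

theorem eq_zero_of_smul_eq_zero {R : Type*} [CommRing R] (p : R) (hp : IsSMulRegular R p)
    (I : Ideal R) (hI : I = Ideal.span {p})
    (z : AdicCompletion I R) (hz : p • z = 0) : z = 0 := by
  subst hI
  obtain ⟨c, rfl⟩ := AdicCompletion.mk_surjective (Ideal.span {p}) R z
  apply AdicCompletion.ext_evalₐ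
  intro m
  rw [map_zero, AdicCompletion.evalₐ_mk]
  have h1 : AdicCompletion.evalₐ (Ideal.span {p}) (m + 1)
      (p • AdicCompletion.mk (Ideal.span {p}) R c) = 0 := by
    rw [hz, map_zero]
  rw [map_smul, AdicCompletion.evalₐ_mk, Algebra.smul_def, Ideal.Quotient.algebraMap_eq, ← map_mul,
    Ideal.Quotient.eq_zero_iff_mem, Ideal.span_singleton_pow, Ideal.mem_span_singleton'] at h1
  obtain ⟨v, hv⟩ := h1
  have h3 : c.val (m + 1) = p ^ m * v := by
    apply hp
    show p • c.val (m + 1) = p • (p ^ m * v)
    rw [smul_eq_mul, smul_eq_mul, ← hv]; ring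
  rw [← AdicCompletion.Ideal.mk_eq_mk (Ideal.span {p}) (Nat.le_succ m) c,
    Ideal.Quotient.eq_zero_iff_mem, h3, Ideal.span_singleton_pow]
  exact Ideal.mul_mem_right _ _ (Ideal.mem_span_singleton_self _)

/-- relations ideal -/
noncomputable def relIdeal (p : ℕ) {A : Type u} [CommRing A] {n : ℕ} (a : Fin n → A) :
    Ideal (MvPolynomial (Fin n) A) :=
  Ideal.span (Set.range fun i =>
    (p : MvPolynomial (Fin n) A) * MvPolynomial.X i - MvPolynomial.C (a i))

abbrev D0 (p : ℕ) {A : Type u} [CommRing A] {n : ℕ} (a : Fin n → A) : Type u :=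
  MvPolynomial (Fin n) A ⧸ relIdeal p a

abbrev D1 (p : ℕ) {A : Type u} [CommRing A] {n : ℕ} (a : Fin n → A) : Type u :=
  D0 p a ⧸ torsionIdeal (D0 p a) (p : D0 p a)

noncomputable def proj (p : ℕ) {A : Type u} [CommRing A] {n : ℕ} (a : Fin n → A) :
    MvPolynomial (Fin n) A →ₐ[A] D1 p a :=
  (Ideal.Quotient.mkₐ A (torsionIdeal (D0 p a) (p : D0 p a))).comp
    (Ideal.Quotient.mkₐ A (relIdeal p a))

theorem proj_surjective (p : ℕ) {A : Type u} [CommRing A] {n : ℕ} (a : Fin n → A) :
    Function.Surjective (proj p a) := by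
  intro y
  obtain ⟨y0, rfl⟩ := Ideal.Quotient.mk_surjective y
  obtain ⟨y1, rfl⟩ := Ideal.Quotient.mk_surjective y0
  exact ⟨y1, rfl⟩

theorem exists_D1 (p : ℕ) (A : Type u) [CommRing A] {n : ℕ} (a : Fin n → A) :
    ∃ (E : Type u) (_ : CommRing E) (_ : Algebra A E) (t : Fin n → E),
      IsSMulRegular E (p : E) ∧ (∀ i, algebraMap A E (a i) = (p : E) * t i) ∧
      Algebra.adjoin A (Set.range t) = ⊤ ∧
      ∀ (B : Type u) [CommRing B] [Algebra A B], IsSMulRegular B (p : B) → ∀ b : Fin n → B,
        (∀ i, algebraMap A B (a i) = (p : B) * b i) → ∃ g : E →ₐ[A] B, ∀ i, g (t i) = b i := by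
  classical
  refine ⟨D1 p a, inferInstance, inferInstance, fun i => proj p a (MvPolynomial.X i),
    ?_, ?_, ?_, ?_⟩
  · have h := regular_quot_torsion (D0 p a) (p : D0 p a)
    rwa [map_natCast] at h
  · intro i
    have h0 : proj p a ((p : MvPolynomial (Fin n) A) * MvPolynomial.X i -
        MvPolynomial.C (a i)) = 0 := by
      have h1 : Ideal.Quotient.mk (relIdeal p a) ((p : MvPolynomial (Fin n) A) *
          MvPolynomial.X i - MvPolynomial.C (a i)) = 0 :=
        Ideal.Quotient.eq_zero_iff_mem.mpr (Ideal.subset_span ⟨i, rfl⟩)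
      show Ideal.Quotient.mk _ (Ideal.Quotient.mk (relIdeal p a) _) = 0
      rw [h1, map_zero]
    rw [map_sub, sub_eq_zero, map_mul, map_natCast] at h0
    show algebraMap A (D1 p a) (a i) = (p : D1 p a) * proj p a (MvPolynomial.X i)
    rw [h0, ← MvPolynomial.algebraMap_eq, AlgHom.commutes]
  · have h1 : Set.range (fun i => proj p a (MvPolynomial.X i)) =
        proj p a '' Set.range (MvPolynomial.X : Fin n → MvPolynomial (Fin n) A) := by
      rw [← Set.range_comp]; rfl
    rw [h1, ← AlgHom.map_adjoin, MvPolynomial.adjoin_range_X, Algebra.map_top,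
      AlgHom.range_eq_top]
    exact proj_surjective p a
  · intro B _ _ hB b hb
    let g0 : MvPolynomial (Fin n) A →ₐ[A] B := MvPolynomial.aeval b
    have hg0 : ∀ x ∈ relIdeal p a, g0 x = 0 := by
      intro x hx
      refine Submodule.span_induction ?_ ?_ ?_ ?_ hx
      · rintro _ ⟨i, rfl⟩
        simp [g0, hb i]
      · simp
      · intro x y _ _ hx hy
        rw [map_add, hx, hy, add_zero]
      · intro c x _ hx
        rw [smul_eq_mul, map_mul, hx, mul_zero]
    let g1 : D0 p a →ₐ[A] B := Ideal.Quotient.liftₐ (relIdeal p a) g0 hg0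
    have hg1 : ∀ x ∈ torsionIdeal (D0 p a) (p : D0 p a), g1 x = 0 := by
      rintro x ⟨m, hm⟩
      have h2 : (p : B) ^ m • g1 x = (p : B) ^ m • (0 : B) := by
        rw [smul_zero, smul_eq_mul, ← map_natCast g1, ← map_pow, ← map_mul, hm, map_zero]
      exact (hB.pow m) h2
    let g2 : D1 p a →ₐ[A] B := Ideal.Quotient.liftₐ _ g1 hg1
    refine ⟨g2, fun i => ?_⟩
    show g2 (Ideal.Quotient.mk _ (Ideal.Quotient.mk _ (MvPolynomial.X i))) = b i
    simp [g2, g1, g0]

theorem core (p : ℕ) (A : Type u) [CommRing A] {n : ℕ} (a : Fin n → A)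
    (E : Type u) [CommRing E] [Algebra A E] (h1 : IsSMulRegular E (p : E))
    (t : Fin n → E) (ht : ∀ i, algebraMap A E (a i) = (p : E) * t i)
    (hgen : Algebra.adjoin A (Set.range t) = ⊤)
    (huniv : ∀ (B : Type u) [CommRing B] [Algebra A B], IsSMulRegular B (p : B) →
      ∀ b : Fin n → B, (∀ i, algebraMap A B (a i) = (p : B) * b i) →
        ∃ g : E →ₐ[A] B, ∀ i, g (t i) = b i)
    (I1 : Ideal E) (hI1 : I1 = Ideal.span {(p : E)}) :
    ∃ (D : Type u) (_ : CommRing D) (_ : Algebra A D),
      IsAdicComplete (Ideal.span {(p : D)}) D ∧ IsSMulRegular D (p : D) ∧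
      (∀ i, algebraMap A D (a i) ∈ Ideal.span {(p : D)}) ∧
      ∀ (B : Type u) [CommRing B] [Algebra A B] [IsAdicComplete (Ideal.span {(p : B)}) B],
        IsSMulRegular B (p : B) → (∀ i, algebraMap A B (a i) ∈ Ideal.span {(p : B)}) →
          Nonempty (D →ₐ[A] B) ∧ Subsingleton (D →ₐ[A] B) ∧
            (Function.Surjective (algebraMap A B) → ∀ f : D →ₐ[A] B, Function.Surjective f) := by
  classical
  have hfg : I1.FG := by
    rw [hI1]; exact ⟨{(p : E)}, by simp⟩
  have hιp : algebraMap E (AdicCompletion I1 E) (p : E) = (p : AdicCompletion I1 E) :=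
    map_natCast _ p
  have hpow : ∀ m : ℕ, I1 ^ m = Ideal.span {(p : E) ^ m} := fun m => by
    rw [hI1, Ideal.span_singleton_pow]
  have htower : ∀ r : A, algebraMap A (AdicCompletion I1 E) r =
      algebraMap E (AdicCompletion I1 E) (algebraMap A E r) := fun r => rfl
  refine ⟨AdicCompletion I1 E, inferInstance, inferInstance, ?_, ?_, ?_, ?_⟩
  · have h := AdicCompletion.isAdicComplete_self I1 hfg
    have e : I1.map (algebraMap E (AdicCompletion I1 E)) =
        Ideal.span {(p : AdicCompletion I1 E)} := by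
      have emap : ∀ {X : Type u} [CommRing X] (f : E →+* X),
          I1.map f = Ideal.span {f (p : E)} := by
        intro X _ f
        rw [hI1, Ideal.map_span, Set.image_singleton]
      rw [emap, hιp]
    rw [← e]; exact h
  · rw [← hιp]
    intro x y hxy
    have hxy' : (p : E) • x = (p : E) • y := by
      rw [Algebra.smul_def, Algebra.smul_def]; exact hxy
    have := eq_zero_of_smul_eq_zero (p : E) h1 I1 hI1 (x - y) (by rw [smul_sub, hxy', sub_self])
    exact sub_eq_zero.mp this
  · intro i
    rw [htower, ht i, map_mul, hιp]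
    exact Ideal.mul_mem_right _ _ (Ideal.mem_span_singleton_self _)
  · intro B _ _ _ hB hab
    choose b hb using fun i => Ideal.mem_span_singleton'.mp (hab i)
    have hb' : ∀ i, algebraMap A B (a i) = (p : B) * b i := fun i => by rw [← hb i, mul_comm]
    obtain ⟨g, hg⟩ := huniv B hB b hb'
    have hgI : ∀ m : ℕ, I1 ^ m ≤ ((Ideal.span {(p : B)}) ^ m).comap g := by
      intro m
      rw [hpow m, Ideal.span_le, Set.singleton_subset_iff]
      show g ((p : E) ^ m) ∈ (Ideal.span {(p : B)}) ^ m
      rw [map_pow, map_natCast]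
      exact Ideal.pow_mem_pow (Ideal.mem_span_singleton_self _) m
    have hgmem : ∀ (m : ℕ) (x : E), x ∈ I1 ^ m → g x ∈ (Ideal.span {(p : B)}) ^ m :=
      fun m x hx => hgI m hx
    let f : (m : ℕ) → AdicCompletion I1 E →ₐ[A] B ⧸ (Ideal.span {(p : B)}) ^ m := fun m =>
      (Ideal.quotientMapₐ ((Ideal.span {(p : B)}) ^ m) g (hgI m)).comp
        ((AdicCompletion.evalₐ I1 m).restrictScalars A)
    have hfmk : ∀ (m : ℕ) (c : AdicCompletion.AdicCauchySequence I1 E),
        f m (AdicCompletion.mk I1 E c) =
          Ideal.Quotient.mk ((Ideal.span {(p : B)}) ^ m) (g (c.val m)) := by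
      intro m c
      show Ideal.quotientMapₐ _ g (hgI m)
        (AdicCompletion.evalₐ I1 m (AdicCompletion.mk I1 E c)) = _
      rw [AdicCompletion.evalₐ_mk, Ideal.quotient_map_mkₐ]
      rfl
    have hf : ∀ {m m' : ℕ} (hle : m ≤ m'),
        (Ideal.Quotient.factorₐ A (Ideal.pow_le_pow_right hle)).comp (f m') = f m := by
      intro m m' hle
      apply AlgHom.ext
      intro x
      obtain ⟨c, rfl⟩ := AdicCompletion.mk_surjective I1 E x
      rw [AlgHom.comp_apply, hfmk, hfmk]
      show Ideal.Quotient.mk _ (g (c.val m')) = Ideal.Quotient.mk _ (g (c.val m))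
      rw [Ideal.Quotient.eq, ← map_sub]
      apply hgmem
      rw [← Ideal.Quotient.eq]
      exact AdicCompletion.Ideal.mk_eq_mk I1 hle c
    let F : AdicCompletion I1 E →ₐ[A] B :=
      IsAdicComplete.liftAlgHom (Ideal.span {(p : B)}) f (fun hle => hf hle)
    refine ⟨⟨F⟩, ⟨fun F G => ?_⟩, ?_⟩
    · let ιₐ : E →ₐ[A] AdicCompletion I1 E := IsScalarTower.toAlgHom A E (AdicCompletion I1 E)
      have hFG1 : F.comp ιₐ = G.comp ιₐ := by
        apply AlgHom.ext_of_adjoin_eq_top hgen
        rintro _ ⟨i, rfl⟩
        apply hB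
        show (p : B) • (F.comp ιₐ) (t i) = (p : B) • (G.comp ιₐ) (t i)
        have key : ∀ H : AdicCompletion I1 E →ₐ[A] B,
            (p : B) • (H.comp ιₐ) (t i) = algebraMap A B (a i) := by
          intro H
          rw [smul_eq_mul, ← map_natCast (H.comp ιₐ) p, ← map_mul, ← ht i, AlgHom.commutes]
        rw [key F, key G]
      have hFG1' : ∀ x : E, F (algebraMap E (AdicCompletion I1 E) x) =
          G (algebraMap E (AdicCompletion I1 E) x) := fun x => DFunLike.congr_fun hFG1 x
      apply IsAdicComplete.algHom_ext (Ideal.span {(p : B)})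
      intro m
      apply AlgHom.ext
      intro x
      obtain ⟨c, rfl⟩ := AdicCompletion.mk_surjective I1 E x
      have hz : AdicCompletion.mk I1 E c - AdicCompletion.of I1 E (c.val m) ∈
          (I1 ^ m • ⊤ : Submodule E (AdicCompletion I1 E)) := by
        rw [AdicCompletion.pow_smul_top_eq_ker_eval hfg, LinearMap.mem_ker, map_sub, sub_eq_zero]
        rfl
      rw [hpow m, Submodule.ideal_span_singleton_smul,
        Submodule.mem_smul_pointwise_iff_exists] at hz
      obtain ⟨y, -, hy⟩ := hz
      have hdecomp : AdicCompletion.mk I1 E c =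
          algebraMap E (AdicCompletion I1 E) (c.val m) +
            algebraMap E (AdicCompletion I1 E) ((p : E) ^ m) * y := by
        rw [← Algebra.smul_def, hy]
        show _ = AdicCompletion.of I1 E (c.val m) + _
        abel
      have hH : ∀ H : AdicCompletion I1 E →ₐ[A] B,
          Ideal.Quotient.mk ((Ideal.span {(p : B)}) ^ m) (H (AdicCompletion.mk I1 E c)) =
            Ideal.Quotient.mk ((Ideal.span {(p : B)}) ^ m)
              (H (algebraMap E (AdicCompletion I1 E) (c.val m))) := by
        intro H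
        rw [Ideal.Quotient.eq, hdecomp, map_add, add_sub_cancel_left, map_mul, map_pow, hιp,
          map_pow, map_natCast]
        exact Ideal.mul_mem_right _ _ (Ideal.pow_mem_pow (Ideal.mem_span_singleton_self _) m)
      show Ideal.Quotient.mk _ (F _) = Ideal.Quotient.mk _ (G _)
      rw [hH F, hH G, hFG1']
    · intro hs f y
      obtain ⟨r, rfl⟩ := hs y
      exact ⟨algebraMap A (AdicCompletion I1 E) r, f.commutes r⟩

/-- Let p be a prime, A a commutative ring which is complete and separated for the p-adic topology and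
has no p-torsion, and a_1, …, a_n elements of A (so that (p, a_1, …, a_n) is an open ideal
containing p). Then there is a commutative A-algebra D, complete and separated for the p-adic
topology and without p-torsion, in which each a_i is divisible by p, with the following universal
property: for every A-algebra B which is p-adically complete and separated, has no p-torsion, and in
which each a_i is divisible by p, there is exactly one A-algebra homomorphism D → B; moreover this
homomorphism is surjective whenever A → B is. (D is the coordinate ring of the dilatation of Spf A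
with respect to p along the closed subscheme defined by (p, a_1, …, a_n). The published statement is
for flat p-adic formal schemes locally of finite type over the Witt vectors of a perfect field; this
row is its affine, ring-level case without a finiteness hypothesis.) -/
theorem result (p : ℕ) [Fact p.Prime]
    (A : Type u) [CommRing A] [IsAdicComplete (Ideal.span {(p : A)}) A]
    (hA : IsSMulRegular A (p : A)) {n : ℕ} (a : Fin n → A) :
    ∃ (D : Type u) (_ : CommRing D) (_ : Algebra A D),
      IsAdicComplete (Ideal.span {(p : D)}) D ∧ IsSMulRegular D (p : D) ∧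
      (∀ i, algebraMap A D (a i) ∈ Ideal.span {(p : D)}) ∧
      ∀ (B : Type u) [CommRing B] [Algebra A B] [IsAdicComplete (Ideal.span {(p : B)}) B],
        IsSMulRegular B (p : B) → (∀ i, algebraMap A B (a i) ∈ Ideal.span {(p : B)}) →
          Nonempty (D →ₐ[A] B) ∧ Subsingleton (D →ₐ[A] B) ∧
            (Function.Surjective (algebraMap A B) → ∀ f : D →ₐ[A] B, Function.Surjective f) := by
  obtain ⟨E, _, _, t, h1, ht, hgen, huniv⟩ := exists_D1 p A a
  exact core p A a E h1 t ht hgen huniv _ rfl

end Groth.Agent.S19616
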