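import Groth.Statements.S19621
import Groth.Agent.H16.IndCof7
import Groth.Agent.S14497
import Groth.Agent.S14499
import Mathlib.Data.Nat.PrimeFin

set_option autoImplicit false
universe v
open IndCof

namespace Groth.Agent.S19621

open CategoryTheory CategoryTheory.Limits Groth.Agent.H16.GenElem Groth.Agent.H16.IndCof

open CategoryTheory CategoryTheory.Limits in
/-- Let C be a small abelian category all of whose objects are Artinian and killed by some positive
integer, and A an ind-object of C of cofinite type (A[n] is isomorphic to an object of C for every n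
≥ 1). Then the following are equivalent: (i) the inverse system of copies of A indexed by the
positive integers ordered by divisibility, with transition map from the m-th to the n-th copy
multiplication by m/n, is Mittag-Leffler (for every n the images of these maps in the n-th copy are
eventually constant): A is divisibly ML; (ii) A has a divisible sub-object B' (multiplication by
every positive integer is an epimorphism of B') such that A/B' is isomorphic to an object of C;
(iii) multiplication by p on A is an epimorphism for all but finitely many primes p. (The published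
statement phrases (ii) as: A modulo its divisible part lies in C, and (iii) as: the p-primary part
of A is divisible for almost all p; the divisible part is the largest divisible sub-object, and
multiplication by p on A is an epimorphism exactly when it is one on the p-primary part, the other
primary parts being uniquely p-divisible.) -/
theorem result {C : Type v} [SmallCategory C] [Abelian C]
    (hart : ∀ X : C, IsArtinianObject X)
    (htor : ∀ X : C, ∃ n : ℕ, 0 < n ∧ n • 𝟙 X = 0)
    (A : Ind C) (hA : ∀ n : ℕ, 0 < n → (Ind.yoneda (C := C)).essImage (kernel (n • 𝟙 A))) :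
    ((∀ n : ℕ, 0 < n → ∃ m : ℕ, 0 < m ∧ n ∣ m ∧ ∀ m' : ℕ, 0 < m' → m ∣ m' →
        imageSubobject ((m' / n) • 𝟙 A) = imageSubobject ((m / n) • 𝟙 A)) ↔
      ∃ B' : Subobject A, (∀ k : ℕ, 0 < k → Epi (k • 𝟙 (B' : Ind C))) ∧
        (Ind.yoneda (C := C)).essImage (cokernel B'.arrow)) ∧
    ((∃ B' : Subobject A, (∀ k : ℕ, 0 < k → Epi (k • 𝟙 (B' : Ind C))) ∧
        (Ind.yoneda (C := C)).essImage (cokernel B'.arrow)) ↔
      {p : ℕ | p.Prime ∧ ¬ Epi (p • 𝟙 A)}.Finite) := by
  have key : (∃ B' : Subobject A, (∀ k : ℕ, 0 < k → Epi (k • 𝟙 (B' : Ind C))) ∧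
        ∃ M : ℕ, 0 < M ∧ M • 𝟙 (cokernel B'.arrow) = 0) ↔
      (∃ B' : Subobject A, (∀ k : ℕ, 0 < k → Epi (k • 𝟙 (B' : Ind C))) ∧
        (Ind.yoneda (C := C)).essImage (cokernel B'.arrow)) := by
    constructor
    · rintro ⟨B', hdiv, M, hM0, hM⟩
      refine ⟨B', hdiv, ?_⟩
      have hB' : B' = imageSubobject (M • 𝟙 A) := by
        apply le_antisymm
        · apply Subobject.le_of_factors
          rw [image_factors_iff]
          have := hdiv M hM0
          rw [← cancel_epi (M • 𝟙 (B' : Ind C)), comp_zero, ← Category.assoc, nsmul_id_comm,
            Category.assoc, cokernel.condition, comp_zero]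
        · rw [image_le_iff_subobject, factors_iff_comp_cokernel, nsmul_id_comm, hM, comp_zero]
      subst hB'
      exact Functor.essImage.ofIso (cokernelImageArrowIso _).symm
        (Groth.Agent.S14499.result hart htor A hA M hM0)
    · rintro ⟨B', hdiv, hQ⟩
      exact ⟨B', hdiv, torsion_of_essImage htor hQ⟩
  refine ⟨(Groth.Agent.S14497.result A).1.trans key, ?_⟩
  constructor
  · rintro ⟨B', hdiv, hQ⟩
    obtain ⟨t, ht0, ht⟩ := torsion_of_essImage htor hQ
    apply Set.Finite.subset (Finset.finite_toSet t.primeFactors)
    rintro p ⟨hp, hnepi⟩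
    rw [Finset.mem_coe, Nat.mem_primeFactors]
    refine ⟨hp, ?_, ht0.ne'⟩
    by_contra hpt
    exact hnepi (epi_nsmul_of_coprime B' p t ((Nat.Prime.coprime_iff_not_dvd hp).mpr hpt)
      (hdiv p hp.pos) ht)
  · intro hfin
    obtain ⟨N, hN0, hN⟩ := exists_divisible_of_finite hart htor A hA hfin
    refine ⟨imageSubobject (N • 𝟙 A), fun k hk => epi_nsmul_image N k (hN k hk), ?_⟩
    exact Functor.essImage.ofIso (cokernelImageArrowIso _).symm
      (Groth.Agent.S14499.result hart htor A hA N hN0)

end Groth.Agent.S19621
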