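import Groth.Statements.S19630
import Groth.Agent.H76.DeRhamGen
import Mathlib.RingTheory.Unramified.Field
-- import your own Groth.Agent.* helpers here

set_option autoImplicit false
universe u
open DeRham

namespace Groth.Agent.S19630

open exteriorPower in
/-- In the affine case, at ring level, let k ⊆ K be a finite extension of fields of characteristic zero
and B a smooth K-algebra, so that Y = Spec B is a smooth affine variety over K which may also be
regarded over k. Let ψ be the map of de Rham complexes from Ω•_{B/k} to Ω•_{B/K} induced by the
identity of B. Then ψ is bijective in every degree: the de Rham complex of Y over k and over K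
coincide, and hence the natural map H^i_dR(Y/k) → H^i_dR(Y/K) is an isomorphism. (The source states
the isomorphism on de Rham cohomology for any smooth variety Y over K, through the equality of the
two de Rham complexes; this row is that equality for affine Y.) -/
theorem result
    (k K : Type u) [Field k] [Field K] [CharZero k] [Algebra k K] [Module.Finite k K]
    (B : Type u) [CommRing B] [Algebra K B] [Algebra k B] [IsScalarTower k K B] [Algebra.Smooth K B]
    (ψ : ∀ p : ℕ, ↥(⋀[B]^p (Ω[B⁄k])) →+ ↥(⋀[B]^p (Ω[B⁄K])))
    (hψ : DeRham.IsCxMap (KaehlerDifferential.D k B) (KaehlerDifferential.D K B) (RingHom.id B) ψ)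
    (p : ℕ) :
    Function.Bijective (ψ p) := by
  classical
  have : Algebra.IsSeparable k K := inferInstance
  have : Algebra.FormallyUnramified k K := Algebra.FormallyUnramified.of_isSeparable k K
  have hπs : Function.Surjective (KaehlerDifferential.map k K B B) :=
    KaehlerDifferential.map_surjective k K B
  have hπi : Function.Injective (KaehlerDifferential.map k K B B) := by
    rw [← LinearMap.ker_eq_bot, ← KaehlerDifferential.range_mapBaseChange k K B,
      LinearMap.range_eq_bot]
    apply LinearMap.ext
    intro x
    induction x using TensorProduct.induction_on with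
    | zero => simp
    | tmul b w =>
      have : w = 0 := Subsingleton.elim _ _
      rw [this, TensorProduct.tmul_zero, map_zero]
      rfl
    | add x y hx hy => rw [map_add, hx, hy]; simp
  let e : Ω[B⁄k] ≃ₗ[B] Ω[B⁄K] := LinearEquiv.ofBijective (KaehlerDifferential.map k K B B) ⟨hπi, hπs⟩
  have hbij : Function.Bijective (exteriorPower.map p e.toLinearMap) := by
    refine Function.bijective_iff_has_inverse.2
      ⟨exteriorPower.map p e.symm.toLinearMap, fun x => ?_, fun x => ?_⟩
    · rw [← LinearMap.comp_apply, ← exteriorPower.map_comp]
      have : e.symm.toLinearMap ∘ₗ e.toLinearMap = LinearMap.id :=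
        LinearMap.ext fun z => e.symm_apply_apply z
      rw [this, exteriorPower.map_id, LinearMap.id_apply]
    · rw [← LinearMap.comp_apply, ← exteriorPower.map_comp]
      have : e.toLinearMap ∘ₗ e.symm.toLinearMap = LinearMap.id :=
        LinearMap.ext fun z => e.apply_symm_apply z
      rw [this, exteriorPower.map_id, LinearMap.id_apply]
  have hψeq : ∀ x, ψ p x = exteriorPower.map p e.toLinearMap x := by
    refine Groth.Agent.H76.gen_induction p
      (fun x => ψ p x = exteriorPower.map p e.toLinearMap x) ?_ ?_ ?_
    · show ψ p 0 = exteriorPower.map p e.toLinearMap 0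
      rw [map_zero, map_zero]
    · intro x y hx hy
      show ψ p (x + y) = exteriorPower.map p e.toLinearMap (x + y)
      rw [map_add, map_add, hx, hy]
    · intro b₀ b
      show ψ p (DeRham.gen (KaehlerDifferential.D k B) p b₀ b) =
        exteriorPower.map p e.toLinearMap (DeRham.gen (KaehlerDifferential.D k B) p b₀ b)
      rw [hψ p b₀ b]
      unfold DeRham.gen
      rw [map_smul, exteriorPower.map_apply_ιMulti]
      simp only [RingHom.id_apply]
      congr 2
      funext i
      show _ = KaehlerDifferential.map k K B B (KaehlerDifferential.D k B (b i))
      rw [KaehlerDifferential.map_D]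
      simp
  have hfun : (ψ p : ↥(⋀[B]^p (Ω[B⁄k])) → ↥(⋀[B]^p (Ω[B⁄K]))) =
      exteriorPower.map p e.toLinearMap := funext hψeq
  rw [hfun]
  exact hbij

end Groth.Agent.S19630
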