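import Groth.Statements.S19632
import Mathlib

set_option autoImplicit false
universe u
open DeRham

namespace Groth.Agent.S19632

open LaurentPolynomial in
/-- The Euler operator `T d/dT` on Laurent polynomials, as a linear map. -/
noncomputable def eulerLin (k : Type u) [Field k] : LaurentPolynomial k →ₗ[k] LaurentPolynomial k :=
  (AddMonoidAlgebra.coeffLinearEquiv k).symm.toLinearMap ∘ₗ
    (Finsupp.lsum k (fun n : ℤ => ((n : k) • Finsupp.lsingle (M := k) n : k →ₗ[k] (ℤ →₀ k)))) ∘ₗ
    (AddMonoidAlgebra.coeffLinearEquiv k).toLinearMap

theorem eulerLin_single (k : Type u) [Field k] (n : ℤ) (c : k) :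
    eulerLin k (AddMonoidAlgebra.single n c) = AddMonoidAlgebra.single n ((n : k) * c) := by
  apply AddMonoidAlgebra.coeff_injective
  simp only [eulerLin, LinearMap.comp_apply, LinearEquiv.coe_coe,
    AddMonoidAlgebra.coeffLinearEquiv_apply, AddMonoidAlgebra.coeff_single, Finsupp.lsum_single,
    LinearMap.smul_apply, Finsupp.lsingle_apply, Finsupp.smul_single, smul_eq_mul,
    AddMonoidAlgebra.coeffLinearEquiv_symm_apply]

theorem eulerLin_leibniz (k : Type u) [Field k] (a b : LaurentPolynomial k) :
    eulerLin k (a * b) = a • eulerLin k b + b • eulerLin k a := by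
  induction a using AddMonoidAlgebra.induction_linear with
  | zero => simp
  | add f g hf hg =>
    rw [add_mul, map_add, hf, hg, map_add, add_smul, smul_add]
    abel
  | single m r =>
    induction b using AddMonoidAlgebra.induction_linear with
    | zero => simp
    | add f g hf hg =>
      rw [mul_add, map_add, hf, hg, map_add, add_smul, smul_add]
      abel
    | single n s =>
      rw [AddMonoidAlgebra.single_mul_single, eulerLin_single, eulerLin_single, eulerLin_single,
        smul_eq_mul, smul_eq_mul, AddMonoidAlgebra.single_mul_single,
        AddMonoidAlgebra.single_mul_single, add_comm n m, ← AddMonoidAlgebra.single_add]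
      congr 1
      push_cast
      ring

/-- The Euler operator as a derivation. -/
noncomputable def eulerDer (k : Type u) [Field k] :
    Derivation k (LaurentPolynomial k) (LaurentPolynomial k) :=
  Derivation.mk' (eulerLin k) (eulerLin_leibniz k)

theorem eulerLin_coeff (k : Type u) [Field k] (f : LaurentPolynomial k) (n : ℤ) :
    (eulerLin k f).coeff n = (n : k) * f.coeff n := by
  induction f using AddMonoidAlgebra.induction_linear with
  | zero => simp
  | add f g hf hg =>
    rw [map_add, AddMonoidAlgebra.coeff_add, AddMonoidAlgebra.coeff_add, Finsupp.add_apply,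
      Finsupp.add_apply, hf, hg, mul_add]
  | single m r =>
    rw [eulerLin_single, AddMonoidAlgebra.coeff_single, AddMonoidAlgebra.coeff_single]
    by_cases h : m = n
    · subst h; simp
    · simp [Finsupp.single_eq_of_ne (Ne.symm h)]

/-- Let k be a field of characteristic zero and G_m = Spec k[t, t⁻¹] the multiplicative group. The
kernel of the differential d : k[t, t⁻¹] → Ω¹ of the de Rham complex of G_m consists of the
constants: for a Laurent polynomial f, df = 0 if and only if f lies in the image of k. Equivalently
H^0_dR(G_m/k) = k. (Characteristic zero is used: in characteristic p the element t^p is closed.) -/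
theorem result (k : Type u) [Field k] [CharZero k]
    (f : LaurentPolynomial k) :
    KaehlerDifferential.D k (LaurentPolynomial k) f = 0 ↔ f ∈ Set.range (algebraMap k (LaurentPolynomial k)) := by
  constructor
  · intro h
    have h1 : eulerDer k f = 0 := by
      have := congrArg (eulerDer k).liftKaehlerDifferential h
      rwa [Derivation.liftKaehlerDifferential_comp_D, map_zero] at this
    have h2 : ∀ n : ℤ, n ≠ 0 → f.coeff n = 0 := by
      intro n hn
      have h3 : (eulerLin k f).coeff n = 0 := by
        have : eulerLin k f = 0 := h1
        rw [this]; rfl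
      rw [eulerLin_coeff] at h3
      have hn' : (n : k) ≠ 0 := Int.cast_ne_zero.mpr hn
      exact (mul_eq_zero.mp h3).resolve_left hn'
    refine ⟨f.coeff 0, ?_⟩
    rw [← LaurentPolynomial.C_eq_algebraMap, ← LaurentPolynomial.single_eq_C]
    apply AddMonoidAlgebra.coeff_injective
    ext n
    rw [AddMonoidAlgebra.coeff_single]
    by_cases hn : n = 0
    · subst hn; simp
    · rw [h2 n hn, Finsupp.single_eq_of_ne hn]
  · rintro ⟨c, rfl⟩
    exact Derivation.map_algebraMap _ c

end Groth.Agent.S19632
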