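import Groth.Statements.S19633
import Mathlib
import Groth.Agent.H76.DeRhamGen
import Groth.Agent.S19632
-- import your own Groth.Agent.* helpers here

set_option autoImplicit false
universe u
open DeRham

namespace Groth.Agent.S19633


open LaurentPolynomial exteriorPower Groth.Agent.H76 Groth.Agent.S19632

section aux

variable (k : Type u) [Field k]

theorem single_eq_smul_T (n : ℤ) (c : k) :
    (AddMonoidAlgebra.single n c : LaurentPolynomial k) = c • T n := by
  rw [smul_eq_C_mul, single_eq_C_mul_T]

theorem E_T1 : eulerDer k (T 1) = T 1 := by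
  show eulerLin k (AddMonoidAlgebra.single 1 1) = AddMonoidAlgebra.single 1 1
  rw [eulerLin_single, Int.cast_one, one_mul]

theorem E_single (n : ℤ) (c : k) :
    eulerDer k (AddMonoidAlgebra.single n c) = AddMonoidAlgebra.single n ((n : k) * c) :=
  eulerLin_single k n c

theorem E_coeff_zero (f : LaurentPolynomial k) : (eulerDer k f).coeff 0 = 0 := by
  show (eulerLin k f).coeff 0 = 0
  rw [eulerLin_coeff, Int.cast_zero, zero_mul]

theorem Tneg_mul_T : (T (-1) : LaurentPolynomial k) * T 1 = 1 := by
  rw [← T_add]; norm_num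

/-- A derivation of the Laurent polynomial ring that kills `T` is zero. -/
theorem der_ext {M : Type u} [AddCommGroup M] [Module (LaurentPolynomial k) M] [Module k M]
    [IsScalarTower k (LaurentPolynomial k) M]
    (δ : Derivation k (LaurentPolynomial k) M) (h : δ (T 1) = 0) (f : LaurentPolynomial k) :
    δ f = 0 := by
  have hnat : ∀ m : ℕ, δ (T (m : ℤ)) = 0 := by
    intro m
    have : (T (m : ℤ) : LaurentPolynomial k) = (T 1 : LaurentPolynomial k) ^ m := by rw [T_pow, mul_one]
    rw [this, Derivation.leibniz_pow, h, smul_zero, smul_zero]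
  have hneg : ∀ m : ℕ, δ (T (-(m : ℤ))) = 0 := by
    intro m
    have h1 : (T (-(m : ℤ)) : LaurentPolynomial k) * T (m : ℤ) = 1 := by
      rw [← T_add]; simp
    have h2 := congrArg δ h1
    rw [Derivation.leibniz, Derivation.map_one_eq_zero, hnat, smul_zero, zero_add] at h2
    have h3 : (T (-(m : ℤ)) : LaurentPolynomial k) •
        ((T (m : ℤ) : LaurentPolynomial k) • δ (T (-(m : ℤ)))) = (0 : M) := by
      rw [h2, smul_zero]
    rwa [smul_smul, h1, one_smul] at h3
  have hT : ∀ n : ℤ, δ (T n) = 0 := by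
    intro n
    obtain ⟨m, rfl | rfl⟩ := Int.eq_nat_or_neg n
    · exact hnat m
    · exact hneg m
  induction f using AddMonoidAlgebra.induction_linear with
  | zero => exact map_zero δ
  | add x y hx hy => rw [map_add, hx, hy, add_zero]
  | single n c => rw [single_eq_smul_T, Derivation.map_smul, hT, smul_zero]

theorem D_eq (f : LaurentPolynomial k) :
    KaehlerDifferential.D k (LaurentPolynomial k) f =
      (T (-1) : LaurentPolynomial k) •
        (eulerDer k f • KaehlerDifferential.D k (LaurentPolynomial k) (T 1)) := by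
  let φ : LaurentPolynomial k →ₗ[LaurentPolynomial k] Ω[LaurentPolynomial k⁄k] :=
    (T (-1) : LaurentPolynomial k) •
      LinearMap.toSpanSingleton (LaurentPolynomial k) (Ω[LaurentPolynomial k⁄k])
        (KaehlerDifferential.D k (LaurentPolynomial k) (T 1))
  have hφ : ∀ a, φ a = (T (-1) : LaurentPolynomial k) •
      (a • KaehlerDifferential.D k (LaurentPolynomial k) (T 1)) :=
    fun a => rfl
  have h0 := der_ext k (KaehlerDifferential.D k (LaurentPolynomial k) - φ.compDer (eulerDer k))
    (by
      rw [Derivation.sub_apply, LinearMap.compDer, sub_eq_zero]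
      show _ = φ (eulerDer k (T 1))
      rw [hφ, E_T1, smul_smul, Tneg_mul_T, one_smul]) f
  rw [Derivation.sub_apply, sub_eq_zero] at h0
  rw [h0]
  exact hφ _

theorem exists_smul_DT (ω : Ω[LaurentPolynomial k⁄k]) :
    ∃ a : LaurentPolynomial k, ω = a • KaehlerDifferential.D k (LaurentPolynomial k) (T 1) := by
  have hω : ω ∈ Submodule.span (LaurentPolynomial k)
      (Set.range (KaehlerDifferential.D k (LaurentPolynomial k))) := by
    rw [KaehlerDifferential.span_range_derivation]; trivial
  induction hω using Submodule.span_induction with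
  | mem x hx =>
    obtain ⟨f, rfl⟩ := hx
    exact ⟨T (-1) * eulerDer k f, by rw [D_eq k f, mul_smul]⟩
  | zero => exact ⟨0, (zero_smul _ _).symm⟩
  | add x y _ _ hx hy =>
    obtain ⟨a, rfl⟩ := hx; obtain ⟨b, rfl⟩ := hy; exact ⟨a + b, (add_smul _ _ _).symm⟩
  | smul r x _ hx => obtain ⟨a, rfl⟩ := hx; exact ⟨r * a, (mul_smul _ _ _).symm⟩

theorem subsingleton_extPow (p : ℕ) :
    Subsingleton ↥(⋀[LaurentPolynomial k]^(p + 2) (Ω[LaurentPolynomial k⁄k])) := by
  have hspan : (⊤ : Submodule (LaurentPolynomial k)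
      ↥(⋀[LaurentPolynomial k]^(p + 2) (Ω[LaurentPolynomial k⁄k]))) = ⊥ := by
    rw [← ιMulti_span (LaurentPolynomial k) (p + 2) (M := Ω[LaurentPolynomial k⁄k]),
      Submodule.span_eq_bot]
    rintro _ ⟨v, rfl⟩
    have hv : ∀ i, ∃ a : LaurentPolynomial k,
        v i = a • KaehlerDifferential.D k (LaurentPolynomial k) (T 1) :=
      fun i => exists_smul_DT k (v i)
    choose a ha using hv
    have hve : v = fun i => a i • KaehlerDifferential.D k (LaurentPolynomial k) (T 1) :=
      funext ha
    rw [hve, AlternatingMap.map_smul_univ,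
      AlternatingMap.map_eq_zero_of_eq _ _ (i := 0) (j := 1) rfl Fin.zero_ne_one, smul_zero]
  refine ⟨fun x y => ?_⟩
  have hx : x ∈ (⊤ : Submodule (LaurentPolynomial k)
      ↥(⋀[LaurentPolynomial k]^(p + 2) (Ω[LaurentPolynomial k⁄k]))) := trivial
  have hy : y ∈ (⊤ : Submodule (LaurentPolynomial k)
      ↥(⋀[LaurentPolynomial k]^(p + 2) (Ω[LaurentPolynomial k⁄k]))) := trivial
  rw [hspan] at hx hy
  rw [(Submodule.mem_bot _).1 hx, (Submodule.mem_bot _).1 hy]

end aux



open exteriorPower in
/-- Let k be a field of characteristic zero, G_m = Spec k[t, t⁻¹], and d the de Rham differential of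
k[t, t⁻¹] over k. Then: every 1-form is closed; the exact 1-forms and the k-line spanned by t⁻¹ dt
are complementary subspaces of the 1-forms, and t⁻¹ dt is not exact — so H^1_dR(G_m/k) is
one-dimensional, generated by the class of dt/t (the isomorphism with k being the residue); and for
every i ≥ 2 the closed i-forms are exact, so H^i_dR(G_m/k) = 0 for i > 1. (Characteristic zero is
used in the computation of the exact forms.) -/
theorem result (k : Type u) [Field k] [CharZero k]
    (d : ∀ p : ℕ, ↥(⋀[LaurentPolynomial k]^p (Ω[LaurentPolynomial k⁄k])) →ₗ[k] ↥(⋀[LaurentPolynomial k]^(p + 1) (Ω[LaurentPolynomial k⁄k])))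
    (hd : DeRham.IsDiff (KaehlerDifferential.D k (LaurentPolynomial k)) d) :
    DeRham.cocycles d 1 = ⊤ ∧
    IsCompl (DeRham.coboundaries d 1)
      (Submodule.span k {DeRham.gen (KaehlerDifferential.D k (LaurentPolynomial k)) 1
        (LaurentPolynomial.T (-1)) (fun _ => LaurentPolynomial.T 1)}) ∧
    DeRham.gen (KaehlerDifferential.D k (LaurentPolynomial k)) 1
        (LaurentPolynomial.T (-1)) (fun _ => LaurentPolynomial.T 1) ∉ DeRham.coboundaries d 1 ∧
    ∀ i : ℕ, DeRham.cocycles d (i + 2) ≤ DeRham.coboundaries d (i + 2) := by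
  have hsub := subsingleton_extPow k
  -- notation
  obtain ⟨j, hj⟩ : ∃ j : Ω[LaurentPolynomial k⁄k] ≃ₗ[LaurentPolynomial k]
      ↥(⋀[LaurentPolynomial k]^1 (Ω[LaurentPolynomial k⁄k])),
      ∀ ω, j ω = ιMulti (LaurentPolynomial k) 1 (fun _ => ω) :=
    ⟨(oneEquiv (LaurentPolynomial k) (Ω[LaurentPolynomial k⁄k])).symm,
      fun ω => exteriorPower.oneEquiv_symm_apply _ _ ω⟩
  obtain ⟨ρ, hρ⟩ : ∃ ρ : ↥(⋀[LaurentPolynomial k]^1 (Ω[LaurentPolynomial k⁄k]))
      →ₗ[LaurentPolynomial k] LaurentPolynomial k,
      ∀ ω, ρ (j ω) = (eulerDer k).liftKaehlerDifferential ω :=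
    ⟨(eulerDer k).liftKaehlerDifferential ∘ₗ j.symm.toLinearMap, fun ω => by
      simp only [LinearMap.comp_apply, LinearEquiv.coe_coe, LinearEquiv.symm_apply_apply]⟩
  have hρD : ∀ f, ρ (j (KaehlerDifferential.D k (LaurentPolynomial k) f)) = eulerDer k f :=
    fun f => by rw [hρ, Derivation.liftKaehlerDifferential_comp_D]
  have hg : DeRham.gen (KaehlerDifferential.D k (LaurentPolynomial k)) 1
      (LaurentPolynomial.T (-1)) (fun _ => LaurentPolynomial.T 1) =
      j ((T (-1) : LaurentPolynomial k) •
        KaehlerDifferential.D k (LaurentPolynomial k) (T 1)) := by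
    unfold DeRham.gen
    rw [map_smul, hj]
  have hρg : ρ (DeRham.gen (KaehlerDifferential.D k (LaurentPolynomial k)) 1
      (LaurentPolynomial.T (-1)) (fun _ => LaurentPolynomial.T 1)) = 1 := by
    rw [hg, map_smul, map_smul, hρD, E_T1, smul_eq_mul, Tneg_mul_T]
  have hd0 : ∀ (b₀ : LaurentPolynomial k) (b : Fin 0 → LaurentPolynomial k),
      d 0 (DeRham.gen (KaehlerDifferential.D k (LaurentPolynomial k)) 0 b₀ b) =
        j (KaehlerDifferential.D k (LaurentPolynomial k) b₀) := by
    intro b₀ b
    rw [hd.1 0 b₀ b, hj]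
    congr 1
    funext i
    refine Fin.cases ?_ (fun i => i.elim0) i
    rw [Fin.cons_zero]
  have hrange : ∀ x, ∃ f, d 0 x = j (KaehlerDifferential.D k (LaurentPolynomial k) f) := by
    refine gen_induction 0 _ ⟨0, by simp⟩ ?_ ?_
    · rintro x y ⟨f₁, h₁⟩ ⟨f₂, h₂⟩
      exact ⟨f₁ + f₂, by rw [map_add, h₁, h₂, map_add, map_add]⟩
    · intro b₀ b
      exact ⟨b₀, hd0 b₀ b⟩
  have hcob : DeRham.coboundaries d 1 = LinearMap.range (d 0) := rfl
  have hone : ((1 : LaurentPolynomial k)).coeff 0 = 1 := by
    rw [← map_one (C : k →+* LaurentPolynomial k), C_apply, if_pos rfl]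
  have hnot : DeRham.gen (KaehlerDifferential.D k (LaurentPolynomial k)) 1
      (LaurentPolynomial.T (-1)) (fun _ => LaurentPolynomial.T 1) ∉ DeRham.coboundaries d 1 := by
    rw [hcob]
    rintro ⟨y, hy⟩
    obtain ⟨f, hf⟩ := hrange y
    have h1 := congrArg ρ (hy.symm.trans hf)
    rw [hρg, hρD] at h1
    have h2 := congrArg (fun q : LaurentPolynomial k => q.coeff 0) h1
    simp only [hone, E_coeff_zero] at h2
    exact one_ne_zero h2
  refine ⟨?_, ⟨?_, ?_⟩, hnot, ?_⟩
  · have := hsub 0
    exact LinearMap.ker_eq_top.2 (LinearMap.ext fun x => Subsingleton.elim _ _)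
  · rw [hcob, Submodule.disjoint_def]
    rintro x ⟨y, rfl⟩ hx
    obtain ⟨c, hc⟩ := Submodule.mem_span_singleton.1 hx
    obtain ⟨f, hf⟩ := hrange y
    have h1 := congrArg ρ (hc.trans hf)
    rw [← algebraMap_smul (LaurentPolynomial k) c, map_smul, hρg, hρD, smul_eq_mul, mul_one]
      at h1
    have h2 := congrArg (fun q : LaurentPolynomial k => q.coeff 0) h1
    simp only [E_coeff_zero, LaurentPolynomial.algebraMap_apply, C_apply, if_pos rfl] at h2
    have hc0 : c = 0 := by simpa using h2
    rw [← hc, hc0, zero_smul]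
  · rw [hcob, codisjoint_iff, eq_top_iff]
    rintro x -
    obtain ⟨ω, rfl⟩ := j.surjective x
    obtain ⟨h, rfl⟩ := exists_smul_DT k ω
    induction h using AddMonoidAlgebra.induction_linear with
    | zero => rw [zero_smul, map_zero]; exact zero_mem _
    | add a b ha hb => rw [add_smul, map_add]; exact add_mem ha hb
    | single n c =>
      by_cases hn : n = -1
      · subst hn
        apply Submodule.mem_sup_right
        have : j ((AddMonoidAlgebra.single (-1) c : LaurentPolynomial k) •
            KaehlerDifferential.D k (LaurentPolynomial k) (T 1)) =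
            c • DeRham.gen (KaehlerDifferential.D k (LaurentPolynomial k)) 1
              (LaurentPolynomial.T (-1)) (fun _ => LaurentPolynomial.T 1) := by
          rw [hg, single_eq_smul_T, map_smul, map_smul, smul_assoc]
        rw [this]
        exact Submodule.smul_mem _ c (Submodule.mem_span_singleton_self _)
      · apply Submodule.mem_sup_left
        have hne : ((n + 1 : ℤ) : k) ≠ 0 := Int.cast_ne_zero.2 (by omega)
        refine ⟨DeRham.gen (KaehlerDifferential.D k (LaurentPolynomial k)) 0
          (AddMonoidAlgebra.single (n + 1) (c / ((n + 1 : ℤ) : k))) (fun i => i.elim0), ?_⟩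
        rw [hd0, D_eq, E_single, smul_smul]
        congr 2
        show (AddMonoidAlgebra.single (-1) 1 : LaurentPolynomial k) *
          AddMonoidAlgebra.single (n + 1) (((n + 1 : ℤ) : k) * (c / ((n + 1 : ℤ) : k))) =
          AddMonoidAlgebra.single n c
        rw [AddMonoidAlgebra.single_mul_single, one_mul, mul_div_cancel₀ _ hne]
        congr 1
        ring
  · intro i x _
    have := hsub i
    rw [Subsingleton.elim x 0]
    exact zero_mem _

end Groth.Agent.S19633
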