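import Groth.Statements.S19634
import Mathlib

set_option autoImplicit false
universe u
open DeRham

namespace Groth.Agent.S19634

open MvPolynomial

/-- The Euler operator `X_i d/dX_i` on polynomials in two variables, as a linear map. -/
noncomputable def eulerLin (k : Type u) [Field k] (i : Fin 2) :
    MvPolynomial (Fin 2) k →ₗ[k] MvPolynomial (Fin 2) k :=
  (basisMonomials (Fin 2) k).constr k (fun m => ((m i : ℕ) : k) • monomial m (1 : k))

theorem eulerLin_monomial (k : Type u) [Field k] (i : Fin 2) (m : Fin 2 →₀ ℕ) (c : k) :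
    eulerLin k i (monomial m c) = monomial m (((m i : ℕ) : k) * c) := by
  have h : monomial m c = c • (basisMonomials (Fin 2) k) m := by
    rw [coe_basisMonomials, smul_monomial, smul_eq_mul, mul_one]
  rw [h, map_smul, eulerLin, Module.Basis.constr_basis, smul_monomial, smul_monomial]
  congr 1
  simp [mul_comm]

theorem eulerLin_leibniz (k : Type u) [Field k] (i : Fin 2) (a b : MvPolynomial (Fin 2) k) :
    eulerLin k i (a * b) = a • eulerLin k i b + b • eulerLin k i a := by
  induction a using MvPolynomial.induction_on' with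
  | add f g hf hg =>
    rw [add_mul, map_add, hf, hg, map_add, add_smul, smul_add]
    abel
  | monomial m r =>
    induction b using MvPolynomial.induction_on' with
    | add f g hf hg =>
      rw [mul_add, map_add, hf, hg, map_add, add_smul, smul_add]
      abel
    | monomial n s =>
      rw [monomial_mul, eulerLin_monomial, eulerLin_monomial, eulerLin_monomial,
        smul_eq_mul, smul_eq_mul, monomial_mul, monomial_mul, add_comm n m, ← map_add]
      congr 1
      simp only [Finsupp.add_apply]
      push_cast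
      ring

/-- The Euler operator as a derivation. -/
noncomputable def eulerDer (k : Type u) [Field k] (i : Fin 2) :
    Derivation k (MvPolynomial (Fin 2) k) (MvPolynomial (Fin 2) k) :=
  Derivation.mk' (eulerLin k i) (eulerLin_leibniz k i)

theorem coeff_eulerLin (k : Type u) [Field k] (i : Fin 2) (g : MvPolynomial (Fin 2) k)
    (m : Fin 2 →₀ ℕ) : coeff m (eulerLin k i g) = ((m i : ℕ) : k) * coeff m g := by
  induction g using MvPolynomial.induction_on' with
  | add f g hf hg => rw [map_add, coeff_add, coeff_add, hf, hg, mul_add]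
  | monomial n s =>
    rw [eulerLin_monomial, coeff_monomial, coeff_monomial]
    by_cases h : n = m
    · subst h; simp
    · simp [h]

/-- the exponent vector (1,1) -/
noncomputable def e11 : Fin 2 →₀ ℕ := Finsupp.single 0 1 + Finsupp.single 1 1

theorem e11_le (m : Fin 2 →₀ ℕ) : e11 ≤ m ↔ m 0 ≠ 0 ∧ m 1 ≠ 0 := by
  rw [Finsupp.le_def, Fin.forall_fin_two]
  simp [e11, Nat.one_le_iff_ne_zero]

theorem span_eq (k : Type u) [Field k] :
    Ideal.span {(X 0 * X 1 : MvPolynomial (Fin 2) k)} =
      Ideal.span ((fun s => monomial s (1 : k)) '' {e11}) := by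
  congr 1
  rw [Set.image_singleton]
  congr 1
  rw [e11, X, X, monomial_mul, mul_one]

theorem mem_span_iff (k : Type u) [Field k] (x : MvPolynomial (Fin 2) k) :
    x ∈ Ideal.span {(X 0 * X 1 : MvPolynomial (Fin 2) k)} ↔
      ∀ m ∈ x.support, m 0 ≠ 0 ∧ m 1 ≠ 0 := by
  rw [span_eq, mem_ideal_span_monomial_image]
  simp [e11_le]

theorem eulerLin_mem (k : Type u) [Field k] (i : Fin 2) (x : MvPolynomial (Fin 2) k)
    (hx : x ∈ Ideal.span {(X 0 * X 1 : MvPolynomial (Fin 2) k)}) :
    eulerLin k i x ∈ Ideal.span {(X 0 * X 1 : MvPolynomial (Fin 2) k)} := by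
  rw [mem_span_iff] at hx ⊢
  intro m hm
  apply hx m
  rw [mem_support_iff] at hm ⊢
  intro h0
  apply hm
  rw [coeff_eulerLin, h0, mul_zero]

theorem aux (k : Type u) [Field k] [CharZero k] (I : Ideal (MvPolynomial (Fin 2) k))
    (hI : I = Ideal.span {(MvPolynomial.X 0 * MvPolynomial.X 1 : MvPolynomial (Fin 2) k)})
    (P : MvPolynomial (Fin 2) k ⧸ I) :
    KaehlerDifferential.D k (MvPolynomial (Fin 2) k ⧸ I) P = 0 ↔
      P ∈ Set.range (algebraMap k (MvPolynomial (Fin 2) k ⧸ I)) := by
  subst hI
  have hsurj := Ideal.Quotient.mkₐ_surjective k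
    (Ideal.span {(MvPolynomial.X 0 * MvPolynomial.X 1 : MvPolynomial (Fin 2) k)})
  have hd : ∀ i : Fin 2, ∀ x, Ideal.Quotient.mkₐ k (Ideal.span {(MvPolynomial.X 0 * MvPolynomial.X 1 : MvPolynomial (Fin 2) k)}) x = 0 →
      Ideal.Quotient.mkₐ k (Ideal.span {(MvPolynomial.X 0 * MvPolynomial.X 1 : MvPolynomial (Fin 2) k)}) (eulerDer k i x) = 0 := by
    intro i x hx
    rw [Ideal.Quotient.mkₐ_eq_mk, Ideal.Quotient.eq_zero_iff_mem] at hx ⊢
    exact eulerLin_mem k i x hx
  constructor
  · intro h
    obtain ⟨g, rfl⟩ := hsurj P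
    have hE : ∀ i : Fin 2, eulerLin k i g ∈
        Ideal.span {(MvPolynomial.X 0 * MvPolynomial.X 1 : MvPolynomial (Fin 2) k)} := by
      intro i
      have h1 := congrArg (Derivation.liftOfSurjective hsurj (hd i)).liftKaehlerDifferential h
      rw [Derivation.liftKaehlerDifferential_comp_D, map_zero,
        Derivation.liftOfSurjective_apply, Ideal.Quotient.mkₐ_eq_mk,
        Ideal.Quotient.eq_zero_iff_mem] at h1
      exact h1
    have hsupp : ∀ m ∈ g.support, m = 0 ∨ (m 0 ≠ 0 ∧ m 1 ≠ 0) := by
      intro m hm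
      by_cases h0 : m 0 = 0
      · by_cases h1 : m 1 = 0
        · left
          ext j
          fin_cases j
          · simpa using h0
          · simpa using h1
        · right
          have := (mem_span_iff k _).mp (hE 1) m (by
            rw [mem_support_iff, coeff_eulerLin]
            exact mul_ne_zero (Nat.cast_ne_zero.mpr h1) (mem_support_iff.mp hm))
          exact this
      · right
        have := (mem_span_iff k _).mp (hE 0) m (by
          rw [mem_support_iff, coeff_eulerLin]
          exact mul_ne_zero (Nat.cast_ne_zero.mpr h0) (mem_support_iff.mp hm))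
        exact this
    refine ⟨coeff 0 g, ?_⟩
    have hmem : g - C (coeff 0 g) ∈
        Ideal.span {(MvPolynomial.X 0 * MvPolynomial.X 1 : MvPolynomial (Fin 2) k)} := by
      rw [mem_span_iff]
      intro m hm
      rw [mem_support_iff, coeff_sub, coeff_C] at hm
      by_cases hm0 : m = 0
      · subst hm0
        simp at hm
      · rw [if_neg (Ne.symm hm0), sub_zero] at hm
        rcases hsupp m (mem_support_iff.mpr hm) with h | h
        · exact absurd h hm0
        · exact h
    have : Ideal.Quotient.mkₐ k (Ideal.span {(MvPolynomial.X 0 * MvPolynomial.X 1 : MvPolynomial (Fin 2) k)}) g = Ideal.Quotient.mkₐ k (Ideal.span {(MvPolynomial.X 0 * MvPolynomial.X 1 : MvPolynomial (Fin 2) k)}) (C (coeff 0 g)) := by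
      rw [Ideal.Quotient.mkₐ_eq_mk, Ideal.Quotient.mk_eq_mk_iff_sub_mem]
      exact hmem
    rw [this]
    rfl
  · rintro ⟨c, rfl⟩
    exact Derivation.map_algebraMap _ c


/-- Let k be a field of characteristic zero and A = k[X, Y]/(XY), the coordinate ring of two affine
lines crossing in a point. In the naive de Rham complex A → Ω¹_{A/k} the kernel of d consists of the
constants: dP = 0 if and only if P is in the image of k. -/
theorem result (k : Type u) [Field k] [CharZero k]
    (P : MvPolynomial (Fin 2) k ⧸ Ideal.span {(MvPolynomial.X 0 * MvPolynomial.X 1 : MvPolynomial (Fin 2) k)}) :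
    KaehlerDifferential.D k (MvPolynomial (Fin 2) k ⧸ Ideal.span {(MvPolynomial.X 0 * MvPolynomial.X 1 : MvPolynomial (Fin 2) k)}) P = 0 ↔
      P ∈ Set.range (algebraMap k (MvPolynomial (Fin 2) k ⧸ Ideal.span {(MvPolynomial.X 0 * MvPolynomial.X 1 : MvPolynomial (Fin 2) k)})) := by
  exact aux k _ rfl P

end Groth.Agent.S19634
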