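import Groth.Statements.S19635
import Mathlib.Algebra.MvPolynomial.PDeriv
import Mathlib.RingTheory.Derivation.Lie
import Mathlib.RingTheory.Ideal.Quotient.Operations

set_option autoImplicit false
universe u
open DeRham

namespace Groth.Agent.S19635

open MvPolynomial


variable (k : Type u) [Field k]

/-- rotation vector field -/
noncomputable def dRot : Derivation k (MvPolynomial (Fin 2) k) (MvPolynomial (Fin 2) k) :=
  mkDerivation k ![-X 1, X 0]

@[simp] theorem dRot_X0 : dRot k (X 0) = -X 1 := by simp [dRot, mkDerivation_X]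
@[simp] theorem dRot_X1 : dRot k (X 1) = X 0 := by simp [dRot, mkDerivation_X]

theorem comm0 (p : MvPolynomial (Fin 2) k) :
    pderiv 0 (dRot k p) = dRot k (pderiv 0 p) + pderiv 1 p := by
  have h : ⁅(pderiv 0 : Derivation k (MvPolynomial (Fin 2) k) (MvPolynomial (Fin 2) k)), dRot k⁆ = pderiv 1 := by
    apply MvPolynomial.derivation_ext
    intro i
    fin_cases i <;> simp [Derivation.commutator_apply]
  have := congrArg (fun D => D p) h
  simp only [Derivation.commutator_apply] at this
  rw [← this]; ring

theorem comm1 (p : MvPolynomial (Fin 2) k) :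
    pderiv 1 (dRot k p) = dRot k (pderiv 1 p) - pderiv 0 p := by
  have h : ⁅(pderiv 1 : Derivation k (MvPolynomial (Fin 2) k) (MvPolynomial (Fin 2) k)), dRot k⁆ = - pderiv 0 := by
    apply MvPolynomial.derivation_ext
    intro i
    fin_cases i <;> simp [Derivation.commutator_apply]
  have := congrArg (fun D => D p) h
  simp only [Derivation.commutator_apply, Derivation.neg_apply] at this
  rw [sub_eq_add_neg, ← this]; ring

theorem constantCoeff_dRot (p : MvPolynomial (Fin 2) k) : constantCoeff (dRot k p) = 0 := by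
  induction p using MvPolynomial.induction_on with
  | C a => simp
  | add p q hp hq => simp [hp, hq]
  | mul_X p i hp =>
    rw [Derivation.leibniz]
    fin_cases i <;> simp [hp]

/-- Laplacian at the origin -/
noncomputable def psi (p : MvPolynomial (Fin 2) k) : k :=
  constantCoeff (pderiv 0 (pderiv 0 p) + pderiv 1 (pderiv 1 p))

theorem psi_dRot (p : MvPolynomial (Fin 2) k) : psi k (dRot k p) = 0 := by
  unfold psi
  rw [comm0, comm1]
  simp only [map_add, map_sub, comm0, comm1, constantCoeff_dRot]
  ring

theorem psi_sub (p q : MvPolynomial (Fin 2) k) : psi k (p - q) = psi k p - psi k q := by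
  unfold psi
  simp only [map_add, map_sub]
  ring

theorem psi_X0sq : psi k (X 0 * X 0) = 2 := by
  unfold psi
  simp [Derivation.leibniz]
  norm_num

/-- the ideal (xy, x^2 - y^2) -/
noncomputable def I : Ideal (MvPolynomial (Fin 2) k) :=
  Ideal.span {X 0 * X 1, X 0 * X 0 - X 1 * X 1}

theorem psi_I (q : MvPolynomial (Fin 2) k) (hq : q ∈ I k) : psi k q = 0 := by
  obtain ⟨c, e, rfl⟩ := Ideal.mem_span_pair.mp hq
  unfold psi
  simp [Derivation.leibniz]
  ring

theorem dRot_I (q : MvPolynomial (Fin 2) k) (hq : q ∈ I k) : dRot k q ∈ I k := by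
  obtain ⟨c, e, rfl⟩ := Ideal.mem_span_pair.mp hq
  refine Ideal.mem_span_pair.mpr ⟨dRot k c - 4 * e, dRot k e + c, ?_⟩
  simp [Derivation.leibniz]
  ring

/-- the ideal (xy) -/
noncomputable abbrev J : Ideal (MvPolynomial (Fin 2) k) :=
  Ideal.span {(X 0 * X 1 : MvPolynomial (Fin 2) k)}

theorem J_le_I : J k ≤ I k := by
  rw [Ideal.span_le]
  intro x hx
  rw [Set.mem_singleton_iff] at hx; subst hx
  exact Ideal.subset_span (by simp)

abbrev A := MvPolynomial (Fin 2) k ⧸ J k
abbrev B := MvPolynomial (Fin 2) k ⧸ I k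

noncomputable def piB : MvPolynomial (Fin 2) k →ₐ[k] B k := Ideal.Quotient.mkₐ k (I k)

theorem piB_surj : Function.Surjective (piB k) := Ideal.Quotient.mkₐ_surjective k (I k)

theorem piB_dRot (x : MvPolynomial (Fin 2) k) (hx : piB k x = 0) : piB k (dRot k x) = 0 := by
  unfold piB at hx ⊢
  rw [Ideal.Quotient.mkₐ_eq_mk, Ideal.Quotient.eq_zero_iff_mem] at hx ⊢
  exact dRot_I k x hx

noncomputable def deltaB : Derivation k (B k) (B k) :=
  Derivation.liftOfSurjective (piB_surj k) (piB_dRot k)

theorem deltaB_apply (p : MvPolynomial (Fin 2) k) : deltaB k (piB k p) = piB k (dRot k p) :=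
  Derivation.liftOfSurjective_apply (piB_surj k) (piB_dRot k) p

noncomputable def phiAB : A k →ₐ[k] B k := Ideal.Quotient.factorₐ k (J_le_I k)

theorem phiAB_mk (p : MvPolynomial (Fin 2) k) : phiAB k (Ideal.Quotient.mk (J k) p) = piB k p := rfl

noncomputable instance algAB : Algebra (A k) (B k) := (phiAB k).toRingHom.toAlgebra

instance towerAB : IsScalarTower k (A k) (B k) :=
  IsScalarTower.of_algebraMap_eq (fun r => ((phiAB k).commutes r).symm)

noncomputable def DAB : Derivation k (A k) (B k) := (deltaB k).compAlgebraMap (A k)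

theorem DAB_mk (p : MvPolynomial (Fin 2) k) :
    DAB k (Ideal.Quotient.mk (J k) p) = piB k (dRot k p) := by
  rw [← deltaB_apply, ← phiAB_mk]
  rfl


/-- Let k be a field of characteristic zero and A = k[X, Y]/(XY), the coordinate ring of two affine
lines crossing in a point. The differential d : A → Ω¹_{A/k} of the naive de Rham complex is not
surjective, so the naive H^1 of this singular curve does not vanish although one expects trivial
cohomology; this is the example motivating the h-topology definition. -/
theorem result (k : Type u) [Field k] [CharZero k] :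
    ¬ Function.Surjective (KaehlerDifferential.D k (MvPolynomial (Fin 2) k ⧸ Ideal.span {(MvPolynomial.X 0 * MvPolynomial.X 1 : MvPolynomial (Fin 2) k)})) := by
  intro hsurj
  obtain ⟨a, ha⟩ := hsurj ((Ideal.Quotient.mk (J k) (X 0)) •
    KaehlerDifferential.D k (A k) (Ideal.Quotient.mk (J k) (X 1)))
  obtain ⟨p, rfl⟩ := Ideal.Quotient.mk_surjective a
  have h1 := congrArg (DAB k).liftKaehlerDifferential ha
  rw [map_smul, Derivation.liftKaehlerDifferential_comp_D, Derivation.liftKaehlerDifferential_comp_D,
    DAB_mk, DAB_mk, dRot_X1, Algebra.smul_def] at h1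
  have h4 : algebraMap (A k) (B k) (Ideal.Quotient.mk (J k) (X 0)) = piB k (X 0) := rfl
  rw [h4, ← map_mul, ← sub_eq_zero, ← map_sub] at h1
  unfold piB at h1
  rw [Ideal.Quotient.mkₐ_eq_mk, Ideal.Quotient.eq_zero_iff_mem] at h1
  have h5 := psi_I k _ h1
  rw [psi_sub, psi_dRot, psi_X0sq] at h5
  norm_num at h5

end Groth.Agent.S19635
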