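import Groth.Statements.S19649
import Mathlib

set_option autoImplicit false
universe u v
open Instab

namespace Groth.Agent.S19649

open DirectSum
universe w x


section gr
variable {k : Type u} [CommRing k] {M : Type v} [AddCommGroup M] [DecidableEq M]
  {A : Type w} [CommRing A] [Algebra k A] (𝒜 : M → Submodule k A) [GradedAlgebra 𝒜]
  {P : Type x} [AddCommGroup P] [Module A P] [Module k P] [IsScalarTower k A P]
  (ℳ : M → Submodule k P) [Decomposition ℳ] [SetLike.GradedSMul 𝒜 ℳ]

/-- component -/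
noncomputable def pr (t : M) (p : P) : P := ((DirectSum.decompose ℳ p) t : P)

theorem pr_add (t : M) (p q : P) : pr ℳ t (p + q) = pr ℳ t p + pr ℳ t q := by
  classical
  simp [pr, DirectSum.decompose_add]

theorem pr_zero (t : M) : pr ℳ t (0 : P) = 0 := by
  classical
  simp [pr]

theorem pr_sum {ι : Type*} (s : Finset ι) (t : M) (f : ι → P) :
    pr ℳ t (∑ i ∈ s, f i) = ∑ i ∈ s, pr ℳ t (f i) := by
  classical
  induction s using Finset.induction_on with
  | empty => simp [pr_zero]
  | insert a s ha ih => rw [Finset.sum_insert ha, Finset.sum_insert ha, pr_add, ih]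

theorem pr_same {t : M} {p : P} (hp : p ∈ ℳ t) : pr ℳ t p = p :=
  DirectSum.decompose_of_mem_same ℳ hp

theorem pr_ne {t l : M} {p : P} (hp : p ∈ ℳ l) (h : l ≠ t) : pr ℳ t p = 0 :=
  DirectSum.decompose_of_mem_ne ℳ hp h

/-- Lemma G -/
theorem pr_smul (a : A) {d : M} {p : P} (hp : p ∈ ℳ d) (t : M) :
    pr ℳ t (a • p) = ((DirectSum.decompose 𝒜 a) (t - d) : A) • p := by
  induction a using DirectSum.Decomposition.inductionOn 𝒜 with
  | zero => simp [pr_zero]
  | @homogeneous e a =>
    have hmem : (a : A) • p ∈ ℳ (e + d) := by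
      have := SetLike.GradedSMul.smul_mem (A := 𝒜) (B := ℳ) a.2 hp
      rwa [vadd_eq_add] at this
    by_cases he : e + d = t
    · subst he
      rw [pr_same ℳ hmem, add_sub_cancel_right, DirectSum.decompose_of_mem_same 𝒜 a.2]
    · have hne : e ≠ t - d := by
        intro h; apply he; rw [h]; abel
      rw [pr_ne ℳ hmem he, DirectSum.decompose_of_mem_ne 𝒜 a.2 hne, zero_smul]
  | add a b ha hb =>
    rw [add_smul, pr_add, ha, hb, DirectSum.decompose_add, DirectSum.add_apply,
      Submodule.coe_add, add_smul]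

theorem sum_pr (p : P) : ∃ s : Finset M, ∑ j ∈ s, pr ℳ j p = p := by
  classical
  exact ⟨_, DirectSum.sum_support_decompose ℳ p⟩

theorem pr_mem (t : M) (p : P) : pr ℳ t p ∈ ℳ t := Submodule.coe_mem _

variable {n : ℕ} (wt : Fin n → M) (f : Fin n → P) (hf : ∀ i, f i ∈ ℳ (wt i))

include hf in
/-- H1/H3 formula -/
theorem pr_comb (c : Fin n → A) (t : M) :
    pr ℳ t (∑ i, c i • f i) = ∑ i, ((DirectSum.decompose 𝒜 (c i)) (t - wt i) : A) • f i := by
  rw [pr_sum]
  exact Finset.sum_congr rfl (fun i _ => pr_smul 𝒜 ℳ (c i) (hf i) t)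

include 𝒜 hf in
theorem span_homog {y : P} (hy : y ∈ Submodule.span A (Set.range f)) (t : M) :
    pr ℳ t y ∈ Submodule.span A (Set.range f) := by
  obtain ⟨c, rfl⟩ := (Submodule.mem_span_range_iff_exists_fun A).mp hy
  rw [pr_comb 𝒜 ℳ wt f hf]
  exact Submodule.sum_mem _ (fun i _ => Submodule.smul_mem _ _ (Submodule.subset_span ⟨i, rfl⟩))

include hf in
/-- H2 -/
theorem comp_smul_mem {a : A} (ha : ∀ p : P, a • p ∈ Submodule.span A (Set.range f)) (e : M)
    (p : P) : ((DirectSum.decompose 𝒜 a) e : A) • p ∈ Submodule.span A (Set.range f) := by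
  obtain ⟨s, hs⟩ := sum_pr ℳ p
  rw [← hs, Finset.smul_sum]
  refine Submodule.sum_mem _ (fun d _ => ?_)
  have h1 := span_homog 𝒜 ℳ wt f hf (ha (pr ℳ d p)) (e + d)
  rw [pr_smul 𝒜 ℳ a (pr_mem ℳ d p)] at h1
  have : e + d - d = e := by abel
  rwa [this] at h1

end gr

section core
open Matrix

variable {k : Type u} [CommRing k] {M : Type v} [AddCommGroup M] [DecidableEq M]
  {A : Type w} [CommRing A] [Algebra k A] (𝒜 : M → Submodule k A) [GradedAlgebra 𝒜]
  {P : Type x} [AddCommGroup P] [Module A P] [Module k P] [IsScalarTower k A P]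
  (ℳ : M → Submodule k P) [Decomposition ℳ] [SetLike.GradedSMul 𝒜 ℳ]

theorem sub_comp_zero_mem (m : Ideal A) (hZ : ∀ e : M, e ≠ 0 → ∀ a ∈ 𝒜 e, a ∈ m) (a : A) :
    a - ((DirectSum.decompose 𝒜 a) 0 : A) ∈ m := by
  induction a using DirectSum.Decomposition.inductionOn 𝒜 with
  | zero => simp
  | @homogeneous e a =>
    by_cases he : e = 0
    · subst he
      rw [DirectSum.decompose_of_mem_same 𝒜 a.2, sub_self]; exact m.zero_mem
    · rw [DirectSum.decompose_of_mem_ne 𝒜 a.2 he, sub_zero]; exact hZ e he _ a.2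
  | add a b ha hb =>
    rw [DirectSum.decompose_add, DirectSum.add_apply, Submodule.coe_add]
    have : a + b - ((((DirectSum.decompose 𝒜) a) 0 : A) + (((DirectSum.decompose 𝒜) b) 0 : A)) =
      (a - (((DirectSum.decompose 𝒜) a) 0 : A)) + (b - (((DirectSum.decompose 𝒜) b) 0 : A)) := by ring
    rw [this]; exact m.add_mem ha hb

theorem core [Module.Projective A P]
    (m : Ideal A) [hprime : m.IsPrime] (hZ : ∀ e : M, e ≠ 0 → ∀ a ∈ 𝒜 e, a ∈ m)
    {ι : Type*} [Fintype ι] [DecidableEq ι] (wt : ι → M) (f : ι → P) (hf : ∀ i, f i ∈ ℳ (wt i))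
    (hli : LinearIndependent (A ⧸ m)
      (fun i => (Submodule.Quotient.mk (f i) : P ⧸ (m • (⊤ : Submodule A P)))))
    (r : A) (hr : r ∉ m) (hrN : ∀ p : P, r • p ∈ Submodule.span A (Set.range f)) :
    ∃ s : A, s ∈ 𝒜 0 ∧ s ∉ m ∧
      (∀ p : P, s • p ∈ Submodule.span A (Set.range f)) ∧
      (∀ c : ι → A, ∑ i, c i • f i = 0 → ∀ i, s * c i = 0) := by
  classical
  have hcomp : ∀ a : A, a ∉ m → ((DirectSum.decompose 𝒜 a) 0 : A) ∉ m := by
    intro a ha h0
    apply ha
    have := m.add_mem (sub_comp_zero_mem 𝒜 m hZ a) h0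
    simpa using this
  have he1 := hcomp r hr
  obtain ⟨s1, hs1⟩ : ∃ s1 : A, s1 = ((DirectSum.decompose 𝒜 r) 0 : A) := ⟨_, rfl⟩
  rw [← hs1] at he1
  have hs1mem : s1 ∈ 𝒜 0 := by rw [hs1]; exact Submodule.coe_mem _
  have hs1N : ∀ p : P, s1 • p ∈ Submodule.span A (Set.range f) := by
    intro p; rw [hs1]
    obtain ⟨s, hs⟩ := sum_pr ℳ p
    rw [← hs, Finset.smul_sum]
    refine Submodule.sum_mem _ (fun d _ => ?_)
    have h1 : pr ℳ (0 + d) (r • pr ℳ d p) ∈ Submodule.span A (Set.range f) := by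
      obtain ⟨c, hc⟩ := (Submodule.mem_span_range_iff_exists_fun A).mp (hrN (pr ℳ d p))
      rw [← hc, pr_sum]
      refine Submodule.sum_mem _ (fun i _ => ?_)
      rw [pr_smul 𝒜 ℳ (c i) (hf i)]
      exact Submodule.smul_mem _ _ (Submodule.subset_span ⟨i, rfl⟩)
    rw [pr_smul 𝒜 ℳ r (pr_mem ℳ d p)] at h1
    have : (0 : M) + d - d = 0 := by abel
    rwa [this] at h1
  have hrange : LinearMap.range (Fintype.linearCombination A f) = Submodule.span A (Set.range f) :=
    Fintype.range_linearCombination A f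
  obtain ⟨ψ, hψ⟩ : ∃ ψ : P →ₗ[A] (ι → A), ∀ p, ∑ i, ψ p i • f i = s1 • p := by
    obtain ⟨ψ, hψ⟩ := Module.projective_lifting_property
      (LinearMap.rangeRestrict (Fintype.linearCombination A f))
      (LinearMap.codRestrict (LinearMap.range (Fintype.linearCombination A f))
        (s1 • (LinearMap.id : P →ₗ[A] P)) (fun p => by rw [hrange]; exact hs1N p))
      (LinearMap.surjective_rangeRestrict _)
    refine ⟨ψ, fun p => ?_⟩
    have := congrArg Subtype.val (LinearMap.congr_fun hψ p)
    simpa [Fintype.linearCombination_apply] using this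
  obtain ⟨Tm, hTm⟩ : ∃ Tm : Matrix ι ι A, Tm = fun i j => ψ (f j) i := ⟨_, rfl⟩
  have hTmul : ∀ c : ι → A, Tm *ᵥ c = ψ (∑ j, c j • f j) := by
    intro c
    ext i
    rw [map_sum, Finset.sum_apply, Matrix.mulVec, dotProduct]
    refine Finset.sum_congr rfl (fun j _ => ?_)
    rw [map_smul, Pi.smul_apply, hTm, smul_eq_mul, mul_comm]
  have hrel : ∀ c : ι → A, ∑ j, c j • f j = 0 → ∀ i, Tm.det * c i = 0 := by
    intro c hc i
    have h1 : Tm *ᵥ c = 0 := by rw [hTmul, hc, map_zero]
    have h2 : (Tm.adjugate * Tm) *ᵥ c = 0 := by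
      rw [← Matrix.mulVec_mulVec, h1, Matrix.mulVec_zero]
    rw [Matrix.adjugate_mul, Matrix.smul_mulVec, Matrix.one_mulVec] at h2
    have := congrFun h2 i
    simpa using this
  have hdet : Tm.det ∉ m := by
    have hent : ∀ i j, Ideal.Quotient.mk m (Tm i j) =
        Ideal.Quotient.mk m s1 * (if i = j then 1 else 0) := by
      intro i j
      have h1 : ∑ i, Tm i j • f i = s1 • f j := by
        rw [hTm]; exact hψ (f j)
      have hmk : ∀ (a : A) (p : P), Ideal.Quotient.mk m a •
          (Submodule.Quotient.mk p : P ⧸ (m • (⊤ : Submodule A P))) =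
          (m • (⊤ : Submodule A P)).mkQ (a • p) := fun a p => rfl
      have h3 : ∑ i, Ideal.Quotient.mk m (Tm i j) •
          (Submodule.Quotient.mk (f i) : P ⧸ (m • (⊤ : Submodule A P))) =
          Ideal.Quotient.mk m s1 • (Submodule.Quotient.mk (f j) : P ⧸ (m • (⊤ : Submodule A P))) := by
        simp_rw [hmk]
        rw [← map_sum, h1]
      have h2 : ∑ i, (Ideal.Quotient.mk m (Tm i j) - Ideal.Quotient.mk m s1 * (if i = j then 1 else 0)) •
          (Submodule.Quotient.mk (f i) : P ⧸ (m • (⊤ : Submodule A P))) = 0 := by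
        simp only [sub_smul, Finset.sum_sub_distrib, mul_smul, ite_smul, one_smul, zero_smul,
          smul_ite, smul_zero, Finset.sum_ite_eq', Finset.mem_univ, if_true]
        rw [h3, sub_self]
      have := Fintype.linearIndependent_iff.mp hli _ h2 i
      exact sub_eq_zero.mp this
    have hmap : (Ideal.Quotient.mk m).mapMatrix Tm = Ideal.Quotient.mk m s1 • (1 : Matrix ι ι (A ⧸ m)) := by
      ext i j
      rw [RingHom.mapMatrix_apply, Matrix.map_apply, hent, Matrix.smul_apply, Matrix.one_apply,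
        smul_eq_mul]
    intro hmem
    have h0 : Ideal.Quotient.mk m Tm.det = 0 := Ideal.Quotient.eq_zero_iff_mem.mpr hmem
    rw [RingHom.map_det, hmap, Matrix.det_smul, Matrix.det_one, mul_one] at h0
    have hne : Ideal.Quotient.mk m s1 ≠ 0 := by
      intro h; exact he1 (Ideal.Quotient.eq_zero_iff_mem.mp h)
    exact pow_ne_zero _ hne h0
  have he2 := hcomp _ hdet
  obtain ⟨s2, hs2⟩ : ∃ s2 : A, s2 = ((DirectSum.decompose 𝒜 Tm.det) 0 : A) := ⟨_, rfl⟩
  rw [← hs2] at he2
  have hs2mem : s2 ∈ 𝒜 0 := by rw [hs2]; exact Submodule.coe_mem _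
  have hs2rel : ∀ c : ι → A, ∑ j, c j • f j = 0 → ∀ i, s2 * c i = 0 := by
    intro c hc i
    have hcomp0 : ∀ u : M, s2 * ((DirectSum.decompose 𝒜 (c i)) u : A) = 0 := by
      intro u
      have h1 : ∑ j, ((DirectSum.decompose 𝒜 (c j)) (u + wt i - wt j) : A) • f j = 0 := by
        have := pr_sum ℳ Finset.univ (u + wt i) (fun j => c j • f j)
        rw [hc, pr_zero] at this
        rw [this]
        exact Finset.sum_congr rfl (fun j _ => (pr_smul 𝒜 ℳ (c j) (hf j) _).symm)
      have h2 := hrel _ h1 i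
      rw [add_sub_cancel_right] at h2
      have h3 := DirectSum.coe_decompose_mul_add_of_right_mem 𝒜 (a := Tm.det) (i := 0)
        (Submodule.coe_mem ((DirectSum.decompose 𝒜 (c i)) u))
      rw [h2, DirectSum.decompose_zero, DirectSum.zero_apply, ZeroMemClass.coe_zero] at h3
      rw [hs2]; exact h3.symm
    rw [← DirectSum.sum_support_decompose 𝒜 (c i), Finset.mul_sum]
    exact Finset.sum_eq_zero (fun u _ => hcomp0 u)
  refine ⟨s1 * s2, ?_, ?_, ?_, ?_⟩
  · have := SetLike.GradedMul.mul_mem hs1mem hs2mem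
    rwa [add_zero] at this
  · intro h
    rcases hprime.mem_or_mem h with h | h
    · exact he1 h
    · exact he2 h
  · intro p
    rw [mul_comm, mul_smul]
    exact Submodule.smul_mem _ _ (hs1N p)
  · intro c hc i
    rw [mul_assoc, hs2rel c hc i, mul_zero]

end core


section ep
variable {k : Type u} [CommRing k] {M : Type v} [AddCommGroup M] [DecidableEq M]
  {A : Type w} [CommRing A] [Algebra k A] (𝒜 : M → Submodule k A) [GradedAlgebra 𝒜]
  {P : Type x} [AddCommGroup P] [Module A P] [Module k P] [IsScalarTower k A P]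
  (ℳ : M → Submodule k P) [Decomposition ℳ] [SetLike.GradedSMul 𝒜 ℳ]

theorem generic [Module.Finite A P] [Module.Projective A P]
    (m : Ideal A) [hprime : m.IsPrime] (hZ : ∀ e : M, e ≠ 0 → ∀ a ∈ 𝒜 e, a ∈ m) :
    ∃ s : A, s ∈ 𝒜 0 ∧ s ∉ m ∧ ∃ (ι : Type x) (_ : Fintype ι) (wt : ι → M) (f : ι → P),
      (∀ i, f i ∈ ℳ (wt i)) ∧
      (∀ p : P, s • p ∈ Submodule.span A (Set.range f)) ∧
      (∀ c : ι → A, ∑ i, c i • f i = 0 → ∀ i, s * c i = 0) := by
  classical
  -- homogeneous elements span
  obtain ⟨T, hTH, hTspan⟩ : ∃ T : Finset P, (∀ t ∈ T, ∃ e, t ∈ ℳ e) ∧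
      Submodule.span A (T : Set P) = ⊤ := by
    have hspan : Submodule.span A {p : P | ∃ e, p ∈ ℳ e} = ⊤ := by
      rw [eq_top_iff]
      intro p _
      obtain ⟨s, hs⟩ := sum_pr ℳ p
      rw [← hs]
      exact Submodule.sum_mem _ (fun j _ => Submodule.subset_span ⟨j, pr_mem ℳ j p⟩)
    have hfg : (Submodule.span A {p : P | ∃ e, p ∈ ℳ e}).FG := by
      rw [hspan]; exact Module.Finite.fg_top
    obtain ⟨T, hT1, hT2⟩ := (Submodule.fg_span_iff_fg_span_finset_subset _).mp hfg
    exact ⟨T, fun t ht => hT1 ht, by rw [← hT2, hspan]⟩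
  obtain ⟨v, hv⟩ : ∃ v : ↥T → P ⧸ (m • (⊤ : Submodule A P)),
      v = fun t : ↥T => (Submodule.Quotient.mk (t.1 : P) : P ⧸ (m • (⊤ : Submodule A P))) := ⟨_, rfl⟩
  obtain ⟨S, hS, hmax⟩ := exists_maximal_linearIndepOn (A ⧸ m) v
  have hall : ∀ t : ↥T, ∃ d : A ⧸ m, d ≠ 0 ∧ d • v t ∈ Submodule.span (A ⧸ m) (v '' S) := by
    intro t
    by_cases ht : t ∈ S
    · exact ⟨1, one_ne_zero, by rw [one_smul]; exact Submodule.subset_span ⟨t, ht, rfl⟩⟩
    · exact hmax t ht
  choose d hd0 hd using hall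
  obtain ⟨r0, hr0⟩ := Ideal.Quotient.mk_surjective (∏ t, d t)
  have hr0m : r0 ∉ m := by
    intro h
    have : (∏ t, d t) = 0 := by rw [← hr0]; exact Ideal.Quotient.eq_zero_iff_mem.mpr h
    exact (Finset.prod_ne_zero_iff.mpr (fun t _ => hd0 t)) this
  obtain ⟨f, hfdef⟩ : ∃ f : ↥S → P, f = fun i : ↥S => (i.1.1 : P) := ⟨_, rfl⟩
  have hlift : ∀ x ∈ Submodule.span (A ⧸ m) (v '' S), ∃ y ∈ Submodule.span A (Set.range f),
      (Submodule.Quotient.mk y : P ⧸ (m • (⊤ : Submodule A P))) = x := by
    intro x hx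
    induction hx using Submodule.span_induction with
    | mem x hx =>
      obtain ⟨t, ht, rfl⟩ := hx
      refine ⟨(t : P), Submodule.subset_span ⟨⟨t, ht⟩, by rw [hfdef]⟩, by rw [hv]⟩
    | zero => exact ⟨0, Submodule.zero_mem _, rfl⟩
    | add x y _ _ hx hy =>
      obtain ⟨x', hx', rfl⟩ := hx
      obtain ⟨y', hy', rfl⟩ := hy
      exact ⟨x' + y', Submodule.add_mem _ hx' hy', rfl⟩
    | smul a x _ hx =>
      obtain ⟨x', hx', rfl⟩ := hx
      obtain ⟨a', rfl⟩ := Ideal.Quotient.mk_surjective a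
      exact ⟨a' • x', Submodule.smul_mem _ _ hx', rfl⟩
  have hgen : ∀ t : ↥T, r0 • (t : P) ∈ Submodule.span A (Set.range f) ⊔ m • (⊤ : Submodule A P) := by
    intro t
    have h1 : (∏ t, d t) • v t ∈ Submodule.span (A ⧸ m) (v '' S) := by
      rw [← Finset.mul_prod_erase Finset.univ d (Finset.mem_univ t), mul_comm, mul_smul]
      exact Submodule.smul_mem _ _ (hd t)
    obtain ⟨y, hy, hyx⟩ := hlift _ h1
    have h2 : (Submodule.Quotient.mk y : P ⧸ (m • (⊤ : Submodule A P))) =
        Submodule.Quotient.mk (r0 • (t : P)) := by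
      rw [hyx, ← hr0, hv]; rfl
    have h3 : y - r0 • (t : P) ∈ m • (⊤ : Submodule A P) := (Submodule.Quotient.eq _).mp h2
    have h4 : r0 • (t : P) = y - (y - r0 • (t : P)) := by abel
    rw [h4]
    exact Submodule.sub_mem _ (Submodule.mem_sup_left hy) (Submodule.mem_sup_right h3)
  have hall2 : ∀ p : P, r0 • p ∈ Submodule.span A (Set.range f) ⊔ m • (⊤ : Submodule A P) := by
    intro p
    have hp : p ∈ Submodule.span A (T : Set P) := by rw [hTspan]; trivial
    induction hp using Submodule.span_induction with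
    | mem x hx => exact hgen ⟨x, hx⟩
    | zero => rw [smul_zero]; exact Submodule.zero_mem _
    | add x y _ _ hx hy => rw [smul_add]; exact Submodule.add_mem _ hx hy
    | smul a x _ hx => rw [smul_comm]; exact Submodule.smul_mem _ _ hx
  -- Cayley–Hamilton
  obtain ⟨a1, ha1m, ha1N⟩ : ∃ a1 : A, a1 ∉ m ∧ ∀ p : P, a1 • p ∈ Submodule.span A (Set.range f) := by
    obtain ⟨F, hF⟩ : ∃ F : Module.End A (P ⧸ Submodule.span A (Set.range f)),
        F = algebraMap A _ r0 := ⟨_, rfl⟩
    have hrange : LinearMap.range F ≤ m • ⊤ := by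
      rintro _ ⟨q, rfl⟩
      obtain ⟨p, rfl⟩ := Submodule.Quotient.mk_surjective _ q
      rw [hF, Module.algebraMap_end_apply]
      obtain ⟨y, hy, z, hz, hyz⟩ := Submodule.mem_sup.mp (hall2 p)
      have h1 : r0 • (Submodule.Quotient.mk p : P ⧸ Submodule.span A (Set.range f)) =
          (Submodule.span A (Set.range f)).mkQ z := by
        rw [← Submodule.Quotient.mk_smul, ← hyz, Submodule.Quotient.mk_add,
          (Submodule.Quotient.mk_eq_zero _).mpr hy, zero_add]
        rfl
      rw [h1]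
      have h2 : (Submodule.span A (Set.range f)).mkQ z ∈
          Submodule.map (Submodule.span A (Set.range f)).mkQ (m • (⊤ : Submodule A P)) :=
        Submodule.mem_map_of_mem hz
      rw [Submodule.map_smul''] at h2
      exact Submodule.smul_mono le_rfl le_top h2
    obtain ⟨p0, hmonic, -, hcoeff, haeval⟩ :=
      LinearMap.exists_monic_and_natDegree_eq_and_coeff_mem_pow_and_aeval_eq_zero A F m hrange
    refine ⟨p0.eval r0, ?_, ?_⟩
    · intro hmem
      rw [Polynomial.eval_eq_sum_range, Finset.sum_range_succ, hmonic.coeff_natDegree, one_mul] at hmem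
      have hlow : ∑ i ∈ Finset.range p0.natDegree, p0.coeff i * r0 ^ i ∈ m := by
        refine Ideal.sum_mem _ (fun i hi => ?_)
        have hi' : p0.natDegree - i ≠ 0 := by
          have := Finset.mem_range.mp hi; omega
        exact Ideal.mul_mem_right _ _ (Ideal.pow_le_self hi' (hcoeff i))
      have := (Ideal.add_mem_iff_right m hlow).mp hmem
      exact hr0m (hprime.mem_of_pow_mem _ this)
    · intro p
      rw [hF, Polynomial.aeval_algebraMap_apply_eq_algebraMap_eval] at haeval
      have := LinearMap.congr_fun haeval (Submodule.Quotient.mk p)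
      rw [Module.algebraMap_end_apply, LinearMap.zero_apply, ← Submodule.Quotient.mk_smul,
        Submodule.Quotient.mk_eq_zero] at this
      exact this
  -- degrees
  have hwt : ∀ i : ↥S, ∃ e, f i ∈ ℳ e := by
    intro i; rw [hfdef]; exact hTH _ (i : ↥T).2
  choose wt hwt' using hwt
  have hli : LinearIndependent (A ⧸ m)
      (fun i => (Submodule.Quotient.mk (f i) : P ⧸ (m • (⊤ : Submodule A P)))) := by
    have : (fun i : ↥S => (Submodule.Quotient.mk (f i) : P ⧸ (m • (⊤ : Submodule A P)))) =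
        fun i : ↥S => v i := by
      rw [hfdef, hv]
    rw [this]
    exact hS
  haveI : Fintype ↥S := Fintype.ofFinite _
  obtain ⟨s, hs0, hsm, hsN, hsrel⟩ := core 𝒜 ℳ m hZ wt f hwt' hli a1 ha1m ha1N
  exact ⟨s, hs0, hsm, ↥S, inferInstance, wt, f, hwt', hsN, hsrel⟩

end ep


section inst
open MvPolynomial
attribute [local instance] MvPolynomial.weightedGradedAlgebra

theorem main {R : Type u} [CommRing R] (n : ℕ)
    {P : Type v} [AddCommGroup P] [Module (MvPolynomial (Fin n) R) P] [Module R P]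
    [IsScalarTower R (MvPolynomial (Fin n) R) P]
    (ℳ : (Fin n → ℤ) → Submodule R P) [DirectSum.Decomposition ℳ]
    [SetLike.GradedSMul (MvPolynomial.weightedHomogeneousSubmodule R (fun i : Fin n => (Pi.single i 1 : Fin n → ℤ))) ℳ]
    [Module.Finite (MvPolynomial (Fin n) R) P] [Module.Projective (MvPolynomial (Fin n) R) P]
    (p : PrimeSpectrum R) :
    ∃ r : R, r ∉ p.asIdeal ∧ ∃ (m : ℕ) (d : Fin m → (Fin n → ℤ)) (f : Fin m → P), (∀ i, f i ∈ ℳ (d i)) ∧
      (∀ q : P, ∃ (N : ℕ) (c : Fin m → MvPolynomial (Fin n) R), (MvPolynomial.C r : MvPolynomial (Fin n) R) ^ N • q = ∑ i, c i • f i) ∧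
      (∀ c : Fin m → MvPolynomial (Fin n) R, ∑ i, c i • f i = 0 →
        ∃ N : ℕ, ∀ i, (MvPolynomial.C r : MvPolynomial (Fin n) R) ^ N * c i = 0) := by
  classical
  obtain ⟨w, hw⟩ : ∃ w : Fin n → (Fin n → ℤ), w = fun i : Fin n => (Pi.single i 1 : Fin n → ℤ) :=
    ⟨_, rfl⟩
  have hweight : ∀ d : Fin n →₀ ℕ, Finsupp.weight w d = 0 → d = 0 := by
    intro d hd
    ext j
    have := congrFun hd j
    rw [hw] at this
    simpa [Finsupp.weight_apply, Finsupp.sum_fintype, Pi.single_apply] using this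
  obtain ⟨m, hm⟩ : ∃ m : Ideal (MvPolynomial (Fin n) R),
      m = Ideal.comap (MvPolynomial.constantCoeff : MvPolynomial (Fin n) R →+* R) p.asIdeal := ⟨_, rfl⟩
  haveI hprime : m.IsPrime := by rw [hm]; infer_instance
  have hZ : ∀ e : Fin n → ℤ, e ≠ 0 → ∀ a ∈ MvPolynomial.weightedHomogeneousSubmodule R w e, a ∈ m := by
    intro e he a ha
    rw [hm, Ideal.mem_comap]
    have h0 : MvPolynomial.constantCoeff a = 0 := by
      by_contra h
      rw [MvPolynomial.constantCoeff_eq] at h
      have := (MvPolynomial.mem_weightedHomogeneousSubmodule R w e a).mp ha h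
      rw [map_zero] at this
      exact he this.symm
    rw [h0]; exact Ideal.zero_mem _
  subst hw
  obtain ⟨s, hs0, hsm, ι, _, wt, f, hf, hN, hrel⟩ := generic
    (MvPolynomial.weightedHomogeneousSubmodule R (fun i : Fin n => (Pi.single i 1 : Fin n → ℤ))) ℳ m hZ
  have hsC : s = MvPolynomial.C (MvPolynomial.constantCoeff s) := by
    ext d
    rw [MvPolynomial.coeff_C]
    by_cases hd : 0 = d
    · subst hd; simp [MvPolynomial.constantCoeff_eq]
    · rw [if_neg hd]
      by_contra h
      have := (MvPolynomial.mem_weightedHomogeneousSubmodule R _ 0 s).mp hs0 h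
      exact hd (hweight d this).symm
  refine ⟨MvPolynomial.constantCoeff s, ?_, ?_⟩
  · intro h; apply hsm; rw [hm, Ideal.mem_comap]; exact h
  obtain ⟨e⟩ : Nonempty (ι ≃ Fin (Fintype.card ι)) := ⟨Fintype.equivFin ι⟩
  refine ⟨Fintype.card ι, wt ∘ e.symm, f ∘ e.symm, fun i => hf _, ?_, ?_⟩
  · intro q
    obtain ⟨c, hc⟩ := (Submodule.mem_span_range_iff_exists_fun _).mp (hN q)
    refine ⟨1, c ∘ e.symm, ?_⟩
    rw [pow_one, ← hsC, ← hc]
    exact (Equiv.sum_comp e.symm (fun i => c i • f i)).symm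
  · intro c hc
    refine ⟨1, fun j => ?_⟩
    have h1 : ∑ i, (c ∘ e) i • f i = 0 := by
      rw [← hc, ← Equiv.sum_comp e (fun j => c j • (f ∘ e.symm) j)]
      simp
    have := hrel _ h1 (e.symm j)
    rw [pow_one, ← hsC]
    simpa using this

end inst


open MvPolynomial DirectSum in
/-- The case of a point, in graded-module form over an affine base. Let R be a commutative ring, n a
natural number, A = R[x_1, …, x_n] the polynomial ring graded by ℤ^n with x_i of degree the i-th
basis vector (the weight grading of the standard action of the n-dimensional split torus on affine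
n-space), and P a finitely generated projective A-module carrying a compatible ℤ^n-grading (an
equivariant vector bundle on affine n-space over Spec R). Then P is graded-free Zariski-locally on
Spec R: for every prime p of R there are r ∉ p and finitely many homogeneous elements f_1, …, f_m of
P such that, after inverting r, the f_i form an A-basis of P — every element of P multiplied by a
power of r is an A-linear combination of the f_i, and the coefficients of every A-linear relation
among the f_i are killed by a power of r. (This is the case of a point of the source's description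
of filtered points of quotient stacks by the general linear group, whose argument the source gives
in full: an equivariant vector bundle on affine n-space over a base is, locally on the base, the
standard one attached to a cocharacter; the general case, an identification of mapping stacks, is
not stated here.) -/
theorem result
    {R : Type u} [CommRing R] (n : ℕ)
    {P : Type v} [AddCommGroup P] [Module (MvPolynomial (Fin n) R) P] [Module R P]
    [IsScalarTower R (MvPolynomial (Fin n) R) P]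
    (ℳ : (Fin n → ℤ) → Submodule R P) [DirectSum.Decomposition ℳ]
    [SetLike.GradedSMul (MvPolynomial.weightedHomogeneousSubmodule R (fun i : Fin n => (Pi.single i 1 : Fin n → ℤ))) ℳ]
    [Module.Finite (MvPolynomial (Fin n) R) P] [Module.Projective (MvPolynomial (Fin n) R) P]
    (p : PrimeSpectrum R) :
    ∃ r : R, r ∉ p.asIdeal ∧ ∃ (m : ℕ) (d : Fin m → (Fin n → ℤ)) (f : Fin m → P), (∀ i, f i ∈ ℳ (d i)) ∧
      (∀ q : P, ∃ (N : ℕ) (c : Fin m → MvPolynomial (Fin n) R), (MvPolynomial.C r : MvPolynomial (Fin n) R) ^ N • q = ∑ i, c i • f i) ∧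
      (∀ c : Fin m → MvPolynomial (Fin n) R, ∑ i, c i • f i = 0 →
        ∃ N : ℕ, ∀ i, (MvPolynomial.C r : MvPolynomial (Fin n) R) ^ N * c i = 0) := by
  exact main n ℳ p

end Groth.Agent.S19649
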