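import Groth.Statements.S19652
import Groth.Agent.H98.BilinInv
import Mathlib.RingTheory.Artinian.Module

set_option autoImplicit false
universe u v
open AbVar

namespace Groth.Agent.S19652

open Polynomial in
/-- Stated for an arbitrary invariant nondegenerate bilinear form, as the argument there allows. Let k
be a field, V a finite-dimensional k-vector space with a nondegenerate bilinear form B and M a
linear automorphism of V with B(Mx, My) = B(x, y) for all x, y. If Q is a polynomial associated to
its own reciprocal polynomial (its coefficient list reversed), then B restricted to the generalized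
kernel of Q(M), the union of the kernels of the powers Q(M)^n, is nondegenerate. (The published
statement takes M symplectic and Q a self-reciprocal divisor of the characteristic polynomial;
divisibility plays no role and is not assumed.) -/
theorem result
    {k : Type u} [Field k] {V : Type v} [AddCommGroup V] [Module k V] [FiniteDimensional k V]
    (B : LinearMap.BilinForm k V) (hB : B.Nondegenerate) (M : V ≃ₗ[k] V)
    (hM : ∀ x y : V, B (M x) (M y) = B x y)
    (Q : k[X]) (hQ : Associated Q Q.reverse) :
    (B.restrict (⨆ n : ℕ, LinearMap.ker (Polynomial.aeval (M : V →ₗ[k] V) Q ^ n))).Nondegenerate := by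
  classical
  set f : Module.End k V := (M : V →ₗ[k] V) with hf_def
  have hf : ∀ x y, B (f x) (f y) = B x y := fun x y => hM x y
  have hf' : ∀ x y, B.flip (f x) (f y) = B.flip x y := fun x y => hM y x
  set g : Module.End k V := Polynomial.aeval f Q with hg_def
  obtain ⟨u, hu⟩ := hQ
  obtain ⟨n, hn⟩ := Filter.eventually_atTop.mp
    ((LinearMap.eventually_iSup_ker_pow_eq g).and
      (LinearMap.eventually_codisjoint_ker_pow_range_pow g))
  obtain ⟨hW, hcod⟩ := hn n le_rfl
  have hrange : ∀ r' : V, ∃ z : V, (g ^ n) r' = (Polynomial.aeval f Q.reverse ^ n) z := by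
    intro r'
    refine ⟨Polynomial.aeval f ((↑u⁻¹ : k[X]) ^ n) r', ?_⟩
    have h1 : Q ^ n = Q.reverse ^ n * (↑u⁻¹ : k[X]) ^ n := by
      rw [← hu, mul_pow, mul_assoc, ← mul_pow, Units.mul_inv, one_pow, mul_one]
    rw [hg_def, ← map_pow, h1, map_mul, Module.End.mul_apply, map_pow]
  have hdecomp : ∀ v : V, ∃ w r' : V, (g ^ n) w = 0 ∧ v = w + (g ^ n) r' := by
    intro v
    have hv : v ∈ LinearMap.ker (g ^ n) ⊔ LinearMap.range (g ^ n) := by
      rw [hcod.eq_top]
      exact Submodule.mem_top
    obtain ⟨w, hw, r, ⟨r', rfl⟩, rfl⟩ := Submodule.mem_sup.mp hv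
    exact ⟨w, r', LinearMap.mem_ker.mp hw, rfl⟩
  have hmemW : ∀ w : V, (g ^ n) w = 0 → w ∈ ⨆ m : ℕ, LinearMap.ker (g ^ m) := by
    intro w hw
    rw [hW]
    exact LinearMap.mem_ker.mpr hw
  have hWker : ∀ w ∈ ⨆ m : ℕ, LinearMap.ker (g ^ m), (g ^ n) w = 0 := by
    intro w hw
    rw [hW] at hw
    exact LinearMap.mem_ker.mp hw
  constructor
  · rintro ⟨x, hx⟩ hxy
    have hx0 := hWker x hx
    have hx00 : x = 0 := by
      apply hB.1
      intro v
      obtain ⟨w, r', hw, rfl⟩ := hdecomp v
      obtain ⟨z, hz⟩ := hrange r'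
      rw [map_add, hz, Groth.Agent.H98.bilin_orth_of_pow_eq_zero B f hf Q n x z hx0, add_zero]
      exact hxy ⟨w, hmemW w hw⟩
    exact Subtype.ext hx00
  · rintro ⟨y, hy⟩ hxy
    have hy0 := hWker y hy
    have hy00 : y = 0 := by
      apply hB.2
      intro v
      obtain ⟨w, r', hw, rfl⟩ := hdecomp v
      obtain ⟨z, hz⟩ := hrange r'
      have h3 : B ((Polynomial.aeval f Q.reverse ^ n) z) y = 0 :=
        Groth.Agent.H98.bilin_orth_of_pow_eq_zero B.flip f hf' Q n y z hy0
      rw [map_add, LinearMap.add_apply, hz, h3, add_zero]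
      exact hxy ⟨w, hmemW w hw⟩
    exact Subtype.ext hy00

end Groth.Agent.S19652
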