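-- Statement S1966: henselian pair from a tower of nil thickenings.
import Groth.Statements.S1966
import Mathlib.Dynamics.Newton
import Mathlib.RingTheory.Jacobson.Ideal

set_option autoImplicit false
universe u
open EtAlg

namespace Groth.Agent.S1966

open Polynomial

/-- If `a` is a root of `f`, `f a₀ ∈ J` and `f' a₀ + c (a - a₀)` is always a unit, then `a - a₀ ∈ J`. -/
theorem sub_mem_of_root {R : Type*} [CommRing R] (J : Ideal R) (f : R[X]) (a a₀ : R)
    (ha : f.eval a = 0) (ha₀ : f.eval a₀ ∈ J)
    (hu : ∀ c : R, IsUnit (f.derivative.eval a₀ + c * (a - a₀))) : a - a₀ ∈ J := by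
  obtain ⟨k, hk⟩ := f.binomExpansion a₀ (a - a₀)
  rw [add_sub_cancel, ha] at hk
  have h1 : (a - a₀) * (f.derivative.eval a₀ + k * (a - a₀)) = - f.eval a₀ := by
    linear_combination -hk
  have h2 : (a - a₀) * (f.derivative.eval a₀ + k * (a - a₀)) ∈ J := by
    rw [h1]; exact J.neg_mem ha₀
  exact (Ideal.mul_unit_mem_iff_mem J (hu k)).mp h2

/-- Units lift along a surjection with nil kernel. -/
theorem isUnit_of_map_of_nil {R S : Type*} [CommRing R] [CommRing S] (t : R →+* S)
    (ht : Function.Surjective t) (hnil : ∀ x, t x = 0 → IsNilpotent x) (z : R)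
    (hz : IsUnit (t z)) : IsUnit z := by
  obtain ⟨w', hw'⟩ := isUnit_iff_exists_inv.mp hz
  obtain ⟨w, rfl⟩ := ht w'
  have h0 : t (z * w - 1) = 0 := by rw [map_sub, map_mul, hw', map_one, sub_self]
  have h1 : IsUnit (z * w) := by
    have := (hnil _ h0).isUnit_add_one
    rwa [sub_add_cancel] at this
  exact isUnit_of_mul_isUnit_left h1

/-- Simple roots lift along a surjection with nil kernel. -/
theorem lift_root {R S : Type*} [CommRing R] [CommRing S] (t : R →+* S)
    (ht : Function.Surjective t) (hnil : ∀ x, t x = 0 → IsNilpotent x) (f : R[X]) (y : S)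
    (hy : (f.map t).eval y = 0) (hy' : IsUnit ((f.map t).derivative.eval y)) :
    ∃ r : R, f.eval r = 0 ∧ IsUnit (f.derivative.eval r) ∧ t r = y := by
  obtain ⟨y', rfl⟩ := ht y
  have e1 : t (f.eval y') = 0 := by rw [← hy, eval_map, eval₂_at_apply]
  have e2 : IsUnit (f.derivative.eval y') := by
    apply isUnit_of_map_of_nil t ht hnil
    rwa [derivative_map, eval_map, eval₂_at_apply] at hy'
  have n1 : IsNilpotent (aeval y' f) := by
    rw [coe_aeval_eq_eval]; exact hnil _ e1
  have n2 : IsUnit (aeval y' (derivative f)) := by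
    rw [coe_aeval_eq_eval]; exact e2
  obtain ⟨r, ⟨hr1, hr2⟩, -⟩ := existsUnique_nilpotent_sub_and_aeval_eq_zero n1 n2
  rw [coe_aeval_eq_eval] at hr2
  have hr1' : IsNilpotent (r - y') := by
    rw [← neg_sub]; exact hr1.neg
  have hmem : r - y' ∈ RingHom.ker t := by
    apply sub_mem_of_root (RingHom.ker t) f r y' hr2 e1
    intro c
    exact ((Commute.all _ _).isNilpotent_mul_left hr1').isUnit_add_left_of_commute e2
      (Commute.all _ _)
  have htr : t r = t y' := by
    rw [RingHom.mem_ker, map_sub, sub_eq_zero] at hmem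
    exact hmem
  refine ⟨r, hr2, ?_, htr⟩
  apply isUnit_of_map_of_nil t ht hnil
  rw [← eval₂_at_apply, htr, eval₂_at_apply]
  rwa [derivative_map, eval_map, eval₂_at_apply] at hy'

theorem down_closed {P : ℕ → Prop} (down : ∀ m, P (m + 1) → P m) :
    ∀ d m, P (m + d) → P m := by
  intro d
  induction d with
  | zero => intro m h; simpa using h
  | succ d ih => intro m h; exact ih m (down _ (by simpa [Nat.add_assoc] using h))

theorem all_of_up_down {P : ℕ → Prop} (k : ℕ) (hk : P k) (down : ∀ m, P (m + 1) → P m)
    (up : ∀ m, k ≤ m → P m → P (m + 1)) : ∀ m, P m := by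
  intro m
  rcases le_total k m with h | h
  · exact Nat.le_induction hk (fun n hn ih => up n hn ih) m h
  · obtain ⟨d, rfl⟩ := Nat.exists_eq_add_of_le h
    exact down_closed down d m hk

/-- Towers indexed by the natural numbers: let (A_k) be rings with surjective transition maps A_{k+1} ->
A_k whose kernels consist of nilpotent elements, and let A be a ring with compatible projections p_k
: A -> A_k identifying A with the set of compatible sequences (p is jointly injective and every
compatible sequence comes from an element of A). Then for every k the pair (A, ker p_k) is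
henselian. -/
theorem result (A : Type u) [CommRing A] (As : ℕ → Type u) [∀ k, CommRing (As k)]
    (t : ∀ k, As (k + 1) →+* As k) (ht : ∀ k, Function.Surjective (t k))
    (hnil : ∀ k (x : As (k + 1)), t k x = 0 → IsNilpotent x)
    (p : ∀ k, A →+* As k) (hp : ∀ k, (t k).comp (p (k + 1)) = p k)
    (hinj : ∀ a b : A, (∀ k, p k a = p k b) → a = b)
    (hsurj : ∀ x : ∀ k, As k, (∀ k, t k (x (k + 1)) = x k) → ∃ a : A, ∀ k, p k a = x k) (k : ℕ) :
    HenselianRing A (RingHom.ker (p k)) := by
  have hp' : ∀ m (a : A), t m (p (m + 1) a) = p m a := fun m a => by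
    rw [← hp m]; rfl
  -- elements mapping to `1` in `As k` are units
  have unit_of_one : ∀ z : A, p k z = 1 → IsUnit z := by
    intro z hz
    have hP : ∀ m, IsUnit (p m z) := by
      apply all_of_up_down (P := fun m => IsUnit (p m z)) k
      · rw [hz]; exact isUnit_one
      · intro m h; rw [← hp' m]; exact h.map (t m)
      · intro m _ h
        apply isUnit_of_map_of_nil (t m) (ht m) (hnil m)
        rwa [hp' m]
    choose w hw using fun m => isUnit_iff_exists_inv.mp (hP m)
    have hcompat : ∀ m, t m (w (m + 1)) = w m := by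
      intro m
      have h1 : p m z * t m (w (m + 1)) = 1 := by
        rw [← hp' m, ← map_mul, hw, map_one]
      exact left_inv_eq_right_inv (by rw [mul_comm]; exact h1) (hw m) |>.symm ▸ rfl
    obtain ⟨w', hw'⟩ := hsurj w hcompat
    have : z * w' = 1 := by
      apply hinj
      intro m
      rw [map_mul, hw', hw, map_one]
    exact IsUnit.of_mul_eq_one _ this
  constructor
  · intro x hx
    rw [Ideal.mem_jacobson_bot]
    intro y
    apply unit_of_one
    rw [RingHom.mem_ker] at hx
    rw [map_add, map_mul, hx, zero_mul, zero_add, map_one]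
  · intro f _ a₀ h₁ h₂
    -- the derivative is a unit in `As k`
    have hunit : IsUnit (p k (f.derivative.eval a₀)) := by
      obtain ⟨v', hv'⟩ := isUnit_iff_exists_inv.mp h₂
      obtain ⟨v, rfl⟩ := Ideal.Quotient.mk_surjective v'
      rw [← map_mul, ← map_one (Ideal.Quotient.mk _), Ideal.Quotient.eq, RingHom.mem_ker,
        map_sub, map_mul, map_one, sub_eq_zero] at hv'
      exact IsUnit.of_mul_eq_one _ hv'
    have hmapmap : ∀ m, (f.map (p (m + 1))).map (t m) = f.map (p m) := by
      intro m; rw [Polynomial.map_map, hp m]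
    have step : ∀ m (y : As m), ∃ r : As (m + 1),
        ((f.map (p m)).eval y = 0 ∧ IsUnit ((f.map (p m)).derivative.eval y)) →
        ((f.map (p (m + 1))).eval r = 0 ∧ IsUnit ((f.map (p (m + 1))).derivative.eval r) ∧
          t m r = y) := by
      intro m y
      by_cases h : (f.map (p m)).eval y = 0 ∧ IsUnit ((f.map (p m)).derivative.eval y)
      · obtain ⟨r, hr⟩ := lift_root (t m) (ht m) (hnil m) (f.map (p (m + 1))) y
          (by rw [hmapmap]; exact h.1) (by rw [hmapmap]; exact h.2)
        exact ⟨r, fun _ => hr⟩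
      · exact ⟨0, fun h' => absurd h' h⟩
    choose s hs using step
    let x : ∀ m, As m := fun m =>
      Nat.rec (motive := fun m => As m) (p 0 a₀)
        (fun m xm => if m < k then p (m + 1) a₀ else s m xm) m
    have x_succ : ∀ m, x (m + 1) = if m < k then p (m + 1) a₀ else s m (x m) := fun m => rfl
    have F1 : ∀ m, m ≤ k → x m = p m a₀ := by
      intro m hm
      cases m with
      | zero => rfl
      | succ m => rw [x_succ, if_pos (by omega)]
    have F2 : ∀ m, k ≤ m →
        ((f.map (p m)).eval (x m) = 0 ∧ IsUnit ((f.map (p m)).derivative.eval (x m))) := by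
      intro m hm
      induction m, hm using Nat.le_induction with
      | base =>
        rw [F1 k le_rfl]
        refine ⟨?_, ?_⟩
        · rw [eval_map, eval₂_at_apply]; exact h₁
        · rw [derivative_map, eval_map, eval₂_at_apply]; exact hunit
      | succ m hm ih =>
        rw [x_succ, if_neg (by omega)]
        have := hs m (x m) ih
        exact ⟨this.1, this.2.1⟩
    have F3 : ∀ m, t m (x (m + 1)) = x m := by
      intro m
      by_cases hm : m < k
      · rw [x_succ, if_pos hm, F1 m hm.le, hp']
      · rw [x_succ, if_neg hm]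
        exact (hs m (x m) (F2 m (by omega))).2.2
    obtain ⟨a, ha⟩ := hsurj x F3
    refine ⟨a, ?_, ?_⟩
    · have hroot : ∀ m, (f.map (p m)).eval (x m) = 0 := by
        apply all_of_up_down (P := fun m => (f.map (p m)).eval (x m) = 0) k (F2 k le_rfl).1
        · intro m h
          rw [← F3 m, ← hmapmap m, eval_map, eval₂_at_apply, h, map_zero]
        · intro m hm _
          exact (F2 (m + 1) (by omega)).1
      show f.eval a = 0
      apply hinj
      intro m
      rw [map_zero, ← eval₂_at_apply, ← eval_map, ha, hroot]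
    · rw [RingHom.mem_ker, map_sub, ha, F1 k le_rfl, sub_self]

end Groth.Agent.S1966
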