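import Groth.Statements.S19660
import Mathlib.RingTheory.Artinian.Module
import Mathlib.Algebra.Polynomial.RingDivision
import Mathlib.Algebra.Polynomial.AlgebraMap

set_option autoImplicit false
universe u v
open AbVar

namespace Groth.Agent.S19660

section helpers

variable {k : Type*} [Field k] {V : Type*} [AddCommGroup V] [Module k V]

theorem comm_g (f : Module.End k V) (a : k) (n : ℕ) (y : V) :
    ((f - a • (1 : Module.End k V)) ^ n) (f y) = f (((f - a • (1 : Module.End k V)) ^ n) y) := by
  have h : Commute ((f - a • (1 : Module.End k V)) ^ n) f :=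
    ((Commute.refl f).sub_left ((Commute.one_left f).smul_left a)).pow_left n
  have := LinearMap.congr_fun h.eq y
  simpa only [Module.End.mul_apply] using this

theorem I1 (B : LinearMap.BilinForm k V) (f : Module.End k V) (q : k)
    (hf : ∀ x y, B (f x) (f y) = q * B x y) (x y : V) :
    B ((f - (1 : k) • (1 : Module.End k V)) x) (f y) =
      - B x ((f - q • (1 : Module.End k V)) y) := by
  simp only [LinearMap.sub_apply, LinearMap.smul_apply, Module.End.one_apply, map_sub, map_smul,
    hf, one_smul, smul_eq_mul]
  ring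

theorem I3 (B : LinearMap.BilinForm k V) (f : Module.End k V) (q : k)
    (hf : ∀ x y, B (f x) (f y) = q * B x y) (x y : V) :
    B ((f - q • (1 : Module.End k V)) x) (f y) =
      - q * B x ((f - (1 : k) • (1 : Module.End k V)) y) := by
  simp only [LinearMap.sub_apply, LinearMap.smul_apply, Module.End.one_apply, map_sub, map_smul,
    hf, one_smul, smul_eq_mul]
  ring

theorem P1 (B : LinearMap.BilinForm k V) (f : Module.End k V) (q : k)
    (hf : ∀ x y, B (f x) (f y) = q * B x y) (n : ℕ) :
    ∀ x y : V, ((f - (1 : k) • (1 : Module.End k V)) ^ n) x = 0 →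
      B x (((f - q • (1 : Module.End k V)) ^ n) y) = 0 := by
  induction n with
  | zero =>
    intro x y hx
    rw [pow_zero, Module.End.one_apply] at hx
    rw [hx, map_zero, LinearMap.zero_apply]
  | succ n ih =>
    intro x y hx
    rw [pow_succ, Module.End.mul_apply] at hx
    rw [pow_succ', Module.End.mul_apply]
    have h1 := I1 B f q hf x (((f - q • (1 : Module.End k V)) ^ n) y)
    rw [← comm_g, ih _ _ hx] at h1
    have h2 := neg_eq_zero.mp h1.symm
    exact h2

theorem P2 (B : LinearMap.BilinForm k V) (f : Module.End k V) (q : k) (hq : q ≠ 0)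
    (hf : ∀ x y, B (f x) (f y) = q * B x y) (n : ℕ) :
    ∀ x y : V, ((f - q • (1 : Module.End k V)) ^ n) x = 0 →
      B x (((f - (1 : k) • (1 : Module.End k V)) ^ n) y) = 0 := by
  induction n with
  | zero =>
    intro x y hx
    rw [pow_zero, Module.End.one_apply] at hx
    rw [hx, map_zero, LinearMap.zero_apply]
  | succ n ih =>
    intro x y hx
    rw [pow_succ, Module.End.mul_apply] at hx
    rw [pow_succ', Module.End.mul_apply]
    have h1 := I3 B f q hf x (((f - (1 : k) • (1 : Module.End k V)) ^ n) y)
    rw [← comm_g, ih _ _ hx] at h1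
    have h2 : q * B x ((f - (1 : k) • (1 : Module.End k V))
        (((f - (1 : k) • (1 : Module.End k V)) ^ n) y)) = 0 := by
      have := h1.symm
      rw [neg_mul, neg_eq_zero] at this
      exact this
    exact (mul_eq_zero.mp h2).resolve_left hq

theorem P3 (B : LinearMap.BilinForm k V) (f : Module.End k V) (q : k)
    (hf : ∀ x y, B (f x) (f y) = q * B x y) (finj : Function.Injective f)
    (fsurj : Function.Surjective f) (n : ℕ) :
    ∀ x y : V, ((f - q • (1 : Module.End k V)) ^ n) y = 0 →
      B (((f - (1 : k) • (1 : Module.End k V)) ^ n) x) y = 0 := by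
  induction n with
  | zero =>
    intro x y hy
    rw [pow_zero, Module.End.one_apply] at hy
    rw [hy, map_zero]
  | succ n ih =>
    intro x y hy
    obtain ⟨y', rfl⟩ := fsurj y
    rw [comm_g] at hy
    have hy' : ((f - q • (1 : Module.End k V)) ^ (n + 1)) y' = 0 := by
      apply finj
      rw [hy, map_zero]
    rw [pow_succ, Module.End.mul_apply] at hy'
    rw [pow_succ', Module.End.mul_apply, I1 B f q hf, ih _ _ hy', neg_zero]

theorem aeval_X_sub_C (f : Module.End k V) (a : k) :
    Polynomial.aeval f (Polynomial.X - Polynomial.C a) = f - a • (1 : Module.End k V) := by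
  rw [map_sub, Polynomial.aeval_X, Polynomial.aeval_C, Algebra.algebraMap_eq_smul_one]

/-- if `(f-a)^m x' = 0` and `a ≠ b` then `x'` lies in the range of `(f-b)^n`. -/
theorem mem_range_of_coprime (f : Module.End k V) (a b : k) (hab : a ≠ b) (m n : ℕ) (x' : V)
    (hx' : ((f - a • (1 : Module.End k V)) ^ m) x' = 0) :
    ∃ z : V, x' = ((f - b • (1 : Module.End k V)) ^ n) z := by
  have hc : IsCoprime ((Polynomial.X - Polynomial.C a : Polynomial k) ^ m)
      ((Polynomial.X - Polynomial.C b : Polynomial k) ^ n) :=
    (Polynomial.isCoprime_X_sub_C_of_isUnit_sub (sub_ne_zero.mpr hab).isUnit).pow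
  obtain ⟨c, d, hcd⟩ := hc
  refine ⟨Polynomial.aeval f d x', ?_⟩
  have h1 : Polynomial.aeval f (c * (Polynomial.X - Polynomial.C a) ^ m +
      d * (Polynomial.X - Polynomial.C b) ^ n) = 1 := by rw [hcd, map_one]
  have h2 := LinearMap.congr_fun h1 x'
  rw [map_add, map_mul, map_mul, map_pow, map_pow, aeval_X_sub_C, aeval_X_sub_C,
    LinearMap.add_apply, Module.End.mul_apply, Module.End.mul_apply, hx', map_zero, zero_add,
    Module.End.one_apply] at h2
  have hcomm : Polynomial.aeval f d * (f - b • (1 : Module.End k V)) ^ n =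
      (f - b • (1 : Module.End k V)) ^ n * Polynomial.aeval f d := by
    rw [← aeval_X_sub_C, ← map_pow, ← map_mul, ← map_mul, mul_comm]
  rw [← Module.End.mul_apply, ← hcomm, Module.End.mul_apply]
  exact h2.symm

theorem fitting (g : Module.End k V) [FiniteDimensional k V] (n : ℕ) :
    ∃ m, n ≤ m ∧ ∀ v : V, ∃ w r' : V, (g ^ m) w = 0 ∧ v = w + (g ^ m) r' := by
  obtain ⟨n₀, hn₀⟩ := Filter.eventually_atTop.mp
    (LinearMap.eventually_codisjoint_ker_pow_range_pow g)
  refine ⟨max n n₀, le_max_left _ _, fun v => ?_⟩
  have hcod := hn₀ (max n n₀) (le_max_right _ _)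
  have hv : v ∈ LinearMap.ker (g ^ (max n n₀)) ⊔ LinearMap.range (g ^ (max n n₀)) := by
    rw [hcod.eq_top]
    exact Submodule.mem_top
  obtain ⟨w, hw, r, ⟨r', rfl⟩, rfl⟩ := Submodule.mem_sup.mp hv
  exact ⟨w, r', LinearMap.mem_ker.mp hw, rfl⟩

end helpers

/-- The text applies this to the Frobenius acting on the points of prime order of a principally
polarised abelian variety over a finite field with q elements and to their Weil pairing. Let k be a
field, V a finite-dimensional k-vector space with a nondegenerate bilinear form B, q a nonzero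
element of k and M a linear automorphism of V with B(Mx, My) = q·B(x, y) for all x, y. Write V₁ and
V_q for the generalized eigenspaces of M at 1 and at q. Then every vector of V₁ that is B-orthogonal
to all of V_q is zero, every vector of V_q that is B-orthogonal (on the right) to all of V₁ is zero,
and when q ≠ 1 the form B vanishes identically on V₁ × V₁ and on V_q × V_q. (The text asserts this
as the evident adaptation, to a form scaled by q, of the orthogonality and nondegeneracy facts for
generalized kernels of an automorphism preserving a form; the abstract statement is recorded here,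
the application to the Weil pairing needing that pairing's formalism.) -/
theorem result
    {k : Type u} [Field k] {V : Type v} [AddCommGroup V] [Module k V] [FiniteDimensional k V]
    (B : LinearMap.BilinForm k V) (hB : B.Nondegenerate) (q : k) (hq : q ≠ 0)
    (M : V ≃ₗ[k] V) (hM : ∀ x y : V, B (M x) (M y) = q * B x y) :
    (∀ x ∈ Module.End.maxGenEigenspace (M : Module.End k V) 1,
        (∀ y ∈ Module.End.maxGenEigenspace (M : Module.End k V) q, B x y = 0) → x = 0) ∧
      (∀ y ∈ Module.End.maxGenEigenspace (M : Module.End k V) q,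
        (∀ x ∈ Module.End.maxGenEigenspace (M : Module.End k V) 1, B x y = 0) → y = 0) ∧
      (q ≠ 1 → ∀ x ∈ Module.End.maxGenEigenspace (M : Module.End k V) 1,
        ∀ x' ∈ Module.End.maxGenEigenspace (M : Module.End k V) 1, B x x' = 0) ∧
      (q ≠ 1 → ∀ y ∈ Module.End.maxGenEigenspace (M : Module.End k V) q,
        ∀ y' ∈ Module.End.maxGenEigenspace (M : Module.End k V) q, B y y' = 0) := by
  classical
  set f : Module.End k V := (M : Module.End k V) with hf_def
  have hf : ∀ x y, B (f x) (f y) = q * B x y := fun x y => hM x y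
  have finj : Function.Injective f := M.injective
  have fsurj : Function.Surjective f := M.surjective
  refine ⟨?_, ?_, ?_, ?_⟩
  · intro x hx hxy
    rw [Module.End.mem_maxGenEigenspace] at hx
    obtain ⟨n, hn⟩ := hx
    apply hB.1
    intro v
    obtain ⟨m, hnm, hdec⟩ := fitting (f - q • (1 : Module.End k V)) n
    obtain ⟨w, r', hw, rfl⟩ := hdec v
    have hwq : w ∈ Module.End.maxGenEigenspace f q :=
      (Module.End.mem_maxGenEigenspace f q w).mpr ⟨m, hw⟩
    rw [map_add, hxy w hwq, zero_add]
    exact P1 B f q hf m x r' (Module.End.pow_map_zero_of_le hnm hn)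
  · intro y hy hxy
    rw [Module.End.mem_maxGenEigenspace] at hy
    obtain ⟨n, hn⟩ := hy
    apply hB.2
    intro v
    obtain ⟨m, hnm, hdec⟩ := fitting (f - (1 : k) • (1 : Module.End k V)) n
    obtain ⟨w, r', hw, rfl⟩ := hdec v
    have hw1 : w ∈ Module.End.maxGenEigenspace f 1 :=
      (Module.End.mem_maxGenEigenspace f 1 w).mpr ⟨m, hw⟩
    rw [map_add, LinearMap.add_apply, hxy w hw1, zero_add]
    exact P3 B f q hf finj fsurj m r' y (Module.End.pow_map_zero_of_le hnm hn)
  · intro hq1 x hx x' hx'
    rw [Module.End.mem_maxGenEigenspace] at hx hx'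
    obtain ⟨n, hn⟩ := hx
    obtain ⟨m, hm⟩ := hx'
    obtain ⟨z, rfl⟩ := mem_range_of_coprime f 1 q (Ne.symm hq1) m n x' hm
    exact P1 B f q hf n x z hn
  · intro hq1 y hy y' hy'
    rw [Module.End.mem_maxGenEigenspace] at hy hy'
    obtain ⟨n, hn⟩ := hy
    obtain ⟨m, hm⟩ := hy'
    obtain ⟨z, rfl⟩ := mem_range_of_coprime f q 1 hq1 m n y' hm
    exact P2 B f q hq hf n y z hn

end Groth.Agent.S19660
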