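import Groth.Statements.S1967
import Groth.Agent.H47.WEtNormal
import Groth.Agent.S7127
import Groth.Agent.H47.NormalColimit

set_option autoImplicit false
universe u
open TensorProduct
open EtAlg

namespace Groth.Agent.S1967

open TensorProduct in
/-- Every element of `B ⊗ K` is a fraction with numerator in `B`. -/
theorem exists_smul_eq_tmul_one (A : Type u) [CommRing A] [IsDomain A]
    (K : Type u) [Field K] [Algebra A K] [IsFractionRing A K] (B : Type u) [CommRing B] [Algebra A B]
    (t : B ⊗[A] K) :
    ∃ (r : A) (b : B), r ≠ 0 ∧ r • t = b ⊗ₜ[A] (1 : K) := by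
  induction t using TensorProduct.induction_on with
  | zero => exact ⟨1, 0, one_ne_zero, by rw [smul_zero, zero_tmul]⟩
  | tmul b k =>
    obtain ⟨⟨a, d⟩, h⟩ := IsLocalization.surj (nonZeroDivisors A) k
    refine ⟨d, a • b, nonZeroDivisors.ne_zero d.2, ?_⟩
    rw [TensorProduct.smul_tmul', TensorProduct.smul_tmul, TensorProduct.smul_tmul,
      Algebra.smul_def, mul_comm, h, Algebra.smul_def, mul_one]
  | add x y hx hy =>
    obtain ⟨r₁, b₁, hr₁, h₁⟩ := hx
    obtain ⟨r₂, b₂, hr₂, h₂⟩ := hy
    refine ⟨r₁ * r₂, r₂ • b₁ + r₁ • b₂, mul_ne_zero hr₁ hr₂, ?_⟩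
    rw [smul_add, mul_comm r₁ r₂, mul_smul, h₁, mul_comm r₂ r₁, mul_smul, h₂, add_tmul,
      TensorProduct.smul_tmul', TensorProduct.smul_tmul']

open TensorProduct in
theorem isUnit_algebraMap_tensor (A : Type u) [CommRing A] [IsDomain A]
    (K : Type u) [Field K] [Algebra A K] [IsFractionRing A K] (B : Type u) [CommRing B] [Algebra A B]
    (r : A) (hr : r ≠ 0) :
    IsUnit (algebraMap A (B ⊗[A] K) r) := by
  rw [Algebra.TensorProduct.algebraMap_apply']
  have hk : algebraMap A K r ≠ 0 := by
    rwa [Ne, map_eq_zero_iff _ (IsFractionRing.injective A K)]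
  refine IsUnit.of_mul_eq_one ((1 : B) ⊗ₜ[A] (algebraMap A K r)⁻¹) ?_
  rw [Algebra.TensorProduct.tmul_mul_tmul, mul_one, mul_inv_cancel₀ hk]
  rfl

/-- The localization of a weakly étale algebra over a normal domain at a prime is a normal
domain. -/
theorem isDomain_isIntegrallyClosed_atPrime (A : Type u) [CommRing A] [IsDomain A]
    [IsIntegrallyClosed A] (B : Type u) [CommRing B] [Algebra A B] [Algebra.WeaklyEtale A B]
    (q : Ideal B) [q.IsPrime] :
    IsDomain (Localization.AtPrime q) ∧ IsIntegrallyClosed (Localization.AtPrime q) ∧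
      Function.Injective (algebraMap A (Localization.AtPrime q)) := by
  set p : Ideal A := q.comap (algebraMap A B) with hp
  haveI : p.IsPrime := Ideal.comap_isPrime _ _
  letI : Algebra (Localization.AtPrime p) (Localization.AtPrime q) :=
    (Localization.localRingHom p q (algebraMap A B) rfl).toAlgebra
  haveI : IsScalarTower A (Localization.AtPrime p) (Localization.AtPrime q) :=
    IsScalarTower.of_algebraMap_eq fun a => by
      rw [IsScalarTower.algebraMap_apply A B (Localization.AtPrime q)]
      exact (Localization.localRingHom_to_map p q (algebraMap A B) rfl a).symm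
  haveI : IsLocalHom (algebraMap (Localization.AtPrime p) (Localization.AtPrime q)) :=
    Localization.isLocalHom_localRingHom p q (algebraMap A B) rfl
  haveI w1 : Algebra.WeaklyEtale A (Localization.AtPrime p) :=
    Groth.Agent.H8.weaklyEtale_of_isLocalization p.primeCompl _
  haveI w2 : Algebra.WeaklyEtale B (Localization.AtPrime q) :=
    Groth.Agent.H8.weaklyEtale_of_isLocalization q.primeCompl _
  haveI w3 : Algebra.WeaklyEtale A (Localization.AtPrime q) :=
    Algebra.WeaklyEtale.trans A B (Localization.AtPrime q)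
  haveI w4 : Algebra.WeaklyEtale (Localization.AtPrime p) (Localization.AtPrime q) :=
    Groth.Agent.S7127.result A (Localization.AtPrime p) (Localization.AtPrime q)
  have hle : p.primeCompl ≤ nonZeroDivisors A := fun a ha =>
    mem_nonZeroDivisors_of_ne_zero (fun h => ha (by rw [h]; exact zero_mem _))
  haveI : IsDomain (Localization.AtPrime p) := IsLocalization.isDomain_localization hle
  haveI : IsIntegrallyClosed (Localization.AtPrime p) :=
    isIntegrallyClosed_of_isLocalization _ p.primeCompl hle
  obtain ⟨h1, h2⟩ := Groth.Agent.H47.WEtNormal.isDomain_isIntegrallyClosed_of_local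
    (Localization.AtPrime p) (Localization.AtPrime q)
  refine ⟨h1, h2, ?_⟩
  haveI : Module.FaithfullyFlat (Localization.AtPrime p) (Localization.AtPrime q) :=
    Module.FaithfullyFlat.of_flat_of_isLocalHom
  rw [IsScalarTower.algebraMap_eq A (Localization.AtPrime p) (Localization.AtPrime q)]
  exact (FaithfulSMul.algebraMap_injective (Localization.AtPrime p)
    (Localization.AtPrime q)).comp (IsLocalization.injective _ hle)


/-- If A is an integrally closed domain with fraction field K and B is weakly etale over A, then every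
element of B ⊗_A K that is integral over B (via b ↦ b ⊗ 1) already comes from B. -/
theorem result (A : Type u) [CommRing A] [IsDomain A] [IsIntegrallyClosed A]
    (K : Type u) [Field K] [Algebra A K] [IsFractionRing A K] (B : Type u) [CommRing B] [Algebra A B]
    [Algebra.WeaklyEtale A B] :
    IsIntegrallyClosedIn B (B ⊗[A] K) := by
  classical
  have hinjK : Function.Injective (algebraMap A K) := IsFractionRing.injective A K
  have hinj : Function.Injective (algebraMap B (B ⊗[A] K)) :=
    Algebra.TensorProduct.includeLeft_injective (S := B) hinjK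
  rw [isIntegrallyClosedIn_iff]
  refine ⟨hinj, fun {x} hx => ?_⟩
  obtain ⟨s, b, hs, hsb⟩ := exists_smul_eq_tmul_one A K B x
  have hunit := isUnit_algebraMap_tensor A K B s hs
  suffices h : ∃ z : B, b = s • z by
    obtain ⟨z, rfl⟩ := h
    refine ⟨z, ?_⟩
    apply hunit.mul_left_cancel
    rw [← Algebra.smul_def, ← Algebra.smul_def, hsb, Algebra.TensorProduct.algebraMap_apply,
      TensorProduct.smul_tmul']
    rfl
  -- the integral equation in `B`
  obtain ⟨P, hPm, hP⟩ := hx
  have hb0 : Polynomial.eval b (P.scaleRoots (algebraMap A B s)) = 0 := by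
    apply hinj
    rw [map_zero, ← Polynomial.eval₂_at_apply]
    have h1 := Polynomial.scaleRoots_eval₂_mul (p := P) (algebraMap B (B ⊗[A] K)) x
      (algebraMap A B s)
    rw [hP, mul_zero] at h1
    have h2 : algebraMap B (B ⊗[A] K) (algebraMap A B s) * x = algebraMap B (B ⊗[A] K) b := by
      rw [← IsScalarTower.algebraMap_apply A B (B ⊗[A] K), ← Algebra.smul_def, hsb]
      rfl
    rw [h2] at h1
    exact h1
  -- the colon ideal
  let I : Ideal B :=
    { carrier := {t | ∃ z, t * b = s • z}
      add_mem' := by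
        rintro t₁ t₂ ⟨z₁, h₁⟩ ⟨z₂, h₂⟩
        exact ⟨z₁ + z₂, by rw [add_mul, h₁, h₂, smul_add]⟩
      zero_mem' := ⟨0, by rw [zero_mul, smul_zero]⟩
      smul_mem' := by
        rintro c t ⟨z, h⟩
        exact ⟨c * z, by rw [smul_eq_mul, mul_assoc, h, mul_smul_comm]⟩ }
  by_contra hcon
  have hI : I ≠ ⊤ := by
    intro hI
    have h1 : (1 : B) ∈ I := hI ▸ Submodule.mem_top
    obtain ⟨z, hz⟩ := h1
    exact hcon ⟨z, by rw [← hz, one_mul]⟩
  obtain ⟨q, hqmax, hIq⟩ := Ideal.exists_le_maximal I hI
  haveI : q.IsPrime := hqmax.isPrime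
  obtain ⟨hdom, hic, hinjq⟩ := isDomain_isIntegrallyClosed_atPrime A B q
  haveI := hdom
  haveI := hic
  have hs' : algebraMap B (Localization.AtPrime q) (algebraMap A B s) ≠ 0 := by
    rw [← IsScalarTower.algebraMap_apply A B (Localization.AtPrime q)]
    exact fun h => hs (hinjq (by rw [h, map_zero]))
  have h3 := Groth.Agent.H47.EtaleNormal.map_eval_scaleRoots
    (algebraMap B (Localization.AtPrime q)) b (algebraMap A B s) P hPm
  rw [hb0, map_zero] at h3
  obtain ⟨c, hc⟩ := Groth.Agent.H47.EtaleNormal.exists_mul_eq_of_scaleRoots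
    (algebraMap B (Localization.AtPrime q) b) _ hs' (P.map (algebraMap B (Localization.AtPrime q)))
    (hPm.map _) h3.symm
  obtain ⟨z, t, rfl⟩ := IsLocalization.exists_mk'_eq q.primeCompl c
  have h4 : algebraMap B (Localization.AtPrime q) (z * algebraMap A B s) =
      algebraMap B (Localization.AtPrime q) (b * t) := by
    rw [map_mul, map_mul, ← hc, mul_right_comm, IsLocalization.mk'_spec]
  obtain ⟨t', ht'⟩ := (IsLocalization.eq_iff_exists q.primeCompl (Localization.AtPrime q)).mp h4
  have h5 : (t' : B) * t ∈ I := by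
    refine ⟨t' * z, ?_⟩
    rw [Algebra.smul_def, mul_assoc, mul_comm (t : B) b, ← ht']
    ring
  exact (q.primeCompl.mul_mem t'.2 t.2) (hIq h5)

end Groth.Agent.S1967
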