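import Groth.Statements.S19679
import Groth.Agent.H40.LocSurj

set_option autoImplicit false
universe u
open CategoryTheory MonoidalCategory CartesianMonoidalCategory MonObj AlgebraicGeometry
open ChGrp

namespace Groth.Agent.S19679

/-- Let k be an algebraically closed field of characteristic zero, G and H affine group schemes of
finite type over k (algebraic groups) with i : H → G a homomorphism which is a closed immersion, and
Z a reduced affine k-scheme of finite type (an affine variety) with an action of H. Let Y, with its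
G-action and j : G × Z → Y, be the balanced product G ×^H Z for the fppf topology: j is
G-equivariant for left translation on the first factor, it is a torsor for the twisted H-action
h·(g, z) = (g i(h)⁻¹, h·z), and it has sections fppf-locally on Y. If π_Z : Z → P is a categorical
quotient of Z by H and π_Y : Y → Q a categorical quotient of Y by G, then the projection G × Z → Z
induces an isomorphism Q ≅ P, inverse to the morphism induced by the H-invariant map z ↦ π_Y(j(e,
z)): there are mutually inverse φ : P → Q and χ : Q → P with π_Z followed by φ equal to z ↦ π_Y(j(e,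
z)) and j followed by π_Y and χ equal to the projection followed by π_Z (so Y//G ≅ Z//H). (The
source assumes G and H reductive and defines G ×^H Z as the quotient (G × Z)//H, a principal
H-bundle; here the quotients are part of the data, the balanced product is taken in its torsor form,
and reductivity is not needed.) -/
theorem result
    (k : Type u) [Field k] [IsAlgClosed k] [CharZero k]
    (G H Z Y P Q : Over (Spec (CommRingCat.of k))) [GrpObj G] [GrpObj H]
    [IsAffine G.left] [LocallyOfFiniteType G.hom] [IsAffine H.left] [LocallyOfFiniteType H.hom]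
    (i : H ⟶ G) [IsMonHom i] [IsClosedImmersion i.left]
    [IsAffine Z.left] [LocallyOfFiniteType Z.hom] [IsReduced Z.left]
    (aZ : AlgGrp.Action H Z) (aY : AlgGrp.Action G Y) (j : G ⊗ Z ⟶ Y)
    (hY : ChGrp.IsBalProd Scheme.fppfPrecoverage i aZ aY j)
    (πZ : Z ⟶ P) (hP : GIT.IsCatQuot aZ πZ) (πY : Y ⟶ Q) (hQ : GIT.IsCatQuot aY πY) :
    ∃ (φ : P ⟶ Q) (χ : Q ⟶ P), φ ≫ χ = 𝟙 P ∧ χ ≫ φ = 𝟙 Q ∧
      πZ ≫ φ = lift (toUnit Z ≫ η[G]) (𝟙 Z) ≫ j ≫ πY ∧ j ≫ πY ≫ χ = snd G Z ≫ πZ := by
  open Groth.Agent.H40.FpqcFam in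
  obtain ⟨hjeq, hsq, hlocj0⟩ := hY
  have hlocj := locTriv_fpqc_of_fppf hlocj0
  obtain ⟨hπZinv, hPuniv⟩ := hP
  obtain ⟨hπYinv, hQuniv⟩ := hQ
  have hjeqp : ∀ {T : Over (Spec (CommRingCat.of k))} (g' g : T ⟶ G) (z : T ⟶ Z),
      lift (g' * g) z ≫ j = lift g' (lift g z ≫ j) ≫ aY.act := by
    intro T g' g z
    have hjeq' : ((NonAbH1.trivialAction G).prod (AlgGrp.Action.trivial G Z)).act ≫ j =
        (G ◁ j) ≫ aY.act := hjeq
    have h := lift g' (lift g z) ≫= hjeq'
    rw [← Category.assoc, AlgGrp.Action.lift_prod_act, AlgGrp.Action.lift_trivial_act,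
      lift_whiskerLeft_assoc] at h
    rw [Hom.mul_def]
    exact h
  have hjtw : ∀ {T : Over (Spec (CommRingCat.of k))} (h : T ⟶ H) (g : T ⟶ G) (z : T ⟶ Z),
      lift (g * (h ≫ i)⁻¹) (lift h z ≫ aZ.act) ≫ j = lift g z ≫ j := by
    intro T h g z
    rw [← ChGrp.lift_twist_act, Category.assoc, hsq.w, lift_snd_assoc]
  have hπYp : ∀ {T : Over (Spec (CommRingCat.of k))} (g : T ⟶ G) (y : T ⟶ Y),
      (lift g y ≫ aY.act) ≫ πY = y ≫ πY := by
    intro T g y
    rw [Category.assoc, hπYinv, lift_snd_assoc]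
  have hπZp : ∀ {T : Over (Spec (CommRingCat.of k))} (h : T ⟶ H) (z : T ⟶ Z),
      (lift h z ≫ aZ.act) ≫ πZ = z ≫ πZ := by
    intro T h z
    rw [Category.assoc, hπZinv, lift_snd_assoc]
  have hjg : ∀ {T : Over (Spec (CommRingCat.of k))} (g : T ⟶ G) (z : T ⟶ Z),
      (lift g z ≫ j) ≫ πY = (lift (1 : T ⟶ G) z ≫ j) ≫ πY := by
    intro T g z
    have h := hjeqp g 1 z
    rw [_root_.mul_one] at h
    rw [h, hπYp]
  have hθp : ∀ {T : Over (Spec (CommRingCat.of k))} (z : T ⟶ Z),
      z ≫ lift (toUnit Z ≫ η[G]) (𝟙 Z) ≫ j ≫ πY = (lift (1 : T ⟶ G) z ≫ j) ≫ πY := by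
    intro T z
    have e : z ≫ toUnit Z ≫ η[G] = (1 : T ⟶ G) := by
      rw [← Category.assoc, toUnit_unique (z ≫ toUnit Z) (toUnit T)]
      rfl
    rw [← Category.assoc, comp_lift, Category.comp_id, e, Category.assoc]
  have hθinv : GIT.IsInvariant aZ (lift (toUnit Z ≫ η[G]) (𝟙 Z) ≫ j ≫ πY) := by
    apply AlgGrp.Action.hom_ext_lift₂
    intro T h z
    rw [← Category.assoc, hθp, lift_snd_assoc, hθp]
    have h1 := hjtw h (h ≫ i) z
    rw [mul_inv_cancel] at h1
    rw [h1, hjg]
  obtain ⟨φ, hφ, -⟩ := hPuniv Q _ hθinv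
  have hωinv : (ChGrp.twist i aZ).act ≫ snd G Z ≫ πZ = snd H (G ⊗ Z) ≫ snd G Z ≫ πZ := by
    apply AlgGrp.Action.hom_ext_lift₂
    intro T h gz
    have hgz : gz = lift (gz ≫ fst G Z) (gz ≫ snd G Z) := by
      apply CartesianMonoidalCategory.hom_ext <;> simp
    rw [hgz, ← Category.assoc, ChGrp.lift_twist_act, lift_snd_assoc, hπZp, lift_snd_assoc,
      lift_snd_assoc]
  obtain ⟨ω', hω'⟩ := sq_desc hsq hlocj (snd G Z ≫ πZ) hωinv
  have hω'inv : GIT.IsInvariant aY ω' := by
    apply cancel_whiskerLeft hlocj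
    apply AlgGrp.Action.hom_ext_lift₂
    intro T g' gz
    have hgz : gz = lift (gz ≫ fst G Z) (gz ≫ snd G Z) := by
      apply CartesianMonoidalCategory.hom_ext <;> simp
    rw [lift_whiskerLeft_assoc, lift_whiskerLeft_assoc, lift_snd_assoc, Category.assoc gz, hω']
    conv_lhs => rw [hgz]
    rw [← Category.assoc, ← hjeqp, Category.assoc, hω', lift_snd_assoc, Category.assoc]
  obtain ⟨χ, hχ, -⟩ := hQuniv P ω' hω'inv
  refine ⟨φ, χ, ?_, ?_, hφ, ?_⟩
  · refine (hPuniv P πZ hπZinv).unique ?_ (Category.comp_id _)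
    rw [← Category.assoc, hφ]
    simp only [Category.assoc]
    rw [hχ, hω', lift_snd_assoc, Category.id_comp]
  · refine (hQuniv Q πY hπYinv).unique ?_ (Category.comp_id _)
    rw [← Category.assoc, hχ]
    apply exact_cancel' hlocj
    rw [← Category.assoc, hω', Category.assoc, hφ]
    apply AlgGrp.Action.hom_ext_lift₂
    intro T g z
    rw [lift_snd_assoc, hθp, ← Category.assoc, hjg g z]
  · rw [hχ, hω']

end Groth.Agent.S19679
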