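import Groth.Statements.S1968
import Mathlib

set_option autoImplicit false
universe u
open EtAlg

namespace Groth.Agent.S1968


theorem coord (A : Type u) [CommRing A] [IsDomain A] [ValuationRing A] (l : ℕ) (x : Fin l → A) :
    ∃ (c : A) (u b : Fin l → A), c = ∑ i, u i * x i ∧ ∀ i, x i = b i * c := by
  have hfg : (Ideal.span (Set.range x)).FG := Submodule.fg_span (Set.finite_range _)
  have hp := IsBezout.isPrincipal_of_FG _ hfg
  obtain ⟨⟨c, hc⟩⟩ := hp
  have hcmem : c ∈ Ideal.span (Set.range x) := by
    rw [hc]; exact Submodule.mem_span_singleton_self c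
  rw [Ideal.mem_span_range_iff_exists_fun] at hcmem
  obtain ⟨u, hu⟩ := hcmem
  have hb : ∀ i, ∃ b, x i = b * c := by
    intro i
    have h1 : x i ∈ Ideal.span (Set.range x) := Ideal.subset_span (Set.mem_range_self i)
    rw [hc] at h1
    obtain ⟨b, hb⟩ := (Submodule.mem_span_singleton).mp h1
    exact ⟨b, by rw [← hb, smul_eq_mul]⟩
  choose b hb using hb
  exact ⟨c, u, b, hu.symm, hb⟩


/-- Let (A_j) be a family of valuation rings with fraction fields K_j. Then every ideal of the product
ring Π A_j is a flat Π A_j-module (that is, Π A_j has weak dimension at most 1), and Π K_j is the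
localization of Π A_j at its non-zero-divisors. -/
theorem result {J : Type u} (A : J → Type u) [∀ j, CommRing (A j)] [∀ j, IsDomain (A j)]
    [∀ j, ValuationRing (A j)] (K : J → Type u) [∀ j, Field (K j)] [∀ j, Algebra (A j) (K j)]
    [∀ j, IsFractionRing (A j) (K j)] :
    (∀ I : Ideal (∀ j, A j), Module.Flat (∀ j, A j) I) ∧
      IsLocalization (nonZeroDivisors (∀ j, A j)) (∀ j, K j) := by
  classical
  constructor
  · intro I
    apply Module.Flat.of_forall_isTrivialRelation
    intro l f x hfx
    have hco : ∀ j, ∃ (c : A j) (u b : Fin l → A j),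
        c = ∑ i, u i * (x i : ∀ j, A j) j ∧ ∀ i, (x i : ∀ j, A j) j = b i * c :=
      fun j => coord (A j) l (fun i => (x i : ∀ j, A j) j)
    choose c u b hcu hxb using hco
    have hC : (fun j => c j) ∈ I := by
      have h1 : (fun j => c j) = ∑ i, (fun j => u j i) * (x i : ∀ j, A j) := by
        funext j
        rw [Finset.sum_apply]
        simp only [Pi.mul_apply]
        exact hcu j
      rw [h1]
      exact I.sum_mem (fun i _ => I.mul_mem_left _ (x i).2)
    have hrel : ∀ j, ∑ i, f i j * (x i : ∀ j, A j) j = 0 := by
      intro j
      have h1 : ((∑ i, f i • x i : I) : ∀ j, A j) = 0 := by rw [hfx]; rfl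
      rw [Submodule.coe_sum] at h1
      have h2 := congrFun h1 j
      rw [Finset.sum_apply] at h2
      simpa using h2
    refine ⟨1, fun i _ => fun j => if c j = 0 then 0 else b j i,
      fun _ => ⟨fun j => c j, hC⟩, ?_, ?_⟩
    · intro i
      simp only [Finset.univ_unique, Finset.sum_singleton]
      apply Subtype.ext
      funext j
      change (x i : ∀ j, A j) j = (if c j = 0 then 0 else b j i) * c j
      by_cases hcj : c j = 0
      · rw [if_pos hcj, zero_mul, hxb j i, hcj, mul_zero]
      · rw [if_neg hcj]; exact hxb j i
    · intro _
      funext j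
      rw [Finset.sum_apply]
      simp only [Pi.mul_apply, Pi.zero_apply]
      by_cases hcj : c j = 0
      · simp [hcj]
      · simp only [if_neg hcj]
        have h1 := hrel j
        have h2 : (∑ i, f i j * b j i) * c j = 0 := by
          rw [Finset.sum_mul, ← h1]
          apply Finset.sum_congr rfl
          intro i _
          rw [hxb j i, mul_assoc]
        rcases mul_eq_zero.mp h2 with h | h
        · exact h
        · exact absurd h hcj
  · rw [isLocalization_iff]
    have hnzd : ∀ r : ∀ j, A j, r ∈ nonZeroDivisors (∀ j, A j) ↔ ∀ j, r j ≠ 0 := by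
      intro r
      constructor
      · intro hr j hrj
        have h1 := (mem_nonZeroDivisors_iff.mp hr).1 (Pi.single j 1) (by
          funext j'
          by_cases hjj : j' = j
          · rw [hjj]; simp [hrj]
          · simp [Pi.single_eq_of_ne hjj])
        have h2 := congrFun h1 j
        simp at h2
      · intro hr
        rw [mem_nonZeroDivisors_iff]
        constructor
        · intro y hy
          funext j
          have h1 := congrFun hy j
          simp only [Pi.mul_apply, Pi.zero_apply] at h1
          rcases mul_eq_zero.mp h1 with h | h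
          · exact absurd h (hr j)
          · exact h
        · intro y hy
          funext j
          have h1 := congrFun hy j
          simp only [Pi.mul_apply, Pi.zero_apply] at h1
          rcases mul_eq_zero.mp h1 with h | h
          · exact h
          · exact absurd h (hr j)
    refine ⟨?_, ?_, ?_⟩
    · rintro ⟨r, hr⟩
      rw [Pi.isUnit_iff]
      intro j
      have h1 : r j ≠ 0 := (hnzd r).mp hr j
      change IsUnit (algebraMap (A j) (K j) (r j))
      rw [isUnit_iff_ne_zero]
      exact (map_ne_zero_iff _ (IsFractionRing.injective (A j) (K j))).mpr h1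
    · intro z
      have h : ∀ j, ∃ x : A j × nonZeroDivisors (A j),
          z j * algebraMap (A j) (K j) x.2 = algebraMap (A j) (K j) x.1 :=
        fun j => IsLocalization.surj (nonZeroDivisors (A j)) (z j)
      choose x hx using h
      refine ⟨(fun j => (x j).1, ⟨fun j => ((x j).2 : A j),
        (hnzd _).mpr (fun j => nonZeroDivisors.coe_ne_zero _)⟩), ?_⟩
      funext j
      exact hx j
    · intro x y hxy
      refine ⟨1, ?_⟩
      have h1 : x = y := by
        funext j
        exact IsFractionRing.injective (A j) (K j) (congrFun hxy j)
      rw [h1]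

end Groth.Agent.S1968
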