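import Groth.Statements.S19681
import Groth.Agent.H40.LocSurj
import Groth.Agent.H40.FlatDesc

set_option autoImplicit false
universe u
open CategoryTheory MonoidalCategory CartesianMonoidalCategory MonObj AlgebraicGeometry
open ChGrp

namespace Groth.Agent.S19681

/-- Let k be an algebraically closed field of characteristic zero, G and H affine group schemes of
finite type over k with i : H → G a homomorphism which is a closed immersion, and Z a reduced affine
k-scheme of finite type with an action of H. Let Y, with its G-action and j : G × Z → Y, be the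
balanced product G ×^H Z for the fppf topology (j is G-equivariant for left translation on the first
factor, a torsor for the twisted H-action h·(g, z) = (g i(h)⁻¹, h·z), with sections fppf-locally on
Y). Let c : Y' → Y be a closed immersion from a reduced scheme Y' with a G-action making c
equivariant (a closed G-invariant subvariety of Y). Then Y' is again a balanced product: there are a
closed immersion c' : Z' → Z, an H-action on Z' for which c' is equivariant (a closed H-invariant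
subscheme of Z), and a morphism j' : G × Z' → Y' with j' followed by c equal to G × c' followed by
j, such that j' makes Y' the balanced product G ×^H Z' for the fppf topology. (The source assumes G
and H reductive and defines G ×^H Z as the quotient (G × Z)//H, a principal H-bundle; here the
balanced product is taken in its torsor form and reductivity is not needed.) -/
theorem result
    (k : Type u) [Field k] [IsAlgClosed k] [CharZero k]
    (G H Z Y Y' : Over (Spec (CommRingCat.of k))) [GrpObj G] [GrpObj H]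
    [IsAffine G.left] [LocallyOfFiniteType G.hom] [IsAffine H.left] [LocallyOfFiniteType H.hom]
    (i : H ⟶ G) [IsMonHom i] [IsClosedImmersion i.left]
    [IsAffine Z.left] [LocallyOfFiniteType Z.hom] [IsReduced Z.left]
    (aZ : AlgGrp.Action H Z) (aY : AlgGrp.Action G Y) (j : G ⊗ Z ⟶ Y)
    (hY : ChGrp.IsBalProd Scheme.fppfPrecoverage i aZ aY j)
    (c : Y' ⟶ Y) [IsClosedImmersion c.left] [IsReduced Y'.left]
    (aY' : AlgGrp.Action G Y') (hc : AlgGrp.Action.IsEquivariant aY' aY c) :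
    ∃ (Z' : Over (Spec (CommRingCat.of k))) (c' : Z' ⟶ Z) (aZ' : AlgGrp.Action H Z') (j' : G ⊗ Z' ⟶ Y'),
      IsClosedImmersion c'.left ∧ AlgGrp.Action.IsEquivariant aZ' aZ c' ∧
      j' ≫ c = (G ◁ c') ≫ j ∧ ChGrp.IsBalProd Scheme.fppfPrecoverage i aZ' aY' j' := by
  open Groth.Agent.H40.FpqcFam in
  obtain ⟨hjeq, hsq, R, hR, hsec⟩ := hY
  have hjeq' : ((NonAbH1.trivialAction G).prod (AlgGrp.Action.trivial G Z)).act ≫ j =
      (G ◁ j) ≫ aY.act := hjeq
  have hjeqp : ∀ {T : Over (Spec (CommRingCat.of k))} (g' g : T ⟶ G) (z : T ⟶ Z),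
      lift (g' * g) z ≫ j = lift g' (lift g z ≫ j) ≫ aY.act := by
    intro T g' g z
    have h := lift g' (lift g z) ≫= hjeq'
    rw [← Category.assoc, AlgGrp.Action.lift_prod_act, AlgGrp.Action.lift_trivial_act,
      lift_whiskerLeft_assoc] at h
    rw [Hom.mul_def]
    exact h
  have hjtw : ∀ {T : Over (Spec (CommRingCat.of k))} (h : T ⟶ H) (g : T ⟶ G) (z : T ⟶ Z),
      lift (g * (h ≫ i)⁻¹) (lift h z ≫ aZ.act) ≫ j = lift g z ≫ j := by
    intro T h g z
    rw [← ChGrp.lift_twist_act, Category.assoc, hsq.w, lift_snd_assoc]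
  have hc' : aY'.act ≫ c = (G ◁ c) ≫ aY.act := hc
  have hcp : ∀ {T : Over (Spec (CommRingCat.of k))} (g : T ⟶ G) (y' : T ⟶ Y'),
      (lift g y' ≫ aY'.act) ≫ c = lift g (y' ≫ c) ≫ aY.act := by
    intro T g y'
    rw [Category.assoc, hc', lift_whiskerLeft_assoc]
  have : Mono c := Groth.Agent.H40.FlatDesc.mono_of_isClosedImmersion_left c
  let e₁ : Z ⟶ Y := lift (toUnit Z ≫ η[G]) (𝟙 Z) ≫ j
  have he₁ : ∀ {T : Over (Spec (CommRingCat.of k))} (z : T ⟶ Z),
      z ≫ e₁ = lift (1 : T ⟶ G) z ≫ j := by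
    intro T z
    have e : z ≫ toUnit Z ≫ η[G] = (1 : T ⟶ G) := by
      rw [← Category.assoc, toUnit_unique (z ≫ toUnit Z) (toUnit T)]
      rfl
    simp only [e₁]
    rw [← Category.assoc, comp_lift, Category.comp_id, e]
  let Z' : Over (Spec (CommRingCat.of k)) := Limits.pullback e₁ c
  let c' : Z' ⟶ Z := Limits.pullback.fst e₁ c
  let d' : Z' ⟶ Y' := Limits.pullback.snd e₁ c
  have hcd : c' ≫ e₁ = d' ≫ c := Limits.pullback.condition
  have : Mono c' := inferInstanceAs (Mono (Limits.pullback.fst e₁ c))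
  have he₁act : ∀ {T : Over (Spec (CommRingCat.of k))} (h : T ⟶ H) (z : T ⟶ Z),
      (lift h z ≫ aZ.act) ≫ e₁ = lift (h ≫ i) (z ≫ e₁) ≫ aY.act := by
    intro T h z
    rw [he₁, he₁]
    have h1 := hjtw h (h ≫ i) z
    rw [mul_inv_cancel] at h1
    rw [h1]
    have h2 := hjeqp (h ≫ i) 1 z
    rw [_root_.mul_one] at h2
    exact h2
  have hactcond : ((H ◁ c') ≫ aZ.act) ≫ e₁ =
      (lift (fst H Z' ≫ i) (snd H Z' ≫ d') ≫ aY'.act) ≫ c := by
    apply AlgGrp.Action.hom_ext_lift₂
    intro T h z'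
    have l1 : lift h z' ≫ ((H ◁ c') ≫ aZ.act) ≫ e₁ = (lift h (z' ≫ c') ≫ aZ.act) ≫ e₁ := by
      simp only [Category.assoc, lift_whiskerLeft_assoc]
    have l2 : lift h z' ≫ (lift (fst H Z' ≫ i) (snd H Z' ≫ d') ≫ aY'.act) ≫ c =
        (lift (h ≫ i) (z' ≫ d') ≫ aY'.act) ≫ c := by
      simp only [Category.assoc, comp_lift_assoc, lift_fst_assoc, lift_snd_assoc]
    rw [l1, l2, he₁act, hcp, Category.assoc, Category.assoc, hcd]
  let actZ' : H ⊗ Z' ⟶ Z' := Limits.pullback.lift ((H ◁ c') ≫ aZ.act)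
    (lift (fst H Z' ≫ i) (snd H Z' ≫ d') ≫ aY'.act) hactcond
  have hactZ'c : actZ' ≫ c' = (H ◁ c') ≫ aZ.act := Limits.pullback.lift_fst _ _ _
  have hactZ'd : actZ' ≫ d' = lift (fst H Z' ≫ i) (snd H Z' ≫ d') ≫ aY'.act :=
    Limits.pullback.lift_snd _ _ _
  let aZ' : AlgGrp.Action H Z' := subAction aZ c' actZ' hactZ'c
  have haZ'c : ∀ {T : Over (Spec (CommRingCat.of k))} (h : T ⟶ H) (z' : T ⟶ Z'),
      (lift h z' ≫ aZ'.act) ≫ c' = lift h (z' ≫ c') ≫ aZ.act := by
    intro T h z'
    change (lift h z' ≫ actZ') ≫ c' = _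
    rw [Category.assoc, hactZ'c, lift_whiskerLeft_assoc]
  obtain ⟨j', hj'def⟩ : ∃ j' : G ⊗ Z' ⟶ Y', j' = lift (fst G Z') (snd G Z' ≫ d') ≫ aY'.act :=
    ⟨_, rfl⟩
  have hj'p : ∀ {T : Over (Spec (CommRingCat.of k))} (g : T ⟶ G) (z' : T ⟶ Z'),
      lift g z' ≫ j' = lift g (z' ≫ d') ≫ aY'.act := by
    intro T g z'
    rw [hj'def, ← Category.assoc, comp_lift, lift_fst, lift_snd_assoc]
  have hj'c : j' ≫ c = (G ◁ c') ≫ j := by
    apply AlgGrp.Action.hom_ext_lift₂
    intro T g z'
    rw [← Category.assoc, hj'p, hcp, lift_whiskerLeft_assoc, Category.assoc, ← hcd,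
      ← Category.assoc, he₁]
    have h2 := hjeqp g 1 (z' ≫ c')
    rw [_root_.mul_one] at h2
    exact h2.symm
  have hdecomp : ∀ {T : Over (Spec (CommRingCat.of k))} (x : T ⟶ G ⊗ Z'),
      x = lift (x ≫ fst G Z') (x ≫ snd G Z') := by
    intro T x
    apply CartesianMonoidalCategory.hom_ext <;> simp
  have htw : ∀ {T : Over (Spec (CommRingCat.of k))} (h : T ⟶ H) (x : T ⟶ G ⊗ Z'),
      (lift h x ≫ (ChGrp.twist i aZ').act) ≫ (G ◁ c') =
        lift h (x ≫ (G ◁ c')) ≫ (ChGrp.twist i aZ).act := by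
    intro T h x
    rw [hdecomp x, ChGrp.lift_twist_act, lift_whiskerLeft, lift_whiskerLeft,
      ChGrp.lift_twist_act, haZ'c]
  have hmonoGc : ∀ {T : Over (Spec (CommRingCat.of k))} (x x' : T ⟶ G ⊗ Z'),
      x ≫ (G ◁ c') = x' ≫ (G ◁ c') → x = x' := by
    intro T x x' h
    apply CartesianMonoidalCategory.hom_ext
    · have := congrArg (fun m => m ≫ fst G Z) h
      simpa using this
    · rw [← cancel_mono c']
      have := congrArg (fun m => m ≫ snd G Z) h
      simpa using this
  have hc'closed : IsClosedImmersion c'.left := by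
    have hpb := (IsPullback.of_hasPullback e₁ c).map (Over.forget (Spec (CommRingCat.of k)))
    exact MorphismProperty.of_isPullback (P := @IsClosedImmersion) hpb.flip
      (inferInstanceAs (IsClosedImmersion c.left))
  refine ⟨Z', c', aZ', j', hc'closed, hactZ'c, hj'c, ?_, ?_, ?_⟩
  · change _ ≫ j' = (G ◁ j') ≫ aY'.act
    apply AlgGrp.Action.hom_ext_lift₂
    intro T g' x
    rw [hdecomp x, ← Category.assoc, AlgGrp.Action.lift_prod_act, AlgGrp.Action.lift_trivial_act,
      lift_whiskerLeft_assoc, hj'p, hj'p]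
    change lift (g' * (x ≫ fst G Z')) _ ≫ aY'.act = _
    rw [AlgGrp.Action.lift_mul_act]
  · apply isPullback_of_free_trans
    · intro T h x
      rw [← cancel_mono c, Category.assoc, hj'c, ← Category.assoc, htw, sq_inv hsq,
        Category.assoc, Category.assoc, hj'c]
    · intro T x x' e
      have e2 : (x ≫ (G ◁ c')) ≫ j = (x' ≫ (G ◁ c')) ≫ j := by
        rw [Category.assoc, Category.assoc, ← hj'c, ← Category.assoc, ← Category.assoc, e]
      obtain ⟨h, hh⟩ := sq_exists hsq _ _ e2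
      exact ⟨h, hmonoGc _ _ (by rw [htw, hh])⟩
    · intro T h h' x e
      apply sq_free hsq h h' (x ≫ (G ◁ c'))
      rw [← htw, ← htw, e]
  · refine ⟨R.pullbackArrows c.left, Precoverage.pullbackArrows_mem c.left hR, ?_⟩
    rintro W w ⟨Z₀, r, hr⟩
    obtain ⟨s, hs⟩ := hsec r hr
    have hs' : s ≫ j.left = r := hs
    let W' : Over (Spec (CommRingCat.of k)) := Over.mk (Limits.pullback.snd r c.left ≫ Y'.hom)
    let y' : W' ⟶ Y' := Over.homMk (Limits.pullback.snd r c.left) rfl
    let gz : W' ⟶ G ⊗ Z := Over.homMk (Limits.pullback.fst r c.left ≫ s) (by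
      change (Limits.pullback.fst r c.left ≫ s) ≫ (G ⊗ Z).hom =
        Limits.pullback.snd r c.left ≫ Y'.hom
      rw [← Over.w j, Category.assoc, ← Category.assoc s, hs', ← Category.assoc,
        Limits.pullback.condition, Category.assoc, Over.w c])
    have hgz : gz ≫ j = y' ≫ c := by
      apply Over.OverMorphism.ext
      change (Limits.pullback.fst r c.left ≫ s) ≫ j.left = Limits.pullback.snd r c.left ≫ c.left
      rw [Category.assoc, hs', Limits.pullback.condition]
    obtain ⟨g, hg⟩ : ∃ g : W' ⟶ G, g = gz ≫ fst G Z := ⟨_, rfl⟩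
    obtain ⟨z, hz0⟩ : ∃ z : W' ⟶ Z, z = gz ≫ snd G Z := ⟨_, rfl⟩
    have hgz' : gz = lift g z := by
      rw [hg, hz0]
      apply CartesianMonoidalCategory.hom_ext <;> simp
    rw [hgz'] at hgz
    have hz : z ≫ e₁ = (lift g⁻¹ y' ≫ aY'.act) ≫ c := by
      rw [he₁, hcp, ← hgz, ← hjeqp, inv_mul_cancel]
    let z' : W' ⟶ Z' := Limits.pullback.lift z (lift g⁻¹ y' ≫ aY'.act) hz
    have hz'd : z' ≫ d' = lift g⁻¹ y' ≫ aY'.act := Limits.pullback.lift_snd _ _ _
    have hfin : lift g z' ≫ j' = y' := by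
      rw [hj'p, hz'd, ← AlgGrp.Action.lift_mul_act, mul_inv_cancel, AlgGrp.Action.lift_one_act]
    exact ⟨(lift g z').left, congrArg (fun m => m.left) hfin⟩

end Groth.Agent.S19681
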