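import Groth.Statements.S1969
import Mathlib

set_option autoImplicit false
set_option linter.style.haveILetI false
universe u
open EtAlg

namespace Groth.Agent.S1969


theorem dvd_or_dvd_of_flat {A : Type*} [CommRing A] (h : ∀ I : Ideal A, I.FG → Module.Flat A I)
    (p : Ideal A) [p.IsPrime] (a b : A) :
    algebraMap A (Localization.AtPrime p) a ∣ algebraMap A (Localization.AtPrime p) b ∨
    algebraMap A (Localization.AtPrime p) b ∣ algebraMap A (Localization.AtPrime p) a := by
  classical
  let I : Ideal A := Ideal.span {a, b}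
  have hfg : I.FG := ⟨{a, b}, by simp [I]⟩
  haveI := h I hfg
  have ha : a ∈ I := Ideal.subset_span (by simp)
  have hb : b ∈ I := Ideal.subset_span (by simp)
  let x : Fin 2 → I := ![⟨a, ha⟩, ⟨b, hb⟩]
  let f : Fin 2 → A := ![b, -a]
  have hsum : ∑ i, f i • x i = 0 := by
    rw [Fin.sum_univ_two]
    apply Subtype.ext
    show b * a + (-a) * b = 0
    ring
  obtain ⟨k, c, y, hx, hf⟩ := Module.Flat.isTrivialRelation_of_sum_smul_eq_zero hsum
  have hy : ∀ j, ∃ u v : A, u * a + v * b = (y j : A) := fun j => Ideal.mem_span_pair.mp (y j).2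
  choose u v huv using hy
  have hx0 : a = ∑ j, c 0 j * (y j : A) := by
    have := congrArg (Subtype.val) (hx 0)
    simpa [x] using this
  have hf' : ∀ j, b * c 0 j = a * c 1 j := by
    intro j
    have := hf j
    rw [Fin.sum_univ_two] at this
    simp only [f, Matrix.cons_val_zero, Matrix.cons_val_one] at this
    linear_combination this
  set α := ∑ j, c 0 j * u j with hα
  set β' := ∑ j, c 0 j * v j with hβ
  set γ := ∑ j, c 1 j * u j with hγ
  have e1 : a = α * a + β' * b := by
    conv_lhs => rw [hx0]
    simp only [hα, hβ, Finset.sum_mul, ← Finset.sum_add_distrib]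
    refine Finset.sum_congr rfl fun j _ => ?_
    rw [← huv j]; ring
  have e2 : b * α = a * γ := by
    simp only [hα, hγ, Finset.mul_sum]
    refine Finset.sum_congr rfl fun j _ => ?_
    rw [← mul_assoc, hf' j]; ring
  let φ := algebraMap A (Localization.AtPrime p)
  rcases IsLocalRing.isUnit_or_isUnit_one_sub_self (φ α) with hu | hu
  · left
    have h1 : φ b * φ α = φ a * φ γ := by rw [← map_mul, ← map_mul, e2]
    obtain ⟨w, hw⟩ := hu
    refine ⟨φ γ * ↑w⁻¹, ?_⟩
    show φ b = φ a * (φ γ * ↑w⁻¹)
    rw [← mul_assoc, ← h1, ← hw, mul_assoc, Units.mul_inv, mul_one]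
  · right
    have h1 : (1 - φ α) * φ a = φ β' * φ b := by
      have := congrArg φ e1
      rw [map_add, map_mul, map_mul] at this
      linear_combination this
    obtain ⟨w, hw⟩ := hu
    refine ⟨↑w⁻¹ * φ β', ?_⟩
    show φ a = φ b * (↑w⁻¹ * φ β')
    have h2 : φ a = ↑w⁻¹ * (φ β' * φ b) := by
      rw [← h1, ← hw, ← mul_assoc, Units.inv_mul, one_mul]
    rw [h2]; ring

theorem eq_zero_or_of_flat {A : Type*} [CommRing A] (h : ∀ I : Ideal A, I.FG → Module.Flat A I)
    (p : Ideal A) [p.IsPrime] (a c : A)
    (hac : algebraMap A (Localization.AtPrime p) a * algebraMap A (Localization.AtPrime p) c = 0) :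
    algebraMap A (Localization.AtPrime p) a = 0 ∨ algebraMap A (Localization.AtPrime p) c = 0 := by
  classical
  rw [← map_mul] at hac
  obtain ⟨t, ht⟩ := (IsLocalization.map_eq_zero_iff p.primeCompl _ _).mp hac
  let I : Ideal A := Ideal.span {a}
  have hfg : I.FG := ⟨{a}, by simp [I]⟩
  haveI := h I hfg
  have ha : a ∈ I := Ideal.subset_span (by simp)
  let x : Fin 1 → I := fun _ => ⟨a, ha⟩
  let f : Fin 1 → A := fun _ => t * c
  have hsum : ∑ i, f i • x i = 0 := by
    rw [Fin.sum_univ_one]
    apply Subtype.ext
    show (t * c) * a = 0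
    rw [← ht]; ring
  obtain ⟨k, cc, y, hx, hf⟩ := Module.Flat.isTrivialRelation_of_sum_smul_eq_zero hsum
  have hy : ∀ j, ∃ u : A, u * a = (y j : A) := fun j => Ideal.mem_span_singleton'.mp (y j).2
  choose u hu using hy
  have hx0 : a = ∑ j, cc 0 j * (y j : A) := by
    have := congrArg (Subtype.val) (hx 0)
    simpa [x] using this
  have hf' : ∀ j, (t * c) * cc 0 j = 0 := by
    intro j; have := hf j; rw [Fin.sum_univ_one] at this; exact this
  set α := ∑ j, cc 0 j * u j with hα
  have e1 : a = α * a := by
    conv_lhs => rw [hx0]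
    simp only [hα, Finset.sum_mul]
    refine Finset.sum_congr rfl fun j _ => ?_
    rw [← hu j]; ring
  have e2 : (t * c) * α = 0 := by
    simp only [hα, Finset.mul_sum]
    refine Finset.sum_eq_zero fun j _ => ?_
    rw [← mul_assoc, hf' j, zero_mul]
  let φ := algebraMap A (Localization.AtPrime p)
  rcases IsLocalRing.isUnit_or_isUnit_one_sub_self (φ α) with hu' | hu'
  · right
    have h1 : φ t * φ c * φ α = 0 := by rw [← map_mul, ← map_mul, e2, map_zero]
    have htu : IsUnit (φ t) := IsLocalization.map_units _ t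
    have h2 : φ t * φ c = 0 := hu'.mul_left_eq_zero.mp h1
    exact htu.mul_right_eq_zero.mp h2
  · left
    have h1 : (1 - φ α) * φ a = 0 := by
      have := congrArg φ e1
      rw [map_mul] at this
      linear_combination this
    exact hu'.mul_right_eq_zero.mp h1

theorem key24 (A : Type u) [CommRing A] (h : ∀ I : Ideal A, I.FG → Module.Flat A I)
    (p : Ideal A) [p.IsPrime] :
    ∃ _ : IsDomain (Localization.AtPrime p), ValuationRing (Localization.AtPrime p) := by
  let Ap := Localization.AtPrime p
  let φ := algebraMap A Ap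
  have hrep : ∀ x : Ap, ∃ (a : A) (s : p.primeCompl), x * φ s = φ a := by
    intro x
    obtain ⟨a, s, hx⟩ := IsLocalization.exists_mk'_eq p.primeCompl x
    exact ⟨a, s, by rw [← hx]; exact IsLocalization.mk'_spec _ a s⟩
  have hunit : ∀ s : p.primeCompl, IsUnit (φ s) := fun s => IsLocalization.map_units _ s
  haveI : NoZeroDivisors Ap := ⟨by
    intro x y hxy
    obtain ⟨a, s, ha⟩ := hrep x
    obtain ⟨c, s', hc⟩ := hrep y
    have : φ a * φ c = 0 := by rw [← ha, ← hc]; linear_combination (φ s * φ s') * hxy
    rcases eq_zero_or_of_flat h p a c this with h0 | h0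
    · left; rw [h0] at ha; exact (hunit s).mul_left_eq_zero.mp ha
    · right; rw [h0] at hc; exact (hunit s').mul_left_eq_zero.mp hc⟩
  have hdom : IsDomain Ap := NoZeroDivisors.to_isDomain Ap
  refine ⟨hdom, ?_⟩
  haveI := hdom
  rw [ValuationRing.iff_dvd_total]
  refine ⟨fun x y => ?_⟩
  obtain ⟨a, s, ha⟩ := hrep x
  obtain ⟨b, s', hb⟩ := hrep y
  rcases dvd_or_dvd_of_flat h p a b with hab | hba
  · left
    have h1 : x ∣ φ b := Dvd.dvd.trans ⟨φ s, ha.symm⟩ hab
    rw [← hb] at h1
    exact ((hunit s').dvd_mul_right).mp h1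
  · right
    have h1 : y ∣ φ a := Dvd.dvd.trans ⟨φ s', hb.symm⟩ hba
    rw [← ha] at h1
    exact ((hunit s).dvd_mul_right).mp h1

theorem key43 (A : Type u) [CommRing A]
    (h4 : ∀ (p : Ideal A) [p.IsPrime],
      ∃ _ : IsDomain (Localization.AtPrime p), ValuationRing (Localization.AtPrime p))
    (M : Type u) [AddCommGroup M] [Module A M] (hM : Module.Flat A M) (N : Submodule A M) :
    Module.Flat A N := by
  apply Module.flat_of_localized_maximal
  intro P hP
  haveI : P.IsPrime := hP.isPrime
  obtain ⟨hdom, hval⟩ := h4 P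
  haveI := hdom
  haveI := hval
  let Ap := Localization.AtPrime P
  haveI : Module.Flat Ap (LocalizedModule P.primeCompl M) := inferInstance
  have hNflat : Module.Flat Ap (LocalizedModule P.primeCompl N) := by
    rw [Module.Flat.flat_iff_torsion_eq_bot_of_isBezout]
    rw [eq_bot_iff]
    intro n hn
    rw [Submodule.mem_torsion_iff] at hn
    obtain ⟨r, hr⟩ := hn
    let ι := LocalizedModule.map P.primeCompl N.subtype
    have hι : Function.Injective ι := LocalizedModule.map_injective _ _ N.injective_subtype
    have h1 : ι n ∈ Submodule.torsion Ap (LocalizedModule P.primeCompl M) := by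
      rw [Submodule.mem_torsion_iff]
      refine ⟨r, ?_⟩
      have hr' : (r : Ap) • n = 0 := hr
      show (r : Ap) • ι n = 0
      rw [← map_smul, hr', map_zero]
    rw [Module.Flat.torsion_eq_bot] at h1
    have h2 : ι n = 0 := (Submodule.mem_bot _).mp h1
    exact (Submodule.mem_bot _).mpr (hι (by rw [h2, map_zero]))
  exact Module.Flat.trans A Ap (LocalizedModule P.primeCompl N)


/-- For a commutative ring A these are equivalent — all ideals are flat A-modules; all finitely
generated ideals are flat; flatness passes to submodules of flat modules; each localization at a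
prime is a valuation ring (in particular a domain). Condition (1), weak dimension at most one, is
not stated. -/
theorem result (A : Type u) [CommRing A] :
    List.TFAE [∀ I : Ideal A, Module.Flat A I,
      ∀ I : Ideal A, I.FG → Module.Flat A I,
      ∀ (M : Type u) [AddCommGroup M] [Module A M], Module.Flat A M → ∀ N : Submodule A M, Module.Flat A N,
      ∀ (p : Ideal A) [p.IsPrime], ∃ _ : IsDomain (Localization.AtPrime p), ValuationRing (Localization.AtPrime p)] := by
  tfae_have 1 → 2 := fun h I _ => h I
  tfae_have 3 → 1 := fun h I => h A inferInstance I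
  tfae_have 2 → 4 := fun h p _ => key24 A h p
  tfae_have 4 → 3 := fun h M _ _ hM N => key43 A h M hM N
  tfae_finish

end Groth.Agent.S1969
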