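import Mathlib
import Groth.Statements.S19695
import Groth.Agent.S19694

set_option autoImplicit false
set_option linter.style.haveILetI false
universe u
open CategoryTheory CategoryTheory.Limits AlgebraicGeometry Opposite
open FinCov

namespace Groth.Agent.S19695

open Groth.Agent.H22 Groth.Agent.H8 TopologicalSpace Groth.Agent.S19694

lemma nsmul_app {X : Scheme.{u}} {M N : X.Modules} (φ : M ⟶ N) (d : ℕ) (U : X.Opens)
    (x : Γ(M, U)) : (d • φ).app U x = d • φ.app U x := by
  induction d with
  | zero => rw [zero_smul, zero_smul]; rfl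
  | succ k ih =>
    rw [succ_nsmul, succ_nsmul, Scheme.Modules.Hom.add_app]
    change (k • φ).app U x + φ.app U x = _
    rw [ih]

/-- Let X be a scheme, A a quasi-coherent O_X-algebra which is locally free of rank d as an O_X-module,
and τ : A → O_X its trace (the O_X-linear map which over every affine open where A is finite free is
the trace of the regular representation). Then the structure map O_X → A followed by τ equals
multiplication by d on O_X. -/
theorem result {X : Scheme.{u}} (A : RelSpec.QCAlg X) (d : ℕ)
    (hA : FlatMod.IsFinLocFreeOfRank d A.toModule)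
    (τ : A.toModule ⟶ Coh.structureModule X) (hτ : FinCov.IsTrace A τ) :
    FinCov.strMod A ≫ τ = d • 𝟙 (Coh.structureModule X) := by
  haveI : A.toModule.IsQuasicoherent := toModule_isQuasicoherent A
  haveI : (Coh.structureModule X).IsQuasicoherent :=
    Groth.Agent.H8.isQuasicoherent_structureModule' X
  let Idx := {U : X.Opens // IsAffineOpen U ∧
    Nonempty (A.toModule.restrict U.ι ≅ FlatMod.freeMod (↑U) d)}
  have hcover : IsOpenCover (fun i : Idx => i.1) := by
    refine eq_top_iff.mpr fun x _ => ?_
    obtain ⟨U, hxU, ⟨e⟩⟩ := hA x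
    obtain ⟨_, ⟨V, hV, rfl⟩, hxV, hVU⟩ := X.isBasis_affineOpens.exists_subset_of_mem_open hxU U.2
    exact Opens.mem_iSup.mpr ⟨⟨V, hV, nonempty_restrict_iso_freeMod_of_le A.toModule hVU d e⟩, hxV⟩
  refine Groth.Agent.H41.ModGlue.hom_ext_of_affine_cover _ _ (fun i : Idx => i.1) hcover
    (fun i => i.2.1) (fun i x => ?_)
  obtain ⟨U, hU, ⟨e⟩⟩ := i
  obtain ⟨e'⟩ := nonempty_sections_equiv_of_le A.toModule e (le_refl U)
  obtain ⟨hfree, hfin⟩ := free_finite_of_equiv A U d e'
  rw [nsmul_app]
  change (τ.val.app (op U)).hom ((A.str.app (op U)).hom x) = d • x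
  rw [hτ U hU hfree hfin]
  letI : Algebra Γ(X, U) (A.presheaf.obj (op U)) := (A.str.app (op U)).hom.toAlgebra
  let e'' : A.presheaf.obj (op U) ≃ₗ[Γ(X, U)] (Fin d → Γ(X, U)) :=
    { toFun := fun a => e' (ofB A U a)
      map_add' := fun a b => e'.map_add _ _
      map_smul' := fun r a => e'.map_smul r (ofB A U a)
      invFun := fun v => toB A U (e'.symm v)
      left_inv := e'.left_inv
      right_inv := e'.right_inv }
  have := Algebra.trace_algebraMap_of_basis (Module.Basis.ofEquivFun e'') x
  rw [Fintype.card_fin] at this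
  exact this

end Groth.Agent.S19695
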