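import Mathlib
import Groth.Statements.S19696
import Groth.Agent.S19695
import Groth.Agent.H8.SectionsExact
import Groth.Agent.H22.QCohLimits
import Groth.Agent.H22.KerFree
import Groth.Agent.H18.FreeEpi

set_option autoImplicit false
set_option linter.style.haveILetI false
universe u
open CategoryTheory CategoryTheory.Limits AlgebraicGeometry Opposite
open FinCov

namespace Groth.Agent.S19696

open Groth.Agent.H22 Groth.Agent.H8 TopologicalSpace Groth.Agent.S19694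

section Nat

variable {X : Scheme.{u}} {U : X.Opens} (F : X.Modules) {n : ℕ}
  (e : F.restrict U.ι ≅ FlatMod.freeMod (↑U) n)

/-- Naturality of the coordinates of `sectionsEquivOfRestrictIso`. -/
lemma equiv_res {W W' : U.toScheme.Opens} (h : W' ≤ W) (h' : U.ι ''ᵁ W' ≤ U.ι ''ᵁ W)
    (a : Γ(F, U.ι ''ᵁ W)) (i : Fin n) :
    sectionsEquivOfRestrictIso F e W' (F.presheaf.map (homOfLE h').op a) i =
      X.presheaf.map (homOfLE h').op (sectionsEquivOfRestrictIso F e W a i) := by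
  have h1 := QCohLimits.app_res (e.hom ≫ freeπ (↑U) n i) h (show Γ(F.restrict U.ι, W) from a)
  rw [Scheme.Modules.Hom.comp_app, Scheme.Modules.Hom.comp_app] at h1
  exact h1

end Nat

section Main

variable {X : Scheme.{u}}

/-- The morphism `O ⟶ M` attached to a global section. -/
noncomputable def secHom (M : X.Modules) (t : Γ(M, ⊤)) : Coh.structureModule X ⟶ M :=
  (SheafOfModules.unitHomEquiv (R := X.ringCatSheaf) M).symm
    (Groth.Agent.H18.RestrictUnit.globalSections M t)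

lemma secHom_app (M : X.Modules) (t : Γ(M, ⊤)) (V : X.Opens) (r : Γ(X, V)) :
    (secHom M t).app V r = r • M.presheaf.map (homOfLE (le_top : V ≤ ⊤)).op t :=
  Groth.Agent.H18.FreeEpi.unitHomEquiv_symm_app_apply M
    (Groth.Agent.H18.RestrictUnit.globalSections M t) V r

/-- The unit section of `A` over `V`. -/
noncomputable def oneA (A : RelSpec.QCAlg X) (V : X.Opens) : Γ(A.toModule, V) :=
  ofB A V (1 : A.presheaf.obj (op V))

lemma oneA_res (A : RelSpec.QCAlg X) {V W : X.Opens} (h : W ≤ V) :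
    A.toModule.presheaf.map (homOfLE h).op (oneA A V) = oneA A W :=
  map_one (A.presheaf.map (homOfLE h).op).hom

lemma strMod_one (A : RelSpec.QCAlg X) (V : X.Opens) :
    (FinCov.strMod A).app V (1 : Γ(X, V)) = oneA A V :=
  map_one (A.str.app (op V)).hom

lemma tau_oneA (A : RelSpec.QCAlg X) (d : ℕ) (hA : FlatMod.IsFinLocFreeOfRank d A.toModule)
    (τ : A.toModule ⟶ Coh.structureModule X) (hτ : FinCov.IsTrace A τ) (V : X.Opens) :
    τ.app V (oneA A V) = (d : Γ(X, V)) := by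
  have h1 := Groth.Agent.S19695.result A d hA τ hτ
  have h2 := congrArg (fun φ : Coh.structureModule X ⟶ Coh.structureModule X =>
    φ.app V (1 : Γ(X, V))) h1
  simp only at h2
  rw [Scheme.Modules.Hom.comp_app, Groth.Agent.S19695.nsmul_app] at h2
  rw [← strMod_one]
  refine h2.trans ?_
  show d • (1 : Γ(X, V)) = (d : Γ(X, V))
  rw [nsmul_eq_mul, mul_one]

lemma isSplitEpi_tau (A : RelSpec.QCAlg X) (d : ℕ)
    (hA : FlatMod.IsFinLocFreeOfRank d A.toModule)
    (τ : A.toModule ⟶ Coh.structureModule X) (hτ : FinCov.IsTrace A τ)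
    (hd : IsUnit ((d : Γ(X, ⊤)))) : IsSplitEpi τ := by
  obtain ⟨w, hw⟩ := hd
  refine ⟨⟨secHom A.toModule ((↑w⁻¹ : Γ(X, ⊤)) • oneA A ⊤), ?_⟩⟩
  refine Scheme.Modules.hom_ext _ _ (fun V => ?_)
  ext r
  rw [Scheme.Modules.Hom.comp_app, Scheme.Modules.Hom.id_app]
  change τ.app V ((secHom A.toModule ((↑w⁻¹ : Γ(X, ⊤)) • oneA A ⊤)).app V r) = r
  rw [secHom_app, Groth.Agent.H8.res_smul, oneA_res, Scheme.Modules.Hom.app_smul,
    Scheme.Modules.Hom.app_smul, tau_oneA A d hA τ hτ V]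
  have h1 : (d : Γ(X, V)) = X.presheaf.map (homOfLE (le_top : V ≤ ⊤)).op (↑w : Γ(X, ⊤)) := by
    rw [hw, map_natCast]
  have h2 : X.presheaf.map (homOfLE (le_top : V ≤ ⊤)).op (↑w⁻¹ : Γ(X, ⊤)) * (d : Γ(X, V)) = 1 := by
    rw [h1, ← map_mul, Units.inv_mul, map_one]
  exact (congrArg (fun z : Γ(X, V) => (show Γ(X, V) from r) * z) h2).trans
    (mul_one (show Γ(X, V) from r))

lemma kernel_locFree (A : RelSpec.QCAlg X) (d : ℕ)
    (hA : FlatMod.IsFinLocFreeOfRank d A.toModule)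
    (τ : A.toModule ⟶ Coh.structureModule X) (hτ : FinCov.IsTrace A τ)
    (hd : IsUnit ((d : Γ(X, ⊤)))) : FlatMod.IsFinLocFreeOfRank (d - 1) (kernel τ) := by
  haveI : A.toModule.IsQuasicoherent := toModule_isQuasicoherent A
  haveI : (Coh.structureModule X).IsQuasicoherent :=
    Groth.Agent.H8.isQuasicoherent_structureModule' X
  haveI : (kernel τ).IsQuasicoherent := QCohLimits.isQuasicoherent_kernel τ
  intro x
  obtain ⟨n, rfl⟩ : ∃ n, d = n + 1 := by
    rcases d with _ | n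
    · exfalso
      have h0 : X.basicOpen (((0 : ℕ) : Γ(X, ⊤))) = ⊤ := X.basicOpen_of_isUnit hd
      rw [Nat.cast_zero, Scheme.basicOpen_zero] at h0
      have hx : x ∈ (⊤ : X.Opens) := trivial
      rw [← h0] at hx
      exact hx
    · exact ⟨n, rfl⟩
  rw [Nat.add_sub_cancel]
  obtain ⟨U₀, hxU₀, ⟨e₀⟩⟩ := hA x
  obtain ⟨U, hU, hxU, hUU₀⟩ : ∃ U : X.Opens, IsAffineOpen U ∧ x ∈ U ∧ U ≤ U₀ := by
    obtain ⟨W, hW, hxW, hWV⟩ := Opens.isBasis_iff_nbhd.mp X.isBasis_affineOpens hxU₀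
    exact ⟨W, hW, hxW, hWV⟩
  obtain ⟨e⟩ := nonempty_restrict_iso_freeMod_of_le A.toModule hUU₀ (n + 1) e₀
  have hV₀eq : U.ι ''ᵁ ⊤ = U := Scheme.Opens.ι_image_top U
  have hV₀ : IsAffineOpen (U.ι ''ᵁ ⊤) := by rw [hV₀eq]; exact hU
  have hxV₀ : x ∈ U.ι ''ᵁ ⊤ := by rw [hV₀eq]; exact hxU
  obtain ⟨c, hc⟩ : ∃ c : Fin (n + 1) → Γ(X, U.ι ''ᵁ ⊤),
      c = sectionsEquivOfRestrictIso A.toModule e ⊤ (oneA A (U.ι ''ᵁ ⊤)) := ⟨_, rfl⟩
  -- the trace of one is `d`, which is a unit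
  have hdV : ∀ V : X.Opens, IsUnit (((n + 1 : ℕ)) : Γ(X, V)) := by
    intro V
    have h1 := hd.map (X.presheaf.map (homOfLE (le_top : V ≤ ⊤)).op).hom
    rwa [map_natCast] at h1
  have hex : ∃ i, x ∈ X.basicOpen (c i) := by
    by_contra hne
    push Not at hne
    let φ : (Fin (n + 1) → Γ(X, U.ι ''ᵁ ⊤)) →ₗ[Γ(X, U.ι ''ᵁ ⊤)] Γ(X, U.ι ''ᵁ ⊤) :=
      { toFun := fun v => τ.app (U.ι ''ᵁ ⊤)
          ((sectionsEquivOfRestrictIso A.toModule e ⊤).symm v)
        map_add' := fun a b => by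
          rw [map_add, map_add]
          rfl
        map_smul' := fun r a => by
          rw [map_smul, Scheme.Modules.Hom.app_smul]
          rfl }
    have hφc : φ c = ((n + 1 : ℕ) : Γ(X, U.ι ''ᵁ ⊤)) := by
      show τ.app (U.ι ''ᵁ ⊤) ((sectionsEquivOfRestrictIso A.toModule e ⊤).symm c) = _
      rw [hc, LinearEquiv.symm_apply_apply]
      exact tau_oneA A (n + 1) hA τ hτ _
    have hmem : ((n + 1 : ℕ) : Γ(X, U.ι ''ᵁ ⊤)) ∈ Ideal.span (Set.range c) := by
      rw [← hφc, LinearMap.pi_apply_eq_sum_univ]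
      exact Ideal.sum_mem _ (fun i _ => Ideal.mul_mem_right _ _ (Ideal.subset_span ⟨i, rfl⟩))
    have hz : x ∈ X.zeroLocus (U := U.ι ''ᵁ ⊤) (Set.range c) := by
      rw [Scheme.mem_zeroLocus_iff]
      rintro _ ⟨i, rfl⟩
      exact hne i
    rw [← Scheme.zeroLocus_span, Scheme.mem_zeroLocus_iff] at hz
    have h1 := hz _ hmem
    rw [X.basicOpen_of_isUnit (hdV _)] at h1
    exact h1 hxV₀
  obtain ⟨i, hxi⟩ := hex
  -- the open `V = U ∩ D(c i)`
  obtain ⟨W', hW'⟩ : ∃ W' : U.toScheme.Opens, W' = U.ι ⁻¹ᵁ X.basicOpen (c i) := ⟨_, rfl⟩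
  have hVeq : U.ι ''ᵁ W' = X.basicOpen (c i) := by
    rw [hW', Scheme.Hom.image_preimage_eq_opensRange_inf, Scheme.Opens.opensRange_ι]
    exact inf_eq_right.mpr ((X.basicOpen_le (c i)).trans hV₀eq.le)
  have hV : IsAffineOpen (U.ι ''ᵁ W') := by
    rw [hVeq]
    exact hV₀.basicOpen (c i)
  have hxV : x ∈ U.ι ''ᵁ W' := by
    rw [hVeq]
    exact hxi
  have hVV₀ : U.ι ''ᵁ W' ≤ U.ι ''ᵁ ⊤ := by
    rw [hVeq]
    exact X.basicOpen_le (c i)
  refine ⟨U.ι ''ᵁ W', hxV, ?_⟩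
  have hcoord : sectionsEquivOfRestrictIso A.toModule e W' (oneA A (U.ι ''ᵁ W')) i =
      X.presheaf.map (homOfLE hVV₀).op (c i) := by
    rw [hc, ← equiv_res A.toModule e (le_top : W' ≤ ⊤) hVV₀, oneA_res]
  have hunit : IsUnit (sectionsEquivOfRestrictIso A.toModule e W' (oneA A (U.ι ''ᵁ W')) i) := by
    rw [hcoord]
    exact (Groth.Agent.H22.GenLocus.isUnit_res_iff hVV₀ (c i)).mpr hVeq.le
  let φ : Γ(A.toModule, U.ι ''ᵁ W') →ₗ[Γ(X, U.ι ''ᵁ W')] Γ(X, U.ι ''ᵁ W') :=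
    { toFun := fun a => τ.app (U.ι ''ᵁ W') a
      map_add' := fun a b => map_add _ a b
      map_smul' := fun r a => Scheme.Modules.Hom.app_smul τ r a }
  have hφ1 : IsUnit (φ (oneA A (U.ι ''ᵁ W'))) := by
    have h1 : φ (oneA A (U.ι ''ᵁ W')) = ((n + 1 : ℕ) : Γ(X, U.ι ''ᵁ W')) :=
      tau_oneA A (n + 1) hA τ hτ _
    rw [h1]
    exact hdV _
  obtain ⟨e1⟩ := KerFree.nonempty_ker_equiv n (sectionsEquivOfRestrictIso A.toModule e W')
    (oneA A (U.ι ''ᵁ W')) i hunit φ hφ1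
  -- sections of the kernel
  let S : ShortComplex X.Modules := ShortComplex.mk (kernel.ι τ) τ (kernel.condition τ)
  have hS : S.Exact := ShortComplex.exact_of_f_is_kernel S (kernelIsKernel τ)
  haveI : Mono S.f := inferInstanceAs (Mono (kernel.ι τ))
  let ψ : Γ(kernel τ, U.ι ''ᵁ W') →ₗ[Γ(X, U.ι ''ᵁ W')] LinearMap.ker φ :=
    LinearMap.codRestrict (LinearMap.ker φ) (appₗ (kernel.ι τ) (U.ι ''ᵁ W'))
      (fun y => Groth.Agent.H8.app_comp_eq_zero S (U.ι ''ᵁ W') y)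
  have hψ : Function.Bijective ψ := by
    constructor
    · intro y y' hyy'
      apply appₗ_injective_of_mono (kernel.ι τ) (U.ι ''ᵁ W')
      exact congrArg Subtype.val hyy'
    · rintro ⟨a, ha⟩
      obtain ⟨y, hy⟩ := Groth.Agent.H8.exists_app_eq_of_exact S hS (U.ι ''ᵁ W') a ha
      exact ⟨y, Subtype.ext hy⟩
  exact nonempty_restrict_iso_freeMod hV (kernel τ) n ((LinearEquiv.ofBijective ψ hψ).trans e1)

end Main

/-- Let X be a scheme, A a quasi-coherent O_X-algebra which is locally free of rank d as an O_X-module,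
and τ : A → O_X its trace (the O_X-linear map which over every affine open where A is finite free is
the trace of the regular representation). If d is invertible in O_X(X), then τ is a split
epimorphism of O_X-modules — so 0 → ker τ → A → O_X → 0 is split exact — and its kernel ker τ is
locally free of rank d − 1 as an O_X-module. -/
theorem result {X : Scheme.{u}}
    (A : RelSpec.QCAlg X) (d : ℕ) (hA : FlatMod.IsFinLocFreeOfRank d A.toModule)
    (τ : A.toModule ⟶ Coh.structureModule X) (hτ : FinCov.IsTrace A τ)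
    (hd : IsUnit ((d : Γ(X, ⊤)))) :
    IsSplitEpi τ ∧ FlatMod.IsFinLocFreeOfRank (d - 1) (kernel τ) :=
  ⟨isSplitEpi_tau A d hA τ hτ hd, kernel_locFree A d hA τ hτ hd⟩

end Groth.Agent.S19696
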