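import Mathlib
import Groth.Statements.S19697
import Groth.Agent.H22.DblSheaf
import Groth.Agent.H18.AmpleBasis

set_option autoImplicit false
set_option linter.style.haveILetI false
universe u
open CategoryTheory CategoryTheory.Limits AlgebraicGeometry Opposite
open FinCov

namespace Groth.Agent.S19697

open Groth.Agent.H22 Groth.Agent.H22.DblSheaf Groth.Agent.H22.DblRing TopologicalSpace

variable {X : Scheme.{u}} (L : X.Modules) (m : CohB1.tensorMod L L ⟶ Coh.structureModule X)
  (hL : PicF.IsInvertible L) [L.IsQuasicoherent]

/-- The quasi-coherent algebra `O ⊕ L`. -/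
noncomputable def alg : RelSpec.QCAlg X where
  presheaf := presheaf L m hL
  isSheaf := presheaf_isSheaf L m hL
  str := str L m hL
  isQC := presheaf_isQC L m hL

/-- The inclusion of `L`, on sections. -/
noncomputable def inrAdd (U : X.Opens) : Γ(L, U) →+ Dbl (data L m hL U) where
  toFun l := Dbl.inr _ l
  map_zero' := rfl
  map_add' a b := by ext <;> simp

/-- The inclusion `L ⟶ O ⊕ L`. -/
noncomputable def jHom : L ⟶ (alg L m hL).toModule :=
  ⟨letI := (alg L m hL).moduleSect
   PresheafOfModules.homMk
    { app := fun U => AddCommGrpCat.ofHom (inrAdd L m hL U.unop)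
      naturality := fun U V i => by
        ext l
        refine Dbl.ext ?_ rfl
        show (0 : Γ(X, V.unop)) = X.presheaf.map i (0 : Γ(X, U.unop))
        rw [map_zero] }
    (fun U r l => by
      show Dbl.inr (data L m hL U.unop) ((show Γ(X, U.unop) from r) • (show Γ(L, U.unop) from l)) =
        Dbl.of (data L m hL U.unop) (show Γ(X, U.unop) from r) *
          Dbl.inr (data L m hL U.unop) (show Γ(L, U.unop) from l)
      rw [Dbl.of_mul]
      refine Dbl.ext ?_ rfl
      show (0 : Γ(X, U.unop)) = (show Γ(X, U.unop) from r) * 0
      rw [mul_zero])⟩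

theorem isDblAlg : FinCov.IsDblAlg L m (alg L m hL) (jHom L m hL) := by
  refine ⟨fun U => ?_, fun U l l' => ?_⟩
  · have hfun : (fun p : Γ(X, U) × L.val.obj (op U) =>
        ((alg L m hL).str.app (op U)).hom p.1 +
          toSec (alg L m hL) (((jHom L m hL).val.app (op U)).hom p.2)) =
        fun p => (⟨p.1, p.2⟩ : Dbl (data L m hL U)) := by
      funext p
      refine Dbl.ext ?_ ?_
      · show p.1 + 0 = p.1
        rw [add_zero]
      · show (0 : Γ(L, U)) + (show Γ(L, U) from p.2) = p.2
        rw [zero_add]
    rw [hfun]
    constructor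
    · intro p q hpq
      have h1 : p.1 = q.1 := congrArg Dbl.fst hpq
      have h2 : p.2 = q.2 := congrArg Dbl.snd hpq
      exact Prod.ext h1 h2
    · intro x
      exact ⟨(x.fst, x.snd), rfl⟩
  · exact Dbl.inr_mul_inr (D := data L m hL U) l l'

end Groth.Agent.S19697

namespace Groth.Agent.S19697

/-- Let X be a scheme, L an invertible O_X-module and m : L ⊗ L → O_X a homomorphism of O_X-modules.
Then there are a quasi-coherent O_X-algebra A and an O_X-linear map j : L → A presenting A as the
algebra O_X ⊕ L with product (s, l)·(s', l') = (ss' + m(l ⊗ l'), sl' + s'l): over every open subset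
U of X, every section of A is uniquely of the form s·1 + j(l) with s a function and l a section of
L, and j(l)·j(l') = m(l ⊗ l')·1. (The classification of double covers is stated for schemes on which
2 is invertible; this construction does not use that assumption, so it is not made here.) -/
theorem result {X : Scheme.{u}} (L : X.Modules) (hL : PicF.IsInvertible L)
    (m : CohB1.tensorMod L L ⟶ Coh.structureModule X) :
    ∃ (A : RelSpec.QCAlg X) (j : L ⟶ A.toModule), FinCov.IsDblAlg L m A j := by
  haveI : L.IsQuasicoherent := Groth.Agent.H18.AmpleBasis.isQuasicoherent_of_isInvertible hL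
  exact ⟨alg L m hL, jHom L m hL, isDblAlg L m hL⟩

end Groth.Agent.S19697
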