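import Mathlib
import Groth.Statements.S19698
import Groth.Agent.H22.GenLocus
import Groth.Agent.H22.QCAlgGen
import Groth.Agent.H8.FreeMod

set_option autoImplicit false
set_option linter.style.haveILetI false
universe u
open CategoryTheory CategoryTheory.Limits AlgebraicGeometry Opposite
open FinCov

namespace Groth.Agent.S19698

open Groth.Agent.H22 Groth.Agent.H8 TopologicalSpace

/-- Over an open `V` with a generator `μ` of `L`, the sections of `A` are free on `1, j μ`. -/
lemma exists_frameEquiv {X : Scheme.{u}} (L : X.Modules)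
    (m : CohB1.tensorMod L L ⟶ Coh.structureModule X) (A : RelSpec.QCAlg X) (j : L ⟶ A.toModule)
    (h : FinCov.IsDblAlg L m A j) (V : X.Opens) (μ : Γ(L, V))
    (hgen : Function.Bijective (fun r : Γ(X, V) => r • μ)) :
    ∃ φ : (Fin 2 → Γ(X, V)) ≃ₗ[Γ(X, V)] Γ(A.toModule, V),
      ∀ v, φ v = ofB A V ((A.str.app (op V)).hom (v 0)) + j.app V (v 1 • μ) := by
  let φ : (Fin 2 → Γ(X, V)) →ₗ[Γ(X, V)] Γ(A.toModule, V) :=
    { toFun := fun v => ofB A V ((A.str.app (op V)).hom (v 0)) + j.app V (v 1 • μ)
      map_add' := fun v w => by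
        simp only [Pi.add_apply, map_add, add_smul]
        have h1 : ofB A V ((A.str.app (op V)).hom (v 0) + (A.str.app (op V)).hom (w 0)) =
            ofB A V ((A.str.app (op V)).hom (v 0)) + ofB A V ((A.str.app (op V)).hom (w 0)) := rfl
        rw [h1]
        abel
      map_smul' := fun r v => by
        simp only [Pi.smul_apply, smul_eq_mul, RingHom.id_apply, mul_smul, smul_add]
        rw [Scheme.Modules.Hom.app_smul]
        congr 1
        apply toB_injective A V
        rw [toB_smul]
        exact map_mul (A.str.app (op V)).hom r (v 0) }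
  have hφ : Function.Bijective φ := by
    have h1 := h.1 V
    have h2 : Function.Bijective (fun v : Fin 2 → Γ(X, V) =>
        ((v 0, v 1 • μ) : Γ(X, V) × L.val.obj (op V))) := by
      constructor
      · intro v w hvw
        have h3 : v 0 = w 0 := congrArg Prod.fst hvw
        have h4 : v 1 = w 1 := hgen.1 (congrArg Prod.snd hvw)
        funext i
        fin_cases i
        · exact h3
        · exact h4
      · rintro ⟨r, l⟩
        obtain ⟨r', hr'⟩ := hgen.2 l
        refine ⟨![r, r'], ?_⟩
        have hr'' : r' • μ = l := hr'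
        show ((r, r' • μ) : Γ(X, V) × L.val.obj (op V)) = (r, l)
        rw [hr'']
    exact h1.comp h2
  exact ⟨LinearEquiv.ofBijective φ hφ, fun v => rfl⟩

/-- Let X be a scheme, L an invertible O_X-module, m : L ⊗ L → O_X a homomorphism of O_X-modules, and
(A, j : L → A) a quasi-coherent O_X-algebra presented as O_X ⊕ L with product given by m (over every
open, every section of A is uniquely s·1 + j(l), and j(l)·j(l') = m(l ⊗ l')·1). Then A is locally
free of rank 2 as an O_X-module. (The classification of double covers is stated for schemes on which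
2 is invertible; this assertion does not use that assumption, so it is not made here.) -/
theorem result {X : Scheme.{u}} (L : X.Modules) (hL : PicF.IsInvertible L)
    (m : CohB1.tensorMod L L ⟶ Coh.structureModule X) (A : RelSpec.QCAlg X) (j : L ⟶ A.toModule)
    (h : FinCov.IsDblAlg L m A j) : FlatMod.IsFinLocFreeOfRank 2 A.toModule := by
  haveI : A.toModule.IsQuasicoherent := toModule_isQuasicoherent A
  intro x
  obtain ⟨U, hxU, ⟨e⟩⟩ := hL x
  obtain ⟨σ, hσ⟩ := GenLocus.exists_generator L U e
  obtain ⟨V, hV, hxV, hVU⟩ : ∃ V : X.Opens, IsAffineOpen V ∧ x ∈ V ∧ V ≤ U := by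
    obtain ⟨V, hV, hxV, hVle⟩ := Opens.isBasis_iff_nbhd.mp X.isBasis_affineOpens hxU
    exact ⟨V, hV, hxV, hVle⟩
  refine ⟨V, hxV, ?_⟩
  obtain ⟨φ, -⟩ := exists_frameEquiv L m A j h V _ (hσ V hVU)
  exact nonempty_restrict_iso_freeMod hV A.toModule 2 φ.symm

end Groth.Agent.S19698
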