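import Mathlib
import Groth.Statements.S19699
import Groth.Agent.S19696
import Groth.Agent.H22.RankTwo
import Groth.Agent.H41.BilinGlue

set_option autoImplicit false
set_option linter.style.haveILetI false
universe u
open CategoryTheory CategoryTheory.Limits AlgebraicGeometry Opposite
open FinCov

namespace Groth.Agent.S19699

open Groth.Agent.H22 Groth.Agent.H8 TopologicalSpace Groth.Agent.S19694 Groth.Agent.S19696
open Groth.Agent.H41.BilinGlue

section Desc

variable {X : Scheme.{u}}

set_option backward.isDefEq.respectTransparency false in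
/-- A morphism out of the tensor product from a morphism of presheaves of modules. -/
noncomputable def descTensor (M N Q : X.Modules)
    (μ : Groth.Agent.H18.TensorModIso.tensorPre' M N ⟶
      (PresheafOfModules.restrictScalars (𝟙 X.ringCatSheaf.obj)).obj Q.val) :
    CohB1.tensorMod M N ⟶ Q :=
  (PresheafOfModules.sheafificationHomEquiv (𝟙 X.ringCatSheaf.obj)).symm μ

set_option backward.isDefEq.respectTransparency false in
lemma descTensor_tmul (M N Q : X.Modules)
    (μ : Groth.Agent.H18.TensorModIso.tensorPre' M N ⟶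
      (PresheafOfModules.restrictScalars (𝟙 X.ringCatSheaf.obj)).obj Q.val)
    (U : X.Opens) (a : M.val.obj (op U)) (b : N.val.obj (op U)) :
    ((descTensor M N Q μ).val.app (op U)).hom (SecTwist.tmul M N U a b) =
      (μ.app (op U)).hom (a ⊗ₜ b) := by
  have h1 : PresheafOfModules.sheafificationHomEquiv (𝟙 X.ringCatSheaf.obj)
      (descTensor M N Q μ) = μ := Equiv.apply_symm_apply _ μ
  have h2 := (PresheafOfModules.sheafificationAdjunction
    (𝟙 X.ringCatSheaf.obj)).homEquiv_unit (f := descTensor M N Q μ)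
  rw [PresheafOfModules.sheafificationAdjunction_homEquiv_apply, h1] at h2
  have h3 := congrArg (fun ν : Groth.Agent.H18.TensorModIso.tensorPre' M N ⟶
      (PresheafOfModules.restrictScalars (𝟙 X.ringCatSheaf.obj)).obj Q.val =>
      (ν.app (op U)).hom (a ⊗ₜ b)) h2
  exact h3.symm

end Desc

section Main

variable {X : Scheme.{u}} (A : RelSpec.QCAlg X) (τ : A.toModule ⟶ Coh.structureModule X)

/-- The inclusion of the kernel of `τ` on sections, with values in the ring of sections. -/
noncomputable def kι (W : X.Opens) (s : Γ(kernel τ, W)) : A.presheaf.obj (op W) :=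
  toB A W ((kernel.ι τ).app W s)

/-- `w` is the product of `s` and `t`. -/
def Rel (W : X.Opens) (s t : Γ(kernel τ, W)) (w : Γ(Coh.structureModule X, W)) : Prop :=
  kι A τ W s * kι A τ W t = (A.str.app (op W)).hom w

lemma kι_res {W V : X.Opens} (h : V ≤ W) (s : Γ(kernel τ, W)) :
    kι A τ V ((kernel τ).presheaf.map (homOfLE h).op s) =
      (A.presheaf.map (homOfLE h).op).hom (kι A τ W s) := by
  unfold kι
  rw [QCohLimits.app_res, toB_res]

lemma kι_add (W : X.Opens) (s t : Γ(kernel τ, W)) :
    kι A τ W (s + t) = kι A τ W s + kι A τ W t := by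
  unfold kι
  rw [map_add]
  rfl

lemma kι_smul (W : X.Opens) (r : Γ(X, W)) (s : Γ(kernel τ, W)) :
    kι A τ W (r • s) = (A.str.app (op W)).hom r * kι A τ W s := by
  unfold kι
  rw [Scheme.Modules.Hom.app_smul, toB_smul]

lemma tau_kι (W : X.Opens) (s : Γ(kernel τ, W)) :
    τ.app W (ofB A W (kι A τ W s)) = 0 := by
  let S : ShortComplex X.Modules := ShortComplex.mk (kernel.ι τ) τ (kernel.condition τ)
  exact Groth.Agent.H8.app_comp_eq_zero S W s

variable (hA : FlatMod.IsFinLocFreeOfRank 2 A.toModule) (hτ : FinCov.IsTrace A τ)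
  (h2 : IsUnit (2 : Γ(X, ⊤)))

include hA hτ in
lemma tau_str (W : X.Opens) (r : Γ(X, W)) :
    τ.app W (ofB A W ((A.str.app (op W)).hom r)) = (2 : Γ(X, W)) * r := by
  have h1 := Groth.Agent.S19695.result A 2 hA τ hτ
  have h3 := congrArg (fun φ : Coh.structureModule X ⟶ Coh.structureModule X => φ.app W r) h1
  simp only at h3
  rw [Scheme.Modules.Hom.comp_app, Groth.Agent.S19695.nsmul_app] at h3
  refine h3.trans ?_
  show (2 : ℕ) • (show Γ(X, W) from r) = (2 : Γ(X, W)) * r
  rw [nsmul_eq_mul]
  rfl

include h2 in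
lemma isUnit_two (W : X.Opens) : IsUnit (2 : Γ(X, W)) := by
  have h1 := h2.map (X.presheaf.map (homOfLE (le_top : W ≤ ⊤)).op).hom
  rwa [map_ofNat] at h1

include hA hτ h2 in
lemma str_injective (W : X.Opens) : Function.Injective (A.str.app (op W)).hom := by
  intro r r' hrr'
  have h1 := tau_str A τ hA hτ W r
  have h3 := tau_str A τ hA hτ W r'
  rw [hrr'] at h1
  exact (isUnit_two h2 W).mul_left_cancel (h1.symm.trans h3)

include hA hτ h2 in
lemma exists_local (W : X.Opens) (s t : Γ(kernel τ, W)) (x : X) (hx : x ∈ W) :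
    ∃ (V : X.Opens) (h : V ≤ W), x ∈ V ∧ ∃ w : Γ(Coh.structureModule X, V),
      Rel A τ V ((kernel τ).presheaf.map (homOfLE h).op s)
        ((kernel τ).presheaf.map (homOfLE h).op t) w := by
  obtain ⟨U₀, hxU₀, ⟨e₀⟩⟩ := hA x
  obtain ⟨V, hV, hxV, hVle⟩ : ∃ V : X.Opens, IsAffineOpen V ∧ x ∈ V ∧ V ≤ W ⊓ U₀ := by
    obtain ⟨V, hV, hxV, hVle⟩ := Opens.isBasis_iff_nbhd.mp X.isBasis_affineOpens
      (show x ∈ W ⊓ U₀ from ⟨hx, hxU₀⟩)
    exact ⟨V, hV, hxV, hVle⟩
  refine ⟨V, hVle.trans inf_le_left, hxV, ?_⟩
  obtain ⟨e'⟩ := nonempty_sections_equiv_of_le A.toModule e₀ (hVle.trans inf_le_right)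
  obtain ⟨hfree, hfin⟩ := free_finite_of_equiv A V 2 e'
  have htr := hτ V hV hfree hfin
  letI : Algebra Γ(X, V) (A.presheaf.obj (op V)) := (A.str.app (op V)).hom.toAlgebra
  let e'' : A.presheaf.obj (op V) ≃ₗ[Γ(X, V)] (Fin 2 → Γ(X, V)) :=
    { toFun := fun a => e' (ofB A V a)
      map_add' := fun a b => e'.map_add _ _
      map_smul' := fun r a => e'.map_smul r (ofB A V a)
      invFun := fun v => toB A V (e'.symm v)
      left_inv := e'.left_inv
      right_inv := e'.right_inv }
  have hz : ∀ y : Γ(kernel τ, V), Algebra.trace Γ(X, V) (A.presheaf.obj (op V)) (kι A τ V y) = 0 := by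
    intro y
    rw [← htr]
    exact tau_kι A τ V y
  obtain ⟨w, hw⟩ := RankTwo.mul_mem_range_of_trace_zero e'' (isUnit_two h2 V) _ _
    (hz ((kernel τ).presheaf.map (homOfLE (hVle.trans inf_le_left)).op s))
    (hz ((kernel τ).presheaf.map (homOfLE (hVle.trans inf_le_left)).op t))
  exact ⟨w, hw⟩

include hA hτ h2 in
lemma glueRel : GlueRel (kernel τ) (kernel τ) (Coh.structureModule X) (Rel A τ) where
  unique := by
    intro W s t w w' h h'
    exact str_injective A τ hA hτ h2 W (h.symm.trans h')
  res := by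
    intro W V h s t w hR
    unfold Rel at hR ⊢
    rw [kι_res, kι_res, ← map_mul, hR]
    exact (str_res A h w).symm
  of_local := by
    intro W s t w hloc
    unfold Rel
    apply toB_injective A W (a₁ := ofB A W _) (a₂ := ofB A W _)
    refine section_eq_of_cover A.toModule _ _ (fun x hx => ?_)
    obtain ⟨V, hV, hxV, hR⟩ := hloc x hx
    refine ⟨V, hV, hxV, ?_⟩
    unfold Rel at hR
    rw [kι_res, kι_res, ← map_mul] at hR
    exact hR.trans (str_res A hV w)
  exists_local := exists_local A τ hA hτ h2
  add_left := by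
    intro W s s' t w w' h h'
    unfold Rel at h h' ⊢
    rw [kι_add, add_mul, h, h']
    exact (map_add (A.str.app (op W)).hom w w').symm
  add_right := by
    intro W s t t' w w' h h'
    unfold Rel at h h' ⊢
    rw [kι_add, mul_add, h, h']
    exact (map_add (A.str.app (op W)).hom w w').symm
  smul_left := by
    intro W a s t w h
    unfold Rel at h ⊢
    rw [kι_smul, mul_assoc, h]
    exact (map_mul (A.str.app (op W)).hom a w).symm
  smul_right := by
    intro W a s t w h
    unfold Rel at h ⊢
    rw [kι_smul, mul_left_comm, h]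
    exact (map_mul (A.str.app (op W)).hom a w).symm

end Main

set_option backward.isDefEq.respectTransparency false in
lemma hom_tmul {X : Scheme.{u}} {L L' L'' : X.Modules}
    {R : ∀ W : X.Opens, Γ(L, W) → Γ(L', W) → Γ(L'', W) → Prop} (hR : GlueRel L L' L'' R)
    (U : X.Opens) (s : Γ(L, U)) (t : Γ(L', U)) :
    (hR.hom.app (op U)).hom (s ⊗ₜ t) = hR.mul U s t := rfl

/-- Let X be a scheme with 2 invertible in O_X(X), A a quasi-coherent O_X-algebra which is locally free
of rank 2 as an O_X-module, and τ : A → O_X its trace (the O_X-linear map which over every affine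
open where A is finite free is the trace of the regular representation). Then there is a
homomorphism of O_X-modules m : ker τ ⊗ ker τ → O_X such that A, with the inclusion ker τ → A, is
the algebra O_X ⊕ ker τ with product given by m: over every open subset, every section of A is
uniquely s·1 + l with s a function and l a section of ker τ, and l·l' = m(l ⊗ l')·1 for sections l,
l' of ker τ. -/
theorem result {X : Scheme.{u}} (A : RelSpec.QCAlg X)
    (hA : FlatMod.IsFinLocFreeOfRank 2 A.toModule)
    (τ : A.toModule ⟶ Coh.structureModule X) (hτ : FinCov.IsTrace A τ) (h2 : IsUnit (2 : Γ(X, ⊤))) :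
    ∃ m : CohB1.tensorMod (kernel τ) (kernel τ) ⟶ Coh.structureModule X,
      FinCov.IsDblAlg (kernel τ) m A (kernel.ι τ) := by
  have hR := glueRel A τ hA hτ h2
  refine ⟨descTensor _ _ _ hR.hom, ?_, ?_⟩
  · intro U
    let S : ShortComplex X.Modules := ShortComplex.mk (kernel.ι τ) τ (kernel.condition τ)
    have hS : S.Exact := ShortComplex.exact_of_f_is_kernel S (kernelIsKernel τ)
    haveI : Mono S.f := inferInstanceAs (Mono (kernel.ι τ))
    obtain ⟨u, hu⟩ := isUnit_two h2 U
    have hτadd : ∀ (r : Γ(X, U)) (l : Γ(kernel τ, U)),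
        τ.app U (ofB A U ((A.str.app (op U)).hom r + kι A τ U l)) = (2 : Γ(X, U)) * r := by
      intro r l
      have h1 : ofB A U ((A.str.app (op U)).hom r + kι A τ U l) =
          ofB A U ((A.str.app (op U)).hom r) + ofB A U (kι A τ U l) := rfl
      rw [h1, map_add, tau_kι, add_zero, tau_str A τ hA hτ]
    constructor
    · rintro ⟨r, l⟩ ⟨r', l'⟩ h
      have h' : (A.str.app (op U)).hom r + kι A τ U l = (A.str.app (op U)).hom r' + kι A τ U l' := h
      have h1 := hτadd r l
      rw [h', hτadd r' l'] at h1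
      have hr : r = r' := ((isUnit_two h2 U).mul_left_cancel h1).symm
      subst hr
      have h3 : kι A τ U l = kι A τ U l' := add_left_cancel h'
      have hl : l = l' := app_injective_of_mono (kernel.ι τ) U h3
      rw [hl]
    · intro a
      obtain ⟨r, hr⟩ : ∃ r : Γ(X, U), r = (↑u⁻¹ : Γ(X, U)) * (show Γ(X, U) from τ.app U (ofB A U a)) :=
        ⟨_, rfl⟩
      have h2r : (2 : Γ(X, U)) * r = (show Γ(X, U) from τ.app U (ofB A U a)) := by
        rw [hr, ← mul_assoc, ← hu, Units.mul_inv, one_mul]
      have hker : τ.app U (ofB A U (a - (A.str.app (op U)).hom r)) = 0 := by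
        have h1 : ofB A U (a - (A.str.app (op U)).hom r) =
            ofB A U a - ofB A U ((A.str.app (op U)).hom r) := rfl
        rw [h1, map_sub, tau_str A τ hA hτ, h2r]
        exact sub_self _
      obtain ⟨l, hl⟩ := Groth.Agent.H8.exists_app_eq_of_exact S hS U _ hker
      refine ⟨(r, l), ?_⟩
      show (A.str.app (op U)).hom r + kι A τ U l = a
      have hl' : kι A τ U l = a - (A.str.app (op U)).hom r := hl
      rw [hl']
      ring
  · intro U l l'
    rw [descTensor_tmul, hom_tmul]
    exact hR.mul_spec U l l'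

end Groth.Agent.S19699
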