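import Groth.Statements.S1970
import Groth.Agent.H10.WEtField

set_option autoImplicit false
universe u
open EtAlg

namespace Groth.Agent.S1970

/-- Over a field K, every K-subalgebra and every quotient K-algebra of a weakly etale K-algebra is again
weakly etale over K. -/
theorem result (K : Type u) [Field K] (B : Type u) [CommRing B] [Algebra K B]
    [Algebra.WeaklyEtale K B] :
    (∀ S : Subalgebra K B, Algebra.WeaklyEtale K S) ∧ ∀ I : Ideal B, Algebra.WeaklyEtale K (B ⧸ I) := by
  constructor
  · intro S
    apply Groth.Agent.H10.WEtField.weaklyEtale_of_isSeparable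
    intro s
    exact Groth.Agent.H10.WEtField.isSeparable_of_injective S.val (fun a b h => Subtype.ext h)
      (Groth.Agent.H10.WEtField.isSeparable_of_weaklyEtale (K := K) (S.val s))
  · intro I
    apply Groth.Agent.H10.WEtField.weaklyEtale_of_isSeparable
    intro x
    obtain ⟨b, rfl⟩ := Ideal.Quotient.mk_surjective x
    exact Groth.Agent.H10.WEtField.isSeparable_map (Ideal.Quotient.mkₐ K I)
      (Groth.Agent.H10.WEtField.isSeparable_of_weaklyEtale (K := K) b)

end Groth.Agent.S1970
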