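import Mathlib
import Groth.Statements.S19700
import Groth.Agent.S19698
import Groth.Agent.S19695
import Groth.Agent.S19699

set_option autoImplicit false
set_option linter.style.haveILetI false
universe u
open CategoryTheory CategoryTheory.Limits AlgebraicGeometry Opposite
open FinCov

namespace Groth.Agent.S19700

open Groth.Agent.H22 Groth.Agent.H8 TopologicalSpace Groth.Agent.S19694

/-- In a rank-two algebra with basis `1, y` and `y * y ∈ R`, the trace of `y` vanishes. -/
lemma trace_eq_zero_of_frame {R B : Type*} [CommRing R] [CommRing B] [Algebra R B]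
    (e : B ≃ₗ[R] (Fin 2 → R)) (y : B) (D : R) (h0 : e 1 = Pi.single 0 1)
    (h1 : e y = Pi.single 1 1) (hy : y * y = algebraMap R B D) : Algebra.trace R B y = 0 := by
  let b : Module.Basis (Fin 2) R B := Module.Basis.ofEquivFun e
  have hb0 : b 0 = 1 := by
    apply e.injective
    rw [h0]
    funext i
    simp [b]
  have hb1 : b 1 = y := by
    apply e.injective
    rw [h1]
    funext i
    simp [b]
  rw [Algebra.trace_eq_matrix_trace b y, Matrix.trace_fin_two]
  rw [Algebra.leftMulMatrix_eq_repr_mul, Algebra.leftMulMatrix_eq_repr_mul, hb0, hb1, mul_one, hy]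
  have hr : ∀ z i, b.repr z i = e z i := fun z i => Module.Basis.ofEquivFun_repr_apply e z i
  rw [hr, hr, h1, Algebra.algebraMap_eq_smul_one, map_smul, h0]
  simp

section Main

variable {X : Scheme.{u}} (L : X.Modules) (hL : PicF.IsInvertible L)
  (m : CohB1.tensorMod L L ⟶ Coh.structureModule X) (A : RelSpec.QCAlg X) (j : L ⟶ A.toModule)
  (h : FinCov.IsDblAlg L m A j) (τ : A.toModule ⟶ Coh.structureModule X)
  (hτ : FinCov.IsTrace A τ)

include h hτ in
/-- On a framed affine open, the trace of `j μ` vanishes. -/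
lemma tau_j_frame (V : X.Opens) (hV : IsAffineOpen V) (μ : Γ(L, V))
    (hgen : Function.Bijective (fun r : Γ(X, V) => r • μ)) :
    τ.app V (j.app V μ) = 0 := by
  obtain ⟨φ, hφ⟩ := Groth.Agent.S19698.exists_frameEquiv L m A j h V μ hgen
  obtain ⟨hfree, hfin⟩ := free_finite_of_equiv A V 2 φ.symm
  have htr := hτ V hV hfree hfin
  letI : Algebra Γ(X, V) (A.presheaf.obj (op V)) := (A.str.app (op V)).hom.toAlgebra
  let e'' : A.presheaf.obj (op V) ≃ₗ[Γ(X, V)] (Fin 2 → Γ(X, V)) :=
    { toFun := fun a => φ.symm (ofB A V a)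
      map_add' := fun a b => φ.symm.map_add _ _
      map_smul' := fun r a => φ.symm.map_smul r (ofB A V a)
      invFun := fun v => toB A V (φ v)
      left_inv := φ.symm.left_inv
      right_inv := φ.symm.right_inv }
  have h0 : e'' 1 = Pi.single 0 1 := by
    show φ.symm (ofB A V 1) = Pi.single 0 1
    rw [LinearEquiv.symm_apply_eq, hφ]
    simp only [Pi.single_eq_same, map_one, zero_smul, map_zero, add_zero, Pi.single_apply,
      Fin.isValue, one_ne_zero, if_false]
  have h1 : e'' (toB A V (j.app V μ)) = Pi.single 1 1 := by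
    show φ.symm (j.app V μ) = Pi.single 1 1
    rw [LinearEquiv.symm_apply_eq, hφ]
    simp only [Pi.single_eq_same, one_smul, Pi.single_apply, Fin.isValue, zero_ne_one, if_false,
      map_zero]
    exact (zero_add _).symm
  have hy := h.2 V μ μ
  have h3 := trace_eq_zero_of_frame e'' (toB A V (j.app V μ)) _ h0 h1 hy
  exact (htr _).trans h3

include hL h hτ in
lemma tau_j (W : X.Opens) (l : Γ(L, W)) : τ.app W (j.app W l) = 0 := by
  refine section_eq_of_cover (Coh.structureModule X) _ _ (fun x hx => ?_)
  obtain ⟨U₀, hxU₀, ⟨e⟩⟩ := hL x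
  obtain ⟨σ, hσ⟩ := GenLocus.exists_generator L U₀ e
  obtain ⟨V, hV, hxV, hVle⟩ : ∃ V : X.Opens, IsAffineOpen V ∧ x ∈ V ∧ V ≤ W ⊓ U₀ := by
    obtain ⟨V, hV, hxV, hVle⟩ := Opens.isBasis_iff_nbhd.mp X.isBasis_affineOpens
      (show x ∈ W ⊓ U₀ from ⟨hx, hxU₀⟩)
    exact ⟨V, hV, hxV, hVle⟩
  refine ⟨V, hVle.trans inf_le_left, hxV, ?_⟩
  have hgen := hσ V (hVle.trans inf_le_right)
  obtain ⟨c, hc⟩ := hgen.2 (L.presheaf.map (homOfLE (hVle.trans inf_le_left)).op l)
  have hc' : c • L.presheaf.map (homOfLE (hVle.trans inf_le_right)).op σ =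
      L.presheaf.map (homOfLE (hVle.trans inf_le_left)).op l := hc
  rw [← QCohLimits.app_res, ← QCohLimits.app_res, ← hc', Scheme.Modules.Hom.app_smul,
    Scheme.Modules.Hom.app_smul, tau_j_frame L m A j h τ hτ V hV _ hgen, smul_zero, map_zero]

end Main

/-- Let X be a scheme with 2 invertible in O_X(X), L an invertible O_X-module, m : L ⊗ L → O_X a
homomorphism of O_X-modules, (A, j : L → A) a quasi-coherent O_X-algebra presented as O_X ⊕ L with
product given by m (every section of A is uniquely s·1 + j(l), and j(l)·j(l') = m(l ⊗ l')·1), and τ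
: A → O_X the trace of A (the O_X-linear map which over every affine open where A is finite free is
the trace of the regular representation; A is locally free of rank 2 here). Then for every open
subset U of X and every section a of A over U, τ(a) = 0 if and only if a lies in the image of j over
U: the kernel of the trace is exactly j(L). -/
theorem result {X : Scheme.{u}} (L : X.Modules) (hL : PicF.IsInvertible L)
    (m : CohB1.tensorMod L L ⟶ Coh.structureModule X) (A : RelSpec.QCAlg X) (j : L ⟶ A.toModule)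
    (h : FinCov.IsDblAlg L m A j) (h2 : IsUnit (2 : Γ(X, ⊤)))
    (τ : A.toModule ⟶ Coh.structureModule X) (hτ : FinCov.IsTrace A τ)
    (U : X.Opens) (a : A.toModule.val.obj (op U)) :
    (τ.val.app (op U)).hom a = 0 ↔ a ∈ Set.range (j.val.app (op U)).hom := by
  have hA := Groth.Agent.S19698.result L hL m A j h
  constructor
  · intro ha
    obtain ⟨⟨r, l⟩, hrl⟩ := (h.1 U).2 (toB A U a)
    have hrl' : ofB A U ((A.str.app (op U)).hom r) + j.app U l = a := hrl
    have h1 : τ.app U a = (2 : Γ(X, U)) * r := by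
      rw [← hrl', map_add, tau_j L hL m A j h τ hτ, add_zero]
      exact Groth.Agent.S19699.tau_str A τ hA hτ U r
    have h3 : (2 : Γ(X, U)) * r = 0 := h1.symm.trans ha
    have hr : r = 0 := by
      have := (Groth.Agent.S19699.isUnit_two h2 U).mul_left_cancel (h3.trans (mul_zero _).symm)
      exact this
    refine ⟨l, ?_⟩
    rw [← hrl', hr, map_zero]
    exact (zero_add _).symm
  · rintro ⟨l, rfl⟩
    exact tau_j L hL m A j h τ hτ U l

end Groth.Agent.S19700
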