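-- Statement S1971: pair henselization depends only on the zero locus of the ideal.
import Groth.Statements.S1971
import Groth.Agent.S1966
import Mathlib.RingTheory.Spectrum.Prime.Topology

set_option autoImplicit false
universe u
open EtAlg

namespace Groth.Agent.S1971

open Polynomial

/-- A henselian pair stays henselian after shrinking the ideal. -/
theorem henselian_of_le {C : Type*} [CommRing C] (N J : Ideal C) (hN : HenselianRing C N)
    (hJN : J ≤ N) : HenselianRing C J := by
  constructor
  · exact hJN.trans hN.jac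
  · intro f hf a₀ h₁ h₂
    have hloc := isLocalHom_of_le_jacobson_bot J (hJN.trans hN.jac)
    have hu : IsUnit (f.derivative.eval a₀) := hloc.map_nonunit _ h₂
    have h₂' : IsUnit (Ideal.Quotient.mk N (f.derivative.eval a₀)) := hu.map _
    obtain ⟨a, ha, haN⟩ := hN.is_henselian f hf a₀ (hJN h₁) h₂'
    refine ⟨a, ha, ?_⟩
    apply Groth.Agent.S1966.sub_mem_of_root J f a a₀ ha h₁
    intro c
    have hj : c * (a - a₀) ∈ Ideal.jacobson (⊥ : Ideal C) := hN.jac (N.mul_mem_left c haN)
    rw [Ideal.mem_jacobson_bot] at hj
    obtain ⟨v, hv⟩ := hu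
    have := hj (↑v⁻¹)
    have h3 : f.derivative.eval a₀ + c * (a - a₀) = (c * (a - a₀) * ↑v⁻¹ + 1) * v := by
      rw [add_mul, mul_assoc, Units.inv_mul, mul_one, one_mul, hv, add_comm]
    rw [h3]
    exact this.mul v.isUnit

/-- A henselian pair stays henselian after enlarging the ideal to its radical. -/
theorem henselian_radical {C : Type*} [CommRing C] (I : Ideal C) (hI : HenselianRing C I) :
    HenselianRing C I.radical := by
  have hjac : I.radical ≤ Ideal.jacobson ⊥ :=
    (Ideal.isRadical_jacobson (⊥ : Ideal C)).radical_le_iff.mpr hI.jac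
  constructor
  · exact hjac
  · intro f hf a₀ h₁ h₂
    have hle : I ≤ I.radical := Ideal.le_radical
    set t := Ideal.Quotient.factor hle with ht
    have htsurj : Function.Surjective t := Ideal.Quotient.factor_surjective hle
    have hnil : ∀ x, t x = 0 → IsNilpotent x := by
      intro x hx
      obtain ⟨x, rfl⟩ := Ideal.Quotient.mk_surjective x
      rw [ht, Ideal.Quotient.factor_mk, Ideal.Quotient.eq_zero_iff_mem] at hx
      obtain ⟨n, hn⟩ := hx
      exact ⟨n, by rw [← map_pow, Ideal.Quotient.eq_zero_iff_mem]; exact hn⟩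
    have hmap : (f.map (Ideal.Quotient.mk I)).map t = f.map (Ideal.Quotient.mk I.radical) := by
      rw [Polynomial.map_map]
      congr 1
    obtain ⟨r, hr1, hr2, hr3⟩ := Groth.Agent.S1966.lift_root t htsurj hnil
      (f.map (Ideal.Quotient.mk I)) (Ideal.Quotient.mk I.radical a₀)
      (by rw [hmap, eval_map, eval₂_at_apply, Ideal.Quotient.eq_zero_iff_mem]; exact h₁)
      (by rw [hmap, derivative_map, eval_map, eval₂_at_apply]; exact h₂)
    obtain ⟨a₁, rfl⟩ := Ideal.Quotient.mk_surjective r
    rw [eval_map, eval₂_at_apply, Ideal.Quotient.eq_zero_iff_mem] at hr1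
    rw [derivative_map, eval_map, eval₂_at_apply] at hr2
    rw [ht, Ideal.Quotient.factor_mk, Ideal.Quotient.eq] at hr3
    obtain ⟨a, ha, haI⟩ := hI.is_henselian f hf a₁ hr1 hr2
    refine ⟨a, ha, ?_⟩
    have : a - a₀ = (a - a₁) + (a₁ - a₀) := by ring
    rw [this]
    exact I.radical.add_mem (hle haI) hr3

theorem henselian_of_le_radical {C : Type*} [CommRing C] (I J : Ideal C) (hI : HenselianRing C I)
    (hJ : J ≤ I.radical) : HenselianRing C J :=
  henselian_of_le I.radical J (henselian_radical I hI) hJ

theorem one_direction (A : Type u) [CommRing A] (I J : Ideal A)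
    (hIJ : I ≤ J.radical) (hJI : J ≤ I.radical) (B : Type u) [CommRing B] [Algebra A B]
    (hB : Hens2.IsPairHenselization A I B) : Hens2.IsPairHenselization A J B := by
  obtain ⟨h1, h2⟩ := hB
  refine ⟨?_, ?_⟩
  · apply henselian_of_le_radical _ _ h1
    exact (Ideal.map_mono hJI).trans (Ideal.map_radical_le _)
  · intro C _ J' f hC hJ'
    apply h2 C J'.radical f (henselian_radical J' hC)
    calc I.map f ≤ (J.radical).map f := Ideal.map_mono hIJ
      _ ≤ (J.map f).radical := Ideal.map_radical_le _
      _ ≤ J'.radical := Ideal.radical_mono hJ'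

/-- Let A be a ring with ideals I and J having the same zero locus in Spec A. Then an A-algebra is a
henselization of the pair (A, I) if and only if it is a henselization of the pair (A, J). -/
theorem result (A : Type u) [CommRing A] (I J : Ideal A)
    (h : PrimeSpectrum.zeroLocus (I : Set A) = PrimeSpectrum.zeroLocus (J : Set A)) (B : Type u) [CommRing B] [Algebra A B] :
    Hens2.IsPairHenselization A I B ↔ Hens2.IsPairHenselization A J B := by
  rw [PrimeSpectrum.zeroLocus_eq_iff] at h
  have hIJ : I ≤ J.radical := h ▸ Ideal.le_radical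
  have hJI : J ≤ I.radical := h.symm ▸ Ideal.le_radical
  exact ⟨one_direction A I J hIJ hJI B, one_direction A J I hJI hIJ B⟩

end Groth.Agent.S1971
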