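import Groth.Statements.S19710
import Groth.Agent.H81.LimitChain3

set_option autoImplicit false
open FunFld

namespace Groth.Agent.S19710

/-- Let `k` be an algebraically closed field of characteristic zero. A `g^r_d` on a function field `K/k`
of one variable is a divisor `D` of degree `d` with a subspace `V ⊆ L(D)` of dimension `r + 1`;
`V(-nP) = V ∩ L(D - nP)`, and the `i`-th vanishing order `m_i(V, P)` (`m_0 < ⋯ < m_r`) equals `m`
exactly when `dim V(-mP) = r + 1 - i` and `dim V(-(m+1)P) = r - i`. Let `K_Y` have genus `0` and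
carry a `g^r_d` `(D_Y, V_Y)` with at least a cusp at a place `Q_Y` (`dim V_Y(-2Q_Y) ≥ r`); let
`(D_Z, V_Z)` be a `g^r_d` on a second function field `K_Z`, compatible with `(D_Y, V_Y)` at a node
formed by a place `P ≠ Q_Y` of `K_Y` and a place `Q` of `K_Z` (`dim V_Y(-nP) + dim V_Z(-(d+1-n)Q) =
r + 1` for `0 ≤ n ≤ d + 1`), and let `P'` be a place of `K_Y` different from `P` and from `Q_Y`.
Then `m_i(V_Y, P') < m_i(V_Z, Q)` for all but at most one index: the set of `i ≤ r` for which the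
`i`-th vanishing order of `V_Y` at `P'` equals the `i`-th vanishing order of `V_Z` at `Q` has at
most one element. (In the source `Q_Y` is the point where the rational component `Y` meets a chain
of curves ending in a curve of positive genus, which forces the cusp condition assumed here; the
source works over the complex numbers.) -/
theorem result
    (k : Type*) [Field k] [IsAlgClosed k] [CharZero k]
    (KY : Type*) [Field KY] [Algebra k KY] (hKY : FunFld.IsFunctionField k KY) (hg0 : FunFld.genus k KY = 0)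
    (KZ : Type*) [Field KZ] [Algebra k KZ] (hKZ : FunFld.IsFunctionField k KZ)
    (d r : ℕ) (DY : FunFld.Divisor k KY) (hDY : DY.deg = d) (DZ : FunFld.Divisor k KZ) (hDZ : DZ.deg = d)
    (VY : Submodule k KY) (hVY : VY ≤ FunFld.L DY) (hVYr : Module.finrank k ↥VY = r + 1)
    (VZ : Submodule k KZ) (hVZ : VZ ≤ FunFld.L DZ) (hVZr : Module.finrank k ↥VZ = r + 1)
    (QY : FunFld.Place k KY) (hcusp : r ≤ Module.finrank k ↥(VY ⊓ FunFld.L (DY - Finsupp.single QY ((2 : ℤ)))))
    (P : FunFld.Place k KY) (hP : P ≠ QY) (Q : FunFld.Place k KZ)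
    (hcomp : ∀ n : ℕ, n ≤ d + 1 →
      Module.finrank k ↥(VY ⊓ FunFld.L (DY - Finsupp.single P ((n : ℤ)))) + Module.finrank k ↥(VZ ⊓ FunFld.L (DZ - Finsupp.single Q ((d : ℤ) + 1 - n))) = r + 1)
    (P' : FunFld.Place k KY) (hP'P : P' ≠ P) (hP'Q : P' ≠ QY) :
    {i : ℕ | i ≤ r ∧ ∃ m : ℕ,
        Module.finrank k ↥(VY ⊓ FunFld.L (DY - Finsupp.single P' ((m : ℤ)))) = r + 1 - i ∧
        Module.finrank k ↥(VY ⊓ FunFld.L (DY - Finsupp.single P' ((m : ℤ) + 1))) = r - i ∧
        Module.finrank k ↥(VZ ⊓ FunFld.L (DZ - Finsupp.single Q ((m : ℤ)))) = r + 1 - i ∧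
        Module.finrank k ↥(VZ ⊓ FunFld.L (DZ - Finsupp.single Q ((m : ℤ) + 1))) = r - i}.Subsingleton := by
  classical
  haveI : FiniteDimensional k VY := Module.finite_of_finrank_pos (by omega)
  have sec : ∀ i m : ℕ, i ≤ r →
      Module.finrank k ↥(VY ⊓ FunFld.L (DY - Finsupp.single P' ((m : ℤ)))) = r + 1 - i →
      Module.finrank k ↥(VZ ⊓ FunFld.L (DZ - Finsupp.single Q ((m : ℤ) + 1))) = r - i →
      m ≤ d ∧ ∃ f ∈ VY, f ≠ 0 ∧ FunFld.div k f + DY =
        Finsupp.single P' (m : ℤ) + Finsupp.single P ((d - m : ℕ) : ℤ) := by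
    intro i m hir h1 h4
    have hmd : m ≤ d := by
      by_contra h
      have := Groth.Agent.H81.LC.dimAt_large hKY VY DY d hDY P' m (by omega)
      omega
    refine ⟨hmd, ?_⟩
    have hc := hcomp (d - m) (by omega)
    have e : (d : ℤ) + 1 - ((d - m : ℕ) : ℤ) = (m : ℤ) + 1 := by omega
    rw [e, h4] at hc
    exact Groth.Agent.H81.LC.exists_section hKY DY d hDY VY hP'P m (d - m) (by omega)
      (by rw [hVYr]; omega)
  intro i hi i' hi'
  obtain ⟨hir, m, h1, h2, h3, h4⟩ := hi
  obtain ⟨hi'r, m', h1', h2', h3', h4'⟩ := hi'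
  obtain ⟨hmd, f, hfV, hf0, hfdiv⟩ := sec i m hir h1 h4
  obtain ⟨hmd', g, hgV, hgne, hgdiv⟩ := sec i' m' hi'r h1' h4'
  have hsupp : ∀ (x : KY) (n : ℕ), FunFld.div k x + DY =
      Finsupp.single P' (n : ℤ) + Finsupp.single P ((d - n : ℕ) : ℤ) →
      ∀ R : FunFld.Place k KY, R ≠ P' → R ≠ P → (FunFld.div k x + DY) R = 0 := by
    intro x n hx R hR1 hR2
    rw [hx, Finsupp.add_apply, Finsupp.single_eq_of_ne hR1, Finsupp.single_eq_of_ne hR2, add_zero]
  obtain ⟨c, hc⟩ := Groth.Agent.H81.LC.eq_smul_of_supported hKY hg0 d r DY hDY VY hVY hVYr QY hcusp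
    P' P hP'Q hP f g hfV hgV hf0 hgne (hsupp f m hfdiv) (hsupp g m' hgdiv)
  have hc0 : c ≠ 0 := by
    rintro rfl
    rw [zero_smul] at hc
    exact hgne hc
  have hdiv : FunFld.div k g = FunFld.div k f := by
    rw [hc, Algebra.smul_def, Groth.Agent.H55.div_mul hKY ((map_ne_zero _).mpr hc0) hf0,
      Groth.Agent.H55.div_const hKY, zero_add]
  have hm : m = m' := by
    have e1 := congrArg (fun E : FunFld.Divisor k KY => E P') hfdiv
    have e2 := congrArg (fun E : FunFld.Divisor k KY => E P') hgdiv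
    simp only [Finsupp.add_apply, Finsupp.single_eq_same, Finsupp.single_eq_of_ne hP'P,
      add_zero, hdiv] at e1 e2
    omega
  subst hm
  omega

end Groth.Agent.S19710
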