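import Groth.Statements.S19711
import Mathlib.Algebra.Module.FinitePresentation
import Mathlib.RingTheory.Localization.Module
import Mathlib.LinearAlgebra.Basis.VectorSpace
import Mathlib.RingTheory.Localization.FractionRing
import Mathlib.RingTheory.Noetherian.Basic
import Mathlib.RingTheory.Spectrum.Prime.Topology

set_option autoImplicit false
universe u
open CategoryTheory
open Coh

namespace Groth.Agent.S19711

open scoped nonZeroDivisors in
theorem key {A : Type*} [CommRing A] [IsDomain A] [IsNoetherianRing A] {M N : Type*}
    [AddCommGroup M] [Module A M] [AddCommGroup N] [Module A N] [Module.Finite A N]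
    (j : M →ₗ[A] N) (hj : Function.Injective j) :
    ∃ (f : A) (r : N →ₗ[A] M), f ≠ 0 ∧ r ∘ₗ j = f • LinearMap.id := by
  classical
  let S : Submonoid A := A⁰
  have : Module.FinitePresentation A N := Module.finitePresentation_of_finite A N
  have : Module.Finite A M := Module.Finite.of_injective j hj
  let j' : LocalizedModule S M →ₗ[Localization S] LocalizedModule S N := LocalizedModule.map S j
  have hj' : Function.Injective j' := LocalizedModule.map_injective S j hj
  obtain ⟨g, hg⟩ := LinearMap.exists_leftInverse_of_injective j' (LinearMap.ker_eq_bot.mpr hj')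
  let ρ : LocalizedModule S N →ₗ[A] LocalizedModule S M := g.restrictScalars A
  obtain ⟨h, s, hs⟩ := Module.FinitePresentation.exists_lift_of_isLocalizedModule S
    (LocalizedModule.mkLinearMap S M) (ρ ∘ₗ LocalizedModule.mkLinearMap S N)
  have hcomp : (LocalizedModule.mkLinearMap S M).comp (h ∘ₗ j) =
      (LocalizedModule.mkLinearMap S M).comp ((s : A) • LinearMap.id) := by
    rw [← LinearMap.comp_assoc, hs]
    ext x
    have h1 : g (j' (LocalizedModule.mkLinearMap S M x)) = LocalizedModule.mkLinearMap S M x :=
      LinearMap.congr_fun hg _
    have h2 : j' (LocalizedModule.mkLinearMap S M x) = LocalizedModule.mkLinearMap S N (j x) := by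
      simp [j', LocalizedModule.mkLinearMap_apply]
    simp only [LinearMap.coe_comp, Function.comp_apply, LinearMap.smul_apply, ρ,
      LinearMap.coe_restrictScalars, LinearMap.id_coe, id_eq, map_smul]
    rw [← h2, h1]
    rfl
  obtain ⟨s', hs'⟩ := Module.Finite.exists_smul_of_comp_eq_of_isLocalizedModule S
    (LocalizedModule.mkLinearMap S M) _ _ hcomp
  refine ⟨(s' : A) * (s : A), (s' : A) • h, ?_, ?_⟩
  · exact mul_ne_zero (nonZeroDivisors.ne_zero s'.2) (nonZeroDivisors.ne_zero s.2)
  · rw [LinearMap.smul_comp, mul_smul]
    exact hs'

/-- Let A be a Noetherian integral domain and F an A-linear additive functor from A-modules to A-modules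
with F(A) a finitely generated A-module. Call such a functor generically injective when there is a
dense open subset U of Spec A such that for every point u of U whose residue field κ(u) is a
finitely generated A-algebra the comparison map F(A) ⊗_A κ(u) → F(κ(u)) is injective; since F is
A-linear this injectivity says: every m in F(A) whose image under F(A → κ(u)) vanishes satisfies s·m
∈ u·F(A) for some s outside u. If F is generically injective then so is every A-linear additive
subfunctor K ⊆ F (a natural transformation K → F with injective components). (The published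
statement is over a reduced Noetherian affine scheme, for additive functors on quasi-coherent
sheaves with values in abelian groups and the induced A-action, assumes F weakly bounded (F(A/p)
finitely generated for every prime ideal p) and also records that K is again weakly bounded; only
the finite generation of F(A), which its argument uses, is assumed here, and the integral case with
A-linear functors stated here is the one its argument by generic flatness treats.) -/
theorem result {A : Type u} [CommRing A] [IsNoetherianRing A] [IsDomain A]
    (F K : ModuleCat.{u} A ⥤ ModuleCat.{u} A) [F.Additive] [F.Linear A] [K.Additive] [K.Linear A]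
    (ι : K ⟶ F) (hι : ∀ X : ModuleCat.{u} A, Function.Injective (ι.app X).hom)
    (hfin : Module.Finite A (F.obj (ModuleCat.of A A)))
    (hGI : ∃ U : Set (PrimeSpectrum A), IsOpen U ∧ Dense U ∧ ∀ u ∈ U, Algebra.FiniteType A u.asIdeal.ResidueField →
        ∀ m : F.obj (ModuleCat.of A A),
          (F.map (ModuleCat.ofHom (Algebra.linearMap A u.asIdeal.ResidueField))).hom m = 0 →
            ∃ s ∉ u.asIdeal, s • m ∈ u.asIdeal • (⊤ : Submodule A (F.obj (ModuleCat.of A A)))) :
    ∃ U : Set (PrimeSpectrum A), IsOpen U ∧ Dense U ∧ ∀ u ∈ U, Algebra.FiniteType A u.asIdeal.ResidueField →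
        ∀ m : K.obj (ModuleCat.of A A),
          (K.map (ModuleCat.ofHom (Algebra.linearMap A u.asIdeal.ResidueField))).hom m = 0 →
            ∃ s ∉ u.asIdeal, s • m ∈ u.asIdeal • (⊤ : Submodule A (K.obj (ModuleCat.of A A))) := by
  obtain ⟨U, hUo, hUd, hU⟩ := hGI
  have : Module.Finite A (F.obj (ModuleCat.of A A)) := hfin
  obtain ⟨f, r, hf0, hr⟩ := key (ι.app (ModuleCat.of A A)).hom (hι _)
  refine ⟨U ∩ (PrimeSpectrum.basicOpen f : Set (PrimeSpectrum A)), hUo.inter (PrimeSpectrum.basicOpen f).isOpen,
    hUd.inter_of_isOpen_right ?_ (PrimeSpectrum.basicOpen f).isOpen, ?_⟩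
  · apply IsOpen.dense (PrimeSpectrum.basicOpen f).isOpen
    rw [Set.nonempty_iff_ne_empty]
    intro h
    apply hf0
    have : PrimeSpectrum.basicOpen f = ⊥ := by
      ext x
      simp [h]
    rw [PrimeSpectrum.basicOpen_eq_bot_iff] at this
    exact IsNilpotent.eq_zero this
  · rintro u ⟨huU, huf⟩ hft m hm
    have hfu : f ∉ u.asIdeal := huf
    have hnat := ι.naturality (ModuleCat.ofHom (Algebra.linearMap A u.asIdeal.ResidueField))
    have hm' : (F.map (ModuleCat.ofHom (Algebra.linearMap A u.asIdeal.ResidueField))).hom
        ((ι.app (ModuleCat.of A A)).hom m) = 0 := by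
      have := congrArg (fun φ => φ.hom m) hnat
      simp only [ModuleCat.hom_comp, LinearMap.coe_comp, Function.comp_apply] at this
      rw [← this, hm, map_zero]
    obtain ⟨s, hsu, hs⟩ := hU u huU hft _ hm'
    refine ⟨s * f, fun h => (u.isPrime.mem_or_mem h).elim hsu hfu, ?_⟩
    have h1 : r (s • (ι.app (ModuleCat.of A A)).hom m) = (s * f) • m := by
      rw [map_smul]
      have := LinearMap.congr_fun hr m
      simp only [LinearMap.coe_comp, Function.comp_apply, LinearMap.smul_apply, LinearMap.id_coe,
        id_eq] at this
      rw [this, mul_smul]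
    rw [← h1]
    have h2 : Submodule.map r (u.asIdeal • (⊤ : Submodule A (F.obj (ModuleCat.of A A)))) ≤
        u.asIdeal • (⊤ : Submodule A (K.obj (ModuleCat.of A A))) := by
      rw [Submodule.map_smul'']
      exact Submodule.smul_mono le_rfl le_top
    exact h2 (Submodule.mem_map_of_mem hs)

end Groth.Agent.S19711
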