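import Groth.Statements.S19747
import Groth.Agent.H98.GrMod
import Mathlib.RingTheory.FiniteStability
import Mathlib.RingTheory.Noetherian.Basic

set_option autoImplicit false
universe u
open scoped TensorProduct
open GrSegre

namespace Groth.Agent.S19747

/-- Let R and S be graded rings defined over a field k with Segre product T = R # S, and let M be a
finitely generated graded R-module and N a finitely generated graded S-module. Then M # N is a
finitely generated T-module. Here a graded ring defined over k is a commutative k-algebra of finite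
type, graded in nonnegative degrees by k-subspaces with degree-zero part k·1; the Segre product T =
R # S = ⊕_n R_n ⊗_k S_n is presented abstractly as a graded k-algebra T with an injective k-algebra
homomorphism ψ : T → R ⊗_k S carrying T_n onto the k-span of the elementary tensors a ⊗ b with a ∈
R_n, b ∈ S_n; the Segre product M # N = ⊕_n M_n ⊗_k N_n of a graded R-module M and a graded S-module
N is presented abstractly as a graded T-module P with an injective k-linear map φ : P → M ⊗_k N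
carrying P_n onto the k-span of the tensors x ⊗ y with x ∈ M_n, y ∈ N_n and turning the action of t
∈ T into that of ψ(t) (acting factorwise on M ⊗_k N). -/
theorem result (k : Type u) [Field k] (R : Type u) [CommRing R] [Algebra k R] (𝒜 : ℤ → Submodule k R) [GradedAlgebra 𝒜] (hposR : ∀ n : ℤ, n < 0 → 𝒜 n = ⊥) (h0R : 𝒜 0 = Submodule.span k {(1 : R)}) [Algebra.FiniteType k R] (S : Type u) [CommRing S] [Algebra k S] (ℬ : ℤ → Submodule k S) [GradedAlgebra ℬ] (hposS : ∀ n : ℤ, n < 0 → ℬ n = ⊥) (h0S : ℬ 0 = Submodule.span k {(1 : S)}) [Algebra.FiniteType k S] (T : Type u) [CommRing T] [Algebra k T] (𝒯 : ℤ → Submodule k T) [GradedAlgebra 𝒯] (ψ : T →ₐ[k] TensorProduct k R S) (hT : GrSeg.IsSegreRing 𝒜 ℬ 𝒯 ψ) (M : Type u) [AddCommGroup M] [Module R M] [Module k M] [IsScalarTower k R M] (ℳ : ℤ → AddSubgroup M) [DirectSum.Decomposition ℳ] [SetLike.GradedSMul 𝒜 ℳ] [Module.Finite R M] (N : Type u) [AddCommGroup N] [Module S N] [Module k N] [IsScalarTower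 k S N] (𝒩 : ℤ → AddSubgroup N) [DirectSum.Decomposition 𝒩] [SetLike.GradedSMul ℬ 𝒩] [Module.Finite S N] (P : Type u) [AddCommGroup P] [Module T P] [Module k P] [IsScalarTower k T P] (𝒬 : ℤ → AddSubgroup P) [DirectSum.Decomposition 𝒬] (φ : P →ₗ[k] TensorProduct k M N) (hP : GrSeg.IsSegreMod ψ ℳ 𝒩 𝒬 φ) : Module.Finite T P := by
  classical
  obtain ⟨hψinj, hψpiece⟩ := hT
  have hM : ∀ (i j : ℤ) (r : R) (x : M), r ∈ 𝒜 i → x ∈ H98.subPiece 𝒜 ℳ j →
      r • x ∈ H98.subPiece 𝒜 ℳ (i + j) := fun i j r x hr hx => H98.gsmul_mem 𝒜 ℳ hr hx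
  have hN : ∀ (i j : ℤ) (s : S) (y : N), s ∈ ℬ i → y ∈ H98.subPiece ℬ 𝒩 j →
      s • y ∈ H98.subPiece ℬ 𝒩 (i + j) := fun i j s y hs hy => H98.gsmul_mem ℬ 𝒩 hs hy
  -- the image of `φ` lies in the diagonal part
  have hrange : ∀ p : P, φ p ∈ Submodule.span k (H98.diag (H98.subPiece 𝒜 ℳ) (H98.subPiece ℬ 𝒩)) := by
    intro p
    refine DirectSum.Decomposition.inductionOn 𝒬
      (motive := fun p => φ p ∈ Submodule.span k (H98.diag (H98.subPiece 𝒜 ℳ) (H98.subPiece ℬ 𝒩)))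
      ?_ ?_ ?_ p
    · rw [map_zero]; exact zero_mem _
    · intro n p
      have h1 : φ (p : P) ∈ φ '' (𝒬 n : Set P) := ⟨p, p.2, rfl⟩
      rw [hP.image_piece n] at h1
      have h2 : φ (p : P) ∈ Submodule.span k
          {x : M ⊗[k] N | ∃ a ∈ ℳ n, ∃ b ∈ 𝒩 n, x = a ⊗ₜ[k] b} := h1
      refine Submodule.span_mono ?_ h2
      rintro x ⟨a, ha, b, hb, rfl⟩
      exact ⟨n, a, ha, b, hb, rfl⟩
    · intro p p' hp hp'
      rw [map_add]; exact add_mem hp hp'
  have hdiagQ : ∀ (n : ℤ) (x : M) (y : N), x ∈ ℳ n → y ∈ 𝒩 n → ∃ p : P, φ p = x ⊗ₜ[k] y := by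
    intro n x y hx hy
    have h1 : x ⊗ₜ[k] y ∈ (GrSeg.segrePiece k ℳ 𝒩 n : Set (M ⊗[k] N)) :=
      Submodule.subset_span ⟨x, hx, y, hy, rfl⟩
    rw [← hP.image_piece n] at h1
    obtain ⟨p, _, hp⟩ := h1
    exact ⟨p, hp⟩
  have hpiQ : ∀ y : M ⊗[k] N,
      ∃ p : P, φ p = H98.piQ (H98.subPiece 𝒜 ℳ) (H98.subPiece ℬ 𝒩) y := by
    refine H98.bihom_induction (H98.subPiece 𝒜 ℳ) (H98.subPiece ℬ 𝒩)
      (P := fun y => ∃ p : P, φ p = H98.piQ (H98.subPiece 𝒜 ℳ) (H98.subPiece ℬ 𝒩) y)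
      ⟨0, by simp⟩ ?_ ?_
    · rintro y y' ⟨p, hp⟩ ⟨p', hp'⟩
      exact ⟨p + p', by rw [map_add, map_add, hp, hp']⟩
    · intro m n a b ha hb
      rw [H98.piQ_tmul _ _ ha hb]
      by_cases h : m = n
      · subst h; rw [if_pos rfl]; exact hdiagQ m a b ha hb
      · rw [if_neg h]; exact ⟨0, map_zero _⟩
  have hdiagA : ∀ (n : ℤ) (a : R) (b : S), a ∈ 𝒜 n → b ∈ ℬ n → ∃ t : T, ψ t = a ⊗ₜ[k] b := by
    intro n a b ha hb
    have h1 : a ⊗ₜ[k] b ∈ (𝒯 n).map ψ.toLinearMap := by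
      rw [hψpiece n]
      exact Submodule.subset_span ⟨a, ha, b, hb, rfl⟩
    obtain ⟨t, _, ht⟩ := h1
    exact ⟨t, ht⟩
  have hpiA : ∀ y : R ⊗[k] S, ∃ t : T, ψ t = H98.piQ 𝒜 ℬ y := by
    refine H98.bihom_induction 𝒜 ℬ (P := fun y => ∃ t : T, ψ t = H98.piQ 𝒜 ℬ y)
      ⟨0, by simp⟩ ?_ ?_
    · rintro y y' ⟨t, ht⟩ ⟨t', ht'⟩
      exact ⟨t + t', by rw [map_add, map_add, ht, ht']⟩
    · intro m n a b ha hb
      rw [H98.piQ_tmul 𝒜 ℬ ha hb]
      by_cases h : m = n
      · subst h; rw [if_pos rfl]; exact hdiagA m a b ha hb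
      · rw [if_neg h]; exact ⟨0, map_zero _⟩
  -- module structure of `M ⊗ N` over `R ⊗ S`
  letI instAQ : Module (R ⊗[k] S) (M ⊗[k] N) := H98.actModule k R S M N
  have hsmul : ∀ (a : R ⊗[k] S) (z : M ⊗[k] N), a • z = GrSeg.act k R S M N a z := fun _ _ => rfl
  haveI : Module.Finite (R ⊗[k] S) (M ⊗[k] N) := H98.act_finite
  haveI hB : IsNoetherianRing (R ⊗[k] S) := by
    haveI : Algebra.FiniteType R (R ⊗[k] S) := inferInstance
    haveI : Algebra.FiniteType k (R ⊗[k] S) :=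
      Algebra.FiniteType.trans (S := R) inferInstance inferInstance
    exact Algebra.FiniteType.isNoetherianRing k _
  haveI : IsNoetherian (R ⊗[k] S) (M ⊗[k] N) := isNoetherian_of_isNoetherianRing_of_finite _ _
  have hfg : (Submodule.span (R ⊗[k] S) (Set.range φ)).FG := IsNoetherian.noetherian _
  obtain ⟨s', hs'sub, hs'⟩ := (Submodule.fg_span_iff_fg_span_finset_subset _).mp hfg
  have hex : ∀ z ∈ s', ∃ p : P, φ p = z := fun z hz => hs'sub hz
  choose! pre hpre using hex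
  refine ⟨⟨s'.image pre, ?_⟩⟩
  rw [eq_top_iff]
  rintro p -
  have aux : ∀ z ∈ Submodule.span (R ⊗[k] S) (↑s' : Set (M ⊗[k] N)),
      ∀ (b : R ⊗[k] S) (p : P),
        φ p = H98.piQ (H98.subPiece 𝒜 ℳ) (H98.subPiece ℬ 𝒩) (b • z) →
        p ∈ Submodule.span T (↑(s'.image pre) : Set P) := by
    intro z hz
    induction hz using Submodule.span_induction with
    | mem z hz =>
      intro b p hp
      obtain ⟨t, ht⟩ := hpiA b
      have hz' : φ (pre z) = z := hpre z hz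
      rw [hsmul, ← hz', H98.piQ_act 𝒜 ℬ _ _ hM hN (hrange (pre z)) b, ← ht, ← hP.map_smul] at hp
      rw [hP.injective hp]
      exact Submodule.smul_mem _ _
        (Submodule.subset_span (Finset.mem_coe.mpr (Finset.mem_image_of_mem pre hz)))
    | zero =>
      intro b p hp
      rw [smul_zero, map_zero] at hp
      rw [show p = 0 from hP.injective (by rw [hp, map_zero])]
      exact zero_mem _
    | add z z' _ _ hz hz' =>
      intro b p hp
      obtain ⟨p₁, hp₁⟩ := hpiQ (b • z)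
      obtain ⟨p₂, hp₂⟩ := hpiQ (b • z')
      rw [smul_add, map_add, ← hp₁, ← hp₂, ← map_add] at hp
      rw [hP.injective hp]
      exact add_mem (hz b p₁ hp₁) (hz' b p₂ hp₂)
    | smul c z _ hz =>
      intro b p hp
      rw [smul_smul] at hp
      exact hz (b * c) p hp
  have hpz : φ p ∈ Submodule.span (R ⊗[k] S) (↑s' : Set (M ⊗[k] N)) := by
    rw [← hs']; exact Submodule.subset_span ⟨p, rfl⟩
  refine aux (φ p) hpz 1 p ?_
  rw [one_smul, H98.piQ_eq_self_of_mem _ _ (hrange p)]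

end Groth.Agent.S19747
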