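import Groth.Statements.S19748
import Mathlib.Algebra.DirectSum.Decomposition
import Mathlib.Algebra.Module.GradedModule
import Mathlib.LinearAlgebra.TensorProduct.Basic

set_option autoImplicit false
universe u
open scoped TensorProduct
open GrSegre

namespace Groth.Agent.S19748

theorem proj_smul {k R M : Type*} [CommRing k] [CommRing R] [Algebra k R] [AddCommGroup M]
    [Module R M] (𝒜 : ℤ → Submodule k R) (ℳ : ℤ → AddSubgroup M) [DirectSum.Decomposition ℳ]
    [SetLike.GradedSMul 𝒜 ℳ] (c : ℤ) (r : R) (hr : r ∈ 𝒜 c) (m : ℤ) (x : M) :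
    ((DirectSum.decompose ℳ (r • x) (c + m) : ℳ (c + m)) : M) =
      r • ((DirectSum.decompose ℳ x m : ℳ m) : M) := by
  classical
  induction x using DirectSum.Decomposition.inductionOn ℳ with
  | zero => simp
  | @homogeneous i x =>
    have hmem : r • (x : M) ∈ ℳ (c + i) := by
      have := SetLike.GradedSMul.smul_mem hr x.2
      simpa [vadd_eq_add] using this
    by_cases h : i = m
    · subst h
      rw [DirectSum.decompose_of_mem_same ℳ hmem, DirectSum.decompose_of_mem_same ℳ x.2]
    · have h' : c + i ≠ c + m := fun h2 => h (add_left_cancel h2)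
      rw [DirectSum.decompose_of_mem_ne ℳ hmem h', DirectSum.decompose_of_mem_ne ℳ x.2 h,
        smul_zero]
  | add x y hx hy =>
    simp only [smul_add, DirectSum.decompose_add, DirectSum.add_apply, AddSubgroup.coe_add, hx, hy]

theorem homog_inv {k R M : Type*} [CommRing k] [CommRing R] [Algebra k R] [AddCommGroup M]
    [Module R M] (𝒜 : ℤ → Submodule k R) (ℳ : ℤ → AddSubgroup M) [DirectSum.Decomposition ℳ]
    [SetLike.GradedSMul 𝒜 ℳ] (c : ℤ) (r : R) (hr : r ∈ 𝒜 c)
    (hinj : Function.Injective (fun x : M => r • x)) (n : ℤ) (x : M) (hx : r • x ∈ ℳ n) :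
    x ∈ ℳ (n - c) := by
  classical
  have hzero : ∀ m, m ≠ n - c → ((DirectSum.decompose ℳ x m : ℳ m) : M) = 0 := by
    intro m hm
    apply hinj
    simp only [smul_zero]
    rw [← proj_smul 𝒜 ℳ c r hr m x]
    exact DirectSum.decompose_of_mem_ne ℳ hx (by omega)
  have hdec : DirectSum.decompose ℳ x =
      DirectSum.of (fun i => ℳ i) (n - c) (DirectSum.decompose ℳ x (n - c)) := by
    ext j
    by_cases hj : j = n - c
    · subst hj
      rw [DirectSum.of_eq_same]
    · rw [DirectSum.of_eq_of_ne _ _ _ hj, hzero j hj]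
      rfl
  have hx' : x = ((DirectSum.decompose ℳ x (n - c) : ℳ (n - c)) : M) := by
    have h1 := congrArg (DirectSum.decompose ℳ).symm hdec
    rwa [Equiv.symm_apply_apply, DirectSum.decompose_symm_of] at h1
  rw [hx']
  exact SetLike.coe_mem _

/-- Let R and S be graded rings defined over a field k with Segre product T = R # S, M a graded R-module
and N a graded S-module. Suppose that multiplication by some homogeneous element f ∈ R_d of positive
degree d is bijective on M and multiplication by some homogeneous g ∈ S_e of positive degree e is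
bijective on N. Then multiplication by some homogeneous element of T of positive degree is bijective
on M # N. Here a graded ring defined over k is a commutative k-algebra of finite type, graded in
nonnegative degrees by k-subspaces with degree-zero part k·1; the Segre product T = R # S = ⊕_n R_n
⊗_k S_n is presented abstractly as a graded k-algebra T with an injective k-algebra homomorphism ψ :
T → R ⊗_k S carrying T_n onto the k-span of the elementary tensors a ⊗ b with a ∈ R_n, b ∈ S_n; the
Segre product M # N = ⊕_n M_n ⊗_k N_n of a graded R-module M and a graded S-module N is presented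
abstractly as a graded T-module P with an injective k-linear map φ : P → M ⊗_k N carrying P_n onto
the k-span of the tensors x ⊗ y with x ∈ M_n, y ∈ N_n and turning the action of t ∈ T into that of
ψ(t) (acting factorwise on M ⊗_k N). -/
theorem result (k : Type u) [Field k] (R : Type u) [CommRing R] [Algebra k R] (𝒜 : ℤ → Submodule k R) [GradedAlgebra 𝒜] (hposR : ∀ n : ℤ, n < 0 → 𝒜 n = ⊥) (h0R : 𝒜 0 = Submodule.span k {(1 : R)}) [Algebra.FiniteType k R] (S : Type u) [CommRing S] [Algebra k S] (ℬ : ℤ → Submodule k S) [GradedAlgebra ℬ] (hposS : ∀ n : ℤ, n < 0 → ℬ n = ⊥) (h0S : ℬ 0 = Submodule.span k {(1 : S)}) [Algebra.FiniteType k S] (T : Type u) [CommRing T] [Algebra k T] (𝒯 : ℤ → Submodule k T) [GradedAlgebra 𝒯] (ψ : T →ₐ[k] TensorProduct k R S) (hT : GrSeg.IsSegreRing 𝒜 ℬ 𝒯 ψ) (M : Type u) [AddCommGroup M] [Module R M] [Module k M] [IsScalarTower k R M] (ℳ : ℤ → AddSubgroup M) [DirectSum.Decomposition ℳ] [SetLike.GradedSMul 𝒜 ℳ] (N : Type u) [AddCommGroup N] [Module S N] [Module k N] [IsScalarTower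 k S N] (𝒩 : ℤ → AddSubgroup N) [DirectSum.Decomposition 𝒩] [SetLike.GradedSMul ℬ 𝒩] (P : Type u) [AddCommGroup P] [Module T P] [Module k P] [IsScalarTower k T P] (𝒬 : ℤ → AddSubgroup P) [DirectSum.Decomposition 𝒬] (φ : P →ₗ[k] TensorProduct k M N) (hP : GrSeg.IsSegreMod ψ ℳ 𝒩 𝒬 φ) (d : ℕ) (hd : 0 < d) (f : R) (hf : f ∈ 𝒜 (d : ℤ)) (hfM : Function.Bijective (fun x : M => f • x)) (e : ℕ) (he : 0 < e) (g : S) (hg : g ∈ ℬ (e : ℤ)) (hgN : Function.Bijective (fun y : N => g • y)) : ∃ (c : ℤ) (t : T), 0 < c ∧ t ∈ 𝒯 c ∧ Function.Bijective (fun p : P => t • p) := by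
  classical
  obtain ⟨hψinj, hψpiece⟩ := hT
  set c : ℤ := (d : ℤ) * (e : ℤ) with hc
  have hcpos : 0 < c := by positivity
  have hfe : f ^ e ∈ 𝒜 c := by
    have h1 := SetLike.pow_mem_graded e hf
    have h2 : e • (d : ℤ) = c := by rw [hc, nsmul_eq_mul, mul_comm]
    rwa [h2] at h1
  have hgd : g ^ d ∈ ℬ c := by
    have h1 := SetLike.pow_mem_graded d hg
    have h2 : d • (e : ℤ) = c := by rw [hc, nsmul_eq_mul]
    rwa [h2] at h1
  have hmem : (f ^ e) ⊗ₜ[k] (g ^ d) ∈ GrSeg.segrePiece k 𝒜 ℬ c :=
    Submodule.subset_span ⟨f ^ e, hfe, g ^ d, hgd, rfl⟩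
  rw [← hψpiece c] at hmem
  obtain ⟨t, ht, hψt⟩ := Submodule.mem_map.mp hmem
  have hψt' : ψ t = (f ^ e) ⊗ₜ[k] (g ^ d) := hψt
  refine ⟨c, t, hcpos, ht, ?_⟩
  have hFbij : Function.Bijective (fun x : M => (f ^ e) • x) := by
    have h : (fun x : M => (f ^ e) • x) = (fun x : M => f • x)^[e] := by
      ext x
      rw [smul_iterate]
    rw [h]
    exact hfM.iterate e
  have hGbij : Function.Bijective (fun y : N => (g ^ d) • y) := by
    have h : (fun y : N => (g ^ d) • y) = (fun y : N => g • y)^[d] := by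
      ext y
      rw [smul_iterate]
    rw [h]
    exact hgN.iterate d
  let FM : M ≃ₗ[k] M :=
    LinearEquiv.ofBijective ((LinearMap.lsmul R M (f ^ e)).restrictScalars k) hFbij
  let GN : N ≃ₗ[k] N :=
    LinearEquiv.ofBijective ((LinearMap.lsmul S N (g ^ d)).restrictScalars k) hGbij
  have hFM : ∀ x : M, FM x = (f ^ e) • x := fun x => rfl
  have hGN : ∀ y : N, GN y = (g ^ d) • y := fun y => rfl
  have hact : ∀ z : M ⊗[k] N,
      GrSeg.act k R S M N (ψ t) z = TensorProduct.congr FM GN z := by
    intro z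
    rw [hψt']
    induction z using TensorProduct.induction_on with
    | zero => simp
    | tmul m n => rw [GrSeg.act_tmul, TensorProduct.congr_tmul, hFM, hGN]
    | add x y hx hy => rw [map_add, map_add, hx, hy]
  have hφt : ∀ p : P, φ (t • p) = TensorProduct.congr FM GN (φ p) := fun p => by
    rw [hP.map_smul, hact]
  constructor
  · intro p p' hpp'
    have h1 : φ (t • p) = φ (t • p') := congrArg φ hpp'
    rw [hφt, hφt] at h1
    exact hP.injective ((TensorProduct.congr FM GN).injective h1)
  · let L : P →ₗ[k] M ⊗[k] N := φ ∘ₗ ((LinearMap.lsmul T P t).restrictScalars k)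
    have hL : ∀ p, L p = φ (t • p) := fun p => rfl
    have hgen : ∀ n : ℤ, GrSeg.segrePiece k ℳ 𝒩 n ≤ LinearMap.range L := by
      intro n
      refine Submodule.span_le.mpr ?_
      rintro _ ⟨a, ha, b, hb, rfl⟩
      have hx : FM.symm a ∈ ℳ (n - c) :=
        homog_inv 𝒜 ℳ c (f ^ e) hfe hFbij.1 n _ (by
          have h1 : (f ^ e) • FM.symm a = a := FM.apply_symm_apply a
          rw [h1]
          exact ha)
      have hy : GN.symm b ∈ 𝒩 (n - c) :=
        homog_inv ℬ 𝒩 c (g ^ d) hgd hGbij.1 n _ (by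
          have h1 : (g ^ d) • GN.symm b = b := GN.apply_symm_apply b
          rw [h1]
          exact hb)
      have hxy : (FM.symm a) ⊗ₜ[k] (GN.symm b) ∈
          (GrSeg.segrePiece k ℳ 𝒩 (n - c) : Set (M ⊗[k] N)) :=
        Submodule.subset_span ⟨_, hx, _, hy, rfl⟩
      rw [← hP.image_piece (n - c)] at hxy
      obtain ⟨p'', _, hp''⟩ := hxy
      refine ⟨p'', ?_⟩
      rw [hL, hφt, hp'', TensorProduct.congr_tmul, LinearEquiv.apply_symm_apply,
        LinearEquiv.apply_symm_apply]
    intro p
    induction p using DirectSum.Decomposition.inductionOn 𝒬 with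
    | zero => exact ⟨0, smul_zero t⟩
    | @homogeneous i p =>
      have h1 : φ (p : P) ∈ (GrSeg.segrePiece k ℳ 𝒩 i : Set (M ⊗[k] N)) := by
        rw [← hP.image_piece i]
        exact ⟨p, p.2, rfl⟩
      obtain ⟨p', hp'⟩ := hgen i h1
      refine ⟨p', ?_⟩
      apply hP.injective
      rw [← hp', hL]
    | add p q hp hq =>
      obtain ⟨p', hp'⟩ := hp
      obtain ⟨q', hq'⟩ := hq
      refine ⟨p' + q', ?_⟩
      show t • (p' + q') = p + q
      rw [smul_add]
      exact congrArg₂ (· + ·) hp' hq'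

end Groth.Agent.S19748
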