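import Groth.Statements.S19749
import Groth.Agent.H98.GrStdOld
import Mathlib.LinearAlgebra.Dual.Lemmas

set_option autoImplicit false
universe u
open scoped TensorProduct
open GrSegre

namespace Groth.Agent.S19749

/-- Let R and S be graded rings defined over a field k, both generated over k by their degree-one parts
and of positive Krull dimension, T = R # S, M a graded R-module and N a graded S-module, n an
integer with N_m ≠ 0 for every m ≥ n, and x ∈ M_n, y ∈ N_n. If x # y generates M # N as a T-module,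
then R_d x = M_{n+d} for every d ≥ 0 (every element of M_{n+d} is r x for some r ∈ R_d). Here a
graded ring defined over k is a commutative k-algebra of finite type, graded in nonnegative degrees
by k-subspaces with degree-zero part k·1; the Segre product T = R # S = ⊕_n R_n ⊗_k S_n is presented
abstractly as a graded k-algebra T with an injective k-algebra homomorphism ψ : T → R ⊗_k S carrying
T_n onto the k-span of the elementary tensors a ⊗ b with a ∈ R_n, b ∈ S_n; the Segre product M # N =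
⊕_n M_n ⊗_k N_n of a graded R-module M and a graded S-module N is presented abstractly as a graded
T-module P with an injective k-linear map φ : P → M ⊗_k N carrying P_n onto the k-span of the
tensors x ⊗ y with x ∈ M_n, y ∈ N_n and turning the action of t ∈ T into that of ψ(t) (acting
factorwise on M ⊗_k N), and x # y is the element of P mapped to x ⊗ y. -/
theorem result (k : Type u) [Field k] (R : Type u) [CommRing R] [Algebra k R] (𝒜 : ℤ → Submodule k R) [GradedAlgebra 𝒜] (hposR : ∀ n : ℤ, n < 0 → 𝒜 n = ⊥) (h0R : 𝒜 0 = Submodule.span k {(1 : R)}) [Algebra.FiniteType k R] (S : Type u) [CommRing S] [Algebra k S] (ℬ : ℤ → Submodule k S) [GradedAlgebra ℬ] (hposS : ∀ n : ℤ, n < 0 → ℬ n = ⊥) (h0S : ℬ 0 = Submodule.span k {(1 : S)}) [Algebra.FiniteType k S] (T : Type u) [CommRing T] [Algebra k T] (𝒯 : ℤ → Submodule k T) [GradedAlgebra 𝒯] (ψ : T →ₐ[k] TensorProduct k R S) (hT : GrSeg.IsSegreRing 𝒜 ℬ 𝒯 ψ) (hstdR : Ideal.span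 (⋃ n ∈ Set.Ioi (0 : ℤ), (𝒜 n : Set R)) = Ideal.span ((𝒜 1 : Submodule k R) : Set R)) (hstdS : Ideal.span (⋃ n ∈ Set.Ioi (0 : ℤ), (ℬ n : Set S)) = Ideal.span ((ℬ 1 : Submodule k S) : Set S)) (hr1 : 1 ≤ ringKrullDim R) (hs1 : 1 ≤ ringKrullDim S) (M : Type u) [AddCommGroup M] [Module R M] [Module k M] [IsScalarTower k R M] (ℳ : ℤ → AddSubgroup M) [DirectSum.Decomposition ℳ] [SetLike.GradedSMul 𝒜 ℳ] (N : Type u) [AddCommGroup N] [Module S N] [Module k N] [IsScalarTower k S N] (𝒩 : ℤ → AddSubgroup N) [DirectSum.Decomposition 𝒩] [SetLike.GradedSMul ℬ 𝒩] (P : Type u) [AddCommGroup P] [Module T P] [Module k P] [IsScalarTower k T P] (𝒬 : ℤ → AddSubgroup P) [DirectSum.Decomposition 𝒬] (φ : P →ₗ[k] TensorProduct k M N) (hP : GrSeg.IsSegreMod ψ ℳ 𝒩 𝒬 φ) (n : ℤ) (hNn : ∀ m : ℤ, n ≤ m → 𝒩 m ≠ ⊥) (x : M) (hx : x ∈ ℳ n) (y : N) (hy : y ∈ 𝒩 n) (p : P) (hp : φ p = x ⊗ₜ[k] y) (hgen : Submodule.span T {p} = ⊤) (d : ℤ) (hd : 0 ≤ d) (z : M)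 (hz : z ∈ ℳ (n + d)) : ∃ r ∈ 𝒜 d, r • x = z := by
  classical
  obtain ⟨y', hy', hy'0⟩ : ∃ y' ∈ 𝒩 (n + d), y' ≠ 0 := by
    by_contra h
    push_neg at h
    exact hNn (n + d) (by omega) ((AddSubgroup.eq_bot_iff_forall _).2 h)
  obtain ⟨lam0, hlam0⟩ : ∃ f : Module.Dual k N, f y' = 1 :=
    Module.Projective.exists_dual_eq_one k hy'0
  have hyN : y' ∈ H98.subPiece ℬ 𝒩 (n + d) := hy'
  have hzM : z ∈ H98.subPiece 𝒜 ℳ (n + d) := hz
  obtain ⟨Lam, hLam⟩ : ∃ Lam : TensorProduct k M N →ₗ[k] M, ∀ (m : M) (b : N),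
      Lam (m ⊗ₜ[k] b) = lam0 (H98.gproj (H98.subPiece ℬ 𝒩) (n + d) b) •
        H98.gproj (H98.subPiece 𝒜 ℳ) (n + d) m :=
    ⟨(TensorProduct.rid k M).toLinearMap ∘ₗ
        TensorProduct.map (H98.gproj (H98.subPiece 𝒜 ℳ) (n + d))
          (lam0 ∘ₗ H98.gproj (H98.subPiece ℬ 𝒩) (n + d)),
      fun m b => by
        rw [LinearMap.comp_apply, TensorProduct.map_tmul, LinearEquiv.coe_coe,
          TensorProduct.rid_tmul, LinearMap.comp_apply]⟩
  have claim : ∀ u : TensorProduct k R S,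
      ∃ r ∈ 𝒜 d, r • x = Lam (GrSeg.act k R S M N u (x ⊗ₜ[k] y)) := by
    intro u
    refine H98.bihom_induction 𝒜 ℬ
      (P := fun u => ∃ r ∈ 𝒜 d, r • x = Lam (GrSeg.act k R S M N u (x ⊗ₜ[k] y))) ?_ ?_ ?_ u
    · exact ⟨0, zero_mem _, by simp⟩
    · rintro u v ⟨r, hr, hru⟩ ⟨s, hs, hsv⟩
      exact ⟨r + s, add_mem hr hs, by
        rw [map_add, LinearMap.add_apply, map_add, add_smul, hru, hsv]⟩
    · intro i j a b ha hb
      rw [GrSeg.act_tmul, hLam]
      have hax : a • x ∈ H98.subPiece 𝒜 ℳ (i + n) := H98.gsmul_mem 𝒜 ℳ ha hx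
      by_cases hid : i + n = n + d
      · have hid' : i = d := by omega
        have ha' : a ∈ 𝒜 d := by rw [← hid']; exact ha
        have hax' : a • x ∈ H98.subPiece 𝒜 ℳ (n + d) := by rw [← hid]; exact hax
        rw [H98.gproj_of_mem_same (H98.subPiece 𝒜 ℳ) hax']
        exact ⟨lam0 (H98.gproj (H98.subPiece ℬ 𝒩) (n + d) (b • y)) • a,
          Submodule.smul_mem _ _ ha', smul_assoc _ _ _⟩
      · rw [H98.gproj_of_mem_ne (H98.subPiece 𝒜 ℳ) hax hid, smul_zero]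
        exact ⟨0, zero_mem _, zero_smul _ _⟩
  have hmem : z ⊗ₜ[k] y' ∈ φ '' (𝒬 (n + d) : Set P) := by
    rw [hP.image_piece]
    exact H98.tmul_mem_segrePiece hz hy'
  obtain ⟨p', _, hp'⟩ := hmem
  obtain ⟨t, ht⟩ : ∃ t : T, t • p = p' :=
    Submodule.mem_span_singleton.1 (hgen ▸ Submodule.mem_top)
  obtain ⟨r, hr, hrx⟩ := claim (ψ t)
  refine ⟨r, hr, ?_⟩
  rw [hrx, ← hp, ← hP.map_smul, ht, hp', hLam, H98.gproj_of_mem_same (H98.subPiece ℬ 𝒩) hyN,
    H98.gproj_of_mem_same (H98.subPiece 𝒜 ℳ) hzM, hlam0, one_smul]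

end Groth.Agent.S19749
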