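import Groth.Statements.S19750
import Groth.Agent.H98.GrStdOld
import Mathlib.RingTheory.KrullDimension.Basic
import Mathlib.LinearAlgebra.Isomorphisms

set_option autoImplicit false
universe u
open scoped TensorProduct
open GrSegre

namespace Groth.Agent.S19750

/-- Let R and S be graded rings defined over a field k, both generated over k by their degree-one parts
and of positive Krull dimension, T = R # S with irrelevant ideal T_+, and let a ≥ b be integers.
Then the number of generators ν_T(R(a) # S(b)) = dim_k (R(a) # S(b)) / T_+ (R(a) # S(b)) equals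
dim_k R_{a−b}. Here a graded ring defined over k is a commutative k-algebra of finite type, graded
in nonnegative degrees by k-subspaces with degree-zero part k·1; the Segre product T = R # S = ⊕_n
R_n ⊗_k S_n is presented abstractly as a graded k-algebra T with an injective k-algebra homomorphism
ψ : T → R ⊗_k S carrying T_n onto the k-span of the elementary tensors a ⊗ b with a ∈ R_n, b ∈ S_n;
the Segre product R(a) # S(b) = ⊕_n R_{n+a} ⊗_k S_{n+b} of the shifted modules is presented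
abstractly as a graded T-module P with an injective k-linear map φ : P → R ⊗_k S carrying P_n onto
the k-span of the tensors x ⊗ y with x ∈ R_{n+a}, y ∈ S_{n+b} and turning the action of t ∈ T into
that of ψ(t); T_+ is the ideal spanned by the T_n with n > 0. -/
theorem result (k : Type u) [Field k] (R : Type u) [CommRing R] [Algebra k R] (𝒜 : ℤ → Submodule k R) [GradedAlgebra 𝒜] (hposR : ∀ n : ℤ, n < 0 → 𝒜 n = ⊥) (h0R : 𝒜 0 = Submodule.span k {(1 : R)}) [Algebra.FiniteType k R] (S : Type u) [CommRing S] [Algebra k S] (ℬ : ℤ → Submodule k S) [GradedAlgebra ℬ] (hposS : ∀ n : ℤ, n < 0 → ℬ n = ⊥) (h0S : ℬ 0 = Submodule.span k {(1 : S)}) [Algebra.FiniteType k S] (T : Type u) [CommRing T] [Algebra k T] (𝒯 : ℤ → Submodule k T) [GradedAlgebra 𝒯] (ψ : T →ₐ[k] TensorProduct k R S) (hT : GrSeg.IsSegreRing 𝒜 ℬ 𝒯 ψ) (hstdR : Ideal.span (⋃ n ∈ Set.Ioi (0 : ℤ), (𝒜 n : Set R)) = Ideal.span ((𝒜 1 : Submodule k R) : Set R)) (hstdS : Ideal.span (⋃ n ∈ Set.Ioi (0 : ℤ),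 (ℬ n : Set S)) = Ideal.span ((ℬ 1 : Submodule k S) : Set S)) (hr1 : 1 ≤ ringKrullDim R) (hs1 : 1 ≤ ringKrullDim S) (mT : HomogeneousIdeal 𝒯) (hmT : mT.toIdeal = Ideal.span (⋃ n ∈ Set.Ioi (0 : ℤ), (𝒯 n : Set T))) (a b : ℤ) (hab : b ≤ a) (P : Type u) [AddCommGroup P] [Module T P] [Module k P] [IsScalarTower k T P] (𝒬 : ℤ → AddSubgroup P) [DirectSum.Decomposition 𝒬] (φ : P →ₗ[k] TensorProduct k R S) (hP : GrSeg.IsSegreMod ψ (fun n : ℤ => 𝒜 (n + a)) (fun n : ℤ => ℬ (n + b)) 𝒬 φ) : Module.finrank k (P ⧸ (mT.toIdeal • (⊤ : Submodule T P))) = Module.finrank k (𝒜 (a - b)) := by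
  classical
  obtain ⟨hψinj, hψpiece⟩ := hT
  haveI : Nontrivial S := by
    by_contra hS
    rw [not_nontrivial_iff_subsingleton] at hS
    rw [ringKrullDim_eq_bot_of_subsingleton] at hs1
    exact absurd hs1 (by simp)
  obtain ⟨ε, hε⟩ := Module.Projective.exists_dual_eq_one k (x := (1 : S)) one_ne_zero
  let Ξ : R ⊗[k] S →ₗ[k] R := (TensorProduct.rid k R).toLinearMap ∘ₗ
    TensorProduct.map (H98.gproj 𝒜 (a - b)) (ε ∘ₗ H98.gproj ℬ 0)
  have hΞ : ∀ (x : R) (y : S),
      Ξ (x ⊗ₜ[k] y) = ε (H98.gproj ℬ 0 y) • H98.gproj 𝒜 (a - b) x := by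
    intro x y
    simp only [Ξ, LinearMap.comp_apply, LinearEquiv.coe_coe, TensorProduct.map_tmul,
      TensorProduct.rid_tmul]
  have hΞmem : ∀ z, Ξ z ∈ 𝒜 (a - b) := by
    intro z
    induction z using TensorProduct.induction_on with
    | zero => rw [map_zero]; exact zero_mem _
    | tmul x y => rw [hΞ]; exact Submodule.smul_mem _ _ (H98.gproj_mem 𝒜 _ x)
    | add z z' h h' => rw [map_add]; exact add_mem h h'
  have hpieceQ : ∀ (n : ℤ) (p : P), p ∈ 𝒬 n → φ p ∈ GrSeg.segrePiece k (fun n : ℤ => 𝒜 (n + a)) (fun n : ℤ => ℬ (n + b)) n := by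
    intro n p hp
    have h1 : φ p ∈ φ '' (𝒬 n : Set P) := ⟨p, hp, rfl⟩
    rw [hP.image_piece n] at h1
    exact h1
  have hpieceQ' : ∀ (n : ℤ) (v : R ⊗[k] S), v ∈ GrSeg.segrePiece k (fun n : ℤ => 𝒜 (n + a)) (fun n : ℤ => ℬ (n + b)) n → ∃ p ∈ 𝒬 n, φ p = v := by
    intro n v hv
    have h1 : v ∈ (GrSeg.segrePiece k (fun n : ℤ => 𝒜 (n + a)) (fun n : ℤ => ℬ (n + b)) n : Set (R ⊗[k] S)) := hv
    rw [← hP.image_piece n] at h1
    exact h1
  have hK1 : ∀ n : ℤ, n ≠ -b → ∀ v ∈ GrSeg.segrePiece k (fun n : ℤ => 𝒜 (n + a)) (fun n : ℤ => ℬ (n + b)) n, Ξ v = 0 := by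
    intro n hn v hv
    refine H98.segrePiece_induction (motive := fun v => Ξ v = 0) ?_ (map_zero _) ?_ ?_ hv
    · intro x _ y hy
      have hy' : y ∈ ℬ (n + b) := hy
      rw [hΞ, H98.gproj_of_mem_ne ℬ hy' (by omega), map_zero, zero_smul]
    · intro v w hv hw; rw [map_add, hv, hw, add_zero]
    · intro c v hv; rw [map_smul, hv, smul_zero]
  have hK3a : ∀ (i : ℤ), 0 < i → ∀ u ∈ GrSeg.segrePiece k 𝒜 ℬ i, ∀ (n : ℤ), ∀ v ∈ GrSeg.segrePiece k (fun n : ℤ => 𝒜 (n + a)) (fun n : ℤ => ℬ (n + b)) n,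
      Ξ (GrSeg.act k R S R S u v) = 0 := by
    intro i hi u hu n v hv
    refine H98.segrePiece_induction
      (motive := fun u => Ξ (GrSeg.act k R S R S u v) = 0) ?_ ?_ ?_ ?_ hu
    · intro r hr s hs
      refine H98.segrePiece_induction
        (motive := fun v => Ξ (GrSeg.act k R S R S (r ⊗ₜ[k] s) v) = 0) ?_ ?_ ?_ ?_ hv
      · intro x hx y hy
        have hy' : y ∈ ℬ (n + b) := hy
        rw [GrSeg.act_tmul, hΞ]
        by_cases h0 : i + (n + b) = 0
        · have hy0 : y = 0 := by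
            have hneg : n + b < 0 := by omega
            rw [hposS _ hneg] at hy'
            exact (Submodule.mem_bot k).mp hy'
          rw [hy0, smul_zero, map_zero, map_zero, zero_smul]
        · have hsy : s • y ∈ ℬ (i + (n + b)) := by
            rw [smul_eq_mul]; exact SetLike.mul_mem_graded hs hy'
          rw [H98.gproj_of_mem_ne ℬ hsy h0, map_zero, zero_smul]
      · rw [map_zero, map_zero]
      · intro v w hv hw; rw [map_add, map_add, hv, hw, add_zero]
      · intro c v hv; rw [map_smul, map_smul, hv, smul_zero]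
    · rw [map_zero, LinearMap.zero_apply, map_zero]
    · intro u w hu hw; rw [map_add, LinearMap.add_apply, map_add, hu, hw, add_zero]
    · intro c u hu; rw [map_smul, LinearMap.smul_apply, map_smul, hu, smul_zero]
  have hΘt : ∀ (i : ℤ), 0 < i → ∀ t ∈ 𝒯 i, ∀ p : P, Ξ (φ (t • p)) = 0 := by
    intro i hi t ht p
    have hψt : ψ t ∈ GrSeg.segrePiece k 𝒜 ℬ i := by
      rw [← hψpiece i]; exact Submodule.mem_map_of_mem ht
    induction p using DirectSum.Decomposition.inductionOn 𝒬 with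
    | zero => rw [smul_zero, map_zero, map_zero]
    | @homogeneous n p =>
      rw [hP.map_smul]; exact hK3a i hi _ hψt n _ (hpieceQ n p p.2)
    | add p p' hp hp' => rw [smul_add, map_add, map_add, hp, hp', add_zero]
  have hΘm : ∀ t : T, t ∈ Submodule.span T (⋃ n ∈ Set.Ioi (0 : ℤ), (𝒯 n : Set T)) →
      ∀ p : P, Ξ (φ (t • p)) = 0 := by
    intro t ht'
    induction ht' using Submodule.span_induction with
    | mem t ht =>
      simp only [Set.mem_iUnion, Set.mem_Ioi, SetLike.mem_coe, exists_prop] at ht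
      obtain ⟨i, hi, hti⟩ := ht
      exact hΘt i hi t hti
    | zero => intro p; rw [zero_smul, map_zero, map_zero]
    | add t t' _ _ h h' => intro p; rw [add_smul, map_add, map_add, h p, h' p, add_zero]
    | smul c t _ h => intro p; rw [smul_eq_mul, mul_comm, mul_smul]; exact h (c • p)
  have hΘN : ∀ q ∈ mT.toIdeal • (⊤ : Submodule T P), Ξ (φ q) = 0 := by
    intro q hq
    refine Submodule.smul_induction_on hq ?_ ?_
    · intro t ht p _
      rw [hmT] at ht
      exact hΘm t ht p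
    · intro q q' hq hq'; rw [map_add, map_add, hq, hq', add_zero]
  have hT1 : ∀ t ∈ 𝒯 1, t ∈ mT.toIdeal := by
    intro t ht
    rw [hmT]
    exact Ideal.subset_span (Set.mem_biUnion (Set.mem_Ioi.mpr one_pos) ht)
  have hhigh : ∀ n : ℤ, 1 ≤ n + b → ∀ p ∈ 𝒬 n, p ∈ mT.toIdeal • (⊤ : Submodule T P) := by
    intro n hn p hp
    have hφp := hpieceQ n p hp
    have hall : ∀ v ∈ GrSeg.segrePiece k (fun n : ℤ => 𝒜 (n + a)) (fun n : ℤ => ℬ (n + b)) n,
        v ∈ ((mT.toIdeal • (⊤ : Submodule T P)).restrictScalars k).map φ := by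
      intro v hv
      refine H98.segrePiece_induction
        (motive := fun v => v ∈ ((mT.toIdeal • (⊤ : Submodule T P)).restrictScalars k).map φ)
        ?_ (zero_mem _) (fun _ _ h h' => add_mem h h') (fun c _ h => Submodule.smul_mem _ c h) hv
      intro x hx y hy
      have hx0 : x ∈ 𝒜 (n + a) := hx
      have hy0 : y ∈ ℬ (n + b) := hy
      have hxW : x ∈ H98.stdW 𝒜 (n + a) := H98.std_mem 𝒜 hstdR (by omega) hx0
      have hyW : y ∈ H98.stdW ℬ (n + b) := H98.std_mem ℬ hstdS (by omega) hy0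
      refine Submodule.span_induction (p := fun x _ => x ⊗ₜ[k] y ∈
        ((mT.toIdeal • (⊤ : Submodule T P)).restrictScalars k).map φ) ?_ ?_ ?_ ?_ hxW
      · rintro _ ⟨r, hr, x', hx', rfl⟩
        refine Submodule.span_induction (p := fun y _ => (r * x') ⊗ₜ[k] y ∈
          ((mT.toIdeal • (⊤ : Submodule T P)).restrictScalars k).map φ) ?_ ?_ ?_ ?_ hyW
        · rintro _ ⟨s, hs, y', hy', rfl⟩
          obtain ⟨t, ht, hψt⟩ : ∃ t ∈ 𝒯 1, ψ t = r ⊗ₜ[k] s := by
            have hmem : r ⊗ₜ[k] s ∈ (𝒯 1).map ψ.toLinearMap := by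
              rw [hψpiece 1]; exact H98.tmul_mem_segrePiece hr hs
            obtain ⟨t, ht, h⟩ := hmem
            exact ⟨t, ht, h⟩
          have hx'' : x' ∈ 𝒜 (n - 1 + a) := by convert hx' using 2; ring
          have hy'' : y' ∈ ℬ (n - 1 + b) := by convert hy' using 2; ring
          obtain ⟨q, hq, hφq⟩ := hpieceQ' (n - 1) (x' ⊗ₜ[k] y')
            (H98.tmul_mem_segrePiece (ℳ := fun n : ℤ => 𝒜 (n + a))
              (𝒩 := fun n : ℤ => ℬ (n + b)) hx'' hy'')
          refine ⟨t • q, Submodule.smul_mem_smul (hT1 t ht) Submodule.mem_top, ?_⟩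
          rw [hP.map_smul, hψt, hφq, GrSeg.act_tmul, smul_eq_mul, smul_eq_mul]
        · rw [TensorProduct.tmul_zero]; exact zero_mem _
        · intro y y' _ _ h h'; rw [TensorProduct.tmul_add]; exact add_mem h h'
        · intro c y _ h; rw [TensorProduct.tmul_smul]; exact Submodule.smul_mem _ c h
      · rw [TensorProduct.zero_tmul]; exact zero_mem _
      · intro x x' _ _ h h'; rw [TensorProduct.add_tmul]; exact add_mem h h'
      · intro c x _ h; rw [← TensorProduct.smul_tmul']; exact Submodule.smul_mem _ c h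
    obtain ⟨q, hq, hφq⟩ := hall _ hφp
    rw [← hP.injective hφq]; exact hq
  have hlow : ∀ n : ℤ, n + b < 0 → ∀ p ∈ 𝒬 n, p = 0 := by
    intro n hn p hp
    apply hP.injective
    rw [map_zero]
    refine H98.segrePiece_induction (motive := fun v => v = 0) ?_ rfl ?_ ?_ (hpieceQ n p hp)
    · intro x _ y hy
      have hy' : y ∈ ℬ (n + b) := hy
      rw [hposS _ hn] at hy'
      rw [(Submodule.mem_bot k).mp hy', TensorProduct.tmul_zero]
    · intro v w hv hw; rw [hv, hw, add_zero]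
    · intro c v hv; rw [hv, smul_zero]
  have hmid : ∀ v ∈ GrSeg.segrePiece k (fun n : ℤ => 𝒜 (n + a)) (fun n : ℤ => ℬ (n + b)) (-b), v = (Ξ v) ⊗ₜ[k] (1 : S) := by
    intro v hv
    refine H98.segrePiece_induction (motive := fun v => v = (Ξ v) ⊗ₜ[k] (1 : S)) ?_ ?_ ?_ ?_ hv
    · intro x hx y hy
      have hx' : x ∈ 𝒜 (a - b) := by
        have hx0 : x ∈ 𝒜 (-b + a) := hx
        convert hx0 using 2; ring
      have hy' : y ∈ ℬ 0 := by
        have hy0 : y ∈ ℬ (-b + b) := hy
        convert hy0 using 2; ring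
      obtain ⟨c, hc⟩ : ∃ c : k, c • (1 : S) = y := by
        have hy2 := hy'
        rw [h0S] at hy2; exact Submodule.mem_span_singleton.mp hy2
      rw [hΞ, H98.gproj_of_mem_same ℬ hy', H98.gproj_of_mem_same 𝒜 hx', ← hc, map_smul, hε,
        smul_eq_mul, mul_one, TensorProduct.smul_tmul]
    · rw [map_zero, TensorProduct.zero_tmul]
    · intro v w hv hw; rw [map_add, TensorProduct.add_tmul, ← hv, ← hw]
    · intro c v hv; rw [map_smul, ← TensorProduct.smul_tmul', ← hv]
  have hsum : ∀ p : P, Ξ (φ p) = Ξ (φ ((DirectSum.decompose 𝒬 p (-b) : 𝒬 (-b)) : P)) := by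
    intro p
    induction p using DirectSum.Decomposition.inductionOn 𝒬 with
    | zero => simp
    | @homogeneous n p =>
      by_cases hn : n = -b
      · subst hn; rw [DirectSum.decompose_of_mem_same 𝒬 p.2]
      · rw [hK1 n hn _ (hpieceQ n p p.2), DirectSum.decompose_of_mem_ne 𝒬 p.2 hn, map_zero,
          map_zero]
    | add p p' hp hp' =>
      rw [map_add, map_add, hp, hp', DirectSum.decompose_add, DirectSum.add_apply,
        AddSubgroup.coe_add, map_add, map_add]
  have hker_sub : ∀ p : P, Ξ (φ p) = 0 → p ∈ mT.toIdeal • (⊤ : Submodule T P) := by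
    intro p hp
    have hcomp : ∀ n, ((DirectSum.decompose 𝒬 p n : 𝒬 n) : P) ∈
        mT.toIdeal • (⊤ : Submodule T P) := by
      intro n
      rcases lt_trichotomy (n + b) 0 with hn | hn | hn
      · rw [hlow n hn _ (SetLike.coe_mem _)]; exact zero_mem _
      · have hnb : n = -b := by omega
        subst hnb
        have h0 : Ξ (φ ((DirectSum.decompose 𝒬 p (-b) : 𝒬 (-b)) : P)) = 0 := by
          rw [← hsum p]; exact hp
        have h1 := hmid _ (hpieceQ (-b) _ (SetLike.coe_mem (DirectSum.decompose 𝒬 p (-b))))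
        rw [h0, TensorProduct.zero_tmul] at h1
        have h2 : ((DirectSum.decompose 𝒬 p (-b) : 𝒬 (-b)) : P) = 0 :=
          hP.injective (by rw [h1, map_zero])
        rw [h2]; exact zero_mem _
      · exact hhigh n (by omega) _ (SetLike.coe_mem _)
    rw [← DirectSum.sum_support_decompose 𝒬 p]
    exact sum_mem (fun n _ => hcomp n)
  let Θ : P →ₗ[k] 𝒜 (a - b) :=
    LinearMap.codRestrict (𝒜 (a - b)) (Ξ ∘ₗ φ) (fun p => hΞmem (φ p))
  have hΘ : ∀ p, (Θ p : R) = Ξ (φ p) := fun _ => rfl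
  have hsurj : Function.Surjective Θ := by
    rintro ⟨x, hx⟩
    have hx' : x ∈ 𝒜 (-b + a) := by convert hx using 2; ring
    have h1' : (1 : S) ∈ ℬ (-b + b) := by rw [neg_add_cancel]; exact SetLike.one_mem_graded ℬ
    obtain ⟨p, _, hφp⟩ := hpieceQ' (-b) (x ⊗ₜ[k] (1 : S))
      (H98.tmul_mem_segrePiece (ℳ := fun n : ℤ => 𝒜 (n + a))
        (𝒩 := fun n : ℤ => ℬ (n + b)) hx' h1')
    refine ⟨p, Subtype.ext ?_⟩
    rw [hΘ, hφp, hΞ, H98.gproj_of_mem_same ℬ (SetLike.one_mem_graded ℬ), hε, one_smul,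
      H98.gproj_of_mem_same 𝒜 hx]
  have hkerΘ : LinearMap.ker Θ = (mT.toIdeal • (⊤ : Submodule T P)).restrictScalars k := by
    ext p
    rw [LinearMap.mem_ker, Submodule.restrictScalars_mem]
    constructor
    · intro h
      exact hker_sub p (by rw [← hΘ, h]; rfl)
    · intro h
      exact Subtype.ext (by rw [hΘ, hΘN p h]; rfl)
  let e : (P ⧸ (mT.toIdeal • (⊤ : Submodule T P))) ≃ₗ[k] 𝒜 (a - b) :=
    (Submodule.Quotient.restrictScalarsEquiv k (mT.toIdeal • (⊤ : Submodule T P))).symm ≪≫ₗ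
      (Submodule.quotEquivOfEq _ _ hkerΘ.symm) ≪≫ₗ (Θ.quotKerEquivOfSurjective hsurj)
  exact e.finrank_eq

end Groth.Agent.S19750
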