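import Groth.Statements.S19751
import Groth.Agent.H98.GrNak

set_option autoImplicit false
universe u
open GrDual

namespace Groth.Agent.S19751

/-- Let R be a graded ring defined over a field k with m = R_+, let F and M be finitely generated graded
R-modules and f : F → M a surjective homomorphism of graded R-modules, with dual f^* : M^* → F^* on
graded k-duals. Then f is minimal, that is Ker f ⊆ m F, if and only if f^* is essential: an
injective homomorphism of graded modules such that every nonzero graded submodule of F^* meets its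
image. Here a graded ring defined over k is a commutative k-algebra of finite type, graded in
nonnegative degrees by k-subspaces with degree-zero part k·1, and R_+ is the ideal spanned by the
R_n with n > 0; the graded k-dual M^* = ⊕_n Hom_k(M_{−n}, k) of a graded R-module M (with r ∈ R
acting by (r f)(x) = f(r x)) is presented abstractly as a graded R-module D with a k-bilinear
pairing β : D × M → k compatible with the R-actions, under which D_n pairs to zero with M_m for m ≠
−n and is identified with the full dual space of M_{−n}; f^* is presented as the R-linear map g :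
M^* → F^* with β_F(g d, x) = β_M(d, f x). -/
theorem result (k : Type u) [Field k] (R : Type u) [CommRing R] [Algebra k R] (𝒜 : ℤ → Submodule k R) [GradedAlgebra 𝒜] (hposR : ∀ n : ℤ, n < 0 → 𝒜 n = ⊥) (h0R : 𝒜 0 = Submodule.span k {(1 : R)}) [Algebra.FiniteType k R] (mR : HomogeneousIdeal 𝒜) (hmR : mR.toIdeal = Ideal.span (⋃ n ∈ Set.Ioi (0 : ℤ), (𝒜 n : Set R))) (F : Type u) [AddCommGroup F] [Module R F] [Module k F] [IsScalarTower k R F] (ℱ : ℤ → AddSubgroup F) [DirectSum.Decomposition ℱ] [SetLike.GradedSMul 𝒜 ℱ] [Module.Finite R F] (M : Type u) [AddCommGroup M] [Module R M] [Module k M] [IsScalarTower k R M] (ℳ : ℤ → AddSubgroup M) [DirectSum.Decomposition ℳ] [SetLike.GradedSMul 𝒜 ℳ] [Module.Finite R M] (f : F →ₗ[R] M) (hf : Function.Surjective f) (hfgr : GrLC.IsGrHom ℱ ℳ f) (DM : Type u) [AddCommGroup DM] [Module R DM] [Module k DM] [IsScalarTower k R DM] (𝒟M : ℤ → AddSubgroup DM) [DirectSum.Decomposition 𝒟M] [SetLike.GradedSMul 𝒜 𝒟M] (βM : DM →ₗ[k] M →ₗ[k] k) (hDM : GrSeg.IsGDual R ℳ 𝒟M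 βM) (DF : Type u) [AddCommGroup DF] [Module R DF] [Module k DF] [IsScalarTower k R DF] (𝒟F : ℤ → AddSubgroup DF) [DirectSum.Decomposition 𝒟F] [SetLike.GradedSMul 𝒜 𝒟F] (βF : DF →ₗ[k] F →ₗ[k] k) (hDF : GrSeg.IsGDual R ℱ 𝒟F βF) (g : DM →ₗ[R] DF) (hg : GrSeg.IsGDualMap βM βF f g) : LinearMap.ker f ≤ mR.toIdeal • (⊤ : Submodule R F) ↔ GrLC.IsStarEss 𝒟M 𝒟F g := by
  classical
  have hginj : Function.Injective g := by
    rw [← LinearMap.ker_eq_bot, LinearMap.ker_eq_bot']
    intro d hd
    apply H98.gdual_eq_zero_of_forall hDM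
    intro y
    obtain ⟨x, rfl⟩ := hf y
    rw [← hg, hd, map_zero, LinearMap.zero_apply]
  have hggr : GrLC.IsGrHom 𝒟M 𝒟F g := H98.gdualMap_isGrHom hDM hDF hfgr hg
  have hNhom : (mR.toIdeal • (⊤ : Submodule R F)).IsHomogeneous ℱ :=
    H98.irr_smul_top_isHomogeneous 𝒜 ℱ mR.toIdeal hmR
  constructor
  · intro hker
    refine ⟨hginj, hggr, ?_⟩
    intro P hP hPne
    obtain ⟨i0, hi0⟩ := H98.exists_bound_below 𝒜 ℱ hposR
    have hDFzero : ∀ n : ℤ, -i0 < n → ∀ d ∈ 𝒟F n, d = 0 := by
      intro n hn d hd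
      apply hDF.eq_zero n d hd
      intro x hx
      rw [hi0 (-n) (by omega) x hx, map_zero]
    have hsoc : ∀ (t : ℕ) (n : ℤ), -i0 < n + t → ∀ d ∈ 𝒟F n, d ≠ 0 → d ∈ P →
        ∃ (n' : ℤ) (d'' : DF), d'' ∈ 𝒟F n' ∧ d'' ≠ 0 ∧ d'' ∈ P ∧
          ∀ s ∈ mR.toIdeal, s • d'' = 0 := by
      intro t
      induction t with
      | zero =>
        intro n hn d hd hd0 _
        exact absurd (hDFzero n (by simpa using hn) d hd) hd0
      | succ t ih =>
        intro n hn d hd hd0 hdP
        by_cases hall : ∀ (a : ℤ), 0 < a → ∀ s ∈ 𝒜 a, s • d = 0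
        · refine ⟨n, d, hd, hd0, hdP, ?_⟩
          have hkill : ∀ s : R, s ∈ Submodule.span R (⋃ n ∈ Set.Ioi (0 : ℤ), (𝒜 n : Set R)) →
              s • d = 0 := by
            intro s hs'
            induction hs' using Submodule.span_induction with
            | mem s hs =>
              simp only [Set.mem_iUnion, Set.mem_Ioi, SetLike.mem_coe, exists_prop] at hs
              obtain ⟨a, ha, hsa⟩ := hs
              exact hall a ha s hsa
            | zero => exact zero_smul _ _
            | add s s' _ _ h h' => rw [add_smul, h, h', add_zero]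
            | smul c s _ h => rw [smul_eq_mul, mul_smul, h, smul_zero]
          intro s hs
          rw [hmR] at hs
          exact hkill s hs
        · push_neg at hall
          obtain ⟨a, ha, s, hs, hsd⟩ := hall
          exact ih (a + n) (by push_cast at hn ⊢; omega) (s • d)
            (H98.gsmul_mem 𝒜 𝒟F hs hd) hsd (P.smul_mem s hdP)
    obtain ⟨d, hdP, hd0⟩ := Submodule.exists_mem_ne_zero_of_ne_bot hPne
    obtain ⟨n, hn⟩ : ∃ n, ((DirectSum.decompose 𝒟F d n : 𝒟F n) : DF) ≠ 0 := by
      by_contra hall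
      push_neg at hall
      exact hd0 (H98.eq_zero_of_comp_eq_zero 𝒟F hall)
    obtain ⟨n', d'', hd''n, hd''0, hd''P, hd''soc⟩ :=
      hsoc (Int.toNat (-i0 - n + 1)) n (by omega) _ (SetLike.coe_mem _) hn (hP n hdP)
    obtain ⟨d₀, _, hd₀⟩ := H98.gdualMap_mem_range hDM hDF hf hfgr hg hd''n (by
      intro x hx
      have hxN : x ∈ mR.toIdeal • (⊤ : Submodule R F) := hker (LinearMap.mem_ker.mpr hx)
      refine Submodule.smul_induction_on hxN ?_ ?_
      · intro s hs y _
        rw [← hDF.map_smul, hd''soc s hs, map_zero, LinearMap.zero_apply]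
      · intro y y' hy hy'
        rw [map_add, hy, hy', add_zero])
    intro hbot
    have hmem : d'' ∈ P ⊓ LinearMap.range g := ⟨hd''P, ⟨d₀, hd₀⟩⟩
    rw [hbot] at hmem
    exact hd''0 ((Submodule.mem_bot R).mp hmem)
  · intro hess
    intro x hx
    by_contra hxN
    obtain ⟨i, hi⟩ : ∃ i, ((DirectSum.decompose ℱ x i : ℱ i) : F) ∉
        mR.toIdeal • (⊤ : Submodule R F) := by
      by_contra hall
      push_neg at hall
      apply hxN
      rw [← DirectSum.sum_support_decompose ℱ x]
      exact sum_mem (fun i _ => hall i)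
    have hxi_mem : ((DirectSum.decompose ℱ x i : ℱ i) : F) ∈ ℱ i := SetLike.coe_mem _
    have hxi_ker : f ((DirectSum.decompose ℱ x i : ℱ i) : F) = 0 := by
      rw [← H98.grHom_comp ℱ ℳ hfgr x i, LinearMap.mem_ker.mp hx, DirectSum.decompose_zero]
      rfl
    generalize ((DirectSum.decompose ℱ x i : ℱ i) : F) = xi at hi hxi_mem hxi_ker
    obtain ⟨lam, hlam_x, hlam_N⟩ := Submodule.exists_dual_map_eq_bot_of_notMem
      (p := (mR.toIdeal • (⊤ : Submodule R F)).restrictScalars k) (x := xi) hi inferInstance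
    obtain ⟨d', hd', hd'lam⟩ := hDF.exists_eq (-i) lam
    have hd'lam' : ∀ y ∈ ℱ i, βF d' y = lam y := fun y hy => hd'lam y (by rwa [neg_neg])
    have hd'N : ∀ z ∈ mR.toIdeal • (⊤ : Submodule R F), βF d' z = 0 := by
      intro z hz
      rw [H98.gdual_apply_eq_comp hDF (by ring : i = -(-i)) hd' z,
        hd'lam' _ (SetLike.coe_mem _)]
      have hmem : lam ((DirectSum.decompose ℱ z i : ℱ i) : F) ∈
          ((mR.toIdeal • (⊤ : Submodule R F)).restrictScalars k).map lam :=
        ⟨_, hNhom i hz, rfl⟩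
      rw [hlam_N] at hmem
      exact (Submodule.mem_bot k).mp hmem
    have hd'soc : ∀ s ∈ mR.toIdeal, s • d' = 0 := by
      intro s hs
      apply H98.gdual_eq_zero_of_forall hDF
      intro y
      rw [hDF.map_smul]
      exact hd'N _ (Submodule.smul_mem_smul hs Submodule.mem_top)
    have hd'x : βF d' xi ≠ 0 := by rw [hd'lam' xi hxi_mem]; exact hlam_x
    have hd'0 : d' ≠ 0 := fun h => hd'x (by rw [h, map_zero, LinearMap.zero_apply])
    have hspan : ∀ z ∈ Submodule.span R {d'}, ∃ c : k, z = c • d' := by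
      intro z hz
      obtain ⟨r, rfl⟩ := Submodule.mem_span_singleton.mp hz
      obtain ⟨c, hc⟩ := H98.exists_sub_mem_irr 𝒜 hposR h0R r
      rw [← hmR] at hc
      refine ⟨c, ?_⟩
      have := hd'soc _ hc
      rw [sub_smul, smul_assoc, one_smul, sub_eq_zero] at this
      exact this
    have hPhom : (Submodule.span R {d'}).IsHomogeneous 𝒟F := by
      intro j z hz
      obtain ⟨c, rfl⟩ := hspan z hz
      have hcd : c • d' ∈ 𝒟F (-i) := H98.ksmul_mem 𝒜 𝒟F c hd'
      by_cases hj : -i = j
      · subst hj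
        rw [DirectSum.decompose_of_mem_same 𝒟F hcd]; exact hz
      · rw [DirectSum.decompose_of_mem_ne 𝒟F hcd hj]; exact zero_mem _
    have hPne : Submodule.span R {d'} ≠ ⊥ := by
      intro h
      have hmem : d' ∈ Submodule.span R {d'} := Submodule.mem_span_singleton_self d'
      rw [h] at hmem
      exact hd'0 ((Submodule.mem_bot R).mp hmem)
    have hmeet := hess.essential _ hPhom hPne
    obtain ⟨z, hz, hz0⟩ := Submodule.exists_mem_ne_zero_of_ne_bot hmeet
    obtain ⟨c, rfl⟩ := hspan z hz.1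
    obtain ⟨d₀, hd₀⟩ := hz.2
    have h1 : βF (c • d') xi = 0 := by rw [← hd₀, hg, hxi_ker, map_zero]
    rw [map_smul, LinearMap.smul_apply, smul_eq_mul] at h1
    rcases mul_eq_zero.mp h1 with hc | hc
    · exact hz0 (by rw [hc, zero_smul])
    · exact hd'x hc

end Groth.Agent.S19751
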