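import Groth.Statements.S19753
import Groth.Agent.H21.SegreModDim

set_option autoImplicit false
universe u
open scoped TensorProduct
open GrSegre

namespace Groth.Agent.S19753

open Groth.Agent.H21.SegreDim

/-- Let R and S be graded rings defined over a field k, both generated over k by their degree-one parts
and of positive Krull dimension, T = R # S, and let M and N be finitely generated graded modules
over R and S respectively, neither of them Artinian. Then dim (M # N) = dim M + dim N − 1,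
dimensions being Krull dimensions of supports. Here a graded ring defined over k is a commutative
k-algebra of finite type, graded in nonnegative degrees by k-subspaces with degree-zero part k·1;
the Segre product T = R # S = ⊕_n R_n ⊗_k S_n is presented abstractly as a graded k-algebra T with
an injective k-algebra homomorphism ψ : T → R ⊗_k S carrying T_n onto the k-span of the elementary
tensors a ⊗ b with a ∈ R_n, b ∈ S_n; the Segre product M # N = ⊕_n M_n ⊗_k N_n of a graded R-module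
M and a graded S-module N is presented abstractly as a graded T-module P with an injective k-linear
map φ : P → M ⊗_k N carrying P_n onto the k-span of the tensors x ⊗ y with x ∈ M_n, y ∈ N_n and
turning the action of t ∈ T into that of ψ(t) (acting factorwise on M ⊗_k N). -/
theorem result (k : Type u) [Field k] (R : Type u) [CommRing R] [Algebra k R] (𝒜 : ℤ → Submodule k R) [GradedAlgebra 𝒜] (hposR : ∀ n : ℤ, n < 0 → 𝒜 n = ⊥) (h0R : 𝒜 0 = Submodule.span k {(1 : R)}) [Algebra.FiniteType k R] (S : Type u) [CommRing S] [Algebra k S] (ℬ : ℤ → Submodule k S) [GradedAlgebra ℬ] (hposS : ∀ n : ℤ, n < 0 → ℬ n = ⊥) (h0S : ℬ 0 = Submodule.span k {(1 : S)}) [Algebra.FiniteType k S] (T : Type u) [CommRing T] [Algebra k T] (𝒯 : ℤ → Submodule k T) [GradedAlgebra 𝒯] (ψ : T →ₐ[k] TensorProduct k R S) (hT : GrSeg.IsSegreRing 𝒜 ℬ 𝒯 ψ) (hstdR : Ideal.span (⋃ n ∈ Set.Ioi (0 : ℤ), (𝒜 n : Set R)) = Ideal.span ((𝒜 1 : Submodule k R) : Set R)) (hstdS : Ideal.span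 (⋃ n ∈ Set.Ioi (0 : ℤ), (ℬ n : Set S)) = Ideal.span ((ℬ 1 : Submodule k S) : Set S)) (hr1 : 1 ≤ ringKrullDim R) (hs1 : 1 ≤ ringKrullDim S) (M : Type u) [AddCommGroup M] [Module R M] [Module k M] [IsScalarTower k R M] (ℳ : ℤ → AddSubgroup M) [DirectSum.Decomposition ℳ] [SetLike.GradedSMul 𝒜 ℳ] [Module.Finite R M] (N : Type u) [AddCommGroup N] [Module S N] [Module k N] [IsScalarTower k S N] (𝒩 : ℤ → AddSubgroup N) [DirectSum.Decomposition 𝒩] [SetLike.GradedSMul ℬ 𝒩] [Module.Finite S N] (P : Type u) [AddCommGroup P] [Module T P] [Module k P] [IsScalarTower k T P] (𝒬 : ℤ → AddSubgroup P) [DirectSum.Decomposition 𝒬] (φ : P →ₗ[k] TensorProduct k M N) (hP : GrSeg.IsSegreMod ψ ℳ 𝒩 𝒬 φ) (dM dN : ℕ) (hdM : Module.supportDim R M = dM) (hdN : Module.supportDim S N = dN) (hMA : ¬ IsArtinian R M) (hNA : ¬ IsArtinian S N) : Module.supportDim T P = ((dM + dN - 1 : ℕ) : WithBot ℕ∞) := by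
  classical
  obtain ⟨hψ, hdegT⟩ := hT
  have hdegT' : ∀ n : ℤ, (𝒯 n).map ψ.toLinearMap =
      Submodule.span k {x : R ⊗[k] S | ∃ a ∈ 𝒜 n, ∃ b ∈ ℬ n, x = a ⊗ₜ[k] b} := hdegT
  haveI : Algebra.FiniteType k T :=
    segre_finiteType 𝒜 ℬ 𝒯 ψ hposR h0R hposS h0S hψ hdegT'
  haveI : IsNoetherianRing R := Algebra.FiniteType.isNoetherianRing k R
  haveI : IsNoetherianRing S := Algebra.FiniteType.isNoetherianRing k S
  have h1r : 1 ≤ dM := one_le_of_not_isArtinian dM hdM hMA
  have h1s : 1 ≤ dN := one_le_of_not_isArtinian dN hdN hNA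
  apply le_antisymm
  · exact supportDim_segre_le 𝒜 ℬ ψ φ hposR h0R h0S
      (segre_map_mem_Dsub 𝒜 ℬ 𝒯 ψ hdegT') hP.injective hP.map_smul
      (Module.annihilator R M) (annihilator_isHomogeneous 𝒜 ℳ) le_rfl
      (Module.annihilator S N) (annihilator_isHomogeneous ℬ 𝒩) le_rfl dM dN
      (by rw [← Module.supportDim_eq_ringKrullDim_quotient_annihilator, hdM])
      (by rw [← Module.supportDim_eq_ringKrullDim_quotient_annihilator, hdN]) h1r
  · obtain ⟨x, hx1, hxM⟩ := exists_degree_one_family 𝒜 hposR h0R hstdR M dM hdM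
    obtain ⟨y, hy1, hyN⟩ := exists_degree_one_family ℬ hposS h0S hstdS N dN hdN
    obtain ⟨a, rfl⟩ : ∃ a, dM = a + 1 := ⟨dM - 1, by omega⟩
    obtain ⟨b, rfl⟩ : ∃ b, dN = b + 1 := ⟨dN - 1, by omega⟩
    have h7 : a + 1 + (b + 1) - 1 = b + 1 + a := by omega
    rw [h7]
    have hpiece1 : ∀ u ∈ 𝒜 1, ∀ v ∈ ℬ 1, ∃ t : T, ψ t = u ⊗ₜ[k] v := by
      intro u hu v hv
      have h1 : u ⊗ₜ[k] v ∈ (𝒯 1).map ψ.toLinearMap := by
        rw [hdegT' 1]; exact Submodule.subset_span ⟨u, hu, v, hv, rfl⟩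
      obtain ⟨t, _, ht⟩ := Submodule.mem_map.mp h1
      exact ⟨t, ht⟩
    have hPpiece : ∀ c : ℤ, ∀ m ∈ ℳ c, ∀ n ∈ 𝒩 c, ∃ p : P, φ p = m ⊗ₜ[k] n := by
      intro c m hm n hn
      have h1 : m ⊗ₜ[k] n ∈ (GrSeg.segrePiece k ℳ 𝒩 c : Set (M ⊗[k] N)) :=
        Submodule.subset_span ⟨m, hm, n, hn, rfl⟩
      rw [← hP.image_piece c] at h1
      obtain ⟨p, _, hp⟩ := h1
      exact ⟨p, hp⟩
    exact le_supportDim_segre 𝒜 ℬ ψ φ ℳ 𝒩 x hx1 y hy1 hxM hyN hpiece1 hPpiece hP.map_smul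

end Groth.Agent.S19753
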