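import Groth.Statements.S19754
import Groth.Agent.H21.SegreCM

set_option autoImplicit false
universe u
open scoped TensorProduct
open GrSegre

namespace Groth.Agent.S19754

open Groth.Agent.H21.SegreDim

/-- Let R and S be graded rings defined over a field k, T = R # S, M a finitely generated graded
Cohen–Macaulay R-module of dimension r ≥ 1 and N a finitely generated graded Cohen–Macaulay S-module
of dimension s ≥ 1. Then either M # N = 0 or dim (M # N) = r + s − 1. The letters r and s stand here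
for the dimensions of the modules M and N themselves and are not assumed to equal dim R and dim S;
the proof by homogeneous parameter systems of M and N establishes this general form. Here a graded
ring defined over k is a commutative k-algebra of finite type, graded in nonnegative degrees by
k-subspaces with degree-zero part k·1; the Segre product T = R # S = ⊕_n R_n ⊗_k S_n is presented
abstractly as a graded k-algebra T with an injective k-algebra homomorphism ψ : T → R ⊗_k S carrying
T_n onto the k-span of the elementary tensors a ⊗ b with a ∈ R_n, b ∈ S_n; the Segre product M # N =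
⊕_n M_n ⊗_k N_n of a graded R-module M and a graded S-module N is presented abstractly as a graded
T-module P with an injective k-linear map φ : P → M ⊗_k N carrying P_n onto the k-span of the
tensors x ⊗ y with x ∈ M_n, y ∈ N_n and turning the action of t ∈ T into that of ψ(t) (acting
factorwise on M ⊗_k N); a module over a ring is called Cohen–Macaulay when each of its localizations
at a prime ideal is zero or a Cohen–Macaulay module over the local ring (dimension of the support
equal to the depth), and the dimension of a module is the Krull dimension of its support. -/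
theorem result (k : Type u) [Field k] (R : Type u) [CommRing R] [Algebra k R] (𝒜 : ℤ → Submodule k R) [GradedAlgebra 𝒜] (hposR : ∀ n : ℤ, n < 0 → 𝒜 n = ⊥) (h0R : 𝒜 0 = Submodule.span k {(1 : R)}) [Algebra.FiniteType k R] (S : Type u) [CommRing S] [Algebra k S] (ℬ : ℤ → Submodule k S) [GradedAlgebra ℬ] (hposS : ∀ n : ℤ, n < 0 → ℬ n = ⊥) (h0S : ℬ 0 = Submodule.span k {(1 : S)}) [Algebra.FiniteType k S] (T : Type u) [CommRing T] [Algebra k T] (𝒯 : ℤ → Submodule k T) [GradedAlgebra 𝒯] (ψ : T →ₐ[k] TensorProduct k R S) (hT : GrSeg.IsSegreRing 𝒜 ℬ 𝒯 ψ) (M : Type u) [AddCommGroup M] [Module R M] [Module k M] [IsScalarTower k R M] (ℳ : ℤ → AddSubgroup M) [DirectSum.Decomposition ℳ] [SetLike.GradedSMul 𝒜 ℳ] [Module.Finite R M] (N : Type u) [AddCommGroup N] [Module S N] [Module k N] [IsScalarTower k S N] (𝒩 : ℤ → AddSubgroup N) [DirectSum.Decomposition 𝒩] [SetLike.GradedSMul ℬ 𝒩] [Module.Finite S N] (P : Type u) [AddCommGroup P] [Module T P] [Module k P] [IsScalarTower k T P] (𝒬 : ℤ →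 AddSubgroup P) [DirectSum.Decomposition 𝒬] (φ : P →ₗ[k] TensorProduct k M N) (hP : GrSeg.IsSegreMod ψ ℳ 𝒩 𝒬 φ) (r s : ℕ) (h1r : 1 ≤ r) (h1s : 1 ≤ s) (hdM : Module.supportDim R M = r) (hdN : Module.supportDim S N = s) (hMcm : (∀ (q : Ideal R) [q.IsPrime], Subsingleton (LocalizedModule q.primeCompl M) ∨ LocCoh.IsCohenMacaulayModule (Localization.AtPrime q) (LocalizedModule q.primeCompl M))) (hNcm : (∀ (q : Ideal S) [q.IsPrime], Subsingleton (LocalizedModule q.primeCompl N) ∨ LocCoh.IsCohenMacaulayModule (Localization.AtPrime q) (LocalizedModule q.primeCompl N))) : Module.supportDim T P = ((r + s - 1 : ℕ) : WithBot ℕ∞) ∨ Subsingleton P := by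
  classical
  obtain ⟨hψ, hdegT⟩ := hT
  have hdegT' : ∀ n : ℤ, (𝒯 n).map ψ.toLinearMap =
      Submodule.span k {x : R ⊗[k] S | ∃ a ∈ 𝒜 n, ∃ b ∈ ℬ n, x = a ⊗ₜ[k] b} := hdegT
  haveI : Algebra.FiniteType k T :=
    segre_finiteType 𝒜 ℬ 𝒯 ψ hposR h0R hposS h0S hψ hdegT'
  by_cases hPs : Subsingleton P
  · exact Or.inr hPs
  left
  rw [not_subsingleton_iff_nontrivial] at hPs
  apply le_antisymm
  · exact supportDim_segre_le 𝒜 ℬ ψ φ hposR h0R h0S
      (segre_map_mem_Dsub 𝒜 ℬ 𝒯 ψ hdegT') hP.injective hP.map_smul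
      (Module.annihilator R M) (annihilator_isHomogeneous 𝒜 ℳ) le_rfl
      (Module.annihilator S N) (annihilator_isHomogeneous ℬ 𝒩) le_rfl r s
      (by rw [← Module.supportDim_eq_ringKrullDim_quotient_annihilator, hdM])
      (by rw [← Module.supportDim_eq_ringKrullDim_quotient_annihilator, hdN]) h1r
  · obtain ⟨p, hp⟩ := exists_ne (0 : P)
    have hc : ∃ c, ((DirectSum.decompose 𝒬 p c : 𝒬 c) : P) ≠ 0 := by
      by_contra hall
      push Not at hall
      apply hp
      rw [← DirectSum.sum_support_decompose 𝒬 p]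
      exact Finset.sum_eq_zero fun c _ => hall c
    obtain ⟨c, hpc⟩ := hc
    have hφpc : φ ((DirectSum.decompose 𝒬 p c : 𝒬 c) : P) ≠ 0 := fun h =>
      hpc (hP.injective (by rw [h, map_zero]))
    have hmemseg : φ ((DirectSum.decompose 𝒬 p c : 𝒬 c) : P) ∈
        (GrSeg.segrePiece k ℳ 𝒩 c : Set (M ⊗[k] N)) := by
      rw [← hP.image_piece c]
      exact ⟨_, SetLike.coe_mem _, rfl⟩
    have hmn : ∃ m ∈ ℳ c, ∃ n ∈ 𝒩 c, m ⊗ₜ[k] n ≠ 0 := by
      by_contra hall
      push Not at hall
      apply hφpc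
      have hbot : GrSeg.segrePiece k ℳ 𝒩 c = ⊥ := by
        unfold GrSeg.segrePiece
        rw [Submodule.span_eq_bot]
        rintro x ⟨a, ha, b, hb, rfl⟩
        exact hall a ha b hb
      rw [SetLike.mem_coe, hbot] at hmemseg
      exact (Submodule.mem_bot k).mp hmemseg
    obtain ⟨m, hm, n, hn, hmn0⟩ := hmn
    have hm0 : m ≠ 0 := by
      rintro rfl
      exact hmn0 (TensorProduct.zero_tmul _ _)
    have hn0 : n ≠ 0 := by
      rintro rfl
      exact hmn0 (TensorProduct.tmul_zero _ _)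
    obtain ⟨p0, hp0⟩ : ∃ p0 : P, φ p0 = m ⊗ₜ[k] n := by
      have h1 : m ⊗ₜ[k] n ∈ (GrSeg.segrePiece k ℳ 𝒩 c : Set (M ⊗[k] N)) :=
        Submodule.subset_span ⟨m, hm, n, hn, rfl⟩
      rw [← hP.image_piece c] at h1
      obtain ⟨p0, _, hp0⟩ := h1
      exact ⟨p0, hp0⟩
    have hdimR := le_ringKrullDim_quotient_ker_of_cm 𝒜 ℳ hposR h0R hMcm r hdM hm hm0
    have hdimS := le_ringKrullDim_quotient_ker_of_cm ℬ 𝒩 hposS h0S hNcm s hdN hn hn0
    obtain ⟨dx, hdx, hX⟩ := exists_homogeneous_family 𝒜 hposR h0R _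
      (ker_toSpanSingleton_isHomogeneous 𝒜 ℳ hm) r hdimR
    obtain ⟨dy, hdy, hY⟩ := exists_homogeneous_family ℬ hposS h0S _
      (ker_toSpanSingleton_isHomogeneous ℬ 𝒩 hn) s hdimS
    have hDpos : 0 < (∏ i, dx i) * (∏ j, dy j) :=
      mul_pos (Finset.prod_pos fun i _ => hdx i) (Finset.prod_pos fun j _ => hdy j)
    obtain ⟨x, hxD, hxF⟩ := hX _ hDpos
      (fun i => Dvd.dvd.mul_right (Finset.dvd_prod_of_mem _ (Finset.mem_univ i)) _)
    obtain ⟨y, hyD, hyF⟩ := hY _ hDpos
      (fun j => Dvd.dvd.mul_left (Finset.dvd_prod_of_mem _ (Finset.mem_univ j)) _)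
    obtain ⟨a, rfl⟩ : ∃ a, r = a + 1 := ⟨r - 1, by omega⟩
    obtain ⟨b, rfl⟩ : ∃ b, s = b + 1 := ⟨s - 1, by omega⟩
    have h7 : a + 1 + (b + 1) - 1 = b + 1 + a := by omega
    rw [h7]
    refine le_supportDim_segre_core ψ φ x y ?_ m n p0 hp0 ?_ ?_ hP.map_smul
    · intro i j
      have h1 : x i ⊗ₜ[k] y j ∈ (𝒯 ((∏ i, dx i) * (∏ j, dy j))).map ψ.toLinearMap := by
        rw [hdegT' _]
        exact Submodule.subset_span ⟨_, hxD i, _, hyD j, rfl⟩
      obtain ⟨t, _, ht⟩ := Submodule.mem_map.mp h1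
      exact ⟨t, ht⟩
    · intro F hF
      exact hxF F (by rw [LinearMap.mem_ker, LinearMap.toSpanSingleton_apply]; exact hF)
    · intro F hF
      exact hyF F (by rw [LinearMap.mem_ker, LinearMap.toSpanSingleton_apply]; exact hF)

end Groth.Agent.S19754
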