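import Groth.Statements.S19756
import Groth.Agent.H98.SegModC
import Groth.Agent.H98.SegModD
import Groth.Agent.Lead.SegCM_PC
import Groth.Agent.S18646
import Groth.Agent.S19747
import Groth.Agent.S19754
import Groth.Agent.H14.SegMod_M6
import Groth.Agent.H98.SegModLOC

set_option autoImplicit false
universe u
open scoped TensorProduct
open GrSegre

namespace Groth.Agent.S19756

open Groth.Agent.H98.GrCat Groth.Agent.H98.GrConv Groth.Agent.H98.GrHt Groth.Agent.H98.Seg

attribute [local instance] kModG kTowerG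

/-- Let R and S be graded rings defined over a field k with m = R_+ and T = R # S, let M be a finitely
generated graded Cohen–Macaulay R-module of dimension 1 and N a finitely generated graded
Cohen–Macaulay S-module of dimension s ≥ 1, and assume M # N ≠ 0. (ii) If s ≥ 2, then M # N is a
Cohen–Macaulay T-module if and only if H^1_m(M) # N = 0, that is, for every degree d, H^1_m(M)_d = 0
or N_d = 0. (iii) If s = 1, then M # N is a Cohen–Macaulay T-module. The numbers 1 and s are here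
the dimensions of the modules M and N themselves and are not assumed to equal dim R and dim S. Here
a graded ring defined over k is a commutative k-algebra of finite type, graded in nonnegative
degrees by k-subspaces with degree-zero part k·1; the Segre product T = R # S = ⊕_n R_n ⊗_k S_n is
presented abstractly as a graded k-algebra T with an injective k-algebra homomorphism ψ : T → R ⊗_k
S carrying T_n onto the k-span of the elementary tensors a ⊗ b with a ∈ R_n, b ∈ S_n; the Segre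
product M # N = ⊕_n M_n ⊗_k N_n of a graded R-module M and a graded S-module N is presented
abstractly as a graded T-module P with an injective k-linear map φ : P → M ⊗_k N carrying P_n onto
the k-span of the tensors x ⊗ y with x ∈ M_n, y ∈ N_n and turning the action of t ∈ T into that of
ψ(t) (acting factorwise on M ⊗_k N); a module over a ring is called Cohen–Macaulay when each of its
localizations at a prime ideal is zero or a Cohen–Macaulay module over the local ring (dimension of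
the support equal to the depth), and the dimension of a module is the Krull dimension of its
support; the graded local cohomology pieces are computed from a *injective resolution of M in the
graded category. -/
theorem result (k : Type u) [Field k] (R : Type u) [CommRing R] [Algebra k R] (𝒜 : ℤ → Submodule k R) [GradedAlgebra 𝒜] (hposR : ∀ n : ℤ, n < 0 → 𝒜 n = ⊥) (h0R : 𝒜 0 = Submodule.span k {(1 : R)}) [Algebra.FiniteType k R] (S : Type u) [CommRing S] [Algebra k S] (ℬ : ℤ → Submodule k S) [GradedAlgebra ℬ] (hposS : ∀ n : ℤ, n < 0 → ℬ n = ⊥) (h0S : ℬ 0 = Submodule.span k {(1 : S)}) [Algebra.FiniteType k S] (T : Type u) [CommRing T] [Algebra k T] (𝒯 : ℤ → Submodule k T) [GradedAlgebra 𝒯] (ψ : T →ₐ[k] TensorProduct k R S) (hT : GrSeg.IsSegreRing 𝒜 ℬ 𝒯 ψ) (mR : HomogeneousIdeal 𝒜) (hmR : mR.toIdeal = Ideal.span (⋃ n ∈ Set.Ioi (0 : ℤ), (𝒜 n : Set R))) (M : Type u) [AddCommGroup M] [Module R M] [Module k M] [IsScalarTower k R M] (ℳ : ℤ → AddSubgroup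 M) [DirectSum.Decomposition ℳ] [SetLike.GradedSMul 𝒜 ℳ] [Module.Finite R M] (EM : GrLC.StarInjRes 𝒜 ℳ) (N : Type u) [AddCommGroup N] [Module S N] [Module k N] [IsScalarTower k S N] (𝒩 : ℤ → AddSubgroup N) [DirectSum.Decomposition 𝒩] [SetLike.GradedSMul ℬ 𝒩] [Module.Finite S N] (P : Type u) [AddCommGroup P] [Module T P] [Module k P] [IsScalarTower k T P] (𝒬 : ℤ → AddSubgroup P) [DirectSum.Decomposition 𝒬] (φ : P →ₗ[k] TensorProduct k M N) (hP : GrSeg.IsSegreMod ψ ℳ 𝒩 𝒬 φ) [Nontrivial P] (s : ℕ) (h1s : 1 ≤ s) (hdM : Module.supportDim R M = 1) (hdN : Module.supportDim S N = s) (hMcm : (∀ (q : Ideal R) [q.IsPrime], Subsingleton (LocalizedModule q.primeCompl M) ∨ LocCoh.IsCohenMacaulayModule (Localization.AtPrime q) (LocalizedModule q.primeCompl M))) (hNcm : (∀ (q : Ideal S) [q.IsPrime], Subsingleton (LocalizedModule q.primeCompl N) ∨ LocCoh.IsCohenMacaulayModule (Localization.AtPrime q) (LocalizedModule q.primeCompl N))) : (2 ≤ s → ((∀ (q : Ideal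 T) [q.IsPrime], Subsingleton (LocalizedModule q.primeCompl P) ∨ LocCoh.IsCohenMacaulayModule (Localization.AtPrime q) (LocalizedModule q.primeCompl P)) ↔ ∀ d : ℤ, EM.Hcomp mR 1 d = ⊥ ∨ 𝒩 d = ⊥)) ∧ (s = 1 → (∀ (q : Ideal T) [q.IsPrime], Subsingleton (LocalizedModule q.primeCompl P) ∨ LocCoh.IsCohenMacaulayModule (Localization.AtPrime q) (LocalizedModule q.primeCompl P))) := by
  classical
  haveI : IsNoetherianRing R := Algebra.FiniteType.isNoetherianRing k R
  haveI : IsNoetherianRing S := Algebra.FiniteType.isNoetherianRing k S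
  haveI : IsNoetherianRing T :=
    Groth.Agent.S18646.result k R 𝒜 hposR h0R S ℬ hposS h0S T 𝒯 ψ hT.1 hT.2
  haveI : Module.Finite T P :=
    Groth.Agent.S19747.result k R 𝒜 hposR h0R S ℬ hposS h0S T 𝒯 ψ hT M ℳ N 𝒩 P 𝒬 φ hP
  have hdM' : Module.supportDim R M = ((1 : ℕ) : WithBot ℕ∞) := by rw [hdM]; rfl
  haveI : Nontrivial M := (Module.supportDim_ne_bot_iff_nontrivial R M).1 (by
    rw [hdM']; exact WithBot.coe_ne_bot)
  haveI : Nontrivial N := (Module.supportDim_ne_bot_iff_nontrivial S N).1 (by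
    rw [hdN]; exact WithBot.coe_ne_bot)
  haveI : Nontrivial R := Module.nontrivial R M
  haveI : Nontrivial S := Module.nontrivial S N
  haveI : Nontrivial T := Module.nontrivial T P
  have hposT := Groth.Agent.H21.SegreDepth.segre_hneg 𝒜 ℬ 𝒯 ψ hT.1 hT.2 hposR
  have h0T := Groth.Agent.H21.SegreDepth.segre_h0 𝒜 ℬ 𝒯 ψ hT.1 hT.2 h0R h0S
  have hdimP : Module.supportDim T P = ((s : ℕ) : WithBot ℕ∞) := by
    rcases Groth.Agent.S19754.result k R 𝒜 hposR h0R S ℬ hposS h0S T 𝒯 ψ hT M ℳ N 𝒩 P 𝒬 φ hP 1 s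
      le_rfl h1s hdM' hdN hMcm hNcm with h | h
    · rw [h]
      congr 2
      omega
    · exact absurd h (not_subsingleton P)
  haveI hgsT : SetLike.GradedSMul (toAS 𝒯) 𝒬 := gsmul_of_isSegreMod 𝒜 ℬ 𝒯 ψ hT ℳ 𝒩 𝒬 φ hP
  haveI hgsR : SetLike.GradedSMul (toAS 𝒜) ℳ := gsmul_conv 𝒜 ℳ
  haveI hgsS : SetLike.GradedSMul (toAS ℬ) 𝒩 := gsmul_conv ℬ 𝒩
  obtain ⟨nS, hnS⟩ : ∃ nS : HomogeneousIdeal ℬ,
      nS.toIdeal = Ideal.span (⋃ n ∈ Set.Ioi (0 : ℤ), (ℬ n : Set S)) := ⟨irrS ℬ, rfl⟩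
  obtain ⟨mT, hmT⟩ : ∃ mT : HomogeneousIdeal 𝒯,
      mT.toIdeal = Ideal.span (⋃ n ∈ Set.Ioi (0 : ℤ), (𝒯 n : Set T)) := ⟨irrS 𝒯, rfl⟩
  have hcrit := modcm_iff_hv 𝒯 𝒬 hposT h0T mT hmT s hdimP
  -- vanishing on the side of `N`
  have hstarS := isStarLocal_convI ℬ hposS h0S nS hnS
  have hposS' := hpos_toAS ℬ hposS
  have hdepN := le_idealDepth_of_cm_mod (toAS ℬ) hposS' (convI nS) hstarS N 𝒩 hNcm s hdN
  have hIMN := smul_top_ne_top_of_dim (toAS ℬ) hposS' (convI nS) hstarS N 𝒩 s hdN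
  obtain ⟨ES', -⟩ : ∃ E : GrLC.StarInjRes (toAS ℬ) 𝒩, True := ⟨starInjRes (toAS ℬ) _, trivial⟩
  have hES' : ∀ q, q < s → Subsingleton (ES'.H (convI nS) q) := by
    intro q hq
    obtain ⟨eq⟩ := nonempty_H_equiv ES' (convI nS) q
    haveI hs : Subsingleton (LocCoh.H (convI nS).toIdeal q N) :=
      Groth.Agent.H58.LC.subsingleton_H_of_lt_idealDepth (convI nS).toIdeal N s hdepN hIMN q hq
    exact eq.toEquiv.subsingleton
  have hES : ∀ q, q < s → Subsingleton ((unconvRes ES').H nS q) := fun q hq => hES' q hq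
  -- a homogeneous `M`-regular element of positive degree
  have hstarR := isStarLocal_convI 𝒜 hposR h0R mR hmR
  have hposR' := hpos_toAS 𝒜 hposR
  have hdepM := le_idealDepth_of_cm_mod (toAS 𝒜) hposR' (convI mR) hstarR M ℳ hMcm 1 hdM'
  have hIMM := smul_top_ne_top_of_dim (toAS 𝒜) hposR' (convI mR) hstarR M ℳ 1 hdM'
  have hirr : Groth.Agent.H21.SegreDim.irrel 𝒜 hposR = mR.toIdeal := by
    rw [Groth.Agent.H21.GrInt.irrel_eq_span 𝒜 hposR, ← hmR]
  have hass : Groth.Agent.H21.SegreDim.irrel 𝒜 hposR ∉ associatedPrimes R M := by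
    rw [hirr]
    exact notMem_associatedPrimes_of_depth M mR.toIdeal hdepM hIMM
  obtain ⟨e, f, he, hf, hreg⟩ := exists_homogeneous_regular_module 𝒜 hposR h0R M hass
  obtain ⟨e', rfl⟩ : ∃ e' : ℕ, e = (e' : ℤ) := ⟨e.toNat, (Int.toNat_of_nonneg he.le).symm⟩
  have he' : 0 < e' := by exact_mod_cast he
  obtain ⟨N₀, hN₀⟩ := Groth.Agent.H14.SegMod_M6.exists_irrel_pow_smul_le 𝒜 hposR h0R M ℳ
    (le_of_eq hdM) hf hreg
  rw [hirr] at hN₀
  -- the graded localisation and its quotient by `M`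
  obtain ⟨X, ι, hι, hinj, hbij, hloc⟩ : ∃ (X : GrLC.GMod.{u} (toAS 𝒜)) (ι : M →ₗ[R] X.carrier),
      GrLC.IsGrHom (toAS ℳ) X.gr ι ∧ Function.Injective ι ∧
      Function.Bijective (fun x : X.carrier => f • x) ∧
      ∀ x : X.carrier, ∃ j : ℕ, f ^ j • x ∈ LinearMap.range ι :=
    Groth.Agent.H98.Seg.ModLOC.exists_graded_away_module (toAS 𝒜) (convM 𝒜 ℳ) (e' : ℤ) f hf hreg
  have hQtor := gam_quot_eq_top_mod 𝒜 mR ℳ f X ι hι hbij hloc ⟨N₀, hN₀⟩
  have hQpc := quot_piece_eq_bot_iff_mod 𝒜 hposR h0R mR hmR ℳ (e' : ℤ) he f hf X ι hι hinj hbij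
    hQtor EM
  obtain ⟨Q, hQ⟩ : ∃ Q : GrLC.GMod.{u} (toAS 𝒜), Q = quotG (toAS 𝒜) X.gr (LinearMap.range ι)
      (range_isHomogeneous (toAS ℳ) X.gr hι) := ⟨_, rfl⟩
  rw [← hQ] at hQtor hQpc
  have key := segre_hv_mod 𝒜 ℬ 𝒯 ψ hT ℳ 𝒩 𝒬 φ hP (unconvG X) ι (fun i x hx => hι i x hx)
    (unconvG Q)
    (by rw [hQ]; exact (LinearMap.range ι).mkQ)
    (by subst hQ; exact fun m z hz => ⟨z, hz, rfl⟩)
    (by subst hQ; exact fun n q hq => hq) hinj
    (by
      subst hQ
      exact fun y => ⟨fun h => (Submodule.Quotient.mk_eq_zero _).1 h,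
        fun h => (Submodule.Quotient.mk_eq_zero _).2 h⟩)
    mR hmR hQtor nS hnS mT hmT e' he' f hf hbij (unconvRes ES') s hES
  obtain ⟨key0, keyi, key1⟩ := key
  have hpc : ∀ n : ℤ, GrSeg.segrePiece k (unconvG Q).gr 𝒩 n = ⊥ ↔
      (EM.Hcomp mR 1 n = ⊥ ∨ 𝒩 n = ⊥) := by
    intro n
    rw [Groth.Agent.Lead.SegCM.segrePiece_eq_bot_iff, hQpc n]
    rfl
  refine ⟨fun h2s => ?_, fun hs1 => ?_⟩
  · rw [hcrit]
    constructor
    · intro h n
      exact (hpc n).1 ((key1 h2s n).1 (h 1 (by omega) n))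
    · intro h i hi n
      rcases Nat.lt_or_ge i 1 with h0 | h1
      · obtain rfl : i = 0 := by omega
        exact key0 h1s n
      · rcases Nat.lt_or_ge i 2 with h1' | h2
        · obtain rfl : i = 1 := by omega
          exact (key1 h2s n).2 ((hpc n).2 (h n))
        · exact keyi i h2 hi n
  · rw [hcrit]
    intro i hi n
    obtain rfl : i = 0 := by omega
    exact key0 h1s n

end Groth.Agent.S19756
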