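import Groth.Statements.S19760
import Groth.Agent.H98.GrEmbOld

set_option autoImplicit false
universe u
open GrDual

namespace Groth.Agent.S19760

/-- Let R = ⊕_{n ≥ 0} R_n be a Noetherian graded ring with R_0 = k a field and R^* = ⊕_n Hom_k(R_{−n},
k) its graded k-dual. A graded R-module M is Artinian exactly when, for some t and some integer
shifts n_1, …, n_t, it embeds as a graded module into the direct sum of the shifted duals R^*(n_1),
…, R^*(n_t), that is, when there is an injective R-linear map M → (R^*)^t whose i-th component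
carries M_g into R^*_{g+n_i} for every g. Here a graded ring defined over k is a commutative
k-algebra of finite type, graded in nonnegative degrees by k-subspaces with degree-zero part k·1,
and R_+ is the ideal spanned by the R_n with n > 0 (a Noetherian such ring is the same as one of
finite type over k); the graded k-dual M^* = ⊕_n Hom_k(M_{−n}, k) of a graded R-module M (with r ∈ R
acting by (r f)(x) = f(r x)) is presented abstractly as a graded R-module D with a k-bilinear
pairing β : D × M → k compatible with the R-actions, under which D_n pairs to zero with M_m for m ≠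
−n and is identified with the full dual space of M_{−n}. -/
theorem result (k : Type u) [Field k] (R : Type u) [CommRing R] [Algebra k R] (𝒜 : ℤ → Submodule k R) [GradedAlgebra 𝒜] (hposR : ∀ n : ℤ, n < 0 → 𝒜 n = ⊥) (h0R : 𝒜 0 = Submodule.span k {(1 : R)}) [Algebra.FiniteType k R] (D : Type u) [AddCommGroup D] [Module R D] [Module k D] [IsScalarTower k R D] (𝒟 : ℤ → AddSubgroup D) [DirectSum.Decomposition 𝒟] [SetLike.GradedSMul 𝒜 𝒟] (β : D →ₗ[k] R →ₗ[k] k) (hD : GrSeg.IsGDual R 𝒜 𝒟 β) (M : Type u) [AddCommGroup M] [Module R M] [Module k M] [IsScalarTower k R M] (ℳ : ℤ → AddSubgroup M) [DirectSum.Decomposition ℳ] [SetLike.GradedSMul 𝒜 ℳ] : IsArtinian R M ↔ ∃ (t : ℕ) (sh : Fin t → ℤ) (f : M →ₗ[R] (Fin t → D)), Function.Injective f ∧ ∀ (i : Fin t) (g : ℤ) (x : M), x ∈ ℳ g → f x i ∈ 𝒟 (g + sh i) := by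
  classical
  constructor
  · intro hart
    haveI := hart
    exact H98.exists_embedding_of_isArtinian 𝒜 ℳ 𝒟 hposR h0R hD
  · rintro ⟨t, sh, f, hf, _⟩
    haveI hDart : IsArtinian R D := by
      have hfd : ∀ n, Module.Finite k (H98.subPiece 𝒜 𝒜 n) :=
        fun n => H98.finite_subPiece 𝒜 𝒜 hposR h0R n
      obtain ⟨i0, hi0⟩ := H98.exists_bound_below 𝒜 𝒜 hposR
      have hB : ∀ j : ℤ, -i0 < 1 * j → ∀ d ∈ 𝒟 j, d = 0 := by
        intro j hj d hd
        apply hD.eq_zero j d hd
        intro x hx
        rw [hi0 (-j) (by omega) x hx, map_zero]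
      haveI : IsNoetherianRing R := Algebra.FiniteType.isNoetherianRing k R
      haveI : WellFoundedGT (Submodule R R) := isNoetherian_iff'.mp inferInstance
      exact (H98.Psi_strictAnti 𝒜 𝒜 𝒟 hD hfd (Or.inl rfl) (-i0) hB).wellFoundedLT
    haveI : IsArtinian R (Fin t → D) := inferInstance
    exact isArtinian_of_injective f hf

end Groth.Agent.S19760
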