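import Groth.Statements.S19762
import Groth.Agent.H98.GrDual

set_option autoImplicit false
universe u
open GrDual

namespace Groth.Agent.S19762

/-- Let R = ⊕_{n ≥ 0} R_n be a Noetherian graded ring with R_0 = k a field. The graded k-dual is an
equivalence between Noetherian graded R-modules and the opposite category of Artinian graded
R-modules; on morphisms: for finitely generated graded R-modules F and M, every homomorphism of
graded R-modules g : M^* → F^* is f^* for a unique homomorphism of graded R-modules f : F → M. Here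
a graded ring defined over k is a commutative k-algebra of finite type, graded in nonnegative
degrees by k-subspaces with degree-zero part k·1, and R_+ is the ideal spanned by the R_n with n > 0
(a Noetherian such ring is the same as one of finite type over k); the graded k-dual M^* = ⊕_n
Hom_k(M_{−n}, k) of a graded R-module M (with r ∈ R acting by (r f)(x) = f(r x)) is presented
abstractly as a graded R-module D with a k-bilinear pairing β : D × M → k compatible with the
R-actions, under which D_n pairs to zero with M_m for m ≠ −n and is identified with the full dual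
space of M_{−n}; f^* = g means β_F(g d, x) = β_M(d, f x) for all d and x. -/
theorem result (k : Type u) [Field k] (R : Type u) [CommRing R] [Algebra k R] (𝒜 : ℤ → Submodule k R) [GradedAlgebra 𝒜] (hposR : ∀ n : ℤ, n < 0 → 𝒜 n = ⊥) (h0R : 𝒜 0 = Submodule.span k {(1 : R)}) [Algebra.FiniteType k R] (F : Type u) [AddCommGroup F] [Module R F] [Module k F] [IsScalarTower k R F] (ℱ : ℤ → AddSubgroup F) [DirectSum.Decomposition ℱ] [SetLike.GradedSMul 𝒜 ℱ] [Module.Finite R F] (M : Type u) [AddCommGroup M] [Module R M] [Module k M] [IsScalarTower k R M] (ℳ : ℤ → AddSubgroup M) [DirectSum.Decomposition ℳ] [SetLike.GradedSMul 𝒜 ℳ] [Module.Finite R M] (DM : Type u) [AddCommGroup DM] [Module R DM] [Module k DM] [IsScalarTower k R DM] (𝒟M : ℤ → AddSubgroup DM) [DirectSum.Decomposition 𝒟M] [SetLike.GradedSMul 𝒜 𝒟M] (βM : DM →ₗ[k] M →ₗ[k] k) (hDM : GrSeg.IsGDual R ℳ 𝒟M βM) (DF : Type u) [AddCommGroup DF] [Module R DF] [Module k DF] [IsScalarTower k R DF] (𝒟F : ℤ → AddSubgroup DF) [DirectSum.Decomposition 𝒟F] [SetLike.GradedSMul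 𝒜 𝒟F] (βF : DF →ₗ[k] F →ₗ[k] k) (hDF : GrSeg.IsGDual R ℱ 𝒟F βF) (g : DM →ₗ[R] DF) (hg : GrLC.IsGrHom 𝒟M 𝒟F g) : ∃! f : F →ₗ[R] M, GrLC.IsGrHom ℱ ℳ f ∧ GrSeg.IsGDualMap βM βF f g := by
  classical
  -- `g` is `k`-linear
  have hgk : ∀ (c : k) (d : DM), g (c • d) = c • g d := by
    intro c d
    have h1 : c • d = (c • (1 : R)) • d := by rw [smul_assoc, one_smul]
    rw [h1, map_smul, smul_assoc, one_smul]
  let gk : DM →ₗ[k] DF :=
    { toFun := g
      map_add' := map_add g
      map_smul' := fun c d => hgk c d }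
  have hgk_apply : ∀ d, gk d = g d := fun _ => rfl
  -- homogeneous case
  have hhom : ∀ (i : ℤ) (x : F), x ∈ ℱ i → ∃ m ∈ ℳ i, ∀ d : DM, βM d m = βF (g d) x := by
    intro i x hx
    haveI : Module.Finite k (H98.subPiece 𝒜 ℳ i) := H98.finite_subPiece 𝒜 ℳ hposR h0R i
    obtain ⟨m, hm, hmd⟩ := H98.gdual_exists_rep hDM (n := -i) (j := i) (by ring)
      (H98.subPiece 𝒜 ℳ i) (fun _ => Iff.rfl)
      (fun c d hd => H98.ksmul_mem 𝒜 𝒟M c hd) ((βF.flip x) ∘ₗ gk) (by
        intro j hj d hd
        change βF (g d) x = 0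
        exact hDF.vanish j (g d) (hg j d hd) i (by omega) x hx)
    exact ⟨m, hm, fun d => hmd d⟩
  have hex : ∀ x : F, ∃ m : M, ∀ d : DM, βM d m = βF (g d) x := by
    intro x
    induction x using DirectSum.Decomposition.inductionOn ℱ with
    | zero => exact ⟨0, fun d => by simp⟩
    | @homogeneous i x =>
      obtain ⟨m, _, hm⟩ := hhom i x x.2
      exact ⟨m, hm⟩
    | add x y hx hy =>
      obtain ⟨m, hm⟩ := hx
      obtain ⟨m', hm'⟩ := hy
      exact ⟨m + m', fun d => by rw [map_add, hm, hm', map_add]⟩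
  choose f0 hf0 using hex
  let f : F →ₗ[R] M :=
    { toFun := f0
      map_add' := fun x y => H98.gdual_ext_right hDM (fun d => by
        rw [hf0, map_add, map_add, hf0, hf0])
      map_smul' := fun r x => H98.gdual_ext_right hDM (fun d => by
        rw [RingHom.id_apply, hf0, ← hDF.map_smul, ← map_smul, ← hf0, hDM.map_smul]) }
  have hf : ∀ x, f x = f0 x := fun _ => rfl
  refine ⟨f, ⟨?_, ?_⟩, ?_⟩
  · intro i x hx
    obtain ⟨m, hm, hmd⟩ := hhom i x hx
    have : f x = m := H98.gdual_ext_right hDM (fun d => by rw [hf, hf0, hmd])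
    rw [this]; exact hm
  · intro d x
    rw [hf, hf0]
  · rintro f' ⟨_, hf'⟩
    ext x
    exact H98.gdual_ext_right hDM (fun d => by rw [hf, hf0, ← hf' d x])

end Groth.Agent.S19762
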