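import Groth.Statements.S19770
import Mathlib
import Groth.Agent.H78.PullCalc

set_option autoImplicit false
set_option maxHeartbeats 400000
set_option backward.isDefEq.respectTransparency.types false
universe u
open CategoryTheory MonoidalCategory CartesianMonoidalCategory MonObj GrpObj AlgebraicGeometry
open AbVar

namespace Groth.Agent.S19770

open Groth.Agent.H78.PullCalc
open Groth.Agent.S15077 (ntrans nsymm nrefl ncongr ncomm nassoc nunitR nunitL)

/-- Let X be an abelian variety over a field k (a proper, geometrically integral k-group scheme), L an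
invertible O_X-module, i : K → X a closed immersion exhibiting K as K(L) (the maximal closed
subscheme over which the Mumford bundle m^*L ⊗ p_1^*L⁻¹ ⊗ p_2^*L⁻¹, restricted to X ×_k K, is the
inverse image of an invertible module on K, with its universal property), and B a k-group scheme
with a homomorphism j : B → X that factors through i. Write M = j^*L. Then M ⊗ [-1]^*M ≅ O_B, where
[-1] : B → B is the inversion (existence of an isomorphism). (The published statement assumes k
algebraically closed and takes for B the reduced identity component of K(L), an abelian subvariety;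
the argument — restrict the Mumford bundle to B × B and pull back along (1, -1) — applies to any
group scheme over k mapping homomorphically into K(L).) -/
theorem result (k : Type u) [Field k] (X : Over (Spec (CommRingCat.of k)))
    [GrpObj X] [IsProper X.hom] [GeometricallyIntegral X.hom] (L : X.left.Modules) (hL : PicF.IsInvertible L)
    (K : Over (Spec (CommRingCat.of k))) (i : K ⟶ X) (hK : ThetaGrp.IsKL X L i)
    (B : Over (Spec (CommRingCat.of k))) [GrpObj B] (j : B ⟶ X) [IsMonHom j] (hj : ∃ y : B ⟶ K, y ≫ i = j) :
    Nonempty (CohB1.tensorMod ((Scheme.Modules.pullback j.left).obj L)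
        ((Scheme.Modules.pullback ((𝟙 B)⁻¹ ≫ j).left).obj L) ≅ Coh.structureModule B.left) := by
  obtain ⟨y, hy⟩ := hj
  have hstar := (kl_iff_star hL hK i).mp ⟨𝟙 K, Category.id_comp i⟩
  have hsq := sq_of_star hstar B j ((𝟙 B)⁻¹ ≫ y)
  have e1 : ((𝟙 B)⁻¹ ≫ y) ≫ i = (𝟙 B)⁻¹ ≫ j := by rw [Category.assoc, hy]
  have e2 : j * (((𝟙 B)⁻¹ ≫ y) ≫ i) = 1 := by
    rw [e1, GrpObj.inv_comp, Category.id_comp, _root_.mul_inv_cancel]
  exact ntrans (ncongr (nrefl _) (pbO_eq e1.symm L))
    (ntrans hsq (ntrans (pbO_eq e2 L) (pb_one_triv k hL)))

end Groth.Agent.S19770
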