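import Groth.Statements.S19799
import Mathlib.RingTheory.Artinian.Module
import Mathlib.RingTheory.TensorProduct.Pi
import Mathlib.RingTheory.Ideal.Quotient.Nilpotent
import Mathlib.LinearAlgebra.TensorProduct.RightExactness
import Mathlib.RingTheory.Flat.Basic
import Mathlib.RingTheory.Flat.FaithfullyFlat.Basic
import Mathlib.Algebra.Module.Projective

set_option autoImplicit false
universe u v w
open scoped TensorProduct
open CAlg

namespace Groth.Agent.S19799

theorem isReduced_tensor {k : Type*} [Field k] [IsAlgClosed k] (A' : Type*) [CommRing A']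
    [Algebra k A'] [Module.Finite k A'] [IsReduced A']
    (B' : Type*) [CommRing B'] [Algebra k B'] [IsReduced B'] : IsReduced (B' ⊗[k] A') := by
  classical
  haveI : IsArtinianRing A' := IsArtinianRing.of_finite k A'
  haveI : Fintype (MaximalSpectrum A') := Fintype.ofFinite _
  have hbij : ∀ m : MaximalSpectrum A', Function.Bijective (algebraMap k (A' ⧸ m.asIdeal)) := by
    intro m
    letI : Field (A' ⧸ m.asIdeal) := Ideal.Quotient.field m.asIdeal
    exact IsAlgClosed.algebraMap_bijective_of_isIntegral
  let e : ∀ m : MaximalSpectrum A', k ≃ₐ[k] (A' ⧸ m.asIdeal) := fun m =>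
    AlgEquiv.ofBijective (Algebra.ofId k _) (hbij m)
  let φ : A' →ₐ[k] (MaximalSpectrum A' → k) := Pi.algHom k (fun _ => k)
    (fun m => ((e m).symm : (A' ⧸ m.asIdeal) →ₐ[k] k).comp (Ideal.Quotient.mkₐ k m.asIdeal))
  have hφ : Function.Injective φ := by
    rw [injective_iff_map_eq_zero]
    intro a ha
    apply (IsArtinianRing.equivPi A').injective
    rw [map_zero]
    ext m
    have h1 : (e m).symm (Ideal.Quotient.mk m.asIdeal a) = 0 := congrFun ha m
    have h2 : Ideal.Quotient.mk m.asIdeal a = 0 := by
      have h3 := congrArg (e m) h1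
      rwa [AlgEquiv.apply_symm_apply, map_zero] at h3
    rw [IsArtinianRing.equivPi_apply]
    exact h2
  let ψ : B' ⊗[k] A' →ₐ[k] (MaximalSpectrum A' → B') :=
    ((Algebra.TensorProduct.piScalarRight k k B' (MaximalSpectrum A')) :
      B' ⊗[k] (MaximalSpectrum A' → k) →ₐ[k] (MaximalSpectrum A' → B')).comp
      (Algebra.TensorProduct.map (AlgHom.id k B') φ)
  have hψ : Function.Injective ψ := by
    have h1 : Function.Injective (LinearMap.lTensor B' φ.toLinearMap) :=
      Module.Flat.lTensor_preserves_injective_linearMap (M := B') φ.toLinearMap hφ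
    have h2 : ⇑(Algebra.TensorProduct.map (AlgHom.id k B') φ) =
        ⇑(LinearMap.lTensor B' φ.toLinearMap) := by
      ext z
      induction z using TensorProduct.induction_on with
      | zero => simp
      | tmul x y => simp
      | add x y hx hy => rw [map_add, map_add, hx, hy]
    have h3 : Function.Injective (Algebra.TensorProduct.map (AlgHom.id k B') φ) := by
      rw [h2]
      exact h1
    exact (Algebra.TensorProduct.piScalarRight k k B' (MaximalSpectrum A')).injective.comp h3
  exact isReduced_of_injective ψ hψ

/-- Let k be an algebraically closed field and A, B commutative k-algebras, each finite-dimensional as a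
k-vector space. Then reduction commutes with tensor products: the kernel of the canonical surjection
A ⊗_k B ⟶ (A/nilradical A) ⊗_k (B/nilradical B) equals the nilradical of A ⊗_k B, so that this
surjection induces an isomorphism (A ⊗_k B)_red ≅ A_red ⊗_k B_red and in particular A_red ⊗_k B_red
is reduced. -/
theorem result (k : Type u) [Field k]
    [IsAlgClosed k] (A : Type v) [CommRing A] [Algebra k A] [Module.Finite k A]
    (B : Type w) [CommRing B] [Algebra k B] [Module.Finite k B] :
    RingHom.ker (Algebra.TensorProduct.map (Ideal.Quotient.mkₐ k (nilradical A))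
      (Ideal.Quotient.mkₐ k (nilradical B))).toRingHom = nilradical (A ⊗[k] B) := by
  classical
  have hfs : Function.Surjective (Ideal.Quotient.mkₐ k (nilradical A)) :=
    Ideal.Quotient.mkₐ_surjective k _
  have hgs : Function.Surjective (Ideal.Quotient.mkₐ k (nilradical B)) :=
    Ideal.Quotient.mkₐ_surjective k _
  haveI : IsReduced (A ⧸ nilradical A) :=
    (Ideal.isRadical_iff_quotient_reduced _).mp (Ideal.radical_isRadical _)
  haveI : IsReduced (B ⧸ nilradical B) :=
    (Ideal.isRadical_iff_quotient_reduced _).mp (Ideal.radical_isRadical _)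
  haveI : IsReduced ((A ⧸ nilradical A) ⊗[k] (B ⧸ nilradical B)) :=
    isReduced_tensor (B ⧸ nilradical B) (A ⧸ nilradical A)
  ext z
  rw [RingHom.mem_ker, mem_nilradical]
  constructor
  · intro hz
    have hz' : z ∈ RingHom.ker (Algebra.TensorProduct.map (Ideal.Quotient.mkₐ k (nilradical A))
        (Ideal.Quotient.mkₐ k (nilradical B))) := hz
    rw [Algebra.TensorProduct.map_ker _ _ hfs hgs] at hz'
    have hle : (RingHom.ker (Ideal.Quotient.mkₐ k (nilradical A))).map
          (Algebra.TensorProduct.includeLeft : A →ₐ[k] A ⊗[k] B) ⊔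
        (RingHom.ker (Ideal.Quotient.mkₐ k (nilradical B))).map
          (Algebra.TensorProduct.includeRight : B →ₐ[k] A ⊗[k] B) ≤ nilradical (A ⊗[k] B) := by
      refine sup_le ?_ ?_
      · rw [Ideal.map_le_iff_le_comap]
        intro a ha
        rw [RingHom.mem_ker, Ideal.Quotient.mkₐ_eq_mk, Ideal.Quotient.eq_zero_iff_mem] at ha
        exact mem_nilradical.mpr ((mem_nilradical.mp ha).map _)
      · rw [Ideal.map_le_iff_le_comap]
        intro b hb
        rw [RingHom.mem_ker, Ideal.Quotient.mkₐ_eq_mk, Ideal.Quotient.eq_zero_iff_mem] at hb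
        exact mem_nilradical.mpr ((mem_nilradical.mp hb).map _)
    exact mem_nilradical.mp (hle hz')
  · intro hz
    exact (hz.map (Algebra.TensorProduct.map (Ideal.Quotient.mkₐ k (nilradical A))
      (Ideal.Quotient.mkₐ k (nilradical B))).toRingHom).eq_zero

end Groth.Agent.S19799
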