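import Groth.Statements.S19804
import Mathlib.RingTheory.Spectrum.Prime.FreeLocus
import Mathlib.Algebra.Module.Projective
import Mathlib.Algebra.Module.FinitePresentation

set_option autoImplicit false
open scoped TensorProduct
universe u v w
open Brauer

namespace Groth.Agent.S19804

theorem aux {R : Type u} [CommRing R] [ConnectedSpace (PrimeSpectrum R)] {A : Type v} [Ring A]
    [Algebra R A] [Module.Projective R A] [Module.Finite R A]
    (e : A) (he : IsIdempotentElem e) (R' : Type w) [CommRing R'] [Nontrivial R'] [Algebra R R']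
    (h0 : (1 : R') ⊗ₜ[R] e = (0 : R' ⊗[R] A)) : e = 0 := by
  classical
  let ℓ : A →ₗ[R] A := LinearMap.mulLeft R e
  let N : Submodule R A := LinearMap.range ℓ
  have hℓ : ∀ n : N, ℓ (n : A) = n := by
    rintro ⟨_, x, rfl⟩
    simp only [ℓ, LinearMap.mulLeft_apply, ← mul_assoc, he.eq]
  have hsplit : ℓ.rangeRestrict ∘ₗ N.subtype = LinearMap.id := by
    ext n
    simp [hℓ n]
  haveI : Module.Projective R N := Module.Projective.of_split N.subtype ℓ.rangeRestrict hsplit
  haveI : Module.Finite R N := inferInstance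
  haveI : Module.FinitePresentation R N := Module.finitePresentation_of_projective R N
  have hconst := (Module.isLocallyConstant_rankAtStalk (R := R) (M := N))
  have hzero : (LinearMap.lTensor R' N.subtype : R' ⊗[R] N →ₗ[R] R' ⊗[R] A) = 0 := by
    apply TensorProduct.ext'
    rintro r' ⟨_, x, rfl⟩
    have h3 : r' ⊗ₜ[R] (ℓ x) = ((1 : R') ⊗ₜ[R] e) * (r' ⊗ₜ[R] x) := by
      simp [ℓ, Algebra.TensorProduct.tmul_mul_tmul]
    simp only [LinearMap.lTensor_tmul, Submodule.subtype_apply, LinearMap.zero_apply]
    rw [h3, h0, zero_mul]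
  haveI : Subsingleton (R' ⊗[R] N) := by
    have hid : (LinearMap.lTensor R' ℓ.rangeRestrict) ∘ₗ (LinearMap.lTensor R' N.subtype) =
        LinearMap.id := by
      rw [← LinearMap.lTensor_comp, hsplit, LinearMap.lTensor_id]
    rw [hzero, LinearMap.comp_zero] at hid
    refine ⟨fun a b => ?_⟩
    have ha := LinearMap.congr_fun hid a
    have hb := LinearMap.congr_fun hid b
    simp only [LinearMap.zero_apply, LinearMap.id_coe, id_eq] at ha hb
    rw [← ha, ← hb]
  obtain ⟨p'⟩ : Nonempty (PrimeSpectrum R') := inferInstance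
  have h1 : Module.rankAtStalk (R' ⊗[R] N) p' = 0 := by
    rw [Module.rankAtStalk_eq_zero_of_subsingleton]
    rfl
  rw [Module.rankAtStalk_baseChange] at h1
  have h2 : ∀ p, Module.rankAtStalk (R := R) N p = 0 := fun p =>
    (hconst.apply_eq_of_preconnectedSpace p _).trans h1
  haveI : Subsingleton N := Module.rankAtStalk_eq_zero_iff_subsingleton.mp (funext h2)
  have he_mem : e ∈ N := ⟨1, by simp [ℓ]⟩
  have h4 := Subsingleton.elim (⟨e, he_mem⟩ : N) 0
  exact congrArg Subtype.val h4

/-- Let R be a commutative ring with Spec R connected, A an Azumaya R-algebra and e an idempotent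
element of A. If for some nonzero commutative R-algebra R' the element 1 ⊗ e of R' ⊗_R A is 0, then
e = 0; and if 1 ⊗ e = 1 in R' ⊗_R A, then e = 1. (The published statement is for an Azumaya algebra
over a connected scheme S and base change to an arbitrary nonempty S-scheme T; this row takes S and
T affine.) -/
theorem result {R : Type u} [CommRing R]
    [ConnectedSpace (PrimeSpectrum R)] {A : Type v} [Ring A] [Algebra R A] [IsAzumaya R A]
    (e : A) (he : IsIdempotentElem e) (R' : Type w) [CommRing R'] [Nontrivial R'] [Algebra R R'] :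
    ((1 : R') ⊗ₜ[R] e = (0 : R' ⊗[R] A) → e = 0) ∧ ((1 : R') ⊗ₜ[R] e = (1 : R' ⊗[R] A) → e = 1) := by
  refine ⟨fun h0 => aux e he R' h0, fun h1 => ?_⟩
  have h0 : (1 : R') ⊗ₜ[R] (1 - e) = (0 : R' ⊗[R] A) := by
    rw [TensorProduct.tmul_sub, h1, ← Algebra.TensorProduct.one_def, sub_self]
  have h2 := aux (1 - e) he.one_sub R' h0
  exact (sub_eq_zero.mp h2).symm

end Groth.Agent.S19804
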