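import Groth.Statements.S19809
import Mathlib

set_option autoImplicit false
universe u
open RatCurv

namespace Groth.Agent.S19809

open MvPolynomial

section lib

variable {K : Type u} [Field K]

/-- exponent vector of `X^i Y^(n-i)` -/
noncomputable def dexp (n : ℕ) (i : Fin (n + 1)) : Fin 2 →₀ ℕ :=
  Finsupp.single 0 (i : ℕ) + Finsupp.single 1 (n - (i : ℕ))

lemma dexp_zero (n : ℕ) (i : Fin (n + 1)) : dexp n i 0 = (i : ℕ) := by
  simp [dexp, Finsupp.single_apply]

lemma dexp_one (n : ℕ) (i : Fin (n + 1)) : dexp n i 1 = n - (i : ℕ) := by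
  simp [dexp, Finsupp.single_apply]

lemma degree_dexp (n : ℕ) (i : Fin (n + 1)) : (dexp n i).degree = n := by
  rw [Finsupp.degree_eq_sum, Fin.sum_univ_two, dexp_zero, dexp_one]
  have := i.2
  omega

lemma eq_dexp {n : ℕ} {d : Fin 2 →₀ ℕ} (hd : d.degree = n) : ∃ i, d = dexp n i := by
  rw [Finsupp.degree_eq_sum, Fin.sum_univ_two] at hd
  have hlt : d 0 < n + 1 := by omega
  refine ⟨⟨d 0, hlt⟩, Finsupp.ext (Fin.forall_fin_two.2 ⟨?_, ?_⟩)⟩
  · rw [dexp_zero]
  · rw [dexp_one]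
    show d 1 = n - d 0
    omega

lemma dexp_injective (n : ℕ) : Function.Injective (dexp n) := fun i j h => by
  have := DFunLike.congr_fun h 0
  rw [dexp_zero, dexp_zero] at this
  exact Fin.ext this

/-- the parametrisation of binary forms of degree `n` by their coefficient vectors -/
noncomputable def mk (n : ℕ) : (Fin (n + 1) → K) →ₗ[K] MvPolynomial (Fin 2) K :=
  ∑ i, (monomial (dexp n i)).comp (LinearMap.proj i)

lemma mk_apply (n : ℕ) (a : Fin (n + 1) → K) :
    mk n a = ∑ i, monomial (dexp n i) (a i) := by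
  simp only [mk, LinearMap.sum_apply, LinearMap.comp_apply, LinearMap.proj_apply]

lemma coeff_mk (n : ℕ) (a : Fin (n + 1) → K) (j : Fin (n + 1)) :
    coeff (dexp n j) (mk n a) = a j := by
  rw [mk_apply, coeff_sum]
  simp only [coeff_monomial]
  rw [Finset.sum_eq_single j]
  · rw [if_pos rfl]
  · intro i _ hij
    rw [if_neg]
    exact fun h => hij (dexp_injective n h)
  · intro h
    exact absurd (Finset.mem_univ j) h

lemma mk_mem (n : ℕ) (a : Fin (n + 1) → K) :
    mk n a ∈ homogeneousSubmodule (Fin 2) K n := by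
  rw [mk_apply]
  refine Submodule.sum_mem _ fun i _ => ?_
  rw [mem_homogeneousSubmodule]
  exact isHomogeneous_monomial _ (degree_dexp n i)

lemma mk_injective (n : ℕ) : Function.Injective (mk (K := K) n) := by
  refine (injective_iff_map_eq_zero (mk (K := K) n)).2 fun a ha => ?_
  funext j
  have := coeff_mk n a j
  rw [ha, coeff_zero] at this
  exact this.symm

lemma mk_surj (n : ℕ) {g : MvPolynomial (Fin 2) K}
    (hg : g ∈ homogeneousSubmodule (Fin 2) K n) : ∃ a, mk n a = g := by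
  refine ⟨fun j => coeff (dexp n j) g, ?_⟩
  have hg' : g.IsHomogeneous n := (mem_homogeneousSubmodule n g).1 hg
  have hm' : (mk n fun j => coeff (dexp n j) g).IsHomogeneous n :=
    (mem_homogeneousSubmodule n _).1 (mk_mem n _)
  ext d
  by_cases hd : d.degree = n
  · obtain ⟨i, rfl⟩ := eq_dexp hd
    rw [coeff_mk]
  · rw [hg'.coeff_eq_zero hd, hm'.coeff_eq_zero hd]

lemma range_mk (n : ℕ) :
    LinearMap.range (mk (K := K) n) = homogeneousSubmodule (Fin 2) K n := by
  apply le_antisymm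
  · rintro _ ⟨a, rfl⟩
    exact mk_mem n a
  · intro g hg
    obtain ⟨a, rfl⟩ := mk_surj n hg
    exact ⟨a, rfl⟩

lemma finrank_P (n : ℕ) :
    Module.finrank K ↥(homogeneousSubmodule (Fin 2) K n) = n + 1 := by
  rw [← range_mk, LinearMap.finrank_range_of_inj (mk_injective n), Module.finrank_fin_fun]

instance finite_P (n : ℕ) : Module.Finite K ↥(homogeneousSubmodule (Fin 2) K n) := by
  rw [← range_mk]
  infer_instance

lemma mul_mem_P {a b c : ℕ} {p q : MvPolynomial (Fin 2) K}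
    (hp : p ∈ homogeneousSubmodule (Fin 2) K a) (hq : q ∈ homogeneousSubmodule (Fin 2) K b)
    (hc : a + b = c) : p * q ∈ homogeneousSubmodule (Fin 2) K c := by
  subst hc
  exact ((mem_homogeneousSubmodule a p).1 hp).mul ((mem_homogeneousSubmodule b q).1 hq)

lemma monomial_dexp (n : ℕ) (i : Fin (n + 1)) (c : K) :
    monomial (dexp n i) c = C c * X 0 ^ (i : ℕ) * X 1 ^ (n - (i : ℕ)) := by
  rw [dexp, C_apply, X_pow_eq_monomial, X_pow_eq_monomial, monomial_mul, monomial_mul, zero_add,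
    mul_one, mul_one]

lemma term_mem (c : K) (i j n : ℕ) (h : i + j = n) :
    C c * X 0 ^ i * X 1 ^ j ∈ homogeneousSubmodule (Fin 2) K n := by
  subst h
  have h := ((isHomogeneous_C (Fin 2) c).mul (isHomogeneous_X_pow (R := K) (0 : Fin 2) i)).mul
    (isHomogeneous_X_pow (R := K) (1 : Fin 2) j)
  rw [zero_add] at h
  exact h

lemma mk3_form (a : Fin 4 → K) :
    mk 3 a = C (a 0) * X 0 ^ 0 * X 1 ^ 3 + C (a 1) * X 0 ^ 1 * X 1 ^ 2
      + C (a 2) * X 0 ^ 2 * X 1 ^ 1 + C (a 3) * X 0 ^ 3 * X 1 ^ 0 := by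
  rw [mk_apply, Fin.sum_univ_four, monomial_dexp, monomial_dexp, monomial_dexp, monomial_dexp]
  rfl

/-- a binary cubic over an algebraically closed field is a linear form times a quadratic form -/
lemma exists_factor [IsAlgClosed K] {g : MvPolynomial (Fin 2) K}
    (hg : g ∈ homogeneousSubmodule (Fin 2) K 3) :
    ∃ l ∈ homogeneousSubmodule (Fin 2) K 1, ∃ e ∈ homogeneousSubmodule (Fin 2) K 2,
      g = l * e := by
  obtain ⟨a, rfl⟩ : ∃ a : Fin 4 → K, mk 3 a = g := mk_surj 3 hg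
  by_cases h3 : a 3 = 0
  · refine ⟨C 1 * X 0 ^ 0 * X 1 ^ 1, term_mem 1 0 1 1 rfl,
      C (a 0) * X 0 ^ 0 * X 1 ^ 2 + C (a 1) * X 0 ^ 1 * X 1 ^ 1 + C (a 2) * X 0 ^ 2 * X 1 ^ 0,
      ?_, ?_⟩
    · exact Submodule.add_mem _ (Submodule.add_mem _ (term_mem _ 0 2 2 rfl)
        (term_mem _ 1 1 2 rfl)) (term_mem _ 2 0 2 rfl)
    · rw [mk3_form, h3, map_zero, map_one]
      ring
  · obtain ⟨r, hr⟩ : ∃ r : K, a 3 * r ^ 3 + a 2 * r ^ 2 + a 1 * r + a 0 = 0 := by
      have hdeg : (Polynomial.C (a 3) * Polynomial.X ^ 3 + Polynomial.C (a 2) * Polynomial.X ^ 2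
          + Polynomial.C (a 1) * Polynomial.X + Polynomial.C (a 0)).degree ≠ 0 := by
        rw [Polynomial.degree_cubic h3]
        norm_num
      obtain ⟨r, hr⟩ := IsAlgClosed.exists_root _ hdeg
      refine ⟨r, ?_⟩
      have hr' : Polynomial.eval r (Polynomial.C (a 3) * Polynomial.X ^ 3
          + Polynomial.C (a 2) * Polynomial.X ^ 2
          + Polynomial.C (a 1) * Polynomial.X + Polynomial.C (a 0)) = 0 := hr
      simpa using hr'
    have hrC : (C (a 3) : MvPolynomial (Fin 2) K) * C r ^ 3 + C (a 2) * C r ^ 2 + C (a 1) * C r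
        + C (a 0) = 0 := by
      have := congrArg (C (σ := Fin 2)) hr
      simpa only [map_add, map_mul, map_pow, map_zero] using this
    refine ⟨C 1 * X 0 ^ 1 * X 1 ^ 0 - C r * X 0 ^ 0 * X 1 ^ 1,
      Submodule.sub_mem _ (term_mem 1 1 0 1 rfl) (term_mem r 0 1 1 rfl),
      C (a 3) * X 0 ^ 2 * X 1 ^ 0 + C (a 2 + a 3 * r) * X 0 ^ 1 * X 1 ^ 1
        + C (a 1 + a 2 * r + a 3 * r ^ 2) * X 0 ^ 0 * X 1 ^ 2, ?_, ?_⟩
    · exact Submodule.add_mem _ (Submodule.add_mem _ (term_mem _ 2 0 2 rfl)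
        (term_mem _ 1 1 2 rfl)) (term_mem _ 0 2 2 rfl)
    · rw [mk3_form]
      simp only [map_add, map_mul, map_pow, map_one]
      linear_combination (X 1 ^ 3) * hrC

/-- a surjection from quintics to `K²` with kernel `V` (extended to all polynomials) -/
lemma exists_Phi (V : Submodule K (MvPolynomial (Fin 2) K))
    (hV : V ≤ homogeneousSubmodule (Fin 2) K 5) (hdim : Module.finrank K ↥V = 4) :
    ∃ Φ : MvPolynomial (Fin 2) K →ₗ[K] (Fin 2 → K),
      (∀ x ∈ homogeneousSubmodule (Fin 2) K 5, Φ x = 0 ↔ x ∈ V) ∧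
      (∀ y, ∃ x ∈ homogeneousSubmodule (Fin 2) K 5, Φ x = y) := by
  obtain ⟨V', hV'⟩ : ∃ V' : Submodule K ↥(homogeneousSubmodule (Fin 2) K 5),
      V' = V.comap (homogeneousSubmodule (Fin 2) K 5).subtype := ⟨_, rfl⟩
  have hmem : ∀ x (hx : x ∈ homogeneousSubmodule (Fin 2) K 5),
      (⟨x, hx⟩ : ↥(homogeneousSubmodule (Fin 2) K 5)) ∈ V' ↔ x ∈ V := by
    intro x hx
    rw [hV']
    exact Iff.rfl
  have hfV' : Module.finrank K ↥V' = 4 := by
    have := LinearEquiv.finrank_eq (Submodule.comapSubtypeEquivOfLe hV)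
    rw [hdim] at this
    rw [hV']
    exact this
  have hQ : Module.finrank K (↥(homogeneousSubmodule (Fin 2) K 5) ⧸ V') = 2 := by
    have := Submodule.finrank_quotient_add_finrank V'
    rw [hfV', finrank_P] at this
    omega
  have eQ : (↥(homogeneousSubmodule (Fin 2) K 5) ⧸ V') ≃ₗ[K] (Fin 2 → K) :=
    LinearEquiv.ofFinrankEq _ _ (by rw [hQ, Module.finrank_fin_fun])
  obtain ⟨Φ, hΦ⟩ := LinearMap.exists_extend (eQ.toLinearMap.comp V'.mkQ)
  have hΦ' : ∀ p : ↥(homogeneousSubmodule (Fin 2) K 5), Φ p.1 = eQ (V'.mkQ p) :=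
    fun p => LinearMap.congr_fun hΦ p
  refine ⟨Φ, fun x hx => ?_, fun y => ?_⟩
  · rw [hΦ' ⟨x, hx⟩, LinearEquiv.map_eq_zero_iff, Submodule.mkQ_apply,
      Submodule.Quotient.mk_eq_zero, hmem]
  · obtain ⟨q, rfl⟩ := eQ.surjective y
    obtain ⟨p, rfl⟩ := V'.mkQ_surjective q
    exact ⟨p.1, p.2, hΦ' p⟩

/-- for any functional on polynomials there is a nonzero cubic `g` with `φ (g * q) = 0` for all
quadrics `q` -/
lemma exists_cubic (φ : MvPolynomial (Fin 2) K →ₗ[K] K) :
    ∃ g ∈ homogeneousSubmodule (Fin 2) K 3, g ≠ 0 ∧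
      ∀ q ∈ homogeneousSubmodule (Fin 2) K 2, φ (g * q) = 0 := by
  obtain ⟨S, hS⟩ : ∃ S : ↥(homogeneousSubmodule (Fin 2) K 3) →ₗ[K]
      (↥(homogeneousSubmodule (Fin 2) K 2) →ₗ[K] K), ∀ g q, S g q = φ (g.1 * q.1) :=
    ⟨((LinearMap.mul K (MvPolynomial (Fin 2) K)).compr₂ φ).domRestrict₁₂ _ _, fun g q => rfl⟩
  have hlt : Module.finrank K (↥(homogeneousSubmodule (Fin 2) K 2) →ₗ[K] K) <
      Module.finrank K ↥(homogeneousSubmodule (Fin 2) K 3) := by
    have h2 : Module.finrank K (↥(homogeneousSubmodule (Fin 2) K 2) →ₗ[K] K) =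
        Module.finrank K ↥(homogeneousSubmodule (Fin 2) K 2) := Subspace.dual_finrank_eq
    rw [h2, finrank_P, finrank_P]
    omega
  obtain ⟨g, hgker, hg0⟩ :=
    Submodule.exists_mem_ne_zero_of_ne_bot (LinearMap.ker_ne_bot_of_finrank_lt (f := S) hlt)
  refine ⟨g.1, g.2, fun h => hg0 (Subtype.ext h), fun q hq => ?_⟩
  have := LinearMap.congr_fun (LinearMap.mem_ker.1 hgker) ⟨q, hq⟩
  rw [hS] at this
  exact this

/-- the dimension count: the cubic `g` attached to the functional `x ↦ Φ x 0 + lam * Φ x 1` gives a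
plane `g · P₂` meeting `V` in dimension at least two -/
lemma two_le_finrank (V : Submodule K (MvPolynomial (Fin 2) K)) [Module.Finite K ↥V]
    (Φ : MvPolynomial (Fin 2) K →ₗ[K] (Fin 2 → K))
    (hΦV : ∀ x ∈ homogeneousSubmodule (Fin 2) K 5, Φ x = 0 → x ∈ V)
    (lam : K) (g : MvPolynomial (Fin 2) K) (hg3 : g ∈ homogeneousSubmodule (Fin 2) K 3)
    (hg0 : g ≠ 0)
    (hg : ∀ q ∈ homogeneousSubmodule (Fin 2) K 2, Φ (g * q) 0 + lam * Φ (g * q) 1 = 0) :
    2 ≤ Module.finrank K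
      ↥(V ⊓ (homogeneousSubmodule (Fin 2) K 2).map (LinearMap.mulLeft K g)) := by
  obtain ⟨mg, hmg⟩ : ∃ mg : ↥(homogeneousSubmodule (Fin 2) K 2) →ₗ[K] MvPolynomial (Fin 2) K,
      ∀ q, mg q = g * q.1 :=
    ⟨(LinearMap.mulLeft K g).comp (homogeneousSubmodule (Fin 2) K 2).subtype, fun q => rfl⟩
  have hmginj : Function.Injective mg := by
    intro x y hxy
    rw [hmg, hmg] at hxy
    exact Subtype.ext (mul_left_cancel₀ hg0 hxy)
  obtain ⟨T, hT⟩ : ∃ T : ↥(homogeneousSubmodule (Fin 2) K 2) →ₗ[K] K,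
      ∀ q, T q = Φ (g * q.1) 1 :=
    ⟨((LinearMap.proj (R := K) (φ := fun _ : Fin 2 => K) 1).comp Φ).comp
      ((LinearMap.mulLeft K g).comp (homogeneousSubmodule (Fin 2) K 2).subtype), fun q => rfl⟩
  have hker : 2 ≤ Module.finrank K ↥(LinearMap.ker T) := by
    have h1 := LinearMap.finrank_range_add_finrank_ker T
    have h2 : Module.finrank K ↥(LinearMap.range T) ≤ 1 := by
      have := Submodule.finrank_le (LinearMap.range T)
      rwa [Module.finrank_self] at this
    rw [finrank_P] at h1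
    omega
  have hle : (LinearMap.ker T).map mg ≤
      V ⊓ (homogeneousSubmodule (Fin 2) K 2).map (LinearMap.mulLeft K g) := by
    rintro _ ⟨q, hq, rfl⟩
    have hq1 : Φ (g * q.1) 1 = 0 := by
      rw [← hT]
      exact LinearMap.mem_ker.1 hq
    have hq0 : Φ (g * q.1) 0 = 0 := by
      have := hg q.1 q.2
      rw [hq1, mul_zero, add_zero] at this
      exact this
    rw [hmg]
    refine ⟨hΦV _ (mul_mem_P hg3 q.2 rfl) (funext (Fin.forall_fin_two.2 ⟨hq0, hq1⟩)), ?_⟩
    exact ⟨q.1, q.2, rfl⟩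
  calc 2 ≤ Module.finrank K ↥(LinearMap.ker T) := hker
    _ = Module.finrank K ↥((LinearMap.ker T).map mg) :=
        LinearEquiv.finrank_eq (Submodule.equivMapOfInjective mg hmginj _)
    _ ≤ _ := Submodule.finrank_mono hle

/-- the separation hypothesis forbids a whole plane `g · P₂` inside `V` -/
lemma no_plane [IsAlgClosed K] (V : Submodule K (MvPolynomial (Fin 2) K))
    (Φ : MvPolynomial (Fin 2) K →ₗ[K] (Fin 2 → K))
    (hΦV : ∀ x ∈ V, Φ x = 0)
    (hΦsurj : ∀ y, ∃ x ∈ homogeneousSubmodule (Fin 2) K 5, Φ x = y)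
    (hsep : ∀ e ∈ homogeneousSubmodule (Fin 2) K 2, e ≠ 0 →
      ∀ F ∈ homogeneousSubmodule (Fin 2) K 5, ∃ v ∈ V,
        ∃ h ∈ homogeneousSubmodule (Fin 2) K 3, F = v + e * h)
    (g : MvPolynomial (Fin 2) K) (hg3 : g ∈ homogeneousSubmodule (Fin 2) K 3) (hg0 : g ≠ 0)
    (hgV : ∀ q ∈ homogeneousSubmodule (Fin 2) K 2, Φ (g * q) = 0) : False := by
  obtain ⟨l, hl, e, he, rfl⟩ := exists_factor hg3
  have hl0 : l ≠ 0 := left_ne_zero_of_mul hg0
  have he0 : e ≠ 0 := right_ne_zero_of_mul hg0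
  obtain ⟨Te, hTe⟩ : ∃ Te : ↥(homogeneousSubmodule (Fin 2) K 3) →ₗ[K] (Fin 2 → K),
      ∀ h, Te h = Φ (e * h.1) :=
    ⟨(Φ.comp (LinearMap.mulLeft K e)).comp (homogeneousSubmodule (Fin 2) K 3).subtype,
      fun h => rfl⟩
  have hsurj : Function.Surjective Te := by
    intro y
    obtain ⟨x, hx, rfl⟩ := hΦsurj y
    obtain ⟨v, hv, h, hh, rfl⟩ := hsep e he he0 x hx
    refine ⟨⟨h, hh⟩, ?_⟩
    rw [hTe, map_add, hΦV v hv, zero_add]
  obtain ⟨ml, hml⟩ : ∃ ml : ↥(homogeneousSubmodule (Fin 2) K 2) →ₗ[K]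
      ↥(homogeneousSubmodule (Fin 2) K 3), ∀ q, (ml q).1 = l * q.1 :=
    ⟨(LinearMap.mulLeft K l).restrict (fun q hq => mul_mem_P hl hq rfl), fun q => rfl⟩
  have hmlinj : Function.Injective ml := by
    intro x y hxy
    have := congrArg Subtype.val hxy
    rw [hml, hml] at this
    exact Subtype.ext (mul_left_cancel₀ hl0 this)
  have hle : LinearMap.range ml ≤ LinearMap.ker Te := by
    rintro _ ⟨q, rfl⟩
    rw [LinearMap.mem_ker, hTe, hml, ← mul_assoc, mul_comm e l]
    exact hgV q.1 q.2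
  have h1 := LinearMap.finrank_range_add_finrank_ker Te
  have h2 : Module.finrank K ↥(LinearMap.range Te) = 2 := by
    rw [LinearMap.range_eq_top.2 hsurj, finrank_top, Module.finrank_fin_fun]
  have h3 : Module.finrank K ↥(LinearMap.range ml) = 3 := by
    rw [LinearMap.finrank_range_of_inj hmlinj, finrank_P]
  have h4 := Submodule.finrank_mono hle
  rw [finrank_P] at h1
  omega

lemma solve2 {c1 c2 lam mu x0 x1 : K} (hc1 : c1 ≠ 0) (hc2 : c2 ≠ 0) (hne : lam ≠ mu)
    (h1 : c1 * x0 + lam * (c1 * x1) = 0) (h2 : c2 * x0 + mu * (c2 * x1) = 0) :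
    x0 = 0 ∧ x1 = 0 := by
  have h1' : x0 + lam * x1 = 0 := by
    have : c1 * (x0 + lam * x1) = 0 := by linear_combination h1
    exact (mul_eq_zero.1 this).resolve_left hc1
  have h2' : x0 + mu * x1 = 0 := by
    have : c2 * (x0 + mu * x1) = 0 := by linear_combination h2
    exact (mul_eq_zero.1 this).resolve_left hc2
  have hx1 : x1 = 0 := by
    have : (lam - mu) * x1 = 0 := by linear_combination h1' - h2'
    exact (mul_eq_zero.1 this).resolve_left (sub_ne_zero.2 hne)
  refine ⟨?_, hx1⟩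
  rw [hx1, mul_zero, add_zero] at h1'
  exact h1'

end lib

/-- A smooth rational quintic curve C ⊂ P^3 has a one-parameter family of 3-secant lines. Stated, as for
the nondegenerate case, through binary forms: C is the image of P^1 under a 4-dimensional linear
series V of binary quintic forms which separates every length-2 subscheme of P^1 (for every nonzero
quadratic form e, the forms of V together with the multiples of e span all quintic forms), so that
P^1 → P(V^*) = P^3 is a closed embedding; the linear forms on P^3 are the elements of V, a line L ⊂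
P^3 is the 2-dimensional space of linear forms vanishing on it, and L ∩ C has length at least 3
exactly when that space is contained in g · K[s,t]_2 for a cubic form g. The conclusion: there are
infinitely many pairwise non-proportional nonzero cubic forms g with dim (V ∩ g · K[s,t]_2) ≥ 2,
i.e. for every finite set of cubics there is such a g proportional to none of them. (The ground
field is algebraically closed of characteristic zero in place of the complex numbers; the third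
printed assertion, on curves all of whose 3-secants are 4-secant, is not stated.) -/
theorem result (K : Type u) [Field K] [IsAlgClosed K]
    [CharZero K] (V : Submodule K (MvPolynomial (Fin 2) K))
    (hV : V ≤ MvPolynomial.homogeneousSubmodule (Fin 2) K 5) (hdim : Module.finrank K ↥V = 4)
    (hsep : ∀ e ∈ MvPolynomial.homogeneousSubmodule (Fin 2) K 2, e ≠ 0 →
      ∀ F ∈ MvPolynomial.homogeneousSubmodule (Fin 2) K 5, ∃ v ∈ V,
        ∃ h ∈ MvPolynomial.homogeneousSubmodule (Fin 2) K 3, F = v + e * h)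
    (F : Finset (MvPolynomial (Fin 2) K)) :
    ∃ g ∈ MvPolynomial.homogeneousSubmodule (Fin 2) K 3, g ≠ 0 ∧
      2 ≤ Module.finrank K ↥(V ⊓ (MvPolynomial.homogeneousSubmodule (Fin 2) K 2).map (LinearMap.mulLeft K g)) ∧
      ∀ g' ∈ F, ∀ c : K, g ≠ c • g' := by
  classical
  haveI : Module.Finite K ↥V := Module.finite_of_finrank_pos (by rw [hdim]; norm_num)
  obtain ⟨Φ, hΦV, hΦsurj⟩ := exists_Phi V hV hdim
  by_contra hcon
  push_neg at hcon
  have hstep : ∀ lam : K, ∃ g ∈ MvPolynomial.homogeneousSubmodule (Fin 2) K 3, g ≠ 0 ∧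
      (∀ q ∈ MvPolynomial.homogeneousSubmodule (Fin 2) K 2,
        Φ (g * q) 0 + lam * Φ (g * q) 1 = 0) ∧ ∃ g' ∈ F, ∃ c : K, g = c • g' := by
    intro lam
    obtain ⟨φ, hφ⟩ : ∃ φ : MvPolynomial (Fin 2) K →ₗ[K] K, ∀ x, φ x = Φ x 0 + lam * Φ x 1 :=
      ⟨(LinearMap.proj (R := K) (φ := fun _ : Fin 2 => K) 0).comp Φ
        + lam • (LinearMap.proj (R := K) (φ := fun _ : Fin 2 => K) 1).comp Φ, fun x => rfl⟩
    obtain ⟨g, hg3, hg0, hg⟩ := exists_cubic φ
    have hg' : ∀ q ∈ MvPolynomial.homogeneousSubmodule (Fin 2) K 2,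
        Φ (g * q) 0 + lam * Φ (g * q) 1 = 0 := fun q hq => by
      rw [← hφ]
      exact hg q hq
    exact ⟨g, hg3, hg0, hg', hcon g hg3 hg0
      (two_le_finrank V Φ (fun x hx h => (hΦV x hx).1 h) lam g hg3 hg0 hg')⟩
  choose G hG3 hG0 hGφ G' hG'F cc hGc using hstep
  obtain ⟨lam, mu, hne, heq⟩ := Finite.exists_ne_map_eq_of_infinite
    (fun lam : K => (⟨G' lam, hG'F lam⟩ : {x // x ∈ F}))
  have heq' : G' lam = G' mu := congrArg Subtype.val heq
  have hc1 : cc lam ≠ 0 := fun h => hG0 lam (by rw [hGc lam, h, zero_smul])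
  have hc2 : cc mu ≠ 0 := fun h => hG0 mu (by rw [hGc mu, h, zero_smul])
  have hg'0 : G' lam ≠ 0 := fun h => hG0 lam (by rw [hGc lam, h, smul_zero])
  have hg'3 : G' lam ∈ MvPolynomial.homogeneousSubmodule (Fin 2) K 3 := by
    have : G' lam = (cc lam)⁻¹ • G lam := by
      rw [hGc lam, smul_smul, inv_mul_cancel₀ hc1, one_smul]
    rw [this]
    exact Submodule.smul_mem _ _ (hG3 lam)
  have key : ∀ q ∈ MvPolynomial.homogeneousSubmodule (Fin 2) K 2, Φ (G' lam * q) = 0 := by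
    intro q hq
    have e1 : Φ (G lam * q) = cc lam • Φ (G' lam * q) := by
      rw [hGc lam, smul_mul_assoc, map_smul]
    have e2 : Φ (G mu * q) = cc mu • Φ (G' lam * q) := by
      rw [hGc mu, ← heq', smul_mul_assoc, map_smul]
    have h1 := hGφ lam q hq
    have h2 := hGφ mu q hq
    rw [e1] at h1
    rw [e2] at h2
    simp only [Pi.smul_apply, smul_eq_mul] at h1 h2
    have hsol := solve2 hc1 hc2 hne h1 h2
    exact funext (Fin.forall_fin_two.2 ⟨hsol.1, hsol.2⟩)
  exact no_plane V Φ (fun x hx => (hΦV x (hV hx)).2 hx) hΦsurj hsep (G' lam) hg'3 hg'0 key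

end Groth.Agent.S19809
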