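import Groth.Statements.S1982
import Groth.Agent.H14.AbhGen2
import Groth.Agent.H10.ValDVR
import Groth.Agent.H78.ValExt
import Groth.Agent.S7132

set_option autoImplicit false
universe u
open EtAlg

namespace Groth.Agent.S1982

/-- Suppose A -> B makes the discrete valuation ring B an extension of the discrete valuation ring A,
write K ⊂ L for their fraction fields and e for the ramification index; assume the residue
characteristic of A is zero, or it is p with p not dividing e and the residue field extension of A
-> B separable (in the general sense, i.e. geometrically reduced; it need not be algebraic). Let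
K₁/K be a finite extension. Then for every compositum M of L and K₁ and every valuation subring W of
M dominating B such that e divides the ramification index of A -> W ∩ K₁, the extension W ∩ K₁ -> W
is weakly unramified with separable (geometrically reduced) residue field extension. -/
theorem result (A B K L : Type u) [CommRing A] [IsDomain A] [IsDiscreteValuationRing A]
    [CommRing B] [IsDomain B] [IsDiscreteValuationRing B] [Algebra A B] [IsLocalHom (algebraMap A B)]
    (hinj : Function.Injective (algebraMap A B))
    [Field K] [Field L] [Algebra A K] [IsFractionRing A K] [Algebra B L] [IsFractionRing B L]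
    [Algebra K L] [Algebra A L] [IsScalarTower A K L] [IsScalarTower A B L]
    (htame : CharZero (IsLocalRing.ResidueField A) ∨
      ∃ p : ℕ, p.Prime ∧ CharP (IsLocalRing.ResidueField A) p ∧
        ¬ p ∣ Ideal.ramificationIdx' (IsLocalRing.maximalIdeal A) (IsLocalRing.maximalIdeal B) ∧
        Algebra.IsGeometricallyReduced (IsLocalRing.ResidueField A) (IsLocalRing.ResidueField B))
    (K₁ : Type u) [Field K₁] [Algebra K K₁] [FiniteDimensional K K₁] :
    EtRam.ForallLocalExt B K L K₁ (fun M _ W f =>
      ∀ hA : ∀ a : A, (algebraMap K K₁) (algebraMap A K a) ∈ W.comap f,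
        letI : Algebra A (W.comap f) := (RingHom.codRestrict ((algebraMap K K₁).comp (algebraMap A K)) (W.comap f) hA).toAlgebra
        letI : Algebra (W.comap f) W := (EtRam.inclOfComap W f).toAlgebra
        Ideal.ramificationIdx' (IsLocalRing.maximalIdeal A) (IsLocalRing.maximalIdeal B) ∣
          Ideal.ramificationIdx' (IsLocalRing.maximalIdeal A) (IsLocalRing.maximalIdeal (W.comap f)) →
        EtRam.IsWeaklyUnramified (W.comap f) W ∧
          @Algebra.IsGeometricallyReduced (IsLocalRing.ResidueField (W.comap f)) (IsLocalRing.ResidueField W) _ _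
            (IsLocalRing.ResidueField.map (EtRam.inclOfComap W f)).toAlgebra) := by
  classical
  intro M _ _ _ _ _ _ hadj W hW hA
  -- `V₁ = W ∩ K₁`
  letI algAK₁ : Algebra A K₁ := ((algebraMap K K₁).comp (algebraMap A K)).toAlgebra
  haveI : IsScalarTower A K K₁ := IsScalarTower.of_algebraMap_eq (fun _ => rfl)
  letI algBM : Algebra B M := ((algebraMap L M).comp (algebraMap B L)).toAlgebra
  haveI : IsScalarTower B L M := IsScalarTower.of_algebraMap_eq (fun _ => rfl)
  have hcompat : ∀ a : A, algebraMap K₁ M (algebraMap A K₁ a) =
      algebraMap B M (algebraMap A B a) := by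
    intro a
    show algebraMap K₁ M (algebraMap K K₁ (algebraMap A K a)) =
      algebraMap L M (algebraMap B L (algebraMap A B a))
    rw [← IsScalarTower.algebraMap_apply K K₁ M, IsScalarTower.algebraMap_apply K L M,
      ← IsScalarTower.algebraMap_apply A K L, ← IsScalarTower.algebraMap_apply A B L]
  have hWB : EtRam.Dominates B (algebraMap B M) W := hW
  let V : ValuationSubring K₁ := W.comap (algebraMap K₁ M)
  have hV : EtRam.Dominates A (algebraMap A K₁) V := by
    show EtRam.Dominates A (algebraMap A K₁) (W.comap (algebraMap K₁ M))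
    rw [Groth.Agent.H78.ValExt.dominates_comap_iff]
    refine ⟨fun a => ?_, fun a ha => ?_⟩
    · show algebraMap K₁ M (algebraMap A K₁ a) ∈ W
      rw [hcompat]; exact hWB.1 _
    · show W.valuation (algebraMap K₁ M (algebraMap A K₁ a)) < 1
      rw [hcompat]
      exact hWB.2 _ ((IsLocalRing.mem_maximalIdeal _).mpr (fun hu =>
        ((IsLocalRing.mem_maximalIdeal _).mp ha) (isUnit_of_map_unit (algebraMap A B) a hu)))
  haveI hVdvr : IsDiscreteValuationRing V :=
    Groth.Agent.H10.ValDVR.isDVR_of_dominates_finite A K K₁ V hV
  haveI hfinLM : FiniteDimensional L M :=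
    Groth.Agent.H10.ValDVR.finite_of_adjoin_eq_top K L K₁ M hadj
  haveI hWdvr : IsDiscreteValuationRing W :=
    Groth.Agent.H10.ValDVR.isDVR_of_dominates_finite B L M W hWB
  -- algebra structures
  letI algAV : Algebra A V := (RingHom.codRestrict (algebraMap A K₁) V hV.1).toAlgebra
  haveI hlocAV : IsLocalHom (algebraMap A V) := ⟨fun a ha => by
    by_contra hna
    have h1 : V.valuation (algebraMap A K₁ a) < 1 :=
      hV.2 a ((IsLocalRing.mem_maximalIdeal _).mpr hna)
    have h2 : V.valuation ((algebraMap A V a : V) : K₁) = 1 :=
      (ValuationSubring.valuation_eq_one_iff V _).mp ha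
    exact absurd h2 (ne_of_lt h1)⟩
  letI algBW : Algebra B W := (RingHom.codRestrict (algebraMap B M) W hWB.1).toAlgebra
  haveI hlocBW : IsLocalHom (algebraMap B W) := ⟨fun b hb => by
    by_contra hnb
    have h1 : W.valuation (algebraMap B M b) < 1 :=
      hWB.2 b ((IsLocalRing.mem_maximalIdeal _).mpr hnb)
    have h2 : W.valuation ((algebraMap B W b : W) : M) = 1 :=
      (ValuationSubring.valuation_eq_one_iff W _).mp hb
    exact absurd h2 (ne_of_lt h1)⟩
  letI algVW : Algebra V W := (EtRam.inclOfComap W (algebraMap K₁ M)).toAlgebra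
  haveI hlocVW : IsLocalHom (algebraMap V W) := EtRam.isLocalHom_inclOfComap W (algebraMap K₁ M)
  letI algAW : Algebra A W := ((algebraMap B W).comp (algebraMap A B)).toAlgebra
  haveI : IsScalarTower A B W := IsScalarTower.of_algebraMap_eq (fun _ => rfl)
  haveI : IsScalarTower A V W := IsScalarTower.of_algebraMap_eq (fun a => by
    apply Subtype.ext
    show algebraMap B M (algebraMap A B a) = algebraMap K₁ M (algebraMap A K₁ a)
    rw [hcompat])
  haveI : IsScalarTower A V K₁ := IsScalarTower.of_algebraMap_eq (fun _ => rfl)
  have hinjAV : Function.Injective (algebraMap A V) := by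
    intro a a' h
    have h1 : algebraMap A K₁ a = algebraMap A K₁ a' := congrArg (fun v : V => (v : K₁)) h
    have hinjAK₁ : Function.Injective (algebraMap A K₁) :=
      (algebraMap K K₁).injective.comp (IsFractionRing.injective A K)
    exact hinjAK₁ h1
  haveI hfinres : Module.Finite (IsLocalRing.ResidueField A) (IsLocalRing.ResidueField V) :=
    (Groth.Agent.S7132.result A V K K₁ hinjAV).1
  have hinjVW : Function.Injective (algebraMap V W) := by
    intro v v' h
    have h1 : algebraMap K₁ M (v : K₁) = algebraMap K₁ M (v' : K₁) :=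
      congrArg (fun w : W => (w : M)) h
    exact Subtype.ext ((algebraMap K₁ M).injective h1)
  have hinjBW : Function.Injective (algebraMap B W) := by
    intro b b' h
    have h1 : algebraMap L M (algebraMap B L b) = algebraMap L M (algebraMap B L b') :=
      congrArg (fun w : W => (w : M)) h
    exact IsFractionRing.injective B L ((algebraMap L M).injective h1)
  have hgen : ∀ z : M, z ∈ Subfield.closure
      (Set.range ((algebraMap W M).comp (algebraMap B W)) ∪
        Set.range ((algebraMap W M).comp (algebraMap V W))) := by
    intro z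
    have hz : z ∈ Algebra.adjoin L (Set.range (algebraMap K₁ M)) := by rw [hadj]; trivial
    induction hz using Algebra.adjoin_induction with
    | mem x hx =>
      obtain ⟨x, rfl⟩ := hx
      have hVmem : ∀ v : K₁, v ∈ V → algebraMap K₁ M v ∈ Subfield.closure
          (Set.range ((algebraMap W M).comp (algebraMap B W)) ∪
            Set.range ((algebraMap W M).comp (algebraMap V W))) := by
        intro v hv
        exact Subfield.subset_closure (Or.inr ⟨⟨v, hv⟩, rfl⟩)
      rcases V.mem_or_inv_mem x with hx | hx
      · exact hVmem x hx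
      · have h1 := hVmem x⁻¹ hx
        rw [map_inv₀] at h1
        have h2 := inv_mem h1
        rwa [inv_inv] at h2
    | algebraMap y =>
      obtain ⟨b1, b2, -, rfl⟩ := IsFractionRing.div_surjective (A := B) y
      rw [map_div₀]
      refine div_mem ?_ ?_
      · exact Subfield.subset_closure (Or.inl ⟨b1, rfl⟩)
      · exact Subfield.subset_closure (Or.inl ⟨b2, rfl⟩)
    | add x y _ _ hx hy => exact add_mem hx hy
    | mul x y _ _ hx hy => exact mul_mem hx hy
  show Ideal.ramificationIdx' (IsLocalRing.maximalIdeal A) (IsLocalRing.maximalIdeal B) ∣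
      Ideal.ramificationIdx' (IsLocalRing.maximalIdeal A) (IsLocalRing.maximalIdeal V) →
    EtRam.IsWeaklyUnramified V W ∧
      @Algebra.IsGeometricallyReduced (IsLocalRing.ResidueField V) (IsLocalRing.ResidueField W) _ _
        (IsLocalRing.ResidueField.map (EtRam.inclOfComap W (algebraMap K₁ M))).toAlgebra
  intro hdvd
  have hgr : ∀ (F : Type u) [Field F] [Algebra (IsLocalRing.ResidueField A) F],
      IsReduced (TensorProduct (IsLocalRing.ResidueField A) F (IsLocalRing.ResidueField B)) := by
    rcases htame with h0 | ⟨p, hp, hcp, hpe, hgeo⟩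
    · exact Groth.Agent.H14.AbhGen1.forall_isReduced_of_charZero
    · exact Groth.Agent.H14.AbhGen1.forall_isReduced_of_geomReduced
  have heu : Ideal.ramificationIdx' (IsLocalRing.maximalIdeal A) (IsLocalRing.maximalIdeal B) ≠ 0 →
      IsUnit ((Ideal.ramificationIdx' (IsLocalRing.maximalIdeal A)
        (IsLocalRing.maximalIdeal B) : ℕ) : A) := by
    intro hne
    rw [← IsLocalRing.residue_ne_zero_iff_isUnit, map_natCast]
    rcases htame with h0 | ⟨p, hp, hcp, hpe, hgeo⟩
    · exact Nat.cast_ne_zero.mpr hne
    · intro h
      exact hpe ((CharP.cast_eq_zero_iff (IsLocalRing.ResidueField A) p _).mp h)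
  obtain ⟨h1, h2⟩ := Groth.Agent.H14.AbhGen2.core A V W M hinj hinjAV hinjBW hinjVW hgr heu hdvd hgen
  refine ⟨h1, ?_⟩
  have heq : (IsLocalRing.ResidueField.instAlgebra :
      Algebra (IsLocalRing.ResidueField V) (IsLocalRing.ResidueField W)) =
      (IsLocalRing.ResidueField.map (EtRam.inclOfComap W (algebraMap K₁ M))).toAlgebra := by
    apply Algebra.algebra_ext
    intro r
    obtain ⟨x, rfl⟩ := IsLocalRing.residue_surjective r
    rfl
  rw [← heq]
  exact h2

end Groth.Agent.S1982
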