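import Groth.Statements.S1985
import Groth.Agent.H11.FFNagata
import Groth.Agent.H11.CompleteNagata
import Groth.Agent.H25.GeomRed

set_option autoImplicit false
universe u
open EtAlg

namespace Groth.Agent.S1985

/-- Let A -> B be an extension of discrete valuation rings whose extension of fraction fields L/K is
separable. If B is a Nagata ring then so is A. -/
theorem result (A B K L : Type u) [CommRing A] [IsDomain A] [IsDiscreteValuationRing A]
    [CommRing B] [IsDomain B] [IsDiscreteValuationRing B] [Algebra A B] [IsLocalHom (algebraMap A B)]
    (hinj : Function.Injective (algebraMap A B))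
    [Field K] [Field L] [Algebra A K] [IsFractionRing A K] [Algebra B L] [IsFractionRing B L]
    [Algebra K L] [Algebra A L] [IsScalarTower A K L] [IsScalarTower A B L] [Algebra.IsSeparable K L] (hB : CAlg.IsNagata B) :
    CAlg.IsNagata A := by
  haveI : Module.IsTorsionFree A B := Module.isTorsionFree_iff_algebraMap_injective.mpr hinj
  haveI : Module.Flat A B := inferInstance
  haveI : Module.FaithfullyFlat A B := Module.FaithfullyFlat.of_flat_of_isLocalHom
  haveI : IsNoetherianRing B := hB.1
  have hA2 : CAlg.IsN2 A := by
    intro M _ _ _ _ hfd
    refine Groth.Agent.H11.AnUnram.finite_integralClosure_of_reduced_tensor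
      (A := A) (Ahat := B) (K' := M) hB.2 ?_
    let e : FractionRing A ≃ₐ[A] K := FractionRing.algEquiv A K
    letI algKM : Algebra K M :=
      ((algebraMap (FractionRing A) M).comp (e.symm : K →+* FractionRing A)).toAlgebra
    haveI : IsScalarTower A K M := IsScalarTower.of_algebraMap_eq (fun a => by
      show algebraMap A M a = algebraMap (FractionRing A) M (e.symm (algebraMap A K a))
      rw [e.symm.commutes, ← IsScalarTower.algebraMap_apply])
    haveI : IsReduced (TensorProduct K L M) :=
      Groth.Agent.H25.GeomRed.isReduced_tensor_of_isSeparable L M
    let e1 : TensorProduct K L M ≃ₐ[K] TensorProduct A L M :=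
      IsLocalization.algebraTensorEquiv (nonZeroDivisors A) K L M
    haveI : IsReduced (TensorProduct A L M) :=
      isReduced_of_injective (e1.symm : TensorProduct A L M →+* TensorProduct K L M)
        e1.symm.injective
    haveI : Module.Flat A M := Module.Flat.trans A (FractionRing A) M
    let f : TensorProduct A B M →ₐ[A] TensorProduct A L M :=
      Algebra.TensorProduct.map (IsScalarTower.toAlgHom A B L) (AlgHom.id A M)
    have hf : Function.Injective f :=
      Module.Flat.rTensor_preserves_injective_linearMap (M := M)
        (IsScalarTower.toAlgHom A B L).toLinearMap (IsFractionRing.injective B L)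
    exact isReduced_of_injective f.toRingHom hf
  refine ⟨inferInstance, fun p hp => ?_⟩
  rcases eq_or_ne p ⊥ with rfl | hpne
  · exact Groth.Agent.H11.MvPSN2.isN2_of_ringEquiv (RingEquiv.quotientBot A).symm hA2
  · haveI : p.IsMaximal := hp.isMaximal hpne
    exact Groth.Agent.H11.CompleteNagata.isN2_of_isField
      ((Ideal.Quotient.maximal_ideal_iff_isField_quotient p).mp inferInstance)

end Groth.Agent.S1985
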