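import Groth.Statements.S19856
import Mathlib

set_option autoImplicit false
universe u v
open CAlg

namespace Groth.Agent.S19856

open IsLocalRing

section
variable {O : Type u} [CommRing O] [IsDomain O] [IsDiscreteValuationRing O]
variable {G : Type v} [Group G] [MulSemiringAction G O]

lemma lemA (g : G) (htriv : ∀ a : O, g • a - a ∈ maximalIdeal O) (π : O)
    (hπ : maximalIdeal O = Ideal.span {π}) (h2 : g • π - π ∈ maximalIdeal O ^ 2) :
    ∀ p ∈ maximalIdeal O, g • p - p ∈ maximalIdeal O ^ 2 := by
  intro p hp
  have hπm : π ∈ maximalIdeal O := by rw [hπ]; exact Ideal.mem_span_singleton_self π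
  rw [hπ, Ideal.mem_span_singleton'] at hp
  obtain ⟨c, rfl⟩ := hp
  have hgπ : g • π ∈ maximalIdeal O := by
    have := (maximalIdeal O).add_mem (htriv π) hπm
    simpa using this
  have e : g • (c * π) - c * π = (g • c - c) * g • π + c * (g • π - π) := by
    rw [smul_mul']; ring
  rw [e]
  rw [pow_two] at h2 ⊢
  exact Ideal.add_mem _ (Ideal.mul_mem_mul (htriv c) hgπ) (Ideal.mul_mem_left _ _ h2)

lemma lemB (g : G) (htriv : ∀ a : O, g • a - a ∈ maximalIdeal O)
    (hA : ∀ p ∈ maximalIdeal O, g • p - p ∈ maximalIdeal O ^ 2) :
    ∀ j : ℕ, ∀ b ∈ maximalIdeal O ^ j, g • b - b ∈ maximalIdeal O ^ (j+1) := by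
  intro j
  induction j with
  | zero => intro b _; simpa using htriv b
  | succ j ih =>
    intro b hb
    rw [pow_succ] at hb
    refine Submodule.mul_induction_on hb ?_ ?_
    · intro b' hb' p hp
      have hgp : g • p ∈ maximalIdeal O := by
        have := (maximalIdeal O).add_mem (htriv p) hp
        simpa using this
      have e : g • (b' * p) - b' * p = (g • b' - b') * g • p + b' * (g • p - p) := by
        rw [smul_mul']; ring
      rw [e]
      refine Ideal.add_mem _ ?_ ?_
      · rw [pow_succ (maximalIdeal O) (j+1)]
        exact Ideal.mul_mem_mul (ih b' hb') hgp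
      · have : maximalIdeal O ^ (j + 1 + 1) = maximalIdeal O ^ j * maximalIdeal O ^ 2 := by
          rw [← pow_add]
        rw [this]
        exact Ideal.mul_mem_mul hb' (hA p hp)
    · intro x y hx hy
      have e : g • (x + y) - (x + y) = (g • x - x) + (g • y - y) := by
        rw [smul_add]; ring
      rw [e]; exact Ideal.add_mem _ hx hy

lemma key (g : G) (htriv : ∀ a : O, g • a - a ∈ maximalIdeal O)
    (hA : ∀ p ∈ maximalIdeal O, g • p - p ∈ maximalIdeal O ^ 2)
    (N : ℕ) (hN : g ^ N = 1) (hNu : IsUnit (N : O)) : ∀ a : O, g • a = a := by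
  have hB := lemB g htriv hA
  have hpres : ∀ j, ∀ r ∈ maximalIdeal O ^ j, g • r ∈ maximalIdeal O ^ j := by
    intro j r hr
    have h1 := hB j r hr
    have h2 : g • r - r ∈ maximalIdeal O ^ j := Ideal.pow_le_pow_right (Nat.le_succ j) h1
    have := Ideal.add_mem _ h2 hr
    simpa using this
  have hQ : ∀ j : ℕ, ∀ a : O, g • a - a ∈ maximalIdeal O ^ j := by
    intro j
    induction j with
    | zero => intro a; simp
    | succ j ih =>
      intro a
      obtain ⟨b, hb⟩ : ∃ b, b = g • a - a := ⟨_, rfl⟩
      have hbj : b ∈ maximalIdeal O ^ j := hb ▸ ih a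
      have hr : ∀ i : ℕ, g ^ i • a - a - i • b ∈ maximalIdeal O ^ (j+1) := by
        intro i
        induction i with
        | zero => simp
        | succ i ihi =>
          have e : g ^ (i+1) • a - a - (i+1) • b
              = i • (g • b - b) + g • (g ^ i • a - a - i • b) := by
            rw [pow_succ', mul_smul, smul_sub (M := G) g, smul_sub (M := G) g, smul_comm g i b, hb]
            simp only [smul_sub (M := G), nsmul_eq_mul, Nat.cast_add, Nat.cast_one]
            ring
          rw [e]
          refine Ideal.add_mem _ ?_ (hpres _ _ ihi)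
          exact (maximalIdeal O ^ (j+1)).nsmul_mem (hB j b hbj) i
      have h1 := hr N
      rw [hN, one_smul, sub_self, zero_sub, neg_mem_iff, nsmul_eq_mul] at h1
      rw [← hb]
      exact (Ideal.unit_mul_mem_iff_mem _ hNu).mp h1
  intro a
  have hmem : g • a - a ∈ ⨅ i : ℕ, maximalIdeal O ^ i := by
    rw [Ideal.mem_iInf]; intro i; exact hQ i a
  rw [Ideal.iInf_pow_eq_bot_of_isLocalRing _ (Ideal.IsPrime.ne_top inferInstance)] at hmem
  exact sub_eq_zero.mp hmem

end

/-- Ring-level form: let O be a discrete valuation ring and G a finite group acting faithfully on O by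
ring automorphisms, such that every element of G acts trivially on the residue field of O (that is,
g • a - a lies in the maximal ideal for all a) and such that the order of G is nonzero in the
residue field of O. Then G is cyclic. (The source states this for a finite group of order invertible
in an algebraically closed field k acting faithfully on a smooth connected k-variety and the
subgroup of elements fixing pointwise a codimension-one irreducible component of the ramification
locus, applied to the local ring at the generic point of that component; it is stated here for an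
arbitrary discrete valuation ring with a faithful action. The source also shows that this subgroup
is nontrivial; that geometric part is not stated.) -/
theorem result
    (O : Type u) [CommRing O] [IsDomain O] [IsDiscreteValuationRing O]
    (G : Type v) [Group G] [Finite G] [MulSemiringAction G O] [FaithfulSMul G O]
    (htriv : ∀ (g : G) (a : O), g • a - a ∈ IsLocalRing.maximalIdeal O)
    (hcard : ((Nat.card G : ℕ) : IsLocalRing.ResidueField O) ≠ 0) :
    IsCyclic G := by
  classical
  obtain ⟨π, hπirr⟩ := IsDiscreteValuationRing.exists_irreducible O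
  have hm : maximalIdeal O = Ideal.span {π} :=
    (IsDiscreteValuationRing.irreducible_iff_uniformizer _).mp hπirr
  have hπ0 : π ≠ 0 := hπirr.ne_zero
  have hπm : π ∈ maximalIdeal O := by rw [hm]; exact Ideal.mem_span_singleton_self π
  have hgπ : ∀ g : G, ∃ c : O, g • π = c * π := by
    intro g
    have : g • π ∈ maximalIdeal O := by
      have := (maximalIdeal O).add_mem (htriv g π) hπm
      simpa using this
    rw [hm, Ideal.mem_span_singleton'] at this
    obtain ⟨c, hc⟩ := this
    exact ⟨c, hc.symm⟩
  choose c hc using hgπ
  have hc1 : c 1 = 1 := by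
    have := hc 1
    rw [one_smul] at this
    have h2 : (c 1 - 1) * π = 0 := by rw [sub_mul, one_mul, ← this, sub_self]
    rcases mul_eq_zero.mp h2 with h | h
    · exact sub_eq_zero.mp h
    · exact absurd h hπ0
  have hcmul : ∀ g h : G, c (g * h) = g • c h * c g := by
    intro g h
    have h1 : (g * h) • π = (g • c h * c g) * π := by
      rw [mul_smul, hc h, smul_mul', hc g]; ring
    rw [hc (g*h)] at h1
    exact mul_right_cancel₀ hπ0 h1
  let χ : G →* ResidueField O :=
    { toFun := fun g => residue O (c g)
      map_one' := by simp [hc1]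
      map_mul' := by
        intro g h
        show residue O (c (g*h)) = residue O (c g) * residue O (c h)
        rw [hcmul, map_mul, mul_comm]
        congr 1
        rw [← sub_eq_zero, ← map_sub, residue_eq_zero_iff]
        exact htriv g (c h) }
  have hχ : ∀ g, χ g = residue O (c g) := fun g => rfl
  refine isCyclic_of_injective_ringHom χ ?_
  have hker : ∀ g : G, χ g = 1 → g = 1 := by
    intro g hg
    have hg' : c g - 1 ∈ maximalIdeal O := by
      rw [← residue_eq_zero_iff, map_sub, map_one, sub_eq_zero, ← hχ]; exact hg
    have h2 : g • π - π ∈ maximalIdeal O ^ 2 := by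
      have : g • π - π = (c g - 1) * π := by rw [hc g]; ring
      rw [this, pow_two]; exact Ideal.mul_mem_mul hg' hπm
    have hA := lemA g (htriv g) π hm h2
    have hNu : IsUnit ((orderOf g : ℕ) : O) := by
      obtain ⟨k, hk⟩ := orderOf_dvd_natCard g
      rw [← IsLocalRing.residue_ne_zero_iff_isUnit]
      intro h0
      apply hcard
      rw [hk, Nat.cast_mul, ← map_natCast (residue O) (orderOf g), h0, zero_mul]
    have := key g (htriv g) hA (orderOf g) (pow_orderOf_eq_one g) hNu
    exact FaithfulSMul.eq_of_smul_eq_smul (α := O) (fun a => by rw [this a, one_smul])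
  intro g h hgh
  have : χ (h⁻¹ * g) = 1 := by rw [map_mul, hgh, ← map_mul, inv_mul_cancel, map_one]
  exact (inv_mul_eq_one.mp (hker _ this)).symm

end Groth.Agent.S19856
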