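import Groth.Statements.S1986
import Groth.Agent.H14.SepDesc4

set_option autoImplicit false
universe u
open EtAlg

namespace Groth.Agent.S1986

/-- Let A -> B be an extension of discrete valuation rings with separable extension of fraction fields
L/K and B a Nagata ring. If some finite extension of K is a solution for A -> B, then some finite
separable extension of K is a solution as well. -/
theorem result (A B K L : Type u) [CommRing A] [IsDomain A] [IsDiscreteValuationRing A]
    [CommRing B] [IsDomain B] [IsDiscreteValuationRing B] [Algebra A B] [IsLocalHom (algebraMap A B)]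
    (hinj : Function.Injective (algebraMap A B))
    [Field K] [Field L] [Algebra A K] [IsFractionRing A K] [Algebra B L] [IsFractionRing B L]
    [Algebra K L] [Algebra A L] [IsScalarTower A K L] [IsScalarTower A B L] [Algebra.IsSeparable K L] (hB : CAlg.IsNagata B)
    (K₂ : Type u) [Field K₂] [Algebra K K₂] [FiniteDimensional K K₂] (h₂ : EtRam.IsSolution B K L K₂) :
    ∃ (K₃ : Type u) (_ : Field K₃) (_ : Algebra K K₃) (_ : FiniteDimensional K K₃) (_ : Algebra.IsSeparable K K₃),
      EtRam.IsSolution B K L K₃ := by
  classical
  by_cases hsep : Algebra.IsSeparable K K₂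
  · exact ⟨K₂, inferInstance, inferInstance, inferInstance, hsep, h₂⟩
  · obtain ⟨p, hp⟩ := ExpChar.exists K
    rcases hp with _ | ⟨hprime⟩
    · exact absurd (inferInstance : Algebra.IsSeparable K K₂) hsep
    · refine ⟨↥(separableClosure K K₂), inferInstance, inferInstance, inferInstance,
        inferInstance, ?_⟩
      exact Groth.Agent.H14.SepDesc4.main_step A B K L hB K₂ h₂ ↥(separableClosure K K₂) p hprime

end Groth.Agent.S1986
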