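import Groth.Statements.S19864
import Groth.Agent.H87.RegHomLoc

set_option autoImplicit false
set_option maxHeartbeats 400000
universe u
open CAlg

namespace Groth.Agent.S19864

/-- Let A and B be Noetherian rings and B an A-algebra. Then A → B is a regular homomorphism (flat with
Noetherian, geometrically regular fibres) if and only if for every prime q of B lying over the prime
p of A the induced local homomorphism A_p → B_q is formally smooth for the adic topologies of the
maximal ideals (equivalently, for the adic topology of the maximal ideal of B_q). -/
theorem result (A B : Type u)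
    [CommRing A] [CommRing B] [Algebra A B] [IsNoetherianRing A] [IsNoetherianRing B] :
    CAlg.IsRegularHom A B ↔
      ∀ (q : Ideal B) [q.IsPrime],
        letI := (Localization.localRingHom (Ideal.comap (algebraMap A B) q) q (algebraMap A B) rfl).toAlgebra
        CAlgX.IsAdicFormallySmooth (Localization.AtPrime (Ideal.comap (algebraMap A B) q))
          (Localization.AtPrime q) (IsLocalRing.maximalIdeal (Localization.AtPrime q)) := by
  constructor
  · intro h q _
    haveI : Module.Flat A B := h.1
    haveI hlo : q.LiesOver (q.comap (algebraMap A B)) := ⟨rfl⟩
    letI alg : Algebra (Localization.AtPrime (Ideal.comap (algebraMap A B) q))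
        (Localization.AtPrime q) :=
      (Localization.localRingHom (Ideal.comap (algebraMap A B) q) q (algebraMap A B) rfl).toAlgebra
    haveI : Localization.AtPrime.IsLiesOverAlgebra (q.comap (algebraMap A B)) q := ⟨rfl⟩
    exact Groth.Agent.H87.RegHomLoc.fs_loc' h (q.comap (algebraMap A B)) q
  · intro h
    have hflat : Module.Flat A B := by
      rw [← RingHom.flat_algebraMap_iff]
      apply RingHom.Flat.ofLocalizationPrime
      intro q hq
      letI alg : Algebra (Localization.AtPrime (Ideal.comap (algebraMap A B) q))
          (Localization.AtPrime q) :=
        (Localization.localRingHom (Ideal.comap (algebraMap A B) q) q (algebraMap A B) rfl).toAlgebra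
      haveI : IsLocalHom (algebraMap (Localization.AtPrime (Ideal.comap (algebraMap A B) q))
          (Localization.AtPrime q)) := Localization.isLocalHom_localRingHom _ _ _ _
      have h1 : Module.Flat (Localization.AtPrime (Ideal.comap (algebraMap A B) q))
          (Localization.AtPrime q) :=
        Groth.Agent.H87.LocalFS.flat_of_fs
          (κ := IsLocalRing.ResidueField (Localization.AtPrime (Ideal.comap (algebraMap A B) q)))
          IsLocalRing.residue_surjective (h q)
      exact h1
    refine ⟨hflat, fun p _ => ?_⟩
    haveI hNf : IsNoetherianRing (p.Fiber B) := Groth.Agent.H34.FibLoc.isNoetherianRing_fiber A B p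
    refine ⟨hNf, Groth.Agent.Lead.GeomRegBC.geomRegular_iff_locFS.2 (fun Q _ => ?_)⟩
    letI alg := Localization.AtPrime.algebraOfLiesOver p
      (Q.comap (Algebra.TensorProduct.includeRight : B →ₐ[A] p.Fiber B))
    refine Groth.Agent.H87.RegHomLoc.fs_fibre_of_fs_loc p Q ?_
    have hr : p = (Q.comap (Algebra.TensorProduct.includeRight : B →ₐ[A] p.Fiber B)).comap
        (algebraMap A B) :=
      Ideal.LiesOver.over (p := p)
        (P := Q.comap (Algebra.TensorProduct.includeRight : B →ₐ[A] p.Fiber B))
    have gen : ∀ (p' : Ideal A) [p'.IsPrime]
        (hp : p' = (Q.comap (Algebra.TensorProduct.includeRight : B →ₐ[A] p.Fiber B)).comap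
          (algebraMap A B)),
        letI := (Localization.localRingHom p'
          (Q.comap (Algebra.TensorProduct.includeRight : B →ₐ[A] p.Fiber B))
          (algebraMap A B) hp).toAlgebra
        CAlgX.IsAdicFormallySmooth (Localization.AtPrime p')
          (Localization.AtPrime (Q.comap (Algebra.TensorProduct.includeRight : B →ₐ[A] p.Fiber B)))
          (IsLocalRing.maximalIdeal (Localization.AtPrime
            (Q.comap (Algebra.TensorProduct.includeRight : B →ₐ[A] p.Fiber B)))) := by
      intro p' _ hp
      subst hp
      exact h (Q.comap (Algebra.TensorProduct.includeRight : B →ₐ[A] p.Fiber B))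
    exact gen p hr

end Groth.Agent.S19864
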