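import Groth.Statements.S19866

set_option autoImplicit false
universe v₁ v₂ u₁ u₂
open CategoryTheory
open FibCat

namespace Groth.Agent.S19866

universe v₃ u₃

section helpers

set_option backward.isDefEq.respectTransparency false
set_option backward.isDefEq.respectTransparency.types false

open CategoryTheory.Functor
open Pseudofunctor Pseudofunctor.CoGrothendieck Opposite FibCat

variable {𝒮 : Type u₁} [Category.{v₁} 𝒮] (F : 𝒮ᵒᵖ ⥤ Cat.{v₂, u₂})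

lemma map' {X Y : LocallyDiscrete 𝒮ᵒᵖ} (x : X ⟶ Y) : F.toPseudofunctor'.map x = F.map x.as := rfl

lemma eqToHom_base' {X Y : CoGrothendieck F.toPseudofunctor'} (h : X = Y) :
    (eqToHom h).base = eqToHom (congrArg (·.base) h) := by
  subst h; rfl

lemma fiber_eq {X : CoGrothendieck F.toPseudofunctor'} :
    X.fiber = (F.toPseudofunctor'.map (𝟙 X.base).op.toLoc).toFunctor.obj X.fiber := by
  simp [-Functor.toPseudofunctor'_map, map']

lemma eqToHom_fiber' {X Y : CoGrothendieck F.toPseudofunctor'} (h : X = Y) :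
    (eqToHom h).fiber = eqToHom (by subst h; exact fiber_eq F) := by
  subst h
  simp [-Functor.toPseudofunctor'_map, map']

/-- the canonical cleavage. -/
abbrev K₀ : Cleavage (CoGrothendieck.forget F.toPseudofunctor') :=
  Cleavage.ofCoGrothendieck F.toPseudofunctor'

lemma obj_eq_self {S : 𝒮} (x : F.toPseudofunctor'.obj ⟨op S⟩) (g : S ⟶ S) (hg : g = 𝟙 S) :
    (F.toPseudofunctor'.map g.op.toLoc).toFunctor.obj x = x := by
  subst hg
  simp [-Functor.toPseudofunctor'_map, map']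

lemma K₀_normalised : (K₀ F).IsNormalised := by
  intro S a ha
  obtain ⟨S', x⟩ := a
  change S' = S at ha
  subst ha
  have h : (K₀ F).obj (a := ⟨S', x⟩) rfl (𝟙 S') = (⟨S', x⟩ : CoGrothendieck F.toPseudofunctor') := by
    apply CoGrothendieck.ext
    · rfl
    · dsimp only [K₀, Cleavage.ofCoGrothendieck, domainCartesianLift]
      exact heq_of_eq (obj_eq_self F x _ (by simp))
  refine ⟨h, ?_⟩
  apply CoGrothendieck.Hom.ext
  swap
  · rw [eqToHom_base']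
    dsimp only [K₀, Cleavage.ofCoGrothendieck, cartesianLift]
    simp
  · rw [eqToHom_fiber']
    dsimp only [K₀, Cleavage.ofCoGrothendieck, cartesianLift]
    simp


lemma obj_comp {S T U : 𝒮} (x : F.toPseudofunctor'.obj ⟨op S⟩) (f : T ⟶ S) (g : U ⟶ T)
    (f' : T ⟶ S) (g' : U ⟶ T) (k : U ⟶ S) (hf : f' = f) (hg : g' = g) (hk : k = g ≫ f) :
    (F.toPseudofunctor'.map g'.op.toLoc).toFunctor.obj
      ((F.toPseudofunctor'.map f'.op.toLoc).toFunctor.obj x) =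
    (F.toPseudofunctor'.map k.op.toLoc).toFunctor.obj x := by
  subst hf hg hk
  simp [-Functor.toPseudofunctor'_map, map']

lemma K₀_splitting : (K₀ F).IsSplitting := by
  refine ⟨K₀_normalised F, ?_⟩
  intro S T U f g a ha
  obtain ⟨S', x⟩ := a
  change S' = S at ha
  subst ha
  have h : (K₀ F).obj ((K₀ F).obj_proj (a := ⟨S', x⟩) rfl f) g =
      (K₀ F).obj (a := ⟨S', x⟩) rfl (g ≫ f) := by
    apply CoGrothendieck.ext
    · rfl
    · dsimp only [K₀, Cleavage.ofCoGrothendieck, domainCartesianLift]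
      exact heq_of_eq (obj_comp F x f g _ _ _ (by simp) (by simp) (by simp))
  refine ⟨h, ?_⟩
  apply CoGrothendieck.Hom.ext
  swap
  · rw [CoGrothendieck.categoryStruct_comp_base, CoGrothendieck.categoryStruct_comp_base,
      eqToHom_base']
    dsimp only [K₀, Cleavage.ofCoGrothendieck, cartesianLift]
    simp
  · rw [CoGrothendieck.categoryStruct_comp_fiber, CoGrothendieck.categoryStruct_comp_fiber,
      eqToHom_fiber']
    dsimp only [K₀, Cleavage.ofCoGrothendieck, cartesianLift]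
    simp [-Functor.toPseudofunctor'_map, map']


section transport

variable {𝒳 : Type u₂} [Category.{v₂} 𝒳] {𝒴 : Type u₃} [Category.{v₃} 𝒴]
  (q : 𝒴 ⥤ 𝒮) (Φ : 𝒳 ⥤ 𝒴) (Ψ : 𝒴 ⥤ 𝒳) (h₁ : Φ ⋙ Ψ = 𝟭 𝒳) (h₂ : Ψ ⋙ Φ = 𝟭 𝒴)

include h₁ in
lemma ΨΦ_obj (a : 𝒳) : Ψ.obj (Φ.obj a) = a := Functor.congr_obj h₁ a

include h₂ in
lemma ΦΨ_obj (b : 𝒴) : Φ.obj (Ψ.obj b) = b := Functor.congr_obj h₂ b

lemma ΨΦ_map {a a' : 𝒳} (φ : a ⟶ a') :
    Ψ.map (Φ.map φ) = eqToHom (ΨΦ_obj Φ Ψ h₁ a) ≫ φ ≫ eqToHom (ΨΦ_obj Φ Ψ h₁ a').symm :=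
  Functor.congr_hom h₁ φ

lemma ΦΨ_map {b b' : 𝒴} (φ : b ⟶ b') :
    Φ.map (Ψ.map φ) = eqToHom (ΦΨ_obj Φ Ψ h₂ b) ≫ φ ≫ eqToHom (ΦΨ_obj Φ Ψ h₂ b').symm :=
  Functor.congr_hom h₂ φ

lemma isHomLift_Φ {R S : 𝒮} {a b : 𝒳} (f : R ⟶ S) (φ : a ⟶ b) [h : (Φ ⋙ q).IsHomLift f φ] :
    q.IsHomLift f (Φ.map φ) := by
  obtain ⟨⟩ := h
  exact Functor.IsHomLift.map (Φ.map φ)

include h₂ in
lemma isHomLift_Ψ {R S : 𝒮} {a b : 𝒴} (f : R ⟶ S) (φ : a ⟶ b) [h : q.IsHomLift f φ] :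
    (Φ ⋙ q).IsHomLift f (Ψ.map φ) := by
  apply IsHomLift.of_fac' (Φ ⋙ q) f (Ψ.map φ)
    ((congrArg q.obj (ΦΨ_obj Φ Ψ h₂ a)).trans (IsHomLift.domain_eq q f φ))
    ((congrArg q.obj (ΦΨ_obj Φ Ψ h₂ b)).trans (IsHomLift.codomain_eq q f φ))
  rw [Functor.comp_map, ΦΨ_map Φ Ψ h₂, Functor.map_comp, Functor.map_comp, eqToHom_map, eqToHom_map,
    IsHomLift.fac' q f φ]
  simp

include h₂ in
lemma isCartesian_Ψ {R S : 𝒮} {b₀ : 𝒴} {a : 𝒳} (f : R ⟶ S) (φ₀ : b₀ ⟶ Φ.obj a)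
    [q.IsCartesian f φ₀] :
    (Φ ⋙ q).IsCartesian f (Ψ.map φ₀ ≫ eqToHom (ΨΦ_obj Φ Ψ h₁ a)) := by
  have : (Φ ⋙ q).IsHomLift f (Ψ.map φ₀) := isHomLift_Ψ q Φ Ψ h₂ f φ₀
  refine { toIsHomLift := inferInstance, universal_property := ?_ }
  intro a' φ' hφ'
  have : q.IsHomLift f (Φ.map φ') := isHomLift_Φ q Φ f φ'
  let χ₀ := IsCartesian.map q f φ₀ (Φ.map φ')
  have hχ₀ : q.IsHomLift (𝟙 R) χ₀ := inferInstance
  have : (Φ ⋙ q).IsHomLift (𝟙 R) (Ψ.map χ₀) := isHomLift_Ψ q Φ Ψ h₂ (𝟙 R) χ₀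
  refine ⟨eqToHom (ΨΦ_obj Φ Ψ h₁ a').symm ≫ Ψ.map χ₀, ⟨inferInstance, ?_⟩, ?_⟩
  · rw [Category.assoc, ← Category.assoc (Ψ.map χ₀), ← Ψ.map_comp, IsCartesian.fac,
      ΨΦ_map Φ Ψ h₁]
    simp
  · rintro χ' ⟨hχ', hχ'φ⟩
    have : q.IsHomLift (𝟙 R) (Φ.map χ') := isHomLift_Φ q Φ (𝟙 R) χ'
    have key : Φ.map χ' ≫ eqToHom (ΦΨ_obj Φ Ψ h₂ b₀) = χ₀ := by
      apply IsCartesian.map_uniq
      rw [← hχ'φ, Functor.map_comp, Functor.map_comp, ΦΨ_map Φ Ψ h₂, eqToHom_map]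
      simp
    rw [← key, Functor.map_comp, ΨΦ_map Φ Ψ h₁, eqToHom_map]
    simp

/-- the transported cleavage. -/
noncomputable def transportCleavage (K : Cleavage q) : Cleavage (Φ ⋙ q) where
  obj {R S a} ha f := Ψ.obj (K.obj (a := Φ.obj a) ha f)
  lift {R S a} ha f := Ψ.map (K.lift (a := Φ.obj a) ha f) ≫ eqToHom (ΨΦ_obj Φ Ψ h₁ a)
  isCartesian {R S a} ha f := isCartesian_Ψ q Φ Ψ h₁ h₂ f (K.lift (a := Φ.obj a) ha f)

omit [Category.{v₂} 𝒳] in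
lemma cleavage_congr (K : Cleavage q) {R S : 𝒮} {a a' : 𝒴} (e : a = a') (ha : q.obj a = S)
    (f : R ⟶ S) :
    ∃ h : K.obj ha f = K.obj (a := a') (e ▸ ha) f,
      K.lift ha f = eqToHom h ≫ K.lift (a := a') (e ▸ ha) f ≫ eqToHom e.symm := by
  subst e
  exact ⟨rfl, by simp⟩

lemma transport_splitting (K : Cleavage q) (hK : K.IsSplitting) :
    (transportCleavage q Φ Ψ h₁ h₂ K).IsSplitting := by
  constructor
  · intro S a ha
    have ha' : q.obj (Φ.obj a) = S := ha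
    obtain ⟨h₀, hl₀⟩ := hK.1 ha'
    refine ⟨(congrArg Ψ.obj h₀).trans (ΨΦ_obj Φ Ψ h₁ a), ?_⟩
    change Ψ.map (K.lift (a := Φ.obj a) ha (𝟙 S)) ≫ eqToHom _ = eqToHom _
    rw [hl₀, eqToHom_map, eqToHom_trans]
  · intro S T U f g a ha
    have ha' : q.obj (Φ.obj a) = S := ha
    obtain ⟨h', hl'⟩ := hK.2 f g ha'
    obtain ⟨h, hl⟩ := cleavage_congr q K (ΦΨ_obj Φ Ψ h₂ (K.obj (a := Φ.obj a) ha f))
      ((transportCleavage q Φ Ψ h₁ h₂ K).obj_proj ha f) g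
    refine ⟨(congrArg Ψ.obj (h.trans h')), ?_⟩
    change (Ψ.map (K.lift (a := Φ.obj (Ψ.obj (K.obj (a := Φ.obj a) ha f))) _ g) ≫ eqToHom _) ≫
      (Ψ.map (K.lift (a := Φ.obj a) ha f) ≫ eqToHom _) =
      eqToHom _ ≫ (Ψ.map (K.lift (a := Φ.obj a) ha (g ≫ f)) ≫ eqToHom _)
    rw [hl]
    simp only [Functor.map_comp, eqToHom_map, Category.assoc, eqToHom_trans_assoc, eqToHom_refl,
      Category.id_comp]
    rw [← Ψ.map_comp_assoc, hl']
    simp [eqToHom_map]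

end transport


end helpers


/-- Let p : 𝒳 → 𝒮 be a functor, F : 𝒮ᵒᵖ → Cat a strict functor, and suppose 𝒳 is isomorphic over 𝒮 to
the category of pairs (U, x), x an object of F(U), built from F: there are functors Φ : 𝒳 → ∫F and Ψ
: ∫F → 𝒳 inverse to each other on the nose with Φ followed by the projection equal to p. Then 𝒳 has
a cleavage over 𝒮 which is a splitting: the chosen transport morphism over each identity is the
identity, and the chosen transport morphism of g at f^* a followed by that of f at a is the chosen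
transport morphism of g ≫ f at a. In particular the inverse-image functors of that cleavage satisfy
(fg)^* = g^* f^* on the nose, which is the published conclusion; no fibredness hypothesis is needed,
𝒳 being fibred as a consequence. -/
theorem result {𝒮 : Type u₁} [Category.{v₁} 𝒮] {𝒳 : Type u₂} [Category.{v₂} 𝒳]
    (p : 𝒳 ⥤ 𝒮) (F : 𝒮ᵒᵖ ⥤ Cat.{v₂, u₂})
    (Φ : 𝒳 ⥤ Pseudofunctor.CoGrothendieck F.toPseudofunctor')
    (Ψ : Pseudofunctor.CoGrothendieck F.toPseudofunctor' ⥤ 𝒳)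
    (h₁ : Φ ⋙ Ψ = 𝟭 𝒳) (h₂ : Ψ ⋙ Φ = 𝟭 _)
    (h₃ : Φ ⋙ Pseudofunctor.CoGrothendieck.forget F.toPseudofunctor' = p) :
    ∃ K : FibCat.Cleavage p, K.IsSplitting := by
  subst h₃
  exact ⟨transportCleavage _ Φ Ψ h₁ h₂ (K₀ F), transport_splitting _ Φ Ψ h₁ h₂ _ (K₀_splitting F)⟩

end Groth.Agent.S19866
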