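import Groth.Statements.S1987
import Mathlib.RingTheory.Polynomial.Eisenstein.Basic
import Mathlib.RingTheory.DiscreteValuationRing.TFAE
import Mathlib.RingTheory.AdjoinRoot
import Mathlib.RingTheory.Ideal.GoingUp
import Mathlib.RingTheory.Valuation.ValuationSubring
import Mathlib.RingTheory.Valuation.ValuationRing
import Mathlib.RingTheory.Polynomial.UniqueFactorization
import Mathlib.RingTheory.Polynomial.RationalRoot
import Mathlib.Tactic.Ring
import Mathlib.Tactic.Linarith

set_option autoImplicit false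
universe u
open Polynomial
open EtAlg

namespace Groth.Agent.S1987

section General

variable (B K : Type u) [CommRing B] [IsDomain B] [ValuationRing B] [Field K] [Algebra B K]
  [IsFractionRing B K]

/-- The valuation subring of the fraction field `K` given by the image of a valuation ring `B`. -/
noncomputable def V0 : ValuationSubring K := (ValuationRing.valuation B K).valuationSubring

variable {B K}

theorem mem_V0 {y : K} : y ∈ V0 B K ↔ ∃ b : B, algebraMap B K b = y :=
  ValuationRing.mem_integer_iff (A := B) (K := K) y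

theorem val_lt_one_iff (V : ValuationSubring K) {y : K} (hy : y ≠ 0) :
    V.valuation y < 1 ↔ y⁻¹ ∉ V := by
  have hpos : 0 < V.valuation y := zero_lt_iff.mpr ((Valuation.ne_zero_iff _).mpr hy)
  rw [← V.valuation_le_one_iff, map_inv₀, inv_le_one₀ hpos, not_le]

theorem V0_val_lt_one {b : B} (hb : b ∈ IsLocalRing.maximalIdeal B) :
    (V0 B K).valuation (algebraMap B K b) < 1 := by
  by_cases hb0 : b = 0
  · rw [hb0, map_zero, map_zero]; exact zero_lt_one
  · have hy : algebraMap B K b ≠ 0 :=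
      fun h => hb0 ((IsFractionRing.injective B K) (by rw [h, map_zero]))
    rw [val_lt_one_iff _ hy, mem_V0]
    rintro ⟨c, hc⟩
    have h1 : algebraMap B K (b * c) = algebraMap B K 1 := by
      rw [map_mul, hc, map_one, mul_inv_cancel₀ hy]
    have h2 : b * c = 1 := IsFractionRing.injective B K h1
    exact (IsLocalRing.mem_maximalIdeal _).1 hb (IsUnit.of_mul_eq_one c h2)

theorem eq_V0_of_dominates (V : ValuationSubring K) (h1 : ∀ b : B, algebraMap B K b ∈ V)
    (h2 : ∀ b ∈ IsLocalRing.maximalIdeal B, V.valuation (algebraMap B K b) < 1) :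
    V = V0 B K := by
  refine SetLike.ext fun y => ⟨fun hy => ?_, fun hy => ?_⟩
  · by_contra hy0
    have hyinv : y⁻¹ ∈ V0 B K := ((V0 B K).mem_or_inv_mem y).resolve_left hy0
    obtain ⟨b, hb⟩ := mem_V0.1 hyinv
    have hy_ne : y ≠ 0 := by
      rintro rfl
      exact hy0 (zero_mem _)
    have hbm : b ∈ IsLocalRing.maximalIdeal B := by
      rw [IsLocalRing.mem_maximalIdeal, mem_nonunits_iff]
      rintro ⟨u, rfl⟩
      apply hy0
      refine mem_V0.2 ⟨((u⁻¹ : Bˣ) : B), ?_⟩
      have h3 : algebraMap B K ((u⁻¹ : Bˣ) : B) * algebraMap B K (u : B) = 1 := by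
        rw [← map_mul, Units.inv_mul, map_one]
      rw [hb] at h3
      exact (mul_inv_eq_one₀ hy_ne).1 h3
    have hlt := h2 b hbm
    rw [hb, map_inv₀] at hlt
    have hpos : 0 < V.valuation y := zero_lt_iff.mpr ((Valuation.ne_zero_iff _).mpr hy_ne)
    have hle : V.valuation y ≤ 1 := (V.valuation_le_one_iff y).2 hy
    exact absurd hlt (not_lt.2 ((one_le_inv₀ hpos).2 hle))
  · obtain ⟨b, rfl⟩ := mem_V0.1 hy
    exact h1 b

end General

section Main

variable {A : Type u} [CommRing A] [IsDomain A] [IsDiscreteValuationRing A] {π : A} {n : ℕ}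

/-- The Eisenstein polynomial `X ^ n - π`. -/
noncomputable abbrev pol (π : A) (n : ℕ) : A[X] := X ^ n - C π

theorem pol_monic (hn : 2 ≤ n) : (pol π n).Monic := monic_X_pow_sub_C π (by omega)

theorem pol_natDegree : (pol π n).natDegree = n := natDegree_X_pow_sub_C

theorem pi_not_mem_sq (hπ : Irreducible π) : π ∉ (Ideal.span {π} : Ideal A) ^ 2 := by
  rw [Ideal.span_singleton_pow, Ideal.mem_span_singleton]
  rintro ⟨c, hc⟩
  have h1 : π * 1 = π * (π * c) := by rw [mul_one, ← mul_assoc, ← pow_two]; exact hc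
  have h2 : 1 = π * c := mul_left_cancel₀ hπ.ne_zero h1
  exact hπ.not_isUnit (IsUnit.of_mul_eq_one c h2.symm)

theorem pol_irreducible (hπ : Irreducible π) (hn : 2 ≤ n) : Irreducible (pol π n) := by
  have hmon := pol_monic (π := π) hn
  have hP : IsLocalRing.maximalIdeal A = Ideal.span {π} := hπ.maximalIdeal_eq
  have hE : (pol π n).IsEisensteinAt (IsLocalRing.maximalIdeal A) := by
    refine hmon.isEisensteinAt_of_mem_of_notMem (IsLocalRing.maximalIdeal.isMaximal A).ne_top ?_ ?_
    · intro k hk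
      rw [pol_natDegree] at hk
      show coeff (X ^ n - C π) k ∈ _
      rw [coeff_sub, coeff_X_pow, coeff_C, if_neg (show ¬ k = n by omega)]
      split_ifs with h0
      · rw [zero_sub, hP]; exact neg_mem (Ideal.mem_span_singleton_self π)
      · rw [sub_zero]; exact zero_mem _
    · show coeff (X ^ n - C π) 0 ∉ _
      rw [coeff_sub, coeff_X_pow, coeff_C_zero, if_neg (show ¬ 0 = n by omega), zero_sub, hP]
      intro h
      exact pi_not_mem_sq hπ (neg_mem_iff.1 h)
  exact hE.irreducible (IsLocalRing.maximalIdeal.isMaximal A).isPrime hmon.isPrimitive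
    (by rw [pol_natDegree]; omega)

theorem pol_prime (hπ : Irreducible π) (hn : 2 ≤ n) : Prime (pol π n) :=
  UniqueFactorizationMonoid.irreducible_iff_prime.1 (pol_irreducible hπ hn)

theorem isDomain_B (hπ : Irreducible π) (hn : 2 ≤ n) : IsDomain (AdjoinRoot (pol π n)) :=
  AdjoinRoot.isDomain_of_prime (pol_prime hπ hn)

theorem root_pow : (AdjoinRoot.root (pol π n)) ^ n = AdjoinRoot.of (pol π n) π := by
  have h : AdjoinRoot.mk (pol π n) (X ^ n - C π) = 0 := AdjoinRoot.mk_self
  rw [map_sub, map_pow, AdjoinRoot.mk_X, AdjoinRoot.mk_C, sub_eq_zero] at h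
  exact h

theorem decomp (y : AdjoinRoot (pol π n)) :
    ∃ (z : AdjoinRoot (pol π n)) (a : A),
      y = z * AdjoinRoot.root (pol π n) + AdjoinRoot.of (pol π n) a := by
  obtain ⟨p, rfl⟩ := AdjoinRoot.mk_surjective y
  refine ⟨AdjoinRoot.mk _ p.divX, p.coeff 0, ?_⟩
  conv_lhs => rw [← Polynomial.divX_mul_X_add p]
  rw [map_add, map_mul, AdjoinRoot.mk_X, AdjoinRoot.mk_C]

theorem isIntegral_B (hn : 2 ≤ n) : Algebra.IsIntegral A (AdjoinRoot (pol π n)) :=
  have := (pol_monic (π := π) hn).finite_adjoinRoot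
  Algebra.IsIntegral.of_finite A _

theorem of_mem_span_root {a : A} (hπ : Irreducible π) (hn : 2 ≤ n)
    (ha : a ∈ IsLocalRing.maximalIdeal A) :
    AdjoinRoot.of (pol π n) a ∈ Ideal.span {AdjoinRoot.root (pol π n)} := by
  rw [hπ.maximalIdeal_eq, Ideal.mem_span_singleton] at ha
  obtain ⟨c, rfl⟩ := ha
  rw [Ideal.mem_span_singleton, map_mul, ← root_pow]
  exact dvd_mul_of_dvd_left (dvd_pow_self _ (by omega)) _

theorem maximal_eq (hπ : Irreducible π) (hn : 2 ≤ n) (M : Ideal (AdjoinRoot (pol π n)))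
    (hM : M.IsMaximal) : M = Ideal.span {AdjoinRoot.root (pol π n)} := by
  have := isIntegral_B (π := π) hn
  have hc : (M.comap (algebraMap A (AdjoinRoot (pol π n)))).IsMaximal :=
    Ideal.isMaximal_comap_of_isIntegral_of_isMaximal M
  have hc' : M.comap (algebraMap A (AdjoinRoot (pol π n))) = IsLocalRing.maximalIdeal A :=
    IsLocalRing.eq_maximalIdeal hc
  have hπM : AdjoinRoot.of (pol π n) π ∈ M := by
    have h0 : π ∈ M.comap (algebraMap A (AdjoinRoot (pol π n))) := by
      rw [hc', hπ.maximalIdeal_eq]; exact Ideal.mem_span_singleton_self π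
    exact h0
  have hxM : AdjoinRoot.root (pol π n) ∈ M := by
    rw [← root_pow] at hπM
    exact hM.isPrime.mem_of_pow_mem n hπM
  apply le_antisymm
  · intro y hy
    obtain ⟨z, a, rfl⟩ := decomp y
    have ha : AdjoinRoot.of (pol π n) a ∈ M := by
      have h0 : AdjoinRoot.of (pol π n) a =
          (z * AdjoinRoot.root (pol π n) + AdjoinRoot.of (pol π n) a) -
            z * AdjoinRoot.root (pol π n) := by ring
      rw [h0]
      exact M.sub_mem hy (M.mul_mem_left z hxM)
    have ha' : a ∈ IsLocalRing.maximalIdeal A := by rw [← hc']; exact ha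
    exact Ideal.add_mem _ (Ideal.mul_mem_left _ z (Ideal.mem_span_singleton_self _))
      (of_mem_span_root hπ hn ha')
  · rw [Ideal.span_singleton_le_iff_mem]; exact hxM

theorem isLocalRing_B (hπ : Irreducible π) (hn : 2 ≤ n) :
    IsLocalRing (AdjoinRoot (pol π n)) := by
  have := isDomain_B hπ hn
  obtain ⟨M, hM⟩ := Ideal.exists_maximal (AdjoinRoot (pol π n))
  refine IsLocalRing.of_unique_max_ideal ⟨M, hM, fun M' hM' => ?_⟩
  rw [maximal_eq hπ hn M hM, maximal_eq hπ hn M' hM']

theorem maximalIdeal_B (hπ : Irreducible π) (hn : 2 ≤ n) [IsLocalRing (AdjoinRoot (pol π n))] :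
    IsLocalRing.maximalIdeal (AdjoinRoot (pol π n)) = Ideal.span {AdjoinRoot.root (pol π n)} :=
  maximal_eq hπ hn _ (IsLocalRing.maximalIdeal.isMaximal _)

theorem root_ne_zero (hπ : Irreducible π) (hn : 2 ≤ n) : AdjoinRoot.root (pol π n) ≠ 0 := by
  intro h
  have h1 : AdjoinRoot.of (pol π n) π = 0 := by rw [← root_pow, h, zero_pow (by omega)]
  have hinj : Function.Injective (AdjoinRoot.of (pol π n)) := by
    apply AdjoinRoot.of.injective_of_degree_ne_zero
    intro hd
    have h2 := natDegree_eq_zero_iff_degree_le_zero.2 hd.le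
    rw [pol_natDegree] at h2
    omega
  exact hπ.ne_zero (hinj (by rw [h1, map_zero]))

theorem isDVR_B (hπ : Irreducible π) (hn : 2 ≤ n) [IsDomain (AdjoinRoot (pol π n))] :
    IsDiscreteValuationRing (AdjoinRoot (pol π n)) := by
  have hloc := isLocalRing_B hπ hn
  have hmax := maximalIdeal_B hπ hn
  have hnf : ¬ IsField (AdjoinRoot (pol π n)) := by
    rw [IsLocalRing.isField_iff_maximalIdeal_eq, hmax, Ideal.span_singleton_eq_bot]
    exact root_ne_zero hπ hn
  refine ((IsDiscreteValuationRing.TFAE (AdjoinRoot (pol π n)) hnf).out 0 4).2 ?_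
  rw [hmax]
  exact ⟨⟨_, rfl⟩⟩

theorem map_max (hπ : Irreducible π) (hn : 2 ≤ n) [IsDomain (AdjoinRoot (pol π n))]
    [IsDiscreteValuationRing (AdjoinRoot (pol π n))] :
    (IsLocalRing.maximalIdeal A).map (algebraMap A (AdjoinRoot (pol π n))) =
      IsLocalRing.maximalIdeal (AdjoinRoot (pol π n)) ^ n := by
  rw [AdjoinRoot.algebraMap_eq, maximalIdeal_B hπ hn, hπ.maximalIdeal_eq, Ideal.map_span,
    Set.image_singleton, Ideal.span_singleton_pow, root_pow]

theorem dom_facts (hπ : Irreducible π) (hn : 2 ≤ n) [IsDomain (AdjoinRoot (pol π n))]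
    [IsDiscreteValuationRing (AdjoinRoot (pol π n))]
    (K₁ : Type u) [Field K₁] [Algebra (AdjoinRoot (pol π n)) K₁]
    (V : ValuationSubring K₁)
    (h : EtRam.Dominates A ((algebraMap (AdjoinRoot (pol π n)) K₁).comp
      (algebraMap A (AdjoinRoot (pol π n)))) V) :
    (∀ b : AdjoinRoot (pol π n), algebraMap (AdjoinRoot (pol π n)) K₁ b ∈ V) ∧
    ∀ b ∈ IsLocalRing.maximalIdeal (AdjoinRoot (pol π n)),
      V.valuation (algebraMap (AdjoinRoot (pol π n)) K₁ b) < 1 := by
  have hmax := maximalIdeal_B hπ hn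
  have hξn : (algebraMap (AdjoinRoot (pol π n)) K₁ (AdjoinRoot.root (pol π n))) ^ n =
      algebraMap (AdjoinRoot (pol π n)) K₁ (AdjoinRoot.of (pol π n) π) := by
    rw [← map_pow, root_pow]
  have hπlt : V.valuation (algebraMap (AdjoinRoot (pol π n)) K₁ (AdjoinRoot.of (pol π n) π)) < 1 :=
    h.2 π (by rw [hπ.maximalIdeal_eq]; exact Ideal.mem_span_singleton_self π)
  have hξlt : V.valuation (algebraMap (AdjoinRoot (pol π n)) K₁ (AdjoinRoot.root (pol π n))) < 1 := by
    by_contra hcon
    rw [not_lt] at hcon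
    have h0 : 1 ≤ V.valuation (algebraMap (AdjoinRoot (pol π n)) K₁
        (AdjoinRoot.root (pol π n))) ^ n := one_le_pow₀ hcon
    rw [← map_pow, hξn] at h0
    exact absurd hπlt (not_lt.2 h0)
  have hξV : algebraMap (AdjoinRoot (pol π n)) K₁ (AdjoinRoot.root (pol π n)) ∈ V :=
    (V.valuation_le_one_iff _).1 hξlt.le
  have himg : ∀ b : AdjoinRoot (pol π n), algebraMap (AdjoinRoot (pol π n)) K₁ b ∈ V := by
    intro b
    obtain ⟨p, rfl⟩ := AdjoinRoot.mk_surjective b
    induction p using Polynomial.induction_on' with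
    | add p q hp hq => rw [map_add, map_add]; exact V.add_mem _ _ hp hq
    | monomial k a =>
      rw [← C_mul_X_pow_eq_monomial, map_mul, map_pow, AdjoinRoot.mk_C, AdjoinRoot.mk_X,
        map_mul, map_pow]
      exact V.mul_mem _ _ (h.1 a) (pow_mem hξV k)
  refine ⟨himg, ?_⟩
  intro b hb
  rw [hmax, Ideal.mem_span_singleton] at hb
  obtain ⟨c, rfl⟩ := hb
  rw [map_mul, map_mul]
  calc V.valuation (algebraMap (AdjoinRoot (pol π n)) K₁ (AdjoinRoot.root (pol π n))) *
        V.valuation (algebraMap (AdjoinRoot (pol π n)) K₁ c)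
      ≤ V.valuation (algebraMap (AdjoinRoot (pol π n)) K₁ (AdjoinRoot.root (pol π n))) * 1 :=
        mul_le_mul' le_rfl ((V.valuation_le_one_iff _).2 (himg c))
    _ = V.valuation (algebraMap (AdjoinRoot (pol π n)) K₁ (AdjoinRoot.root (pol π n))) :=
        mul_one _
    _ < 1 := hξlt

theorem totRam (hπ : Irreducible π) (hn : 2 ≤ n) [IsDomain (AdjoinRoot (pol π n))]
    [IsDiscreteValuationRing (AdjoinRoot (pol π n))]
    (K₁ : Type u) [Field K₁] [Algebra (AdjoinRoot (pol π n)) K₁]
    [IsFractionRing (AdjoinRoot (pol π n)) K₁] :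
    EtRam.IsTotallyRamified A ((algebraMap (AdjoinRoot (pol π n)) K₁).comp
      (algebraMap A (AdjoinRoot (pol π n)))) := by
  have hmax := maximalIdeal_B hπ hn
  have key : ∀ V : ValuationSubring K₁,
      EtRam.Dominates A ((algebraMap (AdjoinRoot (pol π n)) K₁).comp
        (algebraMap A (AdjoinRoot (pol π n)))) V → V = V0 (AdjoinRoot (pol π n)) K₁ := by
    intro V h
    obtain ⟨h1, h2⟩ := dom_facts hπ hn K₁ V h
    exact eq_V0_of_dominates V h1 h2
  refine ⟨⟨V0 (AdjoinRoot (pol π n)) K₁, ?_, ?_⟩, ?_, ?_⟩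
  · intro a
    exact mem_V0.2 ⟨algebraMap A (AdjoinRoot (pol π n)) a, rfl⟩
  · intro a ha
    have h0 : AdjoinRoot.of (pol π n) a ∈ IsLocalRing.maximalIdeal (AdjoinRoot (pol π n)) := by
      rw [hmax]; exact of_mem_span_root hπ hn ha
    exact V0_val_lt_one h0
  · intro V V' hV hV'
    rw [key V hV, key V' hV']
  · intro V h r
    obtain ⟨h1, h2⟩ := dom_facts hπ hn K₁ V h
    obtain ⟨⟨y, hy⟩, rfl⟩ := IsLocalRing.residue_surjective r
    have hy' : y ∈ V0 (AdjoinRoot (pol π n)) K₁ := by rw [← key V h]; exact hy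
    obtain ⟨b, hb⟩ := mem_V0.1 hy'
    obtain ⟨z, a, hzb⟩ := decomp b
    refine ⟨a, ?_⟩
    have hsub : RingHom.codRestrict ((algebraMap (AdjoinRoot (pol π n)) K₁).comp
        (algebraMap A (AdjoinRoot (pol π n)))) V h.1 a - ⟨y, hy⟩ ∈ IsLocalRing.maximalIdeal V := by
      rw [ValuationSubring.valuation_lt_one_iff]
      have hcoe : ((RingHom.codRestrict ((algebraMap (AdjoinRoot (pol π n)) K₁).comp
          (algebraMap A (AdjoinRoot (pol π n)))) V h.1 a - ⟨y, hy⟩ : V) : K₁) =
          -(algebraMap (AdjoinRoot (pol π n)) K₁ (z * AdjoinRoot.root (pol π n))) := by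
        have e1 : ((RingHom.codRestrict ((algebraMap (AdjoinRoot (pol π n)) K₁).comp
          (algebraMap A (AdjoinRoot (pol π n)))) V h.1 a - ⟨y, hy⟩ : V) : K₁) =
          algebraMap (AdjoinRoot (pol π n)) K₁ (AdjoinRoot.of (pol π n) a) - y := rfl
        rw [e1, ← hb, hzb, map_add]
        ring
      rw [hcoe, Valuation.map_neg]
      refine h2 _ ?_
      rw [hmax]
      exact Ideal.mem_span_singleton.2 (dvd_mul_left _ _)
    have h3 := (IsLocalRing.residue_eq_zero_iff _).2 hsub
    rw [map_sub, sub_eq_zero] at h3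
    exact h3

end Main

/-- Let A be a discrete valuation ring with uniformizer π and n ≥ 2, and let A' = A[x]/(x^n - π). Then
x^n - π is irreducible over A, A' is an integrally closed discrete valuation ring (so it is the
integral closure of A in its fraction field K₁ = K(π^{1/n}), of degree n over K), the maximal ideal
of A generates the n-th power of the maximal ideal of A' (ramification index n), and K₁ is totally
ramified with respect to A. -/
theorem result (A : Type u) [CommRing A] [IsDomain A] [IsDiscreteValuationRing A] (π : A)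
    (hπ : Irreducible π) (n : ℕ) (hn : 2 ≤ n) :
    Irreducible (X ^ n - C π : A[X]) ∧
    ∃ (_ : IsDomain (AdjoinRoot (X ^ n - C π : A[X]))) (_ : IsDiscreteValuationRing (AdjoinRoot (X ^ n - C π : A[X]))),
      IsIntegrallyClosed (AdjoinRoot (X ^ n - C π : A[X])) ∧
      (IsLocalRing.maximalIdeal A).map (algebraMap A (AdjoinRoot (X ^ n - C π : A[X]))) = IsLocalRing.maximalIdeal (AdjoinRoot (X ^ n - C π : A[X])) ^ n ∧
      ∀ (K₁ : Type u) [Field K₁] [Algebra (AdjoinRoot (X ^ n - C π : A[X])) K₁] [IsFractionRing (AdjoinRoot (X ^ n - C π : A[X])) K₁],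
        EtRam.IsTotallyRamified A ((algebraMap (AdjoinRoot (X ^ n - C π : A[X])) K₁).comp (algebraMap A (AdjoinRoot (X ^ n - C π : A[X])))) := by
  refine ⟨pol_irreducible hπ hn, ?_⟩
  have hdom : IsDomain (AdjoinRoot (pol π n)) := isDomain_B hπ hn
  have hdvr : IsDiscreteValuationRing (AdjoinRoot (pol π n)) := isDVR_B hπ hn
  refine ⟨hdom, hdvr, ?_, map_max hπ hn, ?_⟩
  · exact (inferInstance : IsIntegrallyClosed (AdjoinRoot (pol π n)))
  · intro K₁ _ _ _
    exact totRam hπ hn K₁

end Groth.Agent.S1987
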