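import Groth.Statements.S19876
import Groth.Agent.H11.ValFlatCore
import Groth.Agent.H57.GenFlatten

set_option autoImplicit false
universe u
open scoped TensorProduct
open FlatMor

namespace Groth.Agent.S19876

/-- Affine form. Suppose A is a Noetherian ring that is reduced, B is a finitely generated A-algebra
(finite type), and M is a B-module that is finitely generated over B. Then flatness of M over A
holds exactly when, for each discrete valuation ring R together with any ring homomorphism A → R,
the base change R ⊗_A M is a flat R-module. (In the source the statement concerns a coherent module
on a scheme of finite type over a reduced Noetherian scheme, with base changes to spectra of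
discrete valuation rings; since flatness is local on both source and target, what is recorded here
is the affine version, and the discrete valuation rings are taken in the universe of A.) -/
theorem result (A : Type u) [CommRing A] [IsReduced A]
    [IsNoetherianRing A] (B : Type u) [CommRing B] [Algebra A B] [Algebra.FiniteType A B]
    (M : Type u) [AddCommGroup M] [Module A M] [Module B M] [IsScalarTower A B M] [Module.Finite B M] :
    Module.Flat A M ↔
      ∀ (R : Type u) [CommRing R] [IsDomain R] [IsDiscreteValuationRing R] [Algebra A R],
        Module.Flat R (R ⊗[A] M) := by
  constructor
  · intro h R _ _ _ _
    infer_instance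
  · intro h
    apply Groth.Agent.H11.ValFlatCore.flat_of_forall_maximal (A := A) (B := B) M
    intro q hq
    haveI : q.IsPrime := hq.isPrime
    refine Groth.Agent.H11.ValFlatCore.flat_localizedModule_of_dvr q
      (Localization.AtPrime (q.comap (algebraMap A B))) M ?_
    intro V _ _ _ _ hmax E _ _ _ _ _ _ _ _ n _ hn1 hn2
    haveI : Module.Flat V (V ⊗[A] M) := h V
    haveI po : Algebra.IsPushout A V B E := Algebra.IsPushout.symm inferInstance
    haveI : Module.Flat V (E ⊗[B] M) :=
      Module.Flat.of_linearEquiv (Algebra.IsPushout.cancelBaseChange A V B E M)
    exact Groth.Agent.H57.GenFlatten.flat_localizedModule_of_flat n.primeCompl (E ⊗[B] M)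

end Groth.Agent.S19876
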