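import Groth.Statements.S19878
import Groth.Agent.H99.LVFix

set_option autoImplicit false
set_option linter.style.haveILetI false
universe u
open LVCorr

namespace Groth.Agent.S19878

open AlgebraicGeometry CategoryTheory CategoryTheory.Limits in
/-- Let k be a field, C a k-scheme of finite type, X a k-scheme and c = (c₁, c₂) : C → X ×_k X a
correspondence; let Fix(c) = C ×_{X ×_k X} X be its scheme of fixed points (pullback along the
diagonal), with projections i : Fix(c) → C and δ : Fix(c) → X. Let Z ⊂ X be the closed subscheme of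
a quasi-coherent ideal I and suppose c is contracting near Z in a neighbourhood of the fixed points:
there is an open W ⊆ C containing the image of Fix(c) such that on W the inverse image ideal of I
under c₁ is contained in the inverse image ideal of I under c₂ (c stabilizes Z on W) and some power
(I·O_W via c₁)^k₀ is contained in (I·O_W via c₂)^(k₀+1). Then every connected open subset β of
Fix(c) whose image under δ meets Z is contained, as a set, in δ⁻¹(Z). (The source works with
separated schemes of finite type over an algebraically closed field; this row assumes only that C is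
of finite type over a field k.) -/
theorem result {C X Fx : Scheme.{u}} (k : Type u) [Field k]
    (pC : C ⟶ Spec (CommRingCat.of k)) [LocallyOfFiniteType pC] [QuasiCompact pC]
    (pX : X ⟶ Spec (CommRingCat.of k)) (c₁ c₂ : C ⟶ X) (hc : c₁ ≫ pX = c₂ ≫ pX)
    (i : Fx ⟶ C) (δ : Fx ⟶ X) (hF : IsPullback i δ (pullback.lift c₁ c₂ hc) (pullback.diagonal pX))
    (I : X.IdealSheafData) (W : C.Opens) (hW : Set.range i.base ⊆ (W : Set C))
    (hle : I.comap (W.ι ≫ c₁) ≤ I.comap (W.ι ≫ c₂))
    (k₀ : ℕ) (hpow : I.comap (W.ι ≫ c₁) ^ k₀ ≤ I.comap (W.ι ≫ c₂) ^ (k₀ + 1))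
    (β : Fx.Opens) (hβ : _root_.IsConnected (β : Set Fx))
    (hβZ : (δ.base '' (β : Set Fx) ∩ (I.support : Set X)).Nonempty) :
    (β : Set Fx) ⊆ δ.base ⁻¹' (I.support : Set X) := by
  haveI : IsLocallyNoetherian C := LocallyOfFiniteType.isLocallyNoetherian pC
  haveI : IsImmersion i :=
    MorphismProperty.of_isPullback (P := @IsImmersion) hF.flip inferInstance
  haveI : IsLocallyNoetherian Fx := LocallyOfFiniteType.isLocallyNoetherian i
  -- factor i through W
  have hrange : Set.range i.base ⊆ Set.range W.ι.base := by
    rw [Scheme.Opens.range_ι]; exact hW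
  let iW : Fx ⟶ W := IsOpenImmersion.lift W.ι i hrange
  have hiW : iW ≫ W.ι = i := IsOpenImmersion.lift_fac W.ι i hrange
  have hδ1 : i ≫ c₁ = δ := by
    have := congrArg (· ≫ pullback.fst pX pX) hF.w
    simp only [Category.assoc, pullback.diagonal_fst, Category.comp_id] at this
    rw [pullback.lift_fst] at this
    exact this
  have hδ2 : i ≫ c₂ = δ := by
    have := congrArg (· ≫ pullback.snd pX pX) hF.w
    simp only [Category.assoc, pullback.diagonal_snd, Category.comp_id] at this
    rw [pullback.lift_snd] at this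
    exact this
  have h1 : iW ≫ (W.ι ≫ c₁) = δ := by rw [← Category.assoc, hiW, hδ1]
  have h2 : iW ≫ (W.ι ≫ c₂) = δ := by rw [← Category.assoc, hiW, hδ2]
  have hopen : IsOpen ((I.comap δ).support : Set Fx) :=
    Groth.Agent.H99.LVFix.isOpen_support_of_local_pow_le (I.comap δ) k₀
      (Groth.Agent.H99.LVFix.local_pow_le I (W.ι ≫ c₁) (W.ι ≫ c₂) iW δ h1 h2 k₀ hpow)
  have hclopen : IsClopen ((I.comap δ).support : Set Fx) := ⟨(I.comap δ).support.isClosed, hopen⟩
  have hsupp : ((I.comap δ).support : Set Fx) = δ.base ⁻¹' (I.support : Set X) := by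
    rw [Scheme.IdealSheafData.support_comap]; rfl
  rw [← hsupp]
  refine hβ.isPreconnected.subset_isClopen hclopen ?_
  obtain ⟨_, ⟨b, hb, rfl⟩, hbZ⟩ := hβZ
  exact ⟨b, hb, by rw [hsupp]; exact hbZ⟩

end Groth.Agent.S19878
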