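import Groth.Statements.S19879
import Groth.Agent.S18397
import Groth.Agent.S19878
import Groth.Agent.H99.LVFixFin

set_option autoImplicit false
set_option linter.style.haveILetI false
universe u
open LVCorr

namespace Groth.Agent.S19879

open AlgebraicGeometry CategoryTheory CategoryTheory.Limits in
/-- Let k₀ be a finite field with p^e elements, K an algebraic closure of k₀, C₀ a scheme of finite type
over k₀, C = C₀ ×_{k₀} Spec K with its projections, and Fr : C → C the n-th power of the geometric
Frobenius (over K, compatible with the (e·n)-th power of the absolute p-Frobenius of C₀). Let X be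
locally of finite type over K and c₁, c₂ : C → X morphisms over K with c₂ locally quasi-finite, and
let d < p^(e n) be such that for every closed point x of X, with J_x the inverse image under c₂ of
the ideal sheaf of the reduced point x, one has (√J_x)^d ⊂ J_x (so p^(e n) exceeds the ramification
degree of c₂). Then the scheme of fixed points of the twisted correspondence (c₁ ∘ Fr, c₂), namely
the pullback of (c₁ ∘ Fr, c₂) : C → X ×_K X along the diagonal of X, has finite and discrete
underlying topological space. (In the source X, c₁ and c₂ are also defined over k₀ and all schemes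
are separated; neither is needed here.) -/
theorem result {C C₀ X Fx : Scheme.{u}}
    (p : ℕ) [Fact p.Prime] (k₀ : Type u) [Field k₀] [Fintype k₀] [CharP k₀ p] (e : ℕ)
    (hq : Fintype.card k₀ = p ^ e) (K : Type u) [Field K] [Algebra k₀ K] [IsAlgClosure k₀ K]
    (f₀ : C₀ ⟶ Spec (CommRingCat.of k₀)) [LocallyOfFiniteType f₀] [QuasiCompact f₀] [FrobSch.IsCharP C₀ p]
    (πC₀ : C ⟶ C₀) (πK : C ⟶ Spec (CommRingCat.of K))
    (hC : IsPullback πC₀ πK f₀ (Spec.map (CommRingCat.ofHom (algebraMap k₀ K))))
    (n : ℕ) (Fr : C ⟶ C)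
    (hFr₀ : Fr ≫ πC₀ = πC₀ ≫ End.asHom (End.of (FrobSch.frob C₀ p) ^ (e * n)))
    (hFrK : Fr ≫ πK = πK)
    (pX : X ⟶ Spec (CommRingCat.of K)) [LocallyOfFiniteType pX]
    (c₁ c₂ : C ⟶ X) (hc₁ : c₁ ≫ pX = πK) (hc₂ : c₂ ≫ pX = πK)
    [LocallyQuasiFinite c₂] [LocallyOfFiniteType c₂]
    (hcomm : (Fr ≫ c₁) ≫ pX = c₂ ≫ pX) (d : ℕ) (hn : d < p ^ (e * n))
    (hd : ∀ (x : X) (hx : IsClosed ({x} : Set X)),
      ((Scheme.IdealSheafData.vanishingIdeal ⟨{x}, hx⟩).comap c₂).radical ^ d ≤
        (Scheme.IdealSheafData.vanishingIdeal ⟨{x}, hx⟩).comap c₂)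
    (i : Fx ⟶ C) (δ : Fx ⟶ X) (hF : IsPullback i δ (pullback.lift (Fr ≫ c₁) c₂ hcomm) (pullback.diagonal pX)) :
    Finite Fx ∧ DiscreteTopology Fx := by
  -- C is of finite type over K
  haveI : LocallyOfFiniteType πK :=
    MorphismProperty.of_isPullback (P := @LocallyOfFiniteType) hC inferInstance
  haveI : QuasiCompact πK :=
    MorphismProperty.of_isPullback (P := @QuasiCompact) hC inferInstance
  haveI : IsLocallyNoetherian C := LocallyOfFiniteType.isLocallyNoetherian πK
  haveI : CompactSpace C := QuasiCompact.compactSpace_of_compactSpace πK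
  haveI : IsNoetherian C := { }
  haveI : TopologicalSpace.NoetherianSpace C := inferInstance
  haveI : IsImmersion i :=
    MorphismProperty.of_isPullback (P := @IsImmersion) hF.flip inferInstance
  haveI : TopologicalSpace.NoetherianSpace Fx := i.isEmbedding.isInducing.noetherianSpace
  have hδ2 : i ≫ c₂ = δ := by
    have := congrArg (· ≫ pullback.snd pX pX) hF.w
    simp only [Category.assoc, pullback.diagonal_snd, Category.comp_id] at this
    rw [pullback.lift_snd] at this
    exact this
  haveI : LocallyOfFiniteType (δ ≫ pX) := by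
    rw [← hδ2, Category.assoc, hc₂]; infer_instance
  haveI : LocallyOfFiniteType δ := locallyOfFiniteType_of_comp δ pX
  haveI : JacobsonSpace X := LocallyOfFiniteType.jacobsonSpace pX
  apply Groth.Agent.H99.LVFixFin.finite_discrete_of_closed_points_open
  intro y hy
  -- x = δ y is a closed point
  have hx : IsClosed ({δ.base y} : Set X) :=
    δ.closePoints_subset_preimage_closedPoints hy
  obtain ⟨W, hW, hle, k, hpow⟩ := Groth.Agent.S18397.result p k₀ e hq K f₀ πC₀ πK hC n Fr hFr₀ hFrK
    pX c₁ c₂ hc₁ hc₂ hcomm d hn hd (δ.base y) hx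
  have hWi : Set.range i.base ⊆ (W : Set C) := by
    rintro _ ⟨z, rfl⟩
    apply hW
    refine ⟨δ.base z, ?_⟩
    have := congrArg (fun f => f.base z) hF.w
    exact this.symm
  have hopen : IsOpen (connectedComponent y) :=
    Groth.Agent.H12.isOpen_connectedComponent_of_noetherianSpace y
  have hsub := Groth.Agent.S19878.result K πK pX (Fr ≫ c₁) c₂ hcomm i δ hF
    (Scheme.IdealSheafData.vanishingIdeal ⟨{δ.base y}, hx⟩) W hWi hle k hpow
    ⟨connectedComponent y, hopen⟩ isConnected_connectedComponent
    ⟨δ.base y, ⟨y, mem_connectedComponent, rfl⟩, by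
      rw [Scheme.IdealSheafData.coe_support_vanishingIdeal]; rfl⟩
  have hsupp : ((Scheme.IdealSheafData.vanishingIdeal ⟨{δ.base y}, hx⟩).support : Set X) =
      {δ.base y} := by
    rw [Scheme.IdealSheafData.coe_support_vanishingIdeal]; rfl
  rw [hsupp] at hsub
  have hdisc : _root_.IsDiscrete (δ.base ⁻¹' {δ.base y}) := by
    have h1 : _root_.IsDiscrete (c₂.base ⁻¹' {δ.base y}) := c₂.isDiscrete_preimage_singleton _
    have h2 : δ.base ⁻¹' {δ.base y} = i.base ⁻¹' (c₂.base ⁻¹' {δ.base y}) := by
      rw [← hδ2]; rfl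
    rw [h2]
    exact h1.preimage i.continuous.continuousOn i.isEmbedding.injective
  have hss : (connectedComponent y).Subsingleton :=
    Groth.Agent.H99.LVFixFin.subsingleton_of_isPreconnected_of_isDiscrete
      isPreconnected_connectedComponent hdisc hsub
  have : connectedComponent y = {y} :=
    Set.Subsingleton.eq_singleton_of_mem hss mem_connectedComponent
  rw [← this]
  exact hopen

end Groth.Agent.S19879
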