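import Groth.Statements.S1989
import Mathlib
import Groth.Agent.H78.ValExt

set_option autoImplicit false
set_option maxHeartbeats 400000
universe u
open EtAlg

namespace Groth.Agent.S1989

/-- Let K be the fraction field of a discrete valuation ring A, and K ⊂ L ⊂ M finite separable
extensions. If M is tamely ramified, respectively unramified, with respect to A, then so is L. -/
theorem result (A K : Type u) [CommRing A] [IsDomain A] [IsDiscreteValuationRing A] [Field K] [Algebra A K] [IsFractionRing A K] (L M : Type u) [Field L] [Field M]
    [Algebra K L] [Algebra K M] [Algebra L M] [IsScalarTower K L M] [FiniteDimensional K M] [Algebra.IsSeparable K M] :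
    (EtRam.IsTamelyRamified A ((algebraMap K M).comp (algebraMap A K)) →
      EtRam.IsTamelyRamified A ((algebraMap K L).comp (algebraMap A K))) ∧
    (EtRam.IsUnramifiedExt A ((algebraMap K M).comp (algebraMap A K)) →
      EtRam.IsUnramifiedExt A ((algebraMap K L).comp (algebraMap A K))) := by
  haveI : FiniteDimensional K L := FiniteDimensional.left K L M
  haveI : Algebra.IsSeparable K L := Algebra.isSeparable_tower_bot_of_isSeparable K L M
  have hg : (algebraMap K M).comp (algebraMap A K) =
      (algebraMap L M).comp ((algebraMap K L).comp (algebraMap A K)) := by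
    rw [← RingHom.comp_assoc, ← IsScalarTower.algebraMap_eq K L M]
  obtain ⟨π, hπirr⟩ := IsDiscreteValuationRing.exists_irreducible A
  have hπ : IsLocalRing.maximalIdeal A = Ideal.span {π} := hπirr.maximalIdeal_eq
  have hπL : ((algebraMap K L).comp (algebraMap A K)) π ≠ 0 := by
    intro h0
    have hinj : Function.Injective ((algebraMap K L).comp (algebraMap A K)) := by
      rw [RingHom.coe_comp]
      exact (algebraMap K L).injective.comp (IsFractionRing.injective A K)
    exact hπirr.ne_zero (hinj (by rw [h0, map_zero]))
  constructor
  · intro hM V hV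
    obtain ⟨W, rfl⟩ := Groth.Agent.H78.ValExt.exists_ext (M := M) V
    have hW : EtRam.Dominates A ((algebraMap K M).comp (algebraMap A K)) W := by
      rw [hg]; exact (Groth.Agent.H78.ValExt.dominates_comap_iff _ W).mp hV
    letI algV : Algebra A (W.comap (algebraMap L M)) :=
      (RingHom.codRestrict ((algebraMap K L).comp (algebraMap A K))
        (W.comap (algebraMap L M)) hV.1).toAlgebra
    letI algW : Algebra A W :=
      (RingHom.codRestrict ((algebraMap K M).comp (algebraMap A K)) W hW.1).toAlgebra
    letI algVW : Algebra (W.comap (algebraMap L M)) W :=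
      (EtRam.inclOfComap W (algebraMap L M)).toAlgebra
    haveI : IsScalarTower A (W.comap (algebraMap L M)) W :=
      IsScalarTower.of_algebraMap_eq (fun a => Subtype.ext (by
        show ((algebraMap K M).comp (algebraMap A K)) a =
          algebraMap L M (((algebraMap K L).comp (algebraMap A K)) a)
        rw [hg]; rfl))
    haveI hlocVW : IsLocalHom (algebraMap (W.comap (algebraMap L M)) W) :=
      EtRam.isLocalHom_inclOfComap W (algebraMap L M)
    intro hlocV
    haveI : IsLocalHom (algebraMap A (W.comap (algebraMap L M))) := hlocV
    haveI hlocW : IsLocalHom (algebraMap A W) := by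
      rw [IsScalarTower.algebraMap_eq A (W.comap (algebraMap L M)) W]
      exact RingHom.isLocalHom_comp _ _
    obtain ⟨hsepW, hidxW⟩ := hM W hW
    haveI := hsepW
    refine ⟨Algebra.isSeparable_tower_bot_of_isSeparable (IsLocalRing.ResidueField A)
      (IsLocalRing.ResidueField (W.comap (algebraMap L M))) (IsLocalRing.ResidueField W), ?_⟩
    intro p hp hchar hdvd
    apply hidxW p hp hchar
    haveI : IsDiscreteValuationRing (W.comap (algebraMap L M)) :=
      Groth.Agent.H78.ValExt.isDVR_of_dominates A K L _ hV
    haveI : IsDiscreteValuationRing W := Groth.Agent.H78.ValExt.isDVR_of_dominates A K M W hW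
    have hπV : algebraMap A (W.comap (algebraMap L M)) π ≠ 0 := fun h0 =>
      hπL (congrArg Subtype.val h0)
    have hinjVW : Function.Injective (algebraMap (W.comap (algebraMap L M)) W) := by
      intro x y hxy
      apply Subtype.ext
      have := congrArg Subtype.val hxy
      exact (algebraMap L M).injective this
    rw [Groth.Agent.H78.ValExt.ram_mul π hπ hπV hinjVW]
    exact Dvd.dvd.mul_right hdvd _
  · intro hM V hV
    obtain ⟨W, rfl⟩ := Groth.Agent.H78.ValExt.exists_ext (M := M) V
    have hW : EtRam.Dominates A ((algebraMap K M).comp (algebraMap A K)) W := by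
      rw [hg]; exact (Groth.Agent.H78.ValExt.dominates_comap_iff _ W).mp hV
    letI algV : Algebra A (W.comap (algebraMap L M)) :=
      (RingHom.codRestrict ((algebraMap K L).comp (algebraMap A K))
        (W.comap (algebraMap L M)) hV.1).toAlgebra
    letI algW : Algebra A W :=
      (RingHom.codRestrict ((algebraMap K M).comp (algebraMap A K)) W hW.1).toAlgebra
    letI algVW : Algebra (W.comap (algebraMap L M)) W :=
      (EtRam.inclOfComap W (algebraMap L M)).toAlgebra
    haveI : IsScalarTower A (W.comap (algebraMap L M)) W :=
      IsScalarTower.of_algebraMap_eq (fun a => Subtype.ext (by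
        show ((algebraMap K M).comp (algebraMap A K)) a =
          algebraMap L M (((algebraMap K L).comp (algebraMap A K)) a)
        rw [hg]; rfl))
    haveI hlocVW : IsLocalHom (algebraMap (W.comap (algebraMap L M)) W) :=
      EtRam.isLocalHom_inclOfComap W (algebraMap L M)
    intro hlocV
    haveI : IsLocalHom (algebraMap A (W.comap (algebraMap L M))) := hlocV
    haveI hlocW : IsLocalHom (algebraMap A W) := by
      rw [IsScalarTower.algebraMap_eq A (W.comap (algebraMap L M)) W]
      exact RingHom.isLocalHom_comp _ _
    obtain ⟨hwuW, hsepW⟩ := hM W hW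
    haveI := hsepW
    refine ⟨?_, Algebra.isSeparable_tower_bot_of_isSeparable (IsLocalRing.ResidueField A)
      (IsLocalRing.ResidueField (W.comap (algebraMap L M))) (IsLocalRing.ResidueField W)⟩
    unfold EtRam.IsWeaklyUnramified at hwuW ⊢
    apply le_antisymm
    · refine Ideal.map_le_iff_le_comap.mpr (fun a ha => ?_)
      rw [Ideal.mem_comap, IsLocalRing.mem_maximalIdeal, mem_nonunits_iff]
      rw [IsLocalRing.mem_maximalIdeal, mem_nonunits_iff] at ha
      exact fun h => ha (hlocV.map_nonunit a h)
    · intro x hx
      have hxW : algebraMap (W.comap (algebraMap L M)) W x ∈ IsLocalRing.maximalIdeal W := by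
        rw [IsLocalRing.mem_maximalIdeal, mem_nonunits_iff] at hx ⊢
        exact fun h => hx (hlocVW.map_nonunit x h)
      rw [← hwuW, hπ, Ideal.map_span, Set.image_singleton, Ideal.mem_span_singleton'] at hxW
      obtain ⟨w, hw⟩ := hxW
      rw [hπ, Ideal.map_span, Set.image_singleton, Ideal.mem_span_singleton']
      have hwM : (w : M) * algebraMap L M (((algebraMap K L).comp (algebraMap A K)) π) =
          algebraMap L M (x : L) := by
        have h1 : ((w * algebraMap A W π : W) : M) =
            ((algebraMap (W.comap (algebraMap L M)) W x : W) : M) := congrArg Subtype.val hw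
        have h2 : ((algebraMap K M).comp (algebraMap A K)) π =
            algebraMap L M (((algebraMap K L).comp (algebraMap A K)) π) := by rw [hg]; rfl
        calc (w : M) * algebraMap L M (((algebraMap K L).comp (algebraMap A K)) π)
            = (w : M) * ((algebraMap K M).comp (algebraMap A K)) π := by rw [h2]
          _ = algebraMap L M (x : L) := h1
      have hmem : (x : L) / ((algebraMap K L).comp (algebraMap A K)) π ∈
          W.comap (algebraMap L M) := by
        rw [ValuationSubring.mem_comap, map_div₀, ← hwM,
          mul_div_assoc, div_self (by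
            rw [Ne, map_eq_zero_iff _ (algebraMap L M).injective]; exact hπL), mul_one]
        exact w.2
      refine ⟨⟨(x : L) / ((algebraMap K L).comp (algebraMap A K)) π, hmem⟩, Subtype.ext ?_⟩
      show (x : L) / ((algebraMap K L).comp (algebraMap A K)) π *
        ((algebraMap K L).comp (algebraMap A K)) π = x
      exact div_mul_cancel₀ _ hπL

end Groth.Agent.S1989
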