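import Groth.Statements.S19890
import Mathlib

set_option autoImplicit false
set_option linter.style.haveILetI false
universe u
open CAlg

namespace Groth.Agent.S19890

/-- Let R → R' be a faithfully flat ring map between Noetherian integrally closed local domains. Then
unique factorization descends along this map: when R' is a UFD, so is R. (The first assertion of the
lemma, descent of principality for an ideal whose extension to R' is principal, is a separate
statement.) -/
theorem result
    (R R' : Type u) [CommRing R] [CommRing R'] [IsDomain R] [IsDomain R']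
    [IsNoetherianRing R] [IsNoetherianRing R'] [IsLocalRing R] [IsLocalRing R']
    [IsIntegrallyClosed R] [IsIntegrallyClosed R']
    [Algebra R R'] [Module.FaithfullyFlat R R'] [UniqueFactorizationMonoid R'] :
    UniqueFactorizationMonoid R := by
  classical
  rw [UniqueFactorizationMonoid.iff_exists_prime_mem_of_isPrime]
  intro P hP0 hPprime
  haveI := hPprime
  obtain ⟨x, hxP, hx0⟩ := Submodule.exists_mem_ne_zero_of_ne_bot hP0
  obtain ⟨p, hpmin, hpP⟩ := Ideal.exists_minimalPrimes_le
    (show Ideal.span {x} ≤ P from (Ideal.span_singleton_le_iff_mem _).mpr hxP)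
  haveI hpprime : p.IsPrime := hpmin.1.1
  have hass : p ∈ associatedPrimes R (R ⧸ Ideal.span {x}) := by
    apply Module.associatedPrimes.minimalPrimes_annihilator_subset_associatedPrimes R (R ⧸ Ideal.span {x})
    rw [Ideal.annihilator_quotient]
    exact hpmin
  obtain ⟨-, ybar, hpy⟩ := isAssociatedPrime_iff.mp hass
  obtain ⟨y, rfl⟩ := Ideal.Quotient.mk_surjective ybar
  have hpmem : ∀ r : R, r ∈ p ↔ x ∣ r * y := by
    intro r
    rw [hpy, Submodule.mem_colon_singleton, Submodule.mem_bot, Algebra.smul_def,
      Ideal.Quotient.algebraMap_eq, ← map_mul, Ideal.Quotient.eq_zero_iff_mem,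
      Ideal.mem_span_singleton]
  letI : GCDMonoid R' := UniqueFactorizationMonoid.toGCDMonoid R'
  obtain ⟨x', y', hx', hy', hu⟩ := extract_gcd (algebraMap R R' x) (algebraMap R R' y)
  have hrel : IsRelPrime x' y' := gcd_isUnit_iff_isRelPrime.mp hu
  obtain ⟨g, hg⟩ : ∃ g : R', g = gcd (algebraMap R R' x) (algebraMap R R' y) := ⟨_, rfl⟩
  rw [← hg] at hx' hy'
  have hinj : Function.Injective (algebraMap R R') := FaithfulSMul.algebraMap_injective R R'
  have hφx0 : algebraMap R R' x ≠ 0 := fun h => hx0 (hinj (h.trans (map_zero _).symm))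
  have hg0 : g ≠ 0 := by
    intro h0
    rw [h0, zero_mul] at hx'
    exact hφx0 hx'
  have hx'0 : x' ≠ 0 := by
    intro h0
    rw [h0, mul_zero] at hx'
    exact hφx0 hx'
  have hcolon : ∀ r' : R', algebraMap R R' x ∣ r' * algebraMap R R' y ↔ x' ∣ r' := by
    intro r'
    constructor
    · intro h
      have h1 : g * x' ∣ g * (r' * y') := by
        have e : r' * algebraMap R R' y = g * (r' * y') := by
          rw [hy']
          ring
        rw [← hx', ← e]
        exact h
      have h2 : x' ∣ r' * y' := (mul_dvd_mul_iff_left hg0).mp h1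
      exact hrel.dvd_of_dvd_mul_right h2
    · rintro ⟨t, rfl⟩
      refine ⟨t * y', ?_⟩
      rw [hy', hx']
      ring
  have hmap : p.map (algebraMap R R') = Ideal.span {x'} := by
    apply le_antisymm
    · rw [Ideal.map_le_iff_le_comap]
      intro r hr
      rw [Ideal.mem_comap, Ideal.mem_span_singleton]
      apply (hcolon _).mp
      obtain ⟨t, ht⟩ := (hpmem r).mp hr
      exact ⟨algebraMap R R' t, by rw [← map_mul, ht, map_mul]⟩
    · rw [Ideal.span_singleton_le_iff_mem]
      obtain ⟨s', hs'⟩ := (hcolon x').mpr dvd_rfl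
      have hrelation : ∑ i : Fin 2, (![y, -x] i) • (![x', s'] i : R') = 0 := by
        rw [Fin.sum_univ_two]
        simp only [Matrix.cons_val_zero, Matrix.cons_val_one]
        rw [Algebra.smul_def, Algebra.smul_def, map_neg, neg_mul, ← hs', mul_comm]
        exact add_neg_cancel _
      obtain ⟨k, a, z, hz, ha⟩ := Module.Flat.isTrivialRelation_of_sum_smul_eq_zero (R := R) (M := R')
        (f := ![y, -x]) (x := ![x', s']) hrelation
      have h0 := hz 0
      simp only [Matrix.cons_val_zero] at h0
      rw [h0]
      refine Ideal.sum_mem _ (fun j _ => ?_)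
      rw [Algebra.smul_def]
      refine Ideal.mul_mem_right _ _ (Ideal.mem_map_of_mem _ ?_)
      rw [hpmem]
      have hj := ha j
      rw [Fin.sum_univ_two] at hj
      simp only [Matrix.cons_val_zero, Matrix.cons_val_one] at hj
      exact ⟨a 1 j, by linear_combination hj⟩
  have hexists : ∃ j ∈ p, ∃ u : R', IsUnit u ∧ algebraMap R R' j = u * x' := by
    by_contra hcon
    push Not at hcon
    have hle : p.map (algebraMap R R') ≤ Ideal.span {x'} * IsLocalRing.maximalIdeal R' := by
      rw [Ideal.map_le_iff_le_comap]
      intro j hj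
      rw [Ideal.mem_comap]
      have hjm : algebraMap R R' j ∈ Ideal.span {x'} := by
        rw [← hmap]
        exact Ideal.mem_map_of_mem _ hj
      obtain ⟨u, hu⟩ := Ideal.mem_span_singleton'.mp hjm
      have hnu : ¬ IsUnit u := fun h => hcon j hj u h hu.symm
      rw [← hu, mul_comm u x']
      exact Ideal.mul_mem_mul (Ideal.mem_span_singleton_self x')
        ((IsLocalRing.mem_maximalIdeal u).mpr hnu)
    have hx'mem : x' ∈ Ideal.span {x'} * IsLocalRing.maximalIdeal R' := by
      apply hle
      rw [hmap]
      exact Ideal.mem_span_singleton_self x'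
    rw [Ideal.mem_span_singleton_mul] at hx'mem
    obtain ⟨n, hn, hnx⟩ := hx'mem
    have hn1 : n = 1 := mul_left_cancel₀ hx'0 (by rw [hnx, mul_one])
    rw [hn1] at hn
    exact (IsLocalRing.mem_maximalIdeal 1).mp hn isUnit_one
  obtain ⟨j, hjp, u, hu, hju⟩ := hexists
  have hmapj : p.map (algebraMap R R') = (Ideal.span {j}).map (algebraMap R R') := by
    rw [hmap, Ideal.map_span, Set.image_singleton, hju]
    exact (Ideal.span_singleton_mul_left_unit hu x').symm
  have hpj : p = Ideal.span {j} := by
    have h := congrArg (Ideal.comap (algebraMap R R')) hmapj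
    rwa [Ideal.comap_map_eq_self_of_faithfullyFlat, Ideal.comap_map_eq_self_of_faithfullyFlat] at h
  have hj0 : j ≠ 0 := by
    intro h0
    rw [h0, map_zero] at hju
    exact hx'0 ((hu.mul_right_eq_zero).mp hju.symm)
  refine ⟨j, hpP hjp, ?_⟩
  rw [← Ideal.span_singleton_prime hj0, ← hpj]
  exact hpprime

end Groth.Agent.S19890
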