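import Groth.Statements.S19892
import Groth.Agent.H54.ValDense4

set_option autoImplicit false
universe u
open CategoryTheory AlgebraicGeometry
open ValCrit

namespace Groth.Agent.S19892

/-- Let h : Z → Y and f : Y → X be morphisms of quasi-compact quasi-separated schemes, with h dominant
and f locally of finite type. Then f is proper if and only if the following refined valuative
criterion holds: for every point z of Z, every valuation ring R of the residue field κ(z) and every
morphism φ : Spec R → X whose restriction to Spec κ(z) is the canonical morphism Spec κ(z) → Z → Y →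
X, there is exactly one morphism Spec R → Y lying over φ and restricting to Spec κ(z) → Z → Y on the
generic point. (The published statement does not require h to be dominant; its proof uses that every
point of Y generalises to a point of h(Z), and for Z empty the criterion holds whatever f is, so
dominance of h is assumed here.) -/
theorem result {X Y Z : Scheme.{u}} (h : Z ⟶ Y) (f : Y ⟶ X)
    [CompactSpace ↥Z] [QuasiSeparatedSpace ↥Z] [CompactSpace ↥Y] [QuasiSeparatedSpace ↥Y]
    [CompactSpace ↥X] [QuasiSeparatedSpace ↥X] (hd : DenseRange h.base)
    [LocallyOfFiniteType f] :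
    IsProper f ↔
      ∀ (z : ↥Z) (R : ValuationSubring ↑(Z.residueField z)) (φ : Spec (CommRingCat.of ↥R) ⟶ X),
        Spec.map (CommRingCat.ofHom R.subtype) ≫ φ = Z.fromSpecResidueField z ≫ h ≫ f →
        ∃! φ' : Spec (CommRingCat.of ↥R) ⟶ Y,
          Spec.map (CommRingCat.ofHom R.subtype) ≫ φ' = Z.fromSpecResidueField z ≫ h ∧ φ' ≫ f = φ := by

  constructor
  · intro hp z R φ hφ
    haveI := hp
    have hex : ValuativeCriterion.Existence f := by
      have h1 : UniversallyClosed f := inferInstance
      rw [UniversallyClosed.eq_valuativeCriterion] at h1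
      exact h1.1
    have hun : ValuativeCriterion.Uniqueness f := IsSeparated.valuativeCriterion f
    have w : (Z.fromSpecResidueField z ≫ h) ≫ f =
        Spec.map (CommRingCat.ofHom (algebraMap R (Z.residueField z))) ≫ φ := by
      rw [Category.assoc]; exact hφ.symm
    obtain ⟨⟨l⟩⟩ := hex (⟨R, Z.residueField z, Z.fromSpecResidueField z ≫ h, φ, ⟨w⟩⟩ :
      ValuativeCommSq f)
    refine ⟨l.l, ⟨l.fac_left, l.fac_right⟩, ?_⟩
    rintro m ⟨hm1, hm2⟩
    have := (hun (⟨R, Z.residueField z, Z.fromSpecResidueField z ≫ h, φ, ⟨w⟩⟩ :
      ValuativeCommSq f)).elim ⟨m, hm1, hm2⟩ l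
    exact congrArg CommSq.LiftStruct.l this
  · intro EU
    haveI : QuasiCompact f := inferInstance
    haveI : QuasiCompact h := inferInstance
    haveI : QuasiSeparated f := inferInstance
    obtain ⟨huc, hsep⟩ := Groth.Agent.H54.universallyClosed_and_isSeparated_of_dense f h hd
      (Groth.Agent.H54.unique_liftStruct_of h f EU)
    haveI := huc
    haveI := hsep inferInstance
    exact {}

end Groth.Agent.S19892
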