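import Groth.Statements.S19895
import Mathlib
import Groth.Agent.H64.VerlindeLib
-- import your own Groth.Agent.* helpers here

set_option autoImplicit false
open Complex
open VerlindeComb

namespace Groth.Agent.S19895

/-- Fix integers r ≥ 2 and k ≥ 1, and two partitions λ, λ' with k ≥ λ_1 ≥ ⋯ ≥ λ_{r-1} ≥ λ_r = 0 and k ≥
λ'_1 ≥ ⋯ ≥ λ'_{r-1} ≥ λ'_r = 0 such that λ is not equivalent to the dual partition λ'* = (k − λ'_r,
…, k − λ'_1), two integer vectors being equivalent when their difference is a constant vector (a, …,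
a). For an integer vector v with r + k > v_1 > ⋯ > v_{r-1} > v_r = 0 put z(v)_j = exp(2πi v_j / (r +
k)), let S_μ(v) = det(z(v)_j^{μ_i + r − i}) / det(z(v)_j^{r − i}) be the Schur value and P(v) =
∏_{i<j} (2 sin(π (v_i − v_j)/(r + k)))². Then the sum over all such v of exp(−2πi (|λ| + |λ'|) (v_1
+ ⋯ + v_r) / (r (r + k))) · S_λ(v) · S_{λ'}(v) · P(v) vanishes; that is, the genus-zero Verlinde
number of rank r, degree 0 and level k with two parabolic points of types λ, λ' is zero. (Only the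
vanishing case is stated; the complementary case, where the number equals 1, is not part of this
statement. The source allows r = 1, where the non-equivalence hypothesis cannot hold.) Indices are
0-based below: lam i stands for λ_{i+1}. -/
theorem result (r k : ℕ) (hr : 2 ≤ r)
    (hk : 1 ≤ k) (lam lam' : Fin r → ℕ) (hlam : Antitone lam) (hlamk : ∀ i, lam i ≤ k)
    (hlam0 : ∀ i : Fin r, (i : ℕ) = r - 1 → lam i = 0)
    (hlam' : Antitone lam') (hlam'k : ∀ i, lam' i ≤ k) (hlam'0 : ∀ i : Fin r, (i : ℕ) = r - 1 → lam' i = 0)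
    (hne : ¬ ∃ a : ℤ, ∀ i, (lam i : ℤ) - ((k - lam' (Fin.rev i) : ℕ) : ℤ) = a)
    (z : (Fin r → ℕ) → Fin r → ℂ)
    (hz : ∀ v j, z v j = Complex.exp (2 * Real.pi * Complex.I * (v j : ℂ) / ((r : ℂ) + k)))
    (S : (Fin r → ℕ) → (Fin r → ℕ) → ℂ)
    (hS : ∀ μ v, S μ v = (Matrix.of fun i j : Fin r => z v j ^ (μ i + (r - 1 - (i : ℕ)))).det /
        (Matrix.of fun i j : Fin r => z v j ^ (r - 1 - (i : ℕ))).det)
    (P : (Fin r → ℕ) → ℝ)
    (hP : ∀ v, P v = ∏ p ∈ (Finset.univ : Finset (Fin r × Fin r)).filter (fun p => p.1 < p.2),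
        ((2 : ℝ) * Real.sin (Real.pi * ((v p.1 : ℝ) - (v p.2 : ℝ)) / ((r : ℝ) + k))) ^ 2) :
    (∑ v ∈ (Finset.univ : Finset (Fin r → Fin (r + k))).filter
        (fun v : Fin r → Fin (r + k) => StrictAnti v ∧ ∀ i : Fin r, (i : ℕ) = r - 1 → (v i : ℕ) = 0),
      Complex.exp (-(2 * Real.pi * Complex.I * (((∑ i, lam i) + (∑ i, lam' i) : ℕ) : ℂ) *
          ((∑ j, (v j : ℕ) : ℕ) : ℂ) / ((r : ℂ) * ((r : ℂ) + k)))) *
        S lam (fun j => (v j : ℕ)) * S lam' (fun j => (v j : ℕ)) * (P (fun j => (v j : ℕ)) : ℂ)) = 0 := by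
  classical
  have hr1 : 1 ≤ r := by omega
  have hrC : (r:ℂ) ≠ 0 := by
    have : r ≠ 0 := by omega
    exact_mod_cast this
  have hMN : ((r + k : ℕ) : ℂ) = (r:ℂ) + (k:ℂ) := by
    push_cast
    ring
  have hM0 : ((r:ℂ) + (k:ℂ)) ≠ 0 := by
    rw [← hMN]
    have : r + k ≠ 0 := by omega
    exact_mod_cast this
  have h2πI : (2 : ℂ) * Real.pi * I ≠ 0 := by
    have hπ : (Real.pi : ℂ) ≠ 0 := by exact_mod_cast Real.pi_ne_zero
    exact mul_ne_zero (mul_ne_zero two_ne_zero hπ) I_ne_zero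
  obtain ⟨l, hl_def⟩ : ∃ l : Fin r → ℕ, ∀ i, l i = lam i + (r - 1 - (i:ℕ)) :=
    ⟨_, fun _ => rfl⟩
  obtain ⟨l', hl'_def⟩ : ∃ l' : Fin r → ℕ, ∀ i, l' i = lam' i + (r - 1 - (i:ℕ)) :=
    ⟨_, fun _ => rfl⟩
  have hl : StrictAnti l := by
    intro i j hij
    have h1 := hlam hij.le
    have h2 := j.2
    have h3 : (i:ℕ) < (j:ℕ) := hij
    rw [hl_def, hl_def]
    omega
  have hl' : StrictAnti l' := by
    intro i j hij
    have h1 := hlam' hij.le
    have h2 := j.2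
    have h3 : (i:ℕ) < (j:ℕ) := hij
    rw [hl'_def, hl'_def]
    omega
  have hlN : ∀ i, l i < r + k := by
    intro i
    have := hlamk i
    rw [hl_def]
    omega
  have hl'N : ∀ i, l' i < r + k := by
    intro i
    have := hlam'k i
    rw [hl'_def]
    omega
  obtain ⟨s, hs⟩ : ∃ s : ℕ, s = (∑ i, lam i) + (∑ i, lam' i) := ⟨_, rfl⟩
  obtain ⟨ct, hct⟩ : ∃ ct : ℂ, ct = (s:ℂ) / r + ((r:ℂ) - 1) := ⟨_, rfl⟩
  obtain ⟨ω, hω⟩ : ∃ ω : ℂ, ω = exp (-(2 * Real.pi * I * ct / ((r:ℂ) + k))) := ⟨_, rfl⟩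
  obtain ⟨x, hx⟩ : ∃ x : Fin r → ℂ,
      ∀ i, x i = ω * exp (2 * Real.pi * I * (l i : ℂ) / ((r:ℂ) + k)) := ⟨_, fun _ => rfl⟩
  obtain ⟨y, hy⟩ : ∃ y : Fin r → ℂ,
      ∀ i, y i = exp (2 * Real.pi * I * (l' i : ℂ) / ((r:ℂ) + k)) := ⟨_, fun _ => rfl⟩
  obtain ⟨ξ, hξ⟩ : ∃ ξ : ℂ, ξ = ω ^ (r + k) := ⟨_, rfl⟩
  obtain ⟨ε, hε⟩ : ∃ ε : ℂ,
      ε = ((Equiv.Perm.sign (Fin.revPerm : Equiv.Perm (Fin r)) : ℤ) : ℂ) := ⟨_, rfl⟩
  have hT : ∑ i : Fin r, (r - 1 - (i:ℕ)) = ∑ n ∈ Finset.range r, n := by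
    rw [Fin.sum_univ_eq_sum_range (fun n => r - 1 - n) r]
    exact Finset.sum_range_reflect (fun n => n) r
  have hT2 := Finset.sum_range_id_mul_two r
  have hnat : (∑ i, l i) + (∑ i, l' i) = s + r * (r - 1) := by
    simp only [hl_def, hl'_def, Finset.sum_add_distrib]
    rw [hT, hs]
    linarith
  have hsumC : ((∑ i, l i : ℕ) : ℂ) + ((∑ i, l' i : ℕ) : ℂ) = (r:ℂ) * ct := by
    have h := congrArg (fun n : ℕ => (n:ℂ)) hnat
    simp only [Nat.cast_add, Nat.cast_mul] at h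
    rw [h, hct, Nat.cast_sub hr1, Nat.cast_one]
    field_simp
  have hexpN : ∀ n : ℕ, exp (2 * Real.pi * I * (n : ℂ) / ((r:ℂ) + k)) ^ (r + k) = 1 := by
    intro n
    rw [← exp_nat_mul, hMN]
    have : ((r:ℂ) + k) * (2 * Real.pi * I * (n : ℂ) / ((r:ℂ) + k)) =
        (n:ℂ) * (2 * Real.pi * I) := by
      field_simp
    rw [this, exp_nat_mul_two_pi_mul_I]
  have hxN : ∀ i, x i ^ (r + k) = ξ := by
    intro i
    rw [hx, mul_pow, hexpN, mul_one, hξ]
  have hyN : ∀ j, y j ^ (r + k) = 1 := by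
    intro j
    rw [hy, hexpN]
  have hprod : (∏ i, x i) * ∏ j, y j = 1 := by
    have h1 : ∏ i, x i =
        ω ^ r * exp (∑ i, 2 * Real.pi * I * (l i : ℂ) / ((r:ℂ) + k)) := by
      simp only [hx]
      rw [Finset.prod_mul_distrib, Finset.prod_const, Finset.card_univ, Fintype.card_fin,
        exp_sum]
    have h2 : ∏ j, y j = exp (∑ j, 2 * Real.pi * I * (l' j : ℂ) / ((r:ℂ) + k)) := by
      simp only [hy]
      rw [exp_sum]
    rw [h1, h2, hω, ← exp_nat_mul, ← exp_add, ← exp_add]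
    have h3 : (∑ i, (l i : ℂ)) + ∑ j, (l' j : ℂ) = (r:ℂ) * ct := by
      rw [← hsumC]
      push_cast
      ring
    have h4 : (r:ℂ) * -(2 * Real.pi * I * ct / ((r:ℂ) + k)) +
        ∑ i, 2 * Real.pi * I * (l i : ℂ) / ((r:ℂ) + k) +
        ∑ j, 2 * Real.pi * I * (l' j : ℂ) / ((r:ℂ) + k) =
        (2 * Real.pi * I / ((r:ℂ) + k)) *
          (((∑ i, (l i : ℂ)) + ∑ j, (l' j : ℂ)) - (r:ℂ) * ct) := by
      rw [← Finset.sum_div, ← Finset.sum_div, ← Finset.mul_sum, ← Finset.mul_sum]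
      ring
    rw [h4, h3, sub_self, mul_zero, exp_zero]
  have hcaseA : ξ = 1 →
      ∃ i1 i2 : Fin r, i1 ≠ i2 ∧ ∀ j, x i1 * y j ≠ 1 ∧ x i2 * y j ≠ 1 := by
    intro hξ1
    have hξ2 : ξ = exp (-(2 * Real.pi * I * ct)) := by
      rw [hξ, hω, ← exp_nat_mul, hMN]
      congr 1
      field_simp
    rw [hξ2, exp_eq_one_iff] at hξ1
    obtain ⟨n, hn⟩ := hξ1
    have hctn : ct = -(n:ℂ) := by
      apply mul_left_cancel₀ h2πI
      linear_combination (-1 : ℂ) * hn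
    obtain ⟨c, hc_def⟩ : ∃ c : ℤ, c = -n := ⟨_, rfl⟩
    have hcC : (c:ℂ) = ct := by
      rw [hc_def, hctn]
      push_cast
      rfl
    have hc : (r:ℤ) * c = ((∑ i, l i : ℕ) : ℤ) + ((∑ i, l' i : ℕ) : ℤ) := by
      have hC : (r:ℂ) * (c:ℂ) = ((∑ i, l i : ℕ) : ℂ) + ((∑ i, l' i : ℕ) : ℂ) := by
        rw [hcC, hsumC]
      exact_mod_cast hC
    have hne' : ¬ ∀ i, (l i : ℤ) + (l' (Fin.rev i) : ℤ) = c := by
      intro h
      apply hne
      refine ⟨c - ((r:ℤ) - 1) - k, fun i => ?_⟩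
      have h1 := h i
      have h2 := hlam'k (Fin.rev i)
      have h3 : ((Fin.rev i : Fin r) : ℕ) = r - ((i:ℕ) + 1) := Fin.val_rev i
      have h4 := i.2
      rw [hl_def, hl'_def, h3] at h1
      rw [Nat.cast_sub h2]
      push_cast at h1 ⊢
      omega
    obtain ⟨i1, i2, hne12, h12⟩ :=
      Groth.Agent.H64.Verlinde.combi (by omega) l l' hl hl' hlN hl'N c hc hne'
    have hdvd : ∀ i j, x i * y j = 1 →
        ((r + k : ℕ) : ℤ) ∣ (l i : ℤ) + (l' j : ℤ) - c := by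
      intro i j h
      rw [hx, hy, hω, ← exp_add, ← exp_add, exp_eq_one_iff] at h
      obtain ⟨m, hm⟩ := h
      have hm' : (2 * Real.pi * I) * ((l i : ℂ) + (l' j : ℂ) - ct) / ((r:ℂ) + k) =
          m * (2 * Real.pi * I) := by
        rw [← hm]
        ring
      rw [div_eq_iff hM0] at hm'
      have hm2 : (l i : ℂ) + (l' j : ℂ) - ct = m * ((r:ℂ) + k) :=
        mul_left_cancel₀ h2πI (by linear_combination hm')
      refine ⟨m, ?_⟩
      have hm3 : (l i : ℂ) + (l' j : ℂ) - (c:ℂ) = ((r + k : ℕ) : ℂ) * (m:ℂ) := by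
        rw [hcC, hm2, hMN]
        ring
      exact_mod_cast hm3
    exact ⟨i1, i2, hne12, fun j =>
      ⟨fun h => (h12 j).1 (hdvd i1 j h), fun h => (h12 j).2 (hdvd i2 j h)⟩⟩
  obtain ⟨R, hR⟩ : ∃ R : (Fin r → Fin (r+k)) → ℂ, ∀ u, R u =
      (1 - ∏ j, (if ((u j : Fin (r+k)) : ℕ) = 0 then (0:ℂ) else 1)) *
        (Matrix.of fun i j => x i ^ ((u j : Fin (r+k)) : ℕ)).det *
        (Matrix.of fun i j => y i ^ ((u j : Fin (r+k)) : ℕ)).det := ⟨_, fun _ => rfl⟩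
  have hmain : ∑ u ∈ (Finset.univ : Finset (Fin r → Fin (r+k))).filter
      (fun u => StrictAnti u), R u = 0 := by
    simp only [hR]
    exact Groth.Agent.H64.Verlinde.main_abstract (by omega) x y ξ hxN hyN hprod hcaseA
  have key : ∀ v : Fin r → Fin (r + k), StrictAnti v →
      (if (∀ i : Fin r, (i:ℕ) = r - 1 → ((v i : Fin (r+k)) : ℕ) = 0) then
        exp (-(2 * Real.pi * I * (((∑ i, lam i) + (∑ i, lam' i) : ℕ) : ℂ) *
          ((∑ j, ((v j : Fin (r+k)) : ℕ) : ℕ) : ℂ) / ((r : ℂ) * ((r : ℂ) + k)))) *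
        S lam (fun j => ((v j : Fin (r+k)) : ℕ)) * S lam' (fun j => ((v j : Fin (r+k)) : ℕ)) *
          (P (fun j => ((v j : Fin (r+k)) : ℕ)) : ℂ) else 0)
      = ε * R v := by
    intro v hv
    obtain ⟨vn, hvn⟩ : ∃ vn : Fin r → ℕ, vn = fun j => ((v j : Fin (r+k)) : ℕ) := ⟨_, rfl⟩
    have hvnj : ∀ j, ((v j : Fin (r+k)) : ℕ) = vn j := fun j => by rw [hvn]
    rw [← hvn, hR]
    simp only [hvnj]
    have hvlt : ∀ j, vn j < r + k := fun j => by
      rw [← hvnj]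
      exact (v j).2
    have hvinj : ∀ j j', vn j = vn j' → j = j' := fun j j' h => by
      rw [← hvnj, ← hvnj] at h
      exact hv.injective (Fin.ext h)
    have hvanti : ∀ j j', j ≤ j' → vn j' ≤ vn j := fun j j' h => by
      rw [← hvnj, ← hvnj]
      exact hv.antitone h
    obtain ⟨zz, hzz⟩ : ∃ zz : Fin r → ℂ,
        ∀ j, zz j = exp (2 * Real.pi * I * (vn j : ℂ) / ((r:ℂ) + k)) := ⟨_, fun _ => rfl⟩
    obtain ⟨ezz, hezz⟩ : ∃ ezz : Fin r → ℂ,
        ∀ j, ezz j = exp (-(2 * Real.pi * I * (vn j : ℂ) / ((r:ℂ) + k))) := ⟨_, fun _ => rfl⟩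
    have hzzz : ∀ j, z vn j = zz j := fun j => by rw [hz, hzz]
    have hze : ∀ j, zz j * ezz j = 1 := fun j => by
      rw [hzz, hezz, ← exp_add, add_neg_cancel, exp_zero]
    have hexpn : ∀ n : ℕ, exp (2 * Real.pi * I * (n : ℂ) / ((r:ℂ) + k)) =
        exp (2 * Real.pi * I / ((r + k : ℕ) : ℂ)) ^ n := by
      intro n
      rw [← exp_nat_mul, hMN]
      congr 1
      ring
    have hzzinj : Function.Injective zz := by
      intro j j' h
      rw [hzz, hzz, hexpn, hexpn] at h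
      have hprim := Complex.isPrimitiveRoot_exp (r + k) (by omega)
      exact hvinj j j' (hprim.pow_inj (hvlt j) (hvlt j') h)
    obtain ⟨hV1, hV2, hV3⟩ := Groth.Agent.H64.Verlinde.vandermonde_facts zz ezz hze
    have hD0 := hV3 hzzinj
    obtain ⟨D, hD⟩ : ∃ D : ℂ,
        D = (Matrix.of fun i j : Fin r => zz j ^ (r - 1 - (i:ℕ))).det := ⟨_, rfl⟩
    rw [← hD] at hV1 hV2 hD0
    rw [← hε] at hV1
    obtain ⟨Al, hAl⟩ : ∃ Al : ℂ,
        Al = (Matrix.of fun i j : Fin r => zz j ^ (l i)).det := ⟨_, rfl⟩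
    obtain ⟨Al', hAl'⟩ : ∃ Al' : ℂ,
        Al' = (Matrix.of fun i j : Fin r => zz j ^ (l' i)).det := ⟨_, rfl⟩
    have hS1 : S lam vn = Al / D := by
      rw [hS, hAl, hD]
      simp only [hzzz, hl_def]
    have hS2 : S lam' vn = Al' / D := by
      rw [hS, hAl', hD]
      simp only [hzzz, hl'_def]
    have hpowcomm : ∀ (a b : ℕ), exp (2 * Real.pi * I * (a : ℂ) / ((r:ℂ) + k)) ^ b =
        exp (2 * Real.pi * I * (b : ℂ) / ((r:ℂ) + k)) ^ a := by
      intro a b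
      rw [← exp_nat_mul, ← exp_nat_mul]
      congr 1
      ring
    have hF : (Matrix.of fun i j => x i ^ (vn j)).det = (∏ j, ω ^ (vn j)) * Al := by
      rw [hAl, ← Matrix.det_mul_row]
      congr 1
      ext i j
      simp only [Matrix.of_apply]
      rw [hx, mul_pow, hpowcomm, ← hzz]
    have hG : (Matrix.of fun i j => y i ^ (vn j)).det = Al' := by
      rw [hAl']
      congr 1
      ext i j
      simp only [Matrix.of_apply]
      rw [hy, hpowcomm, ← hzz]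
    have h1 : ∀ p : Fin r × Fin r,
        ((((2:ℝ) * Real.sin (Real.pi * ((vn p.1 : ℝ) - (vn p.2 : ℝ)) / ((r : ℝ) + k))) ^ 2 : ℝ) : ℂ)
        = (zz p.2 - zz p.1) * (ezz p.2 - ezz p.1) := by
      intro p
      push_cast
      rw [Groth.Agent.H64.Verlinde.pair_identity, hzz, hzz, hezz, hezz]
    have hPC : (P vn : ℂ) = (ε * D) * ((∏ j, ezz j ^ (r - 1)) * D) := by
      rw [← hV1, ← hV2, hP vn, Complex.ofReal_prod]
      rw [Finset.prod_congr rfl (fun p _ => h1 p), Finset.prod_mul_distrib,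
        Groth.Agent.H64.Verlinde.prod_pairs (fun i j => zz j - zz i),
        Groth.Agent.H64.Verlinde.prod_pairs (fun i j => ezz j - ezz i)]
    have hE : (∏ j, ezz j ^ (r - 1)) =
        exp (-(2 * Real.pi * I * ((r:ℂ) - 1) * ((∑ j, vn j : ℕ) : ℂ) / ((r:ℂ) + k))) := by
      rw [Finset.prod_pow]
      simp only [hezz]
      rw [← exp_sum, ← exp_nat_mul, Nat.cast_sub hr1, Nat.cast_one]
      congr 1
      rw [Finset.sum_neg_distrib, ← Finset.sum_div, ← Finset.mul_sum]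
      push_cast
      ring
    have hω' : (∏ j, ω ^ (vn j)) =
        exp (-(2 * Real.pi * I * (s:ℂ) * ((∑ j, vn j : ℕ) : ℂ) / ((r : ℂ) * ((r : ℂ) + k)))) *
          (∏ j, ezz j ^ (r - 1)) := by
      rw [hE, Finset.prod_pow_eq_pow_sum, hω, ← exp_nat_mul, ← exp_add, hct]
      congr 1
      field_simp
      ring
    rw [hF, hG, hS1, hS2, hPC, hω', ← hs]
    by_cases hq : (∀ i : Fin r, (i:ℕ) = r - 1 → vn i = 0)
    · rw [if_pos hq]
      have hW : ∏ j, (if vn j = 0 then (0:ℂ) else 1) = 0 :=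
        Finset.prod_eq_zero (Finset.mem_univ (⟨r - 1, by omega⟩ : Fin r))
          (by rw [if_pos (hq _ rfl)])
      rw [hW, sub_zero, one_mul]
      field_simp
    · rw [if_neg hq]
      push Not at hq
      obtain ⟨i0, hi0, hvi0⟩ := hq
      have hpos : ∀ j, vn j ≠ 0 := by
        intro j hj
        have hle : j ≤ i0 := by
          have := j.2
          show (j:ℕ) ≤ (i0:ℕ)
          omega
        have := hvanti j i0 hle
        omega
      have hW : ∏ j, (if vn j = 0 then (0:ℂ) else 1) = 1 :=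
        Finset.prod_eq_one (fun j _ => by rw [if_neg (hpos j)])
      rw [hW, sub_self, zero_mul, zero_mul, mul_zero]
  refine Eq.trans ?_ (show ε * ∑ u ∈ (Finset.univ : Finset (Fin r → Fin (r+k))).filter
      (fun u => StrictAnti u), R u = 0 by rw [hmain, mul_zero])
  rw [Finset.mul_sum, Finset.sum_filter, Finset.sum_filter]
  refine Finset.sum_congr rfl fun v _ => ?_
  by_cases hv : StrictAnti v
  · rw [if_pos hv]
    by_cases hq : (∀ i : Fin r, (i:ℕ) = r - 1 → ((v i : Fin (r+k)) : ℕ) = 0)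
    · rw [if_pos ⟨hv, hq⟩]
      have := key v hv
      rw [if_pos hq] at this
      exact this
    · rw [if_neg (fun h => hq h.2)]
      have := key v hv
      rw [if_neg hq] at this
      exact this
  · rw [if_neg hv, if_neg (fun h => hv h.1)]

end Groth.Agent.S19895
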