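import Groth.Statements.S1990
import Mathlib
import Groth.Agent.H78.ValExt

set_option autoImplicit false
set_option maxHeartbeats 400000
universe u
open EtAlg

namespace Groth.Agent.S1990
theorem isLocalHom_of_dominates {A : Type u} [CommRing A] [IsLocalRing A] {F : Type u} [Field F]
    (g : A →+* F) (V : ValuationSubring F) (h : EtRam.Dominates A g V) :
    IsLocalHom (RingHom.codRestrict g V h.1) := by
  constructor
  intro a ha
  by_contra hna
  have hm : a ∈ IsLocalRing.maximalIdeal A := (IsLocalRing.mem_maximalIdeal a).mpr hna
  have h1 := h.2 a hm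
  have h2 : V.valuation ((RingHom.codRestrict g V h.1 a : V) : F) = 1 :=
    (V.valuation_eq_one_iff _).mp ha
  rw [show ((RingHom.codRestrict g V h.1 a : V) : F) = g a from rfl] at h2
  rw [h2] at h1
  exact lt_irrefl _ h1

/-- Let K be the fraction field of a discrete valuation ring A, and K ⊂ L ⊂ M finite separable
extensions. If L/K is tamely ramified (resp. unramified) with respect to A and M/L is tamely
ramified (resp. unramified) with respect to every valuation subring of L dominating A, then M/K is
tamely ramified (resp. unramified) with respect to A. -/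
theorem result (A K : Type u) [CommRing A] [IsDomain A] [IsDiscreteValuationRing A] [Field K] [Algebra A K] [IsFractionRing A K] (L M : Type u) [Field L] [Field M]
    [Algebra K L] [Algebra K M] [Algebra L M] [IsScalarTower K L M] [FiniteDimensional K M] [Algebra.IsSeparable K M] :
    (EtRam.IsTamelyRamified A ((algebraMap K L).comp (algebraMap A K)) →
      (∀ (V : ValuationSubring L), EtRam.Dominates A ((algebraMap K L).comp (algebraMap A K)) V →
        EtRam.IsTamelyRamified V ((algebraMap L M).comp V.subtype)) →
      EtRam.IsTamelyRamified A ((algebraMap K M).comp (algebraMap A K))) ∧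
    (EtRam.IsUnramifiedExt A ((algebraMap K L).comp (algebraMap A K)) →
      (∀ (V : ValuationSubring L), EtRam.Dominates A ((algebraMap K L).comp (algebraMap A K)) V →
        EtRam.IsUnramifiedExt V ((algebraMap L M).comp V.subtype)) →
      EtRam.IsUnramifiedExt A ((algebraMap K M).comp (algebraMap A K))) := by
  haveI : FiniteDimensional K L := FiniteDimensional.left K L M
  haveI : Algebra.IsSeparable K L := Algebra.isSeparable_tower_bot_of_isSeparable K L M
  have hg : (algebraMap K M).comp (algebraMap A K) =
      (algebraMap L M).comp ((algebraMap K L).comp (algebraMap A K)) := by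
    rw [← RingHom.comp_assoc, ← IsScalarTower.algebraMap_eq K L M]
  obtain ⟨π, hπirr⟩ := IsDiscreteValuationRing.exists_irreducible A
  have hπ : IsLocalRing.maximalIdeal A = Ideal.span {π} := hπirr.maximalIdeal_eq
  have hπL : ((algebraMap K L).comp (algebraMap A K)) π ≠ 0 := by
    intro h0
    have hinj : Function.Injective ((algebraMap K L).comp (algebraMap A K)) := by
      rw [RingHom.coe_comp]
      exact (algebraMap K L).injective.comp (IsFractionRing.injective A K)
    exact hπirr.ne_zero (hinj (by rw [h0, map_zero]))
  constructor
  · intro hL hML W hW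
    have hV : EtRam.Dominates A ((algebraMap K L).comp (algebraMap A K))
        (W.comap (algebraMap L M)) :=
      (Groth.Agent.H78.ValExt.dominates_comap_iff _ W).mpr (by rw [← hg]; exact hW)
    have hVW : EtRam.Dominates (W.comap (algebraMap L M))
        ((algebraMap L M).comp (W.comap (algebraMap L M)).subtype) W := by
      refine ⟨fun v => v.2, fun v hv => ?_⟩
      rw [ValuationSubring.valuation_lt_one_iff,
        Groth.Agent.H78.ValExt.comap_valuation_lt_one_iff] at hv
      exact hv
    letI algV : Algebra A (W.comap (algebraMap L M)) :=
      (RingHom.codRestrict ((algebraMap K L).comp (algebraMap A K))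
        (W.comap (algebraMap L M)) hV.1).toAlgebra
    letI algW : Algebra A W :=
      (RingHom.codRestrict ((algebraMap K M).comp (algebraMap A K)) W hW.1).toAlgebra
    letI algVW : Algebra (W.comap (algebraMap L M)) W :=
      (RingHom.codRestrict ((algebraMap L M).comp (W.comap (algebraMap L M)).subtype) W
        hVW.1).toAlgebra
    haveI : IsScalarTower A (W.comap (algebraMap L M)) W :=
      IsScalarTower.of_algebraMap_eq (fun a => Subtype.ext (by
        show ((algebraMap K M).comp (algebraMap A K)) a =
          algebraMap L M (((algebraMap K L).comp (algebraMap A K)) a)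
        rw [hg]; rfl))
    haveI hlocVW : IsLocalHom (algebraMap (W.comap (algebraMap L M)) W) :=
      isLocalHom_of_dominates _ W hVW
    haveI hlocV : IsLocalHom (algebraMap A (W.comap (algebraMap L M))) :=
      isLocalHom_of_dominates _ _ hV
    intro hlocW
    haveI : IsLocalHom (algebraMap A W) := hlocW
    obtain ⟨hsepV, hidxV⟩ := hL (W.comap (algebraMap L M)) hV
    obtain ⟨hsepVW, hidxVW⟩ := hML (W.comap (algebraMap L M)) hV W hVW
    haveI := hsepV
    haveI := hsepVW
    refine ⟨Algebra.IsSeparable.trans (IsLocalRing.ResidueField A)
      (IsLocalRing.ResidueField (W.comap (algebraMap L M))) (IsLocalRing.ResidueField W), ?_⟩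
    intro p hp hchar
    haveI := hchar
    haveI hcharV : CharP (IsLocalRing.ResidueField (W.comap (algebraMap L M))) p :=
      charP_of_injective_algebraMap (algebraMap (IsLocalRing.ResidueField A)
        (IsLocalRing.ResidueField (W.comap (algebraMap L M)))).injective p
    haveI : IsDiscreteValuationRing (W.comap (algebraMap L M)) :=
      Groth.Agent.H78.ValExt.isDVR_of_dominates A K L _ hV
    haveI : IsDiscreteValuationRing W := Groth.Agent.H78.ValExt.isDVR_of_dominates A K M W hW
    have hπV : algebraMap A (W.comap (algebraMap L M)) π ≠ 0 := fun h0 =>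
      hπL (congrArg Subtype.val h0)
    have hinjVW : Function.Injective (algebraMap (W.comap (algebraMap L M)) W) := by
      intro x y hxy
      apply Subtype.ext
      have := congrArg Subtype.val hxy
      exact (algebraMap L M).injective this
    rw [Groth.Agent.H78.ValExt.ram_mul π hπ hπV hinjVW]
    exact (Nat.Prime.dvd_mul hp).not.mpr (not_or.mpr ⟨hidxV p hp hchar, hidxVW p hp hcharV⟩)
  · intro hL hML W hW
    have hV : EtRam.Dominates A ((algebraMap K L).comp (algebraMap A K))
        (W.comap (algebraMap L M)) :=
      (Groth.Agent.H78.ValExt.dominates_comap_iff _ W).mpr (by rw [← hg]; exact hW)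
    have hVW : EtRam.Dominates (W.comap (algebraMap L M))
        ((algebraMap L M).comp (W.comap (algebraMap L M)).subtype) W := by
      refine ⟨fun v => v.2, fun v hv => ?_⟩
      rw [ValuationSubring.valuation_lt_one_iff,
        Groth.Agent.H78.ValExt.comap_valuation_lt_one_iff] at hv
      exact hv
    letI algV : Algebra A (W.comap (algebraMap L M)) :=
      (RingHom.codRestrict ((algebraMap K L).comp (algebraMap A K))
        (W.comap (algebraMap L M)) hV.1).toAlgebra
    letI algW : Algebra A W :=
      (RingHom.codRestrict ((algebraMap K M).comp (algebraMap A K)) W hW.1).toAlgebra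
    letI algVW : Algebra (W.comap (algebraMap L M)) W :=
      (RingHom.codRestrict ((algebraMap L M).comp (W.comap (algebraMap L M)).subtype) W
        hVW.1).toAlgebra
    haveI : IsScalarTower A (W.comap (algebraMap L M)) W :=
      IsScalarTower.of_algebraMap_eq (fun a => Subtype.ext (by
        show ((algebraMap K M).comp (algebraMap A K)) a =
          algebraMap L M (((algebraMap K L).comp (algebraMap A K)) a)
        rw [hg]; rfl))
    haveI hlocVW : IsLocalHom (algebraMap (W.comap (algebraMap L M)) W) :=
      isLocalHom_of_dominates _ W hVW
    haveI hlocV : IsLocalHom (algebraMap A (W.comap (algebraMap L M))) :=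
      isLocalHom_of_dominates _ _ hV
    intro hlocW
    haveI : IsLocalHom (algebraMap A W) := hlocW
    obtain ⟨hwuV, hsepV⟩ := hL (W.comap (algebraMap L M)) hV
    obtain ⟨hwuVW, hsepVW⟩ := hML (W.comap (algebraMap L M)) hV W hVW
    haveI := hsepV
    haveI := hsepVW
    refine ⟨?_, Algebra.IsSeparable.trans (IsLocalRing.ResidueField A)
      (IsLocalRing.ResidueField (W.comap (algebraMap L M))) (IsLocalRing.ResidueField W)⟩
    unfold EtRam.IsWeaklyUnramified at hwuV hwuVW ⊢
    rw [IsScalarTower.algebraMap_eq A (W.comap (algebraMap L M)) W, ← Ideal.map_map, hwuV, hwuVW]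

end Groth.Agent.S1990
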