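import Groth.Statements.S19901
import Groth.Agent.H56.LciSmoothST
import Groth.Agent.H65.LocQComp
import Groth.Agent.H65.SmoothST
import Groth.Agent.H65.LocQIso
import Groth.Agent.H32.SmLocus
-- import your own Groth.Agent.* helpers here

set_option autoImplicit false
universe u
open CategoryTheory AlgebraicGeometry
open AlgSt

namespace Groth.Agent.S19901

/-- Let f : 𝒳 → 𝒴, q : 𝒴 → 𝒵 and p : 𝒳 → 𝒵 be morphisms of algebraic stacks forming a 2-commutative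
triangle (a 2-isomorphism between q ∘ f and p is given). If q is smooth and p is a local complete
intersection morphism (Koszul), then f is a local complete intersection morphism. Smooth and local
complete intersection morphisms of algebraic stacks are read on one square of smooth scheme charts. -/
theorem result
    (S : Scheme.{u}) (𝒳 : AlgSt.Cat S) (𝒴 : AlgSt.Cat S) (𝒵 : AlgSt.Cat S)
    (h𝒳 : AlgSt.IsAlgStack Scheme.fppfPrecoverage 𝒳)
    (h𝒴 : AlgSt.IsAlgStack Scheme.fppfPrecoverage 𝒴)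
    (h𝒵 : AlgSt.IsAlgStack Scheme.fppfPrecoverage 𝒵)
    (f : 𝒳 ⥤ᵇ 𝒴) (q : 𝒴 ⥤ᵇ 𝒵) (p : 𝒳 ⥤ᵇ 𝒵) (e : BasedFunctor.comp f q ≅ p)
    (hq : AlgSt.LocQ (AlgSp.LocP @Smooth) q) (hp : AlgSt.LocQ AlgSp.IsLCIMor p) :
    AlgSt.LocQ AlgSp.IsLCIMor f := by
  have iX := h𝒳.isStack.1
  have iY := h𝒴.isStack.1
  have iZ := h𝒵.isStack.1
  have hST : AlgSp.IsSmoothLocalST (AlgSp.LocP (S := S) AlgSp.lci) :=
    Groth.Agent.H56.LciSmoothST.isSmoothLocalST_lci
  have hLoc : AlgSt.LocQ (AlgSp.LocP (S := S) AlgSp.lci) (BasedFunctor.comp f q) :=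
    Groth.Agent.H65.LocQIso.locQ_of_iso _ e.symm hp
  obtain ⟨W, z, hz1, hz2⟩ := h𝒵.atlas
  obtain ⟨V, y, k, β, hy1, hy2, hℓg, -⟩ := Groth.Agent.H65.LocQ.exists_square h𝒴 h𝒵 q z hz1 hz2
  obtain ⟨U, x, h, α, hx1, hx2, hℓf, -⟩ := Groth.Agent.H65.LocQ.exists_square h𝒳 h𝒴 f y hy1 hy2
  have hc : AlgSp.LocP AlgSp.lci ((AlgSp.yon S).map h ≫ (AlgSp.yon S).map k) :=
    Groth.Agent.H65.LocQComp.prop_comp_of_squares hST iX iY iZ f q hLoc y z k β hz1 hℓg x h α hℓf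
  obtain ⟨U₀, V₀, x₀, y₀, h₀, α₀, a1, a2, a3, a4⟩ := hq
  have hk : AlgSp.LocP @Smooth ((AlgSp.yon S).map k) :=
    Groth.Agent.H65.LocQ.prop_of_squares Groth.Agent.H32.SmLocus.isSmoothLocalST_smooth iY iZ q
      x₀ y₀ h₀ α₀ a1 a2 a3 a4 y z k β hz1 hℓg
  rw [← Functor.map_comp] at hc
  have hc' : AlgSp.lci (h ≫ k).left := AlgSp.locP_yon_map hc
  rw [Over.comp_left] at hc'
  have hk' : Smooth k.left := AlgSp.locP_yon_map hk
  have hh : AlgSp.lci h.left := Groth.Agent.H56.LciSch.koszul_of_comp_smooth h.left k.left hc'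
  exact ⟨U, V, x, y, h, α, hx1, hx2, hy1,
    (Groth.Agent.H56.LciSch.locP_lci_yon_map_iff h).2 hh⟩

end Groth.Agent.S19901
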