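import Groth.Statements.S19903
import Groth.Agent.H32.InertiaSt
import Groth.Agent.H32.DiagApps
-- import your own Groth.Agent.* helpers here

set_option autoImplicit false
universe u
open CategoryTheory AlgebraicGeometry
open AlgSt

namespace Groth.Agent.S19903

section aux
open CategoryTheory.Limits Opposite
open FibCat Stk Groth.Agent.H32.FibProd Groth.Agent.H32.Fp2 Groth.Agent.H32.Fp3
  Groth.Agent.H32.Fp4 Groth.Agent.H32.SpBridge Groth.Agent.H32.PFacts
  Groth.Agent.H32.AlgStackEquiv Groth.Agent.H32.AtlasRep Groth.Agent.H32.SpComp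
  Groth.Agent.H32.StackOps Groth.Agent.H32.Magic Groth.Agent.H32.Sect Groth.Agent.H32.Repr
  Groth.Agent.H32.SectSt Groth.Agent.H32.PshFp Groth.Agent.H32.SpTrack Groth.Agent.H32.StkLoc
  Groth.Agent.H32.PshStack Groth.Agent.H32.DiagRep

variable {S : Scheme.{u}}

/-- stability of a property of morphisms of sheaves under arbitrary base change. -/
def BCS (R : MorphismProperty (AlgSp.Sp S)) : Prop :=
  ∀ ⦃X₁ Y₁ X₂ Y₂ : AlgSp.Sp S⦄ (a : X₁ ⟶ Y₁) (b : Y₂ ⟶ Y₁) (a' : X₂ ⟶ Y₂) (b' : X₂ ⟶ X₁),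
    IsPullback b' a' a b → R a → R a'

/-- the base change of `fp y f → U` along itself, WITHOUT fppf locality of `R`. -/
theorem R_bc_self {𝒳 𝒴 : AlgSt.Cat S} (R : MorphismProperty (AlgSp.Sp S)) (hRbc : BCS R)
    (f : 𝒳 ⥤ᵇ 𝒴) (U : Over S) (y : FibCat.overCat U ⥤ᵇ 𝒴) (F : AlgSp.Space S)
    (e : AlgSt.ofSp F.obj ⥤ᵇ fp y f) (he : IsEquivOver e)
    (hR : R (AlgSt.spMapOfOver (BasedFunctor.comp e (fpFst y f))))
    (F' : AlgSp.Space S)
    (e'' : AlgSt.ofSp F'.obj ⥤ᵇ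
      fp (BasedFunctor.comp (BasedFunctor.comp e (fpSnd y f)) f) f) (he'' : IsEquivOver e'') :
    R (ObjectProperty.homMk (pshMapOf (BasedFunctor.comp e'' (fpFst _ f))) : F'.obj ⟶ F.obj) := by
  obtain ⟨γ1⟩ : Nonempty (Stk.ofPshMap
      (AlgSt.spMapOfOver (BasedFunctor.comp e (fpFst y f))).hom ≅
      BasedFunctor.comp (BasedFunctor.comp e (fpFst y f)) (AlgSt.ofOverCat U)) := by
    rw [spMapOfOver_hom]
    exact ofPshMap_pshMapOf _
  have γ2 : BasedFunctor.comp (Stk.ofPshMap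
      (AlgSt.spMapOfOver (BasedFunctor.comp e (fpFst y f))).hom)
      (BasedFunctor.comp (AlgSt.toOverCat U) y) ≅
      BasedFunctor.comp e (BasedFunctor.comp (fpFst y f) y) :=
    whiskerRightIso γ1 (BasedFunctor.comp (AlgSt.toOverCat U) y)
  have γ3 : BasedFunctor.comp e (BasedFunctor.comp (fpFst y f) y) ≅
      BasedFunctor.comp (BasedFunctor.comp e (fpSnd y f)) f :=
    whiskerLeftIso e (fpIso y f)
  obtain ⟨eF, heFdef⟩ : ∃ eF : AlgSt.ofSp F.obj ⥤ᵇ fp (BasedFunctor.comp (AlgSt.toOverCat U) y) f,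
      eF = BasedFunctor.comp e (pasteMid (AlgSt.ofOverCat U)
        (BasedFunctor.comp (AlgSt.toOverCat U) y) f) := ⟨_, rfl⟩
  have heF : IsEquivOver eF := by
    rw [heFdef]
    exact isEquivOver_comp _ _ he (pasteMid_isEquivOver (AlgSt.ofOverCat U)
      (BasedFunctor.comp (AlgSt.toOverCat U) y) f (ofOverCat_isEquivOver U))
  have e0 : pshMapOf (BasedFunctor.comp eF (fpFst (BasedFunctor.comp (AlgSt.toOverCat U) y) f)) =
      (AlgSt.spMapOfOver (BasedFunctor.comp e (fpFst y f))).hom := by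
    rw [spMapOfOver_hom, heFdef]
    rfl
  obtain ⟨q, sq⟩ := exists_isPullback_baseChange f (BasedFunctor.comp (AlgSt.toOverCat U) y)
      eF heF (AlgSt.spMapOfOver (BasedFunctor.comp e (fpFst y f))).hom
      (BasedFunctor.comp e'' (congrLeft (γ2 ≪≫ γ3).symm f))
      (isEquivOver_comp _ _ he'' (congrLeft_isEquivOver _ f))
  rw [e0] at sq
  have sq' : IsPullback (ObjectProperty.homMk q : F'.obj ⟶ F.obj)
      (ObjectProperty.homMk (pshMapOf (BasedFunctor.comp e'' (fpFst _ f))) : F'.obj ⟶ F.obj)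
      (AlgSt.spMapOfOver (BasedFunctor.comp e (fpFst y f)))
      (AlgSt.spMapOfOver (BasedFunctor.comp e (fpFst y f))) :=
    IsPullback.of_map_of_faithful (sheafToPresheaf (AlgSp.J S) (Type (u + 1))) sq
  exact hRbc _ _ _ _ sq' hR

/-- **The diagonal of a morphism `h` representable by algebraic spaces with `R`** has every
base-change stable property that sections of morphisms of algebraic spaces with `R` have; here `R`
is stable under arbitrary base change of sheaves, and no fppf locality of `R` is needed. -/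
theorem with_diag_of_rep'' (Q R : MorphismProperty (AlgSp.Sp S)) (hbc : BC Q)
    (hsec : ∀ (X T : AlgSp.Space S) (f : X ⟶ T) (s : T ⟶ X), s ≫ f = 𝟙 T → R f.hom → Q s.hom)
    (hRbc : BCS R)
    {𝒳 𝒴 : AlgSt.Cat S} (h𝒳 : IsFibGrpd 𝒳.p) (h𝒴 : IsFibGrpd 𝒴.p) (h : 𝒳 ⥤ᵇ 𝒴)
    (hh : AlgSt.RepByAlgSp1 h) (hR : AlgSt.RepByAlgSpWith R h) :
    AlgSt.RepByAlgSpWith Q (FibCat.diag h) := by
  intro U ζ
  obtain ⟨y, hy⟩ : ∃ y : FibCat.overCat U ⥤ᵇ 𝒴,
      y = BasedFunctor.comp (BasedFunctor.comp ζ (fpFst h h)) h := ⟨_, rfl⟩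
  have h𝒲 : IsFibGrpd (fp y h).p := fp_isFibGrpd _ _ (Groth.Agent.S6411.over_isFibGrpd U) h𝒳 h𝒴
  obtain ⟨q, hq⟩ : ∃ q : fp y h ⥤ᵇ 𝒳, q = fpSnd y h := ⟨_, rfl⟩
  obtain ⟨k, hk⟩ : ∃ k : fp y h ⥤ᵇ 𝒴, k = BasedFunctor.comp q h := ⟨_, rfl⟩
  obtain ⟨ι, -⟩ : ∃ ι : BasedFunctor.comp (BasedFunctor.id (fp y h)) k ≅ BasedFunctor.comp q h,
      True := ⟨by rw [hk]; exact Iso.refl _, trivial⟩
  have hfpk : IsFibGrpd (fp k h).p := fp_isFibGrpd _ _ h𝒲 h𝒳 h𝒴
  -- the section is representable with `Q`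
  have hsecW : AlgSt.RepByAlgSpWith Q (sec h q k ι) := by
    obtain ⟨F, eF, heF, hRF⟩ := hR U y
    obtain ⟨F', e₁, he₁⟩ :=
      Groth.Agent.H32.SpBoot.repByAlgSp_fp_ofSp h𝒳 h𝒴 F (BasedFunctor.comp eF k) h hh
    obtain ⟨β⟩ := ofPshMap_pshMapOf (BasedFunctor.comp e₁ (fpFst (BasedFunctor.comp eF k) h))
    have hRF' : R (ObjectProperty.homMk
        (pshMapOf (BasedFunctor.comp e₁ (fpFst (BasedFunctor.comp eF k) h))) :
          F'.obj ⟶ F.obj) := by
      subst hk hq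
      exact R_bc_self R hRbc h U y F eF heF hRF F' e₁ he₁
    exact with_section_of_spaces' Q R hbc hsec h𝒲 hfpk F F' eF heF
      (BasedFunctor.comp e₁ (pasteMid eF k h))
      (isEquivOver_comp _ _ he₁ (pasteMid_isEquivOver eF k h heF)) (sec h q k ι)
      (fpFst k h) (Iso.refl _)
      (ObjectProperty.homMk (ObjectProperty.homMk
        (pshMapOf (BasedFunctor.comp e₁ (fpFst (BasedFunctor.comp eF k) h)))))
      (whiskerRightIso β eF)
      hRF'
  have hff : IsFibGrpd (fp h h).p := fp_isFibGrpd h h h𝒳 h𝒳 h𝒴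
  have h1 : IsFibGrpd (fp (BasedFunctor.comp q h) (BasedFunctor.comp (BasedFunctor.id 𝒳) h)).p :=
    fp_isFibGrpd _ _ h𝒲 h𝒳 h𝒴
  have h2 : IsFibGrpd (fp (prodF q (BasedFunctor.id 𝒳) h) (diag h)).p :=
    fp_isFibGrpd _ _ h1 h𝒳 hff
  have hπ : AlgSt.RepByAlgSpWith Q (fpFst (prodF q (BasedFunctor.id 𝒳) h) (diag h)) :=
    (Groth.Agent.S12782.result h𝒲 hfpk h2 h1 Q (sec h q k ι)
      (fpFst (prodF q (BasedFunctor.id 𝒳) h) (diag h)) (secA h q) (secB h q k ι)
      (secA_isEquivOver h q) (secB_isEquivOver h q k ι) (secIso h q k ι)).mp hsecW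
  subst hq hy
  let s₁ : FibCat.overCat U ⥤ᵇ fp (BasedFunctor.comp (BasedFunctor.comp ζ (fpFst h h)) h) h :=
    fpLift (F := BasedFunctor.comp (BasedFunctor.comp ζ (fpFst h h)) h) (G := h)
      (BasedFunctor.id _) (BasedFunctor.comp ζ (fpFst h h)) (Iso.refl _)
  let ζ' : FibCat.overCat U ⥤ᵇ fp (BasedFunctor.comp
      (fpSnd (BasedFunctor.comp (BasedFunctor.comp ζ (fpFst h h)) h) h) h)
      (BasedFunctor.comp (BasedFunctor.id 𝒳) h) :=
    fpLift (F := BasedFunctor.comp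
      (fpSnd (BasedFunctor.comp (BasedFunctor.comp ζ (fpFst h h)) h) h) h)
      (G := BasedFunctor.comp (BasedFunctor.id 𝒳) h) s₁ (BasedFunctor.comp ζ (fpSnd h h))
      (whiskerLeftIso ζ (fpIso h h))
  exact withAt_of_paste Q (prodF _ (BasedFunctor.id 𝒳) h) (diag h) U ζ' (hπ U ζ')

theorem bc_imm : BC (AlgSp.RepWith (S := S) @IsImmersion) := by
  intro X₁ Y₁ X₂ Y₂ _ _ _ _ a b a' b' sq ha
  have := AlgSp.repWith_isStableUnderBaseChange (S := S) @IsImmersion
  exact MorphismProperty.of_isPullback (P := AlgSp.RepWith @IsImmersion) sq ha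

theorem bcs_locSep : BCS (AlgSp.IsLocallySeparatedMor (S := S)) := by
  intro X₁ Y₁ X₂ Y₂ a b a' b' sq ha
  have := AlgSp.repWith_isStableUnderBaseChange (S := S) @IsImmersion
  have : (AlgSp.RepWith (S := S) @IsImmersion).RespectsIso :=
    MorphismProperty.IsStableUnderBaseChange.respectsIso
  have : (AlgSp.RepWith (S := S) @IsImmersion).diagonal.IsStableUnderBaseChange := inferInstance
  exact MorphismProperty.of_isPullback (P := (AlgSp.RepWith (S := S) @IsImmersion).diagonal) sq ha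

theorem sec_imm (X T : AlgSp.Space S) (f : X ⟶ T) (s : T ⟶ X) (hs : s ≫ f = 𝟙 T)
    (hf : AlgSp.IsLocallySeparatedMor f.hom) : AlgSp.RepWith @IsImmersion s.hom := by
  have hs' : s.hom ≫ f.hom = 𝟙 T.obj := congrArg (fun t => t.hom) hs
  have sq := Groth.Agent.H52.isPullback_section f.hom s.hom hs'
    (pullback.lift (f.hom ≫ s.hom) (𝟙 X.obj)
      (by rw [Category.assoc, hs', Category.comp_id, Category.id_comp]))
    (pullback.lift_fst _ _ _) (pullback.lift_snd _ _ _)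
  have := AlgSp.repWith_isStableUnderBaseChange (S := S) @IsImmersion
  exact MorphismProperty.of_isPullback (P := AlgSp.RepWith @IsImmersion) sq hf

end aux

/-- For a morphism f : 𝒳 → 𝒴 of algebraic stacks, if the relative inertia 𝓘_{𝒳/𝒴} → 𝒳 is locally
separated then the neutral section e : 𝒳 → 𝓘_{𝒳/𝒴} (the second diagonal of f) is an immersion, and
likewise if the diagonal of f is locally separated. The inertia and the diagonal are representable
by algebraic spaces and local separatedness is the property of such morphisms. (The published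
statement asserts the equivalence of the three conditions: inertia locally separated, diagonal
locally separated, neutral section an immersion; only the two implications towards the last
condition are stated here.) -/
theorem result
    (S : Scheme.{u}) (𝒳 : AlgSt.Cat S) (𝒴 : AlgSt.Cat S)
    (h𝒳 : AlgSt.IsAlgStack Scheme.fppfPrecoverage 𝒳)
    (h𝒴 : AlgSt.IsAlgStack Scheme.fppfPrecoverage 𝒴)
    (f : 𝒳 ⥤ᵇ 𝒴) :
    (AlgSt.RepByAlgSpWith AlgSp.IsLocallySeparatedMor (FibCat.inertiaToBase f) →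
        AlgSt.IsImm (FibCat.inertiaNeutral f)) ∧
      (AlgSt.RepByAlgSpWith AlgSp.IsLocallySeparatedMor (FibCat.diag f) →
        AlgSt.IsImm (FibCat.inertiaNeutral f)) := by
  have part1 : AlgSt.RepByAlgSpWith AlgSp.IsLocallySeparatedMor (FibCat.inertiaToBase f) →
      AlgSt.IsImm (FibCat.inertiaNeutral f) := fun h =>
    Groth.Agent.H32.InertiaSt.neutral_of_diag h𝒳 h𝒴 f (AlgSp.RepWith @IsImmersion)
      (with_diag_of_rep'' _ _ bc_imm sec_imm bcs_locSep
        (Groth.Agent.H32.InertiaSt.isAlgStack_inertia h𝒳 h𝒴 f).isStack.1 h𝒳.isStack.1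
        (FibCat.inertiaToBase f) (Groth.Agent.H32.AlgStackEquiv.repByAlgSp1_of_with h) h)
  exact ⟨part1, fun h => part1 (Groth.Agent.H32.InertiaSt.inertiaToBase_of_diag h𝒳 h𝒴 f _ h)⟩

end Groth.Agent.S19903
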