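import Groth.Statements.S19904
import Mathlib.CategoryTheory.Limits.Shapes.Pullback.IsPullback.Basic
import Mathlib.CategoryTheory.Limits.Types.Pullbacks
import Mathlib.CategoryTheory.Limits.Preserves.Shapes.Pullbacks
import Mathlib.CategoryTheory.Limits.FunctorCategory.Basic

set_option autoImplicit false
universe u v
open CategoryTheory
open ArtFun

namespace Groth.Agent.S19904

/-- For functors F, G, G' on Artinian local Λ-algebras with residue field k and morphisms φ : F → G, ψ :
G' → G: if φ is smooth then the base change F ×_G G' → G' (second projection of the fibre product of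
functors) is smooth. -/
theorem result {Λ : Type u} {k : Type u} [CommRing Λ] [Field k] [Algebra Λ k]
    [IsNoetherianRing Λ] [Module.Finite Λ k]
    {F G G' : ArtFun.Art Λ k ⥤ Type v} (φ : F ⟶ G) (ψ : G' ⟶ G) (hφ : ArtFun.IsSmooth φ) :
    ArtFun.IsSmooth (Limits.pullback.snd φ ψ) := by
  intro B A μ hμ
  have hP : ∀ C : ArtFun.Art Λ k,
      IsPullback ((Limits.pullback.fst φ ψ).app C) ((Limits.pullback.snd φ ψ).app C)
        (φ.app C) (ψ.app C) := fun C =>
    (IsPullback.of_hasPullback φ ψ).map ((evaluation _ _).obj C)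
  rintro ⟨⟨p, g'⟩, hpg⟩
  dsimp only at hpg
  -- the element of the relative fibre of φ
  have hx : φ.app A ((Limits.pullback.fst φ ψ).app A p) = G.map μ (ψ.app B g') := by
    have h1 := ConcreteCategory.congr_hom (hP A).w p
    have h2 := (NatTrans.naturality_apply ψ μ g').symm
    simp only [types_comp_apply] at h1
    rw [h1, hpg, h2]
  obtain ⟨f, hf⟩ := hφ μ hμ ⟨((Limits.pullback.fst φ ψ).app A p, ψ.app B g'), hx⟩
  have hf1 : F.map μ f = (Limits.pullback.fst φ ψ).app A p := congrArg (fun t => t.1.1) hf
  have hf2 : φ.app B f = ψ.app B g' := congrArg (fun t => t.1.2) hf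
  obtain ⟨z, hz1, hz2⟩ := Limits.Types.exists_of_isPullback (hP B) f g' hf2
  refine ⟨z, Subtype.ext (Prod.ext ?_ hz2)⟩
  change (Limits.pullback φ ψ).map μ z = p
  apply Limits.Types.ext_of_isPullback (hP A)
  · have := NatTrans.naturality_apply (Limits.pullback.fst φ ψ) μ z
    rw [this, hz1, hf1]
  · have := NatTrans.naturality_apply (Limits.pullback.snd φ ψ) μ z
    rw [this, hz2, hpg]

end Groth.Agent.S19904
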