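import Groth.Statements.S1991
import Groth.Agent.H14.TameComp

set_option autoImplicit false
universe u
open EtAlg

namespace Groth.Agent.S1991

/-- Let A be a discrete valuation ring with fraction field K. A finite separable extension L/K that is
unramified (resp. tamely ramified) with respect to A embeds over K into a finite Galois extension of
K that is unramified (resp. tamely ramified) with respect to A; and two finite separable extensions
of K that are unramified (resp. tamely ramified) with respect to A embed over K into a common finite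
separable extension with the same property. -/
theorem result (A K : Type u) [CommRing A] [IsDomain A] [IsDiscreteValuationRing A] [Field K] [Algebra A K] [IsFractionRing A K] :
    (∀ (L : Type u) [Field L] [Algebra K L] [FiniteDimensional K L] [Algebra.IsSeparable K L],
      (EtRam.IsUnramifiedExt A ((algebraMap K L).comp (algebraMap A K)) →
        ∃ (M : Type u) (_ : Field M) (_ : Algebra K M) (_ : FiniteDimensional K M) (_ : IsGalois K M) (_ : L →ₐ[K] M),
          EtRam.IsUnramifiedExt A ((algebraMap K M).comp (algebraMap A K))) ∧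
      (EtRam.IsTamelyRamified A ((algebraMap K L).comp (algebraMap A K)) →
        ∃ (M : Type u) (_ : Field M) (_ : Algebra K M) (_ : FiniteDimensional K M) (_ : IsGalois K M) (_ : L →ₐ[K] M),
          EtRam.IsTamelyRamified A ((algebraMap K M).comp (algebraMap A K)))) ∧
    (∀ (L₁ L₂ : Type u) [Field L₁] [Field L₂] [Algebra K L₁] [Algebra K L₂] [FiniteDimensional K L₁] [FiniteDimensional K L₂]
      [Algebra.IsSeparable K L₁] [Algebra.IsSeparable K L₂],
      (EtRam.IsUnramifiedExt A ((algebraMap K L₁).comp (algebraMap A K)) →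
        EtRam.IsUnramifiedExt A ((algebraMap K L₂).comp (algebraMap A K)) →
        ∃ (M : Type u) (_ : Field M) (_ : Algebra K M) (_ : FiniteDimensional K M) (_ : Algebra.IsSeparable K M)
          (_ : L₁ →ₐ[K] M) (_ : L₂ →ₐ[K] M), EtRam.IsUnramifiedExt A ((algebraMap K M).comp (algebraMap A K))) ∧
      (EtRam.IsTamelyRamified A ((algebraMap K L₁).comp (algebraMap A K)) →
        EtRam.IsTamelyRamified A ((algebraMap K L₂).comp (algebraMap A K)) →
        ∃ (M : Type u) (_ : Field M) (_ : Algebra K M) (_ : FiniteDimensional K M) (_ : Algebra.IsSeparable K M)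
          (_ : L₁ →ₐ[K] M) (_ : L₂ →ₐ[K] M), EtRam.IsTamelyRamified A ((algebraMap K M).comp (algebraMap A K)))) := by
  refine ⟨fun L _ _ _ _ => ⟨fun h => ?_, fun h => ?_⟩, fun L₁ L₂ _ _ _ _ _ _ _ _ => ⟨fun h₁ h₂ => ?_, fun h₁ h₂ => ?_⟩⟩
  · obtain ⟨M, i1, i2, i3, i4, j, hu, ht⟩ := Groth.Agent.H14.TameComp.part1 A K L
    exact ⟨M, i1, i2, i3, i4, j, hu h⟩
  · obtain ⟨M, i1, i2, i3, i4, j, hu, ht⟩ := Groth.Agent.H14.TameComp.part1 A K L
    exact ⟨M, i1, i2, i3, i4, j, ht h⟩
  · obtain ⟨M, i1, i2, i3, i4, j₁, j₂, hu, ht⟩ := Groth.Agent.H14.TameComp.part2 A K L₁ L₂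
    exact ⟨M, i1, i2, i3, i4, j₁, j₂, hu h₁ h₂⟩
  · obtain ⟨M, i1, i2, i3, i4, j₁, j₂, hu, ht⟩ := Groth.Agent.H14.TameComp.part2 A K L₁ L₂
    exact ⟨M, i1, i2, i3, i4, j₁, j₂, ht h₁ h₂⟩

end Groth.Agent.S1991
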