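import Groth.Statements.S19912
import Groth.Agent.H79.SmoothReg

set_option autoImplicit false
universe u
open CategoryTheory CategoryTheory.Limits AlgebraicGeometry
open Models

namespace Groth.Agent.S19912

/-- The quotient of a regular local ring by an element of `𝔪 \ 𝔪²` is regular. -/
theorem regular_quot_of_notMem_sq {A : Type u} [CommRing A] [IsRegularLocalRing A] (a : A)
    (ha : a ∈ IsLocalRing.maximalIdeal A) (ha2 : a ∉ IsLocalRing.maximalIdeal A ^ 2) :
    IsRegularLocalRing (A ⧸ Ideal.span {a}) := by
  have hJ : Ideal.span {a} ≤ IsLocalRing.maximalIdeal A :=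
    (Ideal.span_singleton_le_iff_mem _).mpr ha
  rw [Groth.Agent.H79.SmoothReg.regular_quot_iff _ A rfl _ hJ]
  intro z hz
  obtain ⟨hz1, hz2⟩ := Ideal.mem_inf.mp hz
  obtain ⟨c, rfl⟩ := Ideal.mem_span_singleton'.mp hz1
  by_cases hc : c ∈ IsLocalRing.maximalIdeal A
  · exact Ideal.mul_mem_mul hc (Ideal.mem_span_singleton_self a)
  · exfalso
    have hcu : IsUnit c := by
      by_contra h
      exact hc ((IsLocalRing.mem_maximalIdeal c).mpr h)
    obtain ⟨u, rfl⟩ := hcu
    apply ha2
    have : a = ↑u⁻¹ * (↑u * a) := by rw [← mul_assoc, Units.inv_mul, one_mul]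
    rw [this]
    exact Ideal.mul_mem_left _ _ hz2

/-- Let R be a discrete valuation ring with fraction field K and YR a scheme over Spec R. Let V be a
discrete valuation ring which is an R-algebra in such a way that the maximal ideal of R generates
the maximal ideal of V (ramification index one), and let σ : Spec V -> YR be a morphism over Spec R
sending the closed point of Spec V to y. If the local ring of YR at y is regular, then the local
ring at y of the special fibre of YR, namely O_{YR,y}/𝔪_R O_{YR,y}, is regular. (The published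
statement takes YR a normal projective flat model of a smooth projective geometrically connected
curve Y over K and phrases the hypothesis through a point Q of Y rational over an extension L of K
unramified over K with y in the closure of Q: by the valuative criterion such a point yields a
morphism as above from the spectrum of the localization of the integral closure of R in L at a
maximal ideal over y, which is the form used here.) -/
theorem result
    (R : Type u) [CommRing R] [IsDomain R] [IsDiscreteValuationRing R]
    (YR : Over (Spec (CommRingCat.of R)))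
    (V : Type u) [CommRing V] [IsDomain V] [IsDiscreteValuationRing V] [Algebra R V]
    (hV : Ideal.map (algebraMap R V) (IsLocalRing.maximalIdeal R) = IsLocalRing.maximalIdeal V)
    (σ : Spec (CommRingCat.of V) ⟶ YR.left)
    (hσ : σ ≫ YR.hom = Spec.map (CommRingCat.ofHom (algebraMap R V)))
    (y : YR.left) (hy : σ.base (IsLocalRing.closedPoint V) = y)
    (hreg : IsRegularLocalRing (YR.left.presheaf.stalk y)) :
    IsRegularLocalRing (YR.left.presheaf.stalk y ⧸
      Ideal.map (Models.stalkHom R YR y) (IsLocalRing.maximalIdeal R)) := by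
  subst hy
  haveI := hreg
  have h2 : ∀ (τ : Spec (CommRingCat.of V) ⟶ Spec (CommRingCat.of R))
      (_ : τ = Spec.map (CommRingCat.ofHom (algebraMap R V))),
      (Spec (CommRingCat.of R)).presheaf.germ ⊤ (τ.base (IsLocalRing.closedPoint V)) trivial ≫
        Scheme.stalkClosedPointTo τ =
        (Scheme.ΓSpecIso (CommRingCat.of R)).hom ≫ CommRingCat.ofHom (algebraMap R V) := by
    intro τ hτ
    subst hτ
    exact Scheme.germ_stalkClosedPointTo_Spec _
  have h3 := h2 _ hσ
  have h1 := Scheme.stalkClosedPointTo_comp σ YR.hom
  have h4 := Scheme.Hom.germ_stalkMap_assoc YR.hom ⊤ (σ.base (IsLocalRing.closedPoint V)) trivial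
    (Scheme.stalkClosedPointTo σ)
  have h5 : YR.hom.appTop ≫
      YR.left.presheaf.germ ⊤ (σ.base (IsLocalRing.closedPoint V)) trivial ≫
      Scheme.stalkClosedPointTo σ =
      (Scheme.ΓSpecIso (CommRingCat.of R)).hom ≫ CommRingCat.ofHom (algebraMap R V) :=
    h4.symm.trans ((congrArg (fun t => (Spec (CommRingCat.of R)).presheaf.germ ⊤ _ trivial ≫ t)
      h1).symm.trans h3)
  have hcomp : ∀ r : R, (Scheme.stalkClosedPointTo σ).hom
      (Models.stalkHom R YR (σ.base (IsLocalRing.closedPoint V)) r) = algebraMap R V r := by
    intro r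
    have h6 : (Scheme.ΓSpecIso (CommRingCat.of R)).inv ≫ YR.hom.appTop ≫
        YR.left.presheaf.germ ⊤ (σ.base (IsLocalRing.closedPoint V)) trivial ≫
        Scheme.stalkClosedPointTo σ = CommRingCat.ofHom (algebraMap R V) := by
      rw [h5, Iso.inv_hom_id_assoc]
    exact congrArg (fun g => g.hom r) h6
  obtain ⟨π, hπ⟩ := IsDiscreteValuationRing.exists_irreducible R
  have hmR : IsLocalRing.maximalIdeal R = Ideal.span {π} := hπ.maximalIdeal_eq
  have hJ : Ideal.map (Models.stalkHom R YR (σ.base (IsLocalRing.closedPoint V)))
      (IsLocalRing.maximalIdeal R) =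
      Ideal.span {Models.stalkHom R YR (σ.base (IsLocalRing.closedPoint V)) π} := by
    rw [hmR, Ideal.map_span, Set.image_singleton]
  have hmV : IsLocalRing.maximalIdeal V = Ideal.span {algebraMap R V π} := by
    rw [← hV, hmR, Ideal.map_span, Set.image_singleton]
  have hmemV : algebraMap R V π ∈ IsLocalRing.maximalIdeal V := by
    rw [hmV]
    exact Ideal.mem_span_singleton_self _
  have hπV : algebraMap R V π ∉ IsLocalRing.maximalIdeal V ^ 2 := by
    intro h
    rw [hmV, Ideal.span_singleton_pow, Ideal.mem_span_singleton'] at h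
    obtain ⟨c, hc⟩ := h
    have hne : algebraMap R V π ≠ 0 := by
      intro h0
      apply IsDiscreteValuationRing.not_a_field V
      rw [hmV, h0]
      exact Ideal.span_singleton_eq_bot.mpr rfl
    have hunit : c * algebraMap R V π = 1 := by
      apply mul_right_cancel₀ hne
      rw [one_mul, mul_assoc, ← sq]
      exact hc
    have hu : IsUnit (algebraMap R V π) :=
      ⟨⟨algebraMap R V π, c, by rw [mul_comm]; exact hunit, hunit⟩, rfl⟩
    exact (IsLocalRing.mem_maximalIdeal _).mp hmemV hu
  have ha_mem : Models.stalkHom R YR (σ.base (IsLocalRing.closedPoint V)) π ∈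
      IsLocalRing.maximalIdeal (YR.left.presheaf.stalk (σ.base (IsLocalRing.closedPoint V))) := by
    rw [IsLocalRing.mem_maximalIdeal, mem_nonunits_iff]
    intro hu
    have hu' := hu.map (Scheme.stalkClosedPointTo σ).hom
    rw [hcomp] at hu'
    exact (IsLocalRing.mem_maximalIdeal _).mp hmemV hu'
  have ha_sq : Models.stalkHom R YR (σ.base (IsLocalRing.closedPoint V)) π ∉
      IsLocalRing.maximalIdeal (YR.left.presheaf.stalk (σ.base (IsLocalRing.closedPoint V))) ^ 2 := by
    intro h
    apply hπV
    have h1 := Ideal.mem_map_of_mem (Scheme.stalkClosedPointTo σ).hom h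
    rw [Ideal.map_pow, hcomp] at h1
    refine Ideal.pow_right_mono ?_ 2 h1
    rw [Ideal.map_le_iff_le_comap]
    intro t ht
    rw [Ideal.mem_comap, IsLocalRing.mem_maximalIdeal, mem_nonunits_iff]
    intro hu
    exact (IsLocalRing.mem_maximalIdeal _).mp ht
      (isUnit_of_map_unit (Scheme.stalkClosedPointTo σ).hom t hu)
  rw [hJ]
  exact regular_quot_of_notMem_sq _ ha_mem ha_sq

end Groth.Agent.S19912
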