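import Groth.Statements.S19919
import Mathlib

set_option autoImplicit false
universe u v w
open DPow

namespace Groth.Agent.S19919


/-- Let R be a commutative ring and P = R⟨X_1, …, X_N⟩ the divided power polynomial algebra over R,
presented concretely as an R-algebra P with elements x i n = X_i^[n] (i < N, n ≥ 0) such that
X_i^[0] = 1, X_i^[n] · X_i^[m] = C(n+m, n) X_i^[n+m], and the monomials ∏_i X_i^[e_i] form an
R-basis of P; let P_+ be the ideal generated by the X_i^[n] with n ≥ 1 and γ the divided power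
structure on P_+ with γ_n(X_i^[1]) = X_i^[n]. Then (P, P_+, γ) is the free divided power R-algebra
on N variables: for every commutative R-algebra S, every ideal J of S with a divided power structure
δ and every family s_1, …, s_N of elements of J there is exactly one R-algebra homomorphism φ : P →
S that is a divided power morphism from (P_+, γ) to (J, δ) and satisfies φ(X_i^[1]) = s_i for all i. -/
theorem result (R : Type u) [CommRing R] (N : ℕ)
    (P : Type v) [CommRing P] [Algebra R P] (x : Fin N → ℕ → P)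
    (hx0 : ∀ i, x i 0 = 1)
    (hxmul : ∀ i n m, x i n * x i m = ((n + m).choose n : P) * x i (n + m))
    (b : Module.Basis (Fin N →₀ ℕ) R P) (hb : ∀ e : Fin N →₀ ℕ, b e = e.prod (fun i k => x i k))
    (γ : DividedPowers (Ideal.span {y : P | ∃ (i : Fin N) (n : ℕ), 1 ≤ n ∧ y = x i n}))
    (hγ : ∀ (i : Fin N) (n : ℕ), γ.dpow n (x i 1) = x i n)
    (S : Type w) [CommRing S] [Algebra R S] (J : Ideal S) (δ : DividedPowers J)
    (s : Fin N → S) (hs : ∀ i, s i ∈ J) :
    ∃! φ : P →ₐ[R] S, γ.IsDPMorphism δ φ.toRingHom ∧ ∀ i, φ (x i 1) = s i := by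
  classical
  have hx1I : ∀ i, x i 1 ∈ Ideal.span {y : P | ∃ (i : Fin N) (n : ℕ), 1 ≤ n ∧ y = x i n} :=
    fun i => Ideal.subset_span ⟨i, 1, le_refl 1, rfl⟩
  have hD0 : ∀ i, δ.dpow 0 (s i) = 1 := fun i => δ.dpow_zero (hs i)
  have hbe : ∀ e : Fin N →₀ ℕ, b e = ∏ i, x i (e i) := by
    intro e; rw [hb, Finsupp.prod_fintype _ _ (fun i => hx0 i)]
  have hxb : ∀ i n, x i n = b (Finsupp.single i n) := by
    intro i n; rw [hb, Finsupp.prod_single_index (hx0 i)]
  let T : (Fin N →₀ ℕ) → S := fun e => ∏ i, δ.dpow (e i) (s i)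
  let φl : P →ₗ[R] S := b.constr R T
  have hφb : ∀ e, φl (b e) = T e := fun e => b.constr_basis R T e
  have hmulb : ∀ e e' : Fin N →₀ ℕ,
      b e * b e' = ((∏ i, (e i + e' i).choose (e i) : ℕ) : P) * b (e + e') := by
    intro e e'
    rw [hbe, hbe, hbe, ← Finset.prod_mul_distrib, Nat.cast_prod, ← Finset.prod_mul_distrib]
    apply Finset.prod_congr rfl
    intro i _
    rw [hxmul, Finsupp.add_apply]
  have hTmul : ∀ e e' : Fin N →₀ ℕ,
      T e * T e' = ((∏ i, (e i + e' i).choose (e i) : ℕ) : S) * T (e + e') := by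
    intro e e'
    show (∏ i, δ.dpow (e i) (s i)) * (∏ i, δ.dpow (e' i) (s i))
      = _ * ∏ i, δ.dpow ((e + e') i) (s i)
    rw [← Finset.prod_mul_distrib, Nat.cast_prod, ← Finset.prod_mul_distrib]
    apply Finset.prod_congr rfl
    intro i _
    rw [δ.mul_dpow (hs i), Finsupp.add_apply]
  have hmul : ∀ p q, φl (p * q) = φl p * φl q := by
    have h : (LinearMap.mul R P).compr₂ φl = (LinearMap.mul R S).compl₁₂ φl φl := by
      apply b.ext; intro e
      apply b.ext; intro e'
      rw [LinearMap.compr₂_apply, LinearMap.compl₁₂_apply, LinearMap.mul_apply',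
        LinearMap.mul_apply', hmulb, hφb, hφb, hTmul, ← nsmul_eq_mul, map_nsmul, hφb,
        nsmul_eq_mul]
    intro p q
    have h' := LinearMap.congr_fun (LinearMap.congr_fun h p) q
    rwa [LinearMap.compr₂_apply, LinearMap.compl₁₂_apply, LinearMap.mul_apply',
      LinearMap.mul_apply'] at h'
  have hone : φl 1 = 1 := by
    have h1 : (1 : P) = b 0 := by rw [hb, Finsupp.prod_zero_index]
    rw [h1, hφb]
    show ∏ i, δ.dpow ((0 : Fin N →₀ ℕ) i) (s i) = 1
    apply Finset.prod_eq_one
    intro i _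
    exact hD0 i
  let φ : P →ₐ[R] S := AlgHom.ofLinearMap φl hone hmul
  have hφx : ∀ i n, φ (x i n) = δ.dpow n (s i) := by
    intro i n
    show φl (x i n) = _
    rw [hxb, hφb]
    show ∏ j, δ.dpow ((Finsupp.single i n) j) (s j) = _
    rw [Finset.prod_eq_single i]
    · rw [Finsupp.single_eq_same]
    · intro j _ hji
      rw [Finsupp.single_apply, if_neg (Ne.symm hji), hD0]
    · intro h; exact absurd (Finset.mem_univ i) h
  have hDP : γ.IsDPMorphism δ φ.toRingHom := by
    apply DividedPowers.IsDPMorphism.on_span γ δ rfl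
    · rintro y ⟨i, n, hn, rfl⟩
      show φ (x i n) ∈ J
      rw [hφx]
      exact δ.dpow_mem (by omega) (hs i)
    · rintro m y ⟨i, n, hn, rfl⟩
      show φ (γ.dpow m (x i n)) = δ.dpow m (φ (x i n))
      rw [hφx, ← hγ i n, γ.dpow_comp (by omega) (hx1I i), hγ, map_mul, map_natCast, hφx,
        δ.dpow_comp (by omega) (hs i)]
  refine ⟨φ, ⟨hDP, fun i => by rw [hφx, δ.dpow_one (hs i)]⟩, ?_⟩
  rintro φ' ⟨h1, h2⟩
  have hφ'x : ∀ i n, φ' (x i n) = δ.dpow n (s i) := by
    intro i n
    have h3 := h1.dpow_comp (n := n) (x i 1) (hx1I i)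
    rw [hγ] at h3
    have h4 : φ'.toRingHom (x i 1) = s i := h2 i
    rw [h4] at h3
    exact h3.symm
  apply AlgHom.toLinearMap_injective
  apply b.ext
  intro e
  show φ' (b e) = φ (b e)
  rw [hbe, map_prod, map_prod]
  apply Finset.prod_congr rfl
  intro i _
  rw [hφ'x, hφx]

end Groth.Agent.S19919
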