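import Groth.Statements.S1992
import Mathlib

set_option autoImplicit false
universe u
open Polynomial
open EtAlg

namespace Groth.Agent.S1992


theorem exists_root (A : Type u) [CommRing A]
    (hA : ∀ f : A[X], f.Monic → ∃ s : Multiset A, f = (s.map fun a => X - C a).prod)
    (p : Ideal A) [p.IsPrime] (g : (Localization.AtPrime p)[X]) (hg : g.Monic)
    (hdeg : 0 < g.natDegree) : ∃ b, g.IsRoot b := by
  classical
  obtain ⟨s, hs⟩ := IsLocalization.exist_integer_multiples_of_finset (R := A)
    (S := Localization.AtPrime p) p.primeCompl (g.support.image g.coeff)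
  set σ : Localization.AtPrime p := algebraMap A (Localization.AtPrime p) (s : A) with hσ
  have hmon : (scaleRoots g σ).Monic := (monic_scaleRoots_iff σ).mpr hg
  have hl : scaleRoots g σ ∈ lifts (algebraMap A (Localization.AtPrime p)) := by
    rw [lifts_iff_coeff_lifts]
    intro i
    rw [coeff_scaleRoots]
    by_cases h0 : g.coeff i = 0
    · rw [h0, zero_mul]; exact ⟨0, map_zero _⟩
    · have hi : i ≤ g.natDegree := le_natDegree_of_ne_zero h0
      rcases hi.eq_or_lt with hi | hi
      · subst hi
        rw [hg.coeff_natDegree, Nat.sub_self, pow_zero, one_mul]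
        exact ⟨1, map_one _⟩
      · have hmem : g.coeff i ∈ g.support.image g.coeff :=
          Finset.mem_image.mpr ⟨i, mem_support_iff.mpr h0, rfl⟩
        obtain ⟨c, hc⟩ := hs _ hmem
        have hk : g.natDegree - i = (g.natDegree - i - 1) + 1 := by omega
        refine ⟨c * (s : A) ^ (g.natDegree - i - 1), ?_⟩
        rw [map_mul, map_pow, hc, hk, pow_succ, Algebra.smul_def]
        have : g.natDegree - i - 1 + 1 - 1 = g.natDegree - i - 1 := by omega
        rw [this]
        ring
  obtain ⟨h₀, hmap, hnat, hm₀⟩ := lifts_and_natDegree_eq_and_monic hl hmon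
  obtain ⟨t, ht⟩ := hA h₀ hm₀
  haveI : Nontrivial A := by
    by_contra h
    rw [not_nontrivial_iff_subsingleton] at h
    exact (inferInstance : p.IsPrime).ne_top (Subsingleton.elim _ _)
  have hcard : Multiset.card t = g.natDegree := by
    have h1 : h₀.natDegree = Multiset.card t := by
      rw [ht]
      exact natDegree_multiset_prod_X_sub_C_eq_card t
    rw [← h1, hnat, natDegree_scaleRoots]
  have hne : t ≠ 0 := by
    intro h; rw [h, Multiset.card_zero] at hcard; omega
  obtain ⟨α, hα⟩ := Multiset.exists_mem_of_ne_zero hne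
  have hroot : h₀.IsRoot α := by
    rw [← dvd_iff_isRoot, ht]
    exact Multiset.dvd_prod (Multiset.mem_map.mpr ⟨α, hα, rfl⟩)
  have hroot' : (scaleRoots g σ).IsRoot (algebraMap A (Localization.AtPrime p) α) := by
    rw [← hmap]; exact hroot.map
  obtain ⟨u, hu⟩ := IsLocalization.map_units (Localization.AtPrime p) s
  have hmul : σ * (↑u⁻¹ * algebraMap A (Localization.AtPrime p) α)
      = algebraMap A (Localization.AtPrime p) α := by
    rw [hσ, ← hu, ← mul_assoc, Units.mul_inv, one_mul]
  have key := scaleRoots_eval_mul g (↑u⁻¹ * algebraMap A (Localization.AtPrime p) α) σ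
  rw [hmul, hroot'.eq_zero] at key
  have hunit : IsUnit (σ ^ g.natDegree) := IsUnit.pow _ ⟨u, hu⟩
  exact ⟨_, (hunit.mul_right_eq_zero.mp key.symm)⟩

theorem factor (A : Type u) [CommRing A]
    (hA : ∀ f : A[X], f.Monic → ∃ s : Multiset A, f = (s.map fun a => X - C a).prod)
    (p : Ideal A) [p.IsPrime] :
    ∀ (n : ℕ) (g : (Localization.AtPrime p)[X]), g.Monic → g.natDegree = n →
      ∃ t : Multiset (Localization.AtPrime p), g = (t.map fun b => X - C b).prod := by
  intro n
  induction n with
  | zero =>
    intro g hg hn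
    refine ⟨0, ?_⟩
    simp only [Multiset.map_zero, Multiset.prod_zero]
    exact (Polynomial.Monic.natDegree_eq_zero hg).mp hn
  | succ n ih =>
    intro g hg hn
    obtain ⟨b, hb⟩ := exists_root A hA p g hg (by omega)
    have hmul : (X - C b) * (g /ₘ (X - C b)) = g := mul_divByMonic_eq_iff_isRoot.mpr hb
    have hq : (g /ₘ (X - C b)).Monic := by
      have h2 := hg
      rw [← hmul] at h2
      exact (monic_X_sub_C b).of_mul_monic_left h2
    have hqn : (g /ₘ (X - C b)).natDegree = n := by
      rw [natDegree_divByMonic g (monic_X_sub_C b), natDegree_X_sub_C, hn]; rfl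
    obtain ⟨t, ht⟩ := ih _ hq hqn
    refine ⟨b ::ₘ t, ?_⟩
    rw [Multiset.map_cons, Multiset.prod_cons, ← ht, hmul]



/-- Let A be an absolutely integrally closed ring, i.e. every monic polynomial over A is a product of
linear factors X - a. Then for every prime p of A the localization A_p is a strictly henselian local
ring (henselian with separably closed residue field). -/
theorem result (A : Type u) [CommRing A]
    (hA : ∀ f : A[X], f.Monic → ∃ s : Multiset A, f = (s.map fun a => X - C a).prod)
    (p : Ideal A) [p.IsPrime] :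
    EtCoh.IsStrictlyHenselianLocalRing (Localization.AtPrime p) := by
  classical
  have hH : HenselianLocalRing (Localization.AtPrime p) :=
    { toIsLocalRing := inferInstance
      is_henselian := fun f hf a₀ h₁ _ => by
        obtain ⟨t, ht⟩ := factor A hA p _ f hf rfl
        have hev : f.eval a₀ = (t.map fun b => a₀ - b).prod := by
          rw [ht, eval_multiset_prod, Multiset.map_map]
          congr 1
          apply Multiset.map_congr rfl
          intro b _
          simp
        rw [hev] at h₁
        obtain ⟨c, hc, hcm⟩ :=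
          ((IsLocalRing.maximalIdeal.isMaximal (Localization.AtPrime p)).isPrime.multiset_prod_mem_iff_exists_mem
            _).mp h₁
        obtain ⟨b, hb, rfl⟩ := Multiset.mem_map.mp hc
        refine ⟨b, ?_, ?_⟩
        · rw [← dvd_iff_isRoot, ht]
          exact Multiset.dvd_prod (Multiset.mem_map.mpr ⟨b, hb, rfl⟩)
        · have := (IsLocalRing.maximalIdeal (Localization.AtPrime p)).neg_mem hcm
          rwa [neg_sub] at this }
  refine ⟨hH, ⟨fun q hq => ?_⟩⟩
  have hq0 : q ≠ 0 := hq.ne_zero
  have hq₁m : (q * C (q.leadingCoeff)⁻¹).Monic := monic_mul_leadingCoeff_inv hq0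
  have hqeq : q = C q.leadingCoeff * (q * C (q.leadingCoeff)⁻¹) := by
    rw [mul_comm, mul_assoc, ← C_mul, inv_mul_cancel₀ (leadingCoeff_ne_zero.mpr hq0), C_1, mul_one]
  have hsurj : Function.Surjective (IsLocalRing.residue (Localization.AtPrime p)) :=
    IsLocalRing.residue_surjective
  have hl : (q * C (q.leadingCoeff)⁻¹) ∈ lifts (IsLocalRing.residue (Localization.AtPrime p)) := by
    rw [lifts_iff_coeff_lifts]; intro n; exact hsurj _
  obtain ⟨Q, hQmap, -, hQm⟩ := lifts_and_natDegree_eq_and_monic hl hq₁m
  obtain ⟨t, ht⟩ := factor A hA p _ Q hQm rfl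
  rw [hqeq, ← hQmap, ht]
  apply Splits.C_mul
  rw [Polynomial.map_multiset_prod, Multiset.map_map]
  apply Splits.multisetProd
  intro x hx
  obtain ⟨b, -, rfl⟩ := Multiset.mem_map.mp hx
  simp only [Function.comp, Polynomial.map_sub, map_X, map_C]
  exact Splits.X_sub_C _

end Groth.Agent.S1992
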