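-- Statement S1996: weak etaleness descends along a faithfully flat map.
import Groth.Statements.S1996
import Mathlib.RingTheory.Flat.FaithfullyFlat.Basic
import Mathlib.RingTheory.Flat.Stability
import Mathlib.RingTheory.RingHom.Flat

set_option autoImplicit false
universe u
open EtAlg

namespace Groth.Agent.S1996

open TensorProduct LinearMap TensorProduct.AlgebraTensorModule

/-- If `A → B → C` with `A → C` flat and `B → C` faithfully flat, then `A → B` is flat. -/
theorem flat_of_flat_comp_faithfullyFlat (A B C : Type*) [CommRing A] [CommRing B] [CommRing C]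
    [Algebra A B] [Algebra B C] [Algebra A C] [IsScalarTower A B C]
    [Module.Flat A C] [Module.FaithfullyFlat B C] : Module.Flat A B := by
  rw [Module.Flat.iff_lTensor_injectiveₛ]
  intro P _ _ N
  have h1 : Function.Injective (N.subtype.lTensor C) :=
    Module.Flat.lTensor_preserves_injective_linearMap _ Subtype.val_injective
  rw [← coe_lTensor (A := B), ← EquivLike.injective_comp (cancelBaseChange A B B C N),
    ← LinearEquiv.coe_coe, ← LinearMap.coe_comp, lTensor_comp_cancelBaseChange,
    LinearMap.coe_comp, LinearEquiv.coe_coe, EquivLike.comp_injective] at h1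
  rw [← coe_lTensor (A := B)]
  exact (Module.FaithfullyFlat.lTensor_injective_iff_injective B C _).mp h1

/-- Ring hom version. -/
theorem ringHom_flat_of_comp {R B C : Type*} [CommRing R] [CommRing B] [CommRing C]
    [Algebra B C] [Module.FaithfullyFlat B C] (f : R →+* B)
    (h : ((algebraMap B C).comp f).Flat) : f.Flat := by
  let : Algebra R B := f.toAlgebra
  let : Algebra R C := ((algebraMap B C).comp f).toAlgebra
  have : IsScalarTower R B C := IsScalarTower.of_algebraMap_eq fun _ => rfl
  have : Module.Flat R C := h
  exact flat_of_flat_comp_faithfullyFlat R B C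

/-- Let A -> B -> C be ring maps with B -> C faithfully flat. Weak etaleness of A -> C then implies weak
etaleness of A -> B. -/
theorem result (A B C : Type u) [CommRing A] [CommRing B] [CommRing C] [Algebra A B]
    [Algebra B C] [Algebra A C] [IsScalarTower A B C] [Module.FaithfullyFlat B C] [Algebra.WeaklyEtale A C] :
    Algebra.WeaklyEtale A B := by
  have : Module.Flat A B := flat_of_flat_comp_faithfullyFlat A B C
  refine ⟨inferInstance, ?_⟩
  apply ringHom_flat_of_comp (C := C)
  let ι : B →ₐ[A] C := IsScalarTower.toAlgHom A B C
  have hι : ι.Flat := by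
    show (algebraMap B C).Flat
    rw [RingHom.flat_algebraMap_iff]; infer_instance
  have hτ : (Algebra.TensorProduct.map ι ι).Flat := RingHom.Flat.tensorProductMap hι hι
  have hμ := Algebra.WeaklyEtale.flat_lmul' A C
  have hcomp := RingHom.Flat.comp hτ hμ
  have heq : (algebraMap B C).comp (Algebra.TensorProduct.lmul' A (S := B)).toRingHom =
      ((Algebra.TensorProduct.lmul' A (S := C)).toRingHom).comp
        (Algebra.TensorProduct.map ι ι).toRingHom := by
    have : ι.comp (Algebra.TensorProduct.lmul' A (S := B)) =
        (Algebra.TensorProduct.lmul' A (S := C)).comp (Algebra.TensorProduct.map ι ι) := by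
      ext <;> simp
    exact congrArg AlgHom.toRingHom this
  rw [heq]
  exact hcomp

end Groth.Agent.S1996
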