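import Groth.Statements.S19962
import Groth.Agent.H26.BE

set_option autoImplicit false
universe u
open CAlg

namespace Groth.Agent.S19962

/-- Let R be a Noetherian commutative ring, not assumed local, and 0 → R^(n_e) → ⋯ → R^(n_1) → R^(n_0) a
complex of finite free modules with 1 ≤ e, the map R^(n_(i+1)) → R^(n_i) being given by the matrix A
i. Suppose that for every 1 ≤ j ≤ e the matrix of R^(n_j) → R^(n_(j-1)) has rank n_j - n_(j+1) + ⋯ ±
n_e, the rank of a matrix being the largest size of a nonzero minor, and that its ideal of minors of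
that size is either the unit ideal or contains an R-regular sequence of length j. Then the complex
is exact at R^(n_e), …, R^(n_1). -/
theorem result {R : Type u} [CommRing R] [IsNoetherianRing R]
    (e : ℕ) (he : 1 ≤ e) (n : ℕ → ℕ) (A : (i : ℕ) → Matrix (Fin (n i)) (Fin (n (i + 1))) R)
    (hA : ∀ i, i + 2 ≤ e → A i * A (i + 1) = 0)
    (hrank : ∀ j, 1 ≤ j → j ≤ e →
      (CAlgX.matrixRank (A (j - 1)) : ℤ) = ∑ t ∈ Finset.Icc j e, (-1 : ℤ) ^ (t - j) * (n t : ℤ))
    (hdet : ∀ j, 1 ≤ j → j ≤ e →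
      CAlgX.detIdeal (A (j - 1)) = ⊤ ∨
        ∃ rs : List R, rs.length = j ∧ (∀ r ∈ rs, r ∈ CAlgX.detIdeal (A (j - 1))) ∧
          RingTheory.Sequence.IsRegular R rs) :
    LinearMap.ker (A (e - 1)).mulVecLin = ⊥ ∧
      ∀ i, i + 2 ≤ e → LinearMap.ker (A i).mulVecLin = LinearMap.range (A (i + 1)).mulVecLin := by
  classical
  let r : ℕ → ℕ := fun j => Nat.casesOn j 0 (fun i => if i < e then CAlgX.matrixRank (A i) else 0)
  have hr_succ : ∀ i, i < e → r (i + 1) = CAlgX.matrixRank (A i) := fun i hi => if_pos hi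
  have hS : ∀ j, j ≤ e → (∑ t ∈ Finset.Icc j e, (-1 : ℤ) ^ (t - j) * (n t : ℤ)) =
      (n j : ℤ) - ∑ t ∈ Finset.Icc (j + 1) e, (-1 : ℤ) ^ (t - (j + 1)) * (n t : ℤ) := by
    intro j hj
    rw [← Finset.insert_Icc_add_one_left_eq_Icc hj, Finset.sum_insert (by simp)]
    rw [Nat.sub_self, pow_zero, one_mul, sub_eq_add_neg, ← Finset.sum_neg_distrib]
    congr 1
    apply Finset.sum_congr rfl
    intro t ht
    have ht' : j + 1 ≤ t := (Finset.mem_Icc.1 ht).1
    have h1 : t - j = (t - (j + 1)) + 1 := by omega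
    rw [h1, pow_succ]
    ring
  have hrk : ∀ i, i < e → (CAlgX.matrixRank (A i) : ℤ) =
      ∑ t ∈ Finset.Icc (i + 1) e, (-1 : ℤ) ^ (t - (i + 1)) * (n t : ℤ) := fun i hi =>
    hrank (i + 1) (by omega) (by omega)
  have hre : r e = n e := by
    obtain ⟨e', rfl⟩ : ∃ e', e = e' + 1 := ⟨e - 1, by omega⟩
    rw [hr_succ e' (by omega)]
    have h1 := hrk e' (by omega)
    rw [Finset.Icc_self, Finset.sum_singleton, Nat.sub_self, pow_zero, one_mul] at h1
    exact_mod_cast h1
  have hn : ∀ j, 1 ≤ j → j < e → n j = r j + r (j + 1) := by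
    intro j hj1 hje
    obtain ⟨j', rfl⟩ : ∃ j', j = j' + 1 := ⟨j - 1, by omega⟩
    rw [hr_succ j' (by omega), hr_succ (j' + 1) hje]
    have h1 := hrk j' (by omega)
    have h2 := hrk (j' + 1) hje
    have h3 := hS (j' + 1) (by omega)
    have h4 : ((CAlgX.matrixRank (A j') : ℤ)) + (CAlgX.matrixRank (A (j' + 1)) : ℤ) =
        (n (j' + 1) : ℤ) := by
      rw [h1, h2, h3]; ring
    exact_mod_cast h4.symm
  have hcond : ∀ i, i < e → CAlgX.minorIdeal (A i) (r (i + 1)) = ⊤ ∨
      ∃ rs : List R, rs.length = i + 1 ∧ (∀ x ∈ rs, x ∈ CAlgX.minorIdeal (A i) (r (i + 1))) ∧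
        RingTheory.Sequence.IsWeaklyRegular R rs := by
    intro i hi
    rw [hr_succ i hi]
    rcases hdet (i + 1) (by omega) (by omega) with h | ⟨rs, h1, h2, h3⟩
    · exact Or.inl h
    · exact Or.inr ⟨rs, h1, h2, h3.toIsWeaklyRegular⟩
  have hex := Groth.Agent.H26.BE.be_global e n A r hA hre hn hcond
  refine ⟨?_, ?_⟩
  · have h := hex (e-1) (by omega)
    rw [Groth.Agent.S18128.DD_pos e n A (e-1) (by omega),
      Groth.Agent.S18128.DD_neg e n A (e-1+1) (by omega), LinearMap.range_zero] at h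
    exact h
  · intro i hi
    have h := hex i (by omega)
    rw [Groth.Agent.S18128.DD_pos e n A i (by omega),
      Groth.Agent.S18128.DD_pos e n A (i+1) (by omega)] at h
    exact h

end Groth.Agent.S19962
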