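import Groth.Statements.S19963
import Mathlib
import Groth.Agent.H13.HorrocksMonic

set_option autoImplicit false
open Polynomial TensorProduct
universe u
open CAlg

namespace Groth.Agent.S19963

/-- Let A be a commutative ring and let A(t) denote the localization of the polynomial ring A[t] at the
multiplicative subset of monic polynomials, viewed as an A-algebra. If P and P' are finitely
generated projective A-modules such that A(t) ⊗_A P and A(t) ⊗_A P' are isomorphic A(t)-modules,
then P and P' are isomorphic A-modules: non-isomorphic finite projective modules stay non-isomorphic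
over A(t). (The published statement also covers base change to the ring A((t)) of Laurent power
series, and modules over A(t) itself; only the A(t) assertion for modules over A is stated.) -/
theorem result
    (A : Type u) [CommRing A] (M : Submonoid A[X]) (hM : ∀ f : A[X], f ∈ M ↔ f.Monic)
    (At : Type u) [CommRing At] [Algebra A[X] At] [IsLocalization M At]
    [Algebra A At] [IsScalarTower A A[X] At]
    (P P' : Type u) [AddCommGroup P] [Module A P] [Module.Finite A P] [Module.Projective A P]
    [AddCommGroup P'] [Module A P'] [Module.Finite A P'] [Module.Projective A P']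
    (h : Nonempty ((At ⊗[A] P) ≃ₗ[At] (At ⊗[A] P'))) :
    Nonempty (P ≃ₗ[A] P') := by
  classical
  obtain ⟨f⟩ := h
  obtain ⟨m, pP, iP, -, -, hP⟩ := Module.Finite.exists_comp_eq_id_of_projective A P
  obtain ⟨m', pP', iP', -, -, hP'⟩ := Module.Finite.exists_comp_eq_id_of_projective A P'
  have hE : Matrix.toLin' (LinearMap.toMatrix' (iP ∘ₗ pP)) = iP ∘ₗ pP := Matrix.toLin'_toMatrix' _
  have hE' : Matrix.toLin' (LinearMap.toMatrix' (iP' ∘ₗ pP')) = iP' ∘ₗ pP' :=
    Matrix.toLin'_toMatrix' _
  have he := Groth.Agent.H13.Horrocks.idem_of_split iP pP hP _ hE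
  have he' := Groth.Agent.H13.Horrocks.idem_of_split iP' pP' hP' _ hE'
  obtain ⟨iB, pB, hB, hEB⟩ :=
    Groth.Agent.H13.Horrocks.baseChange_split (R' := At) iP pP hP _ hE
  obtain ⟨iB', pB', hB', hEB'⟩ :=
    Groth.Agent.H13.Horrocks.baseChange_split (R' := At) iP' pP' hP' _ hE'
  have hrel := Groth.Agent.H13.Horrocks.rel_of_equiv iB pB hB iB' pB' hB' _ _ hEB hEB' f
  have halg : algebraMap A At = (algebraMap A[X] At).comp (Polynomial.C : A →+* A[X]) := by
    rw [IsScalarTower.algebraMap_eq A A[X] At, Polynomial.algebraMap_eq]
  rw [halg] at hrel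
  have hfin := Groth.Agent.H13.Horrocks.rel_of_rel_monic_localization M hM At _ _ he he' hrel
  exact Groth.Agent.H13.Horrocks.equiv_of_rel iP pP hP iP' pP' hP' _ _ hE hE' hfin

end Groth.Agent.S19963
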