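import Groth.Statements.S19967
import Mathlib

set_option autoImplicit false
set_option maxHeartbeats 400000
universe u
open CategoryTheory CategoryTheory.Limits AlgebraicGeometry
open FlatMor

namespace Groth.Agent.S19967

open CategoryTheory CategoryTheory.Limits AlgebraicGeometry

set_option backward.isDefEq.respectTransparency.types false in
theorem std_of_comp {P C S T : Scheme.{u}} (pr : P ⟶ C) (i : C ⟶ S) (b : T ⟶ S) [Flat pr]
    [QuasiCompact b] [IsSchemeTheoreticallyDominant (pullback.fst i b)] :
    IsSchemeTheoreticallyDominant (pullback.fst (pr ≫ i) b) := by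
  have hcond : (pullback.fst (pr ≫ i) b ≫ pr) ≫ i = pullback.snd (pr ≫ i) b ≫ b := by
    rw [Category.assoc]; exact pullback.condition
  have sBig : IsPullback (pullback.lift (pullback.fst (pr ≫ i) b ≫ pr) (pullback.snd (pr ≫ i) b)
      hcond ≫ pullback.snd i b) (pullback.fst (pr ≫ i) b) b (pr ≫ i) := by
    rw [pullback.lift_snd]
    exact (IsPullback.of_hasPullback _ _).flip
  have tR : IsPullback (pullback.snd i b) (pullback.fst i b) b i :=
    (IsPullback.of_hasPullback _ _).flip
  have hL := IsPullback.of_right sBig (pullback.lift_fst _ _ hcond) tR
  haveI : QuasiCompact (pullback.fst i b) := inferInstance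
  exact IsSchemeTheoreticallyDominant.of_isPullback hL

set_option backward.isDefEq.respectTransparency.types false in

/-- Let f : S' → S be a flat morphism of locally Noetherian schemes, i : C → S and i' : C' → S' closed
immersions with C and C' integral, and g : C' → C with g ≫ i = i' ≫ f. Let φ : C' → C ×_S S' be the
induced morphism and η ∈ S the image of the generic point of C. If φ becomes an isomorphism after
base change along the canonical morphism Spec O_{S,η} → S (that is, after pulling back to (C ×_S S')
×_S Spec O_{S,η}), then φ is an isomorphism. (In the source S and S' are excellent surfaces over an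
algebraically closed field, C and C' regular curves not inside the singular loci, and the
isomorphism over Spec O_{S,η} is part of the definition of a morphism of surface-curve pairs; those
extra hypotheses play no part.) -/
theorem result
    {S S' C C' : Scheme.{u}} [IsLocallyNoetherian S] [IsLocallyNoetherian S']
    (f : S' ⟶ S) [Flat f] (i : C ⟶ S) [IsClosedImmersion i] [IsIntegral C]
    (i' : C' ⟶ S') [IsClosedImmersion i'] [IsIntegral C']
    (g : C' ⟶ C) (hsq : g ≫ i = i' ≫ f)
    (hgen : IsIso (pullback.snd (pullback.lift g i' hsq)
      (pullback.fst (pullback.fst i f ≫ i) (S.fromSpecStalk (i.base (genericPoint C)))))) :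
    IsIso (pullback.lift g i' hsq) := by
  haveI hsnd : IsClosedImmersion (pullback.snd i f) := inferInstance
  haveI : IsClosedImmersion (pullback.lift g i' hsq ≫ pullback.snd i f) := by
    rw [pullback.lift_snd]; infer_instance
  haveI : IsClosedImmersion (pullback.lift g i' hsq) :=
    IsClosedImmersion.of_comp _ (pullback.snd i f)
  rw [IsClosedImmersion.isIso_iff_ker_eq_bot]
  have hη : genericPoint C ∈
      Set.range (pullback.fst i (S.fromSpecStalk (i (genericPoint C)))) := by
    obtain ⟨z, hz1, hz2⟩ := Scheme.Pullback.exists_preimage_pullback (f := i)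
      (g := S.fromSpecStalk (i (genericPoint C))) (genericPoint C)
      (IsLocalRing.closedPoint _) (Scheme.fromSpecStalk_closedPoint).symm
    exact ⟨z, hz1⟩
  haveI : IsDominant (pullback.fst i (S.fromSpecStalk (i (genericPoint C)))) := by
    rw [isDominant_iff]
    have hd : Dense ({genericPoint C} : Set C) :=
      dense_iff_closure_eq.mpr (genericPoint_spec C).def
    exact hd.mono (Set.singleton_subset_iff.mpr hη)
  haveI : IsSchemeTheoreticallyDominant
      (pullback.fst i (S.fromSpecStalk (i (genericPoint C)))) :=
    IsSchemeTheoreticallyDominant.of_isDominant _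
  haveI : QuasiCompact (S.fromSpecStalk (i (genericPoint C))) := inferInstance
  haveI : Flat (pullback.fst i f) := inferInstance
  haveI hj : IsSchemeTheoreticallyDominant
      (pullback.fst (pullback.fst i f ≫ i) (S.fromSpecStalk (i (genericPoint C)))) :=
    std_of_comp (pullback.fst i f) i (S.fromSpecStalk (i (genericPoint C)))
  haveI := hgen
  have hfac : pullback.fst (pullback.fst i f ≫ i) (S.fromSpecStalk (i (genericPoint C))) =
      (inv (pullback.snd (pullback.lift g i' hsq)
        (pullback.fst (pullback.fst i f ≫ i) (S.fromSpecStalk (i (genericPoint C))))) ≫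
      pullback.fst (pullback.lift g i' hsq)
        (pullback.fst (pullback.fst i f ≫ i) (S.fromSpecStalk (i (genericPoint C))))) ≫
      pullback.lift g i' hsq := by
    rw [Category.assoc, IsIso.eq_inv_comp]
    exact pullback.condition.symm
  have hle := Scheme.Hom.le_ker_comp
    (inv (pullback.snd (pullback.lift g i' hsq)
        (pullback.fst (pullback.fst i f ≫ i) (S.fromSpecStalk (i (genericPoint C))))) ≫
      pullback.fst (pullback.lift g i' hsq)
        (pullback.fst (pullback.fst i f ≫ i) (S.fromSpecStalk (i (genericPoint C)))))
    (pullback.lift g i' hsq)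
  have h2 : (pullback.fst (pullback.fst i f ≫ i) (S.fromSpecStalk (i (genericPoint C)))).ker = ⊥ :=
    Scheme.Hom.ker_eq_bot _
  rw [← hfac, h2] at hle
  exact le_bot_iff.mp hle

end Groth.Agent.S19967
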