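import Groth.Statements.S19968
import Mathlib
import Groth.Agent.H18.SectionIntegral

set_option autoImplicit false
set_option maxHeartbeats 400000
set_option backward.isDefEq.respectTransparency.types false
universe u
open CategoryTheory AlgebraicGeometry Opposite
open LinSer

namespace Groth.Agent.S19968
open Groth.Agent.H18 Groth.Agent.H18.SectionIntegral Groth.Agent.H18.TensorGen
  Groth.Agent.H18.TensorPowIso Groth.Agent.H18.SecTw
open Groth.Agent.H8 (res_res res_smul ringRes_res section_eq_of_cover)

/-- Linear algebra: a homogeneous system of `n` equations in `n+1` unknowns has a nonzero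
solution. -/
theorem exists_ne_zero_sol (k : Type u) [Field k] (n : ℕ) (A : Fin n → Fin (n + 1) → k) :
    ∃ c : Fin (n + 1) → k, c ≠ 0 ∧ ∀ i, ∑ j, c j * A i j = 0 := by
  classical
  let f : (Fin (n + 1) → k) →ₗ[k] (Fin n → k) :=
    { toFun := fun c i => ∑ j, c j * A i j
      map_add' := fun c d => by
        funext i
        simp only [Pi.add_apply, add_mul, Finset.sum_add_distrib]
      map_smul' := fun r c => by
        funext i
        simp only [Pi.smul_apply, smul_eq_mul, RingHom.id_apply, Finset.mul_sum, mul_assoc] }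
  have hker : LinearMap.ker f ≠ ⊥ := by
    intro h
    have hinj : Function.Injective f := LinearMap.ker_eq_bot.mp h
    have h1 := LinearMap.finrank_le_finrank_of_injective hinj
    rw [Module.finrank_fin_fun, Module.finrank_fin_fun] at h1
    omega
  obtain ⟨c, hc, hc0⟩ := Submodule.exists_mem_ne_zero_of_ne_bot hker
  exact ⟨c, hc0, fun i => congrFun (LinearMap.mem_ker.mp hc) i⟩

section Eval

variable {k : Type u} [Field k] {X : Scheme.{u}}

set_option backward.isDefEq.respectTransparency.types false in
theorem top_le_preimage (p : Spec (CommRingCat.of k) ⟶ X) (V : X.Opens)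
    (hx : p (IsLocalRing.closedPoint k) ∈ V) :
    (⊤ : (Spec (CommRingCat.of k)).Opens) ≤ p ⁻¹ᵁ V := by
  intro y _
  have hy : y = IsLocalRing.closedPoint k :=
    @Subsingleton.elim (PrimeSpectrum k) inferInstance y (IsLocalRing.closedPoint k)
  rw [hy]
  exact hx

/-- Evaluation of a function on a neighbourhood of a `k`-point. -/
noncomputable def ev (p : Spec (CommRingCat.of k) ⟶ X) (V : X.Opens)
    (hx : p (IsLocalRing.closedPoint k) ∈ V) : Γ(X, V) →+* k :=
  (Scheme.ΓSpecIso (CommRingCat.of k)).hom.hom.comp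
    (p.appLE V ⊤ (top_le_preimage p V hx)).hom

set_option backward.isDefEq.respectTransparency.types false in
theorem ev_ne_zero_of_mem_basicOpen (p : Spec (CommRingCat.of k) ⟶ X) (V : X.Opens)
    (hx : p (IsLocalRing.closedPoint k) ∈ V) (b : Γ(X, V))
    (hb : p (IsLocalRing.closedPoint k) ∈ X.basicOpen b) : ev p V hx b ≠ 0 := by
  intro h0
  have h1 : (p.appLE V ⊤ (top_le_preimage p V hx)).hom b = 0 := by
    have hinj : Function.Injective (Scheme.ΓSpecIso (CommRingCat.of k)).hom.hom :=
      (ConcreteCategory.bijective_of_isIso (Scheme.ΓSpecIso (CommRingCat.of k)).hom).1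
    apply hinj
    rw [map_zero]
    exact h0
  have h3 : (IsLocalRing.closedPoint k : Spec (CommRingCat.of k)) ∈
      (Spec (CommRingCat.of k)).basicOpen ((p.appLE V ⊤ (top_le_preimage p V hx)).hom b) := by
    rw [Scheme.basicOpen_appLE]
    exact ⟨trivial, hb⟩
  rw [h1, Scheme.basicOpen_zero] at h3
  exact h3

set_option backward.isDefEq.respectTransparency.types false in
theorem ev_toGlobal [X.Over (Spec (CommRingCat.of k))] (p : Spec (CommRingCat.of k) ⟶ X)
    (hp : p ≫ (X ↘ Spec (CommRingCat.of k)) = 𝟙 _) (V : X.Opens)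
    (hx : p (IsLocalRing.closedPoint k) ∈ V) (c : k) :
    ev p V hx (X.presheaf.map (homOfLE (le_top : V ≤ ⊤)).op
      (show Γ(X, ⊤) from Coh.toGlobal (X ↘ Spec (CommRingCat.of k)) c)) = c := by
  have h1 : X.presheaf.map (homOfLE (le_top : V ≤ ⊤)).op ≫
      p.appLE V ⊤ (top_le_preimage p V hx) = p.appTop := by
    rw [Scheme.Hom.map_appLE]
    exact Scheme.Hom.appLE_eq_app p
  have h2 : (X ↘ Spec (CommRingCat.of k)).appTop ≫ p.appTop = 𝟙 _ := by
    rw [← Scheme.Hom.comp_appTop, hp]
    rfl
  have h3 : (p.appLE V ⊤ (top_le_preimage p V hx)).hom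
      ((X.presheaf.map (homOfLE (le_top : V ≤ ⊤)).op).hom
        (show Γ(X, ⊤) from Coh.toGlobal (X ↘ Spec (CommRingCat.of k)) c)) =
      (Scheme.ΓSpecIso (CommRingCat.of k)).inv.hom c := by
    have h4 := congrArg (fun φ => φ.hom
      (show Γ(X, ⊤) from Coh.toGlobal (X ↘ Spec (CommRingCat.of k)) c)) h1
    have h5 := congrArg (fun φ => φ.hom ((Scheme.ΓSpecIso (CommRingCat.of k)).inv.hom c)) h2
    exact h4.trans h5
  show (Scheme.ΓSpecIso (CommRingCat.of k)).hom.hom _ = c
  refine (congrArg (Scheme.ΓSpecIso (CommRingCat.of k)).hom.hom h3).trans ?_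
  exact congrArg (fun φ => φ.hom c) (Scheme.ΓSpecIso (CommRingCat.of k)).inv_hom_id

end Eval

theorem res_sum {X : Scheme.{u}} (M : X.Modules) {A B : X.Opens} (h : A ≤ B) {ι : Type*}
    (s : Finset ι) (f : ι → Γ(M, B)) :
    M.presheaf.map (homOfLE h).op (∑ j ∈ s, f j) =
      ∑ j ∈ s, M.presheaf.map (homOfLE h).op (f j) :=
  map_sum (M.presheaf.map (homOfLE h).op).hom f s

/-- Rational points impose at most one condition each on a complete linear system. Let k be a field, X a
scheme over k, L an invertible O_X-module, and p_1, …, p_n morphisms Spec k → X over k (k-rational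
points). Suppose there are n + 1 global sections of L, given as morphisms t_0, …, t_n : O_X → L,
whose values in Γ(X, L) are linearly independent over k. Then there is a nonzero morphism s : O_X →
L such that no p_i lands in the open X_s where s generates L; that is, s vanishes at every p_i and
the p_i lie on a common member of the complete linear system of L. (The source has X an irreducible
projective variety over the complex numbers, L base-point-free and the points closed, and phrases
this as surjectivity of the incidence correspondence onto X^n for n at most the dimension of the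
linear system; only rationality of the points and the dimension count are used, and
base-point-freeness plays no part in this item.) -/
theorem result
    (k : Type u) [Field k] (X : Scheme.{u}) [X.Over (Spec (CommRingCat.of k))]
    (L : X.Modules) (hL : PicF.IsInvertible L)
    (n : ℕ) (p : Fin n → (Spec (CommRingCat.of k) ⟶ X))
    (hp : ∀ i, p i ≫ (X ↘ Spec (CommRingCat.of k)) = 𝟙 _)
    (t : Fin (n + 1) → (Coh.structureModule X ⟶ L))
    (ht : LinSer.LinIndep k X L (fun j => (L.unitHomEquiv (t j)).val (op ⊤))) :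
    ∃ s : Coh.structureModule X ⟶ L, s ≠ 0 ∧
      ∀ i, (p i) (IsLocalRing.closedPoint k) ∉ CohB1.genLocus L s := by
  classical
  have hloc : ∀ i : Fin n, ∃ (V : X.Opens) (μ : Γ(L, V)),
      (p i) (IsLocalRing.closedPoint k) ∈ V ∧ IsGen L V μ := fun i => by
    obtain ⟨V, μ, hxV, hμ⟩ := exists_isGen hL ((p i) (IsLocalRing.closedPoint k))
    exact ⟨V, μ, hxV, hμ⟩
  choose V μ hxV hμ using hloc
  have hcoef : ∀ (i : Fin n) (j : Fin (n + 1)), ∃ a : Γ(X, V i), sv (t j) (V i) = a • μ i :=
    fun i j => by
      obtain ⟨a, ha⟩ := (hμ i).self.2 (sv (t j) (V i))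
      exact ⟨a, ha.symm⟩
  choose a ha using hcoef
  obtain ⟨c, hc0, hc⟩ := exists_ne_zero_sol k n (fun i j => ev (p i) (V i) (hxV i) (a i j))
  obtain ⟨σ, hσ⟩ : ∃ σ : Γ(L, ⊤), σ = ∑ j, (show Γ(X, ⊤) from
      Coh.toGlobal (X ↘ Spec (CommRingCat.of k)) (c j)) • sv (t j) ⊤ := ⟨_, rfl⟩
  have hσne : σ ≠ 0 := fun h0 => hc0 (ht c (hσ.symm.trans h0))
  refine ⟨secHom L σ, ?_, ?_⟩
  · intro h0
    apply hσne
    have h1 := sv_secHom L σ ⊤
    rw [h0, sv_zero] at h1
    have h2 : L.presheaf.map (homOfLE (le_top : (⊤ : X.Opens) ≤ ⊤)).op σ = σ := res_self' L σ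
    rw [h2] at h1
    exact h1.symm
  · intro i hmem
    obtain ⟨b, hb⟩ : ∃ b : Γ(X, V i), b = ∑ j, X.presheaf.map (homOfLE (le_top : V i ≤ ⊤)).op
        (show Γ(X, ⊤) from Coh.toGlobal (X ↘ Spec (CommRingCat.of k)) (c j)) * a i j := ⟨_, rfl⟩
    have hsv : sv (secHom L σ) (V i) = b • μ i := by
      rw [sv_secHom, hσ, res_sum, hb, Finset.sum_smul]
      refine Finset.sum_congr rfl (fun j _ => ?_)
      rw [res_smul, sv_res, ha i j, mul_smul]
    have hgl := genLocus_inf_of_isGen (secHom L σ) (hμ i) b hsv
    have hxb : (p i) (IsLocalRing.closedPoint k) ∈ X.basicOpen b := by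
      rw [← hgl]
      exact ⟨hmem, hxV i⟩
    apply ev_ne_zero_of_mem_basicOpen (p i) (V i) (hxV i) b hxb
    rw [hb, map_sum, ← hc i]
    refine Finset.sum_congr rfl (fun j _ => ?_)
    rw [map_mul, ev_toGlobal (p i) (hp i) (V i) (hxV i) (c j)]

end Groth.Agent.S19968
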