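import Groth.Statements.S19969
import Groth.Agent.H63.TranspLoc2

set_option autoImplicit false
universe u
open CategoryTheory MonoidalCategory CartesianMonoidalCategory AlgebraicGeometry
open AlgGrp

namespace Groth.Agent.S19969

/-- Let k be a field, X and Y arbitrary k-schemes and a : Y ×_k X → X a k-morphism such that every open
subscheme U of X is stable under a, in the sense that the preimage of U under the projection Y ×_k X
→ X is contained in the preimage of U under a. Consider the subfunctor X^a of X whose T-valued
points, for a k-scheme T, are the k-morphisms x : T → X with a ∘ (id_Y × x) = x ∘ pr_T as morphisms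
Y ×_k T → X. Then X^a is represented by a closed subscheme of X: there is a closed immersion j : Z →
X over k lying in X^a(Z) through which every element of X^a(T) factors. Neither separatedness of X
nor any finiteness condition on X or Y is assumed. -/
theorem result (k : Type u) [Field k]
    (X Y : Over (Spec (CommRingCat.of k))) (a : Y ⊗ X ⟶ X)
    (hstab : ∀ U : X.left.Opens, (CartesianMonoidalCategory.snd Y X).left ⁻¹ᵁ U ≤ a.left ⁻¹ᵁ U) :
    ∃ (Z : Over (Spec (CommRingCat.of k))) (j : Z ⟶ X), IsClosedImmersion j.left ∧
      (Y ◁ j) ≫ a = CartesianMonoidalCategory.snd Y Z ≫ j ∧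
      ∀ (T : Over (Spec (CommRingCat.of k))) (x : T ⟶ X),
        (Y ◁ x) ≫ a = CartesianMonoidalCategory.snd Y T ≫ x → ∃ z : T ⟶ Z, z ≫ j = x := by
  obtain ⟨W, incl, hcl, hW⟩ := Groth.Agent.H63.TranspLoc.fixed_representable (K := k) a hstab
  refine ⟨W, incl, hcl, ?_, fun T x hx => ?_⟩
  · have h1 := (hW W incl).mp ⟨𝟙 W, Category.id_comp _⟩ (Y ⊗ W) (snd Y W) (fst Y W)
    rw [← h1]
    congr 1
  · rw [hW T x]
    intro T' h y
    have e : lift y (h ≫ x) = lift y h ≫ (Y ◁ x) := by
      apply CartesianMonoidalCategory.hom_ext
      · rw [lift_fst, Category.assoc, whiskerLeft_fst, lift_fst]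
      · rw [lift_snd, Category.assoc, whiskerLeft_snd, lift_snd_assoc]
    rw [e, Category.assoc, hx, lift_snd_assoc]

end Groth.Agent.S19969
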