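import Mathlib
import Groth.Statements.S1997
-- import your own Groth.Agent.* helpers here

set_option autoImplicit false
universe u
open CategoryTheory
open EtAlg

namespace Groth.Agent.S1997

open TensorProduct

/-- Over a ring all of whose ideals are flat, submodules of flat modules are flat. -/
theorem flat_submodule {A : Type u} [CommRing A] (hA : ∀ I : Ideal A, Module.Flat A I)
    {F : Type u} [AddCommGroup F] [Module A F] [Module.Flat A F] (N : Submodule A F) :
    Module.Flat A N := by
  rw [Module.Flat.iff_lTensor_injective']
  intro I
  haveI := hA I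
  have h1 : Function.Injective (N.subtype.rTensor I) :=
    Module.Flat.rTensor_preserves_injective_linearMap N.subtype N.injective_subtype
  have h2 : Function.Injective (I.subtype.lTensor F) :=
    Module.Flat.lTensor_preserves_injective_linearMap I.subtype I.injective_subtype
  have hcomm : (N.subtype.rTensor A) ∘ₗ (I.subtype.lTensor N) =
      (I.subtype.lTensor F) ∘ₗ (N.subtype.rTensor I) := by
    rw [LinearMap.rTensor_comp_lTensor, LinearMap.lTensor_comp_rTensor]
  have h3 : Function.Injective ((N.subtype.rTensor A) ∘ₗ (I.subtype.lTensor N)) := by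
    rw [hcomm]; exact h2.comp h1
  rw [LinearMap.coe_comp] at h3
  exact Function.Injective.of_comp h3

/-- Let A be a ring all of whose ideals are flat (weak dimension at most one) and A -> B a flat,
injective ring map which is an epimorphism in the category of commutative rings. Then A is
integrally closed in B. -/
theorem result (A B : Type u) [CommRing A] [CommRing B] [Algebra A B]
    (hA : ∀ I : Ideal A, Module.Flat A I) [Module.Flat A B] (hinj : Function.Injective (algebraMap A B))
    (hepi : Epi (CommRingCat.ofHom (algebraMap A B))) : IsIntegrallyClosedIn A B := by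
  rw [isIntegrallyClosedIn_iff]
  refine ⟨hinj, fun {x} hx => ?_⟩
  have hepiB : Algebra.IsEpi A B := CommRingCat.epi_iff_epi.1 hepi
  have hB : ∀ b : B, (1 : B) ⊗ₜ[A] b = b ⊗ₜ[A] (1 : B) :=
    (Algebra.isEpi_iff_forall_one_tmul_eq A B).1 hepiB
  let A' : Subalgebra A B := Algebra.adjoin A {x}
  haveI : Module.Finite A A' := Module.Finite.iff_fg.2 hx.fg_adjoin_singleton
  haveI : Module.Flat A A' := flat_submodule hA (Subalgebra.toSubmodule A')
  have hvalinj : Function.Injective A'.val.toLinearMap := fun a b h => Subtype.ext h
  have hj : Function.Injective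
      (TensorProduct.map A'.val.toLinearMap A'.val.toLinearMap) := by
    have e : TensorProduct.map A'.val.toLinearMap A'.val.toLinearMap =
        (A'.val.toLinearMap.rTensor B) ∘ₗ (A'.val.toLinearMap.lTensor A') := by
      rw [LinearMap.rTensor_comp_lTensor]
    rw [e, LinearMap.coe_comp]
    exact (Module.Flat.rTensor_preserves_injective_linearMap _ hvalinj).comp
      (Module.Flat.lTensor_preserves_injective_linearMap _ hvalinj)
  haveI hepiA' : Algebra.IsEpi A A' := by
    rw [Algebra.isEpi_iff_forall_one_tmul_eq]
    intro a'
    apply hj
    rw [TensorProduct.map_tmul, TensorProduct.map_tmul]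
    exact hB (a' : B)
  obtain ⟨y, hy⟩ := Algebra.isEpi_iff_surjective_algebraMap_of_finite.1 hepiA'
    ⟨x, Algebra.subset_adjoin (Set.mem_singleton x)⟩
  exact ⟨y, congrArg Subtype.val hy⟩

end Groth.Agent.S1997
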