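import Groth.Statements.S19974
import Mathlib

set_option autoImplicit false
set_option linter.style.haveILetI false
set_option linter.unusedSectionVars false
universe u v w x
open scoped BigOperators
open DefMod

namespace Groth.Agent.S19974

section basis

/-- The sequence `V₀ = 0`, `V_{i+1} = v a^i + a V_i` (the value of a derivation on `∂^i`). -/
noncomputable def Vseq {R : Type*} [Ring R] (a v : R) : ℕ → R
  | 0 => 0
  | (i + 1) => v * a ^ i + a * Vseq a v i

theorem Vseq_zero {R : Type*} [Ring R] (a v : R) : Vseq a v 0 = 0 := rfl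

theorem Vseq_succ {R : Type*} [Ring R] (a v : R) (i : ℕ) :
    Vseq a v (i + 1) = v * a ^ i + a * Vseq a v i := rfl

theorem Vseq_one {R : Type*} [Ring R] (a v : R) : Vseq a v 1 = v := by
  rw [show (1 : ℕ) = 0 + 1 from rfl, Vseq_succ, Vseq_zero, pow_zero, mul_one, mul_zero, add_zero]

variable {K : Type*} [Field K] {O : Type*} [CommRing O] [Algebra K O] {D : Type*} [Ring D]
  [Algebra K D] (ι : O →ₐ[K] D) (d : D)

noncomputable def Phi : (ℕ →₀ O) →ₗ[K] D :=
  Finsupp.lsum K (fun i => (LinearMap.mulRight K (d ^ i)) ∘ₗ ι.toLinearMap)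

theorem Phi_apply (c : ℕ →₀ O) : Phi ι d c = c.sum (fun i f => ι f * d ^ i) := by
  rw [Phi, Finsupp.lsum_apply]
  rfl

theorem Phi_single (i : ℕ) (f : O) : Phi ι d (Finsupp.single i f) = ι f * d ^ i := by
  rw [Phi, Finsupp.lsum_single]
  rfl

variable {ι d}

theorem Phi_bijective
    (hbasis : Function.Bijective (fun c : ℕ →₀ O => c.sum (fun i f => ι f * d ^ i))) :
    Function.Bijective (Phi ι d) := by
  have h : (Phi ι d : (ℕ →₀ O) → D) = fun c => c.sum (fun i f => ι f * d ^ i) :=
    funext (Phi_apply ι d)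
  rw [h]
  exact hbasis

theorem induction_of_basis
    (hbasis : Function.Bijective (fun c : ℕ →₀ O => c.sum (fun i f => ι f * d ^ i)))
    {p : D → Prop} (h0 : p 0) (hadd : ∀ P Q, p P → p Q → p (P + Q))
    (hs : ∀ i f, p (ι f * d ^ i)) (P : D) : p P := by
  obtain ⟨c, rfl⟩ := (Phi_bijective hbasis).2 P
  induction c using Finsupp.induction_linear with
  | zero => rw [map_zero]; exact h0
  | add x y hx hy => rw [map_add]; exact hadd _ _ hx hy
  | single i f => rw [Phi_single]; exact hs i f

theorem exists_linearMap_of_basis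
    (hbasis : Function.Bijective (fun c : ℕ →₀ O => c.sum (fun i f => ι f * d ^ i)))
    {M : Type*} [AddCommGroup M] [Module K M] (T : ℕ → (O →ₗ[K] M)) :
    ∃ s : D →ₗ[K] M, ∀ i f, s (ι f * d ^ i) = T i f := by
  let e := LinearEquiv.ofBijective (Phi ι d) (Phi_bijective hbasis)
  refine ⟨(Finsupp.lsum K T) ∘ₗ e.symm.toLinearMap, fun i f => ?_⟩
  have h1 : e.symm (ι f * d ^ i) = Finsupp.single i f := by
    rw [LinearEquiv.symm_apply_eq]
    exact (Phi_single ι d i f).symm
  rw [LinearMap.comp_apply, LinearEquiv.coe_coe, h1, Finsupp.lsum_single]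

end basis


/-- Let K be a field of characteristic 0, O a commutative K-algebra with a K-linear derivation δ, and D
the ring of differential operators O[∂], presented abstractly as a K-algebra D with an algebra map ι
: O → D and an element ∂ of D such that ∂ ι(f) = ι(f) ∂ + ι(δ f) for every f in O and such that
every element of D is in a unique way a finite sum of terms ι(f_i) ∂^i. Let E be a left D-module,
given as a K-vector space with a K-algebra map ρ : D → End_K(E), which is finite free as an
O-module. A K-derivation of D with values in the D-bimodule End_K(E) is a K-linear map s with s(PQ)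
= s(P) ρ(Q) + ρ(P) s(Q); a K-derivation of O with values in End_K(E) is a K-linear map r with r(fg)
= r(f) ρ(ι g) + ρ(ι f) r(g). Then: (a) for every K-derivation s of D into End_K(E), the pair (r, v)
= (s ∘ ι, s(∂)) satisfies the identity [r(f), ρ(∂)] + [ρ(ι f), v] + r(δ f) = 0 for all f in O; (b)
conversely, for every K-derivation r of O into End_K(E) and every v in End_K(E) satisfying that
identity for all f, there is exactly one K-derivation s of D into End_K(E) with s ∘ ι = r and s(∂) =
v. In other words s ↦ (s ∘ ι, s(∂)) maps the K-derivations of D injectively onto the pairs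
satisfying the identity. -/
theorem result
    (K : Type u) [Field K] [CharZero K]
    (O : Type v) [CommRing O] [Algebra K O] (δ : Derivation K O O)
    (D : Type w) [Ring D] [Algebra K D] (ι : O →ₐ[K] D) (d : D)
    (hd : ∀ f : O, d * ι f = ι f * d + ι (δ f))
    (hbasis : Function.Bijective (fun c : ℕ →₀ O => c.sum (fun i f => ι f * d ^ i)))
    (E : Type x) [AddCommGroup E] [Module K E] (ρ : D →ₐ[K] Module.End K E)
    (hE : ∃ (n : ℕ) (b : Fin n → E), Function.Bijective (fun c : Fin n → O => ∑ i, ρ (ι (c i)) (b i))) :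
    (∀ s : D →ₗ[K] Module.End K E, (∀ P Q : D, s (P * Q) = s P * ρ Q + ρ P * s Q) →
      ∀ f : O, (s (ι f) * ρ d - ρ d * s (ι f)) + (ρ (ι f) * s d - s d * ρ (ι f)) + s (ι (δ f)) = 0) ∧
    ∀ (r : O →ₗ[K] Module.End K E) (v : Module.End K E),
      (∀ f g : O, r (f * g) = r f * ρ (ι g) + ρ (ι f) * r g) →
      (∀ f : O, (r f * ρ d - ρ d * r f) + (ρ (ι f) * v - v * ρ (ι f)) + r (δ f) = 0) →
      ∃! s : D →ₗ[K] Module.End K E,
        (∀ P Q : D, s (P * Q) = s P * ρ Q + ρ P * s Q) ∧ s ∘ₗ ι.toLinearMap = r ∧ s d = v := by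
  classical
  constructor
  · intro s hs f
    have h1 := congrArg s (hd f)
    rw [hs, map_add, hs] at h1
    have h2 : (s (ι f) * ρ d - ρ d * s (ι f)) + (ρ (ι f) * s d - s d * ρ (ι f)) + s (ι (δ f)) =
        (s (ι f) * ρ d + ρ (ι f) * s d + s (ι (δ f))) - (s d * ρ (ι f) + ρ d * s (ι f)) := by
      abel
    rw [h2, ← h1, sub_self]
  · intro r v hr hrv
    obtain ⟨s, hsT⟩ : ∃ s : D →ₗ[K] Module.End K E, ∀ i f,
        s (ι f * d ^ i) = r f * ρ d ^ i + ρ (ι f) * Vseq (ρ d) v i := by
      obtain ⟨s, hs⟩ := exists_linearMap_of_basis hbasis (M := Module.End K E)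
        (fun i => (LinearMap.mulRight K (ρ d ^ i)) ∘ₗ r +
          (LinearMap.mulRight K (Vseq (ρ d) v i)) ∘ₗ (ρ.toLinearMap ∘ₗ ι.toLinearMap))
      exact ⟨s, fun i f => (hs i f).trans rfl⟩
    have hρd : ∀ g, ρ d * ρ (ι g) = ρ (ι g) * ρ d + ρ (ι (δ g)) := by
      intro g
      rw [← map_mul, hd, map_add, map_mul]
    have hr1 : r 1 = 0 := by
      have h1 := hr 1 1
      simp only [mul_one, one_mul, map_one] at h1
      have h2 : r 1 + r 1 = r 1 + 0 := by rw [add_zero]; exact h1.symm
      exact add_left_cancel h2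
    have hsι : ∀ f, s (ι f) = r f := by
      intro f
      have h1 := hsT 0 f
      rw [pow_zero, mul_one, pow_zero, mul_one, Vseq_zero, mul_zero, add_zero] at h1
      exact h1
    have hs1 : s 1 = 0 := by
      have h1 := hsι 1
      rw [map_one, hr1] at h1
      exact h1
    have hsd : s d = v := by
      have h1 := hsT 1 1
      rw [map_one, one_mul, pow_one, hr1, zero_mul, zero_add, map_one, one_mul, Vseq_one] at h1
      exact h1
    have Lmul : ∀ P₁ P₂ : D, (∀ Q, s (P₁ * Q) = s P₁ * ρ Q + ρ P₁ * s Q) →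
        (∀ Q, s (P₂ * Q) = s P₂ * ρ Q + ρ P₂ * s Q) →
        ∀ Q, s (P₁ * P₂ * Q) = s (P₁ * P₂) * ρ Q + ρ (P₁ * P₂) * s Q := by
      intro P₁ P₂ h1 h2 Q
      rw [mul_assoc, h1 (P₂ * Q), h2 Q, h1 P₂, map_mul, map_mul]
      noncomm_ring
    have Lι : ∀ f Q, s (ι f * Q) = r f * ρ Q + ρ (ι f) * s Q := by
      intro f
      refine induction_of_basis hbasis
        (p := fun Q => s (ι f * Q) = r f * ρ Q + ρ (ι f) * s Q) ?_ ?_ ?_
      · simp
      · intro P Q hP hQ
        rw [mul_add, map_add, hP, hQ, map_add, map_add, mul_add, mul_add]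
        abel
      · intro j g
        rw [← mul_assoc, ← map_mul ι f g, hsT, hsT, hr f g, map_mul ι f g,
          map_mul ρ (ι f) (ι g), map_mul ρ (ι g) (d ^ j), map_pow]
        noncomm_ring
    have Ld' : ∀ Q, s (d * Q) = v * ρ Q + ρ d * s Q := by
      refine induction_of_basis hbasis
        (p := fun Q => s (d * Q) = v * ρ Q + ρ d * s Q) ?_ ?_ ?_
      · simp
      · intro P Q hP hQ
        rw [mul_add, map_add, hP, hQ, map_add, map_add, mul_add, mul_add]
        abel
      · intro j g
        have e1 : d * (ι g * d ^ j) = ι g * d ^ (j + 1) + ι (δ g) * d ^ j := by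
          rw [← mul_assoc, hd, add_mul, mul_assoc, ← pow_succ']
        have X1 : r (δ g) =
            -((r g * ρ d - ρ d * r g) + (ρ (ι g) * v - v * ρ (ι g))) :=
          eq_neg_of_add_eq_zero_right (hrv g)
        have X2 : ρ (ι (δ g)) = ρ d * ρ (ι g) - ρ (ι g) * ρ d := by
          rw [hρd g]
          abel
        rw [e1, map_add, hsT, hsT, hsT, Vseq_succ, X1, X2, map_mul ρ, map_pow, pow_succ']
        noncomm_ring
    have Lpow : ∀ (i : ℕ) (Q : D), s (d ^ i * Q) = s (d ^ i) * ρ Q + ρ (d ^ i) * s Q := by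
      intro i
      induction i with
      | zero =>
        intro Q
        rw [pow_zero, one_mul, hs1, zero_mul, zero_add, map_one, one_mul]
      | succ i ih =>
        rw [pow_succ']
        exact Lmul d (d ^ i) (fun Q => by rw [hsd]; exact Ld' Q) ih
    have Lall : ∀ P Q : D, s (P * Q) = s P * ρ Q + ρ P * s Q := by
      refine induction_of_basis hbasis
        (p := fun P => ∀ Q, s (P * Q) = s P * ρ Q + ρ P * s Q) ?_ ?_ ?_
      · intro Q
        simp
      · intro P₁ P₂ h1 h2 Q
        rw [add_mul, map_add, h1, h2, map_add, map_add, add_mul, add_mul]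
        abel
      · intro i f
        exact Lmul (ι f) (d ^ i) (fun Q => by rw [hsι]; exact Lι f Q) (Lpow i)
    refine ⟨s, ⟨Lall, LinearMap.ext fun f => hsι f, hsd⟩, ?_⟩
    rintro s' ⟨hL', hι', hd'⟩
    have hs'ι : ∀ f, s' (ι f) = r f := fun f => LinearMap.congr_fun hι' f
    have hs'1 : s' 1 = 0 := by
      have h1 := hL' 1 1
      simp only [mul_one, one_mul, map_one] at h1
      have h2 : s' 1 + s' 1 = s' 1 + 0 := by rw [add_zero]; exact h1.symm
      exact add_left_cancel h2
    have hs'pow : ∀ i, s' (d ^ i) = Vseq (ρ d) v i := by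
      intro i
      induction i with
      | zero => rw [pow_zero, hs'1, Vseq_zero]
      | succ i ih => rw [pow_succ', hL', hd', ih, map_pow, Vseq_succ]
    refine LinearMap.ext fun P => ?_
    refine induction_of_basis hbasis (p := fun P => s' P = s P) ?_ ?_ ?_ P
    · rw [map_zero, map_zero]
    · intro P Q hP hQ
      rw [map_add, map_add, hP, hQ]
    · intro i f
      rw [hL', hs'ι f, hs'pow, map_pow, hsT]

end Groth.Agent.S19974
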