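import Groth.Statements.S19977
import Groth.Agent.H40.ActDesc
-- import your own Groth.Agent.* helpers here

set_option autoImplicit false
universe u
open CategoryTheory CategoryTheory.Limits MonoidalCategory CartesianMonoidalCategory MonObj AlgebraicGeometry
open NonAbH1

namespace Groth.Agent.S19977

/-- Let k be a field and X a quasi-compact and quasi-separated k-scheme. Let (T_i)_{i ∈ I} be a
cofiltered inverse system of X-schemes that are affine over X, with limit T over X (in the source
the T_i are torsors over X under affine k-group schemes of finite type, forming a projective system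
of torsors; only their being affine over the quasi-compact quasi-separated X enters). Let G be a
finite k-group scheme and V → T a finite T-scheme with an action of G ×_k T for which it is a
G-torsor over T for the fpqc topology. Then there exist an index i, a finite T_i-scheme V_i with an
action of G ×_k T_i making it an fpqc G-torsor over T_i, and a G-equivariant isomorphism of
T-schemes between V_i ×_{T_i} T and V; the two base changes of G to T are compared through the
canonical isomorphism (G ×_k T_i) ×_{T_i} T ≅ G ×_k T. (The further assertions — V_i Nori-reduced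
when V is, descent of morphisms of torsors, pointed versions — are not stated.) -/
theorem result (k : Type u) [Field k]
    (X : Scheme.{u}) [X.Over (Spec (CommRingCat.of k))] [CompactSpace X] [QuasiSeparatedSpace X]
    {I : Type u} [SmallCategory I] [IsCofiltered I]
    (DT : I ⥤ Over X) [∀ i, IsAffineHom (DT.obj i).hom]
    (cT : Cone DT) (hcT : IsLimit cT)
    (G : Over (Spec (CommRingCat.of k))) [GrpObj G] [IsFinite G.hom]
    (V : Over cT.pt.left) [IsFinite V.hom]
    (a : AlgGrp.Action (Red.bc (cT.pt.hom ≫ (X ↘ Spec (CommRingCat.of k))) G) V)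
    (hV : NonAbH1.IsTorsorFor Scheme.fpqcPrecoverage a) :
    ∃ (i : I) (h : (cT.π.app i).left ≫ ((DT.obj i).hom ≫ (X ↘ Spec (CommRingCat.of k))) = cT.pt.hom ≫ (X ↘ Spec (CommRingCat.of k)))
      (Vi : Over (DT.obj i).left) (ai : AlgGrp.Action (Red.bc ((DT.obj i).hom ≫ (X ↘ Spec (CommRingCat.of k))) G) Vi),
      IsFinite Vi.hom ∧ NonAbH1.IsTorsorFor Scheme.fpqcPrecoverage ai ∧
      Nonempty (NonAbH1.EquivIso (ai.bc (cT.π.app i).left)
        (a.restrict (ActBC.bcCompIso (cT.π.app i).left ((DT.obj i).hom ≫ (X ↘ Spec (CommRingCat.of k))) G h).hom)) := by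
  classical
  haveI hAffT : ∀ (i j : I) (f : i ⟶ j), IsAffineHom ((DT ⋙ Over.forget X).map f) := fun i j f => by
    haveI : IsAffineHom ((DT.map f).left ≫ (DT.obj j).hom) := by
      rw [Over.w (DT.map f)]; infer_instance
    exact IsAffineHom.of_comp (DT.map f).left (DT.obj j).hom
  have hst : ∀ i, ∃ st : (DT.obj i).left ⟶ X, st = (DT.obj i).hom ∧ IsAffineHom st := fun i =>
    ⟨_, rfl, inferInstance⟩
  haveI : ∀ i, CompactSpace ((DT ⋙ Over.forget X).obj i) := fun i => by
    obtain ⟨st, -, hst'⟩ := hst i
    haveI := hst'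
    have h := QuasiCompact.compactSpace_of_compactSpace st
    exact h
  haveI : ∀ i, QuasiSeparatedSpace ((DT ⋙ Over.forget X).obj i) := fun i => by
    obtain ⟨st, -, hst'⟩ := hst i
    haveI := hst'
    have h := quasiSeparatedSpace_of_quasiSeparated st
    exact h
  have hc : IsLimit ((Over.forget X).mapCone cT) := isLimitOfPreserves (Over.forget X) hcT
  -- the group over `k`
  haveI : LocallyOfFinitePresentation G.hom := Groth.Agent.H40.ActDesc.lfp_of_lft G.hom
  have hGfp : Groth.Agent.H40.ActDesc.FP G := ⟨inferInstance, inferInstance, inferInstance⟩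
  haveI : Flat G.hom := inferInstance
  have hs : η[G].left ≫ G.hom = 𝟙 _ := by
    have h0 := Over.w η[G]
    rwa [Over.tensorUnit_hom] at h0
  haveI : Surjective G.hom := ⟨fun x => ⟨η[G].left x, by
    rw [← Scheme.Hom.comp_apply, hs]; rfl⟩⟩
  have hGT1 : Flat (Red.bc (cT.pt.hom ≫ (X ↘ Spec (CommRingCat.of k))) G).hom :=
    inferInstanceAs (Flat (pullback.snd G.hom (cT.pt.hom ≫ (X ↘ Spec (CommRingCat.of k)))))
  have hGT2 : Surjective (Red.bc (cT.pt.hom ≫ (X ↘ Spec (CommRingCat.of k))) G).hom :=
    inferInstanceAs (Surjective (pullback.snd G.hom (cT.pt.hom ≫ (X ↘ Spec (CommRingCat.of k)))))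
  have hGT3 : LocallyOfFinitePresentation
      (Red.bc (cT.pt.hom ≫ (X ↘ Spec (CommRingCat.of k))) G).hom :=
    inferInstanceAs (LocallyOfFinitePresentation
      (pullback.snd G.hom (cT.pt.hom ≫ (X ↘ Spec (CommRingCat.of k)))))
  have hVflat : Flat V.hom :=
    Groth.Agent.H40.FpqcFam.transfer @Flat Groth.Agent.H40.FlatDesc2.flat_descendsAlong hV hGT1
  have hVsurj : Surjective V.hom :=
    Groth.Agent.H40.FpqcFam.transfer @Surjective inferInstance hV hGT2
  have hVlfp : LocallyOfFinitePresentation V.hom :=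
    Groth.Agent.H40.FpqcFam.transfer @LocallyOfFinitePresentation inferInstance hV hGT3
  have hVfp : Groth.Agent.H40.ActDesc.FP V := ⟨hVlfp, inferInstance, inferInstance⟩
  obtain ⟨i, Vi, ai, hVi, hfl, hsu, hps, ⟨e⟩⟩ := Groth.Agent.H40.ActDesc.exists_stage_torsor
    (DT ⋙ Over.forget X) ((Over.forget X).mapCone cT) hc
    (fun i => (DT.obj i).hom ≫ (X ↘ Spec (CommRingCat.of k)))
    (fun {i j} f => by
      have h0 : (DT.map f).left ≫ (DT.obj j).hom = (DT.obj i).hom := Over.w (DT.map f)
      exact (Category.assoc _ _ _).symm.trans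
        (congrArg (fun m => m ≫ (X ↘ Spec (CommRingCat.of k))) h0))
    (cT.pt.hom ≫ (X ↘ Spec (CommRingCat.of k)))
    (fun i => by
      have h0 : (cT.π.app i).left ≫ (DT.obj i).hom = cT.pt.hom := Over.w (cT.π.app i)
      exact (Category.assoc _ _ _).symm.trans
        (congrArg (fun m => m ≫ (X ↘ Spec (CommRingCat.of k))) h0))
    G hGfp V a hVfp hV.1 hVflat hVsurj
  have hh : (cT.π.app i).left ≫ ((DT.obj i).hom ≫ (X ↘ Spec (CommRingCat.of k))) =
      cT.pt.hom ≫ (X ↘ Spec (CommRingCat.of k)) := by
    have h0 : (cT.π.app i).left ≫ (DT.obj i).hom = cT.pt.hom := Over.w (cT.π.app i)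
    exact (Category.assoc _ _ _).symm.trans
      (congrArg (fun m => m ≫ (X ↘ Spec (CommRingCat.of k))) h0)
  haveI := hVi.qc
  haveI := hfl
  haveI := hsu
  have htors : NonAbH1.IsTorsorFor Scheme.fpqcPrecoverage ai :=
    ⟨hps, Presieve.singleton Vi.hom, Scheme.Hom.singleton_mem_fpqcPrecoverage Vi.hom, by
      rintro S' f ⟨⟩
      exact ⟨𝟙 _, Category.id_comp _⟩⟩
  have hfin : IsFinite Vi.hom :=
    Groth.Agent.H40.FpqcFam.transfer @IsFinite Groth.Agent.S0084.result htors
      (inferInstanceAs (IsFinite (pullback.snd G.hom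
        ((DT.obj i).hom ≫ (X ↘ Spec (CommRingCat.of k))))))
  exact ⟨i, hh, Vi, ai, hfin, htors, ⟨e⟩⟩


end Groth.Agent.S19977
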