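-- Statement S1998: a direct limit of henselian pairs is a henselian pair.
import Groth.Statements.S1998
import Mathlib.RingTheory.Jacobson.Ideal

set_option autoImplicit false
universe u
open EtAlg

namespace Groth.Agent.S1998

open Polynomial

set_option linter.unusedSectionVars false

section

variable {ι : Type u} [Preorder ι] [IsDirected ι (· ≤ ·)] [Nonempty ι]
  (G : ι → Type u) [∀ i, CommRing (G i)] (f : ∀ i j, i ≤ j → G i →+* G j)
  [DirectedSystem G fun i j h => f i j h] (I : ∀ i, Ideal (G i))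

local notation "L" => Ring.DirectLimit G fun i j h => f i j h
local notation "φ" => Ring.DirectLimit.of G (fun i j h => f i j h)

theorem phi_comp (i j : ι) (h : i ≤ j) : (φ j).comp (f i j h) = φ i := by
  ext x; exact Ring.DirectLimit.of_f h x

theorem ff (i j k : ι) (hij : i ≤ j) (hjk : j ≤ k) (x : G i) :
    f j k hjk (f i j hij x) = f i k (hij.trans hjk) x :=
  DirectedSystem.map_map' (f := f) hij hjk x

variable (hI : ∀ i j (h : i ≤ j), (I i).map (f i j h) ≤ I j)
include hI

theorem mem_up (i j : ι) (h : i ≤ j) (x : G i) (hx : x ∈ I i) : f i j h x ∈ I j :=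
  hI i j h (Ideal.mem_map_of_mem _ hx)

/-- The ideal of the limit whose elements come from some `I l`. -/
def limIdeal : Ideal (L) where
  carrier := {y | ∃ l, ∃ z ∈ I l, φ l z = y}
  zero_mem' := ⟨Classical.arbitrary ι, 0, (I _).zero_mem, map_zero _⟩
  add_mem' := by
    rintro _ _ ⟨l₁, z₁, hz₁, rfl⟩ ⟨l₂, z₂, hz₂, rfl⟩
    obtain ⟨k, h1, h2⟩ := exists_ge_ge l₁ l₂
    refine ⟨k, f l₁ k h1 z₁ + f l₂ k h2 z₂,
      (I k).add_mem (mem_up G f I hI _ _ h1 _ hz₁) (mem_up G f I hI _ _ h2 _ hz₂), ?_⟩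
    rw [map_add, Ring.DirectLimit.of_f, Ring.DirectLimit.of_f]
  smul_mem' := by
    rintro c _ ⟨l₁, z₁, hz₁, rfl⟩
    obtain ⟨l₂, c', rfl⟩ := Ring.DirectLimit.exists_of c
    obtain ⟨k, h1, h2⟩ := exists_ge_ge l₁ l₂
    refine ⟨k, f l₂ k h2 c' * f l₁ k h1 z₁,
      (I k).mul_mem_left _ (mem_up G f I hI _ _ h1 _ hz₁), ?_⟩
    rw [map_mul, Ring.DirectLimit.of_f, Ring.DirectLimit.of_f, smul_eq_mul]

theorem iSup_le_limIdeal : (⨆ i, (I i).map (φ i)) ≤ limIdeal G f I hI := by
  refine iSup_le fun i => ?_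
  rw [Ideal.map_le_iff_le_comap]
  intro x hx
  exact ⟨i, x, hx, rfl⟩

theorem descend_mem (k : ι) (x : G k) (hx : φ k x ∈ ⨆ i, (I i).map (φ i)) :
    ∃ (m : ι) (hkm : k ≤ m), f k m hkm x ∈ I m := by
  obtain ⟨l, z, hz, hzx⟩ := iSup_le_limIdeal G f I hI hx
  obtain ⟨n, hkn, hln⟩ := exists_ge_ge k l
  have h0 : φ n (f k n hkn x - f l n hln z) = 0 := by
    rw [map_sub, Ring.DirectLimit.of_f, Ring.DirectLimit.of_f, hzx, sub_self]
  obtain ⟨m, hnm, hm⟩ := Ring.DirectLimit.of.zero_exact h0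
  refine ⟨m, hkn.trans hnm, ?_⟩
  rw [map_sub, sub_eq_zero, ff, ff] at hm
  rw [hm]
  exact mem_up G f I hI _ _ _ _ hz

theorem mem_up' (k m m' : ι) (hkm : k ≤ m) (hmm' : m ≤ m') (x : G k)
    (hx : f k m hkm x ∈ I m) : f k m' (hkm.trans hmm') x ∈ I m' := by
  rw [← ff G f k m m' hkm hmm']
  exact mem_up G f I hI _ _ _ _ hx

end

/-- Let (A_j, I_j) be a directed system of henselian pairs (ring maps A_j -> A_k for j ≤ k carrying I_j
into I_k). Then the direct limit A of the A_j together with the ideal generated by the images of the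
I_j is a henselian pair. -/
theorem result {ι : Type u} [Preorder ι] [IsDirected ι (· ≤ ·)] [Nonempty ι]
    (G : ι → Type u) [∀ i, CommRing (G i)] (f : ∀ i j, i ≤ j → G i →+* G j)
    [DirectedSystem G fun i j h => f i j h] (I : ∀ i, Ideal (G i))
    (hI : ∀ i j (h : i ≤ j), (I i).map (f i j h) ≤ I j) (hh : ∀ i, HenselianRing (G i) (I i)) :
    HenselianRing (Ring.DirectLimit G fun i j h => f i j h)
      (⨆ i, (I i).map (Ring.DirectLimit.of G (fun i j h => f i j h) i)) := by
  constructor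
  · refine iSup_le fun i => ?_
    rw [Ideal.map_le_iff_le_comap]
    intro x hx
    rw [Ideal.mem_comap, Ideal.mem_jacobson_bot]
    intro y
    obtain ⟨j, y', rfl⟩ := Ring.DirectLimit.exists_of y
    obtain ⟨k, hik, hjk⟩ := exists_ge_ge i j
    have hxk : f i k hik x ∈ Ideal.jacobson (⊥ : Ideal (G k)) :=
      (hh k).jac (mem_up G f I hI _ _ hik _ hx)
    rw [Ideal.mem_jacobson_bot] at hxk
    have := (hxk (f j k hjk y')).map (Ring.DirectLimit.of G (fun i j h => f i j h) k)
    rwa [map_add, map_mul, map_one, Ring.DirectLimit.of_f, Ring.DirectLimit.of_f] at this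
  · intro P hP a₀ h₁ h₂
    obtain ⟨v, hv⟩ := isUnit_iff_exists_inv.mp h₂
    obtain ⟨v, rfl⟩ := Ideal.Quotient.mk_surjective v
    rw [← map_mul, ← map_one (Ideal.Quotient.mk _), Ideal.Quotient.eq] at hv
    obtain ⟨i, Pi, hPi⟩ := Ring.DirectLimit.Polynomial.exists_of P
    obtain ⟨j, a', ha'⟩ := Ring.DirectLimit.exists_of a₀
    obtain ⟨j', v', hv'⟩ := Ring.DirectLimit.exists_of v
    -- monic model of `P` at index `i`
    set n := P.natDegree with hn
    set Pi' : (G i)[X] := X ^ n + ∑ m ∈ Finset.range n, C (Pi.coeff m) * X ^ m with hPi'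
    have hPi'mon : Pi'.Monic := by
      apply monic_X_pow_add
      refine (degree_sum_le _ _).trans_lt ?_
      refine (Finset.sup_lt_iff (WithBot.bot_lt_coe n)).mpr fun m hm => ?_
      exact (degree_C_mul_X_pow_le m _).trans_lt (WithBot.coe_lt_coe.mpr (Finset.mem_range.mp hm))
    have hPi'map : Pi'.map (Ring.DirectLimit.of G (fun i j h => f i j h) i) = P := by
      rw [hPi', Polynomial.map_add, Polynomial.map_pow, map_X, Polynomial.map_sum]
      conv_rhs => rw [hP.as_sum]
      congr 1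
      refine Finset.sum_congr rfl fun m _ => ?_
      rw [Polynomial.map_mul, map_C, Polynomial.map_pow, map_X, ← hPi, coeff_map]
    obtain ⟨k₀, hik₀, hjk₀⟩ := exists_ge_ge i j
    obtain ⟨k, hk₀k, hj'k⟩ := exists_ge_ge k₀ j'
    have hik : i ≤ k := hik₀.trans hk₀k
    have hjk : j ≤ k := hjk₀.trans hk₀k
    set Pk : (G k)[X] := Pi'.map (f i k hik) with hPk
    have hPkmap : Pk.map (Ring.DirectLimit.of G (fun i j h => f i j h) k) = P := by
      rw [hPk, Polynomial.map_map, phi_comp, hPi'map]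
    set ak := f j k hjk a' with hak
    set vk := f j' k hj'k v' with hvk
    have hak' : Ring.DirectLimit.of G (fun i j h => f i j h) k ak = a₀ := by
      rw [hak, Ring.DirectLimit.of_f, ha']
    have hvk' : Ring.DirectLimit.of G (fun i j h => f i j h) k vk = v := by
      rw [hvk, Ring.DirectLimit.of_f, hv']
    have he1 : Ring.DirectLimit.of G (fun i j h => f i j h) k (Pk.eval ak) ∈
        ⨆ i, (I i).map (Ring.DirectLimit.of G (fun i j h => f i j h) i) := by
      rw [← eval₂_at_apply, ← eval_map, hPkmap, hak']; exact h₁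
    have he2 : Ring.DirectLimit.of G (fun i j h => f i j h) k
        (Pk.derivative.eval ak * vk - 1) ∈
        ⨆ i, (I i).map (Ring.DirectLimit.of G (fun i j h => f i j h) i) := by
      rw [map_sub, map_mul, map_one, ← eval₂_at_apply, ← eval_map, ← derivative_map, hPkmap,
        hak', hvk']
      exact hv
    obtain ⟨m₁, hkm₁, hm₁⟩ := descend_mem G f I hI k _ he1
    obtain ⟨m₂, hkm₂, hm₂⟩ := descend_mem G f I hI k _ he2
    obtain ⟨m, hm₁m, hm₂m⟩ := exists_ge_ge m₁ m₂
    have hkm : k ≤ m := hkm₁.trans hm₁m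
    have hm₁' := mem_up' G f I hI k m₁ m hkm₁ hm₁m _ hm₁
    have hm₂' := mem_up' G f I hI k m₂ m hkm₂ hm₂m _ hm₂
    set Pm : (G m)[X] := Pk.map (f k m hkm) with hPm
    have hPmmap : Pm.map (Ring.DirectLimit.of G (fun i j h => f i j h) m) = P := by
      rw [hPm, Polynomial.map_map, phi_comp, hPkmap]
    have hPmmon : Pm.Monic := (hPi'mon.map _).map _
    have e1 : Pm.eval (f k m hkm ak) ∈ I m := by
      rw [hPm, eval_map, eval₂_at_apply]; exact hm₁'
    have e2 : IsUnit (Ideal.Quotient.mk (I m) (Pm.derivative.eval (f k m hkm ak))) := by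
      refine IsUnit.of_mul_eq_one (Ideal.Quotient.mk (I m) (f k m hkm vk)) ?_
      rw [← map_mul, ← map_one (Ideal.Quotient.mk _), Ideal.Quotient.eq, hPm, derivative_map,
        eval_map, eval₂_at_apply, ← map_mul, ← map_one (f k m hkm), ← map_sub]
      exact hm₂'
    obtain ⟨b, hb, hb'⟩ := (hh m).is_henselian Pm hPmmon _ e1 e2
    refine ⟨Ring.DirectLimit.of G (fun i j h => f i j h) m b, ?_, ?_⟩
    · show P.eval _ = 0
      rw [← hPmmap, eval_map, eval₂_at_apply, hb, map_zero]
    · have : Ring.DirectLimit.of G (fun i j h => f i j h) m b - a₀ =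
          Ring.DirectLimit.of G (fun i j h => f i j h) m (b - f k m hkm ak) := by
        rw [map_sub, Ring.DirectLimit.of_f, hak']
      rw [this]
      exact (le_iSup (fun i => (I i).map (Ring.DirectLimit.of G (fun i j h => f i j h) i)) m)
        (Ideal.mem_map_of_mem _ hb')

end Groth.Agent.S1998
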