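import Groth.Statements.S19995
import Groth.Agent.H81.HomExt3

set_option autoImplicit false
universe u
open CategoryTheory AlgebraicGeometry
open WildQuot

namespace Groth.Agent.S19995

/-- Let `S` be a Noetherian scheme, `f_1 : G_1 → S` and `f_2 : G_2 → S` finite flat morphisms, and `U ⊆
S` an open subset such that at every point of `S` outside `U` the local ring of `S` has depth at
least `2` (equivalently, for Noetherian `S`: `U` contains every point of codimension at most `1` and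
every point at which `S` fails Serre's condition `S_2`). Then every morphism `f_1⁻¹(U) → f_2⁻¹(U)`
over `U` is the restriction of exactly one `S`-morphism `G_1 → G_2`. (The published statements draw
this conclusion for homomorphisms of finite flat group schemes and for group-scheme actions on
finite flat schemes; this row states the underlying extension property of morphisms of finite flat
`S`-schemes, from which those follow by uniqueness.) -/
theorem result
    (S G₁ G₂ : Scheme.{u}) [AlgebraicGeometry.IsNoetherian S] (f₁ : G₁ ⟶ S) (f₂ : G₂ ⟶ S)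
    [AlgebraicGeometry.IsFinite f₁] [AlgebraicGeometry.Flat f₁]
    [AlgebraicGeometry.IsFinite f₂] [AlgebraicGeometry.Flat f₂]
    (U : S.Opens)
    (hU : ∀ s : S, s ∉ U → (2 : ℕ∞) ≤ LocCoh.depth (S.presheaf.stalk s) (S.presheaf.stalk s))
    (φU : ((f₁ ⁻¹ᵁ U : G₁.Opens) : Scheme.{u}) ⟶ ((f₂ ⁻¹ᵁ U : G₂.Opens) : Scheme.{u}))
    (hφU : φU ≫ (f₂ ⁻¹ᵁ U).ι ≫ f₂ = (f₁ ⁻¹ᵁ U).ι ≫ f₁) :
    ∃! φ : G₁ ⟶ G₂, φ ≫ f₂ = f₁ ∧ (f₁ ⁻¹ᵁ U).ι ≫ φ = φU ≫ (f₂ ⁻¹ᵁ U).ι := by
  haveI : IsLocallyNoetherian G₁ := LocallyOfFiniteType.isLocallyNoetherian f₁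
  have hZ : ∀ z : G₁, z ∉ (f₁ ⁻¹ᵁ U : G₁.Opens) → ∃ a b : G₁.presheaf.stalk z,
      a ∈ IsLocalRing.maximalIdeal (G₁.presheaf.stalk z) ∧
      b ∈ IsLocalRing.maximalIdeal (G₁.presheaf.stalk z) ∧
      RingTheory.Sequence.IsWeaklyRegular (G₁.presheaf.stalk z) [a, b] :=
    fun z hz => Groth.Agent.H81.HomExt.exists_pair_stalk f₁ z (hU (f₁ z) (fun h => hz h))
  haveI : IsSchemeTheoreticallyDominant (f₁ ⁻¹ᵁ U : G₁.Opens).ι := by
    refine Groth.Agent.H71.isSchemeTheoreticallyDominant_opens_ι G₁ _ (fun z hz => ?_)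
    obtain ⟨a, b, ha, -, hab⟩ := hZ z hz
    exact ⟨a, ha, ((RingTheory.Sequence.isWeaklyRegular_cons_iff _ a [b]).mp hab).1⟩
  have hbij : ∀ X : G₁.Opens, IsAffineOpen X →
      Function.Bijective ((f₁ ⁻¹ᵁ U : G₁.Opens).ι.app X).hom :=
    fun X hX => Groth.Agent.H71.opens_ι_app_bijective_of_regularSeq_two G₁ _ hZ X hX
  exact Groth.Agent.H81.HomExt.existsUnique_ext f₁ f₂ (f₁ ⁻¹ᵁ U) hbij (φU ≫ (f₂ ⁻¹ᵁ U).ι)
    (by rw [Category.assoc]; exact hφU)

end Groth.Agent.S19995
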