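-- Statement S2000: Beauville–Laszlo glueing for glueing pairs.
import Groth.Statements.S2000
import Groth.Agent.H10.Glue

set_option autoImplicit false
universe u
open TensorProduct
open EtAlg

namespace Groth.Agent.S2000

/-- Beauville–Laszlo, essential surjectivity with glueability: take a glueing pair (R -> R', f). Fix an
R'-module M', an R-module M₁ on which multiplication by f is bijective (i.e. an R_f-module), and α
an R'-linear isomorphism from the localization of M' at f to R' ⊗_R M₁ (an isomorphism of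
R'_f-modules). Then there is an R-module M, glueable for (R -> R', f), with an R'-isomorphism R' ⊗_R
M ≅ M' and an R-isomorphism M_f ≅ M₁ under which α becomes the canonical identification (R' ⊗_R M)_f
= R' ⊗_R M_f. -/
theorem result (R R' : Type u) [CommRing R] [CommRing R'] [Algebra R R'] (f : R)
    (hRR : EtGlue.IsGlueingPair R R' f) (M' : Type u) [AddCommGroup M'] [Module R' M'] (M₁ : Type u) [AddCommGroup M₁]
    [Module R M₁] (hf : Function.Bijective fun x : M₁ => f • x)
    (α : LocalizedModule (Submonoid.powers (algebraMap R R' f)) M' ≃ₗ[R'] R' ⊗[R] M₁) :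
    ∃ (M : Type u) (_ : AddCommGroup M) (_ : Module R M) (_ : EtGlue.IsGlueable R R' f M)
      (e' : R' ⊗[R] M ≃ₗ[R'] M') (e₁ : LocalizedModule (Submonoid.powers f) M ≃ₗ[R] M₁),
      ∀ m : M, α (LocalizedModule.mkLinearMap (Submonoid.powers (algebraMap R R' f)) M' (e' ((1 : R') ⊗ₜ[R] m))) =
        (1 : R') ⊗ₜ[R] e₁ (LocalizedModule.mkLinearMap (Submonoid.powers f) M m) := by
  have hq : EtGlue.QuotPowBijective R R' f := hRR.1
  let modR : Module R M' := Module.compHom M' (algebraMap R R')
  have tower : IsScalarTower R R' M' := ⟨fun r r' m => by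
    change (r • r') • m = algebraMap R R' r • (r' • m)
    rw [Algebra.smul_def, mul_smul]⟩
  have hsmul : ∀ (r : R) (m : M'), r • m = algebraMap R R' r • m := fun r m => rfl
  let ℓ := LocalizedModule.mkLinearMap (Submonoid.powers (algebraMap R R' f)) M'
  let β : M' →ₗ[R'] R' ⊗[R] M₁ := α.toLinearMap ∘ₗ ℓ
  have hβ : ∀ m', β m' = α (ℓ m') := fun m' => rfl
  have hβ1 : ∀ m', β m' = 0 → ∃ k : ℕ, f ^ k • m' = 0 := by
    intro m' hm'
    rw [hβ, LinearEquiv.map_eq_zero_iff,
      IsLocalizedModule.eq_zero_iff (Submonoid.powers (algebraMap R R' f))] at hm'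
    obtain ⟨c, hc⟩ := hm'
    obtain ⟨k, hk⟩ := (Submonoid.mem_powers_iff _ _).mp c.2
    refine ⟨k, ?_⟩
    rw [hsmul, map_pow, hk]
    exact hc
  have hβ2 : ∀ y, ∃ (k : ℕ) (m' : M'), β m' = f ^ k • y := by
    intro y
    obtain ⟨⟨m', c⟩, hc⟩ := IsLocalizedModule.surj (Submonoid.powers (algebraMap R R' f)) ℓ
      (α.symm y)
    obtain ⟨k, hk⟩ := (Submonoid.mem_powers_iff _ _).mp c.2
    refine ⟨k, m', ?_⟩
    simp only at hc
    rw [hβ, ← hc, Submonoid.smul_def, map_smul, LinearEquiv.apply_symm_apply, ← hk, ← map_pow,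
      algebraMap_smul]
  have inst := Groth.Agent.H10.Glue.glueSnd_isLocalizedModule β hf hβ1 hβ2
  refine ⟨Groth.Agent.H10.Glue.glueSub β, inferInstance, inferInstance,
    Groth.Agent.H10.Glue.glueSub_isGlueable hRR β hf hβ1 hβ2,
    LinearEquiv.ofBijective (Groth.Agent.H10.Glue.glueMap β)
      ⟨Groth.Agent.H10.Glue.glueMap_injective hRR β hf hβ1 hβ2,
        Groth.Agent.H10.Glue.glueMap_surjective hq β hβ2⟩,
    IsLocalizedModule.iso (Submonoid.powers f) (Groth.Agent.H10.Glue.glueSnd β), ?_⟩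
  intro m
  change α (ℓ (Groth.Agent.H10.Glue.glueMap β ((1 : R') ⊗ₜ[R] m))) = _
  rw [Groth.Agent.H10.Glue.glueMap_tmul, one_smul]
  have h1 : (IsLocalizedModule.iso (Submonoid.powers f) (Groth.Agent.H10.Glue.glueSnd β))
      (LocalizedModule.mkLinearMap (Submonoid.powers f) _ m) =
        Groth.Agent.H10.Glue.glueSnd β m :=
    IsLocalizedModule.iso_mk_one (Submonoid.powers f) (Groth.Agent.H10.Glue.glueSnd β) m
  rw [h1]
  exact (Groth.Agent.H10.Glue.mem_glueSub β _).mp m.2

end Groth.Agent.S2000
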