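import Groth.Statements.S20018
import Mathlib.Tactic.Ring

set_option autoImplicit false
open CAlg

namespace Groth.Agent.S20018

section Helpers

open PowerSeries

/-- The finite product `∏_{i < N} (1 - γ_i t^{i+1})`. -/
noncomputable def Q {R : Type*} [CommRing R] (γ : ℕ → R) (N : ℕ) : PowerSeries R :=
  ∏ i ∈ Finset.range N, (1 - C (γ i) * X ^ (i + 1))

theorem Q_succ {R : Type*} [CommRing R] (γ : ℕ → R) (N : ℕ) :
    Q γ (N + 1) = Q γ N - C (γ N) * (X ^ (N + 1) * Q γ N) := by
  unfold Q
  rw [Finset.prod_range_succ]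
  ring

theorem constantCoeff_Q {R : Type*} [CommRing R] (γ : ℕ → R) (N : ℕ) :
    constantCoeff (Q γ N) = 1 := by
  induction N with
  | zero => simp [Q]
  | succ N ih =>
    rw [Q_succ, map_sub, ih, map_mul, map_mul, map_pow, constantCoeff_X,
      zero_pow (Nat.succ_ne_zero N), zero_mul, mul_zero, sub_zero]

theorem coeff_Q_succ_of_le {R : Type*} [CommRing R] (γ : ℕ → R) (N m : ℕ) (hm : m ≤ N) :
    coeff m (Q γ (N + 1)) = coeff m (Q γ N) := by
  rw [Q_succ, map_sub, coeff_C_mul, coeff_X_pow_mul', if_neg (by omega), mul_zero, sub_zero]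

theorem coeff_Q_succ_self {R : Type*} [CommRing R] (γ : ℕ → R) (N : ℕ) :
    coeff (N + 1) (Q γ (N + 1)) = coeff (N + 1) (Q γ N) - γ N := by
  rw [Q_succ, map_sub, coeff_C_mul, coeff_X_pow_mul', if_pos le_rfl, Nat.sub_self,
    coeff_zero_eq_constantCoeff_apply, constantCoeff_Q, mul_one]

/-- The partial products built recursively from `x`. -/
noncomputable def P {R : Type*} [CommRing R] (x : PowerSeries R) : ℕ → PowerSeries R
  | 0 => 1
  | N + 1 => P x N - C (coeff (N + 1) (P x N) - coeff (N + 1) x) * (X ^ (N + 1) * P x N)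

/-- The coefficients of the product expansion of `x`. -/
noncomputable def α {R : Type*} [CommRing R] (x : PowerSeries R) (N : ℕ) : R :=
  coeff (N + 1) (P x N) - coeff (N + 1) x

theorem P_succ {R : Type*} [CommRing R] (x : PowerSeries R) (N : ℕ) :
    P x (N + 1) = P x N - C (α x N) * (X ^ (N + 1) * P x N) := rfl

theorem Q_α {R : Type*} [CommRing R] (x : PowerSeries R) (N : ℕ) : Q (α x) N = P x N := by
  induction N with
  | zero => simp [Q, P]
  | succ N ih => rw [Q_succ, ih, P_succ]

theorem coeff_Q_α {R : Type*} [CommRing R] (x : PowerSeries R) (hx : constantCoeff x = 1) :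
    ∀ N m, m ≤ N → coeff m (Q (α x) N) = coeff m x := by
  intro N
  induction N with
  | zero =>
    intro m hm
    obtain rfl : m = 0 := by omega
    rw [coeff_zero_eq_constantCoeff_apply, coeff_zero_eq_constantCoeff_apply, constantCoeff_Q, hx]
  | succ N ih =>
    intro m hm
    by_cases h : m ≤ N
    · rw [coeff_Q_succ_of_le _ _ _ h, ih m h]
    · obtain rfl : m = N + 1 := by omega
      rw [coeff_Q_succ_self, Q_α]
      unfold α
      ring

theorem eq_of_spec {R : Type*} [CommRing R] (x : PowerSeries R) (γ : ℕ → R)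
    (h : ∀ N : ℕ, trunc (N + 2) x = trunc (N + 2) (Q γ (N + 1))) (N : ℕ) :
    γ N = coeff (N + 1) (Q γ N) - coeff (N + 1) x := by
  have h1 : (trunc (N + 2) x).coeff (N + 1) = (trunc (N + 2) (Q γ (N + 1))).coeff (N + 1) := by
    rw [h N]
  rw [coeff_trunc, coeff_trunc, if_pos (by omega), if_pos (by omega), coeff_Q_succ_self] at h1
  rw [h1]
  ring

theorem unique_spec {R : Type*} [CommRing R] (x : PowerSeries R) (γ δ : ℕ → R)
    (hγ : ∀ N : ℕ, trunc (N + 2) x = trunc (N + 2) (Q γ (N + 1)))
    (hδ : ∀ N : ℕ, trunc (N + 2) x = trunc (N + 2) (Q δ (N + 1))) : γ = δ := by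
  funext N
  induction N using Nat.strong_induction_on with
  | _ N ih =>
    rw [eq_of_spec x γ hγ N, eq_of_spec x δ hδ N]
    have hQ : Q γ N = Q δ N := by
      unfold Q
      exact Finset.prod_congr rfl (fun i hi => by rw [ih i (Finset.mem_range.mp hi)])
    rw [hQ]

end Helpers

open PowerSeries in
/-- Product expansion of big Witt vectors: let R be a commutative ring and x ∈ 1 + tR[[t]] a formal
power series with constant term 1. Then x can be written uniquely as an infinite product ∏_{i ≥ 1}
(1 - α_i t^i) with α_i ∈ R. The infinite product is expressed through its truncations: there is a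
unique sequence α : ℕ → R (α i standing for the coefficient attached to t^{i+1}) such that for every
N the series x and the finite product ∏_{i=0}^{N} (1 - α_i t^{i+1}) agree modulo t^{N+2}. -/
theorem result
    (R : Type*) [CommRing R] (x : PowerSeries R) (hx : PowerSeries.constantCoeff x = 1) :
    ∃! α : ℕ → R, ∀ N : ℕ,
      PowerSeries.trunc (N + 2) x =
        PowerSeries.trunc (N + 2) (∏ i ∈ Finset.range (N + 1),
          (1 - PowerSeries.C (α i) * PowerSeries.X ^ (i + 1) : PowerSeries R)) := by
  have hα : ∀ N : ℕ, PowerSeries.trunc (N + 2) x = PowerSeries.trunc (N + 2) (Q (α x) (N + 1)) := by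
    intro N
    ext m
    rw [PowerSeries.coeff_trunc, PowerSeries.coeff_trunc]
    split_ifs with h
    · exact (coeff_Q_α x hx (N + 1) m (by omega)).symm
    · rfl
  exact ⟨α x, hα, fun β hβ => unique_spec x β (α x) hβ hα⟩

end Groth.Agent.S20018
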