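import Groth.Statements.S20022
import Mathlib.LinearAlgebra.LinearIndependent.Lemmas
import Mathlib.LinearAlgebra.Basis.Basic
import Mathlib.Algebra.DirectSum.Decomposition
import Mathlib.Tactic.Ring

set_option autoImplicit false
universe u
open GrLC

namespace Groth.Agent.S20022

/-- Let R be a commutative ℤ-graded ring whose degree-zero subring R_0 is a field k and which is the
Laurent polynomial ring k[T, T⁻¹] on a homogeneous invertible element T of positive degree d, in the
following intrinsic sense: T is a unit lying in R_d, and every nonzero homogeneous element of degree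
n equals a·T^j for some a ∈ R_0 and some integer j with j·d = n (so R_n = 0 unless d divides n, and
R_{jd} = k·T^j). Then every graded R-module M is free in the graded sense: M has an R-basis
consisting of homogeneous elements. (The other case of condition (2), R = k concentrated in degree
zero, is not included.) -/
theorem result (R : Type u) [CommRing R]
    (𝒜 : ℤ → AddSubgroup R) [GradedRing 𝒜] (h0 : IsField (GrLC.deg0 𝒜))
    (d : ℤ) (hd : 0 < d) (T : Rˣ) (hT : (T : R) ∈ 𝒜 d)
    (hA : ∀ (n : ℤ) (x : R), x ∈ 𝒜 n → x ≠ 0 →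
      ∃ j : ℤ, ∃ a ∈ 𝒜 0, j * d = n ∧ x = a * ((T ^ j : Rˣ) : R))
    (M : Type u) [AddCommGroup M] [Module R M] (ℳ : ℤ → AddSubgroup M)
    [DirectSum.Decomposition ℳ] [SetLike.GradedSMul 𝒜 ℳ] :
    ∃ (κ : Type u) (b : Module.Basis κ R M), ∀ i : κ, SetLike.IsHomogeneousElem ℳ (b i) := by
  classical
  -- components of finite sums
  have hadd : ∀ (i : ℤ) (s : Finset ℤ) (f : ℤ → M),
      ((DirectSum.decompose ℳ (∑ δ ∈ s, f δ)) i : M) =
        ∑ δ ∈ s, ((DirectSum.decompose ℳ (f δ)) i : M) := by
    intro i s f
    induction s using Finset.induction_on with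
    | empty => simp
    | insert a s ha ih =>
      rw [Finset.sum_insert ha, Finset.sum_insert ha, DirectSum.decompose_add, DirectSum.add_apply,
        AddMemClass.coe_add, ih]
  have hadd' : ∀ (i : ℤ) (n : ℕ) (f : Fin n → M),
      ((DirectSum.decompose ℳ (∑ δ, f δ)) i : M) =
        ∑ δ, ((DirectSum.decompose ℳ (f δ)) i : M) := by
    intro i n f
    induction n with
    | zero => simp
    | succ n ih =>
      rw [Fin.sum_univ_succ, Fin.sum_univ_succ, DirectSum.decompose_add, DirectSum.add_apply,
        AddMemClass.coe_add, ih]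
  -- component of a multiple of a homogeneous element
  have L1 : ∀ (r : R) (h : ℤ) (e : M), e ∈ ℳ h → ∀ i : ℤ,
      ((DirectSum.decompose ℳ (r • e)) i : M) = ((DirectSum.decompose 𝒜 r) (i - h) : R) • e := by
    intro r h e he i
    have hmem : ∀ δ : ℤ, ((DirectSum.decompose 𝒜 r) δ : R) • e ∈ ℳ (δ + h) := by
      intro δ
      have h1 := SetLike.GradedSMul.smul_mem (A := 𝒜) (B := ℳ) ((DirectSum.decompose 𝒜 r) δ).2 he
      rwa [vadd_eq_add] at h1
    have hr : r • e =
        ∑ δ ∈ (DirectSum.decompose 𝒜 r).support, ((DirectSum.decompose 𝒜 r) δ : R) • e := by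
      conv_lhs => rw [← DirectSum.sum_support_decompose 𝒜 r]
      rw [Finset.sum_smul]
    rw [hr, hadd]
    by_cases hsupp : (i - h) ∈ (DirectSum.decompose 𝒜 r).support
    · rw [Finset.sum_eq_single_of_mem (i - h) hsupp]
      · have h1 := hmem (i - h)
        rw [sub_add_cancel] at h1
        exact DirectSum.decompose_of_mem_same ℳ h1
      · intro δ _ hδ
        exact DirectSum.decompose_of_mem_ne ℳ (hmem δ) (by intro h2; apply hδ; omega)
    · rw [Finset.sum_eq_zero]
      · rw [DFinsupp.notMem_support_iff] at hsupp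
        rw [hsupp, ZeroMemClass.coe_zero, zero_smul]
      · intro δ hδ
        refine DirectSum.decompose_of_mem_ne ℳ (hmem δ) ?_
        intro h2
        apply hsupp
        have h3 : δ = i - h := by omega
        rw [← h3]
        exact hδ
  -- the maximal independent family of homogeneous elements
  let H := {m : M // SetLike.IsHomogeneousElem ℳ m}
  let v : H → M := fun m => (m : M)
  obtain ⟨s, hs, hmax⟩ := exists_maximal_linearIndepOn' R v
  set W := Submodule.span R (v '' s) with hW
  have hcomp : ∀ w ∈ W, ∀ i, ((DirectSum.decompose ℳ w) i : M) ∈ W := by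
    intro w hw i
    obtain ⟨n, f, g, rfl⟩ := Submodule.mem_span_set'.mp hw
    rw [hadd']
    refine Submodule.sum_mem _ fun j _ => ?_
    obtain ⟨m, hm, hmg⟩ := (g j).2
    obtain ⟨h, hh⟩ := m.2
    have he : ((g j : M)) ∈ ℳ h := by rw [← hmg]; exact hh
    rw [L1 (f j) h _ he]
    exact Submodule.smul_mem _ _ (Submodule.subset_span (g j).2)
  -- the key claim
  have hclaim : ∀ m : H, (m : M) ∉ W → ∀ c : R, c • (m : M) ∈ W → c = 0 := by
    intro m hm c hc
    obtain ⟨g, hg⟩ := m.2
    have hδ : ∀ δ : ℤ, ((DirectSum.decompose 𝒜 c) δ : R) = 0 := by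
      intro δ
      by_contra hne
      have h1 := hcomp _ hc (δ + g)
      rw [L1 c g _ hg, add_sub_cancel_right] at h1
      obtain ⟨j, a, ha, -, hx⟩ := hA δ _ ((DirectSum.decompose 𝒜 c) δ).2 hne
      have ha0 : (⟨a, ha⟩ : GrLC.deg0 𝒜) ≠ 0 := by
        intro h2
        apply hne
        have h3 : a = 0 := congrArg Subtype.val h2
        rw [hx, h3, zero_mul]
      obtain ⟨b, hb⟩ := h0.mul_inv_cancel ha0
      have hb' : a * (b : R) = 1 := congrArg Subtype.val hb
      apply hm
      have h4 : (m : M) = ((b : R) * ((T ^ j)⁻¹ : Rˣ)) • (((DirectSum.decompose 𝒜 c) δ : R) • (m : M)) := by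
        rw [smul_smul, hx]
        have h5 : (b : R) * ((T ^ j)⁻¹ : Rˣ) * (a * ((T ^ j : Rˣ) : R)) = 1 := by
          calc (b : R) * ((T ^ j)⁻¹ : Rˣ) * (a * ((T ^ j : Rˣ) : R))
              = (a * (b : R)) * ((((T ^ j)⁻¹ : Rˣ) : R) * ((T ^ j : Rˣ) : R)) := by ring
            _ = 1 := by rw [hb', Units.inv_mul, one_mul]
        rw [h5, one_smul]
      rw [h4]
      exact Submodule.smul_mem _ _ h1
    rw [← DirectSum.sum_support_decompose 𝒜 c]
    exact Finset.sum_eq_zero fun δ _ => hδ δ
  have hhom : ∀ m : H, (m : M) ∈ W := by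
    intro m
    by_contra hm
    have hsingle : LinearIndepOn R v {m} :=
      LinearIndepOn.singleton' (fun r hr => hclaim m hm r (by
        have : r • (m : M) = 0 := hr
        rw [this]
        exact W.zero_mem))
    have hdisj : Disjoint (Submodule.span R (v '' s)) (Submodule.span R (v '' {m})) := by
      rw [Submodule.disjoint_def]
      intro x hx hx'
      rw [Set.image_singleton, Submodule.mem_span_singleton] at hx'
      obtain ⟨c, rfl⟩ := hx'
      rw [hclaim m hm c hx, zero_smul]
    have hins : LinearIndepOn R v (s ∪ {m}) := hs.union hsingle hdisj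
    have h1 := hmax (s ∪ {m}) Set.subset_union_left hins
    apply hm
    apply Submodule.subset_span
    refine ⟨m, ?_, rfl⟩
    rw [h1]
    exact Set.mem_union_right _ rfl
  have htop : W = ⊤ := by
    rw [eq_top_iff]
    intro x _
    rw [← DirectSum.sum_support_decompose ℳ x]
    exact Submodule.sum_mem _ fun i _ => hhom ⟨_, i, (DirectSum.decompose ℳ x i).2⟩
  have hsp : ⊤ ≤ Submodule.span R (Set.range fun x : s => v x) := by
    rw [← Set.image_eq_range, ← hW, htop]
  refine ⟨s, Module.Basis.mk hs hsp, fun i => ?_⟩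
  rw [Module.Basis.mk_apply]
  exact (i : H).2

end Groth.Agent.S20022
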