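import Groth.Statements.S20025
import Mathlib.Algebra.MvPolynomial.CommRing
import Mathlib.Algebra.MvPolynomial.Eval
import Mathlib.LinearAlgebra.Matrix.Determinant.Basic
import Mathlib.LinearAlgebra.Matrix.NonsingularInverse
import Mathlib.Tactic

set_option autoImplicit false
universe u
open InvQ

namespace Groth.Agent.S20025


open MvPolynomial W4c6intromoduli

section aux
variable {k : Type u} [Field k]

/-- linear form attached to a root point -/
noncomputable def ell (la mu : k) : MvPolynomial (Fin 2) k := C mu * X 0 - C la * X 1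

theorem binForm_eq (la mu : Fin 4 → k) :
    binForm la mu =
      ell (la 0) (mu 0) * ell (la 1) (mu 1) * ell (la 2) (mu 2) * ell (la 3) (mu 3) := by
  unfold binForm ell
  rw [Fin.prod_univ_four]

theorem subst_X (M : Matrix (Fin 2) (Fin 2) k) (i : Fin 2) :
    subst M (X i) = C (M i 0) * X 0 + C (M i 1) * X 1 := by
  unfold subst
  rw [aeval_X, Fin.sum_univ_two]

theorem prop_scalar (la0 mu0 la1 mu1 : k) (hprop : la0 * mu1 = la1 * mu0)
    (hne0 : la0 ≠ 0 ∨ mu0 ≠ 0) (hne1 : la1 ≠ 0 ∨ mu1 ≠ 0) :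
    ∃ γ : k, γ ≠ 0 ∧ la1 = γ * la0 ∧ mu1 = γ * mu0 := by
  rcases hne0 with h | h
  · have h1 : la1 = la1 / la0 * la0 := by field_simp
    have h2 : mu1 = la1 / la0 * mu0 := by
      field_simp
      linear_combination hprop
    refine ⟨la1 / la0, ?_, h1, h2⟩
    intro h0
    rw [h0, zero_mul] at h1 h2
    rcases hne1 with h' | h'
    · exact h' h1
    · exact h' h2
  · have h1 : mu1 = mu1 / mu0 * mu0 := by field_simp
    have h2 : la1 = mu1 / mu0 * la0 := by
      field_simp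
      linear_combination -hprop
    refine ⟨mu1 / mu0, ?_, h2, h1⟩
    intro h0
    rw [h0, zero_mul] at h1 h2
    rcases hne1 with h' | h'
    · exact h' h2
    · exact h' h1

theorem polyE1 (P0 P2 P3 : MvPolynomial (Fin 2) k) (γ c A Bc Δ : k)
    (hc : c * (A ^ 2 * Bc * Δ) = -γ) (hstar : C A * P0 + C Bc * P2 = C Δ * P3) :
    P0 * (C γ * P0) * P2 * P3 =
      C c * ((C A * P0) ^ 2 * (-(C Bc) * P2) * (C A * P0 - (-(C Bc) * P2))) := by
  have hc' : (C c : MvPolynomial (Fin 2) k) * (C A ^ 2 * C Bc * C Δ) = - C γ := by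
    rw [← map_pow, ← map_mul, ← map_mul, ← map_mul, hc, map_neg]
  linear_combination (P0 ^ 2 * P2 * P3) * hc' + (C c * C A ^ 2 * C Bc * P0 ^ 2 * P2) * hstar

theorem existA_core (la mu : Fin 4 → k) (γ A Bc Δ : k) (hγ : γ ≠ 0)
    (hla1 : la 1 = γ * la 0) (hmu1 : mu 1 = γ * mu 0)
    (hA : A ≠ 0) (hB : Bc ≠ 0) (hΔ : Δ ≠ 0)
    (h1 : A * mu 0 + Bc * mu 2 = Δ * mu 3) (h2 : A * la 0 + Bc * la 2 = Δ * la 3)
    (hdet : mu 0 * la 2 - la 0 * mu 2 ≠ 0) :
    ∃ (M : Matrix (Fin 2) (Fin 2) k) (c : k), IsUnit M.det ∧ c ≠ 0 ∧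
      binForm la mu = C c * subst M (X 0 ^ 2 * X 1 * (X 0 - X 1)) := by
  have hD : A ^ 2 * Bc * Δ ≠ 0 := mul_ne_zero (mul_ne_zero (pow_ne_zero 2 hA) hB) hΔ
  refine ⟨!![A * mu 0, -(A * la 0); -(Bc * mu 2), Bc * la 2], -γ / (A ^ 2 * Bc * Δ), ?_, ?_, ?_⟩
  · rw [Matrix.det_fin_two_of]
    have : A * mu 0 * (Bc * la 2) - -(A * la 0) * -(Bc * mu 2) =
        A * Bc * (mu 0 * la 2 - la 0 * mu 2) := by ring
    rw [this]
    exact (mul_ne_zero (mul_ne_zero hA hB) hdet).isUnit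
  · exact div_ne_zero (neg_ne_zero.mpr hγ) hD
  · have hM00 : (!![A * mu 0, -(A * la 0); -(Bc * mu 2), Bc * la 2] :
        Matrix (Fin 2) (Fin 2) k) 0 0 = A * mu 0 := rfl
    have hM01 : (!![A * mu 0, -(A * la 0); -(Bc * mu 2), Bc * la 2] :
        Matrix (Fin 2) (Fin 2) k) 0 1 = -(A * la 0) := rfl
    have hM10 : (!![A * mu 0, -(A * la 0); -(Bc * mu 2), Bc * la 2] :
        Matrix (Fin 2) (Fin 2) k) 1 0 = -(Bc * mu 2) := rfl
    have hM11 : (!![A * mu 0, -(A * la 0); -(Bc * mu 2), Bc * la 2] :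
        Matrix (Fin 2) (Fin 2) k) 1 1 = Bc * la 2 := rfl
    have hs : subst (!![A * mu 0, -(A * la 0); -(Bc * mu 2), Bc * la 2] :
        Matrix (Fin 2) (Fin 2) k) (X 0 ^ 2 * X 1 * (X 0 - X 1)) =
        (subst (!![A * mu 0, -(A * la 0); -(Bc * mu 2), Bc * la 2] :
          Matrix (Fin 2) (Fin 2) k) (X 0)) ^ 2 *
        (subst (!![A * mu 0, -(A * la 0); -(Bc * mu 2), Bc * la 2] :
          Matrix (Fin 2) (Fin 2) k) (X 1)) *
        ((subst (!![A * mu 0, -(A * la 0); -(Bc * mu 2), Bc * la 2] :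
          Matrix (Fin 2) (Fin 2) k) (X 0)) -
         (subst (!![A * mu 0, -(A * la 0); -(Bc * mu 2), Bc * la 2] :
          Matrix (Fin 2) (Fin 2) k) (X 1))) := by
      rw [map_mul, map_mul, map_pow, map_sub]
    rw [binForm_eq, hs, subst_X, subst_X, hM00, hM01, hM10, hM11]
    have e1 : ell (la 1) (mu 1) = C γ * ell (la 0) (mu 0) := by
      rw [hla1, hmu1]
      unfold ell
      rw [map_mul, map_mul]
      ring
    have e2 : (C (A * mu 0) * X 0 + C (-(A * la 0)) * X 1 : MvPolynomial (Fin 2) k) =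
        C A * ell (la 0) (mu 0) := by
      unfold ell
      rw [map_neg, map_mul, map_mul]
      ring
    have e3 : (C (-(Bc * mu 2)) * X 0 + C (Bc * la 2) * X 1 : MvPolynomial (Fin 2) k) =
        -(C Bc) * ell (la 2) (mu 2) := by
      unfold ell
      rw [map_neg, map_mul, map_mul]
      ring
    have hstar : C A * ell (la 0) (mu 0) + C Bc * ell (la 2) (mu 2) = C Δ * ell (la 3) (mu 3) := by
      have h1' := congrArg (C : k → MvPolynomial (Fin 2) k) h1
      have h2' := congrArg (C : k → MvPolynomial (Fin 2) k) h2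
      simp only [map_add, map_mul] at h1' h2'
      unfold ell
      linear_combination (X 0) * h1' - (X 1) * h2'
    rw [e1, e2, e3]
    exact polyE1 _ _ _ γ _ A Bc Δ (div_mul_cancel₀ (-γ) hD) hstar

theorem existB_core (la mu : Fin 4 → k) (γ δ : k) (hγ : γ ≠ 0) (hδ : δ ≠ 0)
    (hla1 : la 1 = γ * la 0) (hmu1 : mu 1 = γ * mu 0)
    (hla3 : la 3 = δ * la 2) (hmu3 : mu 3 = δ * mu 2)
    (hdet : la 0 * mu 2 - la 2 * mu 0 ≠ 0) :
    ∃ (M : Matrix (Fin 2) (Fin 2) k) (c : k), IsUnit M.det ∧ c ≠ 0 ∧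
      binForm la mu = C c * subst M (X 0 ^ 2 * X 1 ^ 2) := by
  refine ⟨!![mu 0, -la 0; mu 2, -la 2], γ * δ, ?_, mul_ne_zero hγ hδ, ?_⟩
  · rw [Matrix.det_fin_two_of]
    have : mu 0 * -la 2 - -la 0 * mu 2 = la 0 * mu 2 - la 2 * mu 0 := by ring
    rw [this]
    exact hdet.isUnit
  · have hM00 : (!![mu 0, -la 0; mu 2, -la 2] : Matrix (Fin 2) (Fin 2) k) 0 0 = mu 0 := rfl
    have hM01 : (!![mu 0, -la 0; mu 2, -la 2] : Matrix (Fin 2) (Fin 2) k) 0 1 = -la 0 := rfl
    have hM10 : (!![mu 0, -la 0; mu 2, -la 2] : Matrix (Fin 2) (Fin 2) k) 1 0 = mu 2 := rfl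
    have hM11 : (!![mu 0, -la 0; mu 2, -la 2] : Matrix (Fin 2) (Fin 2) k) 1 1 = -la 2 := rfl
    have hs : subst (!![mu 0, -la 0; mu 2, -la 2] : Matrix (Fin 2) (Fin 2) k)
        (X 0 ^ 2 * X 1 ^ 2) =
        (subst (!![mu 0, -la 0; mu 2, -la 2] : Matrix (Fin 2) (Fin 2) k) (X 0)) ^ 2 *
        (subst (!![mu 0, -la 0; mu 2, -la 2] : Matrix (Fin 2) (Fin 2) k) (X 1)) ^ 2 := by
      rw [map_mul, map_pow, map_pow]
    rw [binForm_eq, hs, subst_X, subst_X, hM00, hM01, hM10, hM11, hla1,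
      hmu1, hla3, hmu3]
    unfold ell
    simp only [map_mul, map_neg]
    ring

theorem exists_AB (la mu : Fin 4 → k) (hne : ∀ i, la i ≠ 0 ∨ mu i ≠ 0)
    (h01 : la 0 * mu 1 = la 1 * mu 0) (n02 : la 0 * mu 2 ≠ la 2 * mu 0)
    (n03 : la 0 * mu 3 ≠ la 3 * mu 0) :
    (∃ (M : Matrix (Fin 2) (Fin 2) k) (c : k), IsUnit M.det ∧ c ≠ 0 ∧
      binForm la mu = C c * subst M (X 0 ^ 2 * X 1 * (X 0 - X 1))) ∨
    (∃ (M : Matrix (Fin 2) (Fin 2) k) (c : k), IsUnit M.det ∧ c ≠ 0 ∧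
      binForm la mu = C c * subst M (X 0 ^ 2 * X 1 ^ 2)) := by
  obtain ⟨γ, hγ, hla1, hmu1⟩ := prop_scalar _ _ _ _ h01 (hne 0) (hne 1)
  by_cases h23 : la 2 * mu 3 = la 3 * mu 2
  · right
    obtain ⟨δ, hδ, hla3, hmu3⟩ := prop_scalar _ _ _ _ h23 (hne 2) (hne 3)
    exact existB_core la mu γ δ hγ hδ hla1 hmu1 hla3 hmu3 (sub_ne_zero.mpr n02)
  · left
    refine existA_core la mu γ (la 3 * mu 2 - la 2 * mu 3) (la 0 * mu 3 - la 3 * mu 0)
      (la 0 * mu 2 - la 2 * mu 0) hγ hla1 hmu1 ?_ (sub_ne_zero.mpr n03) (sub_ne_zero.mpr n02)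
      (by ring) (by ring) ?_
    · exact sub_ne_zero.mpr fun h => h23 h.symm
    · intro h
      exact n02 (by linear_combination -h)

theorem two_zeros (a' b' : k) (h : a' ≠ 0 ∨ b' ≠ 0) (x y x' y' : k)
    (h1 : a' * x + b' * y = 0) (h2 : a' * x' + b' * y' = 0) : x * y' - y * x' = 0 := by
  rcases h with h | h
  · have h3 : a' * (x * y' - y * x') = 0 := by linear_combination y' * h1 - y * h2
    exact (mul_eq_zero.mp h3).resolve_left h
  · have h3 : b' * (x * y' - y * x') = 0 := by linear_combination x * h2 - x' * h1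
    exact (mul_eq_zero.mp h3).resolve_left h

theorem not_both (F : MvPolynomial (Fin 2) k) (M M' : Matrix (Fin 2) (Fin 2) k) (c c' : k)
    (hM : IsUnit M.det) (hM' : IsUnit M'.det) (hc' : c' ≠ 0)
    (h1 : F = C c * subst M (X 0 ^ 2 * X 1 * (X 0 - X 1)))
    (h2 : F = C c' * subst M' (X 0 ^ 2 * X 1 ^ 2)) : False := by
  have hval : ∀ x y : k,
      c * ((M 0 0 * x + M 0 1 * y) ^ 2 * (M 1 0 * x + M 1 1 * y) *
        ((M 0 0 * x + M 0 1 * y) - (M 1 0 * x + M 1 1 * y))) =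
      c' * ((M' 0 0 * x + M' 0 1 * y) ^ 2 * (M' 1 0 * x + M' 1 1 * y) ^ 2) := by
    intro x y
    have h := congrArg (MvPolynomial.eval ![x, y]) (h1.symm.trans h2)
    simpa [subst_X, map_mul, map_pow, map_sub, map_add] using h
  rw [Matrix.det_fin_two] at hM hM'
  have hMd := hM.ne_zero
  have hMd' := hM'.ne_zero
  have hr0 : M' 0 0 ≠ 0 ∨ M' 0 1 ≠ 0 := by
    by_contra hcon
    push Not at hcon
    apply hMd'
    rw [hcon.1, hcon.2]
    ring
  have hr1 : M' 1 0 ≠ 0 ∨ M' 1 1 ≠ 0 := by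
    by_contra hcon
    push Not at hcon
    apply hMd'
    rw [hcon.1, hcon.2]
    ring
  have hz : ∀ x y : k, (M 0 0 * x + M 0 1 * y = 0 ∨ M 1 0 * x + M 1 1 * y = 0 ∨
      (M 0 0 * x + M 0 1 * y) - (M 1 0 * x + M 1 1 * y) = 0) →
      (M' 0 0 * x + M' 0 1 * y = 0 ∨ M' 1 0 * x + M' 1 1 * y = 0) := by
    intro x y h
    have h0 : c' * ((M' 0 0 * x + M' 0 1 * y) ^ 2 * (M' 1 0 * x + M' 1 1 * y) ^ 2) = 0 := by
      rw [← hval x y]
      rcases h with h | h | h <;> simp [h]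
    rcases mul_eq_zero.mp h0 with h3 | h3
    · exact absurd h3 hc'
    · rcases mul_eq_zero.mp h3 with h4 | h4
      · exact Or.inl ((pow_eq_zero_iff (two_ne_zero)).mp h4)
      · exact Or.inr ((pow_eq_zero_iff (two_ne_zero)).mp h4)
  have p0 := hz (M 0 1) (-M 0 0) (Or.inl (by ring))
  have p1 := hz (M 1 1) (-M 1 0) (Or.inr (Or.inl (by ring)))
  have p2 := hz (M 0 1 - M 1 1) (M 1 0 - M 0 0) (Or.inr (Or.inr (by ring)))
  have T01 : ∀ a' b' : k, (a' ≠ 0 ∨ b' ≠ 0) → a' * M 0 1 + b' * (-M 0 0) = 0 →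
      a' * M 1 1 + b' * (-M 1 0) = 0 → False := by
    intro a' b' h q1 q2
    have := two_zeros a' b' h _ _ _ _ q1 q2
    exact hMd (by linear_combination this)
  have T02 : ∀ a' b' : k, (a' ≠ 0 ∨ b' ≠ 0) → a' * M 0 1 + b' * (-M 0 0) = 0 →
      a' * (M 0 1 - M 1 1) + b' * (M 1 0 - M 0 0) = 0 → False := by
    intro a' b' h q1 q2
    have := two_zeros a' b' h _ _ _ _ q1 q2
    exact hMd (by linear_combination -this)
  have T12 : ∀ a' b' : k, (a' ≠ 0 ∨ b' ≠ 0) → a' * M 1 1 + b' * (-M 1 0) = 0 →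
      a' * (M 0 1 - M 1 1) + b' * (M 1 0 - M 0 0) = 0 → False := by
    intro a' b' h q1 q2
    have := two_zeros a' b' h _ _ _ _ q1 q2
    exact hMd (by linear_combination -this)
  rcases p0 with p0 | p0 <;> rcases p1 with p1 | p1 <;> rcases p2 with p2 | p2 <;>
    first
    | exact T01 _ _ hr0 p0 p1
    | exact T02 _ _ hr0 p0 p2
    | exact T12 _ _ hr0 p1 p2
    | exact T01 _ _ hr1 p0 p1
    | exact T02 _ _ hr1 p0 p2
    | exact T12 _ _ hr1 p1 p2

theorem exists_perm (i j : Fin 4) (hij : i ≠ j) :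
    ∃ τ : Equiv.Perm (Fin 4), τ 0 = i ∧ τ 1 = j := by
  refine ⟨Equiv.swap (Equiv.swap (0 : Fin 4) i 1) j * Equiv.swap (0 : Fin 4) i, ?_, ?_⟩
  · rw [Equiv.Perm.mul_apply, Equiv.swap_apply_left]
    refine Equiv.swap_apply_of_ne_of_ne ?_ hij
    intro h
    have h' : Equiv.swap (0 : Fin 4) i 0 = Equiv.swap (0 : Fin 4) i 1 := by
      rw [Equiv.swap_apply_left]; exact h
    exact absurd ((Equiv.swap (0 : Fin 4) i).injective h') (by decide)
  · rw [Equiv.Perm.mul_apply, Equiv.swap_apply_left]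

end aux

/-- For the special fibre of the invariant map, over a field in which 2 and 3 are nonzero, consider a
split binary quartic f = ∏_i (μ_i X₀ − λ_i X₁) given by four root points (λ_i, μ_i) ≠ (0, 0), with a
double zero (vanishing discriminant ∏_{i<j} (λ_j μ_i − λ_i μ_j)²) and no triple zero (no three root
points pairwise proportional); these are the forms of the fibre over the special point P³/Q² = 6 of
the invariant map. Then exactly one of the two alternatives holds: f is a nonzero constant times the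
form X₀² X₁ (X₀ − X₁) after an invertible linear substitution of the variables, or f is a nonzero
constant times X₀² X₁² after such a substitution. So this fibre consists of exactly two classes
under substitutions and scalars (one double zero and two simple zeros; two double zeros). (The
dimensions of the two orbits and which of them is open or closed in the fibre are not part of this
row; stated for split forms over any such field.) -/
theorem result (k : Type u) [Field k]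
    (h2 : (2 : k) ≠ 0) (h3 : (3 : k) ≠ 0) (la mu : Fin 4 → k)
    (hne : ∀ i, la i ≠ 0 ∨ mu i ≠ 0) (hd : W4c6intromoduli.disc la mu = 0)
    (h3z : ∀ i j l : Fin 4, i ≠ j → j ≠ l → i ≠ l →
      ¬ (la i * mu j = la j * mu i ∧ la j * mu l = la l * mu j)) :
    Xor
      (∃ (M : Matrix (Fin 2) (Fin 2) k) (c : k), IsUnit M.det ∧ c ≠ 0 ∧
        W4c6intromoduli.binForm la mu =
          MvPolynomial.C c * W4c6intromoduli.subst M
            (MvPolynomial.X 0 ^ 2 * MvPolynomial.X 1 * (MvPolynomial.X 0 - MvPolynomial.X 1)))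
      (∃ (M : Matrix (Fin 2) (Fin 2) k) (c : k), IsUnit M.det ∧ c ≠ 0 ∧
        W4c6intromoduli.binForm la mu =
          MvPolynomial.C c * W4c6intromoduli.subst M
            (MvPolynomial.X 0 ^ 2 * MvPolynomial.X 1 ^ 2)) := by
  classical
  -- a proportional pair
  obtain ⟨i, j, hij, hprop⟩ : ∃ i j : Fin 4, i ≠ j ∧ la i * mu j = la j * mu i := by
    unfold W4c6intromoduli.disc at hd
    rw [Finset.prod_eq_zero_iff] at hd
    obtain ⟨⟨i, j⟩, hp, hz⟩ := hd
    rw [Finset.mem_filter] at hp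
    have h0 := (pow_eq_zero_iff (two_ne_zero)).mp hz
    exact ⟨i, j, ne_of_lt hp.2, by linear_combination -h0⟩
  obtain ⟨τ, hτ0, hτ1⟩ := exists_perm i j hij
  have hbin : W4c6intromoduli.binForm (la ∘ τ) (mu ∘ τ) = W4c6intromoduli.binForm la mu := by
    unfold W4c6intromoduli.binForm
    exact Equiv.prod_comp τ
      (fun i => MvPolynomial.C (mu i) * MvPolynomial.X 0 - MvPolynomial.C (la i) * MvPolynomial.X 1)
  have hτne : ∀ a b : Fin 4, a ≠ b → τ a ≠ τ b := fun a b hab h => hab (τ.injective h)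
  have hAB := exists_AB (la ∘ τ) (mu ∘ τ) (fun a => hne (τ a))
    (by simp only [Function.comp_apply, hτ0, hτ1]; exact hprop)
    (by
      simp only [Function.comp_apply, hτ0]
      intro h
      exact h3z j i (τ 2) (Ne.symm hij) (hτ0 ▸ hτne 0 2 (by decide)) (hτ1 ▸ hτne 1 2 (by decide))
        ⟨hprop.symm, h⟩)
    (by
      simp only [Function.comp_apply, hτ0]
      intro h
      exact h3z j i (τ 3) (Ne.symm hij) (hτ0 ▸ hτne 0 3 (by decide)) (hτ1 ▸ hτne 1 3 (by decide))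
        ⟨hprop.symm, h⟩)
  rw [hbin] at hAB
  have hnot : ∀ (M M' : Matrix (Fin 2) (Fin 2) k) (c c' : k), IsUnit M.det → IsUnit M'.det →
      c' ≠ 0 →
      W4c6intromoduli.binForm la mu = MvPolynomial.C c * W4c6intromoduli.subst M
        (MvPolynomial.X 0 ^ 2 * MvPolynomial.X 1 * (MvPolynomial.X 0 - MvPolynomial.X 1)) →
      W4c6intromoduli.binForm la mu = MvPolynomial.C c' * W4c6intromoduli.subst M'
        (MvPolynomial.X 0 ^ 2 * MvPolynomial.X 1 ^ 2) → False :=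
    fun M M' c c' hM hM' hc' h1 h2 => not_both _ M M' c c' hM hM' hc' h1 h2
  rcases hAB with hA | hB
  · refine Or.inl ⟨hA, ?_⟩
    rintro ⟨M', c', hM', hc', h2⟩
    obtain ⟨M, c, hM, _, h1⟩ := hA
    exact hnot M M' c c' hM hM' hc' h1 h2
  · refine Or.inr ⟨hB, ?_⟩
    rintro ⟨M, c, hM, _, h1⟩
    obtain ⟨M', c', hM', hc', h2⟩ := hB
    exact hnot M M' c c' hM hM' hc' h1 h2

end Groth.Agent.S20025
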