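import Groth.Statements.S20027
import Groth.Agent.S18655
import Groth.Agent.H2.VerPolyF
import Groth.Agent.H59.Goren1

set_option autoImplicit false
universe u
open GrLC

namespace Groth.Agent.S20027

open Groth.Agent.H98.GrCat Groth.Agent.H98.GrConv Groth.Agent.H98.GrVer Groth.Agent.H98.GrHt
  Groth.Agent.H2.VerMk Groth.Agent.H2.VerPolyF

/-- Let k be a field, s ≥ 1, d ≥ 1, and R = k[X_1, …, X_s] graded with every variable in degree 1.
Present the Veronese subring R^(d) = ⊕_j R_{jd} as a commutative ring R' with an injective ring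
homomorphism φ : R' → R whose image is the set of polynomials whose homogeneous components in all
degrees not divisible by d are zero, and let m' be the maximal ideal of R' that is the preimage of
the ideal of polynomials with zero constant term (the irrelevant ideal of R^(d)). Let n be the least
integer such that n ≥ s and d divides n. Then the type of R^(d), namely the Bass number μ_s(m', R')
= dim over the residue field of Ext^s over the local ring R'_{m'} from its residue field to R'_{m'}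
(here s = dim R'), equals the binomial coefficient (n − 1 choose s − 1). -/
theorem result (k : Type u) [Field k] (s d : ℕ) (hs : 1 ≤ s)
    (hd : 1 ≤ d) (R' : Type u) [CommRing R'] (φ : R' →+* MvPolynomial (Fin s) k)
    (hφ : Function.Injective φ)
    (hrange : ∀ p : MvPolynomial (Fin s) k, p ∈ φ.range ↔
      ∀ j : ℕ, ¬ d ∣ j → MvPolynomial.homogeneousComponent j p = 0)
    (m' : Ideal R') [m'.IsMaximal]
    (hm' : m' = Ideal.comap φ (RingHom.ker (MvPolynomial.constantCoeff : MvPolynomial (Fin s) k →+* k)))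
    (n : ℕ) (hsn : s ≤ n) (hdn : d ∣ n) (hmin : ∀ n' : ℕ, s ≤ n' → d ∣ n' → n ≤ n') :
    GrLC.bassNum m' R' s = (Nat.choose (n - 1) (s - 1) : ℕ∞) := by
  classical
  obtain ⟨r, rfl⟩ : ∃ r, s = r + 1 := ⟨s - 1, by omega⟩
  have hd0 : 0 < d := hd
  have hr : ∀ p : MvPolynomial (Fin (r + 1)) k, p ∈ φ.range ↔ p ∈ verSub (PA k r) d := by
    intro p
    rw [hrange, mem_verSub_iff_hc]
  letI hG : GradedRing (vGr (PA k r) φ d hφ hr) := vGradedRing (PA k r) φ d hd0 hφ hr
  have hdeg : ∀ j : ℤ, (vGr (PA k r) φ d hφ hr j).map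
      (φ : R' →+ MvPolynomial (Fin (r + 1)) k) = PA k r (j * d) := vGr_map (PA k r) φ d hφ hr
  have hm'2 : m' = (irr (vGr (PA k r) φ d hφ hr)).toIdeal :=
    hm'.trans (comap_ker_eq k r _ φ d hd0 hφ hdeg)
  subst hm'2
  haveI : LocCoh.IsGorensteinRing (MvPolynomial (Fin (r + 1)) k) :=
    Groth.Agent.H59.Goren1.gorRing_of_isRegularRing _
  obtain ⟨I⟩ : Nonempty (GrLC.StarInjRes (PA k r) (PA k r)) := ⟨starInjRes _ _⟩
  obtain ⟨ρ, hρ⟩ : ∃ ρ : ℕ, n = r + 1 + ρ := ⟨n - (r + 1), by omega⟩
  have hρd : ρ < d := by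
    by_contra h
    push_neg at h
    have h1 := hmin (n - d) (by omega) (Nat.dvd_sub hdn (dvd_refl d))
    omega
  have hdvd : (d : ℤ) ∣ -((r + 1 : ℕ) : ℤ) - (ρ : ℤ) := by
    have h1 : -((r + 1 : ℕ) : ℤ) - (ρ : ℤ) = -(n : ℤ) := by
      rw [hρ]
      push_cast
      ring
    rw [h1, dvd_neg]
    exact Int.natCast_dvd_natCast.2 hdn
  have key := Groth.Agent.S18655.result (MvPolynomial (Fin (r + 1)) k) (PA k r)
    (stdGr_neg k (Fin (r + 1))) (isField_deg0_PA k r) (Pm k r) (isStarLocal_Pm k r)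
    (Pm_toIdeal k r) (hstd_PA k r) (r + 1) (dim_poly k r) I (-((r + 1 : ℕ) : ℤ)) (ainv_PA k r I)
    d hd0 R' (vGr (PA k r) φ d hφ hr) φ hφ hdeg (irr (vGr (PA k r) φ d hφ hr)) rfl (ρ : ℤ)
    (Int.natCast_nonneg ρ) (by exact_mod_cast hρd) hdvd
  rw [key, finrank_comp_PA]
  have e1 : n - 1 = r + ρ := by omega
  have e2 : r + 1 - 1 = r := by omega
  rw [e1, e2]

end Groth.Agent.S20027
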