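import Groth.Statements.S2007
import Groth.Agent.H10.FormalGlue

set_option autoImplicit false
universe u
open TensorProduct
open EtAlg

namespace Groth.Agent.S2007

/-- Let R -> S be a flat ring map and I a finitely generated ideal of R such that R/I -> S/IS is
bijective. Let N be an R-module, M' an S-module and φ : M' -> S ⊗_R N an S-linear map whose kernel
and cokernel are I-power torsion (every element of the kernel, resp. of the target modulo the image,
is killed by some power of I). Then there are an R-module M, an R-linear map ψ : M -> N and an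
S-isomorphism S ⊗_R M ≅ M' identifying φ with the base change of ψ. -/
theorem result (R S : Type u) [CommRing R] [CommRing S] [Algebra R S] [Module.Flat R S] (I : Ideal R)
    (hI : I.FG) (hq : Function.Bijective (Ideal.quotientMap (I.map (algebraMap R S)) (algebraMap R S) Ideal.le_comap_map))
    (N : Type u) [AddCommGroup N] [Module R N] (M' : Type u) [AddCommGroup M'] [Module S M'] (φ : M' →ₗ[S] S ⊗[R] N)
    (hker : ∀ x : M', φ x = 0 → ∃ n : ℕ, ∀ a ∈ I ^ n, algebraMap R S a • x = 0)
    (hcoker : ∀ y : S ⊗[R] N, ∃ n : ℕ, ∀ a ∈ I ^ n, algebraMap R S a • y ∈ LinearMap.range φ) :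
    ∃ (M : Type u) (_ : AddCommGroup M) (_ : Module R M) (ψ : M →ₗ[R] N) (e : S ⊗[R] M ≃ₗ[S] M'),
      φ ∘ₗ e.toLinearMap = ψ.baseChange S := by
  let modR : Module R M' := Module.compHom M' (algebraMap R S)
  have tower : IsScalarTower R S M' := IsScalarTower.of_algebraMap_smul (fun r x => rfl)
  let ι : N →ₗ[R] S ⊗[R] N := TensorProduct.mk R S N 1
  have hℓ : ∀ w : S ⊗[R] N, LinearMap.liftBaseChange S ι w = w := by
    intro w
    induction w using TensorProduct.induction_on with
    | zero => simp
    | tmul s n =>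
      rw [LinearMap.liftBaseChange_tmul, TensorProduct.mk_apply, TensorProduct.smul_tmul',
        smul_eq_mul, mul_one]
    | add a b ha hb => rw [map_add, ha, hb]
  have hX : Function.Bijective (LinearMap.liftBaseChange S ι) :=
    ⟨fun a b hab => by rw [← hℓ a, ← hℓ b, hab], fun w => ⟨w, hℓ w⟩⟩
  have hcoker' : ∀ y : S ⊗[R] N, ∃ n : ℕ, ∀ a ∈ I ^ n, a • y ∈ LinearMap.range φ := by
    intro y
    obtain ⟨n, hn⟩ := hcoker y
    refine ⟨n, fun a ha => ?_⟩
    rw [← algebraMap_smul S a y]
    exact hn a ha
  have hbij := Groth.Agent.H10.FormalGlue.liftBaseChange_fst_bijective hq ι hX φ hker hcoker'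
  let M : Submodule R (M' × N) := Groth.Agent.H10.FormalGlue.fibre ι φ
  let ψ : M →ₗ[R] N := LinearMap.snd R M' N ∘ₗ M.subtype
  let e : S ⊗[R] M ≃ₗ[S] M' := LinearEquiv.ofBijective _ hbij
  refine ⟨M, inferInstance, inferInstance, ψ, e, ?_⟩
  apply LinearMap.ext
  intro z
  induction z using TensorProduct.induction_on with
  | zero => simp
  | tmul s m =>
    have hm : φ (m : M' × N).1 = ι (m : M' × N).2 :=
      (Groth.Agent.H10.FormalGlue.mem_fibre ι φ m.1).mp m.2
    show φ (s • (m : M' × N).1) = s ⊗ₜ[R] (m : M' × N).2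
    rw [map_smul, hm, TensorProduct.mk_apply, TensorProduct.smul_tmul', smul_eq_mul, mul_one]
  | add a b ha hb => rw [map_add, map_add, ha, hb]

end Groth.Agent.S2007
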