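import Groth.Statements.S2008
import Mathlib.RingTheory.Flat.FaithfullyFlat.Algebra
import Mathlib.RingTheory.TensorProduct.Quotient
import Mathlib.Tactic.TFAE
import Mathlib.Algebra.Module.Torsion.Basic

set_option autoImplicit false
universe u
open TensorProduct
open EtAlg

namespace Groth.Agent.S2008

/-- For a ring map R -> S and an ideal I of R the following are equivalent: (1) S is flat over R and
S/IS is faithfully flat over R/I; (2) S is flat over R and Spec(S/IS) -> Spec(R/I) is surjective;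
(3) S is flat over R and S ⊗_R M is nonzero for every nonzero R-module M killed by I; (4) S is flat
over R and S ⊗_R M is nonzero for every nonzero I-power torsion R-module M. (Faithfulness of base
change on these subcategories is stated as detection of nonzero objects, which is equivalent for an
exact functor.) -/
theorem result (R S : Type u) [CommRing R] [CommRing S] [Algebra R S] (I : Ideal R) :
    List.TFAE [
      Module.Flat R S ∧ Module.FaithfullyFlat (R ⧸ I) (S ⧸ I.map (algebraMap R S)),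
      Module.Flat R S ∧ Function.Surjective (PrimeSpectrum.comap (Ideal.quotientMap (I.map (algebraMap R S)) (algebraMap R S) Ideal.le_comap_map)),
      Module.Flat R S ∧ ∀ (M : Type u) [AddCommGroup M] [Module R M], (∀ (a : R) (m : M), a ∈ I → a • m = 0) →
        Nontrivial M → Nontrivial (S ⊗[R] M),
      Module.Flat R S ∧ ∀ (M : Type u) [AddCommGroup M] [Module R M], (∀ m : M, ∃ n : ℕ, ∀ a ∈ I ^ n, a • m = 0) →
        Nontrivial M → Nontrivial (S ⊗[R] M)] := by
  classical
  have hflatbar : Module.Flat R S → Module.Flat (R ⧸ I) (S ⧸ I.map (algebraMap R S)) := by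
    intro h
    exact Module.Flat.of_linearEquiv
      (Algebra.TensorProduct.quotIdealMapEquivQuotTensor S I).toLinearEquiv
  tfae_have 1 → 2 := by
    rintro ⟨hf, hff⟩
    exact ⟨hf, PrimeSpectrum.comap_surjective_of_faithfullyFlat⟩
  tfae_have 2 → 1 := by
    rintro ⟨hf, hs⟩
    haveI := hflatbar hf
    exact ⟨hf, Module.FaithfullyFlat.of_comap_surjective hs⟩
  tfae_have 1 → 3 := by
    rintro ⟨hf, hff⟩
    refine ⟨hf, ?_⟩
    intro M _ _ hM hnt
    have htors : Module.IsTorsionBySet R M (I : Set R) := fun m a => hM a.1 m a.2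
    let modbar : Module (R ⧸ I) M := htors.module
    have : IsScalarTower R (R ⧸ I) M := htors.isScalarTower
    have h1 : Nontrivial (M ⊗[R ⧸ I] (S ⧸ I.map (algebraMap R S))) := inferInstance
    have h2 : Nontrivial (M ⊗[R ⧸ I] ((R ⧸ I) ⊗[R] S)) :=
      (LinearEquiv.lTensor M
        (Algebra.TensorProduct.quotIdealMapEquivQuotTensor S I).toLinearEquiv).symm.toEquiv.nontrivial
    have h3 : Nontrivial (M ⊗[R] S) :=
      (TensorProduct.AlgebraTensorModule.cancelBaseChange R (R ⧸ I) (R ⧸ I) M S).symm.toEquiv.nontrivial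
    exact (TensorProduct.comm R S M).toEquiv.nontrivial
  tfae_have 3 → 4 := by
    rintro ⟨hf, h3⟩
    refine ⟨hf, ?_⟩
    intro M _ _ hM hnt
    obtain ⟨m, hm⟩ := exists_ne (0 : M)
    have hex : ∃ n : ℕ, ∀ a ∈ I ^ n, a • m = 0 := hM m
    have hn : ∀ a ∈ I ^ (Nat.find hex), a • m = 0 := Nat.find_spec hex
    have hn0 : Nat.find hex ≠ 0 := by
      intro h0
      have h1 := hn 1 (by rw [h0, pow_zero, Ideal.one_eq_top]; exact Submodule.mem_top)
      rw [one_smul] at h1
      exact hm h1
    obtain ⟨k, hk⟩ := Nat.exists_eq_succ_of_ne_zero hn0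
    have hnot : ¬ ∀ a ∈ I ^ k, a • m = 0 := Nat.find_min hex (by omega)
    push Not at hnot
    obtain ⟨b, hb, hbm⟩ := hnot
    let T : Submodule R M :=
      { carrier := {x | ∀ a ∈ I, a • x = 0}
        add_mem' := fun {x y} hx hy a ha => by rw [smul_add, hx a ha, hy a ha, add_zero]
        zero_mem' := fun a _ => smul_zero a
        smul_mem' := fun c x hx a ha => by rw [smul_comm, hx a ha, smul_zero] }
    have hT : ∀ (a : R) (t : T), a ∈ I → a • t = 0 := fun a t ha => Subtype.ext (t.2 a ha)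
    have hbmT : b • m ∈ T := fun a ha => by
      rw [← mul_smul]
      exact hn _ (by rw [hk, pow_succ']; exact Ideal.mul_mem_mul ha hb)
    have hTnt : Nontrivial T :=
      ⟨⟨⟨b • m, hbmT⟩, 0, fun h => hbm (congrArg Subtype.val h)⟩⟩
    haveI := h3 T hT hTnt
    exact (Module.Flat.lTensor_preserves_injective_linearMap T.subtype
      (Submodule.subtype_injective T)).nontrivial
  tfae_have 4 → 3 := by
    rintro ⟨hf, h4⟩
    exact ⟨hf, fun M _ _ hM hnt =>
      h4 M (fun m => ⟨1, fun a ha => hM a m (by rwa [pow_one] at ha)⟩) hnt⟩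
  tfae_have 3 → 1 := by
    rintro ⟨hf, h3⟩
    haveI := hflatbar hf
    refine ⟨hf, ⟨?_⟩⟩
    intro 𝔪 h𝔪 htop
    let 𝔫 : Ideal R := 𝔪.comap (Ideal.Quotient.mk I)
    have hI𝔫 : I ≤ 𝔫 := fun a ha => by
      show Ideal.Quotient.mk I a ∈ 𝔪
      rw [Ideal.Quotient.eq_zero_iff_mem.mpr ha]
      exact 𝔪.zero_mem
    have h𝔫top : 𝔫 ≠ ⊤ := Ideal.comap_ne_top _ h𝔪.ne_top
    have hM : ∀ (a : R) (x : R ⧸ 𝔫), a ∈ I → a • x = 0 := by
      intro a x ha
      obtain ⟨r, rfl⟩ := Ideal.Quotient.mk_surjective x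
      show Ideal.Quotient.mk 𝔫 (a * r) = 0
      exact Ideal.Quotient.eq_zero_iff_mem.mpr (𝔫.mul_mem_right r (hI𝔫 ha))
    haveI : Nontrivial (R ⧸ 𝔫) := Ideal.Quotient.nontrivial_iff.mpr h𝔫top
    haveI hnt := h3 (R ⧸ 𝔫) hM inferInstance
    have hnt2 : Nontrivial (S ⧸ 𝔫.map (algebraMap R S)) :=
      (Algebra.TensorProduct.quotIdealMapEquivTensorQuot S 𝔫).toEquiv.nontrivial
    have h𝔫S : 𝔫.map (algebraMap R S) ≠ ⊤ := Ideal.Quotient.nontrivial_iff.mp hnt2
    apply h𝔫S
    rw [Ideal.smul_top_eq_map, Submodule.restrictScalars_eq_top_iff] at htop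
    have h𝔪 : 𝔪 = 𝔫.map (Ideal.Quotient.mk I) :=
      (Ideal.map_comap_of_surjective _ Ideal.Quotient.mk_surjective 𝔪).symm
    rw [h𝔪, Ideal.map_map] at htop
    have hcomp : (algebraMap (R ⧸ I) (S ⧸ I.map (algebraMap R S))).comp (Ideal.Quotient.mk I) =
        (Ideal.Quotient.mk (I.map (algebraMap R S))).comp (algebraMap R S) := rfl
    rw [hcomp, ← Ideal.map_map] at htop
    have h4 := congrArg (Ideal.comap (Ideal.Quotient.mk (I.map (algebraMap R S)))) htop
    rw [Ideal.comap_map_of_surjective _ Ideal.Quotient.mk_surjective, Ideal.comap_top,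
      ← RingHom.ker_eq_comap_bot, Ideal.mk_ker] at h4
    rw [← h4]
    exact (sup_eq_left.mpr (Ideal.map_mono hI𝔫)).symm
  tfae_finish

end Groth.Agent.S2008
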