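import Groth.Statements.S2009
import Groth.Agent.H10.FlatGlue

set_option autoImplicit false
universe u
open TensorProduct
open EtAlg

namespace Groth.Agent.S2009

/-- Let R -> S be flat with S/IS faithfully flat over R/I. Then the natural map M -> S ⊗_R M is
bijective for every I-power torsion R-module M if and only if R/I -> S/IS is bijective. -/
theorem result (R S : Type u) [CommRing R] [CommRing S] [Algebra R S] (I : Ideal R)
    [Module.Flat R S] [Module.FaithfullyFlat (R ⧸ I) (S ⧸ I.map (algebraMap R S))] :
    (∀ (M : Type u) [AddCommGroup M] [Module R M], (∀ m : M, ∃ n : ℕ, ∀ a ∈ I ^ n, a • m = 0) →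
      Function.Bijective (TensorProduct.mk R S M 1)) ↔
    Function.Bijective (Ideal.quotientMap (I.map (algebraMap R S)) (algebraMap R S) Ideal.le_comap_map) := by
  constructor
  · intro h
    have h1 : Function.Bijective (TensorProduct.mk R S (R ⧸ I) 1) := by
      refine h (R ⧸ I) (fun m => ⟨1, fun a ha => ?_⟩)
      obtain ⟨r, rfl⟩ := Ideal.Quotient.mk_surjective m
      rw [pow_one] at ha
      show Ideal.Quotient.mk I (a * r) = 0
      exact Ideal.Quotient.eq_zero_iff_mem.mpr (I.mul_mem_right r ha)
    have h2 : (Ideal.quotientMap (I.map (algebraMap R S)) (algebraMap R S) Ideal.le_comap_map :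
          R ⧸ I → S ⧸ I.map (algebraMap R S)) =
        (Algebra.TensorProduct.quotIdealMapEquivTensorQuot S I).symm ∘
          (TensorProduct.mk R S (R ⧸ I) 1) := by
      funext x
      obtain ⟨r, rfl⟩ := Ideal.Quotient.mk_surjective x
      rw [Function.comp_apply, TensorProduct.mk_apply, Ideal.quotientMap_mk,
        Algebra.TensorProduct.quotIdealMapEquivTensorQuot_symm_tmul, Algebra.smul_def, mul_one]
      rfl
    rw [h2]
    exact (Algebra.TensorProduct.quotIdealMapEquivTensorQuot S I).symm.bijective.comp h1
  · intro hq M _ _ hT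
    exact Groth.Agent.H10.FlatGlue.mk_bijective_of_torsion hq hT

end Groth.Agent.S2009
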