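import Groth.Statements.S2011
import Groth.Agent.H17.JacobsonCompl
import Mathlib.RingTheory.Jacobson.Ring
import Mathlib.RingTheory.Spectrum.Prime.Jacobson

set_option autoImplicit false
universe u
open EtAlg

namespace Groth.Agent.S2011

/-- Let A be a Noetherian ring and I an ideal contained in the Jacobson radical of A (a Zariski pair).
Then for every f in I the localization A_f is a Jacobson ring. -/
theorem result (A : Type u) [CommRing A] [IsNoetherianRing A] (I : Ideal A)
    (hI : I ≤ (⊥ : Ideal A).jacobson) (f : A) (hf : f ∈ I) : IsJacobsonRing (Localization.Away f) := by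
  have hJ : JacobsonSpace ↥((PrimeSpectrum.zeroLocus ({f} : Set A))ᶜ) := by
    refine Groth.Agent.H17.JacobsonCompl.jacobsonSpace_compl (X := PrimeSpectrum A)
      (fun x => ⟨A, inferInstance, inferInstance, id, Topology.IsOpenEmbedding.id, ⟨x, rfl⟩⟩) _
      (PrimeSpectrum.isClosed_zeroLocus _) ?_
    intro Z hZ hZne
    obtain ⟨x, hx⟩ := hZne
    obtain ⟨m, hm, hxm⟩ := Ideal.exists_le_maximal x.asIdeal x.2.ne_top
    refine ⟨⟨m, hm.isPrime⟩, ?_, ?_⟩
    · exact ((PrimeSpectrum.le_iff_specializes x ⟨m, hm.isPrime⟩).mp hxm).mem_closed hZ hx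
    · rw [PrimeSpectrum.mem_zeroLocus, Set.singleton_subset_iff]
      exact Ideal.mem_sInf.mp (hI hf) ⟨bot_le, hm⟩
  rw [PrimeSpectrum.isJacobsonRing_iff_jacobsonSpace]
  have hoe := PrimeSpectrum.localization_away_isOpenEmbedding (Localization.Away f) f
  have hrange := PrimeSpectrum.localization_away_comap_range (Localization.Away f) f
  let g : PrimeSpectrum (Localization.Away f) → ↥((PrimeSpectrum.zeroLocus ({f} : Set A))ᶜ) :=
    fun x => ⟨PrimeSpectrum.comap (algebraMap A (Localization.Away f)) x, by
      have hx : PrimeSpectrum.comap (algebraMap A (Localization.Away f)) x ∈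
          (PrimeSpectrum.basicOpen f : Set (PrimeSpectrum A)) := by
        rw [← hrange]; exact ⟨x, rfl⟩
      rw [PrimeSpectrum.basicOpen_eq_zeroLocus_compl] at hx
      exact hx⟩
  have hg : Topology.IsOpenEmbedding g :=
    Topology.IsOpenEmbedding.of_comp g
      ((PrimeSpectrum.isClosed_zeroLocus ({f} : Set A)).isOpen_compl.isOpenEmbedding_subtypeVal) hoe
  exact JacobsonSpace.of_isOpenEmbedding hg

end Groth.Agent.S2011
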