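-- Statement S2012: flat integral finitely presented algebra, iso modulo a radical ideal, is iso.
import Groth.Statements.S2012
import Mathlib.RingTheory.Flat.EquationalCriterion
import Mathlib.RingTheory.Finiteness.ModuleFinitePresentation
import Mathlib.RingTheory.Nakayama
import Mathlib.RingTheory.IntegralClosure.IsIntegralClosure.Basic

set_option autoImplicit false
universe u
open EtAlg

namespace Groth.Agent.S2012

/-- Let A be a ring and I an ideal contained in its Jacobson radical. Let B be an A-algebra which is
flat, integral and of finite presentation over A and such that A/I -> B/IB is bijective. Then A -> B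
is bijective. -/
theorem result (A B : Type u) [CommRing A] [CommRing B] [Algebra A B]
    (I : Ideal A) (hI : I ≤ (⊥ : Ideal A).jacobson) [Module.Flat A B] [Algebra.IsIntegral A B] [Algebra.FinitePresentation A B]
    (hq : Function.Bijective (Ideal.quotientMap (I.map (algebraMap A B)) (algebraMap A B) Ideal.le_comap_map)) :
    Function.Bijective (algebraMap A B) := by
  have hfin : Module.Finite A B := Algebra.IsIntegral.finite
  have hfp : Module.FinitePresentation A B :=
    Module.FinitePresentation.of_finite_of_finitePresentation A B
  have hproj : Module.Projective A B := Module.Flat.projective_of_finitePresentation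
  -- surjectivity by Nakayama
  have hsurj : Function.Surjective (Algebra.linearMap A B) := by
    rw [← LinearMap.range_eq_top, eq_top_iff]
    apply Submodule.le_of_le_smul_of_le_jacobson_bot (I := I) (Module.finite_def.mp hfin) hI
    intro b _
    obtain ⟨a', ha'⟩ := hq.2 (Ideal.Quotient.mk _ b)
    obtain ⟨a, rfl⟩ := Ideal.Quotient.mk_surjective a'
    rw [Ideal.quotientMap_mk, Ideal.Quotient.eq] at ha'
    have hmem : b - algebraMap A B a ∈ (I • ⊤ : Submodule A B) := by
      rw [Ideal.smul_top_eq_map]
      have := (I.map (algebraMap A B)).neg_mem ha'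
      rwa [neg_sub] at this
    have : b = algebraMap A B a + (b - algebraMap A B a) := by ring
    rw [this]
    exact Submodule.add_mem_sup ⟨a, rfl⟩ hmem
  refine ⟨?_, hsurj⟩
  -- injectivity via a splitting
  obtain ⟨s, hs⟩ := Module.projective_lifting_property (Algebra.linearMap A B) LinearMap.id hsurj
  rw [injective_iff_map_eq_zero]
  intro x hx
  -- the kernel is contained in `I`
  have hkerI : ∀ y : A, algebraMap A B y = 0 → y ∈ I := by
    intro y hy
    rw [← Ideal.Quotient.eq_zero_iff_mem]
    apply hq.1
    rw [Ideal.quotientMap_mk, hy, map_zero, map_zero]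
  set ε : A := 1 - s 1 with hε
  have hsπ : ∀ y : A, s (algebraMap A B y) = y * s 1 := by
    intro y
    rw [Algebra.algebraMap_eq_smul_one, map_smul, smul_eq_mul]
  have hπs : ∀ b : B, algebraMap A B (s b) = b := fun b => LinearMap.congr_fun hs b
  have hεker : algebraMap A B ε = 0 := by
    rw [hε, map_sub, map_one, hπs, sub_self]
  have hεI : ε ∈ I := hkerI ε hεker
  have hxε : x = x * ε := by
    have : x * s 1 = 0 := by rw [← hsπ, hx, map_zero]
    rw [hε, mul_sub, mul_one, this, sub_zero]
  have hεε : ε * (1 - ε) = 0 := by
    have h1 : ε * s 1 = 0 := by rw [← hsπ, hεker, map_zero]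
    rw [hε, sub_sub_cancel]; rw [hε] at h1; exact h1
  have hunit : IsUnit (1 - ε) := by
    have := (Ideal.mem_jacobson_bot.mp (hI hεI)) (-1)
    rwa [mul_neg_one, neg_add_eq_sub] at this
  have hε0 : ε = 0 := hunit.mul_left_eq_zero.mp hεε
  rw [hxε, hε0, mul_zero]

end Groth.Agent.S2012
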