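import Groth.Statements.S2014
import Mathlib
-- import your own Groth.Agent.* helpers here

set_option autoImplicit false
universe u
open EtAlg
namespace Groth.Agent.S2014

/-- Let R be a Noetherian local ring of Krull dimension 1 and x an element of the maximal ideal
contained in no minimal prime of R. Then the number of minimal prime ideals of R is at most the
length of R/xR as an R-module. -/
theorem result (R : Type u) [CommRing R] [IsNoetherianRing R] [IsLocalRing R]
    (hdim : ringKrullDim R = 1) (x : R) (hx : x ∈ IsLocalRing.maximalIdeal R) (hmin : ∀ p ∈ minimalPrimes R, x ∉ p) :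
    (Set.ncard (minimalPrimes R) : ℕ∞) ≤ Module.length R (R ⧸ Ideal.span {x}) := by
  classical
  have hfin : (minimalPrimes R).Finite := minimalPrimes.finite_of_isNoetherianRing R
  set s := hfin.toFinset with hs
  set n := s.card with hn
  have hncard : Set.ncard (minimalPrimes R) = n := by rw [Set.ncard_eq_toFinset_card _ hfin]
  let e : Fin n ≃ s := s.equivFin.symm
  let p : Fin n → Ideal R := fun i => (e i : Ideal R)
  have hp_min : ∀ i, p i ∈ minimalPrimes R := fun i => hfin.mem_toFinset.mp (e i).2
  have hp_inj : Function.Injective p := fun i j h => e.injective (Subtype.ext h)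
  let J : ℕ → Ideal R := fun j => (Finset.univ.filter (fun i : Fin n => (i : ℕ) < j)).inf p
  let I : ℕ → Ideal R := fun j => Ideal.span {x} ⊔ J j
  have hJanti : ∀ a b, a ≤ b → J b ≤ J a := by
    intro a b hab
    apply Finset.inf_mono
    intro i hi
    simp only [Finset.mem_filter, Finset.mem_univ, true_and] at hi ⊢
    omega
  have hJsucc : ∀ j (hj : j < n), J (j + 1) ≤ p ⟨j, hj⟩ := by
    intro j hj
    apply Finset.inf_le
    simp
  have hxJ : ∀ j r, x * r ∈ J j → r ∈ J j := by
    intro j r hr
    simp only [J, Submodule.mem_finsetInf] at hr ⊢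
    intro i hi
    have hpi := (hp_min i).1.1
    rcases hpi.mem_or_mem (hr i hi) with h | h
    · exact absurd h (hmin _ (hp_min i))
    · exact h
  have hstrict : ∀ j, j < n → I (j + 1) < I j := by
    intro j hj
    refine lt_of_le_of_ne (sup_le_sup_left (hJanti _ _ (Nat.le_succ j)) _) ?_
    intro heq
    -- J j ≤ span{x} ⊔ J (j+1)
    have h1 : J j ≤ Ideal.span {x} ⊔ J (j + 1) := by
      calc J j ≤ I j := le_sup_right
        _ = I (j + 1) := heq.symm
    have h2 : J j ≤ J (j + 1) ⊔ (Ideal.span {x}) • J j := by
      intro a ha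
      obtain ⟨y, hy, b, hb, rfl⟩ := Submodule.mem_sup.mp (h1 ha)
      obtain ⟨r, rfl⟩ := Ideal.mem_span_singleton'.mp hy
      have hbJ : b ∈ J j := hJanti _ _ (Nat.le_succ j) hb
      have hrx : x * r ∈ J j := by
        have : r * x = (r * x + b) - b := by ring
        rw [mul_comm, this]
        exact (J j).sub_mem ha hbJ
      have hr : r ∈ J j := hxJ j r hrx
      rw [add_comm (r * x) b]
      refine Submodule.add_mem_sup hb ?_
      rw [mul_comm]
      exact Submodule.smul_mem_smul (Ideal.mem_span_singleton_self x) hr
    have hjac : Ideal.span {x} ≤ Ideal.jacobson (⊥ : Ideal R) := by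
      rw [IsLocalRing.jacobson_eq_maximalIdeal ⊥ bot_ne_top, Ideal.span_singleton_le_iff_mem]
      exact hx
    have h3 : J j ≤ J (j + 1) :=
      Submodule.le_of_le_smul_of_le_jacobson_bot (IsNoetherian.noetherian _) hjac h2
    have h4 : J j ≤ p ⟨j, hj⟩ := h3.trans (hJsucc j hj)
    have hprime : (p ⟨j, hj⟩).IsPrime := (hp_min _).1.1
    obtain ⟨i, hi, hle⟩ := (Ideal.IsPrime.inf_le' hprime).mp h4
    simp only [Finset.mem_filter, Finset.mem_univ, true_and] at hi
    have heq2 : p i = p ⟨j, hj⟩ :=
      le_antisymm hle ((hp_min ⟨j, hj⟩).2 ⟨(hp_min i).1.1, bot_le⟩ hle)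
    have := hp_inj heq2
    rw [Fin.ext_iff] at this
    simp at this
    omega
  let f : Fin (n + 1) → Ideal R := fun k => I (n - k)
  have hf : StrictMono f := by
    rw [Fin.strictMono_iff_lt_succ]
    intro i
    simp only [f, Fin.val_succ, Fin.coe_castSucc]
    have h := hstrict (n - (i + 1)) (by omega)
    have e1 : n - (i + 1) + 1 = n - i := by omega
    rw [e1] at h
    exact h
  let S : LTSeries (Submodule R R) := LTSeries.mk n f hf
  have hhead : (Ideal.span {x} : Submodule R R) ≤ S.head := by
    change Ideal.span {x} ≤ f 0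
    exact le_sup_left
  have := Order.length_le_coheight hhead
  rw [hncard, Module.length_quotient]
  exact this

end Groth.Agent.S2014
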