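import Groth.Statements.S2015
import Mathlib

set_option autoImplicit false
set_option linter.style.haveILetI false
universe u
open EtAlg

namespace Groth.Agent.S2015


theorem exists_dvd_all {R : Type u} [CommRing R] (h : ∀ a b : R, a ∣ b ∨ b ∣ a)
    (E : Finset R) (hE : E.Nonempty) : ∃ a ∈ E, ∀ b ∈ E, a ∣ b := by
  induction hE using Finset.Nonempty.cons_induction with
  | singleton a => exact ⟨a, by simp, by simp⟩
  | cons a s ha hs ih =>
    obtain ⟨c, hc, hcall⟩ := ih
    rcases h a c with hac | hca
    · refine ⟨a, by simp, fun b hb => ?_⟩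
      rcases Finset.mem_cons.mp hb with rfl | hb
      · exact dvd_rfl
      · exact hac.trans (hcall b hb)
    · refine ⟨c, by simp [hc], fun b hb => ?_⟩
      rcases Finset.mem_cons.mp hb with rfl | hb
      · exact hca
      · exact hcall b hb

theorem aux {R : Type u} [CommRing R] (h : ∀ a b : R, a ∣ b ∨ b ∣ a) :
    ∀ (n : ℕ) (M : Type u) [AddCommGroup M] [Module R M] [Module.FinitePresentation R M]
      (x : Fin n → M), Submodule.span R (Set.range x) = ⊤ →
      ∃ f : Fin n → R, Nonempty (M ≃ₗ[R] ((i : Fin n) → R ⧸ Ideal.span {f i})) := by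
  intro n
  induction n with
  | zero =>
    intro M _ _ _ x hx
    have : Subsingleton M := by
      have h0 : (⊥ : Submodule R M) = ⊤ := by
        rw [← hx]
        have : Set.range x = ∅ := Set.range_eq_empty x
        rw [this, Submodule.span_empty]
      exact (Submodule.subsingleton_iff R).mp (subsingleton_of_bot_eq_top h0)
    exact ⟨fun _ => 0, ⟨LinearEquiv.ofSubsingleton _ _⟩⟩
  | succ n ih =>
    intro M _ _ _ x hx
    classical
    let π : (Fin (n+1) → R) →ₗ[R] M := Fintype.linearCombination R x
    have hπ : ∀ c, π c = ∑ i, c i • x i := fun c => Fintype.linearCombination_apply R x c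
    have hsurj : Function.Surjective π := by
      rw [← LinearMap.range_eq_top, Fintype.range_linearCombination]; exact hx
    obtain ⟨S, hS⟩ := Module.FinitePresentation.fg_ker π hsurj
    let S' : Finset (Fin (n+1) → R) := insert 0 S
    have hS' : Submodule.span R (S' : Set (Fin (n+1) → R)) = LinearMap.ker π := by
      rw [Finset.coe_insert, Submodule.span_insert_zero, hS]
    let E : Finset R := S'.biUnion (fun r => Finset.univ.image r)
    have hE : E.Nonempty := ⟨(0 : Fin (n+1) → R) 0, by
      refine Finset.mem_biUnion.mpr ⟨0, Finset.mem_insert_self _ _,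
        Finset.mem_image.mpr ⟨0, Finset.mem_univ _, rfl⟩⟩⟩
    obtain ⟨a, haE, hdiv⟩ := exists_dvd_all h E hE
    obtain ⟨r0, hr0, hr0'⟩ := Finset.mem_biUnion.mp haE
    obtain ⟨i0, -, hi0⟩ := Finset.mem_image.mp hr0'
    have hdiv' : ∀ r ∈ S', ∀ i, a ∣ r i := fun r hr i =>
      hdiv _ (Finset.mem_biUnion.mpr ⟨r, hr, Finset.mem_image.mpr ⟨i, Finset.mem_univ _, rfl⟩⟩)
    have hc0 : ∀ i, ∃ ci, r0 i = a * ci := fun i => hdiv' r0 hr0 i
    let c : Fin (n+1) → R := fun i => if i = i0 then 1 else Classical.choose (hc0 i)
    have hc : ∀ i, r0 i = a * c i := by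
      intro i
      by_cases hi : i = i0
      · rw [hi]; simp [c, hi0]
      · simp only [c, if_neg hi]; exact Classical.choose_spec (hc0 i)
    have hci0 : c i0 = 1 := by simp [c]
    let y : M := π c
    have hr0K : r0 ∈ LinearMap.ker π := by
      rw [← hS']; exact Submodule.subset_span (Finset.mem_coe.mpr hr0)
    have hay : a • y = 0 := by
      have : a • c = r0 := by funext i; simp [hc i]
      show a • π c = 0
      rw [← map_smul, this]; exact hr0K
    have hK : ∀ k ∈ LinearMap.ker π, a ∣ k i0 := by
      intro k hk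
      rw [← hS'] at hk
      have hle : Submodule.span R (S' : Set (Fin (n+1) → R)) ≤
          Submodule.comap (LinearMap.proj i0 : (Fin (n+1) → R) →ₗ[R] R) (Ideal.span {a}) := by
        rw [Submodule.span_le]
        intro r hr
        simp only [Submodule.comap_coe, Set.mem_preimage, LinearMap.proj_apply, SetLike.mem_coe,
          Ideal.mem_span_singleton]
        exact hdiv' r hr i0
      have := hle hk
      simpa [Ideal.mem_span_singleton] using this
    let M' : Submodule R M := Submodule.span R (Set.range (fun j : Fin n => x (i0.succAbove j)))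
    have hG : ∀ (t : R) (m' : M), m' ∈ M' → t • y = m' → a ∣ t := by
      intro t m' hm' hty
      obtain ⟨s, hs⟩ := (Submodule.mem_span_range_iff_exists_fun R).mp hm'
      let k : Fin (n+1) → R := t • c - Fin.insertNth i0 (0 : R) s
      have hk : k ∈ LinearMap.ker π := by
        rw [LinearMap.mem_ker, map_sub, map_smul, hπ (Fin.insertNth i0 (0:R) s),
          Fin.sum_univ_succAbove _ i0]
        simp only [Fin.insertNth_apply_same, Fin.insertNth_apply_succAbove, zero_smul, zero_add]
        rw [hs]; exact sub_eq_zero.mpr hty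
      have := hK k hk
      simpa [k, hci0] using this
    have hsup : Submodule.span R {y} ⊔ M' = ⊤ := by
      rw [eq_top_iff, ← hx, Submodule.span_le]
      rintro _ ⟨i, rfl⟩
      by_cases hi : i = i0
      · rw [hi]
        have hy : y = x i0 + ∑ j, c (i0.succAbove j) • x (i0.succAbove j) := by
          show π c = _
          rw [hπ, Fin.sum_univ_succAbove _ i0, hci0, one_smul]
        have : x i0 = y - ∑ j, c (i0.succAbove j) • x (i0.succAbove j) := by rw [hy]; abel
        rw [this]
        refine Submodule.sub_mem _ (Submodule.mem_sup_left (Submodule.mem_span_singleton_self y))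
          (Submodule.mem_sup_right ?_)
        exact Submodule.sum_mem _ (fun j _ => Submodule.smul_mem _ _ (Submodule.subset_span ⟨j, rfl⟩))
      · obtain ⟨j, rfl⟩ := Fin.exists_succAbove_eq hi
        exact Submodule.mem_sup_right (Submodule.subset_span ⟨j, rfl⟩)
    have hdisj : Disjoint (Submodule.span R {y}) M' := by
      rw [Submodule.disjoint_def]
      intro m hm1 hm2
      obtain ⟨t, rfl⟩ := Submodule.mem_span_singleton.mp hm1
      obtain ⟨t', rfl⟩ := hG t _ hm2 rfl
      rw [mul_comm, mul_smul, hay, smul_zero]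
    have hcompl : IsCompl (Submodule.span R {y}) M' := ⟨hdisj, codisjoint_iff.mpr hsup⟩
    have hker : LinearMap.ker (LinearMap.toSpanSingleton R M y) = Ideal.span {a} := by
      ext t
      rw [LinearMap.mem_ker, LinearMap.toSpanSingleton_apply, Ideal.mem_span_singleton]
      constructor
      · intro ht; exact hG t 0 (zero_mem _) ht
      · rintro ⟨t', rfl⟩; rw [mul_comm, mul_smul, hay, smul_zero]
    have hrange : LinearMap.range (LinearMap.toSpanSingleton R M y) = Submodule.span R {y} :=
      (LinearMap.span_singleton_eq_range R M y).symm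
    have e1 : (R ⧸ Ideal.span {a}) ≃ₗ[R] (Submodule.span R {y}) :=
      (Submodule.quotEquivOfEq _ _ hker.symm) ≪≫ₗ
        (LinearMap.toSpanSingleton R M y).quotKerEquivRange ≪≫ₗ LinearEquiv.ofEq _ _ hrange
    haveI : Module.FinitePresentation R M' := by
      refine Module.finitePresentation_of_surjective
        (Submodule.projectionOnto M' (Submodule.span R {y}) hcompl.symm)
        (Submodule.projectionOnto_surjective _) ?_
      rw [Submodule.ker_projectionOnto]
      exact Submodule.fg_span_singleton y
    let x' : Fin n → M' := fun j => ⟨x (i0.succAbove j), Submodule.subset_span ⟨j, rfl⟩⟩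
    have hx' : Submodule.span R (Set.range x') = ⊤ := by
      apply Submodule.map_injective_of_injective M'.injective_subtype
      rw [Submodule.map_span, Submodule.map_subtype_top, ← Set.range_comp]
      rfl
    obtain ⟨f', ⟨e'⟩⟩ := ih M' x' hx'
    let g : Fin (n+1) → R := Fin.cons a f'
    refine ⟨g, ⟨?_⟩⟩
    have e2 : M ≃ₗ[R] (Submodule.span R {y}) × M' :=
      (Submodule.prodEquivOfIsCompl _ _ hcompl).symm
    have e3 : ((Submodule.span R {y}) × M') ≃ₗ[R]
        (R ⧸ Ideal.span {g 0}) × ((j : Fin n) → R ⧸ Ideal.span {g j.succ}) :=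
      LinearEquiv.prodCongr (e1.symm ≪≫ₗ Submodule.quotEquivOfEq _ _ (by simp [g]))
        (e' ≪≫ₗ LinearEquiv.piCongrRight (fun j => Submodule.quotEquivOfEq _ _ (by simp [g])))
    exact e2 ≪≫ₗ e3 ≪≫ₗ Fin.consLinearEquiv R (fun i => R ⧸ Ideal.span {g i})


/-- Let R be a nonzero ring such that for all a, b in R either a divides b or b divides a. Then each
finitely presented R-module decomposes as a direct sum of finitely many cyclic modules R/fR. -/
theorem result (R : Type u) [CommRing R] [Nontrivial R] (h : ∀ a b : R, a ∣ b ∨ b ∣ a)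
    (M : Type u) [AddCommGroup M] [Module R M] [Module.FinitePresentation R M] :
    ∃ (n : ℕ) (f : Fin n → R), Nonempty (M ≃ₗ[R] ((i : Fin n) → R ⧸ Ideal.span {f i})) := by
  obtain ⟨n, x, hx⟩ := Module.Finite.exists_fin (R := R) (M := M)
  obtain ⟨f, hf⟩ := aux h n M x hx
  exact ⟨n, f, hf⟩

end Groth.Agent.S2015
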