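import Groth.Statements.S2017
import Mathlib

set_option autoImplicit false
set_option linter.style.haveILetI false
universe u
open EtAlg

namespace Groth.Agent.S2017

/-- Let R be a Noetherian ring, A, B, C R-algebras of finite type, f : A -> B a surjective R-algebra map
and g : C -> B an R-algebra map making B a finite C-module. Then the fibre product A ×_B C (the
equalizer of f ∘ pr₁ and g ∘ pr₂ in A × C) is an R-algebra of finite type. -/
theorem result (R A B C : Type u) [CommRing R] [IsNoetherianRing R] [CommRing A] [CommRing B]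
    [CommRing C] [Algebra R A] [Algebra R B] [Algebra R C] [Algebra.FiniteType R A] [Algebra.FiniteType R B]
    [Algebra.FiniteType R C] (f : A →ₐ[R] B) (hf : Function.Surjective f) (g : C →ₐ[R] B)
    (hg : (g.toRingHom).Finite) :
    Algebra.FiniteType R ↥(AlgHom.equalizer (f.comp (AlgHom.fst R A C)) (g.comp (AlgHom.snd R A C))) := by
  classical
  set D := AlgHom.equalizer (f.comp (AlgHom.fst R A C)) (g.comp (AlgHom.snd R A C)) with hD
  have memD : ∀ x : A × C, x ∈ D ↔ f x.1 = g x.2 := fun x => Iff.rfl
  letI : Algebra C B := g.toRingHom.toAlgebra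
  haveI : Module.Finite C B := hg
  have hsm : ∀ (c : C) (b : B), c • b = g c * b := fun c b => by
    rw [Algebra.smul_def]
    rfl
  obtain ⟨sB, hsB⟩ := (Module.finite_def (R := C) (M := B)).mp inferInstance
  choose l hl using hf
  let T : Submodule D (A × C) :=
    Submodule.span D (insert (1, 1) ((fun b => ((l b, 0) : A × C)) '' (sB : Set B)))
  have hTfg : T.FG := Submodule.fg_span (((Finset.finite_toSet sB).image _).insert _)
  have step : ∀ b : B, ∃ x ∈ T, x.2 = 0 ∧ f x.1 = b := by
    intro b
    have hb : b ∈ Submodule.span C (sB : Set B) := by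
      rw [hsB]
      exact Submodule.mem_top
    induction hb using Submodule.span_induction with
    | mem y hy =>
      exact ⟨(l y, 0), Submodule.subset_span (Set.mem_insert_of_mem _ ⟨y, hy, rfl⟩), rfl, hl y⟩
    | zero => exact ⟨0, T.zero_mem, rfl, map_zero f⟩
    | add y z _ _ hy hz =>
      obtain ⟨x, hx, hx2, rfl⟩ := hy
      obtain ⟨x', hx', hx2', rfl⟩ := hz
      exact ⟨x + x', T.add_mem hx hx', by rw [Prod.snd_add, hx2, hx2', add_zero],
        by rw [Prod.fst_add, map_add]⟩
    | smul c y _ hy =>
      obtain ⟨x, hx, hx2, rfl⟩ := hy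
      let d : D := ⟨(l (g c), c), (memD _).2 (hl (g c))⟩
      refine ⟨d • x, T.smul_mem d hx, ?_, ?_⟩
      · show c * x.2 = 0
        rw [hx2, mul_zero]
      · show f (l (g c) * x.1) = c • f x.1
        rw [map_mul, hl, hsm]
  have hT : T = ⊤ := by
    rw [eq_top_iff]
    rintro ⟨a, c⟩ -
    obtain ⟨x, hx, hx2, hx1⟩ := step (f a - g c)
    let d : D := ⟨(a - x.1, c), (memD _).2 (by
      show f (a - x.1) = g c
      rw [map_sub, hx1]
      ring)⟩
    have hac : ((a, c) : A × C) = x + d • ((1, 1) : A × C) := by
      refine Prod.ext ?_ ?_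
      · show a = x.1 + (a - x.1) * 1
        ring
      · show c = x.2 + c * 1
        rw [hx2]
        ring
    rw [hac]
    exact T.add_mem hx (T.smul_mem d (Submodule.subset_span (Set.mem_insert _ _)))
  have hfin : (⊤ : Submodule D (A × C)).FG := hT ▸ hTfg
  have hinj : Function.Injective (algebraMap D (A × C)) := Subtype.val_injective
  exact ⟨fg_of_fg_of_fg R D (A × C) Algebra.FiniteType.out hfin hinj⟩

end Groth.Agent.S2017
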