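import Groth.Statements.S2018
-- import your own Groth.Agent.* helpers here

set_option autoImplicit false
universe u
open EtAlg

namespace Groth.Agent.S2018

/-- Let g : A' -> A be a surjective ring map and f : B -> A an integral ring map. Then the projection
from the fibre product B ×_A A' (the equalizer of f ∘ pr₁ and g ∘ pr₂ in B × A') to A' is integral. -/
theorem result (A A' B : Type u) [CommRing A] [CommRing A'] [CommRing B] (g : A' →+* A)
    (hg : Function.Surjective g) (f : B →+* A) (hf : f.IsIntegral) :
    ((RingHom.snd B A').comp ((f.comp (RingHom.fst B A')).eqLocus (g.comp (RingHom.snd B A'))).subtype).IsIntegral := by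
  set S := (f.comp (RingHom.fst B A')).eqLocus (g.comp (RingHom.snd B A')) with hS
  set φ : S →+* A' := (RingHom.snd B A').comp S.subtype with hφ
  set ψ : S →+* B := (RingHom.fst B A').comp S.subtype with hψ
  have hψs : Function.Surjective ψ := by
    intro b
    obtain ⟨a'', ha''⟩ := hg (f b)
    exact ⟨⟨(b, a''), by simp [hS, RingHom.mem_eqLocus, ha'']⟩, rfl⟩
  have hcomp : f.comp ψ = g.comp φ := by
    ext ⟨x, hx⟩
    exact hx
  have hint : (g.comp φ).IsIntegral := by
    rw [← hcomp]
    exact (RingHom.isIntegral_of_surjective ψ hψs).trans _ _ hf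
  intro a'
  obtain ⟨Q, hQ, hQ0⟩ := hint (g a')
  rw [← Polynomial.hom_eval₂] at hQ0
  set c := Polynomial.eval₂ φ a' Q with hc
  have hmem : ((0 : B), a' * c) ∈ S := by
    simp [hS, RingHom.mem_eqLocus, hQ0]
  refine ⟨Polynomial.X * Q - Polynomial.C ⟨((0 : B), a' * c), hmem⟩, ?_, ?_⟩
  · rcases subsingleton_or_nontrivial S with h | h
    · exact Polynomial.monic_of_subsingleton _
    · refine (Polynomial.monic_X.mul hQ).sub_of_left ?_
      refine lt_of_le_of_lt Polynomial.degree_C_le ?_
      rw [Polynomial.degree_eq_natDegree (Polynomial.monic_X.mul hQ).ne_zero,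
        Polynomial.monic_X.natDegree_mul hQ, Polynomial.natDegree_X]
      exact_mod_cast (by omega : 0 < 1 + Q.natDegree)
  · rw [Polynomial.eval₂_sub, Polynomial.eval₂_mul, Polynomial.eval₂_X, Polynomial.eval₂_C, ← hc]
    simp [hφ]

end Groth.Agent.S2018
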