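import Groth.Statements.S2020
import Mathlib
import Groth.Agent.H97.Milnor
import Groth.Agent.S14952
import Groth.Agent.S6916

set_option autoImplicit false
set_option linter.style.haveILetI false
universe u
open TensorProduct
open EtAlg

namespace Groth.Agent.S2020

/-- Let B' → B, B' → A', B → A and A' → A be ring homomorphisms forming a commutative square that is a
fibre product, B' = B ×_A A', with A' → A surjective. (1) Given a flat B-module N, a flat A'-module
M' and an A-linear isomorphism φ : A ⊗_B N ≅ A ⊗_{A'} M', the glued module N ×_φ M' (pairs (n, m')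
with φ(1 ⊗ n) = 1 ⊗ m') is a flat B'-module. (2) For every flat B'-module L', the map L' → (B ⊗_{B'}
L') × (A' ⊗_{B'} L') is injective, and any pair (x, y) whose two images in A ⊗_{B'} L' agree comes
from an element of L'. -/
theorem result (B' B A' A : Type u) [CommRing B'] [CommRing B] [CommRing A'] [CommRing A]
    [Algebra B' B] [Algebra B' A'] [Algebra B A] [Algebra A' A] [Algebra B' A] [IsScalarTower B' B A] [IsScalarTower B' A' A]
    (hsq : EtMil.IsFibreSquare B' B A' A) :
    (∀ (N M' : Type u) [AddCommGroup N] [Module B N] [Module B' N] [IsScalarTower B' B N]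
    [AddCommGroup M'] [Module A' M'] [Module B' M'] [IsScalarTower B' A' M'] (φ : A ⊗[B] N ≃ₗ[A] A ⊗[A'] M'), Module.Flat B N → Module.Flat A' M' → Module.Flat B' ↥(EtMil.glue B' φ)) ∧
    (∀ (L' : Type u) [AddCommGroup L'] [Module B' L'], Module.Flat B' L' →
      Function.Injective (fun l : L' => (((1 : B) ⊗ₜ[B'] l : B ⊗[B'] L'), ((1 : A') ⊗ₜ[B'] l : A' ⊗[B'] L'))) ∧
      ∀ (x : B ⊗[B'] L') (y : A' ⊗[B'] L'),
        (IsScalarTower.toAlgHom B' B A).toLinearMap.rTensor L' x = (IsScalarTower.toAlgHom B' A' A).toLinearMap.rTensor L' y →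
          ∃ l : L', (1 : B) ⊗ₜ[B'] l = x ∧ (1 : A') ⊗ₜ[B'] l = y) := by
  refine ⟨?_, ?_⟩
  · intro N M' _ _ _ _ _ _ _ _ φ hN hM
    have hG := Groth.Agent.H97.Milnor.isGlue_glue (B' := B') φ
    haveI : Module.Flat B (B ⊗[B'] ↥(EtMil.glue B' φ)) :=
      Module.Flat.of_linearEquiv (hG.fstEquiv hsq)
    haveI : Module.Flat A' (A' ⊗[B'] ↥(EtMil.glue B' φ)) :=
      Module.Flat.of_linearEquiv (hG.sndEquiv hsq)
    exact Groth.Agent.S14952.result B' B A' A hsq _
  · intro L' _ _ hL
    refine ⟨?_, fun x y hxy => Groth.Agent.S6916.result B' B A' A hsq L' x y hxy⟩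
    intro l₁ l₂ hl
    have hl1 : (1 : B) ⊗ₜ[B'] l₁ = (1 : B) ⊗ₜ[B'] l₂ := congrArg Prod.fst hl
    have hl2 : (1 : A') ⊗ₜ[B'] l₁ = (1 : A') ⊗ₜ[B'] l₂ := congrArg Prod.snd hl
    have h1 : (1 : B) ⊗ₜ[B'] (l₁ - l₂) = 0 := by rw [TensorProduct.tmul_sub, hl1, sub_self]
    have h2 : (1 : A') ⊗ₜ[B'] (l₁ - l₂) = 0 := by rw [TensorProduct.tmul_sub, hl2, sub_self]
    suffices hs : l₁ - l₂ = 0 from sub_eq_zero.mp hs
    generalize l₁ - l₂ = l at h1 h2 ⊢
    let f : B' →ₗ[B'] B × A' := (Algebra.linearMap B' B).prod (Algebra.linearMap B' A')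
    have hf : Function.Injective f := by
      intro x y hxy
      exact Groth.Agent.H74.Milnor.ext' hsq (congrArg Prod.fst hxy) (congrArg Prod.snd hxy)
    have hinj : Function.Injective (f.rTensor L') :=
      Module.Flat.rTensor_preserves_injective_linearMap f hf
    have h3 : f.rTensor L' ((1 : B') ⊗ₜ[B'] l) = 0 := by
      have hsum : f.rTensor L' ((1 : B') ⊗ₜ[B'] l) =
          (LinearMap.inl B' B A').rTensor L' ((1 : B) ⊗ₜ[B'] l) +
            (LinearMap.inr B' B A').rTensor L' ((1 : A') ⊗ₜ[B'] l) := by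
        rw [LinearMap.rTensor_tmul, LinearMap.rTensor_tmul, LinearMap.rTensor_tmul,
          ← TensorProduct.add_tmul]
        congr 1
        refine Prod.ext ?_ ?_ <;> simp [f]
      rw [hsum, h1, h2, map_zero, map_zero, add_zero]
    have h4 : (1 : B') ⊗ₜ[B'] l = 0 := hinj (by rw [h3, map_zero])
    have h5 := congrArg (TensorProduct.lid B' L') h4
    rwa [TensorProduct.lid_tmul, one_smul, map_zero] at h5

end Groth.Agent.S2020
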