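import Groth.Statements.S2030
import Groth.Agent.H3.Jac5
-- import your own Groth.Agent.* helpers here

set_option autoImplicit false
universe u
open Smoothing

namespace Groth.Agent.S2030


open MvPolynomial

/-- Pure matrix lemma: a right inverse from a unimodular combination of maximal minors. -/
theorem exists_rightInv {S : Type*} [CommRing S] {c n : ℕ} (J : Matrix (Fin c) (Fin n) S)
    (μ : (Fin c → Fin n) → S) (h : ∑ cols, μ cols * (J.submatrix id cols).det = 1) :
    ∃ B : Matrix (Fin n) (Fin c) S, J * B = 1 := by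
  classical
  let E : (Fin c → Fin n) → Matrix (Fin n) (Fin c) S :=
    fun cols => Matrix.of fun r k => if cols k = r then 1 else 0
  have hE : ∀ cols, J * E cols = J.submatrix id cols := by
    intro cols
    ext i k
    simp [E, Matrix.mul_apply]
  refine ⟨∑ cols, μ cols • (E cols * (J.submatrix id cols).adjugate), ?_⟩
  rw [Matrix.mul_sum]
  have key : ∀ cols, J * (μ cols • (E cols * (J.submatrix id cols).adjugate)) =
      (μ cols * (J.submatrix id cols).det) • (1 : Matrix (Fin c) (Fin c) S) := by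
    intro cols
    rw [Matrix.mul_smul, ← Matrix.mul_assoc, hE, Matrix.mul_adjugate, smul_smul]
  rw [Finset.sum_congr rfl (fun cols _ => key cols), ← Finset.sum_smul, h, one_smul]

/-- Linear algebra: a split presentation gives a stably-free decomposition. -/
theorem equiv_of_split {S : Type*} [CommRing S] {M N F : Type*} [AddCommGroup M] [Module S M]
    [AddCommGroup N] [Module S N] [AddCommGroup F] [Module S F]
    (π : N →ₗ[S] M) (hπ : Function.Surjective π) (ρ : F →ₗ[S] N) (lam : N →ₗ[S] F)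
    (h1 : ∀ w, lam (ρ w) = w) (h2 : ∀ w, π (ρ w) = 0) (σ : M →ₗ[S] N)
    (h3 : ∀ v, σ (π v) = v - ρ (lam v)) : Nonempty ((M × F) ≃ₗ[S] N) := by
  have hinj : Function.Injective (π.prod lam) := by
    rw [← LinearMap.ker_eq_bot, LinearMap.ker_eq_bot']
    intro v hv
    have hv1 : π v = 0 := congrArg Prod.fst hv
    have hv2 : lam v = 0 := congrArg Prod.snd hv
    have := h3 v
    rw [hv1, hv2, map_zero, map_zero, sub_zero] at this
    exact this.symm
  have hsurj : Function.Surjective (π.prod lam) := by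
    rintro ⟨m, f⟩
    obtain ⟨v₀, rfl⟩ := hπ m
    refine ⟨v₀ - ρ (lam v₀) + ρ f, ?_⟩
    apply Prod.ext
    · show π (v₀ - ρ (lam v₀) + ρ f) = π v₀
      rw [map_add, map_sub, h2, h2, sub_zero, add_zero]
    · show lam (v₀ - ρ (lam v₀) + ρ f) = f
      rw [map_add, map_sub, h1, h1, sub_self, zero_add]
  exact ⟨(LinearEquiv.ofBijective (π.prod lam) ⟨hinj, hsurj⟩).symm⟩

section main

variable {R A : Type u} [CommRing R] [CommRing A] [Algebra R A]
variable {S : Type u} [CommRing S] [Algebra R S] [Algebra A S] [IsScalarTower R A S]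
variable (P : MarkedPresentation R A)

/-- the composite `R[X₁..Xₙ] → A → S`. -/
noncomputable def phi : MvPolynomial (Fin P.n) R →ₐ[R] S :=
  (IsScalarTower.toAlgHom R A S).comp P.hom

/-- the gradient of a polynomial, with values in `S`. -/
noncomputable def grad (g : MvPolynomial (Fin P.n) R) : Fin P.n → S :=
  fun l => phi (S := S) P (pderiv l g)

local notation "φ" => phi (S := S) P
local notation "∇" => grad (S := S) P

theorem grad_add (g h : MvPolynomial (Fin P.n) R) : ∇ (g + h) = ∇ g + ∇ h := by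
  funext l
  show φ (pderiv l (g + h)) = φ (pderiv l g) + φ (pderiv l h)
  rw [map_add, map_add]

theorem grad_zero : ∇ (0 : MvPolynomial (Fin P.n) R) = 0 := by
  funext l
  show φ (pderiv l 0) = 0
  rw [map_zero, map_zero]

theorem grad_mul (g h : MvPolynomial (Fin P.n) R) : ∇ (g * h) = φ g • ∇ h + φ h • ∇ g := by
  funext l
  show φ (pderiv l (g * h)) = φ g * φ (pderiv l h) + φ h * φ (pderiv l g)
  rw [Derivation.leibniz, smul_eq_mul, smul_eq_mul, map_add, map_mul, map_mul]

theorem grad_C (r : R) : ∇ (C r) = 0 := by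
  funext l
  show φ (pderiv l (C r)) = 0
  rw [pderiv_C, map_zero]

theorem grad_X (k : Fin P.n) : ∇ (X k) = Pi.single k 1 := by
  funext l
  show φ (pderiv l (X k)) = _
  rw [pderiv_X]
  by_cases h : l = k
  · subst h
    rw [Pi.single_eq_same, Pi.single_eq_same, map_one]
  · rw [Pi.single_eq_of_ne (Ne.symm h), Pi.single_eq_of_ne h, map_zero]

theorem stablyFree (a : A) [IsLocalization.Away a S]
    (hspan : a ∈ Ideal.span (Set.range fun cols : Fin P.c → Fin P.n =>
        P.hom (jacobianMinor P.rel (Fin.castLE P.hcm) cols)))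
    (hkill : KillsTail P a) :
    Nonempty ((Ω[S⁄R] × (Fin P.c → S)) ≃ₗ[S] (Fin P.n → S)) := by
  classical
  have hα : IsUnit (algebraMap A S a) := IsLocalization.Away.algebraMap_isUnit a
  have hφ : ∀ g, φ g = algebraMap A S (P.hom g) := fun g => rfl
  -- the Jacobian matrix of the leading relations
  let J : Matrix (Fin P.c) (Fin P.n) S :=
    Matrix.of fun i k => ∇ (P.rel (Fin.castLE P.hcm i)) k
  -- Step A : a right inverse
  obtain ⟨B, hJB⟩ : ∃ B : Matrix (Fin P.n) (Fin P.c) S, J * B = 1 := by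
    obtain ⟨μ, hμ⟩ := (Ideal.mem_span_range_iff_exists_fun).1 hspan
    have hdet : ∀ cols : Fin P.c → Fin P.n, (J.submatrix id cols).det =
        algebraMap A S (P.hom (jacobianMinor P.rel (Fin.castLE P.hcm) cols)) := by
      intro cols
      show (J.submatrix id cols).det = φ (Matrix.det (Matrix.of fun j k : Fin P.c =>
        pderiv (cols k) (P.rel (Fin.castLE P.hcm j))))
      rw [AlgHom.map_det]
      rfl
    have key : ∑ cols, algebraMap A S (μ cols) *
        algebraMap A S (P.hom (jacobianMinor P.rel (Fin.castLE P.hcm) cols)) =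
          algebraMap A S a := by
      rw [← hμ, map_sum]
      exact Finset.sum_congr rfl fun _ _ => (map_mul _ _ _).symm
    refine exists_rightInv J
      (fun cols => (IsLocalization.Away.invSelf a : S) * algebraMap A S (μ cols)) ?_
    show ∑ cols, ((IsLocalization.Away.invSelf a : S) * algebraMap A S (μ cols)) *
      (J.submatrix id cols).det = 1
    have h2 : ∀ cols, ((IsLocalization.Away.invSelf a : S) * algebraMap A S (μ cols)) *
        (J.submatrix id cols).det = (IsLocalization.Away.invSelf a : S) *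
          (algebraMap A S (μ cols) *
            algebraMap A S (P.hom (jacobianMinor P.rel (Fin.castLE P.hcm) cols))) :=
      fun cols => by rw [hdet, mul_assoc]
    rw [Finset.sum_congr rfl (fun cols _ => h2 cols), ← Finset.mul_sum, key, mul_comm]
    exact IsLocalization.Away.mul_invSelf a
  -- the linear maps
  let ρ : (Fin P.c → S) →ₗ[S] (Fin P.n → S) := Matrix.vecMulLinear J
  let lam : (Fin P.n → S) →ₗ[S] (Fin P.c → S) := Matrix.vecMulLinear B
  have hρ : ∀ w, ρ w = Matrix.vecMul w J := fun w => rfl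
  have hlam : ∀ v, lam v = Matrix.vecMul v B := fun v => rfl
  have h1 : ∀ w, lam (ρ w) = w := fun w => by
    rw [hρ, hlam, Matrix.vecMul_vecMul, hJB, Matrix.vecMul_one]
  have hρrow : ∀ i : Fin P.c, ρ (Pi.single i 1) = ∇ (P.rel (Fin.castLE P.hcm i)) := fun i => by
    rw [hρ, Matrix.single_one_vecMul]
    rfl
  let pr : (Fin P.n → S) →ₗ[S] (Fin P.n → S) := LinearMap.id - ρ ∘ₗ lam
  have hpr : ∀ v, pr v = v - ρ (lam v) := fun v => rfl
  have hprρ : ∀ w, pr (ρ w) = 0 := fun w => by rw [hpr, h1, sub_self]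
  -- the ideal of good polynomials
  let G : Ideal (MvPolynomial (Fin P.n) R) :=
    { carrier := {y | φ y = 0 ∧ pr (∇ y) = 0}
      add_mem' := by
        rintro y z ⟨hy1, hy2⟩ ⟨hz1, hz2⟩
        exact ⟨by rw [map_add, hy1, hz1, add_zero],
          by rw [grad_add, map_add, hy2, hz2, add_zero]⟩
      zero_mem' := ⟨map_zero _, by rw [grad_zero, map_zero]⟩
      smul_mem' := by
        rintro g y ⟨hy1, hy2⟩
        refine ⟨by rw [smul_eq_mul, map_mul, hy1, mul_zero], ?_⟩
        rw [smul_eq_mul, grad_mul, hy1, zero_smul, add_zero, map_smul, hy2, smul_zero] }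
  have hG : ∀ y, y ∈ G ↔ (φ y = 0 ∧ pr (∇ y) = 0) := fun y => Iff.rfl
  have hkerφ : ∀ y, y ∈ Ideal.span (Set.range P.rel) → φ y = 0 := by
    intro y hy
    rw [← P.ker_eq, RingHom.mem_ker] at hy
    have hy' : P.hom y = 0 := hy
    rw [hφ, hy', map_zero]
  have hrel : ∀ j, φ (P.rel j) = 0 := fun j => hkerφ _ (Ideal.subset_span ⟨j, rfl⟩)
  have hlead : ∀ i : Fin P.c, P.rel (Fin.castLE P.hcm i) ∈ G := fun i =>
    (hG _).2 ⟨hrel _, by rw [← hρrow, hprρ]⟩
  have hsq : Ideal.span (Set.range P.rel) ^ 2 ≤ G := by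
    rw [pow_two, Ideal.mul_le]
    intro y hy z hz
    refine (hG _).2 ⟨by rw [map_mul, hkerφ y hy, zero_mul], ?_⟩
    rw [grad_mul, hkerφ y hy, hkerφ z hz, zero_smul, zero_smul, add_zero, map_zero]
  obtain ⟨a', ha'⟩ := P.surj a
  have hφa' : φ a' = algebraMap A S a := by rw [hφ, ha']
  have hlead' : ∀ j : Fin P.m, (j : ℕ) < P.c → P.rel j ∈ G := by
    intro j hj
    have e : Fin.castLE P.hcm ⟨j, hj⟩ = j := Fin.ext rfl
    have := hlead ⟨j, hj⟩
    rwa [e] at this
  have htail : ∀ j : Fin P.m, P.rel j ∈ G := by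
    intro j
    by_cases hj : (j : ℕ) < P.c
    · exact hlead' j hj
    · have hmem := hkill a' ha' j (not_lt.mp hj)
      have hle : Ideal.span (P.rel '' {j' : Fin P.m | (j' : ℕ) < P.c}) ⊔
          Ideal.span (Set.range P.rel) ^ 2 ≤ G := by
        refine sup_le (Ideal.span_le.2 ?_) hsq
        rintro _ ⟨j', hj', rfl⟩
        exact hlead' j' hj'
      obtain ⟨-, h2'⟩ := (hG _).1 (hle hmem)
      refine (hG _).2 ⟨hrel j, ?_⟩
      rw [grad_mul, hrel j, zero_smul, add_zero, map_smul, hφa'] at h2'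
      exact (hα.smul_eq_zero).1 h2'
  have hkerG : ∀ y, P.hom y = 0 → y ∈ G := by
    intro y hy
    have hy' : y ∈ Ideal.span (Set.range P.rel) := by
      rw [← P.ker_eq]
      exact (RingHom.mem_ker).2 hy
    exact (Ideal.span_le.2 (by rintro _ ⟨j, rfl⟩; exact htail j)) hy'
  -- Step B : the map to the trivial square-zero extension
  let Ψ₀ : MvPolynomial (Fin P.n) R →ₐ[R] TrivSqZeroExt S (Fin P.n → S) :=
    MvPolynomial.aeval (fun k => TrivSqZeroExt.inl (φ (X k)) +
      TrivSqZeroExt.inr (pr (Pi.single k 1)))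
  have hΨ₀X : ∀ k, Ψ₀ (X k) = TrivSqZeroExt.inl (φ (X k)) +
      TrivSqZeroExt.inr (pr (Pi.single k 1)) := fun k => MvPolynomial.aeval_X _ k
  have hΨ₀fst : ∀ g, (Ψ₀ g).fst = φ g := by
    have : (TrivSqZeroExt.fstHom R S (Fin P.n → S)).comp Ψ₀ = φ := by
      apply MvPolynomial.algHom_ext
      intro k
      show (Ψ₀ (X k)).fst = φ (X k)
      rw [hΨ₀X, TrivSqZeroExt.fst_add, TrivSqZeroExt.fst_inl, TrivSqZeroExt.fst_inr, add_zero]
    intro g
    exact DFunLike.congr_fun this g
  have hΨ₀snd : ∀ g, (Ψ₀ g).snd = pr (∇ g) := by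
    intro g
    induction g using MvPolynomial.induction_on with
    | C r =>
      rw [grad_C, map_zero]
      have : Ψ₀ (C r) = algebraMap R _ r := MvPolynomial.aeval_C _ r
      rw [this, TrivSqZeroExt.algebraMap_eq_inl', TrivSqZeroExt.snd_inl]
    | add g h hg hh => rw [map_add, TrivSqZeroExt.snd_add, hg, hh, grad_add, map_add]
    | mul_X g k hg =>
      rw [map_mul, TrivSqZeroExt.snd_mul, hΨ₀fst, hΨ₀fst, hg, hΨ₀X, TrivSqZeroExt.snd_add,
        TrivSqZeroExt.snd_inl, TrivSqZeroExt.snd_inr, zero_add, op_smul_eq_smul, grad_mul,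
        grad_X, map_add, map_smul, map_smul]
  have hkerΨ₀ : RingHom.ker P.hom.toRingHom ≤ RingHom.ker Ψ₀.toRingHom := by
    intro y hy
    have hyG := (hG y).1 (hkerG y ((RingHom.mem_ker).1 hy))
    rw [RingHom.mem_ker]
    apply TrivSqZeroExt.ext
    · exact (hΨ₀fst y).trans hyG.1
    · exact (hΨ₀snd y).trans hyG.2
  let Ψ₁ : A →+* TrivSqZeroExt S (Fin P.n → S) :=
    RingHom.liftOfSurjective P.hom.toRingHom P.surj ⟨Ψ₀.toRingHom, hkerΨ₀⟩
  have hΨ₁ : ∀ g, Ψ₁ (P.hom g) = Ψ₀ g := fun g =>
    RingHom.liftOfSurjective_comp_apply P.hom.toRingHom P.surj ⟨Ψ₀.toRingHom, hkerΨ₀⟩ g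
  have hΨ₁a : IsUnit (Ψ₁ a) := by
    rw [TrivSqZeroExt.isUnit_iff_isUnit_fst, ← ha', hΨ₁, hΨ₀fst, hφ, ha']
    exact hα
  let Ψ : S →+* TrivSqZeroExt S (Fin P.n → S) := IsLocalization.Away.lift a hΨ₁a
  have hΨ : ∀ y : A, Ψ (algebraMap A S y) = Ψ₁ y := fun y =>
    IsLocalization.Away.lift_eq a hΨ₁a y
  have hΨφ : ∀ g, Ψ (φ g) = Ψ₀ g := fun g => by rw [hφ, hΨ, hΨ₁]
  have hfst : ∀ s, (Ψ s).fst = s := by
    have : ((TrivSqZeroExt.fstHom S S (Fin P.n → S)).toRingHom.comp Ψ) = RingHom.id S := by
      apply IsLocalization.ringHom_ext (Submonoid.powers a)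
      ext y
      obtain ⟨g, rfl⟩ := P.surj y
      show (Ψ (algebraMap A S (P.hom g))).fst = algebraMap A S (P.hom g)
      rw [← hφ, hΨφ, hΨ₀fst]
    intro s
    exact RingHom.congr_fun this s
  have hΨalg : ∀ r : R, (Ψ (algebraMap R S r)).snd = 0 := fun r => by
    rw [IsScalarTower.algebraMap_apply R A S, ← P.hom.commutes r, ← hφ, hΨφ, hΨ₀snd,
      MvPolynomial.algebraMap_eq, grad_C, map_zero]
  let Dv : Derivation R S (Fin P.n → S) :=
    { toFun := fun s => (Ψ s).snd
      map_add' := fun s s' => by rw [map_add, TrivSqZeroExt.snd_add]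
      map_smul' := fun l s => by
        show (Ψ (l • s)).snd = l • (Ψ s).snd
        rw [Algebra.smul_def, map_mul, TrivSqZeroExt.snd_mul, hfst, hΨalg, smul_zero, add_zero,
          algebraMap_smul]
      map_one_eq_zero' := by
        show (Ψ 1).snd = 0
        rw [map_one, TrivSqZeroExt.snd_one]
      leibniz' := fun s s' => by
        show (Ψ (s * s')).snd = s • (Ψ s').snd + s' • (Ψ s).snd
        rw [map_mul, TrivSqZeroExt.snd_mul, hfst, hfst, op_smul_eq_smul] }
  let σ : Ω[S⁄R] →ₗ[S] (Fin P.n → S) := Dv.liftKaehlerDifferential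
  have hσ : ∀ s, σ (KaehlerDifferential.D R S s) = (Ψ s).snd := fun s =>
    Derivation.liftKaehlerDifferential_comp_D Dv s
  have hσφ : ∀ g, σ (KaehlerDifferential.D R S (φ g)) = pr (∇ g) := fun g => by
    rw [hσ, hΨφ, hΨ₀snd]
  -- Step C : the presentation map
  let π : (Fin P.n → S) →ₗ[S] Ω[S⁄R] :=
    Fintype.linearCombination S (fun k => KaehlerDifferential.D R S (φ (X k)))
  have hπsingle : ∀ k s, π (Pi.single k s) = s • KaehlerDifferential.D R S (φ (X k)) :=
    fun k s => Fintype.linearCombination_apply_single S _ k s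
  have hsingle : ∀ (m : ℕ) (k : Fin m) (s : S),
      (Pi.single k s : Fin m → S) = s • Pi.single k 1 := fun m k s => by
    rw [← Pi.single_smul, smul_eq_mul, mul_one]
  have hchain : ∀ g, KaehlerDifferential.D R S (φ g) = π (∇ g) := by
    intro g
    induction g using MvPolynomial.induction_on with
    | C r =>
      rw [grad_C, map_zero, ← MvPolynomial.algebraMap_eq, AlgHom.commutes,
        Derivation.map_algebraMap]
    | add g h hg hh => rw [map_add, map_add, hg, hh, grad_add, map_add]
    | mul_X g k hg =>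
      rw [map_mul, Derivation.leibniz, hg, grad_mul, grad_X, map_add, map_smul, map_smul,
        hπsingle, one_smul]
  have h2 : ∀ w, π (ρ w) = 0 := by
    have : π ∘ₗ ρ = 0 := by
      apply LinearMap.pi_ext
      intro i s
      show π (ρ (Pi.single i s)) = 0
      rw [hsingle, map_smul, map_smul, hρrow, ← hchain, hrel, map_zero, smul_zero]
    intro w
    exact LinearMap.congr_fun this w
  have h3 : ∀ v, σ (π v) = v - ρ (lam v) := by
    have : σ ∘ₗ π = pr := by
      apply LinearMap.pi_ext
      intro k s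
      show σ (π (Pi.single k s)) = pr (Pi.single k s)
      rw [hπsingle, map_smul, hσφ, grad_X, hsingle P.n k s, map_smul]
    intro v
    exact LinearMap.congr_fun this v
  have hπsurj : Function.Surjective π := by
    rw [← LinearMap.range_eq_top, eq_top_iff,
      ← KaehlerDifferential.span_range_map_derivation_of_isLocalization R A S
        (Submonoid.powers a), Submodule.span_le]
    rintro _ ⟨y, rfl⟩
    obtain ⟨g, rfl⟩ := P.surj y
    refine ⟨∇ g, ?_⟩
    rw [← hchain, hφ, Function.comp_apply, KaehlerDifferential.map_D]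
  exact equiv_of_split π hπsurj ρ lam h1 h2 σ h3

end main



/-- If `a` is strictly standard in the finitely presented `R`-algebra `A`, then the localization `A_a`
is smooth over `R` and its module of Kaehler differentials over `R` is stably free (free after
adding a finite free module). -/
theorem result {R A : Type u} [CommRing R] [CommRing A]
    [Algebra R A] (a : A) (ha : Smoothing.IsStrictlyStandard R A a) :
    Algebra.Smooth R (Localization.Away a) ∧
      ∃ p q : ℕ, Nonempty ((Ω[Localization.Away a⁄R] × (Fin p → Localization.Away a)) ≃ₗ[Localization.Away a]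
        (Fin q → Localization.Away a)) := by
  have ha' := ha
  obtain ⟨P, hspan, hkill⟩ := ha'
  haveI : Algebra.FinitePresentation R A :=
    ⟨P.n, P.hom, P.surj, by
      rw [P.ker_eq]
      exact Submodule.fg_span (Set.finite_range _)⟩
  refine ⟨?_, P.c, P.n, stablyFree P a hspan hkill⟩
  exact (Algebra.basicOpen_subset_smoothLocus_iff_smooth).mp
    (fun p hp => Groth.Agent.H3.Jac.smoothAt_of_strictly a ha p hp)

end Groth.Agent.S2030
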