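import Groth.Statements.S2040
import Groth.Agent.H87.LiftMain
import Groth.Agent.H87.FibreEquiv
import Groth.Agent.Lead.GeomReg

set_option autoImplicit false
set_option maxHeartbeats 400000
universe u
open CAlg

namespace Groth.Agent.S2040

/-- For a complete Noetherian local ring `A` with residue field `k`, and a complete Noetherian local
`k`-algebra `B` which is formally smooth over `k` for the adic topology of its maximal ideal, there
is a Noetherian complete local ring `C` with a local homomorphism `A → C`, formally smooth for the
adic topology of the maximal ideal of `C`, whose special fibre `C ⊗ k` is isomorphic to `B` over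
`k`. -/
theorem result {A B : Type u} [CommRing A] [IsLocalRing A]
    [IsNoetherianRing A] [IsAdicComplete (IsLocalRing.maximalIdeal A) A] [CommRing B] [IsLocalRing B]
    [IsNoetherianRing B] [IsAdicComplete (IsLocalRing.maximalIdeal B) B]
    [Algebra (IsLocalRing.maximalIdeal A).ResidueField B]
    (hB : CAlgX.IsAdicFormallySmooth (IsLocalRing.maximalIdeal A).ResidueField B (IsLocalRing.maximalIdeal B)) :
    ∃ (C : Type u) (_ : CommRing C) (_ : IsLocalRing C) (_ : Algebra A C),
      IsNoetherianRing C ∧ IsAdicComplete (IsLocalRing.maximalIdeal C) C ∧ IsLocalHom (algebraMap A C) ∧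
        CAlgX.IsAdicFormallySmooth A C (IsLocalRing.maximalIdeal C) ∧
        Nonempty ((IsLocalRing.maximalIdeal A).Fiber C ≃ₐ[(IsLocalRing.maximalIdeal A).ResidueField] B) := by
  classical
  have hκ : Function.Surjective (algebraMap A (IsLocalRing.maximalIdeal A).ResidueField) :=
    Ideal.algebraMap_residueField_surjective _
  letI : Algebra A B :=
    ((algebraMap (IsLocalRing.maximalIdeal A).ResidueField B).comp
      (algebraMap A (IsLocalRing.maximalIdeal A).ResidueField)).toAlgebra
  haveI : IsScalarTower A (IsLocalRing.maximalIdeal A).ResidueField B :=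
    IsScalarTower.of_algebraMap_eq (fun _ => rfl)
  haveI : IsRegularLocalRing B := Groth.Agent.Lead.GeomReg.regular_of_fs hB
  obtain ⟨T, _, _, _, hN, hC, hL, -, ⟨ψ, hψ, hker⟩, hfs⟩ :=
    Groth.Agent.H87.LiftMain.exists_lift (A := A) (κ := (IsLocalRing.maximalIdeal A).ResidueField)
      B hκ
  refine ⟨T, inferInstance, inferInstance, inferInstance, hN, hC, hL, hfs hB, ?_⟩
  exact Groth.Agent.H87.FibreEquiv.tensor_equiv hκ
    (fun a ha => Groth.Agent.H87.LiftMain.algebraMap_eq_zero_of_mem hκ ha) ψ hψ hker

end Groth.Agent.S2040
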