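import Groth.Statements.S2041
import Groth.Agent.H14.EtaleNbhd

set_option autoImplicit false
universe u
open CAlg

namespace Groth.Agent.S2041

open TensorProduct Polynomial in
theorem aux_mem {A A' B : Type u} [CommRing A] [CommRing A'] [CommRing B] [Algebra A A']
    [Algebra A B] (I : Ideal A) (β : A' ⊗[A] B) (Q : A'[X])
    (hQ : Q.map (Ideal.Quotient.mk (I.map (algebraMap A A'))) = 0) :
    aeval β Q ∈ I.map (algebraMap A (A' ⊗[A] B)) := by
  rw [Polynomial.aeval_eq_sum_range]
  refine Ideal.sum_mem _ fun i _ => ?_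
  have hc : Q.coeff i ∈ I.map (algebraMap A A') := by
    have := congrArg (fun p => Polynomial.coeff p i) hQ
    simp only [Polynomial.coeff_map, Polynomial.coeff_zero] at this
    exact Ideal.Quotient.eq_zero_iff_mem.mp this
  rw [Algebra.smul_def]
  refine Ideal.mul_mem_right _ _ ?_
  have h2 := Ideal.mem_map_of_mem (algebraMap A' (A' ⊗[A] B)) hc
  rwa [Ideal.map_map, ← IsScalarTower.algebraMap_eq] at h2

open TensorProduct Polynomial in
theorem main {A B : Type u} [CommRing A] [CommRing B] [Algebra A B]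
    [Algebra.IsIntegral A B] (I : Ideal A) (e : B ⧸ I.map (algebraMap A B)) (he : IsIdempotentElem e) :
    ∃ (A' : Type u) (_ : CommRing A') (_ : Algebra A A'), Algebra.Etale A A' ∧
      Function.Bijective (algebraMap (A ⧸ I) (A' ⧸ I.map (algebraMap A A'))) ∧
      ∃ e' : A' ⊗[A] B, IsIdempotentElem e' ∧
        ∀ b : B, Ideal.Quotient.mk (I.map (algebraMap A B)) b = e →
          e' - 1 ⊗ₜ b ∈ I.map (algebraMap A (A' ⊗[A] B)) := by
  obtain ⟨b₀, hb₀⟩ := Ideal.Quotient.mk_surjective e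
  have hz : b₀ * (b₀ - 1) ∈ I.map (algebraMap A B) := by
    rw [← Ideal.Quotient.eq_zero_iff_mem, map_mul, map_sub, map_one, hb₀, mul_sub, mul_one, he.eq,
      sub_self]
  obtain ⟨P, hP, hPz, hPc⟩ := Polynomial.exists_monic_aeval_eq_zero_forall_mem_of_mem_map hz
  obtain ⟨d, hd⟩ : ∃ d, d = P.natDegree := ⟨_, rfl⟩
  have hPmap : P.map (Ideal.Quotient.mk I) = X ^ d := by
    ext i
    rw [Polynomial.coeff_map, Polynomial.coeff_X_pow]
    split_ifs with hi
    · rw [hi, hd, hP.coeff_natDegree, map_one]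
    · exact Ideal.Quotient.eq_zero_iff_mem.mpr (hPc i (by rw [← hd]; exact hi))
  obtain ⟨q, hqdef⟩ : ∃ q : A[X], q = X * (X - C 1) := ⟨_, rfl⟩
  have hq : q.Monic := by rw [hqdef]; exact monic_X.mul (monic_X_sub_C 1)
  obtain ⟨F, hFdef⟩ : ∃ F : A[X], F = (X * P).comp q := ⟨_, rfl⟩
  have hFm : F.Monic := by
    rcases subsingleton_or_nontrivial A with hA | hA
    · exact Subsingleton.elim _ _
    · rw [hFdef]
      refine (monic_X.mul hP).comp hq ?_
      rw [hqdef, monic_X.natDegree_mul (monic_X_sub_C 1), natDegree_X, natDegree_X_sub_C]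
      norm_num
  have hFb : aeval b₀ F = 0 := by
    rw [hFdef, Polynomial.aeval_comp, map_mul, aeval_X]
    have : aeval b₀ q = b₀ * (b₀ - 1) := by simp [hqdef]
    rw [this, hPz, mul_zero]
  have hFmap : F.map (Ideal.Quotient.mk I) = X ^ (d + 1) * (X - C 1) ^ (d + 1) := by
    rw [hFdef, Polynomial.map_comp, Polynomial.map_mul, Polynomial.map_X, hPmap, ← pow_succ',
      X_pow_comp, ← mul_pow]
    simp [hqdef]
  have hcop : IsCoprime ((X : (A ⧸ I)[X]) ^ (d + 1)) ((X - C 1) ^ (d + 1)) :=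
    IsCoprime.pow ⟨1, -1, by simp⟩
  obtain ⟨A', i1, i2, hE, -, hbij, g', h', hg', hh', ⟨s, t, hst⟩, hfact, hgm, hhm⟩ :=
    Groth.Agent.H14.exists_etale_lift_monic_factorization I F hFm _ _ (monic_X_pow _)
      ((monic_X_sub_C 1).pow _) hcop hFmap 1 (by rw [map_one]; exact isUnit_one)
  refine ⟨A', i1, i2, hE, hbij, ?_⟩
  obtain ⟨β, hβdef⟩ : ∃ β : A' ⊗[A] B, β = 1 ⊗ₜ b₀ := ⟨_, rfl⟩
  have hincl : ∀ y ∈ I.map (algebraMap A B),
      (1 : A') ⊗ₜ[A] y ∈ I.map (algebraMap A (A' ⊗[A] B)) := by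
    intro y hy
    have h2 := Ideal.mem_map_of_mem
      (Algebra.TensorProduct.includeRight : B →ₐ[A] A' ⊗[A] B).toRingHom hy
    rw [Ideal.map_map] at h2
    have h3 : ((Algebra.TensorProduct.includeRight : B →ₐ[A] A' ⊗[A] B).toRingHom.comp
        (algebraMap A B)) = algebraMap A (A' ⊗[A] B) :=
      (Algebra.TensorProduct.includeRight : B →ₐ[A] A' ⊗[A] B).comp_algebraMap
    rw [h3] at h2
    exact h2
  have hβ : β * β - β ∈ I.map (algebraMap A (A' ⊗[A] B)) := by
    have : (1 : A') ⊗ₜ[A] (b₀ * (b₀ - 1)) = β * β - β := by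
      rw [mul_sub, mul_one, TensorProduct.tmul_sub, hβdef]
      simp only [Algebra.TensorProduct.tmul_mul_tmul, mul_one]
    rw [← this]; exact hincl _ hz
  obtain ⟨e', he'⟩ : ∃ e' : A' ⊗[A] B, e' = aeval β (s * g') := ⟨_, rfl⟩
  have h1e : aeval β (t * h') = 1 - e' := by
    have := congrArg (aeval β) hst
    rw [map_add, map_one] at this
    rw [he']
    linear_combination this
  have hFβ : aeval β (g' * h') = 0 := by
    rw [← hfact, Polynomial.aeval_map_algebraMap]
    have : aeval β F = (Algebra.TensorProduct.includeRight : B →ₐ[A] A' ⊗[A] B) (aeval b₀ F) := by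
      rw [hβdef]
      exact Polynomial.aeval_algHom_apply
        (Algebra.TensorProduct.includeRight : B →ₐ[A] A' ⊗[A] B) b₀ F
    rw [this, hFb, map_zero]
  have hidem : IsIdempotentElem e' := by
    have h0 : e' * (1 - e') = 0 := by
      rw [← h1e, he', ← map_mul]
      have : s * g' * (t * h') = (s * t) * (g' * h') := by ring
      rw [this, map_mul, hFβ, mul_zero]
    show e' * e' = e'
    linear_combination (-1 : A' ⊗[A] B) * h0
  have hgβ : aeval β g' - β ^ (d + 1) ∈ I.map (algebraMap A (A' ⊗[A] B)) := by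
    have := aux_mem I β (g' - X ^ (d + 1)) (by rw [Polynomial.map_sub, hgm]; simp)
    rwa [map_sub, map_pow, aeval_X] at this
  have hhβ : aeval β h' - (β - 1) ^ (d + 1) ∈ I.map (algebraMap A (A' ⊗[A] B)) := by
    have := aux_mem I β (h' - (X - C 1) ^ (d + 1)) (by rw [Polynomial.map_sub, hhm]; simp)
    rwa [map_sub, map_pow, map_sub, aeval_X, aeval_C, map_one] at this
  have hmain : e' - β ∈ I.map (algebraMap A (A' ⊗[A] B)) := by
    refine Ideal.Quotient.eq.mp ?_
    have H2 : Ideal.Quotient.mk (I.map (algebraMap A (A' ⊗[A] B))) β *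
        Ideal.Quotient.mk (I.map (algebraMap A (A' ⊗[A] B))) β =
        Ideal.Quotient.mk (I.map (algebraMap A (A' ⊗[A] B))) β := by
      rw [← map_mul]; exact Ideal.Quotient.eq.mpr hβ
    have Hg : Ideal.Quotient.mk (I.map (algebraMap A (A' ⊗[A] B))) (aeval β g') =
        (Ideal.Quotient.mk (I.map (algebraMap A (A' ⊗[A] B))) β) ^ (d + 1) := by
      rw [← map_pow]; exact Ideal.Quotient.eq.mpr hgβ
    have Hh : Ideal.Quotient.mk (I.map (algebraMap A (A' ⊗[A] B))) (aeval β h') =
        (Ideal.Quotient.mk (I.map (algebraMap A (A' ⊗[A] B))) β - 1) ^ (d + 1) := by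
      have := Ideal.Quotient.eq.mpr hhβ
      rw [this, map_pow, map_sub, map_one]
    have H1 := congrArg (fun p => Ideal.Quotient.mk (I.map (algebraMap A (A' ⊗[A] B)))
      (aeval β p)) hst
    simp only [map_add, map_mul, map_one] at H1
    rw [Hg, Hh] at H1
    rw [he', map_mul, map_mul, Hg]
    generalize Ideal.Quotient.mk (I.map (algebraMap A (A' ⊗[A] B))) β = x at *
    generalize Ideal.Quotient.mk (I.map (algebraMap A (A' ⊗[A] B))) (aeval β s) = S at *
    generalize Ideal.Quotient.mk (I.map (algebraMap A (A' ⊗[A] B))) (aeval β t) = T at *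
    have hx : x ^ (d + 1) = x := IsIdempotentElem.pow_succ_eq d H2
    have hxz : (x - 1) * x = 0 := by rw [sub_mul, one_mul, H2, sub_self]
    have hz' : (x - 1) ^ (d + 1) * x = 0 := by rw [pow_succ, mul_assoc, hxz, mul_zero]
    rw [hx] at H1 ⊢
    generalize (x - 1) ^ (d + 1) = y at *
    linear_combination x * H1 - T * hz' - S * H2
  refine ⟨e', hidem, fun b hb => ?_⟩
  have hbb : b - b₀ ∈ I.map (algebraMap A B) := by rw [← Ideal.Quotient.eq, hb, hb₀]
  have h5 := hincl _ hbb
  have : e' - 1 ⊗ₜ b = (e' - β) - 1 ⊗ₜ (b - b₀) := by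
    rw [TensorProduct.tmul_sub, hβdef]; ring
  rw [this]; exact Ideal.sub_mem _ hmain h5

open TensorProduct in
/-- Let `I ⊆ A` be an ideal, `A → B` integral and `ē` an idempotent of `B/IB`. Then there is an étale
`A`-algebra `A'` with `A/I → A'/IA'` bijective and an idempotent of `A' ⊗ B` whose class modulo `I`
agrees with that of any lift of `ē`. -/
theorem result {A B : Type u} [CommRing A] [CommRing B] [Algebra A B]
    [Algebra.IsIntegral A B] (I : Ideal A) (e : B ⧸ I.map (algebraMap A B)) (he : IsIdempotentElem e) :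
    ∃ (A' : Type u) (_ : CommRing A') (_ : Algebra A A'), Algebra.Etale A A' ∧
      Function.Bijective (algebraMap (A ⧸ I) (A' ⧸ I.map (algebraMap A A'))) ∧
      ∃ e' : A' ⊗[A] B, IsIdempotentElem e' ∧
        ∀ b : B, Ideal.Quotient.mk (I.map (algebraMap A B)) b = e →
          e' - 1 ⊗ₜ b ∈ I.map (algebraMap A (A' ⊗[A] B)) := by
  exact main I e he

end Groth.Agent.S2041
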