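import Groth.Statements.S2043
import Groth.Agent.H10.SmoothChart
import Groth.Agent.H10.EtaleSection
import Mathlib

set_option autoImplicit false
universe u
open CAlg

namespace Groth.Agent.S2043

/-- Let `I ⊆ A` be an ideal, `B` a smooth `A`-algebra and `B → A/I` an `A`-algebra map. Then there is an
étale `A`-algebra `A'` with `A/I → A'/IA'` bijective and an `A`-algebra map `B → A'` lifting the
given map. -/
theorem result {A B : Type u} [CommRing A] [CommRing B] [Algebra A B]
    [Algebra.Smooth A B] (I : Ideal A) (σ : B →ₐ[A] A ⧸ I) :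
    ∃ (A' : Type u) (_ : CommRing A') (_ : Algebra A A'), Algebra.Etale A A' ∧
      Function.Bijective (algebraMap (A ⧸ I) (A' ⧸ I.map (algebraMap A A'))) ∧
      ∃ τ : B →ₐ[A] A', ∀ b : B,
        Ideal.Quotient.mk (I.map (algebraMap A A')) (τ b) =
          algebraMap (A ⧸ I) (A' ⧸ I.map (algebraMap A A')) (σ b) := by
  obtain ⟨E, _, _, hE, σE, ι, hι1, hι2⟩ :=
    Groth.Agent.H10.SmoothChart.chart_of_smooth A B A I σ
  obtain ⟨f, -, hf2, hf3⟩ := Groth.Agent.H10.EtaleSection.exists_away I σE
  have hEt : Algebra.Etale E (Localization.Away f) := Algebra.Etale.of_isLocalizationAway f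
  have hEt' : Algebra.Etale A (Localization.Away f) := Algebra.Etale.comp A E (Localization.Away f)
  refine ⟨Localization.Away f, inferInstance, inferInstance, hEt', hf3, ?_⟩
  refine ⟨{ (algebraMap E (Localization.Away f)).comp ι with
    commutes' := fun r => ?_ }, ?_⟩
  · show algebraMap E (Localization.Away f) (ι (algebraMap A B r)) = algebraMap A _ r
    rw [hι1, ← IsScalarTower.algebraMap_apply]
    rfl
  · intro b
    show Ideal.Quotient.mk _ (algebraMap E (Localization.Away f) (ι b)) = _
    obtain ⟨a, ha⟩ := Ideal.Quotient.mk_surjective (σ b)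
    have h1 := hf2 (ι b) a (by rw [hι2, ha])
    rw [← ha]
    show _ = Ideal.Quotient.mk _ (algebraMap A (Localization.Away f) a)
    rw [Ideal.Quotient.eq]
    exact h1

end Groth.Agent.S2043
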