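import Groth.Statements.S2044
import Groth.Agent.H14.EtaleNbhd

set_option autoImplicit false
universe u
open CAlg

namespace Groth.Agent.S2044

open TensorProduct in
theorem baseChange_range_toLin' {R S : Type u} [CommRing R] [CommRing S] [Algebra R S] {n : ℕ}
    (M : Matrix (Fin n) (Fin n) R) (hM : M * M = M) :
    Nonempty (S ⊗[R] LinearMap.range (Matrix.toLin' M) ≃ₗ[S]
      LinearMap.range (Matrix.toLin' (M.map (algebraMap R S)))) := by
  obtain ⟨f, hfdef⟩ : ∃ f : (Fin n → R) →ₗ[R] (Fin n → R), f = Matrix.toLin' M := ⟨_, rfl⟩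
  obtain ⟨fS, hfSdef⟩ : ∃ fS : (Fin n → S) →ₗ[S] (Fin n → S),
      fS = Matrix.toLin' (M.map (algebraMap R S)) := ⟨_, rfl⟩
  rw [← hfdef, ← hfSdef]
  have hff : ∀ v, f (f v) = f v := by
    intro v
    rw [hfdef, ← LinearMap.comp_apply, ← Matrix.toLin'_mul, hM]
  have hfSfS : ∀ w, fS (fS w) = fS w := by
    intro w
    rw [hfSdef, ← LinearMap.comp_apply, ← Matrix.toLin'_mul, ← Matrix.map_mul, hM]
  have hfapp : ∀ v j, f v j = ∑ i, M j i * v i := by
    intro v j; rw [hfdef, Matrix.toLin'_apply]; rfl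
  have hfSapp : ∀ w j, fS w j = ∑ i, algebraMap R S (M j i) * w i := by
    intro w j; rw [hfSdef, Matrix.toLin'_apply]; rfl
  let F : Fin n → LinearMap.range f := fun i => ⟨f (fun j => if i = j then 1 else 0), ⟨_, rfl⟩⟩
  let ι' : LinearMap.range f →ₗ[R] (Fin n → S) :=
    ((Algebra.linearMap R S).compLeft (Fin n)).comp (LinearMap.range f).subtype
  have hι' : ∀ (v : LinearMap.range f) (j : Fin n), ι' v j = algebraMap R S (v.1 j) :=
    fun v j => rfl
  let α : S ⊗[R] LinearMap.range f →ₗ[S] (Fin n → S) := LinearMap.liftBaseChange S ι'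
  let β : (Fin n → S) →ₗ[S] S ⊗[R] LinearMap.range f :=
    ∑ i, (LinearMap.proj i : (Fin n → S) →ₗ[S] S).smulRight ((1 : S) ⊗ₜ[R] F i)
  have hβ : ∀ w, β w = ∑ i, w i • ((1 : S) ⊗ₜ[R] F i) := by
    intro w; simp [β, LinearMap.sum_apply]
  have hsum : ∀ v : LinearMap.range f, ∑ i, v.1 i • F i = v := by
    intro v
    apply Subtype.ext
    rw [Submodule.coe_sum]
    simp only [Submodule.coe_smul]
    obtain ⟨w, hw⟩ := v.2
    have h1 := LinearMap.pi_apply_eq_sum_univ f v.1
    rw [← h1, ← hw, hff]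
  have hC1 : ∀ z, β (α z) = z := by
    intro z
    induction z using TensorProduct.induction_on with
    | zero => simp
    | tmul s v =>
      rw [LinearMap.liftBaseChange_tmul, map_smul, hβ]
      have h2 : ∀ i, ι' v i • ((1 : S) ⊗ₜ[R] F i) = (1 : S) ⊗ₜ[R] (v.1 i • F i) := by
        intro i
        rw [hι', TensorProduct.smul_tmul', smul_eq_mul, mul_one,
          Algebra.algebraMap_eq_smul_one, TensorProduct.smul_tmul]
      simp only [h2]
      rw [← TensorProduct.tmul_sum, hsum, TensorProduct.smul_tmul', smul_eq_mul, mul_one]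
    | add x y hx hy => rw [map_add, map_add, hx, hy]
  have hC3 : ∀ w, α (β w) = fS w := by
    intro w
    rw [hβ, map_sum]
    ext j
    rw [Finset.sum_apply, hfSapp]
    refine Finset.sum_congr rfl fun i _ => ?_
    rw [map_smul, LinearMap.liftBaseChange_tmul, one_smul, Pi.smul_apply, hι', smul_eq_mul,
      mul_comm]
    congr 1
    show algebraMap R S (f (fun j' => if i = j' then 1 else 0) j) = _
    rw [hfapp]
    simp
  have hfSfix : ∀ w ∈ LinearMap.range fS, fS w = w := by
    rintro _ ⟨w, rfl⟩; exact hfSfS w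
  have hαmem : ∀ z, α z ∈ LinearMap.range fS := fun z => ⟨α z, by rw [← hC3, hC1]⟩
  exact ⟨LinearEquiv.ofLinear (α.codRestrict (LinearMap.range fS) hαmem)
    (β.comp (LinearMap.range fS).subtype)
    (LinearMap.ext fun w => Subtype.ext (by
      show α (β w.1) = w.1
      rw [hC3, hfSfix _ w.2]))
    (LinearMap.ext fun z => by
      show β (α z) = z
      exact hC1 z)⟩

open TensorProduct Polynomial in
theorem main {A : Type u} [CommRing A] (I : Ideal A) (P : Type u)
    [AddCommGroup P] [Module (A ⧸ I) P] [Module.Finite (A ⧸ I) P] [Module.Projective (A ⧸ I) P] :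
    ∃ (A' : Type u) (_ : CommRing A') (_ : Algebra A A'), Algebra.Etale A A' ∧
      Function.Bijective (algebraMap (A ⧸ I) (A' ⧸ I.map (algebraMap A A'))) ∧
      ∃ (P' : Type u) (_ : AddCommGroup P') (_ : Module A' P'), Module.Finite A' P' ∧
        Module.Projective A' P' ∧
        Nonempty (((A' ⧸ I.map (algebraMap A A')) ⊗[A'] P') ≃ₗ[A' ⧸ I.map (algebraMap A A')]
          ((A' ⧸ I.map (algebraMap A A')) ⊗[A ⧸ I] P)) := by
  obtain ⟨n, p, hp⟩ := Module.Finite.exists_fin' (A ⧸ I) P
  obtain ⟨s, hs⟩ := Module.projective_lifting_property p LinearMap.id hp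
  obtain ⟨eb, hebdef⟩ : ∃ eb : Matrix (Fin n) (Fin n) (A ⧸ I),
      eb = LinearMap.toMatrix' (s ∘ₗ p) := ⟨_, rfl⟩
  have heb : Matrix.toLin' eb = s ∘ₗ p := by rw [hebdef, Matrix.toLin'_toMatrix']
  have hsp : ∀ x, p (s x) = x := fun x => LinearMap.congr_fun hs x
  have hebid : eb * eb = eb := by
    apply Matrix.toLin'.injective
    rw [Matrix.toLin'_mul, heb]
    exact LinearMap.ext fun x => by
      simp only [LinearMap.comp_apply]
      rw [hsp]
  have hsinj : Function.Injective s := Function.LeftInverse.injective (g := p) hsp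
  have hrange : LinearMap.range s = LinearMap.range (Matrix.toLin' eb) := by
    rw [heb, LinearMap.range_comp_of_range_eq_top s (LinearMap.range_eq_top.mpr hp)]
  let e₃ : P ≃ₗ[A ⧸ I] LinearMap.range (Matrix.toLin' eb) :=
    (LinearEquiv.ofInjective s hsinj).trans (LinearEquiv.ofEq _ _ hrange)
  obtain ⟨E, hE⟩ : ∃ E : Matrix (Fin n) (Fin n) A, (Ideal.Quotient.mk I).mapMatrix E = eb := by
    refine ⟨fun i j => Classical.choose (Ideal.Quotient.mk_surjective (eb i j)), ?_⟩
    ext i j
    exact Classical.choose_spec (Ideal.Quotient.mk_surjective (eb i j))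
  obtain ⟨z, hzdef⟩ : ∃ z, z = E * (E - 1) := ⟨_, rfl⟩
  have hzmap : z.map (Ideal.Quotient.mk I) = 0 := by
    have : (Ideal.Quotient.mk I).mapMatrix z = 0 := by
      rw [hzdef, map_mul, map_sub, map_one, hE, mul_sub, mul_one, hebid, sub_self]
    exact this
  obtain ⟨P₀, hP₀def⟩ : ∃ P₀ : A[X], P₀ = z.charpoly := ⟨_, rfl⟩
  have hP₀m : P₀.Monic := by rw [hP₀def]; exact Matrix.charpoly_monic z
  have hP₀map : P₀.map (Ideal.Quotient.mk I) = X ^ n := by
    rw [hP₀def, ← Matrix.charpoly_map, hzmap, Matrix.charpoly_zero, Fintype.card_fin]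
  have hP₀z : aeval z P₀ = 0 := by rw [hP₀def]; exact Matrix.aeval_self_charpoly z
  obtain ⟨q, hqdef⟩ : ∃ q : A[X], q = X * (X - C 1) := ⟨_, rfl⟩
  have hq : q.Monic := by rw [hqdef]; exact monic_X.mul (monic_X_sub_C 1)
  obtain ⟨F, hFdef⟩ : ∃ F : A[X], F = (X * P₀).comp q := ⟨_, rfl⟩
  have hFm : F.Monic := by
    rcases subsingleton_or_nontrivial A with hA | hA
    · exact Subsingleton.elim _ _
    · rw [hFdef]
      refine (monic_X.mul hP₀m).comp hq ?_
      rw [hqdef, monic_X.natDegree_mul (monic_X_sub_C 1), natDegree_X, natDegree_X_sub_C]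
      norm_num
  have hFE : aeval E F = 0 := by
    rw [hFdef, Polynomial.aeval_comp, map_mul, aeval_X]
    have : aeval E q = z := by rw [hqdef, hzdef]; simp
    rw [this, hP₀z, mul_zero]
  have hFmap : F.map (Ideal.Quotient.mk I) = X ^ (n + 1) * (X - C 1) ^ (n + 1) := by
    rw [hFdef, Polynomial.map_comp, Polynomial.map_mul, Polynomial.map_X, hP₀map, ← pow_succ',
      X_pow_comp, ← mul_pow]
    simp [hqdef]
  have hcop : IsCoprime ((X : (A ⧸ I)[X]) ^ (n + 1)) ((X - C 1) ^ (n + 1)) :=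
    IsCoprime.pow ⟨1, -1, by simp⟩
  obtain ⟨A', i1, i2, hEt, -, hbij, g', h', hg', hh', ⟨sp, tp, hst⟩, hfact, hgm, hhm⟩ :=
    Groth.Agent.H14.exists_etale_lift_monic_factorization I F hFm _ _ (monic_X_pow _)
      ((monic_X_sub_C 1).pow _) hcop hFmap 1 (by rw [map_one]; exact isUnit_one)
  obtain ⟨E', hE'def⟩ : ∃ E' : Matrix (Fin n) (Fin n) A',
      E' = (Algebra.ofId A A').mapMatrix E := ⟨_, rfl⟩
  have hFE' : aeval E' (g' * h') = 0 := by
    rw [← hfact, Polynomial.aeval_map_algebraMap, hE'def, Polynomial.aeval_algHom_apply, hFE,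
      map_zero]
  obtain ⟨u, hudef⟩ : ∃ u : A'[X], u = sp * g' := ⟨_, rfl⟩
  have hD1 : u * u = u - (sp * tp) * (g' * h') := by
    rw [hudef]; linear_combination (sp * g') * hst
  obtain ⟨e', he'def⟩ : ∃ e' : Matrix (Fin n) (Fin n) A', e' = aeval E' u := ⟨_, rfl⟩
  have he'id : e' * e' = e' := by
    rw [he'def, ← map_mul, hD1, map_sub, map_mul, hFE', mul_zero, sub_zero]
  have hcompat : (algebraMap (A' ⧸ I.map (algebraMap A A')) (Matrix (Fin n) (Fin n) (A' ⧸ I.map (algebraMap A A')))).comp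
      (Ideal.Quotient.mk (I.map (algebraMap A A'))) =
      (Ideal.Quotient.mk (I.map (algebraMap A A'))).mapMatrix.comp
        (algebraMap A' (Matrix (Fin n) (Fin n) A')) := by
    ext r i j
    simp [Matrix.algebraMap_matrix_apply]
    split_ifs <;> simp
  have hπe' : (Ideal.Quotient.mk (I.map (algebraMap A A'))).mapMatrix e' =
      aeval ((Ideal.Quotient.mk (I.map (algebraMap A A'))).mapMatrix E')
        (u.map (Ideal.Quotient.mk (I.map (algebraMap A A')))) := by
    rw [he'def]; exact Polynomial.map_aeval_eq_aeval_map hcompat u E'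
  have hx : (Ideal.Quotient.mk (I.map (algebraMap A A'))).mapMatrix E' =
      eb.map (algebraMap (A ⧸ I) (A' ⧸ I.map (algebraMap A A'))) := by
    rw [hE'def, ← hE]
    ext i j
    rfl
  have hg2 : g'.map (Ideal.Quotient.mk (I.map (algebraMap A A'))) = X ^ (n + 1) := by
    rw [hgm]; simp
  have hh2 : h'.map (Ideal.Quotient.mk (I.map (algebraMap A A'))) = (X - 1) ^ (n + 1) := by
    rw [hhm]; simp
  have hst2 : sp.map (Ideal.Quotient.mk (I.map (algebraMap A A'))) * X ^ (n + 1) +
      tp.map (Ideal.Quotient.mk (I.map (algebraMap A A'))) * (X - 1) ^ (n + 1) = 1 := by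
    have := congrArg (Polynomial.map (Ideal.Quotient.mk (I.map (algebraMap A A')))) hst
    rwa [Polynomial.map_add, Polynomial.map_mul, Polynomial.map_mul, hg2, hh2,
      Polynomial.map_one] at this
  have hu2 : u.map (Ideal.Quotient.mk (I.map (algebraMap A A'))) =
      X - (X * X - X) * (sp.map (Ideal.Quotient.mk (I.map (algebraMap A A'))) * X ^ n +
        tp.map (Ideal.Quotient.mk (I.map (algebraMap A A'))) * (X - 1) ^ n) := by
    rw [hudef, Polynomial.map_mul, hg2]
    linear_combination X * hst2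
  have hxid : eb.map (algebraMap (A ⧸ I) (A' ⧸ I.map (algebraMap A A'))) * eb.map (algebraMap (A ⧸ I) (A' ⧸ I.map (algebraMap A A'))) =
      eb.map (algebraMap (A ⧸ I) (A' ⧸ I.map (algebraMap A A'))) := by
    rw [← Matrix.map_mul, hebid]
  have hfinal : (Ideal.Quotient.mk (I.map (algebraMap A A'))).mapMatrix e' =
      eb.map (algebraMap (A ⧸ I) (A' ⧸ I.map (algebraMap A A'))) := by
    rw [hπe', hx, hu2, map_sub, map_mul, map_sub, map_mul, aeval_X, hxid, sub_self, zero_mul,
      sub_zero]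
  refine ⟨A', i1, i2, hEt, hbij, LinearMap.range (Matrix.toLin' e'), inferInstance, inferInstance,
    inferInstance, ?_, ?_⟩
  · refine Module.Projective.of_split (LinearMap.range (Matrix.toLin' e')).subtype
      (Matrix.toLin' e').rangeRestrict ?_
    apply LinearMap.ext
    intro v
    apply Subtype.ext
    obtain ⟨w, hw⟩ := v.2
    show Matrix.toLin' e' v.1 = v.1
    rw [← hw, ← LinearMap.comp_apply, ← Matrix.toLin'_mul, he'id]
  · obtain ⟨e₁⟩ := baseChange_range_toLin' (R := A') (S := (A' ⧸ I.map (algebraMap A A'))) e' he'id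
    obtain ⟨e₂⟩ := baseChange_range_toLin' (R := A ⧸ I) (S := (A' ⧸ I.map (algebraMap A A'))) eb hebid
    have hfin : e'.map (algebraMap A' (A' ⧸ I.map (algebraMap A A'))) = eb.map (algebraMap (A ⧸ I) (A' ⧸ I.map (algebraMap A A'))) := hfinal
    exact ⟨(e₁.trans (LinearEquiv.ofEq _ _ (by rw [hfin]))).trans
      (e₂.symm.trans (e₃.baseChange _ _ _ _).symm)⟩

open TensorProduct in
/-- Let `I ⊆ A` be an ideal and `P` a finite projective `A/I`-module. Then there is an étale `A`-algebra
`A'` with `A/I → A'/IA'` bijective and a finite projective `A'`-module whose reduction modulo `IA'`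
is the base change of `P`. -/
theorem result {A : Type u} [CommRing A] (I : Ideal A) (P : Type u)
    [AddCommGroup P] [Module (A ⧸ I) P] [Module.Finite (A ⧸ I) P] [Module.Projective (A ⧸ I) P] :
    ∃ (A' : Type u) (_ : CommRing A') (_ : Algebra A A'), Algebra.Etale A A' ∧
      Function.Bijective (algebraMap (A ⧸ I) (A' ⧸ I.map (algebraMap A A'))) ∧
      ∃ (P' : Type u) (_ : AddCommGroup P') (_ : Module A' P'), Module.Finite A' P' ∧
        Module.Projective A' P' ∧
        Nonempty (((A' ⧸ I.map (algebraMap A A')) ⊗[A'] P') ≃ₗ[A' ⧸ I.map (algebraMap A A')]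
          ((A' ⧸ I.map (algebraMap A A')) ⊗[A ⧸ I] P)) := by
  exact main I P

end Groth.Agent.S2044
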