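import Groth.Statements.S2047
import Mathlib
import Groth.Agent.H20.GRingLocal2
import Groth.Agent.S0598
-- import your own Groth.Agent.* helpers here

set_option autoImplicit false
universe u
open CAlg

set_option linter.style.haveILetI false
set_option linter.unusedSectionVars false
set_option linter.unusedVariables false

namespace Groth.Agent.S2047


/-- A Noetherian ring `R` is a G-ring if and only if for every maximal ideal `𝔪` the completion map of
`R_𝔪` is a regular ring map. -/
theorem result {R : Type u} [CommRing R] [IsNoetherianRing R] :
    CAlg.IsGRing R ↔ ∀ (m : Ideal R) [m.IsMaximal],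
      CAlg.IsRegularHom (Localization.AtPrime m)
        (AdicCompletion (IsLocalRing.maximalIdeal (Localization.AtPrime m)) (Localization.AtPrime m)) := by
  constructor
  · intro hG m _
    exact hG.2 m
  · intro h
    exact Groth.Agent.H20.GRingLocal.isGRing_of_maximal
      (fun R' _ _ _ _ => Groth.Agent.S0598.result R') R h

end Groth.Agent.S2047
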