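import Groth.Statements.S2053
import Groth.Agent.H87.CohenPres
import Groth.Agent.H87.LiftMain

set_option autoImplicit false
set_option maxHeartbeats 400000
universe u
open CAlg

namespace Groth.Agent.S2053

/-- Consider a local homomorphism `A → B` between complete Noetherian local rings. Then there are power
series rings `R`, `S` in finitely many variables over coefficient rings which are both fields (when
the residue characteristic of `A` is zero) or both Cohen rings (when it is positive), surjections `R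
→ A`, `S → B` and a ring map `R → S` making the square commute, such that `R → S` is flat and `S/𝔪_R
S` is a regular ring. (The published statement also arranges that a regular system of parameters
maps into one; that is not asserted here.) -/
theorem result {A B : Type u} [CommRing A] [CommRing B]
    [IsLocalRing A] [IsLocalRing B] [IsNoetherianRing A] [IsNoetherianRing B]
    [IsAdicComplete (IsLocalRing.maximalIdeal A) A] [IsAdicComplete (IsLocalRing.maximalIdeal B) B]
    [Algebra A B] [IsLocalHom (algebraMap A B)] :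
    ∃ (Λ Λ' : Type u) (_ : CommRing Λ) (_ : CommRing Λ') (_ : IsLocalRing Λ) (n m : ℕ)
      (ρ : MvPowerSeries (Fin n) Λ →+* A) (σ : MvPowerSeries (Fin m) Λ' →+* B)
      (τ : MvPowerSeries (Fin n) Λ →+* MvPowerSeries (Fin m) Λ'),
      ((CharZero (IsLocalRing.ResidueField A) ∧ IsField Λ ∧ IsField Λ') ∨
        (¬ CharZero (IsLocalRing.ResidueField A) ∧ CAlg.IsCohenRing Λ ∧ CAlg.IsCohenRing Λ')) ∧
        Function.Surjective ρ ∧ Function.Surjective σ ∧ σ.comp τ = (algebraMap A B).comp ρ ∧
        τ.Flat ∧ IsRegularRing (MvPowerSeries (Fin m) Λ' ⧸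
          (IsLocalRing.maximalIdeal (MvPowerSeries (Fin n) Λ)).map τ) := by
  classical
  obtain ⟨Λ, _, _, vA, hNΛ, hCΛ, hLA, hsA, hcaseA⟩ := Groth.Agent.H87.CohenPres.exists_coeff A
  obtain ⟨Λ', _, _, vB, hNΛ', hCΛ', hLB, hsB, hcaseB⟩ := Groth.Agent.H87.CohenPres.exists_coeff B
  haveI := hNΛ
  haveI := hCΛ
  haveI := hNΛ'
  haveI := hCΛ'
  haveI := hLA
  haveI := hLB
  obtain ⟨n, x, hx⟩ := Submodule.fg_iff_exists_fin_generating_family.mp
    (IsNoetherian.noetherian (IsLocalRing.maximalIdeal A))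
  obtain ⟨r, z, hz⟩ := Submodule.fg_iff_exists_fin_generating_family.mp
    (IsNoetherian.noetherian (IsLocalRing.maximalIdeal B))
  have hxm : ∀ i, x i ∈ IsLocalRing.maximalIdeal A := fun i => by
    rw [← hx]; exact Submodule.subset_span ⟨i, rfl⟩
  have hzm : ∀ j, z j ∈ IsLocalRing.maximalIdeal B := fun j => by
    rw [← hz]; exact Submodule.subset_span ⟨j, rfl⟩
  obtain ⟨ρ, hρs, hρC, hρX⟩ :=
    Groth.Agent.H15.CohenStruct.exists_surjective_mvPowerSeries vA hsA n x hx
  have hfm : ∀ a ∈ IsLocalRing.maximalIdeal A, algebraMap A B a ∈ IsLocalRing.maximalIdeal B :=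
    fun a ha hu => ha (isUnit_of_map_unit (algebraMap A B) a hu)
  have hym : ∀ s, (Fin.append (fun i => algebraMap A B (x i)) z : Fin (n + r) → B) s ∈
      IsLocalRing.maximalIdeal B := by
    intro s
    induction s using Fin.addCases with
    | left i => rw [Fin.append_left]; exact hfm _ (hxm i)
    | right j => rw [Fin.append_right]; exact hzm j
  have hy : Ideal.span (Set.range (Fin.append (fun i => algebraMap A B (x i)) z :
      Fin (n + r) → B)) = IsLocalRing.maximalIdeal B := by
    apply le_antisymm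
    · rw [Ideal.span_le]
      rintro _ ⟨s, rfl⟩
      exact hym s
    · have h1 : IsLocalRing.maximalIdeal B = Ideal.span (Set.range z) := hz.symm
      rw [h1]
      apply Ideal.span_mono
      rintro _ ⟨j, rfl⟩
      exact ⟨Fin.natAdd n j, Fin.append_right _ _ j⟩
  obtain ⟨σ, hσs, hσC, hσX⟩ :=
    Groth.Agent.H15.CohenStruct.exists_surjective_mvPowerSeries vB hsB (n + r) _ hy
  -- the lift of the coefficient map
  have hJ : RingHom.ker σ ≠ ⊤ := RingHom.ker_ne_top σ
  haveI : Nontrivial (MvPowerSeries (Fin (n + r)) Λ' ⧸ RingHom.ker σ) :=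
    Ideal.Quotient.nontrivial_iff.2 hJ
  haveI : IsLocalRing (MvPowerSeries (Fin (n + r)) Λ' ⧸ RingHom.ker σ) :=
    IsLocalRing.of_surjective' (Ideal.Quotient.mk _) Ideal.Quotient.mk_surjective
  let e : MvPowerSeries (Fin (n + r)) Λ' ⧸ RingHom.ker σ ≃+* B :=
    RingHom.quotientKerEquivOfSurjective hσs
  have he : ∀ s, e (Ideal.Quotient.mk _ s) = σ s := fun s => rfl
  let u : Λ →+* MvPowerSeries (Fin (n + r)) Λ' ⧸ RingHom.ker σ :=
    (e.symm : B →+* _).comp ((algebraMap A B).comp vA)
  have hu : ∀ c, e (u c) = algebraMap A B (vA c) := fun c => e.apply_symm_apply _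
  haveI : IsLocalHom u := ⟨fun c hc => by
    have h1 : IsUnit (e (u c)) := hc.map e
    rw [hu] at h1
    exact isUnit_of_map_unit vA c (isUnit_of_map_unit (algebraMap A B) _ h1)⟩
  have hW : EGA41.IsCohenRingEGA Λ := by
    rcases hcaseA with ⟨-, hF, hz⟩ | ⟨-, hC⟩
    · exact Or.inl ⟨hF, hz⟩
    · exact Or.inr hC
  obtain ⟨lam, hlamL, hlam⟩ := Groth.Agent.S2456.result hW (RingHom.ker σ) hJ u
  have hσlam : ∀ c, σ (lam c) = algebraMap A B (vA c) := by
    intro c
    have h1 : Ideal.Quotient.mk _ (lam c) = u c := RingHom.congr_fun hlam c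
    rw [← he, h1, hu]
  obtain ⟨τ, hτC, hτX⟩ := Groth.Agent.H87.PowEval.exists_mvEval
    (IsLocalRing.maximalIdeal (MvPowerSeries (Fin (n + r)) Λ')) lam
    (fun i : Fin n => (MvPowerSeries.X (Fin.castAdd r i) : MvPowerSeries (Fin (n + r)) Λ'))
    (fun i => Groth.Agent.H61.PS.X_mem_maximalIdeal _)
  have hcomm : σ.comp τ = (algebraMap A B).comp ρ := by
    apply Groth.Agent.H87.PSUniq.eq_of_C_X (IsLocalRing.maximalIdeal B)
    · intro c
      rw [RingHom.comp_apply, hτC, hσlam, RingHom.comp_apply, hρC]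
    · intro i
      rw [RingHom.comp_apply, hτX, hσX, RingHom.comp_apply, hρX, Fin.append_left]
    · intro i
      rw [RingHom.comp_apply, hτX, hσX]
      exact hym _
  have hτL : IsLocalHom τ := ⟨fun g hg => by
    have h1 : IsUnit (σ (τ g)) := hg.map σ
    have h2 : σ (τ g) = algebraMap A B (ρ g) := RingHom.congr_fun hcomm g
    rw [h2] at h1
    have h3 : IsUnit (ρ g) := isUnit_of_map_unit (algebraMap A B) _ h1
    haveI : IsLocalHom ρ := Groth.Agent.H87.LiftMain.isLocalHom_of_surjective ρ hρs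
    exact isUnit_of_map_unit ρ g h3⟩
  have hchar : CharZero (IsLocalRing.ResidueField A) ↔ CharZero (IsLocalRing.ResidueField B) :=
    RingHom.charZero_iff (IsLocalRing.ResidueField.map (algebraMap A B)).injective
  rcases hcaseA with ⟨hzA, hFΛ, hzΛ⟩ | ⟨hnzA, hCohΛ⟩
  · rcases hcaseB with ⟨hzB, hFΛ', hzΛ'⟩ | ⟨hnzB, hCohΛ'⟩
    · refine ⟨Λ, Λ', inferInstance, inferInstance, inferInstance, n, n + r, ρ, σ, τ,
        Or.inl ⟨hzA, hFΛ, hFΛ'⟩, hρs, hσs, hcomm,
        Groth.Agent.H87.CohenPres.flat_tau n r τ hτX hτL (Or.inl hFΛ), ?_⟩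
      rw [Groth.Agent.H87.CohenPres.map_tau_max n r τ hτX (Or.inl ⟨hFΛ, hFΛ'⟩)]
      exact Groth.Agent.H87.PSQuot.isRegularRing_quot n r
    · exact absurd (hchar.1 hzA) hnzB
  · rcases hcaseB with ⟨hzB, -, -⟩ | ⟨hnzB, hCohΛ'⟩
    · exact absurd (hchar.2 hzB) hnzA
    · obtain ⟨hdom, hdvr, -, p, hp, hm⟩ := id hCohΛ
      obtain ⟨hdom', hdvr', -, p', hp', hm'⟩ := id hCohΛ'
      have hpm : (p : Λ') ∈ IsLocalRing.maximalIdeal Λ' := by
        have h1 : (p : Λ) ∈ IsLocalRing.maximalIdeal Λ := by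
          rw [hm]; exact Ideal.mem_span_singleton_self _
        have h2 : lam (p : Λ) ∈ IsLocalRing.maximalIdeal (MvPowerSeries (Fin (n + r)) Λ') :=
          fun hu' => h1 (isUnit_of_map_unit lam _ hu')
        rw [map_natCast, Groth.Agent.H61.PS.mem_maximalIdeal_iff, map_natCast] at h2
        exact h2
      have hpp : p = p' := Groth.Agent.Lead.CohenRingIso.prime_eq_of_mem p p' hp hp' hpm
        (by rw [hm']; exact Ideal.mem_span_singleton_self _)
      subst hpp
      have hp0 : (p : Λ) ≠ 0 := by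
        intro h0
        apply IsDiscreteValuationRing.not_a_field Λ
        rw [hm, h0, Ideal.span_singleton_eq_bot]
      have hp0' : (p : Λ') ≠ 0 := by
        intro h0
        apply IsDiscreteValuationRing.not_a_field Λ'
        rw [hm', h0, Ideal.span_singleton_eq_bot]
      refine ⟨Λ, Λ', inferInstance, inferInstance, inferInstance, n, n + r, ρ, σ, τ,
        Or.inr ⟨hnzA, hCohΛ, hCohΛ'⟩, hρs, hσs, hcomm,
        Groth.Agent.H87.CohenPres.flat_tau n r τ hτX hτL
          (Or.inr ⟨p, hm, (isRegular_of_ne_zero hp0).left.isSMulRegular,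
            (isRegular_of_ne_zero hp0').left.isSMulRegular⟩), ?_⟩
      rw [Groth.Agent.H87.CohenPres.map_tau_max n r τ hτX (Or.inr ⟨p, hm, hm'⟩)]
      exact Groth.Agent.H87.PSQuot.isRegularRing_quot n r

end Groth.Agent.S2053
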