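import Groth.Statements.S2055
import Groth.Agent.H10.FlatGlue
import Groth.Prelude.Def_DRing3

set_option autoImplicit false
universe u
open CAlg

namespace Groth.Agent.S2055

open TensorProduct in
/-- Let `R → S` be flat and `I ⊆ R` a finitely generated ideal with `R/I → S/IS` bijective. If one of
the `R`-modules `M`, `N` has every element killed by a power of `I`, then base change of linear maps
`Hom_R(M, N) → Hom_S(S ⊗ M, S ⊗ N)` is bijective. -/
theorem result {R S M N : Type u} [CommRing R] [CommRing S]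
    [Algebra R S] [Module.Flat R S] (I : Ideal R) (hI : I.FG)
    (hq : Function.Bijective (algebraMap (R ⧸ I) (S ⧸ I.map (algebraMap R S))))
    [AddCommGroup M] [Module R M] [AddCommGroup N] [Module R N]
    (hMN : (∀ x : M, ∃ n : ℕ, ∀ a ∈ I ^ n, a • x = 0) ∨ (∀ y : N, ∃ n : ℕ, ∀ a ∈ I ^ n, a • y = 0)) :
    Function.Bijective (fun f : M →ₗ[R] N => LinearMap.baseChange S f) := by
  classical
  have hfun : (⇑(Ideal.quotientMap (I.map (algebraMap R S)) (algebraMap R S)
      Ideal.le_comap_map) : R ⧸ I → S ⧸ I.map (algebraMap R S)) =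
      ⇑(algebraMap (R ⧸ I) (S ⧸ I.map (algebraMap R S))) := by
    funext x
    obtain ⟨r, rfl⟩ := Ideal.Quotient.mk_surjective x
    rfl
  have hq' : Groth.Agent.H10.FlatGlue.QuotBij R S I := by
    show Function.Bijective (⇑(Ideal.quotientMap (I.map (algebraMap R S)) (algebraMap R S)
      Ideal.le_comap_map))
    rw [hfun]
    exact hq
  -- torsion elements
  have K1 : ∀ (f : M →ₗ[R] N) (m : M), f m ∈ DRing.torsionSub I N := by
    intro f m
    rcases hMN with hM | hN
    · obtain ⟨n, hn⟩ := hM m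
      exact ⟨n, fun a ha => by rw [← map_smul, hn a ha, map_zero]⟩
    · exact hN (f m)
  have K2 : ∀ y₁ y₂ : N, y₁ ∈ DRing.torsionSub I N → y₂ ∈ DRing.torsionSub I N →
      (1 : S) ⊗ₜ[R] y₁ = (1 : S) ⊗ₜ[R] y₂ → y₁ = y₂ := by
    intro y₁ y₂ h₁ h₂ h
    have h3 : y₁ - y₂ ∈ DRing.torsionSub I N := Submodule.sub_mem _ h₁ h₂
    have h4 := Groth.Agent.H10.FlatGlue.eq_zero_of_tmul_eq_zero hq' (y₁ - y₂) h3
      (by rw [TensorProduct.tmul_sub, h, sub_self])
    exact sub_eq_zero.1 h4
  have K3 : ∀ (F : S ⊗[R] M →ₗ[S] S ⊗[R] N) (m : M), ∃ y : N, y ∈ DRing.torsionSub I N ∧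
      (1 : S) ⊗ₜ[R] y = F ((1 : S) ⊗ₜ[R] m) := by
    intro F m
    rcases hMN with hM | hN
    · obtain ⟨n, hn⟩ := hM m
      have hfg : (I ^ n).FG := hI.pow
      obtain ⟨t, g, hg⟩ := Submodule.fg_iff_exists_fin_generating_family.1 hfg
      have hgmem : ∀ j, g j ∈ I ^ n := fun j => by
        rw [← hg]; exact Submodule.subset_span ⟨j, rfl⟩
      have hz : ∀ j, g j • F ((1 : S) ⊗ₜ[R] m) = 0 := by
        intro j
        rw [← LinearMap.map_smul_of_tower, ← TensorProduct.tmul_smul, hn _ (hgmem j),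
          TensorProduct.tmul_zero, map_zero]
      obtain ⟨ε, hε, h1⟩ := Groth.Agent.H10.FlatGlue.exists_torsion_lift hq' g n
        (le_of_eq hg.symm) (F ((1 : S) ⊗ₜ[R] m)) hz
      refine ⟨ε, ⟨n, fun a ha => ?_⟩, h1⟩
      rw [← hg] at ha
      obtain ⟨c, rfl⟩ := Ideal.mem_span_range_iff_exists_fun.mp ha
      rw [Finset.sum_smul]
      refine Finset.sum_eq_zero fun j _ => ?_
      rw [mul_smul, hε j, smul_zero]
    · obtain ⟨y, hy⟩ := (Groth.Agent.H10.FlatGlue.mk_bijective_of_torsion hq' hN).2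
        (F ((1 : S) ⊗ₜ[R] m))
      exact ⟨y, hN y, hy⟩
  constructor
  · intro f g hfg
    have h2 : f.baseChange S = g.baseChange S := hfg
    apply LinearMap.ext
    intro m
    apply K2 _ _ (K1 f m) (K1 g m)
    have h3 := congrArg (fun Φ : S ⊗[R] M →ₗ[S] S ⊗[R] N => Φ ((1 : S) ⊗ₜ[R] m)) h2
    simpa [LinearMap.baseChange_tmul] using h3
  · intro F
    choose φ hφT hφ using K3 F
    let f : M →ₗ[R] N :=
      { toFun := φ
        map_add' := fun m₁ m₂ => by
          apply K2 _ _ (hφT _) (Submodule.add_mem _ (hφT m₁) (hφT m₂))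
          rw [hφ (m₁ + m₂), TensorProduct.tmul_add (1 : S) (φ m₁) (φ m₂), hφ m₁, hφ m₂,
            TensorProduct.tmul_add, map_add]
        map_smul' := fun r m => by
          apply K2 _ _ (hφT _) (Submodule.smul_mem _ _ (hφT m))
          rw [hφ (r • m), RingHom.id_apply, TensorProduct.tmul_smul r (1 : S) (φ m), hφ m,
            TensorProduct.tmul_smul, LinearMap.map_smul_of_tower] }
    refine ⟨f, ?_⟩
    show f.baseChange S = F
    apply LinearMap.ext
    intro z
    induction z using TensorProduct.induction_on with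
    | zero => rw [map_zero, map_zero]
    | tmul s m =>
      rw [LinearMap.baseChange_tmul]
      show s ⊗ₜ[R] φ m = F (s ⊗ₜ[R] m)
      have e1 : s ⊗ₜ[R] φ m = s • ((1 : S) ⊗ₜ[R] φ m) := by
        rw [TensorProduct.smul_tmul', smul_eq_mul, mul_one]
      have e2 : s ⊗ₜ[R] m = s • ((1 : S) ⊗ₜ[R] m) := by
        rw [TensorProduct.smul_tmul', smul_eq_mul, mul_one]
      rw [e1, hφ, e2, map_smul]
    | add x y hx hy => rw [map_add, map_add, hx, hy]

end Groth.Agent.S2055
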