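import Groth.Statements.S2058
import Groth.Agent.H15.Depth

set_option autoImplicit false
universe u
open CAlg

namespace Groth.Agent.S2058

section Aux
open IsLocalRing Groth.Agent.H15.Depth
open scoped Pointwise

variable {R : Type u} [CommRing R] [IsLocalRing R]

/-- the ideal of elements killed by a power of the maximal ideal -/
def tors (R : Type u) [CommRing R] [IsLocalRing R] : Ideal R where
  carrier := {x | ∃ n : ℕ, ∀ a ∈ maximalIdeal R ^ n, a * x = 0}
  zero_mem' := ⟨0, fun a _ => mul_zero a⟩
  add_mem' := by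
    rintro x y ⟨n, hn⟩ ⟨k, hk⟩
    refine ⟨max n k, fun a ha => ?_⟩
    rw [mul_add, hn a (Ideal.pow_le_pow_right (le_max_left n k) ha),
      hk a (Ideal.pow_le_pow_right (le_max_right n k) ha), add_zero]
  smul_mem' := by
    rintro c x ⟨n, hn⟩
    refine ⟨n, fun a ha => ?_⟩
    rw [smul_eq_mul, mul_left_comm, hn a ha, mul_zero]

theorem mem_tors {x : R} : x ∈ tors R ↔ ∃ n : ℕ, ∀ a ∈ maximalIdeal R ^ n, a * x = 0 := Iff.rfl

variable [IsNoetherianRing R]

theorem tors_uniform : ∃ N : ℕ, ∀ x ∈ tors R, ∀ a ∈ maximalIdeal R ^ N, a * x = 0 := by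
  classical
  obtain ⟨s, hs⟩ := (IsNoetherian.noetherian (tors R) : (tors R).FG)
  have h1 : ∀ x ∈ s, ∃ n : ℕ, ∀ a ∈ maximalIdeal R ^ n, a * x = 0 := fun x hx => by
    have h2 : x ∈ tors R := hs ▸ Submodule.subset_span hx
    exact h2
  choose! n hn using h1
  refine ⟨s.sup n, fun x hx a ha => ?_⟩
  rw [← hs] at hx
  refine Submodule.span_induction (p := fun x _ => a * x = 0) ?_ ?_ ?_ ?_ hx
  · intro y hy
    exact hn y hy a (Ideal.pow_le_pow_right (Finset.le_sup (f := n) hy) ha)
  · exact mul_zero a
  · intro y z _ _ hy hz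
    rw [mul_add, hy, hz, add_zero]
  · intro c y _ hy
    rw [smul_eq_mul, mul_left_comm, hy, mul_zero]

theorem caseA (h1 : ¬ IsArtinianRing R) (hs : HasSocle (maximalIdeal R) R) :
    ∃ (R' : Type u) (_ : CommRing R') (_ : Algebra R R'), Nontrivial R' ∧ Module.Finite R R' ∧
      ¬ Function.Bijective (algebraMap R R') ∧
      (∃ n : ℕ, (∀ x : R, algebraMap R R' x = 0 → ∀ a ∈ IsLocalRing.maximalIdeal R ^ n, a * x = 0) ∧
        (∀ y : R', ∀ a ∈ IsLocalRing.maximalIdeal R ^ n, a • y ∈ Set.range (algebraMap R R'))) ∧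
      IsLocalRing.maximalIdeal R ∉ associatedPrimes R R' := by
  obtain ⟨N, hN⟩ := tors_uniform (R := R)
  obtain ⟨x, hx0, hx⟩ := hs
  have hxT : x ∈ tors R := ⟨1, fun a ha => by rw [pow_one] at ha; exact hx a ha⟩
  have h1T : (1 : R) ∉ tors R := by
    rintro ⟨n, hn⟩
    apply h1
    rw [isArtinianRing_iff_isNilpotent_maximalIdeal]
    refine ⟨n, ?_⟩
    rw [Ideal.zero_eq_bot, eq_bot_iff]
    intro a ha
    have h2 := hn a ha
    rw [mul_one] at h2
    rw [h2]
    exact Submodule.zero_mem _
  have hne : tors R ≠ ⊤ := fun h => h1T (h ▸ Submodule.mem_top)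
  refine ⟨R ⧸ tors R, inferInstance, inferInstance, Ideal.Quotient.nontrivial_iff.mpr hne,
    Module.Finite.of_surjective (Algebra.linearMap R (R ⧸ tors R)) Ideal.Quotient.mk_surjective,
    ?_, ⟨N, ?_, ?_⟩, ?_⟩
  · intro hb
    apply hx0
    apply hb.1
    rw [map_zero]
    exact Ideal.Quotient.eq_zero_iff_mem.mpr hxT
  · intro y hy a ha
    exact hN y (Ideal.Quotient.eq_zero_iff_mem.mp hy) a ha
  · intro y a _
    obtain ⟨z, rfl⟩ := Ideal.Quotient.mk_surjective y
    exact ⟨a * z, by rw [Algebra.smul_def, Ideal.Quotient.algebraMap_eq, map_mul]⟩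
  · intro hass
    rw [AssociatedPrimes.mem_iff, isAssociatedPrime_iff] at hass
    obtain ⟨_, y, hy⟩ := hass
    obtain ⟨z, rfl⟩ := Ideal.Quotient.mk_surjective y
    have hz : z ∈ tors R := by
      refine ⟨N + 1, fun a ha => ?_⟩
      rw [pow_succ] at ha
      refine Submodule.mul_induction_on ha ?_ ?_
      · intro b hb c hc
        have h2 : c ∈ Submodule.colon (⊥ : Submodule R (R ⧸ tors R))
            {Ideal.Quotient.mk (tors R) z} := hy ▸ hc
        rw [Submodule.mem_colon_singleton, Submodule.mem_bot] at h2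
        have h3 : c * z ∈ tors R := by
          apply Ideal.Quotient.eq_zero_iff_mem.mp
          rw [map_mul, ← h2, Algebra.smul_def, Ideal.Quotient.algebraMap_eq]
        rw [mul_assoc]
        exact hN _ h3 b hb
      · intro p q hp hq
        rw [add_mul, hp, hq, add_zero]
    have h4 : Ideal.Quotient.mk (tors R) z = 0 := Ideal.Quotient.eq_zero_iff_mem.mpr hz
    have h5 : (1 : R) ∈ maximalIdeal R := by
      rw [hy, Submodule.mem_colon_singleton, h4, smul_zero]
      exact Submodule.zero_mem _
    exact (Ideal.ne_top_iff_one _).mp (Ideal.IsMaximal.ne_top inferInstance) h5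

theorem one_le_ringKrullDim (h1 : ¬ IsArtinianRing R) : (1 : WithBot ℕ∞) ≤ ringKrullDim R := by
  have h2 : ¬ ringKrullDim R ≤ 0 := by
    intro h
    apply h1
    rw [isArtinianRing_iff_krullDimLE_zero, Ring.krullDimLE_iff]
    exact_mod_cast h
  have h3 : (0 : WithBot ℕ∞) ≤ ringKrullDim R := ringKrullDim_nonneg_of_nontrivial
  obtain ⟨e, he⟩ : ∃ e : ℕ∞, ringKrullDim R = e := by
    have : ringKrullDim R ≠ ⊥ := fun h => by rw [h] at h3; exact absurd h3 (by simp)
    exact (WithBot.ne_bot_iff_exists.mp this).imp fun e he => he.symm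
  rw [he] at h2 ⊢
  have h4 : ¬ e ≤ 0 := fun h => h2 (by exact_mod_cast h)
  have h5 : 1 ≤ e := ENat.one_le_iff_ne_zero.mpr (fun h => h4 (by rw [h]))
  exact_mod_cast h5

theorem caseB (h1 : ¬ IsArtinianRing R) (h2 : ¬ (IsRegularLocalRing R ∧ ringKrullDim R = 1))
    (t : R) (htm : t ∈ maximalIdeal R) (htreg : IsSMulRegular R t) (y : R)
    (hy1 : y ∉ t • (⊤ : Submodule R R))
    (hy2 : ∀ a ∈ maximalIdeal R, a • y ∈ t • (⊤ : Submodule R R)) :
    ∃ (R' : Type u) (_ : CommRing R') (_ : Algebra R R'), Nontrivial R' ∧ Module.Finite R R' ∧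
      ¬ Function.Bijective (algebraMap R R') ∧
      (∃ n : ℕ, (∀ x : R, algebraMap R R' x = 0 → ∀ a ∈ IsLocalRing.maximalIdeal R ^ n, a * x = 0) ∧
        (∀ y : R', ∀ a ∈ IsLocalRing.maximalIdeal R ^ n, a • y ∈ Set.range (algebraMap R R'))) ∧
      IsLocalRing.maximalIdeal R ∉ associatedPrimes R R' := by
  classical
  have ht : t ∈ nonZeroDivisors R := by
    rw [mem_nonZeroDivisors_iff_left]
    intro x hx
    exact htreg (show t • x = t • 0 by rw [smul_eq_mul, hx, smul_zero])
  have hinj : Function.Injective (algebraMap R (FractionRing R)) := IsFractionRing.injective R _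
  have hτ : IsUnit (algebraMap R (FractionRing R) t) :=
    IsLocalization.map_units (FractionRing R) (⟨t, ht⟩ : nonZeroDivisors R)
  obtain ⟨z, hz⟩ : ∃ z : FractionRing R, z * algebraMap R (FractionRing R) t =
      algebraMap R (FractionRing R) y :=
    ⟨IsLocalization.mk' (FractionRing R) y (⟨t, ht⟩ : nonZeroDivisors R),
      IsLocalization.mk'_spec (FractionRing R) y (⟨t, ht⟩ : nonZeroDivisors R)⟩
  -- F1
  have F1 : ∀ a ∈ maximalIdeal R, ∃ r : R, z * algebraMap R (FractionRing R) a =
      algebraMap R (FractionRing R) r := by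
    intro a ha
    obtain ⟨r, hr⟩ := (Groth.Agent.H15.DepthOne.mem_smul_top_iff t _).mp (hy2 a ha)
    refine ⟨r, ?_⟩
    apply hτ.mul_left_injective
    show z * algebraMap R (FractionRing R) a * algebraMap R (FractionRing R) t =
      algebraMap R (FractionRing R) r * algebraMap R (FractionRing R) t
    rw [mul_right_comm, hz, ← map_mul, ← map_mul]
    congr 1
    rw [smul_eq_mul, smul_eq_mul] at hr
    rw [mul_comm y a, ← hr, mul_comm]
  -- F2
  have F2 : ∀ r : R, algebraMap R (FractionRing R) r ≠ z := by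
    intro r hr
    apply hy1
    rw [Groth.Agent.H15.DepthOne.mem_smul_top_iff]
    refine ⟨r, ?_⟩
    apply hinj
    rw [smul_eq_mul, map_mul, ← hz, ← hr, mul_comm]
  by_cases hB : ∀ a ∈ maximalIdeal R, ∃ r ∈ maximalIdeal R,
      z * algebraMap R (FractionRing R) a = algebraMap R (FractionRing R) r
  · -- case B1
    have C1 : ∀ w ∈ Algebra.adjoin R {z}, ∀ a ∈ maximalIdeal R, ∃ r ∈ maximalIdeal R,
        w * algebraMap R (FractionRing R) a = algebraMap R (FractionRing R) r := by
      intro w hw
      refine Algebra.adjoin_induction (p := fun w _ => ∀ a ∈ maximalIdeal R, ∃ r ∈ maximalIdeal R,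
        w * algebraMap R (FractionRing R) a = algebraMap R (FractionRing R) r) ?_ ?_ ?_ ?_ hw
      · intro w hw a ha
        rw [Set.mem_singleton_iff] at hw
        rw [hw]
        exact hB a ha
      · intro c a ha
        exact ⟨c * a, Ideal.mul_mem_left _ c ha, by rw [map_mul]⟩
      · intro w1 w2 _ _ h1 h2 a ha
        obtain ⟨r1, hr1, e1⟩ := h1 a ha
        obtain ⟨r2, hr2, e2⟩ := h2 a ha
        exact ⟨r1 + r2, Ideal.add_mem _ hr1 hr2, by rw [add_mul, e1, e2, map_add]⟩
      · intro w1 w2 _ _ h1 h2 a ha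
        obtain ⟨r2, hr2, e2⟩ := h2 a ha
        obtain ⟨r1, hr1, e1⟩ := h1 r2 hr2
        exact ⟨r1, hr1, by rw [mul_assoc, e2, e1]⟩
    have hinj' : Function.Injective (algebraMap R (Algebra.adjoin R {z})) := by
      intro a b hab
      apply hinj
      exact congrArg Subtype.val hab
    refine ⟨Algebra.adjoin R {z}, inferInstance, inferInstance, hinj'.nontrivial, ?_, ?_,
      ⟨1, ?_, ?_⟩, ?_⟩
    · -- finite
      let μ : (Algebra.adjoin R {z}) →ₗ[R] FractionRing R :=
        (LinearMap.mulRight R (algebraMap R (FractionRing R) t)).comp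
          (Algebra.adjoin R {z}).val.toLinearMap
      have hμ : ∀ w, μ w = w.1 * algebraMap R (FractionRing R) t := fun w => rfl
      have hμr : ∀ w, μ w ∈ LinearMap.range (Algebra.linearMap R (FractionRing R)) := by
        intro w
        obtain ⟨r, _, hr⟩ := C1 w.1 w.2 t htm
        exact ⟨r, by rw [hμ, hr]; rfl⟩
      haveI : IsNoetherian R (LinearMap.range (Algebra.linearMap R (FractionRing R))) :=
        isNoetherian_of_linearEquiv
          (LinearEquiv.ofInjective (Algebra.linearMap R (FractionRing R)) hinj)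
      refine Module.Finite.of_injective (μ.codRestrict _ hμr) ?_
      intro w1 w2 h
      have h' : μ w1 = μ w2 := congrArg Subtype.val h
      rw [hμ, hμ] at h'
      exact Subtype.ext (hτ.mul_left_injective h')
    · -- not bijective
      intro hb
      obtain ⟨r, hr⟩ := hb.2 ⟨z, Algebra.subset_adjoin (Set.mem_singleton z)⟩
      exact F2 r (congrArg Subtype.val hr)
    · intro x hx a _
      have : x = 0 := hinj' (by rw [hx, map_zero])
      rw [this, mul_zero]
    · intro w a ha
      rw [pow_one] at ha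
      obtain ⟨r, _, hr⟩ := C1 w.1 w.2 a ha
      refine ⟨r, Subtype.ext ?_⟩
      show algebraMap R (FractionRing R) r = ((a • w : Algebra.adjoin R {z}) : FractionRing R)
      rw [← hr, mul_comm, Algebra.smul_def]
      rfl
    · intro hass
      rw [AssociatedPrimes.mem_iff, isAssociatedPrime_iff] at hass
      obtain ⟨_, w, hw⟩ := hass
      have h3 : t ∈ Submodule.colon (⊥ : Submodule R (Algebra.adjoin R {z})) {w} := hw ▸ htm
      rw [Submodule.mem_colon_singleton, Submodule.mem_bot] at h3
      have h4 : algebraMap R (FractionRing R) t * w.1 = 0 := by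
        have := congrArg Subtype.val h3
        rw [Algebra.smul_def] at this
        exact this
      have h5 : w = 0 := Subtype.ext (by
        exact hτ.mul_right_injective (a₁ := w.1) (a₂ := 0)
          (show algebraMap R (FractionRing R) t * w.1 = algebraMap R (FractionRing R) t * 0 by
            rw [h4, mul_zero]))
      have h6 : (1 : R) ∈ maximalIdeal R := by
        rw [hw, Submodule.mem_colon_singleton, h5, smul_zero]
        exact Submodule.zero_mem _
      exact (Ideal.ne_top_iff_one _).mp (Ideal.IsMaximal.ne_top inferInstance) h6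
  · -- case B2 : R is regular of dimension one
    exfalso
    push_neg at hB
    obtain ⟨a, ha, hra⟩ := hB
    obtain ⟨r, hr⟩ := F1 a ha
    have hrm : r ∉ maximalIdeal R := fun h => hra r h hr
    have hru : IsUnit r := by
      by_contra h
      exact hrm ((mem_maximalIdeal r).mpr h)
    obtain ⟨u, hu⟩ := hru
    set a' : R := ↑u⁻¹ * a with ha'
    have ha'm : a' ∈ maximalIdeal R := Ideal.mul_mem_left _ _ ha
    have hza' : z * algebraMap R (FractionRing R) a' = 1 := by
      rw [ha', map_mul, mul_left_comm, hr, ← map_mul, ← hu, Units.inv_mul, map_one]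
    have hspan : maximalIdeal R = Ideal.span {a'} := by
      apply le_antisymm
      · intro b hb
        obtain ⟨s, hs⟩ := F1 b hb
        rw [Ideal.mem_span_singleton']
        refine ⟨s, hinj ?_⟩
        rw [map_mul, ← hs, mul_assoc, mul_comm (algebraMap R (FractionRing R) b), ← mul_assoc,
          hza', one_mul]
      · rw [Ideal.span_le, Set.singleton_subset_iff]
        exact ha'm
    have h3 : ((maximalIdeal R).spanFinrank : WithBot ℕ∞) ≤ 1 := by
      have h4 : (maximalIdeal R).spanFinrank ≤ 1 := by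
        rw [hspan]
        have := Submodule.spanFinrank_span_le_ncard_of_finite (R := R) (Set.finite_singleton a')
        rwa [Set.ncard_singleton] at this
      exact_mod_cast h4
    have h5 := one_le_ringKrullDim h1
    have hreg : IsRegularLocalRing R := IsRegularLocalRing.of_spanFinrank_maximalIdeal_le R (h3.trans h5)
    refine h2 ⟨hreg, le_antisymm ?_ h5⟩
    rw [← hreg.spanFinrank_maximalIdeal]
    exact h3

end Aux

/-- Let R be a Noetherian local ring which is not Artinian, is not a regular local ring of dimension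
one, and has depth at most one. Then there is a finite ring map R → R' with R' ≠ 0, not bijective,
whose kernel and cokernel are killed by a power of the maximal ideal of R, such that the maximal
ideal of R is not an associated prime of the R-module R'. (This says that the four cases for a
Noetherian local ring — Artinian, regular of dimension one, depth at least two, or admitting such a
map — cover everything; that they are mutually exclusive is not asserted.) -/
theorem result {R : Type u} [CommRing R] [IsLocalRing R] [IsNoetherianRing R]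
    (h1 : ¬ IsArtinianRing R) (h2 : ¬ (IsRegularLocalRing R ∧ ringKrullDim R = 1))
    (h3 : LocCoh.depth R R ≤ 1) :
    ∃ (R' : Type u) (_ : CommRing R') (_ : Algebra R R'), Nontrivial R' ∧ Module.Finite R R' ∧
      ¬ Function.Bijective (algebraMap R R') ∧
      (∃ n : ℕ, (∀ x : R, algebraMap R R' x = 0 → ∀ a ∈ IsLocalRing.maximalIdeal R ^ n, a * x = 0) ∧
        (∀ y : R', ∀ a ∈ IsLocalRing.maximalIdeal R ^ n, a • y ∈ Set.range (algebraMap R R'))) ∧
      IsLocalRing.maximalIdeal R ∉ associatedPrimes R R' := by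
  classical
  have hm : IsLocalRing.maximalIdeal R • (⊤ : Submodule R R) ≠ ⊤ := by
    rw [smul_eq_mul, Ideal.mul_top]
    exact Ideal.IsMaximal.ne_top inferInstance
  have hno2 : ¬ Groth.Agent.H15.Depth.HasSeq (IsLocalRing.maximalIdeal R) R 2 := fun h => by
    have h4 := (Groth.Agent.H15.Depth.le_idealDepth_iff hm 2).mpr h
    have h3' : LocCoh.idealDepth (IsLocalRing.maximalIdeal R) R ≤ 1 := h3
    have h5 := h4.trans h3'
    exact absurd h5 (by norm_num)
  rcases Groth.Agent.H15.Depth.exists_regular_or_hasSocle (I := IsLocalRing.maximalIdeal R) R with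
    ⟨t, htm, htreg⟩ | hs
  · rcases Groth.Agent.H15.Depth.exists_regular_or_hasSocle (I := IsLocalRing.maximalIdeal R)
      (QuotSMulTop t R) with ⟨s, hsm, hsreg⟩ | hs
    · exact absurd (Groth.Agent.H15.Depth.hasSeq_succ_iff.mpr ⟨t, htm, htreg,
        Groth.Agent.H15.Depth.hasSeq_succ_iff.mpr ⟨s, hsm, hsreg,
          Groth.Agent.H15.Depth.hasSeq_zero⟩⟩) hno2
    · obtain ⟨y, hy1, hy2⟩ := Groth.Agent.H15.Depth.hasSocle_quotSMulTop_iff.mp hs
      exact caseB h1 h2 t htm htreg y hy1 hy2
  · exact caseA h1 hs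

end Groth.Agent.S2058
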