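import Groth.Statements.S2061
import Groth.Agent.S0562
import Groth.Agent.H72.RegLoc

set_option autoImplicit false
universe u
open CategoryTheory
open CAlg

namespace Groth.Agent.S2061

open Groth.Agent.H72.PdLocal Groth.Agent.H72.PdExt Groth.Agent.H72.RegLoc

/-- For a Noetherian local ring `R` write `𝔪` for its maximal ideal and `κ` for its residue field. The
projective dimension of `κ` as an `R`-module is at least the `κ`-dimension of `𝔪/𝔪²`: if `κ` has
projective dimension less than `d` then `dim_κ 𝔪/𝔪² < d`. -/
theorem result {R : Type u} [CommRing R] [IsLocalRing R]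
    [IsNoetherianRing R] (d : ℕ)
    (hd : HasProjectiveDimensionLT (ModuleCat.of R (IsLocalRing.ResidueField R)) d) :
    Module.finrank (IsLocalRing.ResidueField R) (IsLocalRing.CotangentSpace R) < d := by
  classical
  have hreg : IsRegularLocalRing R := Groth.Agent.S0562.result R d hd
  have hfin : Module.Finite R (IsLocalRing.ResidueField R) :=
    Module.Finite.of_surjective (Algebra.linearMap R (IsLocalRing.ResidueField R))
      IsLocalRing.residue_surjective
  -- `d ≠ 0`
  obtain ⟨n', rfl⟩ : ∃ n', d = n' + 1 := by
    rcases Nat.eq_zero_or_pos d with h0 | hpos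
    · exfalso
      subst h0
      exact not_subsingleton (IsLocalRing.ResidueField R) ((pdLT_zero_iff _).mp hd)
    · exact ⟨d - 1, by omega⟩
  -- depth of `R`
  have hCM := isCM_of_isRegularLocalRing R
  have hdim : (Module.finrank (IsLocalRing.ResidueField R) (IsLocalRing.CotangentSpace R) :
      WithBot ℕ∞) = ringKrullDim R := (IsRegularLocalRing.iff_finrank_cotangentSpace R).mp hreg
  have hr : LocCoh.depth R R =
      (Module.finrank (IsLocalRing.ResidueField R) (IsLocalRing.CotangentSpace R) : ℕ) := by
    have h1 : Module.supportDim R R = ((LocCoh.depth R R : ℕ∞) : WithBot ℕ∞) := hCM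
    rw [Module.supportDim_self_eq_ringKrullDim, ← hdim] at h1
    have h2 : ((Module.finrank (IsLocalRing.ResidueField R) (IsLocalRing.CotangentSpace R) : ℕ∞) :
        WithBot ℕ∞) = ((LocCoh.depth R R : ℕ∞) : WithBot ℕ∞) := h1
    exact (WithBot.coe_inj.mp h2).symm
  obtain ⟨s, e, hs, hse, hen, -, -⟩ := Groth.Agent.H72.ABLe.exists_depth_add_eq'
    (IsLocalRing.ResidueField R) n' hd _ hr
  have hs0 : s = 0 := by
    by_contra hne
    have h1 : ((1 : ℕ) : ℕ∞) ≤ LocCoh.depth R (IsLocalRing.ResidueField R) := by
      rw [hs]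
      exact_mod_cast Nat.one_le_iff_ne_zero.mpr hne
    obtain ⟨rs, hw, hmem', hlen⟩ := (Groth.Agent.H15.Depth.le_idealDepth_iff
      (Groth.Agent.H29.maximalIdeal_smul_top_ne_top R (IsLocalRing.ResidueField R)) 1).mp h1
    obtain ⟨x, rfl⟩ := List.length_eq_one_iff.mp hlen
    have hreg' : IsSMulRegular (IsLocalRing.ResidueField R) x :=
      ((RingTheory.Sequence.isWeaklyRegular_cons_iff (IsLocalRing.ResidueField R) x []).mp hw).1
    have hx : x ∈ IsLocalRing.maximalIdeal R := hmem' x (List.mem_singleton_self x)
    have h10 : (1 : IsLocalRing.ResidueField R) = 0 := by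
      apply hreg'
      show x • (1 : IsLocalRing.ResidueField R) = x • (0 : IsLocalRing.ResidueField R)
      rw [smul_zero, Algebra.smul_def, mul_one, IsLocalRing.ResidueField.algebraMap_eq,
        IsLocalRing.residue_eq_zero_iff]
      exact hx
    exact one_ne_zero h10
  omega

end Groth.Agent.S2061
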