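import Groth.Statements.S2065
import Groth.Agent.H26.BE2
import Groth.Agent.S19962

set_option autoImplicit false
universe u
open CAlg

namespace Groth.Agent.S2065

/-- Let `R` be a Noetherian local ring and `0 → R^{n_e} → … → R^{n_1} → R^{n_0}` a complex of finite
free modules, the map `R^{n_{i+1}} → R^{n_i}` being given by the matrix `A i`. The complex is exact
at `R^{n_e}, …, R^{n_1}` if and only if for each `1 ≤ j ≤ e` the matrix of `R^{n_j} → R^{n_{j-1}}`
has rank `n_j - n_{j+1} + … ± n_e` and its ideal of minors of that size is the unit ideal or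
contains a regular sequence of length `j`. -/
theorem result {R : Type u} [CommRing R] [IsLocalRing R] [IsNoetherianRing R]
    (e : ℕ) (he : 1 ≤ e) (n : ℕ → ℕ) (A : (i : ℕ) → Matrix (Fin (n i)) (Fin (n (i + 1))) R)
    (hA : ∀ i, i + 2 ≤ e → A i * A (i + 1) = 0) :
    (LinearMap.ker (A (e - 1)).mulVecLin = ⊥ ∧
        ∀ i, i + 2 ≤ e → LinearMap.ker (A i).mulVecLin = LinearMap.range (A (i + 1)).mulVecLin) ↔
      ∀ j, 1 ≤ j → j ≤ e →
        (CAlgX.matrixRank (A (j - 1)) : ℤ) = ∑ t ∈ Finset.Icc j e, (-1 : ℤ) ^ (t - j) * (n t : ℤ) ∧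
          (CAlgX.detIdeal (A (j - 1)) = ⊤ ∨
            ∃ rs : List R, rs.length = j ∧ (∀ r ∈ rs, r ∈ CAlgX.detIdeal (A (j - 1))) ∧
              RingTheory.Sequence.IsRegular R rs) := by
  constructor
  · rintro ⟨h0, h1⟩
    have hex : ∀ i, i < e → LinearMap.ker (Groth.Agent.S18128.DD e n A i) =
        LinearMap.range (Groth.Agent.S18128.DD e n A (i + 1)) := by
      intro i hi
      by_cases h2 : i + 2 ≤ e
      · rw [Groth.Agent.S18128.DD_pos e n A i (by omega),
          Groth.Agent.S18128.DD_pos e n A (i + 1) h2]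
        exact h1 i h2
      · have hie : i = e - 1 := by omega
        subst hie
        rw [Groth.Agent.S18128.DD_pos e n A (e - 1) (by omega),
          Groth.Agent.S18128.DD_neg e n A (e - 1 + 1) (by omega), LinearMap.range_zero]
        exact h0
    intro j hj1 hje
    obtain ⟨i, rfl⟩ : ∃ i, j = i + 1 := ⟨j - 1, by omega⟩
    have hie : i < e := by omega
    show (CAlgX.matrixRank (A i) : ℤ) = _ ∧ (CAlgX.detIdeal (A i) = ⊤ ∨
      ∃ rs : List R, rs.length = i + 1 ∧ (∀ r ∈ rs, r ∈ CAlgX.detIdeal (A i)) ∧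
        RingTheory.Sequence.IsRegular R rs)
    obtain ⟨hnn, hnb, hvan⟩ := Groth.Agent.H26.BE2.rank_claim e n A hA hex i hie
    have hrank : CAlgX.matrixRank (A i) = (Groth.Agent.H26.BE2.Sint e n (i + 1)).toNat := by
      unfold CAlgX.matrixRank
      apply IsGreatest.csSup_eq
      refine ⟨hnb, mem_upperBounds.2 ?_⟩
      intro r hr
      by_contra hlt
      exact hr (hvan r (by omega))
    have hdet : CAlgX.detIdeal (A i) =
        CAlgX.minorIdeal (A i) (Groth.Agent.H26.BE2.Sint e n (i + 1)).toNat := by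
      unfold CAlgX.detIdeal
      rw [hrank]
    refine ⟨?_, ?_⟩
    · rw [hrank, Int.toNat_of_nonneg hnn]
      rfl
    · rw [hdet]
      by_cases htop : CAlgX.minorIdeal (A i) (Groth.Agent.H26.BE2.Sint e n (i + 1)).toNat = ⊤
      · exact Or.inl htop
      · right
        obtain ⟨rs, hw, hmem, hlen⟩ :=
          Groth.Agent.H26.BE2.grade_claim e n A hA hex i hie _ rfl htop
        refine ⟨rs, hlen, hmem, ?_⟩
        exact (IsLocalRing.isRegular_iff_isWeaklyRegular_of_subset_maximalIdeal
          (fun r hr => IsLocalRing.le_maximalIdeal htop (hmem r hr))).2 hw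
  · intro h
    exact Groth.Agent.S19962.result e he n A hA (fun j h1 h2 => (h j h1 h2).1)
      (fun j h1 h2 => (h j h1 h2).2)

end Groth.Agent.S2065
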