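import Groth.Statements.S2071
import Mathlib
-- import your own Groth.Agent.* helpers here

set_option autoImplicit false
universe u
open CAlg

namespace Groth.Agent.S2071

section helpers

theorem key_alg {P Ω : Type*} [Field P] [Field Ω] [Algebra P Ω] (θ θ' : Ω) (hne : θ' ≠ θ)
    (h0 : θ ≠ 0) (h1 : θ + 1 ≠ 0) (n₀ n₁ : ℕ) (hn₀ : 0 < n₀) (hn₁ : 0 < n₁)
    (e₀ : θ' ^ n₀ = θ ^ n₀) (e₁ : (θ' + 1) ^ n₁ = (θ + 1) ^ n₁) :
    IsAlgebraic P θ ∧ IsAlgebraic P θ' := by
  obtain ⟨ζ₀, hζ₀⟩ : ∃ ζ : Ω, ζ = θ' / θ := ⟨_, rfl⟩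
  obtain ⟨ζ₁, hζ₁⟩ : ∃ ζ : Ω, ζ = (θ' + 1) / (θ + 1) := ⟨_, rfl⟩
  have hz0 : IsAlgebraic P ζ₀ := by
    apply IsAlgebraic.of_pow hn₀
    rw [hζ₀, div_pow, e₀, div_self (pow_ne_zero _ h0)]
    exact isAlgebraic_one
  have hz1 : IsAlgebraic P ζ₁ := by
    apply IsAlgebraic.of_pow hn₁
    rw [hζ₁, div_pow, e₁, div_self (pow_ne_zero _ h1)]
    exact isAlgebraic_one
  have r0 : θ' = ζ₀ * θ := by rw [hζ₀]; field_simp
  have r1 : θ' + 1 = ζ₁ * (θ + 1) := by rw [hζ₁]; field_simp
  have rel : ζ₀ * θ + 1 = ζ₁ * (θ + 1) := by rw [← r0]; exact r1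
  have hζ1 : ζ₁ ≠ 1 := by
    intro h; rw [h, one_mul] at r1; exact hne (add_right_cancel r1)
  have hd : ζ₀ - ζ₁ ≠ 0 := by
    intro h
    have h' : ζ₀ = ζ₁ := sub_eq_zero.mp h
    apply hζ1
    rw [h'] at rel
    linear_combination -rel
  have hθ : θ = (ζ₁ - 1) / (ζ₀ - ζ₁) := by
    rw [eq_div_iff hd]
    linear_combination rel
  have hθalg : IsAlgebraic P θ := by
    rw [hθ, div_eq_mul_inv]
    exact (hz1.sub isAlgebraic_one).mul (IsAlgebraic.inv_iff.mpr (hz0.sub hz1))
  exact ⟨hθalg, r0 ▸ hz0.mul hθalg⟩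

open Polynomial in
theorem conj_pow {k k' Ω : Type*} [Field k] [Field k'] [Field Ω] [Algebra k k'] [Algebra k' Ω]
    [Algebra k Ω] [IsScalarTower k k' Ω] (θ : k') (θ' : Ω)
    (hθ' : aeval θ' (minpoly k θ) = 0) (c : k) (n : ℕ) (a : k)
    (h : (θ + algebraMap k k' c) ^ n = algebraMap k k' a) :
    (θ' + algebraMap k Ω c) ^ n = (algebraMap k' Ω θ + algebraMap k Ω c) ^ n := by
  have hdvd : minpoly k θ ∣ (X + C c) ^ n - C a := minpoly.dvd k θ (by simp [h])
  obtain ⟨q, hq⟩ := hdvd
  have h2 : aeval θ' ((X + C c) ^ n - C a) = 0 := by rw [hq, map_mul, hθ', zero_mul]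
  simp only [map_sub, map_pow, map_add, aeval_X, aeval_C] at h2
  rw [sub_eq_zero] at h2
  rw [h2, IsScalarTower.algebraMap_apply k k' Ω a, ← h, map_pow, map_add,
    ← IsScalarTower.algebraMap_apply]

/-- an element algebraic over a finite subfield is zero or of finite order -/
theorem pow_eq_of_finite {K : Type*} [Field K] (P : Subfield K) [Finite P] (x : K)
    (hx : IsAlgebraic P x) : x = 0 ∨ ∃ n : ℕ, 0 < n ∧ x ^ n = 1 := by
  have hint : IsIntegral P x := hx.isIntegral
  haveI : Module.Finite P (Algebra.adjoin P {x}) :=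
    Module.Finite.iff_fg.mpr hint.fg_adjoin_singleton
  haveI : Finite (Algebra.adjoin P {x}) := Module.finite_of_finite P
  have hxmem : x ∈ Algebra.adjoin P {x} := Algebra.subset_adjoin (Set.mem_singleton x)
  obtain ⟨a, b, hab, he⟩ := Finite.exists_ne_map_eq_of_infinite
    (fun n : ℕ => (⟨x, hxmem⟩ : Algebra.adjoin P {x}) ^ n)
  have he' : x ^ a = x ^ b := by
    have := congrArg (fun y : Algebra.adjoin P {x} => (y : K)) he
    simpa using this
  by_cases hx0 : x = 0
  · left; exact hx0
  · right
    rcases lt_or_gt_of_ne hab with hlt | hlt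
    · refine ⟨b - a, Nat.sub_pos_of_lt hlt, ?_⟩
      have : x ^ a * x ^ (b - a) = x ^ a * 1 := by
        rw [← pow_add, Nat.add_sub_cancel' hlt.le, mul_one, he']
      exact mul_left_cancel₀ (pow_ne_zero _ hx0) this
    · refine ⟨a - b, Nat.sub_pos_of_lt hlt, ?_⟩
      have : x ^ b * x ^ (a - b) = x ^ b * 1 := by
        rw [← pow_add, Nat.add_sub_cancel' hlt.le, mul_one, he']
      exact mul_left_cancel₀ (pow_ne_zero _ hx0) this

end helpers

section fwd

set_option maxHeartbeats 1600000 in
theorem forward {k k' : Type u} [Field k] [Field k'] [Algebra k k']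
    (H : ∀ x : k', ∃ n : ℕ, 0 < n ∧ x ^ n ∈ Set.range (algebraMap k k'))
    (hns : ¬ Function.Surjective (algebraMap k k')) :
    ∃ p : ℕ, p.Prime ∧ CharP k' p ∧
      (IsPurelyInseparable k k' ∨ Algebra.IsAlgebraic (⊥ : Subfield k') k') := by
  classical
  haveI halg : Algebra.IsAlgebraic k k' := ⟨fun x => by
    obtain ⟨n, hn, a, ha⟩ := H x
    exact IsAlgebraic.of_pow hn (ha ▸ isAlgebraic_algebraMap a)⟩
  have extract : ∀ θ : k', IsSeparable k θ → θ ∉ Set.range (algebraMap k k') →
      ∃ θ' : AlgebraicClosure k', θ' ≠ algebraMap k' (AlgebraicClosure k') θ ∧ ∀ c : k,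
        ∃ n : ℕ, 0 < n ∧ (θ' + algebraMap k (AlgebraicClosure k') c) ^ n =
          (algebraMap k' (AlgebraicClosure k') θ + algebraMap k (AlgebraicClosure k') c) ^ n := by
    intro θ hsep hθ
    have hint : IsIntegral k θ := (halg.isAlgebraic θ).isIntegral
    have hdeg : 2 ≤ (minpoly k θ).natDegree :=
      (minpoly.two_le_natDegree_iff hint).mpr (fun h => hθ (by simpa using h))
    have hcard : Fintype.card ((minpoly k θ).rootSet (AlgebraicClosure k')) =
        (minpoly k θ).natDegree :=
      Polynomial.card_rootSet_eq_natDegree hsep (IsAlgClosed.splits _)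
    have hmem : algebraMap k' (AlgebraicClosure k') θ ∈
        (minpoly k θ).rootSet (AlgebraicClosure k') := by
      rw [Polynomial.mem_rootSet]
      refine ⟨minpoly.ne_zero hint, ?_⟩
      rw [Polynomial.aeval_algebraMap_apply, minpoly.aeval, map_zero]
    have h2 : 1 < Fintype.card ((minpoly k θ).rootSet (AlgebraicClosure k')) := by
      rw [hcard]; omega
    obtain ⟨⟨θ', hθ'mem⟩, hne⟩ := Fintype.exists_ne_of_one_lt_card h2 ⟨_, hmem⟩
    refine ⟨θ', fun h => hne (Subtype.ext h), fun c => ?_⟩
    obtain ⟨n, hn, a, ha⟩ := H (θ + algebraMap k k' c)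
    exact ⟨n, hn, conj_pow θ θ' ((Polynomial.mem_rootSet.mp hθ'mem).2) c n a ha.symm⟩
  obtain ⟨θ₀, hθ₀⟩ : ∃ θ₀ : k', θ₀ ∉ Set.range (algebraMap k k') := by
    by_contra h; push Not at h; exact hns h
  obtain ⟨p, hchar⟩ := CharP.exists k'
  haveI := hchar
  rcases CharP.char_is_prime_or_zero k' p with hp | hp0
  swap
  · exfalso
    subst hp0
    haveI : CharZero k' := CharP.charP_to_charZero k'
    haveI : CharZero k :=
      ((algebraMap k k').charZero_iff (algebraMap k k').injective).mpr inferInstance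
    haveI : CharZero (AlgebraicClosure k') :=
      charZero_of_injective_algebraMap (algebraMap k' (AlgebraicClosure k')).injective
    have hsep : IsSeparable k θ₀ :=
      (minpoly.irreducible (halg.isAlgebraic θ₀).isIntegral).separable
    obtain ⟨θ', hne, hpow⟩ := extract θ₀ hsep hθ₀
    obtain ⟨ι, hι⟩ : ∃ ι : AlgebraicClosure k', ι = algebraMap k' (AlgebraicClosure k') θ₀ :=
      ⟨_, rfl⟩
    rw [← hι] at hne hpow
    have hnat : ∀ c : ℕ, ∃ n : ℕ, 0 < n ∧
        (θ' + (c : AlgebraicClosure k')) ^ n = (ι + (c : AlgebraicClosure k')) ^ n := by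
      intro c
      obtain ⟨n, hn, h⟩ := hpow (c : k)
      exact ⟨n, hn, by simpa using h⟩
    have hιc : ∀ c : ℕ, ι + (c : AlgebraicClosure k') ≠ 0 := by
      intro c h
      apply hθ₀
      refine ⟨-(c : k), ?_⟩
      have h2 : algebraMap k' (AlgebraicClosure k') θ₀ =
          algebraMap k' (AlgebraicClosure k') (-(c : k')) := by
        rw [map_neg, map_natCast, ← hι]; exact eq_neg_of_add_eq_zero_left h
      rw [map_neg, map_natCast]
      exact ((algebraMap k' (AlgebraicClosure k')).injective h2).symm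
    obtain ⟨n₀, hn₀, e₀⟩ := hnat 0
    obtain ⟨n₁, hn₁, e₁⟩ := hnat 1
    simp only [Nat.cast_zero, add_zero, Nat.cast_one] at e₀ e₁
    have hι0 : ι ≠ 0 := by simpa using hιc 0
    have hι1 : ι + 1 ≠ 0 := by simpa using hιc 1
    obtain ⟨halgι, halgθ'⟩ := key_alg (P := ℚ) ι θ' hne hι0 hι1 n₀ n₁ hn₀ hn₁ e₀ e₁
    obtain ⟨F, hF⟩ : ∃ F : IntermediateField ℚ (AlgebraicClosure k'),
        F = IntermediateField.adjoin ℚ {ι, θ'} := ⟨_, rfl⟩
    haveI : FiniteDimensional ℚ F := by
      rw [hF]
      refine IntermediateField.finiteDimensional_adjoin ?_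
      intro x hx
      rcases hx with rfl | hx
      · exact halgι.isIntegral
      · rw [Set.mem_singleton_iff] at hx; rw [hx]; exact halgθ'.isIntegral
    haveI : NumberField F := { }
    have hιF : ι ∈ F := by
      rw [hF]; exact IntermediateField.subset_adjoin ℚ _ (Set.mem_insert _ _)
    have hθ'F : θ' ∈ F := by
      rw [hF]; exact IntermediateField.subset_adjoin ℚ _ (Set.mem_insert_of_mem _ rfl)
    obtain ⟨z, hz⟩ : ∃ z : ℕ → F, ∀ c, ((z c : F) : AlgebraicClosure k') =
        (θ' + (c : AlgebraicClosure k')) / (ι + (c : AlgebraicClosure k')) :=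
      ⟨fun c => ⟨(θ' + (c : AlgebraicClosure k')) / (ι + (c : AlgebraicClosure k')),
        F.div_mem (F.add_mem hθ'F (natCast_mem F c)) (F.add_mem hιF (natCast_mem F c))⟩,
        fun c => rfl⟩
    have hzinj : Function.Injective z := by
      intro c d hcd
      have h := congrArg (fun y : F => (y : AlgebraicClosure k')) hcd
      simp only [hz] at h
      rw [div_eq_div_iff (hιc c) (hιc d)] at h
      have h2 : (θ' - ι) * ((d : AlgebraicClosure k') - (c : AlgebraicClosure k')) = 0 := by
        linear_combination h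
      rcases mul_eq_zero.mp h2 with h3 | h3
      · exact absurd (sub_eq_zero.mp h3) hne
      · exact (Nat.cast_injective (sub_eq_zero.mp h3)).symm
    have hzT : ∀ c, z c ∈ {x : F | IsIntegral ℤ x ∧ ∀ φ : F →+* ℂ, ‖φ x‖ ≤ 1} := by
      intro c
      obtain ⟨n, hn, h⟩ := hnat c
      have hpow1 : z c ^ n = 1 := by
        apply Subtype.ext
        rw [IntermediateField.coe_pow, IntermediateField.coe_one, hz, div_pow, h,
          div_self (pow_ne_zero _ (hιc c))]
      refine ⟨IsIntegral.of_pow hn (hpow1 ▸ isIntegral_one), fun φ => ?_⟩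
      have : ‖φ (z c)‖ ^ n = 1 := by rw [← norm_pow, ← map_pow, hpow1, map_one, norm_one]
      exact ((pow_eq_one_iff_of_nonneg (norm_nonneg _) hn.ne').mp this).le
    exact (Set.infinite_range_of_injective hzinj).mono (Set.range_subset_iff.mpr hzT)
      (NumberField.Embeddings.finite_of_norm_le F ℂ 1)
  · refine ⟨p, hp, hchar, ?_⟩
    by_cases hpi : IsPurelyInseparable k k'
    · exact Or.inl hpi
    · right
      haveI : Fact p.Prime := ⟨hp⟩
      haveI : CharP (AlgebraicClosure k') p :=
        charP_of_injective_algebraMap (algebraMap k' (AlgebraicClosure k')).injective p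
      letI : Algebra (ZMod p) k' := ZMod.algebra k' p
      letI : Algebra (ZMod p) (AlgebraicClosure k') := ZMod.algebra (AlgebraicClosure k') p
      have hcomp : (algebraMap k' (AlgebraicClosure k')).comp (algebraMap (ZMod p) k') =
          algebraMap (ZMod p) (AlgebraicClosure k') := Subsingleton.elim _ _
      have hsepalg : ∀ θ : k', IsSeparable k θ → θ ∉ Set.range (algebraMap k k') →
          IsAlgebraic (ZMod p) θ := by
        intro θ hsep hθ
        obtain ⟨θ', hne, hpow⟩ := extract θ hsep hθ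
        obtain ⟨n₀, hn₀, e₀⟩ := hpow 0
        obtain ⟨n₁, hn₁, e₁⟩ := hpow 1
        simp only [map_zero, add_zero, map_one] at e₀ e₁
        have h0 : algebraMap k' (AlgebraicClosure k') θ ≠ 0 := by
          intro h; apply hθ
          exact ⟨0, by rw [map_zero]; exact ((map_eq_zero _).mp h).symm⟩
        have h1 : algebraMap k' (AlgebraicClosure k') θ + 1 ≠ 0 := by
          intro h; apply hθ
          refine ⟨-1, ?_⟩
          have h2 : algebraMap k' (AlgebraicClosure k') (θ + 1) = 0 := by
            rw [map_add, map_one]; exact h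
          have h3 := (map_eq_zero _).mp h2
          rw [map_neg, map_one]; exact (eq_neg_of_add_eq_zero_left h3).symm
        have h4 := (key_alg (P := ZMod p) (algebraMap k' (AlgebraicClosure k') θ) θ' hne h0 h1
          n₀ n₁ hn₀ hn₁ e₀ e₁).1
        obtain ⟨q, hq0, hq⟩ := h4
        refine ⟨q, hq0, (algebraMap k' (AlgebraicClosure k')).injective ?_⟩
        rw [map_zero, Polynomial.aeval_def, Polynomial.hom_eval₂, hcomp, ← Polynomial.aeval_def]
        exact hq
      obtain ⟨θ, hθsep, hθk⟩ : ∃ θ : k', IsSeparable k θ ∧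
          θ ∉ Set.range (algebraMap k k') := by
        by_contra hcon
        push Not at hcon
        apply hpi
        rw [← separableClosure.eq_bot_iff, eq_bot_iff]
        intro x hx
        obtain ⟨a, rfl⟩ := hcon x (mem_separableClosure_iff.mp hx)
        exact IntermediateField.algebraMap_mem ⊥ a
      have hθalg := hsepalg θ hθsep hθk
      have hkalg : ∀ a : k, IsAlgebraic (ZMod p) (algebraMap k k' a) := by
        intro a
        have hsum_sep : IsSeparable k (θ + algebraMap k k' a) := by
          rw [← mem_separableClosure_iff]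
          exact add_mem (mem_separableClosure_iff.mpr hθsep)
            ((separableClosure k k').algebraMap_mem a)
        have hsum_k : θ + algebraMap k k' a ∉ Set.range (algebraMap k k') := by
          rintro ⟨b, hb⟩
          apply hθk
          exact ⟨b - a, by rw [map_sub, hb]; ring⟩
        have h5 := (hsepalg _ hsum_sep hsum_k).sub hθalg
        simpa using h5
      have hsepall : ∀ y : k', IsSeparable k y → IsAlgebraic (ZMod p) y := by
        intro y hy
        by_cases hyk : y ∈ Set.range (algebraMap k k')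
        · obtain ⟨a, rfl⟩ := hyk; exact hkalg a
        · exact hsepalg y hy hyk
      have hall : ∀ x : k', IsAlgebraic (ZMod p) x := by
        intro x
        haveI : CharP (separableClosure k k') p :=
          (algebraMap (separableClosure k k') k').charP
            (algebraMap (separableClosure k k') k').injective p
        haveI : ExpChar (separableClosure k k') p := ExpChar.prime hp
        obtain ⟨n, hn⟩ := IsPurelyInseparable.pow_mem (separableClosure k k') p x
        obtain ⟨y, hy⟩ := hn
        have hsep : IsSeparable k (x ^ p ^ n) := by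
          rw [← hy]; exact mem_separableClosure_iff.mp y.2
        exact IsAlgebraic.of_pow (pow_pos hp.pos n) (hsepall _ hsep)
      have hbot : ∀ x : ZMod p, algebraMap (ZMod p) k' x ∈ (⊥ : Subfield k') := by
        intro x
        rw [Subfield.bot_eq_of_zMod_algebra p]; exact ⟨x, rfl⟩
      obtain ⟨j, hj⟩ : ∃ j : ZMod p →+* (⊥ : Subfield k'),
          (algebraMap (⊥ : Subfield k') k').comp j = algebraMap (ZMod p) k' :=
        ⟨RingHom.codRestrict (algebraMap (ZMod p) k') (⊥ : Subfield k') hbot,
          RingHom.ext fun x => rfl⟩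
      refine ⟨fun x => ?_⟩
      obtain ⟨q, hq0, hq⟩ := hall x
      refine ⟨q.map j, (Polynomial.map_ne_zero_iff j.injective).mpr hq0, ?_⟩
      rw [Polynomial.aeval_def, Polynomial.eval₂_map, hj, ← Polynomial.aeval_def]
      exact hq

end fwd

/-- For a field extension `k'/k`, every element of `k'` has a positive power in `k` if and only if
either `k' = k`, or the characteristic is a prime `p` and either `k'/k` is purely inseparable or
`k'` is algebraic over its prime field. -/
theorem result {k k' : Type u} [Field k] [Field k'] [Algebra k k'] :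
    (∀ x : k', ∃ n : ℕ, 0 < n ∧ x ^ n ∈ Set.range (algebraMap k k')) ↔
      Function.Surjective (algebraMap k k') ∨
        ∃ p : ℕ, p.Prime ∧ CharP k' p ∧
          (IsPurelyInseparable k k' ∨ Algebra.IsAlgebraic (⊥ : Subfield k') k') := by
  constructor
  · intro H
    by_cases hs : Function.Surjective (algebraMap k k')
    · exact Or.inl hs
    · exact Or.inr (forward H hs)
  · rintro (hs | ⟨p, hp, hchar, hpi | halg⟩)
    · intro x
      obtain ⟨a, rfl⟩ := hs x
      exact ⟨1, one_pos, a, by simp⟩
    · intro x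
      haveI := hchar
      haveI : CharP k p := (algebraMap k k').charP (algebraMap k k').injective p
      haveI : ExpChar k p := ExpChar.prime hp
      obtain ⟨n, hn⟩ := IsPurelyInseparable.pow_mem k p x
      exact ⟨p ^ n, pow_pos hp.pos n, RingHom.mem_range.mp hn⟩
    · intro x
      haveI := hchar
      haveI : Fact p.Prime := ⟨hp⟩
      letI : Algebra (ZMod p) k' := ZMod.algebra k' p
      haveI : Finite (⊥ : Subfield k') := by
        have h1 : (((algebraMap (ZMod p) k').fieldRange : Subfield k') : Set k').Finite := by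
          rw [RingHom.coe_fieldRange]; exact Set.finite_range _
        rw [Subfield.bot_eq_of_zMod_algebra p]
        exact h1.to_subtype
      rcases pow_eq_of_finite ⊥ x (halg.isAlgebraic x) with h0 | ⟨n, hn, h1⟩
      · exact ⟨1, one_pos, 0, by simp [h0]⟩
      · exact ⟨n, hn, 1, by simp [h1]⟩

end Groth.Agent.S2071
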