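import Groth.Statements.S2076
import Mathlib
import Groth.Agent.H24.LimClosedImm

set_option autoImplicit false
universe u
open CategoryTheory AlgebraicGeometry
open Lim

namespace Groth.Agent.S2076

/-- Let `X = lim X_i` be a cofiltered limit of quasi-compact schemes over `S` with affine transition
morphisms and `h : Y → X` a closed immersion with `Y → S` locally of finite type. Then `Y → X_i` is
a closed immersion for some `i`. -/
theorem result {I : Type u} [SmallCategory I] [IsCofiltered I] (S : Scheme.{u})
    (D : I ⥤ Over S) (c : Limits.Cone D) (hc : Limits.IsLimit c)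
    [∀ (i j : I) (f : i ⟶ j), IsAffineHom (D.map f).left] [∀ i, CompactSpace (D.obj i).left]
    {Y : Scheme.{u}} (h : Y ⟶ c.pt.left) [IsClosedImmersion h] [LocallyOfFiniteType (h ≫ c.pt.hom)] :
    ∃ i : I, IsClosedImmersion (h ≫ (c.π.app i).left) := by
  classical
  haveI : IsConnected I := IsCofiltered.isConnected I
  have hc' : Limits.IsLimit ((Over.forget S).mapCone c) :=
    Limits.isLimitOfPreserves (Over.forget S) hc
  have haff : ∀ {i j : I} (f : i ⟶ j), IsAffineHom ((D ⋙ Over.forget S).map f) := fun f => by
    show IsAffineHom (D.map f).left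
    infer_instance
  obtain ⟨i₀⟩ := IsCofiltered.nonempty (C := I)
  have h1 : CompactSpace ((D ⋙ Over.forget S).obj i₀) :=
    inferInstanceAs (CompactSpace (D.obj i₀).left)
  have h3 : LocallyOfFiniteType (h ≫ (c.π.app i₀).left ≫ (D.obj i₀).hom) := by
    rw [Over.w]; exact ‹LocallyOfFiniteType (h ≫ c.pt.hom)›
  obtain ⟨l, hl⟩ := @H24.exists_isClosedImmersion_stage I _ _ (D ⋙ Over.forget S)
    ((Over.forget S).mapCone c) hc' haff S i₀ h1 (D.obj i₀).hom Y h ‹IsClosedImmersion h› h3
  exact ⟨l.left, hl⟩

end Groth.Agent.S2076
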