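import Groth.Statements.S2088
import Mathlib
import Groth.Agent.H25.ResExt

set_option autoImplicit false
universe u
open CAlg

namespace Groth.Agent.S2088

set_option linter.style.haveILetI false
set_option linter.unusedVariables false
open IsLocalRing


/-- Let `(R, 𝔪, k)` be a local ring and `K/k` a field extension. Then there is a flat local homomorphism
of local rings `R → R'` with `𝔪R' = 𝔪_{R'}` whose residue field is isomorphic to `K` over `k`. -/
theorem result {R K : Type u} [CommRing R] [IsLocalRing R] [Field K]
    [Algebra (IsLocalRing.ResidueField R) K] :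
    ∃ (R' : Type u) (_ : CommRing R') (_ : IsLocalRing R') (_ : Algebra R R') (_ : IsLocalHom (algebraMap R R')),
      Module.Flat R R' ∧ (IsLocalRing.maximalIdeal R).map (algebraMap R R') = IsLocalRing.maximalIdeal R' ∧
      Nonempty (IsLocalRing.ResidueField R' ≃ₐ[IsLocalRing.ResidueField R] K) := by
  letI algRK : Algebra R K := ((algebraMap (ResidueField R) K).comp (residue R)).toAlgebra
  have hAK : ∀ x ∈ maximalIdeal R, algebraMap R K x = 0 := fun x hx => by
    change algebraMap (ResidueField R) K (residue R x) = 0
    rw [(residue_eq_zero_iff x).mpr hx, map_zero]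
  obtain ⟨B, _, _, _, ev, hsurj, hker, hflat, hmax, -⟩ := Groth.Agent.H25.ResExt.main R K hAK
  have hlocal : IsLocalHom (algebraMap R B) :=
    ((local_hom_TFAE (algebraMap R B)).out 0 2).mpr (le_of_eq hmax.symm)
  refine ⟨B, inferInstance, inferInstance, inferInstance, hlocal, hflat, hmax.symm, ⟨?_⟩⟩
  let evb : ResidueField B →+* K := Ideal.Quotient.lift (maximalIdeal B) (ev : B →+* K) hker
  let evA : ResidueField B →ₐ[ResidueField R] K :=
    { evb with
      commutes' := fun x => by
        obtain ⟨r, rfl⟩ := residue_surjective x
        change evb (residue B (algebraMap R B r)) = _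
        change ev (algebraMap R B r) = _
        rw [ev.commutes]
        rfl }
  refine AlgEquiv.ofBijective evA ⟨(evb : ResidueField B →+* K).injective, fun a => ?_⟩
  obtain ⟨b, rfl⟩ := hsurj a
  exact ⟨residue B b, rfl⟩

end Groth.Agent.S2088
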