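import Groth.Statements.S2089
import Groth.Agent.H15.Ischebeck

set_option autoImplicit false
universe u
open CAlg

namespace Groth.Agent.S2089

/-- Let `R` be a Noetherian local ring and `M` a finite `R`-module. For every associated prime `𝔭` of
`M` the depth of `M` is at most the dimension of `R/𝔭`. -/
theorem result {R M : Type u} [CommRing R] [IsLocalRing R] [IsNoetherianRing R]
    [AddCommGroup M] [Module R M] [Module.Finite R M] (p : Ideal R) (hp : p ∈ associatedPrimes R M) :
    ((LocCoh.depth R M : ℕ∞) : WithBot ℕ∞) ≤ ringKrullDim (R ⧸ p) := by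
  obtain ⟨hpp, m, hm⟩ := (isAssociatedPrime_iff).mp hp
  have hm0 : m ≠ 0 := by
    rintro rfl
    apply hpp.ne_top
    rw [hm, eq_top_iff]
    intro a _
    rw [Submodule.mem_colon_singleton, smul_zero]
    exact Submodule.zero_mem _
  have hnt : Nontrivial M := ⟨⟨m, 0, hm0⟩⟩
  have hntq : Nontrivial (R ⧸ p) := Ideal.Quotient.nontrivial_iff.mpr hpp.ne_top
  have hne_bot : ringKrullDim (R ⧸ p) ≠ ⊥ := by
    intro h
    have h3 := ringKrullDim_nonneg_of_nontrivial (R := R ⧸ p)
    rw [h] at h3
    simp at h3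
  have hne_top : ringKrullDim (R ⧸ p) ≠ ⊤ :=
    ne_of_lt (lt_of_le_of_lt (ringKrullDim_quotient_le p) ringKrullDim_lt_top)
  obtain ⟨n, hn⟩ := Groth.Agent.H15.Ischebeck.exists_nat_eq hne_bot hne_top
  rw [hn]
  by_contra hcon
  have hlt : (n : ℕ∞) < LocCoh.depth R M := by
    by_contra h2
    rw [not_lt] at h2
    apply hcon
    exact_mod_cast h2
  have hd : ((n + 1 : ℕ) : ℕ∞) ≤ LocCoh.depth R M := by
    have := Order.add_one_le_of_lt hlt
    exact_mod_cast this
  have hvan := Groth.Agent.H15.Ischebeck.ischebeck M (n + 1) hd n (R ⧸ p)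
    (by rw [Module.supportDim_quotient_eq_ringKrullDim, hn]) 0 (by omega)
  -- a nonzero map R ⧸ p → M
  let φ : (R ⧸ p) →ₗ[R] M := Submodule.liftQ p (LinearMap.toSpanSingleton R M m) (by
    intro a ha
    rw [LinearMap.mem_ker, LinearMap.toSpanSingleton_apply]
    rw [hm, Submodule.mem_colon_singleton] at ha
    exact (Submodule.mem_bot R).mp ha)
  have hφ : φ (Submodule.Quotient.mk 1) = m := by
    change (LinearMap.toSpanSingleton R M m) 1 = m
    rw [LinearMap.toSpanSingleton_apply, one_smul]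
  have h0 : (CategoryTheory.Abelian.Ext.mk₀ (ModuleCat.ofHom φ) :
      CategoryTheory.Abelian.Ext (ModuleCat.of R (R ⧸ p)) (ModuleCat.of R M) 0) = 0 :=
    Subsingleton.elim _ _
  have h1 : ModuleCat.ofHom φ = 0 := by
    apply (CategoryTheory.Abelian.Ext.mk₀_bijective _ _).1
    rw [h0, CategoryTheory.Abelian.Ext.mk₀_zero]
  have h2 : φ = 0 := by
    have := congrArg ModuleCat.Hom.hom h1
    simpa using this
  apply hm0
  rw [← hφ, h2, LinearMap.zero_apply]

end Groth.Agent.S2089
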