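import Groth.Statements.S2090
import Groth.Agent.H26.DepthLib
import Mathlib.RingTheory.Ideal.AssociatedPrime.Localization
import Mathlib.RingTheory.Localization.Finiteness
import Mathlib.RingTheory.Nakayama

set_option autoImplicit false
universe u
open CAlg

namespace Groth.Agent.S2090

open RingTheory.Sequence Groth.Agent.H26.DepthLib in
open scoped Pointwise in
/-- depth ≥ 1: an element killed by the maximal ideal vanishes. -/
lemma eq_zero_of_depth_one (S : Type u) [CommRing S] [IsLocalRing S] [IsNoetherianRing S]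
    (P : Type u) [AddCommGroup P] [Module S P] [Module.Finite S P]
    (h : 1 ≤ LocCoh.depth S P) (x : P)
    (hx : ∀ z ∈ IsLocalRing.maximalIdeal S, z • x = 0) : x = 0 := by
  by_cases hP : IsLocalRing.maximalIdeal S • (⊤ : Submodule S P) = ⊤
  · have hbot : (⊤ : Submodule S P) = ⊥ :=
      Submodule.eq_bot_of_le_smul_of_le_jacobson_bot (IsLocalRing.maximalIdeal S) ⊤
        Module.Finite.fg_top (le_of_eq hP.symm) (IsLocalRing.maximalIdeal_le_jacobson ⊥)
    have h1 : x ∈ (⊥ : Submodule S P) := hbot ▸ Submodule.mem_top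
    exact (Submodule.mem_bot S).1 h1
  · have h1 : ((1 : ℕ) : ℕ∞) ≤ LocCoh.idealDepth (IsLocalRing.maximalIdeal S) P := by
      have h' : (1 : ℕ∞) ≤ LocCoh.idealDepth (IsLocalRing.maximalIdeal S) P := h
      exact_mod_cast h'
    obtain ⟨rs, hlen, hreg, hmem⟩ :=
      exists_of_le_idealDepth (IsLocalRing.maximalIdeal S) 1 h1 hP
    obtain ⟨a, rfl⟩ := List.length_eq_one_iff.1 hlen
    rw [isWeaklyRegular_singleton_iff] at hreg
    apply hreg
    show a • x = a • 0
    rw [smul_zero]
    exact hx a (hmem a (by simp))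

open RingTheory.Sequence Groth.Agent.H26.DepthLib in
open scoped Pointwise in
lemma exists_socle_of_depth_two (S : Type u) [CommRing S] [IsLocalRing S] [IsNoetherianRing S]
    (P Q : Type u) [AddCommGroup P] [Module S P] [Module.Finite S P] [AddCommGroup Q]
    [Module S Q] (h : 2 ≤ LocCoh.depth S P) (ψ : P →ₗ[S] Q) (hψ : Function.Injective ψ)
    (y : Q) (hy : y ∉ LinearMap.range ψ)
    (hmy : ∀ z ∈ IsLocalRing.maximalIdeal S, z • y ∈ LinearMap.range ψ) :
    ∃ y' : Q, y' ≠ 0 ∧ ∀ z ∈ IsLocalRing.maximalIdeal S, z • y' = 0 := by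
  by_cases hP : IsLocalRing.maximalIdeal S • (⊤ : Submodule S P) = ⊤
  · have hbot : (⊤ : Submodule S P) = ⊥ :=
      Submodule.eq_bot_of_le_smul_of_le_jacobson_bot (IsLocalRing.maximalIdeal S) ⊤
        Module.Finite.fg_top (le_of_eq hP.symm) (IsLocalRing.maximalIdeal_le_jacobson ⊥)
    have hP0 : ∀ m : P, m = 0 := fun m =>
      (Submodule.mem_bot S).1 (hbot ▸ (Submodule.mem_top : m ∈ (⊤ : Submodule S P)))
    refine ⟨y, ?_, ?_⟩
    · rintro rfl
      exact hy (Submodule.zero_mem _)
    · intro z hz
      obtain ⟨m, hm⟩ := hmy z hz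
      rw [← hm, hP0 m, map_zero]
  · have h2 : ((2 : ℕ) : ℕ∞) ≤ LocCoh.idealDepth (IsLocalRing.maximalIdeal S) P := by
      have h' : (2 : ℕ∞) ≤ LocCoh.idealDepth (IsLocalRing.maximalIdeal S) P := h
      exact_mod_cast h'
    obtain ⟨rs, hlen, hreg, hmem⟩ :=
      exists_of_le_idealDepth (IsLocalRing.maximalIdeal S) 2 h2 hP
    obtain ⟨z1, z2, rfl⟩ := List.length_eq_two.1 hlen
    rw [isWeaklyRegular_cons_iff, isWeaklyRegular_singleton_iff] at hreg
    obtain ⟨hz1, hz2⟩ := hreg
    have hz1m := hmem z1 (by simp)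
    have hz2m := hmem z2 (by simp)
    have hz1' : ∀ m : P, z1 • m = 0 → m = 0 := fun m hm => hz1 (by
      show z1 • m = z1 • 0
      rw [smul_zero]
      exact hm)
    obtain ⟨μ1, hμ1⟩ := hmy z1 hz1m
    obtain ⟨μ2, hμ2⟩ := hmy z2 hz2m
    have h3 : z2 • μ1 = z1 • μ2 := by
      apply hψ
      rw [map_smul, map_smul, hμ1, hμ2, smul_smul, smul_smul, mul_comm]
    have hmem0 : z2 • μ1 ∈ z1 • (⊤ : Submodule S P) := by
      rw [h3]
      exact Submodule.smul_mem_pointwise_smul μ2 z1 ⊤ Submodule.mem_top
    have h4 : z2 • ((z1 • (⊤ : Submodule S P)).mkQ μ1) = z2 • (0 : QuotSMulTop z1 P) := by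
      rw [smul_zero, ← map_smul]
      exact (Submodule.Quotient.mk_eq_zero _).2 hmem0
    have h5 : (z1 • (⊤ : Submodule S P)).mkQ μ1 = 0 := hz2 h4
    have h6 : μ1 ∈ z1 • (⊤ : Submodule S P) := (Submodule.Quotient.mk_eq_zero _).1 h5
    rw [Submodule.mem_smul_pointwise_iff_exists] at h6
    obtain ⟨μ', -, hμ'⟩ := h6
    refine ⟨y - ψ μ', ?_, ?_⟩
    · intro h7
      apply hy
      rw [sub_eq_zero] at h7
      exact ⟨μ', h7.symm⟩
    · intro z hz
      obtain ⟨ν, hν⟩ := hmy z hz
      have h8 : z • (y - ψ μ') = ψ (ν - z • μ') := by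
        rw [map_sub, map_smul, hν, smul_sub]
      have h9 : z1 • (y - ψ μ') = 0 := by
        rw [smul_sub, ← map_smul, hμ', hμ1, sub_self]
      have h10 : ν - z • μ' = 0 := by
        apply hz1'
        apply hψ
        rw [map_smul, ← h8, smul_comm, h9, smul_zero, map_zero]
      rw [h8, h10, map_zero]

/-- Let `R` be Noetherian and `φ : M → N` a map of `R`-modules with `M` finite. Suppose that for every
prime `𝔭` either `φ_𝔭` is bijective, or `M_𝔭` has depth at least two and `𝔭` is not an associated
prime of `N`. Then `φ` is bijective. -/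
theorem result {R M N : Type u} [CommRing R] [IsNoetherianRing R] [AddCommGroup M]
    [Module R M] [Module.Finite R M] [AddCommGroup N] [Module R N] (φ : M →ₗ[R] N)
    (h : ∀ (p : Ideal R) [p.IsPrime],
      Function.Bijective (LocalizedModule.map p.primeCompl φ) ∨
        (2 ≤ LocCoh.depth (Localization.AtPrime p) (LocalizedModule p.primeCompl M) ∧
          p ∉ associatedPrimes R N)) :
    Function.Bijective φ := by
  classical
  have hmax : ∀ (p : Ideal R) [p.IsPrime] (z : Localization.AtPrime p),
      z ∈ IsLocalRing.maximalIdeal (Localization.AtPrime p) →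
      ∃ (a : R) (s : p.primeCompl), a ∈ p ∧
        z = Localization.mk a s := by
    intro p _ z hz
    obtain ⟨a, s, rfl⟩ := IsLocalization.exists_mk'_eq p.primeCompl z
    refine ⟨a, s, ?_, by rw [Localization.mk_eq_mk']⟩
    rw [IsLocalization.mk'_mem_iff] at hz
    exact (IsLocalization.AtPrime.to_map_mem_maximal_iff (Localization.AtPrime p) p a).1 hz
  have hinj : Function.Injective φ := by
    rw [← LinearMap.ker_eq_bot]
    by_contra hK
    haveI : Nontrivial (LinearMap.ker φ) := Submodule.nontrivial_iff_ne_bot.2 hK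
    obtain ⟨p, hp⟩ := associatedPrimes.nonempty R (LinearMap.ker φ)
    rw [AssociatedPrimes.mem_iff, isAssociatedPrime_iff] at hp
    obtain ⟨hpp, k, hpk⟩ := hp
    haveI := hpp
    have hann : ∀ r : R, r ∈ p ↔ r • (k : M) = 0 := by
      intro r
      rw [hpk, Submodule.mem_colon_singleton, Submodule.mem_bot]
      exact Subtype.ext_iff
    have hk0 : φ (k : M) = 0 := LinearMap.mem_ker.1 k.2
    have hne : LocalizedModule.mk (k : M) (1 : p.primeCompl) ≠ 0 := by
      intro h0
      rw [← LocalizedModule.zero_mk (1 : p.primeCompl), LocalizedModule.mk_eq] at h0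
      obtain ⟨u, hu⟩ := h0
      simp only [one_smul, smul_zero] at hu
      have hu' : (u : R) • (k : M) = 0 := hu
      exact u.2 ((hann u).2 hu')
    rcases h p with hbij | ⟨hdep, -⟩
    · apply hne
      apply hbij.1
      rw [LocalizedModule.map_mk, hk0, LocalizedModule.zero_mk, map_zero]
    · apply hne
      apply eq_zero_of_depth_one (Localization.AtPrime p) (LocalizedModule p.primeCompl M)
        (le_trans one_le_two hdep)
      intro z hz
      obtain ⟨a, s, hap, rfl⟩ := hmax p z hz
      rw [LocalizedModule.mk_smul_mk, (hann a).1 hap, LocalizedModule.zero_mk]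
  refine ⟨hinj, ?_⟩
  rw [← LinearMap.range_eq_top]
  by_contra hC
  haveI : Nontrivial (N ⧸ LinearMap.range φ) := Submodule.Quotient.nontrivial_iff.2 hC
  obtain ⟨p, hp⟩ := associatedPrimes.nonempty R (N ⧸ LinearMap.range φ)
  rw [AssociatedPrimes.mem_iff, isAssociatedPrime_iff] at hp
  obtain ⟨hpp, c, hpc⟩ := hp
  haveI := hpp
  obtain ⟨n, rfl⟩ := Submodule.Quotient.mk_surjective _ c
  have hann : ∀ r : R, r ∈ p ↔ r • n ∈ LinearMap.range φ := by
    intro r
    rw [hpc, Submodule.mem_colon_singleton, Submodule.mem_bot, ← Submodule.Quotient.mk_smul,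
      Submodule.Quotient.mk_eq_zero]
  have hnr : LocalizedModule.mk n (1 : p.primeCompl) ∉
      LinearMap.range (LocalizedModule.map p.primeCompl φ) := by
    rintro ⟨x, hx⟩
    induction x using LocalizedModule.induction_on with
    | _ m s =>
      rw [LocalizedModule.map_mk, LocalizedModule.mk_eq] at hx
      obtain ⟨u, hu⟩ := hx
      simp only [one_smul] at hu
      have hu' : (u : R) • φ m = (u : R) • (s : R) • n := hu
      have h1 : ((u * s : p.primeCompl) : R) • n ∈ LinearMap.range φ := by
        refine ⟨(u : R) • m, ?_⟩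
        rw [map_smul, hu', Submonoid.coe_mul, mul_smul]
      exact (u * s).2 ((hann _).2 h1)
  rcases h p with hbij | ⟨hdep, hass⟩
  · exact hnr (LinearMap.mem_range.2 (hbij.2 _))
  · obtain ⟨y', hy'0, hy'⟩ := exists_socle_of_depth_two (Localization.AtPrime p)
      (LocalizedModule p.primeCompl M) (LocalizedModule p.primeCompl N) hdep
      (LocalizedModule.map p.primeCompl φ) (LocalizedModule.map_injective p.primeCompl φ hinj)
      (LocalizedModule.mk n 1) hnr (by
        intro z hz
        obtain ⟨a, s, hap, rfl⟩ := hmax p z hz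
        obtain ⟨m, hm⟩ := (hann a).1 hap
        rw [LocalizedModule.mk_smul_mk]
        exact ⟨LocalizedModule.mk m (s * 1), by rw [LocalizedModule.map_mk, hm]⟩)
    apply hass
    have hmaxass : IsLocalRing.maximalIdeal (Localization.AtPrime p) ∈
        associatedPrimes (Localization.AtPrime p) (LocalizedModule p.primeCompl N) := by
      rw [AssociatedPrimes.mem_iff, isAssociatedPrime_iff]
      refine ⟨inferInstance, y', ?_⟩
      apply (IsLocalRing.maximalIdeal.isMaximal _).eq_of_le
      · intro htop
        have h1 : (1 : Localization.AtPrime p) ∈ Submodule.colon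
            (⊥ : Submodule (Localization.AtPrime p) (LocalizedModule p.primeCompl N)) {y'} :=
          htop ▸ Submodule.mem_top
        rw [Submodule.mem_colon_singleton, one_smul, Submodule.mem_bot] at h1
        exact hy'0 h1
      · intro z hz
        rw [Submodule.mem_colon_singleton, Submodule.mem_bot]
        exact hy' z hz
    have h2 := Module.associatedPrimes.comap_mem_associatedPrimes_of_mem_associatedPrimes_of_isLocalizedModule_of_fg
      p.primeCompl (LocalizedModule.mkLinearMap p.primeCompl N)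
      (IsLocalRing.maximalIdeal (Localization.AtPrime p)) hmaxass
      ((isNoetherianRing_iff_ideal_fg R).mp inferInstance _)
    have h3 : (IsLocalRing.maximalIdeal (Localization.AtPrime p)).comap
        (algebraMap R (Localization.AtPrime p)) = p :=
      Localization.AtPrime.under_maximalIdeal
    rw [h3] at h2
    exact h2

end Groth.Agent.S2090
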