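import Groth.Statements.S2094
import Groth.Agent.H10.SymSmooth

set_option autoImplicit false
universe u
open CAlg

namespace Groth.Agent.S2094

/-- The symmetric algebra of an `A`-module is a smooth `A`-algebra exactly when the module is finite
projective. -/
theorem result {A M : Type u} [CommRing A] [AddCommGroup M] [Module A M] :
    Algebra.Smooth A (SymmetricAlgebra A M) ↔ Module.Finite A M ∧ Module.Projective A M := by
  constructor
  · intro h
    have h1 : Algebra.FormallySmooth A (SymmetricAlgebra A M) := h.1
    have h2 : Algebra.FiniteType A (SymmetricAlgebra A M) := inferInstance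
    exact ⟨Groth.Agent.H10.SymSmooth.finite_of_finiteType A M,
      Groth.Agent.H10.SymSmooth.projective_of_formallySmooth A M⟩
  · rintro ⟨h1, h2⟩
    exact Groth.Agent.H10.SymSmooth.smooth_of_finite_projective A M

end Groth.Agent.S2094
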