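import Groth.Statements.S2095
import Mathlib.Tactic

set_option autoImplicit false
universe u
open CAlg

namespace Groth.Agent.S2095

open TensorProduct in
/-- Let `R → S` be a ring map, `𝔫 ⊆ S` an ideal and `R → R'` a ring map admitting an `R`-linear
retraction. If `R' → R' ⊗ S` is formally smooth for the adic topology of the extension of `𝔫`, then
`R → S` is formally smooth for the `𝔫`-adic topology. -/
theorem result {R S R' : Type u} [CommRing R] [CommRing S] [Algebra R S]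
    (𝔫 : Ideal S) [CommRing R'] [Algebra R R'] (ρ : R' →ₗ[R] R) (hρ : ∀ r : R, ρ (algebraMap R R' r) = r)
    (h : CAlgX.IsAdicFormallySmooth R' (R' ⊗[R] S)
      (𝔫.map (Algebra.TensorProduct.includeRight : S →ₐ[R] R' ⊗[R] S))) :
    CAlgX.IsAdicFormallySmooth R S 𝔫 := by
  classical
  intro A _ _ J hJ ψ hk
  -- notation
  let incA : A →ₐ[R] R' ⊗[R] A := Algebra.TensorProduct.includeRight
  let J' : Ideal (R' ⊗[R] A) := J.map incA
  have hJ' : J' ^ 2 = ⊥ := by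
    show (J.map incA) ^ 2 = ⊥
    rw [← Ideal.map_pow, hJ, Ideal.map_bot]
  let q : A ⧸ J →ₐ[R] (R' ⊗[R] A) ⧸ J' := Ideal.quotientMapₐ J' incA Ideal.le_comap_map
  let g : S →ₐ[R] (R' ⊗[R] A) ⧸ J' := q.comp ψ
  let ψ' : R' ⊗[R] S →ₐ[R'] (R' ⊗[R] A) ⧸ J' :=
    Algebra.TensorProduct.lift (Algebra.ofId R' ((R' ⊗[R] A) ⧸ J')) g (fun _ _ => Commute.all _ _)
  have hψ'tmul : ∀ s : S, ψ' (1 ⊗ₜ s) = q (ψ s) := by
    intro s
    show (Algebra.TensorProduct.lift (Algebra.ofId R' ((R' ⊗[R] A) ⧸ J')) g _) (1 ⊗ₜ s) = _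
    rw [Algebra.TensorProduct.lift_tmul, map_one, one_mul]
    rfl
  have hψ' : ∃ k : ℕ, ∀ x ∈ (𝔫.map (Algebra.TensorProduct.includeRight : S →ₐ[R] R' ⊗[R] S)) ^ k,
      ψ' x = 0 := by
    obtain ⟨k, hk⟩ := hk
    refine ⟨k, fun x hx => ?_⟩
    rw [← Ideal.map_pow] at hx
    have hle : (𝔫 ^ k).map (Algebra.TensorProduct.includeRight : S →ₐ[R] R' ⊗[R] S) ≤
        RingHom.ker ψ'.toRingHom := by
      rw [Ideal.map_le_iff_le_comap]
      intro s hs
      rw [Ideal.mem_comap, RingHom.mem_ker]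
      show ψ' (1 ⊗ₜ s) = 0
      rw [hψ'tmul, hk s hs, map_zero]
    exact hle hx
  obtain ⟨χ', hχ'⟩ := h (R' ⊗[R] A) J' hJ' ψ' hψ'
  -- the retraction
  let π : R' ⊗[R] A →ₗ[R] A := (TensorProduct.lid R A).toLinearMap ∘ₗ (ρ.rTensor A)
  have hπ_tmul : ∀ (r' : R') (a : A), π (r' ⊗ₜ a) = ρ r' • a := fun r' a => by simp [π]
  have hρ1 : ρ 1 = 1 := by
    have := hρ 1
    rwa [map_one] at this
  have hπ_mul : ∀ (z : R' ⊗[R] A) (a : A), π (z * (1 ⊗ₜ a)) = π z * a := by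
    intro z a
    induction z using TensorProduct.induction_on with
    | zero => simp
    | tmul r' b =>
      rw [Algebra.TensorProduct.tmul_mul_tmul, hπ_tmul, hπ_tmul, mul_one, smul_mul_assoc]
    | add x y hx hy => rw [add_mul, map_add, map_add, hx, hy, add_mul]
  have hπ_one : π 1 = 1 := by
    rw [Algebra.TensorProduct.one_def, hπ_tmul, hρ1, one_smul]
  have hπ_inc : ∀ a : A, π (1 ⊗ₜ a) = a := fun a => by rw [hπ_tmul, hρ1, one_smul]
  have hπJ : ∀ z ∈ J', π z ∈ J := by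
    intro z hz
    have hz' : z ∈ Submodule.span (R' ⊗[R] A) (incA '' (J : Set A)) := hz
    have hP : ∀ c : R' ⊗[R] A, π (c * z) ∈ J := by
      clear hz
      induction hz' using Submodule.span_induction with
      | mem w hw =>
        obtain ⟨j, hj, rfl⟩ := hw
        intro c
        show π (c * (1 ⊗ₜ j)) ∈ J
        rw [hπ_mul]
        exact Ideal.mul_mem_left _ _ hj
      | zero => intro c; simp
      | add x y _ _ hx hy => intro c; rw [mul_add, map_add]; exact Ideal.add_mem _ (hx c) (hy c)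
      | smul d x _ hx => intro c; rw [smul_eq_mul, ← mul_assoc]; exact hx (c * d)
    simpa using hP 1
  have hdiff : ∀ (s : S) (a : A), Ideal.Quotient.mk J a = ψ s →
      χ' (1 ⊗ₜ s) - 1 ⊗ₜ a ∈ J' := by
    intro s a ha
    rw [← Ideal.Quotient.eq]
    have e1 : Ideal.Quotient.mk J' (χ' (1 ⊗ₜ s)) = ψ' (1 ⊗ₜ s) := by
      rw [← hχ']; rfl
    rw [e1, hψ'tmul, ← ha]
    exact Ideal.quotient_map_mkₐ J' incA Ideal.le_comap_map
  have hkey : ∀ (z₁ z₂ : R' ⊗[R] A) (a b : A), z₁ - 1 ⊗ₜ a ∈ J' → z₂ - 1 ⊗ₜ b ∈ J' →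
      π (z₁ * z₂) = π z₁ * π z₂ := by
    intro z₁ z₂ a b h1 h2
    set u : R' ⊗[R] A := 1 ⊗ₜ a with hu
    set v : R' ⊗[R] A := 1 ⊗ₜ b with hv
    set j₁ := z₁ - u with hj₁
    set j₂ := z₂ - v with hj₂
    have e1 : j₁ * j₂ = 0 := by
      have : j₁ * j₂ ∈ J' ^ 2 := by rw [pow_two]; exact Ideal.mul_mem_mul h1 h2
      rw [hJ'] at this
      exact (Submodule.mem_bot _).mp this
    have e2 : π j₁ * π j₂ = 0 := by
      have : π j₁ * π j₂ ∈ J ^ 2 := by
        rw [pow_two]; exact Ideal.mul_mem_mul (hπJ _ h1) (hπJ _ h2)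
      rw [hJ] at this
      exact (Submodule.mem_bot _).mp this
    have hz1 : z₁ = u + j₁ := by rw [hj₁]; ring
    have hz2 : z₂ = v + j₂ := by rw [hj₂]; ring
    have hprod : z₁ * z₂ = u * v + j₁ * v + j₂ * u + j₁ * j₂ := by rw [hz1, hz2]; ring
    have hπu : π u = a := hπ_inc a
    have hπv : π v = b := hπ_inc b
    have h3 : π (z₁ * z₂) = a * b + π j₁ * b + π j₂ * a := by
      rw [hprod, e1, add_zero, map_add, map_add, hv, hu, hπ_mul, hπ_mul, hπ_mul, hπ_inc]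
    have h4 : π z₁ = a + π j₁ := by rw [hz1, map_add, hπu]
    have h5 : π z₂ = b + π j₂ := by rw [hz2, map_add, hπv]
    rw [h3, h4, h5]
    linear_combination (-1 : A) * e2
  -- the lift
  let θ : S →ₗ[R] A := π ∘ₗ ((χ'.restrictScalars R).toLinearMap) ∘ₗ
    (Algebra.TensorProduct.includeRight : S →ₐ[R] R' ⊗[R] S).toLinearMap
  have hθ : ∀ s, θ s = π (χ' (1 ⊗ₜ s)) := fun s => rfl
  have hθ1 : θ 1 = 1 := by
    rw [hθ, ← Algebra.TensorProduct.one_def, map_one, hπ_one]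
  have hθmul : ∀ s t, θ (s * t) = θ s * θ t := by
    intro s t
    obtain ⟨a, ha⟩ := Ideal.Quotient.mk_surjective (ψ s)
    obtain ⟨b, hb⟩ := Ideal.Quotient.mk_surjective (ψ t)
    rw [hθ, hθ, hθ]
    have : (1 : R') ⊗ₜ[R] (s * t) = (1 ⊗ₜ s) * (1 ⊗ₜ t) := by
      rw [Algebra.TensorProduct.tmul_mul_tmul, mul_one]
    rw [this, map_mul]
    exact hkey _ _ a b (hdiff s a ha) (hdiff t b hb)
  refine ⟨AlgHom.ofLinearMap θ hθ1 hθmul, ?_⟩
  ext s
  obtain ⟨a, ha⟩ := Ideal.Quotient.mk_surjective (ψ s)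
  show Ideal.Quotient.mk J (θ s) = ψ s
  rw [← ha, Ideal.Quotient.eq, hθ]
  have h1 := hπJ _ (hdiff s a ha)
  rw [map_sub, hπ_inc] at h1
  exact h1

end Groth.Agent.S2095
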