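import Groth.Statements.S2097
import Mathlib.RingTheory.Noetherian.Nilpotent
-- import your own Groth.Agent.* helpers here

set_option autoImplicit false
universe u
open CAlg

namespace Groth.Agent.S2097

/-- Let `R → S` be smooth, `A` an `R`-algebra and `I ⊆ A` an ideal all of whose elements are nilpotent.
Every `R`-algebra map `S → A/I` lifts to an `R`-algebra map `S → A`. -/
theorem result {R S A : Type u} [CommRing R] [CommRing S] [Algebra R S] [Algebra.Smooth R S]
    [CommRing A] [Algebra R A] (I : Ideal A) (hI : ∀ x ∈ I, IsNilpotent x) (g : S →ₐ[R] A ⧸ I) :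
    ∃ f : S →ₐ[R] A, (Ideal.Quotient.mkₐ R I).comp f = g := by
  classical
  obtain ⟨n, π, hπ, hker⟩ := (Algebra.FinitePresentation.out : ∃ (n : ℕ) (f : MvPolynomial (Fin n) R →ₐ[R] S),
    Function.Surjective f ∧ (RingHom.ker f.toRingHom).FG)
  -- lift the images of the variables
  have hlift : ∀ i : Fin n, ∃ a : A, Ideal.Quotient.mk I a = g (π (MvPolynomial.X i)) :=
    fun i => Ideal.Quotient.mk_surjective _
  choose a ha using hlift
  let φ : MvPolynomial (Fin n) R →ₐ[R] A := MvPolynomial.aeval a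
  have hφ : (Ideal.Quotient.mkₐ R I).comp φ = g.comp π := by
    apply MvPolynomial.algHom_ext
    intro i
    simp only [AlgHom.comp_apply, Ideal.Quotient.mkₐ_eq_mk]
    rw [← ha i]
    simp [φ]
  obtain ⟨T, hT⟩ := hker
  let J : Ideal A := Ideal.span (φ '' (T : Set (MvPolynomial (Fin n) R)))
  have hJI : J ≤ I := by
    rw [Ideal.span_le]
    rintro _ ⟨t, ht, rfl⟩
    have ht' : t ∈ RingHom.ker π.toRingHom := by rw [← hT]; exact Ideal.subset_span ht
    have h1 : Ideal.Quotient.mk I (φ t) = g (π t) := AlgHom.congr_fun hφ t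
    have h2 : π t = 0 := ht'
    rw [h2, map_zero] at h1
    exact Ideal.Quotient.eq_zero_iff_mem.mp h1
  have hJfg : J.FG := ⟨T.image φ, by simp [J]⟩
  have hJnil : IsNilpotent J := by
    rw [Ideal.FG.isNilpotent_iff_le_nilradical hJfg]
    intro x hx
    exact hI x (hJI hx)
  have hkerle : RingHom.ker π.toRingHom ≤ RingHom.ker ((Ideal.Quotient.mkₐ R J).comp φ).toRingHom := by
    intro x hx
    rw [← hT] at hx
    have : φ x ∈ J := by
      have := Ideal.mem_map_of_mem φ.toRingHom hx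
      rw [Ideal.map_span] at this
      exact this
    show (Ideal.Quotient.mkₐ R J) (φ x) = 0
    exact Ideal.Quotient.eq_zero_iff_mem.mpr this
  let ψ : S →ₐ[R] A ⧸ J := AlgHom.liftOfSurjective π hπ ((Ideal.Quotient.mkₐ R J).comp φ) hkerle
  obtain ⟨f, hf⟩ := Algebra.FormallySmooth.exists_lift J hJnil ψ
  refine ⟨f, ?_⟩
  ext s
  obtain ⟨p, rfl⟩ := hπ s
  have h1 : Ideal.Quotient.mk J (f (π p)) = ψ (π p) := AlgHom.congr_fun hf (π p)
  have h2 : ψ (π p) = Ideal.Quotient.mk J (φ p) := AlgHom.liftOfSurjective_apply π hπ _ hkerle p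
  have h3 : f (π p) - φ p ∈ J := by
    rw [← Ideal.Quotient.eq]; rw [h1, h2]
  have h4 : Ideal.Quotient.mk I (f (π p)) = Ideal.Quotient.mk I (φ p) :=
    (Ideal.Quotient.eq).mpr (hJI h3)
  have h5 : Ideal.Quotient.mk I (φ p) = g (π p) := AlgHom.congr_fun hφ p
  show Ideal.Quotient.mk I (f (π p)) = g (π p)
  rw [h4, h5]

end Groth.Agent.S2097
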