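import Groth.Statements.S2098
import Mathlib
import Groth.Agent.S6302
-- import your own Groth.Agent.* helpers here

set_option autoImplicit false
universe u
open CAlg

namespace Groth.Agent.S2098

open Groth.Agent.S6302 in
theorem map_mem_smul_top {R : Type u} [CommRing R] {P P' : Type u} [AddCommGroup P] [Module R P]
    [AddCommGroup P'] [Module R P'] (J : Ideal R) (φ : P →ₗ[R] P') {w : P}
    (hw : w ∈ J • (⊤ : Submodule R P)) : φ w ∈ J • (⊤ : Submodule R P') := by
  refine Submodule.smul_induction_on hw (fun r hr p _ => ?_) (fun a b ha hb => ?_)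
  · rw [map_smul]; exact Submodule.smul_mem_smul hr trivial
  · rw [map_add]; exact add_mem ha hb

theorem mem_iInf_of_frequently {R : Type u} [CommRing R] [IsNoetherianRing R] (I : Ideal R)
    (hI : I ≤ (⊥ : Ideal R).jacobson) {T : Type u} [AddCommGroup T] [Module R T]
    [Module.Finite R T] (t : T)
    (ht : ∀ k : ℕ, ∃ n, k ≤ n ∧ t ∈ I ^ n • (⊤ : Submodule R T)) : t = 0 := by
  have h1 : t ∈ (⨅ i : ℕ, I ^ i • ⊤ : Submodule R T) := by
    rw [Submodule.mem_iInf]
    intro k
    obtain ⟨n, hkn, hn⟩ := ht k
    exact Submodule.smul_mono (Ideal.pow_le_pow_right hkn) le_rfl hn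
  rw [Ideal.iInf_pow_smul_eq_bot_of_le_jacobson I hI] at h1
  exact (Submodule.mem_bot R).mp h1

/-- Let `R` be Noetherian, `I` an ideal inside the Jacobson radical and `u : N → M` a map of finite
`R`-modules. If for arbitrarily large `n` the induced map `N/IⁿN → M/IⁿM` has a left inverse, then
`u` has a left inverse. -/
theorem result {R M N : Type u} [CommRing R] [IsNoetherianRing R] (I : Ideal R)
    (hI : I ≤ (⊥ : Ideal R).jacobson) [AddCommGroup M] [Module R M] [Module.Finite R M] [AddCommGroup N] [Module R N]
    [Module.Finite R N] (u : N →ₗ[R] M)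
    (h : ∀ n₀ : ℕ, ∃ n, n₀ ≤ n ∧ ∃ s : (M ⧸ (I ^ n) • (⊤ : Submodule R M)) →ₗ[R] (N ⧸ (I ^ n) • (⊤ : Submodule R N)),
      ∀ x : N, s (Submodule.Quotient.mk (u x)) = Submodule.Quotient.mk x) :
    ∃ s : M →ₗ[R] N, s.comp u = LinearMap.id := by
  classical
  -- Step 1: u is injective
  have hinj : Function.Injective u := by
    rw [← LinearMap.ker_eq_bot, eq_bot_iff]
    intro x hx
    rw [Submodule.mem_bot]
    apply mem_iInf_of_frequently I hI x
    intro k
    obtain ⟨n, hkn, s, hs⟩ := h k
    refine ⟨n, hkn, ?_⟩
    have h1 := hs x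
    rw [LinearMap.mem_ker.mp hx, Submodule.Quotient.mk_zero, map_zero] at h1
    exact (Submodule.Quotient.mk_eq_zero _).mp h1.symm
  -- Step 2: matrix property
  have hMP : Groth.Agent.S6302.MatProp u := by
    intro m n a x y hxy
    have hfin : Module.Finite R ((Fin m → N) ⧸ LinearMap.range (Groth.Agent.S6302.actL a N)) :=
      inferInstance
    have h0 : (LinearMap.range (Groth.Agent.S6302.actL a N)).mkQ x = 0 := by
      apply mem_iInf_of_frequently I hI
      intro k
      obtain ⟨n', hkn, s, hs⟩ := h k
      refine ⟨n', hkn, ?_⟩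
      choose ν hν using fun j : Fin n =>
        Submodule.Quotient.mk_surjective (I ^ n' • (⊤ : Submodule R N))
          (s (Submodule.Quotient.mk (y j)))
      have hδ : ∀ i, x i - Groth.Agent.S6302.actL a N ν i ∈ I ^ n' • (⊤ : Submodule R N) := by
        intro i
        rw [← Submodule.Quotient.mk_eq_zero, Submodule.Quotient.mk_sub, sub_eq_zero]
        have e1 : u (x i) = Groth.Agent.S6302.actL a M y i := congrFun hxy i
        calc (Submodule.Quotient.mk (x i) : N ⧸ I ^ n' • (⊤ : Submodule R N))
            = s ((I ^ n' • (⊤ : Submodule R M)).mkQ (u (x i))) := (hs (x i)).symm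
          _ = ∑ j, a i j • s ((I ^ n' • (⊤ : Submodule R M)).mkQ (y j)) := by
              rw [e1, Groth.Agent.S6302.actL_apply]
              simp only [map_sum, map_smul]
          _ = ∑ j, a i j • (I ^ n' • (⊤ : Submodule R N)).mkQ (ν j) := by
              refine Finset.sum_congr rfl fun j _ => ?_
              rw [Submodule.mkQ_apply, Submodule.mkQ_apply, hν]
          _ = (I ^ n' • (⊤ : Submodule R N)).mkQ (Groth.Agent.S6302.actL a N ν i) := by
              rw [Groth.Agent.S6302.actL_apply]
              simp only [map_sum, map_smul]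
      have hδ' : x - Groth.Agent.S6302.actL a N ν ∈ I ^ n' • (⊤ : Submodule R (Fin m → N)) := by
        have e2 : x - Groth.Agent.S6302.actL a N ν =
            ∑ i, (LinearMap.single R (fun _ : Fin m => N) i)
              (x i - Groth.Agent.S6302.actL a N ν i) := by
          funext i'
          simp [Finset.sum_apply, Pi.single_apply]
        rw [e2]
        exact Submodule.sum_mem _ fun i _ => map_mem_smul_top _ _ (hδ i)
      have e3 : (LinearMap.range (Groth.Agent.S6302.actL a N)).mkQ x =
          (LinearMap.range (Groth.Agent.S6302.actL a N)).mkQ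
            (x - Groth.Agent.S6302.actL a N ν) := by
        have hz : (LinearMap.range (Groth.Agent.S6302.actL a N)).mkQ
            (Groth.Agent.S6302.actL a N ν) = 0 := by
          rw [Submodule.mkQ_apply]
          exact (Submodule.Quotient.mk_eq_zero _).mpr (LinearMap.mem_range_self _ ν)
        rw [map_sub, hz, sub_zero]
      rw [e3]
      exact map_mem_smul_top _ _ hδ'
    obtain ⟨x', hx'⟩ := (Submodule.Quotient.mk_eq_zero _).mp h0
    exact ⟨x', hx'.symm⟩
  -- Step 3: section of the quotient map
  haveI : Module.FinitePresentation R (M ⧸ LinearMap.range u) :=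
    Module.finitePresentation_of_finite R _
  have hex : Function.Exact u (LinearMap.range u).mkQ := by
    rw [LinearMap.exact_iff]; simp
  obtain ⟨σ, hσ⟩ := Groth.Agent.S6302.exists_section_of_matProp u (LinearMap.range u).mkQ hex
    (Submodule.mkQ_surjective _) hMP
  -- Step 4: the retraction
  have hmem : ∀ m : M, ((LinearMap.id : M →ₗ[R] M) - σ ∘ₗ (LinearMap.range u).mkQ) m ∈
      LinearMap.range u := by
    intro m
    apply (Submodule.ker_mkQ (LinearMap.range u)).le
    rw [LinearMap.mem_ker]
    have := LinearMap.congr_fun hσ ((LinearMap.range u).mkQ m)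
    simp only [LinearMap.coe_comp, Function.comp_apply, LinearMap.id_coe, id_eq] at this
    simp only [LinearMap.sub_apply, LinearMap.id_coe, id_eq, LinearMap.coe_comp,
      Function.comp_apply, map_sub, this, sub_self]
  refine ⟨(LinearEquiv.ofInjective u hinj).symm.toLinearMap ∘ₗ
    LinearMap.codRestrict (LinearMap.range u) _ hmem, ?_⟩
  ext x
  simp only [LinearMap.coe_comp, LinearEquiv.coe_coe, Function.comp_apply, LinearMap.id_coe, id_eq]
  rw [LinearEquiv.symm_apply_eq]
  apply Subtype.ext
  have h0 : (LinearMap.range u).mkQ (u x) = 0 :=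
    (Submodule.Quotient.mk_eq_zero _).mpr (LinearMap.mem_range_self _ x)
  simp [h0]

end Groth.Agent.S2098
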