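import Groth.Statements.S2100
import Mathlib
import Groth.Agent.H54.AffineTrdeg
import Groth.Agent.H66.NoethRefined

set_option autoImplicit false
universe u
open CAlg

namespace Groth.Agent.S2100

open Groth.Agent.H66.NoethRefined


/-- Let `k` be a field, `𝔮` a prime of `k[x_1, …, x_n]` and `r` the transcendence degree of `κ(𝔮)` over
`k`. Then there is a finite `k`-algebra map `φ : k[y_1, …, y_n] → k[x_1, …, x_n]` with `φ⁻¹(𝔮) =
(y_{r+1}, …, y_n)`. -/
theorem result {k : Type u} [Field k] (n r : ℕ) (q : Ideal (MvPolynomial (Fin n) k))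
    [q.IsPrime] (hr : Algebra.trdeg k q.ResidueField = r) :
    ∃ φ : MvPolynomial (Fin n) k →ₐ[k] MvPolynomial (Fin n) k, φ.toRingHom.Finite ∧
      q.comap φ = Ideal.span (Set.range fun i : {i : Fin n // r ≤ (i : ℕ)} => MvPolynomial.X (i : Fin n)) := by
  classical
  obtain ⟨d, φ, hdn, hfin, hcomap⟩ := exists_normalization n q (Ideal.IsPrime.ne_top ‹_›)
  obtain ⟨ι, hι⟩ : ∃ ι : Fin (n - d) → Fin n, ∀ j, (ι j : ℕ) = d + j :=
    ⟨fun j => ⟨d + j, by have := j.isLt; omega⟩, fun j => rfl⟩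
  obtain ⟨τ, hτ⟩ : ∃ τ : Fin n → MvPolynomial (Fin (n - d)) k,
      (∀ i : Fin n, (i : ℕ) < d → τ i = 0) ∧ (∀ j, τ (ι j) = MvPolynomial.X j) := by
    refine ⟨fun i => if h : (i : ℕ) < d then 0 else
      MvPolynomial.X ⟨i - d, by have := i.isLt; omega⟩, fun i hi => dif_pos hi, fun j => ?_⟩
    have hj : ¬ ((ι j : ℕ) < d) := by rw [hι]; omega
    simp only [dif_neg hj]
    congr 1
    ext
    simp [hι]
  set σ : MvPolynomial (Fin n) k →ₐ[k] MvPolynomial (Fin (n - d)) k := MvPolynomial.aeval τ with hσ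
  have hσι : ∀ p, σ (MvPolynomial.rename ι p) = p := by
    intro p
    rw [hσ, MvPolynomial.aeval_rename]
    have : τ ∘ ι = MvPolynomial.X := funext fun j => hτ.2 j
    rw [this, MvPolynomial.aeval_X_left_apply]
  have hσK : ∀ F ∈ Kd k n d, σ F = 0 := by
    intro F hF
    have : Kd k n d ≤ RingHom.ker σ.toRingHom := by
      apply Kd_le
      intro i hi
      rw [RingHom.mem_ker]
      show σ (MvPolynomial.X i) = 0
      rw [hσ, MvPolynomial.aeval_X, hτ.1 i hi]
    exact this hF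
  set g : MvPolynomial (Fin (n - d)) k →ₐ[k] MvPolynomial (Fin n) k ⧸ q :=
    (Ideal.Quotient.mkₐ k q).comp (φ.comp (MvPolynomial.rename ι)) with hg
  have hginj : Function.Injective g := by
    rw [injective_iff_map_eq_zero]
    intro p hp
    have h1 : φ (MvPolynomial.rename ι p) ∈ q := Ideal.Quotient.eq_zero_iff_mem.mp hp
    have h2 : MvPolynomial.rename ι p ∈ q.comap φ := h1
    rw [hcomap] at h2
    rw [← hσι p, hσK _ h2]
  have hgfin : g.Finite := by
    have h1 : ((Ideal.Quotient.mkₐ k q).comp φ).Finite :=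
      AlgHom.Finite.comp (AlgHom.Finite.of_surjective _ (Ideal.Quotient.mkₐ_surjective k q)) hfin
    have h2 : (Ideal.Quotient.mkₐ k q).comp φ = g.comp σ := by
      apply MvPolynomial.algHom_ext
      intro i
      rw [AlgHom.comp_apply, AlgHom.comp_apply, hσ, MvPolynomial.aeval_X]
      by_cases hi : (i : ℕ) < d
      · rw [hτ.1 i hi, map_zero, Ideal.Quotient.mkₐ_eq_mk, Ideal.Quotient.eq_zero_iff_mem]
        have : MvPolynomial.X i ∈ q.comap φ := by rw [hcomap]; exact X_mem_Kd i hi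
        exact this
      · have hi' : ((i : ℕ) - d) < n - d := by have := i.isLt; omega
        have hii : ι ⟨(i : ℕ) - d, hi'⟩ = i := by
          ext
          rw [hι]
          simp only
          omega
        have : τ i = MvPolynomial.X ⟨(i : ℕ) - d, hi'⟩ := by
          rw [← hτ.2, hii]
        rw [this, hg, AlgHom.comp_apply, AlgHom.comp_apply, MvPolynomial.rename_X, hii]
    rw [h2] at h1
    exact AlgHom.Finite.of_comp_finite h1
  have ht1 := Groth.Agent.H54.trdeg_eq_of_finite_injective k (MvPolynomial (Fin n) k ⧸ q)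
    (n - d) g hginj hgfin
  have ht2 := Groth.Agent.H54.trdeg_eq_trdeg_of_isFractionRing k (MvPolynomial (Fin n) k ⧸ q)
    q.ResidueField
  rw [ht2, ht1] at hr
  have hrd : n - d = r := by exact_mod_cast hr
  obtain ⟨ρ, hρ⟩ : ∃ ρ : MvPolynomial (Fin n) k →ₐ[k] MvPolynomial (Fin n) k,
      ρ = MvPolynomial.rename (Fin.rev : Fin n → Fin n) := ⟨_, rfl⟩
  have hρX : ∀ i, ρ (MvPolynomial.X i) = MvPolynomial.X (Fin.rev i) := by
    intro i; rw [hρ, MvPolynomial.rename_X]
  have hρρ : ∀ F, ρ (ρ F) = F := by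
    intro F
    rw [hρ, MvPolynomial.rename_rename]
    have : (Fin.rev ∘ Fin.rev : Fin n → Fin n) = id := funext fun i => Fin.rev_rev i
    rw [this, MvPolynomial.rename_id_apply]
  have hρfin : ρ.Finite := by
    rw [hρ]
    exact AlgHom.Finite.of_surjective _ (MvPolynomial.rename_surjective _ Fin.rev_surjective)
  refine ⟨φ.comp ρ, AlgHom.Finite.comp hfin hρfin, ?_⟩
  set Kr : Ideal (MvPolynomial (Fin n) k) := Ideal.span (Set.range
    fun i : {i : Fin n // r ≤ (i : ℕ)} => MvPolynomial.X (i : Fin n)) with hKr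
  have hA : Kr ≤ (Kd k n d).comap ρ := by
    rw [hKr, Ideal.span_le]
    rintro _ ⟨⟨j, hj⟩, rfl⟩
    rw [SetLike.mem_coe, Ideal.mem_comap]
    show ρ (MvPolynomial.X j) ∈ _
    rw [hρX]
    refine X_mem_Kd _ ?_
    rw [Fin.val_rev]
    have := j.isLt
    omega
  have hB : Kd k n d ≤ Kr.comap ρ := by
    apply Kd_le
    intro i hi
    rw [Ideal.mem_comap, hρX]
    refine Ideal.subset_span ⟨⟨Fin.rev i, ?_⟩, rfl⟩
    rw [Fin.val_rev]
    have := i.isLt
    omega
  ext F
  rw [Ideal.mem_comap]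
  constructor
  · intro h
    have h2 : ρ F ∈ q.comap φ := h
    rw [hcomap] at h2
    have h3 := hB h2
    rw [Ideal.mem_comap, hρρ] at h3
    exact h3
  · intro h
    have h3 := hA h
    rw [Ideal.mem_comap, ← hcomap] at h3
    exact h3

end Groth.Agent.S2100
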