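import Groth.Statements.S2101
import Mathlib

set_option autoImplicit false
universe u
open CAlg

namespace Groth.Agent.S2101

section aux

lemma ideal_smul_top {S : Type*} [CommRing S] (I : Ideal S) :
    (I • (⊤ : Submodule S S)) = I := by
  show I • (⊤ : Ideal S) = I
  rw [Ideal.smul_eq_mul, Ideal.mul_top]

lemma ofList_take_ofFn {S : Type*} [CommRing S] {r : ℕ} (g : Fin r → S) (i : ℕ) :
    Ideal.ofList ((List.ofFn g).take i) = Ideal.span (g '' {j | j.val < i}) := by
  show Ideal.span {x | x ∈ (List.ofFn g).take i} = _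
  congr 1
  ext x
  simp only [Set.mem_ofPred_eq, Set.mem_image]
  rw [List.mem_take_iff_getElem]
  constructor
  · rintro ⟨j, hj, rfl⟩
    have hj' : j < r := by
      have := (lt_min_iff.mp hj).2
      simpa using this
    exact ⟨⟨j, hj'⟩, (lt_min_iff.mp hj).1, by simp⟩
  · rintro ⟨j, hj, rfl⟩
    exact ⟨j.val, lt_min_iff.mpr ⟨hj, by simp⟩, by simp⟩

lemma ofList_ofFn {S : Type*} [CommRing S] {r : ℕ} (g : Fin r → S) :
    Ideal.ofList (List.ofFn g) = Ideal.span (Set.range g) := by
  show Ideal.span {x | x ∈ List.ofFn g} = _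
  congr 1
  ext x
  simp [List.mem_ofFn]

lemma wr_iff {S : Type*} [CommRing S] {r : ℕ} (g : Fin r → S) :
    RingTheory.Sequence.IsWeaklyRegular S (List.ofFn g) ↔
      ∀ i : Fin r, ∀ a : S, g i * a ∈ Ideal.span (g '' {j | j < i}) →
        a ∈ Ideal.span (g '' {j | j < i}) := by
  rw [RingTheory.Sequence.isWeaklyRegular_iff]
  constructor
  · intro h i a ha
    have hi : i.val < (List.ofFn g).length := by simp
    have h1 := h i.val hi
    rw [isSMulRegular_quotient_iff_mem_of_smul_mem] at h1
    have h2 := h1 a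
    rw [ideal_smul_top, ofList_take_ofFn, smul_eq_mul, List.getElem_ofFn] at h2
    exact h2 ha
  · intro h i hi
    rw [isSMulRegular_quotient_iff_mem_of_smul_mem]
    intro a ha
    rw [ideal_smul_top, ofList_take_ofFn, smul_eq_mul, List.getElem_ofFn] at ha
    rw [ideal_smul_top, ofList_take_ofFn]
    have hi' : i < r := by simpa using hi
    exact h ⟨i, hi'⟩ a ha

variable {R : Type*} [CommRing R] {r : ℕ} (f : Fin r → R)

lemma coeff_mem_of_mem (A : Set (Fin r)) (P : MvPolynomial (Fin r) R)
    (hP : P ∈ Ideal.span ((fun i => MvPolynomial.C (f i) * MvPolynomial.X i) '' A))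
    (E : Fin r →₀ ℕ) :
    MvPolynomial.coeff E P ∈ Ideal.span (f '' {j | j ∈ A ∧ E j ≠ 0}) := by
  classical
  induction hP using Submodule.span_induction generalizing E with
  | mem x hx =>
    obtain ⟨j, hj, rfl⟩ := hx
    simp only []
    rw [MvPolynomial.C_mul_X_eq_monomial, MvPolynomial.coeff_monomial]
    split_ifs with h
    · apply Ideal.subset_span
      refine ⟨j, ⟨hj, ?_⟩, rfl⟩
      rw [← h]
      simp
    · exact Ideal.zero_mem _
  | zero => simp
  | add x y _ _ hx hy =>
    rw [MvPolynomial.coeff_add]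
    exact Ideal.add_mem _ (hx E) (hy E)
  | smul a x _ hx =>
    rw [smul_eq_mul, MvPolynomial.coeff_mul]
    refine Ideal.sum_mem _ (fun p hp => ?_)
    refine Ideal.mul_mem_left _ _ ?_
    have hle : p.2 ≤ E := by
      rw [Finset.HasAntidiagonal.mem_antidiagonal] at hp
      rw [← hp]
      exact le_add_self
    refine Ideal.span_mono ?_ (hx p.2)
    apply Set.image_mono
    rintro j ⟨hjA, hj⟩
    refine ⟨hjA, ?_⟩
    have h1 := hle j
    intro h0
    apply hj
    omega

lemma mem_of_coeff_mem (A : Set (Fin r)) (P : MvPolynomial (Fin r) R)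
    (h : ∀ E : Fin r →₀ ℕ,
      MvPolynomial.coeff E P ∈ Ideal.span (f '' {j | j ∈ A ∧ E j ≠ 0})) :
    P ∈ Ideal.span ((fun i => MvPolynomial.C (f i) * MvPolynomial.X i) '' A) := by
  classical
  rw [MvPolynomial.as_sum P]
  refine Ideal.sum_mem _ (fun E _ => ?_)
  have key : ∀ c ∈ Ideal.span (f '' {j | j ∈ A ∧ E j ≠ 0}),
      MvPolynomial.monomial E c ∈
        Ideal.span ((fun i => MvPolynomial.C (f i) * MvPolynomial.X i) '' A) := by
    intro c hc
    induction hc using Submodule.span_induction with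
    | mem x hx =>
      obtain ⟨j, ⟨hjA, hj⟩, rfl⟩ := hx
      have hdvd : (MvPolynomial.X j : MvPolynomial (Fin r) R) ∣ MvPolynomial.monomial E 1 :=
        MvPolynomial.X_dvd_monomial.mpr (Or.inr hj)
      obtain ⟨Q, hQ⟩ := hdvd
      have h1 : MvPolynomial.monomial E (f j) =
          MvPolynomial.C (f j) * MvPolynomial.monomial E 1 := by
        rw [MvPolynomial.C_mul_monomial, mul_one]
      have h2 : MvPolynomial.monomial E (f j) =
          Q * (MvPolynomial.C (f j) * MvPolynomial.X j) := by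
        rw [h1, hQ]; ring
      rw [h2]
      exact Ideal.mul_mem_left _ _ (Ideal.subset_span ⟨j, hjA, rfl⟩)
    | zero => simp
    | add x y _ _ hx hy =>
      rw [map_add]
      exact Ideal.add_mem _ hx hy
    | smul a x _ hx =>
      rw [smul_eq_mul, ← MvPolynomial.C_mul_monomial]
      exact Ideal.mul_mem_left _ _ hx
  exact key _ (h E)

lemma poly_nzd (i : Fin r)
    (H : ∀ T : Finset (Fin r), (∀ t ∈ T, t < i) → ∀ a : R,
      f i * a ∈ Ideal.span (f '' (T : Set (Fin r))) → a ∈ Ideal.span (f '' (T : Set (Fin r))))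
    (P : MvPolynomial (Fin r) R)
    (hP : (MvPolynomial.C (f i) * MvPolynomial.X i) * P ∈
      Ideal.span ((fun i => MvPolynomial.C (f i) * MvPolynomial.X i) '' {j | j < i})) :
    P ∈ Ideal.span ((fun i => MvPolynomial.C (f i) * MvPolynomial.X i) '' {j | j < i}) := by
  classical
  apply mem_of_coeff_mem
  intro E
  have h1 := coeff_mem_of_mem f {j | j < i} _ hP (Finsupp.single i 1 + E)
  rw [mul_assoc, MvPolynomial.coeff_C_mul, MvPolynomial.coeff_X_mul] at h1
  obtain ⟨T, hT⟩ : ∃ T : Finset (Fin r), T = Finset.univ.filter (fun j => j < i ∧ E j ≠ 0) :=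
    ⟨_, rfl⟩
  have hval : ∀ j, j < i → (Finsupp.single i 1 + E : Fin r →₀ ℕ) j = E j := by
    intro j hj
    rw [Finsupp.add_apply, Finsupp.single_apply, if_neg (ne_of_gt hj), zero_add]
  have hset : {j | j ∈ {j : Fin r | j < i} ∧ (Finsupp.single i 1 + E : Fin r →₀ ℕ) j ≠ 0} =
      (T : Set (Fin r)) := by
    ext j
    constructor
    · rintro ⟨hj, hne⟩
      rw [hval j hj] at hne
      rw [hT]
      exact Finset.mem_coe.mpr (Finset.mem_filter.mpr ⟨Finset.mem_univ _, hj, hne⟩)
    · intro hj
      rw [hT] at hj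
      have h2 := (Finset.mem_filter.mp (Finset.mem_coe.mp hj)).2
      refine ⟨h2.1, ?_⟩
      rw [hval j h2.1]
      exact h2.2
  have hset2 : {j | j ∈ {j : Fin r | j < i} ∧ E j ≠ 0} = (T : Set (Fin r)) := by
    ext j
    constructor
    · rintro ⟨hj, hne⟩
      rw [hT]
      exact Finset.mem_coe.mpr (Finset.mem_filter.mpr ⟨Finset.mem_univ _, hj, hne⟩)
    · intro hj
      rw [hT] at hj
      exact (Finset.mem_filter.mp (Finset.mem_coe.mp hj)).2
  rw [hset] at h1
  rw [hset2]
  refine H T ?_ _ h1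
  intro t ht
  rw [hT] at ht
  exact (Finset.mem_filter.mp ht).2.1

lemma nzd_of_poly (i : Fin r)
    (H : ∀ P : MvPolynomial (Fin r) R,
      (MvPolynomial.C (f i) * MvPolynomial.X i) * P ∈
        Ideal.span ((fun i => MvPolynomial.C (f i) * MvPolynomial.X i) '' {j | j < i}) →
      P ∈ Ideal.span ((fun i => MvPolynomial.C (f i) * MvPolynomial.X i) '' {j | j < i}))
    (T : Finset (Fin r)) (hT : ∀ t ∈ T, t < i) (a : R)
    (ha : f i * a ∈ Ideal.span (f '' (T : Set (Fin r)))) :
    a ∈ Ideal.span (f '' (T : Set (Fin r))) := by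
  classical
  obtain ⟨ET, hET⟩ : ∃ ET : Fin r →₀ ℕ, ∀ j, ET j ≠ 0 ↔ j ∈ T := by
    refine ⟨Finsupp.indicator T (fun _ _ => 1), fun j => ?_⟩
    rw [Finsupp.indicator_apply]
    split_ifs with h <;> simp [h]
  have hmem : (MvPolynomial.C (f i) * MvPolynomial.X i) * MvPolynomial.monomial ET a ∈
      Ideal.span ((fun i => MvPolynomial.C (f i) * MvPolynomial.X i) '' {j | j < i}) := by
    apply mem_of_coeff_mem
    intro E
    have hmon : (MvPolynomial.C (f i) * MvPolynomial.X i) * MvPolynomial.monomial ET a =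
        MvPolynomial.monomial (Finsupp.single i 1 + ET) (f i * a) := by
      rw [MvPolynomial.C_mul_X_eq_monomial, MvPolynomial.monomial_mul]
    rw [hmon, MvPolynomial.coeff_monomial]
    split_ifs with h
    · refine Ideal.span_mono ?_ ha
      apply Set.image_mono
      intro t ht
      refine ⟨hT t ht, ?_⟩
      rw [← h]
      have h3 := (hET t).mpr ht
      rw [Finsupp.add_apply]
      omega
    · exact Ideal.zero_mem _
  have h2 := coeff_mem_of_mem f {j | j < i} _ (H _ hmem) ET
  rw [MvPolynomial.coeff_monomial, if_pos rfl] at h2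
  refine Ideal.span_mono ?_ h2
  apply Set.image_mono
  rintro j ⟨_, hj⟩
  exact (hET j).mp hj

lemma nzd_all
    (H : ∀ (i : Fin r) (T : Finset (Fin r)), (∀ t ∈ T, t < i) → ∀ a : R,
      f i * a ∈ Ideal.span (f '' (T : Set (Fin r))) → a ∈ Ideal.span (f '' (T : Set (Fin r)))) :
    ∀ (n : ℕ) (T : Finset (Fin r)), T.card = n → ∀ s : Fin r, s ∉ T → ∀ a : R,
      f s * a ∈ Ideal.span (f '' (T : Set (Fin r))) → a ∈ Ideal.span (f '' (T : Set (Fin r))) := by
  classical
  intro n
  induction n using Nat.strong_induction_on with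
  | _ n ih =>
  intro T hTn s hs a ha
  by_cases hlt : ∀ t ∈ T, t < s
  · exact H s T hlt a ha
  · have hne : T.Nonempty := by
      by_contra h0
      rw [Finset.not_nonempty_iff_eq_empty] at h0
      apply hlt
      intro t ht
      rw [h0] at ht
      exact absurd ht (Finset.notMem_empty t)
    obtain ⟨m, hmT, hmax⟩ : ∃ m ∈ T, ∀ t ∈ T, t ≤ m :=
      ⟨T.max' hne, Finset.max'_mem T hne, fun t ht => Finset.le_max' T t ht⟩
    have hsm : s < m := by
      by_contra hcon
      apply hlt
      intro t ht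
      have h1 : t ≤ m := hmax t ht
      have h2 : m ≤ s := not_lt.mp hcon
      have h3 : t ≠ s := fun h => hs (h ▸ ht)
      exact lt_of_le_of_ne (h1.trans h2) h3
    obtain ⟨T', hT'⟩ : ∃ T' : Finset (Fin r), T' = T.erase m := ⟨_, rfl⟩
    have hTeq : T = insert m T' := by rw [hT', Finset.insert_erase hmT]
    have hT'lt : ∀ t ∈ T', t < m := by
      intro t ht
      rw [hT'] at ht
      have h1 := Finset.mem_erase.mp ht
      exact lt_of_le_of_ne (hmax t h1.2) h1.1
    have hcard : T'.card < n := by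
      rw [← hTn, hT', Finset.card_erase_of_mem hmT]
      have : 0 < T.card := Finset.card_pos.mpr hne
      omega
    have hsT' : s ∉ T' := fun h => hs (by rw [hT'] at h; exact Finset.mem_of_mem_erase h)
    have himg : f '' (T : Set (Fin r)) = insert (f m) (f '' (T' : Set (Fin r))) := by
      rw [hTeq, Finset.coe_insert, Set.image_insert_eq]
    rw [himg] at ha ⊢
    obtain ⟨b, t, ht, hbt⟩ := Ideal.mem_span_insert.mp ha
    have h1 : f m * b ∈ Ideal.span (f '' ((insert s T' : Finset (Fin r)) : Set (Fin r))) := by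
      rw [Finset.coe_insert, Set.image_insert_eq]
      refine Ideal.mem_span_insert.mpr ⟨a, -t, neg_mem ht, ?_⟩
      linear_combination (-1 : R) * hbt
    have h2 := H m (insert s T') (by
      intro x hx
      rcases Finset.mem_insert.mp hx with rfl | hx
      · exact hsm
      · exact hT'lt x hx) b h1
    rw [Finset.coe_insert, Set.image_insert_eq] at h2
    obtain ⟨c, t', ht', hct⟩ := Ideal.mem_span_insert.mp h2
    have h3 : f s * (a - f m * c) ∈ Ideal.span (f '' (T' : Set (Fin r))) := by
      have h4 : f s * (a - f m * c) = t' * f m + t := by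
        linear_combination hbt + f m * hct
      rw [h4]
      exact Ideal.add_mem _ (Ideal.mul_mem_right _ _ ht') ht
    have h4 := ih T'.card hcard T' rfl s hsT' _ h3
    have h5 : a = (a - f m * c) + c * f m := by ring
    rw [h5]
    refine Ideal.add_mem _ (Ideal.span_mono (Set.subset_insert _ _) h4) ?_
    exact Ideal.mul_mem_left _ _ (Ideal.subset_span (Set.mem_insert _ _))

lemma exists_perm (i : Fin r) (T : Finset (Fin r)) (hT : ∀ t ∈ T, t < i) :
    ∃ (σ : Equiv.Perm (Fin r)) (k : Fin r), σ k = i ∧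
      σ '' {j | j < k} = (T : Set (Fin r)) := by
  classical
  have hiT : i ∉ T := fun h => lt_irrefl _ (hT i h)
  have hk : T.card < r := by
    have h1 : T ⊂ Finset.univ :=
      Finset.ssubset_univ_iff.mpr (fun h => hiT (h ▸ Finset.mem_univ i))
    have h2 := Finset.card_lt_card h1
    simpa using h2
  obtain ⟨emb, hemb_mem, hemb_range⟩ : ∃ emb : Fin T.card ↪o Fin r,
      (∀ x, emb x ∈ T) ∧ Set.range emb = (T : Set (Fin r)) :=
    ⟨T.orderEmbOfFin rfl, T.orderEmbOfFin_mem rfl, T.range_orderEmbOfFin rfl⟩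
  obtain ⟨f₀, hf₀a, hf₀b⟩ : ∃ f₀ : Fin r → Fin r,
      (∀ j (h : j.val < T.card), f₀ j = emb ⟨j.val, h⟩) ∧
      (∀ j, ¬ j.val < T.card → f₀ j = i) :=
    ⟨fun j => if h : j.val < T.card then emb ⟨j.val, h⟩ else i,
      fun j h => dif_pos h, fun j h => dif_neg h⟩
  have hinj : Set.InjOn f₀
      ((Finset.univ.filter (fun j : Fin r => j.val ≤ T.card) : Finset (Fin r)) :
        Set (Fin r)) := by
    intro j hj j' hj' hjj'
    have hj1 : j.val ≤ T.card := (Finset.mem_filter.mp (Finset.mem_coe.mp hj)).2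
    have hj2 : j'.val ≤ T.card := (Finset.mem_filter.mp (Finset.mem_coe.mp hj')).2
    by_cases h1 : j.val < T.card <;> by_cases h2 : j'.val < T.card
    · rw [hf₀a j h1, hf₀a j' h2] at hjj'
      have h3 := emb.injective hjj'
      exact Fin.ext (Fin.mk.inj_iff.mp h3)
    · rw [hf₀a j h1, hf₀b j' h2] at hjj'
      have hmem := hemb_mem ⟨j.val, h1⟩
      rw [hjj'] at hmem
      exact absurd hmem hiT
    · rw [hf₀b j h1, hf₀a j' h2] at hjj'
      have hmem := hemb_mem ⟨j'.val, h2⟩
      rw [← hjj'] at hmem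
      exact absurd hmem hiT
    · exact Fin.ext (by omega)
  obtain ⟨g, hg⟩ := Finset.exists_equiv_extend_of_card_eq (α := Fin r)
    (t := (Finset.univ : Finset (Fin r))) (by simp)
    (s := Finset.univ.filter (fun j : Fin r => j.val ≤ T.card)) (f := f₀)
    (Finset.subset_univ _) hinj
  obtain ⟨σ, hσdef⟩ : ∃ σ : Equiv.Perm (Fin r), ∀ j, σ j = (g j : Fin r) :=
    ⟨g.trans (Equiv.subtypeUnivEquiv (fun x => Finset.mem_univ x)), fun j => rfl⟩
  have hσ : ∀ j : Fin r, j.val ≤ T.card → σ j = f₀ j := by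
    intro j hj
    rw [hσdef]
    exact hg j (Finset.mem_filter.mpr ⟨Finset.mem_univ _, hj⟩)
  refine ⟨σ, ⟨T.card, hk⟩, ?_, ?_⟩
  · rw [hσ _ le_rfl]
    exact hf₀b _ (lt_irrefl _)
  · ext x
    constructor
    · rintro ⟨j, hj, rfl⟩
      have hj' : j.val < T.card := hj
      rw [hσ j hj'.le, hf₀a j hj']
      exact Finset.mem_coe.mpr (hemb_mem _)
    · intro hx
      rw [← hemb_range] at hx
      obtain ⟨j, rfl⟩ := hx
      refine ⟨⟨j.val, j.2.trans hk⟩, j.2, ?_⟩
      rw [hσ _ (le_of_lt j.2), hf₀a _ j.2]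

end aux

/-- For elements `f_1, …, f_r` generating a proper ideal, all reorderings are regular sequences in `R`
if and only if the products `f_i x_i` form a regular sequence in `R[x_1, …, x_r]`. -/
theorem result {R : Type u} [CommRing R] {r : ℕ} (f : Fin r → R)
    (hf : Ideal.span (Set.range f) ≠ ⊤) :
    (∀ σ : Equiv.Perm (Fin r), RingTheory.Sequence.IsRegular R (List.ofFn (f ∘ σ))) ↔
      RingTheory.Sequence.IsRegular (MvPolynomial (Fin r) R)
        (List.ofFn fun i => MvPolynomial.C (f i) * MvPolynomial.X i) := by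
  classical
  constructor
  · intro hperm
    have hN : ∀ (i : Fin r) (T : Finset (Fin r)), (∀ t ∈ T, t < i) → ∀ a : R,
        f i * a ∈ Ideal.span (f '' (T : Set (Fin r))) →
          a ∈ Ideal.span (f '' (T : Set (Fin r))) := by
      intro i T hT a ha
      obtain ⟨σ, k, hσk, hσT⟩ := exists_perm i T hT
      have hw := (wr_iff (f ∘ σ)).mp (hperm σ).toIsWeaklyRegular k a
      have himg : (f ∘ σ) '' {j | j < k} = f '' (T : Set (Fin r)) := by
        rw [Set.image_comp, hσT]
      rw [himg] at hw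
      simp only [Function.comp_apply, hσk] at hw
      exact hw ha
    refine ⟨?_, ?_⟩
    · rw [wr_iff]
      intro i P hP
      exact poly_nzd f i (hN i) P hP
    · rw [ideal_smul_top, ofList_ofFn]
      intro htop
      have h1 : (1 : MvPolynomial (Fin r) R) ∈
          Ideal.span (Set.range fun i => MvPolynomial.C (f i) * MvPolynomial.X i) := by
        rw [← htop]; trivial
      rw [← Set.image_univ] at h1
      have h2 := coeff_mem_of_mem f Set.univ 1 h1 0
      have hempty : {j : Fin r | j ∈ (Set.univ : Set (Fin r)) ∧ (0 : Fin r →₀ ℕ) j ≠ 0} = ∅ := by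
        ext j; simp
      rw [hempty, Set.image_empty, Ideal.span_empty] at h2
      have h3 : (1 : R) = 0 := by simpa using h2
      apply hf
      rw [Ideal.eq_top_iff_one, h3]
      exact Ideal.zero_mem _
  · intro hpoly σ
    have hN0 : ∀ (i : Fin r) (T : Finset (Fin r)), (∀ t ∈ T, t < i) → ∀ a : R,
        f i * a ∈ Ideal.span (f '' (T : Set (Fin r))) →
          a ∈ Ideal.span (f '' (T : Set (Fin r))) := by
      intro i T hT a ha
      have hw := (wr_iff (fun i => MvPolynomial.C (f i) * MvPolynomial.X i)).mp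
        hpoly.toIsWeaklyRegular i
      exact nzd_of_poly f i hw T hT a ha
    have hN := nzd_all f hN0
    refine ⟨?_, ?_⟩
    · rw [wr_iff]
      intro i a ha
      obtain ⟨T, hTdef⟩ : ∃ T : Finset (Fin r),
          T = (Finset.univ.filter (fun j => j < i)).image σ := ⟨_, rfl⟩
      have himg : (f ∘ σ) '' {j | j < i} = f '' (T : Set (Fin r)) := by
        rw [Set.image_comp]
        congr 1
        ext x
        rw [hTdef]
        simp
      rw [himg] at ha ⊢
      have hs : σ i ∉ T := by
        rw [hTdef]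
        intro hmem
        obtain ⟨j, hj, hσ⟩ := Finset.mem_image.mp hmem
        have hj' : j < i := (Finset.mem_filter.mp hj).2
        exact absurd (σ.injective hσ) (ne_of_lt hj')
      exact hN T.card T rfl (σ i) hs a ha
    · rw [ideal_smul_top, ofList_ofFn, EquivLike.range_comp]
      exact fun h => hf h.symm

end Groth.Agent.S2101
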