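import Groth.Statements.S2111
import Mathlib
-- import your own Groth.Agent.* helpers here

set_option autoImplicit false
universe u
open CAlg

namespace Groth.Agent.S2111

/-- Let `R` be a Noetherian normal domain with fraction field `K`. An element of `K` which lies in `R_𝔭`
for every prime `𝔭` of height one lies in `R`. -/
theorem result {R : Type u} [CommRing R] [IsDomain R] [IsNoetherianRing R]
    [IsIntegrallyClosed R] (x : FractionRing R)
    (hx : ∀ (p : Ideal R) [p.IsPrime], p.height = 1 →
      x ∈ Set.range (algebraMap (Localization.AtPrime p) (FractionRing R))) :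
    x ∈ Set.range (algebraMap R (FractionRing R)) := by
  classical
  have hinj : Function.Injective (algebraMap R (FractionRing R)) := IsFractionRing.injective R (FractionRing R)
  obtain ⟨a, b, hb, hxab⟩ := IsFractionRing.div_surjective (A := R) x
  have hb0 : b ≠ 0 := nonZeroDivisors.ne_zero hb
  have hbK : algebraMap R (FractionRing R) b ≠ 0 := fun h => hb0 (hinj (by rw [h, map_zero]))
  by_contra hcon
  have ha : a ∉ Ideal.span {b} := by
    intro h
    obtain ⟨c, rfl⟩ := Ideal.mem_span_singleton'.mp h
    apply hcon
    refine ⟨c, ?_⟩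
    rw [← hxab, map_mul, mul_div_assoc, div_self hbK, mul_one]
  have hā : (Ideal.Quotient.mk (Ideal.span {b}) a) ≠ 0 := by
    rwa [Ne, Ideal.Quotient.eq_zero_iff_mem]
  obtain ⟨p, hp, hle⟩ := exists_le_isAssociatedPrime_of_isNoetherianRing R _ hā
  obtain ⟨hpp, ⟨cbar, hpc⟩⟩ := isAssociatedPrime_iff.mp hp
  obtain ⟨c, rfl⟩ := Ideal.Quotient.mk_surjective cbar
  have hsm : ∀ r d : R, r • (Ideal.Quotient.mk (Ideal.span {b}) d) = 0 ↔ r * d ∈ Ideal.span {b} := by
    intro r d
    rw [← Ideal.Quotient.eq_zero_iff_mem, map_mul]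
    rfl
  have hmem : ∀ r, r ∈ p ↔ r * c ∈ Ideal.span {b} := by
    intro r
    rw [hpc, Submodule.mem_colon_singleton, Submodule.mem_bot, hsm]
  have hbp : b ∈ p := by
    rw [hmem]
    exact Ideal.mul_mem_right _ _ (Ideal.mem_span_singleton_self b)
  have hpbot : p ≠ ⊥ := fun h => hb0 (by rw [h] at hbp; exact hbp)
  have hc : c ∉ Ideal.span {b} := by
    intro h
    have : (1 : R) ∈ p := by rw [hmem, one_mul]; exact h
    exact hpp.ne_top ((Ideal.eq_top_iff_one _).mpr this)
  have hexists : ∀ r ∈ p, ∃ t, t * b = r * c := by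
    intro r hr
    exact Ideal.mem_span_singleton'.mp ((hmem r).mp hr)
  have hheight : p.height = 1 := by
    by_cases hcase : ∀ r ∈ p, ∀ t, t * b = r * c → t ∈ p
    · exfalso
      let y : (FractionRing R) := algebraMap R (FractionRing R) c / algebraMap R (FractionRing R) b
      let N : Submodule R (FractionRing R) := Submodule.map (Algebra.linearMap R (FractionRing R)) p
      have hN : N ≠ ⊥ := by
        intro h
        have : algebraMap R (FractionRing R) b ∈ N := ⟨b, hbp, rfl⟩
        rw [h, Submodule.mem_bot] at this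
        exact hbK this
      have hFG : N.FG := Submodule.FG.map _ (IsNoetherian.noetherian p)
      have hy : ∀ n ∈ N, y • n ∈ N := by
        rintro _ ⟨r, hr, rfl⟩
        obtain ⟨t, ht⟩ := hexists r hr
        refine ⟨t, hcase r hr t ht, ?_⟩
        simp only [Algebra.linearMap_apply, y, smul_eq_mul]
        rw [div_mul_eq_mul_div, eq_div_iff hbK, ← map_mul, ← map_mul, ht, mul_comm]
      have hint : IsIntegral R y := isIntegral_of_smul_mem_submodule N hN hFG y hy
      obtain ⟨d, hd⟩ := IsIntegrallyClosed.isIntegral_iff.mp hint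
      apply hc
      rw [Ideal.mem_span_singleton']
      refine ⟨d, hinj ?_⟩
      rw [map_mul, hd]
      simp only [y]
      rw [div_mul_cancel₀ _ hbK]
    · push Not at hcase
      obtain ⟨r0, hr0, t0, ht0, ht0p⟩ := hcase
      have hminimal : p ∈ (Ideal.span {r0}).minimalPrimes := by
        refine ⟨⟨hpp, (Ideal.span_singleton_le_iff_mem _).mpr hr0⟩, ?_⟩
        rintro q ⟨hq, hq'⟩ hqp
        intro r hr
        obtain ⟨t, ht⟩ := hexists r hr
        have h1 : r * t0 = r0 * t := by
          apply mul_right_cancel₀ hb0
          calc r * t0 * b = r * (t0 * b) := by ring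
            _ = r * (r0 * c) := by rw [ht0]
            _ = r0 * (r * c) := by ring
            _ = r0 * (t * b) := by rw [ht]
            _ = r0 * t * b := by ring
        have h2 : r * t0 ∈ q := by
          rw [h1]
          exact Ideal.mul_mem_right _ _ ((Ideal.span_singleton_le_iff_mem _).mp hq')
        rcases hq.mem_or_mem h2 with h | h
        · exact h
        · exact absurd (hqp h) ht0p
      have hle1 : p.height ≤ 1 :=
        Ideal.height_le_one_of_isPrincipal_of_mem_minimalPrimes (Ideal.span {r0}) p hminimal
      have hne0 : p.height ≠ 0 := by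
        rw [Ne, Ideal.height_eq_zero_iff_eq_bot]
        exact hpbot
      exact le_antisymm hle1 (Order.one_le_iff_pos.mpr (pos_iff_ne_zero.mpr hne0))
  haveI := hpp
  obtain ⟨z, hz⟩ := hx p hheight
  obtain ⟨u, s, rfl⟩ := IsLocalization.exists_mk'_eq p.primeCompl z
  have h1 := IsLocalization.mk'_spec (Localization.AtPrime p) u s
  have h2 := congrArg (algebraMap (Localization.AtPrime p) (FractionRing R)) h1
  rw [map_mul, hz, ← IsScalarTower.algebraMap_apply, ← IsScalarTower.algebraMap_apply] at h2
  have h3 : a * (s : R) = u * b := by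
    apply hinj
    rw [map_mul, map_mul, ← h2, ← hxab]
    field_simp
  have hs : (s : R) ∈ p := by
    apply hle
    rw [Submodule.mem_colon_singleton, Submodule.mem_bot, hsm, mul_comm, h3]
    exact Ideal.mul_mem_left _ _ (Ideal.mem_span_singleton_self b)
  exact s.2 hs

end Groth.Agent.S2111
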