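import Groth.Statements.S2112
import Mathlib

set_option autoImplicit false
universe u
open CAlg

namespace Groth.Agent.S2112

open TensorProduct in
theorem eq_zero_of_forall_algHom {k A : Type*} [Field k] [IsAlgClosed k] [CommRing A] [Algebra k A]
    [Algebra.FiniteType k A] [IsReduced A] (x : A) (hx : ∀ χ : A →ₐ[k] k, χ x = 0) : x = 0 := by
  obtain ⟨n, π, hπ⟩ := Algebra.FiniteType.iff_quotient_mvPolynomial''.mp
    (inferInstance : Algebra.FiniteType k A)
  obtain ⟨p, rfl⟩ := hπ x
  have hp : p ∈ MvPolynomial.vanishingIdeal k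
      (MvPolynomial.zeroLocus k (RingHom.ker π.toRingHom)) := by
    rw [MvPolynomial.mem_vanishingIdeal_iff]
    intro z hz
    have hle : RingHom.ker π.toRingHom ≤
        RingHom.ker (MvPolynomial.aeval z : MvPolynomial (Fin n) k →ₐ[k] k).toRingHom := by
      intro q hq
      exact RingHom.mem_ker.mpr (hz q hq)
    have h1 := hx (AlgHom.liftOfSurjective π hπ (MvPolynomial.aeval z) hle)
    rwa [AlgHom.liftOfSurjective_apply] at h1
  rw [MvPolynomial.vanishingIdeal_zeroLocus_eq_radical] at hp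
  obtain ⟨m, hm⟩ := hp
  have h2 : π p ^ m = 0 := by rw [← map_pow]; exact RingHom.mem_ker.mp hm
  exact IsReduced.eq_zero _ ⟨m, h2⟩

open TensorProduct in
theorem noZeroDiv_of_fg {k A B : Type*} [Field k] [IsAlgClosed k] [CommRing A] [Algebra k A]
    [IsDomain A] [Algebra.FiniteType k A] [CommRing B] [Algebra k B] [IsDomain B]
    (α α' : A ⊗[k] B) (h : α * α' = 0) : α = 0 ∨ α' = 0 := by
  classical
  obtain ⟨ι, ⟨𝒞⟩⟩ : ∃ ι : Type _, Nonempty (Module.Basis ι k B) :=
    ⟨_, ⟨Module.Basis.ofVectorSpace k B⟩⟩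
  obtain ⟨θ, hθ⟩ : ∃ θ : (A →ₐ[k] k) → (A ⊗[k] B →ₐ[k] B),
      ∀ χ a b, θ χ (a ⊗ₜ[k] b) = χ a • b :=
    ⟨fun χ => Algebra.TensorProduct.lift ((Algebra.ofId k B).comp χ) (AlgHom.id k B)
        (fun _ _ => Commute.all _ _),
      fun χ a b => by
        rw [Algebra.TensorProduct.lift_tmul, AlgHom.comp_apply, Algebra.ofId_apply,
          AlgHom.id_apply, Algebra.smul_def]⟩
  have K1 : ∀ (χ : A →ₐ[k] k) (x : A ⊗[k] B) (i : ι),
      𝒞.repr (θ χ x) i = χ ((𝒞.baseChange A).repr x i) := by
    intro χ x i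
    induction x using TensorProduct.induction_on with
    | zero => simp
    | tmul a b =>
      rw [hθ, Module.Basis.baseChange_repr_tmul, map_smul, map_smul, Finsupp.smul_apply,
        smul_eq_mul, smul_eq_mul, mul_comm]
    | add x y hx hy => simp only [map_add, Finsupp.add_apply, hx, hy]
  have hor : ∀ χ : A →ₐ[k] k, (∀ i, χ ((𝒞.baseChange A).repr α i) = 0) ∨
      (∀ j, χ ((𝒞.baseChange A).repr α' j) = 0) := by
    intro χ
    have h1 : θ χ α * θ χ α' = 0 := by rw [← map_mul, h, map_zero]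
    rcases mul_eq_zero.mp h1 with h2 | h2
    · left; intro i; rw [← K1, h2, map_zero, Finsupp.zero_apply]
    · right; intro j; rw [← K1, h2, map_zero, Finsupp.zero_apply]
  have hprod : ∀ i j, (𝒞.baseChange A).repr α i * (𝒞.baseChange A).repr α' j = 0 := by
    intro i j
    apply eq_zero_of_forall_algHom (k := k)
    intro χ
    rw [map_mul]
    rcases hor χ with h3 | h3
    · rw [h3 i, zero_mul]
    · rw [h3 j, mul_zero]
  by_cases hα : α = 0
  · exact Or.inl hα
  · right
    have hne : (𝒞.baseChange A).repr α ≠ 0 :=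
      fun h0 => hα ((𝒞.baseChange A).repr.map_eq_zero_iff.mp h0)
    obtain ⟨i, hi⟩ := Finsupp.ne_iff.mp hne
    apply (𝒞.baseChange A).repr.map_eq_zero_iff.mp
    ext j
    exact (mul_eq_zero.mp (hprod i j)).resolve_left hi

open TensorProduct in
theorem noZeroDiv_tensor {k A B : Type*} [Field k] [IsAlgClosed k] [CommRing A] [Algebra k A]
    [IsDomain A] [CommRing B] [Algebra k B] [IsDomain B]
    (α α' : A ⊗[k] B) (h : α * α' = 0) : α = 0 ∨ α' = 0 := by
  classical
  obtain ⟨ι, ⟨𝒞⟩⟩ : ∃ ι : Type _, Nonempty (Module.Basis ι k B) :=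
    ⟨_, ⟨Module.Basis.ofVectorSpace k B⟩⟩
  obtain ⟨s, hs, hs'⟩ : ∃ s : Finset A,
      (∀ i, (𝒞.baseChange A).repr α i ∈ Algebra.adjoin k (s : Set A)) ∧
      (∀ i, (𝒞.baseChange A).repr α' i ∈ Algebra.adjoin k (s : Set A)) := by
    refine ⟨((𝒞.baseChange A).repr α).support.image ((𝒞.baseChange A).repr α) ∪
      ((𝒞.baseChange A).repr α').support.image ((𝒞.baseChange A).repr α'), ?_, ?_⟩
    · intro i
      by_cases hi : i ∈ ((𝒞.baseChange A).repr α).support
      · apply Algebra.subset_adjoin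
        exact Finset.mem_coe.mpr (Finset.mem_union_left _ (Finset.mem_image_of_mem _ hi))
      · rw [Finsupp.notMem_support_iff.mp hi]; exact zero_mem _
    · intro i
      by_cases hi : i ∈ ((𝒞.baseChange A).repr α').support
      · apply Algebra.subset_adjoin
        exact Finset.mem_coe.mpr (Finset.mem_union_right _ (Finset.mem_image_of_mem _ hi))
      · rw [Finsupp.notMem_support_iff.mp hi]; exact zero_mem _
  obtain ⟨A₀, hA₀fg, hA₀, hA₀'⟩ : ∃ A₀ : Subalgebra k A, A₀.FG ∧
      (∀ i, (𝒞.baseChange A).repr α i ∈ A₀) ∧ (∀ i, (𝒞.baseChange A).repr α' i ∈ A₀) :=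
    ⟨Algebra.adjoin k (s : Set A), Subalgebra.fg_adjoin_finset s, hs, hs'⟩
  haveI : Algebra.FiniteType k ↥A₀ := (Subalgebra.fg_iff_finiteType A₀).mp hA₀fg
  have hcoe : ∀ x : ↥A₀ ⊗[k] B, Algebra.TensorProduct.map A₀.val (AlgHom.id k B) x =
      LinearMap.rTensor B A₀.val.toLinearMap x := by
    intro x
    induction x using TensorProduct.induction_on with
    | zero => simp
    | tmul a b => simp
    | add x y hx hy => rw [map_add, map_add, hx, hy]
  have hinj : Function.Injective (Algebra.TensorProduct.map A₀.val (AlgHom.id k B)) := by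
    intro x y hxy
    apply Module.Flat.rTensor_preserves_injective_linearMap (M := B) A₀.val.toLinearMap
      Subtype.val_injective
    rw [← hcoe, ← hcoe, hxy]
  have hmem : ∀ x : A ⊗[k] B, (∀ i, (𝒞.baseChange A).repr x i ∈ A₀) →
      ∃ x₀ : ↥A₀ ⊗[k] B, Algebra.TensorProduct.map A₀.val (AlgHom.id k B) x₀ = x := by
    intro x hx
    refine ⟨∑ i ∈ ((𝒞.baseChange A).repr x).support,
      (⟨(𝒞.baseChange A).repr x i, hx i⟩ : ↥A₀) ⊗ₜ[k] 𝒞 i, ?_⟩
    conv_rhs => rw [← (𝒞.baseChange A).linearCombination_repr x,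
      Finsupp.linearCombination_apply, Finsupp.sum]
    rw [map_sum]
    refine Finset.sum_congr rfl fun i _ => ?_
    rw [Algebra.TensorProduct.map_tmul, Module.Basis.baseChange_apply,
      TensorProduct.smul_tmul', smul_eq_mul, mul_one]
    rfl
  obtain ⟨α₀, hα₀⟩ := hmem α hA₀
  obtain ⟨α₀', hα₀'⟩ := hmem α' hA₀'
  have h0 : α₀ * α₀' = 0 := by
    apply hinj
    rw [map_mul, hα₀, hα₀', h, map_zero]
  rcases noZeroDiv_of_fg α₀ α₀' h0 with h1 | h1
  · left; rw [← hα₀, h1, map_zero]
  · right; rw [← hα₀', h1, map_zero]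

theorem irr_of_surj {X Y : Type*} [TopologicalSpace X] [TopologicalSpace Y] (g : X → Y)
    (hc : Continuous g) (hs : Function.Surjective g) [IrreducibleSpace X] :
    IrreducibleSpace Y := by
  rw [irreducibleSpace_def]
  have h := (IrreducibleSpace.isIrreducible_univ X).image g hc.continuousOn
  rwa [Set.image_univ, hs.range_eq] at h

theorem nilPrime_iff_of_homeo {X Y : Type*} [CommRing X] [CommRing Y] (φ : X →+* Y)
    (h : IsHomeomorph (PrimeSpectrum.comap φ)) :
    (nilradical X).IsPrime ↔ (nilradical Y).IsPrime := by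
  rw [← PrimeSpectrum.irreducibleSpace_iff_isPrime_nilradical,
    ← PrimeSpectrum.irreducibleSpace_iff_isPrime_nilradical]
  constructor
  · intro _
    exact irr_of_surj (IsHomeomorph.homeomorph _ h).symm
      (IsHomeomorph.homeomorph _ h).symm.continuous (IsHomeomorph.homeomorph _ h).symm.surjective
  · intro _
    exact irr_of_surj (PrimeSpectrum.comap φ) h.continuous h.surjective

theorem hasUnique_iff (A : Type u) [CommRing A] :
    CAlgX.HasUniqueMinimalPrime A ↔ (nilradical A).IsPrime := by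
  constructor
  · rintro ⟨p, hp, huniq⟩
    have h1 : minimalPrimes A = {p} :=
      Set.eq_singleton_iff_unique_mem.mpr ⟨hp, fun q hq => huniq q hq⟩
    have h2 : sInf (minimalPrimes A) = nilradical A :=
      Ideal.sInf_minimalPrimes (I := (⊥ : Ideal A))
    rw [h1, sInf_singleton] at h2
    rw [← h2]
    have hp' : Minimal (fun r : Ideal A => r.IsPrime ∧ ⊥ ≤ r) p := hp
    exact hp'.1.1
  · intro hprime
    refine ⟨nilradical A, ?_, ?_⟩
    · show Minimal (fun r : Ideal A => r.IsPrime ∧ ⊥ ≤ r) (nilradical A)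
      refine And.intro ⟨hprime, bot_le⟩ ?_
      intro q hq _
      haveI := hq.1
      exact nilradical_le_prime q
    · intro q hq
      have hq' : Minimal (fun r : Ideal A => r.IsPrime ∧ ⊥ ≤ r) q := hq
      haveI := hq'.1.1
      have h1 : nilradical A ≤ q := nilradical_le_prime q
      exact le_antisymm (hq'.2 ⟨hprime, bot_le⟩ h1) h1

open TensorProduct in
theorem nilPrime_tensor {K A B : Type u} [Field K] [IsAlgClosed K] [CommRing A] [CommRing B]
    [Algebra K A] [Algebra K B]
    (hA : (nilradical A).IsPrime) (hB : (nilradical B).IsPrime) :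
    (nilradical (A ⊗[K] B)).IsPrime := by
  haveI := hA
  haveI := hB
  haveI : IsDomain (A ⧸ nilradical A) := Ideal.Quotient.isDomain _
  haveI : IsDomain (B ⧸ nilradical B) := Ideal.Quotient.isDomain _
  haveI : Nontrivial ((A ⧸ nilradical A) ⊗[K] (B ⧸ nilradical B)) :=
    (Algebra.TensorProduct.includeLeft_injective (R := K) (S := K) (A := A ⧸ nilradical A)
      (B := B ⧸ nilradical B) (algebraMap K (B ⧸ nilradical B)).injective).nontrivial
  haveI : NoZeroDivisors ((A ⧸ nilradical A) ⊗[K] (B ⧸ nilradical B)) :=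
    ⟨fun {a b} h => noZeroDiv_tensor a b h⟩
  haveI : IsDomain ((A ⧸ nilradical A) ⊗[K] (B ⧸ nilradical B)) := NoZeroDivisors.to_isDomain _
  have hker := Algebra.TensorProduct.map_ker (Ideal.Quotient.mkₐ K (nilradical A))
    (Ideal.Quotient.mkₐ K (nilradical B)) (Ideal.Quotient.mkₐ_surjective K _)
    (Ideal.Quotient.mkₐ_surjective K _)
  have hle : RingHom.ker (Algebra.TensorProduct.map (Ideal.Quotient.mkₐ K (nilradical A))
      (Ideal.Quotient.mkₐ K (nilradical B))) ≤ nilradical (A ⊗[K] B) := by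
    have hkA : RingHom.ker (Ideal.Quotient.mkₐ K (nilradical A)) = nilradical A := by
      ext x
      rw [RingHom.mem_ker, Ideal.Quotient.mkₐ_eq_mk, Ideal.Quotient.eq_zero_iff_mem]
    have hkB : RingHom.ker (Ideal.Quotient.mkₐ K (nilradical B)) = nilradical B := by
      ext x
      rw [RingHom.mem_ker, Ideal.Quotient.mkₐ_eq_mk, Ideal.Quotient.eq_zero_iff_mem]
    rw [hker, hkA, hkB]
    refine sup_le ?_ ?_
    · rw [Ideal.map_le_iff_le_comap]
      intro x hx
      exact mem_nilradical.mpr ((mem_nilradical.mp hx).map _)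
    · rw [Ideal.map_le_iff_le_comap]
      intro x hx
      exact mem_nilradical.mpr ((mem_nilradical.mp hx).map _)
  have hprime : (RingHom.ker (Algebra.TensorProduct.map (Ideal.Quotient.mkₐ K (nilradical A))
      (Ideal.Quotient.mkₐ K (nilradical B)))).IsPrime := RingHom.ker_isPrime _
  have heq : nilradical (A ⊗[K] B) = RingHom.ker (Algebra.TensorProduct.map
      (Ideal.Quotient.mkₐ K (nilradical A)) (Ideal.Quotient.mkₐ K (nilradical B))) :=
    le_antisymm (nilradical_le_prime _) hle
  rw [heq]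
  exact hprime

open TensorProduct in
/-- Let `k` be a separably closed field and `R`, `S` two `k`-algebras each having exactly one minimal
prime ideal. Then `R ⊗_k S` has exactly one minimal prime ideal. -/
theorem result {k R S : Type u} [Field k] [IsSepClosed k] [CommRing R] [CommRing S]
    [Algebra k R] [Algebra k S] (hR : CAlgX.HasUniqueMinimalPrime R) (hS : CAlgX.HasUniqueMinimalPrime S) :
    CAlgX.HasUniqueMinimalPrime (R ⊗[k] S) := by
  rw [hasUnique_iff] at hR hS ⊢
  have stepA : ∀ (X : Type u) [CommRing X] [Algebra k X], (nilradical X).IsPrime ↔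
      (nilradical (AlgebraicClosure k ⊗[k] X)).IsPrime := by
    intro X _ _
    have h1 := nilPrime_iff_of_homeo (algebraMap X (X ⊗[k] AlgebraicClosure k))
      (PrimeSpectrum.isHomeomorph_comap_of_isPurelyInseparable k (AlgebraicClosure k) X)
    have h2 := nilPrime_iff_of_homeo
      ((Algebra.TensorProduct.comm k X (AlgebraicClosure k)).toRingEquiv :
        X ⊗[k] AlgebraicClosure k →+* AlgebraicClosure k ⊗[k] X)
      (PrimeSpectrum.isHomeomorph_comap_of_bijective (RingEquiv.bijective _))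
    exact h1.trans h2
  have hR' := (stepA R).mp hR
  have hS' := (stepA S).mp hS
  have hT := nilPrime_tensor (K := AlgebraicClosure k) hR' hS'
  have h3 := nilPrime_iff_of_homeo
    ((Algebra.TensorProduct.cancelBaseChange k (AlgebraicClosure k) (AlgebraicClosure k)
      (AlgebraicClosure k ⊗[k] R) S).toRingEquiv :
      (AlgebraicClosure k ⊗[k] R) ⊗[AlgebraicClosure k] (AlgebraicClosure k ⊗[k] S) →+*
        (AlgebraicClosure k ⊗[k] R) ⊗[k] S)
    (PrimeSpectrum.isHomeomorph_comap_of_bijective (RingEquiv.bijective _))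
  have h4 := nilPrime_iff_of_homeo
    ((Algebra.TensorProduct.assoc k k k (AlgebraicClosure k) R S).toRingEquiv :
      (AlgebraicClosure k ⊗[k] R) ⊗[k] S →+* AlgebraicClosure k ⊗[k] (R ⊗[k] S))
    (PrimeSpectrum.isHomeomorph_comap_of_bijective (RingEquiv.bijective _))
  exact (stepA (R ⊗[k] S)).mpr (h4.mp (h3.mp hT))

end Groth.Agent.S2112
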