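import Groth.Statements.S2113
import Groth.Agent.H11.HeightOne
import Mathlib.RingTheory.Spectrum.Prime.RingHom

set_option autoImplicit false
universe u
open CAlg

namespace Groth.Agent.S2113

/-- A Noetherian ring in which each prime is maximal or else lies below infinitely many primes is a
Jacobson ring. -/
theorem result {R : Type u} [CommRing R] [IsNoetherianRing R]
    (h : ∀ (p : Ideal R) [p.IsPrime], p.IsMaximal ∨ {q : PrimeSpectrum R | p ≤ q.asIdeal}.Infinite) :
    IsJacobsonRing R := by
  rw [isJacobsonRing_iff_prime_eq]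
  intro P
  induction P using IsNoetherian.induction with
  | hgt P ih =>
  intro hP
  rcases h P with hmax | hinf
  · exact Ideal.jacobson_eq_self_of_isMaximal
  rw [Ideal.jacobson_eq_iff_jacobson_quotient_eq_bot]
  have hsurj : Function.Surjective (Ideal.Quotient.mk P) := Ideal.Quotient.mk_surjective
  -- Spec (R ⧸ P) is infinite
  have hinfD : (Set.univ : Set (PrimeSpectrum (R ⧸ P))).Infinite := by
    have hr : Set.range (PrimeSpectrum.comap (Ideal.Quotient.mk P)) =
        {q : PrimeSpectrum R | P ≤ q.asIdeal} := by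
      rw [range_comap_of_surjective _ _ hsurj, Ideal.mk_ker]
      ext q
      simp [PrimeSpectrum.mem_zeroLocus]
    rw [← hr, ← Set.image_univ] at hinf
    exact hinf.of_image _
  by_contra hJ
  obtain ⟨f, hfJ, hf0⟩ := Submodule.exists_mem_ne_zero_of_ne_bot hJ
  -- every nonzero prime of the quotient contains f
  have hall : ∀ Q : Ideal (R ⧸ P), Q.IsPrime → Q ≠ ⊥ → f ∈ Q := by
    intro Q hQ hQ0
    have hlt : P < Q.comap (Ideal.Quotient.mk P) := by
      refine lt_of_le_of_ne ?_ ?_
      · conv_lhs => rw [← Ideal.mk_ker (I := P)]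
        exact Ideal.comap_mono bot_le
      · intro heq
        apply hQ0
        apply Ideal.comap_injective_of_surjective _ hsurj
        rw [← heq, ← RingHom.ker_eq_comap_bot, Ideal.mk_ker]
    have hjac := ih _ hlt (Ideal.comap_isPrime _ _)
    rw [← Ideal.comap_jacobson_of_surjective hsurj] at hjac
    have hjQ : Q.jacobson = Q := Ideal.comap_injective_of_surjective _ hsurj hjac
    rw [← hjQ]
    exact Ideal.jacobson_mono bot_le hfJ
  have hfin1 : {p : PrimeSpectrum (R ⧸ P) | p.asIdeal.height = 1}.Finite := by
    refine (Groth.Agent.H11.finite_height_one_primes_mem f hf0).subset ?_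
    intro p hp
    refine ⟨hp, hall p.asIdeal p.isPrime ?_⟩
    intro h0
    have hp' : p.asIdeal.height = 1 := hp
    rw [h0] at hp'
    simp at hp'
  have hsub : (Set.univ : Set (PrimeSpectrum (R ⧸ P))) ⊆
      {p | p.asIdeal.height = 1} ∪ {p | p.asIdeal = ⊥} := by
    intro p _
    by_cases h0 : p.asIdeal = ⊥
    · exact Or.inr h0
    · left
      have hle := Groth.Agent.H11.height_le_one_of_finite_height_one hfin1 p.asIdeal
      have hne : p.asIdeal.height ≠ 0 := by
        rw [Ne, Ideal.height_eq_zero_iff_eq_bot]; exact h0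
      exact le_antisymm hle (Order.one_le_iff_pos.mpr (pos_iff_ne_zero.mpr hne))
  have hfin0 : {p : PrimeSpectrum (R ⧸ P) | p.asIdeal = ⊥}.Finite := by
    refine Set.Subsingleton.finite ?_
    intro p hp q hq
    exact PrimeSpectrum.ext (hp.trans hq.symm)
  exact hinfD ((hfin1.union hfin0).subset hsub)

end Groth.Agent.S2113
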