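import Groth.Statements.S2119
import Groth.Agent.H11.Nagata

set_option autoImplicit false
universe u
open CAlg

namespace Groth.Agent.S2119

/-- Nagata's criterion for factoriality, final assertion: let `A` be a domain in which every nonzero
nonunit factors into irreducibles, and `S` the multiplicative subset generated by a set of prime
elements. If the localization `S⁻¹A` is a unique factorization domain, then so is `A`. -/
theorem result {A : Type u} [CommRing A] [IsDomain A]
    (hfac : ∀ a : A, a ≠ 0 → ¬ IsUnit a → ∃ f : Multiset A, (∀ b ∈ f, Irreducible b) ∧ Associated f.prod a) (P : Set A)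
    (hP : ∀ p ∈ P, Prime p) [IsDomain (Localization (Submonoid.closure P))]
    (hS : UniqueFactorizationMonoid (Localization (Submonoid.closure P))) : UniqueFactorizationMonoid A := by
  classical
  refine UniqueFactorizationMonoid.of_exists_prime_factors ?_
  intro a ha
  by_cases hu : IsUnit a
  · refine ⟨0, by simp, ?_⟩
    simpa using (associated_one_iff_isUnit.mpr hu).symm
  · obtain ⟨f, hf, hfa⟩ := hfac a ha hu
    exact ⟨f, fun b hb => Groth.Agent.H11.nag_prime_of_irreducible P hP hS b (hf b hb), hfa⟩

end Groth.Agent.S2119
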