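import Groth.Statements.S2120
import Mathlib.AlgebraicGeometry.Morphisms.Immersion

set_option autoImplicit false
universe u
open CategoryTheory AlgebraicGeometry
open Mor

namespace Groth.Agent.S2120

/-- Let `f : X → Y` be surjective and universally closed. If `X` is quasi-separated then so is `Y`; if
`X` is separated then so is `Y`. -/
theorem result {X Y : Scheme.{u}} (f : X ⟶ Y) [Surjective f] [UniversallyClosed f] :
    (QuasiSeparatedSpace X → QuasiSeparatedSpace Y) ∧ (X.IsSeparated → Y.IsSeparated) := by
  constructor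
  · intro hX
    rw [quasiSeparatedSpace_iff_forall_affineOpens]
    intro U V
    have hU : IsCompact (f ⁻¹ᵁ U.1 : Set X) := f.isCompact_preimage U.2.isCompact
    have hV : IsCompact (f ⁻¹ᵁ V.1 : Set X) := f.isCompact_preimage V.2.isCompact
    have hUV : IsCompact ((f ⁻¹ᵁ U.1 : Set X) ∩ (f ⁻¹ᵁ V.1 : Set X)) :=
      QuasiSeparatedSpace.inter_isCompact _ _ (f ⁻¹ᵁ U.1).2 hU (f ⁻¹ᵁ V.1).2 hV
    have himg : f '' ((f ⁻¹ᵁ U.1 : Set X) ∩ (f ⁻¹ᵁ V.1 : Set X)) = (U ∩ V : Set Y) := by
      simp only [Scheme.Hom.coe_preimage]
      rw [← Set.preimage_inter, Set.image_preimage_eq _ f.surjective]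
    rw [← himg]
    exact hUV.image f.continuous
  · intro hX
    refine ⟨⟨?_⟩⟩
    apply IsClosedImmersion.of_isPreimmersion
    have hsep : IsSeparated (f ≫ Limits.terminal.from Y) := by
      rw [Limits.terminalIsTerminal.hom_ext (f ≫ Limits.terminal.from Y) (Limits.terminal.from X)]
      infer_instance
    have hclosed : IsClosed (Set.range (Limits.pullback.diagonal (f ≫ Limits.terminal.from Y))) :=
      (Limits.pullback.diagonal (f ≫ Limits.terminal.from Y)).isClosedEmbedding.isClosed_range
    have huc : UniversallyClosed (Limits.pullback.map (f ≫ Limits.terminal.from Y) (f ≫ Limits.terminal.from Y)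
        (Limits.terminal.from Y) (Limits.terminal.from Y) f f (𝟙 _) (by simp) (by simp)) :=
      MorphismProperty.pullbackMap (P := @UniversallyClosed) ‹_› ‹_› rfl rfl
    have hcomp := Limits.pullback.comp_diagonal f (Limits.terminal.from Y)
    have hrange : Set.range (Limits.pullback.diagonal (Limits.terminal.from Y)) =
        (Limits.pullback.map (f ≫ Limits.terminal.from Y) (f ≫ Limits.terminal.from Y)
          (Limits.terminal.from Y) (Limits.terminal.from Y) f f (𝟙 _) (by simp) (by simp)) ''
          Set.range (Limits.pullback.diagonal (f ≫ Limits.terminal.from Y)) := by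
      rw [← Set.range_comp, ← TopCat.coe_comp, ← Scheme.Hom.comp_base, ← hcomp,
        Scheme.Hom.comp_base, TopCat.coe_comp, Set.range_comp, Set.range_eq_univ.mpr f.surjective,
        Set.image_univ]
    rw [hrange]
    exact (Scheme.Hom.isClosedMap _) _ hclosed

end Groth.Agent.S2120
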