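import Groth.Statements.S2121
import Groth.Agent.H11.ClosureSpecializes
import Mathlib.AlgebraicGeometry.ValuativeCriterion

set_option autoImplicit false
universe u
open CategoryTheory AlgebraicGeometry
open Mor

namespace Groth.Agent.S2121

/-- Let `f : X → Y` be quasi-compact and `z` a point in the closure of `f(X)` (the underlying set of the
scheme theoretic image). Then there are a valuation ring `A` with fraction field `K` and morphisms
`Spec K → X`, `Spec A → Y` forming a commutative square with `f` and `Spec K → Spec A`, such that
the closed point of `Spec A` maps to `z`. -/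
theorem result {X Y : Scheme.{u}} (f : X ⟶ Y) [QuasiCompact f] (z : Y)
    (hz : z ∈ closure (Set.range f.base)) :
    ∃ (A : Type u) (_ : CommRing A) (_ : IsDomain A) (_ : ValuationRing A)
      (x : Spec (CommRingCat.of (FractionRing A)) ⟶ X) (y : Spec (CommRingCat.of A) ⟶ Y),
      x ≫ f = Spec.map (CommRingCat.ofHom (algebraMap A (FractionRing A))) ≫ y ∧
      y.base (IsLocalRing.closedPoint A) = z := by
  obtain ⟨x', h⟩ := Groth.Agent.H11.exists_specializes_of_mem_closure_range f z hz
  let stalk_y_to_residue_x' : Y.presheaf.stalk z ⟶ X.residueField x' :=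
    Y.presheaf.stalkSpecializes h ≫ f.stalkMap x' ≫ X.residue x'
  obtain ⟨A, hA, hA_local⟩ := IsLocalRing.exists_factor_valuationRing stalk_y_to_residue_x'.hom
  let stalk_y_to_A : Y.presheaf.stalk z ⟶ .of A :=
    CommRingCat.ofHom (stalk_y_to_residue_x'.hom.codRestrict _ hA)
  have w : X.fromSpecResidueField x' ≫ f =
      Spec.map (CommRingCat.ofHom (algebraMap A (X.residueField x'))) ≫
        Spec.map stalk_y_to_A ≫ Y.fromSpecStalk z := by
    rw [Scheme.fromSpecResidueField, Category.assoc, ← Scheme.SpecMap_stalkMap_fromSpecStalk,
      ← Scheme.SpecMap_stalkSpecializes_fromSpecStalk h]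
    simp_rw [← Spec.map_comp_assoc]
    rfl
  let e : FractionRing A ≃ₐ[A] X.residueField x' := FractionRing.algEquiv A (X.residueField x')
  refine ⟨A, inferInstance, inferInstance, inferInstance,
    Spec.map (CommRingCat.ofHom (e.symm : X.residueField x' →+* FractionRing A)) ≫
      X.fromSpecResidueField x',
    Spec.map stalk_y_to_A ≫ Y.fromSpecStalk z, ?_, ?_⟩
  · have key : CommRingCat.ofHom (algebraMap A (X.residueField x')) ≫
        CommRingCat.ofHom (e.symm : X.residueField x' →+* FractionRing A) =
        CommRingCat.ofHom (algebraMap A (FractionRing A)) := by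
      ext a
      simp only [CommRingCat.hom_comp, CommRingCat.hom_ofHom, RingHom.comp_apply]
      exact e.symm.commutes a
    rw [Category.assoc, w, ← Spec.map_comp_assoc, key]
  · simp only [Scheme.Hom.comp_base, TopCat.coe_comp, Function.comp_apply]
    have : Spec.map stalk_y_to_A (IsLocalRing.closedPoint A) =
        IsLocalRing.closedPoint (Y.presheaf.stalk z) :=
      IsLocalRing.comap_closedPoint (S := A) (stalk_y_to_residue_x'.hom.codRestrict A.toSubring hA)
    erw [this, Y.fromSpecStalk_closedPoint]

end Groth.Agent.S2121
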