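import Groth.Statements.S2124
import Groth.Agent.Lead.CompletionFree

set_option autoImplicit false
universe u
open CAlg

namespace Groth.Agent.S2124

/-- Let `R` be Noetherian and `I`-adically complete and `α` any index set. The map from the `I`-adic
completion of the direct sum `⊕_α R` to the product `∏_α R^∧ = ∏_α R`, induced by the coordinate
projections, is universally injective. -/
theorem result {R : Type u} [CommRing R] [IsNoetherianRing R] (I : Ideal R)
    [IsAdicComplete I R] (α : Type u) :
    CAlgX.UniversallyInjective R
      (LinearMap.pi fun a : α => AdicCompletion.map I (Finsupp.lapply a : (α →₀ R) →ₗ[R] R) :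
        AdicCompletion I (α →₀ R) →ₗ[R] (α → AdicCompletion I R)) := by
  intro Q _ _
  have hφ : (LinearMap.pi fun a : α => AdicCompletion.map I (Finsupp.lapply a : (α →₀ R) →ₗ[R] R) :
        AdicCompletion I (α →₀ R) →ₗ[R] (α → AdicCompletion I R)) =
      (LinearEquiv.piCongrRight fun _ : α => AdicCompletion.ofLinearEquiv I R).toLinearMap ∘ₗ
        (W4c5adicflatcompl.decaying I α R).subtype ∘ₗ
          (Groth.Agent.Lead.completionFreeEquiv I α).toLinearMap := by
    apply LinearMap.ext
    intro x
    funext a
    exact (Groth.Agent.Lead.completionFreeEquiv_apply I α x a).symm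
  rw [hφ, LinearMap.rTensor_comp, LinearMap.rTensor_comp, LinearMap.coe_comp, LinearMap.coe_comp]
  refine (LinearEquiv.rTensor Q _).injective.comp
    (Function.Injective.comp ?_ (LinearEquiv.rTensor Q _).injective)
  exact ((W4c5adicflatcompl.decaying I α R).subtype.lTensor_inj_iff_rTensor_inj Q).mp
    (Groth.Agent.Lead.lTensor_decaying_subtype_injective I α Q)

end Groth.Agent.S2124
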