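import Groth.Statements.S2130
import Groth.Agent.H47.SmoothBranch

set_option autoImplicit false
universe u
open CAlg

namespace Groth.Agent.S2130

/-- Let `R → S` be smooth, `𝔮` a prime of `S` over `𝔭` with `κ(𝔮)/κ(𝔭)` purely inseparable, and `A = R_𝔭
→ B = S_𝔮`. Then henselizations of `A` and `B` have the same number of minimal prime ideals (the
same number of branches). -/
theorem result {R S Ah Bh : Type u} [CommRing R] [CommRing S]
    [Algebra R S] [Algebra.Smooth R S] (q : Ideal S) [q.IsPrime] (p : Ideal R) [p.IsPrime] [q.LiesOver p]
    (hpi : @IsPurelyInseparable p.ResidueField q.ResidueField _ _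
      (Ideal.ResidueField.mapₐ p q (Algebra.ofId R S) (q.over_def p)).toRingHom.toAlgebra)
    [CommRing Ah] [IsLocalRing Ah] [Algebra (Localization.AtPrime p) Ah]
    [IsLocalHom (algebraMap (Localization.AtPrime p) Ah)] [Hensel.IsHenselization (Localization.AtPrime p) Ah]
    [CommRing Bh] [IsLocalRing Bh] [Algebra (Localization.AtPrime q) Bh]
    [IsLocalHom (algebraMap (Localization.AtPrime q) Bh)] [Hensel.IsHenselization (Localization.AtPrime q) Bh] :
    (minimalPrimes Ah).encard = (minimalPrimes Bh).encard := by
  letI algAB : Algebra (Localization.AtPrime p) (Localization.AtPrime q) :=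
    (Localization.localRingHom p q (algebraMap R S) (q.over_def p)).toAlgebra
  haveI : IsLocalHom (algebraMap (Localization.AtPrime p) (Localization.AtPrime q)) :=
    Localization.isLocalHom_localRingHom p q (algebraMap R S) (q.over_def p)
  haveI : HenselianLocalRing Bh := Hensel.IsHenselization.henselian (R := Localization.AtPrime q)
  haveI : IsLocalHom ((algebraMap (Localization.AtPrime q) Bh).comp
      (algebraMap (Localization.AtPrime p) (Localization.AtPrime q))) :=
    RingHom.isLocalHom_comp _ _
  obtain ⟨σ, hσ, -⟩ := Hensel.IsHenselization.universal (R := Localization.AtPrime p) (S := Ah) Bh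
    ((algebraMap (Localization.AtPrime q) Bh).comp
      (algebraMap (Localization.AtPrime p) (Localization.AtPrime q))) inferInstance
  letI : Algebra Ah Bh := σ.toAlgebra
  letI : Algebra R Ah := ((algebraMap (Localization.AtPrime p) Ah).comp
    (algebraMap R (Localization.AtPrime p))).toAlgebra
  haveI : IsScalarTower R (Localization.AtPrime p) Ah :=
    IsScalarTower.of_algebraMap_eq (fun _ => rfl)
  letI : Algebra S Bh := ((algebraMap (Localization.AtPrime q) Bh).comp
    (algebraMap S (Localization.AtPrime q))).toAlgebra
  haveI : IsScalarTower S (Localization.AtPrime q) Bh :=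
    IsScalarTower.of_algebraMap_eq (fun _ => rfl)
  letI : Algebra R Bh := ((algebraMap S Bh).comp (algebraMap R S)).toAlgebra
  haveI : IsScalarTower R S Bh := IsScalarTower.of_algebraMap_eq (fun _ => rfl)
  haveI : IsScalarTower R Ah Bh := IsScalarTower.of_algebraMap_eq (fun r => by
    show algebraMap (Localization.AtPrime q) Bh
        (algebraMap S (Localization.AtPrime q) (algebraMap R S r)) =
      σ (algebraMap (Localization.AtPrime p) Ah (algebraMap R (Localization.AtPrime p) r))
    have h1 := RingHom.congr_fun hσ (algebraMap R (Localization.AtPrime p) r)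
    rw [RingHom.comp_apply, RingHom.comp_apply] at h1
    rw [h1]
    congr 1
    exact (Localization.localRingHom_to_map p q (algebraMap R S) (q.over_def p) r).symm)
  obtain ⟨e, he⟩ := ExpChar.exists (IsLocalRing.ResidueField (Localization.AtPrime p))
  haveI := he
  have hpi' : ∀ x : IsLocalRing.ResidueField (Localization.AtPrime q), ∃ n : ℕ, x ^ e ^ n ∈
      (IsLocalRing.ResidueField.map (Localization.localRingHom p q (algebraMap R S) (q.over_def p))).range := by
    letI : Algebra p.ResidueField q.ResidueField :=
      (Ideal.ResidueField.mapₐ p q (Algebra.ofId R S) (q.over_def p)).toRingHom.toAlgebra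
    exact (isPurelyInseparable_iff_pow_mem p.ResidueField e).mp hpi
  exact Groth.Agent.H47.SmoothBranch.encard_minimalPrimes_rel_hens R S p q Ah Bh e hpi'

end Groth.Agent.S2130
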