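import Groth.Statements.S2131
import Groth.Agent.H11.BijLocus

set_option autoImplicit false
universe u
open CAlg

namespace Groth.Agent.S2131

/-- For an `R`-linear map from a finite module to a finitely presented module, the primes at which its
localization is bijective form an open subset of `Spec R`. -/
theorem result {R M N : Type u} [CommRing R] [AddCommGroup M] [Module R M] [Module.Finite R M]
    [AddCommGroup N] [Module R N] [Module.FinitePresentation R N] (φ : M →ₗ[R] N) :
    IsOpen {p : PrimeSpectrum R | Function.Bijective (LocalizedModule.map p.asIdeal.primeCompl φ)} := by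
  rw [isOpen_iff_forall_mem_open]
  intro p hp
  have hp' : Function.Bijective (IsLocalizedModule.map p.asIdeal.primeCompl
      (LocalizedModule.mkLinearMap p.asIdeal.primeCompl M)
      (LocalizedModule.mkLinearMap p.asIdeal.primeCompl N) φ) := hp
  obtain ⟨g, hg, hbij⟩ := Module.FinitePresentation.exists_notMem_bijective φ p.asIdeal
    (LocalizedModule.mkLinearMap p.asIdeal.primeCompl M)
    (LocalizedModule.mkLinearMap p.asIdeal.primeCompl N) hp'
  refine ⟨PrimeSpectrum.basicOpen g, ?_, (PrimeSpectrum.basicOpen g).isOpen, hg⟩
  intro q hq
  have hle : Submonoid.powers g ≤ q.asIdeal.primeCompl := by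
    rw [Submonoid.powers_le]
    exact hq
  exact Groth.Agent.H11.lm_map_bijective_of_le hle φ hbij

end Groth.Agent.S2131
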