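import Groth.Statements.S2132
import Mathlib.Algebra.Category.Ring.FilteredColimits
import Mathlib.Algebra.Polynomial.Lifts
import Mathlib.CategoryTheory.Limits.ConcreteCategory.Basic

set_option autoImplicit false
universe u
open CategoryTheory
open CAlg

namespace Groth.Agent.S2132

/-- Let `F : J ⥤ CommRingCat` be a filtered diagram of henselian local rings with local transition maps
and `c` a colimit cocone. Then the colimit is a henselian local ring. -/
theorem result {J : Type u} [SmallCategory J] [IsFiltered J] (F : J ⥤ CommRingCat.{u})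
    (hF : ∀ j, HenselianLocalRing (F.obj j)) (hloc : ∀ (i j : J) (a : i ⟶ j), IsLocalHom (F.map a).hom)
    (c : Limits.Cocone F) (hc : Limits.IsColimit c) : HenselianLocalRing c.pt := by
  classical
  have hloc' : ∀ j, IsLocalRing (F.obj j) := fun j => (hF j).toIsLocalRing
  -- notation
  let ιR : ∀ j, F.obj j →+* c.pt := fun j => (c.ι.app j).hom
  let TR : ∀ {i j : J} (_ : i ⟶ j), F.obj i →+* F.obj j := fun a => (F.map a).hom
  have hN : ∀ {i j : J} (a : i ⟶ j), (ιR j).comp (TR a) = ιR i := by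
    intro i j a
    change (c.ι.app j).hom.comp (F.map a).hom = (c.ι.app i).hom
    rw [← CommRingCat.hom_comp, c.w]
  have hN' : ∀ {i j : J} (a : i ⟶ j) (x : F.obj i), ιR j (TR a x) = ιR i x := by
    intro i j a x
    rw [← hN a]
    rfl
  have hR : ∀ x : c.pt, ∃ (j : J) (y : F.obj j), ιR j y = x := fun x =>
    Limits.Concrete.isColimit_exists_rep F hc x
  have hE : ∀ {i j : J} (x : F.obj i) (y : F.obj j), ιR i x = ιR j y →
      ∃ (k : J) (f : i ⟶ k) (g : j ⟶ k), TR f x = TR g y := fun x y h =>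
    Limits.Concrete.isColimit_exists_of_rep_eq F hc x y h
  -- units descend
  have hU : ∀ {j : J} (x : F.obj j), IsUnit (ιR j x) → IsUnit x := by
    intro j x hx
    obtain ⟨y, hy⟩ := isUnit_iff_exists_inv.1 hx
    obtain ⟨j', y', rfl⟩ := hR y
    let k := IsFiltered.max j j'
    let a : j ⟶ k := IsFiltered.leftToMax j j'
    let b : j' ⟶ k := IsFiltered.rightToMax j j'
    have h1 : ιR k (TR a x * TR b y') = ιR k 1 := by
      rw [map_mul, hN', hN', hy, map_one]
    obtain ⟨l, f, g, hfg⟩ := hE _ _ h1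
    rw [map_mul, map_one] at hfg
    have h2 : IsUnit (TR f (TR a x)) := IsUnit.of_mul_eq_one _ hfg
    have h3 : TR f (TR a x) = TR (a ≫ f) x := by
      change (F.map f).hom ((F.map a).hom x) = (F.map (a ≫ f)).hom x
      rw [F.map_comp, CommRingCat.hom_comp]
      rfl
    rw [h3] at h2
    have := hloc j l (a ≫ f)
    exact IsLocalHom.map_nonunit (f := (F.map (a ≫ f)).hom) x h2
  -- nontrivial
  have hnt : Nontrivial c.pt := by
    refine ⟨⟨0, 1, ?_⟩⟩
    intro h01
    obtain ⟨j₀⟩ := IsFiltered.nonempty (C := J)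
    have h1 : ιR j₀ 0 = ιR j₀ 1 := by rw [map_zero, map_one, h01]
    obtain ⟨k, f, g, hfg⟩ := hE _ _ h1
    rw [map_zero, map_one] at hfg
    exact zero_ne_one hfg
  -- local
  have hL : IsLocalRing c.pt := by
    apply IsLocalRing.of_isUnit_or_isUnit_one_sub_self
    intro a
    obtain ⟨j, x, rfl⟩ := hR a
    rcases IsLocalRing.isUnit_or_isUnit_one_sub_self x with h | h
    · exact Or.inl (h.map (ιR j))
    · right
      have := h.map (ιR j)
      rwa [map_sub, map_one] at this
  have hM : ∀ {j : J} (x : F.obj j), x ∈ IsLocalRing.maximalIdeal (F.obj j) ↔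
      ιR j x ∈ IsLocalRing.maximalIdeal c.pt := by
    intro j x
    rw [IsLocalRing.mem_maximalIdeal, IsLocalRing.mem_maximalIdeal, mem_nonunits_iff,
      mem_nonunits_iff, not_iff_not]
    exact ⟨fun h => h.map (ιR j), hU x⟩
  -- polynomial descent
  have hP : ∀ p : Polynomial c.pt, ∃ j, p ∈ Polynomial.lifts (ιR j) := by
    intro p
    induction p using Polynomial.induction_on' with
    | add p q hp hq =>
      obtain ⟨j₁, h₁⟩ := hp
      obtain ⟨j₂, h₂⟩ := hq
      rw [Polynomial.mem_lifts] at h₁ h₂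
      obtain ⟨p', rfl⟩ := h₁
      obtain ⟨q', rfl⟩ := h₂
      refine ⟨IsFiltered.max j₁ j₂, ?_⟩
      rw [Polynomial.mem_lifts]
      refine ⟨p'.map (TR (IsFiltered.leftToMax j₁ j₂)) + q'.map (TR (IsFiltered.rightToMax j₁ j₂)), ?_⟩
      rw [Polynomial.map_add, Polynomial.map_map, Polynomial.map_map, hN, hN]
    | monomial n a =>
      obtain ⟨j, y, rfl⟩ := hR a
      refine ⟨j, ?_⟩
      rw [Polynomial.mem_lifts]
      exact ⟨Polynomial.monomial n y, Polynomial.map_monomial _⟩
  refine { toIsLocalRing := hL, is_henselian := ?_ }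
  intro f hf a₀ h₁ h₂
  obtain ⟨j₁, hj₁⟩ := hP f
  obtain ⟨q, hq, -, hqm⟩ := Polynomial.lifts_and_degree_eq_and_monic hj₁ hf
  obtain ⟨j₂, y, rfl⟩ := hR a₀
  let k := IsFiltered.max j₁ j₂
  let a : j₁ ⟶ k := IsFiltered.leftToMax j₁ j₂
  let b : j₂ ⟶ k := IsFiltered.rightToMax j₁ j₂
  let q' : Polynomial (F.obj k) := q.map (TR a)
  let y' : F.obj k := TR b y
  have hq' : q'.map (ιR k) = f := by
    rw [Polynomial.map_map, hN, hq]
  have hy' : ιR k y' = ιR j₂ y := hN' b y
  have hq'm : q'.Monic := hqm.map _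
  have heval : ∀ (r : Polynomial (F.obj k)) (z : F.obj k),
      (r.map (ιR k)).eval (ιR k z) = ιR k (r.eval z) := by
    intro r z
    rw [Polynomial.eval_map, Polynomial.eval₂_hom]
  have h₁' : q'.eval y' ∈ IsLocalRing.maximalIdeal (F.obj k) := by
    rw [hM, ← heval, hq', hy']
    exact h₁
  have h₂' : IsUnit (q'.derivative.eval y') := by
    apply hU
    rw [← heval, ← Polynomial.derivative_map, hq', hy']
    exact h₂
  obtain ⟨r, hr, hr'⟩ := (hF k).is_henselian q' hq'm y' h₁' h₂'
  refine ⟨ιR k r, ?_, ?_⟩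
  · change f.eval (ιR k r) = 0
    rw [← hq', heval]
    have : q'.eval r = 0 := hr
    rw [this, map_zero]
  · rw [← hy', ← map_sub, ← hM]
    exact hr'

end Groth.Agent.S2132
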