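import Groth.Statements.S2134
-- import your own Groth.Agent.* helpers here

set_option autoImplicit false
universe u
open CAlg

namespace Groth.Agent.S2134

/-- Let `K/k` be a field extension and `(K_α)` a nonempty family of intermediate fields, directed
downwards, with intersection `k`. For a `K`-subspace `V` of `K^n` (`n ≥ 1`), `V` contains a nonzero
vector with all coordinates in `k` if and only if for every `α` it contains a nonzero vector with
all coordinates in `K_α`. -/
theorem result {k K : Type u} [Field k] [Field K] [Algebra k K] {ι : Type u} [Nonempty ι]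
    (F : ι → IntermediateField k K) (hdir : ∀ a b : ι, ∃ c, F c ≤ F a ⊓ F b) (hinf : ⨅ a, F a = ⊥) (n : ℕ) (hn : 1 ≤ n)
    (V : Submodule K (Fin n → K)) :
    (∃ v ∈ V, v ≠ 0 ∧ ∀ i, v i ∈ Set.range (algebraMap k K)) ↔
      ∀ a, ∃ v ∈ V, v ≠ 0 ∧ ∀ i, v i ∈ F a := by
  classical
  constructor
  · rintro ⟨v, hv, hv0, hvk⟩ a
    refine ⟨v, hv, hv0, fun i => ?_⟩
    obtain ⟨c, hc⟩ := hvk i
    rw [← hc]
    exact (F a).algebraMap_mem c
  · intro h
    -- the family of admissible supports
    let T : ι → Finset (Finset (Fin n)) := fun a =>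
      Finset.univ.filter (fun S => ∃ v ∈ V, v ≠ 0 ∧ (∀ i, v i ∈ F a) ∧ ∀ i, v i ≠ 0 → i ∈ S)
    have hTmem : ∀ a S, S ∈ T a ↔
        ∃ v ∈ V, v ≠ 0 ∧ (∀ i, v i ∈ F a) ∧ ∀ i, v i ≠ 0 → i ∈ S := by
      intro a S
      simp [T]
    have hTmono : ∀ a b, F b ≤ F a → T b ⊆ T a := by
      intro a b hab S hS
      rw [hTmem] at hS ⊢
      obtain ⟨v, hv, hv0, hvF, hvS⟩ := hS
      exact ⟨v, hv, hv0, fun i => hab (hvF i), hvS⟩
    -- choose a₀ minimising the cardinality
    obtain ⟨a₀, ha₀⟩ : ∃ a₀, ∀ a, (T a₀).card ≤ (T a).card := by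
      have hne : (Set.range fun a => (T a).card).Nonempty := Set.range_nonempty _
      obtain ⟨a₀, ha₀⟩ := Nat.sInf_mem hne
      refine ⟨a₀, fun a => ?_⟩
      have ha₀' : (T a₀).card = sInf (Set.range fun a => (T a).card) := ha₀
      rw [ha₀']
      exact Nat.sInf_le ⟨a, rfl⟩
    have hTeq : ∀ b, F b ≤ F a₀ → T b = T a₀ := fun b hb =>
      Finset.eq_of_subset_of_card_le (hTmono a₀ b hb) (ha₀ b)
    have hTne : (T a₀).Nonempty := by
      obtain ⟨v, hv, hv0, hvF⟩ := h a₀
      exact ⟨Finset.univ, (hTmem _ _).mpr ⟨v, hv, hv0, hvF, fun i _ => Finset.mem_univ i⟩⟩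
    obtain ⟨S, hS, hSmin⟩ := Finset.exists_min_image (T a₀) Finset.card hTne
    obtain ⟨v, hv, hv0, hvF, hvS⟩ := (hTmem _ _).mp hS
    obtain ⟨i, hi⟩ : ∃ i, v i ≠ 0 := by
      by_contra hcon
      push Not at hcon
      exact hv0 (funext hcon)
    set v' : Fin n → K := (v i)⁻¹ • v with hv'def
    have hv'V : v' ∈ V := V.smul_mem _ hv
    have hv'i : v' i = 1 := by simp [hv'def, hi]
    have hv'F : ∀ j, v' j ∈ F a₀ := fun j => by
      simp only [hv'def, Pi.smul_apply, smul_eq_mul]
      exact (F a₀).mul_mem ((F a₀).inv_mem (hvF i)) (hvF j)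
    have hv'S : ∀ j, v' j ≠ 0 → j ∈ S := fun j hj => by
      apply hvS
      intro h0
      apply hj
      simp [hv'def, h0]
    have hiS : i ∈ S := hvS i hi
    have hkey : ∀ a j, v' j ∈ F a := by
      intro a j
      obtain ⟨c, hc⟩ := hdir a a₀
      have hca : F c ≤ F a := hc.trans inf_le_left
      have hca₀ : F c ≤ F a₀ := hc.trans inf_le_right
      have hSc : S ∈ T c := by rw [hTeq c hca₀]; exact hS
      obtain ⟨w, hw, hw0, hwF, hwS⟩ := (hTmem _ _).mp hSc
      have hu0 : w - (w i) • v' = 0 := by
        by_contra hne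
        have hmem : S.erase i ∈ T a₀ := by
          rw [hTmem]
          refine ⟨w - (w i) • v', V.sub_mem hw (V.smul_mem _ hv'V), hne, ?_, ?_⟩
          · intro j
            simp only [Pi.sub_apply, Pi.smul_apply, smul_eq_mul]
            exact (F a₀).sub_mem (hca₀ (hwF j)) ((F a₀).mul_mem (hca₀ (hwF i)) (hv'F j))
          · intro j hj
            rw [Finset.mem_erase]
            refine ⟨?_, ?_⟩
            · rintro rfl
              apply hj
              simp [hv'i]
            · by_contra hjS
              apply hj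
              have h1 : w j = 0 := by
                by_contra h1
                exact hjS (hwS j h1)
              have h2 : v' j = 0 := by
                by_contra h2
                exact hjS (hv'S j h2)
              simp [h1, h2]
        have := hSmin _ hmem
        have hlt := Finset.card_erase_lt_of_mem hiS
        omega
      have hwv : w = (w i) • v' := sub_eq_zero.mp hu0
      have hwi : w i ≠ 0 := by
        intro h0
        apply hw0
        rw [hwv, h0, zero_smul]
      have : v' j = (w i)⁻¹ * w j := by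
        have := congrFun hwv j
        simp only [Pi.smul_apply, smul_eq_mul] at this
        rw [this, ← mul_assoc, inv_mul_cancel₀ hwi, one_mul]
      rw [this]
      exact hca ((F c).mul_mem ((F c).inv_mem (hwF i)) (hwF j))
    refine ⟨v', hv'V, ?_, ?_⟩
    · intro h0
      have := congrFun h0 i
      rw [hv'i] at this
      exact one_ne_zero this
    · intro j
      rw [← IntermediateField.mem_bot, ← hinf]
      have : v' j ∈ ((⨅ a, F a : IntermediateField k K) : Set K) := by
        rw [IntermediateField.coe_iInf]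
        exact Set.mem_iInter.mpr fun a => hkey a j
      exact this

end Groth.Agent.S2134
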