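import Groth.Statements.S2136
import Mathlib
import Groth.Agent.H70.UnramUnibranch

set_option autoImplicit false
universe u
open CAlg

namespace Groth.Agent.S2136



/-- Let `A` be a domain, `A → B` a ring map of finite type, and `𝔮` a prime of `B` lying over `𝔭 ⊆ A`,
with `A_𝔭` geometrically unibranch, `A → B` unramified at `𝔮` and `A_𝔭 → B_𝔮` injective. Then `B_g`
is étale over `A` for some `g ∉ 𝔮`. (`B` is assumed of finite type over `A` throughout; the
published statement needs this only after inverting an element outside `𝔮`.) -/
theorem result {A B : Type u} [CommRing A] [IsDomain A] [CommRing B]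
    [Algebra A B] (q : Ideal B) [q.IsPrime] (p : Ideal A) [p.IsPrime] [q.LiesOver p]
    (hA : CAlg2.IsGeomUnibranch (Localization.AtPrime p)) [Algebra.FiniteType A B] [Algebra.IsUnramifiedAt A q]
    (hinj : Function.Injective (Localization.localRingHom p q (algebraMap A B) (q.over_def p))) :
    ∃ g : B, g ∉ q ∧ Algebra.Etale A (Localization.Away g) := by
  classical
  refine Groth.Agent.H70.UnramUnibranch.keystone q p hA ?_
  have h1 : Function.Injective (algebraMap A (Localization.AtPrime q)) := by
    have h2 : (algebraMap A (Localization.AtPrime q) : A → Localization.AtPrime q) =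
        (Localization.localRingHom p q (algebraMap A B) (q.over_def p)) ∘
          (algebraMap A (Localization.AtPrime p)) := by
      funext a
      rw [Function.comp_apply, Localization.localRingHom_to_map,
        ← IsScalarTower.algebraMap_apply]
    rw [h2]
    exact hinj.comp (IsLocalization.injective _ p.primeCompl_le_nonZeroDivisors)
  have hbot : (⊥ : Ideal A) ∈ minimalPrimes A := by
    rw [IsDomain.minimalPrimes_eq_singleton_bot]
    rfl
  exact Ideal.exists_comap_eq_of_mem_minimalPrimes_of_injective h1 ⊥ hbot

end Groth.Agent.S2136
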