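import Groth.Statements.S2139
import Mathlib
import Groth.Agent.S6280
-- import your own Groth.Agent.* helpers here

set_option autoImplicit false
universe u
open CAlg

namespace Groth.Agent.S2139
open Polynomial
open Groth.Agent.S6280 (hom_E ic_div)

theorem eq_zero_of_mem_all {R : Type u} [CommRing R] [IsReduced R] (c : R)
    (h : ∀ q ∈ minimalPrimes R, c ∈ q) : c = 0 := by
  have h1 : c ∈ sInf ((⊥ : Ideal R).minimalPrimes) := Ideal.mem_sInf.mpr (fun {q} hq => h q hq)
  rw [Ideal.sInf_minimalPrimes] at h1
  have h2 : (⊥ : Ideal R).radical = ⊥ := nilradical_eq_zero R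
  rw [h2] at h1
  exact h1

theorem mem_nzd {R : Type u} [CommRing R] [IsReduced R] (s : R)
    (hs : ∀ q ∈ minimalPrimes R, s ∉ q) : s ∈ nonZeroDivisors R := by
  rw [mem_nonZeroDivisors_iff_right]
  intro c hc
  apply eq_zero_of_mem_all
  intro q hq
  have : c * s ∈ q := by rw [hc]; exact q.zero_mem
  exact (hq.1.1.mem_or_mem this).resolve_right (hs q hq)

/-- fraction-free criterion for rings integrally closed in their total ring of fractions -/
theorem ic_div_total {R : Type u} [CommRing R] (hic : IsIntegrallyClosedIn R (FractionRing R))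
    (P : R[X]) (hP : P.Monic) (c s : R) (hs : s ∈ nonZeroDivisors R)
    (h : eval c (scaleRoots P s) = 0) : ∃ y, c = s * y := by
  have hinj := IsFractionRing.injective R (FractionRing R)
  have hsu : IsUnit (algebraMap R (FractionRing R) s) :=
    IsLocalization.map_units (FractionRing R) (⟨s, hs⟩ : nonZeroDivisors R)
  obtain ⟨t, ht⟩ := hsu.exists_right_inv
  have hx : IsIntegral R (algebraMap R (FractionRing R) c * t) := by
    refine ⟨P, hP, ?_⟩
    have h1 := scaleRoots_eval₂_mul (p := P) (algebraMap R (FractionRing R))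
      (algebraMap R (FractionRing R) c * t) s
    have e : algebraMap R (FractionRing R) s * (algebraMap R (FractionRing R) c * t) =
        algebraMap R (FractionRing R) c := by
      rw [mul_comm (algebraMap R (FractionRing R) c), ← mul_assoc, ht, one_mul]
    rw [e, eval₂_at_apply, h, map_zero] at h1
    exact ((hsu.pow _).mul_right_eq_zero).mp h1.symm
  obtain ⟨y, hy⟩ := (isIntegrallyClosedIn_iff.mp hic).2 hx
  refine ⟨y, ?_⟩
  apply hinj
  rw [map_mul, hy, mul_comm (algebraMap R (FractionRing R) c), ← mul_assoc, ht, one_mul]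

/-- the idempotent attached to a minimal prime -/
theorem exists_idem {R : Type u} [CommRing R] [IsReduced R] (hfin : (minimalPrimes R).Finite)
    (hic : IsIntegrallyClosedIn R (FractionRing R)) (q : Ideal R) (hq : q ∈ minimalPrimes R) :
    ∃ e : R, (1 - e) ∈ q ∧ ∀ c ∈ q, e * c = 0 := by
  classical
  haveI hqp : q.IsPrime := hq.1.1
  set F := hfin.toFinset.erase q with hF
  have hFmem : ∀ q', q' ∈ F ↔ q' ≠ q ∧ q' ∈ minimalPrimes R := by
    intro q'
    rw [hF, Finset.mem_erase, Set.Finite.mem_toFinset]
  have hnle : ∀ q' ∈ F, ¬ q' ≤ q := by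
    intro q' hq' hle
    obtain ⟨hne, hmin⟩ := (hFmem q').mp hq'
    exact hne (le_antisymm hle (hq.2 hmin.1 hle))
  have hnle' : ∀ q' ∈ F, ¬ q ≤ q' := by
    intro q' hq' hle
    obtain ⟨hne, hmin⟩ := (hFmem q').mp hq'
    exact hne (le_antisymm (hmin.2 hq.1 hle) hle)
  -- a ∈ ⋂ q' \\ q
  have ha : ∃ a : R, (∀ q' ∈ F, a ∈ q') ∧ a ∉ q := by
    have : ¬ F.inf id ≤ q := by
      rw [hqp.inf_le']
      rintro ⟨q', hq', hle⟩
      exact hnle q' hq' hle
    obtain ⟨a, haI, haq⟩ := SetLike.not_le_iff_exists.mp this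
    exact ⟨a, fun q' hq' => Submodule.mem_finsetInf.mp haI q' hq', haq⟩
  obtain ⟨a, haF, haq⟩ := ha
  -- w ∈ q \\ ⋃ q'
  have hw : ∃ w ∈ q, ∀ q' ∈ F, w ∉ q' := by
    by_contra hcon
    push Not at hcon
    have hsub : (q : Set R) ⊆ ⋃ i ∈ (↑F : Set (Ideal R)), (id i : Ideal R) := by
      intro w hw
      obtain ⟨q', hq', hwq'⟩ := hcon w hw
      exact Set.mem_biUnion (Finset.mem_coe.mpr hq') hwq'
    obtain ⟨q', hq', hle⟩ := (Ideal.subset_union_prime (f := id) q q
      (fun i hi _ _ => ((hFmem i).mp hi).2.1.1)).mp hsub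
    exact hnle' q' hq' hle
  obtain ⟨w, hwq, hwF⟩ := hw
  have haw : a * w = 0 := by
    apply eq_zero_of_mem_all
    intro q' hq'
    by_cases h : q' = q
    · rw [h]; exact q.mul_mem_left _ hwq
    · exact q'.mul_mem_right _ (haF q' ((hFmem q').mpr ⟨h, hq'⟩))
  have hs : a + w ∈ nonZeroDivisors R := by
    apply mem_nzd
    intro q' hq' hmem
    by_cases h : q' = q
    · rw [h] at hmem
      exact haq ((Ideal.add_mem_iff_left q hwq).mp hmem)
    · have hq'F := (hFmem q').mpr ⟨h, hq'⟩
      exact hwF q' hq'F ((Ideal.add_mem_iff_right q' (haF q' hq'F)).mp hmem)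
  -- e = a / (a + w)
  have hE : eval a (scaleRoots (X ^ 2 - X : R[X]) (a + w)) = 0 := by
    rcases subsingleton_or_nontrivial R with h | h
    · exact Subsingleton.elim _ _
    have hdeg : (X ^ 2 - X : R[X]).natDegree = 2 := by
      rw [natDegree_sub_eq_left_of_natDegree_lt] <;> simp
    rw [eval_eq_sum_range, natDegree_scaleRoots, hdeg]
    simp only [Finset.sum_range_succ, Finset.sum_range_zero, coeff_scaleRoots, hdeg, coeff_sub,
      coeff_X_pow, coeff_X]
    norm_num
    linear_combination (-1 : R) * haw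
  have hmonic : (X ^ 2 - X : R[X]).Monic := by
    rcases subsingleton_or_nontrivial R with h | h
    · exact Subsingleton.elim _ _
    apply monic_X_pow_sub
    simp
  obtain ⟨e, he⟩ := ic_div_total hic _ hmonic a (a + w) hs hE
  refine ⟨e, ?_, ?_⟩
  · have h1 : (1 - e) * (a + w) = w := by rw [sub_mul, one_mul, mul_comm e, ← he]; ring
    have h2 : (1 - e) * (a + w) ∈ q := by rw [h1]; exact hwq
    rcases hqp.mem_or_mem h2 with h3 | h3
    · exact h3
    · exact absurd ((Ideal.add_mem_iff_left q hwq).mp h3) haq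
  · intro c hc
    have h1 : e * c * (a + w) = 0 := by
      have : e * c * (a + w) = a * c := by
        rw [show e * c * (a + w) = ((a + w) * e) * c by ring, ← he]
      rw [this]
      apply eq_zero_of_mem_all
      intro q' hq'
      by_cases h : q' = q
      · rw [h]; exact q.mul_mem_left _ hc
      · exact q'.mul_mem_right _ (haF q' ((hFmem q').mpr ⟨h, hq'⟩))
    exact (mul_right_mem_nonZeroDivisors_eq_zero_iff hs).mp h1

theorem idem_notMem {R : Type u} [CommRing R] (p q : Ideal R) [p.IsPrime] (hqp : q ≤ p) (e : R)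
    (he1 : (1 - e) ∈ q) : e ∈ p.primeCompl := by
  intro hmem
  have h1 : (1 : R) ∈ p := by
    have := p.add_mem hmem (hqp he1)
    rwa [add_sub_cancel] at this
  exact (Ideal.IsPrime.ne_top inferInstance) ((Ideal.eq_top_iff_one p).mpr h1)

theorem dom_total {R : Type u} [CommRing R] [IsReduced R] (hfin : (minimalPrimes R).Finite)
    (hic : IsIntegrallyClosedIn R (FractionRing R)) (p : Ideal R) [p.IsPrime] :
    IsDomain (Localization.AtPrime p) := by
  obtain ⟨q, hq, hqp⟩ := Ideal.exists_minimalPrimes_le (bot_le : (⊥ : Ideal R) ≤ p)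
  obtain ⟨e, he1, he2⟩ := exists_idem hfin hic q hq
  have hep : e ∈ p.primeCompl := idem_notMem p q hqp e he1
  haveI : NoZeroDivisors (Localization.AtPrime p) := ⟨by
    intro a b hab
    obtain ⟨⟨α, σ⟩, rfl⟩ := IsLocalization.mk'_surjective p.primeCompl a
    obtain ⟨⟨β, τ⟩, rfl⟩ := IsLocalization.mk'_surjective p.primeCompl b
    rw [← IsLocalization.mk'_mul, IsLocalization.mk'_eq_zero_iff] at hab
    obtain ⟨u, hu⟩ := hab
    have hmem : ((u : R) * α) * β ∈ q := by rw [mul_assoc, hu]; exact q.zero_mem
    rcases hq.1.1.mem_or_mem hmem with h | h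
    · left
      rw [IsLocalization.mk'_eq_zero_iff]
      refine ⟨(⟨e, hep⟩ : p.primeCompl) * u, ?_⟩
      show e * (u : R) * α = 0
      rw [mul_assoc]; exact he2 _ h
    · right
      rw [IsLocalization.mk'_eq_zero_iff]
      exact ⟨⟨e, hep⟩, he2 _ h⟩⟩
  exact NoZeroDivisors.to_isDomain _

theorem key_total {R : Type u} [CommRing R] [IsReduced R] (hfin : (minimalPrimes R).Finite)
    (hic : IsIntegrallyClosedIn R (FractionRing R)) (p : Ideal R) [p.IsPrime]
    (a' b' : R) (u : p.primeCompl) (P : R[X]) (hP : P.Monic) (hP0 : P.coeff 0 = 0)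
    (h : (u : R) * eval a' (scaleRoots P b') = 0)
    (hb : algebraMap R (Localization.AtPrime p) b' ≠ 0) :
    ∃ Z Ω V : R, Ω ∈ p.primeCompl ∧ V ∈ p.primeCompl ∧ V * (a' * Ω - b' * Z) = 0 := by
  obtain ⟨q, hq, hqp⟩ := Ideal.exists_minimalPrimes_le (bot_le : (⊥ : Ideal R) ≤ p)
  obtain ⟨e, he1, he2⟩ := exists_idem hfin hic q hq
  have hqprime : q.IsPrime := hq.1.1
  have hee : e * (1 - e) = 0 := he2 _ he1
  have hep : e ∈ p.primeCompl := idem_notMem p q hqp e he1
  have hb'q : b' ∉ q := by
    intro hmem
    apply hb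
    rw [IsLocalization.map_eq_zero_iff p.primeCompl]
    exact ⟨⟨e, hep⟩, he2 b' hmem⟩
  have huq : (u : R) ∉ q := fun hmem => u.2 (hqp hmem)
  have hEq : eval a' (scaleRoots P b') ∈ q := by
    have : (u : R) * eval a' (scaleRoots P b') ∈ q := by rw [h]; exact q.zero_mem
    exact (hqprime.mem_or_mem this).resolve_left huq
  have heE : e * eval a' (scaleRoots P b') = 0 := he2 _ hEq
  have hs'nzd : e * b' + (1 - e) ∈ nonZeroDivisors R := by
    rw [mem_nonZeroDivisors_iff_right]
    intro c hc
    have h1 : c * e * b' = 0 := by linear_combination e * hc - (c - c * b') * hee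
    have h2 : c * e ∈ q := by
      have : c * e * b' ∈ q := by rw [h1]; exact q.zero_mem
      exact (hqprime.mem_or_mem this).resolve_right hb'q
    have h3 : e * (c * e) = 0 := he2 _ h2
    have h4 : c * e = 0 := by linear_combination h3 + c * hee
    have h5 : c * (1 - e) = 0 := by linear_combination (1 - e) * hc + (c - c * b') * hee
    linear_combination h4 + h5
  have hZ : eval (e * a') (scaleRoots P (e * b' + (1 - e))) = 0 := by
    have hm1 : Ideal.Quotient.mk (Ideal.span {e})
        (eval (e * a') (scaleRoots P (e * b' + (1 - e)))) = 0 := by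
      have h0 := hom_E (Ideal.Quotient.mk (Ideal.span {e})) P hP (e * a') (e * b' + (1 - e)) 1
      rw [one_mul, map_one, one_mul] at h0
      rw [h0]
      have hge : Ideal.Quotient.mk (Ideal.span {e}) e = 0 :=
        Ideal.Quotient.eq_zero_iff_mem.mpr (Ideal.mem_span_singleton_self e)
      have h1 : Ideal.Quotient.mk (Ideal.span {e}) (e * a') = 0 := by
        rw [map_mul, hge, zero_mul]
      have h2 : Ideal.Quotient.mk (Ideal.span {e}) (e * b' + (1 - e)) = 1 := by
        rw [map_add, map_sub, map_mul, map_one, hge, zero_mul, zero_add, sub_zero]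
      rw [h1, h2, ← coeff_zero_eq_eval_zero, coeff_scaleRoots, coeff_map, hP0, map_zero, zero_mul]
    have hm2 : Ideal.Quotient.mk (Ideal.span {1 - e})
        (eval (e * a') (scaleRoots P (e * b' + (1 - e)))) = 0 := by
      have h0 := hom_E (Ideal.Quotient.mk (Ideal.span {1 - e})) P hP (e * a') (e * b' + (1 - e)) 1
      rw [one_mul, map_one, one_mul] at h0
      rw [h0]
      have hg1 : Ideal.Quotient.mk (Ideal.span {1 - e}) (1 - e) = 0 :=
        Ideal.Quotient.eq_zero_iff_mem.mpr (Ideal.mem_span_singleton_self _)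
      have hge : Ideal.Quotient.mk (Ideal.span {1 - e}) e = 1 := by
        rw [map_sub, map_one, sub_eq_zero] at hg1
        exact hg1.symm
      have h1 : Ideal.Quotient.mk (Ideal.span {1 - e}) (e * a') =
          Ideal.Quotient.mk (Ideal.span {1 - e}) a' := by rw [map_mul, hge, one_mul]
      have h2 : Ideal.Quotient.mk (Ideal.span {1 - e}) (e * b' + (1 - e)) =
          Ideal.Quotient.mk (Ideal.span {1 - e}) b' := by
        rw [map_add, map_mul, hge, one_mul, hg1, add_zero]
      rw [h1, h2]
      have h3 := hom_E (Ideal.Quotient.mk (Ideal.span {1 - e})) P hP a' b' 1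
      rw [one_mul, map_one, one_mul] at h3
      rw [← h3]
      have h4 : Ideal.Quotient.mk (Ideal.span {1 - e}) (eval a' (scaleRoots P b')) =
          Ideal.Quotient.mk (Ideal.span {1 - e}) (e * eval a' (scaleRoots P b')) := by
        rw [map_mul, hge, one_mul]
      rw [h4, heE, map_zero]
    obtain ⟨r1, hr1⟩ := Ideal.mem_span_singleton'.mp (Ideal.Quotient.eq_zero_iff_mem.mp hm1)
    obtain ⟨r2, hr2⟩ := Ideal.mem_span_singleton'.mp (Ideal.Quotient.eq_zero_iff_mem.mp hm2)
    have hZ1 : e * eval (e * a') (scaleRoots P (e * b' + (1 - e))) = 0 := by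
      rw [← hr2]; linear_combination r2 * hee
    have hZ2 : (1 - e) * eval (e * a') (scaleRoots P (e * b' + (1 - e))) = 0 := by
      rw [← hr1]; linear_combination r1 * hee
    linear_combination hZ1 + hZ2
  obtain ⟨y, hy⟩ := ic_div_total hic P hP (e * a') (e * b' + (1 - e)) hs'nzd hZ
  refine ⟨y, 1, e, p.primeCompl.one_mem, hep, ?_⟩
  linear_combination e * hy + (a' - b' * y + y) * hee

theorem forward {R : Type u} [CommRing R]
    (h : ∀ (p : Ideal R) [p.IsPrime],
      IsDomain (Localization.AtPrime p) ∧ IsIntegrallyClosed (Localization.AtPrime p)) :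
    IsIntegrallyClosedIn R (FractionRing R) := by
  rw [isIntegrallyClosedIn_iff]
  refine ⟨IsFractionRing.injective R _, ?_⟩
  intro x hx
  obtain ⟨P, hP, hPx⟩ := hx
  obtain ⟨⟨a, s⟩, rfl⟩ := IsLocalization.mk'_surjective (nonZeroDivisors R) x
  have hE : eval a (scaleRoots P (s : R)) = 0 := by
    apply IsFractionRing.injective R (FractionRing R)
    rw [map_zero, ← eval₂_at_apply, ← IsLocalization.mk'_spec' (FractionRing R) a s,
      scaleRoots_eval₂_mul, hPx, mul_zero]
  let I : Ideal R :=
    { carrier := {r | ∃ r', r * a = s * r'}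
      add_mem' := by
        rintro r₁ r₂ ⟨r₁', h₁⟩ ⟨r₂', h₂⟩
        exact ⟨r₁' + r₂', by rw [add_mul, h₁, h₂, mul_add]⟩
      zero_mem' := ⟨0, by rw [zero_mul, mul_zero]⟩
      smul_mem' := by
        rintro c r ⟨r', h⟩
        exact ⟨c * r', by rw [smul_eq_mul, mul_assoc, h]; ring⟩ }
  have hI : I = ⊤ := by
    by_contra hne
    obtain ⟨m, hm, hIm⟩ := Ideal.exists_le_maximal I hne
    haveI := hm.isPrime
    obtain ⟨hdom, hicm⟩ := h m
    have hgs : algebraMap R (Localization.AtPrime m) (s : R) ≠ 0 := by
      intro h0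
      obtain ⟨v, hv⟩ := (IsLocalization.map_eq_zero_iff m.primeCompl _ _).mp h0
      have hv0 : (v : R) = 0 := (mul_right_mem_nonZeroDivisors_eq_zero_iff s.2).mp hv
      exact v.2 (hv0 ▸ m.zero_mem)
    have h1 := hom_E (algebraMap R (Localization.AtPrime m)) P hP a s 1
    rw [one_mul, map_one, one_mul, hE, map_zero] at h1
    obtain ⟨y, hy⟩ := ic_div _ (hP.map _) _ _ hgs h1.symm
    obtain ⟨⟨ζ, ω⟩, rfl⟩ := IsLocalization.mk'_surjective m.primeCompl y
    have h2 : algebraMap R (Localization.AtPrime m) (a * ω - s * ζ) = 0 := by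
      rw [map_sub, map_mul, map_mul, hy, mul_assoc, IsLocalization.mk'_spec, sub_self]
    obtain ⟨v, hv⟩ := (IsLocalization.map_eq_zero_iff m.primeCompl _ _).mp h2
    have hmem : (v : R) * ω ∈ I := ⟨v * ζ, by linear_combination hv⟩
    exact (m.primeCompl.mul_mem v.2 ω.2) (hIm hmem)
  obtain ⟨r', hr'⟩ : (1 : R) ∈ I := by rw [hI]; trivial
  refine ⟨r', ?_⟩
  rw [IsLocalization.eq_mk'_iff_mul_eq, ← map_mul]
  congr 1
  linear_combination -hr'

theorem ic_of_key {R : Type u} [CommRing R] (p : Ideal R) [p.IsPrime]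
    [IsDomain (Localization.AtPrime p)]
    (H : ∀ (a' b' : R) (u : p.primeCompl) (P : R[X]), P.Monic → P.coeff 0 = 0 →
      (u : R) * eval a' (scaleRoots P b') = 0 → algebraMap R (Localization.AtPrime p) b' ≠ 0 →
      ∃ Z Ω V : R, Ω ∈ p.primeCompl ∧ V ∈ p.primeCompl ∧ V * (a' * Ω - b' * Z) = 0) :
    IsIntegrallyClosed (Localization.AtPrime p) := by
  rw [isIntegrallyClosed_iff (FractionRing (Localization.AtPrime p))]
  intro x hx
  obtain ⟨m, hm⟩ := IsIntegral.exists_multiple_integral_of_isLocalization p.primeCompl x hx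
  obtain ⟨P₀, hP₀, hP₀x⟩ := hm
  have hP : (X * P₀).Monic := monic_X.mul hP₀
  have hP0 : (X * P₀).coeff 0 = 0 := by rw [mul_coeff_zero, coeff_X_zero, zero_mul]
  have hPx : eval₂ (algebraMap R (FractionRing (Localization.AtPrime p))) (m • x) (X * P₀) = 0 := by
    rw [eval₂_mul, hP₀x, mul_zero]
  obtain ⟨a, b, hb, hab⟩ := IsFractionRing.div_surjective (A := Localization.AtPrime p) x
  obtain ⟨⟨α, σ⟩, hα⟩ := IsLocalization.mk'_surjective p.primeCompl a
  obtain ⟨⟨β, τ⟩, hβ⟩ := IsLocalization.mk'_surjective p.primeCompl b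
  have hinj := IsFractionRing.injective (Localization.AtPrime p)
    (FractionRing (Localization.AtPrime p))
  have hι : ∀ r : R,
      algebraMap R (FractionRing (Localization.AtPrime p)) r =
        algebraMap (Localization.AtPrime p) (FractionRing (Localization.AtPrime p))
          (algebraMap R (Localization.AtPrime p) r) := fun r =>
    IsScalarTower.algebraMap_apply _ (Localization.AtPrime p) _ r
  have hunit : ∀ s : p.primeCompl,
      algebraMap R (FractionRing (Localization.AtPrime p)) (s : R) ≠ 0 := by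
    intro s h0
    rw [hι] at h0
    have h1 := hinj (by rw [h0, map_zero] :
      algebraMap (Localization.AtPrime p) (FractionRing (Localization.AtPrime p))
        (algebraMap R (Localization.AtPrime p) (s : R)) =
      algebraMap (Localization.AtPrime p) (FractionRing (Localization.AtPrime p)) 0)
    exact (IsLocalization.map_units (Localization.AtPrime p) s).ne_zero h1
  have hfb : algebraMap (Localization.AtPrime p) (FractionRing (Localization.AtPrime p)) b ≠ 0 := by
    intro h0
    have : b = 0 := hinj (by rw [h0, map_zero])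
    exact nonZeroDivisors.ne_zero hb this
  have e1 : algebraMap (Localization.AtPrime p) (FractionRing (Localization.AtPrime p)) a *
      algebraMap R (FractionRing (Localization.AtPrime p)) (σ : R) =
      algebraMap R (FractionRing (Localization.AtPrime p)) α := by
    rw [hι, hι, ← map_mul, ← hα, IsLocalization.mk'_spec]
  have e2 : algebraMap (Localization.AtPrime p) (FractionRing (Localization.AtPrime p)) b *
      algebraMap R (FractionRing (Localization.AtPrime p)) (τ : R) =
      algebraMap R (FractionRing (Localization.AtPrime p)) β := by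
    rw [hι, hι, ← map_mul, ← hβ, IsLocalization.mk'_spec]
  have hxb : x * algebraMap (Localization.AtPrime p) (FractionRing (Localization.AtPrime p)) b =
      algebraMap (Localization.AtPrime p) (FractionRing (Localization.AtPrime p)) a := by
    rw [← hab, div_mul_cancel₀ _ hfb]
  have hy' : m • x = algebraMap R (FractionRing (Localization.AtPrime p)) (m : R) * x := by
    rw [Submonoid.smul_def, Algebra.smul_def]
  have hmain : algebraMap R (FractionRing (Localization.AtPrime p)) (β * σ) * (m • x) =
      algebraMap R (FractionRing (Localization.AtPrime p)) (m * α * τ) := by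
    rw [hy', map_mul, map_mul, map_mul, ← e2, ← e1, ← hxb]
    ring
  have hb'ne : algebraMap R (FractionRing (Localization.AtPrime p)) (β * σ) ≠ 0 := by
    rw [map_mul, ← e2]
    exact mul_ne_zero (mul_ne_zero hfb (hunit τ)) (hunit σ)
  have h1 := scaleRoots_eval₂_mul (p := X * P₀)
    (algebraMap R (FractionRing (Localization.AtPrime p))) (m • x) (β * σ)
  rw [hPx, mul_zero, hmain, eval₂_at_apply, hι] at h1
  have h2 : algebraMap R (Localization.AtPrime p)
      (eval ((m : R) * α * τ) (scaleRoots (X * P₀) (β * σ))) = 0 :=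
    hinj (by rw [h1, map_zero])
  obtain ⟨u, hu⟩ := (IsLocalization.map_eq_zero_iff p.primeCompl _ _).mp h2
  have hb'ne' : algebraMap R (Localization.AtPrime p) (β * σ) ≠ 0 := by
    intro h0
    apply hb'ne
    rw [hι, h0, map_zero]
  obtain ⟨Z, Ω, V, hΩ, hV, hrel⟩ := H _ _ u (X * P₀) hP hP0 hu hb'ne'
  have hrel'' : algebraMap R (FractionRing (Localization.AtPrime p)) (m * α * τ) *
        algebraMap R (FractionRing (Localization.AtPrime p)) Ω =
      algebraMap R (FractionRing (Localization.AtPrime p)) (β * σ) *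
        algebraMap R (FractionRing (Localization.AtPrime p)) Z := by
    rw [← map_mul, ← map_mul]
    have h3 := congrArg (algebraMap R (FractionRing (Localization.AtPrime p))) hrel
    rw [map_mul, map_zero] at h3
    have h4 := (mul_eq_zero.mp h3).resolve_left (hunit ⟨V, hV⟩)
    rw [map_sub, sub_eq_zero] at h4
    exact h4
  refine ⟨IsLocalization.mk' (Localization.AtPrime p) Z ((⟨Ω, hΩ⟩ : p.primeCompl) * m), ?_⟩
  have hy : algebraMap (Localization.AtPrime p) (FractionRing (Localization.AtPrime p))
      (IsLocalization.mk' (Localization.AtPrime p) Z ((⟨Ω, hΩ⟩ : p.primeCompl) * m)) *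
      (algebraMap R (FractionRing (Localization.AtPrime p)) Ω *
        algebraMap R (FractionRing (Localization.AtPrime p)) (m : R)) =
      algebraMap R (FractionRing (Localization.AtPrime p)) Z := by
    rw [hι Ω, hι (m : R), hι Z, ← map_mul, ← map_mul, ← map_mul]
    congr 1
    exact IsLocalization.mk'_spec (Localization.AtPrime p) Z ((⟨Ω, hΩ⟩ : p.primeCompl) * m)
  have hne : algebraMap R (FractionRing (Localization.AtPrime p)) (β * σ) *
      (algebraMap R (FractionRing (Localization.AtPrime p)) Ω *
        algebraMap R (FractionRing (Localization.AtPrime p)) (m : R)) ≠ 0 :=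
    mul_ne_zero hb'ne (mul_ne_zero (hunit ⟨Ω, hΩ⟩) (hunit m))
  apply mul_right_cancel₀ hne
  calc _ = algebraMap R (FractionRing (Localization.AtPrime p)) (β * σ) *
        (algebraMap (Localization.AtPrime p) (FractionRing (Localization.AtPrime p))
      (IsLocalization.mk' (Localization.AtPrime p) Z ((⟨Ω, hΩ⟩ : p.primeCompl) * m)) *
      (algebraMap R (FractionRing (Localization.AtPrime p)) Ω *
        algebraMap R (FractionRing (Localization.AtPrime p)) (m : R))) := by ring
    _ = algebraMap R (FractionRing (Localization.AtPrime p)) (β * σ) *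
        algebraMap R (FractionRing (Localization.AtPrime p)) Z := by rw [hy]
    _ = algebraMap R (FractionRing (Localization.AtPrime p)) (m * α * τ) *
        algebraMap R (FractionRing (Localization.AtPrime p)) Ω := hrel''.symm
    _ = (algebraMap R (FractionRing (Localization.AtPrime p)) (β * σ) * (m • x)) *
        algebraMap R (FractionRing (Localization.AtPrime p)) Ω := by rw [hmain]
    _ = _ := by rw [hy']; ring




/-- Let `R` be a reduced ring with finitely many minimal primes. Then every localization of `R` at a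
prime is an integrally closed domain if and only if `R` is integrally closed in its total ring of
fractions. -/
theorem result {R : Type u} [CommRing R] [IsReduced R] (hfin : (minimalPrimes R).Finite) :
    (∀ (p : Ideal R) [p.IsPrime], IsDomain (Localization.AtPrime p) ∧ IsIntegrallyClosed (Localization.AtPrime p)) ↔
      IsIntegrallyClosedIn R (FractionRing R) := by
  constructor
  · intro h
    exact forward h
  · intro hic p hp
    haveI hdom : IsDomain (Localization.AtPrime p) := dom_total hfin hic p
    exact ⟨hdom, ic_of_key p (fun a' b' u P hP hP0 h hb =>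
      key_total hfin hic p a' b' u P hP hP0 h hb)⟩

end Groth.Agent.S2139
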