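import Groth.Statements.S2140
import Groth.Agent.H11.GenericFP

set_option autoImplicit false
universe u
open CAlg

namespace Groth.Agent.S2140

/-- Let `R → S` be an injective ring map of finite type between domains. Then there are nonzero `f ∈ R`
and `g ∈ S` such that `S_{fg}` is a finitely presented `R_f`-algebra. -/
theorem result {R S : Type u} [CommRing R] [IsDomain R] [CommRing S] [IsDomain S]
    [Algebra R S] [Algebra.FiniteType R S] (hinj : Function.Injective (algebraMap R S)) :
    ∃ (f : R) (g : S), f ≠ 0 ∧ g ≠ 0 ∧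
      ∀ (Rf Sfg : Type u) [CommRing Rf] [CommRing Sfg] [Algebra R Rf] [IsLocalization.Away f Rf]
        [Algebra S Sfg] [IsLocalization.Away (algebraMap R S f * g) Sfg] [Algebra Rf Sfg] [Algebra R Sfg]
        [IsScalarTower R S Sfg] [IsScalarTower R Rf Sfg], Algebra.FinitePresentation Rf Sfg := by
  classical
  obtain ⟨d, y, S', hai, hyS', hS'fg, hint, f, hf0, hfS⟩ :=
    H11.noether_normalization_over_domain (R := R) (S := S) hinj
  letI algPS : Algebra (MvPolynomial (Fin d) R) S :=
    (MvPolynomial.aeval y : MvPolynomial (Fin d) R →ₐ[R] S).toRingHom.toAlgebra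
  haveI towRPS : IsScalarTower R (MvPolynomial (Fin d) R) S :=
    IsScalarTower.of_algebraMap_eq (fun r => (MvPolynomial.aeval_C y r).symm)
  have hφinj : Function.Injective (algebraMap (MvPolynomial (Fin d) R) S) := hai
  obtain ⟨gens, hgens⟩ := hS'fg
  have hintP : ∀ s ∈ S', IsIntegral (MvPolynomial (Fin d) R) s := by
    intro s hs
    let f₀ : MvPolynomial (Fin d) R →ₐ[R] Algebra.adjoin R (Set.range y) :=
      (MvPolynomial.aeval y).codRestrict _ (fun p => by
        rw [Algebra.adjoin_range_eq_range_aeval]; exact ⟨p, rfl⟩)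
    letI : Algebra (MvPolynomial (Fin d) R) (Algebra.adjoin R (Set.range y)) :=
      f₀.toRingHom.toAlgebra
    haveI : IsScalarTower (MvPolynomial (Fin d) R) (Algebra.adjoin R (Set.range y)) S :=
      IsScalarTower.of_algebraMap_eq (fun p => rfl)
    have hsurj : Function.Surjective
        (algebraMap (MvPolynomial (Fin d) R) (Algebra.adjoin R (Set.range y))) := by
      rintro ⟨x, hx⟩
      have hx' : x ∈ (MvPolynomial.aeval y : MvPolynomial (Fin d) R →ₐ[R] S).range := by
        rw [← Algebra.adjoin_range_eq_range_aeval]; exact hx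
      obtain ⟨p, rfl⟩ := hx'
      exact ⟨p, Subtype.ext rfl⟩
    haveI : Algebra.IsIntegral (MvPolynomial (Fin d) R) (Algebra.adjoin R (Set.range y)) :=
      Algebra.isIntegral_of_surjective hsurj
    exact isIntegral_trans s (hint s hs)
  have hM'fg : (Algebra.adjoin (MvPolynomial (Fin d) R) (gens : Set S)).toSubmodule.FG :=
    fg_adjoin_of_finite gens.finite_toSet
      (fun x hx => hintP x (hgens ▸ Algebra.subset_adjoin hx))
  have hS'le : ∀ s ∈ S', s ∈ (Algebra.adjoin (MvPolynomial (Fin d) R) (gens : Set S)).toSubmodule := by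
    intro s hs
    rw [← hgens] at hs
    have hle : Algebra.adjoin R (gens : Set S) ≤
        (Algebra.adjoin (MvPolynomial (Fin d) R) (gens : Set S)).restrictScalars R :=
      Algebra.adjoin_le (fun x hx => Algebra.subset_adjoin hx)
    exact hle hs
  obtain ⟨g₀, hg₀, hfp⟩ := H11.exists_finitePresentation_of_fg_submodule
    (R := R) (P := MvPolynomial (Fin d) R) (S := S) _ hM'fg f
    (fun s => (hfS s).imp fun n hn => hS'le _ hn)
  refine ⟨f, algebraMap (MvPolynomial (Fin d) R) S g₀, hf0, ?_, ?_⟩
  · exact (map_ne_zero_iff _ hφinj).mpr hg₀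
  · intro Rf Sfg _ _ _ _ _ _ _ _ _ _
    exact hfp Rf Sfg

end Groth.Agent.S2140
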