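import Groth.Statements.S2146
import Groth.Agent.H54.RingSpread

set_option autoImplicit false
universe u
open CAlg

namespace Groth.Agent.S2146

/-- Let `S` be a finitely presented `R`-algebra and `𝔮` a prime of `S` over `𝔭` such that the induced
map `R_𝔭 → S_𝔮` is bijective. Then for some `f ∉ 𝔭` there is an `R_f`-algebra `C` with `S_f ≅ R_f ×
C` as `R_f`-algebras. -/
theorem result {R S : Type u} [CommRing R] [CommRing S] [Algebra R S]
    [Algebra.FinitePresentation R S] (q : Ideal S) [q.IsPrime] (p : Ideal R) [p.IsPrime] [q.LiesOver p]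
    (h : Function.Bijective (Localization.localRingHom p q (algebraMap R S) (q.over_def p))) :
    ∃ f : R, f ∉ p ∧ ∀ (Rf Sf : Type u) [CommRing Rf] [CommRing Sf] [Algebra R Rf] [IsLocalization.Away f Rf]
      [Algebra S Sf] [IsLocalization.Away (algebraMap R S f) Sf] [Algebra Rf Sf] [Algebra R Sf] [IsScalarTower R S Sf]
      [IsScalarTower R Rf Sf],
      ∃ (C : Type u) (_ : CommRing C) (_ : Algebra Rf C), Nonempty (Sf ≃ₐ[Rf] (Rf × C)) := by
  classical
  let eq : Localization.AtPrime p ≃+* Localization.AtPrime q := RingEquiv.ofBijective _ h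
  have heq : ∀ x, eq x =
      Localization.localRingHom p q (algebraMap R S) (q.over_def p) x := fun x => rfl
  let σr : S →+* Localization.AtPrime p :=
    (eq.symm : Localization.AtPrime q →+* Localization.AtPrime p).comp
      (algebraMap S (Localization.AtPrime q))
  have hσr : ∀ r, σr (algebraMap R S r) = algebraMap R (Localization.AtPrime p) r := by
    intro r
    show eq.symm (algebraMap S (Localization.AtPrime q) (algebraMap R S r)) = _
    rw [RingEquiv.symm_apply_eq, heq, Localization.localRingHom_to_map]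
  let σ : S →ₐ[R] Localization.AtPrime p := { σr with commutes' := hσr }
  have hσ : ∀ x, σ x = eq.symm (algebraMap S (Localization.AtPrime q) x) := fun x => rfl
  have ha : ∀ x, σ x = 0 → ∃ c, c ∉ q ∧ c * x = 0 := by
    intro x hx
    rw [hσ, map_eq_zero_iff _ eq.symm.injective] at hx
    obtain ⟨⟨c, hc⟩, hcx⟩ :=
      (IsLocalization.map_eq_zero_iff q.primeCompl (Localization.AtPrime q) x).mp hx
    exact ⟨c, hc, hcx⟩
  have hb : ∀ x, IsUnit (σ x) ↔ x ∉ q := by
    intro x
    rw [hσ, isUnit_map_iff eq.symm,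
      IsLocalization.AtPrime.isUnit_to_map_iff (Localization.AtPrime q) q x]
    rfl
  obtain ⟨f, hf, g, hg, ⟨E⟩⟩ := Groth.Agent.H54.exists_away_algEquiv p q σ ha hb
  refine ⟨f, hf, ?_⟩
  intro Rf Sf _ _ _ _ _ _ _ _ _ _
  let j : Localization.Away f ≃ₐ[R] Rf := IsLocalization.algEquiv (Submonoid.powers f) _ _
  let ρ₀ : S →ₐ[R] Rf :=
    j.toAlgHom.comp (E.toAlgHom.comp (IsScalarTower.toAlgHom R S (Localization.Away g)))
  have hρ₀ : ∀ s, ρ₀ s = j (E (algebraMap S (Localization.Away g) s)) := fun s => rfl
  have hunit : IsUnit (ρ₀.toRingHom (algebraMap R S f)) := by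
    show IsUnit (ρ₀ (algebraMap R S f))
    rw [AlgHom.commutes]
    exact IsLocalization.Away.algebraMap_isUnit f
  let ρr : Sf →+* Rf := IsLocalization.Away.lift (algebraMap R S f) (g := ρ₀.toRingHom) hunit
  have hρr : ∀ s, ρr (algebraMap S Sf s) = ρ₀ s :=
    fun s => IsLocalization.Away.lift_eq (algebraMap R S f) hunit s
  have hρR : ∀ r, ρr (algebraMap R Sf r) = algebraMap R Rf r := by
    intro r
    rw [IsScalarTower.algebraMap_apply R S Sf, hρr, AlgHom.commutes]
  have hρRf : ∀ r, ρr (algebraMap Rf Sf r) = r := by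
    have : ρr.comp (algebraMap Rf Sf) = RingHom.id Rf := by
      apply IsLocalization.ringHom_ext (Submonoid.powers f)
      ext r
      simp only [RingHom.comp_apply, RingHom.id_apply]
      rw [← IsScalarTower.algebraMap_apply R Rf Sf, hρR]
    exact fun r => RingHom.congr_fun this r
  let ρ : Sf →ₐ[Rf] Rf := { ρr with commutes' := hρRf }
  let ρR : Sf →ₐ[R] Rf := { ρr with commutes' := hρR }
  have hsurj : Function.Surjective ρR := fun r => ⟨algebraMap Rf Sf r, hρRf r⟩
  haveI : Algebra.FinitePresentation R Sf :=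
    Algebra.FinitePresentation.of_isLocalizationAway (R := R) (S := S) (algebraMap R S f)
  haveI : Algebra.FinitePresentation R Rf := IsLocalization.Away.finitePresentation f
  obtain ⟨s, hs⟩ := Algebra.FinitePresentation.ker_fG_of_surjective ρR hsurj
  have hG : IsUnit (ρ (algebraMap S Sf g)) := by
    show IsUnit (ρr (algebraMap S Sf g))
    rw [hρr, hρ₀]
    exact ((IsLocalization.Away.algebraMap_isUnit (S := Localization.Away g) g).map E).map j
  have key : ∀ x : Sf, ρr x = 0 → ∃ m : ℕ, algebraMap S Sf g ^ m * x = 0 := by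
    intro x hx
    obtain ⟨n, s', hs'⟩ := IsLocalization.Away.surj (algebraMap R S f) x
    have h0 : algebraMap S (Localization.Away g) s' = 0 := by
      have := congrArg ρr hs'
      rw [map_mul, hx, zero_mul, hρr, hρ₀] at this
      have h' := this.symm
      rwa [map_eq_zero_iff j j.injective, map_eq_zero_iff E E.injective] at h'
    obtain ⟨m, hm⟩ := IsLocalization.Away.exists_of_eq g (S := Localization.Away g)
      (a := s') (b := 0) (by rw [h0, map_zero])
    refine ⟨m, ?_⟩
    have hu : IsUnit (algebraMap S Sf (algebraMap R S f) ^ n) :=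
      (IsLocalization.Away.algebraMap_isUnit _).pow n
    refine hu.mul_left_eq_zero.mp ?_
    rw [mul_assoc, hs', ← map_pow, ← map_mul, hm, mul_zero, map_zero]
  choose! nn hnn using key
  have hN : ∀ x, ρ x = 0 → algebraMap S Sf g ^ (s.sup nn) * x = 0 := by
    intro x hx
    have hx' : x ∈ Ideal.span (s : Set Sf) := by
      rw [hs]
      exact hx
    refine Submodule.span_induction
      (p := fun x _ => algebraMap S Sf g ^ (s.sup nn) * x = 0) ?_ ?_ ?_ ?_ hx'
    · intro y hy
      have hyker : ρr y = 0 := by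
        have : y ∈ RingHom.ker ρR.toRingHom := hs ▸ Ideal.subset_span hy
        exact this
      rw [← pow_sub_mul_pow _ (Finset.le_sup hy : nn y ≤ s.sup nn), mul_assoc, hnn y hyker,
        mul_zero]
    · exact mul_zero _
    · intro a b _ _ ha hb
      rw [mul_add, ha, hb, add_zero]
    · intro a b _ hb
      rw [smul_eq_mul, mul_left_comm, hb, mul_zero]
  exact Groth.Agent.H54.exists_prod_of_retraction ρ (algebraMap S Sf g) hG (s.sup nn) hN

end Groth.Agent.S2146
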