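import Groth.Statements.S2148
import Mathlib
import Groth.Agent.H44.PBasisDescent

set_option autoImplicit false
set_option linter.style.haveILetI false
universe u
open CAlg

namespace Groth.Agent.S2148

/-- Let `k` be a perfect field of characteristic `p > 0` and `K` an extension field of `k`. For `a ∈ K`,
the differential `da` vanishes in `Ω_{K/k}` if and only if `a` is a `p`-th power in `K`. -/
theorem result {k K : Type u} [Field k] [Field K] [Algebra k K] (p : ℕ) [Fact p.Prime]
    [CharP k p] [PerfectRing k p] (a : K) :
    KaehlerDifferential.D k K a = 0 ↔ ∃ b : K, b ^ p = a := by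
  haveI : CharP K p := charP_of_injective_algebraMap (algebraMap k K).injective p
  constructor
  · intro hD
    have hmem := Groth.Agent.H44.PBasis.mem_adjoin_of_D_eq_zero p hD
    let E : IntermediateField k K :=
      (frobenius K p).fieldRange.toIntermediateField (fun r => by
        obtain ⟨s, hs⟩ := surjective_frobenius k p r
        refine RingHom.mem_fieldRange.mpr ⟨algebraMap k K s, ?_⟩
        rw [← hs, frobenius_def, frobenius_def, map_pow])
    have hle : IntermediateField.adjoin k (Set.range fun y : K => y ^ p) ≤ E := by
      rw [IntermediateField.adjoin_le_iff]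
      rintro _ ⟨y, rfl⟩
      exact RingHom.mem_fieldRange.mpr ⟨y, frobenius_def _ _⟩
    obtain ⟨b, hb⟩ := RingHom.mem_fieldRange.mp (hle hmem)
    exact ⟨b, by rw [← hb, frobenius_def]⟩
  · rintro ⟨b, rfl⟩
    rw [Derivation.leibniz_pow, ← Nat.cast_smul_eq_nsmul K, CharP.cast_eq_zero K p, zero_smul]

end Groth.Agent.S2148
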