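import Groth.Statements.S2149
import Mathlib

set_option autoImplicit false
universe u
open CAlg

namespace Groth.Agent.S2149

open TensorProduct

section aux
variable {R A M M' : Type u} [CommRing R] [CommRing A] [Algebra R A]
  [AddCommGroup M] [Module A M] [Module R M] [IsScalarTower R A M]
  [AddCommGroup M'] [Module A M'] [Module R M'] [IsScalarTower R A M']

theorem coe_eq (Q : Type u) [AddCommGroup Q] [Module R Q] (v : M →ₗ[A] M') :
    ⇑(AlgebraTensorModule.rTensor R Q v) = ⇑((v.restrictScalars R).rTensor Q) := rfl

theorem map_rTensor (T : Submonoid A) (Q : Type u) [AddCommGroup Q] [Module R Q]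
    (u : M →ₗ[A] M') :
    IsLocalizedModule.map T
      (AlgebraTensorModule.rTensor R Q (LocalizedModule.mkLinearMap T M))
      (AlgebraTensorModule.rTensor R Q (LocalizedModule.mkLinearMap T M'))
      (AlgebraTensorModule.rTensor R Q u) =
    AlgebraTensorModule.rTensor R Q (IsLocalizedModule.map T (LocalizedModule.mkLinearMap T M)
      (LocalizedModule.mkLinearMap T M') u) := by
  apply IsLocalizedModule.linearMap_ext T
    (AlgebraTensorModule.rTensor R Q (LocalizedModule.mkLinearMap T M))
    (AlgebraTensorModule.rTensor R Q (LocalizedModule.mkLinearMap T M'))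
  rw [IsLocalizedModule.map_comp]
  ext x q
  simp
  congr 1
  exact (IsLocalizedModule.map_apply T (LocalizedModule.mkLinearMap T M)
    (LocalizedModule.mkLinearMap T M') u x).symm

end aux

theorem result {R S M M' : Type u} [CommRing R] [CommRing S] [Algebra R S]
    [AddCommGroup M] [Module S M] [Module R M] [IsScalarTower R S M] [AddCommGroup M'] [Module S M'] [Module R M']
    [IsScalarTower R S M'] (u : M →ₗ[S] M') :
    CAlgX.UniversallyInjective R (u.restrictScalars R) ↔
      ∀ (m : Ideal S) [m.IsMaximal],
        CAlgX.UniversallyInjective R ((LocalizedModule.map m.primeCompl u).restrictScalars R) := by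
  constructor
  · intro hu m hm Q _ _
    have hinj : Function.Injective (AlgebraTensorModule.rTensor R Q u) := by
      rw [coe_eq]; exact hu Q
    have h2 := IsLocalizedModule.map_injective m.primeCompl
      (AlgebraTensorModule.rTensor R Q (LocalizedModule.mkLinearMap m.primeCompl M))
      (AlgebraTensorModule.rTensor R Q (LocalizedModule.mkLinearMap m.primeCompl M'))
      (AlgebraTensorModule.rTensor R Q u) hinj
    rw [map_rTensor] at h2
    exact h2
  · intro h Q _ _
    have hinj : Function.Injective (AlgebraTensorModule.rTensor R Q u) := by
      apply injective_of_isLocalized_maximal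
        (fun P _ => LocalizedModule P.primeCompl M ⊗[R] Q)
        (fun P _ => AlgebraTensorModule.rTensor R Q (LocalizedModule.mkLinearMap P.primeCompl M))
        (fun P _ => LocalizedModule P.primeCompl M' ⊗[R] Q)
        (fun P _ => AlgebraTensorModule.rTensor R Q (LocalizedModule.mkLinearMap P.primeCompl M'))
        (AlgebraTensorModule.rTensor R Q u)
      intro P hP
      rw [map_rTensor]
      exact h P Q
    rw [coe_eq] at hinj
    exact hinj

end Groth.Agent.S2149
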