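import Groth.Statements.S2154
import Mathlib
import Groth.Agent.H24.LimFinite

set_option autoImplicit false
universe u
open CategoryTheory AlgebraicGeometry
open Lim

namespace Groth.Agent.S2154

/-- Let `S` be quasi-compact and quasi-separated and `X = lim X_i` a cofiltered limit of quasi-compact
quasi-separated `S`-schemes locally of finite type over `S`, with finite transition morphisms. If `X
→ S` is integral then `X_i → S` is finite for all `i` beyond some index. -/
theorem result {I : Type u} [SmallCategory I] [IsCofiltered I] (S : Scheme.{u}) [CompactSpace S]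
    [QuasiSeparatedSpace S] (D : I ⥤ Over S) (c : Limits.Cone D) (hc : Limits.IsLimit c)
    [∀ (i j : I) (f : i ⟶ j), IsFinite (D.map f).left] [∀ i, CompactSpace (D.obj i).left]
    [∀ i, QuasiSeparatedSpace (D.obj i).left] [∀ i, LocallyOfFiniteType (D.obj i).hom] [IsIntegralHom c.pt.hom] :
    ∃ i₀ : I, ∀ (i : I) (_ : i ⟶ i₀), IsFinite (D.obj i).hom := by
  classical
  haveI : IsConnected I := IsCofiltered.isConnected I
  have hc' : Limits.IsLimit ((Over.forget S).mapCone c) := Limits.isLimitOfPreserves (Over.forget S) hc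
  have hfin : ∀ {i j : I} (f : i ⟶ j), IsFinite ((D ⋙ Over.forget S).map f) := fun f => by
    show IsFinite (D.map f).left
    infer_instance
  obtain ⟨i₀⟩ := IsCofiltered.nonempty (C := I)
  have h1 : CompactSpace ((D ⋙ Over.forget S).obj i₀) :=
    inferInstanceAs (CompactSpace (D.obj i₀).left)
  have h2 : QuasiSeparatedSpace ((D ⋙ Over.forget S).obj i₀) :=
    inferInstanceAs (QuasiSeparatedSpace (D.obj i₀).left)
  have e : ((Over.forget S).mapCone c).π.app i₀ ≫ (D.obj i₀).hom = c.pt.hom :=
    Over.w (c.π.app i₀)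
  have h3 : IsIntegralHom (((Over.forget S).mapCone c).π.app i₀ ≫ (D.obj i₀).hom) := by
    rw [e]; exact ‹IsIntegralHom c.pt.hom›
  have h4 : LocallyOfFiniteType (X := (D ⋙ Over.forget S).obj i₀) (Y := S) (D.obj i₀).hom :=
    ‹∀ i, LocallyOfFiniteType (D.obj i).hom› i₀
  obtain ⟨j, f, hf⟩ := H24.exists_isFinite_stage (D ⋙ Over.forget S)
    ((Over.forget S).mapCone c) hc' S i₀ (D.obj i₀).hom
  have hj : IsFinite (D.obj j).hom := by
    have e2 : (D ⋙ Over.forget S).map f ≫ (D.obj i₀).hom = (D.obj j).hom := Over.w (D.map f)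
    rw [← e2]; exact hf
  refine ⟨j, fun i g => ?_⟩
  have e3 : (D.map g).left ≫ (D.obj j).hom = (D.obj i).hom := Over.w (D.map g)
  rw [← e3]
  infer_instance

end Groth.Agent.S2154
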