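import Groth.Statements.S2157
-- import your own Groth.Agent.* helpers here
import Groth.Agent.H39.OmegaA
import Groth.Agent.H39.OmegaB
import Groth.Agent.H39.OmegaC
import Groth.Agent.H39.OmegaD

set_option autoImplicit false
universe u
open CategoryTheory AlgebraicGeometry
open Mor

namespace Groth.Agent.S2157

open TensorProduct in
/-- The sheaf of differentials of `Spec A ⟶ Spec R` is the pullback along the diagonal
`Spec A ⟶ Spec (A ⊗[R] A)` of the sheaf associated with the kernel of multiplication. -/
theorem omega_iso_pullback_tilde (R A : Type u) [CommRing R] [CommRing A] [Algebra R A] :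
    Nonempty (Omega.sheaf (Spec.map (CommRingCat.ofHom (algebraMap R A))) ≅
      (Scheme.Modules.pullback (Spec.map (CommRingCat.ofHom
          (Algebra.TensorProduct.lmul' R : A ⊗[R] A →ₐ[R] A).toRingHom))).obj
        (tilde (R := CommRingCat.of (A ⊗[R] A))
          (ModuleCat.of (A ⊗[R] A) (KaehlerDifferential.ideal R A)))) := by
  unfold Omega.sheaf
  rw [diagonal_SpecMap R A]
  let ψ : CommRingCat.of (A ⊗[R] A) ⟶ CommRingCat.of A :=
    CommRingCat.ofHom (Algebra.TensorProduct.lmul' R : A ⊗[R] A →ₐ[R] A).toRingHom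
  haveI : IsClosedImmersion (Spec.map ψ) :=
    IsClosedImmersion.spec_of_surjective ψ (fun a => ⟨a ⊗ₜ 1, by simp [ψ]⟩)
  obtain ⟨e1⟩ := H39.OmegaA.conormal_comp_iso (Spec.map ψ) (pullbackSpecIso R A A)
  exact ⟨e1 ≪≫ (Scheme.Modules.pullback (Spec.map ψ)).mapIso (H39.OmegaB.KMIsoTilde ψ)⟩

/-- For a ring map `R → A`, the sheaf of differentials of `Spec A → Spec R`, defined as the conormal
sheaf of the diagonal, is isomorphic as an `O_{Spec A}`-module to the sheaf associated with the
module of Kähler differentials `Ω_{A/R}` (the source also pins the isomorphism down by compatibility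
with the universal derivations, which is not restated here). -/
theorem result (R A : Type u) [CommRing R] [CommRing A] [Algebra R A] :
    Nonempty (Omega.sheaf (Spec.map (CommRingCat.ofHom (algebraMap R A))) ≅
      tilde (R := CommRingCat.of A) (ModuleCat.of A (Ω[A⁄R]))) := by
  obtain ⟨e1⟩ := omega_iso_pullback_tilde R A
  obtain ⟨e4⟩ := H39.OmegaD.extendScalars_ideal_iso R A
  let ψ : CommRingCat.of (TensorProduct R A A) ⟶ CommRingCat.of A :=
    CommRingCat.ofHom (Algebra.TensorProduct.lmul' R : TensorProduct R A A →ₐ[R] A).toRingHom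
  exact ⟨e1 ≪≫ (H39.OmegaC.pullbackTildeIso ψ).app
      (ModuleCat.of (TensorProduct R A A) (KaehlerDifferential.ideal R A)) ≪≫
    (tilde.functor (CommRingCat.of A)).mapIso e4⟩

end Groth.Agent.S2157
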