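import Groth.Statements.S2158
-- import your own Groth.Agent.* helpers here
import Groth.Agent.H8.OmegaStalk

set_option autoImplicit false
universe u
open CategoryTheory AlgebraicGeometry
open Mor

namespace Groth.Agent.S2158

/-- Let `f : X → S` be locally of finite type and quasi-separated (so that the diagonal is quasi-compact
and the prelude's sheaf of differentials is the conormal sheaf of the diagonal near every point), `x
∈ X`, `s = f(x)`. Then the stalk `Ω_{X/S,x}` vanishes if and only if `𝔪_s O_{X,x} = 𝔪_x` and
`κ(x)/κ(s)` is a finite separable extension. -/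
theorem result {X S : Scheme.{u}} (f : X ⟶ S) [LocallyOfFiniteType f] [QuasiSeparated f] (x : X) :
    Subsingleton ((Omega.sheaf f).presheaf.stalk x) ↔
      ((IsLocalRing.maximalIdeal (S.presheaf.stalk (f.base x))).map (f.stalkMap x).hom =
          IsLocalRing.maximalIdeal (X.presheaf.stalk x) ∧
        (f.residueFieldMap x).hom.Finite ∧
        @Algebra.IsSeparable (S.residueField (f.base x)) (X.residueField x) _ _ (f.residueFieldMap x).hom.toAlgebra) := by
  rw [Groth.Agent.H8.OmegaStalk.subsingleton_stalk_iff_formallyUnramified]
  algebraize [(f.stalkMap x).hom]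
  have hloc : IsLocalHom (algebraMap (S.presheaf.stalk (f x)) (X.presheaf.stalk x)) :=
    inferInstanceAs <| IsLocalHom (f.stalkMap x).hom
  have hess : Algebra.EssFiniteType (S.presheaf.stalk (f x)) (X.presheaf.stalk x) := by
    rw [← RingHom.essFiniteType_algebraMap, RingHom.algebraMap_toAlgebra]
    exact LocallyOfFiniteType.stalkMap f x
  have halg : (f.residueFieldMap x).hom.toAlgebra =
      (inferInstance : Algebra (IsLocalRing.ResidueField (S.presheaf.stalk (f x)))
        (IsLocalRing.ResidueField (X.presheaf.stalk x))) := by
    refine Algebra.algebra_ext _ _ fun y => ?_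
    obtain ⟨y, rfl⟩ := IsLocalRing.residue_surjective y
    rfl
  rw [RingHom.Finite, halg]
  change Algebra.FormallyUnramified (S.presheaf.stalk (f x)) (X.presheaf.stalk x) ↔ _
  rw [Algebra.FormallyUnramified.iff_map_maximalIdeal_eq]
  constructor
  · rintro ⟨hsep, hmap⟩
    haveI : Algebra.FormallyUnramified (S.presheaf.stalk (f x)) (X.presheaf.stalk x) :=
      Algebra.FormallyUnramified.of_map_maximalIdeal hmap
    exact ⟨hmap, (inferInstance : Module.Finite (IsLocalRing.ResidueField (S.presheaf.stalk (f x)))
      (IsLocalRing.ResidueField (X.presheaf.stalk x))), hsep⟩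
  · rintro ⟨hmap, -, hsep⟩
    exact ⟨hsep, hmap⟩

end Groth.Agent.S2158
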