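import Groth.Statements.S2159
-- import your own Groth.Agent.* helpers here

set_option autoImplicit false
universe u
open CAlg

namespace Groth.Agent.S2159

/-- Given surjections `p₁ : P₁ → M` and `p₂ : P₂ → M` from projective modules, with kernels `K` and `L`,
there is an isomorphism `K ⊕ P₂ ≅ L ⊕ P₁`. -/
theorem result {R M P₁ P₂ : Type u} [CommRing R] [AddCommGroup M] [Module R M] [AddCommGroup P₁] [Module R P₁]
    [Module.Projective R P₁] [AddCommGroup P₂] [Module R P₂] [Module.Projective R P₂] (p₁ : P₁ →ₗ[R] M) (p₂ : P₂ →ₗ[R] M)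
    (h₁ : Function.Surjective p₁) (h₂ : Function.Surjective p₂) :
    Nonempty ((LinearMap.ker p₁ × P₂) ≃ₗ[R] (LinearMap.ker p₂ × P₁)) := by
  obtain ⟨α, hα⟩ := Module.projective_lifting_property p₂ p₁ h₂
  obtain ⟨β, hβ⟩ := Module.projective_lifting_property p₁ p₂ h₁
  have hα' : ∀ x, p₂ (α x) = p₁ x := fun x => LinearMap.congr_fun hα x
  have hβ' : ∀ y, p₁ (β y) = p₂ y := fun y => LinearMap.congr_fun hβ y
  let F : (LinearMap.ker p₁ × P₂) →ₗ[R] (LinearMap.ker p₂ × P₁) :=
    LinearMap.prod
      (LinearMap.codRestrict (LinearMap.ker p₂)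
        (LinearMap.snd R _ _ - α.comp ((LinearMap.ker p₁).subtype.comp (LinearMap.fst R _ _)
          + β.comp (LinearMap.snd R _ _)))
        (by
          rintro ⟨k, y⟩
          have hk : p₁ (k : P₁) = 0 := k.2
          simp [hα', hβ', hk]))
      ((LinearMap.ker p₁).subtype.comp (LinearMap.fst R _ _) + β.comp (LinearMap.snd R _ _))
  let G : (LinearMap.ker p₂ × P₁) →ₗ[R] (LinearMap.ker p₁ × P₂) :=
    LinearMap.prod
      (LinearMap.codRestrict (LinearMap.ker p₁)
        (LinearMap.snd R _ _ - β.comp ((LinearMap.ker p₂).subtype.comp (LinearMap.fst R _ _)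
          + α.comp (LinearMap.snd R _ _)))
        (by
          rintro ⟨k, x⟩
          have hk : p₂ (k : P₂) = 0 := k.2
          simp [hα', hβ', hk]))
      ((LinearMap.ker p₂).subtype.comp (LinearMap.fst R _ _) + α.comp (LinearMap.snd R _ _))
  refine ⟨LinearEquiv.ofLinearMap F G ?_ ?_⟩
  · apply LinearMap.ext
    rintro ⟨k, x⟩
    apply Prod.ext
    · apply Subtype.ext
      simp [F, G]
    · simp [F, G]
  · apply LinearMap.ext
    rintro ⟨k, y⟩
    apply Prod.ext
    · apply Subtype.ext
      simp [F, G]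
    · simp [F, G]

end Groth.Agent.S2159
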