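import Groth.Statements.S2160
import Groth.Agent.H11.HeightOne

set_option autoImplicit false
universe u
open CAlg

namespace Groth.Agent.S2160

/-- Let `R` be a Noetherian local domain of Krull dimension at least `2`. Then every nonempty open
subset of `Spec R` is infinite. -/
theorem result {R : Type u} [CommRing R] [IsDomain R] [IsLocalRing R] [IsNoetherianRing R]
    (hdim : 2 ≤ ringKrullDim R) (U : Set (PrimeSpectrum R)) (hU : IsOpen U) (hne : U.Nonempty) : U.Infinite := by
  -- infinitely many height-one primes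
  have hinf : {p : PrimeSpectrum R | p.asIdeal.height = 1}.Infinite := by
    intro hfin
    have h1 := Groth.Agent.H11.height_le_one_of_finite_height_one hfin (IsLocalRing.maximalIdeal R)
    have h2 : ((IsLocalRing.maximalIdeal R).height : WithBot ℕ∞) = ringKrullDim R :=
      IsLocalRing.maximalIdeal_height_eq_ringKrullDim
    rw [← h2] at hdim
    have h3 : ((IsLocalRing.maximalIdeal R).height : WithBot ℕ∞) ≤ 1 := by exact_mod_cast h1
    have : (2 : WithBot ℕ∞) ≤ 1 := hdim.trans h3
    exact absurd this (by decide)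
  obtain ⟨x, hxU⟩ := hne
  obtain ⟨_, ⟨f, rfl⟩, hxf, hfU⟩ :=
    PrimeSpectrum.isTopologicalBasis_basic_opens.exists_subset_of_mem_open hxU hU
  have hf0 : f ≠ 0 := by
    rintro rfl
    exact hxf x.asIdeal.zero_mem
  have hfin := Groth.Agent.H11.finite_height_one_primes_mem f hf0
  have hdiff : ({p : PrimeSpectrum R | p.asIdeal.height = 1} \
      {p : PrimeSpectrum R | p.asIdeal.height = 1 ∧ f ∈ p.asIdeal}).Infinite :=
    hinf.sdiff hfin
  refine hdiff.mono ?_
  rintro p ⟨hp1, hp2⟩
  apply hfU
  show f ∉ p.asIdeal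
  intro hfp
  exact hp2 ⟨hp1, hfp⟩

end Groth.Agent.S2160
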