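import Groth.Statements.S2161
import Mathlib

set_option autoImplicit false
universe u
open CAlg

namespace Groth.Agent.S2161

open TensorProduct

theorem lemmaU {R S : Type u} [CommRing R] [CommRing S] [Algebra R S] (G : Set S)
    (hG : Algebra.adjoin R G = ⊤)
    (hpow : ∀ x ∈ G, ∃ (n : ℕ) (P : Polynomial R), 0 < n ∧
      Polynomial.map (algebraMap R S) P = (Polynomial.X - Polynomial.C x) ^ n)
    {Ω : Type*} [Field Ω] (ψ ψ' : S →+* Ω)
    (h : ψ.comp (algebraMap R S) = ψ'.comp (algebraMap R S)) : ψ = ψ' := by
  ext s
  have hs : s ∈ Algebra.adjoin R G := by rw [hG]; trivial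
  induction hs using Algebra.adjoin_induction with
  | mem x hx =>
    obtain ⟨n, P, hn, hP⟩ := hpow x hx
    have h1 : (Polynomial.X - Polynomial.C (ψ x)) ^ n =
        (Polynomial.X - Polynomial.C (ψ' x)) ^ n := by
      have e1 := congrArg (Polynomial.map ψ) hP
      have e2 := congrArg (Polynomial.map ψ') hP
      rw [Polynomial.map_map, Polynomial.map_pow, Polynomial.map_sub, Polynomial.map_X,
        Polynomial.map_C] at e1 e2
      rw [← e1, ← e2, h]
    have h2 := congrArg (Polynomial.eval (ψ x)) h1
    rw [Polynomial.eval_pow, Polynomial.eval_pow, Polynomial.eval_sub, Polynomial.eval_sub,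
      Polynomial.eval_X, Polynomial.eval_C, Polynomial.eval_C, sub_self,
      zero_pow hn.ne'] at h2
    exact sub_eq_zero.1 ((pow_eq_zero_iff hn.ne').1 h2.symm)
  | algebraMap r => exact RingHom.congr_fun h r
  | add a b _ _ ha hb => rw [map_add, map_add, ha, hb]
  | mul a b _ _ ha hb => rw [map_mul, map_mul, ha, hb]

/-- Let R → S be a ring map whose kernel consists of nilpotent elements, and suppose S is generated as
an R-algebra by elements x for which some power (T − x)ⁿ, n > 0, is the image of a polynomial over
R. Then Spec S → Spec R is a homeomorphism, and for every prime 𝔮 of S over 𝔭 the extension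
κ(𝔮)/κ(𝔭) is purely inseparable. -/
theorem result {R S : Type u} [CommRing R] [CommRing S] [Algebra R S]
    (hker : ∀ r : R, algebraMap R S r = 0 → IsNilpotent r) (G : Set S) (hG : Algebra.adjoin R G = ⊤)
    (hpow : ∀ x ∈ G, ∃ (n : ℕ) (P : Polynomial R), 0 < n ∧
      Polynomial.map (algebraMap R S) P = (Polynomial.X - Polynomial.C x) ^ n) :
    IsHomeomorph (PrimeSpectrum.comap (algebraMap R S)) ∧
      ∀ (q : Ideal S) [q.IsPrime] (p : Ideal R) [p.IsPrime] [q.LiesOver p],
        @IsPurelyInseparable p.ResidueField q.ResidueField _ _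
          (Ideal.ResidueField.mapₐ p q (Algebra.ofId R S) (q.over_def p)).toRingHom.toAlgebra := by
  classical
  have hGint : ∀ x ∈ G, IsIntegral R x := by
    intro x hx
    obtain ⟨n, P, hn, hP⟩ := hpow x hx
    rcases subsingleton_or_nontrivial S with hS | hS
    · exact ⟨Polynomial.X, Polynomial.monic_X, Subsingleton.elim _ _⟩
    have hmonic : ((Polynomial.X - Polynomial.C x) ^ n : Polynomial S).Monic :=
      (Polynomial.monic_X_sub_C x).pow n
    have hmem : ((Polynomial.X - Polynomial.C x) ^ n : Polynomial S) ∈
        Polynomial.lifts (algebraMap R S) := (Polynomial.mem_lifts _).2 ⟨P, hP⟩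
    obtain ⟨Q, hQ, -, hQm⟩ := Polynomial.lifts_and_degree_eq_and_monic hmem hmonic
    refine ⟨Q, hQm, ?_⟩
    rw [← Polynomial.eval_map, hQ]
    simp [hn.ne']
  haveI hint : Algebra.IsIntegral R S := ⟨fun s => by
    have hle : Algebra.adjoin R G ≤ integralClosure R S := Algebra.adjoin_le hGint
    rw [hG] at hle
    exact hle trivial⟩
  have hker' : RingHom.ker (algebraMap R S) ≤ nilradical R :=
    fun r hr => mem_nilradical.2 (hker r hr)
  have hsurj : Function.Surjective (PrimeSpectrum.comap (algebraMap R S)) := by
    have hc : (algebraMap R S).kerLift.comp (Ideal.Quotient.mk _) = algebraMap R S :=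
      RingHom.ext fun r => rfl
    have hint' : (algebraMap R S).kerLift.IsIntegral := by
      refine RingHom.IsIntegral.tower_top (Ideal.Quotient.mk _) _ ?_
      rw [hc]
      exact algebraMap_isIntegral_iff.2 hint
    exact (PrimeSpectrum.comap_quotientMk_bijective_of_le_nilradical hker').2.comp
      (hint'.comap_surjective (algebraMap R S).kerLift_injective)
  have hinj : Function.Injective (PrimeSpectrum.comap (algebraMap R S)) := by
    intro q q' h
    have hpq : q.asIdeal.comap (algebraMap R S) = q'.asIdeal.comap (algebraMap R S) :=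
      congrArg PrimeSpectrum.asIdeal h
    letI alg1 : Algebra (q.asIdeal.comap (algebraMap R S)).ResidueField q.asIdeal.ResidueField :=
      (Ideal.ResidueField.map (q.asIdeal.comap (algebraMap R S)) q.asIdeal
        (algebraMap R S) rfl).toAlgebra
    letI alg2 : Algebra (q.asIdeal.comap (algebraMap R S)).ResidueField q'.asIdeal.ResidueField :=
      (Ideal.ResidueField.map (q.asIdeal.comap (algebraMap R S)) q'.asIdeal
        (algebraMap R S) hpq).toAlgebra
    obtain ⟨m, hm⟩ := Ideal.exists_maximal
      (q.asIdeal.ResidueField ⊗[(q.asIdeal.comap (algebraMap R S)).ResidueField]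
        q'.asIdeal.ResidueField)
    letI := Ideal.Quotient.field m
    let a : q.asIdeal.ResidueField →+* _ ⧸ m := (Ideal.Quotient.mk m).comp
      (Algebra.TensorProduct.includeLeft
        (R := (q.asIdeal.comap (algebraMap R S)).ResidueField)
        (S := (q.asIdeal.comap (algebraMap R S)).ResidueField)
        (A := q.asIdeal.ResidueField) (B := q'.asIdeal.ResidueField)).toRingHom
    let b : q'.asIdeal.ResidueField →+* _ ⧸ m := (Ideal.Quotient.mk m).comp
      (Algebra.TensorProduct.includeRight
        (R := (q.asIdeal.comap (algebraMap R S)).ResidueField)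
        (A := q.asIdeal.ResidueField) (B := q'.asIdeal.ResidueField)).toRingHom
    have hψ : (a.comp (algebraMap S q.asIdeal.ResidueField)).comp (algebraMap R S) =
        (b.comp (algebraMap S q'.asIdeal.ResidueField)).comp (algebraMap R S) := by
      ext r
      have e1 : algebraMap S q.asIdeal.ResidueField (algebraMap R S r) =
          algebraMap (q.asIdeal.comap (algebraMap R S)).ResidueField q.asIdeal.ResidueField
            (algebraMap R _ r) :=
        (Ideal.ResidueField.map_algebraMap _ q.asIdeal (algebraMap R S) rfl r).symm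
      have e2 : algebraMap S q'.asIdeal.ResidueField (algebraMap R S r) =
          algebraMap (q.asIdeal.comap (algebraMap R S)).ResidueField q'.asIdeal.ResidueField
            (algebraMap R _ r) :=
        (Ideal.ResidueField.map_algebraMap _ q'.asIdeal (algebraMap R S) hpq r).symm
      simp only [a, b, RingHom.comp_apply, e1, e2, AlgHom.toRingHom_eq_coe, RingHom.coe_coe,
        AlgHom.commutes]
    have heq := lemmaU G hG hpow _ _ hψ
    have hk : ∀ s, s ∈ q.asIdeal ↔ (a.comp (algebraMap S q.asIdeal.ResidueField)) s = 0 := by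
      intro s
      rw [RingHom.comp_apply, map_eq_zero_iff a a.injective]
      exact Ideal.algebraMap_residueField_eq_zero.symm
    have hk' : ∀ s, s ∈ q'.asIdeal ↔ (b.comp (algebraMap S q'.asIdeal.ResidueField)) s = 0 := by
      intro s
      rw [RingHom.comp_apply, map_eq_zero_iff b b.injective]
      exact Ideal.algebraMap_residueField_eq_zero.symm
    exact PrimeSpectrum.ext (Ideal.ext fun s => by rw [hk, hk', heq])
  refine ⟨isHomeomorph_iff_continuous_isClosedMap_bijective.2
    ⟨PrimeSpectrum.continuous_comap _,
      PrimeSpectrum.isClosedMap_comap_of_isIntegral _ (algebraMap_isIntegral_iff.2 hint),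
      hinj, hsurj⟩, fun q _ p _ _ => ?_⟩
  letI alg : Algebra p.ResidueField q.ResidueField :=
    (Ideal.ResidueField.mapₐ p q (Algebra.ofId R S) (q.over_def p)).toRingHom.toAlgebra
  change IsPurelyInseparable p.ResidueField q.ResidueField
  rw [isPurelyInseparable_iff_subsingleton_emb]
  refine ⟨fun τ1 τ2 => ?_⟩
  have h12 : τ1.toRingHom.comp (algebraMap S q.ResidueField) =
      τ2.toRingHom.comp (algebraMap S q.ResidueField) := by
    apply lemmaU G hG hpow
    ext r
    have e : algebraMap S q.ResidueField (algebraMap R S r) =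
        algebraMap p.ResidueField q.ResidueField (algebraMap R p.ResidueField r) :=
      (Ideal.ResidueField.map_algebraMap p q (algebraMap R S) (q.over_def p) r).symm
    simp only [RingHom.comp_apply, e, AlgHom.toRingHom_eq_coe, RingHom.coe_coe, AlgHom.commutes]
  have h3 : τ1.toRingHom = τ2.toRingHom := by
    apply IsLocalization.ringHom_ext (nonZeroDivisors (S ⧸ q))
    ext x
    exact RingHom.congr_fun h12 x
  exact AlgHom.ext fun z => RingHom.congr_fun h3 z

end Groth.Agent.S2161
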