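import Groth.Statements.S2163
import Groth.Agent.S0588

set_option autoImplicit false
universe u
open CAlg

namespace Groth.Agent.S2163

open TensorProduct in
/-- `R ⊗ ∏ Q → ∏ (R ⊗ Q)` is injective. -/
theorem injective_self {R : Type*} [CommRing R] {ι : Type*} (Q : ι → Type*)
    [∀ i, AddCommGroup (Q i)] [∀ i, Module R (Q i)] :
    Function.Injective (TensorProduct.piRightHom R R R Q) := by
  rw [injective_iff_map_eq_zero]
  intro u hu
  have hu' : u = (1 : R) ⊗ₜ[R] (TensorProduct.lid R (∀ i, Q i) u) := by
    have := (TensorProduct.lid R (∀ i, Q i)).symm_apply_apply u
    rw [TensorProduct.lid_symm_apply] at this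
    exact this.symm
  have hp : TensorProduct.lid R (∀ i, Q i) u = 0 := by
    funext i
    have h1 := congrFun hu i
    rw [hu', TensorProduct.piRightHom_tmul] at h1
    have h2 := congrArg (TensorProduct.lid R (Q i)) h1
    simpa using h2
  rw [hu', hp, TensorProduct.tmul_zero]


/-- A ring `R` is coherent — every finitely generated ideal is a finitely presented module — if and only
if for every index set `A` (in the same universe) the product module `R^A` is flat. -/
theorem result {R : Type u} [CommRing R] :
    (∀ I : Ideal R, I.FG → Module.FinitePresentation R I) ↔ ∀ (A : Type u), Module.Flat R (A → R) := by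
  constructor
  · intro hcoh A
    rw [Module.Flat.iff_rTensor_injective]
    intro I hI
    haveI : Module.FinitePresentation R I := hcoh I hI
    have hbij := Groth.Agent.S0588.forward R I A (fun _ => R)
    rw [injective_iff_map_eq_zero]
    intro t ht
    apply hbij.1
    rw [map_zero]
    funext a
    have hinj : Function.Injective (I.subtype.rTensor R) :=
      Module.Flat.rTensor_preserves_injective_linearMap _ (Submodule.injective_subtype _)
    apply hinj
    have hn := Groth.Agent.S0588.naturality I.subtype (fun _ : A => R) t a
    rw [ht] at hn
    rw [← hn]
    simp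
  · intro hflat I hI
    haveI : Module.Finite R I := Module.Finite.iff_fg.mpr hI
    obtain ⟨n, π, hπ⟩ := Module.Finite.exists_fin' R I
    refine Module.finitePresentation_of_surjective π hπ ?_
    rw [← Module.Finite.iff_fg]
    apply Groth.Agent.H3.finite_of_piRightHom_surjective
    -- injectivity of the comparison map of `I` for the family of copies of `R` indexed by the kernel
    have hPinj : Function.Injective
        (TensorProduct.piRightHom R R I (fun _ : LinearMap.ker π => R)) := by
      rw [injective_iff_map_eq_zero]
      intro t ht
      haveI : Module.Flat R (LinearMap.ker π → R) := hflat _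
      have hinj : Function.Injective (I.subtype.rTensor (LinearMap.ker π → R)) :=
        Module.Flat.rTensor_preserves_injective_linearMap _ (Submodule.injective_subtype _)
      apply hinj
      rw [map_zero]
      apply injective_self (R := R) (fun _ : LinearMap.ker π => R)
      rw [map_zero]
      funext k
      have hn := Groth.Agent.S0588.naturality I.subtype (fun _ : LinearMap.ker π => R) t k
      rw [hn, ht]
      simp
    intro w
    have hinj : Function.Injective ((LinearMap.ker π).subtype.rTensor R) :=
      Module.Flat.rTensor_preserves_injective_linearMap _ (Submodule.injective_subtype _)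
    obtain ⟨x', hx'⟩ := Groth.Agent.H3.piRightHom_surjective_of_finite (R := R)
      (M := Fin n → R) (fun _ : LinearMap.ker π => R)
      (fun k => (LinearMap.ker π).subtype.rTensor R (w k))
    have hex : Function.Exact ((LinearMap.ker π).subtype.rTensor (LinearMap.ker π → R))
        (π.rTensor (LinearMap.ker π → R)) :=
      rTensor_exact _ (LinearMap.exact_subtype_ker_map π) hπ
    have h0 : π.rTensor (LinearMap.ker π → R) x' = 0 := by
      apply hPinj
      rw [map_zero]
      funext k
      have hn := Groth.Agent.S0588.naturality π (fun _ : LinearMap.ker π => R) x' k
      rw [hn, hx', ← LinearMap.comp_apply, ← LinearMap.rTensor_comp]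
      have : π ∘ₗ (LinearMap.ker π).subtype = 0 := by
        apply LinearMap.ext
        intro k
        exact LinearMap.mem_ker.mp k.2
      rw [this, LinearMap.rTensor_zero, LinearMap.zero_apply]; rfl
    obtain ⟨z, hz⟩ := (hex _).mp h0
    refine ⟨z, ?_⟩
    funext k
    apply hinj
    have h5 := Groth.Agent.S0588.naturality (LinearMap.ker π).subtype
      (fun _ : LinearMap.ker π => R) z k
    rw [hz, hx'] at h5
    exact h5.symm

end Groth.Agent.S2163
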