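import Groth.Statements.S2165
import Groth.Agent.H29.CplQuot
import Groth.Agent.S0548

set_option autoImplicit false
universe u
open LCI

namespace Groth.Agent.S2165

/-- Let R be a regular ring, p a prime ideal of R and f_1, ..., f_r a regular sequence of R contained in
p. Then the local ring R_p/(f_1, ..., f_r) is a complete intersection: its completion is a regular
local ring modulo a regular sequence. The instance hypothesis that the quotient is local always
holds. -/
theorem result {R : Type u} [CommRing R] [IsRegularRing R]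
    (p : Ideal R) [p.IsPrime] (rs : List R) (hmem : ∀ r ∈ rs, r ∈ p)
    (hreg : RingTheory.Sequence.IsRegular R rs)
    [IsLocalRing (Localization.AtPrime p ⧸
      Ideal.map (algebraMap R (Localization.AtPrime p)) (Ideal.ofList rs))] :
    Pi1.IsCompleteIntersection (Localization.AtPrime p ⧸
      Ideal.map (algebraMap R (Localization.AtPrime p)) (Ideal.ofList rs)) := by
  classical
  set A := Localization.AtPrime p with hA
  set I : Ideal A := Ideal.map (algebraMap R A) (Ideal.ofList rs) with hI
  haveI hAreg : IsRegularLocalRing A := inferInstance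
  haveI : IsNoetherianRing A := inferInstance
  haveI : Nontrivial (A ⧸ I) := inferInstance
  let B := AdicCompletion (IsLocalRing.maximalIdeal A) A
  haveI hBN : IsNoetherianRing B :=
    Groth.Agent.Lead.isNoetherianRing_adicCompletion (IsLocalRing.maximalIdeal A)
      (IsLocalRing.maximalIdeal A).fg_of_isNoetherianRing
  haveI hBreg : IsRegularLocalRing B := (Groth.Agent.S0548.result A).mp hAreg
  -- the sequence in `B`
  let rsA : List A := rs.map (algebraMap R A)
  let rsB : List B := rsA.map (algebraMap A B)
  have hmemA : ∀ r ∈ rsA, r ∈ IsLocalRing.maximalIdeal A := by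
    intro r hr
    obtain ⟨r0, hr0, rfl⟩ := List.mem_map.mp hr
    rw [← Localization.AtPrime.map_eq_maximalIdeal]
    exact Ideal.mem_map_of_mem _ (hmem r0 hr0)
  have hmemB : ∀ r ∈ rsB, r ∈ IsLocalRing.maximalIdeal B := by
    intro r hr
    obtain ⟨r0, hr0, rfl⟩ := List.mem_map.mp hr
    rw [AdicCompletion.maximalIdeal_eq_map]
    exact Ideal.mem_map_of_mem _ (hmemA r0 hr0)
  have hwA : RingTheory.Sequence.IsWeaklyRegular A rsA :=
    RingTheory.Sequence.IsWeaklyRegular.of_isLocalization A p.primeCompl hreg.toIsWeaklyRegular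
  haveI : Module.Flat A B := AdicCompletion.flat_of_isNoetherian _
  have hwB : RingTheory.Sequence.IsWeaklyRegular B rsB := hwA.of_flat
  have hregB : RingTheory.Sequence.IsRegular B rsB :=
    (IsLocalRing.isRegular_iff_isWeaklyRegular_of_subset_maximalIdeal hmemB).mpr hwB
  refine ⟨B, inferInstance, hBreg, rsB, hmemB, hregB, ?_⟩
  obtain ⟨e1⟩ := Groth.Agent.H29.CplQuot.nonempty_cplQuotEquiv A I
  let e3 := Algebra.TensorProduct.quotIdealMapEquivQuotTensor (EGA4.Cpl A) I
  have hIB : I.map (algebraMap A (EGA4.Cpl A)) = Ideal.span {r | r ∈ rsB} := by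
    change I.map (algebraMap A B) = Ideal.ofList rsB
    rw [hI, Ideal.map_ofList, Ideal.map_ofList]
  exact ⟨(e1.toRingEquiv.trans e3.symm.toRingEquiv).trans (Ideal.quotEquivOfEq hIB)⟩

end Groth.Agent.S2165
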