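import Groth.Statements.S2167
import Groth.Agent.H79.CIPres

set_option autoImplicit false
universe u
open LCI

namespace Groth.Agent.S2167


theorem spanFinrank_cotangent_eq {R : Type u} [CommRing R] (I : Ideal R)
    (hI : I ≤ Ideal.jacobson ⊥) (fg : I.FG) :
    (⊤ : Submodule (R ⧸ I) I.Cotangent).spanFinrank = I.spanFinrank := by
  classical
  haveI : Module.Finite R I := Module.Finite.iff_fg.mpr fg
  haveI : Module.Finite R I.Cotangent :=
    Module.Finite.of_surjective I.toCotangent I.toCotangent_surjective
  haveI : Module.Finite (R ⧸ I) I.Cotangent := Module.Finite.of_restrictScalars_finite R _ _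
  have hsurj : Function.Surjective (algebraMap R (R ⧸ I)) := Ideal.Quotient.mk_surjective
  apply le_antisymm
  · obtain ⟨s, hs1, hs2⟩ := Submodule.FG.exists_span_finset_card_eq_spanFinrank
      (p := (⊤ : Submodule R I)) Module.Finite.fg_top
    rw [Submodule.spanFinrank_top] at hs1
    have h1 : Submodule.span (R ⧸ I) (I.toCotangent '' (s : Set I)) = ⊤ := by
      rw [← Submodule.restrictScalars_eq_top_iff R, Submodule.restrictScalars_span R (R ⧸ I) hsurj,
        ← Submodule.map_span, hs2, Submodule.map_top, Ideal.toCotangent_range]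
    rw [← h1, ← hs1]
    refine (Submodule.spanFinrank_span_le_ncard_of_finite (s.finite_toSet.image _)).trans ?_
    refine (Set.ncard_image_le s.finite_toSet).trans ?_
    rw [Set.ncard_coe_finset]
  · obtain ⟨t, ht1, ht2⟩ := Submodule.FG.exists_span_finset_card_eq_spanFinrank
      (p := (⊤ : Submodule (R ⧸ I) I.Cotangent)) Module.Finite.fg_top
    let lift : I.Cotangent → I := Function.surjInv I.toCotangent_surjective
    have hlift : ∀ c, I.toCotangent (lift c) = c := Function.surjInv_eq I.toCotangent_surjective
    let s : Finset I := t.image lift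
    let N : Ideal R := Submodule.map (Submodule.subtype I) (Submodule.span R (s : Set I))
    have hNI : N ≤ I := by
      rintro _ ⟨z, -, rfl⟩
      exact z.2
    have himg : I.toCotangent '' (s : Set I) = (t : Set I.Cotangent) := by
      ext c
      simp only [s, Finset.coe_image, Set.mem_image, Finset.mem_coe]
      constructor
      · rintro ⟨_, ⟨c', hc', rfl⟩, rfl⟩
        rwa [hlift]
      · intro hc
        exact ⟨lift c, ⟨c, hc, rfl⟩, hlift c⟩
    have hIN : I ≤ N ⊔ I • I := by
      intro y hy
      have h1 : I.toCotangent ⟨y, hy⟩ ∈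
          (Submodule.span (R ⧸ I) (t : Set I.Cotangent)).restrictScalars R := by
        rw [ht2]; trivial
      rw [Submodule.restrictScalars_span R (R ⧸ I) hsurj, ← himg, ← Submodule.map_span] at h1
      obtain ⟨z, hz, hzy⟩ := h1
      have h2 : ((z : R) - y) ∈ I ^ 2 := by
        have := (Ideal.toCotangent_eq (I := I) (x := z) (y := ⟨y, hy⟩)).mp hzy
        simpa using this
      have h3 : y = (z : R) - ((z : R) - y) := by ring
      rw [h3]
      refine Submodule.sub_mem _ (Submodule.mem_sup_left ⟨z, hz, rfl⟩) (Submodule.mem_sup_right ?_)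
      rwa [smul_eq_mul, ← pow_two]
    have hIleN : I ≤ N := Submodule.le_of_le_smul_of_le_jacobson_bot fg hI hIN
    have hEq : I = N := le_antisymm hIleN hNI
    have hN : N = Submodule.span R (Submodule.subtype I '' (s : Set I)) := by
      simp only [N, Submodule.map_span]
    rw [← ht1]
    conv_lhs => rw [hEq, hN]
    refine (Submodule.spanFinrank_span_le_ncard_of_finite (s.finite_toSet.image _)).trans ?_
    refine (Set.ncard_image_le s.finite_toSet).trans ?_
    rw [Set.ncard_coe_finset]
    exact Finset.card_image_le

/-- Equivalence of (2) and (3), special case with R already a regular local ring: for a regular local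
ring R and a proper ideal I, the ideal I is generated by a regular sequence if and only if the
conormal module I/I^2 can be generated by (dim R - dim R/I) elements, the inequality below being the
additive form of that count. -/
theorem result {R : Type u} [CommRing R] [IsRegularLocalRing R]
    (I : Ideal R) (hI : I ≠ ⊤) :
    (∃ rs : List R, Ideal.ofList rs = I ∧ RingTheory.Sequence.IsRegular R rs) ↔
      (((⊤ : Submodule (R ⧸ I) I.Cotangent).spanFinrank : WithBot ℕ∞) + ringKrullDim (R ⧸ I)
        ≤ ringKrullDim R) := by
  have hIm : I ≤ IsLocalRing.maximalIdeal R := IsLocalRing.le_maximalIdeal hI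
  have hjac : I ≤ Ideal.jacobson ⊥ := hIm.trans (IsLocalRing.maximalIdeal_le_jacobson _)
  rw [spanFinrank_cotangent_eq I hjac I.fg_of_isNoetherianRing]
  have hcast : (((I.spanFinrank : ℕ∞)) : WithBot ℕ∞) = (I.spanFinrank : WithBot ℕ∞) := by
    norm_cast
  rw [← hcast, ← Groth.Agent.H79.CIPres.regular_iff_dim I hI]
  constructor
  · rintro ⟨rs, h1, h2⟩
    exact ⟨rs, h2, h1⟩
  · rintro ⟨rs, h1, h2⟩
    exact ⟨rs, h2, h1⟩

end Groth.Agent.S2167
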