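import Groth.Statements.S2170
import Groth.Agent.H11.Laplacian

set_option autoImplicit false
open Finset
open Models

namespace Groth.Agent.S2170

/-- Let A be a symmetric real n × n matrix with non-negative off-diagonal entries and m a vector with
positive entries such that for every i, ∑_{j ≠ i} A_{ij} m_j ≤ −A_{ii} m_i. Then the kernel of A is
the span of the vectors equal to m on an index set I and zero off I, for those I such that A_{ij} =
0 whenever i ∈ I and j ∉ I and such that equality holds in the above inequality for every i ∈ I. The
published statement omits the symmetry of A (without which it fails) and applies it only to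
symmetric matrices; stated here with A symmetric. -/
theorem result {n : ℕ} (A : Matrix (Fin n) (Fin n) ℝ) (m : Fin n → ℝ)
    (hsymm : A.IsSymm) (hA : ∀ i j, i ≠ j → 0 ≤ A i j) (hm : ∀ i, 0 < m i)
    (hle : ∀ i, ∑ j ∈ univ.erase i, A i j * m j ≤ -(A i i * m i)) :
    LinearMap.ker (Matrix.mulVecLin A) = Submodule.span ℝ
      {x : Fin n → ℝ | ∃ I : Finset (Fin n), (∀ i ∈ I, ∀ j ∉ I, A i j = 0) ∧
        (∀ i ∈ I, ∑ j ∈ univ.erase i, A i j * m j = -(A i i * m i)) ∧
        x = fun i => if i ∈ I then m i else 0} := by
  classical
  have hrowsum : ∀ i, ∑ j, A i j * m j = A i i * m i + ∑ j ∈ univ.erase i, A i j * m j :=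
    fun i => (Finset.add_sum_erase univ (fun j => A i j * m j) (Finset.mem_univ i)).symm
  have hrow : ∀ i, ∑ j, A i j * m j ≤ 0 := fun i => by
    rw [hrowsum i]; linarith [hle i]
  apply le_antisymm
  · intro x hx
    rw [LinearMap.mem_ker, Matrix.mulVecLin_apply] at hx
    have hq : dotProduct x (A.mulVec x) = 0 := by rw [hx]; simp
    obtain ⟨h1, h2⟩ := Groth.Agent.H11.lap_quad_eq_zero A m x hsymm hA hm hrow hq
    set y : Fin n → ℝ := fun i => x i / m i with hy
    set S : Finset ℝ := (univ.image y).filter (fun c => c ≠ 0) with hS
    have hxsum : x = ∑ c ∈ S, c • (fun i => if i ∈ univ.filter (fun i => y i = c) then m i else 0) := by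
      funext i
      rw [Finset.sum_apply]
      simp only [Pi.smul_apply, smul_eq_mul, Finset.mem_filter, Finset.mem_univ, true_and, mul_ite,
        mul_zero]
      rw [Finset.sum_ite_eq]
      by_cases hyi : y i = 0
      · have : y i ∉ S := by simp [hS, hyi]
        rw [if_neg this]
        have := div_eq_zero_iff.mp hyi
        rcases this with h | h
        · exact h
        · exact absurd h (hm i).ne'
      · have : y i ∈ S := by
          simp only [hS, Finset.mem_filter, Finset.mem_image, Finset.mem_univ, true_and]
          exact ⟨⟨i, rfl⟩, hyi⟩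
        rw [if_pos this]
        simp only [hy]
        field_simp [(hm i).ne']
    rw [hxsum]
    refine Submodule.sum_mem _ fun c hc => Submodule.smul_mem _ _ (Submodule.subset_span ?_)
    have hc0 : c ≠ 0 := (Finset.mem_filter.mp hc).2
    refine ⟨univ.filter (fun i => y i = c), ?_, ?_, rfl⟩
    · intro i hi j hj
      simp only [Finset.mem_filter, Finset.mem_univ, true_and] at hi hj
      rcases h2 i j with h | h
      · exact h
      · exfalso; apply hj; rw [← hi]; exact h.symm
    · intro i hi
      simp only [Finset.mem_filter, Finset.mem_univ, true_and] at hi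
      have hxi : x i ≠ 0 := by
        intro h0
        apply hc0
        rw [← hi]; simp [hy, h0]
      rcases h1 i with h | h
      · exact absurd h hxi
      · rw [hrowsum i] at h; linarith
  · rw [Submodule.span_le]
    rintro x ⟨I, hI1, hI2, rfl⟩
    rw [SetLike.mem_coe, LinearMap.mem_ker, Matrix.mulVecLin_apply]
    funext i
    simp only [Matrix.mulVec, dotProduct, Pi.zero_apply]
    by_cases hi : i ∈ I
    · have : ∑ j, A i j * (if j ∈ I then m j else 0) = ∑ j, A i j * m j := by
        refine Finset.sum_congr rfl fun j _ => ?_
        by_cases hj : j ∈ I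
        · rw [if_pos hj]
        · rw [if_neg hj, hI1 i hi j hj]; simp
      rw [this, hrowsum i, hI2 i hi]; ring
    · refine Finset.sum_eq_zero fun j _ => ?_
      by_cases hj : j ∈ I
      · have : A i j = 0 := by rw [← hsymm.apply i j]; exact hI1 j hj i hi
        rw [this]; simp
      · rw [if_neg hj]; simp

end Groth.Agent.S2170
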