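import Groth.Statements.S2179
import Groth.Agent.H11.NumType

set_option autoImplicit false
open Finset
open Models Models.NumericalType

namespace Groth.Agent.S2179

/-- For a numerical type T, the map Z^n -> Z^n multiplying the i-th coordinate by w i induces a
well-defined injective homomorphism from Pic(T), the cokernel of (a i j / w i), to the cokernel of
the matrix a. -/
theorem result {n : ℕ} (T : Models.NumericalType n) :
    ∃ f : T.Pic →+ T.CokerA, Function.Injective f ∧
      ∀ x : Fin n → ℤ, f (Submodule.Quotient.mk x) = Submodule.Quotient.mk (fun i => T.w i * x i) := by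
  let g : (Fin n → ℤ) →ₗ[ℤ] (Fin n → ℤ) :=
    { toFun := fun x i => T.w i * x i
      map_add' := by intros; funext i; simp [mul_add]
      map_smul' := by intros; funext i; simp; ring }
  have hkey : ∀ v, g (T.picMatrix.mulVec v) = T.a.mulVec v := by
    intro v; funext i
    show T.w i * (∑ j, T.picMatrix i j * v j) = ∑ j, T.a i j * v j
    rw [Finset.mul_sum]; refine Finset.sum_congr rfl fun j _ => ?_
    rw [← mul_assoc]; congr 1
    exact Int.mul_ediv_cancel' (T.w_dvd i j)
  have hle : LinearMap.range (Matrix.mulVecLin T.picMatrix) ≤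
      (LinearMap.range (Matrix.mulVecLin T.a)).comap g := by
    rintro _ ⟨v, rfl⟩
    rw [Submodule.mem_comap]
    exact ⟨v, by rw [Matrix.mulVecLin_apply, Matrix.mulVecLin_apply, hkey]⟩
  refine ⟨(Submodule.mapQ _ _ g hle).toAddMonoidHom, ?_, ?_⟩
  · rw [injective_iff_map_eq_zero]
    intro y hy
    obtain ⟨x, rfl⟩ := Submodule.Quotient.mk_surjective _ y
    have hy' : Submodule.Quotient.mk (p := LinearMap.range (Matrix.mulVecLin T.a)) (g x) = 0 := hy
    rw [Submodule.Quotient.mk_eq_zero] at hy' ⊢
    obtain ⟨v, hv⟩ := hy'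
    refine ⟨v, ?_⟩
    rw [Matrix.mulVecLin_apply] at hv ⊢
    funext i
    have h1 := congrFun hv i
    have h2 := congrFun (hkey v) i
    exact mul_left_cancel₀ (T.w_pos i).ne' (h2.trans h1)
  · intro x; rfl

end Groth.Agent.S2179
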