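import Groth.Statements.S2183


set_option autoImplicit false
open Finset
open Models Models.NumericalType

namespace Groth.Agent.S2183

open Classical in
/-- Let T be a minimal numerical type with n > 1 indices and genus g at least 2, and let J be the set of
indices which are not (-2)-indices. Then J has at most 2g - 2 elements, and for j in J one has g j <
g, m j * |a j j| at most 6g - 6, and m i * a i j at most 6g - 6 for every index i. -/
theorem result {n : ℕ} (T : Models.NumericalType n) (hmin : T.IsMinimal) (hn : 1 < n) (hg : 2 ≤ T.genus) :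
    ((univ.filter fun j => ¬T.IsMinusTwo j).card : ℤ) ≤ 2 * T.genus - 2 ∧
      ∀ j, ¬T.IsMinusTwo j →
        T.g j < T.genus ∧ T.m j * |T.a j j| ≤ 6 * T.genus - 6 ∧
          ∀ i, T.m i * T.a i j ≤ 6 * T.genus - 6 := by
  have hsum : ∀ j, T.a j j * T.m j + ∑ i ∈ univ.erase j, T.a j i * T.m i = 0 := by
    intro j
    have h := congrFun T.mulVec_m j
    simp only [Matrix.mulVec, dotProduct, Pi.zero_apply] at h
    rw [← h]
    exact Finset.add_sum_erase univ (fun x => T.a j x * T.m x) (Finset.mem_univ j)
  have hterm : ∀ j i, i ∈ univ.erase j → 0 ≤ T.a j i * T.m i := by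
    intro j i hi
    exact mul_nonneg (T.offDiag_nonneg j i (Finset.ne_of_mem_erase hi).symm) (T.m_pos i).le
  have hneg : ∀ j, T.a j j < 0 := by
    intro j
    obtain ⟨i, hi, k, hk, hik⟩ := T.connected {j} (Finset.singleton_nonempty j) (by
      intro h
      have := congrArg Finset.card h
      rw [Finset.card_singleton, Finset.card_univ, Fintype.card_fin] at this
      omega)
    rw [Finset.mem_singleton] at hi hk
    have hik' : T.a j k ≠ 0 := hi ▸ hik
    have hkpos : 0 < T.a j k := lt_of_le_of_ne (T.offDiag_nonneg j k (Ne.symm hk)) (Ne.symm hik')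
    have hk' : k ∈ univ.erase j := Finset.mem_erase.mpr ⟨hk, Finset.mem_univ k⟩
    have h1 : T.a j k * T.m k ≤ ∑ x ∈ univ.erase j, T.a j x * T.m x :=
      Finset.single_le_sum (fun x hx => hterm j x hx) hk'
    have h2 : 0 < T.a j k * T.m k := mul_pos hkpos (T.m_pos k)
    have h3 := hsum j
    by_contra hcon
    push Not at hcon
    have h5 := mul_nonneg hcon (T.m_pos j).le
    linarith
  have hle : ∀ j, T.w j ≤ - T.a j j := fun j =>
    Int.le_of_dvd (by linarith [hneg j]) ((dvd_neg).mpr (T.w_dvd j j))
  obtain ⟨t, ht_def⟩ : ∃ t : Fin n → ℤ, t = fun i => 2 * T.w i * (T.g i - 1) - T.a i i :=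
    ⟨_, rfl⟩
  have ht : ∀ i, 0 ≤ t i ∧ (¬ T.IsMinusTwo i → T.w i ≤ t i) := by
    intro i
    have hw := T.w_pos i
    have hgi := T.g_nonneg i
    rw [ht_def]
    simp only
    rcases (lt_or_ge (T.g i) 1) with h0 | h1
    · have hg0 : T.g i = 0 := by omega
      obtain ⟨c, hc⟩ := T.w_dvd i i
      have hcneg : c < 0 := by
        by_contra hcon
        push Not at hcon
        have h5 := mul_nonneg hw.le hcon
        have h6 := hneg i
        linarith
      have hc1 : c ≠ -1 := by
        intro h
        apply hmin i
        exact ⟨hg0, by rw [hc, h]; ring⟩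
      have hc2 : c ≤ -2 := by omega
      rw [hg0, hc]
      constructor
      · nlinarith [mul_nonneg hw.le (by linarith : (0:ℤ) ≤ -2 - c)]
      · intro hm2
        have hc3 : c ≠ -2 := by
          intro h
          apply hm2
          exact ⟨hg0, by rw [hc, h]; ring⟩
        have hc4 : c ≤ -3 := by omega
        nlinarith [mul_nonneg hw.le (by linarith : (0:ℤ) ≤ -3 - c)]
    · have h2 : 0 ≤ 2 * T.w i * (T.g i - 1) :=
        mul_nonneg (by linarith) (by linarith)
      have h3 := hle i
      constructor
      · linarith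
      · intro _
        linarith
  have hS : ∑ i, T.m i * t i ≤ 2 * T.genus - 2 := by
    have h1 : ∑ i, T.m i * t i =
        2 * (∑ i, T.m i * T.w i * (T.g i - 1)) - ∑ i, T.m i * T.a i i := by
      rw [Finset.mul_sum, ← Finset.sum_sub_distrib]
      refine Finset.sum_congr rfl fun i _ => ?_
      rw [ht_def]
      ring
    rw [h1]
    unfold Models.NumericalType.genus
    omega
  have htm : ∀ i, 0 ≤ T.m i * t i := fun i => mul_nonneg (T.m_pos i).le (ht i).1
  have hj : ∀ j, T.m j * t j ≤ 2 * T.genus - 2 := fun j =>
    (Finset.single_le_sum (fun i _ => htm i) (Finset.mem_univ j)).trans hS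
  constructor
  · rw [Finset.card_eq_sum_ones, Nat.cast_sum]
    refine le_trans (Finset.sum_le_sum (g := fun j => T.m j * t j) ?_)
      (le_trans (Finset.sum_le_sum_of_subset_of_nonneg (Finset.filter_subset _ _)
        (fun i _ _ => htm i)) hS)
    intro j hj'
    have hj2 := (Finset.mem_filter.mp hj').2
    have h3 := (ht j).2 hj2
    have h4 := T.w_pos j
    have h5 := T.m_pos j
    have h6 : 1 ≤ t j := by linarith
    push_cast
    nlinarith
  · intro j hj2
    have hw := T.w_pos j
    have hm := T.m_pos j
    have hgj := T.g_nonneg j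
    have h1 := hj j
    have h2 := (ht j).2 hj2
    have h0 := (ht j).1
    have hneg_j := hneg j
    have hle_j := hle j
    have h3 : - T.a j j ≤ 3 * t j := by
      rcases lt_or_ge (T.g j) 1 with hg0 | hg1
      · have hg0' : T.g j = 0 := by omega
        rw [ht_def] at h2 ⊢
        simp only at h2 ⊢
        rw [hg0'] at h2 ⊢
        linarith
      · rw [ht_def]
        simp only
        nlinarith [mul_nonneg hw.le (by linarith : (0:ℤ) ≤ T.g j - 1)]
    have hb : T.m j * -T.a j j ≤ 6 * T.genus - 6 := by
      calc T.m j * -T.a j j ≤ T.m j * (3 * t j) := mul_le_mul_of_nonneg_left h3 hm.le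
        _ = 3 * (T.m j * t j) := by ring
        _ ≤ 6 * T.genus - 6 := by linarith
    refine ⟨?_, ?_, ?_⟩
    · by_contra hcon
      push Not at hcon
      have h4 : 2 * (T.g j - 1) + 1 ≤ t j := by
        rw [ht_def]
        simp only
        nlinarith [mul_nonneg (by linarith : (0:ℤ) ≤ T.w j - 1) (by linarith : (0:ℤ) ≤ T.g j - 1)]
      have h5 : t j ≤ T.m j * t j := by nlinarith
      linarith
    · rw [abs_of_neg hneg_j]
      exact hb
    · intro i
      by_cases hij : i = j
      · rw [hij]
        have h7 := mul_neg_of_pos_of_neg hm hneg_j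
        linarith
      · have hi' : i ∈ univ.erase j := Finset.mem_erase.mpr ⟨hij, Finset.mem_univ i⟩
        have h5 : T.a j i * T.m i ≤ ∑ x ∈ univ.erase j, T.a j x * T.m x :=
          Finset.single_le_sum (fun x hx => hterm j x hx) hi'
        have h6 := hsum j
        have h7 : T.a i j = T.a j i := (T.symm.apply i j).symm
        rw [h7]
        linarith

end Groth.Agent.S2183
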