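import Groth.Statements.S2187
import Groth.Agent.H71.Vasconcelos

set_option autoImplicit false
universe u
open CategoryTheory
open LCI

namespace Groth.Agent.S2187

/-- Let R be a Noetherian local ring and I an ideal of finite projective dimension as an R-module. If F
is a direct summand of the conormal module I/I^2 which is isomorphic to R/I, then there is a
nonzerodivisor x in I whose class in I/I^2 generates F. -/
theorem result {R : Type u} [CommRing R]
    [IsNoetherianRing R] [IsLocalRing R] (I : Ideal R) (n : ℕ)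
    (hpd : HasProjectiveDimensionLT (ModuleCat.of R I) n)
    (F G : Submodule (R ⧸ I) I.Cotangent) (hFG : IsCompl F G) (e : F ≃ₗ[R ⧸ I] (R ⧸ I)) :
    ∃ (x : R) (hx : x ∈ I), x ∈ nonZeroDivisors R ∧
      Submodule.span (R ⧸ I) {I.toCotangent ⟨x, hx⟩} = F := by
  classical
  by_cases hI : I = ⊤
  · subst hI
    haveI : Subsingleton (R ⧸ (⊤ : Ideal R)) := Ideal.Quotient.subsingleton_iff.mpr rfl
    haveI : Subsingleton ((⊤ : Ideal R).Cotangent) :=
      Module.subsingleton (R ⧸ (⊤ : Ideal R)) _
    haveI : Subsingleton (Submodule (R ⧸ (⊤ : Ideal R)) (⊤ : Ideal R).Cotangent) :=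
      Submodule.subsingleton_iff _ |>.mpr inferInstance
    exact ⟨1, Submodule.mem_top, one_mem _, Subsingleton.elim _ _⟩
  · have hk : Groth.Agent.H71.SR.FinPD R (R ⧸ I) :=
      Groth.Agent.H71.VAS.finPD_of_ses_right (Submodule.subtype I) (Submodule.mkQ I)
        (Submodule.injective_subtype _) (LinearMap.exact_subtype_mkQ _)
        (Submodule.mkQ_surjective _) ⟨n, hpd⟩ Groth.Agent.H71.SR.FinPD.self
    obtain ⟨x₀, hx₀⟩ := Ideal.toCotangent_surjective I ((e.symm 1 : F) : I.Cotangent)
    let ψ : I →ₗ[R] R ⧸ I :=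
      ((e.toLinearMap ∘ₗ Submodule.projectionOnto F G hFG).restrictScalars R) ∘ₗ
        I.toCotangent
    have hψ : ψ x₀ = 1 := by
      show e (Submodule.projectionOnto F G hFG (I.toCotangent x₀)) = 1
      rw [hx₀, Submodule.projectionOnto_apply_left, LinearEquiv.apply_symm_apply]
    obtain ⟨y, hy, hnz⟩ := Groth.Agent.H71.VAS.exists_nzd_add_sq I hk x₀ ψ hψ
    have hyI : y ∈ I := Ideal.pow_le_self two_ne_zero hy
    have hxI : (x₀ : R) + y ∈ I := I.add_mem x₀.2 hyI
    refine ⟨(x₀ : R) + y, hxI, hnz, ?_⟩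
    have hcot : I.toCotangent ⟨(x₀ : R) + y, hxI⟩ = ((e.symm 1 : F) : I.Cotangent) := by
      rw [← hx₀, Ideal.toCotangent_eq]
      show (x₀ : R) + y - (x₀ : R) ∈ I ^ 2
      rw [add_sub_cancel_left]
      exact hy
    rw [hcot]
    apply le_antisymm
    · rw [Submodule.span_le, Set.singleton_subset_iff]
      exact (e.symm 1).2
    · intro f hf
      have h1 : (⟨f, hf⟩ : F) = (e ⟨f, hf⟩) • (e.symm 1) := by
        apply e.injective
        rw [map_smul, LinearEquiv.apply_symm_apply, smul_eq_mul, mul_one]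
      have h2 : f = (e ⟨f, hf⟩) • ((e.symm 1 : F) : I.Cotangent) := by
        have := congrArg Subtype.val h1
        simpa using this
      rw [h2]
      exact Submodule.smul_mem _ _ (Submodule.mem_span_singleton_self _)

end Groth.Agent.S2187
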