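import Groth.Statements.S2188
import Groth.Agent.H71.Vasconcelos

set_option autoImplicit false
universe u
open CategoryTheory
open LCI

namespace Groth.Agent.S2188

open Groth.Agent.H71.VAS Groth.Agent.H71.SR IsLocalRing

theorem descFun {A : Type u} [CommRing A] (J : Ideal A) (x : A) (hxJ : x ∈ J)
    (φ : J →ₗ[A] A ⧸ J) (hφx : φ ⟨x, hxJ⟩ = 0) :
    ∃ φb : (J.map (Ideal.Quotient.mk (Ideal.span {x})) : Ideal (A ⧸ Ideal.span {x}))
        →ₗ[A ⧸ Ideal.span {x}]
          ((A ⧸ Ideal.span {x}) ⧸ J.map (Ideal.Quotient.mk (Ideal.span {x}))),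
      ∀ z, φb (qMap J x z) = thetaL J x (φ z) := by
  have hker : LinearMap.ker (qMap J x) ≤ LinearMap.ker ((thetaL J x) ∘ₗ φ) := by
    intro z hz
    rw [LinearMap.mem_ker] at hz ⊢
    have hz' : Ideal.Quotient.mk (Ideal.span {x}) (z : A) = 0 := by
      have := congrArg Subtype.val hz
      simpa [qMap_coe] using this
    obtain ⟨c, hc⟩ := Ideal.mem_span_singleton'.mp (Ideal.Quotient.eq_zero_iff_mem.mp hz')
    have hzc : z = c • (⟨x, hxJ⟩ : J) := by
      apply Subtype.ext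
      show (z : A) = c * x
      exact hc.symm
    rw [LinearMap.comp_apply, hzc, map_smul, hφx, smul_zero, map_zero]
  let φt : (J.map (Ideal.Quotient.mk (Ideal.span {x})) : Ideal (A ⧸ Ideal.span {x}))
      →ₗ[A] ((A ⧸ Ideal.span {x}) ⧸ J.map (Ideal.Quotient.mk (Ideal.span {x}))) :=
    ((LinearMap.ker (qMap J x)).liftQ ((thetaL J x) ∘ₗ φ) hker) ∘ₗ
      ((qMap J x).quotKerEquivOfSurjective (qMap_surjective J x)).symm.toLinearMap
  have hφt : ∀ z, φt (qMap J x z) = thetaL J x (φ z) := by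
    intro z
    show ((LinearMap.ker (qMap J x)).liftQ ((thetaL J x) ∘ₗ φ) hker)
      (((qMap J x).quotKerEquivOfSurjective (qMap_surjective J x)).symm (qMap J x z)) = _
    have h1 : ((qMap J x).quotKerEquivOfSurjective (qMap_surjective J x)).symm (qMap J x z) =
        Submodule.Quotient.mk z := by
      rw [LinearEquiv.symm_apply_eq]
      rfl
    rw [h1, Submodule.liftQ_apply]
    rfl
  exact ⟨LinearMap.extendScalarsOfSurjective
      (Ideal.Quotient.mk_surjective :
        Function.Surjective (algebraMap A (A ⧸ Ideal.span {x}))) φt, hφt⟩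

theorem psi_sq {A : Type u} [CommRing A] (J : Ideal A) (ψ : J →ₗ[A] A ⧸ J) (w : A)
    (hw : w ∈ J ^ 2) : w ∈ J ∧ ∀ hwJ : w ∈ J, ψ ⟨w, hwJ⟩ = 0 := by
  rw [pow_two] at hw
  refine Submodule.mul_induction_on hw ?_ ?_
  · intro a ha b hb
    refine ⟨Ideal.mul_mem_left _ _ hb, fun hwJ => ?_⟩
    have h1 : (⟨a * b, hwJ⟩ : J) = a • (⟨b, hb⟩ : J) := Subtype.ext rfl
    rw [h1, map_smul, Algebra.smul_def, Ideal.Quotient.algebraMap_eq,
      Ideal.Quotient.eq_zero_iff_mem.mpr ha, zero_mul]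
  · rintro a b ⟨haJ, ha⟩ ⟨hbJ, hb⟩
    refine ⟨J.add_mem haJ hbJ, fun hwJ => ?_⟩
    have h1 : (⟨a + b, hwJ⟩ : J) = ⟨a, haJ⟩ + ⟨b, hbJ⟩ := rfl
    rw [h1, map_add, ha, hb, add_zero]

theorem lemmaA : ∀ (r : ℕ) (A : Type u) [CommRing A] [IsLocalRing A] [IsNoetherianRing A]
    (J : Ideal A), J ≠ ⊤ → FinPD A (A ⧸ J) →
    ∀ (x₀ : Fin r → J) (ψ : Fin r → (J →ₗ[A] A ⧸ J)),
    (∀ i j, ψ i (x₀ j) = if i = j then 1 else 0) →
    ∃ y : Fin r → A, (∀ j, y j ∈ J ^ 2) ∧ ElemReg (List.ofFn fun j => (x₀ j : A) + y j) := by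
  intro r
  induction r with
  | zero =>
    intro A _ _ _ J _ _ x₀ ψ _
    refine ⟨fun j => 0, fun j => j.elim0, ?_⟩
    intro i hi
    simp at hi
  | succ r ih =>
    intro A _ _ _ J hJ hk x₀ ψ hψ
    classical
    obtain ⟨y0, hy0, hreg⟩ := exists_nzd_add_sq J hk (x₀ 0) (ψ 0) (by rw [hψ, if_pos rfl])
    have hy0J : y0 ∈ J := (psi_sq J (ψ 0) y0 hy0).1
    obtain ⟨x, hx⟩ : ∃ x : A, x = (x₀ 0 : A) + y0 := ⟨_, rfl⟩
    rw [← hx] at hreg
    have hxJ : x ∈ J := by rw [hx]; exact J.add_mem (x₀ 0).2 hy0J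
    have hxeq : (⟨x, hxJ⟩ : J) = x₀ 0 + ⟨y0, hy0J⟩ := Subtype.ext hx
    have hψx : ∀ i, ψ i ⟨x, hxJ⟩ = if i = 0 then 1 else 0 := by
      intro i
      rw [hxeq, map_add, (psi_sq J (ψ i) y0 hy0).2 hy0J, add_zero, hψ]
    have hJm : J ≤ maximalIdeal A := le_maximalIdeal hJ
    have hxmax : x ∈ maximalIdeal A := hJm hxJ
    have hne : Ideal.span {x} ≠ (⊤ : Ideal A) := by
      intro htop
      rw [Ideal.span_singleton_eq_top] at htop
      exact (mem_maximalIdeal x).mp hxmax htop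
    haveI : Nontrivial (A ⧸ Ideal.span {x}) := Ideal.Quotient.nontrivial_iff.mpr hne
    haveI : IsLocalRing (A ⧸ Ideal.span {x}) :=
      IsLocalRing.of_surjective' (Ideal.Quotient.mk (Ideal.span {x}))
        Ideal.Quotient.mk_surjective
    have hk' := finPD_quotient' J x hxJ hxmax hreg (ψ 0) (by rw [hψx, if_pos rfl]) hk
    have hspan : Ideal.span {x} ≤ J := (Ideal.span_singleton_le_iff_mem J).mpr hxJ
    have hJ' : J.map (Ideal.Quotient.mk (Ideal.span {x})) ≠ ⊤ := by
      intro htop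
      have h1 : Ideal.Quotient.mk (Ideal.span {x}) (1 : A) ∈
          J.map (Ideal.Quotient.mk (Ideal.span {x})) := by
        rw [htop]
        exact Submodule.mem_top
      have h2 := mem_sup_span_of_mk_mem_map x J 1 h1
      rw [sup_eq_right.mpr hspan] at h2
      exact hJ ((Ideal.eq_top_iff_one J).mpr h2)
    have hdesc : ∀ i : Fin r, ∃ φb : (J.map (Ideal.Quotient.mk (Ideal.span {x})) :
        Ideal (A ⧸ Ideal.span {x})) →ₗ[A ⧸ Ideal.span {x}]
          ((A ⧸ Ideal.span {x}) ⧸ J.map (Ideal.Quotient.mk (Ideal.span {x}))),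
        ∀ z, φb (qMap J x z) = thetaL J x (ψ i.succ z) :=
      fun i => descFun J x hxJ (ψ i.succ) (by rw [hψx, if_neg (Fin.succ_ne_zero i)])
    choose ψb hψb using hdesc
    obtain ⟨yb, hyb, hregb⟩ := ih (A ⧸ Ideal.span {x}) _ hJ' hk'
      (fun j => qMap J x (x₀ j.succ)) ψb
      (by
        intro i j
        rw [hψb, hψ]
        by_cases hij : i = j
        · rw [if_pos hij, if_pos (by rw [hij]), thetaL_one]
        · rw [if_neg hij, if_neg (fun h => hij (Fin.succ_inj.mp h)), map_zero])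
    have hlift : ∀ j : Fin r, ∃ y ∈ J ^ 2, Ideal.Quotient.mk (Ideal.span {x}) y = yb j := by
      intro j
      have := hyb j
      rw [← Ideal.map_pow] at this
      exact (Ideal.mem_map_iff_of_surjective _ Ideal.Quotient.mk_surjective).mp this
    choose y hy hyq using hlift
    refine ⟨Fin.cons y0 y, ?_, ?_⟩
    · intro j
      refine Fin.cases ?_ (fun j => ?_) j
      · rw [Fin.cons_zero]; exact hy0
      · rw [Fin.cons_succ]; exact hy j
    · have hlist : (List.ofFn fun j : Fin (r + 1) =>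
          (x₀ j : A) + (Fin.cons y0 y : Fin (r + 1) → A) j) =
          x :: List.ofFn (fun j : Fin r => (x₀ j.succ : A) + y j) := by
        rw [List.ofFn_succ, Fin.cons_zero, ← hx]
        simp only [Fin.cons_succ]
      rw [hlist]
      apply elemReg_cons x hreg
      rw [List.map_ofFn]
      have hfun : (⇑(Ideal.Quotient.mk (Ideal.span {x})) ∘ fun j : Fin r =>
          (x₀ j.succ : A) + y j) =
          fun j : Fin r => ((qMap J x (x₀ j.succ) :
            (J.map (Ideal.Quotient.mk (Ideal.span {x})) : Ideal (A ⧸ Ideal.span {x}))) :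
              A ⧸ Ideal.span {x}) + yb j := by
        funext j
        rw [Function.comp_apply, map_add, hyq, qMap_coe]
      rw [hfun]
      exact hregb


/-- Let R be a Noetherian local ring and I an ideal of finite projective dimension as an R-module. If F
is a direct summand of I/I^2 which is free of rank r over R/I, then there is a regular sequence x_1,
..., x_r of R inside I whose classes in I/I^2 generate F. -/
theorem result {R : Type u} [CommRing R]
    [IsNoetherianRing R] [IsLocalRing R] (I : Ideal R) (hI : I ≠ ⊤) (n : ℕ)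
    (hpd : HasProjectiveDimensionLT (ModuleCat.of R I) n)
    (F G : Submodule (R ⧸ I) I.Cotangent) (hFG : IsCompl F G) (r : ℕ)
    (e : F ≃ₗ[R ⧸ I] (Fin r → R ⧸ I)) :
    ∃ (x : Fin r → R) (hx : ∀ i, x i ∈ I), RingTheory.Sequence.IsRegular R (List.ofFn x) ∧
      Submodule.span (R ⧸ I) (Set.range fun i => I.toCotangent ⟨x i, hx i⟩) = F := by
  classical
  have hk : FinPD R (R ⧸ I) :=
    finPD_of_ses_right (Submodule.subtype I) (Submodule.mkQ I)
      (Submodule.injective_subtype _) (LinearMap.exact_subtype_mkQ _)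
      (Submodule.mkQ_surjective _) ⟨n, hpd⟩ FinPD.self
  have hlift : ∀ j : Fin r, ∃ z : I, I.toCotangent z =
      ((e.symm (Pi.single j (1 : R ⧸ I)) : F) : I.Cotangent) :=
    fun j => Ideal.toCotangent_surjective I _
  choose x₀ hx₀ using hlift
  let Ψ : I →ₗ[R] (Fin r → R ⧸ I) :=
    ((e.toLinearMap ∘ₗ Submodule.projectionOnto F G hFG).restrictScalars R) ∘ₗ I.toCotangent
  let ψ : Fin r → (I →ₗ[R] R ⧸ I) := fun i =>
    (LinearMap.proj i : (Fin r → R ⧸ I) →ₗ[R] R ⧸ I) ∘ₗ Ψ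
  have hψ : ∀ i j, ψ i (x₀ j) = if i = j then 1 else 0 := by
    intro i j
    show e (Submodule.projectionOnto F G hFG (I.toCotangent (x₀ j))) i = _
    rw [hx₀, Submodule.projectionOnto_apply_left, LinearEquiv.apply_symm_apply, Pi.single_apply]
  obtain ⟨y, hy, hreg⟩ := lemmaA r R I hI hk x₀ ψ hψ
  have hyI : ∀ j, y j ∈ I := fun j => Ideal.pow_le_self two_ne_zero (hy j)
  refine ⟨fun j => (x₀ j : R) + y j, fun j => I.add_mem (x₀ j).2 (hyI j), ?_, ?_⟩
  · apply RingTheory.Sequence.IsRegular.of_isWeaklyRegular_of_mem_maximalIdeal R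
    · intro t ht
      rw [List.mem_ofFn] at ht
      obtain ⟨j, rfl⟩ := ht
      exact le_maximalIdeal hI (I.add_mem (x₀ j).2 (hyI j))
    · exact isWeaklyRegular_of_elemReg _ hreg
  · have hcot : ∀ j, I.toCotangent ⟨(x₀ j : R) + y j, I.add_mem (x₀ j).2 (hyI j)⟩ =
        ((e.symm (Pi.single j (1 : R ⧸ I)) : F) : I.Cotangent) := by
      intro j
      rw [← hx₀ j, Ideal.toCotangent_eq]
      show (x₀ j : R) + y j - (x₀ j : R) ∈ I ^ 2
      rw [add_sub_cancel_left]
      exact hy j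
    simp only [hcot]
    let bF := (Pi.basisFun (R ⧸ I) (Fin r)).map e.symm
    have hb : ∀ j, bF j = e.symm (Pi.single j (1 : R ⧸ I)) := fun j => by
      rw [Module.Basis.map_apply, Pi.basisFun_apply]
    have hfun : (fun j => ((e.symm (Pi.single j (1 : R ⧸ I)) : F) : I.Cotangent)) =
        F.subtype ∘ bF := by
      funext j
      rw [Function.comp_apply, hb]
      rfl
    rw [hfun, Set.range_comp, ← Submodule.map_span, bF.span_eq, Submodule.map_subtype_top]

end Groth.Agent.S2188
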