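import Groth.Statements.S2190
import Groth.Agent.H11.NumType

set_option autoImplicit false
open Finset
open Models Models.NumericalType

namespace Groth.Agent.S2190

/-- A minimal numerical type of genus zero has a single index, with m = 1, a = 0, w = 1 and g = 0. -/
theorem result {n : ℕ} (T : Models.NumericalType n) (hmin : T.IsMinimal) (hg : T.genus = 0) :
    n = 1 ∧ ∀ i, T.m i = 1 ∧ T.a i i = 0 ∧ T.w i = 1 ∧ T.g i = 0 := by
  have hn : n = 1 := by
    by_contra hne
    have h1 : 1 < n := by have := T.pos; omega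
    have := Groth.Agent.H11.nt_genus_ge_one T hmin h1
    omega
  subst hn
  refine ⟨rfl, ?_⟩
  intro i
  have hi : i = 0 := Subsingleton.elim _ _
  subst hi
  have hrow := Groth.Agent.H11.nt_row_sum T 0
  simp only [Fin.sum_univ_one] at hrow
  have ha : T.a 0 0 = 0 := by
    rcases mul_eq_zero.mp hrow with h | h
    · exact h
    · exact absurd h (T.m_pos 0).ne'
  have hgen : T.genus = 1 + T.m 0 * T.w 0 * (T.g 0 - 1) := by
    rw [Groth.Agent.H11.nt_genus_eq T 0 (by simp [ha])]
    simp
  rw [hg] at hgen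
  have hm := T.m_pos 0
  have hw := T.w_pos 0
  have hgn := T.g_nonneg 0
  have hprod : T.m 0 * T.w 0 * (1 - T.g 0) = 1 := by linarith
  have hmw : 0 < T.m 0 * T.w 0 := mul_pos hm hw
  have hg0 : T.g 0 = 0 := by
    by_contra hne
    have : 1 ≤ T.g 0 := by omega
    have : T.m 0 * T.w 0 * (1 - T.g 0) ≤ 0 :=
      mul_nonpos_of_nonneg_of_nonpos hmw.le (by linarith)
    linarith
  rw [hg0] at hprod
  have hmw1 : T.m 0 * T.w 0 = 1 := by linarith
  have hm1 : T.m 0 = 1 := by nlinarith
  have hw1 : T.w 0 = 1 := by nlinarith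
  exact ⟨hm1, ha, hw1, hg0⟩

end Groth.Agent.S2190
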