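import Groth.Statements.S2196
import Mathlib.RingTheory.Unramified.Locus
import Mathlib.RingTheory.Kaehler.Basic
import Mathlib.LinearAlgebra.Matrix.Charpoly.LinearMap
import Mathlib.RingTheory.Support

set_option autoImplicit false
universe u v
open Disc

namespace Groth.Agent.S2196

open TensorProduct

variable {A : Type u} {B : Type v} [CommRing A] [CommRing B] [Algebra A B]

theorem smul_fromIdeal (b : B) (j : KaehlerDifferential.ideal A B) :
    b • KaehlerDifferential.fromIdeal A B j =
      KaehlerDifferential.fromIdeal A B ((b ⊗ₜ[A] (1 : B)) • j) := by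
  rw [map_smul, ← algebraMap_smul (B ⊗[A] B) b (KaehlerDifferential.fromIdeal A B j)]
  rfl

theorem noetherDifferent_le_annihilator :
    Disc.noetherDifferent A B ≤ Module.annihilator B Ω[B⁄A] := by
  unfold Disc.noetherDifferent
  rw [Ideal.map_le_iff_le_comap]
  intro a ha
  rw [Ideal.mem_comap, Module.mem_annihilator]
  intro ω
  obtain ⟨j, rfl⟩ := KaehlerDifferential.fromIdeal_surjective A B ω
  rw [smul_fromIdeal]
  show (KaehlerDifferential.ideal A B).toCotangent _ = 0
  rw [Ideal.toCotangent_eq_zero]
  have h2 : (Algebra.TensorProduct.lmul' (S := B) A a ⊗ₜ[A] (1 : B)) - a ∈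
      KaehlerDifferential.ideal A B := by
    show _ ∈ RingHom.ker (Algebra.TensorProduct.lmul' (S := B) A)
    rw [RingHom.mem_ker, map_sub, Algebra.TensorProduct.lmul'_apply_tmul, mul_one, sub_self]
  have h3 : a * (j : B ⊗[A] B) = 0 := (Submodule.mem_annihilator.mp ha) j j.2
  have h4 : (((Algebra.TensorProduct.lmul' (S := B) A a ⊗ₜ[A] (1 : B)) • j :
      KaehlerDifferential.ideal A B) : B ⊗[A] B) =
      ((Algebra.TensorProduct.lmul' (S := B) A a ⊗ₜ[A] (1 : B)) - a) * (j : B ⊗[A] B) := by
    rw [sub_mul, h3, sub_zero]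
    rfl
  rw [h4, pow_two]
  exact Ideal.mul_mem_mul h2 j.2

theorem exists_pow_mem_noetherDifferent [Algebra.FiniteType A B] (b : B)
    (hb : b ∈ Module.annihilator B Ω[B⁄A]) : ∃ n : ℕ, b ^ n ∈ Disc.noetherDifferent A B := by
  classical
  haveI : Module.Finite (B ⊗[A] B) (KaehlerDifferential.ideal A B) :=
    Module.Finite.iff_fg.mpr (KaehlerDifferential.ideal_fg A B)
  have hφ : LinearMap.range (algebraMap (B ⊗[A] B)
      (Module.End (B ⊗[A] B) (KaehlerDifferential.ideal A B)) (b ⊗ₜ[A] (1 : B))) ≤
      (KaehlerDifferential.ideal A B) •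
        (⊤ : Submodule (B ⊗[A] B) (KaehlerDifferential.ideal A B)) := by
    rintro _ ⟨j, rfl⟩
    have h0 : KaehlerDifferential.fromIdeal A B ((b ⊗ₜ[A] (1 : B)) • j) = 0 := by
      rw [← smul_fromIdeal]
      exact Module.mem_annihilator.mp hb _
    exact (Submodule.Quotient.mk_eq_zero _).mp h0
  obtain ⟨p, hmonic, -, hcoeff, hp⟩ :=
    LinearMap.exists_monic_and_natDegree_eq_and_coeff_mem_pow_and_aeval_eq_zero (B ⊗[A] B)
      (algebraMap (B ⊗[A] B) (Module.End (B ⊗[A] B) (KaehlerDifferential.ideal A B))
        (b ⊗ₜ[A] (1 : B))) (KaehlerDifferential.ideal A B) hφ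
  rw [Polynomial.aeval_algebraMap_apply, Polynomial.coe_aeval_eq_eval] at hp
  have h2 : Polynomial.eval (b ⊗ₜ[A] (1 : B)) p ∈
      Submodule.annihilator (RingHom.ker (Algebra.TensorProduct.lmul' (S := B) A)) := by
    rw [Submodule.mem_annihilator]
    intro j hj
    have := LinearMap.congr_fun hp ⟨j, hj⟩
    exact congrArg Subtype.val this
  refine ⟨p.natDegree, ?_⟩
  have h3 : Algebra.TensorProduct.lmul' (S := B) A (Polynomial.eval (b ⊗ₜ[A] (1 : B)) p) =
      b ^ p.natDegree := by
    rw [Polynomial.eval_eq_sum_range, map_sum, Finset.sum_range_succ, Finset.sum_eq_zero,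
      zero_add, map_mul, map_pow, hmonic.coeff_natDegree, map_one, one_mul,
      Algebra.TensorProduct.lmul'_apply_tmul, mul_one]
    intro k hk
    rw [Finset.mem_range] at hk
    have hk1 : p.coeff k ∈ KaehlerDifferential.ideal A B := by
      have := hcoeff k
      refine Ideal.pow_le_self ?_ this
      omega
    have hk2 : Algebra.TensorProduct.lmul' (S := B) A (p.coeff k) = 0 := hk1
    rw [map_mul, hk2, zero_mul]
  rw [← h3]
  exact Ideal.mem_map_of_mem _ h2

/-- Let A -> B be a ring map of finite type and D its Noether different (the image in B of the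
annihilator of the kernel of B tensor_A B -> B). Then a prime q of B contains D exactly when A -> B
is not unramified at q. -/
theorem result {A : Type u} {B : Type v}
    [CommRing A] [CommRing B] [Algebra A B] [Algebra.FiniteType A B] :
    {q : PrimeSpectrum B | Disc.noetherDifferent A B ≤ q.asIdeal} =
      (Algebra.unramifiedLocus A B)ᶜ := by
  rw [Algebra.unramifiedLocus_eq_compl_support, compl_compl, Module.support_eq_zeroLocus]
  ext q
  simp only [Set.mem_setOf_eq, PrimeSpectrum.mem_zeroLocus, SetLike.coe_subset_coe]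
  constructor
  · intro h b hb
    obtain ⟨n, hn⟩ := exists_pow_mem_noetherDifferent b hb
    exact q.isPrime.mem_of_pow_mem n (h hn)
  · intro h
    exact le_trans noetherDifferent_le_annihilator h

end Groth.Agent.S2196
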