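import Groth.Statements.S2197
import Mathlib.RingTheory.IsTensorProduct
import Mathlib.RingTheory.TensorProduct.IsBaseChangePi
import Mathlib.RingTheory.Flat.Equalizer
import Mathlib.RingTheory.Kaehler.Basic

set_option autoImplicit false
universe u
open Disc

namespace Groth.Agent.S2197

open TensorProduct

/-- flat base change of kernels, in `IsBaseChange` form. -/
theorem mem_span_of_mem_ker {A A' : Type u} [CommRing A] [CommRing A'] [Algebra A A']
    [Module.Flat A A']
    {X Y X' Y' : Type u} [AddCommGroup X] [Module A X] [AddCommGroup Y] [Module A Y]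
    [AddCommGroup X'] [Module A X'] [Module A' X'] [IsScalarTower A A' X']
    [AddCommGroup Y'] [Module A Y'] [Module A' Y'] [IsScalarTower A A' Y']
    {g : X →ₗ[A] X'} (hg : IsBaseChange A' g) {h : Y →ₗ[A] Y'} (hh : IsBaseChange A' h)
    (θ : X →ₗ[A] Y) (θ' : X' →ₗ[A'] Y') (hθ : ∀ x, θ' (g x) = h (θ x))
    (x' : X') (hx' : θ' x' = 0) :
    x' ∈ Submodule.span A' (g '' (LinearMap.ker θ : Set X)) := by
  have hcomm : ∀ z : A' ⊗[A] X,
      θ' (hg.equiv z) = hh.equiv (AlgebraTensorModule.lTensor A' A' θ z) := by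
    intro z
    induction z using TensorProduct.induction_on with
    | zero => simp
    | tmul a x => simp [IsBaseChange.equiv_tmul, hθ]
    | add a b ha hb => simp only [map_add, ha, hb]
  have hz : hg.equiv.symm x' ∈ LinearMap.ker (AlgebraTensorModule.lTensor A' A' θ) := by
    rw [LinearMap.mem_ker]
    apply hh.equiv.injective
    rw [← hcomm, LinearEquiv.apply_symm_apply, hx', map_zero]
  rw [Module.Flat.ker_lTensor_eq A' A' θ] at hz
  obtain ⟨w, hw⟩ := hz
  have hx'w : x' = hg.equiv (AlgebraTensorModule.lTensor A' A' (LinearMap.ker θ).subtype w) := by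
    rw [hw, LinearEquiv.apply_symm_apply]
  rw [hx'w]
  clear hx'w hw
  induction w using TensorProduct.induction_on with
  | zero => simp
  | tmul a k =>
    simp only [AlgebraTensorModule.lTensor_tmul, Submodule.subtype_apply, IsBaseChange.equiv_tmul]
    exact Submodule.smul_mem _ _ (Submodule.subset_span ⟨k, k.2, rfl⟩)
  | add a b ha hb =>
    rw [map_add, map_add]
    exact Submodule.add_mem _ ha hb

section

variable (A B A' B' : Type u) [CommRing A] [CommRing B]
    [CommRing A'] [CommRing B'] [Algebra A B] [Algebra A A'] [Algebra A B'] [Algebra B B']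
    [Algebra A' B'] [IsScalarTower A B B'] [IsScalarTower A A' B']
    [Algebra.IsPushout A B A' B']

theorem isBaseChange_iota : IsBaseChange A' (IsScalarTower.toAlgHom A B B').toLinearMap :=
  (Algebra.IsPushout.symm (inferInstance : Algebra.IsPushout A B A' B')).out

/-- the canonical map `B ⊗[A] B → B' ⊗[A'] B'`. -/
noncomputable def psi : B ⊗[A] B →ₗ[A] B' ⊗[A'] B' :=
  (((isBaseChange_iota A B A' B').tensorEquiv B').symm.toLinearMap.restrictScalars A) ∘ₗ
    (AlgebraTensorModule.map (IsScalarTower.toAlgHom A B B').toLinearMap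
      (LinearMap.id (R := A) (M := B)))

theorem psi_tmul (b₁ b₂ : B) :
    psi A B A' B' (b₁ ⊗ₜ b₂) = algebraMap B B' b₁ ⊗ₜ[A'] algebraMap B B' b₂ := by
  simp only [psi, LinearMap.coe_comp, Function.comp_apply, LinearMap.coe_restrictScalars,
    LinearEquiv.coe_coe, AlgebraTensorModule.map_tmul, LinearMap.id_apply,
    AlgHom.toLinearMap_apply, IsScalarTower.coe_toAlgHom']
  rw [LinearEquiv.symm_apply_eq]
  have h : (isBaseChange_iota A B A' B').equiv.symm (algebraMap B B' b₂) = 1 ⊗ₜ b₂ :=
    (isBaseChange_iota A B A' B').equiv_symm_apply b₂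
  simp only [IsBaseChange.tensorEquiv, LinearEquiv.trans_apply, LinearEquiv.lTensor_tmul, h,
    AlgebraTensorModule.cancelBaseChange_tmul, one_smul]

theorem isBaseChange_psi : IsBaseChange A' (psi A B A' B') := by
  have hstep1 : IsBaseChange A' (AlgebraTensorModule.map (IsScalarTower.toAlgHom A B B').toLinearMap
      (LinearMap.id (R := A) (M := B))) :=
    isBaseChange_tensorProduct_map (R := A) (P := B) A' (isBaseChange_iota A B A' B')
  refine IsBaseChange.of_equiv
    (hstep1.equiv ≪≫ₗ ((isBaseChange_iota A B A' B').tensorEquiv B').symm) (fun x => ?_)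
  simp [psi, IsBaseChange.equiv_tmul]

theorem psi_mul (x y : B ⊗[A] B) : psi A B A' B' (x * y) = psi A B A' B' x * psi A B A' B' y := by
  induction x using TensorProduct.induction_on with
  | zero => simp
  | tmul b₁ b₂ =>
    induction y using TensorProduct.induction_on with
    | zero => simp
    | tmul c₁ c₂ => simp [psi_tmul, Algebra.TensorProduct.tmul_mul_tmul]
    | add y z hy hz => simp only [mul_add, map_add, hy, hz]
  | add x z hx hz => simp only [add_mul, map_add, hx, hz]

theorem lmul'_psi (x : B ⊗[A] B) :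
    Algebra.TensorProduct.lmul' (S := B') A' (psi A B A' B' x) =
      algebraMap B B' (Algebra.TensorProduct.lmul' (S := B) A x) := by
  induction x using TensorProduct.induction_on with
  | zero => simp
  | tmul b₁ b₂ => simp [psi_tmul]
  | add x y hx hy => simp only [map_add, hx, hy]

/-- the generators of the kernel of multiplication on `B'` lie in the `A'`-span of the image of the
kernel of multiplication on `B`. -/
theorem delta_mem_span (s : B') :
    ((1 : B') ⊗ₜ[A'] s - s ⊗ₜ[A'] (1 : B')) ∈ Submodule.span A'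
      (psi A B A' B' '' (RingHom.ker (Algebra.TensorProduct.lmul' (S := B) A) : Set (B ⊗[A] B))) := by
  refine (isBaseChange_iota A B A' B').inductionOn s
    (fun s => ((1 : B') ⊗ₜ[A'] s - s ⊗ₜ[A'] (1 : B')) ∈ Submodule.span A'
      (psi A B A' B' '' (RingHom.ker (Algebra.TensorProduct.lmul' (S := B) A) : Set (B ⊗[A] B))))
    ?_ ?_ ?_ ?_
  · simp
  · intro b
    refine Submodule.subset_span ⟨(1 : B) ⊗ₜ[A] b - b ⊗ₜ[A] (1 : B), ?_, ?_⟩
    · exact KaehlerDifferential.one_smul_sub_smul_one_mem_ideal A b
    · rw [map_sub, psi_tmul, psi_tmul, map_one]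
      rfl
  · intro a' s hs
    have : (1 : B') ⊗ₜ[A'] (a' • s) - (a' • s) ⊗ₜ[A'] (1 : B') =
        a' • ((1 : B') ⊗ₜ[A'] s - s ⊗ₜ[A'] (1 : B')) := by
      simp only [smul_sub, TensorProduct.tmul_smul, TensorProduct.smul_tmul']
    rw [this]
    exact Submodule.smul_mem _ _ hs
  · intro s₁ s₂ h₁ h₂
    have : (1 : B') ⊗ₜ[A'] (s₁ + s₂) - (s₁ + s₂) ⊗ₜ[A'] (1 : B') =
        ((1 : B') ⊗ₜ[A'] s₁ - s₁ ⊗ₜ[A'] (1 : B')) + ((1 : B') ⊗ₜ[A'] s₂ - s₂ ⊗ₜ[A'] (1 : B')) := by
      rw [TensorProduct.tmul_add, TensorProduct.add_tmul]; abel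
    rw [this]
    exact Submodule.add_mem _ h₁ h₂

end

/-- Part (2): let A -> B be a ring map of finite type and A -> A' a flat ring map, and let B' = B
tensor_A A'. Then the Noether different of B' over A' is the extension to B' of the Noether
different of B over A. -/
theorem result {A B A' B' : Type u} [CommRing A] [CommRing B]
    [CommRing A'] [CommRing B'] [Algebra A B] [Algebra A A'] [Algebra A B'] [Algebra B B']
    [Algebra A' B'] [IsScalarTower A B B'] [IsScalarTower A A' B']
    [Algebra.IsPushout A B A' B'] [Algebra.FiniteType A B] [Module.Flat A A'] :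
    Disc.noetherDifferent A' B' = (Disc.noetherDifferent A B).map (algebraMap B B') := by
  classical
  have hψ := isBaseChange_psi A B A' B'
  apply le_antisymm
  · unfold Disc.noetherDifferent
    rw [Ideal.map_le_iff_le_comap]
    intro x' hx'
    rw [Ideal.mem_comap]
    obtain ⟨s, hs⟩ := KaehlerDifferential.ideal_fg A B
    have hsJ : ∀ k : s, (k : B ⊗[A] B) ∈ RingHom.ker (Algebra.TensorProduct.lmul' (S := B) A) := by
      intro k
      have : (k : B ⊗[A] B) ∈ Ideal.span (s : Set (B ⊗[A] B)) := Ideal.subset_span k.2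
      rw [hs] at this
      exact this
    have hspan : x' ∈ Submodule.span A' (psi A B A' B' '' (LinearMap.ker
        (LinearMap.pi (fun k : s => LinearMap.mulRight A (k : B ⊗[A] B))) : Set (B ⊗[A] B))) := by
      refine mem_span_of_mem_ker hψ (IsBaseChange.finitePow s hψ)
        (LinearMap.pi (fun k : s => LinearMap.mulRight A (k : B ⊗[A] B)))
        (LinearMap.pi (fun k : s => LinearMap.mulRight A' (psi A B A' B' (k : B ⊗[A] B))))
        ?_ x' ?_
      · intro x
        funext k
        simp [psi_mul]
      · funext k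
        have hk : psi A B A' B' (k : B ⊗[A] B) ∈
            RingHom.ker (Algebra.TensorProduct.lmul' (S := B') A') := by
          rw [RingHom.mem_ker, lmul'_psi, (RingHom.mem_ker).mp (hsJ k), map_zero]
        have := (Submodule.mem_annihilator.mp hx') _ hk
        simpa using this
    have hker : (LinearMap.ker (LinearMap.pi (fun k : s => LinearMap.mulRight A (k : B ⊗[A] B))) :
        Set (B ⊗[A] B)) ⊆
        (Submodule.annihilator (RingHom.ker (Algebra.TensorProduct.lmul' (S := B) A)) :
          Set (B ⊗[A] B)) := by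
      intro c hc
      have hc' : ∀ k : s, c * (k : B ⊗[A] B) = 0 := by
        intro k
        have := congrFun ((LinearMap.mem_ker).mp hc) k
        simpa using this
      show c ∈ Submodule.annihilator (RingHom.ker (Algebra.TensorProduct.lmul' (S := B) A))
      have hJ : RingHom.ker (Algebra.TensorProduct.lmul' (S := B) A) =
          Submodule.span (B ⊗[A] B) (s : Set (B ⊗[A] B)) := hs.symm
      rw [hJ, Submodule.mem_annihilator_span]
      intro k
      exact hc' k
    have hspan2 := Submodule.span_mono (R := A') (Set.image_mono hker) hspan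
    refine Submodule.span_induction
      (p := fun y _ => Algebra.TensorProduct.lmul' (S := B') A' y ∈
        Ideal.map (algebraMap B B') (Ideal.map (Algebra.TensorProduct.lmul' (S := B) A)
          (Submodule.annihilator (RingHom.ker (Algebra.TensorProduct.lmul' (S := B) A)))))
      ?_ ?_ ?_ ?_ hspan2
    · rintro _ ⟨a, ha, rfl⟩
      rw [lmul'_psi]
      exact Ideal.mem_map_of_mem _ (Ideal.mem_map_of_mem _ ha)
    · simp
    · intro x y _ _ hx hy
      rw [map_add]
      exact Ideal.add_mem _ hx hy
    · intro a' x _ hx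
      rw [map_smul, Algebra.smul_def]
      exact Ideal.mul_mem_left _ _ hx
  · unfold Disc.noetherDifferent
    rw [Ideal.map_le_iff_le_comap]
    intro b hb
    have hsurj : Function.Surjective (Algebra.TensorProduct.lmul' (S := B) A) :=
      fun b => ⟨b ⊗ₜ 1, by simp⟩
    obtain ⟨a, ha, rfl⟩ := (Ideal.mem_map_iff_of_surjective _ hsurj).mp hb
    rw [Ideal.mem_comap, ← lmul'_psi A B A' B']
    apply Ideal.mem_map_of_mem
    -- `psi a` kills the kernel of multiplication on `B'`
    have hJ' : RingHom.ker (Algebra.TensorProduct.lmul' (S := B') A') =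
        Ideal.span (Set.range fun s : B' => (1 : B') ⊗ₜ[A'] s - s ⊗ₜ[A'] (1 : B')) :=
      (KaehlerDifferential.span_range_eq_ideal A' B').symm
    rw [hJ']
    show psi A B A' B' a ∈ Submodule.annihilator (Submodule.span (B' ⊗[A'] B')
      (Set.range fun s : B' => (1 : B') ⊗ₜ[A'] s - s ⊗ₜ[A'] (1 : B')))
    rw [Submodule.mem_annihilator_span]
    rintro ⟨_, s, rfl⟩
    show psi A B A' B' a • ((1 : B') ⊗ₜ[A'] s - s ⊗ₜ[A'] (1 : B')) = 0
    refine Submodule.span_induction
      (p := fun y _ => psi A B A' B' a • y = 0) ?_ ?_ ?_ ?_ (delta_mem_span A B A' B' s)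
    · rintro _ ⟨j, hj, rfl⟩
      have h0 : a * j = 0 := (Submodule.mem_annihilator.mp ha) j hj
      rw [smul_eq_mul, ← psi_mul, h0, map_zero]
    · simp
    · intro x y _ _ hx hy
      rw [smul_add, hx, hy, add_zero]
    · intro a' x _ hx
      rw [smul_eq_mul, mul_smul_comm, ← smul_eq_mul, hx, smul_zero]

end Groth.Agent.S2197
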