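import Groth.Statements.S2205
import Groth.Agent.S2196
import Groth.Agent.S2215

set_option autoImplicit false
universe u v
open Disc

namespace Groth.Agent.S2205

open H13.DiscFree in
theorem aux_trace_eq_sum {A : Type u} {B : Type v} [CommRing A] [CommRing B] [Algebra A B]
    {ι : Type*} [Fintype ι] [DecidableEq ι] (b : Module.Basis ι A B) (x : B) :
    Algebra.trace A B x = ∑ k, b.repr (x * b k) k := by
  rw [Algebra.trace_eq_matrix_trace b, Matrix.trace]
  simp only [Matrix.diag, Algebra.leftMulMatrix_eq_repr_mul]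

open H13.DiscFree in
theorem aux_tau_eq {A : Type u} {B : Type v} [CommRing A] [CommRing B] [Algebra A B]
    [Module.Finite A B] [Module.Free A B]
    {ι : Type*} [Fintype ι] [DecidableEq ι] (b : Module.Basis ι A B) :
    Disc.Omega.trace A B = ∑ k, b k • dualOmega b k := by
  apply Disc.Omega.ext
  ext x
  rw [sum_toLinearMap, LinearMap.sum_apply]
  simp only [Disc.Omega.smul_toLinearMap_apply, dualOmega, Module.Basis.coord_apply]
  show Algebra.trace A B x = _
  rw [aux_trace_eq_sum b]
  exact Finset.sum_congr rfl fun k _ => by rw [mul_comm]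

open H13.DiscFree in
/-- `μ(Φ(τ)) = tr(Φ(μ))` for `B`-linear `Φ : ω → B`. -/
theorem aux_T {A : Type u} {B : Type v} [CommRing A] [CommRing B] [Algebra A B]
    [Module.Finite A B] [Module.Free A B]
    {ι : Type*} [Fintype ι] [DecidableEq ι] (b : Module.Basis ι A B)
    (Φ : Disc.Omega A B →ₗ[B] B) (μ : Disc.Omega A B) :
    μ.toLinearMap (Φ (Disc.Omega.trace A B)) = Algebra.trace A B (Φ μ) := by
  -- both sides equal `∑ j k, repr (F k) j * μ (b j * b k)`
  have side1 : μ.toLinearMap (Φ (Disc.Omega.trace A B)) =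
      ∑ k, ∑ j, b.repr (Φ (dualOmega b k)) j * μ.toLinearMap (b j * b k) := by
    rw [aux_tau_eq b, map_sum, map_sum]
    refine Finset.sum_congr rfl fun k _ => ?_
    rw [map_smul, smul_eq_mul]
    conv_lhs => rw [← b.sum_repr (Φ (dualOmega b k)), Finset.mul_sum, map_sum]
    refine Finset.sum_congr rfl fun j _ => ?_
    rw [mul_smul_comm, map_smul, smul_eq_mul, mul_comm (b k)]
  have side2 : Algebra.trace A B (Φ μ) =
      ∑ j, ∑ k, b.repr (Φ (dualOmega b k)) j * μ.toLinearMap (b j * b k) := by
    rw [aux_trace_eq_sum b]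
    refine Finset.sum_congr rfl fun j _ => ?_
    have h1 : Φ μ * b j = Φ (b j • μ) := by rw [map_smul, smul_eq_mul, mul_comm]
    rw [h1, omega_eq_sum b (b j • μ), map_sum, map_sum, Finsupp.finsetSum_apply]
    refine Finset.sum_congr rfl fun k _ => ?_
    rw [map_smul, smul_eq_mul, ← Algebra.smul_def, map_smul, Finsupp.smul_apply, smul_eq_mul,
      Disc.Omega.smul_toLinearMap_apply, mul_comm]
  rw [side1, side2, Finset.sum_comm]

open H13.DiscFree in
theorem aux_N_sub {A : Type u} {B : Type v} [CommRing A] [CommRing B] [Algebra A B]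
    [Module.Finite A B] [Module.Free A B] (x : B) (hx : x ∈ Disc.noetherDifferent A B) :
    x ∈ Disc.differentSet A B := by
  classical
  let b := Module.Free.chooseBasis A B
  have hx' : x ∈ (Disc.noetherDifferent A B : Set B) := hx
  rw [noetherDifferent_eq_range] at hx'
  obtain ⟨Φ, rfl⟩ := hx'
  intro φ
  refine ⟨Φ ⟨φ⟩, fun y => ?_⟩
  have h := aux_T b Φ (y • (⟨φ⟩ : Disc.Omega A B))
  rw [Disc.Omega.smul_toLinearMap_apply, map_smul, smul_eq_mul] at h
  show φ (Φ (Disc.Omega.trace A B) * y) = Algebra.trace A B (Φ ⟨φ⟩ * y)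
  rw [mul_comm, h, mul_comm]

open H13.DiscFree in
theorem aux_sq_mem {A : Type u} {B : Type v} [CommRing A] [CommRing B] [Algebra A B]
    [Module.Finite A B] [Module.Free A B] (b₀ : B) (hb₀ : b₀ ∈ Disc.differentSet A B) :
    b₀ ^ 2 ∈ Disc.noetherDifferent A B := by
  classical
  let b := Module.Free.chooseBasis A B
  choose c hc using fun k => hb₀ (b.coord k)
  -- the additive map Φ₀
  let Φ₀ : Disc.Omega A B → B := fun l => ∑ k, algebraMap A B (l.toLinearMap (b k)) * c k
  have hΦ₀_add : ∀ l l', Φ₀ (l + l') = Φ₀ l + Φ₀ l' := by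
    intro l l'
    simp only [Φ₀, Disc.Omega.add_toLinearMap, LinearMap.add_apply, map_add, add_mul,
      Finset.sum_add_distrib]
  -- (i)
  have hi : ∀ (l : Disc.Omega A B) (x : B),
      Algebra.trace A B (Φ₀ l * x) = l.toLinearMap (b₀ * x) := by
    intro l x
    simp only [Φ₀, Finset.sum_mul, map_sum]
    have : ∀ k, Algebra.trace A B (algebraMap A B (l.toLinearMap (b k)) * c k * x) =
        l.toLinearMap (b k) * b.repr (b₀ * x) k := by
      intro k
      rw [mul_assoc, ← Algebra.smul_def, map_smul, smul_eq_mul, ← hc k x]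
      rfl
    simp_rw [this]
    conv_rhs => rw [← b.sum_repr (b₀ * x), map_sum]
    refine Finset.sum_congr rfl fun k _ => ?_
    rw [map_smul, smul_eq_mul, mul_comm]
  -- (ii)
  have hii : ∀ d : B, (∀ x, Algebra.trace A B (d * x) = 0) → b₀ * d = 0 := by
    intro d hd
    have h0 : ∀ l : Disc.Omega A B, l.toLinearMap (b₀ * d) = 0 := by
      intro l
      rw [← hi l d, mul_comm]
      exact hd _
    rw [← b.sum_repr (b₀ * d)]
    apply Finset.sum_eq_zero
    intro k _
    have := h0 (dualOmega b k)
    simp only [dualOmega, Module.Basis.coord_apply] at this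
    rw [this, zero_smul]
  -- the B-linear map
  let Φ : Disc.Omega A B →ₗ[B] B :=
    { toFun := fun l => b₀ * Φ₀ l
      map_add' := fun l l' => by rw [hΦ₀_add, mul_add]
      map_smul' := fun s l => by
        rw [RingHom.id_apply, smul_eq_mul]
        have : b₀ * (Φ₀ (s • l) - s * Φ₀ l) = 0 := by
          apply hii
          intro x
          have e1 : s * Φ₀ l * x = Φ₀ l * (s * x) := by ring
          rw [sub_mul, map_sub, hi, e1, hi, Disc.Omega.smul_toLinearMap_apply]
          rw [sub_eq_zero]
          congr 1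
          ring
        rw [mul_sub, sub_eq_zero] at this
        rw [this]; ring }
  have hΦτ : Φ (Disc.Omega.trace A B) = b₀ ^ 2 := by
    show b₀ * Φ₀ (Disc.Omega.trace A B) = b₀ ^ 2
    have : b₀ * (Φ₀ (Disc.Omega.trace A B) - b₀) = 0 := by
      apply hii
      intro x
      rw [sub_mul, map_sub, hi]
      exact sub_self _
    rw [mul_sub, sub_eq_zero] at this
    rw [this, sq]
  have : b₀ ^ 2 ∈ (Disc.noetherDifferent A B : Set B) := by
    rw [noetherDifferent_eq_range]
    exact ⟨Φ, hΦτ⟩
  exact this

/-- Special case: affine, with B finite free over the Noetherian ring A (the source allows flat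
quasi-finite morphisms of Noetherian schemes); then the relative dualizing module is Hom_A(B, A) and
the trace element is the usual trace. A prime q of B contains the different (the set of b with b
Hom_A(B, A) inside B Trace) if and only if A -> B is not unramified at q; for such maps unramified
and etale at q agree. -/
theorem result {A : Type u} {B : Type v} [CommRing A]
    [CommRing B] [Algebra A B] [IsNoetherianRing A] [Module.Finite A B] [Module.Free A B]
    (q : Ideal B) [q.IsPrime] :
    Disc.differentSet A B ⊆ q ↔ ¬Algebra.IsUnramifiedAt A q := by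
  have h := Groth.Agent.S2196.result (A := A) (B := B)
  have hq : Disc.noetherDifferent A B ≤ q ↔ ¬Algebra.IsUnramifiedAt A q := by
    have h1 := Set.ext_iff.mp h (⟨q, inferInstance⟩ : PrimeSpectrum B)
    exact h1
  rw [← hq]
  constructor
  · intro h1 x hx
    exact h1 (aux_N_sub x hx)
  · intro h1 x hx
    exact Ideal.IsPrime.mem_of_pow_mem inferInstance 2 (h1 (aux_sq_mem x hx))

end Groth.Agent.S2205
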