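import Groth.Statements.S2207
import Mathlib

set_option autoImplicit false
universe u v
open DPow

namespace Groth.Agent.S2207


open Finset

theorem mem_iff {A : Type u} {B : Type v} [CommRing A] [CommRing B] [Algebra A B] (x : A) (y : B) :
    y ∈ (Ideal.span {x}).map (algebraMap A B) ↔ ∃ b : B, b * algebraMap A B x = y := by
  rw [Ideal.map_span, Set.image_singleton, Ideal.mem_span_singleton']

theorem wd {A : Type u} {B : Type v} [CommRing A] [CommRing B] [Algebra A B] (x : A)
    (γ : DividedPowers (Ideal.span {x})) (n : ℕ) (b b' : B)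
    (h : b * algebraMap A B x = b' * algebraMap A B x) :
    b ^ n * algebraMap A B (γ.dpow n x) = b' ^ n * algebraMap A B (γ.dpow n x) := by
  rcases Nat.eq_zero_or_pos n with rfl | hn
  · simp
  · have hx : x ∈ Ideal.span {x} := Ideal.mem_span_singleton_self x
    obtain ⟨a, ha⟩ := Ideal.mem_span_singleton'.mp (γ.dpow_mem hn.ne' hx)
    obtain ⟨c, hc⟩ := sub_dvd_pow_sub_pow b b' n
    rw [← sub_eq_zero, ← sub_mul, hc, ← ha, map_mul]
    have h0 : (b - b') * algebraMap A B x = 0 := by rw [sub_mul, h, sub_self]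
    calc (b - b') * c * (algebraMap A B a * algebraMap A B x)
        = c * algebraMap A B a * ((b - b') * algebraMap A B x) := by ring
      _ = 0 := by rw [h0, mul_zero]

open scoped Classical in
noncomputable def dp {A : Type u} {B : Type v} [CommRing A] [CommRing B] [Algebra A B] (x : A)
    (γ : DividedPowers (Ideal.span {x})) (n : ℕ) (y : B) : B :=
  if h : y ∈ (Ideal.span {x}).map (algebraMap A B) then
    (Classical.choose ((mem_iff x y).mp h)) ^ n * algebraMap A B (γ.dpow n x)
  else 0

theorem dp_mul {A : Type u} {B : Type v} [CommRing A] [CommRing B] [Algebra A B] (x : A)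
    (γ : DividedPowers (Ideal.span {x})) (n : ℕ) (b : B) :
    dp x γ n (b * algebraMap A B x) = b ^ n * algebraMap A B (γ.dpow n x) := by
  have hmem : b * algebraMap A B x ∈ (Ideal.span {x}).map (algebraMap A B) :=
    (mem_iff x _).mpr ⟨b, rfl⟩
  rw [dp, dif_pos hmem]
  exact wd x γ n _ _ (Classical.choose_spec ((mem_iff x _).mp hmem))

noncomputable def dpB {A : Type u} {B : Type v} [CommRing A] [CommRing B] [Algebra A B] (x : A)
    (γ : DividedPowers (Ideal.span {x})) :
    DividedPowers ((Ideal.span {x}).map (algebraMap A B)) where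
  dpow := dp x γ
  dpow_null := by
    intro n y hy
    rw [dp, dif_neg hy]
  dpow_zero := by
    intro y hy
    obtain ⟨b, rfl⟩ := (mem_iff x y).mp hy
    rw [dp_mul, pow_zero, one_mul, γ.dpow_zero (Ideal.mem_span_singleton_self x), map_one]
  dpow_one := by
    intro y hy
    obtain ⟨b, rfl⟩ := (mem_iff x y).mp hy
    rw [dp_mul, pow_one, γ.dpow_one (Ideal.mem_span_singleton_self x)]
  dpow_mem := by
    intro n y hn hy
    obtain ⟨b, rfl⟩ := (mem_iff x y).mp hy
    rw [dp_mul]
    exact Ideal.mul_mem_left _ _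
      (Ideal.mem_map_of_mem _ (γ.dpow_mem hn (Ideal.mem_span_singleton_self x)))
  dpow_add := by
    intro n y y' hy hy'
    obtain ⟨b, rfl⟩ := (mem_iff x y).mp hy
    obtain ⟨b', rfl⟩ := (mem_iff x y').mp hy'
    rw [← add_mul, dp_mul]
    simp_rw [dp_mul]
    have key : ∀ k ∈ antidiagonal n,
        b ^ k.1 * algebraMap A B (γ.dpow k.1 x) * (b' ^ k.2 * algebraMap A B (γ.dpow k.2 x))
        = (n.choose k.1 : B) * (b ^ k.1 * b' ^ k.2) * algebraMap A B (γ.dpow n x) := by
      intro k hk
      have hkn : k.1 + k.2 = n := mem_antidiagonal.mp hk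
      have h1 := γ.mul_dpow (m := k.1) (n := k.2) (Ideal.mem_span_singleton_self x)
      rw [hkn] at h1
      calc b ^ k.1 * algebraMap A B (γ.dpow k.1 x) * (b' ^ k.2 * algebraMap A B (γ.dpow k.2 x))
          = b ^ k.1 * b' ^ k.2 * algebraMap A B (γ.dpow k.1 x * γ.dpow k.2 x) := by
            rw [map_mul]; ring
        _ = _ := by rw [h1, map_mul, map_natCast]; ring
    rw [Finset.sum_congr rfl key, ← Finset.sum_mul, (Commute.all b b').add_pow' n]
    simp_rw [nsmul_eq_mul]
  dpow_mul := by
    intro n c y hy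
    obtain ⟨b, rfl⟩ := (mem_iff x y).mp hy
    rw [← mul_assoc, dp_mul, dp_mul, mul_pow, mul_assoc]
  mul_dpow := by
    intro m n y hy
    obtain ⟨b, rfl⟩ := (mem_iff x y).mp hy
    rw [dp_mul, dp_mul, dp_mul]
    have h1 := γ.mul_dpow (m := m) (n := n) (Ideal.mem_span_singleton_self x)
    calc b ^ m * algebraMap A B (γ.dpow m x) * (b ^ n * algebraMap A B (γ.dpow n x))
        = b ^ (m + n) * algebraMap A B (γ.dpow m x * γ.dpow n x) := by
          rw [map_mul, pow_add]; ring
      _ = _ := by rw [h1, map_mul, map_natCast]; ring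
  dpow_comp := by
    intro m n y hn hy
    obtain ⟨b, rfl⟩ := (mem_iff x y).mp hy
    have hx : x ∈ Ideal.span {x} := Ideal.mem_span_singleton_self x
    obtain ⟨a, ha⟩ := Ideal.mem_span_singleton'.mp (γ.dpow_mem hn hx)
    rw [dp_mul, dp_mul]
    have h1 : b ^ n * algebraMap A B (γ.dpow n x) =
        (b ^ n * algebraMap A B a) * algebraMap A B x := by
      rw [← ha, map_mul]; ring
    rw [h1, dp_mul]
    have h2 : algebraMap A B a ^ m * algebraMap A B (γ.dpow m x) =
        algebraMap A B (γ.dpow m (γ.dpow n x)) := by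
      rw [← ha, γ.dpow_mul hx, map_mul, map_pow]
    rw [mul_pow, mul_assoc, h2, γ.dpow_comp hn hx, map_mul, map_natCast, ← pow_mul,
      Nat.mul_comm n m]
    ring


/-- Existence in case (2): let I = (x) be a principal ideal of A with a divided power structure and B
any A-algebra. Then there is a divided power structure on I B for which A -> B is a homomorphism of
divided power rings. -/
theorem result {A : Type u} {B : Type v} [CommRing A] [CommRing B] [Algebra A B]
    (x : A) (γ : DividedPowers (Ideal.span {x})) :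
    ∃ δ : DividedPowers ((Ideal.span {x}).map (algebraMap A B)), γ.IsDPMorphism δ (algebraMap A B) := by
  refine ⟨dpB x γ, ⟨le_refl _, ?_⟩⟩
  intro n a ha
  obtain ⟨c, rfl⟩ := Ideal.mem_span_singleton'.mp ha
  show dp x γ n (algebraMap A B (c * x)) = _
  rw [map_mul, dp_mul, γ.dpow_mul (Ideal.mem_span_singleton_self x), map_mul, map_pow]

end Groth.Agent.S2207
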