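import Groth.Statements.S2235
import Groth.Agent.H72.Wiebe

set_option autoImplicit false
universe u
open TensorProduct
open Disc

namespace Groth.Agent.S2235

/-- the statement for an ideal `I` equal to the span of `f` -/
theorem aux {A P : Type u} [CommRing A] [CommRing P] [Algebra A P] (I : Ideal P)
    {n : ℕ} (f : Fin n → P) (hI : I = Ideal.span (Set.range f))
    (hf : LCI.IsKoszulRegularSeq P (List.ofFn f)) [Module.Flat A (P ⧸ I)]
    (g : Fin n → P ⊗[A] (P ⧸ I))
    (hgker : Ideal.span (Set.range g) = RingHom.ker (Algebra.TensorProduct.productMap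
      (Ideal.Quotient.mkₐ A I) (AlgHom.id A (P ⧸ I))))
    (c : Matrix (Fin n) (Fin n) (P ⊗[A] (P ⧸ I)))
    (hc : ∀ i, f i ⊗ₜ[A] (1 : P ⧸ I) = ∑ j, c i j * g j) :
    Submodule.annihilator (RingHom.ker (Algebra.TensorProduct.lmul' (S := P ⧸ I) A)) =
      Ideal.span {Algebra.TensorProduct.map (Ideal.Quotient.mkₐ A I)
        (AlgHom.id A (P ⧸ I)) (Matrix.det c)} := by
  classical
  set π : P ⊗[A] (P ⧸ I) →ₐ[A] (P ⧸ I) ⊗[A] (P ⧸ I) :=
    Algebra.TensorProduct.map (Ideal.Quotient.mkₐ A I) (AlgHom.id A (P ⧸ I)) with hπ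
  let a : Fin n → P ⊗[A] (P ⧸ I) := fun i => f i ⊗ₜ[A] (1 : P ⧸ I)
  have hπsurj : Function.Surjective π :=
    Algebra.TensorProduct.map_surjective _ _ (Ideal.Quotient.mkₐ_surjective A I)
      Function.surjective_id
  have hk : RingHom.ker (Ideal.Quotient.mkₐ A I) = I := by
    ext x
    simp [RingHom.mem_ker, Ideal.Quotient.eq_zero_iff_mem]
  have hkerπ : RingHom.ker π = Ideal.span (Set.range a) := by
    rw [hπ, Algebra.TensorProduct.rTensor_ker _ (Ideal.Quotient.mkₐ_surjective A I), hk]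
    rw [congrArg (Ideal.map (Algebra.TensorProduct.includeLeft : P →ₐ[A] P ⊗[A] (P ⧸ I))) hI,
      Ideal.map_span, ← Set.range_comp]
    rfl
  have haK : LCI.IsKoszulRegularSeq (P ⊗[A] (P ⧸ I)) (List.ofFn a) := by
    have h := Groth.Agent.H59.Kosz.isKoszulRegularSeq_of_flat (A := P) (B := P ⊗[A] (P ⧸ I))
      (List.ofFn f) hf
    rw [List.map_ofFn] at h
    have : (⇑(algebraMap P (P ⊗[A] (P ⧸ I))) ∘ f) = a := by
      funext i
      simp [a, Algebra.TensorProduct.algebraMap_apply]
    rwa [this] at h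
  have hprod : Algebra.TensorProduct.productMap (Ideal.Quotient.mkₐ A I) (AlgHom.id A (P ⧸ I)) =
      (Algebra.TensorProduct.lmul' A).comp π :=
    Algebra.TensorProduct.productMap_eq_comp_map _ _
  have hker_lmul : RingHom.ker (Algebra.TensorProduct.lmul' (S := P ⧸ I) A) =
      Ideal.map π (Ideal.span (Set.range g)) := by
    rw [hgker, hprod]
    have : RingHom.ker ((Algebra.TensorProduct.lmul' (S := P ⧸ I) A).comp π) =
        Ideal.comap π (RingHom.ker (Algebra.TensorProduct.lmul' (S := P ⧸ I) A)) := by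
      ext x
      simp [RingHom.mem_ker, Ideal.mem_comap]
    rw [this, Ideal.map_comap_of_surjective π hπsurj]
  rw [hker_lmul, Ideal.map_span]
  apply le_antisymm
  · intro x hx
    obtain ⟨r, rfl⟩ := hπsurj x
    rw [Submodule.mem_annihilator_span] at hx
    have hr : ∀ j, r * g j ∈ Ideal.span (Set.range a) := by
      intro j
      rw [← hkerπ, RingHom.mem_ker, map_mul]
      exact hx ⟨π (g j), ⟨g j, ⟨j, rfl⟩, rfl⟩⟩
    have hw := Groth.Agent.H72.Wiebe.wiebe a g c haK hc r hr
    obtain ⟨y, hy, z, hz, rfl⟩ := Submodule.mem_sup.1 hw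
    rw [map_add]
    have hy0 : π y = 0 := by
      rw [← RingHom.mem_ker, hkerπ]; exact hy
    rw [hy0, zero_add]
    obtain ⟨w, rfl⟩ := Ideal.mem_span_singleton'.1 hz
    rw [map_mul]
    exact Ideal.mul_mem_left _ _ (Ideal.subset_span rfl)
  · rw [Ideal.span_le]
    rintro _ rfl
    rw [SetLike.mem_coe, Submodule.mem_annihilator_span]
    rintro ⟨_, ⟨_, ⟨j, rfl⟩, rfl⟩⟩
    show π c.det • π (g j) = 0
    rw [smul_eq_mul, ← map_mul, ← RingHom.mem_ker, hkerπ]
    have hav : a = c.mulVec g := by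
      funext i
      exact hc i
    have h1 : c.adjugate.mulVec (c.mulVec g) = c.det • g := by
      rw [Matrix.mulVec_mulVec, Matrix.adjugate_mul]
      simp [Matrix.smul_mulVec]
    have h2 := congrFun h1 j
    rw [← hav] at h2
    have h3 : c.det * g j = ∑ i, c.adjugate j i * a i := h2.symm
    rw [h3]
    exact Ideal.sum_mem _ (fun i _ => Ideal.mul_mem_left _ _ (Ideal.subset_span ⟨i, rfl⟩))

/-- Let A -> P be a ring map, f_1, ..., f_n a Koszul-regular sequence in P with B = P/(f_1, ..., f_n)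
flat over A, and g_1, ..., g_n a Koszul-regular sequence in P tensor_A B generating the kernel of
the multiplication map P tensor_A B -> B. Write f_i tensor 1 = sum_j c_ij g_j. Then the annihilator
of the kernel of B tensor_A B -> B is the principal ideal generated by the image of det(c_ij). -/
theorem result {A P : Type u} [CommRing A] [CommRing P] [Algebra A P]
    {n : ℕ} (f : Fin n → P) (hf : LCI.IsKoszulRegularSeq P (List.ofFn f))
    [Module.Flat A (P ⧸ Ideal.span (Set.range f))]
    (g : Fin n → P ⊗[A] (P ⧸ Ideal.span (Set.range f)))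
    (hg : LCI.IsKoszulRegularSeq (P ⊗[A] (P ⧸ Ideal.span (Set.range f))) (List.ofFn g))
    (hgker : Ideal.span (Set.range g) = RingHom.ker (Algebra.TensorProduct.productMap
      (Ideal.Quotient.mkₐ A (Ideal.span (Set.range f))) (AlgHom.id A (P ⧸ Ideal.span (Set.range f)))))
    (c : Matrix (Fin n) (Fin n) (P ⊗[A] (P ⧸ Ideal.span (Set.range f))))
    (hc : ∀ i, f i ⊗ₜ[A] (1 : P ⧸ Ideal.span (Set.range f)) = ∑ j, c i j * g j) :
    Submodule.annihilator (RingHom.ker
        (Algebra.TensorProduct.lmul' (S := P ⧸ Ideal.span (Set.range f)) A)) =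
      Ideal.span {Algebra.TensorProduct.map (Ideal.Quotient.mkₐ A (Ideal.span (Set.range f)))
        (AlgHom.id A (P ⧸ Ideal.span (Set.range f))) (Matrix.det c)} :=
  aux (Ideal.span (Set.range f)) f rfl hf g hgker c hc

end Groth.Agent.S2235
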