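import Groth.Statements.S2210
import Groth.Agent.S2235
import Groth.Agent.S9254
import Groth.Agent.H66.RelGCI5
import Groth.Agent.H72.Tate2
import Groth.Agent.H59.KoszFlat

set_option autoImplicit false
universe u
open Disc

namespace Groth.Agent.S2210

open TensorProduct MvPolynomial
open Groth.Agent.H72.Tate (dd exists_bez lmul_bez dd_mem)

theorem dim_zero_of_artinian (X : Type u) [CommRing X] [IsArtinianRing X] [Nontrivial X] :
    ringKrullDim X = 0 := by
  apply le_antisymm
  · have h := Ring.krullDimLE_iff.1 (inferInstance : Ring.KrullDimLE 0 X)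
    exact_mod_cast h
  · exact (ringKrullDim_nonneg_of_nontrivial : 0 ≤ ringKrullDim X)

theorem isRelGCI_of_quasiFinite {A : Type u} [CommRing A] {n : ℕ}
    (f : Fin n → MvPolynomial (Fin n) A)
    [Algebra.QuasiFinite A (MvPolynomial (Fin n) A ⧸ Ideal.span (Set.range f))] :
    Synt.IsRelGCI A n n f := by
  intro p hnt
  haveI := hnt
  refine ⟨le_rfl, ?_⟩
  rw [Nat.sub_self, Nat.cast_zero]
  haveI : IsArtinianRing (p.asIdeal.Fiber (Synt.RelGCIRing A n n f)) := inferInstance
  exact dim_zero_of_artinian (p.asIdeal.Fiber (Synt.RelGCIRing A n n f))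

theorem surj_algebraMap_quot {R : Type u} [CommRing R] {n : ℕ} (b : Fin n → R) :
    Function.Surjective (algebraMap R (MvPolynomial (Fin n) R ⧸
      Ideal.span (Set.range fun j => (X j - C (b j) : MvPolynomial (Fin n) R)))) := by
  intro z
  obtain ⟨p, rfl⟩ := Ideal.Quotient.mk_surjective z
  induction p using MvPolynomial.induction_on with
  | C a => exact ⟨a, rfl⟩
  | add p q hp hq =>
    obtain ⟨a, ha⟩ := hp
    obtain ⟨a', ha'⟩ := hq
    exact ⟨a + a', by rw [map_add, ha, ha', map_add]⟩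
  | mul_X p j hp =>
    obtain ⟨a, ha⟩ := hp
    refine ⟨a * b j, ?_⟩
    rw [map_mul (algebraMap R _) a (b j), ha, map_mul (Ideal.Quotient.mk _) p (X j)]
    congr 1
    symm
    change Ideal.Quotient.mk _ (X j) = Ideal.Quotient.mk _ (C (b j))
    rw [Ideal.Quotient.eq]
    exact Ideal.subset_span ⟨j, rfl⟩

theorem kreg_X_sub_C (R : Type u) [CommRing R] (n : ℕ) (b : Fin n → R) :
    LCI.IsKoszulRegularSeq (MvPolynomial (Fin n) R)
      (List.ofFn fun j => (X j - C (b j) : MvPolynomial (Fin n) R)) := by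
  apply Groth.Agent.S9254.result R n n
  intro p hnt
  haveI := hnt
  refine ⟨le_rfl, ?_⟩
  rw [Nat.sub_self, Nat.cast_zero]
  haveI : Module.Finite R (Synt.RelGCIRing R n n
      fun j => (X j - C (b j) : MvPolynomial (Fin n) R)) :=
    Module.Finite.of_surjective (Algebra.linearMap R _) (surj_algebraMap_quot b)
  haveI : Module.Finite p.asIdeal.ResidueField (p.asIdeal.Fiber (Synt.RelGCIRing R n n
      fun j => (X j - C (b j) : MvPolynomial (Fin n) R))) := inferInstance
  haveI : IsArtinianRing (p.asIdeal.Fiber (Synt.RelGCIRing R n n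
      fun j => (X j - C (b j) : MvPolynomial (Fin n) R))) :=
    IsArtinianRing.of_finite p.asIdeal.ResidueField (p.asIdeal.Fiber (Synt.RelGCIRing R n n
      fun j => (X j - C (b j) : MvPolynomial (Fin n) R)))
  exact dim_zero_of_artinian (p.asIdeal.Fiber (Synt.RelGCIRing R n n
      fun j => (X j - C (b j) : MvPolynomial (Fin n) R)))

theorem kreg_of_bijective {R S : Type u} [CommRing R] [CommRing S] (φ : R →+* S)
    (hφ : Function.Bijective φ) (l : List R)
    (h : LCI.IsKoszulRegularSeq S (l.map φ)) : LCI.IsKoszulRegularSeq R l := by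
  letI : Algebra R S := φ.toAlgebra
  haveI : Module.FaithfullyFlat R S := RingHom.FaithfullyFlat.of_bijective hφ
  exact Groth.Agent.H59.Kosz.isKoszulRegularSeq_of_faithfullyFlat l h

section setup

variable {A : Type u} [CommRing A] {n : ℕ} (f : Fin n → MvPolynomial (Fin n) A)

/-- `B = A[x]/(f)`. -/
abbrev BQ : Type u := MvPolynomial (Fin n) A ⧸ Ideal.span (Set.range f)

/-- the quotient map -/
noncomputable abbrev piQ : MvPolynomial (Fin n) A →ₐ[A] BQ f :=
  Ideal.Quotient.mkₐ A (Ideal.span (Set.range f))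

/-- `id ⊗ π : P ⊗ P → P ⊗ B` -/
noncomputable abbrev TT :
    MvPolynomial (Fin n) A ⊗[A] MvPolynomial (Fin n) A →ₐ[A] MvPolynomial (Fin n) A ⊗[A] BQ f :=
  Algebra.TensorProduct.map (AlgHom.id A (MvPolynomial (Fin n) A)) (piQ f)

/-- `x_j ⊗ 1 - 1 ⊗ x̄_j` -/
noncomputable abbrev gg (j : Fin n) : MvPolynomial (Fin n) A ⊗[A] BQ f :=
  TT f (dd (X j))

theorem TT_dd (p : MvPolynomial (Fin n) A) :
    TT f (dd p) = p ⊗ₜ[A] (1 : BQ f) - (1 : MvPolynomial (Fin n) A) ⊗ₜ[A] piQ f p := by
  simp only [dd, map_sub, Algebra.TensorProduct.map_tmul, map_one, AlgHom.coe_id, id_eq]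

theorem TT_dd_mem (p : MvPolynomial (Fin n) A) :
    TT f (dd p) ∈ Ideal.span (Set.range (gg f)) := by
  have h := Ideal.mem_map_of_mem (TT f) (dd_mem p)
  rw [Ideal.map_span, ← Set.range_comp] at h
  exact h

theorem sub_mem_span (z : MvPolynomial (Fin n) A ⊗[A] BQ f) :
    z - (1 : MvPolynomial (Fin n) A) ⊗ₜ[A]
      (Algebra.TensorProduct.productMap (piQ f) (AlgHom.id A (BQ f)) z) ∈
      Ideal.span (Set.range (gg f)) := by
  induction z using TensorProduct.induction_on with
  | zero =>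
    rw [map_zero, TensorProduct.tmul_zero, sub_zero]
    exact Ideal.zero_mem _
  | tmul p b =>
    have h1 : p ⊗ₜ[A] b - (1 : MvPolynomial (Fin n) A) ⊗ₜ[A]
        (Algebra.TensorProduct.productMap (piQ f) (AlgHom.id A (BQ f)) (p ⊗ₜ[A] b)) =
        ((1 : MvPolynomial (Fin n) A) ⊗ₜ[A] b) * TT f (dd p) := by
      rw [TT_dd, Algebra.TensorProduct.productMap_apply_tmul]
      have e : ((1 : MvPolynomial (Fin n) A) ⊗ₜ[A] b) *
          (p ⊗ₜ[A] (1 : BQ f) - (1 : MvPolynomial (Fin n) A) ⊗ₜ[A] piQ f p) =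
          ((1 : MvPolynomial (Fin n) A) ⊗ₜ[A] b) * (p ⊗ₜ[A] (1 : BQ f)) -
          ((1 : MvPolynomial (Fin n) A) ⊗ₜ[A] b) *
            ((1 : MvPolynomial (Fin n) A) ⊗ₜ[A] piQ f p) := by ring
      rw [e, Algebra.TensorProduct.tmul_mul_tmul, Algebra.TensorProduct.tmul_mul_tmul, mul_one,
        one_mul, one_mul, mul_comm b]
      rfl
    rw [h1]
    exact Ideal.mul_mem_left _ _ (TT_dd_mem f p)
  | add z w hz hw =>
    have h2 : z + w - (1 : MvPolynomial (Fin n) A) ⊗ₜ[A]
        (Algebra.TensorProduct.productMap (piQ f) (AlgHom.id A (BQ f)) (z + w)) =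
        (z - (1 : MvPolynomial (Fin n) A) ⊗ₜ[A]
          (Algebra.TensorProduct.productMap (piQ f) (AlgHom.id A (BQ f)) z)) +
        (w - (1 : MvPolynomial (Fin n) A) ⊗ₜ[A]
          (Algebra.TensorProduct.productMap (piQ f) (AlgHom.id A (BQ f)) w)) := by
      rw [map_add, TensorProduct.tmul_add]; abel
    rw [h2]
    exact Ideal.add_mem _ hz hw

theorem hgker :
    Ideal.span (Set.range (gg f)) = RingHom.ker (Algebra.TensorProduct.productMap
      (Ideal.Quotient.mkₐ A (Ideal.span (Set.range f))) (AlgHom.id A (BQ f))) := by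
  apply le_antisymm
  · rw [Ideal.span_le]
    rintro _ ⟨j, rfl⟩
    change gg f j ∈ RingHom.ker _
    rw [RingHom.mem_ker]
    change Algebra.TensorProduct.productMap (piQ f) (AlgHom.id A (BQ f)) (TT f (dd (X j))) = 0
    rw [TT_dd, map_sub, Algebra.TensorProduct.productMap_apply_tmul,
      Algebra.TensorProduct.productMap_apply_tmul, map_one, map_one, mul_one, one_mul]
    exact sub_self _
  · intro z hz
    rw [RingHom.mem_ker] at hz
    have h := sub_mem_span f z
    have hz' : Algebra.TensorProduct.productMap (piQ f) (AlgHom.id A (BQ f)) z = 0 := hz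
    rw [hz', TensorProduct.tmul_zero, sub_zero] at h
    exact h

/-- `P ⊗_A B ≅ B[x]`. -/
noncomputable def eQ : MvPolynomial (Fin n) A ⊗[A] BQ f ≃+* MvPolynomial (Fin n) (BQ f) :=
  ((Algebra.TensorProduct.comm A (MvPolynomial (Fin n) A) (BQ f)).toRingEquiv).trans
    (MvPolynomial.algebraTensorAlgEquiv A (BQ f)).toRingEquiv

theorem eQ_apply (z : MvPolynomial (Fin n) A ⊗[A] BQ f) :
    eQ f z = MvPolynomial.algebraTensorAlgEquiv A (BQ f)
      (Algebra.TensorProduct.comm A (MvPolynomial (Fin n) A) (BQ f) z) := rfl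

theorem eQ_gg (j : Fin n) :
    eQ f (gg f j) = (X j - C (piQ f (X j)) : MvPolynomial (Fin n) (BQ f)) := by
  rw [eQ_apply]
  change MvPolynomial.algebraTensorAlgEquiv A (BQ f)
    (Algebra.TensorProduct.comm A (MvPolynomial (Fin n) A) (BQ f) (TT f (dd (X j)))) = _
  rw [TT_dd, map_sub, map_sub, Algebra.TensorProduct.comm_tmul, Algebra.TensorProduct.comm_tmul,
    MvPolynomial.algebraTensorAlgEquiv_tmul, MvPolynomial.algebraTensorAlgEquiv_tmul,
    MvPolynomial.map_X, map_one, one_smul, MvPolynomial.smul_eq_C_mul, mul_one]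

theorem hg : LCI.IsKoszulRegularSeq (MvPolynomial (Fin n) A ⊗[A] BQ f) (List.ofFn (gg f)) := by
  have hF := kreg_X_sub_C (BQ f) n (fun j => piQ f (X j))
  let φ : MvPolynomial (Fin n) A ⊗[A] BQ f →+* MvPolynomial (Fin n) (BQ f) :=
    RingEquiv.toRingHom (eQ f)
  have hφ : Function.Bijective φ := (eQ f).bijective
  refine kreg_of_bijective (R := MvPolynomial (Fin n) A ⊗[A] BQ f)
    (S := MvPolynomial (Fin n) (BQ f)) φ hφ (List.ofFn (gg f)) ?_
  rw [List.map_ofFn]
  have hfun : (⇑φ ∘ gg f) =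
      fun j => (X j - C (piQ f (X j)) : MvPolynomial (Fin n) (BQ f)) :=
    funext fun j => eQ_gg f j
  rw [hfun]
  exact hF

theorem theta_eq :
    ((Algebra.TensorProduct.lmul' (S := BQ f) A).comp
      ((Algebra.TensorProduct.map (piQ f) (AlgHom.id A (BQ f))).comp (TT f))) =
    (piQ f).comp (Algebra.TensorProduct.lmul' (S := MvPolynomial (Fin n) A) A) := by
  apply Algebra.TensorProduct.ext'
  intro p q
  simp only [AlgHom.comp_apply, Algebra.TensorProduct.map_tmul, AlgHom.coe_id, id_eq,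
    Algebra.TensorProduct.lmul'_apply_tmul, map_mul]

end setup

/-- Parts (1) (flatness) and (3), in the case h = 1: let A be a ring, n at least 1, f_1, ..., f_n
polynomials in A[x_1, ..., x_n] and B = A[x_1, ..., x_n]/(f_1, ..., f_n). When B is quasi-finite
over A, it is A-flat, and its Noether different over A is the principal ideal generated by the image
of the Jacobian determinant det(d f_i / d x_j). -/
theorem result {A : Type u} [CommRing A] {n : ℕ}
    (hn : 1 ≤ n) (f : Fin n → MvPolynomial (Fin n) A)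
    [Algebra.QuasiFinite A (MvPolynomial (Fin n) A ⧸ Ideal.span (Set.range f))] :
    Module.Flat A (MvPolynomial (Fin n) A ⧸ Ideal.span (Set.range f)) ∧
      Disc.noetherDifferent A (MvPolynomial (Fin n) A ⧸ Ideal.span (Set.range f)) =
        Ideal.span {Ideal.Quotient.mk (Ideal.span (Set.range f))
          (Matrix.det (Matrix.of fun i j => MvPolynomial.pderiv j (f i)))} := by
  classical
  have hgci : Synt.IsRelGCI A n n f := isRelGCI_of_quasiFinite f
  haveI hflat : Module.Flat A (MvPolynomial (Fin n) A ⧸ Ideal.span (Set.range f)) :=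
    Groth.Agent.H66.RelGCI.flat_of_isRelGCI A n n f hgci
  refine ⟨hflat, ?_⟩
  have hf : LCI.IsKoszulRegularSeq (MvPolynomial (Fin n) A) (List.ofFn f) :=
    Groth.Agent.S9254.result A n n f hgci
  obtain ⟨c, hc⟩ := exists_bez f
  have hc' : ∀ i, f i ⊗ₜ[A] (1 : BQ f) = ∑ j, ((TT f).mapMatrix c) i j * gg f j := by
    intro i
    have h := congrArg (TT f) (hc i)
    rw [map_sum, TT_dd] at h
    have h0 : piQ f (f i) = 0 :=
      Ideal.Quotient.eq_zero_iff_mem.2 (Ideal.subset_span ⟨i, rfl⟩)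
    rw [h0, TensorProduct.tmul_zero, sub_zero] at h
    rw [h]
    refine Finset.sum_congr rfl fun j _ => ?_
    rw [map_mul]
    rfl
  have key := Groth.Agent.S2235.result (A := A) (P := MvPolynomial (Fin n) A) f hf (gg f)
    (hg f) (hgker f) ((TT f).mapMatrix c) hc'
  unfold Disc.noetherDifferent
  rw [key, Ideal.map_span, Set.image_singleton]
  congr 2
  rw [← AlgHom.map_det]
  have h1 := AlgHom.congr_fun (theta_eq f) (Matrix.det c)
  simp only [AlgHom.comp_apply] at h1
  rw [h1, AlgHom.map_det]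
  have h2 : (Algebra.TensorProduct.lmul' (S := MvPolynomial (Fin n) A) A).mapMatrix c =
      Matrix.of fun i j => MvPolynomial.pderiv j (f i) := by
    apply Matrix.ext
    intro i j
    exact lmul_bez f c hc i j
  rw [h2]
  rfl

end Groth.Agent.S2210
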