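import Groth.Statements.S2216
import Mathlib

set_option autoImplicit false
universe u v
open Disc

namespace Groth.Agent.S2216

/-- Affine finite free case: let A be a Noetherian ring, B an A-algebra with a finite A-basis b, and x
an element of the different of B over A (x Hom_A(B, A) inside B Trace). Then the norm of x lies in
the ideal of A generated by the discriminant of the basis b. -/
theorem result {A : Type u} {B : Type v} [CommRing A]
    [CommRing B] [Algebra A B] [IsNoetherianRing A] {ι : Type} [Fintype ι] [DecidableEq ι]
    (b : Module.Basis ι A B) (x : B) (hx : x ∈ Disc.differentSet A B) :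
    Algebra.norm A x ∈ Ideal.span {Algebra.discr A b} := by
  classical
  choose c hc using fun j : ι => hx (b.coord j)
  let Γ : Matrix ι ι A := Matrix.of fun j l => b.repr (c j) l
  have hM : Algebra.leftMulMatrix b x = Γ * Algebra.traceMatrix A b := by
    ext j k
    rw [Algebra.leftMulMatrix_eq_repr_mul, Matrix.mul_apply]
    have h1 : b.repr (x * b k) j = Algebra.trace A B (c j * b k) := hc j (b k)
    rw [h1]
    conv_lhs => rw [← b.sum_repr (c j)]
    simp only [Finset.sum_mul, smul_mul_assoc, map_sum, map_smul, smul_eq_mul]
    rfl
  rw [Algebra.norm_eq_matrix_det b, hM, Matrix.det_mul, Ideal.mem_span_singleton]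
  exact Dvd.intro_left _ rfl

end Groth.Agent.S2216
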