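import Groth.Statements.S2219
import Groth.Agent.H79.TraceLoc
import Mathlib

set_option autoImplicit false
universe u
open Disc

namespace Groth.Agent.S2219

/-- Equivalence of (1) and (3): let k be a field and A a finite-dimensional local k-algebra with residue
field k'. Then the trace map Tr_{A/k} is not identically zero if and only if k' is separable over k
and the length of A as a module over itself is not divisible by the characteristic of k (no
condition in characteristic zero). -/
theorem result (k A : Type u) [Field k] [CommRing A]
    [Algebra k A] [FiniteDimensional k A] [IsLocalRing A] :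
    Algebra.trace k A ≠ 0 ↔
      (Algebra.IsSeparable k (IsLocalRing.ResidueField A) ∧
        ∀ p : ℕ, p.Prime → CharP k p → ¬ p ∣ (Module.length A A).toNat) := by
  classical
  have hl0 := Groth.Agent.H79.TraceLoc.length_toNat_ne_zero k A
  have hsurj : Algebra.trace k A ≠ 0 ↔ Function.Surjective (Algebra.trace k A) := by
    constructor
    · intro h c
      obtain ⟨x, hx⟩ : ∃ x, Algebra.trace k A x ≠ 0 := by
        by_contra hcon
        push_neg at hcon
        exact h (LinearMap.ext hcon)
      exact ⟨(c / Algebra.trace k A x) • x, by
        rw [map_smul, smul_eq_mul, div_mul_cancel₀ _ hx]⟩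
    · intro hs h
      obtain ⟨x, hx⟩ := hs 1
      rw [h] at hx
      simp at hx
  rw [hsurj, Groth.Agent.H79.TraceLoc.trace_surjective_iff]
  refine and_congr_right fun _ => ?_
  obtain ⟨q, hq⟩ := CharP.exists k
  rw [Ne, CharP.cast_eq_zero_iff k q]
  constructor
  · intro h p hp hcp
    have := CharP.eq k hcp hq
    subst this
    exact h
  · intro h hdvd
    rcases CharP.char_is_prime_or_zero k q with hp | h0
    · exact h q hp hq hdvd
    · subst h0
      exact hl0 (Nat.eq_zero_of_zero_dvd hdvd)

end Groth.Agent.S2219
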