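import Groth.Statements.S2220
import Mathlib
import Groth.Agent.H13.NoetherDiff

set_option autoImplicit false
universe u
open AlgebraicGeometry
open Disc

namespace Groth.Agent.S2220

open CategoryTheory TensorProduct

/-- Part (2): for ring maps A -> B' -> B with B' of finite type over A and Spec B -> Spec B' an open
immersion, the Noether different of B over A is the ideal generated by the image of that of B'. -/
theorem result {A B' B : Type u} [CommRing A] [CommRing B']
    [CommRing B] [Algebra A B'] [Algebra A B] [Algebra B' B] [IsScalarTower A B' B]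
    [Algebra.FiniteType A B']
    (h : IsOpenImmersion (Spec.map (CommRingCat.ofHom (algebraMap B' B)))) :
    Disc.noetherDifferent A B = (Disc.noetherDifferent A B').map (algebraMap B' B) := by
  let g : B' →ₐ[A] B := IsScalarTower.toAlgHom A B' B
  have hflat : (algebraMap B' B).Flat := by
    have h1 : Flat (Spec.map (CommRingCat.ofHom (algebraMap B' B))) := inferInstance
    exact AlgebraicGeometry.Flat.SpecMap_iff.mp h1
  have hg : g.Flat := hflat
  have hepi : Epi (CommRingCat.ofHom (algebraMap B' B)) := by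
    have hmono : Mono (Spec.map (CommRingCat.ofHom (algebraMap B' B))) := inferInstance
    have h2 : Mono (Scheme.Spec.map (CommRingCat.ofHom (algebraMap B' B)).op) := hmono
    have h3 : Mono (CommRingCat.ofHom (algebraMap B' B)).op := Scheme.Spec.mono_of_mono_map h2
    exact unop_epi_of_mono (CommRingCat.ofHom (algebraMap B' B)).op
  let φ : B' ⊗[A] B' →+* B ⊗[A] B := (Algebra.TensorProduct.map g g).toRingHom
  have hφ : φ.Flat := RingHom.Flat.tensorProductMap hg hg
  refine H13.NoetherDiff.noetherDifferent_eq_map (algebraMap B' B) φ hφ ?_ ?_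
  · intro x y
    simp [φ, g]
  · intro s
    set J := (RingHom.ker (Algebra.TensorProduct.lmul' (S := B') A)).map φ with hJ
    let ι₁ : B →+* (B ⊗[A] B) ⧸ J :=
      (Ideal.Quotient.mk J).comp (Algebra.TensorProduct.includeLeftRingHom)
    let ι₂ : B →+* (B ⊗[A] B) ⧸ J :=
      (Ideal.Quotient.mk J).comp (Algebra.TensorProduct.includeRight (R := A) (A := B)).toRingHom
    have h12 : ι₁.comp (algebraMap B' B) = ι₂.comp (algebraMap B' B) := by
      ext b
      change Ideal.Quotient.mk J (algebraMap B' B b ⊗ₜ[A] (1 : B)) =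
        Ideal.Quotient.mk J ((1 : B) ⊗ₜ[A] algebraMap B' B b)
      rw [Ideal.Quotient.eq]
      have e : (algebraMap B' B b) ⊗ₜ[A] (1 : B) - (1 : B) ⊗ₜ[A] (algebraMap B' B b) =
          φ (b ⊗ₜ[A] (1 : B') - (1 : B') ⊗ₜ[A] b) := by
        simp [φ, g]
      rw [e]
      apply Ideal.mem_map_of_mem
      simp [RingHom.mem_ker]
    have e1 : CommRingCat.ofHom (algebraMap B' B) ≫ CommRingCat.ofHom ι₁ =
        CommRingCat.ofHom (algebraMap B' B) ≫ CommRingCat.ofHom ι₂ := by
      rw [← CommRingCat.ofHom_comp, ← CommRingCat.ofHom_comp, h12]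
    have e2 := (cancel_epi _).mp e1
    have e3 : ι₁ = ι₂ := congrArg CommRingCat.Hom.hom e2
    have e4 := RingHom.congr_fun e3 s
    change Ideal.Quotient.mk J (s ⊗ₜ[A] (1 : B)) = Ideal.Quotient.mk J ((1 : B) ⊗ₜ[A] s) at e4
    rw [Ideal.Quotient.eq] at e4
    have e5 := J.neg_mem e4
    rwa [neg_sub] at e5

end Groth.Agent.S2220
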