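import Groth.Statements.S2221
import Mathlib
import Groth.Agent.H13.DiscFree

set_option autoImplicit false
universe u
open Disc

namespace Groth.Agent.S2221

open TensorProduct

/-- Affine finite free case: let A be a Noetherian ring and B an A-algebra which is finite free as an
A-module, and suppose omega = Hom_A(B, A) is an invertible B-module. Then the different of B over A
(the b with b omega inside B Trace) equals the Noether different of B over A. -/
theorem result {A B : Type u} [CommRing A]
    [CommRing B] [Algebra A B] [IsNoetherianRing A] [Module.Finite A B] [Module.Free A B]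
    [Module.Invertible B (Disc.Omega A B)] :
    Disc.differentSet A B = (Disc.noetherDifferent A B : Set B) := by
  rw [H13.DiscFree.noetherDifferent_eq_range]
  ext x
  constructor
  · intro hx
    have key : ∀ t : Module.Dual B (Disc.Omega A B) ⊗[B] Disc.Omega A B,
        ∃ Φ : Disc.Omega A B →ₗ[B] B,
          Φ (Disc.Omega.trace A B) = (contractLeft B (Disc.Omega A B) t) * x := by
      intro t
      induction t with
      | zero => exact ⟨0, by simp⟩
      | tmul Φ l =>
        obtain ⟨c, hc⟩ := hx l.toLinearMap
        have hl : x • l = c • Disc.Omega.trace A B := by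
          apply Disc.Omega.ext
          ext y
          exact hc y
        refine ⟨c • Φ, ?_⟩
        rw [contractLeft_apply, LinearMap.smul_apply, ← map_smul, ← hl, map_smul, smul_eq_mul,
          mul_comm]
      | add t t' h h' =>
        obtain ⟨Φ, hΦ⟩ := h
        obtain ⟨Φ', hΦ'⟩ := h'
        exact ⟨Φ + Φ', by rw [LinearMap.add_apply, hΦ, hΦ', map_add, add_mul]⟩
    obtain ⟨t, ht⟩ := (Module.Invertible.bijective (R := B) (M := Disc.Omega A B)).2 1
    obtain ⟨Φ, hΦ⟩ := key t
    rw [ht, one_mul] at hΦ
    exact ⟨Φ, hΦ⟩
  · rintro ⟨Φ, rfl⟩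
    intro φ
    refine ⟨Φ ⟨φ⟩, fun y => ?_⟩
    have hsymm : Φ (Disc.Omega.trace A B) • (⟨φ⟩ : Disc.Omega A B) =
        Φ ⟨φ⟩ • Disc.Omega.trace A B := by
      have h1 : (Disc.Omega.trace A B) ⊗ₜ[B] (⟨φ⟩ : Disc.Omega A B) =
          (⟨φ⟩ : Disc.Omega A B) ⊗ₜ[B] (Disc.Omega.trace A B) := Module.Invertible.tmul_comm
      have h2 := congrArg
        (TensorProduct.lift ((LinearMap.lsmul B (Disc.Omega A B)).comp Φ)) h1
      simpa using h2
    have h3 := congrArg (fun l : Disc.Omega A B => l.toLinearMap y) hsymm
    simpa [Disc.Omega.trace] using h3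

end Groth.Agent.S2221
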