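import Groth.Statements.S2225
import Mathlib
import Groth.Agent.H60.ResidueFibre
import Groth.Agent.H60.GorTransfer
import Groth.Agent.S0344
import Groth.Agent.S0342

set_option autoImplicit false
universe u
open CategoryTheory AlgebraicGeometry
open Models

namespace Groth.Agent.S2225

/-- Part (1), for the closed fibre: let R be a discrete valuation ring with fraction field K, C a smooth
proper curve over K and X a regular model of C over R (flat, of finite type, all local rings
regular). Then every local ring of the special fibre X_k is a Gorenstein local ring; together with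
flatness and regularity of the generic fibre this says X -> Spec R is a Gorenstein morphism. -/
theorem result (R : Type u) [CommRing R] [IsDomain R]
    [IsDiscreteValuationRing R] (C X : Scheme.{u})
    (f : C ⟶ Spec (CommRingCat.of (FractionRing R))) (p : X ⟶ Spec (CommRingCat.of R))
    (hC : Curve.IsSmoothProperCurve (FractionRing R) C f) (hX : Models.IsModel R X p C f)
    (hreg : Models.IsRegularScheme X) (x : ↥(Models.specialFibre R X p)) :
    LocCoh.IsGorensteinLocalRing ((Models.specialFibre R X p).presheaf.stalk x) := by
  obtain ⟨hflat, -, -, -⟩ := hX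
  haveI := hflat
  have hsq : IsPullback
      (Limits.pullback.fst p (Spec.map (CommRingCat.ofHom (IsLocalRing.residue R))))
      (Limits.pullback.snd p (Spec.map (CommRingCat.ofHom (IsLocalRing.residue R)))) p
      (Spec.map (CommRingCat.ofHom (IsLocalRing.residue R))) := IsPullback.of_hasPullback _ _
  obtain ⟨e⟩ := Groth.Agent.H60.ResidueFibre.nonempty_stalkEquiv R p _ _ hsq x
  refine Groth.Agent.H60.GorTransfer.gor_of_ringEquiv e ?_
  haveI : IsRegularLocalRing (X.presheaf.stalk
      ((Limits.pullback.fst p (Spec.map (CommRingCat.ofHom (IsLocalRing.residue R)))) x)) :=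
    hreg _
  have hB : LocCoh.IsGorensteinLocalRing (X.presheaf.stalk
      ((Limits.pullback.fst p (Spec.map (CommRingCat.ofHom (IsLocalRing.residue R)))) x)) :=
    Groth.Agent.S0342.result _
  haveI : IsNoetherianRing (X.presheaf.stalk
      ((Limits.pullback.fst p (Spec.map (CommRingCat.ofHom (IsLocalRing.residue R)))) x)) :=
    hB.toIsNoetherian
  letI : Algebra ((Spec (CommRingCat.of R)).presheaf.stalk
      (p ((Limits.pullback.fst p (Spec.map (CommRingCat.ofHom (IsLocalRing.residue R)))) x)))
      (X.presheaf.stalk
        ((Limits.pullback.fst p (Spec.map (CommRingCat.ofHom (IsLocalRing.residue R)))) x)) :=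
    (p.stalkMap _).hom.toAlgebra
  haveI : IsLocalHom (algebraMap ((Spec (CommRingCat.of R)).presheaf.stalk
      (p ((Limits.pullback.fst p (Spec.map (CommRingCat.ofHom (IsLocalRing.residue R)))) x)))
      (X.presheaf.stalk
        ((Limits.pullback.fst p (Spec.map (CommRingCat.ofHom (IsLocalRing.residue R)))) x))) :=
    inferInstanceAs (IsLocalHom (p.stalkMap _).hom)
  haveI : Module.Flat ((Spec (CommRingCat.of R)).presheaf.stalk
      (p ((Limits.pullback.fst p (Spec.map (CommRingCat.ofHom (IsLocalRing.residue R)))) x)))
      (X.presheaf.stalk
        ((Limits.pullback.fst p (Spec.map (CommRingCat.ofHom (IsLocalRing.residue R)))) x)) :=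
    Flat.stalkMap p _
  exact ((Groth.Agent.S0344.result _ _).mp hB).2

end Groth.Agent.S2225
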