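import Groth.Statements.S2237
import Mathlib
import Groth.Agent.H59.LCISynt
import Groth.Agent.H66.RelCI4

set_option autoImplicit false
universe u
attribute [local instance] HasDerivedCategory.standard
open LCI

namespace Groth.Agent.S2237


/-- Implication (2) to (5), affine form: let A -> B be flat, quasi-finite and a local complete
intersection homomorphism (finite type with a Koszul-regular presentation). Then for every prime q
of B there are g in B outside q, a natural number n and polynomials f_1, ..., f_n in A[x_1, ...,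
x_n] such that B_g is isomorphic as an A-algebra to A[x_1, ..., x_n]/(f_1, ..., f_n). -/
theorem result {A B : Type u} [CommRing A]
    [CommRing B] [Algebra A B] [Module.Flat A B] [Algebra.QuasiFinite A B] (hlci : LCI.IsLCI A B)
    (q : Ideal B) [q.IsPrime] :
    ∃ g : B, g ∉ q ∧ ∃ (n : ℕ) (f : Fin n → MvPolynomial (Fin n) A),
      Nonempty (Localization.Away g ≃ₐ[A]
        (MvPolynomial (Fin n) A ⧸ Ideal.span (Set.range f))) := by
  classical
  have hsyn : Synt.IsSyntomic A B := Groth.Agent.H59.LCISynt.isSyntomic_of_flat_of_isLCI A B hlci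
  obtain ⟨g, hg, n, c, F, hF, ⟨e⟩⟩ :=
    Groth.Agent.H66.RelCI.exists_relGCI_of_isSyntomic hsyn ⟨q, inferInstance⟩
  have hg' : g ∉ q := hg
  -- a prime of the localization
  have hdisj : Disjoint (Submonoid.powers g : Set B) (q : Set B) :=
    (Ideal.disjoint_powers_iff_notMem_of_isPrime g).mpr hg'
  have hqg : (Ideal.map (algebraMap B (Localization.Away g)) q).IsPrime :=
    IsLocalization.isPrime_of_isPrime_disjoint (Submonoid.powers g) _ q inferInstance hdisj
  let qT : PrimeSpectrum (Synt.RelGCIRing A n c F) :=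
    ⟨(Ideal.map (algebraMap B (Localization.Away g)) q).comap (e.symm : _ →+* _),
      Ideal.comap_isPrime _ _⟩
  obtain ⟨p, hp⟩ : ∃ p : Ideal A, p = qT.asIdeal.under A := ⟨_, rfl⟩
  haveI : p.IsPrime := by rw [hp]; infer_instance
  obtain ⟨hnt, -⟩ := Groth.Agent.H66.RelGCI.tfd_le_fiber_dim qT p hp
  obtain ⟨hcn, hdim⟩ := hF ⟨p, inferInstance⟩ hnt
  haveI : Algebra.QuasiFinite A (Synt.RelGCIRing A n c F) :=
    (Algebra.QuasiFinite.iff_of_algEquiv e).mp inferInstance
  haveI : IsArtinianRing (p.Fiber (Synt.RelGCIRing A n c F)) := inferInstance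
  have hK := ((isArtinianRing_iff_isNoetherianRing_krullDimLE_zero
    (R := p.Fiber (Synt.RelGCIRing A n c F))).mp inferInstance).2
  have hle := Ring.krullDimLE_iff.mp hK
  have hcn' : c = n := by
    have : ((n - c : ℕ) : WithBot ℕ∞) ≤ ((0 : ℕ) : WithBot ℕ∞) := hdim.symm.le.trans hle
    have h0 : n - c ≤ 0 := by exact_mod_cast this
    omega
  subst hcn'
  exact ⟨g, hg', c, F, ⟨e⟩⟩

end Groth.Agent.S2237
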