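import Groth.Statements.S9390
import Groth.Agent.H8.QCohStalk
import Mathlib.RingTheory.Support

set_option autoImplicit false
universe u
open QCohSub

namespace Groth.Agent.S9390

open AlgebraicGeometry CategoryTheory in
/-- For a quasi-coherent O_X-module F, an affine open U = Spec A of X, M = F(U) and x ∈ U with prime p ⊆
A, the prime p is in Supp(M) if and only if x is in Supp(F). -/
theorem result (X : Scheme.{u}) (F : X.Modules) (hF : Coh.IsQCoh F)
    (U : X.affineOpens) (x : X) (hx : x ∈ U.1) :
    U.2.primeIdealOf ⟨x, hx⟩ ∈ Module.support Γ(X, U.1) Γ(F, U.1) ↔ x ∈ CohB1.support F := by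
  haveI : F.IsQuasicoherent := hF
  letI := H8.moduleSectionStalk F x hx
  haveI := H8.isLocalizedModule_germₗ F U.2 x hx
  let e := IsLocalizedModule.iso (U.2.primeIdealOf ⟨x, hx⟩).asIdeal.primeCompl (H8.germₗ F x hx)
  rw [Module.mem_support_iff]
  change _ ↔ ¬ Subsingleton (F.presheaf.stalk x)
  rw [not_subsingleton_iff_nontrivial]
  exact ⟨fun h => by haveI := h; exact e.injective.nontrivial,
    fun h => by haveI := h; exact e.symm.injective.nontrivial⟩

end Groth.Agent.S9390
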