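import Groth.Statements.S3571
import Groth.Agent.S8255
import Groth.Agent.H8.QCohAffine
-- import your own Groth.Agent.* helpers here

set_option autoImplicit false
universe u
open CategoryTheory AlgebraicGeometry TopologicalSpace
open EGA2

namespace Groth.Agent.S3571

open Opposite

section helper

variable {S : Scheme.{u}}
    (B : Sheaf (Opens.grothendieckTopology S) CommRingCat.{u}) (φ : S.sheaf ⟶ B)

/-- The algebra `B` as a module over the structure sheaf. -/
noncomputable abbrev modOf : S.Modules :=
  (SheafOfModules.restrictScalars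
      ((sheafCompose (Opens.grothendieckTopology S) (forget₂ CommRingCat.{u} RingCat.{u})).map φ)).obj
      (SheafOfModules.unit ((sheafCompose (Opens.grothendieckTopology S)
        (forget₂ CommRingCat.{u} RingCat.{u})).obj B))

set_option backward.isDefEq.respectTransparency false in
/-- identity map from sections of the module to sections of `B` -/
def toB (U : S.Opens) (x : Γ(modOf B φ, U)) : B.obj.obj (op U) := x

set_option backward.isDefEq.respectTransparency false in
/-- identity map from sections of `B` to sections of the module -/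
def ofB (U : S.Opens) (x : B.obj.obj (op U)) : Γ(modOf B φ, U) := x

theorem toB_ofB (U : S.Opens) (x : B.obj.obj (op U)) : toB B φ U (ofB B φ U x) = x := rfl

theorem ofB_toB (U : S.Opens) (x : Γ(modOf B φ, U)) : ofB B φ U (toB B φ U x) = x := rfl

theorem toB_injective (U : S.Opens) : Function.Injective (toB B φ U) := fun _ _ h => h

set_option backward.isDefEq.respectTransparency false in
theorem toB_zero (U : S.Opens) : toB B φ U 0 = 0 := rfl

set_option backward.isDefEq.respectTransparency false in
theorem toB_smul (U : S.Opens) (r : Γ(S, U)) (x : Γ(modOf B φ, U)) :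
    toB B φ U (r • x) = (φ.hom.app (op U)).hom r * toB B φ U x := rfl

set_option backward.isDefEq.respectTransparency false in
theorem toB_map {U V : S.Opens} (i : U ⟶ V) (x : Γ(modOf B φ, V)) :
    toB B φ U ((modOf B φ).presheaf.map i.op x) = (B.obj.map i.op).hom (toB B φ V x) := rfl

set_option backward.isDefEq.respectTransparency false in
theorem isQC_of_isQCoh (hB : Coh.IsQCoh (modOf B φ)) : RelSpec.IsQC B.obj φ.hom := by
  intro U hU r
  let alg : Algebra (B.obj.obj (op U)) (B.obj.obj (op (S.basicOpen r))) :=
    (B.obj.map (homOfLE (S.basicOpen_le r)).op).hom.toAlgebra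
  show IsLocalization (Submonoid.powers ((φ.hom.app (op U)).hom r))
    (B.obj.obj (op (S.basicOpen r)))
  have : (modOf B φ).IsQuasicoherent := hB
  have halg : ∀ x : B.obj.obj (op U),
      algebraMap (B.obj.obj (op U)) (B.obj.obj (op (S.basicOpen r))) x
      = (B.obj.map (homOfLE (S.basicOpen_le r)).op).hom x := fun x => rfl
  have hnat : ∀ x : Γ(S, U),
      (B.obj.map (homOfLE (S.basicOpen_le r)).op).hom ((φ.hom.app (op U)).hom x)
      = (φ.hom.app (op (S.basicOpen r))).hom
          ((S.presheaf.map (homOfLE (S.basicOpen_le r)).op).hom x) := by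
    intro x
    have := φ.hom.naturality (homOfLE (S.basicOpen_le r)).op
    exact (congrArg (fun f => f.hom x) this).symm
  have hunit : IsUnit ((φ.hom.app (op (S.basicOpen r))).hom
      ((S.presheaf.map (homOfLE (S.basicOpen_le r)).op).hom r)) :=
    (RingedSpace.isUnit_res_basicOpen S.toRingedSpace r).map
      (φ.hom.app (op (S.basicOpen r))).hom
  rw [isLocalization_iff]
  refine ⟨?_, ?_, ?_⟩
  · rintro ⟨_, n, rfl⟩
    show IsUnit (algebraMap _ _ (((φ.hom.app (op U)).hom r) ^ n))
    rw [halg, map_pow, hnat]
    exact hunit.pow n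
  · intro z
    obtain ⟨n, x, hx⟩ := Groth.Agent.H8.exists_smul_eq_res hU (modOf B φ) r (ofB B φ _ z)
    refine ⟨⟨toB B φ _ x, ⟨_, n, rfl⟩⟩, ?_⟩
    show z * algebraMap _ _ (((φ.hom.app (op U)).hom r) ^ n) = algebraMap _ _ (toB B φ _ x)
    rw [halg, halg, map_pow, hnat, mul_comm]
    have h := congrArg (toB B φ _) hx
    rw [toB_smul, toB_map, toB_ofB, map_pow] at h
    exact h
  · intro x y hxy
    rw [halg, halg] at hxy
    have h0 : (modOf B φ).presheaf.map (homOfLE (S.basicOpen_le r)).op (ofB B φ _ (x - y)) = 0 := by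
      apply toB_injective
      rw [toB_map, toB_ofB, map_sub, hxy, sub_self, toB_zero]
    obtain ⟨n, hn⟩ := Groth.Agent.H8.exists_smul_eq_zero hU (modOf B φ) r (ofB B φ _ (x - y)) h0
    refine ⟨⟨_, n, rfl⟩, ?_⟩
    have h := congrArg (toB B φ _) hn
    rw [toB_smul, toB_ofB, toB_zero, map_pow, mul_sub, sub_eq_zero] at h
    exact h

/-- the quasi-coherent algebra -/
noncomputable def algOf (hB : Coh.IsQCoh (modOf B φ)) : RelSpec.QCAlg S :=
  ⟨B.obj, B.property, φ.hom, isQC_of_isQCoh B φ hB⟩

theorem exists_of_alg (hB : Coh.IsQCoh (modOf B φ)) :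
    ∃ (X : Scheme.{u}) (f : X ⟶ S) (_ : IsAffineHom f)
      (e : B ≅ (TopCat.Sheaf.pushforward CommRingCat.{u} f.base).obj X.sheaf),
      (φ ≫ e.hom).hom = f.c := by
  have hiso : IsIso (algOf B φ hB).gammaMap := Groth.Agent.S8255.result (algOf B φ hB)
  obtain ⟨g, h1, h2⟩ := hiso.out
  refine ⟨(algOf B φ hB).spec, (algOf B φ hB).π, inferInstance,
    { hom := ObjectProperty.homMk g
      inv := ObjectProperty.homMk (algOf B φ hB).gammaMap
      hom_inv_id := Sheaf.hom_ext h2
      inv_hom_id := Sheaf.hom_ext h1 }, ?_⟩
  show φ.hom ≫ g = (algOf B φ hB).π.c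
  have h3 : (algOf B φ hB).π.c ≫ (algOf B φ hB).gammaMap = φ.hom :=
    (algOf B φ hB).π_c_gammaMap
  have h4 : ((algOf B φ hB).π.c ≫ (algOf B φ hB).gammaMap) ≫ g = (algOf B φ hB).π.c := by
    rw [Category.assoc, h1, Category.comp_id]
  exact (congrArg (fun k => k ≫ g) h3).symm.trans h4

end helper

/-- Let S be a scheme and B a sheaf of commutative rings on S with a morphism O_S → B making B a
quasi-coherent O_S-module (a quasi-coherent O_S-algebra). Then there are a scheme X and an affine
morphism f : X → S together with an isomorphism of sheaves of rings B ≅ f_*O_X compatible with the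
two structure maps from O_S (X is the relative spectrum of B; it is in fact unique up to unique
S-isomorphism, but only existence is asserted here). -/
theorem result {S : Scheme.{u}}
    (B : Sheaf (Opens.grothendieckTopology S) CommRingCat.{u}) (φ : S.sheaf ⟶ B)
    (hB : Coh.IsQCoh ((SheafOfModules.restrictScalars
      ((sheafCompose (Opens.grothendieckTopology S) (forget₂ CommRingCat.{u} RingCat.{u})).map φ)).obj
      (SheafOfModules.unit ((sheafCompose (Opens.grothendieckTopology S) (forget₂ CommRingCat.{u} RingCat.{u})).obj B)))) :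
    ∃ (X : Scheme.{u}) (f : X ⟶ S) (_ : IsAffineHom f)
      (e : B ≅ (TopCat.Sheaf.pushforward CommRingCat.{u} f.base).obj X.sheaf),
      (φ ≫ e.hom).hom = f.c := by
  exact exists_of_alg B φ hB

end Groth.Agent.S3571
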