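import Groth.Statements.S2326
import Mathlib
import Groth.Agent.H22.FTIdeal
import Groth.Agent.H18.GlobGenConv
-- import your own Groth.Agent.* helpers here

set_option autoImplicit false
universe u
open CategoryTheory CategoryTheory.Limits AlgebraicGeometry
open EGA2

namespace Groth.Agent.S2326

open Groth.Agent.H22.FTIdeal Groth.Agent.H22.IdealTwist Groth.Agent.H22.AmpleLocal
open Groth.Agent.H18.TensorGen Groth.Agent.H18.TensorPowIso TopologicalSpace


/-- Let X be a quasi-compact separated scheme (the source also allows a prescheme with Noetherian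
underlying space) and L an invertible module. Suppose that for every quasi-coherent ideal sheaf I of
finite type there are n > 0 and k > 0 with I ⊗ L^{⊗n} a quotient of O_X^k. Then L is ample. -/
theorem result (X : Scheme.{u}) [CompactSpace X] [X.IsSeparated] (L : X.Modules) (hL : PicF.IsInvertible L)
    (h : ∀ I : X.IdealSheafData, BlowUp.IsFiniteTypeIdeal I →
      ∃ (n k : ℕ) (p : FlatMod.freeMod X k ⟶ CohB1.tensorMod (ClSub.idealMod I) (CohB1.tensorPow L (n + 1))), 0 < k ∧ Epi p) :
    CohB1.IsAmple L := by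
  haveI : QuasiSeparatedSpace X := inferInstance
  refine ⟨hL, inferInstance, fun x => ?_⟩
  obtain ⟨A, μ, hxA, hμ⟩ := exists_isGen hL x
  obtain ⟨U, hU, hxU, hUA⟩ := (Opens.isBasis_iff_nbhd.mp X.isBasis_affineOpens) hxA
  obtain ⟨I, hft, hsupp⟩ := exists_ftIdeal U hU
  obtain ⟨n, k, p, -, hp⟩ := h I hft
  haveI := hp
  obtain ⟨f, hf⟩ : ∃ f : X ⟶ Spec Γ(X, ⊤), f = X.toSpecΓ := ⟨_, rfl⟩
  haveI : QuasiCompact f := (HasAffineProperty.iff_of_isAffine (P := @QuasiCompact)).mpr (inferInstance : CompactSpace X)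
  haveI : QuasiSeparated f := (HasAffineProperty.iff_of_isAffine (P := @QuasiSeparated)).mpr
    (inferInstance : QuasiSeparatedSpace X)
  have hepi := epi_counit_of_epi_freeMod f p
  have hdisj : Disjoint (U : Set X) (I.support : Set X) := by
    rw [hsupp]
    exact Set.disjoint_left.mpr (fun y hy hyY => hyY hy)
  obtain ⟨g, hg⟩ := exists_lift_one I U hdisj
  have hvan : ∀ y : X, y ∉ U → VanishAt (ClSub.idealModι I) y := by
    intro y hy
    refine vanishAt_idealModι I y ?_
    have h1 : y ∈ (I.support : Set X) := by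
      rw [hsupp]
      exact hy
    exact h1
  haveI : (ClSub.idealMod I).IsQuasicoherent :=
    (inferInstance : Coh.IsQCoh (Limits.kernel (ClSub.toSubscheme I)))
  obtain ⟨t, D, hD, -, hxD, hiff⟩ := exists_section_core f hL ⊤ (isAffineOpen_top _)
    (ClSub.idealModι I) n hepi U hU (fun _ _ => trivial) (L.presheaf.map (homOfLE hUA).op μ)
    (hμ.res hUA) g hg hvan x hxU
  obtain ⟨t', ht'⟩ : ∃ t' : Γ(CohB1.tensorPow L (n + 1), ⊤), t' = t := ⟨_, rfl⟩
  have heq : CohB1.genLocus _ (secHom _ t') = D := by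
    ext y
    rw [SetLike.mem_coe, mem_genLocus_secHom, ht']
    exact hiff y trivial
  refine ⟨n, secHom _ t', ?_, ?_⟩
  · rw [heq]
    exact hxD
  · rw [heq]
    exact hD

end Groth.Agent.S2326
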