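import Groth.Statements.S2330
import Groth.Agent.H22.VeryAmpleIso
import Groth.Agent.H22.VeryAmpleConv
import Groth.Agent.S4381
-- import your own Groth.Agent.* helpers here

set_option autoImplicit false
universe u
open CategoryTheory CategoryTheory.Limits AlgebraicGeometry
open EGA2

namespace Groth.Agent.S2330

/-- Let Y be affine, q : X → Y separated and of finite type, and L an invertible O_X-module. Then L is
ample if and only if some L^{⊗n} (n > 0) is very ample relative to q, in the sense that it is the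
pullback of O(1) along an immersion of X into some P^m_Y over Y; moreover, if L is ample this holds
for all n beyond some n₀. ('Very ample relative to q' in general means this with P(E) for a
quasi-coherent O_Y-module E in place of P^m_Y; for q of finite type over an affine base the two
agree, and the P^m_Y form is the one used here.) -/
theorem result {X Y : Scheme.{u}} [IsAffine Y] (q : X ⟶ Y) [IsSeparated q]
    [QuasiCompact q] [LocallyOfFiniteType q] (L : X.Modules) (hL : PicF.IsInvertible L) :
    (CohB1.IsAmple L ↔ ∃ n : ℕ, 0 < n ∧ RelAmple.IsRelVeryAmplePn q (CohB1.tensorPow L n)) ∧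
      (CohB1.IsAmple L → ∃ n₀ : ℕ, ∀ n, n₀ ≤ n → RelAmple.IsRelVeryAmplePn q (CohB1.tensorPow L n)) := by
  have h2 : CohB1.IsAmple L → ∃ d₀ : ℕ, 0 < d₀ ∧ ∀ d : ℕ, d₀ ≤ d →
      RelAmple.IsRelVeryAmplePn q (CohB1.tensorPow L d) := fun h =>
    Groth.Agent.H22.VeryAmpleIso.eventually_isRelVeryAmplePn_tensorPow q h
  refine ⟨⟨fun h => ?_, ?_⟩, fun h => ?_⟩
  · obtain ⟨d₀, hpos, hd⟩ := h2 h
    exact ⟨d₀, hpos, hd d₀ le_rfl⟩
  · rintro ⟨n, hn, hva⟩
    haveI : CompactSpace X := HasAffineProperty.iff_of_isAffine.mp ‹QuasiCompact q›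
    have h3 := Groth.Agent.H22.VeryAmpleConv.isRelAmple_of_isRelVeryAmplePn q _ hva
    rw [Groth.Agent.S4381.result] at h3
    exact (Groth.Agent.H18.AmpleBasis.isAmple_tensorPow_iff hL hn).mpr h3
  · obtain ⟨d₀, -, hd⟩ := h2 h
    exact ⟨d₀, hd⟩

end Groth.Agent.S2330
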