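import Groth.Statements.S2333
import Groth.Agent.H22.AmpleLocal

open TopologicalSpace Groth.Agent.H22.AmpleLocal

set_option autoImplicit false
universe u
open CategoryTheory CategoryTheory.Limits AlgebraicGeometry
open EGA2

namespace Groth.Agent.S2333

/-- Let f : X → Y and g : Y → Z be morphisms of schemes with f quasi-compact, and L an O_X-module which
is ample relative to the composite g ∘ f. Then L is ample relative to f. (No separatedness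
hypothesis on g is imposed.) -/
theorem result {X Y Z : Scheme.{u}} (f : X ⟶ Y) (g : Y ⟶ Z) [QuasiCompact f]
    (L : X.Modules) (hL : RelAmple.IsRelAmple (f ≫ g) L) : RelAmple.IsRelAmple f L := by
  have hsep : IsSeparated (f ≫ g) := isSeparated_of_isRelAmple _ _ hL
  have hsepf : IsSeparated f := IsSeparated.of_comp f g
  have hqs : QuasiSeparated f := inferInstance
  obtain ⟨-, h⟩ := hL
  have hA : ∀ (W' : Y.Opens), IsAffineOpen W' → (∃ W : Z.affineOpens, W' ≤ g ⁻¹ᵁ W.1) →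
      CohB1.IsAmple (L.restrict (f ⁻¹ᵁ W').ι) := by
    rintro W' hW' ⟨W, hWW⟩
    have h1 := h W
    have hle : f ⁻¹ᵁ W' ≤ (f ≫ g) ⁻¹ᵁ W.1 := fun x hx => hWW hx
    have : CompactSpace ((f ⁻¹ᵁ W' : X.Opens) : Scheme.{u}) :=
      isCompact_iff_compactSpace.mp
        (QuasiCompact.isCompact_preimage (f := f) _ W'.2 hW'.isCompact)
    have h2 := Groth.Agent.H18.RestrictTensor.isAmple_restrict (X.homOfLE hle) h1
    rw [isAmple_restrict_restrict_iff] at h2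
    refine isAmple_of_opensRange_eq (X.homOfLE hle ≫ ((f ≫ g) ⁻¹ᵁ W.1).ι) (f ⁻¹ᵁ W').ι ?_ h2
    rw [Scheme.Hom.opensRange_comp, Scheme.Opens.opensRange_ι, Scheme.opensRange_homOfLE,
      Scheme.Hom.image_preimage_eq_opensRange_inf, Scheme.Opens.opensRange_ι]
    exact (inf_eq_right.mpr hle).symm
  refine ⟨inferInstance, fun V => ?_⟩
  have : CompactSpace ((f ⁻¹ᵁ V.1 : X.Opens) : Scheme.{u}) :=
    isCompact_iff_compactSpace.mp
      (QuasiCompact.isCompact_preimage (f := f) _ V.1.2 V.2.isCompact)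
  have : QuasiSeparatedSpace ((f ⁻¹ᵁ V.1 : X.Opens) : Scheme.{u}) :=
    (isQuasiSeparated_iff_quasiSeparatedSpace _ (f ⁻¹ᵁ V.1).2).mp
      (f.isQuasiSeparated_preimage V.2.isQuasiSeparated)
  refine isAmple_of_basicOpen_cover _ _ (fun z => ?_)
  have hzV : f z.1 ∈ V.1 := z.2
  obtain ⟨W, hW, hzW⟩ : ∃ W : Z.Opens, IsAffineOpen W ∧ g (f z.1) ∈ W := by
    obtain ⟨_, ⟨W, hW, rfl⟩, hzW, -⟩ := Z.isBasis_affineOpens.exists_subset_of_mem_open
      (Set.mem_univ (g (f z.1))) isOpen_univ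
    exact ⟨W, hW, hzW⟩
  obtain ⟨φ, hφle, hzφ⟩ := V.2.exists_basicOpen_le (V := g ⁻¹ᵁ W) ⟨f z.1, hzW⟩ hzV
  have himg : (f ⁻¹ᵁ V.1).ι ''ᵁ ((f ⁻¹ᵁ V.1).toScheme.basicOpen
      ((f ⁻¹ᵁ V.1).topIso.inv (f.app V.1 φ))) = f ⁻¹ᵁ (Y.basicOpen φ) := by
    rw [Scheme.Opens.ι_image_basicOpen_topIso_inv, Scheme.preimage_basicOpen]
  refine ⟨(f ⁻¹ᵁ V.1).topIso.inv (f.app V.1 φ), ?_, ?_⟩
  · have h1 : z.1 ∈ (f ⁻¹ᵁ V.1).ι ''ᵁ ((f ⁻¹ᵁ V.1).toScheme.basicOpen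
        ((f ⁻¹ᵁ V.1).topIso.inv (f.app V.1 φ))) := by
      rw [himg]
      exact hzφ
    obtain ⟨z', hz', hzz'⟩ := h1
    have : z' = z := (f ⁻¹ᵁ V.1).ι.isOpenEmbedding.injective hzz'
    exact this ▸ hz'
  · rw [isAmple_restrict_restrict_iff]
    refine isAmple_of_opensRange_eq (f ⁻¹ᵁ (Y.basicOpen φ)).ι _ ?_
      (hA (Y.basicOpen φ) (V.2.basicOpen φ) ⟨⟨W, hW⟩, hφle⟩)
    rw [Scheme.Hom.opensRange_comp, Scheme.Opens.opensRange_ι, Scheme.Opens.opensRange_ι, himg]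

end Groth.Agent.S2333
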