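import Groth.Statements.S2334
import Groth.Agent.H73.DVRSpec

set_option autoImplicit false
universe u
open CategoryTheory CategoryTheory.Limits AlgebraicGeometry
open EGA2

namespace Groth.Agent.S2334

/-- Locally Noetherian case of the valuative criterion of separatedness: let Y be a locally Noetherian
scheme and f : X → Y locally of finite type. Then f is separated if and only if for every discrete
valuation ring A with fraction field K, any two morphisms Spec A → X with the same composite to Y
which agree on Spec K are equal. (In the general criterion the diagonal must be assumed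
quasi-compact; that is automatic here.) -/
theorem result {X Y : Scheme.{u}} [IsLocallyNoetherian Y] (f : X ⟶ Y) [LocallyOfFiniteType f] :
    IsSeparated f ↔ ∀ (A : Type u) [CommRing A] [IsDomain A] [IsDiscreteValuationRing A] (g₁ g₂ : (Spec (CommRingCat.of A)) ⟶ X),
      g₁ ≫ f = g₂ ≫ f → (Spec.map (CommRingCat.ofHom (algebraMap A (FractionRing A)))) ≫ g₁ = (Spec.map (CommRingCat.ofHom (algebraMap A (FractionRing A)))) ≫ g₂ → g₁ = g₂ := by
  constructor
  · intro hsep A _ _ _ g₁ g₂ hf hK
    have hu : ValuativeCriterion.Uniqueness f := IsSeparated.valuativeCriterion f
    let S : ValuativeCommSq f :=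
      { R := A
        K := FractionRing A
        i₁ := Spec.map (CommRingCat.ofHom (algebraMap A (FractionRing A))) ≫ g₁
        i₂ := g₁ ≫ f
        commSq := ⟨by rw [Category.assoc]⟩ }
    have hS := hu S
    let l₁ : S.commSq.LiftStruct := ⟨g₁, rfl, rfl⟩
    let l₂ : S.commSq.LiftStruct := ⟨g₂, hK.symm, hf.symm⟩
    exact congrArg CommSq.LiftStruct.l (Subsingleton.elim l₁ l₂)
  · intro H
    have hX : IsLocallyNoetherian X := LocallyOfFiniteType.isLocallyNoetherian f
    have hqs : QuasiSeparated f := inferInstance
    have hlft : LocallyOfFiniteType (pullback.diagonal f) := by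
      have : LocallyOfFiniteType (pullback.diagonal f ≫ pullback.fst f f) := by
        rw [pullback.diagonal_fst]; infer_instance
      exact locallyOfFiniteType_of_comp (pullback.diagonal f) (pullback.fst f f)
    refine ⟨?_⟩
    have hcm : IsClosedMap (pullback.diagonal f) := by
      refine (isClosedMap_iff_specializingMap _).mpr ?_
      intro x z' hz'
      have hz : (pullback.diagonal f).base x ⤳ z' := hz'
      by_cases hne : z' = (pullback.diagonal f).base x
      · exact ⟨x, specializes_rfl, hne.symm⟩
      obtain ⟨A, h, hA, hcl, hgen⟩ :=
        Groth.Agent.H73.KA.exists_dvr_through_specialization (pullback.diagonal f) x z' hz hne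
      let g₁ := h ≫ pullback.fst f f
      let g₂ := h ≫ pullback.snd f f
      have hfg : g₁ ≫ f = g₂ ≫ f := by
        simp only [g₁, g₂, Category.assoc, pullback.condition]
      let e : FractionRing A ≃ₐ[A] X.residueField x :=
        FractionRing.algEquiv A (X.residueField x)
      have he : CommRingCat.ofHom (algebraMap A (FractionRing A)) =
          CommRingCat.ofHom A.subtype ≫
            CommRingCat.ofHom (e.symm : X.residueField x →+* FractionRing A) := by
        apply CommRingCat.hom_ext
        apply RingHom.ext
        intro a
        exact (e.symm.commutes a).symm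
      have hg₁ : Spec.map (CommRingCat.ofHom A.subtype) ≫ g₁ = X.fromSpecResidueField x := by
        simp only [g₁]
        rw [← Category.assoc, hgen, Category.assoc, pullback.diagonal_fst, Category.comp_id]
      have hg₂ : Spec.map (CommRingCat.ofHom A.subtype) ≫ g₂ = X.fromSpecResidueField x := by
        simp only [g₂]
        rw [← Category.assoc, hgen, Category.assoc, pullback.diagonal_snd, Category.comp_id]
      have hK : Spec.map (CommRingCat.ofHom (algebraMap A (FractionRing A))) ≫ g₁ =
          Spec.map (CommRingCat.ofHom (algebraMap A (FractionRing A))) ≫ g₂ := by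
        rw [he, Spec.map_comp, Category.assoc, Category.assoc, hg₁, hg₂]
      have h12 : g₁ = g₂ := H A g₁ g₂ hfg hK
      have hh : h = g₁ ≫ pullback.diagonal f := by
        apply pullback.hom_ext
        · rw [Category.assoc, pullback.diagonal_fst, Category.comp_id]
        · rw [Category.assoc, pullback.diagonal_snd, Category.comp_id]
          exact h12.symm
      refine ⟨g₁.base (IsLocalRing.closedPoint A), ?_, ?_⟩
      · have h1 := congrArg (fun q => q.base (IsLocalRing.closedPoint (X.residueField x))) hg₁
        simp only [Scheme.Hom.comp_base, TopCat.comp_app] at h1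
        rw [Scheme.fromSpecResidueField_apply] at h1
        have h2 := (IsLocalRing.specializes_closedPoint
          ((Spec.map (CommRingCat.ofHom A.subtype)).base
            (IsLocalRing.closedPoint (X.residueField x)))).map g₁.continuous
        rw [h1] at h2
        exact h2
      · have h1 := congrArg (fun q => q.base (IsLocalRing.closedPoint A)) hh
        simp only [Scheme.Hom.comp_base, TopCat.comp_app] at h1
        rw [← h1]
        exact hcl
    exact IsClosedImmersion.of_isPreimmersion _ hcm.isClosed_range

end Groth.Agent.S2334
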