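import Groth.Statements.S2336
import Groth.Agent.H18.QAffAmple

set_option autoImplicit false
universe u
open CategoryTheory CategoryTheory.Limits AlgebraicGeometry
open EGA2

namespace Groth.Agent.S2336

/-- Let X be a quasi-compact separated scheme (the source also allows a prescheme with Noetherian
underlying space). Then X is quasi-affine if and only if O_X is an ample invertible module. -/
theorem result (X : Scheme.{u}) [CompactSpace X] [X.IsSeparated] :
    X.IsQuasiAffine ↔ CohB1.IsAmple (Coh.structureModule X) := by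
  constructor
  · intro hq
    refine ⟨Groth.Agent.H8.isInvertible_structureModule X, inferInstance, fun x => ?_⟩
    obtain ⟨U', ⟨r, hr, rfl⟩, hxr, -⟩ := TopologicalSpace.Opens.isBasis_iff_nbhd.mp
      (Scheme.IsQuasiAffine.isBasis_basicOpen X) (show x ∈ (⊤ : X.Opens) from trivial)
    obtain ⟨e⟩ := Groth.Agent.H18.QAffAmple.nonempty_tensorPow_unit_iso (X := X) (0 + 1)
    refine ⟨0, Groth.Agent.H18.QAffAmple.mulHom r ≫ e.symm.hom, ?_, ?_⟩
    · rw [Groth.Agent.H18.TwistAmple.genLocus_comp_iso,
        Groth.Agent.H18.QAffAmple.genLocus_mulHom]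
      exact hxr
    · rw [Groth.Agent.H18.TwistAmple.genLocus_comp_iso,
        Groth.Agent.H18.QAffAmple.genLocus_mulHom]
      exact hr
  · rintro ⟨-, -, h⟩
    refine Scheme.IsQuasiAffine.of_forall_exists_mem_basicOpen X (fun x => ?_)
    obtain ⟨n, s, hx, haff⟩ := h x
    obtain ⟨e⟩ := Groth.Agent.H18.QAffAmple.nonempty_tensorPow_unit_iso (X := X) (n + 1)
    have h1 := Groth.Agent.H18.TwistAmple.genLocus_comp_iso s e
    have h2 := Groth.Agent.H18.QAffAmple.genLocus_unit (s ≫ e.hom)
    rw [h1] at h2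
    refine ⟨(show Γ(X, ⊤) from (s ≫ e.hom).app ⊤
      (show Γ(Coh.structureModule X, ⊤) from (1 : Γ(X, ⊤)))), ?_, ?_⟩
    · exact h2 ▸ haff
    · exact h2 ▸ hx

end Groth.Agent.S2336
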