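import Groth.Statements.S2343
import Mathlib
import Groth.Agent.S0784

set_option autoImplicit false
universe u
open CategoryTheory CategoryTheory.Limits AlgebraicGeometry
open EGA2

namespace Groth.Agent.S2343

open PrimeSpectrum in
/-- Algebraic core: over a henselian local ring, a finite type algebra which is quasi-finite at a
prime over the maximal ideal splits off a finite local piece around that prime. -/
theorem alg_core (A : Type u) [CommRing A] [IsLocalRing A]
    [HenselianRing A (IsLocalRing.maximalIdeal A)]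
    (C : Type u) [CommRing C] (φ : A →+* C) (hφ : φ.FiniteType) (q : Ideal C) [q.IsPrime]
    (hq : q.comap φ = IsLocalRing.maximalIdeal A)
    (hqf : ((algebraMap C (Localization.AtPrime q)).comp φ).QuasiFinite) :
    ∃ e' : C, e' ∉ q ∧ ((algebraMap C (Localization.Away e')).comp φ).Finite ∧
      ∀ s : C, s ∉ q → IsUnit (algebraMap C (Localization.Away e') s) := by
  letI : Algebra A C := φ.toAlgebra
  haveI : Algebra.FiniteType A C := hφ
  haveI : q.LiesOver (IsLocalRing.maximalIdeal A) := ⟨hq.symm⟩
  haveI : Algebra.QuasiFiniteAt A q := by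
    have h3 := hqf.toAlgebra
    convert h3 using 1
    exact Algebra.algebra_ext _ _
      (fun r => (IsScalarTower.algebraMap_apply A C (Localization.AtPrime q) r))
  obtain ⟨S', hS', r, hrq, hr⟩ :=
    Algebra.QuasiFiniteAt.exists_fg_and_exists_notMem_and_awayMap_bijective (R := A) q
  haveI : Module.Finite A S' := ⟨(Submodule.fg_top _).mpr hS'⟩
  let m := IsLocalRing.maximalIdeal A
  let F : Set (PrimeSpectrum S') :=
    (comap (algebraMap A S')) ⁻¹' (zeroLocus (m : Set A))
  have hFmem : ∀ Q : PrimeSpectrum S', Q ∈ F ↔ Q.asIdeal.comap (algebraMap A S') = m := by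
    intro Q
    simp only [F, Set.mem_preimage, mem_zeroLocus, comap_asIdeal, SetLike.coe_subset_coe]
    constructor
    · intro h1
      exact ((IsLocalRing.maximalIdeal.isMaximal A).eq_of_le
        (Ideal.comap_ne_top _ Q.isPrime.ne_top) h1).symm
    · intro h1; rw [h1]
  have hFfin : F.Finite := by
    have h1 : (m.primesOver S').Finite :=
      Algebra.QuasiFinite.finite_primesOver (R := A) (S := S') m
    refine (h1.preimage (f := fun Q : PrimeSpectrum S' => Q.asIdeal)
      (fun Q₁ _ Q₂ _ h => PrimeSpectrum.ext h)).subset ?_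
    intro Q hQ
    exact ⟨Q.isPrime, ⟨((hFmem Q).mp hQ).symm⟩⟩
  have hFclosed : ∀ Q ∈ F, IsClosed ({Q} : Set (PrimeSpectrum S')) := by
    intro Q hQ
    rw [isClosed_singleton_iff_isMaximal]
    haveI := Q.isPrime
    exact Ideal.isMaximal_of_isIntegral_of_isMaximal_comap (R := A) Q.asIdeal
      (by rw [(hFmem Q).mp hQ]; exact IsLocalRing.maximalIdeal.isMaximal A)
  have hcomp : S'.val.toRingHom.comp (algebraMap A S') = φ := by
    ext a; rfl
  let q' : PrimeSpectrum S' := ⟨q.comap S'.val.toRingHom, Ideal.comap_isPrime _ _⟩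
  have hq'F : q' ∈ F := by
    rw [hFmem]
    show (q.comap S'.val.toRingHom).comap (algebraMap A S') = m
    rw [Ideal.comap_comap, hcomp]; exact hq
  have hF'closed : IsClosed (F \ {q'}) := by
    rw [← Set.biUnion_of_singleton (F \ {q'})]
    exact (hFfin.subset Set.sdiff_subset).isClosed_biUnion (fun Q hQ => hFclosed Q hQ.1)
  let U' : Set (PrimeSpectrum S') := (basicOpen r : Set (PrimeSpectrum S')) ∩ (F \ {q'})ᶜ
  have hU' : IsOpen U' := (basicOpen r).isOpen.inter hF'closed.isOpen_compl
  have hrq' : q' ∈ (basicOpen r : Set (PrimeSpectrum S')) := hrq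
  have hU'F : U' ∩ F = {q'} := by
    ext Q
    simp only [U', Set.mem_inter_iff, Set.mem_compl_iff, Set.mem_sdiff, Set.mem_singleton_iff,
      not_and, not_not]
    constructor
    · rintro ⟨⟨_, h2⟩, h3⟩; exact h2 h3
    · rintro rfl; exact ⟨⟨hrq', fun _ => rfl⟩, hq'F⟩
  have hC : IsClosed (U' ∩ (comap (algebraMap A S')) ⁻¹' (zeroLocus (m : Set A))) := by
    show IsClosed (U' ∩ F)
    rw [hU'F]; exact hFclosed q' hq'F
  obtain ⟨e, he, heU, hUe⟩ := Groth.Agent.S0784.exists_idem A m S' U' hU' hC
  have hq'e : q' ∈ (basicOpen e : Set (PrimeSpectrum S')) := by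
    apply hUe
    show q' ∈ U' ∩ F
    rw [hU'F]; rfl
  have hdvd : r ∣ e := by
    have h1 : basicOpen e ≤ basicOpen r := fun Q hQ => (heU hQ).1
    rw [basicOpen_le_basicOpen_iff] at h1
    obtain ⟨n, hn⟩ := h1
    have h2 : e ^ (n + 1) ∈ Ideal.span {r} := by
      rw [pow_succ]; exact Ideal.mul_mem_right _ _ hn
    rw [he.pow_succ_eq] at h2
    exact Ideal.mem_span_singleton.mp h2
  have hbij : Function.Bijective (Localization.awayMap S'.val.toRingHom e) :=
    Localization.awayMap_bijective_of_dvd _ hdvd hr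
  have he'q : S'.val.toRingHom e ∉ q := hq'e
  have hsurj : Function.Surjective (algebraMap S' (Localization.Away e)) :=
    IsLocalization.Away.algebraMap_surjective_of_isIdempotentElem e he
  haveI : Module.Finite A (Localization.Away e) :=
    Module.Finite.of_surjective (IsScalarTower.toAlgHom A S' (Localization.Away e)).toLinearMap
      hsurj
  haveI hfin' : Module.Finite A (Localization.Away (S'.val.toRingHom e)) :=
    Module.Finite.of_surjective (Localization.awayMapₐ S'.val e).toLinearMap hbij.2
  refine ⟨S'.val.toRingHom e, he'q, ?_, ?_⟩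
  · rw [show (algebraMap C (Localization.Away (S'.val.toRingHom e))).comp φ =
        algebraMap A (Localization.Away (S'.val.toRingHom e)) from
      (IsScalarTower.algebraMap_eq A C _).symm, RingHom.finite_algebraMap]
    exact hfin'
  · intro s hs
    by_contra hnu
    obtain ⟨M, hM, hsM⟩ := exists_max_ideal_of_mem_nonunits hnu
    haveI := hM
    let Q : Ideal C := M.comap (algebraMap C (Localization.Away (S'.val.toRingHom e)))
    haveI : Q.IsPrime := Ideal.comap_isPrime _ _
    have hsQ : s ∈ Q := hsM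
    have he'Q : S'.val.toRingHom e ∉ Q := by
      intro h
      exact hM.ne_top (Ideal.eq_top_of_isUnit_mem _ h
        (IsLocalization.Away.algebraMap_isUnit (S'.val.toRingHom e)))
    have hQm : Q.comap φ = m := by
      haveI : Algebra.IsIntegral A (Localization.Away (S'.val.toRingHom e)) := inferInstance
      have h1 : (M.comap (algebraMap A (Localization.Away (S'.val.toRingHom e)))).IsMaximal :=
        Ideal.isMaximal_comap_of_isIntegral_of_isMaximal (R := A) M
      have h2 := IsLocalRing.eq_maximalIdeal h1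
      refine Eq.trans ?_ h2
      show (M.comap (algebraMap C _)).comap φ = _
      rw [Ideal.comap_comap, show (algebraMap C (Localization.Away (S'.val.toRingHom e))).comp φ =
        algebraMap A (Localization.Away (S'.val.toRingHom e)) from
        (IsScalarTower.algebraMap_eq A C _).symm]
    let Q' : PrimeSpectrum S' := ⟨Q.comap S'.val.toRingHom, Ideal.comap_isPrime _ _⟩
    have hQ'F : Q' ∈ F := by
      rw [hFmem]
      show (Q.comap S'.val.toRingHom).comap (algebraMap A S') = m
      rw [Ideal.comap_comap, hcomp]; exact hQm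
    have hQ'e : Q' ∈ (basicOpen e : Set (PrimeSpectrum S')) := he'Q
    have hQ'q' : Q' = q' := by
      have h1 : Q' ∈ U' ∩ F := ⟨heU hQ'e, hQ'F⟩
      rw [hU'F] at h1; exact h1
    obtain ⟨b, k, hbk⟩ := Localization.awayMap_surjective_iff.mp hr.2 s
    have hbQ : b ∈ Q'.asIdeal := by
      show S'.val.toRingHom b ∈ Q
      rw [hbk]; exact Q.mul_mem_left _ hsQ
    rw [hQ'q'] at hbQ
    have h3 : S'.val.toRingHom r ^ k * s ∈ q := by rw [← hbk]; exact hbQ
    rcases Ideal.IsPrime.mem_or_mem ‹q.IsPrime› h3 with h | h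
    · exact hrq (Ideal.IsPrime.mem_of_pow_mem ‹q.IsPrime› k h)
    · exact hs h


/-- Let A be a complete Noetherian local ring, X a separated scheme locally of finite type over Spec A,
and x a point of X over the closed point which is isolated in its fibre. Then the local ring of X at
x is a finite A-module and the canonical morphism Spec O_{X,x} → X is both an open and a closed
immersion (X is the disjoint sum of Spec O_{X,x} and another open subscheme). -/
theorem result (A : Type u) [CommRing A] [IsLocalRing A] [IsNoetherianRing A]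
    [IsAdicComplete (IsLocalRing.maximalIdeal A) A] (X : Scheme.{u}) (f : X ⟶ Spec (CommRingCat.of A)) [LocallyOfFiniteType f] [IsSeparated f]
    (x : X) (hx : f.base x = IsLocalRing.closedPoint A)
    (hisol : IsOpen ((Subtype.val : (f.base ⁻¹' {IsLocalRing.closedPoint A}) → X) ⁻¹' {x})) :
    ((Scheme.ΓSpecIso (CommRingCat.of A)).inv ≫ f.appTop ≫ X.presheaf.germ ⊤ x trivial).hom.Finite ∧ IsOpenImmersion (X.fromSpecStalk x) ∧ IsClosedImmersion (X.fromSpecStalk x) := by
  have hqf : f.QuasiFiniteAt x := by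
    rw [Scheme.Hom.quasiFiniteAt_iff_isOpen_singleton_asFiber]
    rw [← (f.fiberHomeo (f x)).isOpen_image]
    simp only [Set.image_singleton, Scheme.Hom.asFiber, Homeomorph.apply_symm_apply]
    have hisol' : IsOpen ((Subtype.val : (f.base ⁻¹' {f.base x}) → X) ⁻¹' {x}) := by
      rw [hx]; exact hisol
    convert hisol' using 1
    ext ⟨z, hz⟩
    simp [Subtype.ext_iff]
  obtain ⟨_, ⟨(W : X.Opens), hW, rfl⟩, hxW, -⟩ :=
    X.isBasis_affineOpens.exists_subset_of_mem_open (Set.mem_univ x) isOpen_univ
  have hWtop : W ≤ f ⁻¹ᵁ ⊤ := le_top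
  have htop : IsAffineOpen (⊤ : (Spec (CommRingCat.of A)).Opens) := isAffineOpen_top _
  let φ : CommRingCat.of A ⟶ Γ(X, W) :=
    (Scheme.ΓSpecIso (CommRingCat.of A)).inv ≫ f.appLE ⊤ W hWtop
  have hSpecφ : hW.fromSpec ≫ f = Spec.map φ := by
    rw [← htop.SpecMap_appLE_fromSpec f hW hWtop, IsAffineOpen.fromSpec_top,
      Scheme.isoSpec_Spec_inv, ← Spec.map_comp]
  let q := (hW.primeIdealOf ⟨x, hxW⟩).asIdeal
  haveI : q.IsPrime := (hW.primeIdealOf ⟨x, hxW⟩).isPrime
  have hqm : q.comap φ.hom = IsLocalRing.maximalIdeal A := by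
    have h1 : (Spec.map φ).base (hW.primeIdealOf ⟨x, hxW⟩) = IsLocalRing.closedPoint A := by
      rw [← hSpecφ]
      show f.base (hW.fromSpec.base (hW.primeIdealOf ⟨x, hxW⟩)) = _
      rw [hW.fromSpec_primeIdealOf ⟨x, hxW⟩]; exact hx
    exact congrArg PrimeSpectrum.asIdeal h1
  have hinvsurj : Function.Surjective (Scheme.ΓSpecIso (CommRingCat.of A)).inv.hom :=
    (ConcreteCategory.bijective_of_isIso (Scheme.ΓSpecIso (CommRingCat.of A)).inv).2
  have hφft : φ.hom.FiniteType := by
    have h1 : (f.appLE ⊤ W hWtop).hom.FiniteType := f.finiteType_appLE htop hW hWtop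
    show ((f.appLE ⊤ W hWtop).hom.comp (Scheme.ΓSpecIso (CommRingCat.of A)).inv.hom).FiniteType
    exact h1.comp (RingHom.FiniteType.of_surjective _ hinvsurj)
  have hφqf : ((algebraMap Γ(X, W) (Localization.AtPrime q)).comp φ.hom).QuasiFinite := by
    have h1 : (f.appLE ⊤ W hWtop).hom.QuasiFiniteAt q := hqf.quasiFiniteAt hW htop hWtop hxW
    have h2 : ((algebraMap Γ(X, W) (Localization.AtPrime q)).comp
        (f.appLE ⊤ W hWtop).hom).QuasiFinite := by
      letI := (f.appLE ⊤ W hWtop).hom.toAlgebra
      have h1' : Algebra.QuasiFinite Γ(Spec (CommRingCat.of A), ⊤) (Localization.AtPrime q) := h1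
      rw [show (algebraMap Γ(X, W) (Localization.AtPrime q)).comp (f.appLE ⊤ W hWtop).hom =
        algebraMap Γ(Spec (CommRingCat.of A), ⊤) (Localization.AtPrime q) from
        (IsScalarTower.algebraMap_eq _ _ _).symm, RingHom.quasiFinite_algebraMap]
      exact h1'
    show (((algebraMap Γ(X, W) (Localization.AtPrime q)).comp (f.appLE ⊤ W hWtop).hom).comp
      (Scheme.ΓSpecIso (CommRingCat.of A)).inv.hom).QuasiFinite
    exact h2.comp (RingHom.QuasiFinite.of_finite (RingHom.Finite.of_surjective _ hinvsurj))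
  obtain ⟨e', he'q, hfin, hunits⟩ := alg_core A Γ(X, W) φ.hom hφft q hqm hφqf
  letI algO : Algebra Γ(X, W) (X.presheaf.stalk x) := (X.presheaf.germ W x hxW).hom.toAlgebra
  haveI locAt : IsLocalization.AtPrime (X.presheaf.stalk x) q := hW.isLocalization_stalk ⟨x, hxW⟩
  haveI locAt' : IsLocalization.AtPrime (Localization.Away e') q :=
    IsLocalization.of_le (M := Submonoid.powers e') (S := Localization.Away e') q.primeCompl
      (Submonoid.powers_le.mpr he'q) (fun r hr => hunits r hr)
  let eqv : (X.presheaf.stalk x) ≃ₐ[Γ(X, W)] Localization.Away e' :=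
    IsLocalization.algEquiv q.primeCompl _ _
  haveI : IsLocalization.Away e' (X.presheaf.stalk x) :=
    IsLocalization.isLocalization_of_algEquiv (Submonoid.powers e') eqv.symm
  haveI oi1 : IsOpenImmersion (Spec.map (CommRingCat.ofHom
      (algebraMap Γ(X, W) (X.presheaf.stalk x)))) := IsOpenImmersion.of_isLocalization e'
  have hgerm : CommRingCat.ofHom (algebraMap Γ(X, W) (X.presheaf.stalk x)) =
      X.presheaf.germ W x hxW := rfl
  haveI oi2 : IsOpenImmersion (hW.fromSpecStalk hxW) := by
    dsimp only [IsAffineOpen.fromSpecStalk]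
    rw [← hgerm]; infer_instance
  haveI oi : IsOpenImmersion (X.fromSpecStalk x) := by
    rw [← hW.fromSpecStalk_eq_fromSpecStalk hxW]; exact oi2
  have hρ : (Scheme.ΓSpecIso (CommRingCat.of A)).inv ≫ f.appTop ≫ X.presheaf.germ ⊤ x trivial =
      φ ≫ X.presheaf.germ W x hxW := by
    dsimp only [φ]
    rw [Category.assoc]
    congr 1
    rw [Scheme.Hom.appLE, Category.assoc, X.presheaf.germ_res]
    rfl
  have hfinρ : ((Scheme.ΓSpecIso (CommRingCat.of A)).inv ≫ f.appTop ≫
      X.presheaf.germ ⊤ x trivial).hom.Finite := by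
    rw [hρ]
    have h1 : (φ ≫ X.presheaf.germ W x hxW).hom =
        (eqv.symm : Localization.Away e' →+* X.presheaf.stalk x).comp
          ((algebraMap Γ(X, W) (Localization.Away e')).comp φ.hom) := by
      ext a
      show (X.presheaf.germ W x hxW).hom (φ.hom a) = eqv.symm (algebraMap _ _ (φ.hom a))
      rw [AlgEquiv.commutes]; rfl
    rw [h1]
    exact (RingHom.Finite.of_surjective _ eqv.symm.surjective).comp hfin
  have hcomp : X.fromSpecStalk x ≫ f = Spec.map ((Scheme.ΓSpecIso (CommRingCat.of A)).inv ≫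
      f.appTop ≫ X.presheaf.germ ⊤ x trivial) := by
    rw [hρ, ← hW.fromSpecStalk_eq_fromSpecStalk hxW]
    dsimp only [IsAffineOpen.fromSpecStalk]
    rw [Category.assoc, hSpecφ, ← Spec.map_comp]
  haveI : IsFinite (X.fromSpecStalk x ≫ f) := by
    rw [hcomp, IsFinite.SpecMap_iff]; exact hfinρ
  haveI : IsProper (X.fromSpecStalk x) := IsProper.of_comp (X.fromSpecStalk x) f
  haveI ci : IsClosedImmersion (X.fromSpecStalk x) :=
    (IsClosedImmersion.iff_isProper_and_mono (f := X.fromSpecStalk x)).mpr
      ⟨inferInstance, inferInstance⟩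
  exact ⟨hfinρ, oi, ci⟩

end Groth.Agent.S2343
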