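import Groth.Statements.S2344
import Groth.Agent.H73.CodimOneSection

set_option autoImplicit false
universe u
open CategoryTheory CategoryTheory.Limits AlgebraicGeometry
open EGA2

namespace Groth.Agent.S2344

/-- Let X be a normal algebraic curve over k (separated, of finite type, nonempty, local rings at closed
points of dimension one, all local rings integrally closed domains), Y proper over k, U a dense open
of X and g : U → Y a k-morphism. Then g extends uniquely to a k-morphism X → Y. -/
theorem result (k : Type u) [Field k] (X Y : Scheme.{u}) [X.Over (Spec (CommRingCat.of k))] [Y.Over (Spec (CommRingCat.of k))]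
    [LocallyOfFiniteType (X ↘ (Spec (CommRingCat.of k)))] [QuasiCompact (X ↘ (Spec (CommRingCat.of k)))] [IsSeparated (X ↘ (Spec (CommRingCat.of k)))] [Nonempty X] (hcurve : (∀ x : X, IsClosed ({x} : Set X) → ringKrullDim (X.presheaf.stalk x) = 1)) (hnorm : Pi1.IsNormalScheme X)
    [IsProper (Y ↘ (Spec (CommRingCat.of k)))] (U : X.Opens) (hU : Dense (U : Set X)) (g : (U : Scheme.{u}) ⟶ Y)
    (hg : g ≫ (Y ↘ (Spec (CommRingCat.of k))) = U.ι ≫ (X ↘ (Spec (CommRingCat.of k)))) :
    ∃! g' : X ⟶ Y, U.ι ≫ g' = g ∧ g' ≫ (Y ↘ (Spec (CommRingCat.of k))) = X ↘ (Spec (CommRingCat.of k)) := by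
  have hLN : IsLocallyNoetherian X :=
    LocallyOfFiniteType.isLocallyNoetherian (X ↘ (Spec (CommRingCat.of k)))
  have hcpt : CompactSpace X :=
    QuasiCompact.compactSpace_of_compactSpace (X ↘ (Spec (CommRingCat.of k)))
  have hdom : ∀ x : X, IsDomain (X.presheaf.stalk x) := fun x => (hnorm x).1
  have hic : ∀ x : X, IsIntegrallyClosed (X.presheaf.stalk x) := fun x => (hnorm x).2
  have hred : IsReduced X := isReduced_of_isReduced_stalk X
  have hdim : ∀ x : X, ringKrullDim (X.presheaf.stalk x) ≤ 1 := by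
    intro x
    obtain ⟨z, hz, hzcl⟩ := IsClosed.exists_closed_singleton (S := closure {x}) isClosed_closure
      ⟨x, subset_closure rfl⟩
    have hxz : x ⤳ z := specializes_iff_mem_closure.mpr hz
    rw [← hcurve z hzcl, ringKrullDim_stalk_eq_coheight, ringKrullDim_stalk_eq_coheight]
    exact_mod_cast Order.coheight_anti (show z ≤ x from hxz)
  have hval : ∀ x : X, ValuationRing (X.presheaf.stalk x) := by
    intro x
    have h31 : (IsIntegrallyClosed (X.presheaf.stalk x) ∧
        ∀ P : Ideal (X.presheaf.stalk x), P ≠ ⊥ → P.IsPrime →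
          P = IsLocalRing.maximalIdeal (X.presheaf.stalk x)) →
        ValuationRing (X.presheaf.stalk x) :=
      ((tfae_of_isNoetherianRing_of_isLocalRing_of_isDomain
        (X.presheaf.stalk x)).out 3 1).mp
    refine h31 ⟨hic x, ?_⟩
    intro P hP0 hP
    have : Ring.KrullDimLE 1 (X.presheaf.stalk x) := (Ring.krullDimLE_iff).mpr (hdim x)
    exact IsLocalRing.eq_maximalIdeal (Ideal.IsPrime.isMaximal_of_ne_bot hP hP0)
  let q := pullback.snd (Y ↘ (Spec (CommRingCat.of k))) (X ↘ (Spec (CommRingCat.of k)))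
  let h : (U : Scheme.{u}) ⟶ pullback (Y ↘ (Spec (CommRingCat.of k))) (X ↘ (Spec (CommRingCat.of k))) :=
    pullback.lift g U.ι hg
  have hh : h ≫ q = U.ι := pullback.lift_snd _ _ _
  have hcl : IsClosedMap q.base := q.isClosedMap
  have key : ∀ x ∈ (Set.univ : Set X),
      ∃ (U' : X.Opens) (hUU' : U ≤ U') (h' : (U' : Scheme.{u}) ⟶ _),
        x ∈ U' ∧ h' ≫ q = U'.ι ∧ X.homOfLE hUU' ≫ h' = h := by
    intro x _
    exact Groth.Agent.H73.RatExt.exists_extension_at_of_isClosedMap q hcl U hU h hh x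
  obtain ⟨U'', hUU'', h'', hT, hq'', hext⟩ :=
    Groth.Agent.H73.RatExt.exists_extension_of_forall (q := q) hU hh _ key
  have hU''top : U'' = ⊤ := by
    rw [_root_.eq_top_iff]
    intro x _
    exact hT (Set.mem_univ x)
  subst hU''top
  have hdomU : IsDominant U.ι := ⟨by rw [DenseRange, Scheme.Opens.range_ι]; exact hU⟩
  have htop : (Scheme.topIso X).inv ≫ (⊤ : X.Opens).ι = 𝟙 X := by
    rw [← Scheme.topIso_hom, Iso.inv_hom_id]
  have hUtop : U.ι ≫ (Scheme.topIso X).inv = X.homOfLE hUU'' := by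
    rw [← cancel_mono (⊤ : X.Opens).ι, Category.assoc, htop, Category.comp_id, Scheme.homOfLE_ι]
  refine ⟨(Scheme.topIso X).inv ≫ h'' ≫ pullback.fst _ _, ⟨?_, ?_⟩, ?_⟩
  · rw [← Category.assoc, hUtop, ← Category.assoc, hext]
    exact pullback.lift_fst _ _ _
  · rw [Category.assoc, Category.assoc, pullback.condition]
    change (Scheme.topIso X).inv ≫ h'' ≫ q ≫ _ = _
    rw [← Category.assoc h'', hq'', ← Category.assoc, htop, Category.id_comp]
  · rintro g₂ ⟨hg₂U, hg₂S⟩
    refine ext_of_isDominant_of_isSeparated (Y ↘ (Spec (CommRingCat.of k))) ?_ U.ι ?_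
    · rw [hg₂S, Category.assoc, Category.assoc, pullback.condition]
      change _ = (Scheme.topIso X).inv ≫ h'' ≫ q ≫ _
      rw [← Category.assoc h'', hq'', ← Category.assoc, htop, Category.id_comp]
    · rw [hg₂U, ← Category.assoc, hUtop, ← Category.assoc, hext]
      exact (pullback.lift_fst _ _ _).symm

end Groth.Agent.S2344
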