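import Groth.Statements.S4454
import Groth.Agent.H73.NormzFF

set_option autoImplicit false
universe u
open CategoryTheory CategoryTheory.Limits AlgebraicGeometry
open EGA2

namespace Groth.Agent.S4454

/-- Case of an integral curve and a single field: let X be an integral algebraic curve over a field k, K
a finite extension of its field of rational functions and X' the integral closure of X in K (the
normalization of X along the morphism g : Spec K ⟶ X through the generic point). Then the canonical
morphism X' ⟶ X is finite and X' is a normal algebraic curve over k (local rings integrally closed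
domains, of dimension one at closed points). -/
theorem result (k : Type u) [Field k] (X : Scheme.{u})
    [X.Over (Spec (CommRingCat.of k))] [LocallyOfFiniteType (X ↘ (Spec (CommRingCat.of k)))]
    [QuasiCompact (X ↘ (Spec (CommRingCat.of k)))] [IsSeparated (X ↘ (Spec (CommRingCat.of k)))] [IsIntegral X]
    (hX : ∀ x : X, IsClosed ({x} : Set X) → ringKrullDim (X.presheaf.stalk x) = 1)
    (K : Type u) [Field K] (φ : X.functionField →+* K) (hφ : φ.Finite) (g : Spec (CommRingCat.of K) ⟶ X)
    (hg : g = Spec.map (CommRingCat.ofHom φ) ≫ X.fromSpecStalk (genericPoint X)) [QuasiCompact g] [QuasiSeparated g] :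
    IsFinite g.fromNormalization ∧ Pi1.IsNormalScheme g.normalization ∧
      ∀ x' : g.normalization, IsClosed ({x'} : Set g.normalization) → ringKrullDim (g.normalization.presheaf.stalk x') = 1 := by
  subst hg
  have hgη : (Spec.map (CommRingCat.ofHom φ) ≫ X.fromSpecStalk (genericPoint X)).base
      (IsLocalRing.closedPoint K) = genericPoint X := Groth.Agent.H73.Normz.specGen_closedPoint φ
  have hfin : IsFinite (Spec.map (CommRingCat.ofHom φ) ≫
      X.fromSpecStalk (genericPoint X)).fromNormalization :=
    Groth.Agent.H73.Normz.isFinite_fromNormalization_of_field k φ hφ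
  refine ⟨hfin, fun x' => Groth.Agent.H73.Normz.stalk_isDomain_isIntegrallyClosed _ hgη x', ?_⟩
  intro x' hx'
  set g := Spec.map (CommRingCat.ofHom φ) ≫ X.fromSpecStalk (genericPoint X) with hgdef
  have hcl : IsClosed ({g.fromNormalization.base x'} : Set X) := by
    have := g.fromNormalization.isClosedMap _ hx'
    rwa [Set.image_singleton] at this
  have h1 : ringKrullDim (X.presheaf.stalk (g.fromNormalization.base x')) = 1 := hX _ hcl
  rw [ringKrullDim_stalk_eq_coheight] at h1 ⊢
  have h1' : Order.coheight (g.fromNormalization.base x') = 1 := by exact_mod_cast h1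
  have h2 : Order.coheight x' ≤ Order.coheight (g.fromNormalization.base x') :=
    Groth.Agent.H73.Normz.coheight_le_of_isIntegralHom g.fromNormalization x'
  have hne : x' ≠ genericPoint g.normalization := by
    intro h
    rw [h, Groth.Agent.H73.Normz.fromNormalization_genericPoint g hgη] at hcl
    exact Groth.Agent.H73.Curve.not_isClosed_genericPoint hX hcl
  have hsp : genericPoint g.normalization ⤳ x' :=
    (genericPoint_spec g.normalization).specializes trivial
  have hlt : x' < genericPoint g.normalization := by
    refine lt_iff_le_not_ge.mpr ⟨hsp, fun h => hne ?_⟩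
    exact (Specializes.antisymm h hsp).eq
  have h3 := Order.coheight_add_one_le hlt
  have h4 : (1 : ℕ∞) ≤ Order.coheight x' := le_trans le_add_self h3
  have h5 : Order.coheight x' = 1 := le_antisymm (h1' ▸ h2) h4
  rw [h5]
  rfl

end Groth.Agent.S4454
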