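import Groth.Statements.S2345
import Groth.Agent.S4454
import Groth.Agent.H73.CompleteCurve

set_option autoImplicit false
universe u
open CategoryTheory CategoryTheory.Limits AlgebraicGeometry
attribute [local instance] Curv2.stalkAlgebra
open EGA2

namespace Groth.Agent.S2345

/-- Let K be a finitely generated field extension of k of transcendence degree one. Then there is an
integral normal algebraic curve X, proper over k, whose function field is isomorphic to K compatibly
with the maps from k. -/
theorem result (k : Type u) [Field k] (K : Type u) [Field K] [Algebra k K]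
    (hfg : (⊤ : IntermediateField k K).FG) (htr : Algebra.trdeg k K = 1) :
    ∃ (X : Scheme.{u}) (_ : X.Over (Spec (CommRingCat.of k))) (_ : IsIntegral X), IsProper (X ↘ (Spec (CommRingCat.of k))) ∧ Pi1.IsNormalScheme X ∧
      (∀ x : X, IsClosed ({x} : Set X) → ringKrullDim (X.presheaf.stalk x) = 1) ∧
      ∃ e : X.presheaf.stalk (genericPoint X) ≃+* K, ∀ c : k, e (algebraMap k (X.presheaf.stalk (genericPoint X)) c) = algebraMap k K c := by
  classical
  have htrans : Algebra.Transcendental k K :=
    _root_.trdeg_ne_zero_iff.mp (by rw [htr]; exact one_ne_zero)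
  obtain ⟨τ, hτ⟩ := htrans.transcendental
  let P : Scheme.{u} := Groth.Agent.H73.ProjLine.P1 k
  letI overP : P.Over (Spec (CommRingCat.of k)) := ⟨Groth.Agent.H73.ProjLine.toSpec k⟩
  have hprop : IsProper (P ↘ Spec (CommRingCat.of k)) :=
    inferInstanceAs (IsProper (Groth.Agent.H73.ProjLine.toSpec k))
  have hgpt := Groth.Agent.H73.ProjLine.gK_closedPoint k K τ hτ
  let φ : P.functionField →+* K :=
    Groth.Agent.H73.CompleteCurve.phiOf (Groth.Agent.H73.ProjLine.gK k K τ) hgpt
  have hgg : Groth.Agent.H73.ProjLine.gK k K τ =
      Spec.map (CommRingCat.ofHom φ) ≫ P.fromSpecStalk (genericPoint P) :=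
    Groth.Agent.H73.CompleteCurve.eq_specMap_phiOf _ hgpt
  have hφ : φ.Finite := by
    letI algkF : Algebra k P.functionField := (Curv2.stalkMap k P (genericPoint P)).toAlgebra
    letI algFK : Algebra P.functionField K := φ.toAlgebra
    have htower : IsScalarTower k P.functionField K := IsScalarTower.of_algebraMap_eq fun c => by
      change algebraMap k K c = φ (Curv2.stalkMap k P (genericPoint P) c)
      unfold Curv2.stalkMap
      rw [RingHom.comp_apply, Groth.Agent.H73.CompleteCurve.phiOf_germ_top]
      exact (Groth.Agent.H73.CompleteCurve.stalkClosedPointTo_toGlobal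
        (Groth.Agent.H73.ProjLine.gK k K τ) (P ↘ Spec (CommRingCat.of k))
          (Groth.Agent.H73.ProjLine.gK_toSpec k K τ) c).symm
    have hmem : τ ∈ Set.range (algebraMap P.functionField K) := by
      obtain ⟨b, hb⟩ := Groth.Agent.H73.ProjLine.theta_mem_range k K τ
        (Groth.Agent.H73.ProjLine.tt k 0 1)
      rw [Groth.Agent.H73.ProjLine.theta_tt] at hb
      obtain ⟨b', hb'⟩ := Groth.Agent.H73.CompleteCurve.exists_phiOf_eq
        (Groth.Agent.H73.ProjLine.gK k K τ) hgpt b
      exact ⟨b', hb'.trans hb⟩
    exact Groth.Agent.H73.CompleteCurve.finite_of_trdeg_one k P.functionField K hfg htr τ hτ hmem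
  set g : Spec (CommRingCat.of K) ⟶ P :=
    Spec.map (CommRingCat.ofHom φ) ≫ P.fromSpecStalk (genericPoint P) with hgdef
  have hgk : g ≫ Groth.Agent.H73.ProjLine.toSpec k =
      Spec.map (CommRingCat.ofHom (algebraMap k K)) := by
    rw [← hgg]; exact Groth.Agent.H73.ProjLine.gK_toSpec k K τ
  have hgη : g.base (IsLocalRing.closedPoint K) = genericPoint P :=
    Groth.Agent.H73.Normz.specGen_closedPoint φ
  haveI hqc : QuasiCompact g := inferInstance
  haveI hqs : QuasiSeparated g := inferInstance
  have hX : ∀ x : P, IsClosed ({x} : Set P) → ringKrullDim (P.presheaf.stalk x) = 1 :=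
    Groth.Agent.H73.ProjLine.ringKrullDim_stalk_of_isClosed k
  obtain ⟨hfin, hnorm, hcl⟩ := Groth.Agent.S4454.result k P hX K φ hφ g rfl
  let overX' : g.normalization.Over (Spec (CommRingCat.of k)) :=
    ⟨g.fromNormalization ≫ Groth.Agent.H73.ProjLine.toSpec k⟩
  refine ⟨g.normalization, overX', inferInstance, ?_, hnorm, hcl, ?_⟩
  · change IsProper (g.fromNormalization ≫ Groth.Agent.H73.ProjLine.toSpec k)
    infer_instance
  · have h' : g.toNormalization.base (IsLocalRing.closedPoint K) = genericPoint g.normalization :=
      Groth.Agent.H73.Normz.toNormalization_closedPoint g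
    let e₀ : g.normalization.functionField →+* K :=
      Groth.Agent.H73.CompleteCurve.phiOf g.toNormalization h'
    have hinj : Function.Injective e₀ := e₀.injective
    have hsurj : Function.Surjective e₀ := by
      intro y
      obtain ⟨U, hU, -, hη⟩ := Groth.Agent.H73.Normz.exists_affine_nhd g hgη (genericPoint P)
      have hne : Nonempty U := ⟨⟨_, hη⟩⟩
      letI algAB := (g.fromNormalization.app U).hom.toAlgebra
      letI algAK := (Groth.Agent.H73.Normz.chartρ g hη).toAlgebra
      letI algBK := (Groth.Agent.H73.Normz.chartι g hη).toAlgebra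
      obtain ⟨htower, hicl⟩ := Groth.Agent.H73.Normz.chart_isIntegralClosure g hU hη
      letI algFK : Algebra P.functionField K := φ.toAlgebra
      have hfd : FiniteDimensional P.functionField K := hφ
      have htower2 : IsScalarTower Γ(P, U) P.functionField K :=
        IsScalarTower.of_algebraMap_eq' (Groth.Agent.H73.Normz.chartρ_spec φ hη)
      have hfrac : IsFractionRing Γ(P, U) P.functionField :=
        functionField_isFractionRing_of_isAffineOpen P U hU
      have hdomC : IsDomain Γ(g.normalization, g.fromNormalization ⁻¹ᵁ U) :=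
        (Groth.Agent.H73.Normz.chart_isDomain_isIntegrallyClosed g hU hη).1
      have hfracC : IsFractionRing Γ(g.normalization, g.fromNormalization ⁻¹ᵁ U) K :=
        IsIntegralClosure.isFractionRing_of_finite_extension Γ(P, U) P.functionField K _
      obtain ⟨a, b, hb, rfl⟩ := IsFractionRing.div_surjective
        (A := Γ(g.normalization, g.fromNormalization ⁻¹ᵁ U)) y
      have hτV : g.toNormalization.base (IsLocalRing.closedPoint K) ∈
          g.fromNormalization ⁻¹ᵁ U := by
        change g.fromNormalization.base (g.toNormalization.base (IsLocalRing.closedPoint K)) ∈ U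
        rw [← Scheme.Hom.comp_apply, Scheme.Hom.toNormalization_fromNormalization]
        exact hη
      have hη'V : genericPoint g.normalization ∈ g.fromNormalization ⁻¹ᵁ U := h' ▸ hτV
      have key : ∀ s : Γ(g.normalization, g.fromNormalization ⁻¹ᵁ U),
          e₀ ((g.normalization.presheaf.germ (g.fromNormalization ⁻¹ᵁ U)
            (genericPoint g.normalization) hη'V).hom s) =
            Groth.Agent.H73.Normz.chartι g hη s := by
        intro s
        rw [Groth.Agent.H73.CompleteCurve.phiOf_germ,
          Groth.Agent.H73.Normz.chartι_eq_germ_stalkClosedPointTo g hη hτV]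
        rfl
      refine ⟨(g.normalization.presheaf.germ (g.fromNormalization ⁻¹ᵁ U)
            (genericPoint g.normalization) hη'V).hom a /
          (g.normalization.presheaf.germ (g.fromNormalization ⁻¹ᵁ U)
            (genericPoint g.normalization) hη'V).hom b, ?_⟩
      rw [map_div₀, key, key]
      rfl
    refine ⟨RingEquiv.ofBijective e₀ ⟨hinj, hsurj⟩, fun c => ?_⟩
    change e₀ (Curv2.stalkMap k g.normalization (genericPoint g.normalization) c) = _
    unfold Curv2.stalkMap
    rw [RingHom.comp_apply, Groth.Agent.H73.CompleteCurve.phiOf_germ_top]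
    refine Groth.Agent.H73.CompleteCurve.stalkClosedPointTo_toGlobal
      g.toNormalization (g.normalization ↘ Spec (CommRingCat.of k)) ?_ c
    change g.toNormalization ≫ g.fromNormalization ≫ Groth.Agent.H73.ProjLine.toSpec k = _
    rw [Scheme.Hom.toNormalization_fromNormalization_assoc, hgk]

end Groth.Agent.S2345
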