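import Groth.Statements.S2346
import Groth.Agent.H73.CurvePoints

set_option autoImplicit false
universe u
open CategoryTheory CategoryTheory.Limits AlgebraicGeometry
open EGA2

namespace Groth.Agent.S2346

/-- Let X and Y be irreducible algebraic curves over k (separated, of finite type, local rings at closed
points one-dimensional) and f : X → Y a k-morphism. Then f is dominant if and only if every fibre
f⁻¹(y) is a finite set. -/
theorem result (k : Type u) [Field k] (X Y : Scheme.{u}) [X.Over (Spec (CommRingCat.of k))] [Y.Over (Spec (CommRingCat.of k))]
    [LocallyOfFiniteType (X ↘ (Spec (CommRingCat.of k)))] [QuasiCompact (X ↘ (Spec (CommRingCat.of k)))] [IsSeparated (X ↘ (Spec (CommRingCat.of k)))] [LocallyOfFiniteType (Y ↘ (Spec (CommRingCat.of k)))] [QuasiCompact (Y ↘ (Spec (CommRingCat.of k)))] [IsSeparated (Y ↘ (Spec (CommRingCat.of k)))] [IrreducibleSpace X] [IrreducibleSpace Y]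
    (hX : (∀ x : X, IsClosed ({x} : Set X) → ringKrullDim (X.presheaf.stalk x) = 1)) (hY : (∀ x : Y, IsClosed ({x} : Set Y) → ringKrullDim (Y.presheaf.stalk x) = 1))
    (f : X ⟶ Y) (hf : f ≫ (Y ↘ (Spec (CommRingCat.of k))) = X ↘ (Spec (CommRingCat.of k))) :
    IsDominant f ↔ ∀ y : Y, (f.base ⁻¹' {y}).Finite := by
  have hLNX : IsLocallyNoetherian X :=
    LocallyOfFiniteType.isLocallyNoetherian (X ↘ (Spec (CommRingCat.of k)))
  have hcptX : CompactSpace X :=
    QuasiCompact.compactSpace_of_compactSpace (X ↘ (Spec (CommRingCat.of k)))
  have hcptY : CompactSpace Y :=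
    QuasiCompact.compactSpace_of_compactSpace (Y ↘ (Spec (CommRingCat.of k)))
  have hNX : IsNoetherian X := { }
  have hJX : JacobsonSpace X :=
    LocallyOfFiniteType.jacobsonSpace (X ↘ (Spec (CommRingCat.of k)))
  have hJY : JacobsonSpace Y :=
    LocallyOfFiniteType.jacobsonSpace (Y ↘ (Spec (CommRingCat.of k)))
  have hflft : LocallyOfFiniteType f := by
    have : LocallyOfFiniteType (f ≫ (Y ↘ (Spec (CommRingCat.of k)))) := by rw [hf]; infer_instance
    exact locallyOfFiniteType_of_comp f (Y ↘ (Spec (CommRingCat.of k)))
  constructor
  · intro hdom
    have hgen : f.base (genericPoint X) = genericPoint Y := by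
      have h1 : IsGenericPoint (f.base (genericPoint X)) (closure (Set.range f.base)) := by
        have := (genericPoint_spec X).image f.base.hom.continuous
        rwa [Set.image_univ] at this
      rw [hdom.denseRange.closure_range] at h1
      exact ((genericPoint_spec Y).eq h1).symm
    intro y
    rcases Groth.Agent.H73.Curve.eq_genericPoint_or_isClosed hY y with hy | hy
    · refine (Set.finite_singleton (genericPoint X)).subset ?_
      intro x hx
      rcases Groth.Agent.H73.Curve.eq_genericPoint_or_isClosed hX x with hx' | hx'
      · exact hx'
      · exfalso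
        have h1 : IsClosed ({f.base x} : Set Y) :=
          f.closePoints_subset_preimage_closedPoints hx'
        rw [show f.base x = y from hx, hy] at h1
        exact Groth.Agent.H73.Curve.not_isClosed_genericPoint hY h1
    · refine Groth.Agent.H73.Curve.finite_of_isClosed hX (hy.preimage f.base.hom.continuous) ?_
      intro hmem
      have h1 : f.base (genericPoint X) = y := hmem
      rw [hgen] at h1
      rw [← h1] at hy
      exact Groth.Agent.H73.Curve.not_isClosed_genericPoint hY hy
  · intro hfin
    have hgen : f.base (genericPoint X) = genericPoint Y := by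
      rcases Groth.Agent.H73.Curve.eq_genericPoint_or_isClosed hY (f.base (genericPoint X))
        with hy | hy
      · exact hy
      · exfalso
        have hcl : IsClosed (f.base ⁻¹' {f.base (genericPoint X)}) :=
          hy.preimage f.base.hom.continuous
        have huniv : f.base ⁻¹' {f.base (genericPoint X)} = Set.univ := by
          rw [Set.eq_univ_iff_forall]
          intro x
          have hsp : genericPoint X ⤳ x := (genericPoint_spec X).specializes trivial
          exact hsp.mem_closed hcl rfl
        have hXfin : Finite X := by
          have := hfin (f.base (genericPoint X))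
          rw [huniv] at this
          exact Set.finite_univ_iff.mp this
        have : DiscreteTopology X := inferInstance
        exact Groth.Agent.H73.Curve.not_isClosed_genericPoint hX (isClosed_discrete _)
    refine ⟨?_⟩
    rw [DenseRange, dense_iff_closure_eq, Set.eq_univ_iff_forall]
    intro y
    have hsp : genericPoint Y ⤳ y := (genericPoint_spec Y).specializes trivial
    refine hsp.mem_closed isClosed_closure (subset_closure ?_)
    exact ⟨genericPoint X, hgen⟩

end Groth.Agent.S2346
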