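import Groth.Statements.S2348
import Groth.Agent.H9.BlowUpPullback
import Groth.Agent.H9.BlowUpMax

set_option autoImplicit false
universe u
open CategoryTheory CategoryTheory.Limits AlgebraicGeometry
open EGA2

namespace Groth.Agent.S2348


open Groth.Agent.H9 TopologicalSpace

/-- every point of a quasi-sober T0 space is a specialization of a maximal point -/
theorem exists_isMaxPt_specializes {T : Type*} [TopologicalSpace T] [QuasiSober T] [T0Space T]
    (x : T) : ∃ z : T, IsMaxPt z ∧ z ⤳ x := by
  obtain ⟨z, hz⟩ := QuasiSober.sober (isIrreducible_irreducibleComponent (x := x))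
    (isClosed_irreducibleComponent (x := x))
  refine ⟨z, ?_, ?_⟩
  · intro y hy
    have h1 : closure ({z} : Set T) ⊆ closure {y} := (specializes_iff_closure_subset).1 hy
    have h2 : closure ({y} : Set T) = irreducibleComponent x :=
      eq_irreducibleComponent (isIrreducible_singleton.closure).isPreirreducible
        (by rw [← hz.def]; exact h1)
    have h3 : closure ({y} : Set T) = closure {z} := by rw [h2, hz.def]
    exact ((inseparable_iff_closure_eq).2 h3).eq
  · rw [specializes_iff_mem_closure, hz.def]
    exact mem_irreducibleComponent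


/-- For an ideal of O_Y: let Y be an integral scheme, I a nonzero quasi-coherent ideal sheaf and b : X →
Y a blowing up of Y in I (characterised by its universal property). Then X is integral, b sends the
generic point of X to that of Y and induces a bijection on their residue fields (b is birational).
The printed statement also asserts that b is surjective; the proof does not show this and it fails
when I is not of finite type, so it is left out. -/
theorem result {X Y : Scheme.{u}} [IsIntegral Y] (I : Y.IdealSheafData) (hI : I ≠ ⊥)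
    (b : X ⟶ Y) (hb : BlowUp.IsBlowUp b I) :
    ∃ (_ : IsIntegral X), ∃ hgen : b.base (genericPoint X) = genericPoint Y,
      Function.Bijective (b.residueFieldMap (genericPoint X)).hom := by

  classical
  haveI hiso : IsIso (b ∣_ I.support.compl) := isIso_morphismRestrict_compl_of_isBlowUp I b hb
  have hηspec : IsGenericPoint (genericPoint Y) ⊤ := genericPoint_spec Y
  have hηmax : IsMaxPt (genericPoint Y) := by
    intro y hy
    exact (hy.antisymm (hηspec.specializes (Set.mem_univ y))).eq
  have hmaxY : ∀ y : Y, IsMaxPt y → y = genericPoint Y := fun y hy =>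
    (hy (genericPoint Y) (hηspec.specializes (Set.mem_univ y))).symm
  have hbij := bijOn_isMaxPt_of_isBlowUp I b hb
  have hmaxX : ∀ x : X, IsMaxPt x → b x = genericPoint Y := fun x hx =>
    hmaxY _ (hbij.mapsTo hx).1
  have huniq : ∀ x₁ x₂ : X, IsMaxPt x₁ → IsMaxPt x₂ → x₁ = x₂ := fun x₁ x₂ h1 h2 =>
    hbij.injOn h1 h2 (by show b x₁ = b x₂; rw [hmaxX x₁ h1, hmaxX x₂ h2])
  -- the generic point of Y is outside the centre
  have hηV : genericPoint Y ∉ I.support := by
    have hex : ∃ U : Y.affineOpens, I.ideal U ≠ ⊥ := by
      by_contra hcon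
      push_neg at hcon
      apply hI
      apply Scheme.IdealSheafData.ext
      funext U
      rw [hcon U, Scheme.IdealSheafData.ideal_bot]
      rfl
    obtain ⟨U, hU⟩ := hex
    obtain ⟨a, ha, ha0⟩ : ∃ a ∈ I.ideal U, a ≠ 0 := Submodule.exists_mem_ne_zero_of_ne_bot hU
    have hne : Y.basicOpen a ≠ ⊥ := fun h => ha0 ((basicOpen_eq_bot_iff a).1 h)
    have hηa : genericPoint Y ∈ Y.basicOpen a := by
      obtain ⟨y, hy⟩ := (TopologicalSpace.Opens.ne_bot_iff_nonempty _).1 hne
      exact (hηspec.mem_open_set_iff (Y.basicOpen a).isOpen).2 ⟨y, Set.mem_univ y, hy⟩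
    intro hmem
    rw [Scheme.IdealSheafData.mem_support_iff_of_mem (U := U) (Y.basicOpen_le a hηa),
      Scheme.mem_zeroLocus_iff] at hmem
    exact hmem a ha hηa
  -- a maximal point ξ of X over η
  obtain ⟨ξ, hξmax, hξη⟩ : ∃ ξ : X, IsMaxPt ξ ∧ b ξ = genericPoint Y := by
    obtain ⟨ξ, hξ, hξ'⟩ := hbij.surjOn
      (show genericPoint Y ∈ {x : Y | IsMaxPt x ∧ x ∉ I.support} from ⟨hηmax, hηV⟩)
    exact ⟨ξ, hξ, hξ'⟩
  have hξgen : ∀ x : X, ξ ⤳ x := by
    intro x
    obtain ⟨z, hz, hzx⟩ := exists_isMaxPt_specializes x
    rwa [huniq ξ z hξmax hz]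
  have hcl : closure ({ξ} : Set X) = Set.univ := by
    ext x
    simp only [Set.mem_univ, iff_true]
    exact (specializes_iff_mem_closure).1 (hξgen x)
  have hirr : IsIrreducible (Set.univ : Set X) := hcl ▸ isIrreducible_singleton.closure
  haveI hirrX : IrreducibleSpace X :=
    { toPreirreducibleSpace := ⟨hirr.isPreirreducible⟩, toNonempty := ⟨ξ⟩ }
  -- stalks of X at points over the complement of the centre are reduced
  have hredV : ∀ x' : X, b x' ∈ I.support.compl → _root_.IsReduced (X.presheaf.stalk x') := by
    intro x' hx'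
    have hbij' := stalkMap_bijective_of_isIso_restrict b I.support.compl x' hx'
    let e := RingEquiv.ofBijective (b.stalkMap x').hom hbij'
    exact isReduced_of_injective e.symm.toRingHom e.symm.injective
  have hred : ∀ x : X, _root_.IsReduced (X.presheaf.stalk x) := by
    intro x
    obtain ⟨W, hxW, f, hf, hfW⟩ := hb.1 x
    have hA : _root_.IsReduced Γ(X, W.1) := by
      refine ⟨fun s hs => ?_⟩
      haveI := W.2.isLocalization_basicOpen f
      have hinj : Function.Injective (algebraMap Γ(X, W.1) Γ(X, X.basicOpen f)) :=
        IsLocalization.injective _ (Submonoid.powers_le.2 hf)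
      apply hinj
      rw [map_zero]
      apply eq_zero_of_germ'
      intro x' hx'
      have hx'W : x' ∈ W.1 := X.basicOpen_le f hx'
      have hgerm : X.presheaf.germ (X.basicOpen f) x' hx'
          (algebraMap Γ(X, W.1) Γ(X, X.basicOpen f) s) = X.presheaf.germ W.1 x' hx'W s :=
        TopCat.Presheaf.germ_res_apply _ _ _ _ _
      rw [hgerm]
      have hbx' : b x' ∈ I.support.compl := by
        intro hmem
        have h1 : x' ∈ (I.comap b).support := by
          rw [Scheme.IdealSheafData.support_comap]; exact hmem
        rw [Scheme.IdealSheafData.mem_support_iff_of_mem (U := W) hx'W,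
          Scheme.mem_zeroLocus_iff] at h1
        exact h1 f (by rw [SetLike.mem_coe, hfW]; exact Ideal.mem_span_singleton_self f) hx'
      haveI := hredV x' hbx'
      exact (hs.map (X.presheaf.germ W.1 x' hx'W).hom).eq_zero
    letI : Algebra Γ(X, W.1) (X.presheaf.stalk x) := X.presheaf.algebra_section_stalk ⟨x, hxW⟩
    haveI := W.2.isLocalization_stalk ⟨x, hxW⟩
    exact isReduced_localizationPreserves (W.2.primeIdealOf ⟨x, hxW⟩).asIdeal.primeCompl
      (X.presheaf.stalk x) hA
  haveI : ∀ x : X, _root_.IsReduced (X.presheaf.stalk x) := hred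
  haveI hredX : IsReduced X := isReduced_of_isReduced_stalk X
  have hint : IsIntegral X := isIntegral_of_irreducibleSpace_of_isReduced X
  have hgp : genericPoint X = ξ := (genericPoint_spec X).eq (show IsGenericPoint ξ ⊤ from hcl)
  subst hgp
  have hstalk : Function.Bijective (b.stalkMap (genericPoint X)) :=
    stalkMap_bijective_of_isIso_restrict b I.support.compl (genericPoint X)
      (by rw [hξη]; exact hηV)
  refine ⟨hint, hξη, ?_⟩
  constructor
  · exact (b.residueFieldMap (genericPoint X)).hom.injective
  · intro t
    obtain ⟨s, rfl⟩ := X.residue_surjective (genericPoint X) t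
    obtain ⟨u, rfl⟩ := hstalk.2 s
    refine ⟨Y.residue _ u, ?_⟩
    exact ConcreteCategory.congr_hom (Scheme.residue_residueFieldMap b (genericPoint X)) u

end Groth.Agent.S2348
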