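import Groth.Statements.S2349


set_option autoImplicit false
universe u
open CategoryTheory CategoryTheory.Limits AlgebraicGeometry
open EGA2

namespace Groth.Agent.S2349

open CategoryTheory.Limits


/-- Let f : X → Y be separated and of finite type, and let j_i : X_i → X and h_i : Y_i → Y (i in a
finite index type) be closed immersions with morphisms f_i : X_i → Y_i satisfying j_i ≫ f = f_i ≫
h_i, such that the images of the j_i cover X. Then f is proper if and only if every f_i is proper. -/
theorem result {X Y : Scheme.{u}} (f : X ⟶ Y) [IsSeparated f] [LocallyOfFiniteType f] [QuasiCompact f]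
    (ι : Type u) [Finite ι] (Xi Yi : ι → Scheme.{u}) (j : ∀ i, Xi i ⟶ X) (h : ∀ i, Yi i ⟶ Y) (fi : ∀ i, Xi i ⟶ Yi i)
    [∀ i, IsClosedImmersion (j i)] [∀ i, IsClosedImmersion (h i)] (hcomm : ∀ i, j i ≫ f = fi i ≫ h i)
    (hcov : ∀ x : X, ∃ i, x ∈ Set.range (j i).base) : IsProper f ↔ ∀ i, IsProper (fi i) := by
  constructor
  · intro hf i
    have : IsProper (fi i ≫ h i) := by rw [← hcomm i]; infer_instance
    exact IsProper.of_comp (fi i) (h i)
  · intro hfi
    have : ∀ i, IsProper (fi i) := hfi
    have huc : ∀ i, UniversallyClosed (j i ≫ f) := fun i => by rw [hcomm i]; infer_instance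
    have : UniversallyClosed f := by
      refine ⟨?_⟩
      intro X' Y' i₁ i₂ f' sq
      show IsClosedMap f'.base
      intro T hT
      have key : f'.base '' T = ⋃ i, (pullback.snd (j i) i₁ ≫ f').base ''
          ((pullback.snd (j i) i₁).base ⁻¹' T) := by
        ext y
        constructor
        · rintro ⟨x', hx'T, rfl⟩
          obtain ⟨i, xi, hxi⟩ := hcov (i₁.base x')
          obtain ⟨z, hz1, hz2⟩ := Scheme.Pullback.exists_preimage_pullback (f := j i) (g := i₁)
            xi x' hxi
          refine Set.mem_iUnion.2 ⟨i, z, ?_, ?_⟩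
          · show (pullback.snd (j i) i₁).base z ∈ T
            rw [hz2]; exact hx'T
          · rw [Scheme.Hom.comp_apply, hz2]
        · intro hy
          obtain ⟨i, z, hz, rfl⟩ := Set.mem_iUnion.1 hy
          exact ⟨_, hz, (Scheme.Hom.comp_apply _ _ _).symm⟩
      rw [key]
      refine isClosed_iUnion_of_finite fun i => ?_
      have sq' : IsPullback (pullback.snd (j i) i₁ ≫ f') (pullback.fst (j i) i₁) i₂ (j i ≫ f) :=
        (IsPullback.of_hasPullback (j i) i₁).flip.paste_horiz sq
      have : UniversallyClosed (pullback.snd (j i) i₁ ≫ f') :=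
        MorphismProperty.of_isPullback (P := @UniversallyClosed) sq'.flip (huc i)
      exact (pullback.snd (j i) i₁ ≫ f').isClosedMap _
        (hT.preimage (pullback.snd (j i) i₁).continuous)
    exact {}

end Groth.Agent.S2349
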