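import Mathlib
import Groth.Statements.S9380
import Groth.Agent.H41.AffAlgLib

set_option autoImplicit false
universe u
open QAff

namespace Groth.Agent.S9380

open AlgebraicGeometry CategoryTheory CategoryTheory.Limits Opposite TopologicalSpace in
theorem specMap_gammaAff_fromSpec {S : Scheme.{u}} (A : RelSpec.QCAlg S) (U : S.Opens)
    (hU : IsAffineOpen U) :
    Spec.map (A.gammaAff U hU) ≫ (hU.preimage A.π).fromSpec = A.ι U hU := by
  unfold RelSpec.QCAlg.gammaAff
  rw [Spec.map_comp, Category.assoc,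
    IsAffineOpen.SpecMap_appLE_fromSpec (A.ι U hU) (hU.preimage A.π) (isAffineOpen_top _)
      (A.top_le_preimage U hU),
    IsAffineOpen.fromSpec_top, Scheme.isoSpec_Spec_inv, ← Category.assoc, ← Spec.map_comp,
    Iso.inv_hom_id, Spec.map_id, Category.id_comp]

open AlgebraicGeometry CategoryTheory CategoryTheory.Limits Opposite TopologicalSpace
  Groth.Agent.H41.AffAlgLib in
/-- The canonical morphism `X ⟶ Spec(f_* O_X)`. -/
theorem exists_canonical {X S : Scheme.{u}} (f : X ⟶ S) [QuasiCompact f] [QuasiSeparated f] :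
    ∃ (c : X ⟶ (RelSpec.QCAlg.directImage f).spec)
      (e : c ≫ (RelSpec.QCAlg.directImage f).π = f),
      (RelSpec.QCAlg.directImage f).gammaMap =
        AffAlg.algHom (RelSpec.QCAlg.directImage f).π f c e ∧
      ∀ (U : S.Opens) (hU : IsAffineOpen U),
        (f ⁻¹ᵁ U).ι ≫ c = (f ⁻¹ᵁ U).toSpecΓ ≫ (RelSpec.QCAlg.directImage f).ι U hU := by
  have hω : (RelSpec.QCAlg.directImage f).π.c ≫ (RelSpec.QCAlg.directImage f).gammaMap = f.c :=
    (RelSpec.QCAlg.directImage f).π_c_gammaMap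
  obtain ⟨c, hc⟩ := exists_hom (RelSpec.QCAlg.directImage f).π f
    (RelSpec.QCAlg.directImage f).gammaMap
  have e := hom_comp (RelSpec.QCAlg.directImage f).π f _ hω c hc
  refine ⟨c, e, (algHom_eq (RelSpec.QCAlg.directImage f).π f _ c e hc).symm, fun U hU => ?_⟩
  rw [hc U hU]
  unfold mloc
  rw [(RelSpec.QCAlg.directImage f).gammaMap_app U hU]
  congr 1
  exact specMap_gammaAff_fromSpec _ U hU

open AlgebraicGeometry CategoryTheory CategoryTheory.Limits Opposite TopologicalSpace in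
theorem isOpenImmersion_of_charts {X S : Scheme.{u}} (A : RelSpec.QCAlg S) (f : X ⟶ S)
    (c : X ⟶ A.spec) (e : c ≫ A.π = f)
    (k : ∀ (U : S.Opens) (hU : IsAffineOpen U),
      ((f ⁻¹ᵁ U : X.Opens) : Scheme.{u}) ⟶ Spec (A.presheaf.obj (op U)))
    (hc : ∀ (U : S.Opens) (hU : IsAffineOpen U), (f ⁻¹ᵁ U).ι ≫ c = k U hU ≫ A.ι U hU)
    (hk : ∀ (U : S.Opens) (hU : IsAffineOpen U), IsOpenImmersion (k U hU)) :
    IsOpenImmersion c := by
  apply IsZariskiLocalAtTarget.of_openCover (P := @IsOpenImmersion) A.glueData.cover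
  rintro ⟨U, hU⟩
  have hpb : IsPullback (k U hU) (f ⁻¹ᵁ U).ι (A.ι U hU) c := by
    refine IsOpenImmersion.isPullback _ _ _ _ (hc U hU) ?_
    rw [← A.π_preimage U hU, ← Scheme.Hom.comp_preimage, e, Scheme.Opens.opensRange_ι]
  have := hk U hU
  have h1 : hpb.flip.isoPullback.hom ≫ pullback.snd c (A.ι U hU) = k U hU :=
    hpb.flip.isoPullback_hom_snd
  have h2 : pullback.snd c (A.ι U hU) = hpb.flip.isoPullback.inv ≫ k U hU :=
    (Iso.eq_inv_comp _).mpr h1
  change IsOpenImmersion (pullback.snd c (A.ι U hU))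
  rw [h2]
  infer_instance

open AlgebraicGeometry CategoryTheory in
/-- A quasi-compact quasi-separated morphism f : X → S is quasi-affine if and only if the canonical
S-morphism X → Spec_S(f_*O_X) (the one inducing the comparison map on direct-image algebras) exists
as a quasi-compact open immersion. -/
theorem result {X S : Scheme.{u}} (f : X ⟶ S) [QuasiCompact f] [QuasiSeparated f] :
    MoreMor.IsQuasiAffineHom f ↔
      ∃ (c : X ⟶ (RelSpec.QCAlg.directImage f).spec) (e : c ≫ (RelSpec.QCAlg.directImage f).π = f),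
        (RelSpec.QCAlg.directImage f).gammaMap = AffAlg.algHom (RelSpec.QCAlg.directImage f).π f c e ∧
          QuasiCompact c ∧ IsOpenImmersion c := by
  constructor
  · rintro ⟨-, hqa⟩
    obtain ⟨c, e, hγ, hc⟩ := exists_canonical f
    refine ⟨c, e, hγ, ?_, ?_⟩
    · have : QuasiCompact (c ≫ (RelSpec.QCAlg.directImage f).π) := by rw [e]; infer_instance
      exact QuasiCompact.of_comp c (RelSpec.QCAlg.directImage f).π
    · refine isOpenImmersion_of_charts (RelSpec.QCAlg.directImage f) f c e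
        (fun U hU => (f ⁻¹ᵁ U).toSpecΓ) hc (fun U hU => ?_)
      have : Scheme.IsQuasiAffine ((f ⁻¹ᵁ U : X.Opens) : Scheme.{u}) := hqa U hU
      change IsOpenImmersion (f ⁻¹ᵁ U).toSpecΓ
      unfold Scheme.Opens.toSpecΓ
      infer_instance
  · rintro ⟨c, e, -, hqc, hoi⟩
    refine ⟨inferInstance, fun V hV => ?_⟩
    have hW : IsAffineOpen ((RelSpec.QCAlg.directImage f).π ⁻¹ᵁ V) :=
      hV.preimage (RelSpec.QCAlg.directImage f).π
    have : IsAffine (((RelSpec.QCAlg.directImage f).π ⁻¹ᵁ V : (RelSpec.QCAlg.directImage f).spec.Opens) : Scheme.{u}) := hW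
    have heq : c ⁻¹ᵁ ((RelSpec.QCAlg.directImage f).π ⁻¹ᵁ V) = f ⁻¹ᵁ V := by
      rw [← Scheme.Hom.comp_preimage, e]
    have : CompactSpace ((c ⁻¹ᵁ ((RelSpec.QCAlg.directImage f).π ⁻¹ᵁ V) : X.Opens) : Scheme.{u}) := by
      rw [heq]
      exact isCompact_iff_compactSpace.mp (QuasiCompact.isCompact_preimage (f := f) _ V.isOpen hV.isCompact)
    have key : Scheme.IsQuasiAffine ((c ⁻¹ᵁ ((RelSpec.QCAlg.directImage f).π ⁻¹ᵁ V) : X.Opens) : Scheme.{u}) :=
      Scheme.IsQuasiAffine.of_isImmersion (c ∣_ ((RelSpec.QCAlg.directImage f).π ⁻¹ᵁ V))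
    rw [heq] at key
    exact key

end Groth.Agent.S9380
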