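import Mathlib
import Groth.Statements.S2355
import Groth.Agent.H22.PullRelAmple
import Groth.Agent.S9380
-- import your own Groth.Agent.* helpers here

set_option autoImplicit false
universe u
open CategoryTheory CategoryTheory.Limits AlgebraicGeometry
open EGA2

namespace Groth.Agent.S2355

/-- Let f : X → Y be quasi-compact, g : X' → X quasi-affine and L an O_X-module ample relative to f.
Then g^* L is ample relative to g ≫ f. -/
theorem result {X X' Y : Scheme.{u}} (f : X ⟶ Y) [QuasiCompact f] (g : X' ⟶ X) (hg : Mor2.IsQuasiAffine g)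
    (L : X.Modules) (hL : RelAmple.IsRelAmple f L) :
    RelAmple.IsRelAmple (g ≫ f) ((Scheme.Modules.pullback g).obj L) := by
  haveI := hg.1
  have hsep : IsSeparated g := by
    rw [HasAffineProperty.eq_targetAffineLocally (P := @IsSeparated)]
    intro V
    haveI := hg.2 V.1 V.2
    infer_instance
  obtain ⟨c, e, -, hcqc, hcoi⟩ := (Groth.Agent.S9380.result g).mp hg
  haveI := hcqc
  haveI := hcoi
  have h1 := Groth.Agent.H22.PullRelAmple.isRelAmple_pullback_of_isAffineHom f
    (RelSpec.QCAlg.directImage g).π hL
  have h2 := Groth.Agent.H22.PullRelAmple.isRelAmple_pullback_of_isOpenImmersion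
    ((RelSpec.QCAlg.directImage g).π ≫ f) c h1
  exact Groth.Agent.H22.PullRelAmple.isRelAmple_pullback_congr f e
    (Groth.Agent.H22.PullRelAmple.isRelAmple_pullback_comp f c _ h2)

end Groth.Agent.S2355
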