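import Groth.Statements.S2454
import Groth.Agent.Lead.FlatFibreSmooth2
import Groth.Agent.S2451

set_option autoImplicit false
universe u
open EGA41

namespace Groth.Agent.S2454

open IsLocalRing in
/-- Let A → B be a local homomorphism of Noetherian local rings making B a Cohen A-algebra. Then B, with
its adic topology, is formally smooth over A with its adic topology. -/
theorem result {A B : Type u} [CommRing A] [IsLocalRing A] [CommRing B] [IsLocalRing B]
    [Algebra A B] [IsLocalHom (algebraMap A B)] (h : EGA41.IsCohenAlgebra A B) :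
    EGA41.IsFormallySmoothAdic A (maximalIdeal A) B (maximalIdeal B) := by
  obtain ⟨hAn, hBn, hcomp, hflat, hmax, hsep⟩ := h
  haveI := hflat
  apply Lead.FlatFibreSmooth.isFormallySmoothAdic_of_forall_quotient
  intro k hk
  have hfs : Algebra.FormallySmooth (ResidueField A) (ResidueField B) :=
    (Groth.Agent.S2451.result).mpr hsep
  letI alg' : Algebra (ResidueField A) (B ⧸ (maximalIdeal A).map (algebraMap A B)) :=
    inferInstanceAs (Algebra (A ⧸ maximalIdeal A) (B ⧸ (maximalIdeal A).map (algebraMap A B)))
  let e0 : (B ⧸ maximalIdeal B) ≃+* (B ⧸ (maximalIdeal A).map (algebraMap A B)) :=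
    Ideal.quotEquivOfEq hmax.symm
  let e : ResidueField B ≃ₐ[ResidueField A] (B ⧸ (maximalIdeal A).map (algebraMap A B)) :=
    { e0 with
      commutes' := by
        intro x
        obtain ⟨a, rfl⟩ := Ideal.Quotient.mk_surjective x
        rfl }
  have h2' : Algebra.FormallySmooth (ResidueField A)
      (B ⧸ (maximalIdeal A).map (algebraMap A B)) := Algebra.FormallySmooth.of_equiv e
  haveI h2 : Algebra.FormallySmooth (A ⧸ maximalIdeal A)
      (B ⧸ (maximalIdeal A).map (algebraMap A B)) := h2'
  exact Lead.FlatFibreSmooth.formallySmooth_quotient_pow (maximalIdeal A) k hk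

end Groth.Agent.S2454
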