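import Groth.Statements.S2455
import Mathlib
import Groth.Agent.S2454
import Groth.Agent.S4543
import Groth.Agent.H25.CohenDVR
-- import your own Groth.Agent.* helpers here

set_option autoImplicit false
universe u
open EGA41

set_option linter.style.haveILetI false
set_option linter.unusedSectionVars false
set_option linter.unusedVariables false

namespace Groth.Agent.S2455


open IsLocalRing in
/-- Let A be a Noetherian local ring with residue field k and K a separable extension field of k. Then
there is a Cohen A-algebra B whose residue field is k-isomorphic to K; and two Cohen A-algebras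
whose residue fields are k-isomorphic to K are isomorphic as A-algebras. -/
theorem result {A : Type u} [CommRing A] [IsLocalRing A] [IsNoetherianRing A]
    (K : Type u) [Field K] [Algebra (ResidueField A) K] [Algebra.IsGeometricallyReduced (ResidueField A) K] :
    (∃ (B : Type u) (_ : CommRing B) (_ : IsLocalRing B) (_ : Algebra A B) (_ : IsLocalHom (algebraMap A B)),
      EGA41.IsCohenAlgebra A B ∧ Nonempty (ResidueField B ≃ₐ[ResidueField A] K)) ∧
    ∀ (B B' : Type u) [CommRing B] [IsLocalRing B] [Algebra A B] [IsLocalHom (algebraMap A B)]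
      [CommRing B'] [IsLocalRing B'] [Algebra A B'] [IsLocalHom (algebraMap A B')],
      EGA41.IsCohenAlgebra A B → EGA41.IsCohenAlgebra A B' →
      Nonempty (ResidueField B ≃ₐ[ResidueField A] K) → Nonempty (ResidueField B' ≃ₐ[ResidueField A] K) →
      Nonempty (B ≃ₐ[A] B') := by
  classical
  refine ⟨?_, ?_⟩
  · -- existence
    letI algAK : Algebra A K := ((algebraMap (ResidueField A) K).comp (residue A)).toAlgebra
    have hAK : ∀ x ∈ maximalIdeal A, algebraMap A K x = 0 := by
      intro x hx
      change algebraMap (ResidueField A) K (residue A x) = 0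
      rw [(residue_eq_zero_iff x).2 hx, map_zero]
    obtain ⟨B, instB, instAB, instLB, ev, hsurj, hker, hflat, hmax, hnoeth⟩ :=
      Groth.Agent.H25.ResExt.main A K hAK
    haveI : IsNoetherianRing B := hnoeth inferInstance
    haveI : Module.Flat A B := hflat
    haveI : IsNoetherianRing (AdicCompletion (maximalIdeal B) B) := by
      haveI : IsNoetherianRing (B ⧸ maximalIdeal B) :=
        inferInstanceAs (IsNoetherianRing (ResidueField B))
      exact Groth.Agent.Lead.isNoetherianRing_adicCompletion (maximalIdeal B)
        (maximalIdeal B).fg_of_isNoetherianRing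
    haveI : Module.Flat A (AdicCompletion (maximalIdeal B) B) :=
      Module.Flat.trans A B (AdicCompletion (maximalIdeal B) B)
    have hmaxΛ : (maximalIdeal A).map (algebraMap A (AdicCompletion (maximalIdeal B) B))
        = maximalIdeal (AdicCompletion (maximalIdeal B) B) := by
      rw [AdicCompletion.maximalIdeal_eq_map, hmax, Ideal.map_map,
        ← IsScalarTower.algebraMap_eq]
    haveI hloc : IsLocalHom (algebraMap A (AdicCompletion (maximalIdeal B) B)) :=
      ((IsLocalRing.local_hom_TFAE _).out 0 2).mpr (le_of_eq hmaxΛ)
    let evb : ResidueField B →+* K := Ideal.Quotient.lift (maximalIdeal B) (ev : B →+* K) hker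
    have hevb : Function.Bijective evb := by
      refine ⟨evb.injective, fun a => ?_⟩
      obtain ⟨b, rfl⟩ := hsurj a
      exact ⟨residue B b, rfl⟩
    let e₁ : ResidueField B ≃+* ResidueField (AdicCompletion (maximalIdeal B) B) :=
      RingEquiv.ofBijective
        (IsLocalRing.ResidueField.map (algebraMap B (AdicCompletion (maximalIdeal B) B)))
        (AdicCompletion.residueField_map_bijective B)
    let e₂ : ResidueField B ≃+* K := RingEquiv.ofBijective evb hevb
    let e : ResidueField (AdicCompletion (maximalIdeal B) B) ≃+* K := e₁.symm.trans e₂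
    have he : ∀ a : A, e (residue (AdicCompletion (maximalIdeal B) B)
        (algebraMap A (AdicCompletion (maximalIdeal B) B) a)) = algebraMap A K a := by
      intro a
      have h1 : residue (AdicCompletion (maximalIdeal B) B)
          (algebraMap A (AdicCompletion (maximalIdeal B) B) a)
          = e₁ (residue B (algebraMap A B a)) := by
        rw [IsScalarTower.algebraMap_apply A B (AdicCompletion (maximalIdeal B) B)]
        rfl
      rw [h1, RingEquiv.trans_apply, RingEquiv.symm_apply_apply]
      change ev (algebraMap A B a) = _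
      exact ev.commutes a
    let eA : ResidueField (AdicCompletion (maximalIdeal B) B) ≃ₐ[ResidueField A] K :=
      AlgEquiv.ofRingEquiv (f := e) (fun x => by
        obtain ⟨a, rfl⟩ := residue_surjective x
        exact he a)
    haveI : Algebra.IsGeometricallyReduced (ResidueField A)
        (ResidueField (AdicCompletion (maximalIdeal B) B)) :=
      Algebra.IsGeometricallyReduced.of_injective eA.toAlgHom eA.injective
    exact ⟨AdicCompletion (maximalIdeal B) B, inferInstance, inferInstance, inferInstance, hloc,
      ⟨inferInstance, inferInstance, inferInstance, inferInstance, hmaxΛ, inferInstance⟩, ⟨eA⟩⟩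
  · -- uniqueness
    rintro B B' _ _ _ _ _ _ _ _ hB hB' ⟨e⟩ ⟨e'⟩
    obtain ⟨hNA, hNB, hcB, hfB, hmB, hgB⟩ := hB
    obtain ⟨-, hNB', hcB', hfB', hmB', hgB'⟩ := hB'
    haveI := hNB
    haveI := hNB'
    haveI := hfB'
    have hfs0 := Groth.Agent.S2454.result (A := A) (B := B) ⟨hNA, hNB, hcB, hfB, hmB, hgB⟩
    have hfs : EGA41.IsFormallySmoothAdic A (maximalIdeal A) B
        ((maximalIdeal A).map (algebraMap A B)) := by
      rw [hmB]; exact hfs0
    haveI : IsAdicComplete ((maximalIdeal A).map (algebraMap A B)) B := by rw [hmB]; exact hcB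
    haveI : IsAdicComplete ((maximalIdeal A).map (algebraMap A B')) B' := by
      rw [hmB']; exact hcB'
    let eB : (B ⧸ (maximalIdeal A).map (algebraMap A B)) ≃+* ResidueField B :=
      Ideal.quotEquivOfEq hmB
    let eB' : (B' ⧸ (maximalIdeal A).map (algebraMap A B')) ≃+* ResidueField B' :=
      Ideal.quotEquivOfEq hmB'
    let u₀r : (B ⧸ (maximalIdeal A).map (algebraMap A B)) ≃+*
        (B' ⧸ (maximalIdeal A).map (algebraMap A B')) :=
      (eB.trans ((e.trans e'.symm).toRingEquiv)).trans eB'.symm
    have hcomm : ∀ a : A, u₀r (algebraMap (A ⧸ maximalIdeal A)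
        (B ⧸ (maximalIdeal A).map (algebraMap A B)) (Ideal.Quotient.mk _ a))
        = algebraMap (A ⧸ maximalIdeal A) (B' ⧸ (maximalIdeal A).map (algebraMap A B'))
          (Ideal.Quotient.mk _ a) := by
      intro a
      have h1 : eB (algebraMap (A ⧸ maximalIdeal A)
          (B ⧸ (maximalIdeal A).map (algebraMap A B)) (Ideal.Quotient.mk _ a))
          = algebraMap (ResidueField A) (ResidueField B) (residue A a) := rfl
      have h2 : eB' (algebraMap (A ⧸ maximalIdeal A)
          (B' ⧸ (maximalIdeal A).map (algebraMap A B')) (Ideal.Quotient.mk _ a))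
          = algebraMap (ResidueField A) (ResidueField B') (residue A a) := rfl
      have h3 : u₀r (algebraMap (A ⧸ maximalIdeal A)
          (B ⧸ (maximalIdeal A).map (algebraMap A B)) (Ideal.Quotient.mk _ a))
          = eB'.symm (e'.symm (e (eB (algebraMap (A ⧸ maximalIdeal A)
            (B ⧸ (maximalIdeal A).map (algebraMap A B)) (Ideal.Quotient.mk _ a))))) := rfl
      rw [h3, h1, AlgEquiv.commutes, AlgEquiv.commutes, ← h2, RingEquiv.symm_apply_apply]
    let u₀ : (B ⧸ (maximalIdeal A).map (algebraMap A B)) ≃ₐ[A ⧸ maximalIdeal A]
        (B' ⧸ (maximalIdeal A).map (algebraMap A B')) :=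
      { u₀r with
        commutes' := by
          intro x
          obtain ⟨a, rfl⟩ := Ideal.Quotient.mk_surjective x
          exact hcomm a }
    obtain ⟨w, hw⟩ := Groth.Agent.S4543.result (maximalIdeal A) (le_of_eq hmB) (le_of_eq hmB')
      hfs u₀
    exact ⟨w⟩

end Groth.Agent.S2455
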