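import Groth.Statements.S2457
import Groth.Agent.Lead.CohenRingIso

set_option autoImplicit false
universe u
open EGA41

namespace Groth.Agent.S2457

open IsLocalRing in
/-- Let W and W' be Cohen rings with residue fields K and K' and u : K ≅ K' an isomorphism. Then u is
induced by some isomorphism v : W ≅ W'. -/
theorem result {W W' : Type u} [CommRing W] [IsLocalRing W] [CommRing W'] [IsLocalRing W']
    (hW : EGA41.IsCohenRingEGA W) (hW' : EGA41.IsCohenRingEGA W') (u : ResidueField W ≃+* ResidueField W') :
    ∃ v : W ≃+* W', ∀ x : W, residue W' (v x) = u (residue W x) := by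
  rcases hW with ⟨hWf, hWc0⟩ | hWc
  · rcases hW' with ⟨hWf', hWc0'⟩ | hWc'
    · exact Groth.Agent.Lead.CohenRingIso.field_case hWf hWf' u
    · exfalso
      obtain ⟨_, _, _, p, hp, hm⟩ := hWc'
      have h0' : ((p : ℕ) : ResidueField W') = 0 :=
        Groth.Agent.Lead.CohenRingIso.natCast_residue_eq_zero p hm
      have h0 : ((p : ℕ) : ResidueField W) = 0 := by
        have := congrArg u.symm h0'
        rwa [map_natCast, map_zero] at this
      haveI := hWc0
      exact Groth.Agent.Lead.CohenRingIso.false_of_field_of_natCast hWf p hp h0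
  · rcases hW' with ⟨hWf', hWc0'⟩ | hWc'
    · exfalso
      obtain ⟨_, _, _, p, hp, hm⟩ := hWc
      have h0 : ((p : ℕ) : ResidueField W) = 0 :=
        Groth.Agent.Lead.CohenRingIso.natCast_residue_eq_zero p hm
      have h0' : ((p : ℕ) : ResidueField W') = 0 := by
        have := congrArg u h0
        rwa [map_natCast, map_zero] at this
      haveI := hWc0'
      exact Groth.Agent.Lead.CohenRingIso.false_of_field_of_natCast hWf' p hp h0'
    · obtain ⟨hd, hdvr, hcomp, p, hp, hm⟩ := hWc
      obtain ⟨hd', hdvr', hcomp', p', hp', hm'⟩ := hWc'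
      have h0 : ((p : ℕ) : ResidueField W) = 0 :=
        Groth.Agent.Lead.CohenRingIso.natCast_residue_eq_zero p hm
      have h0' : ((p : ℕ) : ResidueField W') = 0 := by
        have := congrArg u h0
        rwa [map_natCast, map_zero] at this
      have hpm : ((p : ℕ) : W') ∈ maximalIdeal W' := by
        rw [← residue_eq_zero_iff, map_natCast]; exact h0'
      have hpm' : ((p' : ℕ) : W') ∈ maximalIdeal W' := by
        rw [hm']; exact Ideal.subset_span rfl
      have hpp : p = p' := Groth.Agent.Lead.CohenRingIso.prime_eq_of_mem p p' hp hp' hpm hpm'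
      subst hpp
      exact Groth.Agent.Lead.CohenRingIso.cohen_case p hp hm hm' u

end Groth.Agent.S2457
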