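import Groth.Statements.S2459
import Mathlib
import Groth.Agent.S2456
import Groth.Agent.S0578
-- import your own Groth.Agent.* helpers here

set_option autoImplicit false
universe u
open EGA41

set_option linter.style.haveILetI false
set_option linter.unusedSectionVars false
set_option linter.unusedVariables false

namespace Groth.Agent.S2459

open IsLocalRing

theorem isAdicComplete_of_pow_eq_bot {R : Type*} [CommRing R] (I : Ideal R) (N : ℕ)
    (hN : I ^ N = ⊥) : IsAdicComplete I R := by
  have hbot : (I ^ N • ⊤ : Submodule R R) = ⊥ := by rw [hN]; exact Submodule.bot_smul _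
  have hH : IsHausdorff I R := ⟨fun x hx => by
    have h := hx N
    rw [hbot, SModEq.bot] at h
    exact h⟩
  have hP : IsPrecomplete I R := ⟨fun f hf => ⟨f N, fun n => by
    rcases le_total n N with h | h
    · exact hf h
    · have h1 := hf h
      rw [hbot, SModEq.bot] at h1
      rw [h1]⟩⟩
  exact { toIsHausdorff := hH, toIsPrecomplete := hP }


open IsLocalRing in
/-- Let A be an Artinian local ring with maximal ideal 𝔪 and residue field of characteristic p (p = 0
allowed). Then A is isomorphic to a quotient of a Cohen ring if and only if 𝔪 is generated by p·1. -/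
theorem result {A : Type u} [CommRing A] [IsLocalRing A] [IsArtinianRing A]
    (p : ℕ) [CharP (ResidueField A) p] :
    (∃ (W : Type u) (_ : CommRing W) (I : Ideal W), EGA41.IsCohenRingEGA W ∧ Nonempty (A ≃+* W ⧸ I)) ↔
      maximalIdeal A = Ideal.span {(p : A)} := by
  classical
  have hpA : ((p : ℕ) : A) ∈ maximalIdeal A := by
    rw [← residue_eq_zero_iff, map_natCast]
    exact CharP.cast_eq_zero _ p
  constructor
  · rintro ⟨W, instW, I, hW, ⟨e⟩⟩
    let f : W →+* A := e.symm.toRingHom.comp (Ideal.Quotient.mk I)
    have hf : Function.Surjective f := e.symm.surjective.comp Ideal.Quotient.mk_surjective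
    let g : W →+* ResidueField A := (residue A).comp f
    have hg : Function.Surjective g := (residue_surjective).comp hf
    apply le_antisymm
    · intro a ha
      obtain ⟨w, rfl⟩ := hf a
      have hgw : g w = 0 := (residue_eq_zero_iff _).2 ha
      rcases hW with ⟨hF, hC⟩ | ⟨hD, hDVR, hcomp, q, hq, hmW⟩
      · have hw0 : w = 0 := by
          by_contra hne
          obtain ⟨w', hw'⟩ := hF.mul_inv_cancel hne
          have h1 : g w * g w' = 1 := by rw [← map_mul, hw', map_one]
          rw [hgw, zero_mul] at h1
          exact zero_ne_one h1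
        rw [hw0, map_zero]
        exact Ideal.zero_mem _
      · have hker : RingHom.ker g = maximalIdeal W :=
          IsLocalRing.eq_maximalIdeal (RingHom.ker_isMaximal_of_surjective g hg)
        have hwm : w ∈ maximalIdeal W := by rw [← hker]; exact hgw
        rw [hmW] at hwm
        obtain ⟨w', rfl⟩ := Ideal.mem_span_singleton'.1 hwm
        have hqK : ((q : ℕ) : ResidueField A) = 0 := by
          have h1 : g ((q : ℕ) : W) = 0 := by
            have h2 : ((q : ℕ) : W) ∈ RingHom.ker g := by
              rw [hker, hmW]; exact Ideal.mem_span_singleton_self _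
            exact h2
          rwa [map_natCast] at h1
        have hpq : p = q := by
          have hdvd : p ∣ q := (CharP.cast_eq_zero_iff (ResidueField A) p q).1 hqK
          rcases (Nat.dvd_prime hq).1 hdvd with h1 | h1
          · exact absurd h1 (CharP.char_ne_one (ResidueField A) p)
          · exact h1
        rw [map_mul, map_natCast, hpq]
        exact Ideal.mem_span_singleton'.2 ⟨f w', rfl⟩
    · rw [Ideal.span_le, Set.singleton_subset_iff]
      exact hpA
  · intro hm
    by_cases hp0 : p = 0
    · subst hp0
      have hbot : maximalIdeal A = ⊥ := by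
        rw [hm, Nat.cast_zero]
        exact Ideal.span_singleton_eq_bot.2 rfl
      have hF : IsField A := isField_iff_maximalIdeal_eq.2 hbot
      haveI : CharZero (ResidueField A) := CharP.charP_to_charZero _
      haveI : CharZero A := (residue A).charZero
      exact ⟨A, inferInstance, ⊥, Or.inl ⟨hF, inferInstance⟩, ⟨(RingEquiv.quotientBot A).symm⟩⟩
    · have hpp : p.Prime := (CharP.char_is_prime_or_zero (ResidueField A) p).resolve_right hp0
      haveI : Fact p.Prime := ⟨hpp⟩
      obtain ⟨Λ, instΛ, instL, hΛ, ⟨ε⟩⟩ := Groth.Agent.S0578.result p (ResidueField A)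
      obtain ⟨N, hN⟩ : IsNilpotent (maximalIdeal A) := by
        have h1 : IsNilpotent (Ideal.jacobson (⊥ : Ideal A)) :=
          IsArtinianRing.isNilpotent_jacobson_bot
        rwa [IsLocalRing.jacobson_eq_maximalIdeal ⊥ bot_ne_top] at h1
      haveI : IsNoetherianRing A := inferInstance
      haveI : IsAdicComplete (maximalIdeal A) A := isAdicComplete_of_pow_eq_bot _ N hN
      haveI : IsLocalRing (A ⧸ maximalIdeal A) := inferInstanceAs (IsLocalRing (ResidueField A))
      let u : Λ →+* A ⧸ maximalIdeal A := ε.toRingHom.comp (residue Λ)
      haveI : IsLocalHom u := ⟨fun w hw => by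
        have h1 : IsUnit (ε.symm (ε (residue Λ w))) := IsUnit.map ε.symm hw
        rw [RingEquiv.symm_apply_apply] at h1
        exact isUnit_of_map_unit (residue Λ) w h1⟩
      obtain ⟨v, hvl, hv⟩ := Groth.Agent.S2456.result (W := Λ) (C := A) (Or.inr hΛ)
        (maximalIdeal A) (IsLocalRing.maximalIdeal.isMaximal A).ne_top u
      have hvp : v ((p : ℕ) : Λ) = ((p : ℕ) : A) := map_natCast v p
      have hu_surj : Function.Surjective u := ε.surjective.comp residue_surjective
      have key : ∀ n : ℕ, ∀ a : A, ∃ w : Λ, a - v w ∈ maximalIdeal A ^ n := by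
        intro n
        induction n with
        | zero =>
          intro a
          exact ⟨0, by rw [pow_zero, Ideal.one_eq_top]; trivial⟩
        | succ n ih =>
          intro a
          obtain ⟨w, hw⟩ := ih a
          have hmn : maximalIdeal A ^ n = Ideal.span {((p : ℕ) : A) ^ n} := by
            rw [hm, Ideal.span_singleton_pow]
          rw [hmn] at hw
          obtain ⟨b, hb⟩ := Ideal.mem_span_singleton'.1 hw
          obtain ⟨w', hw'⟩ := hu_surj (Ideal.Quotient.mk (maximalIdeal A) b)
          have huv : u w' = Ideal.Quotient.mk (maximalIdeal A) (v w') :=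
            (RingHom.congr_fun hv w').symm
          have hbm : b - v w' ∈ maximalIdeal A := by
            rw [← Ideal.Quotient.eq, ← hw', huv]
          refine ⟨w + w' * ((p : ℕ) : Λ) ^ n, ?_⟩
          have heq : a - v (w + w' * ((p : ℕ) : Λ) ^ n) = (b - v w') * ((p : ℕ) : A) ^ n := by
            rw [map_add, map_mul, map_pow, hvp]
            linear_combination -hb
          rw [heq, pow_succ']
          exact Ideal.mul_mem_mul hbm (by rw [hmn]; exact Ideal.mem_span_singleton_self _)
      have hsurj : Function.Surjective v := by
        intro a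
        obtain ⟨w, hw⟩ := key N a
        rw [hN, Ideal.zero_eq_bot, Ideal.mem_bot] at hw
        exact ⟨w, (sub_eq_zero.1 hw).symm⟩
      exact ⟨Λ, instΛ, RingHom.ker v, Or.inr hΛ,
        ⟨(RingHom.quotientKerEquivOfSurjective hsurj).symm⟩⟩

end Groth.Agent.S2459
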