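import Groth.Statements.S2458
import Mathlib
import Groth.Agent.S2459
-- import your own Groth.Agent.* helpers here

set_option autoImplicit false
universe u
open EGA41

set_option linter.style.haveILetI false
set_option linter.unusedSectionVars false
set_option linter.unusedVariables false

namespace Groth.Agent.S2458

open IsLocalRing

/-- Localizing a regular ring `P` surjecting onto `A` (with `𝔪_A² = 0`) at the preimage of `𝔪_A`,
when that preimage is generated by a family whose images are "independent modulo `𝔪_A`". -/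
theorem lemmaL {P A : Type u} [CommRing P] [IsRegularRing P] [CommRing A] [IsLocalRing A]
    (h : maximalIdeal A ^ 2 = ⊥) (ψ₀ : P →+* A) (hsurj : Function.Surjective ψ₀)
    {ι : Type u} [Fintype ι] (G : ι → P)
    (hG : Ideal.comap ψ₀ (maximalIdeal A) = Ideal.span (Set.range G))
    (hind : ∀ c : ι → A, ∑ i, c i * ψ₀ (G i) = 0 → ∀ i, c i ∈ maximalIdeal A) :
    ∃ (B : Type u) (_ : CommRing B) (_ : IsRegularLocalRing B),
      Nonempty (A ≃+* B ⧸ maximalIdeal B ^ 2) := by
  classical
  obtain ⟨𝔫, h𝔫⟩ : ∃ 𝔫 : Ideal P, 𝔫 = Ideal.comap ψ₀ (maximalIdeal A) := ⟨_, rfl⟩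
  haveI hprime : 𝔫.IsPrime := by rw [h𝔫]; exact Ideal.comap_isPrime _ _
  have hmem : ∀ f, f ∈ 𝔫 ↔ ψ₀ f ∈ maximalIdeal A := by
    intro f; rw [h𝔫, Ideal.mem_comap]
  have hG' : 𝔫 = Ideal.span (Set.range G) := h𝔫.trans hG
  have hGi : ∀ i, G i ∈ 𝔫 := fun i => by rw [hG']; exact Ideal.subset_span ⟨i, rfl⟩
  have hunits : ∀ y : 𝔫.primeCompl, IsUnit (ψ₀ y) := fun y => by
    have h1 : (y : P) ∉ 𝔫 := y.2
    rw [hmem, mem_maximalIdeal, mem_nonunits_iff, not_not] at h1
    exact h1
  let ψ : Localization.AtPrime 𝔫 →+* A := IsLocalization.lift hunits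
  have hψ : ∀ f : P, ψ (algebraMap P (Localization.AtPrime 𝔫) f) = ψ₀ f :=
    fun f => IsLocalization.lift_eq hunits f
  have hψsurj : Function.Surjective ψ := fun a => by
    obtain ⟨f, rfl⟩ := hsurj a
    exact ⟨algebraMap P (Localization.AtPrime 𝔫) f, hψ f⟩
  have hmaxB : Ideal.map (algebraMap P (Localization.AtPrime 𝔫)) 𝔫
      = maximalIdeal (Localization.AtPrime 𝔫) := Localization.AtPrime.map_eq_maximalIdeal
  have hle1 : maximalIdeal (Localization.AtPrime 𝔫) ^ 2 ≤ RingHom.ker ψ := by
    have h1 : Ideal.map ψ (maximalIdeal (Localization.AtPrime 𝔫)) ≤ maximalIdeal A := by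
      rw [← hmaxB, Ideal.map_map, Ideal.map_le_iff_le_comap]
      intro f hf
      rw [Ideal.mem_comap, RingHom.comp_apply, hψ]
      exact (hmem f).1 hf
    intro x hx
    rw [RingHom.mem_ker]
    have h2 : ψ x ∈ (Ideal.map ψ (maximalIdeal (Localization.AtPrime 𝔫))) ^ 2 := by
      rw [← Ideal.map_pow]; exact Ideal.mem_map_of_mem _ hx
    have h3 : ψ x ∈ maximalIdeal A ^ 2 := Ideal.pow_right_mono h1 2 h2
    rwa [h, Ideal.mem_bot] at h3
  have hle2 : RingHom.ker ψ ≤ maximalIdeal (Localization.AtPrime 𝔫) ^ 2 := by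
    intro x hx
    obtain ⟨⟨f, s⟩, hfs⟩ := IsLocalization.surj 𝔫.primeCompl x
    have hfs' : x * algebraMap P (Localization.AtPrime 𝔫) (s : P)
        = algebraMap P (Localization.AtPrime 𝔫) f := hfs
    have h1 : ψ₀ f = 0 := by
      have h0 := congrArg ψ hfs'
      rw [map_mul, hψ, hψ, RingHom.mem_ker.1 hx, zero_mul] at h0
      exact h0.symm
    have hf𝔫 : f ∈ 𝔫 := (hmem f).2 (by rw [h1]; exact Ideal.zero_mem _)
    rw [hG'] at hf𝔫
    obtain ⟨c, hc⟩ := Ideal.mem_span_range_iff_exists_fun.1 hf𝔫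
    have h2 : ∀ i, c i ∈ 𝔫 := by
      intro i
      rw [hmem]
      apply hind (fun i => ψ₀ (c i)) _ i
      rw [← h1, ← hc, map_sum]
      exact Finset.sum_congr rfl fun i _ => (map_mul ψ₀ _ _).symm
    have h3 : f ∈ 𝔫 ^ 2 := by
      rw [← hc, pow_two]
      exact Ideal.sum_mem _ fun i _ => Ideal.mul_mem_mul (h2 i) (hGi i)
    have h4 : algebraMap P (Localization.AtPrime 𝔫) f
        ∈ maximalIdeal (Localization.AtPrime 𝔫) ^ 2 := by
      rw [← hmaxB, ← Ideal.map_pow]
      exact Ideal.mem_map_of_mem _ h3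
    have hu : IsUnit (algebraMap P (Localization.AtPrime 𝔫) (s : P)) :=
      IsLocalization.map_units (Localization.AtPrime 𝔫) s
    obtain ⟨w, hw⟩ := hu.exists_right_inv
    have hx' : x = algebraMap P (Localization.AtPrime 𝔫) f * w := by
      rw [← hfs', mul_assoc, hw, mul_one]
    rw [hx']
    exact Ideal.mul_mem_right _ _ h4
  refine ⟨Localization.AtPrime 𝔫, inferInstance, inferInstance, ⟨?_⟩⟩
  exact (RingHom.quotientKerEquivOfSurjective hψsurj).symm.trans
    (Ideal.quotEquivOfEq (le_antisymm hle2 hle1))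

/-- From a regular local ring `R` with principal maximal ideal `(π)` and a local hom `R → A`
inducing a surjection on residue fields, with `π = 0` or `φ π ≠ 0`. -/
theorem lemmaM {R A : Type u} [CommRing R] [IsLocalRing R] [IsRegularRing R]
    [CommRing A] [IsLocalRing A] [IsNoetherianRing A]
    (h : maximalIdeal A ^ 2 = ⊥) (π : R) (hπ : maximalIdeal R = Ideal.span {π})
    (φ : R →+* A) [IsLocalHom φ] (hres : ∀ a : A, ∃ c : R, a - φ c ∈ maximalIdeal A)
    (hcase : π = 0 ∨ φ π ≠ 0) :
    ∃ (B : Type u) (_ : CommRing B) (_ : IsRegularLocalRing B),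
      Nonempty (A ≃+* B ⧸ maximalIdeal B ^ 2) := by
  classical
  have hφπ : φ π ∈ maximalIdeal A := by
    rw [mem_maximalIdeal, mem_nonunits_iff]
    intro hu
    have h1 : IsUnit π := isUnit_of_map_unit φ π hu
    have h2 : π ∈ maximalIdeal R := by rw [hπ]; exact Ideal.mem_span_singleton_self _
    exact (mem_nonunits_iff.1 ((mem_maximalIdeal _).1 h2)) h1
  obtain ⟨v₀, hv₀⟩ : ∃ v₀ : CotangentSpace A,
      v₀ = (maximalIdeal A).toCotangent ⟨φ π, hφπ⟩ := ⟨_, rfl⟩
  obtain ⟨ι, instι, b, hb⟩ : ∃ (ι : Type u) (_ : Fintype ι)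
      (b : Module.Basis ι (ResidueField A) (CotangentSpace A)), (π = 0 ∨ ∃ i₀, b i₀ = v₀) := by
    rcases hcase with h0 | hne
    · have hS : LinearIndepOn (ResidueField A) id (∅ : Set (CotangentSpace A)) :=
        linearIndepOn_empty _ _
      haveI : Finite ↥(hS.extend (Set.subset_univ _)) :=
        Module.Finite.finite_basis (Module.Basis.extend hS)
      exact ⟨_, Fintype.ofFinite _, Module.Basis.extend hS, Or.inl h0⟩
    · have hv0 : v₀ ≠ 0 := by
        intro h1
        rw [hv₀, Ideal.toCotangent_eq_zero, h, Ideal.mem_bot] at h1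
        exact hne h1
      have hS : LinearIndepOn (ResidueField A) id ({v₀} : Set (CotangentSpace A)) :=
        LinearIndepOn.singleton hv0
      haveI : Finite ↥(hS.extend (Set.subset_univ _)) :=
        Module.Finite.finite_basis (Module.Basis.extend hS)
      exact ⟨_, Fintype.ofFinite _, Module.Basis.extend hS,
        Or.inr ⟨⟨v₀, Module.Basis.subset_extend hS (Set.mem_singleton v₀)⟩,
          Module.Basis.extend_apply_self hS _⟩⟩
  choose τ hτ using fun i => Ideal.toCotangent_surjective (maximalIdeal A) (b i)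
  let g : ι → maximalIdeal A := fun i => if b i = v₀ then ⟨φ π, hφπ⟩ else τ i
  have hg1 : ∀ i, (maximalIdeal A).toCotangent (g i) = b i := by
    intro i
    by_cases hi : b i = v₀
    · simp only [g, if_pos hi]; rw [hi, hv₀]
    · simp only [g, if_neg hi]; exact hτ i
  let G : ι → MvPolynomial {i : ι // b i ≠ v₀} R := fun i =>
    if hi : b i = v₀ then MvPolynomial.C π else MvPolynomial.X ⟨i, hi⟩
  let ψ₀ : MvPolynomial {i : ι // b i ≠ v₀} R →+* A :=
    MvPolynomial.eval₂Hom φ (fun s => ((τ s.1 : maximalIdeal A) : A))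
  have hψC : ∀ r, ψ₀ (MvPolynomial.C r) = φ r := fun r => MvPolynomial.eval₂Hom_C _ _ r
  have hψX : ∀ s : {i : ι // b i ≠ v₀}, ψ₀ (MvPolynomial.X s) = ((τ s.1 : maximalIdeal A) : A) :=
    fun s => MvPolynomial.eval₂Hom_X' _ _ s
  have hg2 : ∀ i, ψ₀ (G i) = ((g i : maximalIdeal A) : A) := by
    intro i
    by_cases hi : b i = v₀
    · simp only [G, g, dif_pos hi, if_pos hi]; exact hψC π
    · simp only [G, g, dif_neg hi, if_neg hi]; exact hψX ⟨i, hi⟩
  -- independence
  have hind : ∀ c : ι → A, ∑ i, c i * ((g i : maximalIdeal A) : A) = 0 →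
      ∀ i, c i ∈ maximalIdeal A := by
    intro c hc i
    have h1 : ∑ i, c i • g i = 0 := by
      apply Subtype.ext
      rw [Submodule.coe_sum]
      simpa only [Submodule.coe_smul, smul_eq_mul, Submodule.coe_zero] using hc
    have h2 : ∑ i, (algebraMap A (ResidueField A) (c i)) • b i = 0 := by
      have h3 := congrArg (maximalIdeal A).toCotangent h1
      rw [map_sum, map_zero] at h3
      rw [← h3]
      refine Finset.sum_congr rfl fun i _ => ?_
      rw [algebraMap_smul, map_smul, hg1]
    have h4 := Fintype.linearIndependent_iff.1 b.linearIndependent _ h2 i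
    exact (residue_eq_zero_iff _).1 h4
  -- spanning
  have hspan : ∀ x ∈ maximalIdeal A, ∃ c : ι → A, x = ∑ i, c i * ((g i : maximalIdeal A) : A) := by
    intro x hx
    choose c hc using fun i =>
      residue_surjective (b.repr ((maximalIdeal A).toCotangent ⟨x, hx⟩) i)
    refine ⟨c, ?_⟩
    have h1 : (maximalIdeal A).toCotangent ⟨x, hx⟩
        = (maximalIdeal A).toCotangent (∑ i, c i • g i) := by
      rw [map_sum]
      conv_lhs => rw [← b.sum_repr ((maximalIdeal A).toCotangent ⟨x, hx⟩)]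
      refine Finset.sum_congr rfl fun i _ => ?_
      rw [map_smul, hg1, ← hc i]
      exact algebraMap_smul (ResidueField A) (c i) (b i)
    rw [Ideal.toCotangent_eq, h, Ideal.mem_bot, sub_eq_zero] at h1
    have h2 : x = ((∑ i, c i • g i : maximalIdeal A) : A) := h1
    rw [h2, Submodule.coe_sum]
    refine Finset.sum_congr rfl fun i _ => ?_
    rw [Submodule.coe_smul, smul_eq_mul]
  have hmm : ∀ x ∈ maximalIdeal A, ∀ y ∈ maximalIdeal A, x * y = 0 := by
    intro x hx y hy
    have h1 : x * y ∈ maximalIdeal A ^ 2 := by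
      rw [pow_two]; exact Ideal.mul_mem_mul hx hy
    rwa [h, Ideal.mem_bot] at h1
  have hsurj₀ : Function.Surjective ψ₀ := by
    intro a
    obtain ⟨c₀, hc₀⟩ := hres a
    obtain ⟨c, hc⟩ := hspan _ hc₀
    choose d hd using fun i => hres (c i)
    refine ⟨MvPolynomial.C c₀ + ∑ i, MvPolynomial.C (d i) * G i, ?_⟩
    rw [map_add, map_sum]
    have h1 : ∀ i, ψ₀ (MvPolynomial.C (d i) * G i) = c i * ((g i : maximalIdeal A) : A) := by
      intro i
      rw [map_mul, hg2, hψC]
      have h2 := hmm _ (hd i) _ (g i).2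
      linear_combination -h2
    rw [Finset.sum_congr rfl fun i _ => h1 i, ← hc, hψC]
    ring
  have hX_mem : ∀ s : {i : ι // b i ≠ v₀},
      (MvPolynomial.X s : MvPolynomial {i : ι // b i ≠ v₀} R) ∈ Ideal.span (Set.range G) := by
    intro s
    have h1 : G s.1 = MvPolynomial.X s := by
      simp only [G, dif_neg s.2, Subtype.coe_eta]
    rw [← h1]
    exact Ideal.subset_span ⟨s.1, rfl⟩
  have hCπ : (MvPolynomial.C π : MvPolynomial {i : ι // b i ≠ v₀} R)
      ∈ Ideal.span (Set.range G) := by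
    rcases hb with h0 | ⟨i₀, hi₀⟩
    · rw [h0, map_zero]; exact Ideal.zero_mem _
    · have h1 : G i₀ = MvPolynomial.C π := by simp only [G, dif_pos hi₀]
      rw [← h1]; exact Ideal.subset_span ⟨i₀, rfl⟩
  have hG : Ideal.comap ψ₀ (maximalIdeal A) = Ideal.span (Set.range G) := by
    have hle : Ideal.span (Set.range G) ≤ Ideal.comap ψ₀ (maximalIdeal A) := by
      rw [Ideal.span_le]
      rintro _ ⟨i, rfl⟩
      rw [SetLike.mem_coe, Ideal.mem_comap, hg2]
      exact (g i).2
    refine le_antisymm ?_ hle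
    intro f hf
    rw [Ideal.mem_comap] at hf
    have h1 : f - MvPolynomial.C (MvPolynomial.constantCoeff f) ∈ Ideal.span (Set.range G) := by
      have hhom : (Ideal.Quotient.mk (Ideal.span (Set.range G))) =
          (Ideal.Quotient.mk (Ideal.span (Set.range G))).comp
            (MvPolynomial.C.comp MvPolynomial.constantCoeff) := by
        apply MvPolynomial.ringHom_ext
        · intro r
          simp
        · intro s
          rw [RingHom.comp_apply, RingHom.comp_apply, MvPolynomial.constantCoeff_X, map_zero,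
            map_zero]
          exact Ideal.Quotient.eq_zero_iff_mem.2 (hX_mem s)
      rw [← Ideal.Quotient.eq]
      exact RingHom.congr_fun hhom f
    have h3 : ψ₀ (f - MvPolynomial.C (MvPolynomial.constantCoeff f)) ∈ maximalIdeal A := hle h1
    have h4 : φ (MvPolynomial.constantCoeff f) ∈ maximalIdeal A := by
      have h5 : φ (MvPolynomial.constantCoeff f)
          = ψ₀ f - ψ₀ (f - MvPolynomial.C (MvPolynomial.constantCoeff f)) := by
        rw [map_sub, hψC]; ring
      rw [h5]; exact Ideal.sub_mem _ hf h3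
    have h2 : MvPolynomial.constantCoeff f ∈ maximalIdeal R := by
      rw [mem_maximalIdeal, mem_nonunits_iff]
      intro hu
      exact (mem_nonunits_iff.1 ((mem_maximalIdeal _).1 h4)) (hu.map φ)
    rw [hπ] at h2
    obtain ⟨c', hc'⟩ := Ideal.mem_span_singleton'.1 h2
    have h5 : MvPolynomial.C (MvPolynomial.constantCoeff f) ∈ Ideal.span (Set.range G) := by
      rw [← hc', map_mul]
      exact Ideal.mul_mem_left _ _ hCπ
    have h6 := Ideal.add_mem _ h1 h5
    rwa [sub_add_cancel] at h6
  exact lemmaL h ψ₀ hsurj₀ G hG (fun c hc => hind c (by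
    rw [← hc]; exact Finset.sum_congr rfl fun i _ => by rw [hg2]))


open IsLocalRing in
/-- Let A be an Artinian local ring whose maximal ideal 𝔪 satisfies 𝔪² = 0. Then there is a regular
local ring B with maximal ideal 𝔫 such that A ≅ B/𝔫². -/
theorem result {A : Type u} [CommRing A] [IsLocalRing A] [IsArtinianRing A]
    (h : maximalIdeal A ^ 2 = ⊥) :
    ∃ (B : Type u) (_ : CommRing B) (_ : IsRegularLocalRing B), Nonempty (A ≃+* B ⧸ IsLocalRing.maximalIdeal B ^ 2) := by
  classical
  haveI : IsNoetherianRing A := inferInstance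
  haveI : IsAdicComplete (maximalIdeal A) A :=
    Groth.Agent.S2459.isAdicComplete_of_pow_eq_bot _ 2 h
  haveI : IsLocalRing (A ⧸ maximalIdeal A) := inferInstanceAs (IsLocalRing (ResidueField A))
  have hne : maximalIdeal A ≠ ⊤ := (IsLocalRing.maximalIdeal.isMaximal A).ne_top
  obtain ⟨p, hp⟩ := CharP.exists (ResidueField A)
  haveI := hp
  by_cases hp0 : p = 0
  · subst hp0
    haveI : CharZero (ResidueField A) := CharP.charP_to_charZero _
    let u : ResidueField A →+* A ⧸ maximalIdeal A := RingHom.id _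
    haveI : IsLocalHom u := ⟨fun w hw => hw⟩
    obtain ⟨v, hvl, hv⟩ := Groth.Agent.S2456.result (W := ResidueField A) (C := A)
      (Or.inl ⟨Field.toIsField _, inferInstance⟩) (maximalIdeal A) hne u
    haveI := hvl
    refine lemmaM h (0 : ResidueField A) ?_ v ?_ (Or.inl rfl)
    · rw [Ideal.span_singleton_eq_bot.2 rfl]
      exact IsLocalRing.maximalIdeal_eq_bot
    · intro a
      have h1 : Ideal.Quotient.mk (maximalIdeal A) (v (residue A a)) = residue A a :=
        RingHom.congr_fun hv (residue A a)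
      exact ⟨residue A a, Ideal.Quotient.eq.1 h1.symm⟩
  · have hpp : p.Prime := (CharP.char_is_prime_or_zero (ResidueField A) p).resolve_right hp0
    haveI : Fact p.Prime := ⟨hpp⟩
    obtain ⟨Λ, instΛ, instL, hΛ, ⟨ε⟩⟩ := Groth.Agent.S0578.result p (ResidueField A)
    let u : Λ →+* A ⧸ maximalIdeal A := ε.toRingHom.comp (residue Λ)
    haveI : IsLocalHom u := ⟨fun w hw => by
      have h1 : IsUnit (ε.symm (ε (residue Λ w))) := IsUnit.map ε.symm hw
      rw [RingEquiv.symm_apply_apply] at h1
      exact isUnit_of_map_unit (residue Λ) w h1⟩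
    obtain ⟨v, hvl, hv⟩ := Groth.Agent.S2456.result (W := Λ) (C := A) (Or.inr hΛ)
      (maximalIdeal A) hne u
    haveI := hvl
    have hu_surj : Function.Surjective u := ε.surjective.comp residue_surjective
    have hres : ∀ a : A, ∃ c : Λ, a - v c ∈ maximalIdeal A := by
      intro a
      obtain ⟨c, hc⟩ := hu_surj (Ideal.Quotient.mk (maximalIdeal A) a)
      have h1 : Ideal.Quotient.mk (maximalIdeal A) (v c) = u c := RingHom.congr_fun hv c
      exact ⟨c, Ideal.Quotient.eq.1 (hc.symm.trans h1.symm)⟩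
    obtain ⟨hD, hDVR, hcomp, q, hq, hmΛ⟩ := hΛ
    by_cases hvq : v ((q : ℕ) : Λ) = 0
    · have hker : ∀ a ∈ maximalIdeal Λ, v a = 0 := by
        intro a ha
        rw [hmΛ] at ha
        obtain ⟨c, rfl⟩ := Ideal.mem_span_singleton'.1 ha
        rw [map_mul, hvq, mul_zero]
      let φ : ResidueField Λ →+* A := Ideal.Quotient.lift (maximalIdeal Λ) v hker
      haveI : IsLocalHom φ := ⟨fun x hx => by
        have hx0 : x ≠ 0 := by
          rintro rfl
          rw [map_zero] at hx
          exact not_isUnit_zero hx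
        exact isUnit_iff_ne_zero.2 hx0⟩
      refine lemmaM h (0 : ResidueField Λ) ?_ φ ?_ (Or.inl rfl)
      · rw [Ideal.span_singleton_eq_bot.2 rfl]
        exact IsLocalRing.maximalIdeal_eq_bot
      · intro a
        obtain ⟨c, hc⟩ := hres a
        exact ⟨residue Λ c, hc⟩
    · exact lemmaM h ((q : ℕ) : Λ) hmΛ v hres (Or.inr hvq)

end Groth.Agent.S2458
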