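import Groth.Statements.S2464
import Groth.Agent.H44.PBasis

set_option autoImplicit false
universe u
open EGA41

namespace Groth.Agent.S2464

/-- Let p be a prime, B a ring of characteristic p and A → B an injective ring map whose image contains
every p-th power, and (x_α) a p-basis of B over A. Let E be an A-algebra and q : E → B a surjective
A-algebra homomorphism whose kernel K has K^p = 0. (i) q admits an A-algebra right inverse if and
only if, for all z ∈ E and a ∈ A with a ↦ q(z)^p in B, the image of a in E is z^p. (ii) When this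
holds, for every family (z_α) in E with q(z_α) = x_α there is a unique A-algebra homomorphism v : B
→ E with v(x_α) = z_α for all α, and q ∘ v is the identity. -/
theorem result (p : ℕ) [Fact p.Prime] {A B : Type u} [CommRing A] [CommRing B] [Algebra A B] [CharP B p]
    (hinj : Function.Injective (algebraMap A B)) (hpow : ∀ b : B, b ^ p ∈ Set.range (algebraMap A B))
    {ι : Type u} (x : ι → B) (hx : EGA41.IsPBasis p A x)
    {E : Type u} [CommRing E] [Algebra A E] (q : E →ₐ[A] B) (hq : Function.Surjective q) (hK : RingHom.ker q.toRingHom ^ p = ⊥) :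
    ((∃ v : B →ₐ[A] E, q.comp v = AlgHom.id A B) ↔ ∀ (z : E) (a : A), algebraMap A B a = q z ^ p → algebraMap A E a = z ^ p) ∧
    ((∀ (z : E) (a : A), algebraMap A B a = q z ^ p → algebraMap A E a = z ^ p) →
      ∀ z : ι → E, (∀ i, q (z i) = x i) →
        (∃! v : B →ₐ[A] E, ∀ i, v (x i) = z i) ∧ ∀ v : B →ₐ[A] E, (∀ i, v (x i) = z i) → q.comp v = AlgHom.id A B) := by
  classical
  have hp : p.Prime := Fact.out
  have hli := Groth.Agent.H44.PBasis.linearIndependent_of_isPIndependent p x hinj hx.1
  have hsp := Groth.Agent.H44.PBasis.span_eq_top_of_isPGenerating p x hpow hx.2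
  choose a ha using fun i => hpow (x i)
  -- `p = 0` in `E`
  have hpA : (p : A) = 0 := by
    apply hinj
    rw [map_natCast, map_zero, CharP.cast_eq_zero B p]
  have hpE : (p : E) = 0 := by
    rw [← map_natCast (algebraMap A E), hpA, map_zero]
  have hadd : ∀ u w : E, (u + w) ^ p = u ^ p + w ^ p := by
    intro u w
    rw [add_pow_prime_eq' hp, hpE, zero_mul, add_zero]
  -- the key construction
  have key : (∀ (z : E) (a : A), algebraMap A B a = q z ^ p → algebraMap A E a = z ^ p) →
      ∀ z : ι → E, (∀ i, q (z i) = x i) →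
        (∃! v : B →ₐ[A] E, ∀ i, v (x i) = z i) ∧
          ∀ v : B →ₐ[A] E, (∀ i, v (x i) = z i) → q.comp v = AlgHom.id A B := by
    intro hstar z hzq
    have hz : ∀ i, z i ^ p = algebraMap A E (a i) := fun i =>
      (hstar (z i) (a i) (by rw [ha i, hzq i])).symm
    obtain ⟨v₀, ⟨hv1, hv2⟩, huniq⟩ := Groth.Agent.H44.PBasis.existsUnique_ringHom hp.pos x a ha
      hli hsp (algebraMap A E) z hz
    obtain ⟨w₀, ⟨hw1, hw2⟩, hwuniq⟩ := Groth.Agent.H44.PBasis.existsUnique_ringHom hp.pos x a ha
      hli hsp (algebraMap A B) x (fun i => (ha i).symm)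
    let v : B →ₐ[A] E := { v₀ with commutes' := fun r => RingHom.congr_fun hv1 r }
    have hvv : ∀ b, v b = v₀ b := fun b => rfl
    refine ⟨⟨v, fun i => hv2 i, ?_⟩, ?_⟩
    · intro v' hv'
      have h1 : v'.toRingHom = v₀ := huniq v'.toRingHom ⟨by ext r; simp, fun i => hv' i⟩
      ext b
      exact congrArg (fun h => h b) h1
    · intro v hv
      have h1 : (q.comp v).toRingHom = w₀ :=
        hwuniq (q.comp v).toRingHom ⟨by ext r; simp, fun i => by simp [hv i, hzq i]⟩
      have h2 : (AlgHom.id A B).toRingHom = w₀ :=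
        hwuniq (AlgHom.id A B).toRingHom ⟨by ext r; simp, fun i => by simp⟩
      ext b
      have := congrArg (fun h => h b) (h1.trans h2.symm)
      simpa using this
  refine ⟨⟨?_, ?_⟩, key⟩
  · rintro ⟨v, hv⟩ z a' hza
    have hqv : ∀ b, q (v b) = b := fun b => by
      have := congrArg (fun h => h b) hv
      simpa using this
    have hk : z - v (q z) ∈ RingHom.ker q.toRingHom := by
      rw [RingHom.mem_ker]
      simp [hqv]
    have hk0 : (z - v (q z)) ^ p = 0 := by
      have := Ideal.pow_mem_pow hk p
      rwa [hK, Ideal.mem_bot] at this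
    have hz : v (q z) + (z - v (q z)) = z := by ring
    symm
    calc z ^ p = (v (q z) + (z - v (q z))) ^ p := by rw [hz]
      _ = v (q z) ^ p + (z - v (q z)) ^ p := hadd _ _
      _ = v (q z) ^ p := by rw [hk0, add_zero]
      _ = v (q z ^ p) := by rw [map_pow]
      _ = v (algebraMap A B a') := by rw [hza]
      _ = algebraMap A E a' := AlgHom.commutes v a'
  · intro hstar
    choose z hz using fun i => hq (x i)
    obtain ⟨⟨v, hv, -⟩, hsec⟩ := key hstar z hz
    exact ⟨v, hsec v hv⟩

end Groth.Agent.S2464
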