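import Groth.Statements.S2465
import Groth.Agent.H44.PBasisDer

set_option autoImplicit false
universe u
open EGA41

namespace Groth.Agent.S2465

/-- Let p be a prime, B a ring of characteristic p, A → B injective with image containing all p-th
powers, (x_α) a p-basis of B over A, and L a B-module. (i) An additive derivation D : A → L extends
to a derivation of B if and only if D vanishes on the elements of A mapping to p-th powers. (ii) In
that case, for every family (y_α) in L there is a unique derivation D' of B into L extending D with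
D'(x_α) = y_α for all α. -/
theorem result (p : ℕ) [Fact p.Prime] {A B : Type u} [CommRing A] [CommRing B] [Algebra A B] [CharP B p]
    (hinj : Function.Injective (algebraMap A B)) (hpow : ∀ b : B, b ^ p ∈ Set.range (algebraMap A B))
    {ι : Type u} (x : ι → B) (hx : EGA41.IsPBasis p A x)
    (L : Type u) [AddCommGroup L] [Module B L] [Module A L] [IsScalarTower A B L] (D : Derivation ℤ A L) :
    ((∃ D' : Derivation ℤ B L, ∀ a : A, D' (algebraMap A B a) = D a) ↔ ∀ (a : A) (b : B), algebraMap A B a = b ^ p → D a = 0) ∧
    ((∀ (a : A) (b : B), algebraMap A B a = b ^ p → D a = 0) →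
      ∀ y : ι → L, ∃! D' : Derivation ℤ B L, (∀ a : A, D' (algebraMap A B a) = D a) ∧ ∀ i, D' (x i) = y i) := by
  classical
  have hp : p.Prime := Fact.out
  have hli := Groth.Agent.H44.PBasis.linearIndependent_of_isPIndependent p x hinj hx.1
  have hsp := Groth.Agent.H44.PBasis.span_eq_top_of_isPGenerating p x hpow hx.2
  choose a ha using fun i => hpow (x i)
  have hpB : (p : B) = 0 := CharP.cast_eq_zero B p
  have hpL : ∀ l : L, p • l = 0 := fun l => by
    rw [← Nat.cast_smul_eq_nsmul B p l, hpB, zero_smul]
  let δ : A →+ L := D.toLinearMap.toAddMonoidHom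
  have hδD : ∀ r, δ r = D r := fun r => rfl
  have hδ : ∀ r s, δ (r * s) = algebraMap A B r • δ s + algebraMap A B s • δ r := by
    intro r s
    rw [hδD, hδD, hδD, D.leibniz, algebraMap_smul, algebraMap_smul]
  have key : (∀ (a : A) (b : B), algebraMap A B a = b ^ p → D a = 0) →
      ∀ y : ι → L, ∃! D' : Derivation ℤ B L,
        (∀ a : A, D' (algebraMap A B a) = D a) ∧ ∀ i, D' (x i) = y i := by
    intro h y
    exact Groth.Agent.H44.PBasis.existsUnique_derivation hp.pos hpB x a ha hli hsp δ hδ
      (fun i => h (a i) (x i) (ha i)) y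
  refine ⟨⟨?_, ?_⟩, key⟩
  · rintro ⟨D', hD'⟩ a' b hab
    rw [← hD', hab, Derivation.leibniz_pow, hpL]
  · intro h
    obtain ⟨D', ⟨hD', -⟩, -⟩ := key h 0
    exact ⟨D', hD'⟩

end Groth.Agent.S2465
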