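import Groth.Statements.S2467
import Groth.Agent.H44.PBasisField

set_option autoImplicit false
universe u
open EGA41

namespace Groth.Agent.S2467

/-- Let k ⊆ K be fields of characteristic p > 0, S ⊆ K a system of p-generators of K over k and L ⊆ S a
subset which is p-free over k. Then there is a p-basis B of K over k with L ⊆ B ⊆ S. In particular
every extension of k has a p-basis over k. -/
theorem result (p : ℕ) [Fact p.Prime] {k K : Type u} [Field k] [Field K] [Algebra k K] [CharP K p]
    (S L : Set K) (hLS : L ⊆ S) (hS : EGA41.IsPGenerating p k (Subtype.val : S → K)) (hL : EGA41.IsPIndependent p k (Subtype.val : L → K)) :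
    ∃ B : Set K, L ⊆ B ∧ B ⊆ S ∧ EGA41.IsPBasis p k (Subtype.val : B → K) := by
  classical
  have hp : p.Prime := Fact.out
  have h0 : LinearIndepOn (EGA41.pPowerSubalgebra p k K)
      (Groth.Agent.H44.PBasis.mono (id : K → K)) (Groth.Agent.H44.PBasis.redSet p L) := by
    have := (Groth.Agent.H44.PBasis.linearIndependent_redMono_comp_iff p
      (C := EGA41.pPowerSubalgebra p k K) (id : K → K) hp.pos
      (Subtype.val : L → K) Subtype.val_injective).mp hL
    rwa [Subtype.range_val] at this
  obtain ⟨B, hLB, hBS, hBind, hBgen⟩ := Groth.Agent.H44.PBasis.exists_maximal_redSet p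
    (id : K → K) (Groth.Agent.H44.PBasis.hC_pPower (k := k) p) hLS h0
  refine ⟨B, hLB, hBS, ?_⟩
  have hSgen : Algebra.adjoin (EGA41.pPowerSubalgebra p k K)
      (Set.range (Subtype.val : S → K)) = ⊤ :=
    (Groth.Agent.H44.PBasis.isPGenerating_iff_adjoin p _).mp hS
  rw [Subtype.range_val] at hSgen
  have hle : Algebra.adjoin (EGA41.pPowerSubalgebra p k K) S ≤
      Algebra.adjoin (EGA41.pPowerSubalgebra p k K) (id '' B) :=
    Algebra.adjoin_le fun s hs => hBgen s hs
  have := Groth.Agent.H44.PBasis.isPBasis_subtype p (id : K → K) B hBind (fun b => hle (by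
    rw [hSgen]
    exact Algebra.mem_top))
  exact this

end Groth.Agent.S2467
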