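import Groth.Statements.S2469
import Groth.Agent.H44.Cartier

set_option autoImplicit false
universe u
open EGA41

namespace Groth.Agent.S2469

/-- Let L be a finitely generated extension field of K. Then Ω_{L/K} and the imperfection module Υ_{L/K}
(kernel of Ω_{K/ℤ} ⊗_K L → Ω_{L/ℤ}) are finite-dimensional L-vector spaces and rank Ω_{L/K} − rank
Υ_{L/K} equals the transcendence degree of L over K. -/
theorem result {K L : Type u} [Field K] [Field L] [Algebra K L] [Algebra.EssFiniteType K L] :
    Module.Finite L (Ω[L⁄K]) ∧ Module.Finite L (EGA41.imperfection ℤ K L) ∧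
      (Module.finrank L (Ω[L⁄K]) : ℤ) - Module.finrank L (EGA41.imperfection ℤ K L) = Cardinal.toNat (Algebra.trdeg K L) := by
  obtain ⟨h1, h2, h3⟩ := Groth.Agent.H44.Cartier.cartier K L
  haveI := h2
  obtain ⟨h4, h5⟩ := Groth.Agent.H44.Cartier.imperfection_int K L
  exact ⟨h1, h4, by rw [h5]; exact h3⟩

end Groth.Agent.S2469
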