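import Groth.Statements.S2470
import Mathlib
import Groth.Agent.S2599
import Groth.Agent.S0565
import Groth.Agent.S3447
import Groth.Agent.H71.FlatRegular
import Groth.Agent.H29.FlatCM
import Groth.Agent.H72.RegLoc

set_option autoImplicit false
set_option linter.style.haveILetI false
set_option linter.unusedSectionVars false
set_option linter.unusedVariables false
universe u
open EGA41

namespace Groth.Agent.S2470

section Helpers

open IsLocalRing

theorem dimQ {T : Type u} [CommRing T] (I : Ideal T) :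
    Module.supportDim T (T ⧸ (I • (⊤ : Submodule T T))) = ringKrullDim (T ⧸ I) := by
  have h : I • (⊤ : Submodule T T) = I := by rw [smul_eq_mul, Ideal.mul_top]
  rw [h]
  exact Module.supportDim_quotient_eq_ringKrullDim I

theorem exists_nat_dim (R : Type u) [CommRing R] [IsLocalRing R] [IsNoetherianRing R] :
    ∃ n : ℕ, ringKrullDim R = ((n : ℕ∞) : WithBot ℕ∞) := by
  obtain ⟨n, hn⟩ := Groth.Agent.H29.CM.exists_nat_supportDim (A := R) (M := R)
  rw [Module.supportDim_self_eq_ringKrullDim] at hn
  exact ⟨n, hn⟩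

theorem dim_le_emb (R : Type u) [CommRing R] [IsLocalRing R] [IsNoetherianRing R] (n : ℕ)
    (hn : ringKrullDim R = ((n : ℕ∞) : WithBot ℕ∞)) : n ≤ (maximalIdeal R).spanFinrank := by
  have h := ringKrullDim_le_spanFinrank_maximalIdeal R
  rw [hn] at h
  have h' : ((n : ℕ∞) : WithBot ℕ∞) ≤ (((maximalIdeal R).spanFinrank : ℕ∞) : WithBot ℕ∞) := h
  rw [WithBot.coe_le_coe, Nat.cast_le] at h'
  exact h'

theorem reg_iff (R : Type u) [CommRing R] [IsLocalRing R] [IsNoetherianRing R] (n : ℕ)
    (hn : ringKrullDim R = ((n : ℕ∞) : WithBot ℕ∞)) :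
    IsRegularLocalRing R ↔ (maximalIdeal R).spanFinrank = n := by
  rw [isRegularLocalRing_iff, hn]
  constructor
  · intro h
    have h' : (((maximalIdeal R).spanFinrank : ℕ∞) : WithBot ℕ∞) = ((n : ℕ∞) : WithBot ℕ∞) := h
    rw [WithBot.coe_inj, Nat.cast_inj] at h'
    exact h'
  · intro h
    rw [h]
    rfl

theorem numeric {A B : Type u} [CommRing A] [IsLocalRing A] [IsNoetherianRing A] [CommRing B]
    [IsLocalRing B] [IsNoetherianRing B] [Algebra A B] [IsLocalHom (algebraMap A B)]
    [IsLocalRing (B ⧸ (maximalIdeal A).map (algebraMap A B))] :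
    ∃ nA nB nF : ℕ, ringKrullDim A = ((nA : ℕ∞) : WithBot ℕ∞) ∧
      ringKrullDim B = ((nB : ℕ∞) : WithBot ℕ∞) ∧
      ringKrullDim (B ⧸ (maximalIdeal A).map (algebraMap A B)) = ((nF : ℕ∞) : WithBot ℕ∞) ∧
      nA ≤ (maximalIdeal A).spanFinrank ∧ nB ≤ (maximalIdeal B).spanFinrank ∧
      nF ≤ (maximalIdeal (B ⧸ (maximalIdeal A).map (algebraMap A B))).spanFinrank ∧
      nB ≤ nA + nF ∧
      (maximalIdeal B).spanFinrank ≤ (maximalIdeal A).spanFinrank +
        (maximalIdeal (B ⧸ (maximalIdeal A).map (algebraMap A B))).spanFinrank := by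
  obtain ⟨nA, hA⟩ := exists_nat_dim A
  obtain ⟨nB, hB⟩ := exists_nat_dim B
  obtain ⟨nF, hF⟩ := exists_nat_dim (B ⧸ (maximalIdeal A).map (algebraMap A B))
  refine ⟨nA, nB, nF, hA, hB, hF, dim_le_emb A nA hA, dim_le_emb B nB hB,
    dim_le_emb _ nF hF, ?_, ?_⟩
  · have h := Groth.Agent.S3447.dim_le (algebraMap A B)
    rw [hA, hB, hF, ← WithBot.coe_add, WithBot.coe_le_coe] at h
    exact_mod_cast h
  · have hIle : (maximalIdeal A).map (algebraMap A B) ≤ maximalIdeal B :=
      IsLocalRing.map_maximalIdeal_le (algebraMap A B)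
    have h0 := Groth.Agent.H71.FR.spanFinrank_maximalIdeal_le_add B _ hIle
    have h1 : ((maximalIdeal A).map (algebraMap A B)).spanFinrank ≤
        (maximalIdeal A).spanFinrank :=
      Ideal.spanFinrank_map_le_of_fg _ (IsNoetherian.noetherian _)
    omega

end Helpers


open IsLocalRing in
/-- Let A → B be a local homomorphism of Noetherian local rings with maximal ideals 𝔪, 𝔫 and residue
fields k, k', and let B₀ = B/𝔪B be the closed fibre. The following are equivalent: (a) B is regular
and the canonical map (𝔪/𝔪²) ⊗_k k' → 𝔫/𝔫² is injective — stated here through dimensions, as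
rank_{k'} 𝔫/𝔫² = rank_k 𝔪/𝔪² + rank_{k'} of the cotangent space of B₀, which is equivalent since the
cokernel of that map is the cotangent space of B₀; (c) B and B₀ are regular and B is flat over A;
(d) A and B₀ are regular and B is flat over A; (e) A and B₀ are regular and dim B = dim A + dim B₀.
(Condition (b) of the source, on regular systems of parameters, is not stated.) -/
theorem result {A B : Type u} [CommRing A] [IsLocalRing A] [IsNoetherianRing A] [CommRing B] [IsLocalRing B] [IsNoetherianRing B]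
    [Algebra A B] [IsLocalHom (algebraMap A B)] [IsLocalRing (B ⧸ (maximalIdeal A).map (algebraMap A B))] :
    [IsRegularLocalRing B ∧
       Module.finrank (ResidueField B) (CotangentSpace B) =
         Module.finrank (ResidueField A) (CotangentSpace A) +
           Module.finrank (ResidueField (B ⧸ (maximalIdeal A).map (algebraMap A B))) (CotangentSpace (B ⧸ (maximalIdeal A).map (algebraMap A B))),
     IsRegularLocalRing B ∧ IsRegularLocalRing (B ⧸ (maximalIdeal A).map (algebraMap A B)) ∧ Module.Flat A B,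
     IsRegularLocalRing A ∧ IsRegularLocalRing (B ⧸ (maximalIdeal A).map (algebraMap A B)) ∧ Module.Flat A B,
     IsRegularLocalRing A ∧ IsRegularLocalRing (B ⧸ (maximalIdeal A).map (algebraMap A B)) ∧
       ringKrullDim B = ringKrullDim A + ringKrullDim (B ⧸ (maximalIdeal A).map (algebraMap A B))].TFAE := by
  obtain ⟨nA, nB, nF, hdA, hdB, hdF, hA, hB, hF, h1, h2⟩ := numeric (A := A) (B := B)
  have rA := reg_iff A nA hdA
  have rB := reg_iff B nB hdB
  have rF := reg_iff (B ⧸ (IsLocalRing.maximalIdeal A).map (algebraMap A B)) nF hdF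
  have cA := IsLocalRing.spanFinrank_maximalIdeal_eq_finrank_cotangentSpace A
  have cB := IsLocalRing.spanFinrank_maximalIdeal_eq_finrank_cotangentSpace B
  have cF := IsLocalRing.spanFinrank_maximalIdeal_eq_finrank_cotangentSpace
    (B ⧸ (IsLocalRing.maximalIdeal A).map (algebraMap A B))
  have hdim_iff : ringKrullDim B = ringKrullDim A +
      ringKrullDim (B ⧸ (IsLocalRing.maximalIdeal A).map (algebraMap A B)) ↔
      nB = nA + nF := by
    rw [hdA, hdB, hdF, ← WithBot.coe_add, WithBot.coe_inj]
    exact ⟨fun h => by exact_mod_cast h, fun h => by exact_mod_cast h⟩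
  tfae_have 1 → 4 := by
    rintro ⟨hB', hfin⟩
    rw [← cA, ← cB, ← cF] at hfin
    have e1 := rB.mp hB'
    exact ⟨rA.mpr (by omega), rF.mpr (by omega), hdim_iff.mpr (by omega)⟩
  tfae_have 4 → 2 := by
    rintro ⟨hA', hF', hdim⟩
    have e1 := rA.mp hA'
    have e2 := rF.mp hF'
    have e3 := hdim_iff.mp hdim
    have hB' : IsRegularLocalRing B := rB.mpr (by omega)
    refine ⟨hB', hF', ?_⟩
    haveI := hA'
    haveI := hB'
    have hCM := Groth.Agent.H72.RegLoc.isCM_of_isRegularLocalRing B
    refine Groth.Agent.S2599.result A B B hCM ?_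
    rw [Module.supportDim_self_eq_ringKrullDim, hdim]
    congr 1
    exact (dimQ _).symm
  tfae_have 2 → 3 := by
    rintro ⟨hB', hF', hfl⟩
    haveI := hB'
    haveI := hfl
    exact ⟨Groth.Agent.S0565.result A B, hF', hfl⟩
  tfae_have 3 → 4 := by
    rintro ⟨hA', hF', hfl⟩
    haveI := hfl
    exact ⟨hA', hF', Groth.Agent.H29.FlatCM.ringKrullDim_eq_add_fibre⟩
  tfae_have 4 → 1 := by
    rintro ⟨hA', hF', hdim⟩
    have e1 := rA.mp hA'
    have e2 := rF.mp hF'
    have e3 := hdim_iff.mp hdim
    refine ⟨rB.mpr (by omega), ?_⟩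
    rw [← cA, ← cB, ← cF]
    omega
  tfae_finish

end Groth.Agent.S2470
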