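import Groth.Statements.S2472
import Groth.Agent.H87.FSExist

set_option autoImplicit false
set_option maxHeartbeats 400000
universe u
open EGA41

namespace Groth.Agent.S2472

open IsLocalRing in
/-- Existence part and the range of dimensions: let k ⊆ K be fields. There is a Noetherian local
k-algebra A, formally smooth over k for its adic topology, whose residue field is k-isomorphic to K,
if and only if Υ_{K/k} is a finite-dimensional K-vector space. When this holds, for every integer n
≥ rank Υ_{K/k} there is such an A which is moreover complete and of dimension n. (The source's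
uniqueness-up-to-isomorphism clause for a given dimension is not stated.) -/
theorem result {k K : Type u} [Field k] [Field K] [Algebra k K] :
    ((∃ (A : Type u) (_ : CommRing A) (_ : IsLocalRing A) (_ : IsNoetherianRing A) (_ : Algebra k A),
        CAlgX.IsAdicFormallySmooth k A (maximalIdeal A) ∧ Nonempty (ResidueField A ≃ₐ[k] K)) ↔
      Module.Finite K (EGA41.imperfection ℤ k K)) ∧
    (Module.Finite K (EGA41.imperfection ℤ k K) → ∀ n : ℕ, Module.finrank K (EGA41.imperfection ℤ k K) ≤ n →
      ∃ (A : Type u) (_ : CommRing A) (_ : IsLocalRing A) (_ : IsNoetherianRing A) (_ : Algebra k A),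
        IsAdicComplete (maximalIdeal A) A ∧ CAlgX.IsAdicFormallySmooth k A (maximalIdeal A) ∧
        Nonempty (ResidueField A ≃ₐ[k] K) ∧ ringKrullDim A = n) := by
  have key : Module.Finite K (EGA41.imperfection ℤ k K) → ∀ n : ℕ,
      Module.finrank K (EGA41.imperfection ℤ k K) ≤ n →
      ∃ (A : Type u) (_ : CommRing A) (_ : IsLocalRing A) (_ : IsNoetherianRing A)
        (_ : Algebra k A),
        IsAdicComplete (maximalIdeal A) A ∧ CAlgX.IsAdicFormallySmooth k A (maximalIdeal A) ∧
        Nonempty (ResidueField A ≃ₐ[k] K) ∧ ringKrullDim A = n := by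
    intro hfin n hn
    obtain ⟨φ, hφ1, hφ2⟩ := Groth.Agent.H87.FSExist.exists_smooth_ps hfin n hn
    have _ : IsAdicComplete (maximalIdeal K) K := Groth.Agent.H61.Obs.field_isAdicComplete K
    exact ⟨MvPowerSeries (Fin n) K, inferInstance, inferInstance, inferInstance, φ.toAlgebra,
      inferInstance, hφ1, hφ2, Groth.Agent.H61.Obs.ps_dim_eq n⟩
  refine ⟨⟨?_, fun hfin => ?_⟩, key⟩
  · rintro ⟨A, _, _, _, _, h, ⟨e⟩⟩
    exact Groth.Agent.H87.FSExist.finite_imperfection_of_smooth h e
  · obtain ⟨A, i1, i2, i3, i4, -, h, e, -⟩ := key hfin _ le_rfl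
    exact ⟨A, i1, i2, i3, i4, h, e⟩

end Groth.Agent.S2472
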