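import Groth.Statements.S2476
import Groth.Agent.H14.AdicReg
import Groth.Agent.H14.FreeQuot
import Groth.Agent.H14.H1Residue
import Groth.Agent.H14.AdicH1
import Groth.Agent.H44.Cartier
import Groth.Agent.S4528
import Groth.Agent.S4540
import Groth.Agent.S4537

set_option autoImplicit false
universe u
open EGA41

namespace Groth.Agent.S2476

open IsLocalRing in
/-- Let k₀ be a field and A a complete Noetherian local k₀-algebra, formally smooth over k₀ for the adic
topology, whose residue field K is a finitely generated extension of k₀. Then the 𝔪-adic completion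
Ω̂_{A/k₀} of Ω_{A/k₀} is a free A-module of rank dim A + trdeg_{k₀} K. -/
theorem result {k₀ A : Type u} [Field k₀] [CommRing A] [IsLocalRing A] [IsNoetherianRing A] [Algebra k₀ A]
    [IsAdicComplete (maximalIdeal A) A] (hfs : CAlgX.IsAdicFormallySmooth k₀ A (maximalIdeal A))
    [Algebra.EssFiniteType k₀ (ResidueField A)] :
    Module.Finite A (AdicCompletion (maximalIdeal A) (Ω[A⁄k₀])) ∧ Module.Free A (AdicCompletion (maximalIdeal A) (Ω[A⁄k₀])) ∧
      (Module.finrank A (AdicCompletion (maximalIdeal A) (Ω[A⁄k₀])) : WithBot ℕ∞) =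
        ringKrullDim A + (Cardinal.toNat (Algebra.trdeg k₀ (ResidueField A)) : WithBot ℕ∞) := by
  classical
  have hfin : Module.Finite A (AdicCompletion (maximalIdeal A) (Ω[A⁄k₀])) :=
    Groth.Agent.S4528.result
  have hreg : IsRegularLocalRing A :=
    Groth.Agent.H14.AdicReg.isRegularLocalRing_of_isAdicFormallySmooth_field k₀ A hfs
  have hfg : (maximalIdeal A).FG := IsNoetherian.noetherian _
  -- freeness
  have hFSA : EGA41.IsFormallySmoothAdic k₀ (maximalIdeal k₀) A (maximalIdeal A) := by
    rw [IsLocalRing.maximalIdeal_eq_bot]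
    exact (Groth.Agent.S4537.result _).mp hfs
  have hfree : Module.Free A (AdicCompletion (maximalIdeal A) (Ω[A⁄k₀])) := by
    apply Groth.Agent.H14.FreeQuot.free_of_forall_projective_quotient
    intro j
    have h1 : Module.Free (A ⧸ maximalIdeal A ^ (j + 1))
        (TensorProduct A (A ⧸ maximalIdeal A ^ (j + 1)) (Ω[A⁄k₀])) :=
      Groth.Agent.S4540.result hFSA (maximalIdeal A ^ (j + 1))
        (Ideal.pow_le_self (Nat.succ_ne_zero j)) ⟨j + 1, le_rfl⟩
    have e := Groth.Agent.H14.FreeQuot.quotTensorCompletionEquiv (maximalIdeal A) (Ω[A⁄k₀]) hfg (j + 1)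
    have h2 : Module.Free (A ⧸ maximalIdeal A ^ (j + 1))
        (TensorProduct A (A ⧸ maximalIdeal A ^ (j + 1)) (AdicCompletion (maximalIdeal A) (Ω[A⁄k₀]))) :=
      Module.Free.of_equiv e.symm
    infer_instance
  refine ⟨hfin, hfree, ?_⟩
  -- the rank
  have hbc : Module.finrank (ResidueField A)
      (TensorProduct A (ResidueField A) (AdicCompletion (maximalIdeal A) (Ω[A⁄k₀]))) =
      Module.finrank A (AdicCompletion (maximalIdeal A) (Ω[A⁄k₀])) := Module.finrank_baseChange
  have hcomp := Groth.Agent.H14.FreeQuot.finrank_residueField_tensor_completion (A := A) (Ω[A⁄k₀]) hfg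
  have hinj := Groth.Agent.H14.h1Cotangent_map_injective_of_isAdicFormallySmooth (A := k₀) (B := A)
    (K := ResidueField A) hfs ⟨1, fun x hx => by
      rw [pow_one] at hx
      exact (IsLocalRing.residue_eq_zero_iff x).mpr hx⟩
  obtain ⟨c1, c2, c3⟩ := Groth.Agent.H44.Cartier.cartier k₀ (ResidueField A)
  have hV2fin : Module.Finite (ResidueField A) (Algebra.H1Cotangent A (ResidueField A)) :=
    Module.Finite.equiv (Groth.Agent.H14.H1Residue.h1Equiv A).symm
  have hV2 : Module.finrank (ResidueField A) (Algebra.H1Cotangent A (ResidueField A)) =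
      Module.finrank (ResidueField A) (CotangentSpace A) :=
    (Groth.Agent.H14.H1Residue.h1Equiv A).finrank_eq
  have hV3fin : Module.Finite (ResidueField A) (TensorProduct A (ResidueField A) (Ω[A⁄k₀])) :=
    Groth.Agent.H44.Cartier.finite_of_exact _ _
      (Algebra.H1Cotangent.exact_δ_mapBaseChange k₀ A (ResidueField A))
  have e12 := Groth.Agent.H44.Cartier.finrank_exact _ _
    (Algebra.H1Cotangent.exact_map_δ k₀ A (ResidueField A))
  have e23 := Groth.Agent.H44.Cartier.finrank_exact _ _
    (Algebra.H1Cotangent.exact_δ_mapBaseChange k₀ A (ResidueField A))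
  have r1 := LinearMap.finrank_range_of_inj hinj
  have hsurj : Function.Surjective (KaehlerDifferential.mapBaseChange k₀ A (ResidueField A)) :=
    KaehlerDifferential.mapBaseChange_surjective k₀ A (ResidueField A) IsLocalRing.residue_surjective
  have r3 : Module.finrank (ResidueField A)
      (LinearMap.range (KaehlerDifferential.mapBaseChange k₀ A (ResidueField A))) =
      Module.finrank (ResidueField A) (Ω[ResidueField A⁄k₀]) := by
    rw [LinearMap.range_eq_top.mpr hsurj, finrank_top]
  have hd : ((Module.finrank (ResidueField A) (CotangentSpace A) : ℕ) : WithBot ℕ∞) = ringKrullDim A := by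
    rw [← IsLocalRing.spanFinrank_maximalIdeal_eq_finrank_cotangentSpace]
    exact hreg.spanFinrank_maximalIdeal
  have hmain : Module.finrank A (AdicCompletion (maximalIdeal A) (Ω[A⁄k₀])) =
      Module.finrank (ResidueField A) (CotangentSpace A) +
        Cardinal.toNat (Algebra.trdeg k₀ (ResidueField A)) := by
    rw [← hbc, hcomp]
    omega
  rw [hmain, ← hd]
  push_cast
  rfl

end Groth.Agent.S2476
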