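import Groth.Statements.S2479
import Groth.Agent.H38.ConstrImage
import Mathlib

set_option autoImplicit false
universe u
open EGA41

namespace Groth.Agent.S2479

open AlgebraicGeometry CategoryTheory Topology in
theorem exists_affine_cover {X : Scheme.{u}} [CompactSpace X] :
    ∃ s : Set X.affineOpens, s.Finite ∧ ∀ x : X, ∃ V ∈ s, x ∈ (V : X.Opens) := by
  obtain ⟨s, hs, hcov⟩ := (isCompact_iff_finite_and_eq_biUnion_affineOpens
    (U := (⊤ : X.Opens))).mp isCompact_univ
  refine ⟨s, hs, fun x => ?_⟩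
  have hx : x ∈ (⨆ i ∈ s, (i : X.Opens) : X.Opens) := by rw [← hcov]; trivial
  simp only [TopologicalSpace.Opens.mem_iSup] at hx
  obtain ⟨V, hV, hxV⟩ := hx
  exact ⟨V, hV, hxV⟩

open AlgebraicGeometry CategoryTheory Topology in
theorem forward {X X' : Scheme.{u}} [CompactSpace X] [QuasiSeparatedSpace X] (f : X' ⟶ X)
    [QuasiCompact f] :
    ∃ S : Set (Set X), (∀ s ∈ S, IsConstructible s) ∧ Set.range f.base = ⋂₀ S := by
  haveI : CompactSpace X' := QuasiCompact.compactSpace_of_compactSpace f
  obtain ⟨s, hs, hcov⟩ := exists_affine_cover (X := X')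
  have hrange : Set.range f.base = ⋃ W ∈ s, Set.range ((W : X'.Opens).ι ≫ f).base := by
    ext y
    simp only [Set.mem_range, Set.mem_iUnion, Scheme.Hom.comp_base, TopCat.hom_comp,
      ContinuousMap.comp_apply, exists_prop]
    constructor
    · rintro ⟨x, rfl⟩
      obtain ⟨W, hW, hxW⟩ := hcov x
      exact ⟨W, hW, ⟨x, hxW⟩, rfl⟩
    · rintro ⟨W, -, x, rfl⟩
      exact ⟨_, rfl⟩
  have hcl : ∀ W ∈ s, IsClosed[constructibleTopology X]
      (Set.range ((W : X'.Opens).ι ≫ f).base) := by
    intro W _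
    haveI : IsAffine (W : X'.Opens).toScheme := W.2
    haveI : QuasiCompact ((W : X'.Opens).ι ≫ f) := inferInstance
    rw [← Set.image_univ]
    exact H38.isClosed_constr_image ((W : X'.Opens).ι ≫ f).isSpectralMap
      (@isClosed_univ _ (constructibleTopology _))
  have hcl' : IsClosed[constructibleTopology X] (Set.range f.base) := by
    rw [hrange]
    exact @Set.Finite.isClosed_biUnion _ _ (constructibleTopology X) _ _ hs hcl
  exact ⟨_, fun t ht => ht.1, H38.eq_sInter_isConstructible_of_isClosed_constr hcl'⟩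

open AlgebraicGeometry CategoryTheory Topology in
theorem backward {X : Scheme.{u}} [CompactSpace X] [QuasiSeparatedSpace X]
    (S : Set (Set X)) (hS : ∀ s ∈ S, IsConstructible s) :
    ∃ (X' : Scheme.{u}) (f : X' ⟶ X), QuasiCompact f ∧ Set.range f.base = ⋂₀ S := by
  classical
  obtain ⟨s, hs, hcov⟩ := exists_affine_cover (X := X)
  haveI : Finite s := hs
  -- for every affine open in the cover a ring map realising the trace of `⋂₀ S`
  have key : ∀ V : s, ∃ (B : Type u) (_ : CommRing B) (g : Γ(X, (V.1 : X.Opens)) →+* B),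
      Set.range (PrimeSpectrum.comap g) = (V.1.2.fromSpec.base) ⁻¹' (⋂₀ S) := by
    intro V
    have h1 : (V.1.2.fromSpec.base) ⁻¹' (⋂₀ S) =
        ⋂₀ ((fun t => (V.1.2.fromSpec.base) ⁻¹' t) '' S) := by
      ext q
      simp only [Set.mem_preimage, Set.mem_sInter, Set.mem_image, forall_exists_index, and_imp,
        forall_apply_eq_imp_iff₂]
    rw [h1]
    refine H38.exists_range_comap_eq_sInter _ ?_
    rintro _ ⟨t, ht, rfl⟩
    exact (hS t ht).preimage_of_isOpenEmbedding V.1.2.fromSpec.isOpenEmbedding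
  choose B instB g hg using key
  let Y : s → Scheme.{u} := fun V => Spec (CommRingCat.of (B V))
  let φ : ∀ V : s, Y V ⟶ X := fun V => Spec.map (CommRingCat.ofHom (g V)) ≫ V.1.2.fromSpec
  refine ⟨∐ Y, Limits.Sigma.desc φ, ?_, ?_⟩
  · haveI : IsAffine (∐ Y) := inferInstance
    exact inferInstance
  · apply Set.Subset.antisymm
    · rintro _ ⟨z, rfl⟩
      obtain ⟨V, y, rfl⟩ := (sigmaOpenCover Y).exists_eq z
      have : (Limits.Sigma.desc φ).base ((Limits.Sigma.ι Y V).base y) = (φ V).base y := by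
        rw [← Scheme.Hom.comp_apply, Limits.Sigma.ι_desc]
      show (Limits.Sigma.desc φ).base ((Limits.Sigma.ι Y V).base y) ∈ ⋂₀ S
      rw [this]
      have hy : PrimeSpectrum.comap (g V) y ∈ (V.1.2.fromSpec.base) ⁻¹' (⋂₀ S) := by
        rw [← hg V]; exact ⟨y, rfl⟩
      exact hy
    · intro e he
      obtain ⟨V, hV, heV⟩ := hcov e
      have : e ∈ Set.range V.2.fromSpec.base := by rw [V.2.range_fromSpec]; exact heV
      obtain ⟨q, rfl⟩ := this
      have hq : q ∈ (V.2.fromSpec.base) ⁻¹' (⋂₀ S) := he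
      rw [← hg ⟨V, hV⟩] at hq
      obtain ⟨y, rfl⟩ := hq
      refine ⟨(Limits.Sigma.ι Y ⟨V, hV⟩).base y, ?_⟩
      rw [← Scheme.Hom.comp_apply, Limits.Sigma.ι_desc]
      rfl

open AlgebraicGeometry CategoryTheory Topology in
/-- Let X be a quasi-compact and quasi-separated scheme and E ⊆ X. Then E = f(X') for some quasi-compact
morphism f : X' → X if and only if E is an intersection of a family of constructible subsets of X. -/
theorem result {X : Scheme.{u}} [CompactSpace X] [QuasiSeparatedSpace X] (E : Set X) :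
    (∃ (X' : Scheme.{u}) (f : X' ⟶ X), QuasiCompact f ∧ Set.range f.base = E) ↔
      ∃ S : Set (Set X), (∀ s ∈ S, IsConstructible s) ∧ E = ⋂₀ S := by
  constructor
  · rintro ⟨X', f, hf, rfl⟩
    exact forward f
  · rintro ⟨S, hS, rfl⟩
    exact backward S hS

end Groth.Agent.S2479
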