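import Groth.Statements.S2481
import Groth.Agent.H87.CohenSetup
import Groth.Agent.S9316
import Groth.Agent.S4537

set_option autoImplicit false
set_option maxHeartbeats 400000
universe u
open EGA41

namespace Groth.Agent.S2481

open IsLocalRing in
/-- Let A → B be a local homomorphism of Noetherian local rings with the adic topologies, K the residue
field of B. Then B is formally smooth over A if and only if: for every Artinian local ring C with a
local homomorphism A → C, every nilpotent ideal J of C and every local A-algebra homomorphism u : B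
→ C/J inducing a bijection of residue fields (so that C has residue field K and u induces the
identity on it), u is induced by a local A-algebra homomorphism B → C. -/
theorem result {A B : Type u} [CommRing A] [IsLocalRing A] [IsNoetherianRing A] [CommRing B] [IsLocalRing B] [IsNoetherianRing B]
    [Algebra A B] [IsLocalHom (algebraMap A B)] :
    EGA41.IsFormallySmoothAdic A (maximalIdeal A) B (maximalIdeal B) ↔
      ∀ (C : Type u) [CommRing C] [IsLocalRing C] [IsArtinianRing C] [Algebra A C] [IsLocalHom (algebraMap A C)]
        (J : Ideal C), IsNilpotent J → ∀ [IsLocalRing (C ⧸ J)] (u : B →ₐ[A] C ⧸ J) [IsLocalHom u.toRingHom],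
        Function.Bijective (ResidueField.map u.toRingHom) →
        ∃ f : B →ₐ[A] C, IsLocalHom f.toRingHom ∧ (Ideal.Quotient.mkₐ A J).comp f = u := by
  classical
  constructor
  · intro hfs C _ _ _ _ _ J hJ _ u _ _
    obtain ⟨M, hM⟩ := Groth.Agent.H87.CohenSetup.exists_pow_maximalIdeal_eq_bot C
    obtain ⟨M', hM'⟩ := Groth.Agent.H87.CohenSetup.exists_pow_maximalIdeal_eq_bot (C ⧸ J)
    have h1 : (maximalIdeal A ^ M).map (algebraMap A C) = ⊥ := by
      rw [eq_bot_iff, ← hM, Ideal.map_pow]
      apply Ideal.pow_right_mono
      rw [Ideal.map_le_iff_le_comap]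
      intro a ha
      rw [Ideal.mem_comap]
      exact fun hu => ha (isUnit_of_map_unit (algebraMap A C) a hu)
    have h2 : ∀ x ∈ maximalIdeal B ^ M', u x = 0 := by
      intro x hx
      have h3 : (maximalIdeal B).map u.toRingHom ≤ maximalIdeal (C ⧸ J) := by
        rw [Ideal.map_le_iff_le_comap]
        intro b hb
        rw [Ideal.mem_comap]
        exact fun hu => hb (isUnit_of_map_unit u.toRingHom b hu)
      have h4 := Ideal.mem_map_of_mem u.toRingHom hx
      rw [Ideal.map_pow] at h4
      have h5 := Ideal.pow_right_mono h3 M' h4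
      rw [hM', Ideal.mem_bot] at h5
      exact h5
    obtain ⟨v, hv⟩ := hfs C J hJ ⟨M, h1⟩ u ⟨M', h2⟩
    refine ⟨v, ⟨fun x hx => ?_⟩, hv⟩
    have h6 : IsUnit (u x) := by
      have : u x = Ideal.Quotient.mk J (v x) := (AlgHom.congr_fun hv x).symm
      rw [this]
      exact hx.map _
    exact isUnit_of_map_unit u.toRingHom x h6
  · intro h
    have h1 : CAlgX.IsAdicFormallySmooth A B (maximalIdeal B) := by
      rw [Groth.Agent.S9316.result]
      intro E _ _ _ _ _ J hJ _ _ ψ _ hbij
      obtain ⟨f, -, hf⟩ := h E J ⟨2, hJ⟩ ψ hbij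
      exact ⟨f, hf⟩
    have h2 := (Groth.Agent.S4537.result _).1 h1
    intro C _ _ J hJ _ u hu
    exact h2 C J hJ ⟨1, by rw [pow_one, Ideal.map_bot]⟩ u hu

end Groth.Agent.S2481
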