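import Groth.Statements.S2482
import Groth.Agent.Lead.CohenAlg
import Groth.Agent.S4543

set_option autoImplicit false
universe u
open EGA41

namespace Groth.Agent.S2482

open IsLocalRing in
/-- (a) ⟹ (b): let A, B be complete discrete valuation rings and u : A → B a ring homomorphism with
u(𝔪_A)B = 𝔪_B, such that the residue field L of B is separable over the residue field K of A. Then
for every complete discrete valuation ring B', every homomorphism u' : A → B' with u'(𝔪_A)B' =
𝔪_{B'} and every isomorphism σ of residue fields L ≅ L' compatible with the maps from K, there is an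
isomorphism w : B ≅ B' with u' = w ∘ u inducing σ on residue fields. -/
theorem result {A B B' : Type u} [CommRing A] [IsDomain A] [IsDiscreteValuationRing A] [IsAdicComplete (maximalIdeal A) A]
    [CommRing B] [IsDomain B] [IsDiscreteValuationRing B] [IsAdicComplete (maximalIdeal B) B]
    [CommRing B'] [IsDomain B'] [IsDiscreteValuationRing B'] [IsAdicComplete (maximalIdeal B') B']
    (u : A →+* B) [IsLocalHom u] (hu : (maximalIdeal A).map u = maximalIdeal B)
    (hsep : letI := (ResidueField.map u).toAlgebra; Algebra.IsGeometricallyReduced (ResidueField A) (ResidueField B))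
    (u' : A →+* B') [IsLocalHom u'] (hu' : (maximalIdeal A).map u' = maximalIdeal B')
    (σ : ResidueField B ≃+* ResidueField B') (hσ : (σ : ResidueField B →+* ResidueField B').comp (ResidueField.map u) = ResidueField.map u') :
    ∃ w : B ≃+* B', (w : B →+* B').comp u = u' ∧ ∀ b : B, residue B' (w b) = σ (residue B b) := by
  letI algB : Algebra A B := u.toAlgebra
  letI algB' : Algebra A B' := u'.toAlgebra
  haveI : IsLocalHom (algebraMap A B) := ‹IsLocalHom u›
  haveI : IsLocalHom (algebraMap A B') := ‹IsLocalHom u'›
  have hmax : (maximalIdeal A).map (algebraMap A B) = maximalIdeal B := hu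
  have hmax' : (maximalIdeal A).map (algebraMap A B') = maximalIdeal B' := hu'
  haveI : Module.Flat A B := Lead.CohenAlg.flat_of_dvr hmax
  haveI : Module.Flat A B' := Lead.CohenAlg.flat_of_dvr hmax'
  have halg : (ResidueField.map u).toAlgebra =
      (inferInstance : Algebra (ResidueField A) (ResidueField B)) := by
    apply Algebra.algebra_ext
    intro x
    obtain ⟨a, rfl⟩ := Ideal.Quotient.mk_surjective x
    rfl
  have hsep' : Algebra.IsGeometricallyReduced (ResidueField A) (ResidueField B) := by
    have h0 := hsep
    rw [halg] at h0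
    exact h0
  have hfs : EGA41.IsFormallySmoothAdic A (maximalIdeal A) B
      ((maximalIdeal A).map (algebraMap A B)) :=
    Lead.CohenAlg.isFormallySmoothAdic hmax hsep' _
  haveI : IsAdicComplete ((maximalIdeal A).map (algebraMap A B)) B := by
    rw [hmax]; infer_instance
  haveI : IsAdicComplete ((maximalIdeal A).map (algebraMap A B')) B' := by
    rw [hmax']; infer_instance
  let eB : (B ⧸ (maximalIdeal A).map (algebraMap A B)) ≃+* ResidueField B :=
    Ideal.quotEquivOfEq hmax
  let eB' : (B' ⧸ (maximalIdeal A).map (algebraMap A B')) ≃+* ResidueField B' :=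
    Ideal.quotEquivOfEq hmax'
  let u₀r : (B ⧸ (maximalIdeal A).map (algebraMap A B)) ≃+*
      (B' ⧸ (maximalIdeal A).map (algebraMap A B')) := (eB.trans σ).trans eB'.symm
  let u₀ : (B ⧸ (maximalIdeal A).map (algebraMap A B)) ≃ₐ[A ⧸ maximalIdeal A]
      (B' ⧸ (maximalIdeal A).map (algebraMap A B')) :=
    { u₀r with
      commutes' := by
        intro x
        obtain ⟨a, rfl⟩ := Ideal.Quotient.mk_surjective x
        change eB'.symm (σ (eB (Ideal.Quotient.mk _ (u a)))) = Ideal.Quotient.mk _ (u' a)
        rw [RingEquiv.symm_apply_eq]
        change σ (residue B (u a)) = residue B' (u' a)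
        have h1 := RingHom.congr_fun hσ (residue A a)
        simpa [ResidueField.map_residue] using h1 }
  obtain ⟨w, hw⟩ := Groth.Agent.S4543.result (maximalIdeal A) (le_of_eq hmax) (le_of_eq hmax')
    hfs u₀
  refine ⟨w.toRingEquiv, ?_, ?_⟩
  · ext a
    exact w.commutes a
  · intro b
    have h2 := congrArg eB' (hw b)
    change residue B' (w b) = eB' (eB'.symm (σ (eB (Ideal.Quotient.mk _ b)))) at h2
    rw [RingEquiv.apply_symm_apply] at h2
    exact h2

end Groth.Agent.S2482
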