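import Groth.Statements.S2484
import Groth.Agent.H44.MacLaneAll

set_option autoImplicit false
universe u
open EGA41

namespace Groth.Agent.S2484

/-- Let K ⊆ E ⊆ F be fields. (i) If F is a separable extension of E, then Υ_{F/E/K} = 0, i.e. the
canonical map Ω_{E/K} ⊗_E F → Ω_{F/K} is injective. (ii) Conversely, if F is separable over K and
this map is injective, then F is separable over E. (Separable means geometrically reduced.) -/
theorem result {K E F : Type u} [Field K] [Field E] [Field F] [Algebra K E] [Algebra E F] [Algebra K F] [IsScalarTower K E F] :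
    (Algebra.IsGeometricallyReduced E F → Function.Injective (KaehlerDifferential.mapBaseChange K E F)) ∧
    (Algebra.IsGeometricallyReduced K F → Function.Injective (KaehlerDifferential.mapBaseChange K E F) → Algebra.IsGeometricallyReduced E F) := by
  refine ⟨fun hGR => ?_, fun hKF hinj => ?_⟩
  · rw [Groth.Agent.H44.MacLane.injective_mapBaseChange_iff_forall_exists_derivation']
    intro D
    have hinj := Groth.Agent.H44.MacLane.isGeometricallyReduced_iff_injective_mapBaseChange'.mp hGR
    obtain ⟨D', hD'⟩ :=
      Groth.Agent.H44.MacLane.injective_mapBaseChange_iff_forall_exists_derivation.mp hinj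
        (D.restrictScalars ℤ)
    refine ⟨Groth.Agent.H44.MacLane.derivationOfKills D' (fun r => ?_), hD'⟩
    rw [IsScalarTower.algebraMap_apply K E F, hD']
    exact D.map_algebraMap r
  · rw [Groth.Agent.H44.MacLane.isGeometricallyReduced_iff_injective_mapBaseChange',
      Groth.Agent.H44.MacLane.injective_mapBaseChange_iff_forall_exists_derivation]
    intro D
    obtain ⟨D₁, hD₁⟩ :=
      Groth.Agent.H44.MacLane.injective_mapBaseChange_iff_forall_exists_derivation.mp
        (Groth.Agent.H44.MacLane.isGeometricallyReduced_iff_injective_mapBaseChange'.mp hKF)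
        (D.compAlgebraMap K)
    have hk : ∀ r : K, (D - D₁.compAlgebraMap E) (algebraMap K E r) = 0 := by
      intro r
      rw [Derivation.sub_apply, Derivation.compAlgebraMap_apply,
        ← IsScalarTower.algebraMap_apply K E F, hD₁, Derivation.compAlgebraMap_apply, sub_self]
    obtain ⟨D₂, hD₂⟩ :=
      Groth.Agent.H44.MacLane.injective_mapBaseChange_iff_forall_exists_derivation'.mp hinj
        (Groth.Agent.H44.MacLane.derivationOfKills (D - D₁.compAlgebraMap E) hk)
    refine ⟨D₁ + D₂.restrictScalars ℤ, fun a => ?_⟩
    rw [Derivation.add_apply, Derivation.restrictScalars_apply, hD₂,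
      Groth.Agent.H44.MacLane.derivationOfKills_apply, Derivation.sub_apply,
      Derivation.compAlgebraMap_apply, add_sub_cancel]

end Groth.Agent.S2484
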