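import Groth.Statements.S2487
import Groth.Agent.H87.LiftJ

set_option autoImplicit false
set_option maxHeartbeats 400000
universe u
open EGA41

namespace Groth.Agent.S2487

open IsLocalRing TensorProduct in
/-- Let A be a Noetherian local ring, J an ideal contained in the maximal ideal, A₀ = A/J, and B₀ a
complete Noetherian local ring with a local homomorphism A₀ → B₀ making B₀ formally smooth over A₀
(adic topologies). Then (existence) there are a complete Noetherian local ring B, a local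
homomorphism A → B making B a flat A-module, and an A₀-algebra isomorphism u : A₀ ⊗_A B ≅ B₀;
(uniqueness) if (B', u') is another such pair, there is an A-algebra isomorphism v : B ≅ B' with u'
∘ (1 ⊗ v) = u. -/
theorem result {A : Type u} [CommRing A] [IsLocalRing A] [IsNoetherianRing A]
    (J : Ideal A) (hJ : J ≤ maximalIdeal A) [IsLocalRing (A ⧸ J)]
    (B₀ : Type u) [CommRing B₀] [IsLocalRing B₀] [IsNoetherianRing B₀] [IsAdicComplete (maximalIdeal B₀) B₀]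
    [Algebra (A ⧸ J) B₀] [IsLocalHom (algebraMap (A ⧸ J) B₀)]
    (hfs : EGA41.IsFormallySmoothAdic (A ⧸ J) (maximalIdeal (A ⧸ J)) B₀ (maximalIdeal B₀)) :
    (∃ (B : Type u) (_ : CommRing B) (_ : IsLocalRing B) (_ : IsNoetherianRing B) (_ : Algebra A B) (_ : IsLocalHom (algebraMap A B)),
      IsAdicComplete (maximalIdeal B) B ∧ Module.Flat A B ∧ Nonempty ((A ⧸ J) ⊗[A] B ≃ₐ[A ⧸ J] B₀)) ∧
    ∀ (B B' : Type u) [CommRing B] [IsLocalRing B] [IsNoetherianRing B] [Algebra A B] [IsLocalHom (algebraMap A B)]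
      [CommRing B'] [IsLocalRing B'] [IsNoetherianRing B'] [Algebra A B'] [IsLocalHom (algebraMap A B')],
      IsAdicComplete (maximalIdeal B) B → Module.Flat A B → IsAdicComplete (maximalIdeal B') B' → Module.Flat A B' →
      ∀ (u : (A ⧸ J) ⊗[A] B ≃ₐ[A ⧸ J] B₀) (u' : (A ⧸ J) ⊗[A] B' ≃ₐ[A ⧸ J] B₀),
      ∃ v : B ≃ₐ[A] B', (u' : (A ⧸ J) ⊗[A] B' →ₐ[A ⧸ J] B₀).comp
          (Algebra.TensorProduct.map (AlgHom.id (A ⧸ J) (A ⧸ J)) (v : B →ₐ[A] B')) = (u : (A ⧸ J) ⊗[A] B →ₐ[A ⧸ J] B₀) := by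
  classical
  letI : Algebra A B₀ := ((algebraMap (A ⧸ J) B₀).comp (algebraMap A (A ⧸ J))).toAlgebra
  haveI : IsScalarTower A (A ⧸ J) B₀ := IsScalarTower.of_algebraMap_eq (fun _ => rfl)
  have hPA : Function.Surjective (algebraMap A (A ⧸ J)) := Ideal.Quotient.mk_surjective
  have hfs' := Groth.Agent.H87.LiftJ.fs_bot_of_fs_max hfs
  obtain ⟨T, _, _, _, hN, hC, hL, hF, hfsT, ψ, hψ, hkψ⟩ :=
    Groth.Agent.H87.LiftJ.exists_liftJ J B₀ hfs'
  haveI := hN
  haveI := hC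
  haveI := hL
  haveI := hF
  constructor
  · obtain ⟨e, -⟩ := Groth.Agent.H87.LiftJ.quot_tensor_equiv J ψ hψ hkψ
    exact ⟨T, inferInstance, inferInstance, hN, inferInstance, hL, hC, hF, ⟨e⟩⟩
  · intro B B' _ _ _ _ _ _ _ _ _ _ hCB hFB hCB' hFB' u u'
    haveI := hCB
    haveI := hFB
    haveI := hCB'
    haveI := hFB'
    -- the augmentations of `B` and `B'`
    have key : ∀ (Y : Type u) [CommRing Y] [IsLocalRing Y] [IsNoetherianRing Y] [Algebra A Y]
        [IsLocalHom (algebraMap A Y)] [IsAdicComplete (maximalIdeal Y) Y] [Module.Flat A Y]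
        (w : (A ⧸ J) ⊗[A] Y ≃ₐ[A ⧸ J] B₀),
        ∃ e : T ≃ₐ[A] Y, ∀ x, w ((1 : A ⧸ J) ⊗ₜ[A] e x) = ψ x := by
      intro Y _ _ _ _ _ _ _ w
      let ψY : Y →ₐ[A] B₀ := ((w.restrictScalars A : (A ⧸ J) ⊗[A] Y ≃ₐ[A] B₀) :
        (A ⧸ J) ⊗[A] Y →ₐ[A] B₀).comp
          (Algebra.TensorProduct.includeRight : Y →ₐ[A] (A ⧸ J) ⊗[A] Y)
      have hψY : ∀ y, ψY y = w ((1 : A ⧸ J) ⊗ₜ[A] y) := fun y => rfl
      have hsY : Function.Surjective ψY := by
        intro b
        obtain ⟨y, hy⟩ := Algebra.TensorProduct.includeRight_surjective (T := Y) hPA (w.symm b)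
        refine ⟨y, ?_⟩
        rw [hψY]
        have : (1 : A ⧸ J) ⊗ₜ[A] y = w.symm b := hy
        rw [this, w.apply_symm_apply]
      have hkY : RingHom.ker ψY.toRingHom = J.map (algebraMap A Y) := by
        ext y
        rw [RingHom.mem_ker, ← Groth.Agent.H87.LiftJ.one_tmul_eq_zero_iff J y]
        show ψY y = 0 ↔ _
        rw [hψY]
        exact EmbeddingLike.map_eq_zero_iff
      obtain ⟨e, he⟩ := Groth.Agent.H87.IsoFlat2.iso_of_fs_flat' (X := T) (Y := Y) J hJ hfsT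
        ψ hψ hkψ ψY hsY hkY
      exact ⟨e, fun x => by rw [← hψY, he]⟩
    obtain ⟨eB, heB⟩ := key B u
    obtain ⟨eB', heB'⟩ := key B' u'
    refine ⟨eB.symm.trans eB', ?_⟩
    apply AlgHom.ext
    intro z
    obtain ⟨b, hb⟩ := Algebra.TensorProduct.includeRight_surjective (T := B) hPA z
    have hb' : (1 : A ⧸ J) ⊗ₜ[A] b = z := hb
    rw [← hb']
    show u' (Algebra.TensorProduct.map (AlgHom.id (A ⧸ J) (A ⧸ J))
      ((eB.symm.trans eB' : B ≃ₐ[A] B') : B →ₐ[A] B') ((1 : A ⧸ J) ⊗ₜ[A] b)) = u _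
    rw [Algebra.TensorProduct.map_tmul]
    show u' ((1 : A ⧸ J) ⊗ₜ[A] eB' (eB.symm b)) = _
    rw [heB', ← heB, eB.apply_symm_apply]

end Groth.Agent.S2487
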