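import Groth.Statements.S2574
import Groth.Agent.H57.NilDescent
import Mathlib.RingTheory.Ideal.AssociatedPrime.Finiteness
import Mathlib.RingTheory.Flat.Stability
import Mathlib.RingTheory.Flat.Localization

set_option autoImplicit false
open TensorProduct
universe u
open EGA43

namespace Groth.Agent.S2574

/-- Let A be a Noetherian ring, J a nilpotent ideal of A and M an A-module. Then M is flat over A if and
only if (A/J) ⊗_A M is flat over A/J and, for every associated prime p of A, the localization M_p is
flat over A_p. -/
theorem result {A : Type u} [CommRing A] [IsNoetherianRing A]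
    (J : Ideal A) (hJ : IsNilpotent J) (M : Type u) [AddCommGroup M] [Module A M] :
    Module.Flat A M ↔
      Module.Flat (A ⧸ J) ((A ⧸ J) ⊗[A] M) ∧
        ∀ p : associatedPrimes A A,
          haveI : p.1.IsPrime := IsAssociatedPrime.isPrime p.2
          Module.Flat (Localization.AtPrime p.1) (LocalizedModule p.1.primeCompl M) := by
  constructor
  · intro hflat
    refine ⟨inferInstance, fun p => ?_⟩
    haveI : p.1.IsPrime := IsAssociatedPrime.isPrime p.2
    exact Module.Flat.localizedModule p.1.primeCompl
  · rintro ⟨h1, h2⟩
    haveI := h1
    haveI hprime : ∀ p : associatedPrimes A A, p.1.IsPrime :=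
      fun p => IsAssociatedPrime.isPrime p.2
    haveI : Finite (associatedPrimes A A) := (associatedPrimes.finite A A).to_subtype
    haveI : ∀ p : associatedPrimes A A,
        Module.Flat (Localization.AtPrime p.1) (Localization.AtPrime p.1 ⊗[A] M) := fun p => by
      haveI := h2 p
      exact Module.Flat.of_linearEquiv
        (LocalizedModule.equivTensorProduct p.1.primeCompl M).symm
    have hker : ∀ a : A,
        (∀ p : associatedPrimes A A, algebraMap A (Localization.AtPrime p.1) a = 0) → a = 0 := by
      intro a ha
      by_contra hne
      obtain ⟨P, hP, hle⟩ :=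
        exists_le_isAssociatedPrime_of_isNoetherianRing (R := A) (M := A) a hne
      have h0 := ha ⟨P, hP⟩
      haveI : P.IsPrime := hP.isPrime
      obtain ⟨m, hm⟩ :=
        (IsLocalization.map_eq_zero_iff P.primeCompl (Localization.AtPrime P) a).mp h0
      have hmem : (m : A) ∈ (⊥ : Submodule A A).colon {a} := by
        rw [Submodule.mem_colon_singleton, smul_eq_mul, hm]
        exact Submodule.zero_mem _
      exact m.2 (hle hmem)
    exact Groth.Agent.H57.flat_of_nilpotent_of_baseChange
      (fun p : associatedPrimes A A => Localization.AtPrime p.1) J hker hJ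

end Groth.Agent.S2574
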