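import Groth.Statements.S2591
import Groth.Agent.H57.Strat
import Groth.Agent.H48.FlatLimitMod2

set_option autoImplicit false
open TensorProduct
universe u
open EGA43

namespace Groth.Agent.S2591

open Groth.Agent.H57.Strat

/-- Let A be a commutative ring, B a finitely presented A-algebra and M a finitely presented B-module
which is flat over A. Then there are finitely many elements f₁, …, fₙ of A generating the unit ideal
such that, for each i < n, writing A' for the localization of A at f_{i+1} modulo the ideal
generated by f₁, …, fᵢ, the module A' ⊗_A M is free over A'. -/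
theorem result {A B : Type u} [CommRing A] [CommRing B] [Algebra A B]
    [Algebra.FinitePresentation A B] (M : Type u) [AddCommGroup M] [Module B M] [Module A M] [IsScalarTower A B M]
    [Module.FinitePresentation B M] [Module.Flat A M] :
    ∃ l : List A, Ideal.span {a | a ∈ l} = ⊤ ∧
      ∀ (i : ℕ) (hi : i < l.length),
        letI J : Ideal (Localization.Away l[i]) :=
          (Ideal.span {a | a ∈ l.take i}).map (algebraMap A (Localization.Away l[i]))
        Module.Free (Localization.Away l[i] ⧸ J) ((Localization.Away l[i] ⧸ J) ⊗[A] M) := by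
  classical
  obtain ⟨R₀, _, _, S₀, _, _, _, _, _, _, M₀, _, _, _, _, _, _, f, hftZ, hftS, hfin, hflat,
    hpo, hbc⟩ := Groth.Agent.H48.FlatLimit.exists_int_model_flat_module A B M
  haveI : IsNoetherianRing R₀ := Algebra.FiniteType.isNoetherianRing ℤ R₀
  let eM : A ⊗[R₀] M₀ ≃ₗ[A] M :=
    (Algebra.IsPushout.cancelBaseChange R₀ A S₀ B M₀).symm ≪≫ₗ (hbc.equiv.restrictScalars A)
  obtain ⟨l₀, hl₀, hfr⟩ := claim_noeth R₀ S₀ M₀ ⊥
  rw [bot_sup_eq] at hl₀
  refine ⟨l₀.map (algebraMap R₀ A), ?_, ?_⟩
  · have : {a | a ∈ l₀.map (algebraMap R₀ A)} = (algebraMap R₀ A) '' {a | a ∈ l₀} := by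
      ext a
      simp only [List.mem_map, Set.mem_setOf_eq, Set.mem_image]
    rw [this, ← Ideal.map_span, hl₀, Ideal.map_top]
  · intro i hi
    have hi₀ : i < l₀.length := by simpa using hi
    refine piece R₀ A M₀ M eM l₀ hfr i hi₀ _ ?_ ?_
    · have h1 : algebraMap R₀ A l₀[i] = (l₀.map (algebraMap R₀ A))[i] :=
        (List.getElem_map _).symm
      rw [h1, IsScalarTower.algebraMap_apply A (Localization.Away (l₀.map (algebraMap R₀ A))[i]) _]
      exact (IsLocalization.Away.algebraMap_isUnit _).map _
    · intro a ha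
      have h1 : algebraMap R₀ A a ∈ {a | a ∈ (l₀.map (algebraMap R₀ A)).take i} := by
        rw [Set.mem_setOf_eq, ← List.map_take]
        exact List.mem_map_of_mem ha
      rw [IsScalarTower.algebraMap_apply A (Localization.Away (l₀.map (algebraMap R₀ A))[i]) _,
        Ideal.Quotient.algebraMap_eq, Ideal.Quotient.eq_zero_iff_mem]
      exact Ideal.mem_map_of_mem _ (Ideal.subset_span h1)

end Groth.Agent.S2591
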