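import Groth.Statements.S2596
import Groth.Agent.H73.ClosureProper2

set_option autoImplicit false
open CategoryTheory AlgebraicGeometry
universe u
open EGA43

namespace Groth.Agent.S2596

open CategoryTheory.Limits in
/-- Let Y be locally Noetherian, f : X ⟶ Y separated and of finite type, and y a point of Y. Suppose
that for every discrete valuation ring A with fraction field K and every morphism g : Spec A ⟶ Y
sending the closed point to y, every K-point σ of X ×_Y Spec A lying over the generic point Spec K ⟶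
Spec A extends to a section of X ×_Y Spec A ⟶ Spec A. Then f is proper over some open neighbourhood
of y. -/
theorem result {X Y : Scheme.{u}} [IsLocallyNoetherian Y]
    (f : X ⟶ Y) [IsSeparated f] [LocallyOfFiniteType f] [QuasiCompact f] (y : Y)
    (h : ∀ (A : Type u) [CommRing A] [IsDomain A] [IsDiscreteValuationRing A]
      (g : Spec (CommRingCat.of A) ⟶ Y), g.base (IsLocalRing.closedPoint A) = y →
      ∀ σ : Spec (CommRingCat.of (FractionRing A)) ⟶ pullback f g,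
        σ ≫ pullback.snd f g = Spec.map (CommRingCat.ofHom (algebraMap A (FractionRing A))) →
        ∃ s : Spec (CommRingCat.of A) ⟶ pullback f g, s ≫ pullback.snd f g = 𝟙 _ ∧
          Spec.map (CommRingCat.ofHom (algebraMap A (FractionRing A))) ≫ s = σ) :
    ∃ U : Y.Opens, y ∈ U ∧ IsProper (f ∣_ U) := by
  open Groth.Agent.H73.ClosureProper in
  classical
  have H := rhs_of_fractionRing f y h
  obtain ⟨_, ⟨Y₀, hY₀, rfl⟩, hyY₀, -⟩ :=
    Y.isBasis_affineOpens.exists_subset_of_mem_open (Set.mem_univ y) isOpen_univ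
  have hyY₀' : y ∈ Y₀ := hyY₀
  haveI : IsLocallyNoetherian X := LocallyOfFiniteType.isLocallyNoetherian f
  haveI : CompactSpace ↥(f ⁻¹ᵁ Y₀ : Scheme.{u}) :=
    isCompact_iff_compactSpace.mp (f.isCompact_preimage hY₀.isCompact)
  haveI : IsNoetherian (f ⁻¹ᵁ Y₀ : Scheme.{u}) := {}
  obtain ⟨M₀, hMfin, -, -, hMcov⟩ :=
    exists_finite_maximal_points (Set.univ : Set ↥(f ⁻¹ᵁ Y₀ : Scheme.{u})) isClosed_univ
  have hL : ∀ z ∈ (f ⁻¹ᵁ Y₀).ι '' M₀, ∃ U' : Y.Opens, y ∈ U' ∧ LiftProp f z U' := by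
    intro z _
    by_cases hzy : f.base z ⤳ y
    · exact liftProp_of_specializes' f Set.univ y z (Set.mem_univ z) hzy H
    · exact liftProp_of_not_specializes f z y hzy
  choose! U' hU'y hU'L using hL
  have hMfin' : ((f ⁻¹ᵁ Y₀).ι '' M₀).Finite := hMfin.image _
  let U : Y.Opens := ⟨(Y₀ : Set Y) ∩ ⋂ z ∈ (f ⁻¹ᵁ Y₀).ι '' M₀, (U' z : Set Y),
    Y₀.2.inter (hMfin'.isOpen_biInter (fun z _ => (U' z).2))⟩
  have hyU : y ∈ U := ⟨hyY₀', Set.mem_iInter₂.mpr (fun z hz => hU'y z hz)⟩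
  have hC : IsClosed ((f ⁻¹ᵁ U).ι.base ⁻¹' (Set.univ : Set X)) :=
    isClosed_univ.preimage (f ⁻¹ᵁ U).ι.continuous
  have hM : ∀ x ∈ (Set.univ : Set X), f.base x ∈ U →
      ∃ z ∈ (f ⁻¹ᵁ Y₀).ι '' M₀, x ∈ closure {z} := by
    intro x _ hxU
    have hx₀ : x ∈ f ⁻¹ᵁ Y₀ := hxU.1
    obtain ⟨z₀, hz₀M, hz₀⟩ := hMcov ⟨x, hx₀⟩ (Set.mem_univ _)
    refine ⟨(f ⁻¹ᵁ Y₀).ι z₀, ⟨z₀, hz₀M, rfl⟩, ?_⟩
    have := image_closure_subset_closure_image (f ⁻¹ᵁ Y₀).ι.continuous
      (Set.mem_image_of_mem (f ⁻¹ᵁ Y₀).ι hz₀)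
    rw [Set.image_singleton] at this
    exact this
  have hP := isProper_of_liftProp' f Set.univ isClosed_univ ((f ⁻¹ᵁ Y₀).ι '' M₀) U hM
    (fun z hz => ⟨U' z, fun x hx => Set.mem_iInter₂.mp hx.2 z hz, hU'L z hz⟩) hC
  refine ⟨U, hyU, ?_⟩
  obtain ⟨I, hI⟩ : ∃ I : (f ⁻¹ᵁ U : Scheme.{u}).IdealSheafData,
      I = Scheme.IdealSheafData.vanishingIdeal
        (⟨(f ⁻¹ᵁ U).ι.base ⁻¹' (Set.univ : Set X), hC⟩ :
          TopologicalSpace.Closeds ↥(f ⁻¹ᵁ U)) := ⟨_, rfl⟩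
  rw [← hI] at hP
  have hrI : Set.range I.subschemeι = Set.univ := by
    rw [hI, Scheme.IdealSheafData.range_subschemeι,
      Scheme.IdealSheafData.coe_support_vanishingIdeal]
    rfl
  haveI : Surjective I.subschemeι := ⟨Set.range_eq_univ.mp hrI⟩
  haveI : UniversallyClosed (f ∣_ U) := UniversallyClosed.of_comp_surjective I.subschemeι (f ∣_ U)
  exact {}

end Groth.Agent.S2596
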