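import Groth.Statements.S9437
import Groth.Agent.H29.FlatDepthMod2
import Groth.Agent.H29.DepthFinite
set_option maxHeartbeats 400000
set_option linter.style.haveILetI false

set_option autoImplicit false
universe u
open CAlg

namespace Groth.Agent.S9437

/-- Serre's condition (S_k) descends along faithfully flat ring maps: if S is faithfully flat over R,
Noetherian and (S_k), then R is Noetherian and (S_k). -/
theorem result (k : ℕ) (R : Type u) [CommRing R] (S : Type u) [CommRing S]
    [Algebra R S] [Module.FaithfullyFlat R S] [IsNoetherianRing S] (hS : LocCoh.HasSk k S S) :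
    IsNoetherianRing R ∧ LocCoh.HasSk k R R := by
  have hmono : StrictMono (Ideal.map (algebraMap R S)) :=
    Monotone.strictMono_of_injective (fun _ _ h => Ideal.map_mono h)
      Ideal.map_injective_of_faithfullyFlat
  haveI hwf : WellFoundedGT (Ideal S) :=
    isNoetherian_iff'.mp (isNoetherianRing_iff.mp inferInstance)
  haveI hR : IsNoetherianRing R := by
    rw [isNoetherianRing_iff, isNoetherian_iff']
    exact hmono.wellFoundedGT
  refine ⟨hR, ?_⟩
  intro p hp
  obtain ⟨P, hPprime, hPover⟩ := Ideal.exists_isPrime_liesOver_of_faithfullyFlat (B := S) p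
  have hle : p.map (algebraMap R S) ≤ P := by
    rw [Ideal.map_le_iff_le_comap]
    exact le_of_eq hPover.over
  obtain ⟨q, hqmin, hqP⟩ := Ideal.exists_minimalPrimes_le hle
  haveI hqprime : q.IsPrime := hqmin.1.1
  have hqover : p = q.under R := by
    apply le_antisymm
    · exact Ideal.map_le_iff_le_comap.mp hqmin.1.2
    · calc q.under R ≤ P.under R := Ideal.comap_mono hqP
        _ = p := hPover.over.symm
  haveI : q.LiesOver p := ⟨hqover⟩
  -- heights agree
  have hheight : q.height = p.height := by
    rw [Ideal.height_eq_height_add_of_liesOver_of_hasGoingDown p q]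
    have h0 : (q.map (Ideal.Quotient.mk (p.map (algebraMap R S)))).height = 0 := by
      haveI : (q.map (Ideal.Quotient.mk (p.map (algebraMap R S)))).IsPrime :=
        Ideal.map_isPrime_of_surjective Ideal.Quotient.mk_surjective
          (by rw [Ideal.mk_ker]; exact hqmin.1.2)
      rw [Ideal.height_eq_zero_iff]
      have h1 : q ∈ (p.map (algebraMap R S)).minimalPrimes := hqmin
      rw [Ideal.minimalPrimes_eq_comap] at h1
      obtain ⟨q', hq', hq'eq⟩ := h1
      rw [← hq'eq, Ideal.map_comap_of_surjective _ Ideal.Quotient.mk_surjective]
      exact hq'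
    rw [h0, add_zero]
  letI := Localization.AtPrime.algebraOfLiesOver p q
  haveI : IsLocalHom (algebraMap (Localization.AtPrime p) (Localization.AtPrime q)) :=
    Localization.isLocalHom_localRingHom _ _ _ _
  have huniq : ∀ J : Ideal (Localization.AtPrime q), J.IsPrime →
      EGA4.mB (Localization.AtPrime p) (Localization.AtPrime q) ≤ J →
      J = IsLocalRing.maximalIdeal (Localization.AtPrime q) := by
    intro J hJ hIJ
    haveI : (J.under S).IsPrime := Ideal.IsPrime.under S J
    have hQq : J.under S ≤ q :=
      (Ideal.comap_mono (IsLocalRing.le_maximalIdeal hJ.ne_top)).trans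
        (le_of_eq (IsLocalization.AtPrime.under_maximalIdeal (Localization.AtPrime q) q))
    have hpQ : p.map (algebraMap R S) ≤ J.under S := by
      rw [Ideal.map_le_iff_le_comap]
      intro x hx
      rw [Ideal.mem_comap, Ideal.under_def, Ideal.mem_comap]
      apply hIJ
      have h2 : algebraMap S (Localization.AtPrime q) (algebraMap R S x) =
          algebraMap (Localization.AtPrime p) (Localization.AtPrime q)
            (algebraMap R (Localization.AtPrime p) x) := by
        rw [← IsScalarTower.algebraMap_apply R S (Localization.AtPrime q),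
          ← IsScalarTower.algebraMap_apply R (Localization.AtPrime p) (Localization.AtPrime q)]
      rw [h2]
      exact Ideal.mem_map_of_mem _
        ((IsLocalization.AtPrime.to_map_mem_maximal_iff (Localization.AtPrime p) p x).mpr hx)
    have hqQ : q ≤ J.under S := hqmin.2 ⟨inferInstance, hpQ⟩ hQq
    have hQeq : J.under S = q := le_antisymm hQq hqQ
    rw [← IsLocalization.map_under q.primeCompl (Localization.AtPrime q) J, hQeq]
    exact IsLocalization.AtPrime.map_eq_maximalIdeal q (Localization.AtPrime q)
  have hdepth : LocCoh.depth (Localization.AtPrime q) (Localization.AtPrime q) =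
      LocCoh.depth (Localization.AtPrime p) (Localization.AtPrime p) :=
    Groth.Agent.H29.FlatDepthMod.depth_self_eq_of_flat huniq
  have hselfq : LocCoh.depth (Localization.AtPrime q) (LocalizedModule q.primeCompl S) =
      LocCoh.depth (Localization.AtPrime q) (Localization.AtPrime q) :=
    Groth.Agent.H15.DepthSpread.idealDepth_congr
      (Groth.Agent.H29.DepthFinite.selfEquiv q.primeCompl)
  have hselfp : LocCoh.depth (Localization.AtPrime p) (LocalizedModule p.primeCompl R) =
      LocCoh.depth (Localization.AtPrime p) (Localization.AtPrime p) :=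
    Groth.Agent.H15.DepthSpread.idealDepth_congr
      (Groth.Agent.H29.DepthFinite.selfEquiv p.primeCompl)
  have hS' := hS q
  rw [Module.supportDim_eq_of_equiv (Groth.Agent.H29.DepthFinite.selfEquiv q.primeCompl),
    Module.supportDim_self_eq_ringKrullDim,
    IsLocalization.AtPrime.ringKrullDim_eq_height q (Localization.AtPrime q), hselfq, hdepth,
    hheight] at hS'
  rw [Module.supportDim_eq_of_equiv (Groth.Agent.H29.DepthFinite.selfEquiv p.primeCompl),
    Module.supportDim_self_eq_ringKrullDim,
    IsLocalization.AtPrime.ringKrullDim_eq_height p (Localization.AtPrime p), hselfp]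
  exact hS'

end Groth.Agent.S9437
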