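import Groth.Statements.S4746
import Groth.Agent.H15.RedFibres
import Groth.Agent.H87.ComplFlat
import Groth.Agent.Lead.CompleteNoetherian
import Mathlib.RingTheory.AdicCompletion.LocalRing
set_option maxHeartbeats 1600000
set_option linter.style.haveILetI false

set_option autoImplicit false
universe u
open EGA4

namespace Groth.Agent.S4746

open TensorProduct Groth.Agent.H25.GeomRed in
/-- Field-valued base changes over a prime with geometrically reduced fibre are reduced. -/
theorem isReduced_tensor_of_geomReduced_at {A B : Type u} [CommRing A] [CommRing B] [Algebra A B]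
    (p : Ideal A) [p.IsPrime]
    (h : Algebra.IsGeometricallyReduced p.ResidueField (p.Fiber B))
    (K : Type u) [Field K] [Algebra A K] (hK : RingHom.ker (algebraMap A K) = p) :
    IsReduced (K ⊗[A] B) := by
  let φ : p.ResidueField →+* K := Ideal.ResidueField.lift p (algebraMap A K) (le_of_eq hK.symm) (by
    intro x hx
    simp only [Submonoid.mem_comap, IsUnit.mem_submonoid_iff]
    exact IsUnit.mk0 _ (fun h0 => hx (by rw [← hK]; exact h0)))
  letI : Algebra p.ResidueField K := φ.toAlgebra
  haveI : IsScalarTower A p.ResidueField K := IsScalarTower.of_algebraMap_eq (fun x => by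
    change algebraMap A K x = φ (algebraMap A p.ResidueField x)
    rw [Ideal.ResidueField.lift_algebraMap])
  have h2 := (tfae_geometricallyReduced (k := p.ResidueField) (S := p.Fiber B)).out 1 2
  haveI h3 : IsReduced (K ⊗[p.ResidueField] (p.Fiber B)) := h2.mp h K
  exact isReduced_of_injective
    (Algebra.TensorProduct.cancelBaseChange A p.ResidueField K K B).symm (AlgEquiv.injective _)

open TensorProduct in
/-- If `R → S` is surjective modulo an ideal killed in the field `K`, base change to `K` over `R`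
and over `S` agree as far as reducedness is concerned. -/
theorem isReduced_tensor_of_dense {R S T K : Type u} [CommRing R] [CommRing S] [CommRing T]
    [Field K] [Algebra R S] [Algebra S T] [Algebra R T] [IsScalarTower R S T] [Algebra S K]
    [Algebra R K] [IsScalarTower R S K] (I : Ideal R)
    (hI : I.map (algebraMap R S) ≤ RingHom.ker (algebraMap S K))
    (hsurj : ∀ s : S, ∃ r : R, s - algebraMap R S r ∈ I.map (algebraMap R S))
    (h : IsReduced (K ⊗[R] T)) : IsReduced (K ⊗[S] T) := by
  have hzero : ∀ m ∈ I.map (algebraMap R S), ∀ k : K, (m ⊗ₜ[R] k : S ⊗[R] K) = 0 := by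
    intro m hm
    refine Submodule.span_induction (p := fun m _ => ∀ k : K, (m ⊗ₜ[R] k : S ⊗[R] K) = 0)
      ?_ ?_ ?_ ?_ hm
    · rintro _ ⟨r, hr, rfl⟩ k
      have h0 : algebraMap R K r = 0 := by
        rw [IsScalarTower.algebraMap_apply R S K, ← RingHom.mem_ker]
        exact hI (Ideal.mem_map_of_mem _ hr)
      rw [Algebra.algebraMap_eq_smul_one, TensorProduct.smul_tmul, Algebra.smul_def, h0, zero_mul,
        tmul_zero]
    · intro k
      exact zero_tmul _ _
    · intro x y _ _ hx hy k
      rw [add_tmul, hx, hy, add_zero]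
    · intro s x _ hx k
      rw [← TensorProduct.smul_tmul', hx, smul_zero]
  have hform : ∀ x : S ⊗[R] K, ∃ k : K, x = (1 : S) ⊗ₜ[R] k := by
    intro x
    induction x with
    | zero => exact ⟨0, (tmul_zero _ _).symm⟩
    | add x y hx hy =>
      obtain ⟨k₁, rfl⟩ := hx
      obtain ⟨k₂, rfl⟩ := hy
      exact ⟨k₁ + k₂, (tmul_add _ _ _).symm⟩
    | tmul s k =>
      obtain ⟨r, hr⟩ := hsurj s
      refine ⟨r • k, ?_⟩
      have h1 : s = algebraMap R S r + (s - algebraMap R S r) := by ring
      rw [h1, add_tmul, hzero _ hr k, add_zero, Algebra.algebraMap_eq_smul_one,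
        TensorProduct.smul_tmul]
  let ε₀ : S ⊗[R] K →ₐ[S] K :=
    Algebra.TensorProduct.lift (Algebra.ofId S K) (AlgHom.id R K) (fun _ _ => Commute.all _ _)
  have hε₀ : ∀ k : K, ε₀ ((1 : S) ⊗ₜ[R] k) = k := by
    intro k
    simp [ε₀]
  have hbij : Function.Bijective ε₀ := by
    constructor
    · rw [injective_iff_map_eq_zero]
      intro x hx
      obtain ⟨k, rfl⟩ := hform x
      rw [hε₀] at hx
      rw [hx, tmul_zero]
    · intro k
      exact ⟨(1 : S) ⊗ₜ[R] k, hε₀ k⟩
  let ε : S ⊗[R] K ≃ₐ[S] K := AlgEquiv.ofBijective ε₀ hbij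
  haveI := h
  haveI h1 : IsReduced (T ⊗[R] K) :=
    isReduced_of_injective (Algebra.TensorProduct.comm R T K) (AlgEquiv.injective _)
  haveI h2 : IsReduced (T ⊗[S] (S ⊗[R] K)) :=
    isReduced_of_injective (Algebra.TensorProduct.cancelBaseChange R S S T K)
      (AlgEquiv.injective _)
  haveI h3 : IsReduced (T ⊗[S] K) :=
    isReduced_of_injective
      (Algebra.TensorProduct.congr (AlgEquiv.refl : T ≃ₐ[S] T) ε.symm) (AlgEquiv.injective _)
  exact isReduced_of_injective (Algebra.TensorProduct.comm S K T) (AlgEquiv.injective _)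


/-- For the property 'reduced': let A → B be a local homomorphism of Noetherian local rings making B a
flat A-module, such that the residue field of B is a finite extension of the residue field k of A,
and such that the formal fibres of A are geometrically reduced. If the k-algebra k ⊗_A B̂, where B̂
is the completion of B, is geometrically reduced over k, then every fibre k(p) ⊗_A B of A → B is
geometrically reduced over k(p). -/
theorem result (A B : Type u) [CommRing A] [CommRing B]
    [IsNoetherianRing A] [IsNoetherianRing B] [IsLocalRing A] [IsLocalRing B] [Algebra A B]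
    [IsLocalHom (algebraMap A B)] [Module.Flat A B]
    [Module.Finite (IsLocalRing.ResidueField A) (IsLocalRing.ResidueField B)]
    (hA : EGA4.HasGeomReducedFormalFibres A)
    (h : Algebra.IsGeometricallyReduced (IsLocalRing.maximalIdeal A).ResidueField
      ((IsLocalRing.maximalIdeal A).Fiber (EGA4.Cpl B))) :
    ∀ (p : Ideal A) [p.IsPrime], Algebra.IsGeometricallyReduced p.ResidueField (p.Fiber B) := by
  classical
  have hle : (IsLocalRing.maximalIdeal A).map (algebraMap A B) ≤ IsLocalRing.maximalIdeal B :=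
    IsLocalRing.map_maximalIdeal_le (algebraMap A B)
  haveI : IsNoetherianRing (EGA4.Cpl A) :=
    Groth.Agent.Lead.isNoetherianRing_adicCompletion (IsLocalRing.maximalIdeal A)
      (IsLocalRing.maximalIdeal A).fg_of_isNoetherianRing
  haveI : IsNoetherianRing (EGA4.Cpl B) :=
    Groth.Agent.Lead.isNoetherianRing_adicCompletion (IsLocalRing.maximalIdeal B)
      (IsLocalRing.maximalIdeal B).fg_of_isNoetherianRing
  have hg : ∀ a : A, FSch.complMap (IsLocalRing.maximalIdeal A) (IsLocalRing.maximalIdeal B)
      (algebraMap A B) hle (algebraMap A (EGA4.Cpl A) a) =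
      algebraMap B (EGA4.Cpl B) (algebraMap A B a) :=
    fun a => Groth.Agent.H87.ComplFlat.complMap_algebraMap _ _ _ hle a
  have hgflat : (FSch.complMap (IsLocalRing.maximalIdeal A) (IsLocalRing.maximalIdeal B)
      (algebraMap A B) hle).Flat :=
    Groth.Agent.H87.ComplFlat.complMap_flat (IsLocalRing.maximalIdeal A)
      (IsLocalRing.maximalIdeal B) (algebraMap A B)
      (RingHom.flat_algebraMap_iff.mpr inferInstance) hle
  have hcomp : (FSch.complMap (IsLocalRing.maximalIdeal A) (IsLocalRing.maximalIdeal B)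
      (algebraMap A B) hle).comp (algebraMap A (EGA4.Cpl A)) =
      (algebraMap B (EGA4.Cpl B)).comp (algebraMap A B) := RingHom.ext hg
  haveI hloc : IsLocalHom (FSch.complMap (IsLocalRing.maximalIdeal A)
      (IsLocalRing.maximalIdeal B) (algebraMap A B) hle) := by
    apply ((IsLocalRing.local_hom_TFAE _).out 0 2 rfl rfl).mpr
    rw [AdicCompletion.maximalIdeal_eq_map (R := A), Ideal.map_map, hcomp, ← Ideal.map_map,
      AdicCompletion.maximalIdeal_eq_map (R := B)]
    exact Ideal.map_mono hle
  letI : Algebra (EGA4.Cpl A) (EGA4.Cpl B) :=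
    (FSch.complMap (IsLocalRing.maximalIdeal A) (IsLocalRing.maximalIdeal B)
      (algebraMap A B) hle).toAlgebra
  haveI : IsScalarTower A B (EGA4.Cpl B) := IsScalarTower.of_algebraMap_eq (fun _ => rfl)
  haveI : IsScalarTower A (EGA4.Cpl A) (EGA4.Cpl B) :=
    IsScalarTower.of_algebraMap_eq (fun a => (hg a).symm)
  haveI : Module.Flat (EGA4.Cpl A) (EGA4.Cpl B) := hgflat
  haveI : IsLocalHom (algebraMap (EGA4.Cpl A) (EGA4.Cpl B)) := hloc
  haveI : Module.FaithfullyFlat B (EGA4.Cpl B) := Module.FaithfullyFlat.of_flat_of_isLocalHom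
  have hmA : (IsLocalRing.maximalIdeal (EGA4.Cpl A)).comap (algebraMap A (EGA4.Cpl A)) =
      IsLocalRing.maximalIdeal A :=
    ((IsLocalRing.local_hom_TFAE (algebraMap A (EGA4.Cpl A))).out 0 4 rfl rfl).mp inferInstance
  -- the closed fibre of `Â → B̂`
  have hcl : ∀ (K : Type u) [Field K] [Algebra (EGA4.Cpl A) K],
      RingHom.ker (algebraMap (EGA4.Cpl A) K) = IsLocalRing.maximalIdeal (EGA4.Cpl A) →
      IsReduced (TensorProduct (EGA4.Cpl A) K (EGA4.Cpl B)) := by
    intro K _ _ hK
    letI : Algebra A K := ((algebraMap (EGA4.Cpl A) K).comp (algebraMap A (EGA4.Cpl A))).toAlgebra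
    haveI : IsScalarTower A (EGA4.Cpl A) K := IsScalarTower.of_algebraMap_eq (fun _ => rfl)
    have hKA : RingHom.ker (algebraMap A K) = IsLocalRing.maximalIdeal A := by
      rw [IsScalarTower.algebraMap_eq A (EGA4.Cpl A) K, ← RingHom.comap_ker, hK, hmA]
    have h1 : IsReduced (TensorProduct A K (EGA4.Cpl B)) :=
      isReduced_tensor_of_geomReduced_at (IsLocalRing.maximalIdeal A) h K hKA
    refine isReduced_tensor_of_dense (R := A) (S := EGA4.Cpl A) (T := EGA4.Cpl B) (K := K)
      (IsLocalRing.maximalIdeal A) ?_ ?_ h1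
    · rw [← AdicCompletion.maximalIdeal_eq_map, hK]
    · intro s
      obtain ⟨a, ha⟩ := Groth.Agent.H87.ComplFlat.exists_sub_mem_map_pow
        (IsLocalRing.maximalIdeal A) (IsLocalRing.maximalIdeal A).fg_of_isNoetherianRing 1 s
      rw [pow_one] at ha
      exact ⟨a, ha⟩
  have hall := Groth.Agent.H15.RedFibres.isReduced_tensor_of_nagata (EGA4.Cpl A) (EGA4.Cpl B)
    (Groth.Agent.S0568.result (EGA4.Cpl A)) hcl
  have hBC : ∀ (q : Ideal (EGA4.Cpl A)) [q.IsPrime],
      Algebra.IsGeometricallyReduced q.ResidueField (q.Fiber (EGA4.Cpl B)) :=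
    fun q _ => Groth.Agent.H25.GeomRedFib.geomReducedFibres_of_forall_field hall q
  have hAB : ∀ (p : Ideal A) [p.IsPrime],
      Algebra.IsGeometricallyReduced p.ResidueField (p.Fiber (EGA4.Cpl A)) := fun p _ => hA p
  obtain ⟨hflatAC, hAC⟩ := Groth.Agent.H25.GeomRedFib.geomReducedFibres_comp A (EGA4.Cpl A)
    (EGA4.Cpl B) hAB hBC
  haveI := hflatAC
  exact (Groth.Agent.H25.GeomRedFib.geomReducedFibres_of_comp_of_faithfullyFlat A B (EGA4.Cpl B)
    hAC).2

end Groth.Agent.S4746
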