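import Groth.Statements.S9228
import Groth.Agent.H58.Ratliff

set_option autoImplicit false
universe u
open EGA4

namespace Groth.Agent.S9228

/-- A universally catenary Noetherian local ring A is formally catenary, that is, for every prime ideal
p of A the completion of the local ring A/p is equidimensional. (The published statement is the
contrapositive and asks equidimensionality of the completion of A/p only for the minimal primes p;
this row asks it for every prime p.) -/
theorem result (A : Type u) [CommRing A] [IsLocalRing A]
    [IsNoetherianRing A] (hA : CAlg.IsUniversallyCatenary A) : EGA4.IsFormallyCatenary A := by
  haveI := hA.1
  intro p hp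
  exact Groth.Agent.H58.Ratliff.isEquidim_cpl (A ⧸ p)
    (Groth.Agent.H58.Ratliff.isUniversallyCatenary_quotient' A hA p)

end Groth.Agent.S9228
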