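import Groth.Statements.S3831
import Groth.Agent.H23.HensFib

set_option autoImplicit false
universe u
open Hensel18

namespace Groth.Agent.S3831


/-- Let A be a henselian Noetherian local ring whose formal fibres are geometrically normal. Then the
formal fibres of A are geometrically integral: for every prime p of A and every field extension K of
the residue field k(p), the ring K ⊗_{k(p)} (k(p) ⊗_A Â) is an integral domain. -/
theorem result (A : Type u) [CommRing A] [HenselianLocalRing A]
    [IsNoetherianRing A] (hA : EGA4.HasGeomNormalFormalFibres A) (p : Ideal A) [p.IsPrime]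
    (K : Type u) [Field K] [Algebra p.ResidueField K] :
    IsDomain (TensorProduct p.ResidueField K (EGA4.formalFibre A p)) := by
  have h2 : ∀ (k' : Type u) [Field k'] [Algebra p.ResidueField k']
      [Module.Finite p.ResidueField k'],
      IsDomain (TensorProduct p.ResidueField k' (EGA4.formalFibre A p)) := by
    intro k' _ _ _
    letI : Algebra A k' :=
      ((algebraMap p.ResidueField k').comp (algebraMap A p.ResidueField)).toAlgebra
    haveI : IsScalarTower A p.ResidueField k' := IsScalarTower.of_algebraMap_eq (fun _ => rfl)
    haveI := Groth.Agent.H23.HensFib.isDomain_tensor_cpl A hA p k'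
    let e1 := Algebra.TensorProduct.cancelBaseChange A p.ResidueField p.ResidueField k'
      (EGA4.Cpl A)
    exact e1.toRingEquiv.toMulEquiv.isDomain _
  have h3 : ∀ (k' : Type u) [Field k'] [Algebra p.ResidueField k'],
      IsDomain (TensorProduct p.ResidueField k' (EGA4.formalFibre A p)) :=
    ((Groth.Agent.H25.GeomIrr.tfae_geometricallyIntegral (k := p.ResidueField)
      (S := EGA4.formalFibre A p)).out 1 0).mp (by intro k' _ _ _; exact h2 k')
  exact h3 K

end Groth.Agent.S3831
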