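import Groth.Statements.S2909
import Groth.Agent.H69.QuotRes

set_option autoImplicit false
set_option linter.style.haveILetI false
open CategoryTheory CategoryTheory.Limits AlgebraicGeometry
universe u
open SGA1

namespace Groth.Agent.S2909

/-- Let a finite group G act on a scheme X by automorphisms over a scheme Z (structure morphism f), and
let p : X ⟶ Y be a quotient of X by G with Y ⟶ Z the induced morphism q (so p ≫ q = f). Then X is
affine over Z iff Y is, X is separated over Z iff Y is; if f is locally of finite type then p is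
finite; and if moreover Z is locally Noetherian and f quasi-compact then q is of finite type
(locally of finite type and quasi-compact). -/
theorem result {X Y Z : Scheme.{u}} {G : Type u} [Group G] [Finite G] (ρ : G →* Aut X)
    (p : X ⟶ Y) (hp : SGA1.IsQuot ρ p) (f : X ⟶ Z) (q : Y ⟶ Z) (hq : p ≫ q = f) (hρ : ∀ g : G, (ρ g).hom ≫ f = f) :
    (IsAffineHom f ↔ IsAffineHom q) ∧ (IsSeparated f ↔ IsSeparated q) ∧
    (LocallyOfFiniteType f → IsFinite p) ∧
    (IsLocallyNoetherian Z → LocallyOfFiniteType f → QuasiCompact f → LocallyOfFiniteType q ∧ QuasiCompact q) := by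
  classical
  subst hq
  haveI := hp.affine
  haveI : IsIntegralHom p := Groth.Agent.H68.Quot.isIntegralHom hp
  haveI : Surjective p := ⟨Groth.Agent.H68.Quot.surjective hp⟩
  refine ⟨⟨?_, ?_⟩, ⟨?_, ?_⟩, ?_, ?_⟩
  · intro hf
    constructor
    intro V hV
    have h1 : IsAffineOpen ((p ≫ q) ⁻¹ᵁ V) := hV.preimage (p ≫ q)
    rw [Scheme.Hom.comp_preimage] at h1
    exact Groth.Agent.H69.QuotRes.isAffineOpen_of_preimage ρ p hp _ h1
  · intro hq
    infer_instance
  · intro hf
    -- the diagonal of `q` is an immersion with closed range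
    let pp : pullback (p ≫ q) (p ≫ q) ⟶ pullback q q :=
      pullback.map (p ≫ q) (p ≫ q) q q p p (𝟙 Z) ((Category.comp_id _).trans rfl)
        ((Category.comp_id _).trans rfl)
    haveI : IsIntegralHom pp :=
      MorphismProperty.pullbackMap (P := @IsIntegralHom) (f := p ≫ q) (g := p ≫ q) (f' := q)
        (g' := q) (i₁ := p) (i₂ := p) inferInstance inferInstance rfl rfl
    have hcomm : pullback.diagonal (p ≫ q) ≫ pp = p ≫ pullback.diagonal q := by
      apply pullback.hom_ext
      · simp only [pp, Category.assoc, pullback.map]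
        rw [pullback.lift_fst, pullback.diagonal_fst_assoc, pullback.diagonal_fst, Category.comp_id]
      · simp only [pp, Category.assoc, pullback.map]
        rw [pullback.lift_snd, pullback.diagonal_snd_assoc, pullback.diagonal_snd, Category.comp_id]
    have hrange : Set.range (pullback.diagonal q) =
        pp '' Set.range (pullback.diagonal (p ≫ q)) := by
      ext y
      constructor
      · rintro ⟨y, rfl⟩
        obtain ⟨x, rfl⟩ := p.surjective y
        refine ⟨pullback.diagonal (p ≫ q) x, ⟨x, rfl⟩, ?_⟩
        rw [← Scheme.Hom.comp_apply, hcomm, Scheme.Hom.comp_apply]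
      · rintro ⟨_, ⟨x, rfl⟩, rfl⟩
        refine ⟨p x, ?_⟩
        rw [← Scheme.Hom.comp_apply, ← hcomm, Scheme.Hom.comp_apply]
    have hcl : IsClosed (Set.range (pullback.diagonal q)) := by
      rw [hrange]
      exact pp.isClosedMap _ (pullback.diagonal (p ≫ q)).isClosedEmbedding.isClosed_range
    haveI : IsClosedImmersion (pullback.diagonal q) := IsClosedImmersion.of_isPreimmersion _ hcl
    exact ⟨inferInstance⟩
  · intro hq
    infer_instance
  · intro hf
    haveI : LocallyOfFiniteType p := locallyOfFiniteType_of_comp p q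
    exact (IsFinite.iff_isIntegralHom_and_locallyOfFiniteType p).mpr ⟨inferInstance, inferInstance⟩
  · intro hZ hf hqc
    constructor
    · rw [HasRingHomProperty.iff_appLE (P := @LocallyOfFiniteType)]
      intro U V e
      have hpV : IsAffineOpen (p ⁻¹ᵁ V.1) := V.2.preimage p
      have e' : p ⁻¹ᵁ V.1 ≤ (p ≫ q) ⁻¹ᵁ U.1 := by
        rw [Scheme.Hom.comp_preimage]
        exact fun x hx => e hx
      have h1 : ((p ≫ q).appLE U.1 (p ⁻¹ᵁ V.1) e').hom.FiniteType :=
        HasRingHomProperty.appLE (P := @LocallyOfFiniteType) _ hf U ⟨_, hpV⟩ e'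
      have h2 : (p ≫ q).appLE U.1 (p ⁻¹ᵁ V.1) e' = q.appLE U.1 V.1 e ≫ p.app V.1 := by
        rw [Scheme.Hom.app_eq_appLE, Scheme.Hom.appLE_comp_appLE]
      rw [h2, CommRingCat.hom_comp] at h1
      haveI : IsNoetherianRing Γ(Z, U.1) := hZ.component_noetherian U
      have hint : (p.app V.1).hom.IsIntegral := Groth.Agent.H68.Quot.isIntegral_app hp V.1
      have hinj : Function.Injective (p.app V.1).hom := hp.injective V.1
      exact Groth.Agent.H69.QuotRes.finiteType_of_comp (q.appLE U.1 V.1 e).hom (p.app V.1).hom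
        h1 hint hinj
    · constructor
      intro U hU hUc
      have : (q ⁻¹ᵁ ⟨U, hU⟩ : Set Y) = p '' ((p ≫ q) ⁻¹ᵁ ⟨U, hU⟩ : Set X) := by
        ext w
        constructor
        · intro hw
          obtain ⟨z, rfl⟩ := p.surjective w
          exact ⟨z, hw, rfl⟩
        · rintro ⟨z, hz, rfl⟩
          exact hz
      show IsCompact (q ⁻¹ᵁ ⟨U, hU⟩ : Set Y)
      rw [this]
      exact ((p ≫ q).isCompact_preimage (U := ⟨U, hU⟩) hUc).image p.continuous

end Groth.Agent.S2909
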