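import Groth.Statements.S2910
import Groth.Agent.H79.Rigidity
import Groth.Agent.H69.QuotUH

set_option autoImplicit false
open CategoryTheory CategoryTheory.Limits AlgebraicGeometry
universe u
open SGA1

namespace Groth.Agent.S2910

/-- Let a finite group G act faithfully on a connected scheme X, let p : X ⟶ Y be a quotient of X by G
with Y locally Noetherian and p finite, and suppose p is etale. Then G acts freely on the geometric
points of X (all inertia groups are trivial), and every automorphism of X over Y is the action of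
exactly one element of G. -/
theorem result {X Y : Scheme.{u}} {G : Type u} [Group G] [Finite G] (ρ : G →* Aut X)
    (p : X ⟶ Y) (hp : SGA1.IsQuot ρ p) [IsLocallyNoetherian Y] [IsFinite p] [ConnectedSpace X]
    (hfaith : Function.Injective ρ) [Etale p] :
    (∀ (K : Type u) [Field K] [IsAlgClosed K] (ξ : Spec (CommRingCat.of K) ⟶ X) (g : G), ξ ≫ (ρ g).hom = ξ → g = 1) ∧
    ∀ u : Aut X, u.hom ≫ p = p → ∃! g : G, ρ g = u := by
  have hrig : ∀ (a b : X ⟶ X), a ≫ p = b ≫ p → ∀ (K : Type u) [Field K]
      (ξ : Spec (CommRingCat.of K) ⟶ X), ξ ≫ a = ξ ≫ b → a = b := by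
    intro a b hab K _ ξ hξ
    exact Groth.Agent.H79.Rigidity.eq_of_comp_eq_of_point p a b hab ξ hξ
  have hone : ∀ g : G, (ρ g).hom = 𝟙 X → g = 1 := by
    intro g hg
    apply hfaith
    rw [map_one]
    apply Iso.ext
    exact hg
  refine ⟨?_, ?_⟩
  · intro K _ _ ξ g hξ
    apply hone
    apply hrig _ _ _ K ξ
    · rw [Category.comp_id]; exact hξ
    · rw [Category.id_comp]; exact hp.inv g
  · intro w hw
    obtain ⟨x⟩ : Nonempty X := inferInstance
    let K := AlgebraicClosure (X.residueField x)
    obtain ⟨ξ, -⟩ : ∃ ξ : Spec (CommRingCat.of K) ⟶ X, True :=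
      ⟨Spec.map (CommRingCat.ofHom (algebraMap (X.residueField x) K)) ≫
        X.fromSpecResidueField x, trivial⟩
    have h1 : ξ ≫ p = (ξ ≫ w.hom) ≫ p := by rw [Category.assoc, hw]
    obtain ⟨g, hg⟩ := Groth.Agent.H69.QuotUH.exists_eq_comp_of_comp_eq ρ p hp ξ (ξ ≫ w.hom) h1
    have h2 : w.hom = (ρ g).hom := by
      apply hrig _ _ _ K ξ hg
      rw [hw, hp.inv g]
    refine ⟨g, ?_, ?_⟩
    · apply Iso.ext
      exact h2.symm
    · intro g' hg'
      apply hfaith
      rw [hg']
      apply Iso.ext
      exact h2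

end Groth.Agent.S2910
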