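import Groth.Statements.S2913

set_option autoImplicit false
open CategoryTheory CategoryTheory.Limits AlgebraicGeometry Opposite
universe u
open SGA1

namespace Groth.Agent.S2913

/-- Let g : S' ⟶ S be a surjective morphism of schemes such that for every open U of S the map O_S(U) →
O_{S'}(g⁻¹U) is injective. Then g is an epimorphism in the category of schemes. -/
theorem result {S' S : Scheme.{u}} (g : S' ⟶ S) [Surjective g]
    (hinj : ∀ U : S.Opens, Function.Injective (g.app U).hom) : Epi g := by
  constructor
  intro T a b hab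
  have hbase : a.base = b.base := by
    ext s
    obtain ⟨s', rfl⟩ := g.surjective s
    have h1 : (g ≫ a) s' = (g ≫ b) s' := by rw [hab]
    simpa using h1
  refine Scheme.Hom.ext hbase (fun U => ?_)
  have h1 := Scheme.Hom.congr_app hab U
  have h3 : ∀ (V : S'.Opens) (f : op V ⟶ op V), S'.presheaf.map f = 𝟙 _ := by
    intro V f
    have hf : f = 𝟙 _ := Subsingleton.elim _ _
    rw [hf]
    exact S'.presheaf.map_id _
  have h4 : ∀ {A B C : CommRingCat.{u}} (p : A ⟶ B) (q : B ⟶ C) (r : C ⟶ B),
      q ≫ r = 𝟙 _ → (p ≫ q) ≫ r = p := by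
    intro A B C p q r h
    rw [Category.assoc, h, Category.comp_id]
  have key : (a.app U ≫ S.presheaf.map
      (eqToHom congr((TopologicalSpace.Opens.map $hbase.symm).obj U)).op) ≫ g.app (b ⁻¹ᵁ U)
      = b.app U ≫ g.app (b ⁻¹ᵁ U) := by
    rw [Category.assoc, g.naturality]
    change (g ≫ a).app U ≫ _ = (g ≫ b).app U
    rw [h1]
    refine h4 _ _ _ ?_
    exact (S'.presheaf.map_comp _ _).symm.trans (h3 _ _)
  apply CommRingCat.hom_ext
  apply RingHom.ext
  intro x
  apply hinj
  exact congr($(key).hom x)

end Groth.Agent.S2913
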