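import Groth.Statements.S2914
import Groth.Agent.S2925

set_option autoImplicit false
open CategoryTheory CategoryTheory.Limits AlgebraicGeometry Opposite
universe u
open SGA1

namespace Groth.Agent.S2914

open Groth.Agent.S2925

section

variable {S' S T : Scheme.{u}} (g : S' ⟶ S) (hq : Topology.IsQuotientMap g.base)
  (hinj : ∀ U : S.Opens, Function.Injective (g.app U).hom)
  (heq : ∀ (U : S.Opens) (s' : Γ(S', g ⁻¹ᵁ U)),
    (SGA1.overlapFstApp g U).hom s' = (SGA1.overlapSndApp g U).hom s' →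
      s' ∈ Set.range (g.app U).hom)
  (a : S' ⟶ T) (ha : pullback.fst g g ≫ a = pullback.snd g g ≫ a)

include ha in
theorem const_on_fibres (s₁ s₂ : S') (h : g.base s₁ = g.base s₂) : a.base s₁ = a.base s₂ := by
  obtain ⟨z, hz1, hz2⟩ := Scheme.Pullback.exists_preimage_pullback (f := g) (g := g) s₁ s₂ h
  rw [← hz1, ← hz2, ← Scheme.Hom.comp_apply, ← Scheme.Hom.comp_apply, ha]

include hq hinj in
theorem epi_restrict' (V : S.Opens) : Epi (g ∣_ V) := by
  have : Surjective g := ⟨hq.surjective⟩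
  have : Surjective (g ∣_ V) := IsZariskiLocalAtTarget.restrict ‹Surjective g› V
  apply epi_of_surjective_of_app_injective
  intro W x y hxy
  rw [morphismRestrict_app] at hxy
  apply hinj (V.ι ''ᵁ W)
  exact (ConcreteCategory.bijective_of_isIso
    (S'.presheaf.map (eqToHom (image_morphismRestrict_preimage g V W)).op)).1 hxy

include heq ha in
theorem appLE_mem_range' (V : S.Opens) (W : T.Opens) (e : g ⁻¹ᵁ V ≤ a ⁻¹ᵁ W) (s : Γ(T, W)) :
    (a.appLE W (g ⁻¹ᵁ V) e).hom s ∈ Set.range (g.app V).hom := by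
  apply heq
  have h1 := Scheme.Hom.appLE_comp_appLE (pullback.fst g g) a W (g ⁻¹ᵁ V)
    ((pullback.fst g g) ⁻¹ᵁ (g ⁻¹ᵁ V)) e le_rfl
  have h2 := Scheme.Hom.appLE_comp_appLE (pullback.snd g g) a W (g ⁻¹ᵁ V)
    ((pullback.fst g g) ⁻¹ᵁ (g ⁻¹ᵁ V)) e (SGA1.fst_preimage_eq_snd_preimage g V).le
  rw [Scheme.Hom.appLE_eq_app] at h1
  have h4 : a.appLE W (g ⁻¹ᵁ V) e ≫ (pullback.fst g g).app (g ⁻¹ᵁ V) =
      a.appLE W (g ⁻¹ᵁ V) e ≫ (pullback.snd g g).appLE (g ⁻¹ᵁ V)
        ((pullback.fst g g) ⁻¹ᵁ (g ⁻¹ᵁ V)) (SGA1.fst_preimage_eq_snd_preimage g V).le :=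
    h1.trans ((appLE_congr_hom ha W _ _ _).trans h2.symm)
  exact congr($(h4).hom s)

/-- The local descended morphism on an open `V` of `S` with `g⁻¹V ⊆ a⁻¹W`, `W` affine. -/
noncomputable def locHom' (V : S.Opens) {W : T.Opens} (hW : IsAffineOpen W)
    (e : g ⁻¹ᵁ V ≤ a ⁻¹ᵁ W) : (V : Scheme.{u}) ⟶ T :=
  V.toSpecΓ ≫ Spec.map (CommRingCat.ofHom (liftRingHom (g.app V).hom (hinj V)
    (a.appLE W (g ⁻¹ᵁ V) e).hom (appLE_mem_range' g heq a ha V W e))) ≫ hW.fromSpec

theorem restrict_comp_locHom' (V : S.Opens) {W : T.Opens} (hW : IsAffineOpen W)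
    (e : g ⁻¹ᵁ V ≤ a ⁻¹ᵁ W) :
    (g ∣_ V) ≫ locHom' g hinj heq a ha V hW e = (g ⁻¹ᵁ V).ι ≫ a := by
  have hθ : CommRingCat.ofHom (liftRingHom (g.app V).hom (hinj V)
      (a.appLE W (g ⁻¹ᵁ V) e).hom (appLE_mem_range' g heq a ha V W e)) ≫ g.app V =
      a.appLE W (g ⁻¹ᵁ V) e := by
    apply CommRingCat.hom_ext
    apply RingHom.ext
    intro s
    exact liftRingHom_spec (g.app V).hom (hinj V) (a.appLE W (g ⁻¹ᵁ V) e).hom
      (appLE_mem_range' g heq a ha V W e) s
  rw [locHom', ← Category.assoc, ← Scheme.Opens.toSpecΓ_naturality, Category.assoc,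
    ← Spec.map_comp_assoc, hθ, Scheme.Opens.toSpecΓ_SpecMap_appLE_assoc,
    IsAffineOpen.toSpecΓ_fromSpec, Scheme.Hom.resLE_comp_ι]

include hq hinj in
theorem eq_of_restrict_comp_eq' {U U' : S.Opens} (hle : U ≤ U') (t : (U : Scheme.{u}) ⟶ U')
    (ht : t ≫ U'.ι = U.ι) (φ : (U : Scheme.{u}) ⟶ T) (φ' : (U' : Scheme.{u}) ⟶ T)
    (hφ : (g ∣_ U) ≫ φ = (g ⁻¹ᵁ U).ι ≫ a) (hφ' : (g ∣_ U') ≫ φ' = (g ⁻¹ᵁ U').ι ≫ a) :
    t ≫ φ' = φ := by
  have := epi_restrict' g hq hinj U
  have hle' : g ⁻¹ᵁ U ≤ g ⁻¹ᵁ U' := fun x hx => hle hx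
  have hsq : (g ∣_ U) ≫ t = S'.homOfLE hle' ≫ (g ∣_ U') := by
    rw [← cancel_mono U'.ι, Category.assoc, Category.assoc, ht, morphismRestrict_ι,
      morphismRestrict_ι, Scheme.homOfLE_ι_assoc]
  rw [← cancel_epi (g ∣_ U), ← Category.assoc, hsq, Category.assoc, hφ', hφ,
    Scheme.homOfLE_ι_assoc]

theorem snd_comp_eq' {U : S.Opens} (φ : (U : Scheme.{u}) ⟶ T)
    (hφ : (g ∣_ U) ≫ φ = (g ⁻¹ᵁ U).ι ≫ a) :
    pullback.snd g U.ι ≫ φ = pullback.fst g U.ι ≫ a := by
  rw [← pullbackRestrictIsoRestrict_hom_morphismRestrict, Category.assoc, hφ,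
    pullbackRestrictIsoRestrict_hom_ι_assoc]

/-- Admissible opens of `S`: opens whose preimage lands in the preimage of an affine open of `T`. -/
def Adm' (g : S' ⟶ S) (a : S' ⟶ T) (V : S.Opens) : Prop :=
  ∃ W : T.Opens, IsAffineOpen W ∧ g ⁻¹ᵁ V ≤ a ⁻¹ᵁ W

include hq ha in
theorem adm_isBasis' : TopologicalSpace.Opens.IsBasis {V : S.Opens | Adm' g a V} := by
  rw [TopologicalSpace.Opens.isBasis_iff_nbhd]
  intro O s hsO
  obtain ⟨s', rfl⟩ := hq.surjective s
  obtain ⟨W, hW, hxW, -⟩ := exists_isAffineOpen_mem_and_subset (x := a.base s') (U := ⊤) trivial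
  have hpre : g.base ⁻¹' (g.base '' (a ⁻¹ᵁ W : Set S')) = (a ⁻¹ᵁ W : Set S') := by
    ext t
    constructor
    · rintro ⟨t', ht', htt'⟩
      have := const_on_fibres g a ha t' t htt'
      show a.base t ∈ W
      rw [← this]; exact ht'
    · intro ht
      exact ⟨t, ht, rfl⟩
  have hopen : IsOpen (g.base '' (a ⁻¹ᵁ W : Set S')) :=
    hq.isOpen_preimage.1 (by rw [hpre]; exact (a ⁻¹ᵁ W).isOpen)
  refine ⟨O ⊓ ⟨g.base '' (a ⁻¹ᵁ W : Set S'), hopen⟩, ⟨W, hW, ?_⟩, ⟨hsO, ⟨s', hxW, rfl⟩⟩,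
    inf_le_left⟩
  intro t ht
  have ht2 : g.base t ∈ g.base '' (a ⁻¹ᵁ W : Set S') := ht.2
  have : t ∈ g.base ⁻¹' (g.base '' (a ⁻¹ᵁ W : Set S')) := ht2
  rw [hpre] at this
  exact this

/-- The open cover of `S` by admissible opens. -/
noncomputable def admCover' : S.OpenCover where
  I₀ := {V : S.Opens // Adm' g a V}
  X V := V.1
  f V := V.1.ι
  mem₀ := by
    rw [Scheme.presieve₀_mem_precoverage_iff]
    refine ⟨fun y => ?_, inferInstance⟩
    obtain ⟨U, hU, hyU, -⟩ := TopologicalSpace.Opens.isBasis_iff_nbhd.1 (adm_isBasis' g hq a ha)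
      (show y ∈ (⊤ : S.Opens) from trivial)
    exact ⟨⟨U, hU⟩, ⟨⟨y, hyU⟩, rfl⟩⟩

noncomputable instance : Preorder (admCover' g hq a ha).I₀ :=
  inferInstanceAs (Preorder {V : S.Opens // Adm' g a V})

noncomputable instance : Scheme.Cover.LocallyDirected (admCover' g hq a ha) :=
  .ofIsBasisOpensRange (by intro i j; simp [admCover']; rfl) (by
    convert adm_isBasis' g hq a ha
    ext U
    simp [admCover'])

/-- The family of local morphisms. -/
noncomputable def locFam' (V : (admCover' g hq a ha).I₀) : (admCover' g hq a ha).X V ⟶ T :=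
  locHom' g hinj heq a ha V.1 V.2.choose_spec.1 V.2.choose_spec.2

theorem restrict_comp_locFam' (V : (admCover' g hq a ha).I₀) :
    (g ∣_ V.1) ≫ locFam' g hq hinj heq a ha V = (g ⁻¹ᵁ V.1).ι ≫ a :=
  restrict_comp_locHom' g hinj heq a ha _ _ _

theorem locFam_compat' {i j : (admCover' g hq a ha).I₀} (hij : i ⟶ j) :
    (admCover' g hq a ha).trans hij ≫ locFam' g hq hinj heq a ha j =
      locFam' g hq hinj heq a ha i :=
  eq_of_restrict_comp_eq' g hq hinj a (leOfHom hij) ((admCover' g hq a ha).trans hij)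
    ((admCover' g hq a ha).trans_map hij) (locFam' g hq hinj heq a ha i)
    (locFam' g hq hinj heq a ha j)
    (restrict_comp_locFam' g hq hinj heq a ha i) (restrict_comp_locFam' g hq hinj heq a ha j)

include hq hinj heq ha in
theorem exists_desc' : ∃ a' : S ⟶ T, g ≫ a' = a := by
  refine ⟨(admCover' g hq a ha).glueMorphismsOfLocallyDirected (locFam' g hq hinj heq a ha)
    (fun hij => locFam_compat' g hq hinj heq a ha hij), ?_⟩
  apply ((admCover' g hq a ha).pullback₁ g).hom_ext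
  intro i
  have hcond : pullback.fst g i.1.ι ≫ g = pullback.snd g i.1.ι ≫ i.1.ι := pullback.condition
  have hglue : i.1.ι ≫ (admCover' g hq a ha).glueMorphismsOfLocallyDirected
      (locFam' g hq hinj heq a ha) (fun hij => locFam_compat' g hq hinj heq a ha hij) =
      locFam' g hq hinj heq a ha i :=
    Scheme.OpenCover.map_glueMorphismsOfLocallyDirected (admCover' g hq a ha)
      (locFam' g hq hinj heq a ha) (fun hij => locFam_compat' g hq hinj heq a ha hij) i
  show pullback.fst g i.1.ι ≫ g ≫ _ = pullback.fst g i.1.ι ≫ a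
  rw [← Category.assoc, hcond, Category.assoc, hglue]
  exact snd_comp_eq' g a (locFam' g hq hinj heq a ha i) (restrict_comp_locFam' g hq hinj heq a ha i)

end


/-- Let g : S' ⟶ S be a morphism of schemes whose underlying map is a quotient map, and such that for
every open U of S the sequence O_S(U) → O_{S'}(g⁻¹U) ⇉ O_{S''}(h⁻¹U) is an equalizer, where S'' = S'
×_S S' with structure map h and the two arrows are restriction along the projections. Then g is an
effective epimorphism in the category of schemes. -/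
theorem result {S' S : Scheme.{u}} (g : S' ⟶ S) (hq : Topology.IsQuotientMap g.base)
    (hinj : ∀ U : S.Opens, Function.Injective (g.app U).hom)
    (heq : ∀ (U : S.Opens) (s' : Γ(S', g ⁻¹ᵁ U)), (SGA1.overlapFstApp g U).hom s' = (SGA1.overlapSndApp g U).hom s' →
      s' ∈ Set.range (g.app U).hom) :
    EffectiveEpi g := by
  have : Surjective g := ⟨hq.surjective⟩
  have : Epi g := epi_of_surjective_of_app_injective g hinj
  have key : ∀ {W : Scheme.{u}} (e : S' ⟶ W),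
      (∀ {Z : Scheme.{u}} (g₁ g₂ : Z ⟶ S'), g₁ ≫ g = g₂ ≫ g → g₁ ≫ e = g₂ ≫ e) →
      ∃ a' : S ⟶ W, g ≫ a' = e := fun e he =>
    exists_desc' g hq hinj heq e (he _ _ pullback.condition)
  exact ⟨⟨{ desc := fun e he => (key e he).choose
            fac := fun e he => (key e he).choose_spec
            uniq := fun e he m hm => (cancel_epi g).1 (hm.trans (key e he).choose_spec.symm) }⟩⟩

end Groth.Agent.S2914
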