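import Groth.Statements.S2933
import Groth.Agent.H58.LCRelCodim
import Groth.Agent.H71.HConn


set_option autoImplicit false
universe u
open LocCoh

namespace Groth.Agent.S2933

/-- Let A be a Noetherian ring with connected spectrum and d ≥ 1 an integer such that every prime p with
dim A_p ≥ d has depth A_p ≥ 2. Then for any two minimal primes p', p'' of A there is a finite
sequence of minimal primes starting at p' and ending at p'' such that any two consecutive members
are both contained in some prime of height at most d − 1 (Spec A is connected in codimension d − 1). -/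
theorem result (A : Type u) [CommRing A] [IsNoetherianRing A] [ConnectedSpace (PrimeSpectrum A)] (d : ℕ) (hd : 1 ≤ d) (h : ∀ p : PrimeSpectrum A, (d : ℕ∞) ≤ p.asIdeal.height → (2 : ℕ∞) ≤ LocCoh.depth (Localization.AtPrime p.asIdeal) (Localization.AtPrime p.asIdeal)) (p' p'' : PrimeSpectrum A) (hp' : p'.asIdeal ∈ minimalPrimes A) (hp'' : p''.asIdeal ∈ minimalPrimes A) : ∃ l : List (PrimeSpectrum A), l.head? = some p' ∧ l.getLast? = some p'' ∧ (∀ p ∈ l, p.asIdeal ∈ minimalPrimes A) ∧ List.IsChain (fun p q => ∃ r : PrimeSpectrum A, p ≤ r ∧ q ≤ r ∧ r.asIdeal.height ≤ (d - 1 : ℕ)) l := by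
  obtain ⟨n, c, h0, hl, hmin, hlink⟩ := Groth.Agent.H71.HC.hartshorne_chain A d
    (@fun p hp hpd => h ⟨p, hp⟩ hpd) p'.asIdeal p''.asIdeal hp' hp''
  let c' : Fin (n + 1) → PrimeSpectrum A := fun i => ⟨c i, (hmin i).1.1⟩
  have hrel : ∀ i : Fin n, (fun p q : PrimeSpectrum A => ∃ r : PrimeSpectrum A,
      p ≤ r ∧ q ≤ r ∧ r.asIdeal.height ≤ (d - 1 : ℕ)) (c' i.castSucc) (c' i.succ) := by
    intro i
    obtain ⟨Q, hQ, h1, h2, h3⟩ := hlink i
    refine ⟨⟨Q, hQ⟩, h1, h2, ?_⟩
    show Q.height ≤ ((d - 1 : ℕ) : ℕ∞)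
    have hd' : ((d : ℕ) : ℕ∞) = ((d - 1 : ℕ) : ℕ∞) + 1 := by
      exact_mod_cast (Nat.sub_add_cancel hd).symm
    rw [hd'] at h3
    exact (ENat.add_le_add_iff_right (by simp)).1 h3
  obtain ⟨tl, h1, h2, h3⟩ := Groth.Agent.H58.LC.list_of_chain (fun p q : PrimeSpectrum A => ∃ r : PrimeSpectrum A,
      p ≤ r ∧ q ≤ r ∧ r.asIdeal.height ≤ (d - 1 : ℕ)) n c' hrel
  refine ⟨c' 0 :: tl, ?_, ?_, ?_, h3⟩
  · show some (c' 0) = some p'
    congr 1
    exact PrimeSpectrum.ext h0
  · rw [h1]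
    congr 1
    exact PrimeSpectrum.ext hl
  · intro p hp
    obtain ⟨i, rfl⟩ := h2 p hp
    exact hmin i

end Groth.Agent.S2933
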