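import Groth.Statements.S2952

set_option autoImplicit false
open RootPairing
open scoped Pointwise
universe u
open RootD

namespace Groth.Agent.S2952

theorem pairing_inv {ι R M N : Type*} [CommRing R] [AddCommGroup M] [Module R M]
    [AddCommGroup N] [Module R N] (P : RootPairing ι R M N) (g : P.Aut) (x : M) (j : ι) :
    P.toLinearMap (g.toHom.weightMap x) (P.coroot (g • j)) = P.toLinearMap x (P.coroot j) := by
  have h1 := Hom.weight_coweight_transpose_apply P P (P.coroot (g • j)) g.toHom
  have h2 := Hom.coroot_coweightMap_apply P P (g • j) g.toHom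
  have h3 := congr($h1 x)
  simp at h3
  rw [h3, h2]
  congr 2
  exact g.toHom.indexEquiv.symm_apply_apply j

theorem conj_reflection {ι R M N : Type*} [CommRing R] [AddCommGroup M] [Module R M]
    [AddCommGroup N] [Module R N] (P : RootPairing ι R M N) (g : P.Aut) (j : ι) :
    g * Equiv.reflection P j = Equiv.reflection P (g • j) * g := by
  apply Equiv.weightHom_injective
  rw [map_mul, map_mul]
  ext x
  simp
  rw [reflection_apply, reflection_apply, map_sub, map_smul]
  have h4 : g.toHom.weightMap (P.root j) = P.root (g • j) :=
    Hom.root_weightMap_apply P P j g.toHom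
  rw [h4]
  congr 2
  exact (pairing_inv P g x j).symm

/-- For a finite crystallographic reduced root pairing over a characteristic-zero domain with a base b:
(1) the Weyl group is generated by the reflections in the simple roots; (2) every root is the image
of a simple root under an element of the Weyl group (acting on the indexing type). (The published
statement also covers the non-reduced case.) -/
theorem result {ι R M N : Type*} [CommRing R] [CharZero R] [IsDomain R] [AddCommGroup M] [Module R M]
    [AddCommGroup N] [Module R N] (P : RootPairing ι R M N) [Finite ι] [P.IsCrystallographic] [P.IsReduced]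
    (b : P.Base) :
    Subgroup.closure ((fun i : ι => Equiv.reflection P i) '' (b.support : Set ι)) = P.weylGroup ∧
    ∀ i : ι, ∃ g : P.Aut, g ∈ P.weylGroup ∧ ∃ j ∈ b.support, g • j = i := by
  have hle : Subgroup.closure ((fun i : ι => Equiv.reflection P i) '' (b.support : Set ι))
      ≤ P.weylGroup := Subgroup.closure_mono (Set.image_subset_range _ _)
  have key : ∀ i : ι, ∃ g : P.Aut,
      g ∈ Subgroup.closure ((fun i : ι => Equiv.reflection P i) '' (b.support : Set ι)) ∧
      ∃ j ∈ b.support, g • j = i := by
    intro i
    refine b.induction_reflect i (p := fun i => ∃ g : P.Aut,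
      g ∈ Subgroup.closure ((fun i : ι => Equiv.reflection P i) '' (b.support : Set ι)) ∧
      ∃ j ∈ b.support, g • j = i) ?_ ?_ ?_
    · rintro i ⟨g, hg, j, hj, rfl⟩
      refine ⟨Equiv.reflection P (g • j) * g, ?_, j, hj, ?_⟩
      · rw [← conj_reflection]
        exact mul_mem hg (Subgroup.subset_closure ⟨j, hj, rfl⟩)
      · rfl
    · intro i hi
      exact ⟨1, one_mem _, i, hi, one_smul _ _⟩
    · rintro i j ⟨g, hg, k, hk, rfl⟩ hj
      exact ⟨Equiv.reflection P j * g, mul_mem (Subgroup.subset_closure ⟨j, hj, rfl⟩) hg, k, hk, rfl⟩
  have hge : P.weylGroup ≤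
      Subgroup.closure ((fun i : ι => Equiv.reflection P i) '' (b.support : Set ι)) := by
    rw [weylGroup, Subgroup.closure_le]
    rintro _ ⟨i, rfl⟩
    obtain ⟨g, hg, j, hj, rfl⟩ := key i
    have h5 : Equiv.reflection P (g • j) = g * Equiv.reflection P j * g⁻¹ := by
      rw [conj_reflection, mul_inv_cancel_right]
    rw [h5]
    exact mul_mem (mul_mem hg (Subgroup.subset_closure ⟨j, hj, rfl⟩)) (inv_mem hg)
  exact ⟨le_antisymm hle hge, fun i => let ⟨g, hg, h⟩ := key i; ⟨g, hle hg, h⟩⟩

end Groth.Agent.S2952
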