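import Groth.Statements.S2953
import Groth.Agent.S2952

set_option autoImplicit false
open RootPairing
open scoped Pointwise
universe u
open RootD

namespace Groth.Agent.S2953

section Lib

variable {ι R M N : Type*} [CommRing R] [AddCommGroup M] [Module R M]
  [AddCommGroup N] [Module R N]

/-- The product of the reflections along a list of indices. -/
noncomputable def word (P : RootPairing ι R M N) (L : List ι) : P.Aut := (L.map (Equiv.reflection P)).prod

theorem word_nil (P : RootPairing ι R M N) : word P [] = 1 := rfl

theorem word_cons (P : RootPairing ι R M N) (i : ι) (L : List ι) :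
    word P (i :: L) = Equiv.reflection P i * word P L := by
  simp [word]

theorem word_append (P : RootPairing ι R M N) (L L' : List ι) :
    word P (L ++ L') = word P L * word P L' := by
  simp [word]

theorem refl_mul_self (P : RootPairing ι R M N) (i : ι) :
    Equiv.reflection P i * Equiv.reflection P i = 1 := by
  have h := Equiv.reflection_inv P i
  calc Equiv.reflection P i * Equiv.reflection P i
      = (Equiv.reflection P i)⁻¹ * Equiv.reflection P i := by rw [h]
    _ = 1 := inv_mul_cancel _

theorem word_reverse (P : RootPairing ι R M N) (L : List ι) :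
    word P L.reverse = (word P L)⁻¹ := by
  induction L with
  | nil => simp [word]
  | cons i L ih =>
    rw [List.reverse_cons, word_append, ih, word_cons, word_cons, word_nil, mul_one, mul_inv_rev,
      Equiv.reflection_inv]

theorem refl_smul (P : RootPairing ι R M N) (j i : ι) :
    Equiv.reflection P j • i = P.reflectionPerm j i := rfl

end Lib

section Main

variable {ι R M N : Type*} [CommRing R] [CharZero R] [IsDomain R] [AddCommGroup M] [Module R M]
  [AddCommGroup N] [Module R N] (P : RootPairing ι R M N) [Finite ι] [P.IsCrystallographic]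
  [P.IsReduced] (b : P.Base)

theorem exists_word (g : P.Aut) (hg : g ∈ P.weylGroup) :
    ∃ L : List ι, (∀ i ∈ L, i ∈ b.support) ∧ word P L = g := by
  rw [← (Groth.Agent.S2952.result P b).1] at hg
  induction hg using Subgroup.closure_induction with
  | mem x hx =>
    obtain ⟨i, hi, rfl⟩ := hx
    exact ⟨[i], by simpa using hi, by simp [word]⟩
  | one => exact ⟨[], by simp, rfl⟩
  | mul x y _ _ hx hy =>
    obtain ⟨L1, h1, rfl⟩ := hx
    obtain ⟨L2, h2, rfl⟩ := hy
    refine ⟨L1 ++ L2, ?_, word_append P L1 L2⟩
    intro i hi
    rcases List.mem_append.1 hi with h | h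
    · exact h1 i h
    · exact h2 i h
  | inv x _ hx =>
    obtain ⟨L, h, rfl⟩ := hx
    exact ⟨L.reverse, fun i hi => h i (List.mem_reverse.1 hi), word_reverse P L⟩

theorem exists_split (L : List ι) (hL : ∀ i ∈ L, i ∈ b.support) (i : ι) (hi : b.IsPos i)
    (hneg : ¬ b.IsPos (word P L • i)) :
    ∃ (A : List ι) (k : ι) (B : List ι), L = A ++ k :: B ∧ word P B • i = k := by
  induction L with
  | nil =>
    exfalso
    apply hneg
    rw [word_nil, one_smul]
    exact hi
  | cons j L ih =>
    have hj : j ∈ b.support := hL j (by simp)
    have hL' : ∀ i ∈ L, i ∈ b.support := fun i hi => hL i (by simp [hi])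
    by_cases hpos : b.IsPos (word P L • i)
    · refine ⟨[], j, L, rfl, ?_⟩
      by_contra hne
      apply hneg
      rw [word_cons, mul_smul, refl_smul]
      exact hpos.reflectionPerm hj hne
    · obtain ⟨A, k, B, hAB, hk⟩ := ih hL' hpos
      exact ⟨j :: A, k, B, by rw [hAB]; rfl, hk⟩

end Main


/-- For a finite crystallographic reduced root pairing with a base b: an element of the Weyl group which
maps positive roots (relative to b) to positive roots is the identity. -/
theorem result {ι R M N : Type*} [CommRing R] [CharZero R] [IsDomain R] [AddCommGroup M] [Module R M]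
    [AddCommGroup N] [Module R N] (P : RootPairing ι R M N) [Finite ι] [P.IsCrystallographic] [P.IsReduced]
    (b : P.Base) (g : P.Aut) (hg : g ∈ P.weylGroup) (hpos : ∀ i, b.IsPos i → b.IsPos (g • i)) : g = 1 := by
  classical
  obtain ⟨L0, hL0, hw0⟩ := exists_word P b g hg
  have hex : ∃ n : ℕ, ∃ L : List ι, L.length = n ∧ (∀ i ∈ L, i ∈ b.support) ∧ word P L = g :=
    ⟨L0.length, L0, rfl, hL0, hw0⟩
  obtain ⟨L, hlen, hL, hw⟩ := Nat.find_spec hex
  have hmin : ∀ L' : List ι, (∀ i ∈ L', i ∈ b.support) → word P L' = g →
      L.length ≤ L'.length := by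
    intro L' h1 h2
    rw [hlen]
    exact Nat.find_min' hex ⟨L', rfl, h1, h2⟩
  rcases List.eq_nil_or_concat L with rfl | ⟨L', j, rfl⟩
  · rw [← hw, word_nil]
  · rw [List.concat_eq_append] at hlen hL hw hmin
    exfalso
    have hj : j ∈ b.support := hL j (by simp)
    have hL' : ∀ i ∈ L', i ∈ b.support := fun i hi => hL i (by simp [hi])
    have hgj : g = Equiv.reflection P (word P L' • j) * word P L' := by
      rw [← hw, word_append, word_cons, word_nil, mul_one, Groth.Agent.S2952.conj_reflection]
    have h1 : g • j = P.reflectionPerm (word P L' • j) (word P L' • j) := by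
      rw [hgj, mul_smul, refl_smul]
    have h2 : b.IsPos (g • j) := hpos j (b.isPos_of_mem_support hj)
    rw [h1] at h2
    have h3 : ¬ b.IsPos (word P L' • j) := (RootPairing.Base.IsPos.neg_iff_not b _).1 h2
    obtain ⟨A, k, B, hAB, hk⟩ := exists_split P b L' hL' j (b.isPos_of_mem_support hj) h3
    have h4 : word P B * Equiv.reflection P j = Equiv.reflection P k * word P B := by
      rw [Groth.Agent.S2952.conj_reflection, hk]
    have h5 : g = word P (A ++ B) := by
      rw [← hw, word_append, word_cons, word_nil, mul_one, hAB, word_append, word_cons,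
        word_append, mul_assoc, mul_assoc, h4, ← mul_assoc (Equiv.reflection P k),
        refl_mul_self, one_mul]
    have h6 : ∀ i ∈ A ++ B, i ∈ b.support := by
      intro i hi
      apply hL'
      rw [hAB]
      rcases List.mem_append.1 hi with h | h
      · exact List.mem_append_left _ h
      · exact List.mem_append_right _ (List.mem_cons_of_mem _ h)
    have h7 := hmin (A ++ B) h6 h5.symm
    rw [hAB] at h7
    simp at h7

end Groth.Agent.S2953
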