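import Groth.Statements.S2954
import Groth.Agent.S2953

set_option autoImplicit false
open RootPairing
open scoped Pointwise
universe u
open RootD

namespace Groth.Agent.S2954

section Lib

set_option linter.unusedSectionVars false

variable {ι R M N : Type*} [CommRing R] [CharZero R] [IsDomain R] [AddCommGroup M] [Module R M]
  [AddCommGroup N] [Module R N] {P : RootPairing ι R M N} [Finite ι] [P.IsCrystallographic]
  [P.IsReduced]

theorem smul_neg_idx (w : P.Aut) (i : ι) :
    w • P.reflectionPerm i i = P.reflectionPerm (w • i) (w • i) := by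
  have h := Groth.Agent.S2952.conj_reflection P w i
  have h2 := congrArg (fun g : P.Aut => g • i) h
  simpa only [mul_smul, Groth.Agent.S2953.refl_smul] using h2

theorem root_smul (w : P.Aut) (i : ι) : P.root (w • i) = w • P.root i :=
  Equiv.root_indexEquiv_eq_smul (P := P) i w

theorem height_of_sum (b' : P.Base) (s : Finset ι) (f : ι → ℤ) (φ : ι → ι) (k : ι)
    (hk : P.root k = ∑ j ∈ s, f j • P.root (φ j)) :
    b'.height k = ∑ j ∈ s, f j * b'.height (φ j) := by
  have hF : ∀ j, ∃ F : ι → ℤ, P.root (φ j) = ∑ l ∈ b'.support, F l • P.root l := fun j => by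
    obtain ⟨F, -, -, hF⟩ := b'.exists_root_eq_sum_int (φ j)
    exact ⟨F, hF⟩
  choose F hF using hF
  have h1 : P.root k = ∑ l ∈ b'.support, (∑ j ∈ s, f j * F j l) • P.root l := by
    rw [hk]
    calc ∑ j ∈ s, f j • P.root (φ j)
        = ∑ j ∈ s, ∑ l ∈ b'.support, (f j * F j l) • P.root l := by
          refine Finset.sum_congr rfl fun j _ => ?_
          rw [hF j, Finset.smul_sum]
          refine Finset.sum_congr rfl fun l _ => ?_
          rw [mul_smul]
      _ = ∑ l ∈ b'.support, ∑ j ∈ s, (f j * F j l) • P.root l := Finset.sum_comm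
      _ = ∑ l ∈ b'.support, (∑ j ∈ s, f j * F j l) • P.root l := by
          refine Finset.sum_congr rfl fun l _ => ?_
          rw [Finset.sum_smul]
  rw [RootPairing.Base.height_eq_sum h1, Finset.sum_comm]
  refine Finset.sum_congr rfl fun j _ => ?_
  rw [RootPairing.Base.height_eq_sum (hF j), Finset.mul_sum]

theorem exists_nonneg_coeffs (b : P.Base) {i : ι} (hi : b.IsPos i) :
    ∃ f : ι → ℤ, (∀ j, 0 ≤ f j) ∧ P.root i = ∑ j ∈ b.support, f j • P.root j := by
  obtain ⟨f, -, hf₁, hf₂⟩ := b.exists_root_eq_sum_int i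
  refine ⟨f, ?_, hf₂⟩
  have hf : 0 < f := by
    refine hf₁.resolve_right ?_
    rw [RootPairing.Base.isPos_iff, RootPairing.Base.height_eq_sum hf₂] at hi
    contrapose! hi
    exact Finset.sum_nonpos fun i _ ↦ hi.le i
  exact fun j => hf.le j

theorem mem_support_of_height_eq_one (b : P.Base) {k : ι} (h : b.height k = 1) :
    k ∈ b.support := by
  have hpos : b.IsPos k := by rw [RootPairing.Base.isPos_iff, h]; exact one_pos
  obtain ⟨j, hj, hj'⟩ := hpos.exists_mem_support_pos_pairingIn
  rw [P.zero_lt_pairingIn_iff'] at hj'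
  rcases eq_or_ne k j with rfl | hkj
  · exact hj
  · obtain ⟨l, hl⟩ := P.root_sub_root_mem_of_pairingIn_pos hj' hkj
    have h0 : b.height l = 0 := by
      rw [b.height_sub hl, RootPairing.Base.height_one_of_mem_support hj, h]; simp
    exact absurd h0 (b.height_ne_zero l)

theorem height_smul_eq (b b' : P.Base) (w : P.Aut) {i : ι} {f : ι → ℤ}
    (hf : P.root i = ∑ j ∈ b.support, f j • P.root j) :
    b'.height (w • i) = ∑ j ∈ b.support, f j * b'.height (w • j) := by
  apply height_of_sum b' b.support f (fun j => w • j)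
  rw [root_smul, hf, Finset.smul_sum]
  refine Finset.sum_congr rfl fun j _ => ?_
  rw [root_smul, smul_comm]

theorem exists_simple_neg (b b' : P.Base) (w : P.Aut) {i : ι} (hi : b.IsPos i)
    (hneg : ¬ b'.IsPos (w • i)) : ∃ j ∈ b.support, ¬ b'.IsPos (w • j) := by
  by_contra hcon
  push Not at hcon
  obtain ⟨f, hf0, hf⟩ := exists_nonneg_coeffs b hi
  apply hneg
  rw [RootPairing.Base.isPos_iff', height_smul_eq b b' w hf]
  exact Finset.sum_nonneg fun j hj => mul_nonneg (hf0 j) (le_of_lt ((b'.isPos_iff).1 (hcon j hj)))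

open Classical in
/-- The set of `b`-positive roots which `w` sends to `b'`-negative roots. -/
noncomputable def negSet (b b' : P.Base) (w : P.Aut) : Finset ι :=
  haveI := Fintype.ofFinite ι
  Finset.univ.filter (fun i => b.IsPos i ∧ ¬ b'.IsPos (w • i))

theorem mem_negSet (b b' : P.Base) (w : P.Aut) (i : ι) :
    i ∈ negSet b b' w ↔ b.IsPos i ∧ ¬ b'.IsPos (w • i) := by
  simp [negSet]

theorem negSet_card_lt (b b' : P.Base) (w : P.Aut) {j : ι} (hj : j ∈ b.support)
    (hwj : ¬ b'.IsPos (w • j)) :
    (negSet b b' (w * Equiv.reflection P j)).card < (negSet b b' w).card := by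
  classical
  have hjpos : b.IsPos j := RootPairing.Base.isPos_of_mem_support hj
  have hjmem : j ∈ negSet b b' w := (mem_negSet b b' w j).2 ⟨hjpos, hwj⟩
  refine lt_of_le_of_lt ?_ (Finset.card_erase_lt_of_mem hjmem)
  refine Finset.card_le_card_of_injOn (fun i => P.reflectionPerm j i) ?_ ?_
  · intro i hi
    obtain ⟨hipos, hineg⟩ := (mem_negSet b b' _ i).1 (Finset.mem_coe.1 hi)
    have hij : i ≠ j := by
      rintro rfl
      apply hineg
      rw [mul_smul, Groth.Agent.S2953.refl_smul, smul_neg_idx]
      exact (RootPairing.Base.IsPos.neg_iff_not b' (w • i)).2 hwj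
    apply Finset.mem_coe.2
    rw [Finset.mem_erase, mem_negSet]
    refine ⟨?_, hipos.reflectionPerm hj hij, ?_⟩
    · intro h
      have h2 : i = P.reflectionPerm j j := by
        have h3 := congrArg (P.reflectionPerm j) h
        rwa [P.reflectionPerm_self] at h3
      rw [h2] at hipos
      exact (RootPairing.Base.IsPos.neg_iff_not b j).1 hipos hjpos
    · rwa [mul_smul, Groth.Agent.S2953.refl_smul] at hineg
  · intro i _ i' _ h
    exact (P.reflectionPerm j).injective h

theorem exists_pos_preserving (b b' : P.Base) :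
    ∃ w : P.Aut, w ∈ P.weylGroup ∧ ∀ i, b.IsPos i → b'.IsPos (w • i) := by
  have key : ∀ n : ℕ, ∀ w : P.Aut, w ∈ P.weylGroup → (negSet b b' w).card ≤ n →
      ∃ w' : P.Aut, w' ∈ P.weylGroup ∧ ∀ i, b.IsPos i → b'.IsPos (w' • i) := by
    intro n
    induction n with
    | zero =>
      intro w hw hcard
      refine ⟨w, hw, fun i hi => ?_⟩
      by_contra hneg
      have h1 : i ∈ negSet b b' w := (mem_negSet b b' w i).2 ⟨hi, hneg⟩
      have h2 := Finset.card_pos.2 ⟨i, h1⟩
      omega
    | succ n ih =>
      intro w hw hcard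
      by_cases hall : ∀ i, b.IsPos i → b'.IsPos (w • i)
      · exact ⟨w, hw, hall⟩
      · push Not at hall
        obtain ⟨i, hi, hneg⟩ := hall
        obtain ⟨j, hj, hwj⟩ := exists_simple_neg b b' w hi hneg
        have hlt := negSet_card_lt b b' w hj hwj
        exact ih (w * Equiv.reflection P j) (mul_mem hw (P.reflection_mem_weylGroup j))
          (by omega)
  exact key _ 1 (one_mem _) le_rfl

theorem inv_smul_mem_support (b b' : P.Base) (u : P.Aut)
    (h1 : ∀ i, b.IsPos i → b'.IsPos (u • i)) (h2 : ∀ i, b'.IsPos i → b.IsPos (u⁻¹ • i))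
    {j' : ι} (hj' : j' ∈ b'.support) : u⁻¹ • j' ∈ b.support := by
  have hkpos : b.IsPos (u⁻¹ • j') := h2 j' (RootPairing.Base.isPos_of_mem_support hj')
  obtain ⟨f, hf0, hf⟩ := exists_nonneg_coeffs b hkpos
  have hsum := height_smul_eq b b' u hf
  rw [smul_inv_smul, RootPairing.Base.height_one_of_mem_support hj'] at hsum
  have hle : ∑ j ∈ b.support, f j ≤ ∑ j ∈ b.support, f j * b'.height (u • j) := by
    refine Finset.sum_le_sum fun j hj => ?_
    have h3 : 0 < b'.height (u • j) :=
      (b'.isPos_iff).1 (h1 j (RootPairing.Base.isPos_of_mem_support hj))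
    exact le_mul_of_one_le_right (hf0 j) h3
  have hheight : b.height (u⁻¹ • j') = ∑ j ∈ b.support, f j := RootPairing.Base.height_eq_sum hf
  have hkp : 0 < b.height (u⁻¹ • j') := hkpos
  apply mem_support_of_height_eq_one
  omega

theorem image_support_eq (b b' : P.Base) (w : P.Aut) (h : ∀ i, b.IsPos i → b'.IsPos (w • i)) :
    (fun i : ι => w • i) '' (b.support : Set ι) = (b'.support : Set ι) := by
  have hiff : ∀ i, b'.IsPos (w • i) → b.IsPos i := by
    intro i hi
    by_contra hneg
    have h1 : b.IsPos (P.reflectionPerm i i) := (RootPairing.Base.IsPos.neg_iff_not b i).2 hneg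
    have h2 := h _ h1
    rw [smul_neg_idx] at h2
    exact (RootPairing.Base.IsPos.neg_iff_not b' (w • i)).1 h2 hi
  have hinv : ∀ i, b'.IsPos i → b.IsPos (w⁻¹ • i) := by
    intro i hi
    apply hiff
    rwa [smul_inv_smul]
  apply Set.Subset.antisymm
  · rintro _ ⟨j, hj, rfl⟩
    have h3 := inv_smul_mem_support b' b w⁻¹ hinv (by simpa using h) hj
    simpa using h3
  · intro j' hj'
    exact ⟨w⁻¹ • j', inv_smul_mem_support b b' w h hinv hj', smul_inv_smul _ _⟩

end Lib


/-- For a finite crystallographic reduced root pairing (over a domain of characteristic zero), the Weyl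
group acts freely and transitively on bases: for two bases b, b' there is exactly one element of the
Weyl group carrying the set of simple roots of b onto that of b'. -/
theorem result {ι R M N : Type*} [CommRing R] [CharZero R] [IsDomain R] [AddCommGroup M] [Module R M]
    [AddCommGroup N] [Module R N] (P : RootPairing ι R M N) [Finite ι] [P.IsCrystallographic] [P.IsReduced]
    (b b' : P.Base) :
    ∃! g : P.weylGroup, (fun i : ι => (g : P.Aut) • i) '' (b.support : Set ι) = (b'.support : Set ι) := by
  obtain ⟨w, hw, hpos⟩ := exists_pos_preserving b b'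
  have himw := image_support_eq b b' w hpos
  refine ⟨⟨w, hw⟩, himw, ?_⟩
  rintro ⟨g, hg⟩ hgim
  apply Subtype.ext
  show g = w
  have hh : w⁻¹ * g = 1 := by
    apply Groth.Agent.S2953.result P b (w⁻¹ * g) (mul_mem (inv_mem hw) hg)
    have hsupp : ∀ j ∈ b.support, (w⁻¹ * g) • j ∈ b.support := by
      intro j hj
      have h1 : g • j ∈ (b'.support : Set ι) := by
        rw [← hgim]
        exact ⟨j, hj, rfl⟩
      rw [← himw] at h1
      obtain ⟨j2, hj2, hj2eq⟩ := h1
      have h2 : (w⁻¹ * g) • j = j2 := by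
        rw [mul_smul, ← hj2eq]
        exact inv_smul_smul w j2
      rw [h2]
      exact hj2
    intro i hi
    obtain ⟨f, -, -, hf⟩ := b.exists_root_eq_sum_int i
    have h1 := height_smul_eq b b (w⁻¹ * g) hf
    have h2 : b.height i = ∑ j ∈ b.support, f j := RootPairing.Base.height_eq_sum hf
    have h3 : ∑ j ∈ b.support, f j * b.height ((w⁻¹ * g) • j) = ∑ j ∈ b.support, f j := by
      refine Finset.sum_congr rfl fun j hj => ?_
      rw [RootPairing.Base.height_one_of_mem_support (hsupp j hj), mul_one]
    rw [RootPairing.Base.isPos_iff, h1, h3, ← h2]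
    exact hi
  calc g = w * (w⁻¹ * g) := by rw [mul_inv_cancel_left]
    _ = w := by rw [hh, mul_one]

end Groth.Agent.S2954
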