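import Groth.Statements.S2955

set_option autoImplicit false
open RootPairing
open scoped Pointwise Classical
universe u
open RootD

namespace Groth.Agent.S2955

/-- Let P be a finite crystallographic reduced root pairing over a domain of characteristic zero, with a
base b, and write 2ρ for the sum of the positive roots with respect to b. Then for every simple root
β (an index in the support of b) the reflection in β sends 2ρ to 2ρ − 2β (equivalently, the coroot
of β pairs to 1 with ρ; only the reflection identity is asserted). -/
theorem result {ι R M N : Type*} [CommRing R] [CharZero R] [IsDomain R] [AddCommGroup M] [Module R M]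
    [AddCommGroup N] [Module R N] (P : RootPairing ι R M N) [Finite ι] [P.IsCrystallographic] [P.IsReduced]
    [Fintype ι] (b : P.Base) (j : ι) (hj : j ∈ b.support) :
    P.reflection j (∑ i, if b.IsPos i then P.root i else 0) =
      (∑ i, if b.IsPos i then P.root i else 0) - (2 : R) • P.root j := by
  obtain ⟨σ, hσ⟩ : ∃ σ : ι ≃ ι, σ = P.reflectionPerm j := ⟨_, rfl⟩
  have hjpos : b.IsPos j := Base.isPos_of_mem_support hj
  have hσσ : ∀ i, σ (σ i) = i := fun i => by rw [hσ]; exact P.reflectionPerm_self j i
  have hσj : ¬ b.IsPos (σ j) := by
    have h0 : b.IsPos (P.reflectionPerm j j) ↔ ¬ b.IsPos j := Base.IsPos.neg_iff_not b j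
    rw [hσ]
    exact fun h => (h0.mp h) hjpos
  have hne : σ j ≠ j := fun h => hσj (by rw [h]; exact hjpos)
  have hroot : P.root (σ j) = - P.root j := by
    rw [hσ, root_reflectionPerm, reflection_apply_self]
  -- pointwise identity
  have hpt : ∀ i, (if b.IsPos (σ i) then P.root i else 0) =
      (if b.IsPos i then P.root i else 0) + (if i = σ j then P.root i else 0)
        - (if i = j then P.root i else 0) := by
    intro i
    by_cases h1 : i = j
    · subst h1
      simp [hσj, hjpos, hne.symm]
    · by_cases h2 : i = σ j
      · subst h2
        simp [hσσ, hjpos, hσj, hne]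
      · have hiff : b.IsPos (σ i) ↔ b.IsPos i := by
          constructor
          · intro h
            have h3 : σ i ≠ j := fun h4 => h2 (by rw [← h4, hσσ])
            have := Base.IsPos.reflectionPerm h hj h3
            rwa [← hσ, hσσ] at this
          · intro h
            rw [hσ]
            exact Base.IsPos.reflectionPerm h hj h1
        simp [hiff, h1, h2]
  rw [map_sum]
  have h5 : ∀ i, P.reflection j (if b.IsPos i then P.root i else 0) =
      (if b.IsPos i then P.root (σ i) else 0) := by
    intro i
    split_ifs
    · rw [hσ, root_reflectionPerm]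
    · simp
  simp_rw [h5]
  have h6 : ∑ i, (if b.IsPos i then P.root (σ i) else 0) =
      ∑ i, (if b.IsPos (σ i) then P.root i else 0) := by
    rw [← Equiv.sum_comp σ (fun i => if b.IsPos (σ i) then P.root i else 0)]
    simp_rw [hσσ]
  rw [h6]
  simp_rw [hpt]
  rw [Finset.sum_sub_distrib, Finset.sum_add_distrib, Finset.sum_ite_eq', Finset.sum_ite_eq']
  simp only [Finset.mem_univ, if_true]
  rw [hroot]
  module

end Groth.Agent.S2955
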