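import Groth.Statements.S2957
import Groth.Agent.S2954

set_option autoImplicit false
open RootPairing
open scoped Pointwise
universe u
open RootD

namespace Groth.Agent.S2957

section Lib

set_option linter.unusedSectionVars false

variable {ι R M N : Type*} [CommRing R] [CharZero R] [IsDomain R] [AddCommGroup M] [Module R M]
  [AddCommGroup N] [Module R N] {P : RootPairing ι R M N} [Finite ι] [P.IsCrystallographic]
  [P.IsReduced]

open Groth.Agent.S2954 (negSet mem_negSet negSet_card_lt exists_simple_neg height_of_sum)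

/-- Reduction of `w` modulo the rank-two parabolic subgroup generated by two simple reflections. -/
theorem coset_reduce (b : P.Base) {α γ : ι} (hα : α ∈ b.support) (hγ : γ ∈ b.support) :
    ∀ n : ℕ, ∀ w : P.Aut, (negSet b b w).card ≤ n →
      ∃ v ∈ Subgroup.closure ({Equiv.reflection P α, Equiv.reflection P γ} : Set P.Aut),
        b.IsPos ((w * v⁻¹) • α) ∧ b.IsPos ((w * v⁻¹) • γ) ∧
        (negSet b b (w * v⁻¹)).card ≤ (negSet b b w).card ∧
        ((¬ b.IsPos (w • α) ∨ ¬ b.IsPos (w • γ)) →
          (negSet b b (w * v⁻¹)).card < (negSet b b w).card) := by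
  have triv : ∀ w : P.Aut, b.IsPos (w • α) → b.IsPos (w • γ) →
      ∃ v ∈ Subgroup.closure ({Equiv.reflection P α, Equiv.reflection P γ} : Set P.Aut),
        b.IsPos ((w * v⁻¹) • α) ∧ b.IsPos ((w * v⁻¹) • γ) ∧
        (negSet b b (w * v⁻¹)).card ≤ (negSet b b w).card ∧
        ((¬ b.IsPos (w • α) ∨ ¬ b.IsPos (w • γ)) →
          (negSet b b (w * v⁻¹)).card < (negSet b b w).card) := by
    intro w h1 h2
    refine ⟨1, one_mem _, ?_, ?_, ?_, ?_⟩
    · rw [inv_one, mul_one]; exact h1
    · rw [inv_one, mul_one]; exact h2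
    · rw [inv_one, mul_one]
    · rintro (h | h)
      · exact absurd h1 h
      · exact absurd h2 h
  have hαH : Equiv.reflection P α ∈
      Subgroup.closure ({Equiv.reflection P α, Equiv.reflection P γ} : Set P.Aut) :=
    Subgroup.subset_closure (Set.mem_insert _ _)
  have hγH : Equiv.reflection P γ ∈
      Subgroup.closure ({Equiv.reflection P α, Equiv.reflection P γ} : Set P.Aut) :=
    Subgroup.subset_closure (Set.mem_insert_of_mem _ rfl)
  intro n
  induction n with
  | zero =>
    intro w hw
    have hpos : ∀ i, b.IsPos i → b.IsPos (w • i) := by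
      intro i hi
      by_contra hneg
      have h1 : i ∈ negSet b b w := (mem_negSet b b w i).2 ⟨hi, hneg⟩
      have h2 := Finset.card_pos.2 ⟨i, h1⟩
      omega
    exact triv w (hpos α (RootPairing.Base.isPos_of_mem_support hα))
      (hpos γ (RootPairing.Base.isPos_of_mem_support hγ))
  | succ n ih =>
    intro w hw
    have step : ∀ δ, δ ∈ b.support → Equiv.reflection P δ ∈
        Subgroup.closure ({Equiv.reflection P α, Equiv.reflection P γ} : Set P.Aut) →
        ¬ b.IsPos (w • δ) →
        ∃ v ∈ Subgroup.closure ({Equiv.reflection P α, Equiv.reflection P γ} : Set P.Aut),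
          b.IsPos ((w * v⁻¹) • α) ∧ b.IsPos ((w * v⁻¹) • γ) ∧
          (negSet b b (w * v⁻¹)).card ≤ (negSet b b w).card ∧
          ((¬ b.IsPos (w • α) ∨ ¬ b.IsPos (w • γ)) →
            (negSet b b (w * v⁻¹)).card < (negSet b b w).card) := by
      intro δ hδ hδH hneg
      have hlt := negSet_card_lt b b w hδ hneg
      obtain ⟨v₁, hv₁, h1, h2, h3, -⟩ := ih (w * Equiv.reflection P δ) (by omega)
      have hv : w * (v₁ * Equiv.reflection P δ)⁻¹ = w * Equiv.reflection P δ * v₁⁻¹ := by
        rw [mul_inv_rev, Equiv.reflection_inv, mul_assoc]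
      refine ⟨v₁ * Equiv.reflection P δ, mul_mem hv₁ hδH, ?_, ?_, ?_, ?_⟩
      · rw [hv]; exact h1
      · rw [hv]; exact h2
      · rw [hv]; omega
      · intro _; rw [hv]; omega
    by_cases h1 : b.IsPos (w • α)
    · by_cases h2 : b.IsPos (w • γ)
      · exact triv w h1 h2
      · exact step γ hγ hγH h2
    · exact step α hα hαH h1

/-- The root indexed by `k` is an integral combination of the roots `α` and `γ`. -/
def InSp (P : RootPairing ι R M N) (α γ k : ι) : Prop :=
  ∃ p q : ℤ, P.root k = p • P.root α + q • P.root γ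

theorem inSp_refl {α γ δ k : ι} (hδ : InSp P α γ δ) (hk : InSp P α γ k) :
    InSp P α γ (P.reflectionPerm δ k) := by
  obtain ⟨p, q, hk⟩ := hk
  obtain ⟨p', q', hδ⟩ := hδ
  refine ⟨p - P.pairingIn ℤ k δ * p', q - P.pairingIn ℤ k δ * q', ?_⟩
  rw [P.root_reflectionPerm, P.reflection_apply_root' ℤ, hk, hδ]
  simp only [sub_smul, mul_smul, smul_add]
  abel

theorem inSp_closure (α γ : ι) {v : P.Aut}
    (hv : v ∈ Subgroup.closure ({Equiv.reflection P α, Equiv.reflection P γ} : Set P.Aut)) :
    ∀ k, InSp P α γ k → InSp P α γ (v • k) ∧ InSp P α γ (v⁻¹ • k) := by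
  have hα : InSp P α γ α := ⟨1, 0, by simp⟩
  have hγ : InSp P α γ γ := ⟨0, 1, by simp⟩
  induction hv using Subgroup.closure_induction with
  | mem x hx =>
    rcases hx with rfl | rfl
    · intro k hk
      rw [Equiv.reflection_inv]
      exact ⟨inSp_refl hα hk, inSp_refl hα hk⟩
    · intro k hk
      rw [Equiv.reflection_inv]
      exact ⟨inSp_refl hγ hk, inSp_refl hγ hk⟩
  | one =>
    intro k hk
    rw [inv_one, one_smul]
    exact ⟨hk, hk⟩
  | mul x y _ _ hx hy =>
    intro k hk
    rw [mul_smul, mul_inv_rev, mul_smul]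
    exact ⟨(hx _ (hy k hk).1).1, (hy _ (hx k hk).2).2⟩
  | inv x _ hx =>
    intro k hk
    rw [inv_inv]
    exact ⟨(hx k hk).2, (hx k hk).1⟩

/-- The conclusion of the decomposition theorem. -/
def Tgt (P : RootPairing ι R M N) (b : P.Base) (α β : ι) (w : P.Aut) : Prop :=
  ∃ (m : ℕ) (a : Fin (m + 1) → ι) (ws : Fin m → P.Aut),
      (∀ i, a i ∈ b.support) ∧ a 0 = α ∧ a (Fin.last m) = β ∧
      (∀ i, ws i ∈ P.weylGroup) ∧
      w = (List.ofFn fun i : Fin m => ws (Fin.rev i)).prod ∧
      (∀ i : Fin m, ws i • a (Fin.castSucc i) = a (Fin.succ i)) ∧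
      ∀ i : Fin m, ∃ γ ∈ b.support,
        ws i ∈ Subgroup.closure {Equiv.reflection P (a (Fin.castSucc i)), Equiv.reflection P γ} ∧
        (a (Fin.castSucc i) ≠ a (Fin.succ i) → γ = a (Fin.succ i))

theorem tgt_nil (b : P.Base) {α : ι} (hα : α ∈ b.support) : Tgt P b α α 1 := by
  refine ⟨0, fun _ => α, fun i => i.elim0, fun _ => hα, rfl, rfl, fun i => i.elim0, ?_,
    fun i => i.elim0, fun i => i.elim0⟩
  simp

theorem tgt_cons (b : P.Base) {α α' β γ : ι} {v w' : P.Aut} (hα : α ∈ b.support)
    (hα' : α' ∈ b.support) (hγ : γ ∈ b.support) (hvW : v ∈ P.weylGroup) (hvα : v • α = α')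
    (hvH : v ∈ Subgroup.closure ({Equiv.reflection P α, Equiv.reflection P γ} : Set P.Aut))
    (hne : α ≠ α' → γ = α') (h : Tgt P b α' β w') : Tgt P b α β (w' * v) := by
  obtain ⟨m, a', ws', ha's, ha'0, ha'l, hws', hw', hstep', hγ'⟩ := h
  refine ⟨m + 1, Fin.cons α a', Fin.cons v ws', ?_, ?_, ?_, ?_, ?_, ?_, ?_⟩
  · intro i
    refine Fin.cases ?_ (fun j => ?_) i
    · rw [Fin.cons_zero]; exact hα
    · rw [Fin.cons_succ]; exact ha's j
  · rw [Fin.cons_zero]
  · rw [← Fin.succ_last, Fin.cons_succ]; exact ha'l
  · intro i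
    refine Fin.cases ?_ (fun j => ?_) i
    · rw [Fin.cons_zero]; exact hvW
    · rw [Fin.cons_succ]; exact hws' j
  · rw [List.ofFn_succ', List.concat_eq_append, List.prod_append, List.prod_singleton]
    simp only [Fin.rev_castSucc, Fin.cons_succ, Fin.rev_last, Fin.cons_zero]
    rw [← hw']
  · intro i
    refine Fin.cases ?_ (fun j => ?_) i
    · rw [Fin.cons_zero, Fin.castSucc_zero, Fin.cons_zero, Fin.cons_succ, ha'0]; exact hvα
    · rw [Fin.cons_succ, ← Fin.succ_castSucc, Fin.cons_succ, Fin.cons_succ]; exact hstep' j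
  · intro i
    refine Fin.cases ?_ (fun j => ?_) i
    · refine ⟨γ, hγ, ?_, ?_⟩
      · rw [Fin.cons_zero, Fin.castSucc_zero, Fin.cons_zero]; exact hvH
      · rw [Fin.castSucc_zero, Fin.cons_zero, Fin.cons_succ, ha'0]; exact hne
    · obtain ⟨γ', hγ's, h1, h2⟩ := hγ' j
      refine ⟨γ', hγ's, ?_, ?_⟩
      · rw [Fin.cons_succ, ← Fin.succ_castSucc, Fin.cons_succ]; exact h1
      · rw [← Fin.succ_castSucc, Fin.cons_succ, Fin.cons_succ]; exact h2

theorem main (b : P.Base) : ∀ n : ℕ, ∀ w : P.Aut, w ∈ P.weylGroup → (negSet b b w).card ≤ n →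
    ∀ α β : ι, α ∈ b.support → β ∈ b.support → w • α = β → Tgt P b α β w := by
  have base : ∀ w : P.Aut, w ∈ P.weylGroup → (∀ i, b.IsPos i → b.IsPos (w • i)) →
      ∀ α β : ι, α ∈ b.support → β ∈ b.support → w • α = β → Tgt P b α β w := by
    intro w hw hpos α β hα hβ hwα
    have h1 := Groth.Agent.S2953.result P b w hw hpos
    subst h1
    rw [one_smul] at hwα
    subst hwα
    exact tgt_nil b hα
  intro n
  induction n with
  | zero =>
    intro w hw hcard
    apply base w hw
    intro i hi
    by_contra hneg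
    have h1 : i ∈ negSet b b w := (mem_negSet b b w i).2 ⟨hi, hneg⟩
    have h2 := Finset.card_pos.2 ⟨i, h1⟩
    omega
  | succ n ih =>
    intro w hw hcard α β hα hβ hwα
    by_cases hpos : ∀ i, b.IsPos i → b.IsPos (w • i)
    · exact base w hw hpos α β hα hβ hwα
    · push Not at hpos
      obtain ⟨i, hi, hneg⟩ := hpos
      obtain ⟨γ, hγ, hwγ⟩ := exists_simple_neg b b w hi hneg
      obtain ⟨v, hvH, hw'α, hw'γ, hle, hlt⟩ := coset_reduce b hα hγ _ w le_rfl
      have hlt' := hlt (Or.inr hwγ)
      have hHW : Subgroup.closure ({Equiv.reflection P α, Equiv.reflection P γ} : Set P.Aut) ≤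
          P.weylGroup := by
        rw [Subgroup.closure_le]
        rintro x (rfl | rfl)
        · exact P.reflection_mem_weylGroup _
        · exact P.reflection_mem_weylGroup _
      have hvW : v ∈ P.weylGroup := hHW hvH
      have hw'W : w * v⁻¹ ∈ P.weylGroup := mul_mem hw (inv_mem hvW)
      obtain ⟨p, q, hk⟩ := (inSp_closure α γ hvH α ⟨1, 0, by simp⟩).1
      have hβpos : b.IsPos β := RootPairing.Base.isPos_of_mem_support hβ
      have hαγ : α ≠ γ := by
        rintro rfl
        rw [hwα] at hwγ
        exact hwγ hβpos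
      have hw'k : (w * v⁻¹) • (v • α) = β := by
        rw [← mul_smul, inv_mul_cancel_right, hwα]
      have hrootβ : P.root β = p • P.root ((w * v⁻¹) • α) + q • P.root ((w * v⁻¹) • γ) := by
        calc P.root β = P.root ((w * v⁻¹) • (v • α)) := by rw [hw'k]
          _ = (w * v⁻¹) • P.root (v • α) := Groth.Agent.S2954.root_smul _ _
          _ = (w * v⁻¹) • (p • P.root α + q • P.root γ) := by rw [hk]
          _ = p • ((w * v⁻¹) • P.root α) + q • ((w * v⁻¹) • P.root γ) := by
              rw [smul_add, smul_comm (w * v⁻¹) p, smul_comm (w * v⁻¹) q]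
          _ = p • P.root ((w * v⁻¹) • α) + q • P.root ((w * v⁻¹) • γ) := by
              rw [Groth.Agent.S2954.root_smul, Groth.Agent.S2954.root_smul]
      have hγα : γ ≠ α := hαγ.symm
      have hh : b.height β = p * b.height ((w * v⁻¹) • α) + q * b.height ((w * v⁻¹) • γ) := by
        classical
        have h0 := height_of_sum b ({α, γ} : Finset ι) (fun j => if j = α then p else q)
          (fun j => (w * v⁻¹) • j) β (by
            rw [Finset.sum_pair hαγ, if_pos rfl, if_neg hγα]
            exact hrootβ)
        rw [Finset.sum_pair hαγ, if_pos rfl, if_neg hγα] at h0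
        exact h0
      have hβ1 : b.height β = 1 := RootPairing.Base.height_one_of_mem_support hβ
      have h1 : 0 < b.height ((w * v⁻¹) • α) := hw'α
      have h2 : 0 < b.height ((w * v⁻¹) • γ) := hw'γ
      have hdich : (0 ≤ p ∧ 0 ≤ q) ∨ (p ≤ 0 ∧ q ≤ 0) := by
        classical
        have hsum : ∑ j ∈ b.support, (fun j => if j = α then p else if j = γ then q else 0) j •
            P.root j = p • P.root α + q • P.root γ := by
          rw [Finset.sum_eq_add_of_mem α γ hα hγ hαγ]
          · simp only [eq_self_iff_true, if_true, if_neg hγα]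
          · rintro c - ⟨hc1, hc2⟩
            simp only [if_neg hc1, if_neg hc2, zero_smul]
        have hsupp : Function.support (fun j => if j = α then p else if j = γ then q else 0) ⊆
            (b.support : Set ι) := by
          intro j hj
          rw [Function.mem_support] at hj
          by_cases hjα : j = α
          · rw [hjα]; exact hα
          · by_cases hjγ : j = γ
            · rw [hjγ]; exact hγ
            · exact absurd (by simp only [if_neg hjα, if_neg hjγ]) hj
        rcases b.pos_or_neg_of_sum_smul_root_mem _ (by rw [hsum, ← hk]; exact ⟨_, rfl⟩) hsupp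
          with hpos | hneg'
        · left
          have h3 := (le_of_lt hpos) α
          have h4 := (le_of_lt hpos) γ
          simp only [Pi.zero_apply, if_pos rfl, if_neg hγα] at h3 h4
          exact ⟨h3, h4⟩
        · right
          have h3 := (le_of_lt hneg') α
          have h4 := (le_of_lt hneg') γ
          simp only [Pi.zero_apply, if_pos rfl, if_neg hγα] at h3 h4
          exact ⟨h3, h4⟩
      rw [hβ1] at hh
      have hpq : (p = 1 ∧ q = 0) ∨ (p = 0 ∧ q = 1) := by
        rcases hdich with ⟨hp, hq⟩ | ⟨hp, hq⟩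
        · by_cases hp0 : p = 0
          · right
            refine ⟨hp0, ?_⟩
            rw [hp0, zero_mul, zero_add] at hh
            have hq1 : 1 ≤ q := by
              by_contra hcon
              have : q = 0 := by omega
              rw [this, zero_mul] at hh
              exact one_ne_zero hh
            nlinarith
          · left
            have hp1 : 1 ≤ p := by omega
            by_cases hq0 : q = 0
            · refine ⟨?_, hq0⟩
              rw [hq0, zero_mul, add_zero] at hh
              nlinarith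
            · exfalso
              have hq1 : 1 ≤ q := by omega
              nlinarith
        · exfalso
          nlinarith
      have hα' : v • α ∈ b.support ∧ (α ≠ v • α → γ = v • α) := by
        rcases hpq with ⟨hp, hq⟩ | ⟨hp, hq⟩
        · have : v • α = α := by
            apply P.root.injective
            rw [hk, hp, hq, one_smul, zero_smul, add_zero]
          rw [this]
          exact ⟨hα, fun h => absurd rfl h⟩
        · have : v • α = γ := by
            apply P.root.injective
            rw [hk, hp, hq, one_smul, zero_smul, zero_add]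
          rw [this]
          exact ⟨hγ, fun _ => rfl⟩
      have hrec := ih (w * v⁻¹) hw'W (by omega) (v • α) β hα'.1 hβ hw'k
      have hfin := tgt_cons b hα hα'.1 hγ hvW rfl hvH hα'.2 hrec
      rwa [inv_mul_cancel_right] at hfin

end Lib


/-- For a finite crystallographic reduced root pairing with a base b: let α, β be simple roots and w an
element of the Weyl group with w(α) = β. Then there are simple roots α = α_0, ..., α_m = β and Weyl
group elements w_0, ..., w_{m-1} with w = w_{m-1} ... w_0, w_i(α_i) = α_{i+1}, and each w_i lying in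
the subgroup generated by the reflections in α_i and in a simple root γ_i, where γ_i = α_{i+1}
whenever α_i ≠ α_{i+1}. -/
theorem result {ι R M N : Type*} [CommRing R] [CharZero R] [IsDomain R] [AddCommGroup M] [Module R M]
    [AddCommGroup N] [Module R N] (P : RootPairing ι R M N) [Finite ι] [P.IsCrystallographic] [P.IsReduced]
    (b : P.Base) (α β : ι) (hα : α ∈ b.support) (hβ : β ∈ b.support) (w : P.Aut) (hw : w ∈ P.weylGroup)
    (hwα : w • α = β) :
    ∃ (m : ℕ) (a : Fin (m + 1) → ι) (ws : Fin m → P.Aut),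
      (∀ i, a i ∈ b.support) ∧ a 0 = α ∧ a (Fin.last m) = β ∧
      (∀ i, ws i ∈ P.weylGroup) ∧
      w = (List.ofFn fun i : Fin m => ws (Fin.rev i)).prod ∧
      (∀ i : Fin m, ws i • a (Fin.castSucc i) = a (Fin.succ i)) ∧
      ∀ i : Fin m, ∃ γ ∈ b.support,
        ws i ∈ Subgroup.closure {Equiv.reflection P (a (Fin.castSucc i)), Equiv.reflection P γ} ∧
        (a (Fin.castSucc i) ≠ a (Fin.succ i) → γ = a (Fin.succ i)) := by
  exact main b _ w hw le_rfl α β hα hβ hwα

end Groth.Agent.S2957
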