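import Groth.Statements.S2965
import Mathlib.LinearAlgebra.Charpoly.Basic
import Mathlib.RingTheory.Polynomial.Basic

set_option autoImplicit false
universe u
open SGA3t2b

namespace Groth.Agent.S2965

open Polynomial in
/-- Implication (iv) ⇒ (i) (global form, finite free module): let u be an endomorphism of a finite free
module M over a commutative ring A whose characteristic polynomial is X^r · Q with Q(0) invertible.
Then M is the direct sum of two u-stable submodules M', M'' such that u is nilpotent on M' and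
bijective on M''. -/
theorem result {A : Type u} [CommRing A] {M : Type u} [AddCommGroup M] [Module A M]
    [Module.Free A M] [Module.Finite A M] (u : M →ₗ[A] M) (r : ℕ) (Q : A[X]) (hQ : IsUnit (Q.coeff 0))
    (h : u.charpoly = X ^ r * Q) :
    ∃ M' M'' : Submodule A M, IsCompl M' M'' ∧ (∀ x ∈ M', u x ∈ M') ∧ (∀ x ∈ M'', u x ∈ M'') ∧
      (∃ n : ℕ, ∀ x ∈ M', (u ^ n) x = 0) ∧ Set.BijOn u M'' M'' := by
  obtain ⟨c, hc⟩ := hQ
  obtain ⟨D, c0, c', hQdecomp, hc1⟩ : ∃ (D : A[X]) (c0 c' : A), Q = D * X + C c0 ∧ c0 * c' = 1 :=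
    ⟨divX Q, Q.coeff 0, ((c⁻¹ : Aˣ) : A), (divX_mul_X_add Q).symm, by rw [← hc]; simp⟩
  -- coprimality
  have hcopX : IsCoprime (X : A[X]) Q := by
    refine ⟨- C c' * D, C c', ?_⟩
    rw [hQdecomp]
    have : C c0 * C c' = (1 : A[X]) := by rw [← C_mul, hc1, C_1]
    linear_combination this
  have hcop : IsCoprime (X ^ r : A[X]) Q := hcopX.pow_left
  have hcomm : ∀ (p : A[X]) (x : M), aeval u p (u x) = u (aeval u p x) := by
    intro p x
    have h1 : aeval u (p * X) = aeval u (X * p) := by rw [mul_comm]
    rw [map_mul, map_mul, aeval_X] at h1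
    exact congr($h1 x)
  have hcomm2 : ∀ (p q : A[X]) (x : M), aeval u p (aeval u q x) = aeval u q (aeval u p x) := by
    intro p q x
    have h1 : aeval u (p * q) = aeval u (q * p) := by rw [mul_comm]
    rw [map_mul, map_mul] at h1
    exact congr($h1 x)
  have htop : LinearMap.ker (aeval u (X ^ r * Q)) = ⊤ := by
    rw [← h, LinearMap.aeval_self_charpoly]
    exact LinearMap.ker_zero
  refine ⟨LinearMap.ker (aeval u (X ^ r : A[X])), LinearMap.ker (aeval u Q), ⟨?_, ?_⟩, ?_, ?_, ?_, ?_⟩
  · exact disjoint_ker_aeval_of_isCoprime u hcop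
  · rw [codisjoint_iff, sup_ker_aeval_eq_ker_aeval_mul_of_coprime u hcop, htop]
  · intro x hx
    rw [LinearMap.mem_ker] at hx ⊢
    rw [hcomm, hx, map_zero]
  · intro x hx
    rw [LinearMap.mem_ker] at hx ⊢
    rw [hcomm, hx, map_zero]
  · refine ⟨r, fun x hx => ?_⟩
    rw [LinearMap.mem_ker] at hx
    simpa using hx
  · -- bijectivity on ker Q(u)
    have hkey : ∀ y ∈ LinearMap.ker (aeval u Q),
        y = - c' • aeval u D (u y) := by
      intro y hy
      rw [LinearMap.mem_ker] at hy
      have h2 : aeval u Q y = aeval u D (u y) + c0 • y := by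
        rw [hQdecomp]
        simp [map_add, map_mul, aeval_X, aeval_C, Module.End.mul_apply]
      rw [hy] at h2
      have h3 : c0 • y = - aeval u D (u y) := by
        rw [eq_neg_iff_add_eq_zero, add_comm]; exact h2.symm
      calc y = c' • (c0 • y) := by
            rw [smul_smul, mul_comm, hc1, one_smul]
        _ = _ := by rw [h3, smul_neg, neg_smul]
    refine ⟨?_, ?_, ?_⟩
    · intro x hx
      simp only [SetLike.mem_coe, LinearMap.mem_ker] at hx ⊢
      rw [hcomm, hx, map_zero]
    · intro x hx y hy hxy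
      simp only [SetLike.mem_coe] at hx hy
      rw [hkey x hx, hkey y hy, hxy]
    · intro y hy
      simp only [SetLike.mem_coe] at hy
      refine ⟨- c' • aeval u D y, ?_, ?_⟩
      · simp only [SetLike.mem_coe, LinearMap.mem_ker] at hy ⊢
        rw [map_smul, hcomm2, hy, map_zero, smul_zero]
      · rw [map_smul, ← hcomm]
        exact (hkey y hy).symm

end Groth.Agent.S2965
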