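import Groth.Statements.S2966
import Groth.Agent.H62.MultUnip

set_option autoImplicit false
universe u
open scoped TensorProduct
open SGA3t2b

namespace Groth.Agent.S2966

/-- In Hopf-algebra form (with unipotent taken in the representation-theoretic sense: affine and every
non-zero finite-dimensional representation has a non-zero fixed vector): let k be a field, A_M the
coordinate Hopf algebra of an affine k-group M of finite type which is of multiplicative type in the
sense that it becomes diagonalisable over an algebraic closure of k, and A_U that of a unipotent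
affine k-group U of finite type. Then (i) every homomorphism M -> U and (ii) every homomorphism U ->
M is trivial: every bialgebra map A_U -> A_M, resp. A_M -> A_U, factors through the counit. -/
theorem result {k : Type u} [Field k] {AM AU : Type u} [CommRing AM] [CommRing AU]
    [HopfAlgebra k AM] [HopfAlgebra k AU] [Algebra.FiniteType k AM] [Algebra.FiniteType k AU]
    (hM : HopfRep.IsDiagonalizable (AlgebraicClosure k) (AlgebraicClosure k ⊗[k] AM)) (hU : HopfRep.IsUnipotent k AU) :
    (∀ φ : AU →ₐc[k] AM, SGA3t2b.IsTrivialBialgHom φ) ∧ (∀ ψ : AM →ₐc[k] AU, SGA3t2b.IsTrivialBialgHom ψ) := by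
  obtain ⟨C, hC⟩ := Groth.Agent.H62.Coconn.exists_isCoconn_of_isUnipotent k AU hU
  have hT := Groth.Agent.H62.MultUnip.T_injective_of_isDiagonalizable k AM (AlgebraicClosure k) hM
  constructor
  · intro φ
    let e1 := Bialgebra.TensorProduct.lid k AU
    let e2 := Bialgebra.TensorProduct.lid k AM
    let φ' : k ⊗[k] AU →ₐc[k] k ⊗[k] AM :=
      (e2.symm : AM →ₐc[k] k ⊗[k] AM).comp (φ.comp (e1 : k ⊗[k] AU →ₐc[k] AU))
    have h := Groth.Agent.H62.MultUnip.isTrivial_of_isCoconn hC
      (fun z hz => Groth.Agent.H62.MultUnip.eq_zero_of_primitive_baseChange k k AM hT hz) φ'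
    intro a
    have h1 := h ((1 : k) ⊗ₜ[k] a)
    have h2 : φ' ((1 : k) ⊗ₜ[k] a) = (1 : k) ⊗ₜ[k] φ a := by
      change e2.symm (φ (e1 ((1 : k) ⊗ₜ[k] a))) = _
      rw [Bialgebra.TensorProduct.lid_tmul, one_smul, Bialgebra.TensorProduct.lid_symm_apply]
    rw [h2, TensorProduct.counit_tmul, CommSemiring.counit_apply] at h1
    have h3 := congrArg e2 h1
    rw [Bialgebra.TensorProduct.lid_tmul, one_smul] at h3
    rw [h3, Algebra.algebraMap_eq_smul_one, Algebra.algebraMap_eq_smul_one, smul_eq_mul, mul_one,
      map_smul, map_one]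
  · intro ψ
    exact Groth.Agent.H62.MultUnip.isTrivial_to_coconn (AlgebraicClosure k) hM hC ψ

end Groth.Agent.S2966
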