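import Groth.Statements.S2967

set_option autoImplicit false
universe u
open SGA3t2b

namespace Groth.Agent.S2967

/-- A commutative p-Lie algebra over a field k of characteristic p is recorded as a k-vector space g
together with its p-th power map φ, which is additive and Frobenius-semilinear. Let g be
finite-dimensional and non-zero, and assume every element of g is killed by some iterate of φ (g is
unipotent). Then the k-subspace of g spanned by the image φ(g) is a proper subspace. -/
theorem result {k : Type u} [Field k] (p : ℕ) [Fact p.Prime] [CharP k p]
    {V : Type u} [AddCommGroup V] [Module k V] [FiniteDimensional k V] [Nontrivial V]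
    (φ : V →ₛₗ[frobenius k p] V) (hφ : ∀ x : V, ∃ n : ℕ, φ^[n] x = 0) :
    Submodule.span k (Set.range φ) ≠ ⊤ := by
  intro htop
  -- iterates are additive and preserve zero
  have hzero : ∀ n : ℕ, φ^[n] 0 = 0 := by
    intro n
    induction n with
    | zero => rfl
    | succ n ih => rw [Function.iterate_succ_apply, map_zero, ih]
  have hadd : ∀ (n : ℕ) (x y : V), φ^[n] (x + y) = φ^[n] x + φ^[n] y := by
    intro n
    induction n with
    | zero => intro x y; rfl
    | succ n ih =>
      intro x y
      rw [Function.iterate_succ_apply, Function.iterate_succ_apply, Function.iterate_succ_apply,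
        map_add, ih]
  have hsmul : ∀ (n : ℕ) (c : k) (x : V), φ^[n] x = 0 → φ^[n] (c • x) = 0 := by
    intro n
    induction n with
    | zero => intro c x hx; simp only [Function.iterate_zero, id_eq] at hx ⊢; rw [hx, smul_zero]
    | succ n ih =>
      intro c x hx
      rw [Function.iterate_succ_apply] at hx ⊢
      rw [map_smulₛₗ]
      exact ih _ _ hx
  have hmono : ∀ (m n : ℕ) (x : V), m ≤ n → φ^[m] x = 0 → φ^[n] x = 0 := by
    intro m n x hmn hx
    obtain ⟨d, rfl⟩ := Nat.exists_eq_add_of_le hmn
    rw [add_comm, Function.iterate_add_apply, hx, hzero]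
  -- a uniform exponent
  obtain ⟨S, hS⟩ := (Module.Finite.fg_top : (⊤ : Submodule k V).FG)
  choose nf hnf using hφ
  have hN : ∀ x : V, φ^[S.sup nf] x = 0 := by
    intro x
    have hx : x ∈ Submodule.span k (S : Set V) := by rw [hS]; trivial
    induction hx using Submodule.span_induction with
    | mem y hy => exact hmono _ _ _ (Finset.le_sup hy) (hnf y)
    | zero => exact hzero _
    | add y z _ _ hy hz => rw [hadd, hy, hz, add_zero]
    | smul c y _ hy => exact hsmul _ _ _ hy
  -- spans of ranges of iterates are everything
  have hspan : ∀ n : ℕ, Submodule.span k (Set.range (φ^[n])) = ⊤ := by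
    intro n
    induction n with
    | zero => simp
    | succ n ih =>
      rw [eq_top_iff, ← htop, Submodule.span_le]
      rintro _ ⟨x, rfl⟩
      have hx : x ∈ Submodule.span k (Set.range (φ^[n])) := by rw [ih]; trivial
      induction hx using Submodule.span_induction with
      | mem y hy =>
        obtain ⟨z, rfl⟩ := hy
        apply Submodule.subset_span
        exact ⟨z, by rw [Function.iterate_succ_apply']⟩
      | zero => rw [map_zero]; exact Submodule.zero_mem _
      | add y z _ _ hy hz => rw [map_add]; exact Submodule.add_mem _ hy hz
      | smul c y _ hy => rw [map_smulₛₗ]; exact Submodule.smul_mem _ _ hy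
  have h0 : Set.range (φ^[S.sup nf]) = {0} := by
    ext y
    constructor
    · rintro ⟨x, rfl⟩; exact hN x
    · rintro rfl; exact ⟨0, hzero _⟩
  have := hspan (S.sup nf)
  rw [h0, Submodule.span_singleton_eq_bot.mpr rfl] at this
  exact bot_ne_top this

end Groth.Agent.S2967
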