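import Groth.Statements.S2968
import Groth.Agent.H84.UE3

set_option autoImplicit false
universe u
open SGA3t2b

namespace Groth.Agent.S2968

open scoped TensorProduct
open WithConv

section Conv
variable {k : Type u} [Field k] {A : Type u} [CommRing A] [Bialgebra k A]

/-- pull back a functional along multiplication -/
noncomputable def Th (f : WithConv (A →ₗ[k] k)) : WithConv (A ⊗[k] A →ₗ[k] k) :=
  toConv (f.ofConv ∘ₗ LinearMap.mul' k A)

theorem Th_apply (f : WithConv (A →ₗ[k] k)) (a b : A) :
    (Th f).ofConv (a ⊗ₜ[k] b) = f.ofConv (a * b) := rfl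

theorem Th_mul (f g : WithConv (A →ₗ[k] k)) : Th (f * g) = Th f * Th g := by
  apply WithConv.ofConv_injective
  exact LinearMap.convMul_comp_coalgHom_distrib f g (Bialgebra.mulCoalgHom k A)

theorem Th_one : Th (1 : WithConv (A →ₗ[k] k)) = 1 := by
  apply WithConv.ofConv_injective
  apply TensorProduct.ext'
  intro a b
  rw [Th_apply]
  simp [LinearMap.convOne_apply, TensorProduct.counit_tmul, mul_comm]

theorem Th_pow (f : WithConv (A →ₗ[k] k)) (n : ℕ) : Th (f ^ n) = Th f ^ n := by
  induction n with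
  | zero => rw [pow_zero, pow_zero, Th_one]
  | succ n ih => rw [pow_succ, pow_succ, Th_mul, ih]

/-- `f ⊗ g` as a functional on `A ⊗ A` -/
noncomputable def Ps (f g : WithConv (A →ₗ[k] k)) : WithConv (A ⊗[k] A →ₗ[k] k) :=
  toConv ((Algebra.TensorProduct.lmul' k (S := k)).toLinearMap ∘ₗ
    TensorProduct.map f.ofConv g.ofConv)

theorem Ps_apply (f g : WithConv (A →ₗ[k] k)) (a b : A) :
    (Ps f g).ofConv (a ⊗ₜ[k] b) = f.ofConv a * g.ofConv b := by
  simp [Ps]

theorem Ps_mul (f g f' g' : WithConv (A →ₗ[k] k)) : Ps f g * Ps f' g' = Ps (f * f') (g * g') := by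
  have h1 := LinearMap.algHom_comp_convMul_distrib (R := k) (C := A ⊗[k] A)
    (Algebra.TensorProduct.lmul' k (S := k))
    (toConv (TensorProduct.map f.ofConv g.ofConv)) (toConv (TensorProduct.map f'.ofConv g'.ofConv))
  rw [TensorProduct.map_convMul_map] at h1
  apply WithConv.ofConv_injective
  exact h1.symm

theorem Ps_one_one : Ps (1 : WithConv (A →ₗ[k] k)) 1 = 1 := by
  apply WithConv.ofConv_injective
  apply TensorProduct.ext'
  intro a b
  rw [Ps_apply]
  simp [LinearMap.convOne_apply, TensorProduct.counit_tmul, mul_comm]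

theorem Ps_pow_left (f : WithConv (A →ₗ[k] k)) (n : ℕ) : Ps f 1 ^ n = Ps (f ^ n) 1 := by
  induction n with
  | zero => rw [pow_zero, pow_zero, Ps_one_one]
  | succ n ih => rw [pow_succ, pow_succ, ih, Ps_mul, mul_one]

theorem Ps_pow_right (f : WithConv (A →ₗ[k] k)) (n : ℕ) : Ps 1 f ^ n = Ps 1 (f ^ n) := by
  induction n with
  | zero => rw [pow_zero, pow_zero, Ps_one_one]
  | succ n ih => rw [pow_succ, pow_succ, ih, Ps_mul, mul_one]

theorem charP_conv (p : ℕ) [CharP k p] : CharP (WithConv (A ⊗[k] A →ₗ[k] k)) p := by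
  haveI : Nontrivial (WithConv (A ⊗[k] A →ₗ[k] k)) := by
    refine ⟨⟨1, 0, fun h => ?_⟩⟩
    have h2 := congrArg (fun f : WithConv (A ⊗[k] A →ₗ[k] k) => f.ofConv ((1 : A) ⊗ₜ[k] (1 : A))) h
    simp [LinearMap.convOne_apply, TensorProduct.counit_tmul] at h2
  exact charP_of_injective_algebraMap (algebraMap k (WithConv (A ⊗[k] A →ₗ[k] k))).injective p

/-- Leibniz rule for `p^m`-th convolution powers of an `ε`-derivation. -/
theorem leibniz_pow (p : ℕ) [Fact p.Prime] [CharP k p] (d : A →ₗ[k] k)
    (hd : ∀ a b : A, d (a * b) = Coalgebra.counit (R := k) a * d b + Coalgebra.counit (R := k) b * d a)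
    (m : ℕ) (a b : A) :
    ((toConv d) ^ (p ^ m)).ofConv (a * b) =
      ((toConv d) ^ (p ^ m)).ofConv a * Coalgebra.counit (R := k) b +
        Coalgebra.counit (R := k) a * ((toConv d) ^ (p ^ m)).ofConv b := by
  haveI := charP_conv (k := k) (A := A) p
  have h1 : Th (toConv d) = Ps (toConv d) 1 + Ps 1 (toConv d) := by
    apply WithConv.ofConv_injective
    apply TensorProduct.ext'
    intro x y
    rw [Th_apply]
    change d (x * y) = (Ps (toConv d) 1).ofConv (x ⊗ₜ[k] y) + (Ps 1 (toConv d)).ofConv (x ⊗ₜ[k] y)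
    rw [Ps_apply, Ps_apply, hd]
    simp [LinearMap.convOne_apply]
    ring
  have hcomm : Commute (Ps (toConv d) 1) (Ps 1 (toConv d)) := by
    unfold Commute SemiconjBy
    rw [Ps_mul, Ps_mul, mul_one, one_mul]
  have h2 : Th ((toConv d) ^ (p ^ m)) =
      Ps ((toConv d) ^ (p ^ m)) 1 + Ps 1 ((toConv d) ^ (p ^ m)) := by
    rw [Th_pow, h1, add_pow_char_pow_of_commute _ _ hcomm, Ps_pow_left, Ps_pow_right]
  have h3 := congrArg (fun f : WithConv (A ⊗[k] A →ₗ[k] k) => f.ofConv (a ⊗ₜ[k] b)) h2
  simp only [Th_apply] at h3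
  rw [h3]
  change (Ps ((toConv d) ^ (p ^ m)) 1).ofConv (a ⊗ₜ[k] b) +
    (Ps 1 ((toConv d) ^ (p ^ m))).ofConv (a ⊗ₜ[k] b) = _
  rw [Ps_apply, Ps_apply]
  simp [LinearMap.convOne_apply]

end Conv

section Hopf
variable {k : Type u} [Field k] {A : Type u} [CommRing A] [HopfAlgebra k A]

theorem convPow_eq (d : A →ₗ[k] k) (n : ℕ) :
    LieHopf.convPow d n = ((toConv d) ^ n).ofConv := by
  induction n with
  | zero =>
    rw [pow_zero]
    apply LinearMap.ext
    intro a
    simp [LieHopf.convPow, LinearMap.convOne_apply]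
  | succ n ih =>
    rw [pow_succ]
    show LieHopf.conv (LieHopf.convPow d n) d = _
    rw [ih]
    rfl

open Groth.Agent.H62 in
theorem convPow_vanish (d : A →ₗ[k] k) (hd1 : d 1 = 0) :
    ∀ (n : ℕ) (a : A), a ∈ UniFil.F k A n → LieHopf.convPow d n a = 0 := by
  intro n
  induction n with
  | zero =>
    intro a ha
    rw [UniFil.F_zero, Submodule.mem_bot] at ha
    rw [ha, map_zero]
  | succ n ih =>
    intro a ha
    obtain ⟨t, ht⟩ := UniFil.mem_F_succ.1 ha
    have h1 : CoalgebraStruct.comul (R := k) a =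
        (UniFil.F k A n).subtype.rTensor A t + a ⊗ₜ[k] (1 : A) := by
      rw [ht]; abel
    have h2 : ∀ t : ↥(UniFil.F k A n) ⊗[k] A, TensorProduct.map (LieHopf.convPow d n) d
        ((UniFil.F k A n).subtype.rTensor A t) = 0 := by
      intro t
      induction t using TensorProduct.induction_on with
      | zero => simp
      | tmul x y =>
        rw [LinearMap.rTensor_tmul, TensorProduct.map_tmul, Submodule.subtype_apply, ih x.1 x.2,
          TensorProduct.zero_tmul]
      | add x y hx hy => rw [map_add, map_add, hx, hy, add_zero]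
    show (LinearMap.mul' k k) (TensorProduct.map (LieHopf.convPow d n) d
      (CoalgebraStruct.comul (R := k) a)) = 0
    rw [h1, map_add, h2, zero_add, TensorProduct.map_tmul, hd1, TensorProduct.tmul_zero, map_zero]

end Hopf

/-- In characteristic p, in Hopf-algebra form (with unipotent in the representation-theoretic sense
`HopfRep.IsUnipotent`): let k be a field of characteristic p > 0 and A a finite-type commutative
Hopf algebra over k (the coordinate Hopf algebra of an affine algebraic k-group) which is unipotent.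
Then the Lie algebra of the group is a unipotent p-Lie algebra: for every ε-derivation D : A -> k
there is n > 0 such that the iterated p-operation of D, computed here as the p^n-fold convolution
power of D (this is how the p-operation is rendered in this statement; its axioms are not proved
here), vanishes. -/
theorem result {k : Type u} [Field k] (p : ℕ) [Fact p.Prime] [CharP k p] {A : Type u} [CommRing A]
    [HopfAlgebra k A] [Algebra.FiniteType k A] (hU : HopfRep.IsUnipotent k A) (D : LieHopf.Lie k A) :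
    ∃ n : ℕ, 0 < n ∧ LieHopf.convPow (D.toLinearMap.restrictScalars k ∘ₗ LinearMap.id) (p ^ n) = 0 := by
  classical
  set d : A →ₗ[k] k := D.toLinearMap.restrictScalars k ∘ₗ LinearMap.id with hd
  have hd1 : d 1 = 0 := D.map_one_eq_zero
  have hdl : ∀ a b : A, d (a * b) =
      Coalgebra.counit (R := k) a * d b + Coalgebra.counit (R := k) b * d a := by
    intro a b
    exact D.leibniz a b
  obtain ⟨S, hS⟩ := (inferInstance : Algebra.FiniteType k A).out
  have hex : ∀ a : A, ∃ n, a ∈ Groth.Agent.H62.UniFil.F k A n :=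
    Groth.Agent.H84.UE.forall_mem_F_of_isUnipotent hU
  choose nn hnn using hex
  let N := S.sup nn
  have hp1 : 1 < p := (Fact.out : p.Prime).one_lt
  have hNq : N ≤ p ^ (N + 1) := by
    have := Nat.lt_pow_self hp1 (n := N + 1)
    omega
  have h1q : 1 ≤ p ^ (N + 1) := Nat.one_le_pow _ _ (by omega)
  refine ⟨N + 1, Nat.succ_pos N, ?_⟩
  have hvan : ∀ a ∈ Groth.Agent.H62.UniFil.F k A (p ^ (N + 1)),
      LieHopf.convPow d (p ^ (N + 1)) a = 0 := convPow_vanish d hd1 _
  apply LinearMap.ext
  intro a
  have ha : a ∈ Algebra.adjoin k (↑S : Set A) := by rw [hS]; exact Algebra.mem_top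
  rw [LinearMap.zero_apply]
  induction ha using Algebra.adjoin_induction with
  | mem x hx =>
    apply hvan
    have h1 : nn x ≤ N := Finset.le_sup (f := nn) hx
    exact Groth.Agent.H62.UniFil.F_mono k A (h1.trans hNq) (hnn x)
  | algebraMap r =>
    rw [Algebra.algebraMap_eq_smul_one, map_smul]
    rw [hvan 1 (Groth.Agent.H62.UniFil.F_mono k A h1q (Groth.Agent.H62.UniFil.one_mem_F k A)),
      smul_zero]
  | add x y _ _ hx hy => rw [map_add, hx, hy, add_zero]
  | mul x y _ _ hx hy =>
    rw [convPow_eq] at hx hy ⊢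
    rw [leibniz_pow p d hdl, hx, hy, zero_mul, mul_zero, add_zero]

end Groth.Agent.S2968
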