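import Groth.Statements.S2971
import Groth.Agent.H96.IsoNil

set_option autoImplicit false
set_option linter.style.haveILetI false
universe u
open TensorProduct SGA3b
open SGA3b

namespace Groth.Agent.S2971

/-- Let R be a ring, I an ideal consisting of nilpotent elements and H = Spec A an R-group of
multiplicative type. If the base change of H to R/I is isotrivial (resp. quasi-isotrivial), so is H.
(Affine group schemes over an affine base are taken in Hopf-algebra form; base change is the tensor
product.) -/
theorem result (R : Type u) [CommRing R] (A : Type u) [CommRing A] [HopfAlgebra R A] (I : Ideal R) (hI : ∀ x ∈ I, IsNilpotent x) (h : IsMultType R A) :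
    (IsIsotrivial (R ⧸ I) ((R ⧸ I) ⊗[R] A) → IsIsotrivial R A) ∧
    (IsQuasiIsotrivial (R ⧸ I) ((R ⧸ I) ⊗[R] A) → IsQuasiIsotrivial R A) := by
  constructor
  · -- isotrivial part
    rintro ⟨R₀', _, _, het, hfin, hff, hd⟩
    haveI := het
    haveI := hfin
    haveI := hff
    obtain ⟨R', _, _, het', hfin', hff', ρ, hρ⟩ :=
      Groth.Agent.H96.IsoNil.exists_finite_etale_lift I hI R₀'
    letI : Algebra R R₀' := Algebra.compHom R₀' (algebraMap R (R ⧸ I))
    haveI : IsScalarTower R (R ⧸ I) R₀' := IsScalarTower.of_algebraMap_eq (fun _ => rfl)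
    have hd' : IsDiag R₀' (R₀' ⊗[R] A) := Groth.Agent.H96.IsoTriv.isDiag_cancel R (R ⧸ I) R₀' A hd
    have hnil : ∀ x ∈ I.map (algebraMap R R'), IsNilpotent x :=
      Groth.Agent.H83.NilLift.isNilpotent_of_mem_map hI
    exact ⟨R', inferInstance, inferInstance, het', hfin', hff',
      Groth.Agent.H96.IsoNil.isDiag_of_nil_lift h R' (I.map (algebraMap R R')) hnil R₀' ρ
        (fun r => hρ r) hd'⟩
  · -- quasi-isotrivial part
    rintro ⟨s₀, hs₀, hc₀⟩
    refine ⟨{f | Ideal.Quotient.mk I f ∈ s₀}, ?_, ?_⟩
    · have himg : Ideal.Quotient.mk I '' {f | Ideal.Quotient.mk I f ∈ s₀} = s₀ := by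
        ext y
        constructor
        · rintro ⟨f, hf, rfl⟩
          exact hf
        · intro hy
          obtain ⟨f, rfl⟩ := Ideal.Quotient.mk_surjective y
          exact ⟨f, hy, rfl⟩
      have hmap : (Ideal.span {f | Ideal.Quotient.mk I f ∈ s₀}).map (Ideal.Quotient.mk I) = ⊤ := by
        rw [Ideal.map_span, himg, hs₀]
      have h1 : (1 : R ⧸ I) ∈
          (Ideal.span {f | Ideal.Quotient.mk I f ∈ s₀}).map (Ideal.Quotient.mk I) := by
        rw [hmap]; trivial
      rw [Ideal.mem_map_iff_of_surjective _ Ideal.Quotient.mk_surjective] at h1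
      obtain ⟨x, hx, hx1⟩ := h1
      have hxI : x - 1 ∈ I := by
        rw [← Ideal.Quotient.eq_zero_iff_mem, map_sub, hx1, map_one, sub_self]
      have hu : IsUnit x := by
        have := (hI _ hxI).isUnit_add_one
        rwa [sub_add_cancel] at this
      exact Ideal.eq_top_of_isUnit_mem _ hx hu
    · intro f hf
      exact Groth.Agent.H96.IsoNil.quasiConst_of_quot I hI h f (hc₀ _ hf)

end Groth.Agent.S2971
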