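import Groth.Statements.S2978
import Mathlib.RingTheory.Noetherian.Basic
import Mathlib.RingTheory.Finiteness.Basic
import Mathlib.Algebra.BigOperators.Ring.Finset

set_option autoImplicit false
universe u
open SGA3b

namespace Groth.Agent.S2978

/-- Let A be a Noetherian ring, M a set and a : M × M → A a family vanishing off the diagonal which is a
finite sum of decomposable families: a(m, m') = Σ_i b_i(m) c_i(m') for finitely many b_i, c_i : M →
A. Then a has finite support. -/
theorem result (A : Type u) [CommRing A] [IsNoetherianRing A] (M : Type u)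
    (a : M × M → A) (hdiag : ∀ m m', m ≠ m' → a (m, m') = 0)
    (ι : Type u) [Fintype ι] (b c : ι → M → A) (hdec : ∀ m m', a (m, m') = ∑ i, b i m * c i m') :
    Set.Finite {p : M × M | a p ≠ 0} := by
  classical
  rcases isEmpty_or_nonempty M with hM | hM
  · exact Set.toFinite _
  let v : M → (ι → A) := fun m i => b i m
  have hfg : (Submodule.span A (Set.range v)).FG := IsNoetherian.noetherian _
  obtain ⟨T, hTsub, hTspan⟩ := (Submodule.fg_span_iff_fg_span_finset_subset _).mp hfg
  have hpre : ∀ t ∈ T, ∃ m, v m = t := fun t ht => hTsub ht
  choose! g hg using hpre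
  let F : Finset M := T.image g
  have key : ∀ m, m ∉ F → a (m, m) = 0 := by
    intro m hm
    have hv : v m ∈ Submodule.span A (T : Set (ι → A)) := by
      rw [← hTspan]; exact Submodule.subset_span ⟨m, rfl⟩
    have hall : ∀ w ∈ Submodule.span A (T : Set (ι → A)), ∑ i, w i * c i m = 0 := by
      intro w hw
      induction hw using Submodule.span_induction with
      | mem t ht =>
        have h1 : g t ≠ m := fun h => hm (h ▸ Finset.mem_image_of_mem g ht)
        have h2 := hdiag _ _ h1
        rw [hdec] at h2
        rw [← hg t ht]; exact h2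
      | zero => simp
      | add x y _ _ hx hy => simp [add_mul, Finset.sum_add_distrib, hx, hy]
      | smul r x _ hx => simp [mul_assoc, ← Finset.mul_sum, hx]
    rw [hdec]; exact hall _ hv
  apply Set.Finite.subset (F.finite_toSet.image (fun m => (m, m)))
  rintro ⟨m, m'⟩ hp
  simp only [Set.mem_ofPred_eq] at hp
  have hmm : m = m' := by by_contra h; exact hp (hdiag _ _ h)
  subst hmm
  have hmF : m ∈ F := by by_contra h; exact hp (key m h)
  exact ⟨m, hmF, rfl⟩

end Groth.Agent.S2978
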