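import Groth.Statements.S2981
import Mathlib
import Groth.Agent.H83.TorsDense
import Groth.Agent.H83.NilLiftA

set_option autoImplicit false
universe u
open TensorProduct SGA3b
open SGA3b

namespace Groth.Agent.S2981


/-- Let G = Spec A be an R-group of multiplicative type and of finite type. Then the kernels ₙG of the
n-th power maps, n > 0, form a schematically dense family: over every basic open D(a) of G, the
intersection of the (extended) ideals of the ₙG is zero. (Affine group schemes over an affine base
are taken in Hopf-algebra form; base change is the tensor product.) -/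
theorem result (R : Type u) [CommRing R] (A : Type u) [CommRing A] [HopfAlgebra R A] (hft : Algebra.FiniteType R A) (h : IsMultType R A) :
    ∀ a : A, ⨅ n : {n : ℕ // 0 < n}, Ideal.map (algebraMap A (Localization.Away a)) (torsionIdeal R A n.1) = ⊥ := by
  intro a
  rw [eq_bot_iff]
  intro x hx
  rw [Ideal.mem_bot]
  rw [Ideal.mem_iInf] at hx
  obtain ⟨⟨y, s⟩, hys⟩ := IsLocalization.surj (Submonoid.powers a) x
  have hunit : IsUnit (algebraMap A (Localization.Away a) s) :=
    IsLocalization.map_units (Localization.Away a) s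
  suffices hy0 : algebraMap A (Localization.Away a) y = 0 by
    have h1 : x * algebraMap A (Localization.Away a) s = 0 := by rw [hys, hy0]
    exact (hunit.mul_left_eq_zero).1 h1
  -- `y` is `a`-power torsion modulo every torsion ideal
  have hstar : ∀ n : ℕ, 0 < n → ∃ l : ℕ, a ^ l * y ∈ torsionIdeal R A n := by
    intro n hn
    have h1 : algebraMap A (Localization.Away a) y ∈
        Ideal.map (algebraMap A (Localization.Away a)) (torsionIdeal R A n) := by
      rw [← hys]
      exact Ideal.mul_mem_right _ _ (hx ⟨n, hn⟩)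
    rw [IsLocalization.mem_map_algebraMap_iff (Submonoid.powers a)] at h1
    obtain ⟨⟨i, t⟩, hit⟩ := h1
    obtain ⟨l₁, hl₁⟩ := t.2
    have h2 : algebraMap A (Localization.Away a) (y * t - i) = 0 := by
      rw [map_sub, map_mul, hit, sub_self]
    rw [IsLocalization.map_eq_zero_iff (Submonoid.powers a)] at h2
    obtain ⟨u, hu⟩ := h2
    obtain ⟨l₂, hl₂⟩ := u.2
    refine ⟨l₂ + l₁, ?_⟩
    have h3 : a ^ (l₂ + l₁) * y = a ^ l₂ * i := by
      have hl₁' : (t : A) = a ^ l₁ := hl₁.symm
      have hl₂' : (u : A) = a ^ l₂ := hl₂.symm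
      rw [hl₁', hl₂'] at hu
      rw [pow_add]
      linear_combination hu
    rw [h3]
    exact Ideal.mul_mem_left _ _ i.2
  -- descend the vanishing along the trivialising covers
  apply H83.NilLift.eq_zero_of_isMultType h (algebraMap A (Localization.Away a) y)
  intro K _ _ _ N _ e
  rcases subsingleton_or_nontrivial K with hK | hK
  · have : Subsingleton (K ⊗[R] Localization.Away a) := Module.subsingleton K _
    exact Subsingleton.elim _ _
  have := hft
  have hfg : Group.FG N :=
    MonoidAlgebra.finiteType_iff_group_fg.1 (Algebra.FiniteType.equiv inferInstance e.toAlgEquiv)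
  have hyp : H83.TorsDense.Hyp (e ((1 : K) ⊗ₜ[R] a)) (e ((1 : K) ⊗ₜ[R] y)) := by
    intro n hn
    obtain ⟨l, hl⟩ := hstar n hn
    refine ⟨l, ?_⟩
    have h1 := H83.MultTors.tmul_mem_torsionIdeal K hl
    have h2 := H83.MultTors.map_mem_torsionIdeal e.toBialgHom h1
    have h3 := H83.MultTors.mapDomain_eq_zero n h2
    have h4 : e.toBialgHom ((1 : K) ⊗ₜ[R] (a ^ l * y)) =
        e ((1 : K) ⊗ₜ[R] a) ^ l * e ((1 : K) ⊗ₜ[R] y) := by
      show e ((1 : K) ⊗ₜ[R] (a ^ l * y)) = _
      rw [← map_pow, ← map_mul, Algebra.TensorProduct.tmul_pow, one_pow,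
        Algebra.TensorProduct.tmul_mul_tmul, one_mul]
    rw [← map_pow, ← map_mul, ← h4]
    exact h3
  obtain ⟨l, hl⟩ := H83.TorsDense.core_all K N _ _ hyp
  have h5 : ((1 : K) ⊗ₜ[R] a) ^ l * ((1 : K) ⊗ₜ[R] y) = 0 := by
    apply e.injective
    rw [map_mul, map_pow, map_zero]
    exact hl
  have h6 := congrArg (Algebra.TensorProduct.map (AlgHom.id K K)
    (IsScalarTower.toAlgHom R A (Localization.Away a))) h5
  rw [map_mul, map_pow, map_zero, Algebra.TensorProduct.map_tmul,
    Algebra.TensorProduct.map_tmul] at h6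
  have hu : IsUnit ((1 : K) ⊗ₜ[R] (algebraMap A (Localization.Away a) a)) :=
    (IsLocalization.Away.algebraMap_isUnit a).map
      (Algebra.TensorProduct.includeRight : Localization.Away a →ₐ[R] K ⊗[R] Localization.Away a)
  exact ((hu.pow l).mul_right_eq_zero).1 h6

end Groth.Agent.S2981
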