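import Groth.Statements.S2982
import Mathlib
import Groth.Agent.H83.KerGenC

set_option autoImplicit false
universe u
open TensorProduct SGA3b
open SGA3b

namespace Groth.Agent.S2982


/-- Let H = Spec A be an R-group of multiplicative type and of finite type, G = Spec C an affine R-group
with C of finite presentation over R, u : H ⟶ G a homomorphism given by the bialgebra map φ : C → A,
and J the ideal of the kernel of u (generated by the image of the augmentation ideal of C), a Hopf
ideal (the instance hypothesis holds automatically for this J). Then Ker u = Spec (A/J) is of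
multiplicative type (with locally constant type). (Affine group schemes over an affine base are
taken in Hopf-algebra form; base change is the tensor product.) -/
theorem result (R : Type u) [CommRing R] (A : Type u) [CommRing A] [HopfAlgebra R A] (hft : Algebra.FiniteType R A) (h : IsMultType R A)
    (C : Type u) [CommRing C] [HopfAlgebra R C] (hC : Algebra.FinitePresentation R C) (φ : C →ₐc[R] A)
    (J : Ideal A) [J.IsHopfIdeal R] (hJ : J = Ideal.map φ (RingHom.ker (Bialgebra.counitAlgHom R C))) :
    IsMultType R (A ⧸ J) := by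
  classical
  obtain ⟨sA, hsA, hA'⟩ := h
  have hCft : Algebra.FiniteType R C := inferInstance
  obtain ⟨s, hs⟩ := hCft.out
  refine ⟨{g | IsMultTypeConst (Localization.Away g) (Localization.Away g ⊗[R] (A ⧸ J))}, ?_,
    fun g hg => hg⟩
  by_contra hne
  obtain ⟨𝔪, h𝔪, hle⟩ := Ideal.exists_le_maximal _ hne
  have h𝔭 : 𝔪.IsPrime := h𝔪.isPrime
  have h1 : ∃ f ∈ sA, f ∉ 𝔪 := by
    by_contra hcon
    push Not at hcon
    have h2 : Ideal.span sA ≤ 𝔪 := Ideal.span_le.2 hcon
    rw [hsA] at h2
    exact h𝔪.ne_top (top_le_iff.1 h2)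
  obtain ⟨f, hfA, hf⟩ := h1
  obtain ⟨K, _, _, _, _, hff, M, _, ⟨e⟩⟩ :=
    Groth.Agent.H83.KerMult.trivOver_of_const _ (hA' f hfA)
  obtain ⟨g, hg𝔪, hg⟩ := Groth.Agent.H83.KerGen.main' φ s hs J hJ f 𝔪 hf K hff e
  exact hg𝔪 (hle (Ideal.subset_span hg))

end Groth.Agent.S2982
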