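import Groth.Statements.S2983
import Mathlib
import Groth.Agent.H83.DiagSub

set_option autoImplicit false
universe u
open TensorProduct SGA3b
open SGA3b

namespace Groth.Agent.S2983


/-- Let R be a ring with connected spectrum (no idempotents other than 0 and 1), G = Spec A a
diagonalisable R-group of finite type, and H = Spec (A/J) a closed subgroup (J a Hopf ideal) which
is of multiplicative type. Then H is diagonalisable. (Affine group schemes over an affine base are
taken in Hopf-algebra form; base change is the tensor product.) -/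
theorem result (R : Type u) [CommRing R] (A : Type u) [CommRing A] [HopfAlgebra R A] [Nontrivial R] (hconn : ∀ e : R, IsIdempotentElem e → e = 0 ∨ e = 1)
    (hG : IsDiagFT R A) (J : Ideal A) [J.IsHopfIdeal R] (hH : IsMultType R (A ⧸ J)) : IsDiag R (A ⧸ J) := by
  classical
  obtain ⟨M, instM, _hMfg, ⟨e₀⟩⟩ := hG
  obtain ⟨mk, hmk⟩ : ∃ mk : A →ₐc[R] A ⧸ J, ∀ a, mk a = Ideal.Quotient.mk J a :=
    ⟨Bialgebra.Quotient.mkBialgHom (R := R) J, fun a => rfl⟩
  have hmksurj : Function.Surjective mk := by
    intro x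
    obtain ⟨a, rfl⟩ := Ideal.Quotient.mk_surjective x
    exact ⟨a, hmk a⟩
  obtain ⟨g, hgapp⟩ : ∃ g : M →* (A ⧸ J),
      ∀ m, g m = mk (e₀.symm (MonoidAlgebra.single m 1)) :=
    ⟨{ toFun := fun m => mk (e₀.symm (MonoidAlgebra.single m 1))
       map_one' := by
         show mk (e₀.symm (MonoidAlgebra.single 1 1)) = 1
         rw [← MonoidAlgebra.one_def, map_one, map_one]
       map_mul' := fun m m' => by
         show mk (e₀.symm (MonoidAlgebra.single (m * m') 1)) =
           mk (e₀.symm (MonoidAlgebra.single m 1)) * mk (e₀.symm (MonoidAlgebra.single m' 1))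
         rw [← map_mul, ← map_mul, MonoidAlgebra.single_mul_single, one_mul] }, fun m => rfl⟩
  have hgl : ∀ m, IsGroupLikeElem R (g m) := fun m => by
    rw [hgapp]
    exact ((MonoidAlgebra.isGroupLikeElem_single_one (R := R) (A := R) m).map e₀.symm).map mk
  obtain ⟨N, hN⟩ : ∃ N : Subgroup M, ∀ x, x ∈ N ↔ g x = 1 :=
    ⟨g.ker, fun x => MonoidHom.mem_ker⟩
  obtain ⟨Φ, hΦapp⟩ : ∃ Φ : A →ₐc[R] MonoidAlgebra R (M ⧸ N),
      ∀ a, Φ a = MonoidAlgebra.mapDomainAlgHom R R (QuotientGroup.mk' N) (e₀ a) :=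
    ⟨(MonoidAlgebra.mapDomainBialgHom R (QuotientGroup.mk' N)).comp e₀.toBialgHom, fun a => rfl⟩
  have hΦsurj : Function.Surjective Φ := by
    intro y
    obtain ⟨z, rfl⟩ := H83.MultQuot.mapDomain_surjective (K := R) (QuotientGroup.mk' N)
      (QuotientGroup.mk'_surjective N) y
    obtain ⟨b, rfl⟩ := e₀.surjective z
    exact ⟨b, hΦapp b⟩
  have hπg : ∀ m m' : M, QuotientGroup.mk' N m = QuotientGroup.mk' N m' ↔ g m = g m' := by
    intro m m'
    have h1 : QuotientGroup.mk' N m = QuotientGroup.mk' N m' ↔ m⁻¹ * m' ∈ N := by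
      show (QuotientGroup.mk m : M ⧸ N) = QuotientGroup.mk m' ↔ _
      exact QuotientGroup.eq
    rw [h1, hN]
    constructor
    · intro h
      have h2 : g m' = g m * g (m⁻¹ * m') := by rw [← map_mul, mul_inv_cancel_left]
      rw [h2, h, mul_one]
    · intro h
      rw [map_mul, ← h, ← map_mul, inv_mul_cancel, map_one]
  have hback : ∀ y : MonoidAlgebra R M,
      y ∈ Ideal.span (Set.range fun m : N =>
        (MonoidAlgebra.single (m : M) (1 : R) - 1 : MonoidAlgebra R M)) →
      mk (e₀.symm y) = 0 := by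
    intro y hy
    refine Submodule.span_induction (p := fun y _ => mk (e₀.symm y) = 0) ?_ ?_ ?_ ?_ hy
    · rintro _ ⟨m, rfl⟩
      show mk (e₀.symm (MonoidAlgebra.single (m : M) 1 - 1)) = 0
      rw [map_sub, map_sub, map_one, map_one, ← hgapp, (hN _).1 m.2, sub_self]
    · rw [map_zero, map_zero]
    · intro x y _ _ hx hy
      rw [map_add, map_add, hx, hy, add_zero]
    · intro a x _ hx
      rw [smul_eq_mul, map_mul, map_mul, hx, mul_zero]
  have hfwd : ∀ y : MonoidAlgebra R M, mk (e₀.symm y) = 0 →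
      MonoidAlgebra.mapDomainAlgHom R R (QuotientGroup.mk' N) y = 0 := by
    intro y ha
    have hsum : y = ∑ m ∈ y.coeff.support, y.coeff m • MonoidAlgebra.single m (1 : R) := by
      conv_lhs => rw [← MonoidAlgebra.sum_coeff_single y]
      rw [Finsupp.sum]
      refine Finset.sum_congr rfl fun m _ => ?_
      rw [MonoidAlgebra.smul_single, smul_eq_mul, mul_one]
    have hc : ∑ m ∈ y.coeff.support, y.coeff m • g m = 0 := by
      have h1 : mk (e₀.symm y) = ∑ m ∈ y.coeff.support, y.coeff m • g m := by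
        conv_lhs => rw [hsum]
        rw [map_sum, map_sum]
        refine Finset.sum_congr rfl fun m _ => ?_
        rw [map_smul, map_smul, hgapp]
      rw [← h1, ha]
    apply MonoidAlgebra.coeff_injective
    ext q
    obtain ⟨m₀, rfl⟩ := QuotientGroup.mk'_surjective N q
    have h2 : (MonoidAlgebra.mapDomainAlgHom R R (QuotientGroup.mk' N) y).coeff
        (QuotientGroup.mk' N m₀) =
        ∑ m ∈ y.coeff.support.filter
          (fun m => QuotientGroup.mk' N m = QuotientGroup.mk' N m₀), y.coeff m := by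
      conv_lhs => rw [hsum]
      rw [map_sum, MonoidAlgebra.coeff_sum, Finsupp.finsetSum_apply, Finset.sum_filter]
      refine Finset.sum_congr rfl fun m _ => ?_
      rw [map_smul, MonoidAlgebra.mapDomainAlgHom_apply, MonoidAlgebra.mapDomain_single,
        MonoidAlgebra.coeff_smul, Finsupp.smul_apply, MonoidAlgebra.coeff_single,
        Finsupp.single_apply, smul_eq_mul, mul_ite, mul_one, mul_zero]
    have H := H83.DiagSub.sum_eq_zero_of_sum_smul_eq_zero hconn hH g hgl y.coeff.support
      (fun m => y.coeff m) hc m₀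
      (y.coeff.support.filter (fun m => QuotientGroup.mk' N m = QuotientGroup.mk' N m₀))
      (Finset.filter_subset _ _)
      (fun m hm => by
        rw [Finset.mem_filter, hπg]
        exact ⟨fun h => h.2, fun h => ⟨hm, h⟩⟩)
    rw [h2, H]
    simp
  have hker : ∀ a : A, mk a = 0 ↔ Φ a = 0 := by
    intro a
    constructor
    · intro ha
      rw [hΦapp]
      apply hfwd
      rw [e₀.symm_apply_apply]
      exact ha
    · intro ha
      rw [hΦapp] at ha
      have h1 := hback _ (H83.DiagSub.mem_span_of_mapDomain_eq_zero N ha)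
      rwa [e₀.symm_apply_apply] at h1
  obtain ⟨eq⟩ := H83.MultQuot.nonempty_bialgEquiv_of_ker_eq (S := R) (B := A) (C := A ⧸ J)
    (D := MonoidAlgebra R (M ⧸ N)) mk Φ hmksurj hΦsurj hker
  exact ⟨M ⧸ N, inferInstance, ⟨eq⟩⟩

end Groth.Agent.S2983
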