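import Groth.Statements.S2984
import Mathlib
import Groth.Agent.H83.MultTors

set_option autoImplicit false
universe u
open TensorProduct SGA3b
open SGA3b

namespace Groth.Agent.S2984


/-- Let R be a ring and G = Spec A an R-group scheme of multiplicative type and of finite type, with A a
Hopf algebra over R. Then A is finite over R if and only if the n-th power map of G is trivial for
some n > 0 (the kernel ₙG is all of G). (Affine group schemes over an affine base are taken in
Hopf-algebra form; base change is the tensor product.) -/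
theorem result (R : Type u) [CommRing R] (A : Type u) [CommRing A] [HopfAlgebra R A] (hft : Algebra.FiniteType R A) (h : IsMultType R A) :
    Module.Finite R A ↔ ∃ n : ℕ, 0 < n ∧ torsionIdeal R A n = ⊥ := by
  classical
  have := hft
  obtain ⟨s, hs, hloc⟩ := h
  constructor
  · intro hfin
    have := hfin
    have key : ∀ f : s, ∃ n : ℕ, 0 < n ∧ ∀ x : Localization.Away f.1 ⊗[R] A,
        SGA3b.powConv (Localization.Away f.1) (Localization.Away f.1 ⊗[R] A) n x =
          algebraMap (Localization.Away f.1) (Localization.Away f.1 ⊗[R] A)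
            (Coalgebra.counit x) := by
      intro f
      obtain ⟨R', _, _, hff, M, _, ⟨e⟩⟩ := hloc f.1 f.2
      have := hff
      exact Groth.Agent.H83.MultTors.exists_triv_of_finite e
    choose nf hnf_pos hnf using key
    obtain ⟨t, hts, ht⟩ := (Ideal.span_eq_top_iff_finite s).1 hs
    have hN : ∃ N : ℕ, 0 < N ∧ ∀ r : (t : Set R), nf ⟨r.1, hts r.2⟩ ∣ N := by
      refine ⟨∏ f ∈ t.attach, nf ⟨f.1, hts f.2⟩, Finset.prod_pos (fun f _ => hnf_pos _), ?_⟩
      intro r
      exact Finset.dvd_prod_of_mem (fun f : {x // x ∈ t} => nf ⟨f.1, hts f.2⟩)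
        (Finset.mem_attach t ⟨r.1, r.2⟩)
    obtain ⟨N, hNpos, hNdvd⟩ := hN
    refine ⟨N, hNpos, ?_⟩
    rw [Groth.Agent.H83.MultTors.torsionIdeal_eq_bot_iff]
    intro a
    rw [← sub_eq_zero]
    refine Module.eq_zero_of_isLocalized_span (t : Set R) ht
      (fun r => Localization.Away r.1 ⊗[R] A)
      (fun r => TensorProduct.mk R (Localization.Away r.1) A 1) _ (fun r => ?_)
    obtain ⟨k, hk⟩ := hNdvd r
    show (1 : Localization.Away r.1) ⊗ₜ[R]
      (SGA3b.powConv R A N a - algebraMap R A (Coalgebra.counit a)) = 0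
    rw [TensorProduct.tmul_sub, sub_eq_zero, ← Groth.Agent.H83.MultTors.powConv_baseChange,
      ← Groth.Agent.H83.MultTors.counit_tmul_eq, hk]
    exact Groth.Agent.H83.MultTors.triv_mul (hnf ⟨r.1, hts r.2⟩) k _
  · rintro ⟨n, hn, htors⟩
    have htriv := (Groth.Agent.H83.MultTors.torsionIdeal_eq_bot_iff n).1 htors
    refine Module.Finite.of_localizationSpan' s hs (Rₚ := fun g => Localization.Away g.1)
      (Mₚ := fun g => Localization.Away g.1 ⊗[R] A)
      (fun g => TensorProduct.mk R (Localization.Away g.1) A 1) (fun g => ?_)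
    obtain ⟨R', _, _, hff, M, _, ⟨e⟩⟩ := hloc g.1 g.2
    have := hff
    exact Groth.Agent.H83.MultTors.finite_of_triv e hn
      (Groth.Agent.H83.MultTors.triv_baseChange _ htriv)

end Groth.Agent.S2984
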