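import Groth.Statements.S2985
import Mathlib
import Groth.Agent.H83.KerGenE
import Groth.Agent.H83.ConvQuot

set_option autoImplicit false
universe u
open TensorProduct SGA3b
open SGA3b

namespace Groth.Agent.S2985


/-- Case of a commutative target, over a local base: Let R be a local ring, H = Spec A an R-group of
multiplicative type and of finite type, G = Spec C a commutative affine R-group (C cocommutative)
with C of finite presentation over R, and u, v : H ⟶ G homomorphisms (bialgebra maps φ, ψ : C → A)
which agree on the closed fibre: φ c − ψ c lies in 𝔪A for every c. Then u = v. (Affine group schemes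
over an affine base are taken in Hopf-algebra form; base change is the tensor product.) -/
theorem result (R : Type u) [CommRing R] (A : Type u) [CommRing A] [HopfAlgebra R A] [IsLocalRing R] (hft : Algebra.FiniteType R A) (h : IsMultType R A)
    (C : Type u) [CommRing C] [HopfAlgebra R C] [Coalgebra.IsCocomm R C] (hC : Algebra.FinitePresentation R C)
    (φ ψ : C →ₐc[R] A) (hs : ∀ c : C, φ c - ψ c ∈ Ideal.map (algebraMap R A) (IsLocalRing.maximalIdeal R)) :
    φ = ψ := by
  apply Groth.Agent.H83.ConvQuot.eq_of_quot_trivial
  intro c
  refine Groth.Agent.H83.KerGen.eq_counit_of_local (Groth.Agent.H83.ConvQuot.quot φ ψ) hft h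
    (Or.inr hC) ?_ c
  intro c'
  exact Groth.Agent.H83.ConvQuot.quot₀_sub_mem φ ψ _ hs c'

end Groth.Agent.S2985
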