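import Groth.Statements.S3021
import Groth.Agent.H40.Comod

set_option autoImplicit false
universe u
open CategoryTheory MonoidalCategory CartesianMonoidalCategory MonObj GrpObj AlgebraicGeometry TensorProduct
open SGA3

namespace Groth.Agent.S3021


section Helpers
open TensorProduct
open Groth.Agent.H40

variable {A : Type u} [CommRing A] {C : Type u} [AddCommGroup C] [Module A C]
  {V : Type u} [AddCommGroup V] [Module A V] [DecidableEq C]

/-- Coordinates of `y ∈ V ⊗ C` with respect to a projective "dual basis" `s`. -/
noncomputable def coords (s : C →ₗ[A] C →₀ A) (y : V ⊗[A] C) : C →₀ V :=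
  TensorProduct.finsuppScalarRight A A V C (s.lTensor V y)

theorem coords_apply (s : C →ₗ[A] C →₀ A) (y : V ⊗[A] C) (j : C) :
    coords s y j = contr V (Finsupp.lapply j ∘ₗ s) y := by
  unfold coords contr
  rw [TensorProduct.finsuppScalarRight_apply, LinearMap.lTensor_comp]
  rfl

theorem eq_sum_coords (s : C →ₗ[A] C →₀ A)
    (hs : Finsupp.linearCombination A (id : C → C) ∘ₗ s = LinearMap.id) (y : V ⊗[A] C) :
    y = ∑ j ∈ (coords s y).support, coords s y j ⊗ₜ[A] j := by
  have h1 : y = (Finsupp.linearCombination A (id : C → C)).lTensor V (s.lTensor V y) := by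
    rw [← LinearMap.comp_apply, ← LinearMap.lTensor_comp, hs, LinearMap.lTensor_id,
      LinearMap.id_apply]
  have h2 : s.lTensor V y = (TensorProduct.finsuppScalarRight A A V C).symm (coords s y) := by
    unfold coords
    rw [LinearEquiv.symm_apply_apply]
  conv_lhs => rw [h1, h2]
  conv_lhs => rw [← Finsupp.sum_single (coords s y)]
  rw [Finsupp.sum, map_sum, map_sum]
  refine Finset.sum_congr rfl fun j _ => ?_
  rw [TensorProduct.finsuppScalarRight_symm_apply_single, LinearMap.lTensor_tmul,
    Finsupp.linearCombination_single, one_smul, id]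

end Helpers

/-- Let A be a commutative ring, C an A-coalgebra which is projective as an A-module, V a C-comodule and
M an A-submodule of V. Then there is a smallest subcomodule of V containing M, and it is finitely
generated over A when M is. -/
theorem result (A : Type u) [CommRing A] (C : Type u) [AddCommGroup C] [Module A C]
    [Coalgebra A C] [Module.Projective A C] (V : Type u) [AddCommGroup V] [Module A V] [HopfRep.Comod A C V]
    (M : Submodule A V) :
    ∃ W : Submodule A V, HopfRep.IsSubcomod (k := A) (A := C) W ∧ M ≤ W ∧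
      (∀ W' : Submodule A V, HopfRep.IsSubcomod (k := A) (A := C) W' → M ≤ W' → W ≤ W') ∧
      (M.FG → W.FG) := by
  classical
  obtain ⟨s, hs⟩ := Module.projective_def'.mp (inferInstance : Module.Projective A C)
  let S : Set V := {x | ∃ m ∈ M, ∃ f : C →ₗ[A] A, x = Groth.Agent.H40.contr V f (Groth.Agent.H40.ρ A C V m)}
  -- the key membership criterion
  have hcrit : ∀ (W : Submodule A V) (y : V ⊗[A] C),
      (∀ g : C →ₗ[A] A, Groth.Agent.H40.contr V g y ∈ W) →
      y ∈ LinearMap.range (W.subtype.rTensor C) := by
    intro W y hy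
    rw [eq_sum_coords s hs y]
    refine Submodule.sum_mem _ fun j _ => ?_
    refine Groth.Agent.H40.tmul_mem_range_rTensor W ?_ j
    rw [coords_apply]
    exact hy _
  refine ⟨Submodule.span A S, ?_, ?_, ?_, ?_⟩
  · -- subcomodule
    apply Groth.Agent.H40.isSubcomod_span
    rintro w ⟨m, hm, f, rfl⟩
    apply hcrit
    intro g
    rw [Groth.Agent.H40.coact_contr_coact]
    refine Submodule.subset_span ⟨m, hm, g ∘ₗ (Groth.Agent.H40.contr C f ∘ₗ CoalgebraStruct.comul (R := A) (A := C)), ?_⟩
    unfold Groth.Agent.H40.contr
    simp only [LinearMap.comp_apply]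
    rw [← LinearMap.comp_apply (LinearMap.lTensor V g), ← LinearMap.lTensor_comp]
  · -- contains M
    intro m hm
    refine Submodule.subset_span ⟨m, hm, CoalgebraStruct.counit (R := A) (A := C), ?_⟩
    exact (Groth.Agent.H40.contr_counit_coact (k := A) (C := C) m).symm
  · -- smallest
    intro W' hW' hMW'
    rw [Submodule.span_le]
    rintro x ⟨m, hm, f, rfl⟩
    have hnat : ∀ y : W' ⊗[A] C, Groth.Agent.H40.contr V f (W'.subtype.rTensor C y) =
        W'.subtype (Groth.Agent.H40.contr W' f y) := by
      intro y
      induction y using TensorProduct.induction_on with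
      | zero => simp
      | tmul w c => simp [Groth.Agent.H40.contr_tmul]
      | add a b ha hb => simp only [map_add, ha, hb]
    obtain ⟨y, hy⟩ := hW' m (hMW' hm)
    change Groth.Agent.H40.contr V f (HopfRep.Comod.coact (k := A) (A := C) m) ∈ W'
    rw [← hy, hnat]
    exact (Groth.Agent.H40.contr W' f y).2
  · -- finite generation
    intro hfg
    obtain ⟨T, hT⟩ := hfg
    let S₀ : Set V := ⋃ m ∈ T, (fun j => coords s (Groth.Agent.H40.ρ A C V m) j) ''
      ((coords s (Groth.Agent.H40.ρ A C V m)).support : Set C)
    have hS₀fin : S₀.Finite := by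
      apply Set.Finite.biUnion T.finite_toSet
      intro m _
      exact Set.Finite.image _ (Finset.finite_toSet _)
    have hS₀S : S₀ ⊆ Submodule.span A S := by
      intro x hx
      simp only [S₀, Set.mem_iUnion, Set.mem_image] at hx
      obtain ⟨m, hmT, j, _, rfl⟩ := hx
      refine Submodule.subset_span ⟨m, ?_, Finsupp.lapply j ∘ₗ s, coords_apply s _ j⟩
      rw [← hT]
      exact Submodule.subset_span hmT
    have hSS₀ : Submodule.span A S ≤ Submodule.span A S₀ := by
      rw [Submodule.span_le]
      rintro x ⟨m, hm, f, rfl⟩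
      rw [← hT] at hm
      change Groth.Agent.H40.contr V f (Groth.Agent.H40.ρ A C V m) ∈ Submodule.span A S₀
      induction hm using Submodule.span_induction with
      | mem m hmT =>
        rw [eq_sum_coords s hs (Groth.Agent.H40.ρ A C V m), map_sum]
        refine Submodule.sum_mem _ fun j hj => ?_
        rw [Groth.Agent.H40.contr_tmul]
        refine Submodule.smul_mem _ _ (Submodule.subset_span ?_)
        simp only [S₀, Set.mem_iUnion, Set.mem_image]
        exact ⟨m, hmT, j, hj, rfl⟩
      | zero => simp
      | add a b _ _ ha hb => rw [map_add, map_add]; exact Submodule.add_mem _ ha hb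
      | smul c a _ ha => rw [map_smul, map_smul]; exact Submodule.smul_mem _ c ha
    have : Submodule.span A S = Submodule.span A S₀ :=
      le_antisymm hSS₀ (Submodule.span_le.mpr hS₀S)
    rw [this]
    exact ⟨hS₀fin.toFinset, by rw [Set.Finite.coe_toFinset]⟩

end Groth.Agent.S3021
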