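import Groth.Statements.S3029
import Mathlib
import Groth.Agent.S1936
import Groth.Agent.H37.GrpObjGrpd

set_option autoImplicit false
universe u
open CategoryTheory MonoidalCategory CartesianMonoidalCategory MonObj GrpObj AlgebraicGeometry TensorProduct
open SGA3

namespace Groth.Agent.S3029

theorem isField_stalk_spec (k : Type u) [Field k] (w : Spec (CommRingCat.of k)) :
    IsField ((Spec (CommRingCat.of k)).presheaf.stalk w) := by
  let K' := (Spec.structureSheaf k).presheaf.stalk w
  let e : k ≃ₐ[k] K' := IsLocalization.atUnits _ w.asIdeal.primeCompl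
      (fun x hx ↦ by aesop (add simp IsUnit.mem_submonoid_iff))
  exact e.toRingEquiv.symm.isField (Field.toIsField k)


/-- Let G be a group scheme locally of finite type over a field k and x a point of G. Then the local
ring of G at x is Cohen–Macaulay. (This is the case of a base field; the published statement treats
flat groups over a local Artinian ring.) -/
theorem result (k : Type u) [Field k] (G : Over (Spec (CommRingCat.of k))) [GrpObj G]
    [LocallyOfFiniteType G.hom] (x : G.left) :
    LocCoh.IsCohenMacaulayLocalRing (G.left.presheaf.stalk x) := by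
  classical
  haveI : IsLocallyNoetherian (Spec (CommRingCat.of k)) := inferInstance
  haveI hfl : Flat G.hom := inferInstance
  haveI hfp : LocallyOfFinitePresentation G.hom :=
    LocallyOfFinitePresentation.iff_locallyOfFiniteType.mpr inferInstance
  let Γ := Groth.Agent.H37.GrpObjGrpd.ofGrpObj G
  haveI : Flat Γ.s := hfl
  haveI : Flat Γ.t := hfl
  haveI : LocallyOfFinitePresentation Γ.s := hfp
  haveI : LocallyOfFinitePresentation Γ.t := hfp
  obtain ⟨U', h1, -, h3, -⟩ := Groth.Agent.S1936.result _ Γ
  -- U' is nonempty, hence everything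
  have hx : Grpd.IsCMAt G.hom x := by
    have hmem : (G.hom x) ∈ ⇑Γ.t '' ↑(Γ.s ⁻¹ᵁ U') := by rw [h3]; exact Set.mem_univ _
    obtain ⟨r, hr, hr'⟩ := hmem
    have hr2 : G.hom r ∈ U' := hr
    have hsub : G.hom x = G.hom r := Subsingleton.elim _ _
    have : (x : Γ.R) ∈ ((Γ.t ⁻¹ᵁ U' : Γ.R.Opens) : Set Γ.R) := by
      show G.hom x ∈ U'
      rw [hsub]; exact hr2
    rw [h1] at this
    exact this
  obtain ⟨-, hcm⟩ := hx
  have hF := isField_stalk_spec k (G.hom x)
  have hbot : IsLocalRing.maximalIdeal ((Spec (CommRingCat.of k)).presheaf.stalk (G.hom x)) = ⊥ :=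
    IsLocalRing.isField_iff_maximalIdeal_eq.mp hF
  rw [hbot, Ideal.map_bot] at hcm
  exact Groth.Agent.H29.FlatCM.isCM_ringEquiv (RingEquiv.quotientBot _) hcm

end Groth.Agent.S3029
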