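import Groth.Statements.S3031
import Mathlib
import Groth.Agent.H93.FlatLift
import Groth.Agent.H37.GrpIdComp

set_option autoImplicit false
universe u
open CategoryTheory MonoidalCategory CartesianMonoidalCategory MonObj GrpObj AlgebraicGeometry TensorProduct
open SGA3

namespace Groth.Agent.S3031

/-- With X connected and possessing a rational point over the identity, a case of 'geometrically
connected with e ∈ f(X)': let G be a group scheme over a field k, X a connected, geometrically
reduced k-scheme, x a k-point of X and f : X → G a k-morphism with f(x) the identity. Then the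
smallest closed subgroup scheme of G through which f factors is connected. -/
theorem result (k : Type u) [Field k] (G X : Over (Spec (CommRingCat.of k))) [GrpObj G]
    [GeometricallyReduced X.hom] [ConnectedSpace X.left] (x : 𝟙_ (Over (Spec (CommRingCat.of k))) ⟶ X) (f : X ⟶ G)
    (hx : x ≫ f = η[G])
    (Γ : Over (Spec (CommRingCat.of k))) [GrpObj Γ] (i : Γ ⟶ G) [IsMonHom i] [IsClosedImmersion i.left]
    (hf : ∃ f' : X ⟶ Γ, f' ≫ i = f)
    (hmin : ∀ (Γ' : Over (Spec (CommRingCat.of k))) (_ : GrpObj Γ') (i' : Γ' ⟶ G), IsMonHom i' → IsClosedImmersion i'.left →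
        (∃ f'' : X ⟶ Γ', f'' ≫ i' = f) → ∃ j : Γ ⟶ Γ', j ≫ i' = i) :
    ConnectedSpace Γ.left := by
  obtain ⟨Γ₀, str₀, incl, hmon₀, hci₀, hfl₀, hrange, -, -⟩ :=
    Groth.Agent.H37.exists_identityComponent k Γ
  let _ := str₀
  have := hmon₀
  obtain ⟨f', hf'⟩ := hf
  have hmono : Mono i := by
    have : Mono ((Over.forget _).map i) := by
      show Mono i.left
      infer_instance
    exact (Over.forget _).mono_of_mono_map this
  have hxf : x ≫ f' = η[Γ] := by
    rw [← cancel_mono i, Category.assoc, hf', hx]
    exact (IsMonHom.one_hom (f := i)).symm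
  have himg : ∀ p : X.left, f'.left p ∈
      connectedComponent (η[Γ].left (IsLocalRing.closedPoint k)) := by
    intro p
    have hpre : _root_.IsPreconnected (Set.range f'.left) := isPreconnected_range f'.left.continuous
    have hmem : η[Γ].left (IsLocalRing.closedPoint k) ∈ Set.range f'.left := by
      refine ⟨x.left (IsLocalRing.closedPoint k), ?_⟩
      have := congrArg (fun m => m.left (IsLocalRing.closedPoint k)) hxf
      exact this
    exact hpre.subset_connectedComponent hmem ⟨p, rfl⟩
  have hrange' : ∀ p, f'.left p ∈ Set.range incl.left := fun p => by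
    rw [hrange]; exact himg p
  obtain ⟨g', hg'⟩ := Groth.Agent.H93.FlatLift.exists_lift_of_flat_closedImmersion
    incl.left f'.left hrange'
  have h1 : incl.left ≫ Γ.hom = Γ₀.hom := Over.w incl
  have h2 : f'.left ≫ Γ.hom = X.hom := Over.w f'
  obtain ⟨f'', hf''⟩ : ∃ f'' : X ⟶ Γ₀, f'' ≫ incl = f' :=
    ⟨Over.homMk g' (by rw [← h1, ← Category.assoc, hg', h2]), Over.OverMorphism.ext hg'⟩
  have hci : IsClosedImmersion (incl ≫ i).left := by
    show IsClosedImmersion (incl.left ≫ i.left)
    infer_instance
  obtain ⟨j, hj⟩ := hmin Γ₀ str₀ (incl ≫ i) inferInstance hci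
    ⟨f'', by rw [← Category.assoc, hf'', hf']⟩
  have hji : j ≫ incl = 𝟙 Γ := by
    rw [← cancel_mono i, Category.assoc, hj, Category.id_comp]
  have hsurj : Set.range incl.left = Set.univ := by
    rw [Set.eq_univ_iff_forall]
    intro p
    refine ⟨j.left p, ?_⟩
    have := congrArg (fun m => m.left p) hji
    exact this
  rw [hrange] at hsurj
  exact connectedSpace_iff_connectedComponent.mpr ⟨_, hsurj⟩

end Groth.Agent.S3031
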