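import Groth.Statements.S3032
import Groth.Agent.H40.Comod

set_option autoImplicit false
universe u
open CategoryTheory MonoidalCategory CartesianMonoidalCategory MonObj GrpObj AlgebraicGeometry TensorProduct
open SGA3

namespace Groth.Agent.S3032

/-- Let R be a Noetherian commutative ring, C an R-coalgebra which is flat as an R-module, V a
C-comodule and M a finitely generated R-submodule of V. Then M is contained in a subcomodule of V
which is finitely generated over R. -/
theorem result (R : Type u) [CommRing R] [IsNoetherianRing R] (C : Type u) [AddCommGroup C]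
    [Module R C] [Coalgebra R C] [Module.Flat R C] (V : Type u) [AddCommGroup V] [Module R V] [HopfRep.Comod R C V]
    (M : Submodule R V) (hM : M.FG) :
    ∃ W : Submodule R V, HopfRep.IsSubcomod (k := R) (A := C) W ∧ M ≤ W ∧ W.FG := by
  classical
  obtain ⟨T, hT⟩ := hM
  obtain ⟨N, hNfin, hN⟩ := TensorProduct.exists_finite_submodule_left_of_setFinite
    ((Groth.Agent.H40.ρ R C V) '' (T : Set V)) (Set.Finite.image _ T.finite_toSet)
  have hNfg : N.FG := Module.Finite.iff_fg.mp hNfin
  -- the coaction of `M` lands in `N ⊗ C`
  have hMN : ∀ m ∈ M, Groth.Agent.H40.ρ R C V m ∈ LinearMap.range (N.subtype.rTensor C) := by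
    intro m hm
    rw [← hT] at hm
    induction hm using Submodule.span_induction with
    | mem x hx => exact hN ⟨x, hx, rfl⟩
    | zero => simp
    | add a b _ _ ha hb => rw [map_add]; exact Submodule.add_mem _ ha hb
    | smul c a _ ha => rw [map_smul]; exact Submodule.smul_mem _ c ha
  -- the defect map
  let D : V →ₗ[R] (V ⧸ N) ⊗[R] C := N.mkQ.rTensor C ∘ₗ Groth.Agent.H40.ρ R C V
  have hD : ∀ v, D v = 0 ↔ Groth.Agent.H40.ρ R C V v ∈ LinearMap.range (N.subtype.rTensor C) := by
    intro v
    rw [Groth.Agent.H40.mem_range_rTensor_subtype_iff]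
    rfl
  let W : Submodule R V := LinearMap.ker D
  have hWN : W ≤ N := by
    intro v hv
    have hv' : D v = 0 := hv
    rw [hD] at hv'
    obtain ⟨y, hy⟩ := hv'
    have hnat : ∀ y : N ⊗[R] C, Groth.Agent.H40.contr V (CoalgebraStruct.counit (R := R) (A := C))
        (N.subtype.rTensor C y) =
        N.subtype (Groth.Agent.H40.contr N (CoalgebraStruct.counit (R := R) (A := C)) y) := by
      intro y
      induction y using TensorProduct.induction_on with
      | zero => simp
      | tmul w c => simp [Groth.Agent.H40.contr_tmul]
      | add a b ha hb => simp only [map_add, ha, hb]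
    rw [← Groth.Agent.H40.contr_counit_coact (k := R) (C := C) v, ← hy, hnat]
    exact (Groth.Agent.H40.contr N _ y).2
  refine ⟨W, ?_, ?_, Submodule.FG.of_le hNfg hWN⟩
  · -- subcomodule
    intro v hv
    have hv' : D v = 0 := hv
    rw [hD] at hv'
    obtain ⟨y, hy⟩ := hv'
    have hex : Function.Exact W.subtype D := by
      rw [LinearMap.exact_iff]
      exact (Submodule.range_subtype W).symm
    have hex' := Module.Flat.rTensor_exact C hex
    apply (hex' _).mp
    change D.rTensor C (Groth.Agent.H40.ρ R C V v) = 0
    have e1 : D.rTensor C (Groth.Agent.H40.ρ R C V v) =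
        (N.mkQ.rTensor C).rTensor C ((Groth.Agent.H40.ρ R C V).rTensor C (Groth.Agent.H40.ρ R C V v)) := by
      change (N.mkQ.rTensor C ∘ₗ Groth.Agent.H40.ρ R C V).rTensor C (Groth.Agent.H40.ρ R C V v) = _
      rw [LinearMap.rTensor_comp, LinearMap.comp_apply]
    have e2 : (Groth.Agent.H40.ρ R C V).rTensor C (Groth.Agent.H40.ρ R C V v) =
        (TensorProduct.assoc R V C C).symm
          ((CoalgebraStruct.comul (R := R) (A := C)).lTensor V (Groth.Agent.H40.ρ R C V v)) := by
      rw [← Groth.Agent.H40.coassoc_apply, LinearEquiv.symm_apply_apply]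
    rw [e1, e2, ← hy]
    -- now everything factors through `N ⊗ C`
    have hfac : ∀ y : N ⊗[R] C, (N.mkQ.rTensor C).rTensor C ((TensorProduct.assoc R V C C).symm
        ((CoalgebraStruct.comul (R := R) (A := C)).lTensor V (N.subtype.rTensor C y))) = 0 := by
      intro y
      induction y using TensorProduct.induction_on with
      | zero => simp
      | add a b ha hb => simp only [map_add, ha, hb, add_zero]
      | tmul n c =>
        simp only [LinearMap.rTensor_tmul, LinearMap.lTensor_tmul, Submodule.subtype_apply]
        generalize CoalgebraStruct.comul (R := R) c = z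
        induction z using TensorProduct.induction_on with
        | zero => simp
        | add a b ha hb => simp only [TensorProduct.tmul_add, map_add, ha, hb, add_zero]
        | tmul c₁ c₂ =>
          simp only [TensorProduct.assoc_symm_tmul, LinearMap.rTensor_tmul, Submodule.mkQ_apply]
          rw [(Submodule.Quotient.mk_eq_zero N).mpr n.2, TensorProduct.zero_tmul,
            TensorProduct.zero_tmul]
    exact hfac y
  · -- contains M
    intro m hm
    change D m = 0
    rw [hD]
    exact hMN m hm

end Groth.Agent.S3032
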