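import Groth.Statements.S3043

set_option autoImplicit false
universe u
open CategoryTheory MonoidalCategory CartesianMonoidalCategory MonObj GrpObj AlgebraicGeometry TensorProduct
open SGA3

namespace Groth.Agent.S3043

theorem affine_part (X S : Scheme.{u}) (π : X ⟶ S) (ε : S ⟶ X)
    (h1 : ∀ s : S, π (ε s) = s) (h2 : ∀ x : X, ε (π x) = x) : IsAffineHom π := by
  apply isAffineHom_of_forall_exists_isAffineOpen
  intro s
  obtain ⟨U₀, hU₀, hsU₀, -⟩ := exists_isAffineOpen_mem_and_subset (x := s) (U := ⊤) trivial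
  have hx : ε s ∈ π ⁻¹ᵁ U₀ := by
    show π (ε s) ∈ U₀
    rw [h1]; exact hsU₀
  obtain ⟨V, hV, hxV, hVW⟩ := exists_isAffineOpen_mem_and_subset hx
  have hsV : s ∈ ε ⁻¹ᵁ V := hxV
  obtain ⟨r, hr2, hr1⟩ := hU₀.exists_basicOpen_le ⟨s, hsV⟩ hsU₀
  refine ⟨S.basicOpen r, hr1, hU₀.basicOpen r, ?_⟩
  rw [Scheme.preimage_basicOpen]
  have hle : X.basicOpen (π.app U₀ r) ≤ V := by
    rw [← Scheme.preimage_basicOpen]
    intro x hx
    have h3 : π x ∈ ε ⁻¹ᵁ V := hr2 hx
    have h4 : ε (π x) ∈ V := h3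
    rwa [h2] at h4
  have hVW' : V ≤ π ⁻¹ᵁ U₀ := hVW
  have h5 : X.basicOpen (X.presheaf.map (homOfLE hVW').op (π.app U₀ r)) =
      X.basicOpen (π.app U₀ r) := by
    rw [Scheme.basicOpen_res]; exact inf_eq_right.mpr hle
  rw [← h5]
  exact hV.basicOpen _

open Polynomial in
theorem integral_part (X S : Scheme.{u}) (π : X ⟶ S) (ε : S ⟶ X) (hε : ε ≫ π = 𝟙 S)
    (h2 : ∀ x : X, ε (π x) = x) [IsAffineHom π] (U : S.Opens) (hU : IsAffineOpen U) :
    (π.app U).hom.IsIntegral := by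
  intro b
  have hiso : IsIso (ε ≫ π) := by rw [hε]; infer_instance
  have hiso' : IsIso ((ε ≫ π).app U) := inferInstance
  obtain ⟨r, hr⟩ := (ConcreteCategory.bijective_of_isIso ((ε ≫ π).app U)).2
    ((ε.app (π ⁻¹ᵁ U)) b)
  have hr' : (ε.app (π ⁻¹ᵁ U)) ((π.app U) r) = (ε.app (π ⁻¹ᵁ U)) b := hr
  have hd : (ε.app (π ⁻¹ᵁ U)) (b - (π.app U) r) = 0 := by
    rw [map_sub, hr', sub_self]
  have hbot : X.basicOpen (b - (π.app U) r) = ⊥ := by
    rw [eq_bot_iff]
    intro x hx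
    have h3 : π x ∈ ε ⁻¹ᵁ (X.basicOpen (b - (π.app U) r)) := by
      show ε (π x) ∈ X.basicOpen (b - (π.app U) r)
      rw [h2]; exact hx
    rw [Scheme.preimage_basicOpen, hd, Scheme.basicOpen_zero] at h3
    exact h3
  have hcomp : IsCompact ((π ⁻¹ᵁ U : X.Opens) : Set X) :=
    (IsAffineHom.isAffine_preimage (f := π) U hU).isCompact
  obtain ⟨n, hn⟩ := (Scheme.isNilpotent_iff_basicOpen_eq_bot_of_isCompact hcomp _).mpr hbot
  have hnil : (π.app U).hom.IsIntegralElem (b - (π.app U) r) := by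
    refine ⟨Polynomial.X ^ n, monic_X_pow n, ?_⟩
    rw [eval₂_X_pow, hn]
  have hmap : (π.app U).hom.IsIntegralElem ((π.app U) r) :=
    RingHom.isIntegralElem_map (f := (π.app U).hom)
  have := RingHom.IsIntegralElem.add _ hnil hmap
  simpa using this

/-- Let π : X → S be a morphism of schemes admitting a section ε (ε followed by π is the identity). If π
is injective on underlying points, then π is an integral morphism. -/
theorem result (X S : Scheme.{u}) (π : X ⟶ S) (ε : S ⟶ X) (hε : ε ≫ π = 𝟙 S)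
    (hinj : Function.Injective π.base) : IsIntegralHom π := by
  have h1 : ∀ s : S, π (ε s) = s := by
    intro s
    have h0 : (ε ≫ π) s = (𝟙 S : S ⟶ S) s := by rw [hε]
    simpa using h0
  have h2 : ∀ x : X, ε (π x) = x := fun x => hinj (h1 (π x))
  have haff : IsAffineHom π := affine_part X S π ε h1 h2
  exact ⟨fun U hU => integral_part X S π ε hε h2 U hU⟩

end Groth.Agent.S3043
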