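import Groth.Statements.S3045

set_option autoImplicit false
universe u
open TensorProduct
open SGA3

namespace Groth.Agent.S3045

open Coalgebra in
theorem sum_smul_counit' {R : Type*} {A : Type*} {ι : Type*} [CommSemiring R] [AddCommMonoid A] [Module R A]
    [Coalgebra R A] {a : A} (𝓡 : Coalgebra.Repr R a ι) :
    ∑ x ∈ 𝓡.index, counit (R := R) (𝓡.right x) • 𝓡.left x = a := by
  have h := congr(TensorProduct.lift (LinearMap.lsmul R A).flip $(sum_tmul_counit_eq (R := R) 𝓡))
  simpa only [map_sum, TensorProduct.lift.tmul, LinearMap.flip_apply, LinearMap.lsmul_apply,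
    one_smul] using h

variable (k : Type u) [CommRing k] (A : Type u) [CommRing A] [HopfAlgebra k A]

open Coalgebra in
theorem conv3_counit {C : Type u} [CommRing C] [Algebra k C] (f g : A →ₐ[k] C) (a : A) :
    Dyn.conv3 k A f g ((Algebra.ofId k C).comp (Bialgebra.counitAlgHom k A)) a =
      Algebra.TensorProduct.lmul' (S := C) k (Algebra.TensorProduct.map f g (Coalgebra.comul a)) := by
  let F : A →ₐ[k] C := (Algebra.TensorProduct.lmul' (S := C) k).comp
    ((Algebra.TensorProduct.map f g).comp (Bialgebra.comulAlgHom k A))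
  have 𝓡 := ℛ k a
  unfold Dyn.conv3
  simp only [AlgHom.comp_apply, Bialgebra.comulAlgHom_apply]
  conv_lhs => rw [← 𝓡.eq]
  simp only [map_sum, Algebra.TensorProduct.map_tmul, Algebra.TensorProduct.lmul'_apply_tmul,
    AlgHom.comp_apply, AlgHom.coe_id, id_eq, Bialgebra.comulAlgHom_apply]
  have hF : ∀ x : A, (Algebra.TensorProduct.lmul' (S := C) k)
      ((Algebra.TensorProduct.map f g) (comul x)) = F x := fun x => rfl
  simp_rw [hF]
  have h1 : ∀ x ∈ 𝓡.index, F (𝓡.left x) *
      (Algebra.ofId k C) ((Bialgebra.counitAlgHom k A) (𝓡.right x)) =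
      F (counit (R := k) (𝓡.right x) • 𝓡.left x) := by
    intro x _
    rw [map_smul, Algebra.ofId_apply, Algebra.smul_def, mul_comm]
    rfl
  rw [Finset.sum_congr rfl h1, ← map_sum, sum_smul_counit' 𝓡]

open Coalgebra in
/-- Let A be a commutative Hopf algebra over a commutative ring k (the coordinate ring of an affine
group G = Spec A) and φ, ψ two k[ε]-valued points of G reducing to the unit point modulo ε (tangent
vectors at the identity). Then for every a ∈ A the ε-component of the product point φ · ψ at a — the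
product of points being convolution, formed here as the triple convolution of φ, ψ and the unit
point — is the sum of the ε-components of φ(a) and ψ(a): on tangent vectors at the identity the
group law of G induces addition. -/
theorem result' (φ ψ : LieHopf.LiePts k A) (a : A) :
    TrivSqZeroExt.snd (Dyn.conv3 k A φ.1 ψ.1 ((Algebra.ofId k (DualNumber k)).comp (Bialgebra.counitAlgHom k A)) a) =
      LieHopf.LiePts.tangent k A φ a + LieHopf.LiePts.tangent k A ψ a := by
  rw [conv3_counit]
  have 𝓡 := ℛ k a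
  let tφ : A →ₗ[k] k := (TrivSqZeroExt.sndHom k k).comp φ.1.toLinearMap
  let tψ : A →ₗ[k] k := (TrivSqZeroExt.sndHom k k).comp ψ.1.toLinearMap
  have e1 : LieHopf.LiePts.tangent k A φ a = tφ a := rfl
  have e2 : LieHopf.LiePts.tangent k A ψ a = tψ a := rfl
  rw [e1, e2]
  conv_lhs => rw [← 𝓡.eq]
  simp only [map_sum, Algebra.TensorProduct.map_tmul, Algebra.TensorProduct.lmul'_apply_tmul,
    TrivSqZeroExt.snd_sum, TrivSqZeroExt.snd_mul, φ.2, ψ.2]
  have h1 : ∀ i ∈ 𝓡.index,
      ((Bialgebra.counitAlgHom k A) (𝓡.left i) • TrivSqZeroExt.snd (ψ.1 (𝓡.right i)) +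
        MulOpposite.op ((Bialgebra.counitAlgHom k A) (𝓡.right i)) • TrivSqZeroExt.snd (φ.1 (𝓡.left i))) =
      tψ (counit (R := k) (𝓡.left i) • 𝓡.right i) + tφ (counit (R := k) (𝓡.right i) • 𝓡.left i) := by
    intro i _
    rw [map_smul, map_smul]
    have e3 : tψ (𝓡.right i) = TrivSqZeroExt.snd (ψ.1 (𝓡.right i)) := rfl
    have e4 : tφ (𝓡.left i) = TrivSqZeroExt.snd (φ.1 (𝓡.left i)) := rfl
    have e5 : ∀ x : A, (Bialgebra.counitAlgHom k A) x = counit (R := k) x := fun x => rfl
    rw [e3, e4, e5, e5]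
    simp only [MulOpposite.smul_eq_mul_unop, MulOpposite.unop_op, smul_eq_mul]
    ring
  rw [Finset.sum_congr rfl h1, Finset.sum_add_distrib, ← map_sum, ← map_sum,
    sum_counit_smul 𝓡, sum_smul_counit' 𝓡, add_comm]

theorem result (k : Type u) [CommRing k] (A : Type u) [CommRing A] [HopfAlgebra k A]
    (φ ψ : LieHopf.LiePts k A) (a : A) :
    TrivSqZeroExt.snd (Dyn.conv3 k A φ.1 ψ.1 ((Algebra.ofId k (DualNumber k)).comp (Bialgebra.counitAlgHom k A)) a) =
      LieHopf.LiePts.tangent k A φ a + LieHopf.LiePts.tangent k A ψ a := by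
  exact result' k A φ ψ a

end Groth.Agent.S3045
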