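import Groth.Statements.S3046
import Mathlib.Tactic.NoncommRing

set_option autoImplicit false
universe u
open TensorProduct
open SGA3

namespace Groth.Agent.S3046

open WithConv Coalgebra

variable (k : Type u) [CommRing k] (A : Type u) [CommRing A] [HopfAlgebra k A]

/-- The triple convolution of points is the product in the convolution monoid of algebra maps. -/
theorem conv3_eq {C : Type u} [CommRing C] [Algebra k C] (f g h : A →ₐ[k] C) :
    Dyn.conv3 k A f g h = ofConv ((toConv f * toConv g) * toConv h) := by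
  unfold Dyn.conv3
  rw [AlgHom.convMul_def, AlgHom.convMul_def]
  have e : Algebra.TensorProduct.map ((Algebra.TensorProduct.lmul' (S := C) k).comp
        ((Algebra.TensorProduct.map f g).comp (Bialgebra.comulAlgHom k A))) h =
      (Algebra.TensorProduct.map ((Algebra.TensorProduct.lmul' (S := C) k).comp
        (Algebra.TensorProduct.map f g)) h).comp
      (Algebra.TensorProduct.map (Bialgebra.comulAlgHom k A) (AlgHom.id k A)) := by
    rw [← Algebra.TensorProduct.map_comp, AlgHom.comp_assoc, AlgHom.comp_id]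
  rw [e, AlgHom.comp_assoc]

variable {k A}

/-- A point seen in the convolution ring of linear maps. -/
noncomputable def L {C : Type u} [CommRing C] [Algebra k C] (f : A →ₐ[k] C) : WithConv (A →ₗ[k] C) :=
  toConv f.toLinearMap

theorem L_mul {C : Type u} [CommRing C] [Algebra k C] (f g : A →ₐ[k] C) :
    L (ofConv (toConv f * toConv g)) = L f * L g := rfl

theorem L_conv3 {C : Type u} [CommRing C] [Algebra k C] (f g h : A →ₐ[k] C) :
    L (Dyn.conv3 k A f g h) = L f * L g * L h := by
  rw [conv3_eq]
  rfl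

theorem L_one {C : Type u} [CommRing C] [Algebra k C] :
    L ((Algebra.ofId k C).comp (Bialgebra.counitAlgHom k A)) = 1 := rfl

theorem L_mul_inv {C : Type u} [CommRing C] [Algebra k C] (f : A →ₐ[k] C) :
    L f * L (f.comp (HopfAlgebra.antipodeAlgHom k A)) = 1 := by
  have h := LinearMap.algHom_comp_convMul_distrib f (toConv (LinearMap.id : A →ₗ[k] A))
    (toConv (HopfAlgebra.antipode k (A := A)))
  rw [LinearMap.id_mul_antipode] at h
  ext a
  have h2 := congrArg (fun z : A →ₗ[k] C => z a) h
  have h3 : (L f * L (f.comp (HopfAlgebra.antipodeAlgHom k A))) a =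
      f (algebraMap k A (counit (R := k) a)) := h2.symm
  rw [h3, AlgHom.commutes]
  rfl

/-- A linear form on A seen in the convolution ring with values in R. -/
noncomputable def ell (R : Type u) [CommRing R] [Algebra k R] (δ : A →ₗ[k] k) : WithConv (A →ₗ[k] R) :=
  toConv (Algebra.linearMap k R ∘ₗ δ)

theorem ell_mul_apply (R : Type u) [CommRing R] [Algebra k R] (δ₁ δ₂ : A →ₗ[k] k) (a : A) :
    (ell R δ₁ * ell R δ₂) a = algebraMap k R (LieHopf.conv δ₁ δ₂ a) := by
  have 𝓡 := ℛ k a
  rw [𝓡.convMul_apply]
  unfold LieHopf.conv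
  simp only [LinearMap.comp_apply]
  rw [← 𝓡.eq]
  simp only [map_sum, TensorProduct.map_tmul, LinearMap.mul'_apply, map_mul]
  rfl

theorem L_ptOfLie (D : LieHopf.Lie k A) (R : Type u) [CommRing R] [Algebra k R] (t : R)
    (ht : t * t = 0) :
    L (LieHopf.ptOfLie D R t ht) = 1 + t • ell R (LieHopf.dlin D) := by
  ext a
  show algebraMap k R (Bialgebra.counitAlgHom k A a) + algebraMap k R (LieHopf.dlin D a) * t =
    algebraMap k R (counit (R := k) a) + t • algebraMap k R (LieHopf.dlin D a)
  rw [smul_eq_mul, mul_comm]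
  rfl

theorem sq_zero (R : Type u) [CommRing R] [Algebra k R] (t : R) (ht : t * t = 0)
    (d : WithConv (A →ₗ[k] R)) : (t • d) * (t • d) = 0 := by
  rw [smul_mul_assoc, mul_smul_comm, smul_smul, ht, zero_smul]

theorem L_ptOfLie_inv (D : LieHopf.Lie k A) (R : Type u) [CommRing R] [Algebra k R] (t : R)
    (ht : t * t = 0) :
    L ((LieHopf.ptOfLie D R t ht).comp (HopfAlgebra.antipodeAlgHom k A)) =
      1 - t • ell R (LieHopf.dlin D) := by
  have h1 := L_mul_inv (LieHopf.ptOfLie D R t ht)
  rw [L_ptOfLie] at h1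
  set d := t • ell R (LieHopf.dlin D) with hd
  have hdd : d * d = 0 := sq_zero R t ht _
  have h2 : (1 - d) * (1 + d) = 1 := by
    have : (1 - d) * (1 + d) = 1 - d * d := by noncomm_ring
    rw [this, hdd, sub_zero]
  exact (left_inv_eq_right_inv h2 h1).symm

theorem result (k : Type u) [CommRing k] (A : Type u) [CommRing A] [HopfAlgebra k A]
    (D E : LieHopf.Lie k A) (R : Type u) [CommRing R] [Algebra k R] (t t' : R) (ht : t * t = 0) (ht' : t' * t' = 0)
    (a : A) :
    Dyn.conv3 k A
        (Dyn.conv3 k A (LieHopf.ptOfLie D R t ht) (LieHopf.ptOfLie E R t' ht')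
          ((LieHopf.ptOfLie D R t ht).comp (HopfAlgebra.antipodeAlgHom k A)))
        ((LieHopf.ptOfLie E R t' ht').comp (HopfAlgebra.antipodeAlgHom k A))
        ((Algebra.ofId k R).comp (Bialgebra.counitAlgHom k A)) a =
      algebraMap k R (Bialgebra.counitAlgHom k A a) + algebraMap k R (LieHopf.bracketLin D E a) * (t * t') := by
  set d := ell R (LieHopf.dlin D) with hd
  set e := ell R (LieHopf.dlin E) with he
  have hL : L (Dyn.conv3 k A
        (Dyn.conv3 k A (LieHopf.ptOfLie D R t ht) (LieHopf.ptOfLie E R t' ht')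
          ((LieHopf.ptOfLie D R t ht).comp (HopfAlgebra.antipodeAlgHom k A)))
        ((LieHopf.ptOfLie E R t' ht').comp (HopfAlgebra.antipodeAlgHom k A))
        ((Algebra.ofId k R).comp (Bialgebra.counitAlgHom k A))) =
      1 + (t * t') • (d * e - e * d) := by
    rw [L_conv3, L_conv3, L_one, mul_one, L_ptOfLie, L_ptOfLie, L_ptOfLie_inv, L_ptOfLie_inv]
    rw [← hd, ← he]
    set x := t • d with hx
    set y := t' • e with hy
    have hxx : x * x = 0 := sq_zero R t ht _
    have hyy : y * y = 0 := sq_zero R t' ht' _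
    have hxyx : x * y * x = 0 := by
      rw [hx, hy, smul_mul_smul_comm, smul_mul_smul_comm, mul_comm t t', mul_assoc, ht, mul_zero,
        zero_smul]
    have hyxy : y * x * y = 0 := by
      rw [hx, hy, smul_mul_smul_comm, smul_mul_smul_comm, mul_comm t' t, mul_assoc, ht', mul_zero,
        zero_smul]
    have hxy : x * y - y * x = (t * t') • (d * e - e * d) := by
      rw [hx, hy, smul_mul_smul_comm, smul_mul_smul_comm, mul_comm t' t, smul_sub]
    have key : (1 + x) * (1 + y) * (1 - x) * (1 - y) =
        1 + (x * y - y * x) - x * x - x * y * x - y * y - x * (y * y) + x * x * y + y * x * y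
          + x * y * x * y := by noncomm_ring
    rw [key, hxx, hyy, hxyx, hyxy, hxy]
    simp
  have hev := congrArg (fun z : WithConv (A →ₗ[k] R) => z a) hL
  have hev' : Dyn.conv3 k A
        (Dyn.conv3 k A (LieHopf.ptOfLie D R t ht) (LieHopf.ptOfLie E R t' ht')
          ((LieHopf.ptOfLie D R t ht).comp (HopfAlgebra.antipodeAlgHom k A)))
        ((LieHopf.ptOfLie E R t' ht').comp (HopfAlgebra.antipodeAlgHom k A))
        ((Algebra.ofId k R).comp (Bialgebra.counitAlgHom k A)) a =
      (1 + (t * t') • (d * e - e * d) : WithConv (A →ₗ[k] R)) a := hev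
  rw [hev']
  have e1 : (1 + (t * t') • (d * e - e * d) : WithConv (A →ₗ[k] R)) a =
      algebraMap k R (counit (R := k) a) + (t * t') * ((d * e) a - (e * d) a) := rfl
  rw [e1, hd, he, ell_mul_apply, ell_mul_apply]
  have e2 : LieHopf.bracketLin D E a =
      LieHopf.conv (LieHopf.dlin D) (LieHopf.dlin E) a -
        LieHopf.conv (LieHopf.dlin E) (LieHopf.dlin D) a := rfl
  rw [e2, map_sub, mul_comm (t * t')]
  rfl

end Groth.Agent.S3046
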