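import Groth.Statements.S3055
import Groth.Agent.H4.StrictHensSection
import Groth.Agent.H4.StalkPull2

set_option autoImplicit false
open CategoryTheory CategoryTheory.Limits AlgebraicGeometry Opposite
universe u
open EtDesc

namespace Groth.Agent.S3055

open Groth.Agent.H4 GrothendieckTopology

theorem isSepClosed_of_ringEquiv {k K : Type*} [Field k] [Field K] [IsSepClosed k]
    (e : k ≃+* K) : IsSepClosed K := by
  constructor
  intro p hp
  have h1 : (p.map e.symm.toRingHom).Separable := hp.map
  have h2 := (IsSepClosed.splits_of_separable _ h1).map e.toRingHom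
  rw [Polynomial.map_map] at h2
  have h3 : e.toRingHom.comp e.symm.toRingHom = RingHom.id K := by
    ext x
    simp
  rw [h3, Polynomial.map_id] at h2
  exact h2

section hens

variable (R : Type u) [CommRing R] [HenselianLocalRing R]
  [IsSepClosed (IsLocalRing.ResidueField R)]

theorem toSheafify_top_bijective (P : (Spec (CommRingCat.of R)).Etaleᵒᵖ ⥤ Type (u + 1)) :
    Function.Bijective ((CategoryTheory.toSheafify (Spec (CommRingCat.of R)).smallEtaleTopology P).app
      (op (EtCoh.top (Spec (CommRingCat.of R))))) := by
  let Φ := Scheme.pointSmallEtale (closedGeomPt R)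
  let τ := CategoryTheory.toSheafify (Spec (CommRingCat.of R)).smallEtaleTopology P
  have b1 := toPresheafFiber_top_bijective R P
  have b2 := toPresheafFiber_top_bijective R
    (CategoryTheory.sheafify (Spec (CommRingCat.of R)).smallEtaleTopology P)
  have b3 : Function.Bijective (Φ.presheafFiber.map τ) :=
    (isIso_iff_bijective _).1 inferInstance
  have nat : ∀ z, Φ.presheafFiber.map τ
      (Φ.toPresheafFiber _ (closedGeomPtTop R) P z) =
      Φ.toPresheafFiber _ (closedGeomPtTop R)
        (CategoryTheory.sheafify (Spec (CommRingCat.of R)).smallEtaleTopology P) (τ.app _ z) := fun z =>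
    Φ.toPresheafFiber_naturality_apply τ _ _ z
  constructor
  · intro z z' h
    apply b1.1
    apply b3.1
    rw [nat, nat]
    exact congrArg _ h
  · intro w
    obtain ⟨p, hp⟩ := b3.2 (Φ.toPresheafFiber _ (closedGeomPtTop R)
      (CategoryTheory.sheafify (Spec (CommRingCat.of R)).smallEtaleTopology P) w)
    obtain ⟨z, rfl⟩ := b1.2 p
    refine ⟨z, b2.1 ?_⟩
    rw [← hp]
    exact (nat z).symm

end hens

section field

variable (k : Type u) [Field k] [IsSepClosed k]

instance isSepClosed_residueField : IsSepClosed (IsLocalRing.ResidueField k) :=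
  isSepClosed_of_ringEquiv (RingEquiv.ofBijective (IsLocalRing.residue k)
    ⟨(IsLocalRing.residue k).injective, Ideal.Quotient.mk_surjective⟩)

theorem exists_lift_closedGeomPt (U : (Spec (CommRingCat.of k)).Etale) (u : U.left) :
    ∃ t : (Scheme.pointSmallEtale (closedGeomPt k)).fiber.obj U,
      t.left.base (default : Spec (CommRingCat.of (IsLocalRing.ResidueField k))) = u := by
  obtain ⟨t, -, ht⟩ := exists_fiber_lift (closedGeomPt k)
    ((EtCore.topIsTerminal (Spec (CommRingCat.of k))).from U) (closedGeomPtTop k) u
    (@Subsingleton.elim ↥(Spec (CommRingCat.of k)) inferInstance _ _)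
  exact ⟨t, ht⟩

theorem isIso_of_bijective_sections {F G : EtDesc.Sh (Spec (CommRingCat.of k))} (φ : F ⟶ G)
    (h : Function.Bijective (φ.hom.app (op (EtCoh.top (Spec (CommRingCat.of k)))))) :
    IsIso φ := by
  let Φ := Scheme.pointSmallEtale (closedGeomPt k)
  have bF := toPresheafFiber_top_bijective k F.obj
  have bG := toPresheafFiber_top_bijective k G.obj
  have nat : ∀ z, Φ.presheafFiber.map φ.hom
      (Φ.toPresheafFiber _ (closedGeomPtTop k) F.obj z) =
      Φ.toPresheafFiber _ (closedGeomPtTop k) G.obj (φ.hom.app _ z) := fun z =>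
    Φ.toPresheafFiber_naturality_apply φ.hom _ _ z
  have hinj : Function.Injective (Φ.presheafFiber.map φ.hom) := by
    intro p p' hpp
    obtain ⟨a, rfl⟩ := bF.2 p
    obtain ⟨a', rfl⟩ := bF.2 p'
    rw [nat, nat] at hpp
    rw [h.1 (bG.1 hpp)]
  have hsurj : Function.Surjective (Φ.presheafFiber.map φ.hom) := by
    intro q
    obtain ⟨b, rfl⟩ := bG.2 q
    obtain ⟨a, rfl⟩ := h.2 b
    exact ⟨_, nat a⟩
  refine (Sheaf.isLocallyBijective_iff_isIso (A := Type (u + 1)) φ).1 ⟨?_, ?_⟩
  · exact isLocallyInjective_of_stalks' φ.hom (fun U u => by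
      obtain ⟨t, ht⟩ := exists_lift_closedGeomPt k U u
      exact ⟨_, inferInstance, inferInstance, closedGeomPt k, t, ht, hinj⟩)
  · exact isLocallySurjective_of_stalks' φ.hom (fun U u => by
      obtain ⟨t, ht⟩ := exists_lift_closedGeomPt k U u
      exact ⟨_, inferInstance, inferInstance, closedGeomPt k, t, ht, hsurj⟩)

end field

/-- For a separably closed field k and X = Spec k, the global sections functor from sheaves of sets on
X_et (valued one universe up) to sets is an equivalence of categories. -/
theorem result (k : Type u) [Field k] [IsSepClosed k] :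
    ((sheafSections (Spec (CommRingCat.of k)).smallEtaleTopology (Type (u + 1))).obj
      (op (EtCoh.top (Spec (CommRingCat.of k))))).IsEquivalence := by
  let adj := constantSheafAdj (Spec (CommRingCat.of k)).smallEtaleTopology (Type (u + 1))
    (EtCore.topIsTerminal (Spec (CommRingCat.of k)))
  haveI hunit : ∀ S, IsIso (adj.unit.app S) := by
    intro S
    have e := Adjunction.comp_unit_app
      (constantPresheafAdj (C := (Spec (CommRingCat.of k)).Etale) (Type (u + 1))
        (EtCore.topIsTerminal (Spec (CommRingCat.of k))))
      (sheafificationAdjunction (Spec (CommRingCat.of k)).smallEtaleTopology (Type (u + 1))) S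
    haveI i2 : IsIso ((CategoryTheory.toSheafify (Spec (CommRingCat.of k)).smallEtaleTopology
        ((Functor.const _).obj S)).app (op (EtCoh.top (Spec (CommRingCat.of k))))) :=
      (isIso_iff_bijective _).2 (toSheafify_top_bijective k _)
    show IsIso (((constantPresheafAdj (C := (Spec (CommRingCat.of k)).Etale) (Type (u + 1))
        (EtCore.topIsTerminal (Spec (CommRingCat.of k)))).comp
      (sheafificationAdjunction (Spec (CommRingCat.of k)).smallEtaleTopology
        (Type (u + 1)))).unit.app S)
    rw [e]
    haveI i1 : IsIso ((constantPresheafAdj (C := (Spec (CommRingCat.of k)).Etale) (Type (u + 1))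
        (EtCore.topIsTerminal (Spec (CommRingCat.of k)))).unit.app S) := by
      rw [constantPresheafAdj_unit_app]
      exact IsIso.id _
    exact @IsIso.comp_isIso _ _ _ _ _ _ _ i1 i2
  haveI hcounit : ∀ F, IsIso (adj.counit.app F) := by
    intro F
    apply isIso_of_bijective_sections k
    have tri := adj.right_triangle_components F
    haveI : IsIso (adj.unit.app (((sheafSections (Spec (CommRingCat.of k)).smallEtaleTopology
        (Type (u + 1))).obj (op (EtCoh.top (Spec (CommRingCat.of k))))).obj F) ≫
        ((sheafSections (Spec (CommRingCat.of k)).smallEtaleTopology (Type (u + 1))).obj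
          (op (EtCoh.top (Spec (CommRingCat.of k))))).map (adj.counit.app F)) := by
      rw [tri]
      exact IsIso.id _
    haveI i3 : IsIso (((sheafSections (Spec (CommRingCat.of k)).smallEtaleTopology
        (Type (u + 1))).obj (op (EtCoh.top (Spec (CommRingCat.of k))))).map
          (adj.counit.app F)) :=
      IsIso.of_isIso_comp_left (adj.unit.app _) _
    exact (isIso_iff_bijective _).1 i3
  exact adj.toEquivalence.isEquivalence_inverse

end Groth.Agent.S3055
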