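import Groth.Statements.S3058
import Groth.Agent.H28.ToposCoprod

set_option autoImplicit false
open CategoryTheory CategoryTheory.Limits Opposite
universe u
open ToposFin
open Groth.Agent.H28.Topos

namespace Groth.Agent.S3058

/-- For a topos of sheaves of sets on a small site: the coproduct of a small family of objects is
quasi-compact if and only if every member is quasi-compact and all but finitely many members are
initial (empty) objects. -/
theorem result {C : Type u} [SmallCategory C] {J : GrothendieckTopology C} {ι : Type u}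
    (F : ι → ToposFin.Sh J) :
    ToposFin.IsQC (∐ F) ↔ (∀ i, ToposFin.IsQC (F i)) ∧ {i | IsEmpty (F i ≅ ⊥_ (ToposFin.Sh J))}.Finite := by
  classical
  have hc := coproductIsCoproduct F
  constructor
  · intro h
    refine ⟨fun i => ?_, ?_⟩
    · have h1 : IsQC (pullback (Sigma.ι F i) (𝟙 (∐ F))) :=
        isQCHom_inj (Cofan.mk (∐ F) (Sigma.ι F)) hc i (∐ F) (𝟙 _) h
      exact isQC_of_iso (asIso (pullback.fst (Sigma.ι F i) (𝟙 (∐ F)))).symm h1
    · have hje : JE (Sigma.ι F) := je_inj hc
      obtain ⟨s, hs⟩ := h.exists_finset (Sigma.ι F) hje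
      refine Set.Finite.subset s.finite_toSet ?_
      intro i hi
      by_contra his
      have his' : i ∉ s := his
      have hall : ∀ (Z : Sh J) (a b : F i ⟶ Z), a = b := by
        intro Z a b
        apply je_pullback_snd hs (Sigma.ι F i)
        intro j
        have hji : (j : ι) ≠ i := fun hh => his' (hh ▸ j.2)
        obtain ⟨hT⟩ := isInitial_of_inj_eq (Cofan.mk (∐ F) (Sigma.ι F)) hc hji
          (pullback.fst (Sigma.ι F j) (Sigma.ι F i)) (pullback.snd (Sigma.ι F j) (Sigma.ι F i))
          pullback.condition
        exact hT.hom_ext _ _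
      have hepi : Epi (initial.to (F i)) := ⟨fun a b _ => hall _ a b⟩
      have hiso : IsIso (initial.to (F i)) := isIso_of_mono_of_epi _
      have hi' : IsEmpty (F i ≅ ⊥_ (Sh J)) := hi
      exact hi'.false (asIso (initial.to (F i))).symm
  · rintro ⟨hqc, hfin⟩
    have hje : JE (fun i : hfin.toFinset => Sigma.ι F i) := by
      intro Z a b hab
      apply Sigma.hom_ext
      intro i
      by_cases hi : IsEmpty (F i ≅ ⊥_ (Sh J))
      · exact hab ⟨i, hfin.mem_toFinset.mpr hi⟩
      · rw [not_isEmpty_iff] at hi
        obtain ⟨e⟩ := hi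
        exact (initialIsInitial.ofIso e.symm).hom_ext _ _
    exact isQC_of_finite_cover (fun i : hfin.toFinset => Sigma.ι F i) hje (fun i => hqc i)

end Groth.Agent.S3058
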