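import Groth.Statements.S3065
import Groth.Agent.H30.TFin

set_option autoImplicit false
open CategoryTheory CategoryTheory.Limits Opposite
universe u
open ToposFin

namespace Groth.Agent.S3065

/-- For a topos of sheaves of sets on a small site: let g : Y -> Z and let (f_k : X_k -> Y) be a finite
jointly epimorphic family. If every composite g o f_k : X_k -> Z is quasi-compact, then g is
quasi-compact. -/
theorem result {C : Type u} [SmallCategory C] {J : GrothendieckTopology C} {Y Z : ToposFin.Sh J} (g : Y ⟶ Z) {n : ℕ}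
    (X : Fin n → ToposFin.Sh J) (f : ∀ k, X k ⟶ Y) (hf : Epi (Sigma.desc f))
    (h : ∀ k, ToposFin.IsQCHom (f k ≫ g)) : ToposFin.IsQCHom g := by
  rw [Groth.Agent.H30.TFin.isQCHom_iff]
  intro Q Z' q₁ q₂ t hQ hZ'
  have hJE : Groth.Agent.H30.TFin.JE (fun k => pullback.snd (f k) q₁) :=
    ((Groth.Agent.H30.TFin.epi_sigmaDesc_iff f).1 hf).pullback q₁
  refine Groth.Agent.H30.TFin.IsQC.of_je_finite _ hJE (fun k => ?_)
  have hk := (Groth.Agent.H30.TFin.isQCHom_iff _).1 (h k)
  exact hk _ _ t ((IsPullback.of_hasPullback (f k) q₁).paste_vert hQ) hZ'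

end Groth.Agent.S3065
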