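import Groth.Statements.S3067
import Groth.Agent.H30.TFin

set_option autoImplicit false
open CategoryTheory CategoryTheory.Limits Opposite
universe u
open ToposFin

namespace Groth.Agent.S3067

/-- In the topos of sheaves of sets on a small site that admits a generating family of quasi-compact
objects, let (g_i : Y_i → Y) be a jointly epimorphic family of morphisms with every Y_i coherent.
Then Y is quasi-separated if and only if every g_i is quasi-compact, and Y is quasi-separated if and
only if every fibre product Y_i ×_Y Y_j is quasi-compact. -/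
theorem result {C : Type u} [SmallCategory C] {J : GrothendieckTopology C} (hE : ToposFin.HasQCGenerators J) {Y : ToposFin.Sh J} {ι : Type u}
    (Yi : ι → ToposFin.Sh J) (g : ∀ i, Yi i ⟶ Y) (hg : Epi (Sigma.desc g)) (hY : ∀ i, ToposFin.IsCoherent (Yi i)) :
    (ToposFin.IsQS Y ↔ ∀ i, ToposFin.IsQCHom (g i)) ∧
    (ToposFin.IsQS Y ↔ ∀ i j, ToposFin.IsQC (pullback (g i) (g j))) := by
  have hJE := (Groth.Agent.H30.TFin.epi_sigmaDesc_iff g).1 hg
  have key : (∀ i, ToposFin.IsQCHom (g i)) → ToposFin.IsQS Y := fun h =>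
    Groth.Agent.H30.TFin.IsQS.of_local g hJE (fun i => (hY i).2) h
  refine ⟨⟨fun h i => ?_, key⟩, ⟨fun h i j => h _ _ (g i) (g j) (hY i).1 (hY j).1, fun h => key (fun i => ?_)⟩⟩
  · exact (Groth.Agent.H30.TFin.isQCHom_iff _).2
      (Groth.Agent.H30.TFin.QCHom.of_isQC_of_isQS (g i) (hY i).1 h)
  · rw [Groth.Agent.H30.TFin.isQCHom_iff]
    exact Groth.Agent.H30.TFin.QCHom.of_local hE (g i) g hJE (fun j => pullback.fst (g i) (g j))
      (fun j => pullback.snd (g i) (g j)) (fun j => IsPullback.of_hasPullback (g i) (g j))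
      (fun j => Groth.Agent.H30.TFin.QCHom.of_isQC_of_isQS _ (h i j) (hY j).2)

end Groth.Agent.S3067
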