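import Groth.Statements.S3071
import Groth.Agent.H30.TFin

set_option autoImplicit false
open CategoryTheory CategoryTheory.Limits Opposite
universe u
open ToposFin

namespace Groth.Agent.S3071

/-- Implication (ii bis) => (i bis), for a topos of sheaves of sets on a small site: suppose given a
generating family of coherent objects G_a such that every product G_a x G_b is quasi-separated. Then
for every morphism f : X -> Y with X quasi-separated, f is quasi-separated. -/
theorem result {C : Type u} [SmallCategory C] {J : GrothendieckTopology C} {α : Type u} (G : α → ToposFin.Sh J)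
    (hG : ∀ a, ToposFin.IsCoherent (G a))
    (hgen : ∀ X : ToposFin.Sh J, ∃ (ι : Type u) (a : ι → α) (π : ∀ i, G (a i) ⟶ X), Epi (Sigma.desc π))
    (hprod : ∀ a b, ToposFin.IsQS (G a ⨯ G b)) {X Y : ToposFin.Sh J} (f : X ⟶ Y) (hX : ToposFin.IsQS X) :
    ToposFin.IsQSHom f := by
  have hE : ToposFin.HasQCGenerators J := fun X => by
    obtain ⟨ι, a, π, hπ⟩ := hgen X
    exact ⟨ι, fun i => G (a i), π, fun i => (hG (a i)).1, hπ⟩
  obtain ⟨ι, a, π, hπ⟩ := hgen X
  have hJE := (Groth.Agent.H30.TFin.epi_sigmaDesc_iff π).1 hπ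
  refine Groth.Agent.H30.TFin.isQSHom_of_cover hE f π hJE (fun i j =>
    Groth.Agent.H30.TFin.QCHom.of_isQC_of_isQS _
      (hX _ _ (π i) (π j) (hG (a i)).1 (hG (a j)).1) ?_)
  let m : pullback (π i ≫ f) (π j ≫ f) ⟶ G (a i) ⨯ G (a j) :=
    prod.lift (pullback.fst _ _) (pullback.snd _ _)
  have : Mono m := ⟨fun x y hxy => by
    apply pullback.hom_ext
    · have e1 : ∀ {W : ToposFin.Sh J} (z : W ⟶ pullback (π i ≫ f) (π j ≫ f)),
          (z ≫ m) ≫ prod.fst = z ≫ pullback.fst _ _ := fun z => by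
        rw [Category.assoc]; exact congrArg (z ≫ ·) (prod.lift_fst _ _)
      rw [← e1, ← e1, hxy]
    · have e2 : ∀ {W : ToposFin.Sh J} (z : W ⟶ pullback (π i ≫ f) (π j ≫ f)),
          (z ≫ m) ≫ prod.snd = z ≫ pullback.snd _ _ := fun z => by
        rw [Category.assoc]; exact congrArg (z ≫ ·) (prod.lift_snd _ _)
      rw [← e2, ← e2, hxy]⟩
  exact Groth.Agent.H30.TFin.IsQS.of_mono m (hprod (a i) (a j))

end Groth.Agent.S3071
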