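import Groth.Statements.S3074
import Groth.Agent.H28.ToposCoprod
import Mathlib.CategoryTheory.Limits.Shapes.Pullback.Mono

set_option autoImplicit false
open CategoryTheory CategoryTheory.Limits Opposite
universe u
open ToposFin
open Groth.Agent.H28.Topos

namespace Groth.Agent.S3074

theorem isQC_pullback_comp_mono {C : Type u} [SmallCategory C] {J : GrothendieckTopology C}
    {A B X Y : Sh J} (x : A ⟶ X) (y : B ⟶ X) (m : X ⟶ Y) [Mono m] (h : IsQC (pullback x y)) :
    IsQC (pullback (x ≫ m) (y ≫ m)) :=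
  isQC_of_iso (IsPullback.of_isLimit (pullbackIsPullbackOfCompMono x y m)).isoPullback.symm h

theorem aux {C : Type u} [SmallCategory C] {J : GrothendieckTopology C} {ι : Type u}
    (F : ι → Sh J) (hF : ∀ i, IsQS (F i)) {c : Cofan F} (hc : IsColimit c) (i j : ι)
    {A' B' : Sh J} (x : A' ⟶ F i) (y : B' ⟶ F j) (hA' : IsQC A') (hB' : IsQC B') :
    IsQC (pullback (x ≫ c.inj i) (y ≫ c.inj j)) := by
  by_cases hij : i = j
  · subst hij
    have hmono : Mono (c.inj i) := mono_inj c hc i
    exact isQC_pullback_comp_mono x y (c.inj i) (hF i A' B' x y hA' hB')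
  · have h : (pullback.fst (x ≫ c.inj i) (y ≫ c.inj j) ≫ x) ≫ c.inj i =
        (pullback.snd (x ≫ c.inj i) (y ≫ c.inj j) ≫ y) ≫ c.inj j := by
      rw [Category.assoc, Category.assoc]
      exact pullback.condition
    obtain ⟨hT⟩ := isInitial_of_inj_eq c hc hij _ _ h
    exact isQC_of_isInitial hT

/-- For a topos of sheaves of sets on a small site: (1) a subobject of a quasi-separated object is
quasi-separated; (2) the coproduct of a small family (X_i) is quasi-separated if and only if every
X_i is. -/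
theorem result {C : Type u} [SmallCategory C] {J : GrothendieckTopology C} :
    (∀ {X Y : ToposFin.Sh J} (i : X ⟶ Y) [Mono i], ToposFin.IsQS Y → ToposFin.IsQS X) ∧
    ∀ {ι : Type u} (F : ι → ToposFin.Sh J), ToposFin.IsQS (∐ F) ↔ ∀ i, ToposFin.IsQS (F i) := by
  refine ⟨fun i _ hY => isQS_of_mono i hY, ?_⟩
  intro ι F
  have hc := coproductIsCoproduct F
  constructor
  · intro h i
    have hmono : Mono (Sigma.ι F i) := mono_inj (Cofan.mk (∐ F) (Sigma.ι F)) hc i
    exact isQS_of_mono (Sigma.ι F i) h
  · intro hF A B a b hA hB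
    have hAi : ∀ i, IsQC (pullback (Sigma.ι F i) a) :=
      fun i => isQCHom_inj (Cofan.mk (∐ F) (Sigma.ι F)) hc i A a hA
    have hBj : ∀ j, IsQC (pullback (Sigma.ι F j) b) :=
      fun j => isQCHom_inj (Cofan.mk (∐ F) (Sigma.ι F)) hc j B b hB
    have hje : JE (Sigma.ι F) := je_inj hc
    obtain ⟨s, hs⟩ := hA.exists_finset _ (je_pullback_snd hje a)
    obtain ⟨s', hs'⟩ := hB.exists_finset _ (je_pullback_snd hje b)
    refine isQC_pullback_of_covers a b _ hs _ hs' (fun i j => ?_)
    refine isQC_pullback_congr pullback.condition.symm pullback.condition.symm ?_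
    exact aux F hF hc i j _ _ (hAi i) (hBj j)

end Groth.Agent.S3074
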