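import Groth.Statements.S6159
import Groth.Agent.S3079
import Groth.Agent.H30.CanSheaf
import Mathlib.CategoryTheory.Limits.Preserves.Opposites
import Mathlib.CategoryTheory.Sites.Continuous

set_option autoImplicit false
universe u
open CategoryTheory
open SGA4

namespace Groth.Agent.S6159

open CategoryTheory.Limits in
/-- Sheaf topoi on small sites (C, J), (D, K), each with its canonical topology: a functor f from
sheaves of sets on C to sheaves of sets on D commutes with all u-small colimits if and only if it is
continuous, i.e. composition with f carries every sheaf of sets for the canonical topology of the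
target to a sheaf for the canonical topology of the source. (Continuity is Mathlib's
`Functor.IsContinuous`: on these large sites it tests sheaves with values in the next universe,
`Type (u+1)`, which is the source's choice of a larger universe for the test sheaves; the hom
universe is u. The equivalence of both conditions with f being a left adjoint is a separate result,
not stated here.) -/
theorem result {C D : Type u} [SmallCategory C] [SmallCategory D]
    (J : GrothendieckTopology C) (K : GrothendieckTopology D) (f : Sheaf J (Type u) ⥤ Sheaf K (Type u)) :
    PreservesColimitsOfSize.{u, u} f ↔
      f.IsContinuous.{u} (Sheaf.canonicalTopology (Sheaf J (Type u))) (Sheaf.canonicalTopology (Sheaf K (Type u))) := by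
  constructor
  · intro h
    haveI := h
    haveI : PreservesLimitsOfSize.{u, u} f.op := preservesLimitsOfSize_op f
    constructor
    intro G
    have hG : Presieve.IsSheaf _ G.obj := (isSheaf_iff_isSheaf_of_type _ _).1 G.property
    haveI := H30.CanSheaf.preserves_of_isSheaf G.obj hG
    exact H30.CanSheaf.isSheaf_of_preserves (f.op ⋙ G.obj)
  · intro h
    haveI := h
    have key : Presheaf.IsSheaf (Sheaf.canonicalTopology (Sheaf J (Type u))) f.op := by
      intro W
      have h2 := Functor.op_comp_isSheaf_of_types f
        (Sheaf.canonicalTopology (Sheaf J (Type u))) (Sheaf.canonicalTopology (Sheaf K (Type u)))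
        ⟨yoneda.obj W.unop, (isSheaf_iff_isSheaf_of_type _ _).2 (Sheaf.isSheaf_yoneda_obj W.unop)⟩
      exact Presieve.isSheaf_iso _
        (Functor.isoWhiskerLeft f.op (Coyoneda.objOpOp W.unop).symm) h2
    haveI : PreservesLimitsOfSize.{u, u} f.op := (Groth.Agent.S3079.result J f.op).1 key
    exact preservesColimitsOfSize_of_op f

end Groth.Agent.S6159
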