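import Groth.Statements.S3084
import Groth.Agent.S12107
import Groth.Agent.H30.OpenClosed

set_option autoImplicit false
universe u
open CategoryTheory
open SGA4

namespace Groth.Agent.S3084

open CategoryTheory.Limits in
/-- For sheaves of sets on a small site: let U be an open, j^* = (X ↦ U × X over U) the restriction to
the open subtopos E/U and i^* any left adjoint of the inclusion of the closed complement of U. A
morphism m of E is an isomorphism if and only if both j^*(m) and i^*(m) are isomorphisms. -/
theorem result {C : Type u} [SmallCategory C] (J : GrothendieckTopology C)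
    (U : Sheaf J (Type u)) (hU : SGA4.IsOpen U)
    (L : Sheaf J (Type u) ⥤ (SGA4.closedCompl U).FullSubcategory) (adj : L ⊣ (SGA4.closedCompl U).ι)
    {X Y : Sheaf J (Type u)} (m : X ⟶ Y) :
    IsIso m ↔ IsIso ((Over.star U).map m) ∧ IsIso (L.map m) := by
  have hU' : Mono (terminal.from U) := hU
  constructor
  · intro h
    exact ⟨inferInstance, inferInstance⟩
  · rintro ⟨h1, h2⟩
    have h1' : IsIso (prod.map (𝟙 U) m) := by
      have h3 : IsIso ((Over.forget U).map ((Over.star U).map m)) := inferInstance
      have e : (Over.forget U).map ((Over.star U).map m) = prod.map (𝟙 U) m :=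
        Over.star_map_left U m
      exact e ▸ h3
    have hk : IsIso (H30.OpenClosed.mapCU hU' m) := H30.OpenClosed.isIso_mapCU adj hU' m
    have sq := (Groth.Agent.S12107.result J U hU m (H30.OpenClosed.mapCU hU' m)
      (H30.OpenClosed.il_mapCU hU' m) (H30.OpenClosed.ir_mapCU hU' m)).2 h1'
    exact sq.isIso_fst_of_isIso

end Groth.Agent.S3084
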