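import Groth.Statements.S3085
import Groth.Agent.S3084
import Groth.Agent.H30.ClosedRefl
import Groth.Agent.H53.Recoll
import Mathlib.CategoryTheory.Adjunction.Triple
import Mathlib.CategoryTheory.Adjunction.Limits

set_option autoImplicit false
universe u
open CategoryTheory
open SGA4

namespace Groth.Agent.S3085

open CategoryTheory.Limits in
lemma isIso_lift {E : Type*} [Category E] [HasBinaryProducts E] [HasTerminal E] {U X : E}
    (hU : Mono (terminal.from U)) (h : X ⟶ U) : IsIso (prod.lift h (𝟙 X)) := by
  refine ⟨⟨prod.snd, prod.lift_snd _ _, ?_⟩⟩
  apply Limits.prod.hom_ext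
  · rw [Category.assoc, prod.lift_fst, Category.id_comp]
    exact (cancel_mono (terminal.from U)).1 (Subsingleton.elim _ _)
  · rw [Category.assoc, prod.lift_snd, Category.id_comp, Category.comp_id]

open CategoryTheory.Limits in
/-- Gluing a topos from an open subtopos and its closed complement, for sheaves of sets on a small site:
let E be the category of sheaves of sets on a small site, U an open of E (a subobject of the final
object) with restriction functor j^* : E → E/U, X ↦ U × X; assume j^* has a right adjoint j_* (true
in any topos; taken as an instance hypothesis), and let i^* be a left adjoint of the inclusion of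
the closed complement F of U. With ρ = i^* ∘ j_* : E/U → F, the category E is equivalent to the
glued category of triples (Y in F, X in E/U, Y → ρX). (Only the existence of an equivalence is
asserted; the published statement gives it explicitly as X ↦ (i^*X, j^*X, i^*(X → j_*j^*X)).) -/
theorem result {C : Type u} [SmallCategory C] (J : GrothendieckTopology C)
    (U : Sheaf J (Type u)) (hU : SGA4.IsOpen U) [(Over.star U).IsLeftAdjoint]
    (L : Sheaf J (Type u) ⥤ (SGA4.closedCompl U).FullSubcategory) (adj : L ⊣ (SGA4.closedCompl U).ι) :
    Nonempty (Sheaf J (Type u) ≌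
      Comma (𝟭 (SGA4.closedCompl U).FullSubcategory) ((Over.star U).rightAdjoint ⋙ L)) := by
  have hU' : Mono (terminal.from U) := hU
  let adjJ : Over.star U ⊣ (Over.star U).rightAdjoint := Adjunction.ofIsLeftAdjoint (Over.star U)
  have : PreservesFiniteLimits L := H30.ClosedRefl.preservesFiniteLimits_of_adj adj
  have : PreservesLimitsOfShape WalkingCospan L := inferInstance
  have : PreservesLimitsOfShape WalkingCospan (Over.star U) :=
    have := (Over.forgetAdjStar U).rightAdjoint_preservesLimits
    inferInstance
  have : ∀ Y, IsIso (adj.counit.app Y) := fun Y => inferInstance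
  have hunit : IsIso (Over.forgetAdjStar U).unit := by
    have : ∀ Y : Over U, IsIso ((Over.forgetAdjStar U).unit.app Y) := fun Y => by
      have : IsIso ((Over.forget U).map ((Over.forgetAdjStar U).unit.app Y)) := by
        rw [Over.forget_map, Over.forgetAdjStar_unit_app_left]
        exact isIso_lift hU' Y.hom
      exact isIso_of_reflects_iso _ (Over.forget U)
    exact NatIso.isIso_of_isIso_app _
  have hcounit : IsIso adjJ.counit :=
    (Adjunction.Triple.mk (Over.forgetAdjStar U) adjJ).isIso_unit_iff_isIso_counit.1 hunit
  have : ∀ Y, IsIso (adjJ.counit.app Y) := fun Y => inferInstance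
  have hT : ∀ Y : (SGA4.closedCompl U).FullSubcategory,
      IsTerminal ((Over.star U).obj ((SGA4.closedCompl U).ι.obj Y)) := fun Y =>
    IsTerminal.ofUniqueHom
      (fun Z => (Over.forgetAdjStar U).homEquiv Z Y.obj
        (Z.hom ≫ H30.OpenClosed.fromU Y.property))
      (fun Z m => by
        apply ((Over.forgetAdjStar U).homEquiv Z Y.obj).symm.injective
        rw [Equiv.symm_apply_apply]
        exact H30.OpenClosed.hom_eq_of_closedCompl Y.property Z.hom _ _)
  exact H53.Recoll.nonempty_equiv adjJ adj hT
    (fun m h1 h2 => (S3084.result J U hU L adj m).2 ⟨h1, h2⟩)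

end Groth.Agent.S3085
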