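import Groth.Statements.S3093
-- import your own Groth.Agent.* helpers here

set_option autoImplicit false
universe u
open CohTop

namespace Groth.Agent.S3093

/-- Let X be a topological space and K ⊆ X a compact subset such that any two distinct points of K have
disjoint open neighbourhoods in X. If A and B are subsets of K that are closed in K and W is an open
subset of X containing A ∩ B, then there are open subsets U ⊇ A and V ⊇ B of X with U ∩ V ⊆ W. -/
theorem result {X : Type u} [TopologicalSpace X] {K : Set X} (hK : IsCompact K)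
    (hsep : ∀ x ∈ K, ∀ y ∈ K, x ≠ y → ∃ U V : Set X, IsOpen U ∧ IsOpen V ∧ x ∈ U ∧ y ∈ V ∧ Disjoint U V)
    {A B W : Set X} (hA : A ⊆ K) (hB : B ⊆ K) (hAc : IsClosed (Subtype.val ⁻¹' A : Set K))
    (hBc : IsClosed (Subtype.val ⁻¹' B : Set K)) (hW : IsOpen W) (hABW : A ∩ B ⊆ W) :
    ∃ U V : Set X, IsOpen U ∧ IsOpen V ∧ A ⊆ U ∧ B ⊆ V ∧ U ∩ V ⊆ W := by
  classical
  -- compactness of closed-in-K subsets
  have hcomp : ∀ {C : Set X}, C ⊆ K → IsClosed (Subtype.val ⁻¹' C : Set K) → IsCompact (C \ W) := by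
    intro C hC hCc
    have hKc : CompactSpace K := isCompact_iff_compactSpace.mp hK
    have h1 : IsClosed ((Subtype.val ⁻¹' (C \ W)) : Set K) := by
      have : (Subtype.val ⁻¹' (C \ W) : Set K) = (Subtype.val ⁻¹' C) ∩ (Subtype.val ⁻¹' W)ᶜ := by
        ext x; simp
      rw [this]
      exact hCc.inter (hW.preimage continuous_subtype_val).isClosed_compl
    have h2 : IsCompact ((Subtype.val ⁻¹' (C \ W)) : Set K) := h1.isCompact
    have h3 := h2.image continuous_subtype_val
    have : Subtype.val '' (Subtype.val ⁻¹' (C \ W) : Set K) = C \ W := by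
      rw [Subtype.image_preimage_coe]
      ext x
      constructor
      · rintro ⟨_, hx⟩; exact hx
      · intro hx; exact ⟨hC hx.1, hx⟩
    rwa [this] at h3
  have hA' := hcomp hA hAc
  have hB' := hcomp hB hBc
  have hdisj : Disjoint (nhdsSet (A \ W)) (nhdsSet (B \ W)) := by
    rw [hA'.disjoint_nhdsSet_left]
    intro a ha
    rw [hB'.disjoint_nhdsSet_right]
    intro b hb
    have hne : a ≠ b := by
      rintro rfl
      exact ha.2 (hABW ⟨ha.1, hb.1⟩)
    obtain ⟨U, V, hU, hV, haU, hbV, hUV⟩ := hsep a (hA ha.1) b (hB hb.1) hne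
    exact Filter.disjoint_iff.mpr ⟨U, hU.mem_nhds haU, V, hV.mem_nhds hbV, hUV⟩
  rw [← separatedNhds_iff_disjoint] at hdisj
  obtain ⟨U, V, hU, hV, hAU, hBV, hUV⟩ := hdisj
  refine ⟨U ∪ W, V ∪ W, hU.union hW, hV.union hW, ?_, ?_, ?_⟩
  · intro x hx
    by_cases hxW : x ∈ W
    · exact Or.inr hxW
    · exact Or.inl (hAU ⟨hx, hxW⟩)
  · intro x hx
    by_cases hxW : x ∈ W
    · exact Or.inr hxW
    · exact Or.inl (hBV ⟨hx, hxW⟩)
  · rintro x ⟨hx1 | hx1, hx2 | hx2⟩
    · exact absurd hx2 (Set.disjoint_left.mp hUV hx1)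
    · exact hx2
    · exact hx1
    · exact hx1

end Groth.Agent.S3093
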