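import Groth.Statements.S3129
import Mathlib

set_option autoImplicit false
set_option linter.style.haveILetI false
set_option linter.unusedSectionVars false
set_option linter.unusedVariables false
open BigOperators
open SGA4h

namespace Groth.Agent.S3129

section Helpers

theorem mulchar_prod_apply {F R : Type} [Field F] [CommRing R] {ι : Type} (s : Finset ι)
    (f : ι → MulChar F R) (u : F) (hu : u ≠ 0) : (∏ i ∈ s, f i) u = ∏ i ∈ s, f i u := by
  classical
  induction s using Finset.induction_on with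
  | empty =>
    rw [Finset.prod_empty, Finset.prod_empty]
    exact MulChar.one_apply (isUnit_iff_ne_zero.mpr hu)
  | insert a s ha ih =>
    rw [Finset.prod_insert ha, Finset.prod_insert ha, MulChar.mul_apply, ih]

theorem addchar_sum {F R : Type} [Field F] [CommRing R] (Ψ : AddChar F R) {ι : Type}
    (s : Finset ι) (a : ι → F) : Ψ (∑ i ∈ s, a i) = ∏ i ∈ s, Ψ (a i) := by
  classical
  induction s using Finset.induction_on with
  | empty => rw [Finset.sum_empty, Finset.prod_empty, AddChar.map_zero_eq_one]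
  | insert b s hb ih =>
    rw [Finset.sum_insert hb, Finset.prod_insert hb, AddChar.map_add_eq_mul, ih]

theorem sumP_zero {F R : Type} [Field F] [Fintype F] [DecidableEq F] [CommRing R] [IsDomain R]
    (N : ℕ) (φ : Fin N → MulChar F R) (i₀ : Fin N) (h : φ i₀ ≠ 1) :
    ∑ x : Fin N → F, ∏ i, φ i (x i) = 0 := by
  have h1 : ∏ i, ∑ a : F, φ i a = ∑ x : Fin N → F, ∏ i, φ i (x i) := by
    rw [Finset.prod_univ_sum, Fintype.piFinset_univ]
  rw [← h1]
  exact Finset.prod_eq_zero (Finset.mem_univ i₀) (MulChar.sum_eq_zero_of_ne_one h)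

def scaleEquiv {F : Type} [Field F] (N : ℕ) (u : F) (hu : u ≠ 0) :
    (Fin N → F) ≃ (Fin N → F) where
  toFun x i := u * x i
  invFun y i := u⁻¹ * y i
  left_inv x := by funext i; exact inv_mul_cancel_left₀ hu (x i)
  right_inv y := by funext i; exact mul_inv_cancel_left₀ hu (y i)

theorem inner_eq {F R : Type} [Field F] [Fintype F] [DecidableEq F] [CommRing R] [IsDomain R]
    (N : ℕ) (ψ : Fin (N + 1) → MulChar F R) (hprod : ∏ i, ψ i = 1) (i₀ : Fin N)
    (hi₀ : ψ i₀.succ ≠ 1) (Ψ : AddChar F R) (y0 : F) :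
    ∑ y' : Fin N → F, (Ψ y0 * ψ 0 y0) * ∏ i : Fin N, (Ψ (y' i) * ψ i.succ (y' i)) =
      ∑ x : Fin N → F, Ψ (y0 * (1 + ∑ i, x i)) * ∏ i : Fin N, ψ i.succ (x i) := by
  by_cases hy : y0 = 0
  · rw [hy]
    have h1 : ψ 0 (0 : F) = 0 := MulChar.map_zero _
    simp only [h1, mul_zero, zero_mul, Finset.sum_const_zero, AddChar.map_zero_eq_one, one_mul]
    exact (sumP_zero N (fun i => ψ i.succ) i₀ hi₀).symm
  · rw [← (scaleEquiv N y0 hy).sum_comp]
    apply Finset.sum_congr rfl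
    intro x _
    show (Ψ y0 * ψ 0 y0) * ∏ i : Fin N, (Ψ (y0 * x i) * ψ i.succ (y0 * x i)) = _
    rw [Finset.prod_mul_distrib]
    have hΨ : Ψ y0 * ∏ i : Fin N, Ψ (y0 * x i) = Ψ (y0 * (1 + ∑ i, x i)) := by
      rw [mul_add, mul_one, AddChar.map_add_eq_mul, Finset.mul_sum, addchar_sum]
    have hψ : ψ 0 y0 * ∏ i : Fin N, ψ i.succ (y0 * x i) = ∏ i : Fin N, ψ i.succ (x i) := by
      have h2 : ∀ i : Fin N, ψ i.succ (y0 * x i) = ψ i.succ y0 * ψ i.succ (x i) :=
        fun i => map_mul _ _ _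
      rw [Finset.prod_congr rfl (fun i _ => h2 i), Finset.prod_mul_distrib, ← mul_assoc]
      have h3 : ψ 0 y0 * ∏ i : Fin N, ψ i.succ y0 = 1 := by
        have h4 := mulchar_prod_apply Finset.univ ψ y0 hy
        rw [hprod, MulChar.one_apply (isUnit_iff_ne_zero.mpr hy), Fin.prod_univ_succ] at h4
        exact h4.symm
      rw [h3, one_mul]
    rw [← hΨ, ← hψ]
    ring

theorem T_eq {F R : Type} [Field F] [Fintype F] [DecidableEq F] [CommRing R] [IsDomain R]
    (N : ℕ) (ψ : Fin (N + 1) → MulChar F R) (hprod : ∏ i, ψ i = 1) (i₀ : Fin N)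
    (hi₀ : ψ i₀.succ ≠ 1) (Ψ : AddChar F R) (hΨ : Ψ ≠ 1) :
    ∑ y : Fin (N + 1) → F, ∏ i, (Ψ (y i) * ψ i (y i)) =
      (Fintype.card F : R) *
        ∑ x ∈ (Finset.univ : Finset (Fin N → F)).filter (fun x => 1 + ∑ i, x i = 0),
          ∏ i : Fin N, ψ i.succ (x i) := by
  have h0 := (Fin.consEquiv (fun _ : Fin (N + 1) => F)).sum_comp
    (fun y => ∏ i, (Ψ (y i) * ψ i (y i)))
  rw [← h0, Fintype.sum_prod_type]
  have h1 : ∀ (y0 : F), ∑ y' : Fin N → F,
      ∏ i, (Ψ (Fin.consEquiv (fun _ : Fin (N + 1) => F) (y0, y') i) *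
        ψ i (Fin.consEquiv (fun _ : Fin (N + 1) => F) (y0, y') i)) =
      ∑ x : Fin N → F, Ψ (y0 * (1 + ∑ i, x i)) * ∏ i : Fin N, ψ i.succ (x i) := by
    intro y0
    rw [← inner_eq N ψ hprod i₀ hi₀ Ψ y0]
    apply Finset.sum_congr rfl
    intro y' _
    rw [Fin.prod_univ_succ]
    simp only [Fin.consEquiv_apply, Fin.cons_zero, Fin.cons_succ]
  rw [Finset.sum_congr rfl (fun y0 _ => h1 y0), Finset.sum_comm]
  have h2 : ∀ x : Fin N → F,
      ∑ y0 : F, Ψ (y0 * (1 + ∑ i, x i)) * ∏ i : Fin N, ψ i.succ (x i) =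
      (if 1 + ∑ i, x i = 0 then (Fintype.card F : R) else 0) * ∏ i : Fin N, ψ i.succ (x i) := by
    intro x
    rw [← Finset.sum_mul, AddChar.sum_mulShift _ (AddChar.IsPrimitive.of_ne_one hΨ),
      Nat.cast_ite, Nat.cast_zero]
  rw [Finset.sum_congr rfl (fun x _ => h2 x), Finset.mul_sum, Finset.sum_filter]
  apply Finset.sum_congr rfl
  intro x _
  split_ifs
  · rfl
  · rw [zero_mul]

theorem J_eq {F R : Type} [Field F] [Fintype F] [DecidableEq F] [CommRing R] [IsDomain R]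
    (N : ℕ) (φ : Fin N → MulChar F R) :
    ∑ x ∈ (Finset.univ : Finset (Fin N → Fˣ)).filter (fun x => ∑ i, ((x i : Fˣ) : F) = -1),
        ∏ i : Fin N, φ i ((x i : Fˣ) : F) =
      ∑ x ∈ (Finset.univ : Finset (Fin N → F)).filter (fun x => 1 + ∑ i, x i = 0),
        ∏ i : Fin N, φ i (x i) := by
  apply Finset.sum_bij_ne_zero (fun x _ _ => fun i => ((x i : Fˣ) : F))
  · intro x hx _
    rw [Finset.mem_filter] at hx ⊢
    refine ⟨Finset.mem_univ _, ?_⟩
    show 1 + ∑ i, ((x i : Fˣ) : F) = 0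
    rw [hx.2, add_neg_cancel]
  · intro x₁ _ _ x₂ _ _ h
    funext i
    exact Units.ext (congr_fun h i)
  · intro y hy hne
    have hy0 : ∀ i, y i ≠ 0 := by
      intro i hi
      apply hne
      apply Finset.prod_eq_zero (Finset.mem_univ i)
      rw [hi]
      exact MulChar.map_zero _
    refine ⟨fun i => Units.mk0 (y i) (hy0 i), ?_, ?_, ?_⟩
    · rw [Finset.mem_filter] at hy ⊢
      refine ⟨Finset.mem_univ _, ?_⟩
      simp only [Units.val_mk0]
      linear_combination hy.2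
    · simp only [Units.val_mk0]
      exact hne
    · funext i
      rfl
  · intro x _ _
    rfl

end Helpers

/-- Let F be a finite field with q elements, N ≥ 1, χ₀, …, χ_N multiplicative characters of F with
values in a domain, not all trivial and with product 1, and Ψ a nontrivial additive character of F.
Put τ(χ, Ψ) = −Σ_{x ∈ F} Ψ(x) χ⁻¹(x) and J(χ) = (−1)^{N−1} Σ χ₁⁻¹(x₁) ⋯ χ_N⁻¹(x_N), the sum over x₁,
…, x_N ∈ F^* with x₁ + ⋯ + x_N = −1. Then q · J(χ) = τ(χ₀, Ψ) ⋯ τ(χ_N, Ψ). -/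
theorem result (F : Type) [Field F] [Fintype F] [DecidableEq F] (R : Type) [CommRing R] [IsDomain R]
    (N : ℕ) (hN : 1 ≤ N) (χ : Fin (N + 1) → MulChar F R) (hprod : ∏ i, χ i = 1) (hnt : ∃ i, χ i ≠ 1)
    (Ψ : AddChar F R) (hΨ : Ψ ≠ 1) :
    (Fintype.card F : R) * ((-1) ^ (N - 1) *
        ∑ x ∈ (Finset.univ : Finset (Fin N → Fˣ)).filter (fun x => ∑ i, ((x i : Fˣ) : F) = -1),
          ∏ i : Fin N, (χ i.succ)⁻¹ ((x i : Fˣ) : F)) =
      ∏ i : Fin (N + 1), (-(∑ y : F, Ψ y * (χ i)⁻¹ y)) := by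
  obtain ⟨ψ, hψ⟩ : ∃ ψ : Fin (N + 1) → MulChar F R, ψ = fun i => (χ i)⁻¹ := ⟨_, rfl⟩
  have hψi : ∀ i, ψ i = (χ i)⁻¹ := fun i => by rw [hψ]
  have hψprod : ∏ i, ψ i = 1 := by
    rw [Finset.prod_congr rfl (fun i _ => hψi i), Finset.prod_inv_distrib, hprod, inv_one]
  have hex : ∃ i₀ : Fin N, ψ i₀.succ ≠ 1 := by
    by_contra hcon
    push Not at hcon
    have hχs : ∀ i : Fin N, χ i.succ = 1 := by
      intro i
      have h1 := hcon i
      rw [hψi] at h1
      exact inv_eq_one.mp h1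
    have hχ0 : χ 0 = 1 := by
      have h := hprod
      rw [Fin.prod_univ_succ, Finset.prod_congr rfl (fun i _ => hχs i), Finset.prod_const_one,
        mul_one] at h
      exact h
    obtain ⟨i, hi⟩ := hnt
    apply hi
    induction i using Fin.cases with
    | zero => exact hχ0
    | succ j => exact hχs j
  obtain ⟨i₀, hi₀⟩ := hex
  have hT := T_eq N ψ hψprod i₀ hi₀ Ψ hΨ
  have hJ : ∑ x ∈ (Finset.univ : Finset (Fin N → Fˣ)).filter
        (fun x => ∑ i, ((x i : Fˣ) : F) = -1), ∏ i : Fin N, ψ i.succ ((x i : Fˣ) : F) =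
      ∑ x ∈ (Finset.univ : Finset (Fin N → F)).filter (fun x => 1 + ∑ i, x i = 0),
        ∏ i : Fin N, ψ i.succ (x i) := J_eq N (fun i => ψ i.succ)
  have hA : ∏ i : Fin (N + 1), ∑ y : F, Ψ y * ψ i y =
      ∑ y : Fin (N + 1) → F, ∏ i, (Ψ (y i) * ψ i (y i)) := by
    rw [Finset.prod_univ_sum, Fintype.piFinset_univ]
  have hpow : (-1 : R) ^ (N + 1) = (-1) ^ (N - 1) := by
    have h1 : N + 1 = (N - 1) + 2 := by omega
    rw [h1, pow_add, neg_one_sq, mul_one]
  have key : (Fintype.card F : R) * ((-1) ^ (N - 1) *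
        ∑ x ∈ (Finset.univ : Finset (Fin N → Fˣ)).filter
          (fun x => ∑ i, ((x i : Fˣ) : F) = -1),
          ∏ i : Fin N, ψ i.succ ((x i : Fˣ) : F)) =
      ∏ i : Fin (N + 1), (-(∑ y : F, Ψ y * ψ i y)) := by
    have hneg : ∀ i : Fin (N + 1),
        -(∑ y : F, Ψ y * ψ i y) = (-1) * ∑ y : F, Ψ y * ψ i y :=
      fun i => (neg_one_mul _).symm
    rw [Finset.prod_congr rfl (fun i _ => hneg i), Finset.prod_mul_distrib, Finset.prod_const,
      Finset.card_univ, Fintype.card_fin, hA, hT, hJ, hpow]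
    ring
  rw [hψ] at key
  exact key

end Groth.Agent.S3129
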