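import Groth.Statements.S3133
import Mathlib

set_option autoImplicit false
open Polynomial
open SGA4h

namespace Groth.Agent.S3133

section aux
variable {R : Type} [CommRing R] {m : Type} [Fintype m] [DecidableEq m]

/-- the block matrix `B` -/
def Bm (A : Matrix m m R) (n : ℕ) : Matrix (Fin n × m) (Fin n × m) R :=
  Matrix.of fun (p q : Fin n × m) =>
        if p.1.val = 0 then (if q.1.val = n - 1 then A p.2 q.2 else 0)
        else (if q.1.val + 1 = p.1.val ∧ p.2 = q.2 then 1 else 0)

noncomputable def Lm (R : Type) [CommRing R] (m : Type) [Fintype m] [DecidableEq m] (n : ℕ) :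
    Matrix (Fin n × m) (Fin n × m) R[X] :=
  Matrix.of fun p q => if q.1.val ≤ p.1.val ∧ p.2 = q.2 then X ^ (p.1.val - q.1.val) else 0

noncomputable def Um (A : Matrix m m R) (n : ℕ) : Matrix (Fin n × m) (Fin n × m) R[X] :=
  Matrix.of fun p q => if p.1.val = 0 then
      ((if q.1.val = 0 ∧ p.2 = q.2 then 1 else 0) - X ^ (n - q.1.val) * C (A p.2 q.2))
    else (if p = q then 1 else 0)

theorem det_Lm (n : ℕ) : (Lm R m n).det = 1 := by
  have hT : (Lm R m n).BlockTriangular (fun p => OrderDual.toDual p.1) := by
    intro p q hpq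
    have h : p.1 < q.1 := OrderDual.toDual_lt_toDual.mp hpq
    have h' : p.1.val < q.1.val := h
    simp only [Lm, Matrix.of_apply]
    rw [if_neg]
    intro h''
    have := h''.1
    omega
  rw [hT.det_fintype]
  apply Finset.prod_eq_one
  intro k _
  have : (Lm R m n).toSquareBlock (fun p => OrderDual.toDual p.1) k = 1 := by
    ext ⟨i, hi⟩ ⟨j, hj⟩
    simp only [Matrix.toSquareBlock_def, Matrix.of_apply, Lm, Matrix.one_apply, Subtype.mk.injEq]
    have hij : i.1 = j.1 := OrderDual.toDual.injective (hi.trans hj.symm)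
    by_cases h2 : i.2 = j.2
    · have hij' : i = j := Prod.ext hij h2
      subst hij'
      simp
    · have hne : i ≠ j := fun h => h2 (by rw [h])
      rw [if_neg (fun h => h2 h.2), if_neg hne]
  rw [this, Matrix.det_one]

theorem det_Um (A : Matrix m m R) (n : ℕ) (hn : 1 ≤ n) :
    (Um A n).det = (1 - (X : R[X]) ^ n • A.map C).det := by
  rw [Matrix.twoBlockTriangular_det (Um A n) (fun p => p.1.val = 0)]
  · have h2 : (Matrix.toSquareBlockProp (Um A n) fun p => ¬ p.1.val = 0) = 1 := by
      ext ⟨i, hi⟩ ⟨j, hj⟩
      simp only [Matrix.toSquareBlockProp_def, Matrix.of_apply, Um, Matrix.one_apply,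
        Subtype.mk.injEq]
      rw [if_neg hi]
    rw [h2, Matrix.det_one, mul_one]
    let e : {p : Fin n × m // p.1.val = 0} ≃ m :=
      { toFun := fun p => p.1.2
        invFun := fun i => ⟨((⟨0, hn⟩ : Fin n), i), rfl⟩
        left_inv := by
          rintro ⟨⟨a, i⟩, ha⟩
          simp only [Subtype.mk.injEq, Prod.mk.injEq, and_true]
          exact Fin.ext ha.symm
        right_inv := fun i => rfl }
    rw [← Matrix.det_reindex_self e]
    congr 1
    ext i j
    simp only [Matrix.reindex_apply, Matrix.submatrix_apply, Matrix.toSquareBlockProp_def,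
      Matrix.of_apply, Um, Matrix.sub_apply, Matrix.smul_apply, Matrix.map_apply,
      Matrix.one_apply, smul_eq_mul]
    simp [e]
  · intro i hi j hj
    simp only [Um, Matrix.of_apply]
    rw [if_neg hi, if_neg]
    rintro rfl
    exact hi hj

theorem mul_eq (A : Matrix m m R) (n : ℕ) :
    (1 - (X : R[X]) • (Bm A n).map C) * Lm R m n = Um A n := by
  ext p q
  rw [Matrix.sub_mul, Matrix.one_mul, Matrix.sub_apply, Matrix.smul_mul, Matrix.smul_apply,
    Matrix.mul_apply, smul_eq_mul]
  have hqlt := q.1.isLt
  have hplt := p.1.isLt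
  by_cases hp : p.1.val = 0
  · have hsum : ∑ r, ((Bm A n).map C) p r * Lm R m n r q =
        C (A p.2 q.2) * X ^ (n - 1 - q.1.val) := by
      rw [Finset.sum_eq_single ((⟨n - 1, by omega⟩ : Fin n), q.2)]
      · simp only [Matrix.map_apply, Bm, Matrix.of_apply, Lm]
        rw [if_pos hp, if_pos trivial, if_pos ⟨by omega, trivial⟩]
      · intro r _ hr
        simp only [Matrix.map_apply, Bm, Matrix.of_apply, Lm]
        rw [if_pos hp]
        by_cases h1 : r.1.val = n - 1
        · rw [if_pos h1]
          have h2 : r.2 ≠ q.2 := by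
            intro h2
            apply hr
            exact Prod.ext (Fin.ext h1) h2
          rw [if_neg (fun h => h2 h.2), mul_zero]
        · rw [if_neg h1, map_zero, zero_mul]
      · intro h
        exact absurd (Finset.mem_univ _) h
    rw [hsum]
    simp only [Um, Lm, Matrix.of_apply]
    rw [if_pos hp]
    have hq : n - q.1.val = (n - 1 - q.1.val) + 1 := by omega
    rw [hq, pow_succ]
    have hif : (if q.1.val ≤ p.1.val ∧ p.2 = q.2 then (X : R[X]) ^ (p.1.val - q.1.val) else 0) =
        (if q.1.val = 0 ∧ p.2 = q.2 then 1 else 0) := by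
      by_cases h : q.1.val = 0 ∧ p.2 = q.2
      · rw [if_pos h, if_pos ⟨by omega, h.2⟩, hp, h.1, pow_zero]
      · rw [if_neg h, if_neg]
        intro h'
        apply h
        exact ⟨by have := h'.1; omega, h'.2⟩
    rw [hif]
    ring
  · have hp1 : p.1.val - 1 < n := by omega
    have hsum : ∑ r, ((Bm A n).map C) p r * Lm R m n r q =
        Lm R m n ((⟨p.1.val - 1, hp1⟩ : Fin n), p.2) q := by
      rw [Finset.sum_eq_single ((⟨p.1.val - 1, hp1⟩ : Fin n), p.2)]
      · simp only [Matrix.map_apply, Bm, Matrix.of_apply]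
        rw [if_neg hp, if_pos ⟨by omega, trivial⟩, map_one, one_mul]
      · intro r _ hr
        simp only [Matrix.map_apply, Bm, Matrix.of_apply]
        rw [if_neg hp, if_neg, map_zero, zero_mul]
        rintro ⟨h1, h2⟩
        apply hr
        exact Prod.ext (Fin.ext (by show r.1.val = p.1.val - 1; omega)) h2.symm
      · intro h
        exact absurd (Finset.mem_univ _) h
    rw [hsum]
    simp only [Um, Lm, Matrix.of_apply]
    rw [if_neg hp]
    by_cases h2 : p.2 = q.2
    · rcases lt_trichotomy q.1.val p.1.val with h | h | h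
      · rw [if_pos ⟨h.le, h2⟩, if_pos ⟨by omega, h2⟩, if_neg]
        · have : p.1.val - q.1.val = (p.1.val - 1 - q.1.val) + 1 := by omega
          rw [this, pow_succ]
          ring
        · intro hpq
          rw [hpq] at h
          exact lt_irrefl _ h
      · have hpq : p = q := Prod.ext (Fin.ext h.symm) h2
        rw [if_pos ⟨h.le, h2⟩, if_neg (by intro h'; have := h'.1; omega), if_pos hpq, h,
          Nat.sub_self, pow_zero, mul_zero, sub_zero]
      · rw [if_neg (by intro h'; have := h'.1; omega), if_neg (by intro h'; have := h'.1; omega),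
          if_neg, mul_zero, sub_zero]
        intro hpq
        rw [hpq] at h
        exact lt_irrefl _ h
    · rw [if_neg (fun h => h2 h.2), if_neg (fun h => h2 h.2), if_neg (fun h => h2 (by rw [h])),
        mul_zero, sub_zero]

end aux

/-- Let A be a square matrix over a commutative ring and n ≥ 1, and let B be the matrix on n blocks of
the endomorphism (x_1, …, x_n) ↦ (A x_n, x_1, …, x_{n-1}). Then det(1 − B·T) = det(1 − A·Tⁿ), i.e.
the reverse characteristic polynomial of B is that of A expanded by n. -/
theorem result (R : Type) [CommRing R] (m : Type) [Fintype m] [DecidableEq m]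
    (A : Matrix m m R) (n : ℕ) (hn : 1 ≤ n) :
    (Matrix.of fun (p q : Fin n × m) =>
        if p.1.val = 0 then (if q.1.val = n - 1 then A p.2 q.2 else 0)
        else (if q.1.val + 1 = p.1.val ∧ p.2 = q.2 then 1 else 0)).charpolyRev =
      Polynomial.expand R n A.charpolyRev := by
  change (Bm A n).charpolyRev = _
  unfold Matrix.charpolyRev
  have h1 : ((1 - (X : R[X]) • (Bm A n).map C) * Lm R m n).det = (Um A n).det := by
    rw [mul_eq A n]
  rw [Matrix.det_mul, det_Lm, mul_one, det_Um A n hn] at h1
  rw [h1, AlgHom.map_det]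
  congr 1
  ext i j
  by_cases hij : i = j
  · subst hij
    simp [Matrix.sub_apply, Matrix.smul_apply, Matrix.map_apply]
  · simp [Matrix.sub_apply, Matrix.smul_apply, Matrix.map_apply, Matrix.one_apply_ne hij]

end Groth.Agent.S3133
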