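import Groth.Statements.S3134
import Mathlib
import Groth.Agent.H65.DetExp

set_option autoImplicit false
open Polynomial
open SGA4h

namespace Groth.Agent.S3134

/-- For a square matrix A over a commutative ring, with P(T) = det(1 − A·T), one has −T·P′(T) = P(T) ·
Σ_{n ≥ 1} Tr(Aⁿ) Tⁿ as formal power series (equivalently T d/dT log P(T)⁻¹ = Σ_{n≥1} Tr(Aⁿ) Tⁿ). -/
theorem result (R : Type) [CommRing R] (m : Type) [Fintype m] [DecidableEq m]
    (A : Matrix m m R) :
    ((-(X * Polynomial.derivative A.charpolyRev) : R[X]) : PowerSeries R) =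
      (A.charpolyRev : PowerSeries R) * PowerSeries.mk (fun n => if n = 0 then 0 else (A ^ n).trace) := by
  have h := Groth.Agent.H65.coe_derivative_charpolyRev A
  have hX : (PowerSeries.X : PowerSeries R) * (PowerSeries.mk fun k => Matrix.trace (A ^ (k + 1))) =
      PowerSeries.mk (fun n => if n = 0 then 0 else (A ^ n).trace) := by
    apply PowerSeries.ext
    intro k
    cases k with
    | zero => rw [PowerSeries.coeff_zero_X_mul, PowerSeries.coeff_mk, if_pos rfl]
    | succ k =>
      rw [PowerSeries.coeff_succ_X_mul, PowerSeries.coeff_mk, PowerSeries.coeff_mk,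
        if_neg (Nat.succ_ne_zero k)]
  rw [Polynomial.coe_neg, Polynomial.coe_mul, Polynomial.coe_X, h, ← hX]
  ring

end Groth.Agent.S3134
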