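import Groth.Statements.S3139
import Groth.Agent.S1876
import Mathlib
-- import your own Groth.Agent.* helpers here

set_option autoImplicit false
universe u
open CategoryTheory
attribute [local instance] HasDerivedCategory.standard
open SGA4h

namespace Groth.Agent.S3139

open Polynomial TensorProduct

section LinAlg

variable {R : Type*} [CommRing R]

/-- Sylvester's determinant identity for linear maps between finite free modules. -/
lemma det_one_add_comp_comm {M N : Type*} [AddCommGroup M] [Module R M] [Module.Free R M]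
    [Module.Finite R M] [AddCommGroup N] [Module R N] [Module.Free R N] [Module.Finite R N]
    (f : M →ₗ[R] N) (g : N →ₗ[R] M) :
    LinearMap.det ((1 : Module.End R M) + g ∘ₗ f) =
      LinearMap.det ((1 : Module.End R N) + f ∘ₗ g) := by
  classical
  let bM := Module.Free.chooseBasis R M
  let bN := Module.Free.chooseBasis R N
  rw [← LinearMap.det_toMatrix bM, ← LinearMap.det_toMatrix bN]
  simp only [map_add, LinearMap.toMatrix_one, LinearMap.toMatrix_comp bM bN bM,
    LinearMap.toMatrix_comp bN bM bN]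
  exact Matrix.det_one_add_mul_comm _ _

/-- Block triangular determinant, idempotent form. -/
lemma det_tri {P : Type*} [AddCommGroup P] [Module R P] [Module.Free R P] [Module.Finite R P]
    (e f θ : Module.End R P) (h1 : e + f = 1) (hfe : f * e = 0) (hθ : f * θ * e = 0) :
    LinearMap.det θ = LinearMap.det (e * θ * e + f) * LinearMap.det (e + f * θ * f) := by
  have hee : e * e = e := by
    have h : (e + f) * e = e := by rw [h1, one_mul]
    rwa [add_mul, hfe, add_zero] at h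
  have hef : e * f = 0 := by
    have h : e * (e + f) = e := by rw [h1, mul_one]
    rw [mul_add, hee] at h
    exact add_left_cancel (a := e) (h.trans (add_zero e).symm)
  have hff : f * f = f := by
    have h : (e + f) * f = f := by rw [h1, one_mul]
    rwa [add_mul, hef, zero_add] at h
  have ee (x : Module.End R P) : e * (e * x) = e * x := by rw [← mul_assoc, hee]
  have ff (x : Module.End R P) : f * (f * x) = f * x := by rw [← mul_assoc, hff]
  have ef (x : Module.End R P) : e * (f * x) = 0 := by rw [← mul_assoc, hef, zero_mul]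
  have fe (x : Module.End R P) : f * (e * x) = 0 := by rw [← mul_assoc, hfe, zero_mul]
  have fθe : f * (θ * e) = 0 := by rw [← mul_assoc]; exact hθ
  have fθe' (x : Module.End R P) : f * (θ * (e * x)) = 0 := by
    rw [← mul_assoc, ← mul_assoc, hθ, zero_mul]
  have key : θ = (e + f * θ * f) * ((1 + e * θ * f) * (e * θ * e + f)) := by
    have h : θ = (e + f) * θ * (e + f) := by rw [h1, one_mul, mul_one]
    refine h.trans ?_
    simp only [mul_add, add_mul, one_mul, mul_assoc, ee, fe, hff, hef,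
      fθe, mul_zero, add_zero, zero_add]
    try abel
  have hB : LinearMap.det ((1 : Module.End R P) + e * θ * f) = 1 := by
    have h := det_one_add_comp_comm (θ * f) e
    have h' : LinearMap.det ((1 : Module.End R P) + e * θ * f) =
        LinearMap.det ((1 : Module.End R P) + (θ * f) * e) := by
      rw [mul_assoc]
      exact h
    rw [h', mul_assoc, hfe, mul_zero, add_zero, map_one]
  calc LinearMap.det θ
      = LinearMap.det ((e + f * θ * f) * ((1 + e * θ * f) * (e * θ * e + f))) :=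
        congrArg _ key
    _ = LinearMap.det (e + f * θ * f) *
        (LinearMap.det ((1 : Module.End R P) + e * θ * f) * LinearMap.det (e * θ * e + f)) := by
        rw [map_mul, map_mul]
    _ = _ := by rw [hB, one_mul, mul_comm]

/-- Moving a determinant across a split map. -/
lemma det_shift {P P' : Type*} [AddCommGroup P] [Module R P] [Module.Free R P]
    [Module.Finite R P] [AddCommGroup P'] [Module R P'] [Module.Free R P'] [Module.Finite R P']
    (D : P →ₗ[R] P') (S : P' →ₗ[R] P) (Θ : Module.End R P) (Θ' : Module.End R P')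
    (hΘ : ∀ y, Θ' (D y) = D (Θ y)) (hDSD : ∀ y, D (S (D y)) = D y) :
    LinearMap.det ((1 - S ∘ₗ D : Module.End R P) + (S ∘ₗ D : Module.End R P) * Θ * (S ∘ₗ D)) =
      LinearMap.det ((D ∘ₗ S : Module.End R P') * Θ' * (D ∘ₗ S) +
        (1 - D ∘ₗ S : Module.End R P')) := by
  let W : P →ₗ[R] P' := D ∘ₗ Θ ∘ₗ (S ∘ₗ D) - D
  have k1 : ∀ x, D (S (Θ' (D (S x)))) = D (Θ (S x)) := fun x => by rw [hΘ, hDSD]
  have k2 : ∀ x, D (Θ (S (D (S x)))) = D (Θ (S x)) := fun x => by
    have h := hΘ (S (D (S x)))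
    rw [hDSD] at h
    rw [← h, hΘ]
  have hL : (1 - S ∘ₗ D : Module.End R P) + (S ∘ₗ D : Module.End R P) * Θ * (S ∘ₗ D) =
      (1 : Module.End R P) + S ∘ₗ W := by
    ext x
    simp only [W, LinearMap.add_apply, LinearMap.sub_apply, Module.End.one_apply,
      Module.End.mul_apply, LinearMap.comp_apply, map_sub]
    abel
  have hR : (D ∘ₗ S : Module.End R P') * Θ' * (D ∘ₗ S) + (1 - D ∘ₗ S : Module.End R P') =
      (1 : Module.End R P') + W ∘ₗ S := by
    ext x
    simp only [W, LinearMap.add_apply, LinearMap.sub_apply, Module.End.one_apply,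
      Module.End.mul_apply, LinearMap.comp_apply]
    rw [k1, k2]
    abel
  rw [hL, hR]
  exact det_one_add_comp_comm W S

lemma det_ext_by_one {M P : Type*} [AddCommGroup M] [Module R M] [Module.Free R M]
    [Module.Finite R M] [AddCommGroup P] [Module R P] [Module.Free R P] [Module.Finite R P]
    (i : M →ₗ[R] P) (p : P →ₗ[R] M) (h : ∀ x, p (i x) = x) (g : Module.End R M) :
    LinearMap.det ((i ∘ₗ g ∘ₗ p : Module.End R P) + (1 - i ∘ₗ p)) = LinearMap.det g := by
  have h1 : (i ∘ₗ g ∘ₗ p : Module.End R P) + (1 - i ∘ₗ p) =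
      (1 : Module.End R P) + i ∘ₗ ((g - 1) ∘ₗ p) := by
    ext x
    simp only [LinearMap.add_apply, LinearMap.sub_apply, LinearMap.comp_apply,
      Module.End.one_apply, map_sub]
    abel
  have h2 : (1 : Module.End R M) + ((g - 1) ∘ₗ p) ∘ₗ i = g := by
    ext x
    simp only [LinearMap.add_apply, LinearMap.sub_apply, LinearMap.comp_apply,
      Module.End.one_apply, h]
    abel
  rw [h1, det_one_add_comp_comm ((g - 1) ∘ₗ p) i, h2]

/-- Block triangular determinant, biproduct form. -/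
lemma det_biprod {M N P : Type*} [AddCommGroup M] [Module R M] [Module.Free R M]
    [Module.Finite R M] [AddCommGroup N] [Module R N] [Module.Free R N] [Module.Finite R N]
    [AddCommGroup P] [Module R P] [Module.Free R P] [Module.Finite R P]
    (i₁ : M →ₗ[R] P) (i₂ : N →ₗ[R] P) (p₁ : P →ₗ[R] M) (p₂ : P →ₗ[R] N)
    (h11 : ∀ x, p₁ (i₁ x) = x) (h22 : ∀ x, p₂ (i₂ x) = x) (h12 : ∀ x, p₁ (i₂ x) = 0)
    (hid : ∀ x, i₁ (p₁ x) + i₂ (p₂ x) = x) (θ : Module.End R P)
    (hθ : ∀ x, p₁ (θ (i₂ x)) = 0) :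
    LinearMap.det θ = LinearMap.det (p₁ ∘ₗ θ ∘ₗ i₁) * LinearMap.det (p₂ ∘ₗ θ ∘ₗ i₂) := by
  have h1 : (i₂ ∘ₗ p₂ : Module.End R P) + (i₁ ∘ₗ p₁ : Module.End R P) = 1 := by
    ext x
    simp only [LinearMap.add_apply, LinearMap.comp_apply, Module.End.one_apply]
    rw [add_comm]
    exact hid x
  have hfe : (i₁ ∘ₗ p₁ : Module.End R P) * (i₂ ∘ₗ p₂ : Module.End R P) = 0 := by
    ext x
    simp only [Module.End.mul_apply, LinearMap.comp_apply, LinearMap.zero_apply, h12, map_zero]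
  have hθ' : (i₁ ∘ₗ p₁ : Module.End R P) * θ * (i₂ ∘ₗ p₂ : Module.End R P) = 0 := by
    ext x
    simp only [Module.End.mul_apply, LinearMap.comp_apply, LinearMap.zero_apply, hθ, map_zero]
  have hA : (i₂ ∘ₗ p₂ : Module.End R P) +
      (i₁ ∘ₗ p₁ : Module.End R P) * θ * (i₁ ∘ₗ p₁ : Module.End R P) =
      (i₁ ∘ₗ (p₁ ∘ₗ θ ∘ₗ i₁) ∘ₗ p₁ : Module.End R P) + (1 - i₁ ∘ₗ p₁) := by
    ext x
    have hx : x - i₁ (p₁ x) = i₂ (p₂ x) :=
      sub_eq_iff_eq_add.2 ((hid x).symm.trans (add_comm _ _))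
    simp only [LinearMap.add_apply, LinearMap.sub_apply, Module.End.mul_apply,
      LinearMap.comp_apply, Module.End.one_apply, hx]
    exact add_comm _ _
  have hB : (i₂ ∘ₗ p₂ : Module.End R P) * θ * (i₂ ∘ₗ p₂ : Module.End R P) +
      (i₁ ∘ₗ p₁ : Module.End R P) =
      (i₂ ∘ₗ (p₂ ∘ₗ θ ∘ₗ i₂) ∘ₗ p₂ : Module.End R P) + (1 - i₂ ∘ₗ p₂) := by
    ext x
    have hx : x - i₂ (p₂ x) = i₁ (p₁ x) := sub_eq_iff_eq_add.2 (hid x).symm
    simp only [LinearMap.add_apply, LinearMap.sub_apply, Module.End.mul_apply,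
      LinearMap.comp_apply, Module.End.one_apply, hx]
  rw [det_tri _ _ θ h1 hfe hθ', hA, hB, det_ext_by_one i₁ p₁ h11, det_ext_by_one i₂ p₂ h22,
    mul_comm]

/-- The local determinant identity in a contractible complex. -/
lemma det_local {P₀ P₁ P₂ : Type*} [AddCommGroup P₀] [Module R P₀]
    [AddCommGroup P₁] [Module R P₁] [Module.Free R P₁] [Module.Finite R P₁]
    [AddCommGroup P₂] [Module R P₂] [Module.Free R P₂] [Module.Finite R P₂]
    (D₀ : P₀ →ₗ[R] P₁) (D₁ : P₁ →ₗ[R] P₂) (S₁ : P₁ →ₗ[R] P₀) (S₂ : P₂ →ₗ[R] P₁)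
    (Θ₁ : Module.End R P₁) (Θ₂ : Module.End R P₂)
    (hΘ : ∀ y, Θ₂ (D₁ y) = D₁ (Θ₁ y)) (hDD : ∀ y, D₁ (D₀ y) = 0)
    (hs : ∀ y, D₀ (S₁ y) + S₂ (D₁ y) = y) :
    LinearMap.det Θ₁ =
      LinearMap.det ((D₀ ∘ₗ S₁ : Module.End R P₁) * Θ₁ * (D₀ ∘ₗ S₁) + (1 - D₀ ∘ₗ S₁)) *
      LinearMap.det ((D₁ ∘ₗ S₂ : Module.End R P₂) * Θ₂ * (D₁ ∘ₗ S₂) + (1 - D₁ ∘ₗ S₂)) := by
  have h1 : (D₀ ∘ₗ S₁ : Module.End R P₁) + (S₂ ∘ₗ D₁ : Module.End R P₁) = 1 := by
    ext x
    simp only [LinearMap.add_apply, LinearMap.comp_apply, Module.End.one_apply]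
    exact hs x
  have hf : (S₂ ∘ₗ D₁ : Module.End R P₁) = 1 - D₀ ∘ₗ S₁ := by
    rw [← h1]; abel
  have he : (D₀ ∘ₗ S₁ : Module.End R P₁) = 1 - S₂ ∘ₗ D₁ := by
    rw [← h1]; abel
  have hfe : (S₂ ∘ₗ D₁ : Module.End R P₁) * (D₀ ∘ₗ S₁ : Module.End R P₁) = 0 := by
    ext x
    simp only [Module.End.mul_apply, LinearMap.comp_apply, LinearMap.zero_apply, hDD, map_zero]
  have hθ : (S₂ ∘ₗ D₁ : Module.End R P₁) * Θ₁ * (D₀ ∘ₗ S₁ : Module.End R P₁) = 0 := by
    ext x
    simp only [Module.End.mul_apply, LinearMap.comp_apply, LinearMap.zero_apply]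
    rw [← hΘ, hDD, map_zero, map_zero]
  have hDSD : ∀ y, D₁ (S₂ (D₁ y)) = D₁ y := by
    intro y
    have h := congrArg D₁ (hs y)
    rw [map_add, hDD, zero_add] at h
    exact h
  rw [det_tri _ _ Θ₁ h1 hfe hθ]
  congr 1
  · rw [hf]
  · have h := det_shift D₁ S₂ Θ₁ Θ₂ hΘ hDSD
    rw [← h]
    congr 2

lemma finite_free_of_biprod {M N P : Type*} [AddCommGroup M] [Module R M] [AddCommGroup N]
    [Module R N] [AddCommGroup P] [Module R P]
    [Module.Free R M] [Module.Finite R M] [Module.Free R N] [Module.Finite R N]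
    (i₁ : M →ₗ[R] P) (i₂ : N →ₗ[R] P) (p₁ : P →ₗ[R] M) (p₂ : P →ₗ[R] N)
    (h11 : ∀ x, p₁ (i₁ x) = x) (h22 : ∀ x, p₂ (i₂ x) = x) (h12 : ∀ x, p₁ (i₂ x) = 0)
    (h21 : ∀ x, p₂ (i₁ x) = 0) (hid : ∀ x, i₁ (p₁ x) + i₂ (p₂ x) = x) :
    Module.Finite R P ∧ Module.Free R P := by
  let e : (M × N) ≃ₗ[R] P := LinearEquiv.ofLinearMap (i₁.coprod i₂) (p₁.prod p₂)
    (LinearMap.ext fun x => by simp [hid])
    (LinearMap.ext fun x => by
      obtain ⟨m, n⟩ := x
      simp [h11, h22, h12, h21])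
  exact ⟨Module.Finite.equiv e, Module.Free.of_equiv e⟩

end LinAlg

section BaseChange

variable {A : Type u} [CommRing A]

/-- Base change of a morphism of `A`-modules to `A[X]`. -/
noncomputable def bcm {M N : ModuleCat.{u} A} (g : M ⟶ N) :
    A[X] ⊗[A] M →ₗ[A[X]] A[X] ⊗[A] N := g.hom.baseChange A[X]

lemma bcm_comp {M N P : ModuleCat.{u} A} (g : M ⟶ N) (h : N ⟶ P) :
    bcm (g ≫ h) = bcm h ∘ₗ bcm g := by
  simp only [bcm, ModuleCat.hom_comp, LinearMap.baseChange_comp]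

lemma bcm_comp_apply {M N P : ModuleCat.{u} A} (g : M ⟶ N) (h : N ⟶ P) (x : A[X] ⊗[A] M) :
    bcm h (bcm g x) = bcm (g ≫ h) x := by
  rw [bcm_comp]; rfl

lemma bcm_comp₃_apply {M N P Q : ModuleCat.{u} A} (f : M ⟶ N) (g : N ⟶ P) (h : P ⟶ Q)
    (x : A[X] ⊗[A] M) : bcm h (bcm g (bcm f x)) = bcm (f ≫ g ≫ h) x := by
  rw [bcm_comp, bcm_comp]; rfl

lemma bcm_id {M : ModuleCat.{u} A} : bcm (𝟙 M) = LinearMap.id := by
  simp only [bcm, ModuleCat.hom_id, LinearMap.baseChange_id]

lemma bcm_zero {M N : ModuleCat.{u} A} : bcm (0 : M ⟶ N) = 0 := by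
  simp only [bcm, ModuleCat.hom_zero, LinearMap.baseChange_zero]

lemma bcm_add {M N : ModuleCat.{u} A} (g h : M ⟶ N) : bcm (g + h) = bcm g + bcm h := by
  simp only [bcm, ModuleCat.hom_add, LinearMap.baseChange_add]

/-- `1 - X • v` on `A[X] ⊗ M`. -/
noncomputable def Th {M : ModuleCat.{u} A} (v : M ⟶ M) : Module.End A[X] (A[X] ⊗[A] M) :=
  1 - (X : A[X]) • bcm v

lemma Th_apply {M : ModuleCat.{u} A} (v : M ⟶ M) (y : A[X] ⊗[A] M) :
    Th v y = y - (X : A[X]) • bcm v y := by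
  simp only [Th, LinearMap.sub_apply, Module.End.one_apply, LinearMap.smul_apply]

lemma Th_zero {M : ModuleCat.{u} A} : Th (0 : M ⟶ M) = 1 := by
  simp only [Th, bcm_zero, smul_zero]
  exact sub_zero (1 : Module.End A[X] (A[X] ⊗[A] M))

lemma detOneSub_eq (M : ModuleCat.{u} A) (v : M ⟶ M) :
    SGA4h.detOneSub M v = LinearMap.det (Th v) := rfl

lemma detOneSub_eq_one (M : ModuleCat.{u} A) (hM : Limits.IsZero M) (v : M ⟶ M) :
    SGA4h.detOneSub M v = 1 := by
  have h : v = 0 := hM.eq_of_src _ _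
  rw [detOneSub_eq, h, Th_zero, map_one]

lemma Th_comm {M N : ModuleCat.{u} A} (g : M ⟶ N) (v : M ⟶ M) (v' : N ⟶ N)
    (h : v ≫ g = g ≫ v') (y : A[X] ⊗[A] M) : Th v' (bcm g y) = bcm g (Th v y) := by
  rw [Th_apply, Th_apply, map_sub, map_smul, bcm_comp_apply, bcm_comp_apply, h]

end BaseChange

section Contractible

variable {A : Type u} [CommRing A]

noncomputable def Eop (C : CochainComplex (ModuleCat.{u} A) ℤ) (s : Homotopy (𝟙 C) 0) (j k : ℤ) :
    Module.End A[X] (A[X] ⊗[A] C.X k) := bcm (s.hom k j ≫ C.d j k)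

noncomputable def Gdet (C : CochainComplex (ModuleCat.{u} A) ℤ) (s : Homotopy (𝟙 C) 0)
    (w : C ⟶ C) (j k : ℤ) : A[X] :=
  LinearMap.det (Eop C s j k * Th (w.f k) * Eop C s j k + (1 - Eop C s j k))

lemma Gdet_eq_one (C : CochainComplex (ModuleCat.{u} A) ℤ) (s : Homotopy (𝟙 C) 0)
    (w : C ⟶ C) (j k : ℤ) (hk : Limits.IsZero (C.X k)) : Gdet C s w j k = 1 := by
  have h1 : s.hom k j ≫ C.d j k = 0 := hk.eq_of_src _ _
  have h2 : w.f k = 0 := hk.eq_of_src _ _
  simp only [Gdet, Eop, h1, h2, bcm_zero, Th_zero, mul_zero, zero_mul, zero_add]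
  have h3 : (1 : Module.End A[X] (A[X] ⊗[A] C.X k)) - 0 = 1 :=
    sub_zero (1 : Module.End A[X] (A[X] ⊗[A] C.X k))
  exact (congrArg _ h3).trans (map_one _)

lemma detOneSub_contractible (C : CochainComplex (ModuleCat.{u} A) ℤ)
    (hC : ∀ i, Module.Finite A (C.X i) ∧ Module.Free A (C.X i)) (s : Homotopy (𝟙 C) 0)
    (w : C ⟶ C) (i : ℤ) :
    SGA4h.detOneSub (C.X i) (w.f i) = Gdet C s w (i - 1) i * Gdet C s w i (i + 1) := by
  have := (hC i).1
  have := (hC i).2
  have := (hC (i + 1)).1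
  have := (hC (i + 1)).2
  have hcomm := s.comm i
  rw [dNext_eq s.hom (show (ComplexShape.up ℤ).Rel i (i + 1) from rfl),
    prevD_eq s.hom (show (ComplexShape.up ℤ).Rel (i - 1) i from by simp),
    HomologicalComplex.id_f, HomologicalComplex.zero_f, add_zero] at hcomm
  have hsum : s.hom i (i - 1) ≫ C.d (i - 1) i + C.d i (i + 1) ≫ s.hom (i + 1) i =
      𝟙 (C.X i) := by
    rw [hcomm, add_comm]
  have key := det_local (R := A[X]) (bcm (C.d (i - 1) i)) (bcm (C.d i (i + 1)))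
    (bcm (s.hom i (i - 1))) (bcm (s.hom (i + 1) i)) (Th (w.f i)) (Th (w.f (i + 1)))
    (fun y => Th_comm (C.d i (i + 1)) (w.f i) (w.f (i + 1)) (w.comm i (i + 1)) y)
    (fun y => by rw [bcm_comp_apply, C.d_comp_d, bcm_zero]; rfl)
    (fun y => by
      rw [bcm_comp_apply, bcm_comp_apply, ← LinearMap.add_apply, ← bcm_add, hsum, bcm_id]; rfl)
  rw [detOneSub_eq, key]
  simp only [Gdet, Eop, bcm_comp]

end Contractible

section Cone

variable {A : Type u} [CommRing A]

open CochainComplex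

lemma cone_finite_free {K K' : CochainComplex (ModuleCat.{u} A) ℤ} (α : K ⟶ K')
    (hK : ∀ i, Module.Finite A (K.X i) ∧ Module.Free A (K.X i))
    (hK' : ∀ i, Module.Finite A (K'.X i) ∧ Module.Free A (K'.X i)) (i : ℤ) :
    Module.Finite A ((mappingCone α).X i) ∧ Module.Free A ((mappingCone α).X i) := by
  have := (hK (i + 1)).1
  have := (hK (i + 1)).2
  have := (hK' i).1
  have := (hK' i).2
  have r11 := mappingCone.inl_v_fst_v α (i + 1) i rfl
  have r12 := mappingCone.inl_v_snd_v α (i + 1) i (by omega)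
  have r21 := mappingCone.inr_f_fst_v α i (i + 1) rfl
  have r22 := mappingCone.inr_f_snd_v α i
  have rid := mappingCone.id_X α i (i + 1) rfl
  refine finite_free_of_biprod (R := A)
    ((mappingCone.inl α).v (i + 1) i (by omega)).hom ((mappingCone.inr α).f i).hom
    ((mappingCone.fst α).1.v i (i + 1) rfl).hom ((mappingCone.snd α).v i i (add_zero i)).hom
    (fun x => ?_) (fun x => ?_) (fun x => ?_) (fun x => ?_) (fun x => ?_)
  · exact congrArg (fun g => g.hom x) r11
  · exact congrArg (fun g => g.hom x) r22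
  · exact congrArg (fun g => g.hom x) r21
  · exact congrArg (fun g => g.hom x) r12
  · exact congrArg (fun g => g.hom x) rid

lemma cone_det {K K' : CochainComplex (ModuleCat.{u} A) ℤ} (α : K ⟶ K') (u : K ⟶ K)
    (u' : K' ⟶ K') (H : Homotopy (α ≫ u') (u ≫ α))
    (hK : ∀ i, Module.Finite A (K.X i) ∧ Module.Free A (K.X i))
    (hK' : ∀ i, Module.Finite A (K'.X i) ∧ Module.Free A (K'.X i)) (i : ℤ) :
    SGA4h.detOneSub ((mappingCone α).X i) ((mappingCone.mapOfHomotopy H).f i) =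
      SGA4h.detOneSub (K.X (i + 1)) (u.f (i + 1)) * SGA4h.detOneSub (K'.X i) (u'.f i) := by
  have := (hK (i + 1)).1
  have := (hK (i + 1)).2
  have := (hK' i).1
  have := (hK' i).2
  have := (cone_finite_free α hK hK' i).1
  have := (cone_finite_free α hK hK' i).2
  have r11 := mappingCone.inl_v_fst_v α (i + 1) i rfl
  have r21 := mappingCone.inr_f_fst_v α i (i + 1) rfl
  have r22 := mappingCone.inr_f_snd_v α i
  have rid := mappingCone.id_X α i (i + 1) rfl
  have m1 : (mappingCone.inr α).f i ≫ (mappingCone.mapOfHomotopy H).f i =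
      u'.f i ≫ (mappingCone.inr α).f i :=
    HomologicalComplex.congr_hom (mappingCone.triangleMapOfHomotopy_comm₂ H) i
  have m2 : (mappingCone.inl α).v (i + 1) i (by omega) ≫ (mappingCone.mapOfHomotopy H).f i ≫
      (mappingCone.fst α).1.v i (i + 1) rfl = u.f (i + 1) := by
    simp [mappingCone.mapOfHomotopy]
  have m3 : (mappingCone.inr α).f i ≫ (mappingCone.mapOfHomotopy H).f i ≫
      (mappingCone.fst α).1.v i (i + 1) rfl = 0 := by
    rw [← Category.assoc, m1, Category.assoc, r21, Limits.comp_zero]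
  have m4 : (mappingCone.inr α).f i ≫ (mappingCone.mapOfHomotopy H).f i ≫
      (mappingCone.snd α).v i i (add_zero i) = u'.f i := by
    rw [← Category.assoc, m1, Category.assoc, r22, Category.comp_id]
  have key := det_biprod (R := A[X]) (bcm ((mappingCone.inl α).v (i + 1) i (by omega)))
    (bcm ((mappingCone.inr α).f i)) (bcm ((mappingCone.fst α).1.v i (i + 1) rfl))
    (bcm ((mappingCone.snd α).v i i (add_zero i)))
    (fun x => by rw [bcm_comp_apply, r11, bcm_id]; rfl)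
    (fun x => by rw [bcm_comp_apply, r22, bcm_id]; rfl)
    (fun x => by rw [bcm_comp_apply, r21, bcm_zero]; rfl)
    (fun x => by
      rw [bcm_comp_apply, bcm_comp_apply, ← LinearMap.add_apply, ← bcm_add, rid, bcm_id]; rfl)
    (Th ((mappingCone.mapOfHomotopy H).f i))
    (fun x => by
      rw [Th_apply, map_sub, map_smul, bcm_comp₃_apply, bcm_comp_apply, r21, m3, bcm_zero]
      simp)
  have e1 : bcm ((mappingCone.fst α).1.v i (i + 1) rfl) ∘ₗ
      Th ((mappingCone.mapOfHomotopy H).f i) ∘ₗ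
      bcm ((mappingCone.inl α).v (i + 1) i (by omega)) = Th (u.f (i + 1)) := by
    refine LinearMap.ext fun y => ?_
    rw [LinearMap.comp_apply, LinearMap.comp_apply, Th_apply, Th_apply, map_sub, map_smul,
      bcm_comp₃_apply, bcm_comp_apply, r11, m2, bcm_id]
    rfl
  have e2 : bcm ((mappingCone.snd α).v i i (add_zero i)) ∘ₗ
      Th ((mappingCone.mapOfHomotopy H).f i) ∘ₗ
      bcm ((mappingCone.inr α).f i) = Th (u'.f i) := by
    refine LinearMap.ext fun y => ?_
    rw [LinearMap.comp_apply, LinearMap.comp_apply, Th_apply, Th_apply, map_sub, map_smul,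
      bcm_comp₃_apply, bcm_comp_apply, r22, m4, bcm_id]
    rfl
  rw [e1, e2] at key
  exact key

end Cone

section Finprod

variable {A : Type u} [CommRing A]

lemma finite_mulSupport_sub (p : ℤ → Prop) (g : ℤ → A[X]) (a b : ℤ)
    (hg : ∀ i, i < a ∨ b < i → g i = 1) :
    Function.HasFiniteMulSupport (fun i : {i : ℤ // p i} => g i.1) := by
  refine Set.Finite.subset ((Set.finite_Icc a b).preimage (Subtype.val_injective.injOn)) ?_
  intro i hi
  simp only [Set.mem_preimage, Set.mem_Icc]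
  by_contra h
  exact hi (hg i.1 (by omega))

lemma finprod_shift (p q : ℤ → Prop) (e : {i : ℤ // p i} ≃ {j : ℤ // q j})
    (he : ∀ i, (e i).1 = i.1 + 1) (g h : ℤ → A[X]) (a b : ℤ)
    (hg : ∀ i, i < a ∨ b < i → g i = 1) (hh : ∀ i, i < a ∨ b < i → h i = 1) :
    ∏ᶠ i : {i : ℤ // p i}, g (i.1 + 1) * h i.1 =
      (∏ᶠ j : {j : ℤ // q j}, g j.1) * ∏ᶠ i : {i : ℤ // p i}, h i.1 := by
  have hf1 : Function.HasFiniteMulSupport (fun i : {i : ℤ // p i} => g (i.1 + 1)) :=
    finite_mulSupport_sub p (fun i => g (i + 1)) (a - 1) b (fun i hi => hg _ (by omega))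
  have hf2 : Function.HasFiniteMulSupport (fun i : {i : ℤ // p i} => h i.1) :=
    finite_mulSupport_sub p h a b hh
  rw [finprod_mul_distrib hf1 hf2]
  congr 1
  rw [← finprod_comp_equiv e]
  exact finprod_congr (fun i => by rw [he])

def evenOdd : {i : ℤ // Even i} ≃ {j : ℤ // Odd j} where
  toFun i := ⟨i.1 + 1, by obtain ⟨r, hr⟩ := i.2; exact ⟨r, by omega⟩⟩
  invFun j := ⟨j.1 - 1, by obtain ⟨m, hm⟩ := j.2; exact ⟨m, by omega⟩⟩
  left_inv i := by ext; simp
  right_inv j := by ext; simp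

def oddEven : {i : ℤ // Odd i} ≃ {j : ℤ // Even j} where
  toFun i := ⟨i.1 + 1, by obtain ⟨m, hm⟩ := i.2; exact ⟨m + 1, by omega⟩⟩
  invFun j := ⟨j.1 - 1, by obtain ⟨r, hr⟩ := j.2; exact ⟨r - 1, by omega⟩⟩
  left_inv i := by ext; simp
  right_inv j := by ext; simp

end Finprod

/-- Let A be a commutative ring, K and K' bounded cochain complexes of finite free A-modules with
endomorphisms u and u', and suppose (K, u) and (K', u') are isomorphic in the derived category D(A):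
there is an isomorphism K ≅ K' in D(A) intertwining the images of u and u'. Then det(1 - u t, K) =
det(1 - u' t, K'), where det(1 - u t, K) = ∏ᵢ det(1 - u t, Kⁱ)^{(-1)^i}; the equality is stated
cross-multiplied, as ∏_{i even} det(1 - u t, Kⁱ) · ∏_{i odd} det(1 - u' t, K'ⁱ) = ∏_{i odd} det(1 -
u t, Kⁱ) · ∏_{i even} det(1 - u' t, K'ⁱ) in A[t]. (The source works with finite projective modules;
finite free is the special case stated here.) -/
theorem result (A : Type u) [CommRing A]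
    (K K' : CochainComplex (ModuleCat.{u} A) ℤ) (a b : ℤ) [K.IsStrictlyGE a] [K.IsStrictlyLE b] [K'.IsStrictlyGE a] [K'.IsStrictlyLE b]
    (hK : ∀ i : ℤ, Module.Finite A (K.X i) ∧ Module.Free A (K.X i)) (hK' : ∀ i : ℤ, Module.Finite A (K'.X i) ∧ Module.Free A (K'.X i))
    (u : K ⟶ K) (u' : K' ⟶ K') (φ : DerivedCategory.Q.obj K ≅ DerivedCategory.Q.obj K')
    (hφ : DerivedCategory.Q.map u ≫ φ.hom = φ.hom ≫ DerivedCategory.Q.map u') :
    SGA4h.detEven K u * SGA4h.detOdd K' u' = SGA4h.detOdd K u * SGA4h.detEven K' u' := by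
  have hKb : ∀ i, i < a ∨ b < i → Limits.IsZero (K.X i) := fun i hi =>
    hi.elim (fun h => K.isZero_of_isStrictlyGE a i h) (fun h => K.isZero_of_isStrictlyLE b i h)
  have hK'b : ∀ i, i < a ∨ b < i → Limits.IsZero (K'.X i) := fun i hi =>
    hi.elim (fun h => K'.isZero_of_isStrictlyGE a i h) (fun h => K'.isZero_of_isStrictlyLE b i h)
  have : ∀ n, Projective (K.X n) := fun n => by
    have := (hK n).2
    infer_instance
  have : K.IsKProjective := CochainComplex.isKProjective_of_projective K b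
  obtain ⟨α, hα⟩ := Groth.Agent.S1876.exists_lift K K' φ.hom
  obtain ⟨H⟩ : Nonempty (Homotopy (α ≫ u') (u ≫ α)) :=
    Groth.Agent.S1876.homotopy_of_Q_map_eq K K' _ _ (by
      rw [Functor.map_comp, Functor.map_comp, hα]
      exact hφ.symm)
  have hCf := cone_finite_free α hK hK'
  have hCz : ∀ i, i < a - 1 ∨ b < i → Limits.IsZero ((CochainComplex.mappingCone α).X i) := by
    intro i hi
    rw [CochainComplex.mappingCone.isZero_X_iff]
    exact ⟨hKb _ (by omega), hK'b _ (by omega)⟩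
  have : (CochainComplex.mappingCone α).IsStrictlyLE b :=
    (CochainComplex.isStrictlyLE_iff _ b).2 (fun i hi => hCz i (Or.inr hi))
  have : ∀ n, Projective ((CochainComplex.mappingCone α).X n) := fun n => by
    have := (hCf n).2
    infer_instance
  have : (CochainComplex.mappingCone α).IsKProjective :=
    CochainComplex.isKProjective_of_projective _ b
  have hC0 : Limits.IsZero (DerivedCategory.Q.obj (CochainComplex.mappingCone α)) := by
    have hiso : IsIso (DerivedCategory.Q.map α) := by rw [hα]; infer_instance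
    exact Pretriangulated.Triangle.isZero₃_of_isIso₁ _
      (DerivedCategory.mappingCone_triangle_distinguished α) hiso
  obtain ⟨s⟩ : Nonempty (Homotopy (𝟙 (CochainComplex.mappingCone α)) 0) :=
    Groth.Agent.S1876.homotopy_of_Q_map_eq _ _ _ _ (hC0.eq_of_src _ _)
  -- notation
  let w := CochainComplex.mappingCone.mapOfHomotopy H
  let dK : ℤ → A[X] := fun i => SGA4h.detOneSub (K.X i) (u.f i)
  let dK' : ℤ → A[X] := fun i => SGA4h.detOneSub (K'.X i) (u'.f i)
  let γ : ℤ → A[X] := fun i => Gdet (CochainComplex.mappingCone α) s w (i - 1) i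
  have hdK : ∀ i, i < a - 1 ∨ b < i → dK i = 1 := fun i hi =>
    detOneSub_eq_one _ (hKb i (by omega)) _
  have hdK' : ∀ i, i < a - 1 ∨ b < i → dK' i = 1 := fun i hi =>
    detOneSub_eq_one _ (hK'b i (by omega)) _
  have hγ : ∀ i, i < a - 1 ∨ b < i → γ i = 1 := fun i hi =>
    Gdet_eq_one _ s w _ _ (hCz i hi)
  have Fγ : ∀ i, γ (i + 1) * γ i = dK (i + 1) * dK' i := by
    intro i
    have F1 := cone_det α u u' H hK hK' i
    have F2 := detOneSub_contractible (CochainComplex.mappingCone α) hCf s w i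
    have hγ1 : γ (i + 1) = Gdet (CochainComplex.mappingCone α) s w i (i + 1) := by
      show Gdet (CochainComplex.mappingCone α) s w (i + 1 - 1) (i + 1) = _
      rw [add_sub_cancel_right]
    rw [hγ1, mul_comm]
    exact F2.symm.trans F1
  have e1 := finprod_shift (A := A) _ _ evenOdd (fun i => rfl) dK dK' (a - 1) b hdK hdK'
  have e2 := finprod_shift (A := A) _ _ evenOdd (fun i => rfl) γ γ (a - 1) b hγ hγ
  have e3 := finprod_shift (A := A) _ _ oddEven (fun i => rfl) dK dK' (a - 1) b hdK hdK'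
  have e4 := finprod_shift (A := A) _ _ oddEven (fun i => rfl) γ γ (a - 1) b hγ hγ
  have c1 : ∏ᶠ i : {i : ℤ // Even i}, dK (i.1 + 1) * dK' i.1 =
      ∏ᶠ i : {i : ℤ // Even i}, γ (i.1 + 1) * γ i.1 := finprod_congr (fun i => (Fγ i.1).symm)
  have c3 : ∏ᶠ i : {i : ℤ // Odd i}, dK (i.1 + 1) * dK' i.1 =
      ∏ᶠ i : {i : ℤ // Odd i}, γ (i.1 + 1) * γ i.1 := finprod_congr (fun i => (Fγ i.1).symm)
  show (∏ᶠ i : {i : ℤ // Even i}, dK i.1) * (∏ᶠ i : {i : ℤ // Odd i}, dK' i.1) =
    (∏ᶠ i : {i : ℤ // Odd i}, dK i.1) * ∏ᶠ i : {i : ℤ // Even i}, dK' i.1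
  calc (∏ᶠ i : {i : ℤ // Even i}, dK i.1) * (∏ᶠ i : {i : ℤ // Odd i}, dK' i.1)
      = ∏ᶠ i : {i : ℤ // Odd i}, dK (i.1 + 1) * dK' i.1 := e3.symm
    _ = ∏ᶠ i : {i : ℤ // Odd i}, γ (i.1 + 1) * γ i.1 := c3
    _ = (∏ᶠ j : {j : ℤ // Even j}, γ j.1) * ∏ᶠ i : {i : ℤ // Odd i}, γ i.1 := e4
    _ = (∏ᶠ j : {j : ℤ // Odd j}, γ j.1) * ∏ᶠ i : {i : ℤ // Even i}, γ i.1 := mul_comm _ _
    _ = ∏ᶠ i : {i : ℤ // Even i}, γ (i.1 + 1) * γ i.1 := e2.symm
    _ = ∏ᶠ i : {i : ℤ // Even i}, dK (i.1 + 1) * dK' i.1 := c1.symm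
    _ = (∏ᶠ i : {i : ℤ // Odd i}, dK i.1) * ∏ᶠ i : {i : ℤ // Even i}, dK' i.1 := e1

end Groth.Agent.S3139
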