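import Groth.Statements.S3140
import Mathlib

set_option autoImplicit false
universe u
open RingTheory.Sequence
open SGA4h

namespace Groth.Agent.S3140

/-- elementary step: a permutation or a change of the last element only -/
def rel {R : Type u} (w w' : List R) : Prop :=
  w.Perm w' ∨ (w.length = w'.length ∧ w.dropLast = w'.dropLast)

/-- weakly regular on `M` and generating `I0` modulo `J` -/
def good {R : Type u} [CommRing R] (M : Type u) [AddCommGroup M] [Module R M] (J I0 : Ideal R)
    (w : List R) : Prop :=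
  IsWeaklyRegular M w ∧ Ideal.ofList w ⊔ J = I0

/-- an elementary step between good lists -/
def step {R : Type u} [CommRing R] (M : Type u) [AddCommGroup M] [Module R M] (J I0 : Ideal R)
    (w w' : List R) : Prop :=
  rel w w' ∧ good M J I0 w ∧ good M J I0 w'

theorem ofList_perm {R : Type u} [CommRing R] {l l' : List R} (h : l.Perm l') :
    Ideal.ofList l = Ideal.ofList l' :=
  congrArg Ideal.span (Set.ext fun _ => h.mem_iff)

theorem rel_cons {R : Type u} (b : R) {w w' : List R} (h : rel w w') : rel (b :: w) (b :: w') := by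
  rcases h with h | ⟨h1, h2⟩
  · exact Or.inl (h.cons b)
  · cases w with
    | nil =>
      have : w' = [] := by
        rw [← List.length_eq_zero_iff, ← h1]; rfl
      subst this
      exact Or.inl (List.Perm.refl _)
    | cons x xs =>
      cases w' with
      | nil => simp at h1
      | cons y ys =>
        refine Or.inr ⟨by simpa using h1, ?_⟩
        rw [List.dropLast_cons_cons, List.dropLast_cons_cons, h2]

open IsLocalRing in
theorem key2 {R : Type u} [CommRing R] [IsLocalRing R] : ∀ (n : ℕ) (M : Type u) [AddCommGroup M]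
    [Module R M] [IsNoetherian R M] [Nontrivial M] (J : Ideal R) (_ : J ≤ Module.annihilator R M)
    (la lb : List R), la.length = n →
    (∀ r ∈ la, r ∈ maximalIdeal R) → IsWeaklyRegular M la → IsWeaklyRegular M lb →
    Ideal.ofList la ⊔ J = Ideal.ofList lb ⊔ J →
    Relation.ReflTransGen (step M J (Ideal.ofList la ⊔ J)) la lb := by
  classical
  intro n
  induction n with
  | zero =>
    intro M _ _ _ _ J hJ la lb hla hm hreg hregb hI
    rw [List.length_eq_zero_iff] at hla
    subst hla
    cases lb with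
    | nil => exact Relation.ReflTransGen.refl
    | cons b0 bs =>
      exfalso
      have h1 : b0 ∈ Ideal.ofList (b0 :: bs) ⊔ J :=
        Ideal.mem_sup_left (Ideal.subset_span List.mem_cons_self)
      rw [← hI, Ideal.ofList_nil, bot_sup_eq] at h1
      have h2 : IsSMulRegular M b0 := ((isWeaklyRegular_cons_iff M b0 bs).mp hregb).1
      obtain ⟨x, hx⟩ := exists_ne (0 : M)
      apply hx
      apply h2
      show b0 • x = b0 • 0
      rw [Module.mem_annihilator.mp (hJ h1) x, smul_zero]
  | succ n ih =>
    intro M _ _ _ _ J hJ la lb hla hm hreg hregb hI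
    obtain ⟨a0, as, rfl⟩ : ∃ a0 as, la = a0 :: as := by
      cases la with
      | nil => simp at hla
      | cons a0 as => exact ⟨a0, as, rfl⟩
    have hlas : as.length = n := by simpa using hla
    have hAm : Module.annihilator R M ≤ maximalIdeal R := by
      apply IsLocalRing.le_maximalIdeal
      intro h
      have h1 : (1 : R) ∈ Module.annihilator R M := by rw [h]; trivial
      obtain ⟨x, hx⟩ := exists_ne (0 : M)
      exact hx (by simpa using Module.mem_annihilator.mp h1 x)
    have hJm : J ≤ maximalIdeal R := hJ.trans hAm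
    have ha0m : a0 ∈ maximalIdeal R := hm a0 List.mem_cons_self
    have hasm : ∀ r ∈ as, r ∈ maximalIdeal R := fun r hr => hm r (List.mem_cons_of_mem _ hr)
    have hasle : Ideal.ofList as ≤ maximalIdeal R := Ideal.span_le.mpr fun r hr => hasm r hr
    have hKm : Ideal.ofList as ⊔ J ≤ maximalIdeal R := sup_le hasle hJm
    have hlbm : ∀ r ∈ lb, r ∈ maximalIdeal R := by
      intro r hr
      have h4 : r ∈ Ideal.ofList lb ⊔ J := Ideal.mem_sup_left (Ideal.subset_span hr)
      rw [← hI] at h4
      exact (sup_le (Ideal.span_le.mpr fun x hx => hm x hx) hJm) h4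
    -- permuted sequence
    have hreg1' : IsWeaklyRegular M (as ++ [a0]) :=
      IsLocalRing.isWeaklyRegular_of_perm_of_subset_maximalIdeal hreg
        (List.perm_append_singleton a0 as).symm hm
    have hreg1 := hreg1'
    rw [isWeaklyRegular_append_iff, isWeaklyRegular_singleton_iff] at hreg1
    obtain ⟨hwas, hN⟩ := hreg1
    have kills : ∀ w ∈ Ideal.ofList as ⊔ J,
        ∀ y : M ⧸ (Ideal.ofList as • ⊤ : Submodule R M), w • y = 0 := by
      intro w hw y
      obtain ⟨x, rfl⟩ := Submodule.mkQ_surjective _ y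
      obtain ⟨w1, hw1, w2, hw2, rfl⟩ := Submodule.mem_sup.mp hw
      rw [← map_smul, add_smul, Module.mem_annihilator.mp (hJ hw2) x, add_zero,
        Submodule.mkQ_apply, Submodule.Quotient.mk_eq_zero]
      exact Submodule.smul_mem_smul hw1 Submodule.mem_top
    have hNnt : Nontrivial (M ⧸ (Ideal.ofList as • ⊤ : Submodule R M)) := by
      apply Submodule.Quotient.nontrivial_iff.mpr
      exact (Submodule.top_ne_ideal_smul_of_le_jacobson_annihilator
        (hasle.trans (maximalIdeal_le_jacobson _))).symm
    have hA : a0 ∉ Ideal.ofList as ⊔ J := by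
      intro h
      obtain ⟨y, hy⟩ := exists_ne (0 : M ⧸ (Ideal.ofList as • ⊤ : Submodule R M))
      apply hy
      apply hN
      show a0 • y = a0 • 0
      rw [kills a0 h y, smul_zero]
    have hJK' : J ≤ maximalIdeal R • Ideal.span {a0} ⊔ (Ideal.ofList as ⊔ J) :=
      le_sup_right.trans le_sup_right
    have hB : ∃ bj ∈ lb, bj ∉ maximalIdeal R • Ideal.span {a0} ⊔ (Ideal.ofList as ⊔ J) := by
      by_contra hcon
      push Not at hcon
      have h1 : Ideal.ofList lb ≤ maximalIdeal R • Ideal.span {a0} ⊔ (Ideal.ofList as ⊔ J) :=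
        Ideal.span_le.mpr fun r hr => hcon r hr
      have h2 : a0 ∈ maximalIdeal R • Ideal.span {a0} ⊔ (Ideal.ofList as ⊔ J) := by
        have h3 : a0 ∈ Ideal.ofList (a0 :: as) ⊔ J :=
          Ideal.mem_sup_left (Ideal.subset_span List.mem_cons_self)
        rw [hI] at h3
        exact (sup_le h1 hJK') h3
      obtain ⟨x, hx, w, hw, hxw⟩ := Submodule.mem_sup.mp h2
      obtain ⟨μ, hμ, rfl⟩ := Submodule.mem_smul_span_singleton.mp hx
      obtain ⟨u, hu⟩ := IsLocalRing.isUnit_one_sub_self_of_mem_nonunits μ
        ((IsLocalRing.mem_maximalIdeal μ).mp hμ)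
      apply hA
      have h4 : (1 - μ) * a0 = w := by
        rw [smul_eq_mul] at hxw
        linear_combination -hxw
      have h5 : a0 = ↑u⁻¹ * w := by
        rw [← h4, ← hu, ← mul_assoc, Units.inv_mul, one_mul]
      rw [h5]
      exact Ideal.mul_mem_left _ _ hw
    obtain ⟨bj, hbj, hbjK'⟩ := hB
    have h3 : bj ∈ Ideal.span {a0} ⊔ (Ideal.ofList as ⊔ J) := by
      have h4 : bj ∈ Ideal.ofList lb ⊔ J := Ideal.mem_sup_left (Ideal.subset_span hbj)
      rw [← hI, Ideal.ofList_cons, sup_assoc] at h4
      exact h4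
    obtain ⟨x, hx, w, hw, hxw⟩ := Submodule.mem_sup.mp h3
    obtain ⟨t, rfl⟩ := Ideal.mem_span_singleton'.mp hx
    have ht : IsUnit t := by
      by_contra hnu
      apply hbjK'
      rw [← hxw]
      exact Ideal.add_mem _ (Ideal.mem_sup_left (Submodule.smul_mem_smul
        ((IsLocalRing.mem_maximalIdeal t).mpr hnu) (Ideal.mem_span_singleton_self a0)))
        (Ideal.mem_sup_right hw)
    have hNbj : IsSMulRegular (M ⧸ (Ideal.ofList as • ⊤ : Submodule R M)) bj := by
      have h4 : IsSMulRegular (M ⧸ (Ideal.ofList as • ⊤ : Submodule R M)) (t * a0) :=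
        (ht.isSMulRegular _).mul hN
      have h5 : (fun y : M ⧸ (Ideal.ofList as • ⊤ : Submodule R M) => bj • y) =
          fun y => (t * a0) • y := by
        funext y
        rw [← hxw, add_smul, kills w hw y, add_zero]
      unfold IsSMulRegular
      rw [h5]
      exact h4
    have hbjm : bj ∈ maximalIdeal R := hlbm bj hbj
    have hreg2 : IsWeaklyRegular M (as ++ [bj]) := by
      rw [isWeaklyRegular_append_iff, isWeaklyRegular_singleton_iff]
      exact ⟨hwas, hNbj⟩
    have hreg3' : IsWeaklyRegular M (bj :: as) :=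
      IsLocalRing.isWeaklyRegular_of_perm_of_subset_maximalIdeal hreg2
        (List.perm_append_singleton bj as) (by
          intro r hr
          rcases List.mem_append.mp hr with h | h
          · exact hasm r h
          · rw [List.mem_singleton.mp h]; exact hbjm)
    have hreg3 := hreg3'
    rw [isWeaklyRegular_cons_iff] at hreg3
    obtain ⟨hbjreg, hregQ⟩ := hreg3
    have hnt : Nontrivial (QuotSMulTop bj M) := nontrivial_quotSMulTop_of_mem_maximalIdeal M hbjm
    have hJ' : J ⊔ Ideal.span {bj} ≤ Module.annihilator R (QuotSMulTop bj M) :=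
      sup_le (hJ.trans (LinearMap.annihilator_le_of_surjective _ (Submodule.mkQ_surjective _)))
        ((Ideal.span_singleton_le_iff_mem _).mpr (QuotSMulTop.mem_annihilator M bj))
    have hbjle : Ideal.span {bj} ≤ J ⊔ Ideal.span {bj} := le_sup_right
    have hJJ' : J ≤ J ⊔ Ideal.span {bj} := le_sup_left
    have hlbperm : lb.Perm (bj :: lb.erase bj) := List.perm_cons_erase hbj
    have hlb_of : Ideal.ofList lb = Ideal.span {bj} ⊔ Ideal.ofList (lb.erase bj) := by
      rw [← Ideal.ofList_cons]
      exact ofList_perm hlbperm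
    have ha0mem : a0 ∈ Ideal.span {bj} ⊔ (Ideal.ofList as ⊔ J) := by
      obtain ⟨u, rfl⟩ := ht
      have h4 : a0 = ↑u⁻¹ * (bj - w) := by
        rw [← hxw, add_sub_cancel_right, ← mul_assoc, Units.inv_mul, one_mul]
      rw [h4]
      exact Ideal.mul_mem_left _ _ (Ideal.sub_mem _
        (Ideal.mem_sup_left (Ideal.mem_span_singleton_self bj)) (Ideal.mem_sup_right hw))
    have hI' : Ideal.ofList as ⊔ (J ⊔ Ideal.span {bj}) =
        Ideal.ofList (lb.erase bj) ⊔ (J ⊔ Ideal.span {bj}) := by
      apply le_antisymm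
      · refine sup_le ?_ le_sup_right
        calc Ideal.ofList as ≤ Ideal.ofList (a0 :: as) ⊔ J :=
              le_sup_of_le_left (by rw [Ideal.ofList_cons]; exact le_sup_right)
          _ = Ideal.ofList lb ⊔ J := hI
          _ ≤ Ideal.ofList (lb.erase bj) ⊔ (J ⊔ Ideal.span {bj}) := by
              rw [hlb_of]
              exact sup_le (sup_le (hbjle.trans le_sup_right) le_sup_left)
                (hJJ'.trans le_sup_right)
      · refine sup_le ?_ le_sup_right
        calc Ideal.ofList (lb.erase bj) ≤ Ideal.ofList lb ⊔ J :=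
              le_sup_of_le_left (by rw [hlb_of]; exact le_sup_right)
          _ = Ideal.ofList (a0 :: as) ⊔ J := hI.symm
          _ ≤ Ideal.ofList as ⊔ (J ⊔ Ideal.span {bj}) := by
              rw [Ideal.ofList_cons]
              refine sup_le (sup_le ?_ le_sup_left) (hJJ'.trans le_sup_right)
              rw [Ideal.span_singleton_le_iff_mem]
              exact (sup_le (hbjle.trans le_sup_right)
                (sup_le le_sup_left (hJJ'.trans le_sup_right))) ha0mem
    have hreg4 : IsWeaklyRegular M (bj :: lb.erase bj) :=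
      IsLocalRing.isWeaklyRegular_of_perm_of_subset_maximalIdeal hregb hlbperm hlbm
    have hregQb : IsWeaklyRegular (QuotSMulTop bj M) (lb.erase bj) :=
      ((isWeaklyRegular_cons_iff M bj _).mp hreg4).2
    have hIH := ih (QuotSMulTop bj M) (J ⊔ Ideal.span {bj}) hJ' as (lb.erase bj) hlas hasm hregQ
      hregQb hI'
    -- ideal bookkeeping
    have e1 : ∀ w : List R, Ideal.ofList (bj :: w) ⊔ J = Ideal.ofList w ⊔ (J ⊔ Ideal.span {bj}) := by
      intro w
      rw [Ideal.ofList_cons, sup_comm (Ideal.span {bj}) (Ideal.ofList w), sup_assoc,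
        sup_comm (Ideal.span {bj}) J]
    have hbjas : Ideal.ofList (bj :: as) ⊔ J = Ideal.ofList (a0 :: as) ⊔ J := by
      rw [Ideal.ofList_cons, Ideal.ofList_cons]
      apply le_antisymm
      · refine sup_le (sup_le ?_ (le_sup_of_le_left le_sup_right)) le_sup_right
        rw [Ideal.span_singleton_le_iff_mem, sup_assoc]
        exact h3
      · refine sup_le (sup_le ?_ (le_sup_of_le_left le_sup_right)) le_sup_right
        rw [Ideal.span_singleton_le_iff_mem, sup_assoc]
        exact ha0mem
    have hlift : Relation.ReflTransGen (step M J (Ideal.ofList (a0 :: as) ⊔ J)) (bj :: as)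
        (bj :: lb.erase bj) := by
      refine hIH.lift (fun w => bj :: w) ?_
      intro w w' hww
      have hg : ∀ z : List R, good (QuotSMulTop bj M) (J ⊔ Ideal.span {bj})
          (Ideal.ofList as ⊔ (J ⊔ Ideal.span {bj})) z →
          good M J (Ideal.ofList (a0 :: as) ⊔ J) (bj :: z) := by
        intro z hz
        refine ⟨(isWeaklyRegular_cons_iff M bj z).mpr ⟨hbjreg, hz.1⟩, ?_⟩
        rw [e1 z, hz.2, ← e1 as, hbjas]
      exact ⟨rel_cons bj hww.1, hg w hww.2.1, hg w' hww.2.2⟩
    have g0 : good M J (Ideal.ofList (a0 :: as) ⊔ J) (a0 :: as) := ⟨hreg, rfl⟩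
    have g1 : good M J (Ideal.ofList (a0 :: as) ⊔ J) (as ++ [a0]) :=
      ⟨hreg1', by rw [ofList_perm (List.perm_append_singleton a0 as)]⟩
    have g2 : good M J (Ideal.ofList (a0 :: as) ⊔ J) (as ++ [bj]) :=
      ⟨hreg2, by rw [ofList_perm (List.perm_append_singleton bj as)]; exact hbjas⟩
    have g3 : good M J (Ideal.ofList (a0 :: as) ⊔ J) (bj :: as) := ⟨hreg3', hbjas⟩
    have g4 : good M J (Ideal.ofList (a0 :: as) ⊔ J) (bj :: lb.erase bj) :=
      ⟨hreg4, by rw [← ofList_perm hlbperm]; exact hI.symm⟩
    have g5 : good M J (Ideal.ofList (a0 :: as) ⊔ J) lb := ⟨hregb, hI.symm⟩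
    have s1 : step M J (Ideal.ofList (a0 :: as) ⊔ J) (a0 :: as) (as ++ [a0]) :=
      ⟨Or.inl (List.perm_append_singleton a0 as).symm, g0, g1⟩
    have s2 : step M J (Ideal.ofList (a0 :: as) ⊔ J) (as ++ [a0]) (as ++ [bj]) :=
      ⟨Or.inr ⟨by simp, by rw [List.dropLast_concat, List.dropLast_concat]⟩, g1, g2⟩
    have s3 : step M J (Ideal.ofList (a0 :: as) ⊔ J) (as ++ [bj]) (bj :: as) :=
      ⟨Or.inl (List.perm_append_singleton bj as), g2, g3⟩
    have s5 : step M J (Ideal.ofList (a0 :: as) ⊔ J) (bj :: lb.erase bj) lb :=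
      ⟨Or.inl hlbperm.symm, g4, g5⟩
    exact (((Relation.ReflTransGen.single s1).tail s2).tail s3).trans (hlift.tail s5)

/-- Let A be a Noetherian local ring and u, v two regular sequences of elements of A generating the same
ideal. Then there is a finite chain of regular sequences generating that same ideal, starting at u
and ending at v, in which each sequence is obtained from the previous one either by a permutation or
by changing only its last element. -/
theorem result (A : Type u) [CommRing A] [IsLocalRing A] [IsNoetherianRing A]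
    (u v : List A) (hu : IsRegular A u) (hv : IsRegular A v) (huv : Ideal.span {x | x ∈ u} = Ideal.span {x | x ∈ v}) :
    ∃ ws : List (List A), ws.head? = some u ∧ ws.getLast? = some v ∧
      (∀ w ∈ ws, IsRegular A w ∧ Ideal.span {x | x ∈ w} = Ideal.span {x | x ∈ u}) ∧
      List.IsChain (fun w w' : List A => w.Perm w' ∨ (w.length = w'.length ∧ w.dropLast = w'.dropLast)) ws := by
  have hne : Ideal.ofList u ≠ ⊤ := by
    intro h
    apply hu.top_ne_smul
    rw [h, Submodule.top_smul]
  have hum : ∀ r ∈ u, r ∈ IsLocalRing.maximalIdeal A := fun r hr =>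
    IsLocalRing.le_maximalIdeal hne (Ideal.subset_span hr)
  have hI : Ideal.ofList u ⊔ ⊥ = Ideal.ofList v ⊔ ⊥ := by
    rw [sup_bot_eq, sup_bot_eq]; exact huv
  have hchain := key2 u.length A ⊥ bot_le u v rfl hum hu.toIsWeaklyRegular hv.toIsWeaklyRegular hI
  obtain ⟨l, hl1, hl2⟩ := List.exists_isChain_cons_of_relationReflTransGen hchain
  refine ⟨u :: l, rfl, ?_, ?_, hl1.imp fun _ _ h => h.1⟩
  · rw [List.getLast?_eq_some_getLast (List.cons_ne_nil _ _)]
    exact congrArg some hl2
  · have hgood : ∀ w ∈ u :: l, good A ⊥ (Ideal.ofList u ⊔ ⊥) w :=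
      hl1.induction (good A ⊥ (Ideal.ofList u ⊔ ⊥)) _ (fun x y hxy _ => hxy.2.2)
        (fun _ => ⟨hu.toIsWeaklyRegular, rfl⟩)
    intro w hw
    obtain ⟨hw1, hw2⟩ := hgood w hw
    rw [sup_bot_eq, sup_bot_eq] at hw2
    refine ⟨RingTheory.Sequence.IsRegular.of_isWeaklyRegular_of_mem_maximalIdeal A ?_ hw1, hw2⟩
    intro r hr
    have h1 : r ∈ Ideal.ofList u := by rw [← hw2]; exact Ideal.subset_span hr
    exact IsLocalRing.le_maximalIdeal hne h1

end Groth.Agent.S3140
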