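import Groth.Statements.S3194
import Groth.Agent.H34.KZ

set_option autoImplicit false
universe u
open CategoryTheory
open SGA6

namespace Groth.Agent.S3194

open KZero Groth.Agent.H34.KZ

variable (A : Type u) [CommRing A]

abbrev P : ObjectProperty (ModuleCat.{u} A) := fun M => Module.Finite A M

theorem cl_of_exact (M₁ M M₂ : ModuleCat.{u} A) (h₁ : P A M₁) (h : P A M) (h₂ : P A M₂)
    (f : M₁ →ₗ[A] M) (g : M →ₗ[A] M₂) (hf : Function.Injective f) (hg : Function.Surjective g)
    (hfg : Function.Exact f g) :
    clSub (P A) M = clSub (P A) M₁ + clSub (P A) M₂ := by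
  have hfg' : ModuleCat.ofHom f ≫ ModuleCat.ofHom g = 0 := by
    ext x
    exact hfg.apply_apply_eq_zero x
  let S : ShortComplex (ModuleCat.{u} A) := ShortComplex.mk (ModuleCat.ofHom f) (ModuleCat.ofHom g) hfg'
  have hS : S.ShortExact := by
    refine ShortComplex.ShortExact.mk' ?_ ?_ ?_
    · rw [ShortComplex.ShortExact.moduleCat_exact_iff_function_exact]
      exact hfg
    · rw [ModuleCat.mono_iff_injective]
      exact hf
    · rw [ModuleCat.epi_iff_surjective]
      exact hg
  exact cl_shortExact (P A) S h₁ h h₂ hS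

theorem cl_add (M M₁ M₂ : ModuleCat.{u} A) (h : P A M) (h₁ : P A M₁) (h₂ : P A M₂)
    (e : M ≃ₗ[A] M₁ × M₂) :
    clSub (P A) M = clSub (P A) M₁ + clSub (P A) M₂ := by
  refine cl_of_exact A M₁ M M₂ h₁ h h₂ (e.symm.toLinearMap ∘ₗ LinearMap.inl A M₁ M₂)
    (LinearMap.snd A M₁ M₂ ∘ₗ e.toLinearMap) ?_ ?_ ?_
  · intro x y hxy
    have h3 : e.symm (x, 0) = e.symm (y, 0) := hxy
    exact (Prod.mk.inj (e.symm.injective h3)).1
  · intro z
    refine ⟨e.symm (0, z), ?_⟩
    show (e (e.symm (0, z))).2 = z
    rw [LinearEquiv.apply_symm_apply]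
  · intro y
    constructor
    · intro hy
      refine ⟨(e y).1, ?_⟩
      have h2 : (e y).2 = 0 := hy
      show e.symm ((e y).1, 0) = y
      rw [← h2, Prod.mk.eta, LinearEquiv.symm_apply_apply]
    · rintro ⟨x, rfl⟩
      show (e (e.symm (x, 0))).2 = 0
      rw [LinearEquiv.apply_symm_apply]

theorem cl_subsingleton (M : ModuleCat.{u} A) (h : P A M) [Subsingleton M] :
    clSub (P A) M = 0 := by
  have e : M ≃ₗ[A] M × M := LinearEquiv.ofSubsingleton _ _
  have h1 := cl_add A M M M h h h e
  have h2 : clSub (P A) M + 0 = clSub (P A) M + clSub (P A) M := by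
    rw [add_zero]
    exact h1
  exact (add_left_cancel h2).symm

theorem cl_eq_nsmul : ∀ (n : ℕ) (M : ModuleCat.{u} A) (_ : P A M), (M ≃ₗ[A] (Fin n → A)) →
    clSub (P A) M = n • clSub (P A) (ModuleCat.of A A) := by
  intro n
  induction n with
  | zero =>
    intro M h e
    have : Subsingleton M := e.toEquiv.subsingleton
    rw [zero_nsmul, cl_subsingleton A M h]
  | succ n ih =>
    intro M h e
    have hR : P A (ModuleCat.of A A) := (inferInstance : Module.Finite A A)
    have hRn : P A (ModuleCat.of A (Fin n → A)) := (inferInstance : Module.Finite A (Fin n → A))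
    have e' : M ≃ₗ[A] (ModuleCat.of A A) × (ModuleCat.of A (Fin n → A)) :=
      e.trans (Fin.consLinearEquiv A (fun _ : Fin (n + 1) => A)).symm
    rw [cl_add A M _ _ h hR hRn e', ih _ hRn (LinearEquiv.refl A _), succ_nsmul']

theorem cl_mem [IsDomain A] [IsPrincipalIdealRing A] (M : ModuleCat.{u} A) (h : P A M) :
    ∃ k : ℤ, clSub (P A) M = k • clSub (P A) (ModuleCat.of A A) := by
  have : Module.Finite A M := h
  obtain ⟨n, f, hf⟩ := Module.Finite.exists_fin' A M
  let K : Submodule A (Fin n → A) := LinearMap.ker f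
  obtain ⟨m, b⟩ := Submodule.basisOfPid (Pi.basisFun A (Fin n)) K
  have hK : P A (ModuleCat.of A K) := Module.Finite.of_basis b
  have hAn : P A (ModuleCat.of A (Fin n → A)) := (inferInstance : Module.Finite A (Fin n → A))
  have h1 := cl_of_exact A (ModuleCat.of A K) (ModuleCat.of A (Fin n → A)) M hK hAn h
    K.subtype f Subtype.val_injective hf (by
      intro y
      constructor
      · intro hy
        exact ⟨⟨y, hy⟩, rfl⟩
      · rintro ⟨x, rfl⟩
        exact x.2)
  rw [cl_eq_nsmul A n _ hAn (LinearEquiv.refl A _), cl_eq_nsmul A m _ hK b.equivFun] at h1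
  refine ⟨(n : ℤ) - (m : ℤ), ?_⟩
  rw [sub_smul, natCast_zsmul, natCast_zsmul, h1]
  abel

/-- Let A be a principal ideal domain and K_•(Spec A) = K₀ of the category of finitely generated
A-modules (free abelian group on finitely generated modules modulo short exact sequences). The
homomorphism ℤ ⟶ K_•(Spec A) sending k to k·[A] is bijective. -/
theorem result (A : Type u) [CommRing A] [IsDomain A] [IsPrincipalIdealRing A] :
    Function.Bijective (fun k : ℤ => k • KZero.clSub (fun M : ModuleCat.{u} A => Module.Finite A M) (ModuleCat.of A A)) := by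
  have hA : P A (ModuleCat.of A A) := (inferInstance : Module.Finite A A)
  constructor
  · obtain ⟨φ, hφ⟩ := exists_hom_of_additive (P A) (fun M => (Module.finrank A M.1 : ℤ)) (by
      intro S h₁ h₂ h₃ hS
      have : Module.Finite A S.X₁ := h₁
      have : Module.Finite A S.X₂ := h₂
      have : Module.Finite A S.X₃ := h₃
      have e1 := (LinearMap.ker S.g.hom).finrank_quotient_add_finrank
      have e2 : Module.finrank A (S.X₂ ⧸ LinearMap.ker S.g.hom) = Module.finrank A S.X₃ :=
        LinearEquiv.finrank_eq (S.g.hom.quotKerEquivOfSurjective hS.moduleCat_surjective_g)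
      have hex := (ShortComplex.ShortExact.moduleCat_exact_iff_function_exact S).mp hS.exact
      have e3 : Module.finrank A (LinearMap.ker S.g.hom) = Module.finrank A S.X₁ := by
        have hex' : Function.Exact S.f.hom S.g.hom := hex
        rw [LinearMap.exact_iff.mp hex']
        exact LinearMap.finrank_range_of_inj hS.moduleCat_injective_f
      show (Module.finrank A S.X₂ : ℤ) = (Module.finrank A S.X₁ : ℤ) + (Module.finrank A S.X₃ : ℤ)
      rw [← e1, e2, e3]
      push_cast
      ring)
    intro k l hkl
    have h2 := congrArg φ hkl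
    simp only [map_zsmul] at h2
    rw [hφ _ hA] at h2
    have h3 : (Module.finrank A (ModuleCat.of A A) : ℤ) = 1 := by
      have : Module.finrank A (ModuleCat.of A A) = 1 := Module.finrank_self A
      rw [this]; rfl
    simpa [h3] using h2
  · intro x
    induction x using QuotientAddGroup.induction_on with
    | H y =>
      induction y using FreeAbelianGroup.induction_on with
      | zero => exact ⟨0, by simp⟩
      | of M =>
        obtain ⟨k, hk⟩ := cl_mem A M.1 M.2
        refine ⟨k, ?_⟩
        show k • clSub (P A) (ModuleCat.of A A) = _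
        rw [← hk, clSub_eq (P A) M.2]
      | neg M ih =>
        obtain ⟨k, hk⟩ := ih
        refine ⟨-k, ?_⟩
        show (-k) • clSub (P A) (ModuleCat.of A A) = _
        rw [neg_smul, QuotientAddGroup.mk_neg]
        exact congrArg Neg.neg hk
      | add a b iha ihb =>
        obtain ⟨k, hk⟩ := iha
        obtain ⟨l, hl⟩ := ihb
        refine ⟨k + l, ?_⟩
        show (k + l) • clSub (P A) (ModuleCat.of A A) = _
        rw [add_smul, QuotientAddGroup.mk_add]
        exact congrArg₂ (· + ·) hk hl

end Groth.Agent.S3194
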