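import Groth.Statements.S3206
import Mathlib
import Groth.Agent.H65.FormalInv

set_option autoImplicit false
open SGA7

namespace Groth.Agent.S3206

open MvPowerSeries Finsupp Groth.Agent.H65

section aux

theorem exists_seq {α : Type*} (I : ℕ → α → Prop) (Rel : ℕ → α → α → Prop) (a0 : α) (h0 : I 0 a0)
    (step : ∀ N a, I N a → ∃ b, I (N + 1) b ∧ Rel N a b) :
    ∃ E : ℕ → α, (∀ N, I N (E N)) ∧ ∀ N, Rel N (E N) (E (N + 1)) := by
  classical
  let E' : (N : ℕ) → {a // I N a} := fun N =>
    Nat.rec (motive := fun N => {a // I N a}) ⟨a0, h0⟩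
      (fun N p => ⟨Classical.choose (step N p.1 p.2),
        (Classical.choose_spec (step N p.1 p.2)).1⟩) N
  refine ⟨fun N => (E' N).1, fun N => (E' N).2, fun N => ?_⟩
  exact (Classical.choose_spec (step N (E' N).1 (E' N).2)).2

variable {k : Type} [Field k] {n : ℕ}

/-- order (total degree) at least `N` -/
abbrev Ord (g : MvPowerSeries (Fin n) k) (N : ℕ) : Prop := WOrd (fun _ : Fin n => 1) g N

theorem wdeg (e : Fin n →₀ ℕ) : weight (fun _ : Fin n => 1) e = e.degree :=
  (DFunLike.congr_fun degree_eq_weight_one e).symm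

theorem wdeg_add_single (e : Fin n →₀ ℕ) (j : Fin n) :
    weight (fun _ : Fin n => 1) (e + single j 1) = weight (fun _ : Fin n => 1) e + 1 := by
  rw [map_add, weight_single, one_smul]

theorem exists_div (h : MvPowerSeries (Fin n) k) (N : ℕ) (hh : Ord h (N + 1)) :
    ∃ δ : Fin n → MvPowerSeries (Fin n) k, (∀ j, Ord (δ j) N) ∧ h = ∑ j, X j * δ j := by
  classical
  let δ : Fin n → MvPowerSeries (Fin n) k := fun j e' =>
    if (∀ i, i < j → e' i = 0) then coeff (e' + single j 1) h else 0
  have hδ : ∀ j e', coeff e' (δ j) =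
      if (∀ i, i < j → e' i = 0) then coeff (e' + single j 1) h else 0 := fun j e' => rfl
  refine ⟨δ, ?_, ?_⟩
  · intro j e' he'
    rw [hδ]
    split_ifs with hc
    · apply hh
      rw [wdeg_add_single]
      omega
    · rfl
  · ext e
    rw [map_sum]
    have hterm : ∀ j, coeff e (X j * δ j) =
        if (e j ≠ 0 ∧ ∀ i, i < j → e i = 0) then coeff e h else 0 := by
      intro j
      rw [X_def, coeff_monomial_mul, one_mul, hδ]
      by_cases hj : e j ≠ 0
      · have hle : single j 1 ≤ e := single_le_iff.mpr (Nat.one_le_iff_ne_zero.mpr hj)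
        rw [if_pos hle, tsub_add_cancel_of_le hle]
        have hiff : (∀ i, i < j → (e - single j 1 : Fin n →₀ ℕ) i = 0) ↔ (∀ i, i < j → e i = 0) := by
          have hval : ∀ i, i < j → (e - single j 1 : Fin n →₀ ℕ) i = e i := by
            intro i hi
            rw [Finsupp.tsub_apply, Finsupp.single_apply, if_neg hi.ne', tsub_zero]
          constructor
          · intro H i hi
            rw [← hval i hi]
            exact H i hi
          · intro H i hi
            rw [hval i hi]
            exact H i hi
        by_cases hc : ∀ i, i < j → e i = 0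
        · rw [if_pos (hiff.mpr hc), if_pos ⟨hj, hc⟩]
        · rw [if_neg (fun h' => hc (hiff.mp h')), if_neg (fun h' => hc h'.2)]
      · have hle : ¬ single j 1 ≤ e := fun hle =>
          hj (Nat.one_le_iff_ne_zero.mp (single_le_iff.mp hle))
        rw [if_neg hle, if_neg (fun hc => hj hc.1)]
    simp_rw [hterm]
    by_cases h0 : e = 0
    · subst h0
      rw [Finset.sum_eq_zero]
      · exact hh 0 (by simp)
      · intro j _
        rw [if_neg]
        intro hc
        exact hc.1 rfl
    · have hne : e.support.Nonempty := support_nonempty_iff.mpr h0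
      have hj0 : e (e.support.min' hne) ≠ 0 := mem_support_iff.mp (Finset.min'_mem _ hne)
      have hmin : ∀ i, i < e.support.min' hne → e i = 0 := by
        intro i hi
        by_contra hne'
        have := Finset.min'_le e.support i (mem_support_iff.mpr hne')
        exact absurd hi (not_lt.mpr this)
      rw [Finset.sum_eq_single (e.support.min' hne)]
      · rw [if_pos ⟨hj0, hmin⟩]
      · intro j _ hj
        rw [if_neg]
        rintro ⟨hj1, hj2⟩
        apply hj
        rcases lt_trichotomy j (e.support.min' hne) with hlt | heq | hgt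
        · exact absurd (hmin j hlt) hj1
        · exact heq
        · exact absurd (hj2 _ hgt) hj0
      · intro h
        exact absurd (Finset.mem_univ _) h

theorem pderiv_ord {g : MvPowerSeries (Fin n) k} {N : ℕ} (hg : Ord g (N + 1)) (i : Fin n) :
    Ord (pderiv k i g) N := by
  intro e he
  rw [coeff_pderiv, hg, zero_mul]
  rw [wdeg_add_single]
  omega

theorem deg_lt_three (e : Fin n →₀ ℕ) (he : e.degree < 3) :
    e = 0 ∨ (∃ a, e = single a 1) ∨ (∃ a b, a ≤ b ∧ e = single a 1 + single b 1) := by
  by_cases h0 : e = 0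
  · left; exact h0
  right
  obtain ⟨a, ha⟩ : ∃ a, e a ≠ 0 := by
    by_contra h
    push Not at h
    exact h0 (Finsupp.ext h)
  have hle : single a 1 ≤ e := single_le_iff.mpr (Nat.one_le_iff_ne_zero.mpr ha)
  have he' : e = single a 1 + (e - single a 1) := (add_tsub_cancel_of_le hle).symm
  have hd : e.degree = 1 + (e - single a 1).degree := by
    conv_lhs => rw [he']
    rw [map_add, degree_single]
  by_cases h1 : e - single a 1 = 0
  · left
    exact ⟨a, by rw [he', h1, add_zero]⟩
  right
  obtain ⟨b, hb⟩ : ∃ b, (e - single a 1 : Fin n →₀ ℕ) b ≠ 0 := by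
    by_contra h
    push Not at h
    exact h1 (Finsupp.ext h)
  have hle2 : single b 1 ≤ e - single a 1 := single_le_iff.mpr (Nat.one_le_iff_ne_zero.mpr hb)
  have he'' : e - single a 1 = single b 1 + (e - single a 1 - single b 1) :=
    (add_tsub_cancel_of_le hle2).symm
  have hd2 : (e - single a 1).degree = 1 + (e - single a 1 - single b 1).degree := by
    conv_lhs => rw [he'']
    rw [map_add, degree_single]
  have hz : (e - single a 1 - single b 1).degree = 0 := by omega
  have hz' : e - single a 1 - single b 1 = 0 := (degree_eq_zero_iff _).mp hz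
  have hfin : e = single a 1 + single b 1 := by
    rw [he', he'', hz', add_zero]
  rcases le_total a b with h | h
  · exact ⟨a, b, h, hfin⟩
  · exact ⟨b, a, h, by rw [hfin, add_comm]⟩

theorem pair_unique {a b a' b' : Fin n} (hab : a ≤ b) (hab' : a' ≤ b')
    (heq : (single a 1 + single b 1 : Fin n →₀ ℕ) = single a' 1 + single b' 1) :
    a' = a ∧ b' = b := by
  by_cases haa : a' = a
  · subst haa
    have h3 := add_left_cancel heq
    have hb := DFunLike.congr_fun h3 b
    simp only [Finsupp.single_apply, if_true] at hb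
    refine ⟨rfl, ?_⟩
    by_contra hne
    rw [if_neg hne] at hb
    exact one_ne_zero hb
  · exfalso
    have hba : b = a' := by
      by_contra hne
      have h1 := DFunLike.congr_fun heq a'
      rw [Finsupp.add_apply, Finsupp.add_apply, Finsupp.single_apply, Finsupp.single_apply,
        Finsupp.single_apply, if_neg (Ne.symm haa), if_neg hne, if_pos rfl] at h1
      omega
    have hab2 : b' = a := by
      by_contra hne
      have h2 := DFunLike.congr_fun heq a
      rw [Finsupp.add_apply, Finsupp.add_apply, Finsupp.single_apply (a := a') ,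
        Finsupp.single_apply (a := b'), if_neg haa, if_neg hne, Finsupp.single_eq_same] at h2
      omega
    have hle : b ≤ a := by
      rw [hba, ← hab2]
      exact hab'
    have : a = b := le_antisymm hab hle
    exact haa (hba.symm.trans this.symm)

/-- the quadratic form with coefficients `c` on pairs in `S` -/
noncomputable def Qf (c : Fin n × Fin n → k) (S : Finset (Fin n × Fin n))
    (v : Fin n → MvPowerSeries (Fin n) k) : MvPowerSeries (Fin n) k :=
  ∑ p ∈ S, c p • (v p.1 * v p.2)

/-- its polar form -/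
noncomputable def Bf (c : Fin n × Fin n → k) (S : Finset (Fin n × Fin n))
    (u v : Fin n → MvPowerSeries (Fin n) k) : MvPowerSeries (Fin n) k :=
  ∑ p ∈ S, c p • (u p.1 * v p.2 + v p.1 * u p.2)

variable (c : Fin n × Fin n → k) (S : Finset (Fin n × Fin n))

theorem Qf_add (u v : Fin n → MvPowerSeries (Fin n) k) :
    Qf c S (u + v) = Qf c S u + Bf c S u v + Qf c S v := by
  simp only [Qf, Bf, ← Finset.sum_add_distrib]
  apply Finset.sum_congr rfl
  intro p _
  simp only [Pi.add_apply, ← smul_add]
  congr 1
  ring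

theorem Bf_add_left (u u' v : Fin n → MvPowerSeries (Fin n) k) :
    Bf c S (u + u') v = Bf c S u v + Bf c S u' v := by
  simp only [Bf, ← Finset.sum_add_distrib]
  apply Finset.sum_congr rfl
  intro p _
  simp only [Pi.add_apply, ← smul_add]
  congr 1
  ring

theorem Bf_ord {u v : Fin n → MvPowerSeries (Fin n) k} {a b : ℕ} (hu : ∀ i, Ord (u i) a)
    (hv : ∀ i, Ord (v i) b) : Ord (Bf c S u v) (a + b) := by
  apply WOrd.sum
  intro p _
  apply WOrd.smul
  apply WOrd.add
  · exact (hu p.1).mul (hv p.2)
  · have := (hv p.1).mul (hu p.2)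
    rwa [add_comm] at this

theorem Qf_ord {v : Fin n → MvPowerSeries (Fin n) k} {b : ℕ}
    (hv : ∀ i, Ord (v i) b) : Ord (Qf c S v) (b + b) := by
  apply WOrd.sum
  intro p _
  apply WOrd.smul
  exact (hv p.1).mul (hv p.2)

/-- the coordinate family -/
noncomputable def Xv : Fin n → MvPowerSeries (Fin n) k := fun i => X i

theorem Bf_X (δ : Fin n → MvPowerSeries (Fin n) k) :
    Bf c S Xv δ = ∑ i, pderiv k i (Qf c S Xv) * δ i := by
  classical
  have hp : ∀ i, pderiv k i (Qf c S Xv) = ∑ p ∈ S, c p •
      ((X p.1 : MvPowerSeries (Fin n) k) * (if p.2 = i then 1 else 0) +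
        X p.2 * (if p.1 = i then 1 else 0)) := by
    intro i
    simp only [Qf, Xv, map_sum, Derivation.map_smul, Derivation.leibniz, smul_eq_mul, pderiv_X,
      Pi.single_apply]
  simp only [hp, Finset.sum_mul]
  rw [Finset.sum_comm]
  simp only [Bf]
  apply Finset.sum_congr rfl
  intro p _
  simp only [smul_mul_assoc, ← Finset.smul_sum]
  congr 1
  simp only [add_mul, mul_assoc, ite_mul, one_mul, zero_mul, mul_ite, mul_zero,
    Finset.sum_add_distrib, Finset.sum_ite_eq, Finset.mem_univ, if_true, Xv]
  ring

/-- coefficients of the quadratic part of `f` -/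
noncomputable def cf (f : MvPowerSeries (Fin n) k) : Fin n × Fin n → k :=
  fun p => coeff (single p.1 1 + single p.2 1) f

/-- ordered pairs -/
def Sn (n : ℕ) : Finset (Fin n × Fin n) := Finset.univ.filter fun p => p.1 ≤ p.2

theorem coeff_Qf_X (e : Fin n →₀ ℕ) :
    coeff e (Qf c S Xv) = ∑ p ∈ S, c p * (if e = single p.1 1 + single p.2 1 then 1 else 0) := by
  classical
  simp only [Qf, Xv, map_sum]
  apply Finset.sum_congr rfl
  intro p _
  rw [X_def, X_def, monomial_mul_monomial, one_mul, map_smul, coeff_monomial, smul_eq_mul]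

theorem claimA (f : MvPowerSeries (Fin n) k) (hf0 : constantCoeff f = 0)
    (hlin : ∀ a, coeff (single a 1) f = 0) :
    Ord (f - Qf (cf f) (Sn n) Xv) 3 := by
  classical
  intro e he
  rw [wdeg] at he
  rw [map_sub, sub_eq_zero, coeff_Qf_X]
  rcases deg_lt_three e he with rfl | ⟨a, rfl⟩ | ⟨a, b, hab, rfl⟩
  · rw [coeff_zero_eq_constantCoeff_apply, hf0, Finset.sum_eq_zero]
    intro p _
    rw [if_neg, mul_zero]
    intro h
    have := congrArg degree h
    simp at this
  · rw [hlin, Finset.sum_eq_zero]
    intro p _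
    rw [if_neg, mul_zero]
    intro h
    have := congrArg degree h
    simp at this
  · rw [Finset.sum_eq_single (a, b)]
    · rw [if_pos rfl, mul_one]
      rfl
    · intro p hp hne
      rw [if_neg, mul_zero]
      intro h
      have hp' : p.1 ≤ p.2 := (Finset.mem_filter.mp hp).2
      obtain ⟨h1, h2⟩ := pair_unique hab hp' h
      exact hne (Prod.ext h1 h2)
    · intro h
      exact (h (Finset.mem_filter.mpr ⟨Finset.mem_univ _, hab⟩)).elim

theorem step (f : MvPowerSeries (Fin n) k)
    (hg : Ord (f - Qf c S Xv) 3)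
    (a : Fin n → Fin n → MvPowerSeries (Fin n) k)
    (ha : ∀ j, (X j : MvPowerSeries (Fin n) k) = ∑ i, a j i * pderiv k i f)
    (N : ℕ) (ε : Fin n → MvPowerSeries (Fin n) k) (hε : ∀ i, Ord (ε i) 2)
    (hr : Ord (f - Qf c S (Xv + ε)) (N + 3)) :
    ∃ δ : Fin n → MvPowerSeries (Fin n) k, (∀ i, Ord (δ i) (N + 2)) ∧
      Ord (f - Qf c S (Xv + ε + δ)) (N + 4) := by
  obtain ⟨ρ, hρ, hrρ⟩ := exists_div (f - Qf c S (Xv + ε)) (N + 2) hr
  refine ⟨fun i => ∑ j, a j i * ρ j, ?_, ?_⟩
  · intro i
    apply WOrd.sum
    intro j _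
    have := (WOrd.zero_order (fun _ : Fin n => 1) (a j i)).mul (hρ j)
    rwa [zero_add] at this
  · set δ : Fin n → MvPowerSeries (Fin n) k := fun i => ∑ j, a j i * ρ j with hδdef
    have hδ : ∀ i, Ord (δ i) (N + 2) := by
      intro i
      apply WOrd.sum
      intro j _
      have := (WOrd.zero_order (fun _ : Fin n => 1) (a j i)).mul (hρ j)
      rwa [zero_add] at this
    have e1 := Qf_add c S (Xv + ε) δ
    have e2 := Bf_add_left c S Xv ε δ
    have e3 := Bf_X c S δ
    have e4 : ∀ i, pderiv k i (Qf c S Xv) = pderiv k i f - pderiv k i (f - Qf c S Xv) := by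
      intro i
      rw [← map_sub, sub_sub_cancel]
    have e5 : ∑ i, pderiv k i f * δ i = f - Qf c S (Xv + ε) := by
      rw [hrρ]
      simp only [hδdef, Finset.mul_sum]
      rw [Finset.sum_comm]
      apply Finset.sum_congr rfl
      intro j _
      rw [ha j, Finset.sum_mul]
      apply Finset.sum_congr rfl
      intro i _
      ring
    have key : f - Qf c S (Xv + ε + δ) =
        ∑ i, pderiv k i (f - Qf c S Xv) * δ i - Bf c S ε δ - Qf c S δ := by
      rw [e1, e2, e3]
      simp only [e4, sub_mul, Finset.sum_sub_distrib, e5]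
      ring
    rw [key]
    apply WOrd.sub
    · apply WOrd.sub
      · apply WOrd.sum
        intro i _
        have := (pderiv_ord (N := 2) hg i).mul (hδ i)
        exact this.mono (by omega)
      · exact (Bf_ord c S hε hδ).mono (by omega)
    · exact (Qf_ord c S hδ).mono (by omega)

end aux

/-- Let k be a field and f a formal power series in n variables over k without constant term whose
partial derivatives ∂f/∂x_1, …, ∂f/∂x_n generate the maximal ideal of k[[x_1, …, x_n]]. Then there
are power series ε_1, …, ε_n with no terms of degree < 2 and a quadratic form q such that f = q(x_1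
+ ε_1, …, x_n + ε_n). -/
theorem result (k : Type) [Field k] (n : ℕ) (f : MvPowerSeries (Fin n) k)
    (hf0 : MvPowerSeries.constantCoeff f = 0)
    (hJ : Ideal.span (Set.range fun i : Fin n => MvPowerSeries.pderiv k i f) = IsLocalRing.maximalIdeal (MvPowerSeries (Fin n) k)) :
    ∃ (ε : Fin n → MvPowerSeries (Fin n) k) (_ : ∀ i (m : Fin n →₀ ℕ), m.degree < 2 → MvPowerSeries.coeff m (ε i) = 0)
      (q : MvPolynomial (Fin n) k) (_ : q.IsHomogeneous 2)
      (_ : MvPowerSeries.HasSubst (fun i : Fin n => MvPowerSeries.X i + ε i)),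
      f = MvPowerSeries.subst (fun i : Fin n => MvPowerSeries.X i + ε i) (q : MvPowerSeries (Fin n) k) := by
  classical
  -- partial derivatives are non-units
  have hmem : ∀ a, pderiv k a f ∈ IsLocalRing.maximalIdeal (MvPowerSeries (Fin n) k) := by
    intro a
    rw [← hJ]
    exact Ideal.subset_span ⟨a, rfl⟩
  have hcc : ∀ g : MvPowerSeries (Fin n) k, g ∈ IsLocalRing.maximalIdeal (MvPowerSeries (Fin n) k) ↔
      constantCoeff g = 0 := by
    intro g
    rw [IsLocalRing.mem_maximalIdeal, mem_nonunits_iff, MvPowerSeries.isUnit_iff_constantCoeff,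
      isUnit_iff_ne_zero, not_not]
  have hlin : ∀ a, coeff (single a 1) f = 0 := by
    intro a
    have h1 := (hcc _).mp (hmem a)
    rw [← coeff_zero_eq_constantCoeff_apply, coeff_pderiv] at h1
    simpa using h1
  have hX : ∀ j, ∃ cj : Fin n → MvPowerSeries (Fin n) k,
      ∑ i, cj i * pderiv k i f = (X j : MvPowerSeries (Fin n) k) := by
    intro j
    have h1 : (X j : MvPowerSeries (Fin n) k) ∈
        Ideal.span (Set.range fun i : Fin n => pderiv k i f) := by
      rw [hJ, hcc]
      exact constantCoeff_X j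
    exact (Ideal.mem_span_range_iff_exists_fun).mp h1
  choose a ha using hX
  have hg := claimA f hf0 hlin
  -- the sequence of approximations
  obtain ⟨E, hE, hEstep⟩ := exists_seq
    (fun N (ε : Fin n → MvPowerSeries (Fin n) k) => (∀ i, Ord (ε i) 2) ∧
      Ord (f - Qf (cf f) (Sn n) (Xv + ε)) (N + 3))
    (fun N ε ε' => ∀ i, Ord (ε' i - ε i) (N + 2)) 0
    ⟨fun i => WOrd.zero _ _, by rw [add_zero]; exact hg⟩
    (by
      rintro N ε ⟨hε1, hε2⟩
      obtain ⟨δ, hδ1, hδ2⟩ := step (cf f) (Sn n) f hg a (fun j => (ha j).symm) N ε hε1 hε2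
      refine ⟨ε + δ, ⟨fun i => ?_, ?_⟩, fun i => ?_⟩
      · exact (hε1 i).add ((hδ1 i).mono (by omega))
      · rw [← add_assoc]
        exact hδ2
      · rw [Pi.add_apply, add_sub_cancel_left]
        exact hδ1 i)
  have tele : ∀ M d i, Ord (E (M + d) i - E M i) (M + 2) := by
    intro M d i
    induction d with
    | zero => rw [add_zero, sub_self]; exact WOrd.zero _ _
    | succ d ih =>
      have h1 := hEstep (M + d) i
      have : E (M + (d + 1)) i - E M i = (E (M + d + 1) i - E (M + d) i) + (E (M + d) i - E M i) := by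
        rw [← add_assoc]; ring
      rw [this]
      exact (h1.mono (by omega)).add ih
  -- the limit
  let ε : Fin n → MvPowerSeries (Fin n) k := fun i e => coeff e (E e.degree i)
  have hεc : ∀ i e, coeff e (ε i) = coeff e (E e.degree i) := fun i e => rfl
  have near : ∀ N i, Ord (ε i - E N i) (N + 2) := by
    intro N i e he
    rw [wdeg] at he
    rw [map_sub, sub_eq_zero, hεc]
    by_cases hle : e.degree ≤ N
    · obtain ⟨d, hd⟩ := Nat.exists_eq_add_of_le hle
      have h1 := tele e.degree d i e (by rw [wdeg]; omega)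
      rw [map_sub, sub_eq_zero, ← hd] at h1
      exact h1.symm
    · have hN : e.degree = N + 1 := by omega
      have h1 := tele N 1 i e (by rw [wdeg]; omega)
      rw [map_sub, sub_eq_zero] at h1
      rw [hN]
      exact h1
  have hε2 : ∀ i, Ord (ε i) 2 := by
    intro i
    have h1 := near 0 i
    have h2 := (hE 0).1 i
    have : ε i = (ε i - E 0 i) + E 0 i := by ring
    rw [this]
    exact (h1.mono (by omega)).add h2
  have hfinal : f - Qf (cf f) (Sn n) (Xv + ε) = 0 := by
    ext e
    rw [map_zero]
    have hN := hE e.degree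
    have hd : ∀ i, Ord ((ε - E e.degree : Fin n → MvPowerSeries (Fin n) k) i) (e.degree + 2) :=
      fun i => near e.degree i
    have hsplit : Xv + ε = (Xv + E e.degree) + (ε - E e.degree) := by abel
    have hXE : ∀ i, Ord ((Xv + E e.degree : Fin n → MvPowerSeries (Fin n) k) i) 1 := by
      intro i
      rw [Pi.add_apply]
      exact (WOrd.var (fun _ : Fin n => 1) i).add ((hN.1 i).mono (by omega))
    have key : f - Qf (cf f) (Sn n) (Xv + ε) = (f - Qf (cf f) (Sn n) (Xv + E e.degree)) -
        (Bf (cf f) (Sn n) (Xv + E e.degree) (ε - E e.degree) +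
          Qf (cf f) (Sn n) (ε - E e.degree)) := by
      rw [hsplit, Qf_add]
      ring
    rw [key]
    have hO : Ord ((f - Qf (cf f) (Sn n) (Xv + E e.degree)) -
        (Bf (cf f) (Sn n) (Xv + E e.degree) (ε - E e.degree) +
          Qf (cf f) (Sn n) (ε - E e.degree))) (e.degree + 3) := by
      apply WOrd.sub hN.2
      apply WOrd.add
      · exact (Bf_ord _ _ hXE hd).mono (by omega)
      · exact (Qf_ord _ _ hd).mono (by omega)
    exact hO e (by rw [wdeg]; omega)
  refine ⟨ε, ?_, ∑ p ∈ Sn n, MvPolynomial.C (cf f p) * MvPolynomial.X p.1 * MvPolynomial.X p.2,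
    ?_, ?_, ?_⟩
  · intro i m hm
    exact hε2 i m (by rw [wdeg]; exact hm)
  · apply MvPolynomial.IsHomogeneous.sum
    intro p _
    exact ((MvPolynomial.isHomogeneous_C _ _).mul (MvPolynomial.isHomogeneous_X _ _)).mul
      (MvPolynomial.isHomogeneous_X _ _)
  · apply hasSubst_of_constantCoeff_zero
    intro i
    rw [map_add, constantCoeff_X, zero_add, ← coeff_zero_eq_constantCoeff_apply]
    exact hε2 i 0 (by simp)
  · rw [subst_coe]
    rw [sub_eq_zero] at hfinal
    refine hfinal.trans ?_
    simp only [Qf, map_sum, map_mul, MvPolynomial.aeval_C, MvPolynomial.aeval_X, Xv, Pi.add_apply,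
      Algebra.smul_def, mul_assoc]

end Groth.Agent.S3206
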