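import Groth.Statements.S3207
import Mathlib
import Groth.Agent.S3418

set_option autoImplicit false
universe u
open CategoryTheory CategoryTheory.Limits AlgebraicGeometry
open SGA7

namespace Groth.Agent.S3207


open AlgebraicGeometry CategoryTheory Limits

/-- Every point of a quasi-sober `T0` space has a maximal generization. -/
theorem exists_maximal_generization {X : Type*} [TopologicalSpace X] [QuasiSober X] [T0Space X]
    (x : X) : ∃ η : X, η ⤳ x ∧ ∀ t : X, t ⤳ η → t = η := by
  obtain ⟨η, hη⟩ := QuasiSober.sober (isIrreducible_irreducibleComponent (x := x))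
    (isClosed_irreducibleComponent (x := x))
  refine ⟨η, hη.specializes mem_irreducibleComponent, fun t ht => ?_⟩
  have h1 : irreducibleComponent x ⊆ closure {t} := by
    rw [← hη.def]
    exact specializes_iff_closure_subset.mp ht
  have h2 : closure {t} = irreducibleComponent x :=
    eq_irreducibleComponent (isIrreducible_singleton.closure.isPreirreducible) h1
  exact IsGenericPoint.eq (isGenericPoint_def.mpr h2) hη

/-- A maximal point of an open subscheme is a maximal point of the ambient scheme. -/
theorem maximal_of_opens {S : Scheme.{u}} (U : S.Opens) (u' : ↥U.toScheme)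
    (hmax : ∀ t : ↥U.toScheme, t ⤳ u' → t = u') : ∀ t : S, t ⤳ U.ι u' → t = U.ι u' := by
  intro t ht
  have h0 : U.ι u' ∈ (U : Set S) := by
    have : U.ι u' ∈ Set.range U.ι := ⟨u', rfl⟩
    rwa [Scheme.Opens.range_ι] at this
  have htU : t ∈ (U : Set S) := ht.mem_open U.isOpen h0
  obtain ⟨t', rfl⟩ : t ∈ Set.range U.ι := by rw [Scheme.Opens.range_ι]; exact htU
  have h1 : t' ⤳ u' := U.ι.isOpenEmbedding.isInducing.specializes_iff.mp ht
  rw [hmax t' h1]

/-- If the fibre is empty or `Spec κ(s)`, the geometric fibre has at most one point. -/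
theorem nGeom_le_one {T S : Scheme.{u}} (g : T ⟶ S) (s : S)
    (h : IsEmpty ↑(pullback g (S.fromSpecResidueField s)) ∨
      IsIso (pullback.snd g (S.fromSpecResidueField s))) :
    MoreMor.nGeomConnComp g s ≤ 1 := by
  unfold MoreMor.nGeomConnComp
  rw [ENat.card_le_one_iff_subsingleton]
  suffices Subsingleton ↥(MoreMor.geomFiber g s) by
    constructor
    intro a b
    obtain ⟨a, rfl⟩ := ConnectedComponents.surjective_coe a
    obtain ⟨b, rfl⟩ := ConnectedComponents.surjective_coe b
    rw [Subsingleton.elim a b]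
  rcases h with h | h
  · have : IsEmpty ↥(MoreMor.geomFiber g s) := by
      constructor
      intro z
      exact h.false ((pullback.fst (g.fiberToSpecResidueField s) (Spec.map (CommRingCat.ofHom
        (algebraMap (S.residueField s) (SeparableClosure (S.residueField s)))))) z)
    infer_instance
  · haveI : IsIso (g.fiberToSpecResidueField s) := h
    have e := Scheme.homeoOfIso (asIso (pullback.snd (g.fiberToSpecResidueField s)
      (Spec.map (CommRingCat.ofHom
        (algebraMap (S.residueField s) (SeparableClosure (S.residueField s)))))))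
    exact e.injective.subsingleton

/-- Over a point of the image the geometric fibre is nonempty. -/
theorem one_le_nGeom {T S : Scheme.{u}} (g : T ⟶ S) (t : T) :
    1 ≤ MoreMor.nGeomConnComp g (g t) := by
  unfold MoreMor.nGeomConnComp
  rw [ENat.one_le_card_iff_nonempty]
  suffices Nonempty ↥(MoreMor.geomFiber g (g t)) from this.map ConnectedComponents.mk
  obtain ⟨y⟩ : Nonempty ↥(Spec (CommRingCat.of (SeparableClosure (S.residueField (g t))))) :=
    inferInstance
  obtain ⟨z, -, -⟩ := Scheme.Pullback.exists_preimage_pullback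
    (f := g.fiberToSpecResidueField (g t))
    (g := Spec.map (CommRingCat.ofHom
        (algebraMap (S.residueField (g t)) (SeparableClosure (S.residueField (g t))))))
    (g.asFiber t) y (Subsingleton.elim _ _)
  exact ⟨z⟩

/-- Restrictions to nested opens form a pullback square. -/
theorem isPullback_restrict_le {T S : Scheme.{u}} (g : T ⟶ S) {W U : S.Opens} (hWU : W ≤ U) :
    IsPullback (T.homOfLE (g.preimage_mono hWU)) (g ∣_ W) (g ∣_ U) (S.homOfLE hWU) := by
  refine IsPullback.of_right ?_ (morphismRestrict_homOfLE g W U hWU).symm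
    (isPullback_morphismRestrict g U).flip
  simpa using (isPullback_morphismRestrict g W).flip

/-- The rank of a finite flat restriction at a point whose fibre is empty or a reduced rational
point is at most one. -/
theorem finrank_restrict_le_one_of_fibre {T S : Scheme.{u}} (g : T ⟶ S) (U : S.Opens)
    [IsFinite (g ∣_ U)] [Flat (g ∣_ U)] (u : ↥U.toScheme)
    (h : IsEmpty ↑(pullback g (S.fromSpecResidueField (U.ι u))) ∨
      IsIso (pullback.snd g (S.fromSpecResidueField (U.ι u)))) :
    Scheme.Hom.finrank (g ∣_ U) u ≤ 1 := by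
  have hrange : Set.range (S.fromSpecResidueField (U.ι u)) ⊆ Set.range U.ι := by
    rw [Scheme.range_fromSpecResidueField]
    rintro _ rfl
    exact ⟨u, rfl⟩
  let r : Spec (S.residueField (U.ι u)) ⟶ U.toScheme :=
    IsOpenImmersion.lift U.ι (S.fromSpecResidueField (U.ι u)) hrange
  have hr : r ≫ U.ι = S.fromSpecResidueField (U.ι u) := IsOpenImmersion.lift_fac _ _ _
  have hsq : IsPullback (g ⁻¹ᵁ U).ι (g ∣_ U) g U.ι := (isPullback_morphismRestrict g U).flip
  let l : pullback g (S.fromSpecResidueField (U.ι u)) ⟶ (g ⁻¹ᵁ U).toScheme :=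
    hsq.lift (pullback.fst g _) (pullback.snd g _ ≫ r)
      (by rw [Category.assoc, hr]; exact pullback.condition)
  have hl1 : l ≫ (g ⁻¹ᵁ U).ι = pullback.fst g _ := hsq.lift_fst _ _ _
  have hl2 : l ≫ (g ∣_ U) = pullback.snd g _ ≫ r := hsq.lift_snd _ _ _
  have hP : IsPullback l (pullback.snd g (S.fromSpecResidueField (U.ι u))) (g ∣_ U) r := by
    refine IsPullback.of_right ?_ hl2 hsq
    rw [hl1, hr]
    exact IsPullback.of_hasPullback g _
  obtain ⟨pt⟩ : Nonempty ↥(Spec (S.residueField (U.ι u))) := inferInstance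
  have hpt : r pt = u := by
    apply U.ι.isOpenEmbedding.injective
    rw [← Scheme.Hom.comp_apply, hr]
    exact Scheme.fromSpecResidueField_apply _ pt
  have hfr := Scheme.Hom.finrank_of_isPullback l
    (pullback.snd g (S.fromSpecResidueField (U.ι u))) (g ∣_ U) r hP pt
  rw [hpt] at hfr
  rw [← hfr]
  haveI : IsFinite (pullback.snd g (S.fromSpecResidueField (U.ι u))) :=
    MorphismProperty.of_isPullback (P := @IsFinite) hP inferInstance
  haveI : Flat (pullback.snd g (S.fromSpecResidueField (U.ι u))) :=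
    MorphismProperty.of_isPullback (P := @Flat) hP inferInstance
  rcases h with h | h
  · by_contra hcon
    replace hcon := not_le.mp hcon
    have h1 : (1 : ↥(Spec (S.residueField (U.ι u))) → ℕ) ≤
        Scheme.Hom.finrank (pullback.snd g (S.fromSpecResidueField (U.ι u))) := by
      intro x
      have : x = pt := Subsingleton.elim _ _
      rw [this]
      exact hcon.le
    have hsurj := (Scheme.Hom.one_le_finrank_iff_surjective
      (pullback.snd g (S.fromSpecResidueField (U.ι u)))).mp h1
    obtain ⟨z, _⟩ := (pullback.snd g (S.fromSpecResidueField (U.ι u))).surjective pt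
    exact h.false z
  · rw [Scheme.Hom.finrank_eq_one_of_isIso]
    exact le_refl _

/-- Under the hypothesis on maximal points, every finite flat restriction has rank `≤ 1`. -/
theorem finrank_restrict_le_one {T S : Scheme.{u}} (g : T ⟶ S) (U : S.Opens)
    [IsFinite (g ∣_ U)] [Flat (g ∣_ U)] [LocallyOfFinitePresentation (g ∣_ U)]
    (h : ∀ s : S, (∀ t : S, t ⤳ s → t = s) →
      IsEmpty ↑(pullback g (S.fromSpecResidueField s)) ∨
        IsIso (pullback.snd g (S.fromSpecResidueField s)))
    (u : ↥U.toScheme) : Scheme.Hom.finrank (g ∣_ U) u ≤ 1 := by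
  obtain ⟨u', hu'u, hmax⟩ := exists_maximal_generization (X := ↥U.toScheme) u
  have h1 := finrank_restrict_le_one_of_fibre g U u' (h _ (maximal_of_opens U u' hmax))
  have hlc := Scheme.Hom.isLocallyConstant_finrank (g ∣_ U)
  have h2 : Scheme.Hom.finrank (g ∣_ U) u' = Scheme.Hom.finrank (g ∣_ U) u :=
    hu'u.mem_open (hlc.isOpen_fiber _) rfl
  rw [← h2]
  exact h1



/-- Let g : T -> S be locally quasi-finite, of finite presentation, separated and flat. If for every
maximal point s of S (a point with no proper generization) the fibre of g over s is either empty or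
mapped isomorphically onto Spec κ(s) (rank at most 1), then g is an open immersion. -/
theorem result {T S : Scheme.{u}} (g : T ⟶ S) [LocallyQuasiFinite g]
    [LocallyOfFinitePresentation g] [QuasiCompact g] [IsSeparated g] [Flat g]
    (h : ∀ s : S, (∀ t : S, t ⤳ s → t = s) →
      IsEmpty ↑(pullback g (S.fromSpecResidueField s)) ∨ IsIso (pullback.snd g (S.fromSpecResidueField s))) :
    IsOpenImmersion g := by
  obtain ⟨hlsc, hprop⟩ := Groth.Agent.S3418.result g
  have hn_le : ∀ s : S, MoreMor.nGeomConnComp g s ≤ 1 := by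
    intro s
    obtain ⟨η, hηs, hmax⟩ := exists_maximal_generization s
    have h1 : MoreMor.nGeomConnComp g η ≤ 1 := nGeom_le_one g η (h η hmax)
    refine le_trans (le_of_forall_lt fun a ha => ?_) h1
    have h2 : ∀ᶠ x' in nhds η, a < MoreMor.nGeomConnComp g x' := (hlsc s a ha).filter_mono hηs
    exact h2.self_of_nhds
  have hn_eq : ∀ t : T, MoreMor.nGeomConnComp g (g t) = 1 :=
    fun t => le_antisymm (hn_le _) (one_le_nGeom g t)
  have hopen : IsOpen (Set.range g) := g.isOpenMap.isOpen_range
  let S₀ : S.Opens := ⟨Set.range g, hopen⟩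
  have key : ∀ t : T, ∃ W : S.Opens, g t ∈ W ∧ IsIso (g ∣_ W) := by
    intro t
    obtain ⟨U, hyU, hUprop⟩ := hprop (g t) ⟨Set.range g, hopen.mem_nhds ⟨t, rfl⟩, by
      rintro _ ⟨t', rfl⟩
      rw [hn_eq, hn_eq]⟩
    haveI := hUprop
    haveI : IsFinite (g ∣_ U) := IsFinite.of_isProper_of_locallyQuasiFinite _
    let W : S.Opens := U ⊓ S₀
    have hWU : W ≤ U := inf_le_left
    have hL := isPullback_restrict_le g hWU
    haveI : IsFinite (g ∣_ W) := MorphismProperty.of_isPullback (P := @IsFinite) hL inferInstance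
    refine ⟨W, ⟨hyU, ⟨t, rfl⟩⟩, ?_⟩
    rw [Scheme.Hom.isIso_iff_finrank_eq]
    ext w
    rw [Pi.one_apply]
    refine le_antisymm (finrank_restrict_le_one g W h w) ?_
    have hw : W.ι w ∈ (W : Set S) := by
      have : W.ι w ∈ Set.range W.ι := ⟨w, rfl⟩
      rwa [Scheme.Opens.range_ι] at this
    have hw' : W.ι w ∈ (U : Set S) ∩ (S₀ : Set S) := hw
    obtain ⟨t', ht'⟩ : W.ι w ∈ Set.range g := hw'.2
    have ht'W : t' ∈ g ⁻¹ᵁ W := by
      show g t' ∈ W
      rw [ht']
      exact hw
    obtain ⟨x, hxt⟩ : t' ∈ Set.range (g ⁻¹ᵁ W).ι := by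
      rw [Scheme.Opens.range_ι]
      exact ht'W
    have hx : (g ∣_ W) x = w := by
      apply W.ι.isOpenEmbedding.injective
      rw [← Scheme.Hom.comp_apply, morphismRestrict_ι, Scheme.Hom.comp_apply, hxt]
      exact ht'
    rw [← hx]
    exact Scheme.Hom.one_le_finrank_map (g ∣_ W) _
  have hinj : Function.Injective g := by
    intro t₁ t₂ h12
    obtain ⟨W, htW, hW⟩ := key t₁
    have h1 : t₁ ∈ g ⁻¹ᵁ W := htW
    have h2 : t₂ ∈ g ⁻¹ᵁ W := by
      show g t₂ ∈ W
      rw [← h12]
      exact htW
    obtain ⟨x₁, hx₁⟩ : t₁ ∈ Set.range (g ⁻¹ᵁ W).ι := by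
      rw [Scheme.Opens.range_ι]
      exact h1
    obtain ⟨x₂, hx₂⟩ : t₂ ∈ Set.range (g ⁻¹ᵁ W).ι := by
      rw [Scheme.Opens.range_ι]
      exact h2
    have h3 : (g ∣_ W) x₁ = (g ∣_ W) x₂ := by
      apply W.ι.isOpenEmbedding.injective
      rw [← Scheme.Hom.comp_apply, ← Scheme.Hom.comp_apply, morphismRestrict_ι,
        Scheme.Hom.comp_apply, Scheme.Hom.comp_apply, hx₁, hx₂]
      exact h12
    have h4 := (g ∣_ W).isOpenEmbedding.injective h3
    rw [← hx₁, ← hx₂, h4]
  refine IsOpenImmersion.of_forall_source_exists g hinj fun t => ?_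
  obtain ⟨W, htW, hW⟩ := key t
  refine ⟨(g ⁻¹ᵁ W).toScheme, (g ⁻¹ᵁ W).ι, inferInstance, ?_, ?_⟩
  · rw [Scheme.Opens.opensRange_ι]
    exact htW
  · rw [← morphismRestrict_ι]
    infer_instance

end Groth.Agent.S3207
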