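import Groth.Statements.S3208
import Mathlib.LinearAlgebra.FreeModule.PID
import Mathlib.GroupTheory.OrderOfElement
import Mathlib.Algebra.Ring.GeomSum
import Mathlib.Tactic
import Mathlib.Data.Nat.Choose.Dvd

set_option autoImplicit false
open SGA7

namespace Groth.Agent.S3208

section
variable {E : Type} [CommRing E] [NoZeroSMulDivisors ℤ E] [Module.Finite ℤ E]

theorem natCast_mul_cancel {d : ℕ} (hd : d ≠ 0) {a b : E} (h : (d : E) * a = (d : E) * b) : a = b := by
  have h' : ((d : ℤ)) • (a - b) = 0 := by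
    rw [zsmul_eq_mul, mul_sub]
    push_cast
    rw [h, sub_self]
  rcases eq_zero_or_eq_zero_of_smul_eq_zero h' with h0 | h0
  · exact absurd (Int.natCast_eq_zero.mp h0) hd
  · exact sub_eq_zero.mp h0

theorem exists_bound {x : E} (hx : x ≠ 0) : ∃ D : ℕ, ∀ d : ℕ, (d : E) ∣ x → d ≤ D := by
  haveI : Module.Free ℤ E := Module.free_of_finite_type_torsion_free'
  let b := Module.Free.chooseBasis ℤ E
  have hrx : b.repr x ≠ 0 := by
    intro h
    exact hx (b.repr.map_eq_zero_iff.mp h)
  obtain ⟨i, hi⟩ : ∃ i, b.repr x i ≠ 0 := by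
    by_contra hcon
    push Not at hcon
    exact hrx (Finsupp.ext hcon)
  refine ⟨(b.repr x i).natAbs, fun d hd => ?_⟩
  obtain ⟨c, rfl⟩ := hd
  have h1 : (d : E) * c = (d : ℤ) • c := by
    rw [zsmul_eq_mul]
    push_cast
    rfl
  have h2 : b.repr ((d : E) * c) i = (d : ℤ) * b.repr c i := by
    rw [h1, map_smul]
    simp
  rw [h2] at hi ⊢
  rw [Int.natAbs_mul, Int.natAbs_natCast]
  have hz : (b.repr c i).natAbs ≠ 0 := by
    intro h0
    apply hi
    rw [Int.natAbs_eq_zero.mp h0, mul_zero]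
  exact Nat.le_mul_of_pos_right d (Nat.pos_of_ne_zero hz)

theorem prime_case {w : E} {p : ℕ} (hp : p.Prime) (hw : w ^ p = 1) {N : ℕ} (hN : 3 ≤ N)
    (hcong : (N : E) ∣ 1 - w) : w = 1 := by
  classical
  by_contra hne
  have hx : (1 - w) ≠ 0 := sub_ne_zero.mpr (Ne.symm hne)
  obtain ⟨D, hD⟩ := exists_bound hx
  obtain ⟨d, hd_dvd, hd_max⟩ : ∃ d : ℕ, (d : E) ∣ 1 - w ∧ ∀ k : ℕ, (k : E) ∣ 1 - w → k ≤ d :=
    ⟨Nat.findGreatest (fun d => (d : E) ∣ 1 - w) D,
      Nat.findGreatest_spec (P := fun d => (d : E) ∣ 1 - w) (hD N hcong) hcong,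
      fun k hk => Nat.le_findGreatest (hD k hk) hk⟩
  have hNd : N ≤ d := hd_max N hcong
  have hd3 : 3 ≤ d := hN.trans hNd
  have hd0 : d ≠ 0 := by omega
  obtain ⟨y, hy⟩ := hd_dvd
  have hw' : w = 1 - (d : E) * y := by rw [← hy]; ring
  have hcontra : ¬ (d : E) ∣ y := by
    rintro ⟨c, rfl⟩
    have h1 : ((d * d : ℕ) : E) ∣ 1 - w := ⟨c, by rw [hy]; push_cast; ring⟩
    have h2 := hd_max _ h1
    nlinarith
  obtain ⟨q, rfl⟩ : ∃ q, p = q + 2 := ⟨p - 2, by have := hp.two_le; omega⟩
  obtain ⟨a, ha⟩ : ∃ a : E, a = (d : E) * y := ⟨_, rfl⟩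
  have hexp : ∑ k ∈ Finset.range (q + 1), (-a) ^ (k + 2) * ((q + 2).choose (k + 2) : E) =
      ((q + 2 : ℕ) : E) * a := by
    have h1 : ((-a) + 1) ^ (q + 2) = 1 := by
      have h0 : (-a) + 1 = w := by rw [hw', ha]; ring
      rw [h0, hw]
    rw [add_pow, Finset.sum_range_succ', Finset.sum_range_succ'] at h1
    simp only [one_pow, mul_one, pow_zero, Nat.choose_zero_right, Nat.cast_one, zero_add, pow_one,
      Nat.choose_one_right] at h1
    linear_combination h1
  -- every term is divisible by d^2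
  have hterm : ∀ k : ℕ, (d : E) ^ 2 ∣ (-a) ^ (k + 2) * ((q + 2).choose (k + 2) : E) := by
    intro k
    refine Dvd.dvd.mul_right ?_ _
    rw [pow_add, ha]
    refine Dvd.dvd.mul_left ⟨y ^ 2, by ring⟩ _
  have hsum : (d : E) ^ 2 ∣ ((q + 2 : ℕ) : E) * a := by
    rw [← hexp]
    exact Finset.dvd_sum (fun k _ => hterm k)
  obtain ⟨c, hc⟩ := hsum
  have hpy : ((q + 2 : ℕ) : E) * y = (d : E) * c := by
    apply natCast_mul_cancel hd0
    rw [ha] at hc
    linear_combination hc
  rcases Nat.coprime_or_dvd_of_prime hp d with hcop | hdvd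
  · -- coprime case
    have hco : IsCoprime ((q + 2 : ℕ) : ℤ) (d : ℤ) := Nat.isCoprime_iff_coprime.mpr hcop
    obtain ⟨s, t, hst⟩ := hco
    have hstE : (s : E) * ((q + 2 : ℕ) : E) + (t : E) * (d : E) = 1 := by
      have := congrArg (Int.cast : ℤ → E) hst
      push_cast at this
      exact_mod_cast this
    apply hcontra
    refine ⟨s * c + t * y, ?_⟩
    linear_combination (-y) * hstE + (s : E) * hpy
  · -- p ∣ d
    obtain ⟨d', hd'⟩ := hdvd
    have hd'0 : d' ≠ 0 := by
      rintro rfl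
      simp at hd'
      exact hd0 hd'
    rcases Nat.eq_zero_or_pos q with hq0 | hqpos
    · -- p = 2
      subst hq0
      simp only [zero_add, Finset.range_one, Finset.sum_singleton, Nat.choose_self, Nat.cast_one,
        mul_one] at hexp
      -- hexp : (-a)^2 = 2 * a
      have h2 : (d' : E) * y ^ 2 = y := by
        apply natCast_mul_cancel hd0
        apply natCast_mul_cancel (d := 2) (by norm_num)
        rw [ha] at hexp
        have hdd : (d : E) = 2 * (d' : E) := by rw [hd']; push_cast; ring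
        push_cast at hexp ⊢
        rw [hdd] at hexp ⊢
        linear_combination hexp
      have h3 : ((d * d' : ℕ) : E) ∣ 1 - w := ⟨y ^ 2, by rw [hy]; push_cast; linear_combination (-(d : E)) * h2⟩
      have h4 := hd_max _ h3
      have h5 : d' = 1 := by
        rcases Nat.lt_or_ge d' 2 with h | h
        · omega
        · nlinarith
      omega
    · -- p ≥ 3
      have hterm' : ∀ k ∈ Finset.range (q + 1),
          ((q + 2 : ℕ) : E) * (d : E) ^ 2 ∣ (-a) ^ (k + 2) * ((q + 2).choose (k + 2) : E) := by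
        intro k hk
        rw [Finset.mem_range] at hk
        rcases Nat.lt_or_ge k q with hkq | hkq
        · have hdc : (q + 2) ∣ (q + 2).choose (k + 2) :=
            Nat.Prime.dvd_choose_self hp (by omega) (by omega)
          obtain ⟨c', hc'⟩ := hdc
          rw [hc', pow_add, ha]
          refine ⟨(-((d : E) * y)) ^ k * y ^ 2 * (c' : E), ?_⟩
          push_cast
          ring
        · have hkq' : k = q := by omega
          subst hkq'
          obtain ⟨r, rfl⟩ : ∃ r, k = r + 1 := ⟨k - 1, by omega⟩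
          rw [Nat.choose_self, Nat.cast_one, mul_one, ha]
          have hdd : (d : E) = ((r + 1 + 2 : ℕ) : E) * (d' : E) := by rw [hd']; push_cast; ring
          refine ⟨(-((d : E) * y)) ^ r * (-(y ^ 3)) * (d' : E), ?_⟩
          have : (-((d : E) * y)) ^ (r + 1 + 2) = (-((d : E) * y)) ^ r * (-((d : E) ^ 2 * (d : E) * y ^ 3)) := by
            ring
          rw [this]
          nth_rewrite 3 [hdd]
          ring
      have hsum' : ((q + 2 : ℕ) : E) * (d : E) ^ 2 ∣ ((q + 2 : ℕ) : E) * a := by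
        rw [← hexp]
        exact Finset.dvd_sum hterm'
      obtain ⟨c₂, hc₂⟩ := hsum'
      apply hcontra
      refine ⟨c₂, ?_⟩
      apply natCast_mul_cancel hd0
      apply natCast_mul_cancel (d := q + 2) (by omega)
      rw [ha] at hc₂
      linear_combination hc₂

theorem eq_one_of_three_le {u : E} {m : ℕ} (hm : 0 < m) (hu : u ^ m = 1) {n : ℕ} (hn : 3 ≤ n)
    (hcong : (n : E) ∣ 1 - u) : u = 1 := by
  by_contra hne
  have hfin : IsOfFinOrder u := isOfFinOrder_iff_pow_eq_one.mpr ⟨m, hm, hu⟩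
  have ho : orderOf u ≠ 0 := hfin.orderOf_pos.ne'
  have ho1 : orderOf u ≠ 1 := by rwa [Ne, orderOf_eq_one_iff]
  have hp : (orderOf u).minFac.Prime := Nat.minFac_prime ho1
  have hpd : (orderOf u).minFac ∣ orderOf u := Nat.minFac_dvd _
  have hwo : orderOf (u ^ (orderOf u / (orderOf u).minFac)) = (orderOf u).minFac :=
    orderOf_pow_orderOf_div (x := u) ho hpd
  have hwp : (u ^ (orderOf u / (orderOf u).minFac)) ^ (orderOf u).minFac = 1 := by
    have h0 := pow_orderOf_eq_one (u ^ (orderOf u / (orderOf u).minFac))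
    rwa [hwo] at h0
  have hw1 : u ^ (orderOf u / (orderOf u).minFac) ≠ 1 := by
    intro h
    rw [← orderOf_eq_one_iff, hwo] at h
    exact hp.one_lt.ne' h
  have hwc : (n : E) ∣ 1 - u ^ (orderOf u / (orderOf u).minFac) := by
    refine hcong.trans ?_
    have := sub_dvd_pow_sub_pow (1 : E) u (orderOf u / (orderOf u).minFac)
    rwa [one_pow] at this
  exact hw1 (prime_case hp hwp hn hwc)

end

/-- Let E be a commutative ring which is finitely generated and torsion-free as an additive group, u an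
element of E of finite multiplicative order (u^m = 1 for some m > 0), and n ≥ 2 an integer with u ≡
1 modulo nE (i.e. 1 - u = n·v for some v ∈ E). Then u² = 1, and if n ≥ 3 then u = 1. -/
theorem result (E : Type) [CommRing E] [NoZeroSMulDivisors ℤ E] [Module.Finite ℤ E] (u : E) (m : ℕ) (hm : 0 < m)
    (hu : u ^ m = 1) (n : ℕ) (hn : 2 ≤ n) (hcong : ∃ v : E, 1 - u = (n : E) * v) :
    u ^ 2 = 1 ∧ (3 ≤ n → u = 1) := by
  obtain ⟨v, hv⟩ := hcong
  have h3 : 3 ≤ n → u = 1 := fun h => eq_one_of_three_le hm hu h ⟨v, hv⟩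
  refine ⟨?_, h3⟩
  rcases Nat.lt_or_ge n 3 with h | h
  · have hn2 : n = 2 := by omega
    subst hn2
    have hu' : u = 1 - 2 * v := by
      push_cast at hv
      linear_combination -hv
    have h4 : ((4 : ℕ) : E) ∣ 1 - u ^ 2 := ⟨v * (1 - v), by rw [hu']; push_cast; ring⟩
    exact eq_one_of_three_le hm (by rw [← pow_mul, mul_comm, pow_mul, hu, one_pow]) (by norm_num) h4
  · rw [h3 h, one_pow]

end Groth.Agent.S3208
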