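import Groth.Statements.S3209
import Mathlib.LinearAlgebra.TensorProduct.RightExactness

set_option autoImplicit false
universe u
open TensorProduct
open SGA7

namespace Groth.Agent.S3209

/-- Let f : B' → B be a surjective map of R-algebras with kernel J, g : C → B a map of R-algebras, P =
B' ×_B C their fibre product (the equalizer of f ∘ pr₁ and g ∘ pr₂ in B' × C) and S an R-algebra
such that S ⊗_R J → S ⊗_R B' is injective (this holds when Tor_1^R(B, S) = 0, the published
hypothesis, and in particular when S is flat). Then the canonical map S ⊗_R P → (S ⊗_R B') ×_{S ⊗_R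
B} (S ⊗_R C) is bijective: it is injective, and every pair with the same image in S ⊗_R B comes from
S ⊗_R P. -/
theorem result (R B' B C S : Type u) [CommRing R] [CommRing B'] [CommRing B] [CommRing C]
    [CommRing S] [Algebra R B'] [Algebra R B] [Algebra R C] [Algebra R S]
    (f : B' →ₐ[R] B) (hf : Function.Surjective f) (g : C →ₐ[R] B)
    (hJ : Function.Injective (LinearMap.lTensor S (LinearMap.ker f.toLinearMap).subtype)) :
    letI P := AlgHom.equalizer (f.comp (AlgHom.fst R B' C)) (g.comp (AlgHom.snd R B' C))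
    letI φ₁ := Algebra.TensorProduct.map (AlgHom.id R S) ((AlgHom.fst R B' C).comp P.val)
    letI φ₂ := Algebra.TensorProduct.map (AlgHom.id R S) ((AlgHom.snd R B' C).comp P.val)
    Function.Injective (fun z : S ⊗[R] ↥P => (φ₁ z, φ₂ z)) ∧
    ∀ (x : S ⊗[R] B') (y : S ⊗[R] C),
      Algebra.TensorProduct.map (AlgHom.id R S) f x = Algebra.TensorProduct.map (AlgHom.id R S) g y →
        ∃ z : S ⊗[R] ↥P, φ₁ z = x ∧ φ₂ z = y := by
  classical
  set P := AlgHom.equalizer (f.comp (AlgHom.fst R B' C)) (g.comp (AlgHom.snd R B' C)) with hP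
  have hmemP : ∀ x : B' × C, x ∈ P ↔ f x.1 = g x.2 := fun x => by
    rw [hP, AlgHom.mem_equalizer]
    simp
  let p₁ : P →ₗ[R] B' := ((AlgHom.fst R B' C).comp P.val).toLinearMap
  let p₂ : P →ₗ[R] C := ((AlgHom.snd R B' C).comp P.val).toLinearMap
  let fl : B' →ₗ[R] B := f.toLinearMap
  let gl : C →ₗ[R] B := g.toLinearMap
  let J := LinearMap.ker fl
  let ι : J →ₗ[R] P :=
    LinearMap.codRestrict (Subalgebra.toSubmodule P) ((LinearMap.inl R B' C) ∘ₗ J.subtype) (by
      intro j
      change ((j : B'), (0 : C)) ∈ P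
      rw [hmemP]
      change f (j : B') = g 0
      rw [map_zero]
      exact LinearMap.mem_ker.mp j.2)
  have hι₁ : p₁ ∘ₗ ι = J.subtype := by
    apply LinearMap.ext
    intro j
    rfl
  have hι₂ : p₂ ∘ₗ ι = 0 := by
    apply LinearMap.ext
    intro j
    rfl
  have hcomm : fl ∘ₗ p₁ = gl ∘ₗ p₂ := by
    apply LinearMap.ext
    rintro ⟨x, hx⟩
    exact (hmemP x).mp hx
  have hp₂surj : Function.Surjective p₂ := by
    intro c
    obtain ⟨b', hb'⟩ := hf (g c)
    exact ⟨⟨(b', c), (hmemP _).mpr hb'⟩, rfl⟩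
  have hexP : Function.Exact ι p₂ := by
    intro z
    constructor
    · intro hz
      obtain ⟨⟨b', c⟩, hx⟩ := z
      have hc : c = 0 := hz
      subst hc
      have hb' : fl b' = 0 := by
        have h0 : f b' = g 0 := (hmemP _).mp hx
        rw [map_zero] at h0
        exact h0
      exact ⟨⟨b', hb'⟩, rfl⟩
    · rintro ⟨j, rfl⟩
      rfl
  have hexB : Function.Exact J.subtype fl := by
    intro b'
    constructor
    · intro hb'
      exact ⟨⟨b', hb'⟩, rfl⟩
    · rintro ⟨j, rfl⟩
      exact j.2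
  have hfsurj : Function.Surjective fl := hf
  have hexSP : Function.Exact (LinearMap.lTensor S ι) (LinearMap.lTensor S p₂) :=
    lTensor_exact S hexP hp₂surj
  have hexSB : Function.Exact (LinearMap.lTensor S J.subtype) (LinearMap.lTensor S fl) :=
    lTensor_exact S hexB hfsurj
  have hSp₂surj : Function.Surjective (LinearMap.lTensor S p₂) :=
    LinearMap.lTensor_surjective S hp₂surj
  have hφ₁ : ∀ z : S ⊗[R] P,
      Algebra.TensorProduct.map (AlgHom.id R S) ((AlgHom.fst R B' C).comp P.val) z =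
        LinearMap.lTensor S p₁ z := fun z => rfl
  have hφ₂ : ∀ z : S ⊗[R] P,
      Algebra.TensorProduct.map (AlgHom.id R S) ((AlgHom.snd R B' C).comp P.val) z =
        LinearMap.lTensor S p₂ z := fun z => rfl
  have hSf : ∀ x : S ⊗[R] B', Algebra.TensorProduct.map (AlgHom.id R S) f x =
      LinearMap.lTensor S fl x := fun x => rfl
  have hSg : ∀ y : S ⊗[R] C, Algebra.TensorProduct.map (AlgHom.id R S) g y =
      LinearMap.lTensor S gl y := fun y => rfl
  have hS₁ : ∀ w, LinearMap.lTensor S p₁ (LinearMap.lTensor S ι w) = LinearMap.lTensor S J.subtype w := by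
    intro w
    rw [← LinearMap.comp_apply, ← LinearMap.lTensor_comp, hι₁]
  have hS₂ : ∀ w, LinearMap.lTensor S p₂ (LinearMap.lTensor S ι w) = 0 := by
    intro w
    rw [← LinearMap.comp_apply, ← LinearMap.lTensor_comp, hι₂, LinearMap.lTensor_zero,
      LinearMap.zero_apply]
  have hScomm : ∀ z, LinearMap.lTensor S fl (LinearMap.lTensor S p₁ z) =
      LinearMap.lTensor S gl (LinearMap.lTensor S p₂ z) := by
    intro z
    rw [← LinearMap.comp_apply, ← LinearMap.comp_apply, ← LinearMap.lTensor_comp,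
      ← LinearMap.lTensor_comp, hcomm]
  refine ⟨?_, ?_⟩
  · intro z z' hzz'
    simp only [Prod.mk.injEq, hφ₁, hφ₂] at hzz'
    obtain ⟨h1, h2⟩ := hzz'
    have h2' : LinearMap.lTensor S p₂ (z - z') = 0 := by rw [map_sub, h2, sub_self]
    obtain ⟨w, hw⟩ := (hexSP (z - z')).mp h2'
    have h1' : LinearMap.lTensor S J.subtype w = 0 := by
      rw [← hS₁, hw, map_sub, h1, sub_self]
    have hw0 : w = 0 := hJ (by rw [h1', map_zero])
    rw [hw0, map_zero] at hw
    exact (sub_eq_zero.mp hw.symm)
  · intro x y hxy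
    rw [hSf, hSg] at hxy
    obtain ⟨z₀, hz₀⟩ := hSp₂surj y
    have h3 : LinearMap.lTensor S fl (x - LinearMap.lTensor S p₁ z₀) = 0 := by
      rw [map_sub, hScomm, hz₀, hxy, sub_self]
    obtain ⟨w, hw⟩ := (hexSB _).mp h3
    refine ⟨z₀ + LinearMap.lTensor S ι w, ?_, ?_⟩
    · rw [hφ₁, map_add, hS₁, hw]
      abel
    · rw [hφ₂, map_add, hS₂, hz₀, add_zero]

end Groth.Agent.S3209
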