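import Groth.Statements.S3214
import Mathlib.RingTheory.Polynomial.Vieta
import Mathlib.Algebra.Polynomial.RingDivision

set_option autoImplicit false
open Polynomial
universe u
open SGA7II

namespace Groth.Agent.S3214

/-- In the recursive form established in its proof: let A = Z[X_1, ..., X_a] (a >= 1), P = prod_i (T -
X_i) in A[T] and S_i the i-th elementary symmetric function. Writing a_j for the coefficient of
T^{a-1} in the remainder of T^{a-1+j} modulo P, one has a_0 = 1 and sum_{i=0}^{a} (-1)^i S_i a_{j-i}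
= 0 for every j > 0 (with a_m = 0 for m < 0); equivalently sum_j (-1)^j a_j is the inverse of sum_i
S_i. (The source works in formal power series; the identity involves only polynomials.) -/
theorem result (a : ℕ) (ha : 0 < a) :
    let P : (MvPolynomial (Fin a) ℤ)[X] := ∏ i : Fin a, (X - C (MvPolynomial.X i))
    let coef : ℤ → MvPolynomial (Fin a) ℤ := fun j =>
      if j < 0 then 0 else ((X : (MvPolynomial (Fin a) ℤ)[X]) ^ (a - 1 + j.toNat) %ₘ P).coeff (a - 1)
    coef 0 = 1 ∧ ∀ j : ℕ, 0 < j →
      (∑ i ∈ Finset.range (a + 1), (-1 : MvPolynomial (Fin a) ℤ) ^ i * MvPolynomial.esymm (Fin a) ℤ i *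
        coef ((j : ℤ) - i)) = 0 := by
  intro P coef
  classical
  have hPm : P.Monic := monic_prod_of_monic _ _ (fun i _ => monic_X_sub_C _)
  have hPdeg : P.natDegree = a := by
    rw [natDegree_prod_of_monic _ _ (fun i _ => monic_X_sub_C _)]
    simp
  have hPsum : P = ∑ i ∈ Finset.range (a + 1), (-1 : (MvPolynomial (Fin a) ℤ)[X]) ^ i *
      (C (MvPolynomial.esymm (Fin a) ℤ i) * X ^ (a - i)) := by
    have hcard : Multiset.card (Finset.univ.val.map fun i : Fin a =>
        (MvPolynomial.X i : MvPolynomial (Fin a) ℤ)) = a := by simp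
    have h := Multiset.prod_X_sub_X_eq_sum_esymm (Finset.univ.val.map fun i : Fin a =>
        (MvPolynomial.X i : MvPolynomial (Fin a) ℤ))
    rw [hcard, Multiset.map_map] at h
    simp_rw [MvPolynomial.esymm_eq_multiset_esymm (Fin a) ℤ]
    rw [← h]
    rfl
  have hdeglt : ∀ m : ℕ, m < a → (X : (MvPolynomial (Fin a) ℤ)[X]) ^ m %ₘ P = X ^ m := by
    intro m hm
    rw [modByMonic_eq_self_iff hPm, degree_X_pow, degree_eq_natDegree hPm.ne_zero, hPdeg]
    exact_mod_cast hm
  constructor
  · change (if (0 : ℤ) < 0 then 0 else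
      ((X : (MvPolynomial (Fin a) ℤ)[X]) ^ (a - 1 + (0 : ℤ).toNat) %ₘ P).coeff (a - 1)) = 1
    rw [if_neg (lt_irrefl _)]
    simp only [Int.toNat_zero, add_zero]
    rw [hdeglt (a - 1) (by omega), coeff_X_pow, if_pos rfl]
  · intro j hj
    have h0 : (X ^ (j - 1) * P) %ₘ P = 0 := by
      rw [modByMonic_eq_zero_iff_dvd hPm]
      exact dvd_mul_left _ _
    have h1 : X ^ (j - 1) * P = ∑ i ∈ Finset.range (a + 1),
        C ((-1 : MvPolynomial (Fin a) ℤ) ^ i * MvPolynomial.esymm (Fin a) ℤ i) *
          X ^ (a - i + j - 1) := by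
      conv_lhs => rw [hPsum]
      rw [Finset.mul_sum]
      refine Finset.sum_congr rfl (fun i hi => ?_)
      have hi' : i ≤ a := by have := Finset.mem_range.mp hi; omega
      have e : a - i + j - 1 = (j - 1) + (a - i) := by omega
      rw [e, pow_add, C_mul, C_pow, C_neg, C_1]
      ring
    rw [h1] at h0
    have h2 : (∑ i ∈ Finset.range (a + 1),
        C ((-1 : MvPolynomial (Fin a) ℤ) ^ i * MvPolynomial.esymm (Fin a) ℤ i) *
          X ^ (a - i + j - 1)) %ₘ P = ∑ i ∈ Finset.range (a + 1),
        C ((-1 : MvPolynomial (Fin a) ℤ) ^ i * MvPolynomial.esymm (Fin a) ℤ i) *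
          (X ^ (a - i + j - 1) %ₘ P) := by
      have := map_sum (modByMonicHom P) (fun i => C ((-1 : MvPolynomial (Fin a) ℤ) ^ i *
        MvPolynomial.esymm (Fin a) ℤ i) * X ^ (a - i + j - 1)) (Finset.range (a + 1))
      simp only [modByMonicHom_apply] at this
      rw [this]
      refine Finset.sum_congr rfl (fun i _ => ?_)
      rw [← smul_eq_C_mul, smul_modByMonic, smul_eq_C_mul]
    rw [h2] at h0
    have h3 := congrArg (fun f => f.coeff (a - 1)) h0
    simp only [finsetSum_coeff, coeff_C_mul, coeff_zero] at h3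
    rw [← h3]
    refine Finset.sum_congr rfl (fun i hi => ?_)
    have hi' : i ≤ a := by have := Finset.mem_range.mp hi; omega
    congr 1
    change (if ((j : ℤ) - (i : ℤ)) < 0 then 0 else
      ((X : (MvPolynomial (Fin a) ℤ)[X]) ^ (a - 1 + ((j : ℤ) - (i : ℤ)).toNat) %ₘ P).coeff (a - 1)) = _
    by_cases hij : (j : ℤ) - (i : ℤ) < 0
    · rw [if_pos hij]
      have hlt : a - i + j - 1 < a - 1 := by omega
      rw [hdeglt _ (by omega), coeff_X_pow, if_neg (by omega)]
    · rw [if_neg hij]
      have e : a - 1 + ((j : ℤ) - (i : ℤ)).toNat = a - i + j - 1 := by omega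
      rw [e]

end Groth.Agent.S3214
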