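import Groth.Statements.S3215
import Groth.Agent.H80.QuadEven

set_option autoImplicit false
universe u
open SGA7II

namespace Groth.Agent.S3215

/-- Let A be a commutative ring and Q(x) = sum over pairs i <= j of a_{ij} x_i x_j a quadratic form in
2m variables on the free module A^{2m} (the source allows a locally free module, which is free
Zariski-locally; the variables indexed by two copies of Fin m, ordered first copy then second),
whose polar bilinear form (matrix entries 2a_{ii} on the diagonal, a_{ij} for i < j) has invertible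
determinant (Q is ordinary). Then there are finitely many etale A-algebras B_t whose spectra jointly
cover Spec A and, over each B_t, an invertible matrix g with Q(g x) = sum_j x_j x_{m+j}, the split
form. -/
theorem result (A : Type u) [CommRing A] (m : ℕ)
    (a : (Fin m ⊕ Fin m) → (Fin m ⊕ Fin m) → A) :
    let rk : Fin m ⊕ Fin m → ℕ := Sum.elim Fin.val (fun k => m + k.val)
    let QB : ∀ (B : Type u) [CommRing B] [Algebra A B], ((Fin m ⊕ Fin m) → B) → B :=
      fun B _ _ x => ∑ i, ∑ j, if rk i ≤ rk j then algebraMap A B (a i j) * x i * x j else 0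
    IsUnit (Matrix.det (Matrix.of fun i j : Fin m ⊕ Fin m =>
      if i = j then a i i + a i i else if rk i ≤ rk j then a i j else a j i)) →
    ∃ (n : ℕ) (B : Fin n → Type u) (_ : ∀ t, CommRing (B t)) (_ : ∀ t, Algebra A (B t)),
      (∀ t, Algebra.Etale A (B t)) ∧
      (∀ p : PrimeSpectrum A, ∃ (t : Fin n) (q : PrimeSpectrum (B t)),
        q.asIdeal.comap (algebraMap A (B t)) = p.asIdeal) ∧
      ∀ t, ∃ g : Matrix (Fin m ⊕ Fin m) (Fin m ⊕ Fin m) (B t), IsUnit g.det ∧
        ∀ x : Fin m ⊕ Fin m → B t, QB (B t) (g.mulVec x) = ∑ j : Fin m, x (Sum.inl j) * x (Sum.inr j) := by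
  intro rk QB hdet
  classical
  have hrk : Function.Injective rk := by
    rintro (x | x) (y | y) h <;> simp only [rk, Sum.elim_inl, Sum.elim_inr] at h
    · exact congrArg Sum.inl (Fin.ext h)
    · exfalso
      have := x.isLt
      omega
    · exfalso
      have := y.isLt
      omega
    · exact congrArg Sum.inr (Fin.ext (by omega))
  obtain ⟨Wm, hWm⟩ : ∃ Wm : Matrix (Fin m ⊕ Fin m) (Fin m ⊕ Fin m) A,
      Wm = Matrix.of fun i j => if rk i ≤ rk j then a i j else 0 := ⟨_, rfl⟩
  have hpol : Groth.Agent.H80.QuadMat.pol Wm = Matrix.of fun i j : Fin m ⊕ Fin m =>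
      if i = j then a i i + a i i else if rk i ≤ rk j then a i j else a j i := by
    ext i j
    simp only [Groth.Agent.H80.QuadMat.pol, hWm, Matrix.add_apply, Matrix.transpose_apply,
      Matrix.of_apply]
    by_cases hij : i = j
    · subst hij
      simp
    · rw [if_neg hij]
      have hne : rk i ≠ rk j := fun h => hij (hrk h)
      by_cases h1 : rk i ≤ rk j
      · have h2 : ¬ rk j ≤ rk i := by omega
        rw [if_pos h1, if_neg h2, add_zero, if_pos h1]
      · have h2 : rk j ≤ rk i := by omega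
        rw [if_neg h1, if_pos h2, zero_add, if_neg h1]
  have hreg : IsUnit (Groth.Agent.H80.QuadMat.pol Wm).det := by
    rw [hpol]
    exact hdet
  have hcard : Fintype.card (Fin m ⊕ Fin m) = 2 * m := by simp [two_mul]
  choose B instB φ hφe hq J instJ1 instJ2 hJ hC using fun P : PrimeSpectrum A =>
    Groth.Agent.H80.QuadEven.local_split m A (Fin m ⊕ Fin m) hcard Wm hreg P.asIdeal
  have hopen : ∀ P, IsOpen (Set.range (PrimeSpectrum.comap (φ P))) := by
    intro P
    let _ : Algebra A (B P) := (φ P).toAlgebra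
    have he : Algebra.Etale A (B P) := hφe P
    have h1 := PrimeSpectrum.isOpenMap_comap_of_hasGoingDown_of_finitePresentation (R := A) (S := B P)
    exact h1.isOpen_range
  have hmem : ∀ P : PrimeSpectrum A, P ∈ Set.range (PrimeSpectrum.comap (φ P)) := by
    intro P
    obtain ⟨q, hq1, hq2⟩ := hq P
    exact ⟨⟨q, hq1⟩, PrimeSpectrum.ext hq2⟩
  obtain ⟨t, ht⟩ := isCompact_univ.elim_finite_subcover
    (fun P => Set.range (PrimeSpectrum.comap (φ P))) hopen
    (fun x _ => Set.mem_iUnion.mpr ⟨x, hmem x⟩)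
  have hg : ∀ P : PrimeSpectrum A, ∃ g : Matrix (Fin m ⊕ Fin m) (Fin m ⊕ Fin m) (B P),
      IsUnit g.det ∧ ∀ x : Fin m ⊕ Fin m → B P,
        (∑ i, ∑ j, if rk i ≤ rk j then (φ P) (a i j) * (g.mulVec x) i * (g.mulVec x) j else 0) =
          ∑ j : Fin m, x (Sum.inl j) * x (Sum.inr j) := by
    intro P
    have c := (hC P).trans (Groth.Agent.H80.QuadMat.splitMat_equiv (R := B P) (J P) (Fin m)
      (Fintype.equivFinOfCardEq (hJ P)))
    obtain ⟨g, g', hgg', _, hs⟩ := c
    refine ⟨g, Matrix.isUnit_det_of_right_inverse hgg', fun x => ?_⟩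
    have hQB : ∀ y : Fin m ⊕ Fin m → B P,
        (∑ i, ∑ j, if rk i ≤ rk j then (φ P) (a i j) * y i * y j else 0) =
          Groth.Agent.H80.QuadMat.qf (Wm.map (φ P)) y := by
      intro y
      simp only [Groth.Agent.H80.QuadMat.qf, dotProduct, Matrix.mulVec, Finset.mul_sum,
        Matrix.map_apply, hWm, Matrix.of_apply]
      refine Finset.sum_congr rfl fun i _ => Finset.sum_congr rfl fun j _ => ?_
      split_ifs
      · ring
      · simp
    rw [hQB, ← Groth.Agent.H80.QuadMat.qf_conj, hs.qf_eq, Groth.Agent.H80.QuadMat.qf_splitMat]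
  refine ⟨t.card, fun k => B (t.equivFin.symm k).1, fun k => instB _, fun k => (φ _).toAlgebra,
    fun k => hφe _, ?_, fun k => hg _⟩
  intro p
  have h1 := ht (Set.mem_univ p)
  obtain ⟨P, hP⟩ := Set.mem_iUnion.mp h1
  obtain ⟨hPt, q, hq'⟩ := Set.mem_iUnion.mp hP
  have h2 : ∃ x : {x // x ∈ t}, ∃ q : PrimeSpectrum (B x.1),
      q.asIdeal.comap (φ x.1) = p.asIdeal :=
    ⟨⟨P, hPt⟩, q, by rw [← hq']; rfl⟩
  exact (Equiv.exists_congr_left t.equivFin).mp h2

end Groth.Agent.S3215
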