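import Groth.Statements.S5223
import Groth.Agent.H8.FlatBaseChange

set_option autoImplicit false
open CategoryTheory CategoryTheory.Limits AlgebraicGeometry
universe u
open GrpQ

namespace Groth.Agent.S5223

/-- In a cartesian square of schemes `F₂ = F₁ ×_{X₀} X₁` whose bottom map `u : X₁ ⟶ X₀` is flat, the
base-changed map `d' : F₂ ⟶ X₁` is flat at a point `x` if and only if `d : F₁ ⟶ X₀` is flat at the
image of `x` in `F₁`. -/
theorem result {F₂ F₁ X₁ X₀ : Scheme.{u}}
    {v : F₂ ⟶ F₁} {d' : F₂ ⟶ X₁} {d : F₁ ⟶ X₀} {u : X₁ ⟶ X₀}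
    (h : IsPullback v d' d u) [Flat u] (x : F₂) :
    (d'.stalkMap x).hom.Flat ↔ (d.stalkMap (v.base x)).hom.Flat := by
  constructor
  · intro hd'
    have hv : (v.stalkMap x).hom.Flat :=
      Groth.Agent.H8.flat_stalkMap_baseChange h x (Flat.stalkMap u (d' x))
    have hcomp : ((d' ≫ u).stalkMap x).hom.Flat := by
      rw [Scheme.Hom.stalkMap_comp]
      exact RingHom.Flat.comp (Flat.stalkMap u (d' x)) hd'
    rw [← h.w, Scheme.Hom.stalkMap_comp] at hcomp
    exact Groth.Agent.H8.flat_of_comp_of_isLocalHom _ (v.stalkMap x).hom hcomp hv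
  · intro hd
    exact Groth.Agent.H8.flat_stalkMap_baseChange h.flip x hd

end Groth.Agent.S5223
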