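import Groth.Statements.S3243
import Mathlib
import Groth.Agent.H4.SkyH1
import Groth.Agent.H4.MVEtale

set_option autoImplicit false
universe u
open CategoryTheory AlgebraicGeometry
open Dix

namespace Groth.Agent.S3243

open CategoryTheory.Abelian CategoryTheory.Limits

/-- Let X be quasi-compact and quasi-separated, x a point of X and M a torsion-free abelian group, M_x
the constant sheaf on Spec κ(x). Then H¹(X_ét, i_{x*} M_x) = 0. -/
theorem result (X : Scheme.{u}) [CompactSpace X] [QuasiSeparatedSpace X] (x : X) (M : Type) [AddCommGroup M] [IsAddTorsionFree M] : Subsingleton (EtCoh.H X ((Dix.skyPush X x).obj (EtCoh.const (Spec (X.residueField x)) M)) 1) := by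
  have key : ∀ x₁ : EtCoh.H X ((Dix.skyPush X x).obj
      (EtCoh.const (Spec (X.residueField x)) M)) 1, x₁ = 0 := by
    intro x₁
    let f := X.fromSpecResidueField x
    haveI hpl : PreservesFiniteLimits (EtCoh.pull f) := Groth.Agent.H4.MV.pullExact f
    haveI : PreservesLimitsOfSize.{0, 0} (EtCoh.push f) :=
      (EtCoh.pullPushAdj f).rightAdjoint_preservesLimits
    haveI : PreservesFiniteLimits (EtCoh.push f) :=
      PreservesLimitsOfSize.preservesFiniteLimits _
    haveI : (EtCoh.push f).Additive := (EtCoh.pullPushAdj f).right_adjoint_additive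
    refine Groth.Agent.H4.SkyH1.ext_one_eq_zero_of_adj (EtCoh.pullPushAdj f)
      (fun I hI => ?_) (EtCoh.const X ℤ) (EtCoh.const (Spec (X.residueField x)) M)
      (fun y => ?_) x₁
    · haveI := hI
      exact Injective.injective_of_adjoint (EtCoh.pullPushAdj f) I
    · let e := EtCore.pullConst f ℤ
      have h1 : (Ext.mk₀ e.inv).comp y (zero_add 1) = 0 :=
        Groth.Agent.H4.SkyH1.H1_const_eq_zero (↑(X.residueField x)) M _
      have h2 : y = (Ext.mk₀ e.hom).comp ((Ext.mk₀ e.inv).comp y (zero_add 1)) (zero_add 1) := by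
        rw [Ext.mk₀_comp_mk₀_assoc, e.hom_inv_id, Ext.mk₀_id_comp]
      rw [h2, h1, Ext.comp_zero]
  exact ⟨fun a b => (key a).trans (key b).symm⟩

end Groth.Agent.S3243
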