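import Groth.Statements.S3244
import Groth.Agent.H4.Kummer

set_option autoImplicit false
universe u
open CategoryTheory AlgebraicGeometry
open Dix

namespace Groth.Agent.S3244

open CategoryTheory.Limits Groth.Agent.H4 in
/-- Kummer theory at finite level: let n > 0 be an integer invertible on the scheme X (nonzero in every
residue field). Then for every i ≥ 1 the image of H^i(X_ét, μ_n) → H^i(X_ét, G_m), induced by the
inclusion μ_n → G_m, is exactly the subgroup of elements of H^i(X_ét, G_m) killed by n; in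
particular H²(X_ét, μ_n) maps onto the n-torsion of the cohomological Brauer group H²(X_ét, G_m).
(The published statement gives exact sequences obtained as the colimit of these over the powers n =
ℓ^m of a prime ℓ.) -/
theorem result (X : Scheme.{u}) (n : ℕ) (hn : 0 < n) (hX : Dix.InvertibleOn X n) (i : ℕ) (hi : 1 ≤ i) : Set.range ⇑((EtCoh.HF X i).map (EtCoh.muι X n)) = {ξ : (EtCoh.HF X i).obj (EtCoh.Gm X) | n • ξ = 0} := by
  have hunit := isUnit_natCast_of_invertibleOn X n hX
  have hS := kummerSC_shortExact X n hunit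
  ext ξ
  constructor
  · rintro ⟨x, rfl⟩
    show n • ((EtCoh.HF X i).map (EtCoh.muι X n) x) = 0
    have h0 := HF_map_nsmul_id (EtCoh.Gm X) n i ((EtCoh.HF X i).map (EtCoh.muι X n) x)
    have h1 : (EtCoh.HF X i).map (EtCoh.muι X n) ≫
        (EtCoh.HF X i).map (n • 𝟙 (EtCoh.Gm X)) = 0 := by
      rw [← Functor.map_comp]
      have h2 : EtCoh.muι X n ≫ (n • 𝟙 (EtCoh.Gm X)) = 0 := kernel.condition (EtCoh.powMap X n)
      rw [h2, Functor.map_zero]
    exact h0.symm.trans (congrArg (fun φ => φ x) h1)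
  · intro hξ
    have hξ' : n • ξ = 0 := hξ
    have hξ'' : (EtCoh.HF X i).map (n • 𝟙 (EtCoh.Gm X)) ξ = 0 :=
      (HF_map_nsmul_id (EtCoh.Gm X) n i ξ).trans hξ'
    obtain ⟨x₁, hx₁⟩ := Abelian.Ext.covariant_sequence_exact₂ _ hS ξ hξ''
    exact ⟨x₁, hx₁⟩

end Groth.Agent.S3244
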