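import Groth.Statements.S3245
import Groth.Agent.S19588
import Groth.Agent.H97.Azumaya
import Mathlib

set_option autoImplicit false
set_option linter.style.haveILetI false
universe u
open TensorProduct
open Dix

namespace Groth.Agent.S3245

open Groth.Agent.H97

/-- (i) ⇔ (ii) over a local base: let R be a local ring with residue field k and A an R-algebra which is
finite and free as an R-module and nonzero. Then A is an Azumaya R-algebra (A ⊗_R A° → End_R(A)
bijective) if and only if k ⊗_R A is a central simple k-algebra. -/
theorem result (R : Type u) [CommRing R] [IsLocalRing R] (A : Type u) [Ring A] [Algebra R A] [Module.Finite R A] [Module.Free R A] [Nontrivial A] : IsAzumaya R A ↔ (Algebra.IsCentral (IsLocalRing.ResidueField R) ((IsLocalRing.ResidueField R) ⊗[R] A) ∧ IsSimpleRing ((IsLocalRing.ResidueField R) ⊗[R] A)) := by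
  constructor
  · intro hA
    haveI : IsAzumaya (IsLocalRing.ResidueField R) (IsLocalRing.ResidueField R ⊗[R] A) :=
      Groth.Agent.S19588.result R _ A
    exact ⟨inferInstance, isSimpleRing_of_isAzumaya_field (IsLocalRing.ResidueField R) _⟩
  · rintro ⟨hc, hs⟩
    haveI := hc
    haveI := hs
    have hbij0 := mulLeftRight_bijective_of_isCentral_isSimpleRing (IsLocalRing.ResidueField R)
      (IsLocalRing.ResidueField R ⊗[R] A)
    have hbc := (mulLeftRight_baseChange_bijective_iff R (IsLocalRing.ResidueField R) A).1 hbij0
    obtain ⟨hfinE, hprojE⟩ := end_finite_projective R A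
    haveI := hfinE
    haveI := hprojE
    have hbij : Function.Bijective (AlgHom.mulLeftRight R A) := by
      apply bijective_of_forall_maximal_baseChange_quotient (AlgHom.mulLeftRight R A).toLinearMap
      intro m hm
      haveI := hm
      have hK : m ≤ RingHom.ker (algebraMap R (IsLocalRing.ResidueField R)) := by
        rw [IsLocalRing.eq_maximalIdeal hm]
        intro x hx
        rw [RingHom.mem_ker]
        exact (IsLocalRing.residue_eq_zero_iff x).2 hx
      exact bijective_baseChange_quotient_of_algebra m _ hK _ hbc
    exact ⟨hbij⟩

end Groth.Agent.S3245
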