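import Groth.Statements.S3246
import Groth.Agent.H4.Kummer

set_option autoImplicit false
universe u
open CategoryTheory AlgebraicGeometry
open Dix

namespace Groth.Agent.S3246

section helpers
open CategoryTheory.Limits Groth.Agent.H4

/-- If the cohomology of `ℓ`-primary torsion sheaves vanishes above degree `n`, then multiplication
by `ℓ ^ k` is injective on `H^i(F)` for `i > n + 1`. -/
theorem eq_zero_of_pow_nsmul_eq_zero (X : Scheme.{u}) (ℓ n : ℕ) (hcd : Dix.CohDimLEAt X ℓ n)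
    (F : EtCoh.Ab X) (i : ℕ) (hi : n + 1 < i) (k : ℕ) (ξ : EtCoh.H X F i)
    (hk : ℓ ^ k • ξ = 0) : ξ = 0 := by
  let f : F ⟶ F := (ℓ ^ k) • 𝟙 F
  haveI hK : Subsingleton (EtCoh.H X (kernel f) i) :=
    hcd _ (isPrimaryTorsion_kernel_nsmul ℓ k F) i (by omega)
  haveI hC : Subsingleton (EtCoh.H X (cokernel f) (i - 1)) :=
    hcd _ (isPrimaryTorsion_cokernel_nsmul ℓ k F) (i - 1) (by omega)
  have hfξ : (EtCoh.HF X i).map f ξ = 0 := (HF_map_nsmul_id F (ℓ ^ k) i ξ).trans hk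
  have hw : kernel.ι f ≫ Abelian.factorThruImage f = 0 := by
    rw [← cancel_mono (Abelian.image.ι f), Category.assoc, Abelian.image.fac, kernel.condition,
      zero_comp]
  let S₁ : ShortComplex (EtCoh.Ab X) :=
    ShortComplex.mk (kernel.ι f) (Abelian.factorThruImage f) hw
  have hS₁ : S₁.ShortExact := by
    haveI : Mono S₁.f := inferInstanceAs (Mono (kernel.ι f))
    haveI : Epi S₁.g := inferInstanceAs (Epi (Abelian.factorThruImage f))
    exact ShortComplex.ShortExact.mk (ShortComplex.exact_of_f_is_kernel _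
      (isKernelOfComp (f := Abelian.factorThruImage f) (Abelian.image.ι f) f (kernelIsKernel f) hw
        (Abelian.image.fac f)))
  let S₂ : ShortComplex (EtCoh.Ab X) :=
    ShortComplex.mk (Abelian.image.ι f) (cokernel.π f) (kernel.condition (cokernel.π f))
  have hS₂ : S₂.ShortExact := by
    haveI : Mono S₂.f := inferInstanceAs (Mono (Abelian.image.ι f))
    haveI : Epi S₂.g := inferInstanceAs (Epi (cokernel.π f))
    exact ShortComplex.ShortExact.mk (ShortComplex.exact_of_f_is_kernel _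
      (kernelIsKernel (cokernel.π f)))
  have h1 : (EtCoh.HF X i).map (Abelian.image.ι f)
      ((EtCoh.HF X i).map (Abelian.factorThruImage f) ξ) = 0 := by
    have h2 : (EtCoh.HF X i).map (Abelian.factorThruImage f) ≫
        (EtCoh.HF X i).map (Abelian.image.ι f) = (EtCoh.HF X i).map f := by
      rw [← Functor.map_comp, Abelian.image.fac]
    have h3 := congrArg (fun φ => φ ξ) h2
    exact h3.trans hfξ
  obtain ⟨x₃, hx₃⟩ := Abelian.Ext.covariant_sequence_exact₁ _ hS₂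
    ((EtCoh.HF X i).map (Abelian.factorThruImage f) ξ) h1 (show (i - 1) + 1 = i by omega)
  have h2 : (EtCoh.HF X i).map (Abelian.factorThruImage f) ξ = 0 :=
    hx₃.symm.trans (by rw [Subsingleton.elim x₃ 0, Abelian.Ext.zero_comp] <;> rfl)
  obtain ⟨x₁, hx₁⟩ := Abelian.Ext.covariant_sequence_exact₂ _ hS₁ ξ h2
  exact hx₁.symm.trans (by rw [Subsingleton.elim x₁ 0, Abelian.Ext.zero_comp] <;> rfl)

end helpers

open CategoryTheory.Limits Groth.Agent.H4 in
/-- Let X be a scheme, ℓ a prime and n an integer with cd_ℓ(X) ≤ n (étale cohomology of ℓ-primary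
torsion sheaves vanishes above degree n). Then the ℓ-primary torsion of H^i(X_ét, G_m) is zero for i
> n + 1; if moreover ℓ is invertible on X, it is zero for i > n. -/
theorem result (X : Scheme.{u}) (ℓ : ℕ) (hℓ : ℓ.Prime) (n : ℕ) (hcd : Dix.CohDimLEAt X ℓ n) : (∀ i : ℕ, n + 1 < i → ∀ ξ : EtCoh.H X (EtCoh.Gm X) i, (∃ k : ℕ, ℓ ^ k • ξ = 0) → ξ = 0) ∧ (Dix.InvertibleOn X ℓ → ∀ i : ℕ, n < i → ∀ ξ : EtCoh.H X (EtCoh.Gm X) i, (∃ k : ℕ, ℓ ^ k • ξ = 0) → ξ = 0) := by
  refine ⟨?_, ?_⟩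
  · rintro i hi ξ ⟨k, hk⟩
    exact eq_zero_of_pow_nsmul_eq_zero X ℓ n hcd (EtCoh.Gm X) i hi k ξ hk
  · rintro hinv i hi ξ ⟨k, hk⟩
    have hinv' : Dix.InvertibleOn X (ℓ ^ k) := by
      intro x
      rw [Nat.cast_pow]
      exact pow_ne_zero k (hinv x)
    have hunit := isUnit_natCast_of_invertibleOn X (ℓ ^ k) hinv'
    have hS := kummerSC_shortExact X (ℓ ^ k) hunit
    haveI hK : Subsingleton (EtCoh.H X (EtCoh.mu X (ℓ ^ k)) i) :=
      hcd _ (isPrimaryTorsion_kernel_nsmul ℓ k (EtCoh.Gm X)) i hi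
    have hξ' : (EtCoh.HF X i).map ((ℓ ^ k) • 𝟙 (EtCoh.Gm X)) ξ = 0 :=
      (HF_map_nsmul_id (EtCoh.Gm X) (ℓ ^ k) i ξ).trans hk
    obtain ⟨x₁, hx₁⟩ := Abelian.Ext.covariant_sequence_exact₂ _ hS ξ hξ'
    exact hx₁.symm.trans (by rw [Subsingleton.elim x₁ 0, Abelian.Ext.zero_comp] <;> rfl)

end Groth.Agent.S3246
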