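import Groth.Statements.S3259
import Mathlib
import Groth.Agent.S0591
import Groth.Agent.S9218
import Groth.Agent.S9189
import Groth.Agent.S9191
import Groth.Agent.S9705
import Groth.Agent.H59.StalkLimA

set_option autoImplicit false
universe u
open AlgebraicGeometry CategoryTheory CategoryTheory.Limits
open ArSurf

namespace Groth.Agent.S3259


section Helpers
open AlgebraicGeometry CategoryTheory CategoryTheory.Limits

theorem restage {C : Type*} [Category C] {X X₀ X₃ S S₀ S₃ : C} {qX : X ⟶ X₀} {f : X ⟶ S}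
    {x₀ : X₀ ⟶ S₀} {π₀ : S ⟶ S₀} (sq : IsPullback qX f x₀ π₀) {p : X₃ ⟶ X₀} {x₃ : X₃ ⟶ S₃}
    {d : S₃ ⟶ S₀} (sq3 : IsPullback p x₃ x₀ d) (π₃ : S ⟶ S₃) (hπ : π₃ ≫ d = π₀) :
    ∃ g' : X ⟶ X₃, g' ≫ p = qX ∧ IsPullback g' f x₃ π₃ := by
  have w : qX ≫ x₀ = (f ≫ π₃) ≫ d := by rw [sq.w, Category.assoc, hπ]
  refine ⟨sq3.lift qX (f ≫ π₃) w, sq3.lift_fst _ _ _, ?_⟩
  refine IsPullback.of_right ?_ (sq3.lift_snd _ _ _) sq3
  rw [sq3.lift_fst, hπ]
  exact sq

theorem isPullback_lift_snd {C : Type*} [Category C] [HasPullbacks C] {P Z T T' : C}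
    (p : P ⟶ Z) (a : T ⟶ Z) (a' : T' ⟶ Z) (t : T ⟶ T') (ht : t ≫ a' = a) :
    ∃ m : pullback p a ⟶ pullback p a', IsPullback m (pullback.snd p a) (pullback.snd p a') t := by
  have w : pullback.fst p a ≫ p = (pullback.snd p a ≫ t) ≫ a' := by
    rw [pullback.condition, Category.assoc, ht]
  refine ⟨pullback.lift _ _ w, ?_⟩
  refine IsPullback.of_right ?_ (pullback.lift_snd _ _ _) (IsPullback.of_hasPullback p a')
  rw [pullback.lift_fst, ht]
  exact IsPullback.of_hasPullback _ _

theorem exists_projMap (n : ℕ) {T T' : Scheme.{u}} (t : T ⟶ T') :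
    ∃ m : CohB1.ProjSpaceOver n T ⟶ CohB1.ProjSpaceOver n T',
      IsPullback m (CohB1.ProjSpaceOver.toBase n T) (CohB1.ProjSpaceOver.toBase n T') t :=
  isPullback_lift_snd (CohB1.ProjSpace.toSpec n (ULift.{u} ℤ)) (specULiftZIsTerminal.from T)
    (specULiftZIsTerminal.from T') t (specULiftZIsTerminal.hom_ext _ _)

theorem lfp_toBase (n : ℕ) (S : Scheme.{u}) :
    LocallyOfFinitePresentation (CohB1.ProjSpaceOver.toBase n S) := by
  haveI : IsNoetherianRing (ULift.{u} ℤ) :=
    isNoetherianRing_of_ringEquiv ℤ (ULift.ringEquiv (R := ℤ)).symm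
  haveI : LocallyOfFinitePresentation (CohB1.ProjSpace.toSpec n (ULift.{u} ℤ)) :=
    LocallyOfFinitePresentation.iff_locallyOfFiniteType.mpr inferInstance
  exact MorphismProperty.pullback_snd _ _ inferInstance

theorem spread {I : Type u} [SmallCategory I] [IsCofiltered I]
    (D : I ⥤ Scheme.{u}) (c : Cone D) (hc : IsLimit c)
    [∀ (i j : I) (f : i ⟶ j), IsAffineHom (D.map f)] [∀ i, CompactSpace (D.obj i)]
    [∀ i, QuasiSeparatedSpace (D.obj i)]
    {X : Scheme.{u}} (f : X ⟶ c.pt) [Smooth f] (n : ℕ)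
    (ι : X ⟶ CohB1.ProjSpaceOver n c.pt) [IsClosedImmersion ι]
    (hι : ι ≫ CohB1.ProjSpaceOver.toBase n c.pt = f) :
    ∃ (i : I) (Xi : Scheme.{u}) (fi : Xi ⟶ D.obj i) (g : X ⟶ Xi),
      IsPullback g f fi (c.π.app i) ∧ Smooth fi ∧ IsProper fi := by
  haveI : IsProper (CohB1.ProjSpaceOver.toBase n c.pt) :=
    Groth.Agent.S9705.isProper_toBase (n := n) c.pt
  haveI : IsProper f := by rw [← hι]; infer_instance
  -- Step 1: descend `X`
  obtain ⟨i₁, X₁, f₁, g₁, hlfp₁, hqc₁, hqs₁, sq₁⟩ := Groth.Agent.S0591.result D c hc X f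
  haveI := hlfp₁
  haveI := hqc₁
  haveI := hqs₁
  haveI : CompactSpace X₁ := QuasiCompact.compactSpace_of_compactSpace f₁
  haveI : QuasiSeparatedSpace X₁ := quasiSeparatedSpace_of_quasiSeparated f₁
  -- projective space over the stage
  haveI hy₁p : IsProper (CohB1.ProjSpaceOver.toBase n (D.obj i₁)) :=
    Groth.Agent.S9705.isProper_toBase (n := n) (D.obj i₁)
  haveI hy₁l : LocallyOfFinitePresentation (CohB1.ProjSpaceOver.toBase n (D.obj i₁)) :=
    lfp_toBase n (D.obj i₁)
  haveI : CompactSpace (CohB1.ProjSpaceOver n (D.obj i₁)) :=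
    QuasiCompact.compactSpace_of_compactSpace (CohB1.ProjSpaceOver.toBase n (D.obj i₁))
  haveI : QuasiSeparatedSpace (CohB1.ProjSpaceOver n (D.obj i₁)) :=
    quasiSeparatedSpace_of_quasiSeparated (CohB1.ProjSpaceOver.toBase n (D.obj i₁))
  obtain ⟨qY, hY⟩ := exists_projMap n (c.π.app i₁)
  -- Step 2: descend the morphism `ι`
  obtain ⟨j, φ, fj, sX, sY, h1, h2, h3, h4, h5, h6⟩ :=
    Groth.Agent.S9218.result D c hc i₁ f₁ (CohB1.ProjSpaceOver.toBase n (D.obj i₁)) g₁ f sq₁ qY
      (CohB1.ProjSpaceOver.toBase n c.pt) hY ι hι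
  have sqXj : IsPullback sX f (pullback.snd f₁ (D.map φ)) (c.π.app j) := by
    refine IsPullback.of_right ?_ h3 (IsPullback.of_hasPullback f₁ (D.map φ))
    rw [h2, c.w]
    exact sq₁
  have sqYj : IsPullback sY (CohB1.ProjSpaceOver.toBase n c.pt)
      (pullback.snd (CohB1.ProjSpaceOver.toBase n (D.obj i₁)) (D.map φ)) (c.π.app j) := by
    refine IsPullback.of_right ?_ h5
      (IsPullback.of_hasPullback (CohB1.ProjSpaceOver.toBase n (D.obj i₁)) (D.map φ))
    rw [h4, c.w]
    exact hY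
  have hXj : IsPullback sX ι fj sY := by
    refine IsPullback.of_bot ?_ h6 sqYj
    rw [hι, h1]
    exact sqXj
  haveI : CompactSpace ↥(pullback f₁ (D.map φ)) :=
    QuasiCompact.compactSpace_of_compactSpace (pullback.snd f₁ (D.map φ))
  haveI : QuasiSeparatedSpace ↥(pullback f₁ (D.map φ)) :=
    quasiSeparatedSpace_of_quasiSeparated (pullback.snd f₁ (D.map φ))
  haveI : CompactSpace ↥(pullback (CohB1.ProjSpaceOver.toBase n (D.obj i₁)) (D.map φ)) :=
    QuasiCompact.compactSpace_of_compactSpace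
      (pullback.snd (CohB1.ProjSpaceOver.toBase n (D.obj i₁)) (D.map φ))
  haveI : QuasiSeparatedSpace ↥(pullback (CohB1.ProjSpaceOver.toBase n (D.obj i₁)) (D.map φ)) :=
    quasiSeparatedSpace_of_quasiSeparated
      (pullback.snd (CohB1.ProjSpaceOver.toBase n (D.obj i₁)) (D.map φ))
  haveI : LocallyOfFiniteType
      (fj ≫ pullback.snd (CohB1.ProjSpaceOver.toBase n (D.obj i₁)) (D.map φ)) := by
    rw [h1]; infer_instance
  haveI : LocallyOfFiniteType fj :=
    locallyOfFiniteType_of_comp fj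
      (pullback.snd (CohB1.ProjSpaceOver.toBase n (D.obj i₁)) (D.map φ))
  -- Step 3: the closed immersion descends
  obtain ⟨i₃, φ₃, X₃, Y₃, f₃, g₃, pY₃, pX₃, hY₃, hX₃, hcl₃⟩ :=
    Groth.Agent.S9189.result D c hc j fj
      (pullback.snd (CohB1.ProjSpaceOver.toBase n (D.obj i₁)) (D.map φ)) ι
      (CohB1.ProjSpaceOver.toBase n c.pt) sY sX sqYj hXj
  haveI := hcl₃
  haveI : IsProper g₃ := MorphismProperty.of_isPullback (P := @IsProper) hY₃ inferInstance
  have sq3X : IsPullback pX₃ (f₃ ≫ g₃) (pullback.snd f₁ (D.map φ)) (D.map φ₃) := by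
    have := hX₃.paste_vert hY₃
    rwa [h1] at this
  haveI : LocallyOfFinitePresentation (f₃ ≫ g₃) :=
    MorphismProperty.of_isPullback (P := @LocallyOfFinitePresentation) sq3X inferInstance
  haveI : CompactSpace X₃ := QuasiCompact.compactSpace_of_compactSpace (f₃ ≫ g₃)
  haveI : QuasiSeparatedSpace X₃ := quasiSeparatedSpace_of_quasiSeparated (f₃ ≫ g₃)
  obtain ⟨g₃', -, sq₃'⟩ := restage sqXj sq3X (c.π.app i₃) (c.w φ₃)
  -- Step 4: smoothness descends
  obtain ⟨i₄, φ₄, X₄, Y₄, f₄, g₄, pY₄, pX₄, hY₄, hX₄, hsm₄⟩ :=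
    Groth.Agent.S9191.result D c hc i₃ (f₃ ≫ g₃) (𝟙 (D.obj i₃)) f (𝟙 c.pt) (c.π.app i₃) g₃'
      (IsPullback.id_vert (c.π.app i₃)) sq₃'
  haveI : IsIso g₄ := hY₄.isIso_snd_of_isIso
  have sq4X : IsPullback pX₄ (f₄ ≫ g₄) (f₃ ≫ g₃) (D.map φ₄) := by
    have := hX₄.paste_vert hY₄
    rwa [Category.comp_id] at this
  obtain ⟨g₄', -, sq₄'⟩ := restage sq₃' sq4X (c.π.app i₄) (c.w φ₄)
  refine ⟨i₄, X₄, f₄ ≫ g₄, g₄', sq₄', ?_, ?_⟩
  · exact (MorphismProperty.cancel_right_of_respectsIso @Smooth f₄ g₄).mpr hsm₄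
  · exact MorphismProperty.of_isPullback (P := @IsProper) sq4X inferInstance

theorem exists_iso_genPt' (R : CommRingCat.{u}) [IsDomain R] :
    ∃ (e : Spec (CommRingCat.of (FractionRing R)) ≅
        Spec ((Spec R).presheaf.stalk (genericPoint (Spec R)))),
      e.hom ≫ (Spec R).fromSpecStalk (genericPoint (Spec R)) =
        Spec.map (CommRingCat.ofHom (algebraMap R (FractionRing R))) := by
  let F : CommRingCat.{u} := (Spec R).functionField
  let φ : FractionRing R ≃ₐ[R] F := FractionRing.algEquiv R F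
  let a : F ⟶ CommRingCat.of (FractionRing R) :=
    CommRingCat.ofHom (φ.symm : F →+* FractionRing R)
  let b : CommRingCat.of (FractionRing R) ⟶ F :=
    CommRingCat.ofHom (φ : FractionRing R →+* F)
  have hab : a ≫ b = 𝟙 F := by
    ext x
    exact φ.apply_symm_apply x
  have hba : b ≫ a = 𝟙 _ := by
    ext x
    exact φ.symm_apply_apply x
  refine ⟨⟨Spec.map a, Spec.map b, by rw [← Spec.map_comp, hba, Spec.map_id],
    by rw [← Spec.map_comp, hab, Spec.map_id]⟩, ?_⟩
  show Spec.map a ≫ (Spec R).fromSpecStalk (genericPoint (Spec R)) = _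
  rw [Spec.fromSpecStalk_eq']
  refine (Spec.map_comp (StructureSheaf.toStalk R _) a).symm.trans ?_
  congr 1
  ext r
  show φ.symm (algebraMap R F r) = algebraMap R (FractionRing R) r
  exact φ.symm.commutes r

theorem exists_iso_genPt (R : Type u) [CommRing R] [IsDomain R] :
    ∃ (e : Spec (CommRingCat.of (FractionRing R)) ≅
        Spec ((Spec (CommRingCat.of R)).presheaf.stalk (genericPoint (Spec (CommRingCat.of R))))),
      e.hom ≫ (Spec (CommRingCat.of R)).fromSpecStalk (genericPoint (Spec (CommRingCat.of R))) =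
        Spec.map (CommRingCat.ofHom (algebraMap R (FractionRing R))) :=
  @exists_iso_genPt' (CommRingCat.of R) (inferInstanceAs (IsDomain R))

theorem exists_iso_cone (R : Type u) [CommRing R] [IsDomain R] :
    ∃ e : Spec (CommRingCat.of (FractionRing R)) ≅
        (Groth.Agent.H68.StalkLim.cone (Spec (CommRingCat.of R))
          (genericPoint (Spec (CommRingCat.of R)))).pt,
      ∀ W, (e.hom ≫ (Groth.Agent.H68.StalkLim.cone (Spec (CommRingCat.of R))
          (genericPoint (Spec (CommRingCat.of R)))).π.app W) ≫ W.1.ι =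
        Spec.map (CommRingCat.ofHom (algebraMap R (FractionRing R))) := by
  obtain ⟨e, he⟩ := exists_iso_genPt R
  refine ⟨e, fun W => ?_⟩
  rw [Category.assoc, Groth.Agent.H68.StalkLim.cone_π_ι]
  exact he

theorem main {R : Type u} [CommRing R] [IsDedekindDomain R]
    (C : Over (Spec (CommRingCat.of (FractionRing R)))) [Smooth C.hom] (n : ℕ)
    (i : C.left ⟶ CohB1.ProjSpaceOver n (Spec (CommRingCat.of (FractionRing R))))
    (hi : IsClosedImmersion i)
    (hiC : i ≫ CohB1.ProjSpaceOver.toBase n (Spec (CommRingCat.of (FractionRing R))) = C.hom) :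
    ∃ (U : (Spec (CommRingCat.of R)).Opens)
      (ξ : Spec (CommRingCat.of (FractionRing R)) ⟶ (U : Scheme.{u}))
      (𝒞 : Scheme.{u}) (π : 𝒞 ⟶ (U : Scheme.{u})),
      ξ ≫ U.ι = Neron.genPt R ∧ Smooth π ∧ IsProper π ∧
      Nonempty (Over.mk (pullback.snd π ξ) ≅ C) := by
  obtain ⟨e, he⟩ := exists_iso_cone R
  obtain ⟨m, hm⟩ := exists_projMap n e.hom
  haveI : IsIso m := hm.isIso_fst_of_isIso
  haveI := hi
  have hιf : (i ≫ m) ≫ CohB1.ProjSpaceOver.toBase n
      (Groth.Agent.H68.StalkLim.cone (Spec (CommRingCat.of R))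
        (genericPoint (Spec (CommRingCat.of R)))).pt = C.hom ≫ e.hom := by
    rw [Category.assoc, hm.w, ← Category.assoc, hiC]
  obtain ⟨W, X₄, x₄, g, sq, hsm, hpr⟩ :=
    spread (Groth.Agent.H68.StalkLim.diag (Spec (CommRingCat.of R))
        (genericPoint (Spec (CommRingCat.of R))))
      (Groth.Agent.H68.StalkLim.cone (Spec (CommRingCat.of R))
        (genericPoint (Spec (CommRingCat.of R))))
      (Groth.Agent.H68.StalkLim.isLimit (Spec (CommRingCat.of R))
        (genericPoint (Spec (CommRingCat.of R))))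
      (C.hom ≫ e.hom) n (i ≫ m) hιf
  refine ⟨W.1, e.hom ≫ (Groth.Agent.H68.StalkLim.cone (Spec (CommRingCat.of R))
        (genericPoint (Spec (CommRingCat.of R)))).π.app W, X₄, x₄, he W, hsm, hpr, ?_⟩
  have sq' : IsPullback g C.hom x₄
      (e.hom ≫ (Groth.Agent.H68.StalkLim.cone (Spec (CommRingCat.of R))
        (genericPoint (Spec (CommRingCat.of R)))).π.app W) :=
    sq.of_iso (Iso.refl _) (Iso.refl _) e.symm (Iso.refl _) (by simp) (by simp) (by simp)
      (by simp)
  exact ⟨Over.isoMk sq'.isoPullback.symm (by simp)⟩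

end Helpers


/-- Let R be a Dedekind domain with fraction field K and C a smooth projective curve over K (smooth,
proper, of dimension 1, admitting a closed immersion into some P^n_K). Then there are a non-empty
open subscheme U of Spec R containing the generic point and a smooth proper morphism 𝒞 -> U whose
fibre over the generic point is K-isomorphic to C. In particular C has good reduction at every
closed point of U, that is, at all but finitely many closed points. (Stated in the form the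
published proof gives.) -/
theorem result {R : Type u} [CommRing R] [IsDedekindDomain R]
    (C : Over (Spec (CommRingCat.of (FractionRing R)))) [Smooth C.hom] [IsProper C.hom]
    (hdim : topologicalKrullDim C.left = 1) (hproj : Neron.IsProjectiveOver (FractionRing R) C) :
    ∃ (U : (Spec (CommRingCat.of R)).Opens) (ξ : Spec (CommRingCat.of (FractionRing R)) ⟶ (U : Scheme.{u}))
      (𝒞 : Scheme.{u}) (π : 𝒞 ⟶ (U : Scheme.{u})),
      ξ ≫ U.ι = Neron.genPt R ∧ Smooth π ∧ IsProper π ∧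
      Nonempty (Over.mk (pullback.snd π ξ) ≅ C) := by
  obtain ⟨n, i, hi, hiC⟩ := hproj
  exact main C n i hi hiC

end Groth.Agent.S3259
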