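import Groth.Statements.S3290
import Groth.Agent.H43.DivPrinciple

set_option autoImplicit false
universe u
open Finset
open LambdaRing

namespace Groth.Agent.S3290

open Groth.Agent.H43

theorem lam_neg_succ {K : Type u} [CommRing K] [LambdaRing.LambdaOps K]
    (h1 : ∀ k : ℕ, 2 ≤ k → LambdaOps.lam k (1 : K) = 0) :
    ∀ (n k : ℕ), LambdaOps.lam k (-((n + 1 : ℕ) : K)) = (-1 : K) ^ k * ((n + k).choose k : K) := by
  intro n
  induction n with
  | zero =>
    intro k
    have := lam_neg_one h1 k
    simp only [zero_add, Nat.cast_one, Nat.choose_self, mul_one]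
    exact this
  | succ n ih =>
    intro k
    induction k with
    | zero => simp [LambdaOps.lam_zero]
    | succ k ihk =>
      have h := lam_add_one h1 k (-((n + 1 + 1 : ℕ) : K))
      have hz : (-((n + 1 + 1 : ℕ) : K)) + 1 = -((n + 1 : ℕ) : K) := by push_cast; ring
      rw [hz, ih (k + 1), ihk] at h
      have hc : ((n + 1 + (k + 1)).choose (k + 1) : K) =
          ((n + (k + 1)).choose (k + 1) : K) + ((n + 1 + k).choose k : K) := by
        rw [show n + 1 + (k + 1) = (n + 1 + k) + 1 by ring, Nat.choose_succ_succ,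
          show n + (k + 1) = n + 1 + k by ring]
        push_cast; ring
      rw [hc]
      linear_combination (-1 : K) * h


/-- For a positive element e of augmentation m in a λ-ring with positive structure, the polynomials
Σ_{i=0}^{m} γ^i(e − m) t^(m−i) and Σ_{i=0}^{m} λ^i(e) (t − 1)^(m−i) are equal. -/
theorem result (K : Type u) [CommRing K] [LambdaRing.LambdaOps K] (P : LambdaRing.PosStructure K) (e : K) (he : e ∈ P.pos) :
    (∑ i ∈ range ((P.aug e).toNat + 1),
        Polynomial.C (LambdaRing.gamma i (e - ((P.aug e).toNat : K))) * Polynomial.X ^ ((P.aug e).toNat - i)) =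
      ∑ i ∈ range ((P.aug e).toNat + 1),
        Polynomial.C (LambdaRing.LambdaOps.lam i e) * (Polynomial.X - 1) ^ ((P.aug e).toNat - i) := by
  have h1 : ∀ k : ℕ, 2 ≤ k → LambdaOps.lam k (1 : K) = 0 := by
    intro k hk
    have hp : (1 : K) ∈ P.pos := by simpa using P.natCast_mem 1 Nat.one_pos
    apply P.lam_eq_zero 1 hp k
    rw [map_one]; exact_mod_cast hk
  have hpos := P.aug_pos e he
  have hmz : (((P.aug e).toNat : ℕ) : ℤ) = P.aug e := Int.toNat_of_nonneg hpos.le
  generalize hm : (P.aug e).toNat = m at hmz ⊢
  have key : ∀ k : ℕ, k ≤ m → gamma k (e - (m : K)) =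
      ∑ j ∈ range (k + 1), LambdaOps.lam j e *
        ((-1 : K) ^ (k - j) * ((m - j).choose (k - j) : K)) := by
    intro k hk
    rw [Groth.Agent.S8649.result K h1 k (e - (m : K))]
    have he' : e - (m : K) + (k : K) - 1 = e + (-(((m - k) + 1 : ℕ) : K)) := by
      rw [Nat.cast_add, Nat.cast_sub hk]; push_cast; ring
    rw [he', LambdaOps.lam_add]
    apply Finset.sum_congr rfl
    intro j hj
    have hj' : j ≤ k := Nat.lt_succ_iff.mp (Finset.mem_range.mp hj)
    rw [lam_neg_succ h1 (m - k) (k - j), show m - k + (k - j) = m - j by omega]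
  have hX : (Polynomial.X - 1 : Polynomial K) = Polynomial.X + Polynomial.C (-1 : K) := by
    rw [Polynomial.C_neg, Polynomial.C_1, sub_eq_add_neg]
  rw [hX]
  ext d
  simp only [Polynomial.finset_sum_coeff, Polynomial.coeff_C_mul, Polynomial.coeff_X_pow,
    Polynomial.coeff_X_add_C_pow]
  by_cases hd : d ≤ m
  · rw [Finset.sum_eq_single (m - d)]
    · rw [if_pos (by omega), mul_one, key (m - d) (by omega)]
      refine (Finset.sum_congr rfl ?_).trans
        (Finset.sum_subset (Finset.range_mono (by omega : m - d + 1 ≤ m + 1)) ?_)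
      · intro j hj
        have hj' : j ≤ m - d := Nat.lt_succ_iff.mp (Finset.mem_range.mp hj)
        rw [show m - d - j = m - j - d by omega, Nat.choose_symm (by omega)]
      · intro j hj hj2
        have hj1 := Finset.mem_range.mp hj
        have hj3 : ¬ j < m - d + 1 := fun h => hj2 (Finset.mem_range.mpr h)
        rw [Nat.choose_eq_zero_of_lt (by omega), Nat.cast_zero, mul_zero, mul_zero]
    · intro i hi hne
      have hi' := Finset.mem_range.mp hi
      rw [if_neg (by omega), mul_zero]
    · intro hn
      exact absurd (Finset.mem_range.mpr (by omega)) hn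
  · trans (0 : K)
    · apply Finset.sum_eq_zero
      intro i _
      rw [if_neg (by omega), mul_zero]
    · symm
      apply Finset.sum_eq_zero
      intro i _
      rw [Nat.choose_eq_zero_of_lt (by omega), Nat.cast_zero, mul_zero, mul_zero]

end Groth.Agent.S3290
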