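import Groth.Statements.S3313
import Groth.Agent.H59.FibreComp
import Groth.Agent.S1659
import Groth.Agent.S14090
import Groth.Agent.H9.ComapMul

set_option autoImplicit false
universe u
open CategoryTheory CategoryTheory.Limits AlgebraicGeometry
open Models

namespace Groth.Agent.S3313

open Groth.Agent.H59.StalkIdeal Groth.Agent.H59.CartierLocal Groth.Agent.H59.CartierGlobal
  Groth.Agent.H59.CartierSum Groth.Agent.H59.FibreComp TopologicalSpace

section Aux

variable (R : Type u) [CommRing R] [IsDomain R] [IsDiscreteValuationRing R]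

/-- the ideal sheaf of the closed point of `Spec R` is effective Cartier. -/
theorem isEffCartier_closedPoint :
    BlowUp.IsEffCartierIdeal (Curv2.idealSheaf R (IsLocalRing.maximalIdeal R)) := by
  intro x
  obtain ⟨ϖ, hϖ⟩ := IsDiscreteValuationRing.exists_irreducible R
  let e : R ≃+* Γ(Spec (CommRingCat.of R), ⊤) :=
    (Scheme.ΓSpecIso (CommRingCat.of R)).symm.commRingCatIsoToRingEquiv
  have : IsDomain Γ(Spec (CommRingCat.of R), ⊤) := e.symm.toMulEquiv.isDomain _
  have hinj : Function.Injective (Scheme.ΓSpecIso (CommRingCat.of R)).inv.hom :=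
    (ConcreteCategory.bijective_of_isIso (C := CommRingCat) _).1
  refine ⟨⟨⊤, isAffineOpen_top _⟩, trivial, (Scheme.ΓSpecIso (CommRingCat.of R)).inv.hom ϖ, ?_, ?_⟩
  · apply mem_nonZeroDivisors_of_ne_zero
    intro h0
    exact hϖ.ne_zero ((map_eq_zero_iff _ hinj).mp h0)
  · unfold Curv2.idealSheaf
    have h1 : (Scheme.IdealSheafData.ofIdealTop (X := Spec (CommRingCat.of R))
        ((IsLocalRing.maximalIdeal R).map (Scheme.ΓSpecIso (CommRingCat.of R)).inv.hom)).ideal
          ⟨⊤, isAffineOpen_top _⟩ =
        (IsLocalRing.maximalIdeal R).map (Scheme.ΓSpecIso (CommRingCat.of R)).inv.hom := by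
      simp
    rw [h1, hϖ.maximalIdeal_eq, Ideal.map_span, Set.image_singleton]

/-- the support of the ideal sheaf of the closed point. -/
theorem support_closedPoint :
    ((Curv2.idealSheaf R (IsLocalRing.maximalIdeal R)).support : Set (Spec (CommRingCat.of R))) =
      {IsLocalRing.closedPoint R} := by
  unfold Curv2.idealSheaf
  rw [Scheme.IdealSheafData.coe_support_ofIdealTop, Spec_zeroLocus]
  have h1 : ((Scheme.ΓSpecIso (CommRingCat.of R)).inv ⁻¹'
      (((IsLocalRing.maximalIdeal R).map (Scheme.ΓSpecIso (CommRingCat.of R)).inv.hom :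
        Ideal Γ(Spec (CommRingCat.of R), ⊤)) : Set Γ(Spec (CommRingCat.of R), ⊤))) =
      ((IsLocalRing.maximalIdeal R : Ideal R) : Set R) := by
    ext r
    simp only [Set.mem_preimage, SetLike.mem_coe]
    constructor
    · intro h
      have h2 := Ideal.mem_map_of_mem (Scheme.ΓSpecIso (CommRingCat.of R)).hom.hom h
      rw [Ideal.map_map, ← CommRingCat.hom_comp, Iso.inv_hom_id] at h2
      simpa using h2
    · intro h
      exact Ideal.mem_map_of_mem _ h
  rw [h1]
  exact PrimeSpectrum.zeroLocus_eq_singleton (IsLocalRing.maximalIdeal R)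

/-- the stalk of the ideal sheaf of the closed fibre. -/
theorem st_specialFibreIdeal {X : Scheme.{u}} (p : X ⟶ Spec (CommRingCat.of R)) (x : X) :
    st (Models.specialFibreIdeal R (Over.mk p)) x =
      Ideal.map (Models.stalkHom R (Over.mk p) x) (IsLocalRing.maximalIdeal R) := by
  obtain ⟨W, hxW⟩ := exists_affine_nhd x
  rw [st_eq _ x W hxW]
  show Ideal.map _ (((Curv2.idealSheaf R (IsLocalRing.maximalIdeal R)).comap p).ideal W) = _
  rw [Groth.Agent.S14090.comap_idealSheaf_ideal, Ideal.map_map]
  congr 1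
  ext r
  simp only [RingHom.coe_comp, Function.comp_apply, Models.stalkHom, Coh.toGlobal,
    Groth.Agent.H54.BlowUpAffine.sharp, CommRingCat.hom_comp]
  exact X.presheaf.germ_res_apply (homOfLE (le_top : W.1 ≤ ⊤)) x hxW _

/-- the support of the ideal sheaf of the closed fibre. -/
theorem support_specialFibreIdeal {X : Scheme.{u}} (p : X ⟶ Spec (CommRingCat.of R)) :
    ((Models.specialFibreIdeal R (Over.mk p)).support : Set (Over.mk p).left) =
      Models.specialFibreSet R (Over.mk p) := by
  unfold Models.specialFibreIdeal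
  rw [Scheme.IdealSheafData.support_comap, TopologicalSpace.Closeds.coe_preimage,
    support_closedPoint]
  rfl

section Comp

variable {X : Scheme.{u}} (p : X ⟶ Spec (CommRingCat.of R)) (Γ₀ : ArSurf.VertComp R (Over.mk p))

theorem isIntegral_comp : IsIntegral (Γ₀.ι.ker).subscheme := by
  haveI : Nonempty Γ₀.curve.left := inferInstance
  haveI : Nonempty Γ₀.ι.ker.subscheme :=
    ⟨Γ₀.ι.toImage (Classical.arbitrary Γ₀.curve.left)⟩
  exact isIntegral_of_isOpenImmersion (inv Γ₀.ι.toImage)

theorem support_comp :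
    ((Γ₀.ι.ker).support : Set (Over.mk p).left) = Set.range Γ₀.ι := by
  rw [Scheme.Hom.support_ker]
  exact Γ₀.ι.isClosedEmbedding.isClosed_range.closure_eq

end Comp

end Aux

/-- Let R be a discrete valuation ring with fraction field K, C a smooth proper curve over K and X a
regular model of C over R (flat, of finite type, all local rings regular, generic fibre C). Let Γ_1,
…, Γ_n be the irreducible components of the closed fibre, each an integral curve over the residue
field closed in X, with multiplicities m_i (length of O_{X,ξ_i}/𝔪_R O_{X,ξ_i} at the generic point).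
Then each Γ_i is an effective Cartier divisor on X and the ideal sheaf 𝔪_R O_X of the closed fibre
is the product of the ideal sheaves of the Γ_i raised to the powers m_i (the closed fibre is the sum
Σ m_i Γ_i of effective Cartier divisors). -/
theorem result (R : Type u) [CommRing R] [IsDomain R] [IsDiscreteValuationRing R]
    (C X : Scheme.{u}) (f : C ⟶ Spec (CommRingCat.of (FractionRing R))) (p : X ⟶ Spec (CommRingCat.of R))
    (hC : Curve.IsSmoothProperCurve (FractionRing R) C f) (hX : Models.IsModel R X p C f)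
    (hreg : Models.IsRegularScheme X)
    {n : ℕ} (Γ : Fin n → ArSurf.VertComp R (Over.mk p)) (hΓ : Models.IsComponentList R (Over.mk p) Γ) :
    (∀ i, BlowUp.IsEffCartierIdeal (Γ i).ι.ker) ∧
      Models.specialFibreIdeal R (Over.mk p) = ∏ i, (Γ i).ι.ker ^ Models.mult R (Over.mk p) (Γ i) := by
  classical
  obtain ⟨hflat, hft, hqc, -⟩ := hX
  have := hflat; have := hft; have := hqc
  haveI : IsLocallyNoetherian X := LocallyOfFiniteType.isLocallyNoetherian p
  haveI : CompactSpace X := QuasiCompact.compactSpace_of_compactSpace p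
  haveI : IsNoetherian X := {}
  set D : X.IdealSheafData := Models.specialFibreIdeal R (Over.mk p) with hDdef
  have hD : BlowUp.IsEffCartierIdeal D :=
    Groth.Agent.H9.isEffCartierIdeal_comap_of_flat p _ (isEffCartier_closedPoint R)
  have hsuppD : (D.support : Set X) = Models.specialFibreSet R (Over.mk p) :=
    support_specialFibreIdeal R p
  let 𝓔 : Fin n → X.IdealSheafData := fun i => (Γ i).ι.ker
  have hint : ∀ i, IsIntegral (𝓔 i).subscheme := fun i => isIntegral_comp R p (Γ i)
  have hsupp : ∀ i, ((𝓔 i).support : Set X) = Set.range (Γ i).ι :=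
    fun i => support_comp R p (Γ i)
  have hcomp : ∀ i, Maximal (fun S : Set X => IsIrreducible S ∧
      S ⊆ Models.specialFibreSet R (Over.mk p)) (Set.range (Γ i).ι) := by
    intro i
    have : Set.range (Γ i).ι ∈ Models.fibreComponents R (Over.mk p) := by
      rw [← hΓ.2]; exact ⟨i, rfl⟩
    exact this
  have hsub : ∀ i, (𝓔 i).support ≤ D.support := by
    intro i x hx
    have h1 : x ∈ ((𝓔 i).support : Set X) := hx
    rw [hsupp i] at h1
    have := (hcomp i).prop.2 h1
    show x ∈ (D.support : Set X)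
    rw [hsuppD]; exact this
  have hmax : ∀ i, ∀ S : Set X, IsIrreducible S → S ⊆ D.support →
      ((𝓔 i).support : Set X) ⊆ S → S ⊆ (𝓔 i).support := by
    intro i S hS hSD hES
    rw [hsupp i] at hES ⊢
    rw [hsuppD] at hSD
    exact (hcomp i).le_of_ge ⟨hS, hSD⟩ hES
  have hcart : ∀ i, BlowUp.IsEffCartierIdeal (𝓔 i) := fun i =>
    isEffCartierIdeal_of_maximal hreg hD (hint i) (hsub i) (hmax i)
  refine ⟨hcart, ?_⟩
  have hcover : (D.support : Set X) ⊆ ⋃ i, ((𝓔 i).support : Set X) := by
    intro x hx
    rw [hsuppD] at hx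
    obtain ⟨Z, hZ, hxZ⟩ := exists_maximal_irreducible _ x hx
    have hZ' : Z ∈ Models.fibreComponents R (Over.mk p) := hZ
    rw [← hΓ.2] at hZ'
    obtain ⟨i, rfl⟩ := hZ'
    exact Set.mem_iUnion.mpr ⟨i, by rw [hsupp i]; exact hxZ⟩
  obtain ⟨a, ha⟩ := Groth.Agent.S1659.result X D hD n 𝓔 hcart hint hcover
  refine ha.trans (Finset.prod_congr rfl fun i _ => ?_)
  congr 1
  set ξ : X := Models.genPtOf R (Over.mk p) (Γ i) with hξ
  have hgen : IsGenericPoint ξ ((𝓔 i).support : Set X) := by
    rw [hsupp i]
    have h1 := (genericPoint_spec (Γ i).curve.left).image (Γ i).ι.continuous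
    rw [Set.image_univ, (Γ i).ι.isClosedEmbedding.isClosed_range.closure_eq] at h1
    exact h1
  obtain ⟨ξ', hξ'mem, hξ'm⟩ := exists_generic (hint i)
  have hξ' : IsGenericPoint ξ' ((𝓔 i).support : Set X) :=
    (support_eq_closure (hint i) ξ' hξ'mem hξ'm).symm
  have hξeq : ξ' = ξ := hξ'.eq hgen
  rw [hξeq] at hξ'm
  have hne : ∀ j, j ≠ i → ξ ∉ (𝓔 j).support := by
    intro j hji hmem
    have h1 : Set.range (Γ i).ι ⊆ Set.range (Γ j).ι := by
      rw [← hsupp i, ← hsupp j, ← hgen.def]
      exact closure_minimal (Set.singleton_subset_iff.mpr hmem) (𝓔 j).support.isClosed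
    have h2 : Set.range (Γ j).ι ⊆ Set.range (Γ i).ι := (hcomp i).le_of_ge (hcomp j).prop h1
    exact hji (hΓ.1 (Set.Subset.antisymm h2 h1))
  have hst : st D ξ = IsLocalRing.maximalIdeal _ ^ a i := by
    rw [ha]
    exact st_prod_at_generic 𝓔 a i ξ hξ'm hne
  obtain ⟨q, hq, hqs⟩ := exists_gen (hcart i) ξ
  rw [hξ'm] at hqs
  haveI := hreg ξ
  haveI := Groth.Agent.H23.isDomain_of_isRegularLocalRing (X.presheaf.stalk ξ)
  have hlen := length_quotient_pow (X.presheaf.stalk ξ) q (nonZeroDivisors.ne_zero hq) hqs (a i)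
  unfold Models.mult
  rw [← st_specialFibreIdeal R p ξ, hst]
  show a i = (Module.length (X.presheaf.stalk ξ)
    (X.presheaf.stalk ξ ⧸ IsLocalRing.maximalIdeal (X.presheaf.stalk ξ) ^ a i)).toNat
  rw [hlen]
  rfl

end Groth.Agent.S3313
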