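import Groth.Statements.S3350
-- import your own Groth.Agent.* helpers here

set_option autoImplicit false
open Finset
open Models Models.NumericalType

namespace Groth.Agent.S3350

/-- Classification of proper subgraphs with two vertices: Let T be a numerical type on n > 2 indices and
i ≠ j two (-2)-indices (g = 0 and a_ii = -2 w_i, a_jj = -2 w_j) with a_ij > 0. Then, after possibly
exchanging i and j, one of the following holds with w = w_i: (A2) w_j = w, a_ij = w, 2 m_i ≥ m_j and
2 m_j ≥ m_i; (B2) w_j = 2w, a_ij = 2w, m_i ≥ m_j and 2 m_j ≥ m_i; (G2) w_j = 3w, a_ij = 3w, 2 m_i ≥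
3 m_j and 2 m_j ≥ m_i. -/
theorem result {n : ℕ} (T : Models.NumericalType n) (hn : 2 < n) (i j : Fin n)
    (hij : i ≠ j) (hi : T.IsMinusTwo i) (hj : T.IsMinusTwo j) (hpos : 0 < T.a i j) :
    ∃ i' j' : Fin n, ((i' = i ∧ j' = j) ∨ (i' = j ∧ j' = i)) ∧
      ((T.w j' = T.w i' ∧ T.a i' j' = T.w i' ∧ T.m j' ≤ 2 * T.m i' ∧ T.m i' ≤ 2 * T.m j') ∨
        (T.w j' = 2 * T.w i' ∧ T.a i' j' = 2 * T.w i' ∧ T.m j' ≤ T.m i' ∧ T.m i' ≤ 2 * T.m j') ∨
        (T.w j' = 3 * T.w i' ∧ T.a i' j' = 3 * T.w i' ∧ 3 * T.m j' ≤ 2 * T.m i' ∧ T.m i' ≤ 2 * T.m j')) := by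
  classical
  obtain ⟨-, hii⟩ := hi
  obtain ⟨-, hjj⟩ := hj
  have hsymm : T.a j i = T.a i j := by
    have := T.symm
    exact (Matrix.IsSymm.apply this i j)
  -- row sums
  have hrow : ∀ r : Fin n, ∑ l, T.a r l * T.m l = 0 := by
    intro r
    have := congrFun T.mulVec_m r
    simpa [Matrix.mulVec, dotProduct] using this
  have hsub : ({i, j} : Finset (Fin n)) ⊆ univ := subset_univ _
  have hsplit : ∀ r : Fin n, T.a r i * T.m i + T.a r j * T.m j +
      ∑ l ∈ univ \ {i, j}, T.a r l * T.m l = 0 := by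
    intro r
    have h1 := Finset.sum_sdiff (f := fun l => T.a r l * T.m l) hsub
    rw [Finset.sum_pair hij, hrow r] at h1
    linarith
  set ri := ∑ l ∈ univ \ {i, j}, T.a i l * T.m l with hri
  set rj := ∑ l ∈ univ \ {i, j}, T.a j l * T.m l with hrj
  have hnotmem : ∀ l ∈ univ \ ({i, j} : Finset (Fin n)), l ≠ i ∧ l ≠ j := by
    intro l hl
    simp only [mem_sdiff, mem_univ, mem_insert, mem_singleton, true_and, not_or] at hl
    exact hl
  have hri_term : ∀ l ∈ univ \ ({i, j} : Finset (Fin n)), 0 ≤ T.a i l * T.m l := by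
    intro l hl
    exact mul_nonneg (T.offDiag_nonneg i l (hnotmem l hl).1.symm) (T.m_pos l).le
  have hrj_term : ∀ l ∈ univ \ ({i, j} : Finset (Fin n)), 0 ≤ T.a j l * T.m l := by
    intro l hl
    exact mul_nonneg (T.offDiag_nonneg j l (hnotmem l hl).2.symm) (T.m_pos l).le
  have hri0 : 0 ≤ ri := Finset.sum_nonneg hri_term
  have hrj0 : 0 ≤ rj := Finset.sum_nonneg hrj_term
  -- connectedness excludes ri = 0 ∧ rj = 0
  have hconn : ¬ (ri = 0 ∧ rj = 0) := by
    rintro ⟨h1, h2⟩
    have hI : ({i, j} : Finset (Fin n)).Nonempty := ⟨i, by simp⟩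
    have hI' : ({i, j} : Finset (Fin n)) ≠ univ := by
      intro h
      have hc := congrArg Finset.card h
      rw [Finset.card_pair hij, Finset.card_univ, Fintype.card_fin] at hc
      omega
    obtain ⟨i₀, hi₀, j₀, hj₀, hne⟩ := T.connected _ hI hI'
    have hj₀' : j₀ ∈ univ \ ({i, j} : Finset (Fin n)) := by
      simp only [mem_sdiff, mem_univ, true_and]; exact hj₀
    have e1 := (Finset.sum_eq_zero_iff_of_nonneg hri_term).mp h1 j₀ hj₀'
    have e2 := (Finset.sum_eq_zero_iff_of_nonneg hrj_term).mp h2 j₀ hj₀'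
    have hm := (T.m_pos j₀).ne'
    simp only [mem_insert, mem_singleton] at hi₀
    rcases hi₀ with rfl | rfl
    · rcases mul_eq_zero.mp e1 with h | h
      · exact hne h
      · exact hm h
    · rcases mul_eq_zero.mp e2 with h | h
      · exact hne h
      · exact hm h
  have h1 := hsplit i
  have h2 := hsplit j
  rw [hii] at h1
  rw [hjj, hsymm] at h2
  obtain ⟨p, hp⟩ := T.w_dvd i j
  obtain ⟨q, hq⟩ : T.w j ∣ T.a i j := hsymm ▸ T.w_dvd j i
  have hwi := T.w_pos i
  have hwj := T.w_pos j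
  have hmi := T.m_pos i
  have hmj := T.m_pos j
  set a := T.a i j with ha
  set wi := T.w i with hwi'
  set wj := T.w j with hwj'
  set mi := T.m i with hmi'
  set mj := T.m j with hmj'
  have hp0 : 0 < p := by
    by_contra h
    have : wi * p ≤ 0 := mul_nonpos_of_nonneg_of_nonpos hwi.le (not_lt.mp h)
    omega
  have hq0 : 0 < q := by
    by_contra h
    have : wj * q ≤ 0 := mul_nonpos_of_nonneg_of_nonpos hwj.le (not_lt.mp h)
    omega
  have eri : ri = wi * (2 * mi - p * mj) := by rw [hp] at h1; linarith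
  have erj : rj = wj * (2 * mj - q * mi) := by rw [hq] at h2; linarith
  have hX : 0 ≤ 2 * mi - p * mj := by
    by_contra h
    have : wi * (2 * mi - p * mj) < 0 := mul_neg_of_pos_of_neg hwi (not_le.mp h)
    omega
  have hY : 0 ≤ 2 * mj - q * mi := by
    by_contra h
    have : wj * (2 * mj - q * mi) < 0 := mul_neg_of_pos_of_neg hwj (not_le.mp h)
    omega
  have hpq : p * q ≤ 4 := by
    by_contra h
    have h5 : 5 ≤ p * q := by omega
    have e : q * (2 * mi - p * mj) + 2 * (2 * mj - q * mi) = (4 - p * q) * mj := by ring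
    have h6 : 0 ≤ q * (2 * mi - p * mj) := mul_nonneg hq0.le hX
    have h7 : (4 - p * q) * mj < 0 := mul_neg_of_neg_of_pos (by omega) hmj
    omega
  have hzero : p * q = 4 → False := by
    intro h4
    apply hconn
    have e : q * (2 * mi - p * mj) + 2 * (2 * mj - q * mi) = (4 - p * q) * mj := by ring
    rw [h4, sub_self, zero_mul] at e
    have h6 : 0 ≤ q * (2 * mi - p * mj) := mul_nonneg hq0.le hX
    have h8 : q * (2 * mi - p * mj) = 0 := by omega
    have hX0 : 2 * mi - p * mj = 0 := by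
      rcases mul_eq_zero.mp h8 with h | h
      · omega
      · exact h
    have hY0 : 2 * mj - q * mi = 0 := by omega
    rw [eri, erj, hX0, hY0, mul_zero, mul_zero]
    exact ⟨rfl, rfl⟩
  have hp4 : p ≤ 4 := by nlinarith
  have hq4 : q ≤ 4 := by nlinarith
  have hwpq : wi * p = wj * q := by rw [← hp, ← hq]
  have hji : T.a j i = a := hsymm
  interval_cases p <;> interval_cases q <;>
    first
    | (exfalso; omega)
    | (exfalso; apply hzero; norm_num; done)
    | (refine ⟨i, j, Or.inl ⟨rfl, rfl⟩, ?_⟩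
       first
       | (left; refine ⟨?_, ?_, ?_, ?_⟩ <;> omega)
       | (right; left; refine ⟨?_, ?_, ?_, ?_⟩ <;> omega)
       | (right; right; refine ⟨?_, ?_, ?_, ?_⟩ <;> omega))
    | (refine ⟨j, i, Or.inr ⟨rfl, rfl⟩, ?_⟩
       first
       | (right; left; refine ⟨?_, ?_, ?_, ?_⟩ <;> omega)
       | (right; right; refine ⟨?_, ?_, ?_, ?_⟩ <;> omega))

end Groth.Agent.S3350
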