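import Groth.Statements.S3351
import Mathlib.LinearAlgebra.FreeModule.PID
import Mathlib.LinearAlgebra.Matrix.ToLinearEquiv
import Mathlib.LinearAlgebra.Matrix.Adjugate
import Mathlib.Algebra.Module.Projective
import Mathlib.Algebra.Module.Torsion.Free
import Mathlib.RingTheory.Noetherian.Basic
-- import your own Groth.Agent.* helpers here

set_option autoImplicit false
open Models

namespace Groth.Agent.S3351

/-- Functionals on a saturated submodule of a finite free `ℤ`-module extend. -/
theorem ext_of_saturated {L : Type} [AddCommGroup L] [Module.Finite ℤ L] [Module.Free ℤ L]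
    (S : Submodule ℤ L) (hS : ∀ (c : ℤ) (x : L), c ≠ 0 → c • x ∈ S → x ∈ S)
    (ψ : Module.Dual ℤ ↥S) : ∃ φ : Module.Dual ℤ L, φ ∘ₗ S.subtype = ψ := by
  have : Module.IsTorsionFree ℤ (L ⧸ S) := by
    apply Module.IsTorsionFree.of_smul_eq_zero
    intro r m hm
    induction m using Submodule.Quotient.induction_on with
    | H x =>
      by_cases hr : r = 0
      · exact Or.inl hr
      · right
        rw [← Submodule.Quotient.mk_smul, Submodule.Quotient.mk_eq_zero] at hm
        rw [Submodule.Quotient.mk_eq_zero]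
        exact hS r x hr hm
  have : Module.Free ℤ (L ⧸ S) := Module.free_of_finite_type_torsion_free'
  obtain ⟨g, hg⟩ := S.mkQ.exists_rightInverse_of_surjective S.range_mkQ
  let pr : L →ₗ[ℤ] L := LinearMap.id - g ∘ₗ S.mkQ
  have hmem : ∀ x : L, pr x ∈ S := by
    intro x
    show (LinearMap.id - g ∘ₗ S.mkQ : L →ₗ[ℤ] L) x ∈ S
    rw [← Submodule.Quotient.mk_eq_zero]
    have h1 : S.mkQ (g (S.mkQ x)) = S.mkQ x := by
      have := congrArg (fun f => f (S.mkQ x)) hg
      simpa using this
    simp only [LinearMap.sub_apply, LinearMap.id_coe, id_eq, LinearMap.coe_comp,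
      Function.comp_apply, Submodule.Quotient.mk_sub]
    rw [← Submodule.mkQ_apply, ← Submodule.mkQ_apply, h1, sub_self]
  let r : L →ₗ[ℤ] ↥S := LinearMap.codRestrict S pr hmem
  refine ⟨ψ ∘ₗ r, ?_⟩
  ext s
  have hs : r (S.subtype s) = s := by
    apply Subtype.ext
    simp only [r, pr, LinearMap.codRestrict_apply, LinearMap.sub_apply, LinearMap.id_coe, id_eq,
      LinearMap.coe_comp, Function.comp_apply, Submodule.subtype_apply]
    have : S.mkQ (s : L) = 0 := by
      rw [Submodule.mkQ_apply, Submodule.Quotient.mk_eq_zero]; exact s.2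
    rw [this, map_zero, sub_zero]
  simp only [LinearMap.coe_comp, Function.comp_apply]
  rw [hs]

/-- Gram determinant argument: a nonzero multiple of every functional `B(-, x)` on `A`
is represented by an element of `A`. -/
theorem gram {L : Type} [AddCommGroup L] [Module.Finite ℤ L] [Module.Free ℤ L]
    (B : LinearMap.BilinForm ℤ L) (hpos : ∀ x, x ≠ 0 → 0 < B x x) (A : Submodule ℤ L) :
    ∃ d : ℤ, d ≠ 0 ∧ ∀ x : L, ∃ a ∈ A, ∀ a' ∈ A, B a' (d • x) = B a' a := by
  classical
  have : IsNoetherian ℤ L := isNoetherian_of_isNoetherianRing_of_finite ℤ L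
  have : Module.Finite ℤ ↥A := Module.IsNoetherian.finite ℤ ↥A
  have : Module.Free ℤ ↥A := inferInstance
  let ι := Module.Free.ChooseBasisIndex ℤ ↥A
  let b : Module.Basis ι ℤ ↥A := Module.Free.chooseBasis ℤ ↥A
  let G : Matrix ι ι ℤ := fun i j => B (b i : L) (b j : L)
  have hG : ∀ (v : ι → ℤ) (i : ι), (G.mulVec v) i = B (b i : L) ((∑ j, v j • b j : ↥A) : L) := by
    intro v i
    simp only [Matrix.mulVec, dotProduct, G, Submodule.coe_sum, Submodule.coe_smul, map_sum,
      map_smul, smul_eq_mul]
    exact Finset.sum_congr rfl fun j _ => mul_comm _ _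
  have hdet : G.det ≠ 0 := by
    intro h0
    obtain ⟨v, hv, hv0⟩ := Matrix.exists_mulVec_eq_zero_iff.mpr h0
    set a : ↥A := ∑ j, v j • b j with ha
    have ha0 : a ≠ 0 := by
      intro h
      apply hv
      have := (Fintype.linearIndependent_iff.mp b.linearIndependent) v (by rw [← ha, h])
      exact funext this
    have h1 : ∀ i, B (b i : L) (a : L) = 0 := by
      intro i
      rw [← hG v i, hv0]; rfl
    have h2 : B (a : L) (a : L) = 0 := by
      conv_lhs => arg 1; rw [ha]
      simp only [Submodule.coe_sum, Submodule.coe_smul, map_sum, map_smul,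
        LinearMap.sum_apply, LinearMap.smul_apply, h1, smul_zero, Finset.sum_const_zero]
    have h3 : (a : L) ≠ 0 := fun h => ha0 (Subtype.ext h)
    exact absurd h2 (hpos _ h3).ne'
  refine ⟨G.det, hdet, fun x => ?_⟩
  let v : ι → ℤ := fun i => B (b i : L) x
  let c : ι → ℤ := G.adjugate.mulVec v
  refine ⟨((∑ j, c j • b j : ↥A) : L), (∑ j, c j • b j : ↥A).2, ?_⟩
  have hb : ∀ i, B (b i : L) (G.det • x) = B (b i : L) ((∑ j, c j • b j : ↥A) : L) := by
    intro i
    rw [← hG c i]
    simp only [c, Matrix.mulVec_mulVec, Matrix.mul_adjugate, Matrix.smul_mulVec,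
      Matrix.one_mulVec, map_smul, Pi.smul_apply, v]
  intro a' ha'
  have hlin : (B.flip (G.det • x)).domRestrict A =
      (B.flip ((∑ j, c j • b j : ↥A) : L)).domRestrict A := by
    apply b.ext
    intro i
    simp only [LinearMap.domRestrict_apply, LinearMap.flip_apply]
    exact hb i
  have := congrArg (fun f => f ⟨a', ha'⟩) hlin
  simpa [LinearMap.domRestrict_apply, LinearMap.flip_apply] using this


/-- Let L be a finite free Z-module with a positive definite symmetric integral bilinear form, A ⊆ L a
submodule with L/A torsion free and B the orthogonal complement of A. Write M^# for the dual lattice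
of a sublattice M, identified here with the Z-dual Hom(M, Z) through the form. Then the natural maps
L/(A ⊕ B) → B^#/B and L/(A ⊕ B) → A^#/A are injective: an element x of L whose functional ⟨x, -⟩ on
B (resp. on A) is represented by an element of B (resp. of A) lies in A ⊕ B. Moreover the
restriction maps L^# → B^# and L^# → A^# are surjective, so that the cokernels of the two injections
are quotients of L^#/L. -/
theorem result {L : Type} [AddCommGroup L] [Module.Finite ℤ L] [Module.Free ℤ L]
    (B : LinearMap.BilinForm ℤ L) (hsymm : B.IsSymm) (hpos : ∀ x, x ≠ 0 → 0 < B x x)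
    (A : Submodule ℤ L) (htf : ∀ (c : ℤ) (x : L), c ≠ 0 → c • x ∈ A → x ∈ A) :
    (∀ x : L, (∃ b ∈ B.orthogonal A, ∀ b' ∈ B.orthogonal A, B x b' = B b b') → x ∈ A ⊔ B.orthogonal A) ∧
      (∀ x : L, (∃ a ∈ A, ∀ a' ∈ A, B x a' = B a a') → x ∈ A ⊔ B.orthogonal A) ∧
      (∀ ψ : Module.Dual ℤ ↥(B.orthogonal A), ∃ φ : Module.Dual ℤ L, φ ∘ₗ (B.orthogonal A).subtype = ψ) ∧
      (∀ ψ : Module.Dual ℤ ↥A, ∃ φ : Module.Dual ℤ L, φ ∘ₗ A.subtype = ψ) := by
  have hB : ∀ x y, B x y = B y x := hsymm.eq
  refine ⟨?_, ?_, ?_, ?_⟩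
  · rintro x ⟨b, hb, hxb⟩
    obtain ⟨d, hd, hgram⟩ := gram B hpos A
    set y := x - b with hy
    have hyperp : ∀ n ∈ B.orthogonal A, B n y = 0 := by
      intro n hn
      rw [hy, map_sub, hB n x, hB n b, hxb n hn, sub_self]
    obtain ⟨a, ha, haa⟩ := hgram y
    set z := d • y - a with hz
    have hz1 : z ∈ B.orthogonal A := by
      rw [LinearMap.BilinForm.mem_orthogonal_iff]
      intro a' ha'
      rw [hz, map_sub, haa a' ha', sub_self]
    have hz2 : B z z = 0 := by
      have h1 : B z (d • y) = 0 := by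
        rw [map_smul, hyperp z hz1, smul_zero]
      have h2 : B z a = 0 := by
        rw [hB z a]
        exact (LinearMap.BilinForm.mem_orthogonal_iff.mp hz1) a ha
      conv_lhs => arg 2; rw [hz]
      rw [map_sub, h1, h2, sub_self]
    have hz0 : z = 0 := by
      by_contra h
      exact absurd hz2 (hpos z h).ne'
    have hdy : d • y ∈ A := by
      have : d • y = a := by rw [← sub_eq_zero, ← hz, hz0]
      rw [this]; exact ha
    have hyA : y ∈ A := htf d y hd hdy
    have : x = y + b := by rw [hy]; abel
    rw [this]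
    exact Submodule.add_mem_sup hyA hb
  · rintro x ⟨a, ha, hxa⟩
    have h1 : x - a ∈ B.orthogonal A := by
      rw [LinearMap.BilinForm.mem_orthogonal_iff]
      intro a' ha'
      rw [map_sub, hB a' x, hB a' a, hxa a' ha', sub_self]
    have : x = a + (x - a) := by abel
    rw [this]
    exact Submodule.add_mem_sup ha h1
  · intro ψ
    apply ext_of_saturated (B.orthogonal A) _ ψ
    intro c x hc hcx
    rw [LinearMap.BilinForm.mem_orthogonal_iff] at hcx ⊢
    intro a ha
    have := hcx a ha
    rw [map_smul, smul_eq_mul] at this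
    rcases mul_eq_zero.mp this with h | h
    · exact absurd h hc
    · exact h
  · intro ψ
    exact ext_of_saturated A htf ψ

end Groth.Agent.S3351
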