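import Groth.Statements.S3352
import Mathlib

set_option autoImplicit false
open Models

namespace Groth.Agent.S3352


/-- Gram determinant argument for arbitrary functionals on a positive definite lattice. -/
theorem gram_dual {L : Type} [AddCommGroup L] [Module.Finite ℤ L] [Module.Free ℤ L]
    (B : LinearMap.BilinForm ℤ L) (hpos : ∀ x, x ≠ 0 → 0 < B x x) :
    ∃ D : ℤ, D ≠ 0 ∧ ∀ ψ : Module.Dual ℤ L, ∃ a : L, ∀ a' : L, D * ψ a' = B a' a := by
  classical
  let ι := Module.Free.ChooseBasisIndex ℤ L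
  let b : Module.Basis ι ℤ L := Module.Free.chooseBasis ℤ L
  let G : Matrix ι ι ℤ := fun i j => B (b i) (b j)
  have hG : ∀ (v : ι → ℤ) (i : ι), (G.mulVec v) i = B (b i) (∑ j, v j • b j) := by
    intro v i
    simp only [Matrix.mulVec, dotProduct, G, map_sum, map_smul, smul_eq_mul]
    exact Finset.sum_congr rfl fun j _ => mul_comm _ _
  have hdet : G.det ≠ 0 := by
    intro h0
    obtain ⟨v, hv, hv0⟩ := Matrix.exists_mulVec_eq_zero_iff.mpr h0
    set a : L := ∑ j, v j • b j with ha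
    have ha0 : a ≠ 0 := by
      intro h
      apply hv
      have := (Fintype.linearIndependent_iff.mp b.linearIndependent) v (by rw [← ha, h])
      exact funext this
    have h1 : ∀ i, B (b i) a = 0 := by
      intro i
      rw [← hG v i, hv0]; rfl
    have h2 : B a a = 0 := by
      conv_lhs => arg 1; rw [ha]
      simp only [map_sum, map_smul, LinearMap.sum_apply, LinearMap.smul_apply, h1, smul_zero,
        Finset.sum_const_zero]
    exact absurd h2 (hpos _ ha0).ne'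
  refine ⟨G.det, hdet, fun ψ => ?_⟩
  let v : ι → ℤ := fun i => ψ (b i)
  let c : ι → ℤ := G.adjugate.mulVec v
  refine ⟨∑ j, c j • b j, ?_⟩
  have hb : ∀ i, G.det * ψ (b i) = B (b i) (∑ j, c j • b j) := by
    intro i
    rw [← hG c i]
    simp only [c, Matrix.mulVec_mulVec, Matrix.mul_adjugate, Matrix.smul_mulVec,
      Matrix.one_mulVec, Pi.smul_apply, v, smul_eq_mul]
  intro a'
  have hlin : G.det • ψ = B.flip (∑ j, c j • b j) := by
    apply b.ext
    intro i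
    simp only [LinearMap.smul_apply, smul_eq_mul, LinearMap.flip_apply]
    exact hb i
  have := congrArg (fun f => f a') hlin
  simpa using this

/-- Let L₀, L₁ be finite free ℤ-modules with positive definite symmetric integral bilinear forms, the
form on L₀ unimodular (x ↦ ⟨x, −⟩ is a bijection L₀ → Hom(L₀, ℤ)), and let d : L₀ → L₁ and d* : L₁ →
L₀ be adjoint. Identify Im(d)^# (the dual lattice of Im(d)) with Hom(Im(d), ℤ) through the form on
L₁. Then there is an isomorphism Φ from the torsion subgroup of Coker(d* d) onto Im(d)^#/Im(d),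
determined by: for x ∈ L₀ whose class is torsion, Φ[x] is the class of the functional d(y') ↦ ⟨x,
y'⟩ (equivalently the class of (1/a)·d(y) when a·x = d* d(y)). -/
theorem result {L₀ L₁ : Type} [AddCommGroup L₀] [AddCommGroup L₁]
    [Module.Finite ℤ L₀] [Module.Free ℤ L₀] [Module.Finite ℤ L₁] [Module.Free ℤ L₁]
    (B₀ : LinearMap.BilinForm ℤ L₀) (B₁ : LinearMap.BilinForm ℤ L₁) (h₀s : B₀.IsSymm) (h₁s : B₁.IsSymm)
    (h₀p : ∀ x, x ≠ 0 → 0 < B₀ x x) (h₁p : ∀ x, x ≠ 0 → 0 < B₁ x x) (huni : Function.Bijective B₀)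
    (d : L₀ →ₗ[ℤ] L₁) (ds : L₁ →ₗ[ℤ] L₀) (hadj : ∀ x y, B₁ (d x) y = B₀ x (ds y)) :
    ∃ Φ : ↥(Submodule.torsion ℤ (L₀ ⧸ LinearMap.range (ds ∘ₗ d))) ≃ₗ[ℤ]
        (Module.Dual ℤ ↥(LinearMap.range d) ⧸
          LinearMap.range ((B₁.compl₂ (LinearMap.range d).subtype) ∘ₗ (LinearMap.range d).subtype)),
      ∀ (x : L₀) (hx : Submodule.Quotient.mk x ∈ Submodule.torsion ℤ (L₀ ⧸ LinearMap.range (ds ∘ₗ d)))
        (ψ : Module.Dual ℤ ↥(LinearMap.range d)),
        (∀ y' : L₀, ψ ⟨d y', LinearMap.mem_range_self d y'⟩ = B₀ x y') →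
          Φ ⟨Submodule.Quotient.mk x, hx⟩ = Submodule.Quotient.mk ψ := by
  classical
  have hB₀ : ∀ x y, B₀ x y = B₀ y x := h₀s.eq
  have hB₁ : ∀ x y, B₁ x y = B₁ y x := h₁s.eq
  have hID : ∀ z y', B₁ (d z) (d y') = B₀ ((ds ∘ₗ d) z) y' := by
    intro z y'
    rw [hB₁, hadj y' (d z), hB₀]
    rfl
  have hinj : ∀ x x' : L₀, (∀ y', B₀ x y' = B₀ x' y') → x = x' :=
    fun x x' h => huni.1 (LinearMap.ext h)
  let e : L₀ ≃ₗ[ℤ] Module.Dual ℤ L₀ := LinearEquiv.ofBijective B₀ huni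
  let Θ₀ : Module.Dual ℤ ↥(LinearMap.range d) →ₗ[ℤ] L₀ :=
    e.symm.toLinearMap ∘ₗ d.rangeRestrict.dualMap
  have hΘ₀ : ∀ (ψ : Module.Dual ℤ ↥(LinearMap.range d)) (y' : L₀),
      B₀ (Θ₀ ψ) y' = ψ (d.rangeRestrict y') := by
    intro ψ y'
    have h1 : e (Θ₀ ψ) = d.rangeRestrict.dualMap ψ := e.apply_symm_apply _
    have h2 := congrArg (fun f : Module.Dual ℤ L₀ => f y') h1
    simpa [e] using h2
  haveI : IsNoetherian ℤ L₁ := isNoetherian_of_isNoetherianRing_of_finite ℤ L₁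
  haveI : Module.Finite ℤ ↥(LinearMap.range d) := Module.IsNoetherian.finite ℤ _
  haveI : Module.Free ℤ ↥(LinearMap.range d) := inferInstance
  let BR : LinearMap.BilinForm ℤ ↥(LinearMap.range d) :=
    B₁.compl₁₂ (LinearMap.range d).subtype (LinearMap.range d).subtype
  have hBR : ∀ r r' : ↥(LinearMap.range d), BR r r' = B₁ r r' := fun r r' => rfl
  obtain ⟨D, hD, hgram⟩ := gram_dual BR (fun r hr => by
    rw [hBR]
    exact h₁p _ (fun h => hr (Subtype.ext h)))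
  have htors : ∀ ψ : Module.Dual ℤ ↥(LinearMap.range d),
      ((LinearMap.range (ds ∘ₗ d)).mkQ ∘ₗ Θ₀) ψ ∈
        Submodule.torsion ℤ (L₀ ⧸ LinearMap.range (ds ∘ₗ d)) := by
    intro ψ
    obtain ⟨r, hr⟩ := hgram ψ
    obtain ⟨z, hz⟩ := r.2
    have hDx : D • Θ₀ ψ = (ds ∘ₗ d) z := by
      apply hinj
      intro y'
      calc B₀ (D • Θ₀ ψ) y' = D * B₀ (Θ₀ ψ) y' := by
            rw [map_smul, LinearMap.smul_apply, smul_eq_mul]
        _ = D * ψ (d.rangeRestrict y') := by rw [hΘ₀]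
        _ = BR (d.rangeRestrict y') r := hr (d.rangeRestrict y')
        _ = B₁ (d y') (d z) := by rw [hBR, ← hz]; rfl
        _ = B₀ ((ds ∘ₗ d) z) y' := by rw [hB₁, hID]
    rw [Submodule.mem_torsion_iff]
    refine ⟨⟨D, mem_nonZeroDivisors_of_ne_zero hD⟩, ?_⟩
    show D • (Submodule.Quotient.mk (Θ₀ ψ) : L₀ ⧸ LinearMap.range (ds ∘ₗ d)) = 0
    rw [← Submodule.Quotient.mk_smul, hDx, Submodule.Quotient.mk_eq_zero]
    exact LinearMap.mem_range_self (ds ∘ₗ d) z
  let Θ' : Module.Dual ℤ ↥(LinearMap.range d) →ₗ[ℤ]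
      ↥(Submodule.torsion ℤ (L₀ ⧸ LinearMap.range (ds ∘ₗ d))) :=
    LinearMap.codRestrict _ ((LinearMap.range (ds ∘ₗ d)).mkQ ∘ₗ Θ₀) htors
  have hΘ' : ∀ ψ, ((Θ' ψ : ↥(Submodule.torsion ℤ (L₀ ⧸ LinearMap.range (ds ∘ₗ d)))) :
      L₀ ⧸ LinearMap.range (ds ∘ₗ d)) = Submodule.Quotient.mk (Θ₀ ψ) := fun ψ => rfl
  let ιR : ↥(LinearMap.range d) →ₗ[ℤ] Module.Dual ℤ ↥(LinearMap.range d) :=
    (B₁.compl₂ (LinearMap.range d).subtype) ∘ₗ (LinearMap.range d).subtype
  have hιR : ∀ r r' : ↥(LinearMap.range d), ιR r r' = B₁ r r' := fun r r' => rfl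
  have hker : LinearMap.range ιR = LinearMap.ker Θ' := by
    ext ψ
    rw [LinearMap.mem_ker]
    constructor
    · rintro ⟨r, rfl⟩
      obtain ⟨z, hz⟩ := r.2
      apply Subtype.ext
      rw [hΘ']
      show (Submodule.Quotient.mk (Θ₀ (ιR r)) : L₀ ⧸ LinearMap.range (ds ∘ₗ d)) = 0
      rw [Submodule.Quotient.mk_eq_zero]
      refine ⟨z, ?_⟩
      apply hinj
      intro y'
      rw [hΘ₀, hιR, ← hz, ← hID]
      rfl
    · intro h
      have h1 : (Submodule.Quotient.mk (Θ₀ ψ) : L₀ ⧸ LinearMap.range (ds ∘ₗ d)) = 0 := by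
        rw [← hΘ', h]
        rfl
      rw [Submodule.Quotient.mk_eq_zero] at h1
      obtain ⟨z, hz⟩ := h1
      refine ⟨d.rangeRestrict z, ?_⟩
      apply LinearMap.ext
      rintro ⟨_, y', rfl⟩
      have h2 : ψ (d.rangeRestrict y') = B₀ ((ds ∘ₗ d) z) y' := by rw [hz, hΘ₀]
      show ιR (d.rangeRestrict z) (d.rangeRestrict y') = ψ (d.rangeRestrict y')
      rw [h2, hιR, ← hID]
      rfl
  have hsurj : Function.Surjective Θ' := by
    rintro ⟨t, ht⟩
    obtain ⟨x, rfl⟩ := Submodule.Quotient.mk_surjective _ t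
    have ht' := ht
    rw [Submodule.mem_torsion_iff] at ht'
    obtain ⟨⟨a, ha⟩, hax⟩ := ht'
    have ha0 : a ≠ 0 := nonZeroDivisors.ne_zero ha
    have hax' : a • x ∈ LinearMap.range (ds ∘ₗ d) := by
      rw [← Submodule.Quotient.mk_eq_zero, Submodule.Quotient.mk_smul]
      exact hax
    obtain ⟨z, hz⟩ := hax'
    have hvan : LinearMap.ker d ≤ LinearMap.ker (B₀ x) := by
      intro y' hy'
      rw [LinearMap.mem_ker] at hy' ⊢
      have h1 : a * B₀ x y' = 0 := by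
        calc a * B₀ x y' = B₀ (a • x) y' := by
              rw [map_smul, LinearMap.smul_apply, smul_eq_mul]
          _ = B₀ ((ds ∘ₗ d) z) y' := by rw [hz]
          _ = B₁ (d z) (d y') := (hID z y').symm
          _ = 0 := by rw [hy', map_zero]
      exact (mul_eq_zero.mp h1).resolve_left ha0
    let ψ : Module.Dual ℤ ↥(LinearMap.range d) :=
      (Submodule.liftQ (LinearMap.ker d) (B₀ x) hvan) ∘ₗ d.quotKerEquivRange.symm.toLinearMap
    have hψ : ∀ y', ψ (d.rangeRestrict y') = B₀ x y' := by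
      intro y'
      show Submodule.liftQ (LinearMap.ker d) (B₀ x) hvan
        (d.quotKerEquivRange.symm (d.rangeRestrict y')) = B₀ x y'
      have h3 : d.quotKerEquivRange.symm (d.rangeRestrict y') = (LinearMap.ker d).mkQ y' :=
        d.quotKerEquivRange_symm_apply_image y' _
      rw [h3]
      rfl
    refine ⟨ψ, Subtype.ext ?_⟩
    rw [hΘ']
    show (Submodule.Quotient.mk (Θ₀ ψ) : L₀ ⧸ LinearMap.range (ds ∘ₗ d)) = Submodule.Quotient.mk x
    congr 1
    apply hinj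
    intro y'
    rw [hΘ₀, hψ]
  let E : (Module.Dual ℤ ↥(LinearMap.range d) ⧸ LinearMap.range ιR) ≃ₗ[ℤ]
      ↥(Submodule.torsion ℤ (L₀ ⧸ LinearMap.range (ds ∘ₗ d))) :=
    (Submodule.quotEquivOfEq _ _ hker).trans (Θ'.quotKerEquivOfSurjective hsurj)
  have hE : ∀ ψ, E (Submodule.Quotient.mk ψ) = Θ' ψ := fun ψ => rfl
  refine ⟨E.symm, ?_⟩
  intro x hx ψ hψ
  rw [LinearEquiv.symm_apply_eq, hE]
  apply Subtype.ext
  rw [hΘ']
  show (Submodule.Quotient.mk x : L₀ ⧸ LinearMap.range (ds ∘ₗ d)) = Submodule.Quotient.mk (Θ₀ ψ)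
  congr 1
  apply hinj
  intro y'
  rw [hΘ₀]
  exact (hψ y').symm

end Groth.Agent.S3352
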