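import Groth.Statements.S3389
import Groth.Agent.H9.FibDimTarget

set_option linter.style.haveILetI false

set_option autoImplicit false
open CategoryTheory AlgebraicGeometry
universe u
open EGA43

namespace Groth.Agent.S3389


open AlgebraicGeometry CategoryTheory TopologicalSpace Groth.Agent.H9.FibDim

/-- locally on the source the fibre dimension is bounded. -/
theorem exists_nhd_bound {X Y : Scheme.{u}} (f : X ⟶ Y) [LocallyOfFiniteType f] (x : X) :
    ∃ U : X.Opens, x ∈ U ∧ ∃ r : ℕ, ∀ x' ∈ U, FlatMor.fibreDimAt f x' ≤ (r : WithBot ℕ∞) := by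
  obtain ⟨V, hV, hxV, -⟩ :=
    exists_isAffineOpen_mem_and_subset (X := Y) (x := f.base x) (U := ⊤) trivial
  obtain ⟨U, hU, hxU, e⟩ :=
    exists_isAffineOpen_mem_and_subset (X := X) (x := x) (U := f ⁻¹ᵁ V) hxV
  refine ⟨U, hxU, ?_⟩
  letI : Algebra Γ(Y, V) Γ(X, U) := (f.appLE V U e).hom.toAlgebra
  haveI : Algebra.FiniteType Γ(Y, V) Γ(X, U) := f.finiteType_appLE hV hU e
  obtain ⟨r, φ, hφ⟩ := Algebra.FiniteType.iff_quotient_mvPolynomial''.mp
    (inferInstance : Algebra.FiniteType Γ(Y, V) Γ(X, U))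
  refine ⟨r, fun x' hx' => ?_⟩
  have hx'' : x' ∈ Set.range hU.fromSpec.base := by
    rw [hU.range_fromSpec]; exact hx'
  obtain ⟨q, rfl⟩ := hx''
  rw [fibreDimAt_fromSpec f hU hV e q]
  exact tfd_le_of_quasiFinite r φ (RingHom.QuasiFinite.of_finite (RingHom.Finite.of_surjective _ hφ)) q

theorem result' {X Y : Scheme.{u}} [CompactSpace Y] (f : X ⟶ Y)
    [LocallyOfFiniteType f] [QuasiCompact f] :
    ∃ n : ℕ, ∀ y : Y, topologicalKrullDim ↥(f.fiber y) ≤ n := by
  haveI : CompactSpace X := QuasiCompact.compactSpace_of_compactSpace f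
  choose U hxU r hr using exists_nhd_bound f
  obtain ⟨t, ht⟩ := isCompact_univ.elim_finite_subcover (fun x => (U x : Set X))
    (fun x => (U x).2) (fun x _ => Set.mem_iUnion.mpr ⟨x, hxU x⟩)
  refine ⟨t.sup r, fun y => ?_⟩
  rw [dim_fiber_le_iff]
  intro x _
  obtain ⟨i, hi⟩ := Set.mem_iUnion.mp (ht (Set.mem_univ x))
  obtain ⟨hit, hxi⟩ := Set.mem_iUnion.mp hi
  refine (hr i x hxi).trans ?_
  exact_mod_cast Finset.le_sup hit


/-- Let Y be a quasi-compact scheme and f : X ⟶ Y a morphism of finite type. Then there is a natural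
number n bounding the dimension of every fibre of f. -/
theorem result {X Y : Scheme.{u}} [CompactSpace Y] (f : X ⟶ Y)
    [LocallyOfFiniteType f] [QuasiCompact f] :
    ∃ n : ℕ, ∀ y : Y, topologicalKrullDim ↥(f.fiber y) ≤ n := by
  exact result' f

end Groth.Agent.S3389
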