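import Groth.Statements.S3390
import Groth.Agent.H9.FibreFormula
import Groth.Agent.H9.FibDimGeneric
import Groth.Agent.S9687

set_option linter.style.haveILetI false

set_option autoImplicit false
open CategoryTheory AlgebraicGeometry
universe u
open EGA43

namespace Groth.Agent.S3390

open AlgebraicGeometry CategoryTheory Groth.Agent.H9.FibreFormula Groth.Agent.H9.FibDim

/-- A Noetherian local ring has finite natural Krull dimension. -/
theorem exists_ringKrullDim_eq_nat (R : Type*) [CommRing R] [IsNoetherianRing R] [IsLocalRing R] :
    ∃ m : ℕ, ringKrullDim R = (m : WithBot ℕ∞) := by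
  have h1 : ringKrullDim R ≠ ⊤ := ringKrullDim_ne_top
  have h2 : ringKrullDim R ≠ ⊥ := ringKrullDim_ne_bot
  induction h : ringKrullDim R using WithBot.recBotCoe with
  | bot => exact absurd h h2
  | coe d =>
    induction d using ENat.recTopCoe with
    | top => exact absurd h h1
    | coe m => exact ⟨m, rfl⟩

/-- In an irreducible scheme, the only generic point of an irreducible component is the generic
point. -/
theorem eq_genericPoint {X : Scheme.{u}} [IrreducibleSpace X] (ξ : X)
    (hξ : closure {ξ} ∈ irreducibleComponents ↥X) : ξ = genericPoint X := by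
  rw [irreducibleComponents_eq_singleton, Set.mem_singleton_iff] at hξ
  have h : IsGenericPoint ξ Set.univ := hξ
  exact h.eq (genericPoint_spec X)

theorem map_genericPoint {X Y : Scheme.{u}} [IrreducibleSpace X] [IrreducibleSpace Y]
    (f : X ⟶ Y) [IsDominant f] : f.base (genericPoint X) = genericPoint Y := by
  have h1 : IsGenericPoint (f.base (genericPoint X)) (closure (f.base '' Set.univ)) :=
    (genericPoint_spec X).image f.continuous
  rw [Set.image_univ, f.denseRange.closure_range] at h1
  exact h1.eq (genericPoint_spec Y)

/-- The transcendence degree of the function field extension is at most the dimension of the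
generic fibre. -/
theorem trdeg_generic_le {X Y : Scheme.{u}} [IrreducibleSpace X] [IrreducibleSpace Y]
    (f : X ⟶ Y) [LocallyOfFiniteType f] [IsDominant f] (E : ℕ)
    (hE : @Algebra.trdeg (Y.residueField (f.base (genericPoint X)))
      (X.residueField (genericPoint X)) _ _
        (f.residueFieldMap (genericPoint X)).hom.toAlgebra = (E : Cardinal.{u})) :
    ((E : ℕ) : WithBot ℕ∞) ≤ topologicalKrullDim ↥(f.fiber (genericPoint Y)) := by
  obtain ⟨E', b', hE', hb', hfd'⟩ := fibre_formula f (genericPoint X)
  have hEE : E' = E := by
    have : (E' : Cardinal.{u}) = (E : Cardinal.{u}) := hE'.symm.trans hE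
    exact_mod_cast this
  subst hEE
  have h4 : FlatMor.fibreDimAt f (genericPoint X) ≤
      topologicalKrullDim (f.fiber (f.base (genericPoint X))) := localDim_le_dim _ _
  rw [hfd', map_genericPoint f] at h4
  exact le_trans (by exact_mod_cast Nat.le_add_right E' b') h4

theorem result' {X Y : Scheme.{u}} [IrreducibleSpace X] [IrreducibleSpace Y]
    [IsLocallyNoetherian Y] (f : X ⟶ Y) [LocallyOfFiniteType f] [IsDominant f] (x : X)
    (h : ringKrullDim (X.presheaf.stalk x) =
        ringKrullDim (Y.presheaf.stalk (f.base x)) +
          ringKrullDim ((f.fiber (f.base x)).presheaf.stalk (f.asFiber x))) :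
    FlatMor.fibreDimAt f x = topologicalKrullDim ↥(f.fiber (genericPoint Y)) := by
  apply le_antisymm
  · obtain ⟨n, b, hn, hb, hfd⟩ := fibre_formula f x
    obtain ⟨E, hE⟩ := Groth.Agent.H9.DimFormulaScheme.exists_trdeg_eq_nat f (genericPoint X)
    have h1 := Groth.Agent.S9687.result f x n E hn (fun ξ' hξ' _ => by
      have := eq_genericPoint ξ' hξ'
      subst this
      exact hE.le)
    obtain ⟨m, hm⟩ := exists_ringKrullDim_eq_nat (Y.presheaf.stalk (f.base x))
    rw [h, hm, hb] at h1
    have h2 : m + b + n ≤ m + E := by exact_mod_cast h1
    have h3 := trdeg_generic_le f E hE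
    rw [hfd]
    refine le_trans ?_ h3
    have : n + b ≤ E := by omega
    exact_mod_cast this
  · exact dim_generic_fiber_le_fibreDimAt f x


/-- Let Y be an irreducible locally Noetherian scheme with generic point η and X an irreducible scheme,
and let f : X ⟶ Y be dominant and locally of finite type. Take a point x of X and write y = f x.
Suppose dim O_{X,x} = dim O_{Y,y} + dim O_{X_y,x}. Then the local dimension of the fibre X_y at x
(FlatMor.fibreDimAt f x) equals the dimension of the generic fibre X_η (i.e. f is equidimensional at
x). -/
theorem result {X Y : Scheme.{u}} [IrreducibleSpace X] [IrreducibleSpace Y]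
    [IsLocallyNoetherian Y] (f : X ⟶ Y) [LocallyOfFiniteType f] [IsDominant f] (x : X)
    (h : ringKrullDim (X.presheaf.stalk x) =
        ringKrullDim (Y.presheaf.stalk (f.base x)) + ringKrullDim ((f.fiber (f.base x)).presheaf.stalk (f.asFiber x))) :
    FlatMor.fibreDimAt f x = topologicalKrullDim ↥(f.fiber (genericPoint Y)) := by
  exact result' f x h

end Groth.Agent.S3390
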