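import Groth.Statements.S3391
import Groth.Agent.H9.DimFormulaEq

set_option linter.style.haveILetI false

set_option autoImplicit false
open CategoryTheory AlgebraicGeometry
universe u
open EGA43

namespace Groth.Agent.S3391

open AlgebraicGeometry CategoryTheory Groth.Agent.H9.FibreFormula Groth.Agent.H9.FibDim
  Groth.Agent.H9.DimFormulaEq Groth.Agent.H9.DimFormulaScheme

theorem result' {X Y : Scheme.{u}} [IrreducibleSpace X] [IrreducibleSpace Y]
    [IsLocallyNoetherian Y] (f : X ⟶ Y) [LocallyOfFiniteType f] [IsDominant f] (x : X)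
    (hcat : CAlg.IsUniversallyCatenary (Y.presheaf.stalk (f.base x)))
    (h : FlatMor.fibreDimAt f x = topologicalKrullDim ↥(f.fiber (genericPoint Y))) :
    ringKrullDim (X.presheaf.stalk x) =
        ringKrullDim (Y.presheaf.stalk (f.base x)) +
          ringKrullDim ((f.fiber (f.base x)).presheaf.stalk (f.asFiber x)) := by
  obtain ⟨n, b, hn, hb, hfd⟩ := fibre_formula f x
  obtain ⟨E, hE⟩ := exists_trdeg_eq_nat f (genericPoint X)
  obtain ⟨hG, -⟩ := dim_generic_fiber_eq f E hE
  have heq := stalk_add_trdeg_eq f x hcat n E hn hE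
  rw [hfd, hG] at h
  have hnbE : n + b = E := by exact_mod_cast h
  obtain ⟨m, hm⟩ := exists_ringKrullDim_eq_nat (Y.presheaf.stalk (f.base x))
  rw [hm, hb]
  rw [hm] at heq
  have : ringKrullDim (X.presheaf.stalk x) + (n : WithBot ℕ∞) =
      (((m + b) + n : ℕ) : WithBot ℕ∞) := by
    rw [heq, ← hnbE]
    push_cast
    ring
  have := withBot_add_nat_cancel _ (m + b) n this
  rw [this]
  push_cast
  rfl


/-- With X, Y, f, x, y as in the first assertion, suppose O_{Y,y} is universally catenary and the local
dimension at x of the fibre through x equals the dimension of the generic fibre. Then dim O_{X,x} =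
dim O_{Y,y} + dim O_{X_y,x}. -/
theorem result {X Y : Scheme.{u}} [IrreducibleSpace X] [IrreducibleSpace Y]
    [IsLocallyNoetherian Y] (f : X ⟶ Y) [LocallyOfFiniteType f] [IsDominant f] (x : X)
    (hcat : CAlg.IsUniversallyCatenary (Y.presheaf.stalk (f.base x)))
    (h : FlatMor.fibreDimAt f x = topologicalKrullDim ↥(f.fiber (genericPoint Y))) :
    ringKrullDim (X.presheaf.stalk x) =
        ringKrullDim (Y.presheaf.stalk (f.base x)) + ringKrullDim ((f.fiber (f.base x)).presheaf.stalk (f.asFiber x)) := by
  exact result' f x hcat h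

end Groth.Agent.S3391
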