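import Groth.Statements.S3393
import Mathlib
import Groth.Agent.H9.DimFormulaApp
import Groth.Agent.S1554
import Groth.Agent.S3447

set_option linter.style.haveILetI false

set_option autoImplicit false
open CategoryTheory AlgebraicGeometry
universe u
open EGA43

namespace Groth.Agent.S3393

open Groth.Agent.H54 Groth.Agent.H9.DimFormulaGen Groth.Agent.H9.DimFormulaApp
  Groth.Agent.H9.DimFormulaEq Groth.Agent.H9.FibreGeneric Groth.Agent.H71.DimFun
  Groth.Agent.H9.DimFormulaScheme

/-- (b) ⇒ (c) at a point. -/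
theorem b_to_c {X Y : Scheme.{u}} [IrreducibleSpace Y] [IsLocallyNoetherian Y]
    (f : X ⟶ Y) [LocallyOfFiniteType f] (z : X)
    (h0 : ringKrullDim ((f.fiber (f.base z)).presheaf.stalk (f.asFiber z)) = 0)
    (hb : ringKrullDim (X.presheaf.stalk z) = ringKrullDim (Y.presheaf.stalk (f.base z))) :
    ∃ X' ∈ irreducibleComponents (X : Type u), z ∈ X' ∧
      topologicalKrullDim ↥(X' ∩ f.base ⁻¹' {genericPoint Y}) = FlatMor.fibreDimAt f z := by
  haveI : IsLocallyNoetherian X := LocallyOfFiniteType.isLocallyNoetherian f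
  obtain ⟨v, hvmin, hv⟩ := exists_isMin_coheight_eq (R := X.presheaf.stalk z)
  have hξmax := generic_of_isMin X z v hvmin
  have hξz : X.fromSpecStalk z v ⤳ z := fromSpecStalk_specializes X z v
  obtain ⟨w, hw⟩ := exists_of_specializes Y (hξz.map f.continuous)
  obtain ⟨t, ht⟩ := exists_trdeg_eq_nat f z
  obtain ⟨E, hE⟩ := exists_trdeg_eq_nat f (X.fromSpecStalk z v)
  have hG := (coheight_add_trdeg_aux f z _ hξz t E ht hE v rfl w hw).1
  have hfz := fibreDimAt_eq_of_stalk_dim_zero f z h0 t ht
  have hfξ := fibreDimAt_eq_trdeg_of_forall f _ hξmax E hE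
  have hEt : E ≤ t := by
    have h1 := Groth.Agent.S1554.fibreDimAt_le_of_specializes f hξz
    rw [hfz, hfξ] at h1
    exact_mod_cast h1
  obtain ⟨d, hd⟩ := exists_ringKrullDim_eq_nat (Y.presheaf.stalk (f.base z))
  have hwle : ((Order.coheight w : ℕ∞) : WithBot ℕ∞) ≤ ringKrullDim (Y.presheaf.stalk (f.base z)) :=
    Order.coheight_le_krullDim w
  rw [hv, hb, hd] at hG
  rw [hd] at hwle
  obtain ⟨c, hc⟩ := exists_coheight_eq_nat w
  rw [hc] at hG hwle
  have hG' : d + t ≤ c + E := by exact_mod_cast hG
  have hcd : c ≤ d := by exact_mod_cast hwle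
  have hcd' : c = d := by omega
  have hEt' : E = t := by omega
  have hwmin : IsMin w := by
    apply isMin_of_coheight_eq
    rw [hc, hd, hcd']
    rfl
  have hfξη : f.base (X.fromSpecStalk z v) = genericPoint Y := by
    have h1 := generic_of_isMin Y (f.base z) w hwmin
    rw [hw] at h1
    exact (h1 _ ((genericPoint_spec Y).specializes (Set.mem_univ _))).symm
  refine ⟨closure {X.fromSpecStalk z v}, closure_mem_irreducibleComponents_of_forall hξmax,
    hξz.mem_closure, ?_⟩
  have h3 := dim_closure_inter_fibre f _ hξmax E hE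
  rw [hfξη] at h3
  rw [h3, hfz, hEt']

/-- (c) ⇒ (b) at a point, over a universally catenary local ring. -/
theorem c_to_b {X Y : Scheme.{u}} [IrreducibleSpace Y] [IsLocallyNoetherian Y]
    (f : X ⟶ Y) [LocallyOfFiniteType f] (z : X)
    (hcat : CAlg.IsUniversallyCatenary (Y.presheaf.stalk (f.base z)))
    (h0 : ringKrullDim ((f.fiber (f.base z)).presheaf.stalk (f.asFiber z)) = 0)
    (hc : ∃ X' ∈ irreducibleComponents (X : Type u), z ∈ X' ∧
      topologicalKrullDim ↥(X' ∩ f.base ⁻¹' {genericPoint Y}) = FlatMor.fibreDimAt f z) :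
    ringKrullDim (X.presheaf.stalk z) = ringKrullDim (Y.presheaf.stalk (f.base z)) := by
  haveI : IsLocallyNoetherian X := LocallyOfFiniteType.isLocallyNoetherian f
  obtain ⟨X', hX', hzX', hdim⟩ := hc
  have hX'cl : IsClosed X' := isClosed_of_mem_irreducibleComponents X' hX'
  have hgen : closure {hX'.1.genericPoint} = X' := hX'.1.closure_genericPoint hX'cl
  obtain ⟨ξ', hξ'⟩ : ∃ ξ' : X, ξ' = hX'.1.genericPoint := ⟨_, rfl⟩
  rw [← hξ'] at hgen
  have hξmax : ∀ t : X, t ⤳ ξ' → t = ξ' := by
    intro t ht
    have h1 : X' ⊆ closure {t} := by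
      rw [← hgen]
      exact closure_minimal (Set.singleton_subset_iff.mpr ht.mem_closure) isClosed_closure
    have h2 : closure {t} ≤ X' := hX'.2 isIrreducible_singleton.closure h1
    have h3 : closure {t} = closure {ξ'} := by
      rw [hgen]
      exact le_antisymm h2 h1
    exact (isGenericPoint_def.mpr h3).eq isGenericPoint_closure
  obtain ⟨t, ht⟩ := exists_trdeg_eq_nat f z
  have hfz := fibreDimAt_eq_of_stalk_dim_zero f z h0 t ht
  rw [hfz] at hdim
  -- the generic point of `X'` maps to the generic point of `Y`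
  have hfξη : f.base ξ' = genericPoint Y := by
    have h1 : ((t : ℕ) : WithBot ℕ∞) ≤ topologicalKrullDim ↥(X' ∩ f.base ⁻¹' {genericPoint Y}) := by
      rw [hdim]
    obtain ⟨l, -⟩ := Order.le_krullDim_iff.mp h1
    obtain ⟨a, -⟩ := l.head.isIrreducible.nonempty
    have ha1 : ξ' ⤳ a.1 := by
      rw [specializes_iff_mem_closure, hgen]
      exact a.2.1
    have ha2 : f.base a.1 = genericPoint Y := a.2.2
    have h2 : f.base ξ' ⤳ genericPoint Y := ha2 ▸ ha1.map f.continuous
    have h3 : genericPoint Y ⤳ f.base ξ' := (genericPoint_spec Y).specializes (Set.mem_univ _)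
    exact (h2.antisymm h3).eq
  obtain ⟨E, hE⟩ := exists_trdeg_eq_nat f ξ'
  have h3 := dim_closure_inter_fibre f ξ' hξmax E hE
  rw [hgen, hfξη, hdim] at h3
  have hEt : t = E := by exact_mod_cast h3
  have hξz : ξ' ⤳ z := by
    rw [specializes_iff_mem_closure, hgen]
    exact hzX'
  obtain ⟨v, hv⟩ := exists_of_specializes X hξz
  obtain ⟨w, hw⟩ := exists_of_specializes Y (hξz.map f.continuous)
  have hG := (coheight_add_trdeg_aux f z ξ' hξz t E ht hE v hv w hw).2 hcat
  have hwd : ((Order.coheight w : ℕ∞) : WithBot ℕ∞) = ringKrullDim (Y.presheaf.stalk (f.base z)) := by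
    apply coheight_eq_ringKrullDim_of_forall_le
    intro w'
    rw [← fromSpecStalk_specializes_iff, hw, hfξη]
    exact (genericPoint_spec Y).specializes (Set.mem_univ _)
  obtain ⟨d, hd⟩ := exists_ringKrullDim_eq_nat (Y.presheaf.stalk (f.base z))
  obtain ⟨c, hc⟩ := exists_coheight_eq_nat v
  rw [hwd, hd, hc] at hG
  have hG' : c + t = d + E := by exact_mod_cast hG
  have hcd : c = d := by omega
  apply le_antisymm
  · have h := Groth.Agent.S3447.main f (f.base z) (f.asFiber z)
    rw [f.fiberι_asFiber, h0, add_zero] at h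
    exact h
  · have h1 : ((Order.coheight v : ℕ∞) : WithBot ℕ∞) ≤ ringKrullDim (X.presheaf.stalk z) :=
      Order.coheight_le_krullDim v
    rw [hc, hcd] at h1
    rw [hd]
    exact_mod_cast h1

theorem result' {X Y : Scheme.{u}} [IrreducibleSpace Y] [IsLocallyNoetherian Y]
    (f : X ⟶ Y) [LocallyOfFiniteType f] [QuasiCompact f] (y : Y) :
    ((∀ z : X, f.base z = y → ringKrullDim ((f.fiber (f.base z)).presheaf.stalk (f.asFiber z)) = 0 →
        ringKrullDim (X.presheaf.stalk z) = ringKrullDim (Y.presheaf.stalk (f.base z))) →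
      (∀ z : X, f.base z = y → ringKrullDim ((f.fiber (f.base z)).presheaf.stalk (f.asFiber z)) = 0 →
        ∃ X' ∈ irreducibleComponents (X : Type u), z ∈ X' ∧
          topologicalKrullDim ↥(X' ∩ f.base ⁻¹' {genericPoint Y}) = FlatMor.fibreDimAt f z)) ∧
    (CAlg.IsUniversallyCatenary (Y.presheaf.stalk y) →
      (∀ z : X, f.base z = y → ringKrullDim ((f.fiber (f.base z)).presheaf.stalk (f.asFiber z)) = 0 →
        ∃ X' ∈ irreducibleComponents (X : Type u), z ∈ X' ∧
          topologicalKrullDim ↥(X' ∩ f.base ⁻¹' {genericPoint Y}) = FlatMor.fibreDimAt f z) →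
      (∀ z : X, f.base z = y → ringKrullDim ((f.fiber (f.base z)).presheaf.stalk (f.asFiber z)) = 0 →
        ringKrullDim (X.presheaf.stalk z) = ringKrullDim (Y.presheaf.stalk (f.base z)))) := by
  refine ⟨fun hb z hz h0 => b_to_c f z h0 (hb z hz h0), fun hcat hc z hz h0 => ?_⟩
  subst hz
  exact c_to_b f z hcat h0 (hc z rfl h0)


/-- Let Y be an irreducible locally Noetherian scheme with generic point η, f : X ⟶ Y a morphism of
finite type and y a point of Y. Condition (b): for every point z of the fibre over y at which the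
local ring of the fibre has dimension 0, dim O_{X,z} = dim O_{Y,y}. Condition (c): for every such z
there is an irreducible component X' of X containing z such that the dimension of X' ∩ f⁻¹(η)
(topology induced from X) equals the local dimension at z of the fibre over y (the dimension of the
irreducible component of the fibre with generic point z). Then (b) implies (c), and (c) implies (b)
if O_{Y,y} is universally catenary. -/
theorem result {X Y : Scheme.{u}} [IrreducibleSpace Y] [IsLocallyNoetherian Y]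
    (f : X ⟶ Y) [LocallyOfFiniteType f] [QuasiCompact f] (y : Y) :
    ((∀ z : X, f.base z = y → ringKrullDim ((f.fiber (f.base z)).presheaf.stalk (f.asFiber z)) = 0 →
        ringKrullDim (X.presheaf.stalk z) = ringKrullDim (Y.presheaf.stalk (f.base z))) →
      (∀ z : X, f.base z = y → ringKrullDim ((f.fiber (f.base z)).presheaf.stalk (f.asFiber z)) = 0 →
        ∃ X' ∈ irreducibleComponents (X : Type u), z ∈ X' ∧
          topologicalKrullDim ↥(X' ∩ f.base ⁻¹' {genericPoint Y}) = FlatMor.fibreDimAt f z)) ∧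
    (CAlg.IsUniversallyCatenary (Y.presheaf.stalk y) →
      (∀ z : X, f.base z = y → ringKrullDim ((f.fiber (f.base z)).presheaf.stalk (f.asFiber z)) = 0 →
        ∃ X' ∈ irreducibleComponents (X : Type u), z ∈ X' ∧
          topologicalKrullDim ↥(X' ∩ f.base ⁻¹' {genericPoint Y}) = FlatMor.fibreDimAt f z) →
      (∀ z : X, f.base z = y → ringKrullDim ((f.fiber (f.base z)).presheaf.stalk (f.asFiber z)) = 0 →
        ringKrullDim (X.presheaf.stalk z) = ringKrullDim (Y.presheaf.stalk (f.base z)))) := by
  exact result' f y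

end Groth.Agent.S3393
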