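import Groth.Statements.S3394
import Groth.Agent.H69.FibreNoether

set_option autoImplicit false
set_option linter.style.haveILetI false
open CategoryTheory AlgebraicGeometry
universe u
open EGA43

namespace Groth.Agent.S3394

open CategoryTheory.Limits in
/-- Let X and Y be affine schemes, f : X ⟶ Y a morphism of finite type, y a point of f(X) and e the
dimension of the fibre of f over y. Then there is a Y-morphism g from X to the affine space of
dimension e over Y such that the morphism induced by g on the fibres over y is finite (here written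
as the base change of g along the inclusion of the fibre of the affine space over y). -/
theorem result {X Y : Scheme.{u}} [IsAffine X] [IsAffine Y] (f : X ⟶ Y)
    [LocallyOfFiniteType f] (y : Y) (hy : y ∈ Set.range f.base) (e : ℕ)
    (he : topologicalKrullDim ↥(f.fiber y) = e) :
    ∃ g : X ⟶ 𝔸(ULift.{u} (Fin e); Y), g ≫ (𝔸(ULift.{u} (Fin e); Y) ↘ Y) = f ∧
      IsFinite (pullback.snd g ((𝔸(ULift.{u} (Fin e); Y) ↘ Y).fiberι y)) := by
  obtain ⟨s, hs⟩ := Groth.Agent.H69.FibreNoether.exists_sections_finite' f y hy e he
  obtain ⟨g, hg, hgs⟩ : ∃ g : X ⟶ 𝔸(ULift.{u} (Fin e); Y),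
      g ≫ (𝔸(ULift.{u} (Fin e); Y) ↘ Y) = f ∧
        ∀ i, g.appTop.hom (AffineSpace.coord Y i) = s i :=
    ⟨AffineSpace.homOfVector f s, AffineSpace.homOfVector_over _ _,
      fun i => AffineSpace.homOfVector_appTop_coord _ _ i⟩
  refine ⟨g, hg, ?_⟩
  subst hg
  apply Groth.Agent.H69.FibreNoether.isFinite_snd_of_finite
  simp only [hgs]
  exact hs

end Groth.Agent.S3394
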