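import Groth.Statements.S3400
import Groth.Agent.H17.ProCons
import Groth.Agent.S3398
import Groth.Agent.S15542
import Mathlib.Algebra.Group.Pi.Units
import Mathlib.RingTheory.LocalRing.ResidueField.Ideal
import Mathlib.AlgebraicGeometry.Limits
import Mathlib.AlgebraicGeometry.Morphisms.Descent
import Mathlib.AlgebraicGeometry.Morphisms.LocalIso

set_option autoImplicit false
open CategoryTheory AlgebraicGeometry
universe u
open EGA41

namespace Groth.Agent.S3400

section PiField

variable {ι : Type u} {K : ι → Type u} [∀ i, Field (K i)]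

/-- Basic opens of the spectrum of a product of fields are closed. -/
theorem isClosed_basicOpen_pi (r : ∀ i, K i) :
    IsClosed (PrimeSpectrum.basicOpen r : Set (PrimeSpectrum (∀ i, K i))) := by
  classical
  let r' : ∀ i, K i := fun i => if r i = 0 then 1 else 0
  have hrr' : r * r' = 0 := by
    ext i
    by_cases h : r i = 0 <;> simp [r', h]
  have hunit : IsUnit (r + r') := by
    rw [Pi.isUnit_iff]
    intro i
    by_cases h : r i = 0 <;> simp [r', h]
  have : (PrimeSpectrum.basicOpen r : Set (PrimeSpectrum (∀ i, K i)))ᶜ =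
      (PrimeSpectrum.basicOpen r' : Set _) := by
    ext p
    simp only [Set.mem_compl_iff, SetLike.mem_coe, PrimeSpectrum.mem_basicOpen, not_not]
    constructor
    · intro hr hr'
      exact p.2.ne_top (Ideal.eq_top_of_isUnit_mem _ (p.asIdeal.add_mem hr hr') hunit)
    · intro hr'
      have : r * r' ∈ p.asIdeal := by rw [hrr']; exact p.asIdeal.zero_mem
      exact (p.2.mem_or_mem this).resolve_right hr'
  rw [← isOpen_compl_iff, this]
  exact (PrimeSpectrum.basicOpen r').2

/-- Compact opens of the spectrum of a product of fields are closed. -/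
theorem isClosed_of_isCompact_isOpen_pi {U : Set (PrimeSpectrum (∀ i, K i))} (hU : IsOpen U)
    (hc : IsCompact U) : IsClosed U := by
  obtain ⟨s, hs, rfl⟩ := (isCompact_open_iff_eq_finite_iUnion_of_isTopologicalBasis
    (fun r : (∀ i, K i) => (PrimeSpectrum.basicOpen r : Set (PrimeSpectrum (∀ i, K i))))
    PrimeSpectrum.isTopologicalBasis_basic_opens PrimeSpectrum.isCompact_basicOpen U).mp ⟨hc, hU⟩
  exact hs.isClosed_biUnion fun r _ => isClosed_basicOpen_pi r

/-- Constructible subsets of the spectrum of a product of fields are clopen. -/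
theorem isClopen_of_isConstructible_pi {T : Set (PrimeSpectrum (∀ i, K i))}
    (hT : Topology.IsConstructible T) : IsOpen T ∧ IsOpen Tᶜ := by
  induction hT using Topology.IsConstructible.empty_union_induction with
  | open_retrocompact U hUopen hUcomp =>
    exact ⟨hUopen, (isClosed_of_isCompact_isOpen_pi hUopen hUcomp.isCompact).isOpen_compl⟩
  | union s _ t _ hs' ht' =>
    refine ⟨hs'.1.union ht'.1, ?_⟩
    rw [Set.compl_union]
    exact hs'.2.inter ht'.2
  | compl s _ hs' =>
    refine ⟨hs'.2, ?_⟩
    rw [compl_compl]; exact hs'.1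

end PiField

section RingLemma

open Topology

/-- A pro-constructible subset `E = ⋂₀ S` of `Spec A` is the image of the spectrum of the product
of the residue fields of its points. -/
theorem range_specMap_pi (A : CommRingCat.{u}) (E : Set (PrimeSpectrum A))
    (S : Set (Set (Spec A)))
    (hS : ∀ T ∈ S, IsConstructible T) (hE : (E : Set (Spec A)) = ⋂₀ S) :
    Set.range (Spec.map (CommRingCat.ofHom
      (RingHom.pi fun y : E => algebraMap A y.1.asIdeal.ResidueField))).base = E := by
  classical
  have hmem : ∀ x : PrimeSpectrum A, x ∈ E ↔ ∀ T ∈ S, x ∈ T := by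
    intro x
    change x ∈ (E : Set (Spec A)) ↔ _
    rw [hE]; rfl
  clear hE
  let φ : A →+* (∀ y : E, y.1.asIdeal.ResidueField) :=
    RingHom.pi fun y : E => algebraMap A y.1.asIdeal.ResidueField
  -- the point of `Spec R` over `y`
  let pt : ∀ y : E, PrimeSpectrum (∀ y : E, y.1.asIdeal.ResidueField) := fun y =>
    PrimeSpectrum.comap (Pi.evalRingHom (fun y : E => y.1.asIdeal.ResidueField) y)
      ⟨⊥, Ideal.isPrime_bot⟩
  have hpt : ∀ y : E, (Spec.map (CommRingCat.ofHom φ)).base (pt y) = y.1 := by
    intro y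
    apply PrimeSpectrum.ext
    ext a
    change φ a y ∈ (⊥ : Ideal _) ↔ a ∈ y.1.asIdeal
    rw [Ideal.mem_bot]
    change algebraMap A y.1.asIdeal.ResidueField a = 0 ↔ _
    rw [← RingHom.mem_ker, Ideal.ker_algebraMap_residueField]
  apply Set.Subset.antisymm
  · rintro _ ⟨q, rfl⟩
    refine (hmem _).mpr ?_
    intro T hT
    by_contra hq
    have hW : IsConstructible ((Spec.map (CommRingCat.ofHom φ)).base ⁻¹' Tᶜ) :=
      (Spec.map (CommRingCat.ofHom φ)).isConstructible_preimage (hS T hT).compl
    have hWo := (isClopen_of_isConstructible_pi hW).1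
    obtain ⟨_, ⟨r, rfl⟩, hqr, hrW⟩ :=
      PrimeSpectrum.isTopologicalBasis_basic_opens.exists_subset_of_mem_open
        (show q ∈ _ from hq) hWo
    have hr0 : r ≠ 0 := by
      rintro rfl
      exact (PrimeSpectrum.mem_basicOpen _ _).mp hqr (Ideal.zero_mem _)
    obtain ⟨y, hy⟩ : ∃ y, r y ≠ 0 := by
      by_contra h
      push Not at h
      exact hr0 (funext h)
    have h1 : pt y ∈ (PrimeSpectrum.basicOpen r : Set _) := by
      change ¬ (r y ∈ (⊥ : Ideal _))
      rwa [Ideal.mem_bot]
    have h2 : (Spec.map (CommRingCat.ofHom φ)).base (pt y) ∈ Tᶜ := hrW h1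
    rw [hpt y] at h2
    apply h2
    exact (hmem y.1).mp y.2 T hT
  · intro y hy
    exact ⟨pt ⟨y, hy⟩, hpt ⟨y, hy⟩⟩

end RingLemma

/-- Let X be a quasi-compact and quasi-separated scheme. A subset E of X is pro-constructible if and
only if there are an affine scheme X' and a morphism f : X' ⟶ X with f(X') = E. -/
theorem result (X : Scheme.{u}) [CompactSpace X] [QuasiSeparatedSpace X]
    (E : Set X) :
    ProCons.IsProConstructible E ↔ ∃ (X' : Scheme.{u}) (f : X' ⟶ X), IsAffine X' ∧ Set.range f.base = E := by
  constructor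
  · intro hE
    haveI : MorphismProperty.ContainsIdentities (@IsLocalIso : MorphismProperty Scheme.{u}) :=
      (inferInstance : MorphismProperty.IsMultiplicative
        (@IsLocalIso : MorphismProperty Scheme.{u})).toContainsIdentities
    obtain ⟨Y, π, hπ, -, hY⟩ :=
      X.exists_hom_isAffine_of_isZariskiLocalAtSource (@IsLocalIso : MorphismProperty Scheme.{u})
    let g : Spec Γ(Y, ⊤) ⟶ X := Y.isoSpec.inv ≫ π
    have hg : Function.Surjective g.base := by
      have : Surjective g := inferInstance
      exact this.surj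
    have hE' : ProCons.IsProConstructible (g.base ⁻¹' E) := Groth.Agent.S15542.result g E hE
    obtain ⟨S, hS, hES⟩ := Groth.Agent.H17.exists_eq_sInter_of_isProConstructible hE'
    refine ⟨_, Spec.map (CommRingCat.ofHom
      (RingHom.pi fun y : (g.base ⁻¹' E : Set (PrimeSpectrum Γ(Y, ⊤))) =>
        algebraMap Γ(Y, ⊤) y.1.asIdeal.ResidueField)) ≫ g, inferInstance, ?_⟩
    have key : ∀ (Z : Scheme.{u}) (h : Z ⟶ Spec Γ(Y, ⊤)),
        Set.range (h ≫ g).base = g.base '' Set.range h.base := by
      intro Z h
      rw [← Set.range_comp]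
      rfl
    rw [key, range_specMap_pi Γ(Y, ⊤) (g.base ⁻¹' E) S hS hES]
    exact Set.image_preimage_eq _ hg
  · rintro ⟨X', f, hX', rfl⟩
    rw [← Set.image_univ]
    exact Groth.Agent.S3398.result f Set.univ
      (Groth.Agent.H17.isProConstructible_of_eq_sInter ∅ (by simp) (by simp))

end Groth.Agent.S3400
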