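import Groth.Statements.S3417
import Mathlib
import Groth.Agent.H68.DvrConn

set_option autoImplicit false
open CategoryTheory AlgebraicGeometry
universe u
open EGA43

namespace Groth.Agent.S3417

open AlgebraicGeometry CategoryTheory Limits


/-- Let A be a discrete valuation ring, Y = Spec A with closed point a and generic point b, and f : X ⟶
Y a morphism locally of finite type which is open (as a map of spaces). If X is connected and the
fibre over a is a reduced scheme, then the fibre over b is connected. (Stated with 'preconnected',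
which also covers the empty case; a is the closed point and b the point specialising to every
point.) -/
theorem result (A : Type u) [CommRing A] [IsDomain A]
    [IsDiscreteValuationRing A] {X : Scheme.{u}} (f : X ⟶ Spec (CommRingCat.of A)) [LocallyOfFiniteType f]
    (hopen : IsOpenMap f.base) [PreconnectedSpace X]
    (a b : ↥(Spec (CommRingCat.of A))) (ha : IsClosed ({a} : Set ↥(Spec (CommRingCat.of A))))
    (hb : ∀ z : ↥(Spec (CommRingCat.of A)), b ⤳ z)
    (hred : AlgebraicGeometry.IsReduced (f.fiber a)) :
    PreconnectedSpace ↥(f.fiber b) := by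
  obtain ⟨ϖ, hϖ⟩ := IsDiscreteValuationRing.exists_irreducible A
  have hmax : IsLocalRing.maximalIdeal A = Ideal.span {ϖ} := hϖ.maximalIdeal_eq
  let a' : PrimeSpectrum A := a
  let b' : PrimeSpectrum A := b
  haveI ha' : a'.asIdeal.IsMaximal := (PrimeSpectrum.isClosed_singleton_iff_isMaximal a').mp ha
  have has : a'.asIdeal = Ideal.span {ϖ} := by
    rw [← hmax]
    exact IsLocalRing.eq_maximalIdeal ha'
  have hb0 : b'.asIdeal = ⊥ := by
    have h1 : b' ⤳ (⟨⊥, Ideal.isPrime_bot⟩ : PrimeSpectrum A) := hb _
    rw [← PrimeSpectrum.le_iff_specializes] at h1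
    exact le_bot_iff.mp h1
  have hbϖ : b' ∈ (PrimeSpectrum.basicOpen ϖ : Set (PrimeSpectrum A)) := by
    show ϖ ∉ b'.asIdeal
    rw [hb0, Ideal.mem_bot]
    exact hϖ.ne_zero
  have hset : ({b'} : Set (PrimeSpectrum A)) =
      (PrimeSpectrum.basicOpen ϖ : Set (PrimeSpectrum A)) := by
    ext q
    simp only [Set.mem_singleton_iff, SetLike.mem_coe, PrimeSpectrum.mem_basicOpen]
    constructor
    · rintro rfl
      exact hbϖ
    · intro hq
      by_contra hne
      have hq0 : q.asIdeal ≠ ⊥ := fun h0 => hne (PrimeSpectrum.ext (h0.trans hb0.symm))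
      have hqmax : q.asIdeal.IsMaximal := q.isPrime.isMaximal hq0
      have h1 : q.asIdeal = IsLocalRing.maximalIdeal A := IsLocalRing.eq_maximalIdeal hqmax
      apply hq
      rw [h1, hmax]
      exact Ideal.subset_span (Set.mem_singleton ϖ)
  have H : ∀ (B : CommRingCat.{u}) (φ : CommRingCat.of A ⟶ B) (j : Spec B ⟶ X)
      [IsOpenImmersion j], Spec.map φ = j ≫ f →
        (∀ b : B, φ.hom ϖ * b = 0 → b = 0) ∧ (Ideal.span {φ.hom ϖ}).IsRadical := by
    intro B φ j _ h
    have hrad := Groth.Agent.H68.DvrConn.radical_of_isReduced_fiber ϖ a' has f hred B φ j h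
    exact ⟨Groth.Agent.H68.DvrConn.regular_of_open_lft ϖ b' hb hbϖ f hopen B φ j h hrad, hrad⟩
  have hpre := Groth.Agent.H68.DvrConn.isPreconnected_preimage_basicOpen ϖ f H
  rw [← hset] at hpre
  exact Groth.Agent.H68.DvrConn.preconnectedSpace_fiber f b hpre

end Groth.Agent.S3417
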