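import Groth.Statements.S3419
import Groth.Agent.H38.SectionComp

set_option autoImplicit false
open CategoryTheory AlgebraicGeometry
universe u
open EGA43

namespace Groth.Agent.S3419

/-- Let Y be locally Noetherian, f : X ⟶ Y locally of finite type and g a section of f; for y in Y let
X⁰_y be the connected component of the fibre f⁻¹(y) containing g(y). Suppose every X⁰_y is
irreducible. Then y ↦ dim X⁰_y is upper semicontinuous on Y; and if this function is constant on a
neighbourhood of a point y, then X⁰_y is contained in the closure of X⁰_{y'} for every generization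
y' of y. -/
theorem result {X Y : Scheme.{u}} [IsLocallyNoetherian Y] (f : X ⟶ Y)
    [LocallyOfFiniteType f] (g : Y ⟶ X) (hg : g ≫ f = 𝟙 Y)
    (hirr : ∀ y : Y, IsIrreducible (connectedComponentIn (f.base ⁻¹' {y}) (g.base y))) :
    UpperSemicontinuous (fun y : Y => topologicalKrullDim ↥(connectedComponentIn (f.base ⁻¹' {y}) (g.base y))) ∧
      ∀ y : Y, (∃ V ∈ nhds y, ∀ z ∈ V, topologicalKrullDim ↥(connectedComponentIn (f.base ⁻¹' {z}) (g.base z)) = topologicalKrullDim ↥(connectedComponentIn (f.base ⁻¹' {y}) (g.base y))) →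
        ∀ y' : Y, y' ⤳ y → connectedComponentIn (f.base ⁻¹' {y}) (g.base y) ⊆ closure (connectedComponentIn (f.base ⁻¹' {y'}) (g.base y')) := by
  have hfg : ∀ z : Y, f.base (g.base z) = z :=
    fun z => Groth.Agent.H38.SectionComp.section_apply f g hg z
  have hφ : ∀ z : Y, topologicalKrullDim ↥(connectedComponentIn (f.base ⁻¹' {z}) (g.base z)) =
      FlatMor.fibreDimAt f (g.base z) := fun z =>
    Groth.Agent.H38.SectionComp.dim_connectedComponentIn_eq_of_isIrreducible f z (g.base z) (hfg z)
      (hirr z)
  refine ⟨?_, ?_⟩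
  · intro y c hc
    obtain ⟨n, hn⟩ := Groth.Agent.H38.FibreDimCons.exists_fibreDimAt_eq f (g.base y)
    have hopen : IsOpen (g.base ⁻¹' {x : X | FlatMor.fibreDimAt f x ≤ n}) :=
      (Groth.Agent.H9.FibDim.isOpen_setOf_fibreDimAt_le f n).preimage g.continuous
    have hy : y ∈ g.base ⁻¹' {x : X | FlatMor.fibreDimAt f x ≤ n} := hn.le
    filter_upwards [hopen.mem_nhds hy] with z hz
    have hc' : ((n : ℕ) : WithBot ℕ∞) < c := by
      rw [← hn, ← hφ y]; exact hc
    show topologicalKrullDim ↥(connectedComponentIn (f.base ⁻¹' {z}) (g.base z)) < c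
    rw [hφ z]
    exact lt_of_le_of_lt hz hc'
  · rintro y ⟨V, hV, hconst⟩ y' hy
    have hy'V : y' ∈ V := mem_of_mem_nhds (hy hV)
    have hmem : g.base y' ∈ f.base ⁻¹' {y'} := hfg y'
    refine Groth.Agent.H38.SectionComp.subset_closure_of_dim_le f g hg y y' hy
      (connectedComponentIn (f.base ⁻¹' {y'}) (g.base y'))
      (connectedComponentIn_subset _ _) (hirr y') ?_ (mem_connectedComponentIn hmem) (hirr y)
      (hconst y' hy'V).ge
    intro Z' hZ'irr hZ'sub hsub
    apply Set.Subset.antisymm _ hsub
    exact hZ'irr.isConnected.isPreconnected.subset_connectedComponentIn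
      (hsub (mem_connectedComponentIn hmem)) hZ'sub

end Groth.Agent.S3419
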