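import Groth.Statements.S3428
import Mathlib
import Groth.Agent.H9.FibClosure

set_option linter.style.haveILetI false

set_option autoImplicit false
open CategoryTheory AlgebraicGeometry
universe u
open EGA43

namespace Groth.Agent.S3428


section helpers

open Groth.Agent.H9.FibClosure

theorem mem_closure_subtype_preimage_iff {X : Type*} [TopologicalSpace X] (A Z : Set X) (x : A) :
    x ∈ closure (Subtype.val ⁻¹' Z : Set A) ↔ (x : X) ∈ closure (Z ∩ A) := by
  rw [closure_subtype, Subtype.image_preimage_coe, Set.inter_comm]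

theorem isClosed_subtype_preimage_iff {X : Type*} [TopologicalSpace X] (A Z : Set X) :
    IsClosed (Subtype.val ⁻¹' Z : Set A) ↔ ∀ x ∈ A, x ∈ closure (Z ∩ A) → x ∈ Z := by
  rw [← closure_subset_iff_isClosed]
  constructor
  · intro h x hxA hx
    exact h ((mem_closure_subtype_preimage_iff A Z ⟨x, hxA⟩).mpr hx)
  · rintro h ⟨x, hxA⟩ hx
    exact h x hxA ((mem_closure_subtype_preimage_iff A Z ⟨x, hxA⟩).mp hx)

theorem closedLocus_eq {X S : Scheme.{u}} (f : X ⟶ S) (Z : Set X) :
    {s : S | IsClosed (Subtype.val ⁻¹' Z : Set ↥(f.base ⁻¹' {s}))} =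
      (f.base '' (FC f Z ∩ Zᶜ))ᶜ := by
  ext s
  simp only [Set.mem_ofPred_eq, Set.mem_compl_iff, Set.mem_image, not_exists, not_and]
  rw [isClosed_subtype_preimage_iff]
  constructor
  · rintro hs x ⟨hxK, hxZ⟩ hx
    apply hxZ
    refine hs x hx ?_
    have h2 := (mem_FC f Z x).mp hxK
    have hx' : f.base x = s := hx
    rw [hx'] at h2
    exact h2
  · rintro hs x hx hxc
    by_contra hxZ
    refine hs x ⟨?_, hxZ⟩ hx
    have hx' : f.base x = s := hx
    show x ∈ closure (Z ∩ f.base ⁻¹' {f.base x})
    rw [hx']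
    exact hxc

theorem closed_part {X S : Scheme.{u}} (f : X ⟶ S)
    [LocallyOfFinitePresentation f] [QuasiCompact f] [QuasiSeparated f] (Z : Set X)
    (hZ : Topology.IsLocallyConstructible Z) :
    Topology.IsLocallyConstructible
      {s : S | IsClosed (Subtype.val ⁻¹' Z : Set ↥(f.base ⁻¹' {s}))} := by
  rw [closedLocus_eq]
  apply Groth.Agent.H9.CMCons.isLocallyConstructible_compl
  exact f.isLocallyConstructible_image ((isLocallyConstructible_FC f Z hZ).inter
    (Groth.Agent.H9.CMCons.isLocallyConstructible_compl hZ))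

theorem lc_iff {X S : Scheme.{u}} (f : X ⟶ S) (Z : Set X) (s : S) :
    IsLocallyClosed (Subtype.val ⁻¹' Z : Set ↥(f.base ⁻¹' {s})) ↔
      IsClosed (Subtype.val ⁻¹' (FC f Z ∩ Zᶜ) : Set ↥(f.base ⁻¹' {s})) := by
  rw [isLocallyClosed_iff_isOpen_coborder, coborder, isOpen_compl_iff]
  have e : closure (Subtype.val ⁻¹' Z : Set ↥(f.base ⁻¹' {s})) \ (Subtype.val ⁻¹' Z) =
      Subtype.val ⁻¹' (FC f Z ∩ Zᶜ) := by
    ext ⟨x, hx⟩
    have hx' : f.base x = s := hx
    simp only [Set.mem_sdiff, Set.mem_preimage, Set.mem_inter_iff, Set.mem_compl_iff]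
    rw [mem_closure_subtype_preimage_iff, mem_FC, hx']
  rw [e]

end helpers

theorem result' {X S : Scheme.{u}} (f : X ⟶ S)
    [LocallyOfFinitePresentation f] [QuasiCompact f] [QuasiSeparated f] (Z : Set X)
    (hZ : Topology.IsLocallyConstructible Z) :
    Topology.IsLocallyConstructible {s : S | IsClosed (Subtype.val ⁻¹' Z : Set ↥(f.base ⁻¹' {s}))} ∧
      Topology.IsLocallyConstructible {s : S | IsOpen (Subtype.val ⁻¹' Z : Set ↥(f.base ⁻¹' {s}))} ∧
      Topology.IsLocallyConstructible {s : S | IsLocallyClosed (Subtype.val ⁻¹' Z : Set ↥(f.base ⁻¹' {s}))} := by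
  refine ⟨closed_part f Z hZ, ?_, ?_⟩
  · have h := closed_part f Zᶜ (Groth.Agent.H9.CMCons.isLocallyConstructible_compl hZ)
    convert h using 1
    ext s
    simp only [Set.mem_ofPred_eq, Set.preimage_compl, isClosed_compl_iff]
  · have h := closed_part f (Groth.Agent.H9.FibClosure.FC f Z ∩ Zᶜ)
      ((Groth.Agent.H9.FibClosure.isLocallyConstructible_FC f Z hZ).inter
        (Groth.Agent.H9.CMCons.isLocallyConstructible_compl hZ))
    convert h using 1
    ext s
    exact lc_iff f Z s


/-- Let f : X ⟶ S be of finite presentation (locally of finite presentation, quasi-compact,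
quasi-separated) and Z a locally constructible subset of X. Then the set of points s of S such that
Z ∩ f⁻¹(s) is closed in the fibre f⁻¹(s) (with the topology induced from X), the set of s such that
it is open in the fibre, and the set of s such that it is locally closed in the fibre, are locally
constructible in S. -/
theorem result {X S : Scheme.{u}} (f : X ⟶ S)
    [LocallyOfFinitePresentation f] [QuasiCompact f] [QuasiSeparated f] (Z : Set X)
    (hZ : Topology.IsLocallyConstructible Z) :
    Topology.IsLocallyConstructible {s : S | IsClosed (Subtype.val ⁻¹' Z : Set ↥(f.base ⁻¹' {s}))} ∧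
      Topology.IsLocallyConstructible {s : S | IsOpen (Subtype.val ⁻¹' Z : Set ↥(f.base ⁻¹' {s}))} ∧
      Topology.IsLocallyConstructible {s : S | IsLocallyClosed (Subtype.val ⁻¹' Z : Set ↥(f.base ⁻¹' {s}))} := by
  exact result' f Z hZ

end Groth.Agent.S3428
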