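import Groth.Statements.S3424
import Mathlib
import Groth.Agent.S3428
import Groth.Agent.H9.FibreMapCons

set_option linter.style.haveILetI false

set_option autoImplicit false
open CategoryTheory AlgebraicGeometry
universe u
open EGA43

namespace Groth.Agent.S3424


section helpers

open CategoryTheory.Limits Groth.Agent.H9.FibClosure Topology

/-- Base change of the first projection of the kernel pair. -/
theorem isPullback_map_fst {X X' Y Y' : Scheme.{u}} {f : X ⟶ Y} {f' : X' ⟶ Y'} {e : X' ⟶ X}
    {ι : Y' ⟶ Y} (sq : IsPullback e f' f ι) :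
    IsPullback (pullback.map f' f' f f e e ι sq.w.symm sq.w.symm) (pullback.fst f' f')
      (pullback.fst f f) e := by
  have big : IsPullback (pullback.snd f' f' ≫ e) (pullback.fst f' f') f (f' ≫ ι) :=
    (IsPullback.of_hasPullback f' f').flip.paste_horiz sq
  have right : IsPullback (pullback.snd f f) (pullback.fst f f) f f :=
    (IsPullback.of_hasPullback f f).flip
  have hm1 : pullback.map f' f' f f e e ι sq.w.symm sq.w.symm ≫ pullback.snd f f =
      pullback.snd f' f' ≫ e := pullback.lift_snd _ _ _
  have hm2 : pullback.map f' f' f f e e ι sq.w.symm sq.w.symm ≫ pullback.fst f f =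
      pullback.fst f' f' ≫ e := pullback.lift_fst _ _ _
  refine IsPullback.of_right ?_ hm2 right
  rw [hm1, sq.w]
  exact big

/-- The diagonal of a base change is the base change of the diagonal. -/
theorem isPullback_diagonal {X X' Y Y' : Scheme.{u}} {f : X ⟶ Y} {f' : X' ⟶ Y'} {e : X' ⟶ X}
    {ι : Y' ⟶ Y} (sq : IsPullback e f' f ι) :
    IsPullback e (pullback.diagonal f') (pullback.diagonal f)
      (pullback.map f' f' f f e e ι sq.w.symm sq.w.symm) := by
  refine IsPullback.of_bot ?_ ?_ (isPullback_map_fst sq)
  · rw [pullback.diagonal_fst, pullback.diagonal_fst]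
    exact IsPullback.id_vert e
  · have hm1 : pullback.map f' f' f f e e ι sq.w.symm sq.w.symm ≫ pullback.snd f f =
        pullback.snd f' f' ≫ e := pullback.lift_snd _ _ _
    have hm2 : pullback.map f' f' f f e e ι sq.w.symm sq.w.symm ≫ pullback.fst f f =
        pullback.fst f' f' ≫ e := pullback.lift_fst _ _ _
    apply pullback.hom_ext
    · rw [Category.assoc, Category.assoc, pullback.diagonal_fst, Category.comp_id, hm2,
        pullback.diagonal_fst_assoc]
    · rw [Category.assoc, Category.assoc, pullback.diagonal_snd, Category.comp_id, hm1,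
        pullback.diagonal_snd_assoc]

theorem isClosed_preimage_iff_of_isEmbedding {T P : Type*} [TopologicalSpace T]
    [TopologicalSpace P] {m : T → P} (hm : IsEmbedding m) (A : Set P) (hr : Set.range m = A)
    (Z : Set P) : IsClosed (m ⁻¹' Z) ↔ IsClosed (Subtype.val ⁻¹' Z : Set A) := by
  subst hr
  have h := hm.toHomeomorph.isClosed_preimage (s := (Subtype.val ⁻¹' Z : Set (Set.range m)))
  rw [← h]
  rfl

theorem isSeparated_iff_isClosed_range_diagonal {X Y : Scheme.{u}} (f : X ⟶ Y) :
    IsSeparated f ↔ IsClosed (Set.range (pullback.diagonal f).base) := by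
  rw [isSeparated_iff, IsClosedImmersion.iff_isPreimmersion]
  exact ⟨fun h => h.2, fun h => ⟨inferInstance, h⟩⟩

/-- `f_s` is separated iff the trace of the diagonal of `f` on the fibre of `X ×_Y X ⟶ S` over `s`
is closed in that fibre. -/
theorem isSeparated_fiberMap_iff {X Y S : Scheme.{u}} (f : X ⟶ Y) (g : Y ⟶ S) (s : S) :
    IsSeparated (MoreMor.fiberMap f g s) ↔
      IsClosed (Subtype.val ⁻¹' Set.range (pullback.diagonal f).base :
        Set ↥((pullback.fst f f ≫ f ≫ g).base ⁻¹' {s})) := by
  rw [Groth.Agent.H9.SmoothMorCons.prop_fiberMap_iff @IsSeparated inferInstance f g s]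
  have sq : IsPullback (pullback.fst f (g.fiberι s)) (pullback.snd f (g.fiberι s)) f
      (g.fiberι s) := IsPullback.of_hasPullback f (g.fiberι s)
  rw [isSeparated_iff_isClosed_range_diagonal,
    range_eq_preimage_of_isPullback (isPullback_diagonal sq)]
  have sqm := (isPullback_map_fst sq).paste_vert sq
  have sqs : IsPullback (g.fiberι s) (g.fiberToSpecResidueField s) g
      (S.fromSpecResidueField s) := IsPullback.of_hasPullback _ _
  have sqq := sqm.paste_vert sqs
  rw [Category.assoc] at sqq
  have hm := sqq.isoPullback_hom_fst
  have hemb : IsEmbedding (pullback.map (pullback.snd f (g.fiberι s))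
      (pullback.snd f (g.fiberι s)) f f (pullback.fst f (g.fiberι s))
      (pullback.fst f (g.fiberι s)) (g.fiberι s) sq.w.symm sq.w.symm).base := by
    rw [← hm]
    exact ((pullback.fst f f ≫ f ≫ g).fiberι s).isEmbedding.comp
      sqq.isoPullback.hom.isOpenEmbedding.isEmbedding
  have hrange : Set.range (pullback.map (pullback.snd f (g.fiberι s))
      (pullback.snd f (g.fiberι s)) f f (pullback.fst f (g.fiberι s))
      (pullback.fst f (g.fiberι s)) (g.fiberι s) sq.w.symm sq.w.symm).base =
      (pullback.fst f f ≫ f ≫ g).base ⁻¹' {s} := by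
    rw [← hm, ← (pullback.fst f f ≫ f ≫ g).range_fiberι s]
    ext p
    constructor
    · rintro ⟨w, rfl⟩
      exact ⟨sqq.isoPullback.hom.base w, rfl⟩
    · rintro ⟨w, rfl⟩
      obtain ⟨w', rfl⟩ := sqq.isoPullback.hom.surjective w
      exact ⟨w', rfl⟩
  exact isClosed_preimage_iff_of_isEmbedding hemb _ hrange _

end helpers

open CategoryTheory.Limits in
theorem result' {X Y S : Scheme.{u}} (f : X ⟶ Y) (g : Y ⟶ S)
    [LocallyOfFinitePresentation g] [QuasiCompact g] [QuasiSeparated g]
    [LocallyOfFinitePresentation (f ≫ g)] [QuasiCompact (f ≫ g)] [QuasiSeparated (f ≫ g)] :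
    Topology.IsLocallyConstructible {s : S |
      IsSeparated (pullback.lift (pullback.fst (f ≫ g) (S.fromSpecResidueField s) ≫ f) (pullback.snd (f ≫ g) (S.fromSpecResidueField s))
          ((Category.assoc _ _ _).trans pullback.condition) :
        pullback (f ≫ g) (S.fromSpecResidueField s) ⟶ pullback g (S.fromSpecResidueField s))} := by
  haveI : LocallyOfFinitePresentation f := Groth.Agent.H24.locallyOfFinitePresentation_of_comp f g
  haveI : QuasiCompact f := QuasiCompact.of_comp f g
  haveI : QuasiSeparated f := QuasiSeparated.of_comp f g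
  haveI : LocallyOfFinitePresentation (pullback.diagonal f ≫ pullback.fst f f) := by
    rw [pullback.diagonal_fst]; infer_instance
  haveI : LocallyOfFinitePresentation (pullback.diagonal f) :=
    Groth.Agent.H24.locallyOfFinitePresentation_of_comp (pullback.diagonal f) (pullback.fst f f)
  have hZ : Topology.IsLocallyConstructible (Set.range (pullback.diagonal f).base) := by
    rw [← Set.image_univ]
    exact (pullback.diagonal f).isLocallyConstructible_image Topology.IsLocallyConstructible.univ
  have h := Groth.Agent.S3428.closed_part (pullback.fst f f ≫ f ≫ g) _ hZ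
  convert h using 1
  ext s
  exact isSeparated_fiberMap_iff f g s


open CategoryTheory.Limits in
/-- Let g : Y ⟶ S and f : X ⟶ Y be such that X and Y are of finite presentation over S (locally of
finite presentation, quasi-compact and quasi-separated). For each point s of S let f_s be the
induced morphism from the fibre of f ≫ g over s to the fibre of g over s. Then the set of s for
which f_s is separated is locally constructible in S. -/
theorem result {X Y S : Scheme.{u}} (f : X ⟶ Y) (g : Y ⟶ S)
    [LocallyOfFinitePresentation g] [QuasiCompact g] [QuasiSeparated g]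
    [LocallyOfFinitePresentation (f ≫ g)] [QuasiCompact (f ≫ g)] [QuasiSeparated (f ≫ g)] :
    Topology.IsLocallyConstructible {s : S |
      IsSeparated (pullback.lift (pullback.fst (f ≫ g) (S.fromSpecResidueField s) ≫ f) (pullback.snd (f ≫ g) (S.fromSpecResidueField s))
          ((Category.assoc _ _ _).trans pullback.condition) :
        pullback (f ≫ g) (S.fromSpecResidueField s) ⟶ pullback g (S.fromSpecResidueField s))} := by
  exact result' f g

end Groth.Agent.S3424
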