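import Groth.Statements.S3427
import Mathlib
import Groth.Agent.H9.FibClosure

set_option linter.style.haveILetI false

set_option autoImplicit false
open CategoryTheory AlgebraicGeometry
universe u
open EGA43

namespace Groth.Agent.S3427


section helpers

open Groth.Agent.H9.FibClosure

/-- General form (no inclusion needed). -/
theorem main {X S : Scheme.{u}} (f : X ⟶ S) [LocallyOfFinitePresentation f]
    [QuasiCompact f] [QuasiSeparated f] (Z Z' : Set X) (hZ : Topology.IsLocallyConstructible Z)
    (hZ' : Topology.IsLocallyConstructible Z') :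
    Topology.IsLocallyConstructible
      {s : S | Z' ∩ f.base ⁻¹' {s} ⊆ closure (Z ∩ f.base ⁻¹' {s})} := by
  have hK := isLocallyConstructible_FC f Z hZ
  have h1 : Topology.IsLocallyConstructible (f.base '' (Z' ∩ (FC f Z)ᶜ)) :=
    f.isLocallyConstructible_image (hZ'.inter (Groth.Agent.H9.CMCons.isLocallyConstructible_compl hK))
  convert Groth.Agent.H9.CMCons.isLocallyConstructible_compl h1 using 1
  ext s
  simp only [Set.mem_ofPred_eq, Set.mem_compl_iff, Set.mem_image, not_exists, not_and]
  constructor
  · rintro hs x ⟨hxZ', hxK⟩ hx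
    apply hxK
    subst hx
    exact hs ⟨hxZ', rfl⟩
  · rintro hs x ⟨hxZ', hx⟩
    by_contra hxc
    refine hs x ⟨hxZ', ?_⟩ hx
    intro hK'
    apply hxc
    have h2 := (mem_FC f Z x).mp hK'
    have hx' : f.base x = s := hx
    rw [hx'] at h2
    exact h2

end helpers

theorem result' {X S : Scheme.{u}} (f : X ⟶ S) [LocallyOfFinitePresentation f]
    [QuasiCompact f] [QuasiSeparated f] (Z Z' : Set X) (hZ : Topology.IsLocallyConstructible Z)
    (hZ' : Topology.IsLocallyConstructible Z') (_hle : Z ⊆ Z') :
    Topology.IsLocallyConstructible {s : S | Z' ∩ f.base ⁻¹' {s} ⊆ closure (Z ∩ f.base ⁻¹' {s})} :=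
  main f Z Z' hZ hZ'


/-- Let f : X ⟶ S be of finite presentation (locally of finite presentation, quasi-compact,
quasi-separated) and Z ⊆ Z' two locally constructible subsets of X. Then the set of points s of S
such that Z ∩ f⁻¹(s) is dense in Z' ∩ f⁻¹(s) (for the topology induced from X, which is that of the
fibre) is locally constructible in S. -/
theorem result {X S : Scheme.{u}} (f : X ⟶ S) [LocallyOfFinitePresentation f]
    [QuasiCompact f] [QuasiSeparated f] (Z Z' : Set X) (hZ : Topology.IsLocallyConstructible Z)
    (hZ' : Topology.IsLocallyConstructible Z') (hle : Z ⊆ Z') :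
    Topology.IsLocallyConstructible {s : S | Z' ∩ f.base ⁻¹' {s} ⊆ closure (Z ∩ f.base ⁻¹' {s})} := by
  exact result' f Z Z' hZ hZ' hle

end Groth.Agent.S3427
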