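import Groth.Statements.S3432
import Groth.Agent.H17.JacobsonCompl

set_option autoImplicit false
open CategoryTheory AlgebraicGeometry
universe u
open EGA43

namespace Groth.Agent.S3432

/-- Let X be a locally Noetherian scheme and Y a closed subset of X such that every nonempty closed
subset of X meets Y. Then the open subscheme X ∖ Y (equivalently, the subspace X ∖ Y) is a Jacobson
space. -/
theorem result (X : Scheme.{u}) [IsLocallyNoetherian X] (Y : Set X)
    (hY : IsClosed Y) (hmeet : ∀ Z : Set X, IsClosed Z → Z.Nonempty → (Z ∩ Y).Nonempty) :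
    JacobsonSpace ↥(Yᶜ) := by
  refine Groth.Agent.H17.JacobsonCompl.jacobsonSpace_compl (X := X) ?_ Y hY hmeet
  intro x
  obtain ⟨U, hU, hxU, -⟩ : ∃ U : X.Opens, U ∈ X.affineOpens ∧ x ∈ U ∧ U ≤ ⊤ :=
    TopologicalSpace.Opens.isBasis_iff_nbhd.mp X.isBasis_affineOpens (U := ⊤) (x := x) trivial
  have hN : IsNoetherianRing Γ(X, U) := IsLocallyNoetherian.component_noetherian ⟨U, hU⟩
  have hU' : IsAffineOpen U := hU
  refine ⟨Γ(X, U), inferInstance, hN, hU'.fromSpec, hU'.fromSpec.isOpenEmbedding, ?_⟩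
  have h := hU'.range_fromSpec
  have hx : x ∈ Set.range (hU'.fromSpec : ↥(Spec Γ(X, U)) → ↥X) := by
    rw [h]; exact hxU
  exact hx

end Groth.Agent.S3432
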