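import Groth.Statements.S3433
import Groth.Agent.H17.JacobsonCompl

set_option autoImplicit false
universe u
open EGA43

namespace Groth.Agent.S3433


theorem eq_one_of_le_of_not_le (x : WithBot ℕ∞) (h1 : x ≤ 1) (h0 : ¬ x ≤ 0) : x = 1 := by
  refine le_antisymm h1 ?_
  have h : 0 < x := not_le.mp h0
  induction x using WithBot.recBotCoe with
  | bot => simp at h
  | coe n =>
    have h' : (0 : ℕ∞) < n := by exact_mod_cast h
    have : (1 : ℕ∞) ≤ n := Order.one_le_iff_pos.mpr h'
    exact_mod_cast this

/-- dimension one criterion for a quotient by a non-maximal prime of a local ring -/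
theorem dim_quotient_eq_one_iff (A : Type u) [CommRing A] [IsLocalRing A] (P : Ideal A)
    [hP : P.IsPrime] (hPm : P ≠ IsLocalRing.maximalIdeal A) :
    ringKrullDim (A ⧸ P) = 1 ↔
      ∀ q : Ideal A, q.IsPrime → P < q → q = IsLocalRing.maximalIdeal A := by
  have hdom : IsDomain (A ⧸ P) := Ideal.Quotient.isDomain P
  have hsurj : Function.Surjective (Ideal.Quotient.mk P) := Ideal.Quotient.mk_surjective
  have hker : RingHom.ker (Ideal.Quotient.mk P) = P := Ideal.mk_ker
  have hcm : ∀ I : Ideal A, P ≤ I →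
      Ideal.comap (Ideal.Quotient.mk P) (Ideal.map (Ideal.Quotient.mk P) I) = I := by
    intro I hI
    rw [Ideal.comap_map_of_surjective _ hsurj, ← RingHom.ker_eq_comap_bot, hker,
      sup_eq_left.mpr hI]
  have hnot0 : ¬ ringKrullDim (A ⧸ P) ≤ 0 := by
    intro h0
    have hK : Ring.KrullDimLE 0 (A ⧸ P) := Ring.krullDimLE_iff.mpr (by exact_mod_cast h0)
    have hbot : (⊥ : Ideal (A ⧸ P)).IsMaximal :=
      Ring.krullDimLE_zero_iff.mp hK ⊥ Ideal.isPrime_bot
    have hPmax : P.IsMaximal := by
      have := Ideal.comap_isMaximal_of_surjective (Ideal.Quotient.mk P) hsurj (K := ⊥)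
      rwa [← RingHom.ker_eq_comap_bot, hker] at this
    exact hPm (IsLocalRing.eq_maximalIdeal hPmax)
  have hdim : ringKrullDim (A ⧸ P) = 1 ↔ Ring.KrullDimLE 1 (A ⧸ P) := by
    rw [Ring.krullDimLE_iff, Nat.cast_one]
    exact ⟨fun h => h.le, fun h => eq_one_of_le_of_not_le _ h hnot0⟩
  rw [hdim, Ring.krullDimLE_one_iff_of_noZeroDivisors]
  constructor
  · intro h q hq hPq
    have hI : (Ideal.map (Ideal.Quotient.mk P) q).IsPrime :=
      Ideal.map_isPrime_of_surjective hsurj (hker.trans_le hPq.le)
    have hI0 : Ideal.map (Ideal.Quotient.mk P) q ≠ ⊥ := by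
      intro h0
      have := hcm q hPq.le
      rw [h0, ← RingHom.ker_eq_comap_bot, hker] at this
      exact absurd this.symm.le (not_le_of_gt hPq)
    have hmax := h _ hI0 hI
    have : (Ideal.comap (Ideal.Quotient.mk P) (Ideal.map (Ideal.Quotient.mk P) q)).IsMaximal :=
      Ideal.comap_isMaximal_of_surjective (Ideal.Quotient.mk P) hsurj
    rw [hcm q hPq.le] at this
    exact IsLocalRing.eq_maximalIdeal this
  · intro h I hI0 hI
    have hq : (Ideal.comap (Ideal.Quotient.mk P) I).IsPrime := Ideal.comap_isPrime _ I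
    have hple : P ≤ Ideal.comap (Ideal.Quotient.mk P) I := by
      refine hker.symm.le.trans ?_
      rw [RingHom.ker_eq_comap_bot]; exact Ideal.comap_mono bot_le
    have hpne : P ≠ Ideal.comap (Ideal.Quotient.mk P) I := by
      intro h'
      apply hI0
      rw [← Ideal.map_comap_of_surjective _ hsurj I, ← h', Ideal.map_quotient_self]
    have hqm := h _ hq (lt_of_le_of_ne hple hpne)
    have hmax : (Ideal.comap (Ideal.Quotient.mk P) I).IsMaximal := by
      rw [hqm]; infer_instance
    rcases Ideal.map_eq_top_or_isMaximal_of_surjective (Ideal.Quotient.mk P) hsurj hmax with h' | h'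
    · rw [Ideal.map_comap_of_surjective _ hsurj I] at h'
      exact absurd h' hI.ne_top
    · rwa [Ideal.map_comap_of_surjective _ hsurj I] at h'

/-- Let A be a Noetherian local ring with maximal ideal m and let Y be the punctured spectrum Spec A ∖
{m}. Then Y is a Jacobson space, and a point p of Y is closed in Y if and only if dim A/p = 1. -/
theorem result (A : Type u) [CommRing A] [IsNoetherianRing A] [IsLocalRing A] :
    JacobsonSpace ↥({IsLocalRing.closedPoint A}ᶜ : Set (PrimeSpectrum A)) ∧
      ∀ p : ↥({IsLocalRing.closedPoint A}ᶜ : Set (PrimeSpectrum A)),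
        IsClosed ({p} : Set ↥({IsLocalRing.closedPoint A}ᶜ : Set (PrimeSpectrum A))) ↔
          ringKrullDim (A ⧸ p.1.asIdeal) = 1 := by
  constructor
  · refine Groth.Agent.H17.JacobsonCompl.jacobsonSpace_compl (X := PrimeSpectrum A)
      (fun x => ⟨A, inferInstance, inferInstance, id, Topology.IsOpenEmbedding.id, ⟨x, rfl⟩⟩) _
      (IsLocalRing.isClosed_singleton_closedPoint A) ?_
    rintro Z hZ ⟨x, hx⟩
    exact ⟨IsLocalRing.closedPoint A,
      (IsLocalRing.specializes_closedPoint x).mem_closed hZ hx, rfl⟩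
  · intro p
    have hPm : p.1.asIdeal ≠ IsLocalRing.maximalIdeal A := fun h => p.2 (PrimeSpectrum.ext h)
    rw [dim_quotient_eq_one_iff A p.1.asIdeal hPm, ← closure_subset_iff_isClosed]
    constructor
    · intro h q hq hPq
      by_contra hqm
      have hqU : (⟨q, hq⟩ : PrimeSpectrum A) ∈
          ({IsLocalRing.closedPoint A}ᶜ : Set (PrimeSpectrum A)) :=
        fun h' => hqm (congrArg PrimeSpectrum.asIdeal h')
      have hmem : (⟨⟨q, hq⟩, hqU⟩ : ↥({IsLocalRing.closedPoint A}ᶜ : Set (PrimeSpectrum A))) ∈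
          closure {p} := by
        rw [closure_subtype, Set.image_singleton, ← PrimeSpectrum.le_iff_mem_closure]
        exact hPq.le
      have h2 := Set.mem_singleton_iff.mp (h hmem)
      have h3 : q = p.1.asIdeal := congrArg (fun t => t.1.asIdeal) h2
      exact absurd h3.le (not_le_of_gt hPq)
    · intro h t ht
      rw [closure_subtype, Set.image_singleton, ← PrimeSpectrum.le_iff_mem_closure] at ht
      rw [Set.mem_singleton_iff]
      by_contra hne
      have hlt : p.1.asIdeal < t.1.asIdeal :=
        lt_of_le_of_ne ht (fun e => hne (Subtype.ext (PrimeSpectrum.ext e.symm)))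
      exact t.2 (PrimeSpectrum.ext (h _ t.1.2 hlt))

end Groth.Agent.S3433
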