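import Groth.Statements.S3435
-- import your own Groth.Agent.* helpers here

set_option autoImplicit false
universe u
open EGA41
open scoped TensorProduct KaehlerDifferential

namespace Groth.Agent.S3435

open TensorProduct in
/-- Let Λ → A → B → C be ring homomorphisms. The homomorphism Ω_{B/Λ} ⊗_B C → Ω_{B/A} ⊗_B C maps the
imperfection module Υ_{C/B/Λ} (the kernel of Ω_{B/Λ} ⊗_B C → Ω_{C/Λ}) onto the imperfection module
Υ_{C/B/A} (the kernel of Ω_{B/A} ⊗_B C → Ω_{C/A}): every element of Υ_{C/B/A} is the image of some
element of Υ_{C/B/Λ}. -/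
theorem result (Λ A B C : Type u) [CommRing Λ] [CommRing A] [CommRing B] [CommRing C]
    [Algebra Λ A] [Algebra Λ B] [Algebra Λ C] [Algebra A B] [Algebra A C] [Algebra B C]
    [IsScalarTower Λ A B] [IsScalarTower Λ A C] [IsScalarTower Λ B C] [IsScalarTower A B C] :
    ∀ ω ∈ EGA41.imperfection A B C, ∃ η ∈ EGA41.imperfection Λ B C,
      (KaehlerDifferential.map Λ A B B).baseChange C η = ω := by
  intro ω hω
  have hω' : KaehlerDifferential.mapBaseChange A B C ω = 0 := hω
  -- surjectivity of the base-changed map
  have hsurj : Function.Surjective ((KaehlerDifferential.map Λ A B B).baseChange C) := by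
    rw [LinearMap.baseChange_eq_ltensor]
    exact LinearMap.lTensor_surjective _ (KaehlerDifferential.map_surjective Λ A B)
  -- compatibility on generators
  have hgen : ∀ y : Ω[B⁄Λ], KaehlerDifferential.map A A B C (KaehlerDifferential.map Λ A B B y) =
      KaehlerDifferential.map Λ A C C (KaehlerDifferential.map Λ Λ B C y) := by
    intro y
    have hy : y ∈ Submodule.span B (Set.range (KaehlerDifferential.D Λ B)) := by
      rw [KaehlerDifferential.span_range_derivation]; trivial
    induction hy using Submodule.span_induction with
    | mem x hx =>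
      obtain ⟨b, rfl⟩ := hx
      simp
    | zero => simp
    | add x y _ _ hx hy => simp only [map_add, hx, hy]
    | smul b x _ hx =>
      have h1 : KaehlerDifferential.map Λ A B B (b • x) = b • KaehlerDifferential.map Λ A B B x :=
        map_smul _ _ _
      have h2 : KaehlerDifferential.map Λ Λ B C (b • x) =
          (algebraMap B C b) • KaehlerDifferential.map Λ Λ B C x := by
        rw [map_smul, algebraMap_smul]
      rw [h1, h2, map_smul, hx, map_smul, algebraMap_smul]
  have hcomm : ∀ η : C ⊗[B] Ω[B⁄Λ],
      KaehlerDifferential.mapBaseChange A B C ((KaehlerDifferential.map Λ A B B).baseChange C η) =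
        KaehlerDifferential.map Λ A C C (KaehlerDifferential.mapBaseChange Λ B C η) := by
    intro η
    induction η using TensorProduct.induction_on with
    | zero => simp
    | tmul c y =>
      rw [LinearMap.baseChange_tmul, KaehlerDifferential.mapBaseChange_tmul,
        KaehlerDifferential.mapBaseChange_tmul, map_smul, hgen]
    | add x y hx hy => simp only [map_add, hx, hy]
  obtain ⟨η₀, hη₀⟩ := hsurj ω
  set ζ := KaehlerDifferential.mapBaseChange Λ B C η₀ with hζ
  have hζ0 : KaehlerDifferential.map Λ A C C ζ = 0 := by
    rw [hζ, ← hcomm, hη₀, hω']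
  have hζr : ζ ∈ LinearMap.range (KaehlerDifferential.mapBaseChange Λ A C) := by
    rw [KaehlerDifferential.range_mapBaseChange]
    exact hζ0
  -- the range is contained in the image of the kernel
  let N : Submodule C Ω[C⁄Λ] :=
    (LinearMap.ker ((KaehlerDifferential.map Λ A B B).baseChange C)).map
      (KaehlerDifferential.mapBaseChange Λ B C)
  have hN : ∀ y : Ω[A⁄Λ], KaehlerDifferential.map Λ Λ A C y ∈ N := by
    intro y
    have hy : y ∈ Submodule.span A (Set.range (KaehlerDifferential.D Λ A)) := by
      rw [KaehlerDifferential.span_range_derivation]; trivial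
    induction hy using Submodule.span_induction with
    | mem x hx =>
      obtain ⟨a, rfl⟩ := hx
      refine ⟨(1 : C) ⊗ₜ[B] KaehlerDifferential.D Λ B (algebraMap A B a), ?_, ?_⟩
      · simp only [SetLike.mem_coe, LinearMap.mem_ker, LinearMap.baseChange_tmul,
          KaehlerDifferential.map_D, Algebra.algebraMap_self, RingHom.id_apply]
        rw [Derivation.map_algebraMap, TensorProduct.tmul_zero]
      · rw [KaehlerDifferential.mapBaseChange_tmul, one_smul, KaehlerDifferential.map_D,
          KaehlerDifferential.map_D, ← IsScalarTower.algebraMap_apply]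
    | zero => rw [map_zero]; exact N.zero_mem
    | add x y _ _ hx hy => rw [map_add]; exact N.add_mem hx hy
    | smul a x _ hx =>
      rw [map_smul, ← algebraMap_smul C a]
      exact N.smul_mem _ hx
  have hrange : LinearMap.range (KaehlerDifferential.mapBaseChange Λ A C) ≤ N := by
    rintro _ ⟨x, rfl⟩
    induction x using TensorProduct.induction_on with
    | zero => rw [map_zero]; exact N.zero_mem
    | tmul c y =>
      rw [KaehlerDifferential.mapBaseChange_tmul]
      exact N.smul_mem _ (hN y)
    | add x y hx hy => rw [map_add]; exact N.add_mem hx hy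
  obtain ⟨θ, hθker, hθ⟩ := hrange hζr
  refine ⟨η₀ - θ, ?_, ?_⟩
  · change KaehlerDifferential.mapBaseChange Λ B C (η₀ - θ) = 0
    rw [map_sub, hθ, ← hζ, sub_self]
  · rw [map_sub, hη₀, LinearMap.mem_ker.mp hθker, sub_zero]

end Groth.Agent.S3435
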