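import Groth.Statements.S3436
import Groth.Agent.H14.AdicSmooth
import Mathlib

set_option autoImplicit false
open CategoryTheory AlgebraicGeometry
universe u
open EGA42

namespace Groth.Agent.S3436


open Groth.Agent.H14 IsLocalRing


/-- Let X and Y be locally Noetherian schemes, f : X ⟶ Y locally of finite type, x a point of X and y =
f x; give O_{X,x} the O_{Y,y}-algebra structure coming from f. Then O_{X,x} is formally smooth over
O_{Y,y} for the adic topologies of the two local rings (topologies defined by the maximal ideals) if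
and only if it is formally smooth for the discrete topologies. -/
theorem result {X Y : Scheme.{u}} [IsLocallyNoetherian X] [IsLocallyNoetherian Y]
    (f : X ⟶ Y) [LocallyOfFiniteType f] (x : X) :
    letI : Algebra (Y.presheaf.stalk (f.base x)) (X.presheaf.stalk x) := (f.stalkMap x).hom.toAlgebra
    EGA41.IsFormallySmoothAdic (Y.presheaf.stalk (f.base x)) (IsLocalRing.maximalIdeal (Y.presheaf.stalk (f.base x)))
        (X.presheaf.stalk x) (IsLocalRing.maximalIdeal (X.presheaf.stalk x)) ↔
      Algebra.FormallySmooth (Y.presheaf.stalk (f.base x)) (X.presheaf.stalk x) := by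
  letI alg : Algebra (Y.presheaf.stalk (f.base x)) (X.presheaf.stalk x) :=
    (f.stalkMap x).hom.toAlgebra
  change EGA41.IsFormallySmoothAdic (Y.presheaf.stalk (f.base x))
      (IsLocalRing.maximalIdeal (Y.presheaf.stalk (f.base x)))
      (X.presheaf.stalk x) (IsLocalRing.maximalIdeal (X.presheaf.stalk x)) ↔
    Algebra.FormallySmooth (Y.presheaf.stalk (f.base x)) (X.presheaf.stalk x)
  constructor
  · intro h
    obtain ⟨_, ⟨U, hU, rfl⟩, hxU, -⟩ :=
      Y.isBasis_affineOpens.exists_subset_of_mem_open (Set.mem_univ (f x)) isOpen_univ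
    obtain ⟨_, ⟨V, hV, rfl⟩, hxV, hVU0⟩ :=
      X.isBasis_affineOpens.exists_subset_of_mem_open hxU (U.2.preimage f.continuous)
    have hVU : V ≤ f ⁻¹ᵁ U := hVU0
    haveI : IsNoetherianRing Γ(Y, U) := IsLocallyNoetherian.component_noetherian ⟨U, hU⟩
    have hft := f.finiteType_appLE hU hV hVU
    letI := (f.appLE U V hVU).hom.toAlgebra
    haveI : Algebra.FiniteType Γ(Y, U) Γ(X, V) := hft
    letI := Y.presheaf.algebra_section_stalk ⟨f x, hxU⟩
    haveI := hU.isLocalization_stalk ⟨f x, hxU⟩
    letI := X.presheaf.algebra_section_stalk ⟨x, hxV⟩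
    haveI := hV.isLocalization_stalk ⟨x, hxV⟩
    letI : Algebra Γ(Y, U) (X.presheaf.stalk x) :=
      ((algebraMap Γ(X, V) (X.presheaf.stalk x)).comp (algebraMap Γ(Y, U) Γ(X, V))).toAlgebra
    haveI : IsScalarTower Γ(Y, U) Γ(X, V) (X.presheaf.stalk x) :=
      IsScalarTower.of_algebraMap_eq fun _ => rfl
    haveI : IsScalarTower Γ(Y, U) (Y.presheaf.stalk (f x)) (X.presheaf.stalk x) :=
      IsScalarTower.of_algebraMap_eq fun a => by
        change X.presheaf.germ V x hxV ((f.appLE U V hVU).hom a) =
          (f.stalkMap x).hom (Y.presheaf.germ U (f x) hxU a)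
        have h1 := Scheme.Hom.germ_stalkMap_apply f U x hxU a
        have h2 : (f.appLE U V hVU).hom a = X.presheaf.map (homOfLE hVU).op ((f.app U).hom a) := rfl
        rw [h2]
        have h3 := TopCat.Presheaf.germ_res_apply X.presheaf (homOfLE hVU) x hxV ((f.app U).hom a)
        exact h3.trans h1.symm
    have h1 : CAlgX.IsAdicFormallySmooth (Y.presheaf.stalk (f x)) (X.presheaf.stalk x)
        (maximalIdeal (X.presheaf.stalk x)) := by
      intro E _ _ N hN ψ hψ
      refine h E N ⟨2, hN⟩ ?_ ψ hψ
      obtain ⟨k, hk⟩ := hψ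
      refine ⟨k * 2, ?_⟩
      have hle : (maximalIdeal (Y.presheaf.stalk (f x)) ^ k).map (algebraMap _ E) ≤ N := by
        rw [Ideal.map_le_iff_le_comap]
        intro a ha
        rw [Ideal.mem_comap, ← Ideal.Quotient.eq_zero_iff_mem]
        have h3 : Ideal.Quotient.mk N (algebraMap _ E a) =
            ψ (algebraMap (Y.presheaf.stalk (f x)) (X.presheaf.stalk x) a) := by
          rw [ψ.commutes]
          rfl
        rw [h3]
        apply hk
        have h4 : (maximalIdeal (Y.presheaf.stalk (f x)) ^ k).map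
            (algebraMap (Y.presheaf.stalk (f x)) (X.presheaf.stalk x)) ≤
            maximalIdeal (X.presheaf.stalk x) ^ k := by
          rw [Ideal.map_pow]
          apply Ideal.pow_right_mono
          haveI : IsLocalHom (algebraMap (Y.presheaf.stalk (f x)) (X.presheaf.stalk x)) :=
            inferInstanceAs (IsLocalHom (f.stalkMap x).hom)
          exact map_maximalIdeal_le _
        exact h4 (Ideal.mem_map_of_mem _ ha)
      rw [pow_mul, Ideal.map_pow, eq_bot_iff, ← hN]
      exact Ideal.pow_right_mono hle 2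
    have h2 := isAdicFormallySmooth_of_isLocalization (A := Γ(Y, U))
      (hU.primeIdealOf ⟨f x, hxU⟩).asIdeal.primeCompl _ h1
    obtain ⟨n, π, hπ⟩ := Algebra.FiniteType.iff_quotient_mvPolynomial''.mp hft
    letI : Algebra (MvPolynomial (Fin n) Γ(Y, U)) Γ(X, V) := π.toRingHom.toAlgebra
    haveI : IsScalarTower Γ(Y, U) (MvPolynomial (Fin n) Γ(Y, U)) Γ(X, V) :=
      IsScalarTower.of_algebraMap_eq fun a => (π.commutes a).symm
    haveI : Algebra.FormallySmooth Γ(Y, U) (X.presheaf.stalk x) :=
      formallySmooth_of_isAdicFormallySmooth_of_isLocalization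
        (B := MvPolynomial (Fin n) Γ(Y, U)) hπ (hV.primeIdealOf ⟨x, hxV⟩).asIdeal
        (X.presheaf.stalk x) h2
    haveI : Algebra.FormallyUnramified Γ(Y, U) (Y.presheaf.stalk (f x)) :=
      Algebra.FormallyUnramified.of_isLocalization
        (hU.primeIdealOf ⟨f x, hxU⟩).asIdeal.primeCompl
    exact Algebra.FormallySmooth.of_restrictScalars Γ(Y, U) _ _
  · intro h C _ _ J hJ _ u _
    exact ⟨Algebra.FormallySmooth.lift J hJ u, Algebra.FormallySmooth.comp_lift J hJ u⟩

end Groth.Agent.S3436
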