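import Groth.Statements.S3437
import Mathlib
import Groth.Agent.H9.CMCons

set_option linter.style.haveILetI false

set_option autoImplicit false
open CategoryTheory AlgebraicGeometry
universe u
open EGA43

namespace Groth.Agent.S3437


open Groth.Agent.H9.CMCons

theorem result' {X S : Scheme.{u}} (f : X ⟶ S)
    [LocallyOfFinitePresentation f] [QuasiCompact f] [QuasiSeparated f] :
    Topology.IsLocallyConstructible {s : S |
      ∀ z : ↥(f.fiber s), LocCoh.IsCohenMacaulayLocalRing ((f.fiber s).presheaf.stalk z)} := by
  have hE := isLocallyConstructible_compl (main f)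
  have him := isLocallyConstructible_compl (f.isLocallyConstructible_image hE)
  convert him using 1
  ext s
  simp only [Set.mem_ofPred_eq, Set.mem_compl_iff, Set.mem_image, not_exists, not_and]
  constructor
  · intro h x hncm hx
    have hx' : x ∈ Set.range (f.fiberι s) := by
      rw [Scheme.Hom.range_fiberι]; exact hx
    obtain ⟨z, rfl⟩ := hx'
    exact hncm ((cm_fibre_stalk_iff f s z).mp (h z))
  · intro h z
    rw [cm_fibre_stalk_iff f s z]
    by_contra hncm
    have hz : f (f.fiberι s z) = s := by
      have : f.fiberι s z ∈ f ⁻¹' {s} := by
        rw [← Scheme.Hom.range_fiberι]; exact ⟨z, rfl⟩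
      exact this
    exact h (f.fiberι s z) hncm hz


/-- Let f : X ⟶ S be of finite presentation (locally of finite presentation, quasi-compact and
quasi-separated). Then the set of points s of S such that every local ring of the fibre X_s is
Cohen–Macaulay is locally constructible in S. -/
theorem result {X S : Scheme.{u}} (f : X ⟶ S)
    [LocallyOfFinitePresentation f] [QuasiCompact f] [QuasiSeparated f] :
    Topology.IsLocallyConstructible {s : S |
      ∀ z : ↥(f.fiber s), LocCoh.IsCohenMacaulayLocalRing ((f.fiber s).presheaf.stalk z)} := by
  exact result' f

end Groth.Agent.S3437
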