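import Groth.Statements.S3439
import Groth.Agent.H17.ProCons
import Mathlib.AlgebraicGeometry.Properties
-- import your own Groth.Agent.* helpers here

set_option autoImplicit false
open CategoryTheory AlgebraicGeometry
universe u
open EGA41

namespace Groth.Agent.S3439

/-- Let X be a quasi-compact scheme, E an ind-constructible subset of X and (F_i) a family of
pro-constructible subsets of X whose intersection is contained in E. Then there is a finite set J of
indices such that the intersection of the F_i for i in J is already contained in E. (Taking E = ∅: a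
family of pro-constructible subsets with empty intersection has a finite subfamily with empty
intersection.) -/
theorem result (X : Scheme.{u}) [CompactSpace X] (E : Set X)
    (hE : ProCons.IsIndConstructible E) {ι : Type u} (F : ι → Set X) (hF : ∀ i, ProCons.IsProConstructible (F i))
    (h : ⋂ i, F i ⊆ E) :
    ∃ J : Finset ι, ⋂ i ∈ J, F i ⊆ E := by
  classical
  let 𝒰 := X.affineCover.finiteSubcover
  have haff : ∀ k : 𝒰.I₀, IsAffine (𝒰.X k) := fun k => by
    dsimp [𝒰]; infer_instance
  have key : ∀ k : 𝒰.I₀, ∃ J : Finset ι, ⋂ i ∈ J, (𝒰.f k).base ⁻¹' F i ⊆ (𝒰.f k).base ⁻¹' E := by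
    intro k
    have := haff k
    apply H17.exists_finset_biInter_subset
    · intro i
      exact H17.isClosed_constructibleTopology_of_isProConstructible
        (H17.isProConstructible_preimage (hF i) (𝒰.f k).isOpenEmbedding)
    · exact H17.isOpen_constructibleTopology_of_isIndConstructible
        (H17.isIndConstructible_preimage hE (𝒰.f k).isOpenEmbedding)
    · rw [← Set.preimage_iInter]
      exact Set.preimage_mono h
  choose J hJ using key
  refine ⟨Finset.univ.biUnion J, ?_⟩
  intro x hx
  obtain ⟨k, w, rfl⟩ := 𝒰.exists_eq x
  apply hJ k
  simp only [Set.mem_iInter, Set.mem_preimage] at hx ⊢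
  intro i hi
  exact hx i (Finset.mem_biUnion.mpr ⟨k, Finset.mem_univ k, hi⟩)

end Groth.Agent.S3439
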