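import Groth.Statements.S3441
import Mathlib
-- import your own Groth.Agent.* helpers here

set_option autoImplicit false
universe u
open EGA41

namespace Groth.Agent.S3441

open TensorProduct

section

variable (A B C : Type u) [CommRing A] [CommRing B] [CommRing C]
  [Algebra A B] [Algebra B C] [Algebra A C] [IsScalarTower A B C]

/-- Property (P): every `A`-derivation of `B` into a `C`-module extends to `C`. -/
def ExtProp : Prop :=
  ∀ (N : Type u) [AddCommGroup N] [Module C N] [Module B N] [Module A N]
    [IsScalarTower B C N] [IsScalarTower A B N] [IsScalarTower A C N] (d : Derivation A B N),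
    ∃ D : Derivation A C N, ∀ b, D (algebraMap B C b) = d b

variable {A B C}

theorem extProp_of_leftInverse (l : Ω[C⁄A] →ₗ[C] C ⊗[B] Ω[B⁄A])
    (hl : l ∘ₗ KaehlerDifferential.mapBaseChange A B C = LinearMap.id) : ExtProp A B C := by
  intro N _ _ _ _ _ _ _ d
  let g : C ⊗[B] Ω[B⁄A] →ₗ[C] N := LinearMap.liftBaseChange C d.liftKaehlerDifferential
  refine ⟨(g ∘ₗ l).compDer (KaehlerDifferential.D A C), fun b => ?_⟩
  have h1 : KaehlerDifferential.D A C (algebraMap B C b) =
      KaehlerDifferential.mapBaseChange A B C (1 ⊗ₜ KaehlerDifferential.D A B b) := by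
    rw [KaehlerDifferential.mapBaseChange_tmul, one_smul, KaehlerDifferential.map_D]
  have h2 : l (KaehlerDifferential.mapBaseChange A B C (1 ⊗ₜ KaehlerDifferential.D A B b)) =
      1 ⊗ₜ KaehlerDifferential.D A B b := LinearMap.congr_fun hl _
  show g (l (KaehlerDifferential.D A C (algebraMap B C b))) = d b
  rw [h1, h2]
  show (LinearMap.liftBaseChange C d.liftKaehlerDifferential) (1 ⊗ₜ KaehlerDifferential.D A B b) = d b
  rw [LinearMap.liftBaseChange_tmul, one_smul, Derivation.liftKaehlerDifferential_comp_D]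

theorem leftInverse_of_extProp (h : ExtProp A B C) :
    ∃ l : Ω[C⁄A] →ₗ[C] C ⊗[B] Ω[B⁄A],
      l ∘ₗ KaehlerDifferential.mapBaseChange A B C = LinearMap.id := by
  let d : Derivation A B (C ⊗[B] Ω[B⁄A]) :=
    (TensorProduct.mk B C (Ω[B⁄A]) 1).compDer (KaehlerDifferential.D A B)
  obtain ⟨D, hD⟩ := h (C ⊗[B] Ω[B⁄A]) d
  refine ⟨D.liftKaehlerDifferential, ?_⟩
  have key : ∀ x : Ω[B⁄A],
      D.liftKaehlerDifferential (KaehlerDifferential.map A A B C x) = (1 : C) ⊗ₜ[B] x := by
    have := Derivation.liftKaehlerDifferential_unique (R := A) (S := B)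
      ((D.liftKaehlerDifferential.restrictScalars B) ∘ₗ (KaehlerDifferential.map A A B C))
      (TensorProduct.mk B C (Ω[B⁄A]) 1)
      (Derivation.ext fun b => by
        show D.liftKaehlerDifferential (KaehlerDifferential.map A A B C (KaehlerDifferential.D A B b))
          = (1 : C) ⊗ₜ[B] (KaehlerDifferential.D A B b)
        rw [KaehlerDifferential.map_D, Derivation.liftKaehlerDifferential_comp_D, hD]
        rfl)
    intro x
    exact LinearMap.congr_fun this x
  refine TensorProduct.AlgebraTensorModule.ext fun c x => ?_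
  show D.liftKaehlerDifferential (KaehlerDifferential.mapBaseChange A B C (c ⊗ₜ x)) = c ⊗ₜ x
  rw [KaehlerDifferential.mapBaseChange_tmul, map_smul, key, TensorProduct.smul_tmul', smul_eq_mul,
    mul_one]

section Tsze

variable {N : Type u} [AddCommGroup N] [Module C N] [Module B N] [Module A N]
  [IsScalarTower B C N] [IsScalarTower A B N] [IsScalarTower A C N]
  [Module Cᵐᵒᵖ N] [IsCentralScalar C N]

/-- The twisted ring hom `b ↦ (b, d b)`. -/
def twHom (d : Derivation A B N) : B →+* TrivSqZeroExt C N where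
  toFun b := TrivSqZeroExt.inl (algebraMap B C b) + TrivSqZeroExt.inr (d b)
  map_one' := by simp
  map_mul' x y := by
    apply TrivSqZeroExt.ext
    · simp
    · simp [algebraMap_smul, add_comm]
  map_zero' := by simp
  map_add' x y := by
    apply TrivSqZeroExt.ext
    · simp
    · simp

theorem deriv_of_ringHom (d : Derivation A B N) (w : C →+* TrivSqZeroExt C N)
    (ha : ∀ b, w (algebraMap B C b) = twHom d b) (hb : ∀ c, (w c).fst = c) :
    ∃ D : Derivation A C N, ∀ b, D (algebraMap B C b) = d b := by
  have hA : ∀ (a : A) (c : C), (w (a • c)).snd = a • (w c).snd := by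
    intro a c
    rw [Algebra.smul_def, map_mul, IsScalarTower.algebraMap_apply A B C, ha]
    simp only [twHom, RingHom.coe_mk, MonoidHom.coe_mk, OneHom.coe_mk, TrivSqZeroExt.snd_mul,
      TrivSqZeroExt.fst_add, TrivSqZeroExt.fst_inl, TrivSqZeroExt.fst_inr, add_zero,
      TrivSqZeroExt.snd_add, TrivSqZeroExt.snd_inl, TrivSqZeroExt.snd_inr, zero_add,
      Derivation.map_algebraMap, smul_zero]
    rw [← IsScalarTower.algebraMap_apply, algebraMap_smul]
  let Dl : C →ₗ[A] N :=
    { toFun := fun c => (w c).snd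
      map_add' := fun x y => by simp
      map_smul' := fun a c => by simpa using hA a c }
  refine ⟨Derivation.mk' Dl (fun x y => ?_), fun b => ?_⟩
  · show (w (x * y)).snd = x • (w y).snd + y • (w x).snd
    rw [map_mul, TrivSqZeroExt.snd_mul, hb, hb, op_smul_eq_smul]
  · show (w (algebraMap B C b)).snd = d b
    rw [ha]; simp [twHom]

end Tsze

theorem lift_of_FSRel (hFS : EGA41.IsFormallySmoothRel A B C)
    (N : Type u) [AddCommGroup N] [Module C N] [Module A N] [IsScalarTower A C N]
    [Module Cᵐᵒᵖ N] [IsCentralScalar C N]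
    (φ : B →+* TrivSqZeroExt C N) (hφ1 : ∀ b, (φ b).fst = algebraMap B C b)
    (hφ2 : ∀ a, φ (algebraMap A B a) = algebraMap A (TrivSqZeroExt C N) a) :
    ∃ w : C →+* TrivSqZeroExt C N, (∀ b, w (algebraMap B C b) = φ b) ∧ ∀ c, (w c).fst = c := by
  letI : Algebra B (TrivSqZeroExt C N) := φ.toAlgebra
  haveI : IsScalarTower A B (TrivSqZeroExt C N) :=
    IsScalarTower.of_algebraMap_eq (fun a => (hφ2 a).symm)
  let J : Ideal (TrivSqZeroExt C N) := TrivSqZeroExt.kerIdeal C N
  have hJ : J ^ 2 = ⊥ := TrivSqZeroExt.kerIdeal_sq C N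
  have hmemJ : ∀ x : TrivSqZeroExt C N, x ∈ J ↔ x.fst = 0 := fun x => by
    show x ∈ RingHom.ker _ ↔ _
    rw [RingHom.mem_ker]; rfl
  let u₀ : C →ₐ[B] TrivSqZeroExt C N ⧸ J :=
    { toRingHom := (Ideal.Quotient.mk J).comp (TrivSqZeroExt.inlHom C N)
      commutes' := fun b => by
        show Ideal.Quotient.mk J (TrivSqZeroExt.inl (algebraMap B C b)) =
          Ideal.Quotient.mk J (φ b)
        rw [Ideal.Quotient.eq, hmemJ]
        simp [hφ1] }
  obtain ⟨v, hv⟩ := hFS (TrivSqZeroExt C N) J hJ u₀
    ⟨TrivSqZeroExt.inlAlgHom A C N, AlgHom.ext fun c => rfl⟩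
  refine ⟨v.toRingHom, fun b => v.commutes b, fun c => ?_⟩
  have h1 := DFunLike.congr_fun hv c
  have h2 : Ideal.Quotient.mk J (v c) = Ideal.Quotient.mk J (TrivSqZeroExt.inl c) := h1
  rw [Ideal.Quotient.eq, hmemJ] at h2
  simpa [sub_eq_zero] using h2

theorem extProp_of_fsrel (hFS : EGA41.IsFormallySmoothRel A B C) : ExtProp A B C := by
  intro N _ _ _ _ _ _ _ d
  letI : Module Cᵐᵒᵖ N := Module.compHom N ((RingHom.id C).fromOpposite mul_comm)
  haveI : IsCentralScalar C N := ⟨fun _ _ => rfl⟩
  obtain ⟨w, hw1, hw2⟩ := lift_of_FSRel hFS N (twHom d) (fun b => by simp [twHom])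
    (fun a => by
      simp [twHom, TrivSqZeroExt.algebraMap_eq_inl', ← IsScalarTower.algebraMap_apply])
  exact deriv_of_ringHom d w hw1 hw2

theorem fsrel_of_extProp (h : ExtProp A B C) : EGA41.IsFormallySmoothRel A B C := by
  intro C' _ _ _ _ J hJ u₀ ⟨u, hu⟩
  letI algC : Algebra C C' := u.toRingHom.toAlgebra
  have algC_def : ∀ c : C, algebraMap C C' c = u c := fun c => rfl
  haveI : IsScalarTower A C C' := IsScalarTower.of_algebraMap_eq (fun a => (u.commutes a).symm)
  have hub : ∀ b : B, u (algebraMap B C b) - algebraMap B C' b ∈ J := by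
    intro b
    rw [← Ideal.Quotient.eq]
    have h1 := DFunLike.congr_fun hu (algebraMap B C b)
    have h2 : Ideal.Quotient.mk J (u (algebraMap B C b)) = u₀ (algebraMap B C b) := h1
    rw [h2, u₀.commutes]; rfl
  have hJJ : ∀ x ∈ J, ∀ y ∈ J, x * y = 0 := by
    intro x hx y hy
    have : x * y ∈ J ^ 2 := by rw [pow_two]; exact Ideal.mul_mem_mul hx hy
    rwa [hJ, Ideal.mem_bot] at this
  haveI : IsScalarTower B C J := ⟨fun b c j => by
    apply Subtype.ext
    have key := hJJ _ (hub b) _ (J.mul_mem_left (u c) j.2)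
    simp only [Submodule.coe_smul_of_tower]
    rw [Algebra.smul_def (b • c) (j : C'), Algebra.smul_def b (c • (j : C')),
      Algebra.smul_def c (j : C'), algC_def, algC_def, Algebra.smul_def b c, map_mul]
    linear_combination key⟩
  have e : (Ideal.Quotient.mkₐ A J).comp (u.comp (IsScalarTower.toAlgHom A B C)) =
      IsScalarTower.toAlgHom A B (C' ⧸ J) := by
    ext b
    exact Ideal.Quotient.eq.mpr (hub b)
  let δ : Derivation A B J :=
    derivationToSquareZeroOfLift J hJ (u.comp (IsScalarTower.toAlgHom A B C)) e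
  have hδ : ∀ b, (δ b : C') = u (algebraMap B C b) - algebraMap B C' b := fun b => rfl
  obtain ⟨D, hD⟩ := h J δ
  let v₀ : C →ₐ[A] C' := liftOfDerivationToSquareZero J hJ (-D)
  have hv₀ : ∀ c, v₀ c = - (D c : C') + u c := fun c => rfl
  refine ⟨{ toRingHom := v₀.toRingHom, commutes' := fun b => ?_ }, ?_⟩
  · show v₀ (algebraMap B C b) = algebraMap B C' b
    rw [hv₀, hD, hδ]; ring
  · ext c
    show Ideal.Quotient.mk J (v₀ c) = u₀ c
    have h1 : Ideal.Quotient.mk J (u c) = u₀ c := DFunLike.congr_fun hu c
    rw [← h1, hv₀, Ideal.Quotient.eq]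
    have : -(D c : C') + u c - u c = -(D c : C') := by ring
    rw [this]
    exact J.neg_mem (D c).2

end

/-- Let A → B → C be ring homomorphisms. The canonical C-linear map Ω_{B/A} ⊗_B C → Ω_{C/A} is left
invertible (has a C-linear left inverse) if and only if C is a formally smooth B-algebra relative to
A for the discrete topologies: every B-algebra homomorphism from C to a quotient C'/J of a B-algebra
C' by an ideal J of square zero that lifts to C' as an A-algebra homomorphism also lifts to C' as a
B-algebra homomorphism. (The published definition of relative formal smoothness tests every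
nilpotent ideal J; its reduction to ideals of square zero does not carry over to the relative
setting, and the square-zero form, which is what the published proof of this statement uses, is the
one taken here.) -/
theorem result (A B C : Type u) [CommRing A] [CommRing B]
    [CommRing C] [Algebra A B] [Algebra B C] [Algebra A C] [IsScalarTower A B C] :
    (∃ l : Ω[C⁄A] →ₗ[C] C ⊗[B] Ω[B⁄A], l ∘ₗ KaehlerDifferential.mapBaseChange A B C = LinearMap.id) ↔
      EGA41.IsFormallySmoothRel A B C := by
  constructor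
  · rintro ⟨l, hl⟩
    exact fsrel_of_extProp (extProp_of_leftInverse l hl)
  · intro h
    exact leftInverse_of_extProp (extProp_of_fsrel h)

end Groth.Agent.S3441
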