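import Groth.Statements.S3460


set_option autoImplicit false
open CategoryTheory AlgebraicGeometry
universe u
open EGA43

namespace Groth.Agent.S3460


open CategoryTheory CategoryTheory.Limits AlgebraicGeometry

theorem isIso_ι_preimage {X Y : Scheme.{u}} (f : X ⟶ Y) (U : Y.Opens)
    (h : ∀ x : X, f.base x ∈ U) : IsIso (f ⁻¹ᵁ U).ι := by
  rw [isIso_iff_isOpenImmersion_and_epi_base]
  refine ⟨inferInstance, ?_⟩
  rw [TopCat.epi_iff_surjective]
  intro x
  exact ⟨⟨x, h x⟩, rfl⟩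

theorem isProper_restrict_of_fac {X Y : Scheme.{u}} (f : X ⟶ Y) (U : Y.Opens)
    (q : X ⟶ U.toScheme) [IsProper q] (hq : q ≫ U.ι = f) :
    (∀ x : X, f.base x ∈ U) ∧ IsProper (f ∣_ U) := by
  have hmem : ∀ x : X, f.base x ∈ U := by
    intro x
    rw [← hq, Scheme.Hom.comp_apply, Scheme.Opens.ι_apply]
    exact (q x).2
  refine ⟨hmem, ?_⟩
  haveI := isIso_ι_preimage f U hmem
  have h1 : f ∣_ U = (f ⁻¹ᵁ U).ι ≫ q := by
    rw [← cancel_mono U.ι, morphismRestrict_ι, Category.assoc, hq]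
  rw [h1]
  exact (MorphismProperty.cancel_left_of_respectsIso @IsProper (f ⁻¹ᵁ U).ι q).mpr inferInstance


/-- Let Y be locally Noetherian and f : X ⟶ Y of finite type. Then there exist a scheme Z, a proper
morphism g : X ⟶ Z and an immersion h : Z ⟶ Y with f = g ≫ h if and only if f is proper at every
point of f(X), i.e. every point of f(X) has an open neighbourhood U in Y over which the restriction
of f is proper. -/
theorem result {X Y : Scheme.{u}} [IsLocallyNoetherian Y]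
    (f : X ⟶ Y) [LocallyOfFiniteType f] [QuasiCompact f] :
    (∃ (Z : Scheme.{u}) (g : X ⟶ Z) (h : Z ⟶ Y), IsProper g ∧ IsImmersion h ∧ g ≫ h = f) ↔
      ∀ x : X, ∃ U : Y.Opens, f.base x ∈ U ∧ IsProper (f ∣_ U) := by

  constructor
  · rintro ⟨Z, g, h, hg, hh, hfac⟩ x
    haveI := hg
    haveI := hh
    have key := isProper_restrict_of_fac f h.coborderRange (g ≫ h.liftCoborder)
      (by rw [Category.assoc, h.liftCoborder_ι, hfac])
    exact ⟨h.coborderRange, key.1 x, key.2⟩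
  · intro hloc
    choose U hU hprop using hloc
    obtain ⟨W, hWdef⟩ : ∃ W : Y.Opens, W = ⨆ x, U x := ⟨_, rfl⟩
    have hle : ∀ x : X, U x ≤ W := fun x => hWdef ▸ le_iSup U x
    have hmem : ∀ x : X, f.base x ∈ W := fun x => hle x (hU x)
    haveI := isIso_ι_preimage f W hmem
    have hsup : ⨆ x, W.ι ⁻¹ᵁ U x = ⊤ := by
      rw [← Scheme.Hom.preimage_iSup, ← hWdef]
      exact W.ι_preimage_self
    have hW : IsProper (f ∣_ W) := by
      rw [IsZariskiLocalAtTarget.iff_of_iSup_eq_top (P := @IsProper) (fun x => W.ι ⁻¹ᵁ U x) hsup]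
      intro x
      have e : W.ι ''ᵁ (W.ι ⁻¹ᵁ U x) = U x := by
        rw [Scheme.Hom.image_preimage_eq_opensRange_inf, Scheme.Opens.opensRange_ι]
        exact inf_eq_right.mpr (hle x)
      exact (MorphismProperty.arrow_mk_iso_iff @IsProper
        (morphismRestrictRestrict f W (W.ι ⁻¹ᵁ U x) ≪≫ morphismRestrictEq f e)).mpr (hprop x)
    refine ⟨W.toScheme, inv (f ⁻¹ᵁ W).ι ≫ (f ∣_ W), W.ι, ?_, inferInstance, ?_⟩
    · exact (MorphismProperty.cancel_left_of_respectsIso @IsProper (inv (f ⁻¹ᵁ W).ι)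
        (f ∣_ W)).mpr hW
    · rw [Category.assoc, morphismRestrict_ι, IsIso.inv_hom_id_assoc]

end Groth.Agent.S3460
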