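import Groth.Statements.S3473
import Groth.Agent.S3047
import Groth.Agent.H4.ClosedSets
import Groth.Agent.H4.SuppClosed2
import Groth.Agent.H4.StalkPull2
import Groth.Agent.H4.EtaleRes
import Groth.Prelude.Def_EtGm

set_option autoImplicit false
universe u
open CategoryTheory CategoryTheory.Limits AlgebraicGeometry Opposite
open EtAcyc

namespace Groth.Agent.S3473

open Groth.Agent.H4 GrothendieckTopology

theorem exists_notMem_of_notMem_range {A B : Type*} [CommRing A] [CommRing B] (φ : A →+* B)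
    (p : PrimeSpectrum A) (hp : p ∉ Set.range (PrimeSpectrum.comap φ)) :
    ∃ a : A, a ∉ p.asIdeal ∧ ∀ q : PrimeSpectrum B,
      p.asIdeal ≤ (PrimeSpectrum.comap φ q).asIdeal → a ∈ (PrimeSpectrum.comap φ q).asIdeal := by
  rw [PrimeSpectrum.mem_range_comap_iff] at hp
  have hle : p.asIdeal ≤ Ideal.comap φ (Ideal.map φ p.asIdeal) := Ideal.le_comap_map
  have hne : ¬ (Ideal.comap φ (Ideal.map φ p.asIdeal) ≤ p.asIdeal) :=
    fun h => hp (le_antisymm h hle)
  obtain ⟨a, ha1, ha2⟩ := SetLike.not_le_iff_exists.1 hne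
  refine ⟨a, ha2, fun q hq => ?_⟩
  have h1 : Ideal.map φ p.asIdeal ≤ q.asIdeal :=
    (Ideal.map_mono hq).trans Ideal.map_comap_le
  exact h1 ha1

theorem exists_basicOpen_avoiding {X Y : Scheme.{u}} (g : X ⟶ Y) (y : Y)
    (hy : y ∉ Set.range g.base)
    (W₀ : Y.Opens) (hW₀ : IsAffineOpen W₀) (hyW₀ : y ∈ W₀) (X' : X.Opens) (hX' : IsAffineOpen X')
    (hle : X' ≤ g ⁻¹ᵁ W₀) :
    ∃ a : Γ(Y, W₀), y ∈ Y.basicOpen a ∧
      ∀ x : X, x ∈ X' → y ⤳ g.base x → g.base x ∉ Y.basicOpen a := by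
  have hsq : Spec.map (g.appLE W₀ X' hle) ≫ hW₀.fromSpec = hX'.fromSpec ≫ g :=
    IsAffineOpen.SpecMap_appLE_fromSpec g hW₀ hX' hle
  obtain ⟨p, hp⟩ : ∃ p : Spec Γ(Y, W₀), hW₀.fromSpec.base p = y := by
    have h0 : y ∈ Set.range hW₀.fromSpec.base := by
      rw [hW₀.range_fromSpec]
      exact hyW₀
    exact h0
  have hcomp : ∀ q : Spec Γ(X, X'), g.base (hX'.fromSpec.base q) =
      hW₀.fromSpec.base (PrimeSpectrum.comap (g.appLE W₀ X' hle).hom q) := fun q =>
    (congrArg (fun m : Spec Γ(X, X') ⟶ Y => m.base q) hsq).symm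
  have hpr : p ∉ Set.range (PrimeSpectrum.comap (g.appLE W₀ X' hle).hom) := by
    rintro ⟨q, hq⟩
    apply hy
    refine ⟨hX'.fromSpec.base q, ?_⟩
    rw [hcomp q, hq, hp]
  obtain ⟨a, ha1, ha2⟩ := exists_notMem_of_notMem_range (g.appLE W₀ X' hle).hom p hpr
  refine ⟨a, ?_, ?_⟩
  · have h1 : p ∈ hW₀.fromSpec ⁻¹ᵁ Y.basicOpen a := by
      rw [hW₀.fromSpec_preimage_basicOpen]
      exact ha1
    rw [← hp]
    exact h1
  · intro x hxX' hspec hxa
    obtain ⟨q, hq⟩ : ∃ q : Spec Γ(X, X'), hX'.fromSpec.base q = x := by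
      have h0 : x ∈ Set.range hX'.fromSpec.base := by
        rw [hX'.range_fromSpec]
        exact hxX'
      exact h0
    have hgx : g.base x =
        hW₀.fromSpec.base (PrimeSpectrum.comap (g.appLE W₀ X' hle).hom q) := by
      rw [← hq]
      exact hcomp q
    rw [hgx, ← hp] at hspec
    have hspec' : p ⤳ PrimeSpectrum.comap (g.appLE W₀ X' hle).hom q :=
      (hW₀.fromSpec.isOpenEmbedding.isInducing.specializes_iff).1 hspec
    have hmem := ha2 q ((PrimeSpectrum.asIdeal_le_asIdeal _ _).2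
      ((PrimeSpectrum.le_iff_specializes _ _).2 hspec'))
    rw [hgx] at hxa
    have h2 : PrimeSpectrum.comap (g.appLE W₀ X' hle).hom q ∈
        hW₀.fromSpec ⁻¹ᵁ Y.basicOpen a := hxa
    rw [hW₀.fromSpec_preimage_basicOpen] at h2
    exact h2 hmem

theorem exists_open_avoiding {X Y : Scheme.{u}} (g : X ⟶ Y) [QuasiCompact g] (y : Y)
    (hy : y ∉ Set.range g.base) :
    ∃ W : Y.Opens, y ∈ W ∧ ∀ x : X, g.base x ∈ W → ¬ (y ⤳ g.base x) := by
  obtain ⟨W₀, hW₀, hyW₀, -⟩ :=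
    exists_isAffineOpen_mem_and_subset (x := y) (U := ⊤) trivial
  have hcpt : IsCompact (g.base ⁻¹' (W₀ : Set Y)) :=
    QuasiCompact.isCompact_preimage _ W₀.isOpen hW₀.isCompact
  have hch : ∀ x : X, x ∈ g.base ⁻¹' (W₀ : Set Y) →
      ∃ X' : X.Opens, IsAffineOpen X' ∧ x ∈ X' ∧ X' ≤ g ⁻¹ᵁ W₀ := fun x hx => by
    obtain ⟨X', h1, h2, h3⟩ := exists_isAffineOpen_mem_and_subset (x := x) (U := g ⁻¹ᵁ W₀) hx
    exact ⟨X', h1, h2, h3⟩
  choose X' hX'1 hX'2 hX'3 using hch
  obtain ⟨t, ht⟩ := hcpt.elim_nhds_subcover' (fun x hx => (X' x hx : Set X))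
    (fun x hx => (X' x hx).isOpen.mem_nhds (hX'2 x hx))
  choose a ha1 ha2 using fun z : ↥(g.base ⁻¹' (W₀ : Set Y)) =>
    exists_basicOpen_avoiding g y hy W₀ hW₀ hyW₀ (X' z.1 z.2) (hX'1 z.1 z.2) (hX'3 z.1 z.2)
  refine ⟨⟨(W₀ : Set Y) ∩ ⋂ z ∈ t, (Y.basicOpen (a z) : Set Y),
    W₀.isOpen.inter (isOpen_biInter_finset (fun z _ => (Y.basicOpen (a z)).isOpen))⟩, ?_, ?_⟩
  · exact ⟨hyW₀, Set.mem_iInter₂.2 (fun z _ => ha1 z)⟩
  · intro x hx hspec
    obtain ⟨hx1, hx2⟩ := hx
    obtain ⟨z, hz, hxz⟩ := Set.mem_iUnion₂.1 (ht hx1)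
    exact ha2 z x hxz hspec (Set.mem_iInter₂.1 hx2 z hz)

theorem mono_unit_of_faithful {C D : Type*} [Category C] [Category D] {L : C ⥤ D} {R : D ⥤ C}
    (adj : L ⊣ R) [L.Faithful] (F : C) : Mono (adj.unit.app F) := by
  constructor
  intro Z a b hab
  apply L.map_injective
  have h : ∀ m : Z ⟶ F, L.map m = L.map (m ≫ adj.unit.app F) ≫ adj.counit.app (L.obj F) := by
    intro m
    rw [L.map_comp, Category.assoc, adj.left_triangle_components, Category.comp_id]
  rw [h a, h b, hab]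

theorem part_a {X Y : Scheme.{u}} (g : X ⟶ Y) (hsurj : Function.Surjective g.base) :
    EtAcyc.IsMinusOneAcyclic g := by
  intro V F
  haveI : Surjective g := ⟨hsurj⟩
  haveI : Surjective (EtAcyc.prj g V) := by
    show Surjective (pullback.fst V.hom g)
    infer_instance
  haveI : (EtDesc.pullSh (EtAcyc.prj g V)).Faithful :=
    (Groth.Agent.S3047.result (EtAcyc.prj g V)).1
  exact mono_unit_of_faithful (EtDesc.adjSh (EtAcyc.prj g V)) F

theorem exists_two_sections (Z : Scheme.{u}) (E : Z.Etale) [Nonempty E.left] :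
    ∃ (H : EtDesc.Sh Z) (s₀ s₁ : H.obj.obj (op E)), s₀ ≠ s₁ := by
  haveI : Nonempty ↥(⊤ : E.left.Opens) := ⟨⟨Classical.arbitrary _, trivial⟩⟩
  refine ⟨(sheafCompose Z.smallEtaleTopology (forget AddCommGrpCat.{u + 1})).obj (EtCoh.Ga Z),
    (ULift.up (0 : Γ(E.left, ⊤)) : ULift Γ(E.left, ⊤)),
    (ULift.up (1 : Γ(E.left, ⊤)) : ULift Γ(E.left, ⊤)), ?_⟩
  intro h
  have h' : (ULift.up (0 : Γ(E.left, ⊤)) : ULift.{u + 1} Γ(E.left, ⊤)) = ULift.up 1 := h
  have h2 : (0 : Γ(E.left, ⊤)) = 1 := congrArg ULift.down h'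
  exact zero_ne_one h2

theorem stalk_subsingleton {Z V : Scheme.{u}} (c : Z ⟶ V) [IsClosedImmersion c]
    (H : EtDesc.Sh Z) {Ω : Type u} [Field Ω] [IsSepClosed Ω] (ζ : Spec (CommRingCat.of Ω) ⟶ V)
    (hζ : ζ.base (default : Spec (CommRingCat.of Ω)) ∉ Set.range c.base)
    (a b : ToType ((Scheme.pointSmallEtale ζ).presheafFiber.obj ((EtDesc.pushSh c).obj H).obj)) :
    a = b := by
  let F := (EtDesc.pushSh c).obj H
  obtain ⟨U, τ, s, s', rfl, rfl⟩ :=
    (Scheme.pointSmallEtale ζ).toPresheafFiber_jointly_surjective₂ (P := F.obj) a b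
  have hτ : τ.left.base (default : Spec (CommRingCat.of Ω)) ∈ offOpen c U := by
    show U.hom.base (τ.left.base (default : Spec (CommRingCat.of Ω))) ∉ Set.range c.base
    have h3 : τ.left ≫ U.hom = ζ := Over.w τ
    have e3 : U.hom.base (τ.left.base (default : Spec (CommRingCat.of Ω))) =
        ζ.base (default : Spec (CommRingCat.of Ω)) :=
      congrArg (fun q : Spec (CommRingCat.of Ω) ⟶ V =>
        q.base (default : Spec (CommRingCat.of Ω))) h3
    rw [e3]
    exact hζ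
  obtain ⟨τ', hτ'⟩ := exists_res_lift ζ U (offOpen c U) τ hτ
  obtain ⟨uq⟩ : Nonempty (Unique (F.obj.obj (op (res U (offOpen c U))))) :=
    (essImage_pushSh_iff c F).1 (Functor.obj_mem_essImage _ _) _ (offZ_res c U)
  have heq : F.obj.map (resMap U (offOpen c U)).op s = F.obj.map (resMap U (offOpen c U)).op s' :=
    @Subsingleton.elim _ (@Unique.instSubsingleton _ uq) _ _
  have e1 := (Scheme.pointSmallEtale ζ).toPresheafFiber_w_apply (resMap U (offOpen c U)) τ' F.obj s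
  have e2 := (Scheme.pointSmallEtale ζ).toPresheafFiber_w_apply (resMap U (offOpen c U)) τ' F.obj s'
  rw [hτ'] at e1 e2
  rw [← e1, ← e2, heq]

theorem sections_subsingleton {X' V Z : Scheme.{u}} (g' : X' ⟶ V) (c : Z ⟶ V)
    [IsClosedImmersion c] (hdisj : ∀ x' : X', g'.base x' ∉ Set.range c.base) (H : EtDesc.Sh Z)
    (B : X'.Etale)
    (s t : ((EtDesc.pullSh g').obj ((EtDesc.pushSh c).obj H)).obj.obj (op B)) : s = t := by
  let F := (EtDesc.pushSh c).obj H
  let G := (EtDesc.pullSh g').obj F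
  apply eq_of_locally_eq_type G B s t
  intro b
  obtain ⟨Ω, hΩ, hΩ', ξ, τ, hτ⟩ := exists_geometric_point B b
  let iso := stalkPullIso g' ξ (Type (u + 1))
  have hζ : (ξ ≫ g').base (default : Spec (CommRingCat.of Ω)) ∉ Set.range c.base := by
    rw [Scheme.Hom.comp_apply]
    exact hdisj _
  have hsub := stalk_subsingleton c H (ξ ≫ g') hζ
  let e : ((Scheme.pointSmallEtale (ξ ≫ g')).sheafFiber.obj F) ≃
      ((Scheme.pointSmallEtale ξ).sheafFiber.obj G) := (iso.app F).toEquiv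
  have h1 : (Scheme.pointSmallEtale ξ).toPresheafFiber B τ G.obj s =
      (Scheme.pointSmallEtale ξ).toPresheafFiber B τ G.obj t := by
    have h0 : e.symm ((Scheme.pointSmallEtale ξ).toPresheafFiber B τ G.obj s) =
        e.symm ((Scheme.pointSmallEtale ξ).toPresheafFiber B τ G.obj t) := hsub _ _
    exact e.symm.injective h0
  obtain ⟨W, f, w, hw, hf⟩ := ((Scheme.pointSmallEtale ξ).toPresheafFiber_eq_iff' (P := G.obj) B τ s t).1 h1
  refine ⟨W, f, w.left.base (default : Spec (CommRingCat.of Ω)), ?_, hf⟩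
  rw [← hτ, ← hw]
  rfl

theorem not_mono_unit {X' V : Scheme.{u}} (g' : X' ⟶ V) (T' : Set V) (hT' : IsClosed T')
    (hne : T'.Nonempty) (hdisj : ∀ x' : X', g'.base x' ∉ T') :
    ∃ F : EtDesc.Sh V, ¬ Mono ((EtDesc.adjSh g').unit.app F) := by
  obtain ⟨Z, c, hc, hrange⟩ := exists_closedImmersion_compl T'ᶜ hT'.isOpen_compl
  rw [compl_compl] at hrange
  haveI := hc
  obtain ⟨t, ht⟩ := hne
  obtain ⟨z, hz⟩ : ∃ z : Z, c.base z = t := by
    rw [← hrange] at ht
    exact ht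
  let E : Z.Etale := (EtCoh.bc c).obj (EtCoh.top V)
  haveI : Nonempty E.left := by
    obtain ⟨x', -, -⟩ := Scheme.Pullback.exists_preimage_pullback
      (f := (EtCoh.top V).hom) (g := c) (c.base z) z rfl
    exact ⟨x'⟩
  obtain ⟨H, s₀, s₁, hne'⟩ := exists_two_sections Z E
  let F := (EtDesc.pushSh c).obj H
  refine ⟨F, fun hm => ?_⟩
  have h1 : Mono ((EtDesc.adjSh g').unit.app F).hom :=
    (Sheaf.Hom.mono_iff_presheaf_mono _ _ _).1 hm
  have h2 : Mono (((EtDesc.adjSh g').unit.app F).hom.app (op (EtCoh.top V))) :=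
    (NatTrans.mono_iff_mono_app _).1 h1 _
  have h3 : Function.Injective (((EtDesc.adjSh g').unit.app F).hom.app (op (EtCoh.top V))) :=
    (mono_iff_injective _).1 h2
  apply hne'
  apply h3
  exact sections_subsingleton g' c (by rw [hrange]; exact hdisj) H _ _ _

theorem part_b {X Y : Scheme.{u}} (g : X ⟶ Y) [QuasiCompact g]
    (hacyc : EtAcyc.IsMinusOneAcyclic g) : Function.Surjective g.base := by
  intro y
  by_contra hy
  have hy' : y ∉ Set.range g.base := hy
  obtain ⟨W, hyW, hW⟩ := exists_open_avoiding g y hy'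
  let V : Y.Etale := Scheme.Etale.mk W.ι
  obtain ⟨y', hy'W⟩ : ∃ y' : V.left, V.hom.base y' = y := by
    have h0 : y ∈ Set.range W.ι.base := by
      rw [Scheme.Opens.range_ι]
      exact hyW
    exact h0
  have hdisj : ∀ x' : ↥(pullback V.hom g), (EtAcyc.prj g V).base x' ∉ closure {y'} := by
    intro x' hx'
    have hsp : y' ⤳ (EtAcyc.prj g V).base x' := specializes_iff_mem_closure.2 hx'
    have hsp2 : V.hom.base y' ⤳ V.hom.base ((EtAcyc.prj g V).base x') :=
      hsp.map V.hom.continuous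
    have hcond : V.hom.base ((EtAcyc.prj g V).base x') =
        g.base ((pullback.snd V.hom g).base x') :=
      congrArg (fun q : pullback V.hom g ⟶ Y => q.base x')
        (pullback.condition (f := V.hom) (g := g))
    rw [hy'W, hcond] at hsp2
    refine hW _ ?_ hsp2
    rw [← hcond]
    have h0 : V.hom.base ((EtAcyc.prj g V).base x') ∈ Set.range W.ι.base := ⟨_, rfl⟩
    rw [Scheme.Opens.range_ι] at h0
    exact h0
  obtain ⟨F, hF⟩ := not_mono_unit (EtAcyc.prj g V) (closure {y'}) isClosed_closure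
    ⟨y', subset_closure rfl⟩ hdisj
  exact hF (hacyc V F)

/-- Let g : X → Y be a morphism of schemes. If g is surjective then g is (-1)-acyclic (for every etale V
→ Y and every sheaf of sets F on V, F → g'_* g'^* F is a monomorphism, g' the projection X ×_Y V →
V); conversely, if g is quasi-compact, quasi-separated and (-1)-acyclic then g is surjective. -/
theorem result {X Y : Scheme.{u}} (g : X ⟶ Y) :
    (Function.Surjective g.base → EtAcyc.IsMinusOneAcyclic g) ∧
      (∀ [QuasiCompact g] [QuasiSeparated g], EtAcyc.IsMinusOneAcyclic g → Function.Surjective g.base) := by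
  refine ⟨part_a g, ?_⟩
  intro _ _ h
  exact part_b g h

end Groth.Agent.S3473
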