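import Groth.Statements.S3513
import Groth.Agent.H42.HpullComp
import Groth.Agent.H42.LTorsionPull
import Groth.Agent.H42.AdjShComp

set_option autoImplicit false
universe u
open CategoryTheory CategoryTheory.Limits AlgebraicGeometry Opposite
open EtAcyc

namespace Groth.Agent.S3513

section Aux

open Groth.Agent.H42.HpullComp Groth.Agent.H42.LTorsionPull Groth.Agent.H42.AdjShComp

attribute [local instance] Groth.Agent.H45.preservesFiniteLimits_pullAb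

variable {X Y Z : Scheme.{u}} (g : X ⟶ Y) (h : Y ⟶ Z) (V : Z.Etale)

/-- the étale `Y`-scheme `V ×_Z Y` -/
noncomputable abbrev W : Y.Etale := (EtCoh.bc h).obj V

/-- `V ×_Z X ≅ (V ×_Z Y) ×_Y X` -/
noncomputable abbrev eps : pullback (W h V).hom g ≅ pullback V.hom (g ≫ h) :=
  pullbackLeftPullbackSndIso V.hom h g

theorem fac : (eps g h V).inv ≫ (EtAcyc.prj g (W h V) ≫ EtAcyc.prj h V) =
    EtAcyc.prj (g ≫ h) V :=
  pullbackLeftPullbackSndIso_inv_fst V.hom h g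

theorem key (F : EtCoh.Ab V.left) (q : ℕ)
    [PreservesFiniteLimits (EtCoh.pull (EtAcyc.prj (g ≫ h) V))]
    [PreservesFiniteLimits (EtCoh.pull (EtAcyc.prj h V))]
    [PreservesFiniteLimits (EtCoh.pull (EtAcyc.prj g (W h V)))] :
    ∃ β : EtCoh.H _ ((EtCoh.pull (EtAcyc.prj g (W h V))).obj
        ((EtCoh.pull (EtAcyc.prj h V)).obj F)) q →
          EtCoh.H _ ((EtCoh.pull (EtAcyc.prj (g ≫ h) V)).obj F) q,
      Function.Bijective β ∧ ∀ x, EtCore.Hpull (EtAcyc.prj (g ≫ h) V) F q x =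
        β (EtCore.Hpull (EtAcyc.prj g (W h V)) _ q (EtCore.Hpull (EtAcyc.prj h V) F q x)) := by
  obtain ⟨e₁, he₁, h1⟩ := Hpull_comp (eps g h V).inv
    (EtAcyc.prj g (W h V) ≫ EtAcyc.prj h V) (EtAcyc.prj (g ≫ h) V) (fac g h V) F q
  obtain ⟨e₂, he₂, h2⟩ := @Hpull_comp _ (pullback V.hom h) _ (EtAcyc.prj g (W h V))
    (EtAcyc.prj h V) (EtAcyc.prj g (W h V) ≫ EtAcyc.prj h V) rfl
    (Groth.Agent.H45.preservesFiniteLimits_pullAb _)
    (Groth.Agent.H45.preservesFiniteLimits_pullAb _)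
    (Groth.Agent.H45.preservesFiniteLimits_pullAb _) F q
  refine ⟨e₁ ∘ ⇑(EtCore.Hpull (eps g h V).inv _ q) ∘ e₂,
    he₁.comp ((Hpull_iso_bijective (eps g h V).symm _ q).comp he₂), fun x => ?_⟩
  rw [h1 x, h2 x]
  rfl

theorem partA (L : Set ℕ) (n : ℕ) (hg : EtAcyc.IsAcyclicN g L n) :
    EtAcyc.IsAcyclicN h L n ↔ EtAcyc.IsAcyclicN (g ≫ h) L n := by
  constructor
  · intro hh V F hF inst
    have hb := hh V F hF
    have ha := hg (W h V) ((EtCoh.pull (EtAcyc.prj h V)).obj F) (isLTorsion_pull _ L F hF)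
    constructor
    · intro q hq
      obtain ⟨β, hβ, hk⟩ := key g h V F q
      have hfun : ⇑(EtCore.Hpull (EtAcyc.prj (g ≫ h) V) F q) =
          β ∘ ⇑(EtCore.Hpull (EtAcyc.prj g (W h V)) _ q) ∘
            ⇑(EtCore.Hpull (EtAcyc.prj h V) F q) := funext hk
      rw [hfun]
      exact hβ.comp ((ha.1 q hq).comp (hb.1 q hq))
    · obtain ⟨β, hβ, hk⟩ := key g h V F (n + 1)
      have hfun : ⇑(EtCore.Hpull (EtAcyc.prj (g ≫ h) V) F (n + 1)) =
          β ∘ ⇑(EtCore.Hpull (EtAcyc.prj g (W h V)) _ (n + 1)) ∘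
            ⇑(EtCore.Hpull (EtAcyc.prj h V) F (n + 1)) := funext hk
      rw [hfun]
      exact hβ.injective.comp (ha.2.comp hb.2)
  · intro hgh V F hF inst
    have hc := hgh V F hF
    have ha := hg (W h V) ((EtCoh.pull (EtAcyc.prj h V)).obj F) (isLTorsion_pull _ L F hF)
    constructor
    · intro q hq
      obtain ⟨β, hβ, hk⟩ := key g h V F q
      have hfun : ⇑(EtCore.Hpull (EtAcyc.prj (g ≫ h) V) F q) =
          (β ∘ ⇑(EtCore.Hpull (EtAcyc.prj g (W h V)) _ q)) ∘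
            ⇑(EtCore.Hpull (EtAcyc.prj h V) F q) := funext hk
      have h3 := hc.1 q hq
      rw [hfun] at h3
      exact (Function.Bijective.of_comp_iff' (hβ.comp (ha.1 q hq)) _).1 h3
    · obtain ⟨β, hβ, hk⟩ := key g h V F (n + 1)
      have hfun : ⇑(EtCore.Hpull (EtAcyc.prj (g ≫ h) V) F (n + 1)) =
          (β ∘ ⇑(EtCore.Hpull (EtAcyc.prj g (W h V)) _ (n + 1))) ∘
            ⇑(EtCore.Hpull (EtAcyc.prj h V) F (n + 1)) := funext hk
      have h3 := hc.2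
      rw [hfun] at h3
      exact h3.of_comp

theorem key2 (F : EtDesc.Sh V.left)
    (ha : IsIso ((EtDesc.adjSh (EtAcyc.prj g (W h V))).unit.app
      ((EtDesc.pullSh (EtAcyc.prj h V)).obj F))) :
    IsIso ((EtDesc.adjSh (EtAcyc.prj (g ≫ h) V)).unit.app F) ↔
      IsIso ((EtDesc.adjSh (EtAcyc.prj h V)).unit.app F) := by
  obtain ⟨θ₁, h1⟩ := adjSh_unit_comp (eps g h V).inv
    (EtAcyc.prj g (W h V) ≫ EtAcyc.prj h V) (EtAcyc.prj (g ≫ h) V) (fac g h V) F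
  obtain ⟨θ₂, h2⟩ := adjSh_unit_comp (B := pullback V.hom h) (EtAcyc.prj g (W h V))
    (EtAcyc.prj h V) (EtAcyc.prj g (W h V) ≫ EtAcyc.prj h V) rfl F
  have hi := isIso_unit_of_iso (eps g h V).symm
    ((EtDesc.pullSh (EtAcyc.prj g (W h V) ≫ EtAcyc.prj h V)).obj F)
  have t1 : IsIso ((EtDesc.pushSh (EtAcyc.prj g (W h V) ≫ EtAcyc.prj h V)).map
      ((EtDesc.adjSh (eps g h V).inv).unit.app
        ((EtDesc.pullSh (EtAcyc.prj g (W h V) ≫ EtAcyc.prj h V)).obj F)) ≫ θ₁.hom) := by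
    exact @IsIso.comp_isIso _ _ _ _ _ _ _ (@Functor.map_isIso _ _ _ _ _ _ _ _ hi)
      (Iso.isIso_hom θ₁)
  have t2 : IsIso ((EtDesc.pushSh (EtAcyc.prj h V)).map
      ((EtDesc.adjSh (EtAcyc.prj g (W h V))).unit.app
        ((EtDesc.pullSh (EtAcyc.prj h V)).obj F)) ≫ θ₂.hom) := by
    exact @IsIso.comp_isIso _ _ _ _ _ _ _ (@Functor.map_isIso _ _ _ _ _ _ _ _ ha)
      (Iso.isIso_hom θ₂)
  have e1 : IsIso ((EtDesc.adjSh (EtAcyc.prj (g ≫ h) V)).unit.app F) ↔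
      IsIso ((EtDesc.adjSh (EtAcyc.prj g (W h V) ≫ EtAcyc.prj h V)).unit.app F) := by
    rw [h1]
    exact isIso_comp_right_iff _ _
  have e2 : IsIso ((EtDesc.adjSh (EtAcyc.prj g (W h V) ≫ EtAcyc.prj h V)).unit.app F) ↔
      IsIso ((EtDesc.adjSh (EtAcyc.prj h V)).unit.app F) := by
    rw [h2]
    exact @isIso_comp_right_iff _ _ _ _ _ _ _ t2
  exact e1.trans e2

theorem partB (hg : EtAcyc.IsZeroAcyclic g) :
    EtAcyc.IsZeroAcyclic h ↔ EtAcyc.IsZeroAcyclic (g ≫ h) := by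
  constructor
  · intro hh V F
    exact (key2 g h V F (hg (W h V) _)).2 (hh V F)
  · intro hgh V F
    exact (key2 g h V F (hg (W h V) _)).1 (hgh V F)

end Aux

/-- Last assertion, abelian and sets cases: let g : X → Y and h : Y → Z be morphisms of schemes, L a set
of primes and n a natural number. If g is n-acyclic for L, then h is n-acyclic for L if and only if
g ≫ h is; if g is 0-acyclic, then h is 0-acyclic if and only if g ≫ h is. -/
theorem result {X Y Z : Scheme.{u}} (g : X ⟶ Y) (h : Y ⟶ Z) (L : Set ℕ) (n : ℕ) :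
    (EtAcyc.IsAcyclicN g L n → (EtAcyc.IsAcyclicN h L n ↔ EtAcyc.IsAcyclicN (g ≫ h) L n)) ∧
      (EtAcyc.IsZeroAcyclic g → (EtAcyc.IsZeroAcyclic h ↔ EtAcyc.IsZeroAcyclic (g ≫ h))) := by
  exact ⟨fun hg => partA g h L n hg, fun hg => partB g h hg⟩

end Groth.Agent.S3513
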