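import Groth.Statements.S3522
import Mathlib
import Groth.Agent.H90.TotQIAbove

set_option autoImplicit false
universe u
attribute [local instance] HasDerivedCategory.standard
open HTor

namespace Groth.Agent.S3522

open CategoryTheory CategoryTheory.Limits in
/-- In cochain indexing: let L be a complex of flat A-modules and η : M ⟶ Q a quasi-isomorphism of
complexes of A-modules, the three complexes vanishing in large degrees. Then L ⊗ η : L ⊗ M ⟶ L ⊗ Q
is a quasi-isomorphism. (Consequently the hypertor modules of L and Q, the cohomology of L' ⊗ M' for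
projective resolutions, are computed by the plain tensor product complex L ⊗ Q; only the
quasi-isomorphism is asserted.) -/
theorem result (A : Type u) [CommRing A] (L M Q : DRing.Cx A)
    (η : M ⟶ Q) [QuasiIso η] (hL : DRing.TermwiseFlat L) (bL : ∃ b : ℤ, DRing.VanishesAbove L b)
    (bM : ∃ b : ℤ, DRing.VanishesAbove M b) (bQ : ∃ b : ℤ, DRing.VanishesAbove Q b) :
    QuasiIso (HomologicalComplex.tensorHom (𝟙 L) η) := by
  classical
  obtain ⟨a, ha⟩ := bL
  obtain ⟨b, hb⟩ := bM
  obtain ⟨b', hb'⟩ := bQ
  have zl : ∀ {X Y : ModuleCat.{u} A}, IsZero X → IsZero (MonoidalCategory.tensorObj X Y) := by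
    intro X Y h
    rw [IsZero.iff_id_eq_zero, ← MonoidalCategory.id_whiskerRight, (IsZero.iff_id_eq_zero X).1 h,
      MonoidalPreadditive.zero_whiskerRight]
  have zr : ∀ {X Y : ModuleCat.{u} A}, IsZero Y → IsZero (MonoidalCategory.tensorObj X Y) := by
    intro X Y h
    rw [IsZero.iff_id_eq_zero, ← MonoidalCategory.whiskerLeft_id, (IsZero.iff_id_eq_zero Y).1 h,
      MonoidalPreadditive.whiskerLeft_zero]
  have hK : ∀ p q : ℤ, a < p ∨ max b b' < q → IsZero
      ((((((MonoidalCategory.curriedTensor (ModuleCat.{u} A)).mapBifunctorHomologicalComplex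
        (ComplexShape.up ℤ) (ComplexShape.up ℤ)).obj L).obj M).X p).X q) := by
    intro p q h
    show IsZero (MonoidalCategory.tensorObj (L.X p) (M.X q))
    rcases h with h | h
    · exact zl (ha p h)
    · exact zr (hb q (lt_of_le_of_lt (le_max_left _ _) h))
  have hL' : ∀ p q : ℤ, a < p ∨ max b b' < q → IsZero
      ((((((MonoidalCategory.curriedTensor (ModuleCat.{u} A)).mapBifunctorHomologicalComplex
        (ComplexShape.up ℤ) (ComplexShape.up ℤ)).obj L).obj Q).X p).X q) := by
    intro p q h
    show IsZero (MonoidalCategory.tensorObj (L.X p) (Q.X q))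
    rcases h with h | h
    · exact zl (ha p h)
    · exact zr (hb' q (lt_of_le_of_lt (le_max_right _ _) h))
  have hφ : ∀ p : ℤ, QuasiIso
      (((((MonoidalCategory.curriedTensor (ModuleCat.{u} A)).mapBifunctorHomologicalComplex
        (ComplexShape.up ℤ) (ComplexShape.up ℤ)).obj L).map η).f p) := by
    intro p
    have : Module.Flat A (L.X p) := hL p
    have h : QuasiIso (((MonoidalCategory.tensorLeft (L.X p)).mapHomologicalComplex
      (ComplexShape.up ℤ)).map η) := inferInstance
    exact h
  have key := Groth.Agent.H90.TotQIA.quasiIso_total_map_inner _ _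
    ((((MonoidalCategory.curriedTensor (ModuleCat.{u} A)).mapBifunctorHomologicalComplex
        (ComplexShape.up ℤ) (ComplexShape.up ℤ)).obj L).map η) a (max b b') hK hL' hφ
  have e : HomologicalComplex.tensorHom (𝟙 L) η = HomologicalComplex₂.total.map
      ((((MonoidalCategory.curriedTensor (ModuleCat.{u} A)).mapBifunctorHomologicalComplex
        (ComplexShape.up ℤ) (ComplexShape.up ℤ)).obj L).map η) (ComplexShape.up ℤ) := by
    show HomologicalComplex₂.total.map (_ ≫ _) _ = _
    rw [CategoryTheory.Functor.map_id, NatTrans.id_app, Category.id_comp]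
  rw [e]
  exact key

end Groth.Agent.S3522
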