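import Groth.Statements.S3523
import Mathlib
import Groth.Agent.H46.KunPhi
set_option autoImplicit false
set_option linter.style.haveILetI false
universe u
attribute [local instance] HasDerivedCategory.standard
open HTor

namespace Groth.Agent.S3523

open CategoryTheory CategoryTheory.Limits in
/-- (Cochain indexing.) Let A be a ring and L, M complexes of A-modules vanishing in large degrees, with
every term of L flat and every cohomology module H^i(L) flat. Then for every n there is a Künneth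
map ⊕_{i+j=n} H^i(L) ⊗_A H^j(M) → H^n(L ⊗_A M), sending [z] ⊗ [z'] to the class of z ⊗ z', and it is
bijective. -/
theorem result (A : Type u) [CommRing A] (L M : DRing.Cx A)
    (hL : DRing.TermwiseFlat L) (bL : ∃ b : ℤ, DRing.VanishesAbove L b)
    (bM : ∃ b : ℤ, DRing.VanishesAbove M b) (hH : ∀ i : ℤ, Module.Flat A (L.homology i)) (n : ℤ) :
    ∃ Φ : HTor.KunnethSum L M n →ₗ[A] (HTor.tensorCx L M).homology n,
      HTor.IsKunnethMap L M n Φ ∧ Function.Bijective Φ := by
  obtain ⟨b, hb⟩ := bL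
  obtain ⟨Φ, hΦ, hbij⟩ := Groth.Agent.H46.Kun.kunneth_model L M hL b hb hH n
  refine ⟨Φ, ?_, hbij⟩
  intro ij z z' w hw
  have h1 : DirectSum.lof A (Antidiag n)
      (fun ij => TensorProduct A (L.homology ij.1.1) (M.homology ij.1.2)) ij
      (L.homologyπ ij.1.1 z ⊗ₜ[A] M.homologyπ ij.1.2 z') =
      Groth.Agent.H46.Kun.PP L M n
        (DirectSum.lof A (Groth.Agent.H46.Kun.AD n) (Groth.Agent.H46.Kun.ZZ L M) ij (z ⊗ₜ[A] z')) := by
    unfold Groth.Agent.H46.Kun.PP
    rw [DirectSum.lmap_lof]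
    rfl
  rw [h1, hΦ]
  congr 1
  apply Groth.Agent.H46.Kun.iCycles_injective
  rw [Groth.Agent.H46.Kun.iCycles_kap]
  unfold Groth.Agent.H46.Kun.J
  rw [DirectSum.lmap_lof, Groth.Agent.H46.Kun.Ψ_lof]
  exact hw.symm
end Groth.Agent.S3523
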