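import Groth.Statements.S3524
import Mathlib
import Groth.Agent.S3539
set_option autoImplicit false
set_option linter.style.haveILetI false
universe u
attribute [local instance] HasDerivedCategory.standard
open HTor

namespace Groth.Agent.S3524

open CategoryTheory CategoryTheory.Limits in
/-- Consequence of the biregular Künneth/hypertor spectral sequence; cochain indexing. Let L and M be
complexes of A-modules vanishing in large degrees, every term of L flat (so that L ⊗ M computes the
hypertor of L and M). If Tor_p^A(H^i(L), H^j(M)) = 0 for all p ≥ 0 and all i, j with i + j - p = n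
(vanishing stated as Subsingleton), then H^n(L ⊗ M) = 0. (Tor is Mathlib's, left derived in the
second variable.) -/
theorem result (A : Type u) [CommRing A] (L M : DRing.Cx A)
    (hL : DRing.TermwiseFlat L) (bL : ∃ b : ℤ, DRing.VanishesAbove L b)
    (bM : ∃ b : ℤ, DRing.VanishesAbove M b) (n : ℤ)
    (h : ∀ (p : ℕ) (i j : ℤ), i + j - p = n → Subsingleton (DRing.Tor A p (L.homology i) (M.homology j))) :
    IsZero ((HTor.tensorCx L M).homology n) := by
  obtain ⟨N, F, Φ, hΦ, hF0, hmono, hN, hsub⟩ := Groth.Agent.S3539.result A L M hL bL bM n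
  -- the Künneth sum vanishes
  have hten : ∀ ij : Antidiag n, Subsingleton
      (TensorProduct A (L.homology ij.1.1) (M.homology ij.1.2)) := by
    intro ij
    haveI := h 0 ij.1.1 ij.1.2 (by have := ij.2; push_cast; omega)
    let e : ((CategoryTheory.Tor (ModuleCat.{u} A) 0).obj (ModuleCat.of A (L.homology ij.1.1))).obj
        (ModuleCat.of A (M.homology ij.1.2)) ≅
        (MonoidalCategory.tensorLeft (ModuleCat.of A (L.homology ij.1.1))).obj
          (ModuleCat.of A (M.homology ij.1.2)) :=
      ((MonoidalCategory.tensorLeft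
        (ModuleCat.of A (L.homology ij.1.1))).leftDerivedZeroIsoSelf).app
        (ModuleCat.of A (M.homology ij.1.2))
    exact e.toLinearEquiv.symm.subsingleton
  have hKS : ∀ x : HTor.KunnethSum L M n, x = 0 := by
    intro x
    apply DFinsupp.ext
    intro ij
    haveI := hten ij
    exact Subsingleton.elim _ _
  have hF0' : F 0 = ⊥ := by
    rw [hF0, LinearMap.range_eq_bot]
    apply LinearMap.ext
    intro x
    rw [hKS x, map_zero, LinearMap.zero_apply]
  have hstep : ∀ p, F (p + 1) ≤ F p := by
    intro p
    obtain ⟨S, S', hSS', ⟨e⟩⟩ := hsub p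
    have hT : ∀ x : HTor.TorSum L M n (p + 1), x = 0 := by
      intro x
      apply DFinsupp.ext
      intro ij
      haveI := h (p + 1) ij.1.1 ij.1.2 ij.2
      exact Subsingleton.elim _ _
    intro x hx
    have h1 : e (Submodule.Quotient.mk ⟨x, hx⟩) = 0 := by
      obtain ⟨y, hy⟩ := Submodule.mkQ_surjective _ (e (Submodule.Quotient.mk ⟨x, hx⟩))
      rw [← hy]
      have : y = 0 := Subtype.ext (hT y.1)
      rw [this, map_zero]
    have h2 : (Submodule.Quotient.mk ⟨x, hx⟩ : HTor.grSucc F p) = 0 :=
      e.injective (h1.trans (map_zero e).symm)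
    rw [Submodule.Quotient.mk_eq_zero] at h2
    exact h2
  have hall : ∀ p, F p = ⊥ := by
    intro p
    induction p with
    | zero => exact hF0'
    | succ p ih => exact le_bot_iff.mp (ih ▸ hstep p)
  have htop : (⊤ : Submodule A ((HTor.tensorCx L M).homology n)) = ⊥ := by rw [← hN, hall N]
  haveI : Subsingleton ((HTor.tensorCx L M).homology n) := by
    refine ⟨fun a b => ?_⟩
    have ha : a ∈ (⊥ : Submodule A ((HTor.tensorCx L M).homology n)) := htop ▸ Submodule.mem_top
    have hb : b ∈ (⊥ : Submodule A ((HTor.tensorCx L M).homology n)) := htop ▸ Submodule.mem_top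
    rw [Submodule.mem_bot] at ha hb
    rw [ha, hb]
  exact ModuleCat.isZero_of_subsingleton _
end Groth.Agent.S3524
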