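import Groth.Statements.S3532
-- import your own Groth.Agent.* helpers here

set_option autoImplicit false
universe u
open HomAlg3

namespace Groth.Agent.S3532

open CategoryTheory in
/-- Category of abelian groups, system indexed by the natural numbers: Let (A_k)_{k ≥ 0} be an inverse
system of abelian groups. For p ≤ k write Im_k(A_p) for the image of A_k → A_p, and K_p for the
kernel of A_p → A_{p-1} (K_0 = A_0). Then (A_k) satisfies the Mittag-Leffler condition (for each p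
the subgroups Im_k(A_p) are eventually constant in k) if and only if for each p the subgroups
Im_k(A_p) ∩ K_p are eventually constant in k. -/
theorem result (F : ℕᵒᵖ ⥤ AddCommGrpCat.{u}) :
    (F ⋙ forget AddCommGrpCat).IsMittagLeffler ↔
      ((∃ k₀ : ℕ, ∀ (k : ℕ) (hk : k₀ ≤ k),
          (F.map (homOfLE (Nat.zero_le k)).op).hom.range = (F.map (homOfLE (Nat.zero_le k₀)).op).hom.range) ∧
        ∀ p : ℕ, ∃ k₀ : ℕ, ∃ h₀ : p + 1 ≤ k₀, ∀ (k : ℕ) (hk : k₀ ≤ k),
          (F.map (homOfLE (h₀.trans hk)).op).hom.range ⊓ (F.map (homOfLE (Nat.le_succ p)).op).hom.ker =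
            (F.map (homOfLE h₀).op).hom.range ⊓ (F.map (homOfLE (Nat.le_succ p)).op).hom.ker) := by
  classical
  have thin : ∀ {X Y : ℕᵒᵖ} (a b : X ⟶ Y), a = b :=
    fun a b => Quiver.Hom.unop_inj (Subsingleton.elim _ _)
  have tcomp : ∀ (p k l : ℕ) (h : p ≤ k) (h' : k ≤ l) (x : F.obj (Opposite.op l)),
      (F.map (homOfLE h).op).hom ((F.map (homOfLE h').op).hom x) =
        (F.map (homOfLE (h.trans h')).op).hom x := by
    intro p k l h h' x
    have e : (homOfLE (h.trans h')).op = (homOfLE h').op ≫ (homOfLE h).op := thin _ _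
    rw [e, F.map_comp]
    rfl
  have hmono : ∀ (p k l : ℕ) (h : p ≤ k) (h' : k ≤ l),
      (F.map (homOfLE (h.trans h')).op).hom.range ≤ (F.map (homOfLE h).op).hom.range := by
    rintro p k l h h' _ ⟨x, rfl⟩
    exact ⟨(F.map (homOfLE h').op).hom x, tcomp p k l h h' x⟩
  have ML_iff : (F ⋙ forget AddCommGrpCat).IsMittagLeffler ↔
      ∀ p : ℕ, ∃ (k₀ : ℕ) (h₀ : p ≤ k₀), ∀ (k : ℕ) (hk : k₀ ≤ k),
        (F.map (homOfLE (h₀.trans hk)).op).hom.range = (F.map (homOfLE h₀).op).hom.range := by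
    constructor
    · intro hML p
      obtain ⟨i, f, hf⟩ := hML (Opposite.op p)
      obtain ⟨i⟩ := i
      have h₀ : p ≤ i := f.unop.le
      obtain rfl : f = (homOfLE h₀).op := thin _ _
      refine ⟨i, h₀, fun k hk => le_antisymm (hmono p i k h₀ hk) ?_⟩
      rintro _ ⟨x, rfl⟩
      obtain ⟨y, hy⟩ := hf (homOfLE (h₀.trans hk)).op ⟨x, rfl⟩
      exact ⟨y, hy⟩
    · intro hstab j
      obtain ⟨p⟩ := j
      obtain ⟨k₀, h₀, hk₀⟩ := hstab p
      refine ⟨Opposite.op k₀, (homOfLE h₀).op, ?_⟩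
      intro k g
      obtain ⟨k⟩ := k
      have hpk : p ≤ k := g.unop.le
      obtain rfl : g = (homOfLE hpk).op := thin _ _
      rintro _ ⟨x, rfl⟩
      rcases le_total k₀ k with hk | hk
      · have hx : (F.map (homOfLE h₀).op).hom x ∈
            (F.map (homOfLE (h₀.trans hk)).op).hom.range := by
          rw [hk₀ k hk]
          exact ⟨x, rfl⟩
        obtain ⟨y, hy⟩ := hx
        exact ⟨y, hy⟩
      · exact ⟨(F.map (homOfLE hk).op).hom x, tcomp p k k₀ hpk hk x⟩
  rw [ML_iff]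
  constructor
  · intro hstab
    refine ⟨?_, ?_⟩
    · obtain ⟨k₀, h₀, hk₀⟩ := hstab 0
      exact ⟨k₀, fun k hk => hk₀ k hk⟩
    · intro p
      obtain ⟨k₀, h₀, hk₀⟩ := hstab (p + 1)
      refine ⟨k₀, h₀, fun k hk => ?_⟩
      rw [hk₀ k hk]
  · rintro ⟨ha, hb⟩ p
    induction p with
    | zero =>
      obtain ⟨k₀, hk₀⟩ := ha
      exact ⟨k₀, Nat.zero_le _, fun k hk => hk₀ k hk⟩
    | succ p ih =>
      obtain ⟨k₁, h₁, hk₁⟩ := ih
      obtain ⟨k₂, h₂, hk₂⟩ := hb p
      have hk₁k₀ : k₁ ≤ max k₁ k₂ := le_max_left _ _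
      have hk₂k₀ : k₂ ≤ max k₁ k₂ := le_max_right _ _
      have h₀ : p + 1 ≤ max k₁ k₂ := h₂.trans hk₂k₀
      refine ⟨max k₁ k₂, h₀, fun k hk => le_antisymm (hmono (p + 1) _ k h₀ hk) ?_⟩
      rintro _ ⟨y, rfl⟩
      have hpk₀ : p ≤ max k₁ k₂ := (Nat.le_succ p).trans h₀
      have e1 : (F.map (homOfLE (Nat.le_succ p)).op).hom ((F.map (homOfLE h₀).op).hom y) =
          (F.map (homOfLE hpk₀).op).hom y := tcomp p (p + 1) _ _ h₀ y
      have r1 := hk₁ _ hk₁k₀
      have r2 := hk₁ k (hk₁k₀.trans hk)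
      have hmem : (F.map (homOfLE hpk₀).op).hom y ∈
          (F.map (homOfLE (h₁.trans (hk₁k₀.trans hk))).op).hom.range := by
        rw [r2, ← r1]
        exact ⟨y, rfl⟩
      obtain ⟨z, hz⟩ := hmem
      have hx'I : (F.map (homOfLE (h₀.trans hk)).op).hom z ∈
          (F.map (homOfLE (h₀.trans hk)).op).hom.range := ⟨z, rfl⟩
      have hx'I0 : (F.map (homOfLE (h₀.trans hk)).op).hom z ∈
          (F.map (homOfLE h₀).op).hom.range := hmono (p + 1) _ k h₀ hk hx'I
      have hxI0 : (F.map (homOfLE h₀).op).hom y ∈ (F.map (homOfLE h₀).op).hom.range := ⟨y, rfl⟩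
      have hK : (F.map (homOfLE h₀).op).hom y - (F.map (homOfLE (h₀.trans hk)).op).hom z ∈
          (F.map (homOfLE (Nat.le_succ p)).op).hom.ker := by
        rw [AddMonoidHom.mem_ker, map_sub, e1, sub_eq_zero,
          tcomp p (p + 1) k _ (h₀.trans hk) z]
        exact hz.symm
      have i1 := hk₂ _ hk₂k₀
      have i2 := hk₂ k (hk₂k₀.trans hk)
      have hd : (F.map (homOfLE h₀).op).hom y - (F.map (homOfLE (h₀.trans hk)).op).hom z ∈
          (F.map (homOfLE (h₂.trans (hk₂k₀.trans hk))).op).hom.range ⊓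
            (F.map (homOfLE (Nat.le_succ p)).op).hom.ker := by
        rw [i2, ← i1]
        have hs : (F.map (homOfLE h₀).op).hom y - (F.map (homOfLE (h₀.trans hk)).op).hom z ∈
            (F.map (homOfLE h₀).op).hom.range := sub_mem hxI0 hx'I0
        exact AddSubgroup.mem_inf.2 ⟨hs, hK⟩
      have hfin := add_mem (AddSubgroup.mem_inf.1 hd).1 hx'I
      rw [sub_add_cancel] at hfin
      exact hfin

end Groth.Agent.S3532
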