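import Groth.Statements.S6498
import Groth.Agent.H56.PerfDual
import Groth.Agent.S6515
import Groth.Agent.H6.PC3
import Groth.Agent.H28.PC5
import Groth.Agent.H90.QCohHom
import Groth.Agent.H22.RelTwistGG
import Groth.Agent.H31.LocalD
import Groth.Agent.H45.PCQ2
import Groth.Agent.H87.PCQ3
import Groth.Agent.H6.TensRestr_R
import Groth.Agent.H31.TotRep
import Groth.Agent.H31.Q1
import Groth.Agent.H31.TotCone

set_option autoImplicit false
set_option linter.style.haveILetI false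
universe u
open CategoryTheory CategoryTheory.Limits AlgebraicGeometry
attribute [local instance] HasDerivedCategory.standard
open IntMult

namespace Groth.Agent.S6498

open CategoryTheory.Pretriangulated


/-- `HD (Q E) i` vanishes iff `E.homology i` does. -/
theorem isZero_homology_of_isZero_HD {Z : Scheme.{u}} (E : CochainComplex Z.Modules ℤ) (i : ℤ)
    (h : IsZero (DCoh.HD (DCoh.toD Z E) i)) : IsZero (E.homology i) :=
  h.of_iso ((DerivedCategory.homologyFunctorFactors Z.Modules i).app E).symm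


/-- Let X be a locally Noetherian scheme. If L and K lie in D^-_Coh(O_X) (bounded above with coherent
cohomology sheaves) then so does L ⊗^L_{O_X} K. Here K is presented by a cochain complex E and − ⊗^L
E is the prelude's total left derived functor DCoh.LTensorCx E, under its existence hypothesis
DCoh.HasLTensorCx E. (Part (1), coherence of the Tor sheaves of two coherent modules, is not
stated.) -/
theorem result (X : Scheme.{u}) [IsLocallyNoetherian X] (E : CochainComplex X.Modules ℤ) [DCoh.HasLTensorCx E] (L : DCoh.D X) (hL : DCoh.IsCohD L) (hLb : ∃ a : ℤ, ∀ i, a < i → IsZero (DCoh.HD L i)) (hE : DCoh.IsCohD (DCoh.toD X E)) (hEb : ∃ b : ℤ, ∀ i, b < i → IsZero (DCoh.HD (DCoh.toD X E) i)) : DCoh.IsCohD ((DCoh.LTensorCx E).obj L) ∧ ∃ n : ℤ, ∀ i, n < i → IsZero (DCoh.HD ((DCoh.LTensorCx E).obj L) i) := by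
  obtain ⟨a, ha⟩ := hLb
  obtain ⟨b, hb⟩ := hEb
  haveI hLle : L.IsLE a := (DerivedCategory.isLE_iff L a).2 ha
  haveI hEle : (DCoh.toD X E).IsLE b := (DerivedCategory.isLE_iff _ b).2 hb
  have hEhom : ∀ i : ℤ, b < i → IsZero (E.homology i) :=
    fun i hi => isZero_homology_of_isZero_HD E i (hb i hi)
  refine ⟨?_, a + b + 1, ?_⟩
  swap
  · haveI := Groth.Agent.PC.isLE_LTensorCx E b hEhom L a
    exact (DerivedCategory.isLE_iff _ _).1 inferInstance
  intro i
  apply Groth.Agent.PC.isCoh_of_locally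
  intro x
  -- pseudo-coherent presentation of `E` near `x`
  let m : ℤ := i - a - 2
  have hpc : DCoh.IsPseudoCoherentD m (DCoh.toD X E) :=
    Groth.Agent.PC.isPseudoCoherentD_of_isCohD (DCoh.toD X E) b hE m
  obtain ⟨V, hxV, E', P, a', b', f, ⟨eP⟩, hPab, hPfree, hcone⟩ :=
    Groth.Agent.PC.exists_pc_chain_presentation E m hpc x
  refine ⟨V, hxV, ?_⟩
  haveI : PreservesFiniteLimits (Scheme.Modules.restrictFunctor V.ι) := inferInstance
  let F := (DCoh.restrictCx V).obj E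
  let N := (DCoh.restrictD V.ι).obj L
  haveI iF : DCoh.HasLTensorCx F := Groth.Agent.H6.TensorQCoh.hasLTensorCx F
  haveI iE' : DCoh.HasLTensorCx E' := Groth.Agent.H6.TensorQCoh.hasLTensorCx E'
  haveI iP : DCoh.HasLTensorCx P := Groth.Agent.H6.TensorQCoh.hasLTensorCx P
  haveI iC : DCoh.HasLTensorCx (CochainComplex.mappingCone f) :=
    Groth.Agent.H6.TensorQCoh.hasLTensorCx _
  -- `N` is bounded above by `a` with coherent cohomology
  haveI hNle : N.IsLE a := by
    rw [DerivedCategory.isLE_iff]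
    intro j hj
    exact IsZero.of_iso ((Scheme.Modules.restrictFunctor V.ι).map_isZero (ha j hj))
      (Groth.Agent.H31.LocalD.HDRestrictIso V L j)
  have hNcoh : DCoh.IsCohD N := fun j =>
    Groth.Agent.H90.QH.isCoh_of_iso (Groth.Agent.H31.LocalD.HDRestrictIso V L j).symm
      (Groth.Agent.H22.RelTwistGG.isCoh_restrict V.ι (hL j))
  -- a representative of `N` computing all derived tensor products
  obtain ⟨K, hKrep⟩ := Groth.Agent.H31.TotRep.exists_left_rep N
  have hC : ∀ j : ℤ, m - 1 < j → IsZero ((CochainComplex.mappingCone f).homology j) :=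
    fun j hj => hcone j (by omega)
  haveI hCle := Groth.Agent.PC.isLE_LTensorCx (CochainComplex.mappingCone f) (m - 1) hC N a
  have hCz : ∀ j : ℤ, a + (m - 1) + 1 < j →
      IsZero (DCoh.HD ((DCoh.LTensorCx (CochainComplex.mappingCone f)).obj N) j) :=
    (DerivedCategory.isLE_iff _ _).1 hCle
  have hCz' : ∀ j : ℤ, a + (m - 1) + 1 < j →
      IsZero (((DCoh.tensorCx.obj K).obj (CochainComplex.mappingCone f)).homology j) :=
    fun j hj => (hCz j hj).of_iso (hKrep (CochainComplex.mappingCone f) j).some.symm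
  obtain ⟨θ⟩ := Groth.Agent.H31.TotCone.nonempty_homology_tot_cone_iso K E' F f i (i - 1) (by omega)
    (hCz' (i - 1) (by omega)) (hCz' i (by omega))
  -- coherence for the (shifted) strictly perfect piece
  haveI iE'1 : DCoh.HasLTensorCx (E'⟦(1 : ℤ)⟧) := Groth.Agent.H6.TensorQCoh.hasLTensorCx _
  haveI iP1 : DCoh.HasLTensorCx (P⟦(1 : ℤ)⟧) := Groth.Agent.H6.TensorQCoh.hasLTensorCx _
  let eP1 : DerivedCategory.Q.obj (E'⟦(1 : ℤ)⟧) ≅ DerivedCategory.Q.obj (P⟦(1 : ℤ)⟧) :=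
    (DerivedCategory.Q.commShiftIso (1 : ℤ)).app E' ≪≫ (shiftFunctor _ (1 : ℤ)).mapIso eP ≪≫
      ((DerivedCategory.Q.commShiftIso (1 : ℤ)).app P).symm
  obtain ⟨φ⟩ := Groth.Agent.H6.TensorQCoh.nonempty_LTensorCx_iso (E'⟦(1 : ℤ)⟧) (P⟦(1 : ℤ)⟧) eP1
  have hvan1 : DCoh.VanishesOutside (P⟦(1 : ℤ)⟧) (a' - 1) (b' - 1) := fun j hj => by
    show IsZero (P.X (j + 1))
    exact hPab (j + 1) (by omega)
  have hfree1 : ∀ j : ℤ, ∃ n : ℕ,
      Nonempty ((P⟦(1 : ℤ)⟧).X j ≅ FlatMod.freeMod (V : Scheme.{u}) n) := fun j => hPfree (j + 1)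
  have hP1coh : DCoh.IsCohD ((DCoh.LTensorCx (P⟦(1 : ℤ)⟧)).obj N) :=
    Groth.Agent.H31.Q1.isCohD_LTensorCx_of_free (P⟦(1 : ℤ)⟧) (a' - 1) (b' - 1) hvan1 hfree1 N hNcoh
  have h1 : Coh.IsCoh (DCoh.HD ((DCoh.LTensorCx (E'⟦(1 : ℤ)⟧)).obj N) (i - 1)) :=
    Groth.Agent.H90.QH.isCoh_of_iso
      ((DerivedCategory.homologyFunctor _ (i - 1)).mapIso (φ.app N)).symm (hP1coh (i - 1))
  have h1' : Coh.IsCoh (((DCoh.tensorCx.obj K).obj (E'⟦(1 : ℤ)⟧)).homology (i - 1)) :=
    Groth.Agent.H90.QH.isCoh_of_iso (hKrep (E'⟦(1 : ℤ)⟧) (i - 1)).some h1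
  have h2' : Coh.IsCoh (((DCoh.tensorCx.obj K).obj F).homology i) :=
    Groth.Agent.H90.QH.isCoh_of_iso θ h1'
  have h2 : Coh.IsCoh (DCoh.HD ((DCoh.LTensorCx F).obj N) i) :=
    Groth.Agent.H90.QH.isCoh_of_iso (hKrep F i).some.symm h2'
  obtain ⟨r⟩ := Groth.Agent.H6.TensRestr.restrictD_LTensorCx V E L
  have h3 : Coh.IsCoh (DCoh.HD ((DCoh.restrictD V.ι).obj ((DCoh.LTensorCx E).obj L)) i) :=
    Groth.Agent.H90.QH.isCoh_of_iso ((DerivedCategory.homologyFunctor _ i).mapIso r).symm h2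
  exact Groth.Agent.H90.QH.isCoh_of_iso
    (Groth.Agent.H31.LocalD.HDRestrictIso V ((DCoh.LTensorCx E).obj L) i) h3

end Groth.Agent.S6498
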