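import Groth.Statements.S3542
import Groth.Agent.S6498
import Groth.Agent.H28.LpullLoc3
import Groth.Agent.H28.FppfPC
import Groth.Agent.H56.PCohRHom
import Groth.Agent.H6.LpullQCoh
import Groth.Agent.H6.PC3Sharp
import Groth.Agent.S6514
import Groth.Agent.H8.PullbackFinType
import Groth.Agent.H8.PullbackStalk
import Groth.Agent.H87.PCQ3
import Groth.Agent.H45.PCQ2
import Groth.Agent.H90.CohPC
import Groth.Agent.H31.LocalD

set_option autoImplicit false
set_option linter.style.haveILetI false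
universe u
attribute [local instance] HasDerivedCategory.standard
open HTor

namespace Groth.Agent.S3542

open CategoryTheory CategoryTheory.Limits AlgebraicGeometry in
/-- On a locally Noetherian scheme, a pseudo-coherent object of `D_QCoh` has coherent cohomology. -/
theorem isCohD_of_pc {Z : Scheme.{u}} [IsLocallyNoetherian Z] (E : DCoh.D Z) (hq : DCoh.IsQCohD E)
    (hpc : ∀ m : ℤ, DCoh.IsPseudoCoherentD m E) : DCoh.IsCohD E := by
  intro i
  apply Groth.Agent.PC.isCoh_of_locally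
  intro x
  obtain ⟨_, ⟨W, hW : IsAffineOpen W, rfl⟩, hxW, -⟩ :=
    Z.isBasis_affineOpens.exists_subset_of_mem_open (Set.mem_univ x) (⊤ : Z.Opens).2
  refine ⟨W, hxW, ?_⟩
  haveI : IsAffine (W : Scheme.{u}) := hW
  haveI : IsLocallyNoetherian (W : Scheme.{u}) := isLocallyNoetherian_of_isOpenImmersion (Scheme.Opens.ι W)
  haveI : IsNoetherian (W : Scheme.{u}) := {}
  have h1 : DCoh.IsQCohD ((DCoh.restrictD (Scheme.Opens.ι W)).obj E) :=
    Groth.Agent.H56.PCohRHom.isQCohD_restrictD W E hq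
  have h2 : DCoh.IsPseudoCoherentD i ((DCoh.restrictD (Scheme.Opens.ι W)).obj E) :=
    Groth.Agent.H28.FppfPC.isPC_restrictD W E i (hpc i)
  have h3 : Coh.IsCoh (DCoh.HD ((DCoh.restrictD (Scheme.Opens.ι W)).obj E) i) :=
    ((Groth.Agent.H90.QH.isPC_iff_coh _ h1 i).1 h2).1 i le_rfl
  exact Groth.Agent.H90.QH.isCoh_of_iso (Groth.Agent.H31.LocalD.HDRestrictIso W E i) h3

open CategoryTheory CategoryTheory.Limits AlgebraicGeometry in
/-- `Lf^*` is right t-exact. -/
theorem isZero_HD_Lpull {X' Y' : Scheme.{u}} (f : Y' ⟶ X') [DCoh.HasLpull f]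
    (C : CochainComplex X'.Modules ℤ) (b : ℤ) (hC : ∀ i : ℤ, b < i → IsZero (C.homology i)) :
    ∀ i : ℤ, b < i → IsZero (DCoh.HD ((DCoh.Lpull f).obj (DCoh.toD X' C)) i) := by
  obtain ⟨F, q, hF, hq, hFz⟩ := Groth.Agent.PC.exists_bounded_kflat C b hC
  have hF' : DCoh.IsKFlat F := hF
  haveI : IsIso (DerivedCategory.Q.map q) := (DerivedCategory.isIso_Q_map_iff_quasiIso _ q).2 hq
  let e : (DCoh.Lpull f).obj (DCoh.toD X' C) ≅
      DerivedCategory.Q.obj
        (((Scheme.Modules.pullback f).mapHomologicalComplex (ComplexShape.up ℤ)).obj F) :=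
    (DCoh.Lpull f).mapIso (asIso (DerivedCategory.Q.map q)).symm ≪≫
      Groth.Agent.H31.Stalk.LpullObjIso f F hF'
  intro i hi
  refine IsZero.of_iso ?_ ((DerivedCategory.homologyFunctor _ i).mapIso e ≪≫
    (DerivedCategory.homologyFunctorFactors _ i).app _)
  exact ShortComplex.isZero_homology_of_isZero_X₂ _
    ((Scheme.Modules.pullback f).map_isZero (hFz i hi))

open CategoryTheory CategoryTheory.Limits AlgebraicGeometry in
/-- Let f : X ⟶ S be flat with X locally Noetherian, g : Y ⟶ S any morphism, and suppose Z = X ×_S Y is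
locally Noetherian. Let P (resp. Q) be a complex of quasi-coherent O_X-modules (resp. O_Y-modules)
vanishing in large degrees, all of whose cohomology sheaves are coherent. Since X is flat over S,
the local hypertor sheaves Tor_n^S(P, Q) on Z are the cohomology sheaves of L pr₁^*P ⊗^L pr₂^*Q
(derived pullback and derived tensor product under their existence binders; pr₂ is flat, so pr₂^*Q
is the termwise pullback). Then all these cohomology sheaves are coherent O_Z-modules. -/
theorem result (X Y S : Scheme.{u}) (f : X ⟶ S) (g : Y ⟶ S) [Flat f]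
    [IsLocallyNoetherian X] [IsLocallyNoetherian (pullback f g)]
    (P : CochainComplex X.Modules ℤ) (Q : CochainComplex Y.Modules ℤ)
    (hqP : ∀ i : ℤ, Coh.IsQCoh (P.X i)) (hqQ : ∀ i : ℤ, Coh.IsQCoh (Q.X i))
    (bP : ∃ b : ℤ, ∀ i : ℤ, b < i → IsZero (P.X i)) (bQ : ∃ b : ℤ, ∀ i : ℤ, b < i → IsZero (Q.X i))
    (hP : DCoh.IsCohD (DCoh.toD X P)) (hQ : DCoh.IsCohD (DCoh.toD Y Q))
    [DCoh.HasLpull (pullback.fst f g)] [DCoh.HasLTensorCx ((HTor.pullCx (pullback.snd f g)).obj Q)] :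
    DCoh.IsCohD ((DCoh.LTensorCx ((HTor.pullCx (pullback.snd f g)).obj Q)).obj
      ((DCoh.Lpull (pullback.fst f g)).obj (DCoh.toD X P))) := by
  obtain ⟨b₁, hb₁⟩ := bP
  obtain ⟨b₂, hb₂⟩ := bQ
  let p₁ := pullback.fst f g
  let p₂ := pullback.snd f g
  -- the derived pullback of `P`
  have hPhom : ∀ i : ℤ, b₁ < i → IsZero (P.homology i) := fun i hi =>
    ShortComplex.isZero_homology_of_isZero_X₂ _ (hb₁ i hi)
  haveI hPle : (DCoh.toD X P).IsLE b₁ := (DerivedCategory.isLE_iff _ b₁).2 (fun i hi =>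
    (hPhom i hi).of_iso ((DerivedCategory.homologyFunctorFactors X.Modules i).app P))
  have hLpc : ∀ m : ℤ, DCoh.IsPseudoCoherentD m ((DCoh.Lpull p₁).obj (DCoh.toD X P)) := fun m =>
    Groth.Agent.H28.LpullLoc.isPseudoCoherentD_Lpull p₁ m _
      (Groth.Agent.PC.isPseudoCoherentD_of_isCohD (DCoh.toD X P) b₁ hP m)
  have hLq : DCoh.IsQCohD ((DCoh.Lpull p₁).obj (DCoh.toD X P)) :=
    Groth.Agent.H6.LpullQCoh.isQCohD_Lpull p₁ _ (fun i => (hP i).1)
  have hLcoh : DCoh.IsCohD ((DCoh.Lpull p₁).obj (DCoh.toD X P)) := isCohD_of_pc _ hLq hLpc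
  have hLb : ∃ a : ℤ, ∀ i, a < i → IsZero (DCoh.HD ((DCoh.Lpull p₁).obj (DCoh.toD X P)) i) :=
    ⟨b₁, isZero_HD_Lpull p₁ P b₁ hPhom⟩
  -- the flat pullback of `Q`
  haveI : Flat p₂ := inferInstance
  haveI := Groth.Agent.S6514.preservesFiniteLimits_pullback p₂
  haveI : (Scheme.Modules.pullback p₂).PreservesHomology := inferInstance
  have hEcoh : DCoh.IsCohD (DCoh.toD (pullback f g) ((HTor.pullCx p₂).obj Q)) := by
    intro i
    have hQi : Coh.IsCoh (Q.homology i) :=
      Groth.Agent.H90.QH.isCoh_of_iso ((DerivedCategory.homologyFunctorFactors Y.Modules i).app Q)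
        (hQ i)
    haveI : (Q.homology i).IsQuasicoherent := hQi.1
    haveI : SheafOfModules.IsFiniteType (R := Y.ringCatSheaf) (Q.homology i) := hQi.2
    have h1 : Coh.IsCoh ((Scheme.Modules.pullback p₂).obj (Q.homology i)) :=
      ⟨Groth.Agent.H8.isQuasicoherent_pullback p₂ _, Groth.Agent.H8.isFiniteType_pullback p₂ _⟩
    have ψ : ((HTor.pullCx p₂).obj Q).homology i ≅
        (Scheme.Modules.pullback p₂).obj (Q.homology i) :=
      (Q.sc i).mapHomologyIso (Scheme.Modules.pullback p₂)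
    have φ : DCoh.HD (DCoh.toD (pullback f g) ((HTor.pullCx p₂).obj Q)) i ≅
        ((HTor.pullCx p₂).obj Q).homology i :=
      (DerivedCategory.homologyFunctorFactors (pullback f g).Modules i).app _
    exact Groth.Agent.H90.QH.isCoh_of_iso (φ ≪≫ ψ).symm h1
  have hEb : ∃ b : ℤ, ∀ i, b < i →
      IsZero (DCoh.HD (DCoh.toD (pullback f g) ((HTor.pullCx p₂).obj Q)) i) :=
    ⟨b₂, fun i hi => IsZero.of_iso
      (ShortComplex.isZero_homology_of_isZero_X₂ _
        ((Scheme.Modules.pullback p₂).map_isZero (hb₂ i hi)))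
      ((DerivedCategory.homologyFunctorFactors (pullback f g).Modules i).app _)⟩
  exact (Groth.Agent.S6498.result (pullback f g) ((HTor.pullCx p₂).obj Q)
    ((DCoh.Lpull p₁).obj (DCoh.toD X P)) hLcoh hLb hEcoh hEb).1

end Groth.Agent.S3542
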