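import Groth.Statements.S3533
import Groth.Agent.S3542

set_option autoImplicit false
set_option linter.style.haveILetI false
universe u
attribute [local instance] HasDerivedCategory.standard
open HTor

namespace Groth.Agent.S3533

open CategoryTheory CategoryTheory.Limits AlgebraicGeometry in
/-- Terms of a module placed in degree `0` are quasi-coherent. -/
theorem isQCoh_single_X {W : Scheme.{u}} (M : W.Modules) (hM : Coh.IsCoh M) (i : ℤ) :
    Coh.IsQCoh (((HomologicalComplex.single W.Modules (ComplexShape.up ℤ) 0).obj M).X i) := by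
  by_cases hi : i = 0
  · subst hi
    exact (Groth.Agent.H90.QH.isCoh_of_iso
      (HomologicalComplex.singleObjXSelf (ComplexShape.up ℤ) 0 M).symm hM).1
  · exact (Groth.Agent.H90.QH.isCoh_of_isZero
      (HomologicalComplex.isZero_single_obj_X (ComplexShape.up ℤ) 0 M i hi)).1

open CategoryTheory CategoryTheory.Limits AlgebraicGeometry in
/-- A coherent module in degree `0` lies in `D_Coh`. -/
theorem isCohD_single {W : Scheme.{u}} (M : W.Modules) (hM : Coh.IsCoh M) :
    DCoh.IsCohD (DCoh.toD W ((HomologicalComplex.single W.Modules (ComplexShape.up ℤ) 0).obj M)) := by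
  intro i
  refine Groth.Agent.H90.QH.isCoh_of_iso
    ((DerivedCategory.homologyFunctorFactors W.Modules i).app _).symm ?_
  by_cases hi : i = 0
  · subst hi
    exact Groth.Agent.H90.QH.isCoh_of_iso
      (HomologicalComplex.singleObjHomologySelfIso (ComplexShape.up ℤ) 0 M).symm hM
  · exact Groth.Agent.H90.QH.isCoh_of_isZero
      (HomologicalComplex.isZero_single_obj_homology (ComplexShape.up ℤ) 0 M i hi)

open CategoryTheory CategoryTheory.Limits AlgebraicGeometry in
/-- Let f : X ⟶ S be a flat morphism with X locally Noetherian, g : Y ⟶ S a morphism, and suppose Z = X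
×_S Y is locally Noetherian. As X is flat over S, the local hypertor sheaves Tor_n^S(F, G) on Z are
taken to be the cohomology sheaves in degree −n of L pr₁^* F ⊗^L pr₂^* G, where pr₂^* G is the plain
pullback of G viewed as a complex in degree 0 and the derived pullback L pr₁^* and the derived
tensor product are taken under their existence binders; the statement is made in that form. Then for
F a coherent O_X-module and G a coherent O_Y-module, every cohomology sheaf of L pr₁^* F ⊗^L pr₂^* G
is a coherent O_Z-module. -/
theorem result (X Y S : Scheme.{u}) (f : X ⟶ S) (g : Y ⟶ S) [Flat f]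
    [IsLocallyNoetherian X] [IsLocallyNoetherian (pullback f g)] (F : X.Modules) (G : Y.Modules)
    (hF : Coh.IsCoh F) (hG : Coh.IsCoh G) [DCoh.HasLpull (pullback.fst f g)]
    [DCoh.HasLTensorCx ((HTor.pullCx (pullback.snd f g)).obj
      ((HomologicalComplex.single Y.Modules (ComplexShape.up ℤ) 0).obj G))] (n : ℤ) :
    Coh.IsCoh (DCoh.HD ((DCoh.LTensorCx ((HTor.pullCx (pullback.snd f g)).obj
      ((HomologicalComplex.single Y.Modules (ComplexShape.up ℤ) 0).obj G))).obj
        ((DCoh.Lpull (pullback.fst f g)).obj (DCoh.inD X F))) n) := by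
  let P := (HomologicalComplex.single X.Modules (ComplexShape.up ℤ) 0).obj F
  let Q := (HomologicalComplex.single Y.Modules (ComplexShape.up ℤ) 0).obj G
  have h := Groth.Agent.S3542.result X Y S f g P Q (isQCoh_single_X F hF) (isQCoh_single_X G hG)
    ⟨0, fun i hi => HomologicalComplex.isZero_single_obj_X (ComplexShape.up ℤ) 0 F i (by omega)⟩
    ⟨0, fun i hi => HomologicalComplex.isZero_single_obj_X (ComplexShape.up ℤ) 0 G i (by omega)⟩
    (isCohD_single F hF) (isCohD_single G hG)
  let e : DCoh.inD X F ≅ DCoh.toD X P :=
    (DerivedCategory.singleFunctorIsoCompQ X.Modules 0).app F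
  exact Groth.Agent.H90.QH.isCoh_of_iso
    ((DerivedCategory.homologyFunctor _ n).mapIso
      ((DCoh.LTensorCx ((HTor.pullCx (pullback.snd f g)).obj Q)).mapIso
        ((DCoh.Lpull (pullback.fst f g)).mapIso e))).symm (h n)

end Groth.Agent.S3533
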