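import Groth.Statements.S3544
import Mathlib.Algebra.Homology.ShortComplex.ModuleCat
import Mathlib.RingTheory.Length

set_option autoImplicit false
universe u
open HomAlg3

namespace Groth.Agent.S3544

section Aux

open CategoryTheory CategoryTheory.Limits

variable {A : Type u} [Ring A]

lemma length_three {M₁ M₂ M₃ : Type u} [AddCommGroup M₁] [Module A M₁] [AddCommGroup M₂]
    [Module A M₂] [AddCommGroup M₃] [Module A M₃]
    (f : M₁ →ₗ[A] M₂) (g : M₂ →ₗ[A] M₃) (N : Submodule A (LinearMap.ker g))
    (hN : N.map (LinearMap.ker g).subtype = LinearMap.range f) :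
    Module.length A M₂ = Module.length A (LinearMap.range f) +
      Module.length A ((LinearMap.ker g) ⧸ N) + Module.length A (LinearMap.range g) := by
  have h1 : Module.length A M₂ =
      Module.length A (LinearMap.ker g) + Module.length A (M₂ ⧸ LinearMap.ker g) :=
    Module.length_eq_add_of_exact (LinearMap.ker g).subtype (LinearMap.ker g).mkQ
      (Submodule.injective_subtype _) (Submodule.mkQ_surjective _)
      (LinearMap.exact_subtype_mkQ _)
  have h2 : Module.length A (M₂ ⧸ LinearMap.ker g) = Module.length A (LinearMap.range g) :=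
    g.quotKerEquivRange.length_eq
  have h3 : Module.length A (LinearMap.ker g) =
      Module.length A N + Module.length A (LinearMap.ker g ⧸ N) :=
    Module.length_eq_add_of_exact N.subtype N.mkQ
      (Submodule.injective_subtype _) (Submodule.mkQ_surjective _)
      (LinearMap.exact_subtype_mkQ _)
  have h4 : Module.length A N = Module.length A (LinearMap.range f) := by
    rw [← hN]
    exact (Submodule.equivMapOfInjective _ (Submodule.injective_subtype _) N).length_eq
  rw [h1, h2, h3, h4]

variable {κ : Type} [AddCommGroup κ] {a : κ}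

lemma range_len_congr (M : HomologicalComplex (ModuleCat.{u} A) (ComplexShape.up' a))
    {i j : κ} (k : κ) (h : i = j) :
    Module.length A (LinearMap.range (M.d i k).hom) =
      Module.length A (LinearMap.range (M.d j k).hom) := by
  subst h; rfl

lemma length_X (M : HomologicalComplex (ModuleCat.{u} A) (ComplexShape.up' a)) (i : κ) :
    Module.length A (M.X i) = Module.length A (LinearMap.range (M.d (i - a) i).hom) +
      Module.length A (M.homology i) + Module.length A (LinearMap.range (M.d i (i + a)).hom) := by
  have hp : (ComplexShape.up' a).prev i = i - a :=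
    (ComplexShape.up' a).prev_eq' (show (ComplexShape.up' a).Rel (i - a) i from sub_add_cancel i a)
  have hn : (ComplexShape.up' a).next i = i + a :=
    (ComplexShape.up' a).next_eq' (show (ComplexShape.up' a).Rel i (i + a) from rfl)
  let S := M.sc' (i - a) i (i + a)
  have e1 : M.homology i ≅ S.homology := M.homologyIsoSc' (i - a) i (i + a) hp hn
  have e2 := S.moduleCatHomologyIso
  have hlen : Module.length A (M.homology i) =
      Module.length A (LinearMap.ker S.g.hom ⧸ LinearMap.range S.moduleCatToCycles) :=
    ((e1 ≪≫ e2).toLinearEquiv).length_eq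
  rw [hlen]
  exact length_three S.f.hom S.g.hom (LinearMap.range S.moduleCatToCycles) (by
    rw [← LinearMap.range_comp, LinearMap.subtype_comp_codRestrict])

theorem euler (M : HomologicalComplex (ModuleCat.{u} A) (ComplexShape.up' a))
    (ε : κ → ℤ) (hεs : ∀ i, ε (i + a) = - ε i) (s : Finset κ)
    (hs : ∀ i, i ∉ s → IsZero (M.X i)) (hfl : ∀ i, IsFiniteLength A (M.X i)) :
    ((s.sum fun i => ε i * ((Module.length A (M.X i)).toNat : ℤ)) =
      s.sum fun i => ε i * ((Module.length A (M.homology i)).toNat : ℤ)) ∧
    (∀ i, i ∉ s → IsZero (M.homology i)) ∧ (∀ i, IsFiniteLength A (M.homology i)) := by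
  classical
  have hfin : ∀ i, Module.length A (M.X i) ≠ ⊤ := fun i => Module.length_ne_top_iff.mpr (hfl i)
  set bE : κ → ℕ∞ := fun i => Module.length A (LinearMap.range (M.d (i - a) i).hom) with hbE
  set hE : κ → ℕ∞ := fun i => Module.length A (M.homology i) with hhE
  have key : ∀ i, Module.length A (M.X i) = bE i + hE i + bE (i + a) := by
    intro i
    have h1 := length_X M i
    have h2 : bE (i + a) = Module.length A (LinearMap.range (M.d i (i + a)).hom) :=
      range_len_congr M (i + a) (add_sub_cancel_right i a)
    rw [h2]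
    exact h1
  have hfin' : ∀ i, bE i ≠ ⊤ ∧ hE i ≠ ⊤ ∧ bE (i + a) ≠ ⊤ := by
    intro i
    have h := hfin i
    rw [key i] at h
    have h1 := WithTop.add_ne_top.1 h
    have h2 := WithTop.add_ne_top.1 h1.1
    exact ⟨h2.1, h2.2, h1.2⟩
  have keyN : ∀ i, ((Module.length A (M.X i)).toNat : ℤ) =
      ((bE i).toNat : ℤ) + ((hE i).toNat : ℤ) + ((bE (i + a)).toNat : ℤ) := by
    intro i
    obtain ⟨h1, h2, h3⟩ := hfin' i
    have e := key i
    obtain ⟨x, hx⟩ := ENat.ne_top_iff_exists.1 h1
    obtain ⟨y, hy⟩ := ENat.ne_top_iff_exists.1 h2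
    obtain ⟨z, hz⟩ := ENat.ne_top_iff_exists.1 h3
    rw [e, ← hx, ← hy, ← hz, ← Nat.cast_add, ← Nat.cast_add, ENat.toNat_natCast,
      ENat.toNat_natCast, ENat.toNat_natCast, ENat.toNat_natCast]
    push_cast
    ring
  have b0 : ∀ i, i ∉ s → (bE i).toNat = 0 := by
    intro i hi
    have : Subsingleton (M.X i) := ModuleCat.subsingleton_of_isZero (hs i hi)
    have : bE i = 0 := by
      simp only [hbE]
      rw [Module.length_eq_zero_iff]
      infer_instance
    rw [this]
    rfl
  have b0' : ∀ i, (i - a) ∉ s → (bE i).toNat = 0 := by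
    intro i hi
    have : Subsingleton (M.X (i - a)) := ModuleCat.subsingleton_of_isZero (hs (i - a) hi)
    have : bE i = 0 := by
      simp only [hbE]
      rw [Module.length_eq_zero_iff]
      refine ⟨fun x y => ?_⟩
      obtain ⟨x, p, rfl⟩ := x
      obtain ⟨y, q, rfl⟩ := y
      congr 1
      rw [Subsingleton.elim p q]
    rw [this]
    rfl
  set g : κ → ℤ := fun i => ε i * ((bE i).toNat : ℤ) with hg
  have hterm : ∀ i, ε i * ((Module.length A (M.X i)).toNat : ℤ) =
      ε i * ((hE i).toNat : ℤ) + (g i - g (i + a)) := by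
    intro i
    simp only [hg]
    rw [keyN i, hεs i]
    ring
  have hsumg : (s.sum fun i => g i - g (i + a)) = 0 := by
    rw [Finset.sum_sub_distrib]
    have h1 : (s.sum fun i => g (i + a)) = (s.image (fun i => i + a)).sum g := by
      rw [Finset.sum_image]
      intro x _ y _ hxy
      exact add_right_cancel hxy
    have h2 : s.sum g = (s ∩ s.image (fun i => i + a)).sum g := by
      symm
      apply Finset.sum_subset Finset.inter_subset_left
      intro x hx hnx
      have hx' : x - a ∉ s := by
        intro hmem
        apply hnx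
        rw [Finset.mem_inter]
        refine ⟨hx, ?_⟩
        rw [Finset.mem_image]
        exact ⟨x - a, hmem, sub_add_cancel x a⟩
      change ε x * ((bE x).toNat : ℤ) = 0
      rw [b0' x hx', Nat.cast_zero, mul_zero]
    have h3 : (s.image (fun i => i + a)).sum g = (s ∩ s.image (fun i => i + a)).sum g := by
      symm
      apply Finset.sum_subset Finset.inter_subset_right
      intro x hx hnx
      have hx' : x ∉ s := by
        intro hmem
        apply hnx
        rw [Finset.mem_inter]
        exact ⟨hmem, hx⟩
      change ε x * ((bE x).toNat : ℤ) = 0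
      rw [b0 x hx', Nat.cast_zero, mul_zero]
    rw [h1, h2, h3, sub_self]
  refine ⟨?_, ?_, ?_⟩
  · calc (s.sum fun i => ε i * ((Module.length A (M.X i)).toNat : ℤ))
        = s.sum fun i => (ε i * ((hE i).toNat : ℤ) + (g i - g (i + a))) :=
          Finset.sum_congr rfl (fun i _ => hterm i)
      _ = (s.sum fun i => ε i * ((hE i).toNat : ℤ)) + (s.sum fun i => g i - g (i + a)) :=
          Finset.sum_add_distrib
      _ = s.sum fun i => ε i * ((hE i).toNat : ℤ) := by rw [hsumg, add_zero]
  · intro i hi
    have : Subsingleton (M.X i) := ModuleCat.subsingleton_of_isZero (hs i hi)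
    have h0 : Module.length A (M.X i) = 0 := Module.length_eq_zero_iff.2 inferInstance
    rw [key i] at h0
    have h1 : hE i = 0 := (add_eq_zero.1 (add_eq_zero.1 h0).1).2
    have : Subsingleton (M.homology i) := Module.length_eq_zero_iff.1 h1
    exact ModuleCat.isZero_of_subsingleton _
  · intro i
    exact Module.length_ne_top_iff.1 (hfin' i).2.1

end Aux


open CategoryTheory CategoryTheory.Limits in
/-- Let E be a cohomological spectral sequence of modules over a ring A, starting at page 2, such that
the E₂ terms have finite length and only finitely many of them (all inside the finite set s of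
bidegrees) are nonzero. Then for every r ≥ 2 the Euler–Poincaré characteristic of page r, the
alternating sum over s of (-1)^{p+q} times the length of E_r^{pq}, equals that of page 2. -/
theorem result {A : Type u} [Ring A]
    (E : E₂CohomologicalSpectralSequence (ModuleCat.{u} A)) (s : Finset (ℤ × ℤ))
    (hs : ∀ pq : ℤ × ℤ, pq ∉ s → IsZero ((E.page 2).X pq))
    (hfl : ∀ pq : ℤ × ℤ, IsFiniteLength A ((E.page 2).X pq)) (r : ℤ) (hr : 2 ≤ r) :
    (s.sum fun pq => (((pq.1 + pq.2).negOnePow : ℤˣ) : ℤ) * ((Module.length A ((E.page r hr).X pq)).toNat : ℤ)) =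
      s.sum fun pq => (((pq.1 + pq.2).negOnePow : ℤˣ) : ℤ) * ((Module.length A ((E.page 2).X pq)).toNat : ℤ) := by
  classical
  set ε : ℤ × ℤ → ℤ := fun pq => (((pq.1 + pq.2).negOnePow : ℤˣ) : ℤ) with hε
  have hεs : ∀ (r : ℤ) (pq : ℤ × ℤ), ε (pq + (r, 1 - r)) = - ε pq := by
    intro r pq
    simp only [hε]
    have : (pq + (r, 1 - r)).1 + (pq + (r, 1 - r)).2 = pq.1 + pq.2 + 1 := by
      simp only [Prod.fst_add, Prod.snd_add]
      ring
    rw [this, Int.negOnePow_succ, Units.val_neg]
  have main : ∀ (n : ℤ) (hn : 2 ≤ n),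
      (∀ pq : ℤ × ℤ, pq ∉ s → IsZero ((E.page n hn).X pq)) ∧
      (∀ pq : ℤ × ℤ, IsFiniteLength A ((E.page n hn).X pq)) ∧
      ((s.sum fun pq => ε pq * ((Module.length A ((E.page n hn).X pq)).toNat : ℤ)) =
        s.sum fun pq => ε pq * ((Module.length A ((E.page 2).X pq)).toNat : ℤ)) := by
    intro n hn
    induction n, hn using Int.leInduction with
    | base => exact ⟨hs, hfl, rfl⟩
    | succ n hn ih =>
      obtain ⟨ih1, ih2, ih3⟩ := ih
      obtain ⟨e1, e2, e3⟩ := euler (E.page n hn) ε (hεs n) s ih1 ih2
      have hiso : ∀ pq, Module.length A ((E.page (n + 1) (Int.le_add_one hn)).X pq) =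
          Module.length A ((E.page n hn).homology pq) := fun pq =>
        ((E.iso n (n + 1) pq rfl hn).toLinearEquiv).length_eq.symm
      refine ⟨?_, ?_, ?_⟩
      · intro pq hpq
        exact IsZero.of_iso (e2 pq hpq) (E.iso n (n + 1) pq rfl hn).symm
      · intro pq
        rw [← Module.length_ne_top_iff, hiso pq, Module.length_ne_top_iff]
        exact e3 pq
      · rw [← ih3, e1]
        exact Finset.sum_congr rfl (fun pq _ => by rw [hiso pq])
  exact (main r hr).2.2

end Groth.Agent.S3544
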