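import Groth.Statements.S3547
import Groth.Agent.H18.GrTildeFrac

set_option autoImplicit false
universe u
open CategoryTheory CategoryTheory.Limits AlgebraicGeometry
open EGA2

namespace Groth.Agent.S3547

/-- Let S be a graded ring, M a graded S-module, X = Proj S and p a point of X. The stalk of M(n)~ at p
is the module of fractions m/f in M_p with m, f homogeneous, f not in p and deg m = deg f + n:
precisely, evaluation at p is a bijection from the stalk at p of the sheaf of local sections of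
M(n)~ onto that module of fractions. -/
theorem result {R A : Type u} [CommRing R] [CommRing A] [Algebra R A] (𝒜 : ℕ → Submodule R A) [GradedAlgebra 𝒜]
    {M : Type u} [AddCommGroup M] [Module R M] [Module A M] [IsScalarTower R A M] (ℳ : ℕ → Submodule R M) [DirectSum.Decomposition ℳ] [SetLike.GradedSMul 𝒜 ℳ] (n : ℤ)
    (p : ProjectiveSpectrum 𝒜) :
    Function.Bijective (TopCat.stalkToFiber (GrTilde.isLocFrac 𝒜 ℳ n) p) := by
  constructor
  · apply TopCat.stalkToFiber_injective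
    intro U V fU hU fV hV e
    rcases hU ⟨p, U.2⟩ with ⟨U', mU, iU, i, j, a, s, ninU, -, wU⟩
    rcases hV ⟨p, V.2⟩ with ⟨V', mV, iV, i', j', b, t, ninV, -, wV⟩
    have e' : (fU ⟨p, U.2⟩ : GrTilde.LocMod 𝒜 (M := M) p) = (fV ⟨p, V.2⟩).1 := congrArg Subtype.val e
    have wUp := wU ⟨p, mU⟩
    have wVp := wV ⟨p, mV⟩
    dsimp only at wUp wVp
    have e'' : (LocalizedModule.mk a.1 ⟨s.1, ninU ⟨p, mU⟩⟩ : GrTilde.LocMod 𝒜 (M := M) p) =
        LocalizedModule.mk b.1 ⟨t.1, ninV ⟨p, mV⟩⟩ := by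
      rw [← wUp, ← wVp]
      exact e'
    rw [LocalizedModule.mk_eq] at e''
    obtain ⟨u, hu⟩ := e''
    refine ⟨⟨ProjectiveSpectrum.basicOpen 𝒜 u.1 ⊓ (U' ⊓ V'), ⟨u.2, mU, mV⟩⟩, ?_, ?_, ?_⟩
    · change ProjectiveSpectrum.basicOpen 𝒜 u.1 ⊓ (U' ⊓ V') ⟶ U.val
      exact homOfLE (le_trans inf_le_right inf_le_left) ≫ iU
    · change ProjectiveSpectrum.basicOpen 𝒜 u.1 ⊓ (U' ⊓ V') ⟶ V.val
      exact homOfLE (le_trans inf_le_right inf_le_right) ≫ iV
    · intro w
      apply Subtype.ext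
      have h1 := wU ⟨w.1, w.2.2.1⟩
      have h2 := wV ⟨w.1, w.2.2.2⟩
      refine h1.trans (Eq.trans ?_ h2.symm)
      rw [LocalizedModule.mk_eq]
      exact ⟨⟨u.1, w.2.1⟩, hu⟩
  · apply TopCat.stalkToFiber_surjective
    intro t
    obtain ⟨i, j, m, s, hs, hdeg, ht⟩ := Groth.Agent.H18.mem_fracSet_of_mem_tildeAt 𝒜 ℳ n p t.2
    have hnin : ∀ y : ProjectiveSpectrum.basicOpen 𝒜 s.1, s.1 ∉ y.1.asHomogeneousIdeal := fun y => y.2
    refine ⟨⟨ProjectiveSpectrum.basicOpen 𝒜 s.1, hs⟩,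
      fun y => ⟨LocalizedModule.mk m.1 ⟨s.1, hnin y⟩,
        Submodule.subset_span ⟨i, j, m, s, hnin y, hdeg, rfl⟩⟩, ?_, ?_⟩
    · intro y
      exact ⟨ProjectiveSpectrum.basicOpen 𝒜 s.1, y.2, 𝟙 _, i, j, m, s, hnin, Or.inl hdeg,
        fun _ => rfl⟩
    · apply Subtype.ext
      exact ht.symm

end Groth.Agent.S3547
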