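import Groth.Statements.S3548
import Groth.Agent.H18.ProjBasic

set_option autoImplicit false
universe u
open CategoryTheory CategoryTheory.Limits AlgebraicGeometry
open EGA2

namespace Groth.Agent.S3548

/-- Let S be a graded ring, M a graded S-module and X = Proj S. If for every z in M and every
homogeneous f of positive degree some power of f annihilates z, then the O_X-module M~ is zero. -/
theorem result {R A : Type u} [CommRing R] [CommRing A] [Algebra R A] (𝒜 : ℕ → Submodule R A) [GradedAlgebra 𝒜]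
    {M : Type u} [AddCommGroup M] [Module R M] [Module A M] [IsScalarTower R A M] (ℳ : ℕ → Submodule R M) [DirectSum.Decomposition ℳ] [SetLike.GradedSMul 𝒜 ℳ]
    (h : ∀ (z : M) (d : ℕ) (f : A), 0 < d → f ∈ 𝒜 d → ∃ k : ℕ, f ^ k • z = 0) :
    IsZero (GrTilde.tilde 𝒜 ℳ 0) := by
  have hsub : ∀ x : ProjectiveSpectrum 𝒜, Subsingleton (GrTilde.LocMod 𝒜 (M := M) x) := by
    intro x
    suffices ∀ a : GrTilde.LocMod 𝒜 (M := M) x, a = 0 from ⟨fun a b => by rw [this a, this b]⟩
    intro a
    induction a using LocalizedModule.induction_on with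
    | h m s =>
      obtain ⟨d, hd, f, hf, hfx⟩ := Groth.Agent.H18.exists_homogeneous_pos_not_mem 𝒜 x
      obtain ⟨k, hk⟩ := h m d f hd hf
      rw [← LocalizedModule.zero_mk s, LocalizedModule.mk_eq]
      refine ⟨⟨f ^ k, fun hmem => hfx (x.isPrime.mem_of_pow_mem k hmem)⟩, ?_⟩
      rw [smul_zero, smul_zero, smul_comm]
      show s • (f ^ k • m) = 0
      rw [hk, smul_zero]
  rw [IsZero.iff_id_eq_zero]
  ext U x
  have : Subsingleton (GrTilde.sect 𝒜 ℳ 0 (Opposite.op U)) :=
    ⟨fun a b => Subtype.ext (funext fun x => Subtype.ext ((hsub x.1).elim _ _))⟩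
  exact Subsingleton.elim (α := GrTilde.sect 𝒜 ℳ 0 (Opposite.op U)) _ _

end Groth.Agent.S3548
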