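import Groth.Statements.S3549
import Groth.Agent.H18.GradedModule

set_option autoImplicit false
universe u
open CategoryTheory CategoryTheory.Limits AlgebraicGeometry
open EGA2

namespace Groth.Agent.S3549

/-- Let S be a graded ring whose irrelevant ideal S_+ is generated by the degree-one elements, M a
graded S-module and X = Proj S. If the O_X-module M~ is zero, then for every z in M and every
homogeneous f of positive degree some power of f annihilates z. -/
theorem result {R A : Type u} [CommRing R] [CommRing A] [Algebra R A] (𝒜 : ℕ → Submodule R A) [GradedAlgebra 𝒜]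
    (hgen : (HomogeneousIdeal.irrelevant 𝒜).toIdeal = Ideal.span (𝒜 1 : Set A))
    {M : Type u} [AddCommGroup M] [Module R M] [Module A M] [IsScalarTower R A M] (ℳ : ℕ → Submodule R M) [DirectSum.Decomposition ℳ] [SetLike.GradedSMul 𝒜 ℳ]
    (h : IsZero (GrTilde.tilde 𝒜 ℳ 0)) (z : M) (d : ℕ) (f : A) (hd : 0 < d) (hf : f ∈ 𝒜 d) :
    ∃ k : ℕ, f ^ k • z = 0 := by
  classical
  -- sections of the zero module vanish
  have hsect : ∀ (U : (Proj 𝒜).Opens) (s : GrTilde.sect 𝒜 ℳ 0 (Opposite.op U)), s = 0 := by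
    intro U s
    have hid := (IsZero.iff_id_eq_zero _).mp h
    have := congrArg (fun φ : GrTilde.tilde 𝒜 ℳ 0 ⟶ GrTilde.tilde 𝒜 ℳ 0 =>
      (Scheme.Modules.Hom.app φ U).hom (show Γ(GrTilde.tilde 𝒜 ℳ 0, U) from s)) hid
    exact this
  -- the homogeneous case
  have hhom : ∀ (i : ℕ) (m : M), m ∈ ℳ i → ∃ k : ℕ, f ^ k • m = 0 := by
    intro i m hm
    apply Groth.Agent.H18.exists_pow_smul_eq_zero_of_forall_localized_eq_zero 𝒜 ℳ hd hf hm
    intro x _
    -- a degree-one element outside `x`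
    obtain ⟨g, hg1, hgx⟩ : ∃ g ∈ 𝒜 1, g ∉ x.asHomogeneousIdeal := by
      by_contra hcon
      push Not at hcon
      apply x.not_irrelevant_le
      show (HomogeneousIdeal.irrelevant 𝒜).toIdeal ≤ x.asHomogeneousIdeal.toIdeal
      rw [hgen, Ideal.span_le]
      exact fun g hg => hcon g hg
    have hgi : g ^ i ∈ 𝒜 i := by
      have := SetLike.pow_mem_graded i hg1
      simpa using this
    have hnin : ∀ y : ProjectiveSpectrum.basicOpen 𝒜 g, g ^ i ∉ y.1.asHomogeneousIdeal :=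
      fun y hy => y.2 (y.1.isPrime.mem_of_pow_mem i hy)
    let s : GrTilde.sect 𝒜 ℳ 0 (Opposite.op (ProjectiveSpectrum.basicOpen 𝒜 g)) :=
      ⟨fun y => ⟨LocalizedModule.mk m ⟨g ^ i, hnin y⟩,
          Submodule.subset_span ⟨i, i, ⟨m, hm⟩, ⟨g ^ i, hgi⟩, hnin y, by simp, rfl⟩⟩,
        fun y => ⟨ProjectiveSpectrum.basicOpen 𝒜 g, y.2, 𝟙 _, i, i, ⟨m, hm⟩, ⟨g ^ i, hgi⟩,
          hnin, Or.inl (by simp), fun _ => rfl⟩⟩
    have hs0 := hsect _ s
    have hval : ((s.1 ⟨x, hgx⟩ : GrTilde.tildeAt 𝒜 ℳ 0 x) : GrTilde.LocMod 𝒜 (M := M) x) = 0 := by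
      rw [hs0]
      rfl
    have hval' : (LocalizedModule.mk m ⟨g ^ i, hnin ⟨x, hgx⟩⟩ : GrTilde.LocMod 𝒜 (M := M) x) = 0 :=
      hval
    rw [← LocalizedModule.zero_mk (1 : x.asHomogeneousIdeal.toIdeal.primeCompl),
      LocalizedModule.mk_eq] at hval'
    obtain ⟨u, hu⟩ := hval'
    refine ⟨u.1, u.2, ?_⟩
    have hu' : u • m = 0 := by simpa using hu
    exact hu'
  -- the general case: decompose `z`
  rw [← DirectSum.sum_support_decompose ℳ z]
  choose! k hk using fun i => hhom i (DirectSum.decompose ℳ z i : M) (SetLike.coe_mem _)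
  refine ⟨(DirectSum.decompose ℳ z).support.sup k, ?_⟩
  rw [Finset.smul_sum]
  refine Finset.sum_eq_zero fun i hi => ?_
  have hle : k i ≤ (DirectSum.decompose ℳ z).support.sup k := Finset.le_sup hi
  obtain ⟨e, he⟩ := Nat.exists_eq_add_of_le hle
  rw [he, pow_add, mul_comm, mul_smul, hk i, smul_zero]

end Groth.Agent.S3549
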