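import Groth.Statements.S3551
import Groth.Agent.H18.Serre.Finite

set_option autoImplicit false
universe u
open CategoryTheory CategoryTheory.Limits AlgebraicGeometry
open EGA2

namespace Groth.Agent.S3551

/-- Let S be a graded ring whose irrelevant ideal S_+ is generated by finitely many elements of degree
one, and X = Proj S. Then every quasi-coherent O_X-module of finite type is isomorphic to N~ for
some finitely generated graded S-module N (graded in nonnegative degrees). -/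
theorem result {R A : Type u} [CommRing R] [CommRing A] [Algebra R A] (𝒜 : ℕ → Submodule R A) [GradedAlgebra 𝒜]
    (s : Finset A) (hs1 : ∀ f ∈ s, f ∈ 𝒜 1)
    (hs : (HomogeneousIdeal.irrelevant 𝒜).toIdeal = Ideal.span (s : Set A))
    (F : (Proj 𝒜).Modules) (hF : Coh.IsQCoh F) (hFT : CohB1.IsFT F) :
    ∃ (N : Type u) (_ : AddCommGroup N) (_ : Module R N) (_ : Module A N) (_ : IsScalarTower R A N)
      (𝒩 : ℕ → Submodule R N) (_ : DirectSum.Decomposition 𝒩) (_ : SetLike.GradedSMul 𝒜 𝒩),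
      Module.Finite A N ∧ Nonempty (GrTilde.tilde 𝒜 𝒩 0 ≅ F) := by
  classical
  haveI : F.IsQuasicoherent := hF
  haveI : SheafOfModules.IsFiniteType (R := (Proj 𝒜).ringCatSheaf) F := hFT
  have hcov : ∀ x : Proj 𝒜, ∃ g : s,
      g.1 ∉ (x : ProjectiveSpectrum 𝒜).asHomogeneousIdeal := by
    intro x
    by_contra hcon
    push Not at hcon
    refine (x : ProjectiveSpectrum 𝒜).not_irrelevant_le (fun a ha => ?_)
    have h1 : a ∈ (HomogeneousIdeal.irrelevant 𝒜).toIdeal := ha
    rw [hs] at h1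
    exact (Ideal.span_le.mpr (fun f hf => hcon ⟨f, hf⟩)) h1
  have hfin : ∀ g : s, Module.Finite Γ(Proj 𝒜, Groth.Agent.H18.Serre.D 𝒜 g.1)
      Γ(F, Groth.Agent.H18.Serre.D 𝒜 g.1) := fun g =>
    Groth.Agent.H8.finite_sections_of_isAffineOpen F
      (Proj.isAffineOpen_basicOpen 𝒜 g.1 (hs1 g.1 g.2) Nat.one_pos)
  obtain ⟨T, hT, hsurj⟩ := Groth.Agent.H18.Serre.exists_finset_enough
    (Groth.Agent.H18.Serre.famEvData 𝒜 s hs1 F) hfin
  have hN : ∀ y ∈ Submodule.span A (T : Set (Groth.Agent.H18.Serre.MFam 𝒜 s hs1 F)), ∀ n,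
      (DirectSum.decompose (Groth.Agent.H18.Serre.grading 𝒜 s hs1 F) y n :
        Groth.Agent.H18.Serre.MFam 𝒜 s hs1 F) ∈
        Submodule.span A (T : Set (Groth.Agent.H18.Serre.MFam 𝒜 s hs1 F)) := fun y hy n =>
    Groth.Agent.H18.Serre.decompose_mem_span 𝒜 (Groth.Agent.H18.Serre.grading 𝒜 s hs1 F) hT hy n
  letI : DirectSum.Decomposition (Groth.Agent.H18.Serre.subGrading
      (Groth.Agent.H18.Serre.grading 𝒜 s hs1 F)
      (Submodule.span A (T : Set (Groth.Agent.H18.Serre.MFam 𝒜 s hs1 F)))) :=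
    (Groth.Agent.H18.Serre.subGrading_isInternal
      (Groth.Agent.H18.Serre.grading 𝒜 s hs1 F) hN).chooseDecomposition
  obtain ⟨e⟩ := Groth.Agent.H18.Serre.nonempty_iso
    ((Groth.Agent.H18.Serre.famEvData 𝒜 s hs1 F).restrict
      (Submodule.span A (T : Set (Groth.Agent.H18.Serre.MFam 𝒜 s hs1 F))) hsurj) hcov
  exact ⟨↥(Submodule.span A (T : Set (Groth.Agent.H18.Serre.MFam 𝒜 s hs1 F))), inferInstance,
    inferInstance, inferInstance, inferInstance,
    Groth.Agent.H18.Serre.subGrading (Groth.Agent.H18.Serre.grading 𝒜 s hs1 F)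
      (Submodule.span A (T : Set (Groth.Agent.H18.Serre.MFam 𝒜 s hs1 F))),
    inferInstance, inferInstance,
    Module.Finite.iff_fg.mpr (Submodule.fg_span T.finite_toSet), ⟨e⟩⟩

end Groth.Agent.S3551
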