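import Groth.Statements.S3553
import Groth.Agent.H18.ProjBasic

set_option autoImplicit false
universe u
open CategoryTheory CategoryTheory.Limits AlgebraicGeometry
open EGA2

namespace Groth.Agent.S3553

/-- In the case where the induced morphism is defined on all of Proj S: let φ : S' → S be a homomorphism
of graded rings such that S_+ is contained in the ideal generated by φ(S'_+), and suppose every
element of the kernel of φ is nilpotent. Then the induced morphism from Proj S to Proj S' has dense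
image. -/
theorem result {R A : Type u} [CommRing R] [CommRing A] [Algebra R A] (𝒜 : ℕ → Submodule R A) [GradedAlgebra 𝒜]
    {B : Type u} [CommRing B] [Algebra R B] (ℬ : ℕ → Submodule R B) [GradedAlgebra ℬ]
    (φ : 𝒜 →+*ᵍ ℬ) (hφ : HomogeneousIdeal.irrelevant ℬ ≤ (HomogeneousIdeal.irrelevant 𝒜).map φ)
    (hker : ∀ a : A, φ a = 0 → IsNilpotent a) :
    DenseRange (Proj.map φ hφ).base := by
  show Dense (X := ProjectiveSpectrum 𝒜) (Set.range (Proj.map φ hφ).base)
  rw [(ProjectiveSpectrum.isTopologicalBasis_basic_opens 𝒜).dense_iff]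
  rintro _ ⟨a, rfl⟩ ⟨x, hx⟩
  have hax : a ∉ x.asHomogeneousIdeal := hx
  obtain ⟨i, hi, s, hs, hsx⟩ := Groth.Agent.H18.exists_homogeneous_pos_not_mem 𝒜 x
  have hnil : ¬ IsNilpotent (φ a * φ s) := by
    rintro ⟨n, hn⟩
    rw [← map_mul, ← map_pow] at hn
    have h1 : IsNilpotent (a * s) := (hker _ hn).of_pow
    have h2 : a * s ∈ x.asHomogeneousIdeal.toIdeal :=
      (nilpotent_iff_mem_prime.mp h1) _ x.isPrime
    rcases x.isPrime.mem_or_mem h2 with h | h
    · exact hax h
    · exact hsx h
  obtain ⟨q, hq1, hq2⟩ :=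
    Groth.Agent.H18.exists_point_not_mem_of_not_isNilpotent ℬ (φ a) (φ s) hi (φ.2 hs) hnil
  exact ⟨_, hq1, ⟨q, rfl⟩⟩

end Groth.Agent.S3553
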