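import Groth.Statements.S3555
import Groth.Agent.H18.TwistFrac

set_option autoImplicit false
universe u
open CategoryTheory CategoryTheory.Limits AlgebraicGeometry
open EGA2

namespace Groth.Agent.S3555

/-- Let S be a graded ring whose irrelevant ideal S_+ is generated by the degree-one elements, X = Proj
S, and f homogeneous of degree d > 0. Then D_+(f) is the set of points p of X at which the global
section f/1 of O_X(d) does not vanish, i.e. at which its value generates the module of degree-d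
fractions at p. -/
theorem result {R A : Type u} [CommRing R] [CommRing A] [Algebra R A] (𝒜 : ℕ → Submodule R A) [GradedAlgebra 𝒜]
    (hgen : (HomogeneousIdeal.irrelevant 𝒜).toIdeal = Ideal.span (𝒜 1 : Set A))
    {d : ℕ} (hd : 0 < d) (f : 𝒜 d) (p : ProjectiveSpectrum 𝒜) :
    p ∈ ProjectiveSpectrum.basicOpen 𝒜 (f : A) ↔
      Submodule.span (Twist.A0 𝒜 p) {(Twist.globalOf 𝒜 f).1 ⟨p, trivial⟩} = ⊤ := by
  have hone : (1 : A) ∉ p.asHomogeneousIdeal :=
    fun h => p.isPrime.ne_top ((Ideal.eq_top_iff_one _).mpr h)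
  have he : (((Twist.globalOf 𝒜 f).1 ⟨p, trivial⟩ : Twist.twistAt 𝒜 (d : ℤ) p) : Twist.Loc 𝒜 p) =
      Localization.mk f.1 ⟨1, hone⟩ := rfl
  constructor
  · intro hfp
    have hfp' : f.1 ∉ p.asHomogeneousIdeal := hfp
    rw [eq_top_iff]
    rintro ⟨q, hq⟩ -
    obtain ⟨i, j, a, s, hs, hdeg, rfl⟩ := Groth.Agent.H18.mem_twistFracSet_of_mem_twistAt 𝒜 d p hq
    have hij : i = j + d := by exact_mod_cast hdeg
    have hsf : s.1 * f.1 ∈ 𝒜 i := hij ▸ SetLike.mul_mem_graded s.2 f.2
    have hsfp : s.1 * f.1 ∉ p.asHomogeneousIdeal :=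
      fun h => (p.isPrime.mem_or_mem h).elim hs hfp'
    rw [Submodule.mem_span_singleton]
    refine ⟨HomogeneousLocalization.mk ⟨i, a, ⟨s.1 * f.1, hsf⟩, hsfp⟩, ?_⟩
    apply Subtype.ext
    rw [Twist.coe_smul_val, he, HomogeneousLocalization.val_mk, Localization.mk_mul,
      Localization.mk_eq_mk_iff, Localization.r_iff_exists]
    refine ⟨1, ?_⟩
    simp only [OneMemClass.coe_one, one_mul, Submonoid.coe_mul, mul_one]
    ring
  · intro hspan
    show f.1 ∉ p.asHomogeneousIdeal
    intro hfp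
    obtain ⟨g, hg1, hgp⟩ : ∃ g ∈ 𝒜 1, g ∉ p.asHomogeneousIdeal := by
      by_contra hcon
      push Not at hcon
      apply p.not_irrelevant_le
      show (HomogeneousIdeal.irrelevant 𝒜).toIdeal ≤ p.asHomogeneousIdeal.toIdeal
      rw [hgen, Ideal.span_le]
      exact fun g hg => hcon g hg
    have hgd : g ^ d ∈ 𝒜 d := by
      have := SetLike.pow_mem_graded d hg1
      simpa using this
    let q : Twist.twistAt 𝒜 (d : ℤ) p := ⟨Localization.mk (g ^ d) ⟨1, hone⟩,
      Submodule.subset_span ⟨d, 0, ⟨g ^ d, hgd⟩, ⟨1, SetLike.GradedOne.one_mem⟩, hone, by simp, rfl⟩⟩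
    have hq : q ∈ Submodule.span (Twist.A0 𝒜 p) {(Twist.globalOf 𝒜 f).1 ⟨p, trivial⟩} := by
      rw [hspan]; trivial
    rw [Submodule.mem_span_singleton] at hq
    obtain ⟨c, hc⟩ := hq
    have hc' := congrArg Subtype.val hc
    rw [Twist.coe_smul_val, he, c.eq_num_div_den, Localization.mk_mul,
      Localization.mk_eq_mk_iff, Localization.r_iff_exists] at hc'
    obtain ⟨u, hu⟩ := hc'
    simp only [Submonoid.coe_mul, mul_one, one_mul] at hu
    have hmem : (u : A) * (c.den * g ^ d) ∈ p.asHomogeneousIdeal.toIdeal := by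
      rw [← hu]
      exact Ideal.mul_mem_left _ _ (Ideal.mul_mem_left _ _ hfp)
    rcases p.isPrime.mem_or_mem hmem with h | h
    · exact u.2 h
    · rcases p.isPrime.mem_or_mem h with h | h
      · exact c.den_mem h
      · exact hgp (p.isPrime.mem_of_pow_mem d h)

end Groth.Agent.S3555
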