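import Groth.Statements.S3558
import Groth.Agent.H18.ProjBasic

set_option autoImplicit false
universe u
open CategoryTheory CategoryTheory.Limits AlgebraicGeometry
open EGA2

namespace Groth.Agent.S3558

/-- For a graded ring S, Proj S is empty if and only if every element of the irrelevant ideal S_+ is
nilpotent. -/
theorem result {R A : Type u} [CommRing R] [CommRing A] [Algebra R A] (𝒜 : ℕ → Submodule R A) [GradedAlgebra 𝒜] :
    IsEmpty (Proj 𝒜) ↔ ∀ f ∈ (HomogeneousIdeal.irrelevant 𝒜).toIdeal, IsNilpotent f := by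
  constructor
  · intro hempty f hf
    rw [nilpotent_iff_mem_prime]
    intro P hP
    by_contra hfP
    have hcore : (P.homogeneousCore 𝒜).toIdeal.IsPrime := hP.homogeneousCore
    have hle : (P.homogeneousCore 𝒜).toIdeal ≤ P := Ideal.toIdeal_homogeneousCore_le 𝒜 P
    have hx : ProjectiveSpectrum 𝒜 :=
      ⟨P.homogeneousCore 𝒜, hcore, fun hirr => hfP (hle (hirr hf))⟩
    exact hempty.false hx
  · intro h
    refine ⟨fun (x : ProjectiveSpectrum 𝒜) => x.not_irrelevant_le ?_⟩
    intro f hf
    exact (nilpotent_iff_mem_prime.mp (h f hf)) _ x.isPrime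

end Groth.Agent.S3558
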