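import Groth.Statements.S3559
import Groth.Agent.H18.ProjBasic

set_option autoImplicit false
universe u
open CategoryTheory CategoryTheory.Limits AlgebraicGeometry
open EGA2

namespace Groth.Agent.S3559

/-- Let S be a graded ring and (f_i) a family of homogeneous elements of positive degree. The opens
D_+(f_i) cover Proj S if and only if every element of S_+ has a power in the ideal generated by the
f_i. -/
theorem result {R A : Type u} [CommRing R] [CommRing A] [Algebra R A] (𝒜 : ℕ → Submodule R A) [GradedAlgebra 𝒜]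
    {ι : Type u} (f : ι → A) (hf : ∀ i, ∃ d : ℕ, 0 < d ∧ f i ∈ 𝒜 d) :
    (⨆ i, Proj.basicOpen 𝒜 (f i)) = ⊤ ↔
      (HomogeneousIdeal.irrelevant 𝒜).toIdeal ≤ (Ideal.span (Set.range f)).radical := by
  constructor
  · intro hcov g hg
    rw [Ideal.radical_eq_sInf, Ideal.mem_sInf]
    rintro P ⟨hfP, hP⟩
    by_contra hgP
    have hcore : (P.homogeneousCore 𝒜).toIdeal.IsPrime := hP.homogeneousCore
    have hle : (P.homogeneousCore 𝒜).toIdeal ≤ P := Ideal.toIdeal_homogeneousCore_le 𝒜 P
    let x : ProjectiveSpectrum 𝒜 :=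
      ⟨P.homogeneousCore 𝒜, hcore, fun hirr => hgP (hle (hirr hg))⟩
    have hx : (x : Proj 𝒜) ∈ (⨆ i, Proj.basicOpen 𝒜 (f i)) := by rw [hcov]; trivial
    obtain ⟨i, hi⟩ := TopologicalSpace.Opens.mem_iSup.mp hx
    apply hi
    obtain ⟨d, -, hd⟩ := hf i
    exact Ideal.mem_homogeneousCore_of_homogeneous_of_mem ⟨d, hd⟩
      (hfP (Ideal.subset_span ⟨i, rfl⟩))
  · intro h
    refine top_le_iff.mp fun (x : ProjectiveSpectrum 𝒜) _ => ?_
    by_contra hx
    apply x.not_irrelevant_le
    have h2 : (Ideal.span (Set.range f)).radical ≤ x.asHomogeneousIdeal.toIdeal := by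
      rw [x.isPrime.radical_le_iff, Ideal.span_le]
      rintro _ ⟨i, rfl⟩
      by_contra hi
      exact hx (TopologicalSpace.Opens.mem_iSup.mpr ⟨i, hi⟩)
    exact fun g hg => h2 (h hg)

end Groth.Agent.S3559
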