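import Groth.Statements.S3560
import Groth.Agent.H18.ProjEmpty
import Groth.Agent.S3558

set_option autoImplicit false
universe u
open CategoryTheory CategoryTheory.Limits AlgebraicGeometry
open EGA2

namespace Groth.Agent.S3560

/-- Let S be a graded ring whose irrelevant ideal S_+ is finitely generated. Then Proj S is empty if and
only if there is n such that S_k = 0 for all k ≥ n. -/
theorem result {R A : Type u} [CommRing R] [CommRing A] [Algebra R A] (𝒜 : ℕ → Submodule R A) [GradedAlgebra 𝒜]
    (hfg : (HomogeneousIdeal.irrelevant 𝒜).toIdeal.FG) :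
    IsEmpty (Proj 𝒜) ↔ ∃ n : ℕ, ∀ k : ℕ, n ≤ k → 𝒜 k = ⊥ := by
  rw [Groth.Agent.S3558.result 𝒜]
  constructor
  · intro hnil
    obtain ⟨n, hn⟩ := Groth.Agent.H18.exists_forall_eq_bot_of_fg_of_nil 𝒜 hfg hnil
    refine ⟨n, fun k hk => ?_⟩
    rw [eq_bot_iff]
    intro x hx
    rw [Submodule.mem_bot]
    exact hn k hk x hx
  · rintro ⟨n, hn⟩
    have hle : (HomogeneousIdeal.irrelevant 𝒜).toIdeal ≤ nilradical A := by
      rw [HomogeneousIdeal.toIdeal_irrelevant_le]
      intro i hi x hx
      have hx' : x ∈ 𝒜 i := hx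
      show x ∈ nilradical A
      rw [mem_nilradical]
      refine ⟨n + 1, ?_⟩
      have hpow : x ^ (n + 1) ∈ 𝒜 ((n + 1) • i) := SetLike.pow_mem_graded (n + 1) hx'
      have hk : n ≤ (n + 1) • i := by
        rw [smul_eq_mul]
        nlinarith
      rw [hn _ hk, Submodule.mem_bot] at hpow
      exact hpow
    intro f hf
    exact mem_nilradical.mp (hle hf)

end Groth.Agent.S3560
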