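import Groth.Statements.S3564
import Mathlib
import Groth.Agent.H18.ProjClosedImm
import Groth.Agent.H22.ProjClosedSub

set_option autoImplicit false
universe u
open CategoryTheory CategoryTheory.Limits AlgebraicGeometry
open EGA2

namespace Groth.Agent.S3564

/-- Let S be a graded ring whose irrelevant ideal S_+ is generated by finitely many elements of degree
one, X = Proj S, and Z → X a closed immersion. Then Z is X-isomorphic to Proj S' for a graded
quotient S' of S (a surjective homomorphism of graded rings S → S'), the isomorphism being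
compatible with the morphism Proj S' → X induced by the quotient map. (The source moreover
identifies the kernel: the largest graded ideal with this property, the inverse image of Γ_*(J)
under α; that description is not stated here.) -/
theorem result {R A : Type u} [CommRing R] [CommRing A] [Algebra R A] (𝒜 : ℕ → Submodule R A) [GradedAlgebra 𝒜]
    (s : Finset A) (hs1 : ∀ f ∈ s, f ∈ 𝒜 1)
    (hs : (HomogeneousIdeal.irrelevant 𝒜).toIdeal = Ideal.span (s : Set A))
    {Z : Scheme.{u}} (i : Z ⟶ Proj 𝒜) [IsClosedImmersion i] :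
    ∃ (B : Type u) (_ : CommRing B) (_ : Algebra R B) (ℬ : ℕ → Submodule R B) (_ : GradedAlgebra ℬ)
      (φ : 𝒜 →+*ᵍ ℬ) (_ : Function.Surjective φ)
      (hφ : HomogeneousIdeal.irrelevant ℬ ≤ (HomogeneousIdeal.irrelevant 𝒜).map φ)
      (e : Z ≅ Proj ℬ), e.hom ≫ Proj.map φ hφ = i := by
  classical
  let I := Groth.Agent.H22.bigIdeal 𝒜 i.ker s hs1
  letI inst : GradedAlgebra (Groth.Agent.H22.quotGrading 𝒜 I.toIdeal) :=
    Groth.Agent.H22.quotGradedAlgebra 𝒜 I.toIdeal I.isHomogeneous
  let φ : 𝒜 →+*ᵍ Groth.Agent.H22.quotGrading 𝒜 I.toIdeal :=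
    Groth.Agent.H22.quotGradedHom 𝒜 I.toIdeal
  have hsurj : Function.Surjective φ := Groth.Agent.H22.quotGradedHom_surjective 𝒜 _
  have hφ : HomogeneousIdeal.irrelevant (Groth.Agent.H22.quotGrading 𝒜 I.toIdeal) ≤
      (HomogeneousIdeal.irrelevant 𝒜).map φ :=
    Groth.Agent.H22.irrelevant_le_map_of_surjective 𝒜 _ φ hsurj
  haveI hcl : IsClosedImmersion (Proj.map φ hφ) :=
    Groth.Agent.H18.proj_map_isClosedImmersion φ hsurj hφ
  have hker : (Proj.map φ hφ).ker = i.ker := by
    refine Scheme.IdealSheafData.ext_of_iSup_eq_top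
      (fun g : {g // g ∈ s} => Groth.Agent.H22.affBasicOpen 𝒜 (hs1 g.1 g.2) one_pos) ?_ ?_
    · refine Proj.iSup_basicOpen_eq_top 𝒜 (fun g : {g // g ∈ s} => (g : A)) ?_
      rw [hs]
      refine Ideal.span_mono ?_
      intro x hx
      exact ⟨⟨x, hx⟩, rfl⟩
    · intro g
      exact Groth.Agent.H22.ker_map_ideal_eq 𝒜 _ φ hφ i.ker (hs1 g.1 g.2)
        (Groth.Agent.H22.ker_away_map_eq 𝒜 _ φ i.ker s hs1
          (fun a => Groth.Agent.H22.quotGradedHom_eq_zero_iff 𝒜 _ a) g.2)
  haveI hiso : IsIso (IsClosedImmersion.lift (Proj.map φ hφ) i hker.le) :=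
    IsClosedImmersion.isIso_lift _ _ hker
  exact ⟨A ⧸ I.toIdeal, inferInstance, inferInstance, Groth.Agent.H22.quotGrading 𝒜 I.toIdeal,
    inst, φ, hsurj, hφ, asIso (IsClosedImmersion.lift (Proj.map φ hφ) i hker.le),
    IsClosedImmersion.lift_fac _ _ _⟩

end Groth.Agent.S3564
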