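import Groth.Statements.S3566
import Groth.Agent.H18.AmpleBasis

set_option autoImplicit false
universe u
open CategoryTheory CategoryTheory.Limits AlgebraicGeometry
open EGA2

namespace Groth.Agent.S3566

/-- Let X be a quasi-compact separated scheme (the published statement also allows a prescheme with
Noetherian underlying space) and L an invertible O_X-module. Then L is ample, i.e. the affine ones
among the opens X_s (s a global section of a positive tensor power of L, X_s the locus where s
generates) cover X, if and only if all the opens X_s form a base of the topology of X. -/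
theorem result (X : Scheme.{u}) [CompactSpace X] [X.IsSeparated]
    (L : X.Modules) (hL : PicF.IsInvertible L) :
    CohB1.IsAmple L ↔
      TopologicalSpace.IsTopologicalBasis
        {U : Set X | ∃ (n : ℕ) (s : Coh.structureModule X ⟶ CohB1.tensorPow L (n + 1)),
          U = (CohB1.genLocus (CohB1.tensorPow L (n + 1)) s : Set X)} := by
  have hset : {U : Set X | ∃ (n : ℕ) (s : Coh.structureModule X ⟶ CohB1.tensorPow L (n + 1)),
      U = (CohB1.genLocus (CohB1.tensorPow L (n + 1)) s : Set X)} =
      (fun U : X.Opens => (U : Set X)) '' {U : X.Opens |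
        ∃ (n : ℕ) (s : Coh.structureModule X ⟶ CohB1.tensorPow L (n + 1)),
          U = CohB1.genLocus _ s} := by
    ext U
    constructor
    · rintro ⟨n, s, rfl⟩
      exact ⟨_, ⟨n, s, rfl⟩, rfl⟩
    · rintro ⟨_, ⟨n, s, rfl⟩, rfl⟩
      exact ⟨n, s, rfl⟩
  rw [hset]
  exact ⟨fun h => Groth.Agent.H18.AmpleBasis.isBasis_of_isAmple h,
    fun h => Groth.Agent.H18.AmpleBasis.isAmple_of_isBasis hL h⟩

end Groth.Agent.S3566
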