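import Groth.Statements.S3567
import Groth.Agent.S2925

set_option autoImplicit false
universe u
open CategoryTheory CategoryTheory.Limits AlgebraicGeometry
open EGA2

namespace Groth.Agent.S3567

open Groth.Agent.S2925

section

variable {S' S T : Scheme.{u}} (g : S' ⟶ S) (hq : Topology.IsQuotientMap g.base)
  (hinj : ∀ U : S.Opens, Function.Injective (g.app U).hom)
  (heq : ∀ U : S.Opens, Function.Surjective (g.app U).hom)
  (a : S' ⟶ T) (ha : ∀ s₁ s₂ : S', g.base s₁ = g.base s₂ → a.base s₁ = a.base s₂)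

include ha in
theorem const_on_fibres (s₁ s₂ : S') (h : g.base s₁ = g.base s₂) : a.base s₁ = a.base s₂ :=
  ha s₁ s₂ h

include hq hinj in
theorem epi_restrict' (V : S.Opens) : Epi (g ∣_ V) := by
  have : Surjective g := ⟨hq.surjective⟩
  have : Surjective (g ∣_ V) := IsZariskiLocalAtTarget.restrict ‹Surjective g› V
  apply epi_of_surjective_of_app_injective
  intro W x y hxy
  rw [morphismRestrict_app] at hxy
  apply hinj (V.ι ''ᵁ W)
  exact (ConcreteCategory.bijective_of_isIso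
    (S'.presheaf.map (eqToHom (image_morphismRestrict_preimage g V W)).op)).1 hxy

include heq in
theorem appLE_mem_range' (V : S.Opens) (W : T.Opens) (e : g ⁻¹ᵁ V ≤ a ⁻¹ᵁ W) (s : Γ(T, W)) :
    (a.appLE W (g ⁻¹ᵁ V) e).hom s ∈ Set.range (g.app V).hom :=
  heq V _

/-- The local descended morphism on an open `V` of `S` with `g⁻¹V ⊆ a⁻¹W`, `W` affine. -/
noncomputable def locHom' (V : S.Opens) {W : T.Opens} (hW : IsAffineOpen W)
    (e : g ⁻¹ᵁ V ≤ a ⁻¹ᵁ W) : (V : Scheme.{u}) ⟶ T :=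
  V.toSpecΓ ≫ Spec.map (CommRingCat.ofHom (liftRingHom (g.app V).hom (hinj V)
    (a.appLE W (g ⁻¹ᵁ V) e).hom (appLE_mem_range' g heq a V W e))) ≫ hW.fromSpec

theorem restrict_comp_locHom' (V : S.Opens) {W : T.Opens} (hW : IsAffineOpen W)
    (e : g ⁻¹ᵁ V ≤ a ⁻¹ᵁ W) :
    (g ∣_ V) ≫ locHom' g hinj heq a V hW e = (g ⁻¹ᵁ V).ι ≫ a := by
  have hθ : CommRingCat.ofHom (liftRingHom (g.app V).hom (hinj V)
      (a.appLE W (g ⁻¹ᵁ V) e).hom (appLE_mem_range' g heq a V W e)) ≫ g.app V =
      a.appLE W (g ⁻¹ᵁ V) e := by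
    apply CommRingCat.hom_ext
    apply RingHom.ext
    intro s
    exact liftRingHom_spec (g.app V).hom (hinj V) (a.appLE W (g ⁻¹ᵁ V) e).hom
      (appLE_mem_range' g heq a V W e) s
  rw [locHom', ← Category.assoc, ← Scheme.Opens.toSpecΓ_naturality, Category.assoc,
    ← Spec.map_comp_assoc, hθ, Scheme.Opens.toSpecΓ_SpecMap_appLE_assoc,
    IsAffineOpen.toSpecΓ_fromSpec, Scheme.Hom.resLE_comp_ι]

include hq hinj in
theorem eq_of_restrict_comp_eq' {U U' : S.Opens} (hle : U ≤ U') (t : (U : Scheme.{u}) ⟶ U')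
    (ht : t ≫ U'.ι = U.ι) (φ : (U : Scheme.{u}) ⟶ T) (φ' : (U' : Scheme.{u}) ⟶ T)
    (hφ : (g ∣_ U) ≫ φ = (g ⁻¹ᵁ U).ι ≫ a) (hφ' : (g ∣_ U') ≫ φ' = (g ⁻¹ᵁ U').ι ≫ a) :
    t ≫ φ' = φ := by
  have := epi_restrict' g hq hinj U
  have hle' : g ⁻¹ᵁ U ≤ g ⁻¹ᵁ U' := fun x hx => hle hx
  have hsq : (g ∣_ U) ≫ t = S'.homOfLE hle' ≫ (g ∣_ U') := by
    rw [← cancel_mono U'.ι, Category.assoc, Category.assoc, ht, morphismRestrict_ι,
      morphismRestrict_ι, Scheme.homOfLE_ι_assoc]
  rw [← cancel_epi (g ∣_ U), ← Category.assoc, hsq, Category.assoc, hφ', hφ,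
    Scheme.homOfLE_ι_assoc]

theorem snd_comp_eq' {U : S.Opens} (φ : (U : Scheme.{u}) ⟶ T)
    (hφ : (g ∣_ U) ≫ φ = (g ⁻¹ᵁ U).ι ≫ a) :
    pullback.snd g U.ι ≫ φ = pullback.fst g U.ι ≫ a := by
  rw [← pullbackRestrictIsoRestrict_hom_morphismRestrict, Category.assoc, hφ,
    pullbackRestrictIsoRestrict_hom_ι_assoc]

/-- Admissible opens of `S`: opens whose preimage lands in the preimage of an affine open of `T`. -/
def Adm' (g : S' ⟶ S) (a : S' ⟶ T) (V : S.Opens) : Prop :=
  ∃ W : T.Opens, IsAffineOpen W ∧ g ⁻¹ᵁ V ≤ a ⁻¹ᵁ W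

include hq ha in
theorem adm_isBasis' : TopologicalSpace.Opens.IsBasis {V : S.Opens | Adm' g a V} := by
  rw [TopologicalSpace.Opens.isBasis_iff_nbhd]
  intro O s hsO
  obtain ⟨s', rfl⟩ := hq.surjective s
  obtain ⟨W, hW, hxW, -⟩ := exists_isAffineOpen_mem_and_subset (x := a.base s') (U := ⊤) trivial
  have hpre : g.base ⁻¹' (g.base '' (a ⁻¹ᵁ W : Set S')) = (a ⁻¹ᵁ W : Set S') := by
    ext t
    constructor
    · rintro ⟨t', ht', htt'⟩
      have := const_on_fibres g a ha t' t htt'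
      show a.base t ∈ W
      rw [← this]; exact ht'
    · intro ht
      exact ⟨t, ht, rfl⟩
  have hopen : IsOpen (g.base '' (a ⁻¹ᵁ W : Set S')) :=
    hq.isOpen_preimage.1 (by rw [hpre]; exact (a ⁻¹ᵁ W).isOpen)
  refine ⟨O ⊓ ⟨g.base '' (a ⁻¹ᵁ W : Set S'), hopen⟩, ⟨W, hW, ?_⟩, ⟨hsO, ⟨s', hxW, rfl⟩⟩,
    inf_le_left⟩
  intro t ht
  have ht2 : g.base t ∈ g.base '' (a ⁻¹ᵁ W : Set S') := ht.2
  have : t ∈ g.base ⁻¹' (g.base '' (a ⁻¹ᵁ W : Set S')) := ht2
  rw [hpre] at this
  exact this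

/-- The open cover of `S` by admissible opens. -/
noncomputable def admCover' : S.OpenCover where
  I₀ := {V : S.Opens // Adm' g a V}
  X V := V.1
  f V := V.1.ι
  mem₀ := by
    rw [Scheme.presieve₀_mem_precoverage_iff]
    refine ⟨fun y => ?_, inferInstance⟩
    obtain ⟨U, hU, hyU, -⟩ := TopologicalSpace.Opens.isBasis_iff_nbhd.1 (adm_isBasis' g hq a ha)
      (show y ∈ (⊤ : S.Opens) from trivial)
    exact ⟨⟨U, hU⟩, ⟨⟨y, hyU⟩, rfl⟩⟩

noncomputable instance : Preorder (admCover' g hq a ha).I₀ :=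
  inferInstanceAs (Preorder {V : S.Opens // Adm' g a V})

noncomputable instance : Scheme.Cover.LocallyDirected (admCover' g hq a ha) :=
  .ofIsBasisOpensRange (by intro i j; simp [admCover']; rfl) (by
    convert adm_isBasis' g hq a ha
    ext U
    simp [admCover'])

/-- The family of local morphisms. -/
noncomputable def locFam' (V : (admCover' g hq a ha).I₀) : (admCover' g hq a ha).X V ⟶ T :=
  locHom' g hinj heq a V.1 V.2.choose_spec.1 V.2.choose_spec.2

theorem restrict_comp_locFam' (V : (admCover' g hq a ha).I₀) :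
    (g ∣_ V.1) ≫ locFam' g hq hinj heq a ha V = (g ⁻¹ᵁ V.1).ι ≫ a :=
  restrict_comp_locHom' g hinj heq a _ _ _

theorem locFam_compat' {i j : (admCover' g hq a ha).I₀} (hij : i ⟶ j) :
    (admCover' g hq a ha).trans hij ≫ locFam' g hq hinj heq a ha j =
      locFam' g hq hinj heq a ha i :=
  eq_of_restrict_comp_eq' g hq hinj a (leOfHom hij) ((admCover' g hq a ha).trans hij)
    ((admCover' g hq a ha).trans_map hij) (locFam' g hq hinj heq a ha i)
    (locFam' g hq hinj heq a ha j)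
    (restrict_comp_locFam' g hq hinj heq a ha i) (restrict_comp_locFam' g hq hinj heq a ha j)

include hq hinj heq ha in
theorem exists_desc' : ∃ a' : S ⟶ T, g ≫ a' = a := by
  refine ⟨(admCover' g hq a ha).glueMorphismsOfLocallyDirected (locFam' g hq hinj heq a ha)
    (fun hij => locFam_compat' g hq hinj heq a ha hij), ?_⟩
  apply ((admCover' g hq a ha).pullback₁ g).hom_ext
  intro i
  have hcond : pullback.fst g i.1.ι ≫ g = pullback.snd g i.1.ι ≫ i.1.ι := pullback.condition
  have hglue : i.1.ι ≫ (admCover' g hq a ha).glueMorphismsOfLocallyDirected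
      (locFam' g hq hinj heq a ha) (fun hij => locFam_compat' g hq hinj heq a ha hij) =
      locFam' g hq hinj heq a ha i :=
    Scheme.OpenCover.map_glueMorphismsOfLocallyDirected (admCover' g hq a ha)
      (locFam' g hq hinj heq a ha) (fun hij => locFam_compat' g hq hinj heq a ha hij) i
  show pullback.fst g i.1.ι ≫ g ≫ _ = pullback.fst g i.1.ι ≫ a
  rw [← Category.assoc, hcond, Category.assoc, hglue]
  exact snd_comp_eq' g a (locFam' g hq hinj heq a ha i) (restrict_comp_locFam' g hq hinj heq a ha i)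

end



/-- Let h : U → V be a surjective morphism of schemes such that the map of sheaves of rings O_V → h_*O_U
is an isomorphism and the underlying space of V carries the quotient topology of that of U. Then for
every scheme W, composition with h is a bijection from the morphisms V → W onto the morphisms U → W
whose underlying map is constant on each fibre of h. -/
theorem result {U V : Scheme.{u}} (h : U ⟶ V) [Surjective h]
    [IsIso h.c] (hq : Topology.IsQuotientMap h.base) (W : Scheme.{u}) :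
    (∀ v₁ v₂ : V ⟶ W, h ≫ v₁ = h ≫ v₂ → v₁ = v₂) ∧
      ∀ u : U ⟶ W, (∀ x y : U, h.base x = h.base y → u.base x = u.base y) → ∃ v : V ⟶ W, h ≫ v = u := by
  have hbij : ∀ O : V.Opens, Function.Bijective (h.app O).hom := by
    intro O
    have : IsIso (h.app O) := by
      show IsIso (h.c.app (Opposite.op O))
      infer_instance
    exact ConcreteCategory.bijective_of_isIso (h.app O)
  have hinj : ∀ O : V.Opens, Function.Injective (h.app O).hom := fun O => (hbij O).1
  have hsurj : ∀ O : V.Opens, Function.Surjective (h.app O).hom := fun O => (hbij O).2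
  have : Epi h := epi_of_surjective_of_app_injective h hinj
  refine ⟨fun v₁ v₂ e => (cancel_epi h).1 e, fun u hu => ?_⟩
  exact exists_desc' h hq hinj hsurj u hu

end Groth.Agent.S3567
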