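import Groth.Statements.S3570
import Mathlib.AlgebraicGeometry.Morphisms.Separated

set_option autoImplicit false
universe u
open CategoryTheory CategoryTheory.Limits AlgebraicGeometry
open EGA2

namespace Groth.Agent.S3570

/-- Let f : X → S and g : Y → S be affine morphisms and h : Y → X an S-morphism. Then h is an
isomorphism if and only if A(h) : f_*O_X → g_*O_Y is an isomorphism (of presheaves of rings on S). -/
theorem result {X Y S : Scheme.{u}} (f : X ⟶ S) [IsAffineHom f] (g : Y ⟶ S)
    [IsAffineHom g] (h : Y ⟶ X) (w : h ≫ f = g) :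
    IsIso h ↔ IsIso (AffAlg.algHom f g h w) := by
  subst w
  constructor
  · intro hh
    have : IsIso h.c := inferInstance
    unfold AffAlg.algHom
    infer_instance
  · intro hiso
    have hsep : IsSeparated f := inferInstance
    have haff : IsAffineHom h := IsAffineHom.of_comp h f
    rw [← MorphismProperty.isomorphisms.iff]
    apply IsZariskiLocalAtTarget.of_iSup_eq_top (P := MorphismProperty.isomorphisms Scheme)
      (fun U : S.affineOpens => f ⁻¹ᵁ U.1)
    · rw [← Scheme.Hom.preimage_iSup, ← Scheme.Hom.preimage_top f]
      congr 1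
      exact iSup_affineOpens_eq_top S
    · intro U
      have hU : IsAffineOpen (f ⁻¹ᵁ U.1) := U.2.preimage f
      have key : IsIso (h ∣_ (f ⁻¹ᵁ U.1)) := by
        refine (isIso_morphismRestrict_iff_isIso_app (f := h) (U := f ⁻¹ᵁ U.1) hU).mpr ?_
        have h1 : IsIso ((AffAlg.algHom f (h ≫ f) h rfl).app (Opposite.op U.1)) := inferInstance
        have h3 : (AffAlg.algHom f (h ≫ f) h rfl).app (Opposite.op U.1) =
            h.app (f ⁻¹ᵁ U.1) := by
          simp [AffAlg.algHom]
          rfl
        rw [h3] at h1
        exact h1
      exact key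

end Groth.Agent.S3570
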