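import Groth.Statements.S3579
import Groth.Agent.H18.Serre.Generation

set_option autoImplicit false
universe u
open CategoryTheory CategoryTheory.Limits AlgebraicGeometry
open EGA2

namespace Groth.Agent.S3579

/-- Let S be a graded ring whose irrelevant ideal S_+ is generated by finitely many elements of degree
one, X = Proj S, and let F be an O_X-module that is quasi-coherent and of finite type. Then for some
n₀ and all n ≥ n₀, the twist F(n) = F ⊗ O_X(n) is a quotient of a finite free module O_X^k (k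
depending on n); in particular F(n) is generated by finitely many global sections. -/
theorem result {R A : Type u} [CommRing R] [CommRing A] [Algebra R A] (𝒜 : ℕ → Submodule R A) [GradedAlgebra 𝒜]
    (s : Finset A) (hs1 : ∀ f ∈ s, f ∈ 𝒜 1)
    (hs : (HomogeneousIdeal.irrelevant 𝒜).toIdeal = Ideal.span (s : Set A))
    (F : (Proj 𝒜).Modules) (hF : Coh.IsQCoh F) (hFT : CohB1.IsFT F) :
    ∃ n₀ : ℕ, ∀ n : ℕ, n₀ ≤ n →
      ∃ (k : ℕ) (p : FlatMod.freeMod (Proj 𝒜) k ⟶ Twist.twistBy 𝒜 F (n : ℤ)), Epi p := by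
  classical
  haveI : F.IsQuasicoherent := hF
  haveI : SheafOfModules.IsFiniteType (R := (Proj 𝒜).ringCatSheaf) F := hFT
  have hcov : ∀ x : Proj 𝒜, ∃ g : s,
      g.1 ∉ (x : ProjectiveSpectrum 𝒜).asHomogeneousIdeal := by
    intro x
    by_contra hcon
    push Not at hcon
    refine (x : ProjectiveSpectrum 𝒜).not_irrelevant_le (fun a ha => ?_)
    have h1 : a ∈ (HomogeneousIdeal.irrelevant 𝒜).toIdeal := ha
    rw [hs] at h1
    exact (Ideal.span_le.mpr (fun f hf => hcon ⟨f, hf⟩)) h1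
  have hfin : ∀ g : s, Module.Finite Γ(Proj 𝒜, Groth.Agent.H18.Serre.D 𝒜 g.1)
      Γ(F, Groth.Agent.H18.Serre.D 𝒜 g.1) := fun g =>
    Groth.Agent.H8.finite_sections_of_isAffineOpen F
      (Proj.isAffineOpen_basicOpen 𝒜 g.1 (hs1 g.1 g.2) Nat.one_pos)
  obtain ⟨n₀, H⟩ := Groth.Agent.H18.Serre.exists_generators_degree
    (Groth.Agent.H18.Serre.famEvData 𝒜 s hs1 F) hfin
  obtain ⟨e⟩ := Groth.Agent.H18.Serre.nonempty_iso
    (Groth.Agent.H18.Serre.famEvData 𝒜 s hs1 F) hcov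
  refine ⟨n₀, fun n hn => ?_⟩
  obtain ⟨r, τ, hτ⟩ := H n hn
  have hEpi := Groth.Agent.H18.Serre.epi_desc_mulBy
    (Groth.Agent.H18.Serre.famEvData 𝒜 s hs1 F) hcov τ hτ
    (show (n : ℤ) + 0 = 0 + (n : ℤ) by ring)
  have hcov1 : ∀ y : ProjectiveSpectrum 𝒜, ∃ g ∈ 𝒜 1, g ∉ y.asHomogeneousIdeal := fun y => by
    obtain ⟨g, hg⟩ := hcov y
    exact ⟨g.1, hs1 g.1 g.2, hg⟩
  have hUF : Groth.Agent.H18.TwistTensor.HasUnitFrac 𝒜 (n : ℤ) := by
    have h := Groth.Agent.H18.TwistTensor.hasUnitFrac_of_cover 𝒜 1 (n : ℤ) hcov1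
    rwa [Nat.cast_one, mul_one] at h
  obtain ⟨e1⟩ := Groth.Agent.H18.TensorModIso.nonempty_tensorMod_congr e.symm
    (Iso.refl (Twist.twist 𝒜 (n : ℤ)))
  obtain ⟨e2⟩ := Groth.Agent.H18.TildeTwistTensor.nonempty_tensorMod_tilde_twist_iso 𝒜
    (Groth.Agent.H18.Serre.grading 𝒜 s hs1 F) 0 (n : ℤ) hUF
  obtain ⟨e0⟩ := Groth.Agent.H18.TwistTensor.nonempty_twist_zero_iso 𝒜
  exact ⟨r, (Sigma.mapIso (fun _ : Fin r => e0.symm)).hom ≫
    Sigma.desc (fun i : Fin r => Groth.Agent.H18.Serre.mulBy 𝒜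
      (Groth.Agent.H18.Serre.grading 𝒜 s hs1 F) (τ i)
      (show (n : ℤ) + 0 = 0 + (n : ℤ) by ring)) ≫ e2.inv ≫ e1.inv, epi_comp _ _⟩

end Groth.Agent.S3579
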