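import Groth.Statements.S3581
import Groth.Agent.H18.ProjSpaceSection
import Mathlib.RingTheory.MvPolynomial.Ideal

set_option autoImplicit false
universe u
open CategoryTheory CategoryTheory.Limits AlgebraicGeometry
open EGA2

namespace Groth.Agent.S3581

open HomogeneousLocalization MvPolynomial in
/-- A homogeneous polynomial of degree `k` in one variable is a monomial. -/
theorem eq_C_mul_X_pow (A : Type u) [CommRing A] (k : ℕ) (a : MvPolynomial (Fin 1) A)
    (ha : a.IsHomogeneous k) : a = C (coeff (Finsupp.single 0 k) a) * X 0 ^ k := by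
  ext m
  rw [coeff_C_mul, coeff_X_pow]
  have hm : m = Finsupp.single 0 (m 0) := by
    refine Finsupp.ext fun i => ?_
    fin_cases i
    simp
  by_cases hmk : m 0 = k
  · have : Finsupp.single 0 k = m := by rw [hm, hmk]
    rw [if_pos this, mul_one, this]
  · have hne : ¬ Finsupp.single 0 k = m := by
      intro h
      apply hmk
      rw [← h]
      simp
    rw [if_neg hne, mul_zero]
    apply ha.coeff_eq_zero
    rw [hm]
    simpa using hmk

open HomogeneousLocalization MvPolynomial in
/-- Over an affine base Spec A, Proj of the graded polynomial algebra A[T] (T of degree one) is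
identified with Spec A by its structure morphism: the structure morphism from projective 0-space
over A to Spec A is an isomorphism. -/
theorem result (A : Type u) [CommRing A] :
    IsIso (CohB1.ProjSpace.toSpec 0 A) := by
  classical
  let 𝒜 := CohB1.polyGrading 0 A
  have hX0 : (X 0 : MvPolynomial (Fin 1) A) ∈ 𝒜 1 := Groth.Agent.H18.X0_mem 0 A
  -- `D₊(X 0)` is everything
  have hcover : Proj.basicOpen 𝒜 (X 0 : MvPolynomial (Fin 1) A) = ⊤ := by
    have := Proj.iSup_basicOpen_eq_top 𝒜 (fun _ : Unit => (X 0 : MvPolynomial (Fin 1) A)) ?_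
    · rwa [iSup_const] at this
    · intro p hp
      have hp0 : coeff 0 p = 0 := by
        have h1 : (DirectSum.decompose 𝒜 p 0 : MvPolynomial (Fin 1) A) = 0 := hp
        have h2 : (DirectSum.decompose 𝒜 p 0 : MvPolynomial (Fin 1) A) = homogeneousComponent 0 p :=
          MvPolynomial.decomposition.decompose'_apply p 0
        rw [h2, homogeneousComponent_zero] at h1
        simpa using h1
      have hrange : Set.range (fun _ : Unit => (X 0 : MvPolynomial (Fin 1) A)) =
          (X '' (Set.univ : Set (Fin 1)) : Set (MvPolynomial (Fin 1) A)) := by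
        ext q
        simp only [Set.mem_range, exists_const, Set.image_univ]
        constructor
        · rintro rfl; exact ⟨0, rfl⟩
        · rintro ⟨i, rfl⟩; fin_cases i; rfl
      rw [hrange, mem_ideal_span_X_image]
      intro m hm
      refine ⟨0, Set.mem_univ _, fun h0 => ?_⟩
      have : m = 0 := by
        refine Finsupp.ext fun i => ?_
        fin_cases i
        simpa using h0
      rw [this, mem_support_iff] at hm
      exact hm hp0
  -- the chart is an isomorphism
  have hj : IsIso (Proj.awayι 𝒜 (X 0 : MvPolynomial (Fin 1) A) hX0 Nat.one_pos) := by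
    apply isIso_of_isOpenImmersion_of_opensRange_eq_top
    rw [Proj.opensRange_awayι, hcover]
  -- the ring map `A → A[T]_(T)` is bijective
  let β : A →+* Away 𝒜 (X 0 : MvPolynomial (Fin 1) A) :=
    (fromZeroRingHom 𝒜 _).comp (algebraMap A (𝒜 0))
  have hβ : Function.Bijective β := by
    constructor
    · apply Function.LeftInverse.injective (g := Groth.Agent.H18.awayEval 0 A)
      intro a
      exact DFunLike.congr_fun (Groth.Agent.H18.awayEval_comp 0 A) a
    · intro x
      obtain ⟨k, a, ha, rfl⟩ := Away.mk_surjective 𝒜 hX0 x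
      have ha' : a.IsHomogeneous k := by
        have : a ∈ homogeneousSubmodule (Fin 1) A (k • 1) := ha
        simpa using this
      refine ⟨coeff (Finsupp.single 0 k) a, ?_⟩
      apply HomogeneousLocalization.val_injective
      rw [Away.val_mk]
      show Localization.mk (C (coeff (Finsupp.single 0 k) a)) 1 = _
      rw [Localization.mk_eq_mk_iff, Localization.r_iff_exists]
      refine ⟨1, ?_⟩
      simp only [OneMemClass.coe_one, one_mul]
      conv_rhs => rw [eq_C_mul_X_pow A k a ha']
      ring
  have hβiso : IsIso (Spec.map (CommRingCat.ofHom β)) := by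
    have : IsIso (CommRingCat.ofHom β) :=
      (ConcreteCategory.isIso_iff_bijective (CommRingCat.ofHom β)).mpr hβ
    infer_instance
  have hcomp : Proj.awayι 𝒜 (X 0 : MvPolynomial (Fin 1) A) hX0 Nat.one_pos ≫
      (Proj.toSpecZero 𝒜 ≫ Spec.map (CommRingCat.ofHom (algebraMap A (𝒜 0)))) =
      Spec.map (CommRingCat.ofHom β) := by
    rw [Proj.awayι_toSpecZero_assoc, ← Spec.map_comp, ← CommRingCat.ofHom_comp]
  have : IsIso (Proj.awayι 𝒜 (X 0 : MvPolynomial (Fin 1) A) hX0 Nat.one_pos ≫
      (Proj.toSpecZero 𝒜 ≫ Spec.map (CommRingCat.ofHom (algebraMap A (𝒜 0))))) := by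
    rw [hcomp]; exact hβiso
  exact IsIso.of_isIso_comp_left (Proj.awayι 𝒜 (X 0 : MvPolynomial (Fin 1) A) hX0 Nat.one_pos)
    (Proj.toSpecZero 𝒜 ≫ Spec.map (CommRingCat.ofHom (algebraMap A (𝒜 0))))

end Groth.Agent.S3581
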