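import Groth.Statements.S3583
import Mathlib.AlgebraicGeometry.Morphisms.Separated

set_option autoImplicit false
universe u
open CategoryTheory AlgebraicGeometry Opposite
open EGA2

namespace Groth.Agent.S3583

theorem surjective_appLE_congr {X Y : Scheme.{u}} (h : X ⟶ Y) {V₁ V₂ : Y.Opens} {W₁ W₂ : X.Opens}
    (hV : V₁ = V₂) (hW : W₁ = W₂) (e₁ : W₁ ≤ h ⁻¹ᵁ V₁) (e₂ : W₂ ≤ h ⁻¹ᵁ V₂) :
    Function.Surjective (h.appLE V₁ W₁ e₁) ↔ Function.Surjective (h.appLE V₂ W₂ e₂) := by
  subst hV hW
  rfl

set_option backward.isDefEq.respectTransparency false in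
theorem surjective_appTop_morphismRestrict_iff {X Y : Scheme.{u}} (h : X ⟶ Y) (V : Y.Opens) :
    Function.Surjective (h ∣_ V).appTop ↔ Function.Surjective (h.app V) := by
  rw [Scheme.Hom.appTop, Scheme.Hom.app_eq_appLE (f := h)]
  simp only [morphismRestrict_app', TopologicalSpace.Opens.map_top]
  exact surjective_appLE_congr h V.ι_image_top (h ⁻¹ᵁ V).ι_image_top _ _

/-- In the form stated after its proof: let f : X → S and f' : X' → S be affine morphisms and h : X' → X
an S-morphism such that the O_S-algebra homomorphism A(h) : f_*O_X → f'_*O_{X'} is surjective (as a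
map of quasi-coherent O_S-modules, i.e. on sections over every affine open of S). Then h is a closed
immersion. -/
theorem result {X X' S : Scheme.{u}} (f : X ⟶ S) [IsAffineHom f]
    (f' : X' ⟶ S) [IsAffineHom f'] (h : X' ⟶ X) (w : h ≫ f = f')
    (hsurj : ∀ U : S.affineOpens, Function.Surjective ((AffAlg.algHom f f' h w).app (op U.1)).hom) :
    IsClosedImmersion h := by
  subst w
  have hsep : IsSeparated f := inferInstance
  have haff : IsAffineHom h := IsAffineHom.of_comp h f
  apply IsZariskiLocalAtTarget.of_iSup_eq_top (P := @IsClosedImmersion)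
    (fun U : S.affineOpens => f ⁻¹ᵁ U.1)
  · rw [← Scheme.Hom.preimage_iSup, ← Scheme.Hom.preimage_top f]
    congr 1
    exact iSup_affineOpens_eq_top S
  · intro U
    have hU : IsAffineOpen (f ⁻¹ᵁ U.1) := U.2.preimage f
    have hU' : IsAffineOpen (h ⁻¹ᵁ (f ⁻¹ᵁ U.1)) := hU.preimage h
    have : IsAffine (f ⁻¹ᵁ U.1).toScheme := hU
    have : IsAffine (h ⁻¹ᵁ (f ⁻¹ᵁ U.1)).toScheme := hU'
    apply IsClosedImmersion.of_surjective_of_isAffine
    rw [surjective_appTop_morphismRestrict_iff]
    have h3 : (AffAlg.algHom f (h ≫ f) h rfl).app (Opposite.op U.1) =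
        h.app (f ⁻¹ᵁ U.1) := by
      simp [AffAlg.algHom]
      rfl
    have := hsurj U
    rw [h3] at this
    exact this

end Groth.Agent.S3583
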