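import Groth.Statements.S3588
import Groth.Agent.H18.ProjClosedImm
import Groth.Agent.H18.ProjReduced

set_option autoImplicit false
universe u
open CategoryTheory CategoryTheory.Limits AlgebraicGeometry
open EGA2

namespace Groth.Agent.S3588

/-- Let S be a graded ring, N_+ the set of nilpotent elements of S_+ (an ideal of S), and S → S/N_+ the
quotient (here: any surjective homomorphism of graded rings φ : S → S' whose kernel is N_+). Then
the induced morphism Proj S' → Proj S is a closed immersion which is a homeomorphism of the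
underlying spaces, and Proj S' is reduced; thus Proj S' is the reduced closed subscheme (Proj
S)_red. -/
theorem result {R A : Type u} [CommRing R] [CommRing A] [Algebra R A] (𝒜 : ℕ → Submodule R A) [GradedAlgebra 𝒜]
    {B : Type u} [CommRing B] [Algebra R B] (ℬ : ℕ → Submodule R B) [GradedAlgebra ℬ]
    (φ : 𝒜 →+*ᵍ ℬ) (hsurj : Function.Surjective φ)
    (hker : ∀ a : A, φ a = 0 ↔ a ∈ (HomogeneousIdeal.irrelevant 𝒜).toIdeal ∧ IsNilpotent a)
    (hφ : HomogeneousIdeal.irrelevant ℬ ≤ (HomogeneousIdeal.irrelevant 𝒜).map φ) :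
    IsClosedImmersion (Proj.map φ hφ) ∧ IsHomeomorph (Proj.map φ hφ).base ∧
      AlgebraicGeometry.IsReduced (Proj ℬ) := by
  classical
  have hcl : IsClosedImmersion (Proj.map φ hφ) :=
    Groth.Agent.H18.proj_map_isClosedImmersion φ hsurj hφ
  -- `φ` maps the irrelevant ideal into the irrelevant ideal
  have hirr : ∀ a ∈ (HomogeneousIdeal.irrelevant 𝒜).toIdeal,
      φ a ∈ (HomogeneousIdeal.irrelevant ℬ).toIdeal := by
    intro a ha
    have ha' : (DirectSum.decompose 𝒜 a 0 : A) = 0 := ha
    show (DirectSum.decompose ℬ (φ a) 0 : B) = 0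
    rw [← GradedRingHom.map_directSumDecompose, ha', map_zero]
  refine ⟨hcl, ?_, ?_⟩
  · rw [isHomeomorph_iff_isEmbedding_surjective]
    refine ⟨(Proj.map φ hφ).isClosedEmbedding.isEmbedding, ?_⟩
    intro (x : ProjectiveSpectrum 𝒜)
    have hkerle : RingHom.ker φ.toRingHom ≤ x.asHomogeneousIdeal.toIdeal := by
      intro a ha
      have ha0 : φ a = 0 := ha
      exact (nilpotent_iff_mem_prime.mp ((hker a).mp ha0).2) _ x.isPrime
    have hprime : (x.asHomogeneousIdeal.toIdeal.map φ.toRingHom).IsPrime :=
      Ideal.map_isPrime_of_surjective (f := φ.toRingHom) hsurj hkerle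
    have hcomap : (x.asHomogeneousIdeal.toIdeal.map φ.toRingHom).comap φ.toRingHom =
        x.asHomogeneousIdeal.toIdeal := by
      rw [Ideal.comap_map_of_surjective φ.toRingHom hsurj]
      exact sup_eq_left.mpr hkerle
    let q : ProjectiveSpectrum ℬ :=
      ⟨x.asHomogeneousIdeal.map φ, hprime, fun hle => x.not_irrelevant_le (fun a ha => by
        have h1 : φ a ∈ x.asHomogeneousIdeal.toIdeal.map φ.toRingHom := hle (hirr a ha)
        have h2 : a ∈ (x.asHomogeneousIdeal.toIdeal.map φ.toRingHom).comap φ.toRingHom := h1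
        rw [hcomap] at h2
        exact h2)⟩
    refine ⟨q, ?_⟩
    apply ProjectiveSpectrum.ext
    apply HomogeneousIdeal.toIdeal_injective
    exact hcomap
  · apply Groth.Agent.H18.proj_isReduced
    intro g hg hnil
    obtain ⟨a, rfl⟩ := hsurj g
    set a' : A := a - (DirectSum.decompose 𝒜 a 0 : A) with ha'
    have hzero : φ (DirectSum.decompose 𝒜 a 0 : A) = 0 := by
      rw [GradedRingHom.map_directSumDecompose]
      exact hg
    have hφa' : φ a' = φ a := by
      rw [ha', map_sub, hzero, sub_zero]
    have ha'irr : a' ∈ (HomogeneousIdeal.irrelevant 𝒜).toIdeal := by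
      show (DirectSum.decompose 𝒜 a' 0 : A) = 0
      rw [ha', DirectSum.decompose_sub, DFinsupp.sub_apply, AddSubgroupClass.coe_sub,
        DirectSum.decompose_coe, DirectSum.of_eq_same, sub_self]
    obtain ⟨n, hn⟩ := hnil
    have h1 : φ (a' ^ n) = 0 := by rw [map_pow, hφa', hn]
    have h2 : IsNilpotent a' := ((hker _).mp h1).2.of_pow
    rw [← hφa']
    exact (hker a').mpr ⟨ha'irr, h2⟩

end Groth.Agent.S3588
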