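import Groth.Statements.S3589
import Groth.Agent.H18.ProjUPKernel

set_option autoImplicit false
universe u
open CategoryTheory CategoryTheory.Limits AlgebraicGeometry
open EGA2

namespace Groth.Agent.S3589

/-- For E = O_Y^{n+1} over an affine base Y = Spec R (injectivity of the correspondence): a section s of
projective n-space over R is determined by the submodule F(s) of R^{n+1} formed by the R-linear
relations among the pulled-back coordinates s^*T_0, …, s^*T_n in the global sections of s^*O(1). -/
theorem result {R : Type u} [CommRing R] (n : ℕ)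
    (s₁ s₂ : Spec (CommRingCat.of R) ⟶ CohB1.ProjSpace n R)
    (h₁ : s₁ ≫ CohB1.ProjSpace.toSpec n R = 𝟙 _) (h₂ : s₂ ≫ CohB1.ProjSpace.toSpec n R = 𝟙 _)
    (h : ProjUP.secKernel n R s₁ = ProjUP.secKernel n R s₂) :
    s₁ = s₂ := by
  have key : ∀ (s : Spec (CommRingCat.of R) ⟶ CohB1.ProjSpace n R) (i j : Fin (n + 1))
      (u v : Γ(Spec (CommRingCat.of R), ⊤)),
      (Pi.single j ((Scheme.ΓSpecIso (CommRingCat.of R)).hom.hom u) -
        Pi.single i ((Scheme.ΓSpecIso (CommRingCat.of R)).hom.hom v) : Fin (n + 1) → R) ∈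
          ProjUP.secKernel n R s ↔
        u • ProjUP.pullSec s (Twist.twistProjSpace n R 1) (ProjUP.coord n R j) =
          v • ProjUP.pullSec s (Twist.twistProjSpace n R 1) (ProjUP.coord n R i) := by
    intro s i j u v
    let _ : Module R (ProjUP.Γm ((Scheme.Modules.pullback s).obj (Twist.twistProjSpace n R 1))) :=
      Module.compHom _ (Scheme.ΓSpecIso (CommRingCat.of R)).inv.hom
    have hu : ∀ (w : Γ(Spec (CommRingCat.of R), ⊤))
        (t : ProjUP.Γm ((Scheme.Modules.pullback s).obj (Twist.twistProjSpace n R 1))),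
        ((Scheme.ΓSpecIso (CommRingCat.of R)).hom.hom w) • t = w • t := by
      intro w t
      show (Scheme.ΓSpecIso (CommRingCat.of R)).inv.hom
        ((Scheme.ΓSpecIso (CommRingCat.of R)).hom.hom w) • t = w • t
      rw [← CommRingCat.comp_apply, Iso.hom_inv_id]
      rfl
    unfold ProjUP.secKernel
    rw [LinearMap.mem_ker, map_sub, Fintype.linearCombination_apply_single,
      Fintype.linearCombination_apply_single, sub_eq_zero, hu, hu]
  refine Groth.Agent.H18.ProjUPKernel.projSpace_ext_of_relations n s₁ s₂ (h₁.trans h₂.symm)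
    (fun i j u v huv => ?_)
  have h1 := (key s₁ i j u v).mpr huv
  rw [h] at h1
  exact (key s₂ i j u v).mp h1

end Groth.Agent.S3589
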