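import Groth.Statements.S3590
import Mathlib
import Groth.Agent.H18.ProjUPExist
import Groth.Agent.H88.LocRankOne
import Groth.Agent.H88.ProjSecLoc
import Groth.Agent.H88.TildeInv

set_option autoImplicit false
universe u
open CategoryTheory CategoryTheory.Limits AlgebraicGeometry
open EGA2

namespace Groth.Agent.S3590

/-- For E = O_Y^{n+1} over an affine base Y = Spec R (image of the correspondence): a submodule F of
R^{n+1} is the module of relations among the pulled-back coordinates of some section of projective
n-space over R if and only if the quotient R^{n+1}/F is an invertible R-module (projective, of rank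
one at every prime). -/
theorem result {R : Type u} [CommRing R] (n : ℕ)
    (F : Submodule R (Fin (n + 1) → R)) :
    (∃ s : Spec (CommRingCat.of R) ⟶ CohB1.ProjSpace n R,
        s ≫ CohB1.ProjSpace.toSpec n R = 𝟙 _ ∧ ProjUP.secKernel n R s = F) ↔
      (Module.Projective R ((Fin (n + 1) → R) ⧸ F) ∧
        ∀ p : PrimeSpectrum R, Module.finrank (Localization.AtPrime p.asIdeal)
          (LocalizedModule p.asIdeal.primeCompl ((Fin (n + 1) → R) ⧸ F)) = 1) := by
  constructor
  · rintro ⟨s, -, rfl⟩
    letI instM : Module R (ProjUP.Γm ((Scheme.Modules.pullback s).obj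
        (Twist.twistProjSpace n R 1))) :=
      Module.compHom _ (Scheme.ΓSpecIso (CommRingCat.of R)).inv.hom
    obtain ⟨σ, hσ⟩ : ∃ σ : Fin (n + 1) → ProjUP.Γm ((Scheme.Modules.pullback s).obj
        (Twist.twistProjSpace n R 1)),
        σ = fun i => ProjUP.pullSec s (Twist.twistProjSpace n R 1) (ProjUP.coord n R i) :=
      ⟨_, rfl⟩
    have hker : ProjUP.secKernel n R s = LinearMap.ker (Fintype.linearCombination R σ) := by
      rw [hσ]
      rfl
    have hloc : ∀ p : PrimeSpectrum R, ∃ f : R, f ∉ p.asIdeal ∧ ∃ i,
        Groth.Agent.H88.LocRankOne.IsLocGen f (σ i) := by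
      intro p
      obtain ⟨a, hxa, i, ha⟩ := Groth.Agent.H88.ProjSecLoc.exists_isLocGen_pullSec n
        (isAffineOpen_top (Spec (CommRingCat.of R))) s p
      have hinv : ∀ b : Γ(Spec (CommRingCat.of R), ⊤),
          (Scheme.ΓSpecIso (CommRingCat.of R)).inv.hom
            ((Scheme.ΓSpecIso (CommRingCat.of R)).hom.hom b) = b := by
        intro b
        rw [← CommRingCat.comp_apply, Iso.hom_inv_id]
        rfl
      have hinv' : ∀ r : R,
          (Scheme.ΓSpecIso (CommRingCat.of R)).hom.hom
            ((Scheme.ΓSpecIso (CommRingCat.of R)).inv.hom r) = r := by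
        intro r
        rw [← CommRingCat.comp_apply, Iso.inv_hom_id]
        rfl
      refine ⟨(Scheme.ΓSpecIso (CommRingCat.of R)).hom.hom a, ?_, i, ?_⟩
      · have h1 : (Spec (CommRingCat.of R)).basicOpen a =
            PrimeSpectrum.basicOpen ((Scheme.ΓSpecIso (CommRingCat.of R)).hom.hom a) := by
          rw [← basicOpen_eq_of_affine]
          congr 1
          exact (hinv a).symm
        rw [h1] at hxa
        exact hxa
      · rw [hσ]
        exact Groth.Agent.H88.LocRankOne.IsLocGen.compHom
          (Scheme.ΓSpecIso (CommRingCat.of R)).inv.hom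
          (Scheme.ΓSpecIso (CommRingCat.of R)).hom.hom hinv hinv' ha
    have hsurj := Groth.Agent.H88.LocRankOne.surjective_linearCombination σ hloc
    let e : ((Fin (n + 1) → R) ⧸ LinearMap.ker (Fintype.linearCombination R σ)) ≃ₗ[R]
        ProjUP.Γm ((Scheme.Modules.pullback s).obj (Twist.twistProjSpace n R 1)) :=
      LinearMap.quotKerEquivOfSurjective _ hsurj
    have hloc2 : ∀ p : PrimeSpectrum R, ∃ f : R, f ∉ p.asIdeal ∧
        ∃ m0 : (Fin (n + 1) → R) ⧸ LinearMap.ker (Fintype.linearCombination R σ),
          Groth.Agent.H88.LocRankOne.IsLocGen f m0 := by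
      intro p
      obtain ⟨f, hf, i, hi⟩ := hloc p
      exact ⟨f, hf, e.symm (σ i), hi.map_equiv e.symm⟩
    obtain ⟨-, hP, hR⟩ := Groth.Agent.H88.LocRankOne.main hloc2
    rw [hker]
    exact ⟨hP, hR⟩
  · rintro ⟨hproj, hrank⟩
    haveI := hproj
    haveI : Module.Finite R ((Fin (n + 1) → R) ⧸ F) := inferInstance
    haveI : Module.FinitePresentation R ((Fin (n + 1) → R) ⧸ F) :=
      Module.finitePresentation_of_projective R _
    have hfree : ∀ p : PrimeSpectrum R, Module.Free (Localization.AtPrime p.asIdeal)
        (LocalizedModule p.asIdeal.primeCompl ((Fin (n + 1) → R) ⧸ F)) := by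
      intro p
      haveI : Module.Finite (Localization.AtPrime p.asIdeal)
          (LocalizedModule p.asIdeal.primeCompl ((Fin (n + 1) → R) ⧸ F)) := inferInstance
      haveI : Module.Projective (Localization.AtPrime p.asIdeal)
          (LocalizedModule p.asIdeal.primeCompl ((Fin (n + 1) → R) ⧸ F)) := inferInstance
      exact Module.free_of_flat_of_isLocalRing
    let M : ModuleCat.{u} (CommRingCat.of R) := ModuleCat.of R ((Fin (n + 1) → R) ⧸ F)
    have hL : PicF.IsInvertible (tilde M) :=
      Groth.Agent.H88.TildeInv.isInvertible_tilde (R := CommRingCat.of R) M hfree hrank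
    let q : Fin (n + 1) → M := fun i => F.mkQ (Pi.single i 1)
    have hq : Submodule.span R (Set.range q) = ⊤ := by
      have h := (Pi.basisFun R (Fin (n + 1))).span_eq
      have h2 : Set.range q = F.mkQ '' (Set.range (Pi.basisFun R (Fin (n + 1)))) := by
        rw [← Set.range_comp]
        congr 1
        funext i
        simp [q, Pi.basisFun_apply]
      rw [h2, Submodule.span_image, h, Submodule.map_top, Submodule.range_mkQ]
    have hs := Groth.Agent.H88.TildeInv.generatedBy_tilde (R := CommRingCat.of R) M q hq
    obtain ⟨r, hr, τ, hτ⟩ := Groth.Agent.H18.ProjUPExist.exists_to_projSpace n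
      (𝟙 (Spec (CommRingCat.of R))) (tilde M) hL
      (fun i => Groth.Agent.H88.TildeInv.gsec M (q i)) hs
    refine ⟨r, hr, ?_⟩
    letI instM : Module R (ProjUP.Γm ((Scheme.Modules.pullback r).obj
        (Twist.twistProjSpace n R 1))) :=
      Module.compHom _ (Scheme.ΓSpecIso (CommRingCat.of R)).inv.hom
    ext c
    show c ∈ LinearMap.ker (Fintype.linearCombination R
      (fun i => ProjUP.pullSec r (Twist.twistProjSpace n R 1) (ProjUP.coord n R i))) ↔ c ∈ F
    rw [LinearMap.mem_ker, Fintype.linearCombination_apply]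
    have hsm : ∀ (x : R) (t : ProjUP.Γm ((Scheme.Modules.pullback r).obj
        (Twist.twistProjSpace n R 1))),
        x • t = (Scheme.ΓSpecIso (CommRingCat.of R)).inv.hom x • t := fun _ _ => rfl
    have hc : ∀ z, τ.inv.app ⊤ (τ.hom.app ⊤ z) = z := by
      intro z
      rw [← ConcreteCategory.comp_apply, ← Scheme.Modules.Hom.comp_app, Iso.hom_inv_id]
      rfl
    have hsum : ∑ i, c i • q i = F.mkQ c := by
      have hc0 : c = ∑ i, c i • (Pi.single i 1 : Fin (n + 1) → R) := by
        funext j
        simp [Finset.sum_apply, Pi.single_apply]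
      conv_rhs => rw [hc0]
      rw [map_sum]
      refine Finset.sum_congr rfl fun i _ => ?_
      rw [map_smul]
    have h1 : τ.hom.app ⊤ (∑ i, c i • ProjUP.pullSec r (Twist.twistProjSpace n R 1)
        (ProjUP.coord n R i)) = Groth.Agent.H88.TildeInv.gsec M (F.mkQ c) := by
      rw [map_sum, ← hsum, ← Groth.Agent.H88.TildeInv.sum_inv_smul_gsec]
      refine Finset.sum_congr rfl fun i _ => ?_
      rw [hsm]
      refine (Scheme.Modules.Hom.app_smul τ.hom _ _).trans ?_
      congr 1
      exact hτ i
    constructor
    · intro h0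
      have h2 : Groth.Agent.H88.TildeInv.gsec M (F.mkQ c) = 0 := by
        rw [← h1]
        exact (congrArg (fun z => τ.hom.app ⊤ z) h0).trans (map_zero _)
      have h3 := (Groth.Agent.H88.TildeInv.gsec_bijective M).1
        (h2.trans (Groth.Agent.H88.TildeInv.gsec_zero M).symm)
      exact (Submodule.Quotient.mk_eq_zero F).mp h3
    · intro hcF
      have h2 : F.mkQ c = 0 := (Submodule.Quotient.mk_eq_zero F).mpr hcF
      rw [h2, Groth.Agent.H88.TildeInv.gsec_zero] at h1
      have h3 := congrArg (fun z => τ.inv.app ⊤ z) h1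
      exact (hc _).symm.trans (h3.trans (map_zero _))

end Groth.Agent.S3590
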