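import Groth.Statements.S3594
import Groth.Agent.H18.ProjBasic

set_option autoImplicit false
universe u
open CategoryTheory CategoryTheory.Limits AlgebraicGeometry
open EGA2

namespace Groth.Agent.S3594

/-- The closed immersion at infinity of a projective cone: let S be a graded R-algebra and Ŝ a graded
R-algebra over S such that the structure map φ : S → Ŝ is a graded homomorphism and Ŝ = S[z] is the
polynomial algebra on an element z of degree one (evaluation at z is a bijection S[T] → Ŝ); let ψ :
Ŝ → S be a graded homomorphism retracting φ and killing z, with S₊ contained in the ideal generated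
by ψ(Ŝ₊) so that j = Proj(ψ) : X = Proj S → Ĉ = Proj Ŝ is defined (it is the canonical closed
immersion). Then the image of j is exactly the complement of the open subset D₊(z) of Proj Ŝ (which
is the affine cone C = Spec S). -/
theorem result {R A : Type u} [CommRing R] [CommRing A] [Algebra R A] (𝒜 : ℕ → Submodule R A) [GradedAlgebra 𝒜]
    {B : Type u} [CommRing B] [Algebra R B] (ℬ : ℕ → Submodule R B) [GradedAlgebra ℬ]
    [Algebra A B] [IsScalarTower R A B] (φ : 𝒜 →+*ᵍ ℬ) (hφ : ∀ a : A, φ a = algebraMap A B a)
    (z : B) (hz : z ∈ ℬ 1) (hhat : Function.Bijective (Polynomial.aeval (R := A) z))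
    (ψ : ℬ →+*ᵍ 𝒜) (hψφ : ∀ a : A, ψ (φ a) = a) (hψz : ψ z = 0)
    (hψ : HomogeneousIdeal.irrelevant 𝒜 ≤ (HomogeneousIdeal.irrelevant ℬ).map ψ) :
    Set.range (Proj.map ψ hψ).base = ((Proj.basicOpen ℬ z : Set (Proj ℬ)))ᶜ := by
  classical
  -- key algebraic fact
  have hkey : ∀ b : B, b - φ (ψ b) ∈ Ideal.span ({z} : Set B) := by
    intro b
    obtain ⟨P, rfl⟩ := hhat.2 b
    have hcomp : (ψ.toRingHom.comp (Polynomial.aeval (R := A) z).toRingHom) =
        Polynomial.evalRingHom (0 : A) := by
      apply Polynomial.ringHom_ext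
      · intro a
        simp only [RingHom.comp_apply, AlgHom.toRingHom_eq_coe, RingHom.coe_coe,
          Polynomial.aeval_C, Polynomial.coe_evalRingHom, Polynomial.eval_C]
        show ψ (algebraMap A B a) = a
        rw [← hφ, hψφ]
      · simp only [RingHom.comp_apply, AlgHom.toRingHom_eq_coe, RingHom.coe_coe,
          Polynomial.aeval_X, Polynomial.coe_evalRingHom, Polynomial.eval_X]
        exact hψz
    have hψP : ψ (Polynomial.aeval z P) = P.coeff 0 := by
      have := DFunLike.congr_fun hcomp P
      simp only [RingHom.comp_apply, AlgHom.toRingHom_eq_coe, RingHom.coe_coe,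
        Polynomial.coe_evalRingHom] at this
      rw [← Polynomial.coeff_zero_eq_eval_zero] at this
      exact this
    rw [hψP, hφ, ← Polynomial.aeval_C (R := A) z, ← map_sub, Ideal.mem_span_singleton]
    obtain ⟨Q, hQ⟩ : Polynomial.X ∣ P - Polynomial.C (P.coeff 0) := by
      rw [Polynomial.X_dvd_iff]
      simp
    rw [hQ, map_mul, Polynomial.aeval_X]
    exact dvd_mul_right _ _
  ext (q : ProjectiveSpectrum ℬ)
  constructor
  · rintro ⟨x, rfl⟩
    show ¬ (z ∉ ((Proj.map ψ hψ).base x).asHomogeneousIdeal)
    rw [not_not]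
    show ψ z ∈ x.asHomogeneousIdeal
    rw [hψz]
    exact zero_mem _
  · intro hq
    have hzq : z ∈ q.asHomogeneousIdeal := by
      by_contra h
      exact hq h
    have hmem : ∀ b : B, b ∈ q.asHomogeneousIdeal ↔ φ (ψ b) ∈ q.asHomogeneousIdeal := by
      intro b
      have hd : b - φ (ψ b) ∈ q.asHomogeneousIdeal.toIdeal :=
        (Ideal.span_le.mpr (Set.singleton_subset_iff.mpr hzq)) (hkey b)
      constructor
      · intro hb
        have := Ideal.sub_mem _ hb hd
        simpa using this
      · intro hb
        have := Ideal.add_mem _ hd hb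
        simpa using this
    have hirr : ∀ b ∈ (HomogeneousIdeal.irrelevant ℬ).toIdeal,
        ψ b ∈ (HomogeneousIdeal.irrelevant 𝒜).toIdeal := by
      intro b hb
      have hb' : (DirectSum.decompose ℬ b 0 : B) = 0 := hb
      show (DirectSum.decompose 𝒜 (ψ b) 0 : A) = 0
      rw [← GradedRingHom.map_directSumDecompose, hb', map_zero]
    let x : ProjectiveSpectrum 𝒜 :=
      ⟨q.asHomogeneousIdeal.comap φ, inferInstance, fun hle => q.not_irrelevant_le (fun b hb => by
        rw [hmem]
        exact hle (hirr b hb))⟩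
    refine ⟨x, ?_⟩
    apply ProjectiveSpectrum.ext
    ext b
    show φ (ψ b) ∈ q.asHomogeneousIdeal ↔ b ∈ q.asHomogeneousIdeal
    exact (hmem b).symm

end Groth.Agent.S3594
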