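import Groth.Statements.S3596
import Groth.Agent.H18.PConeBasic

set_option autoImplicit false
universe u
open CategoryTheory CategoryTheory.Limits AlgebraicGeometry
open EGA2

namespace Groth.Agent.S3596

/-- For a homomorphism of graded rings φ : S' → S, the induced morphism p : G(φ) → Proj S'
(characterised on the charts as in the previous result) is affine. -/
theorem result {R A : Type u} [CommRing R] [CommRing A] [Algebra R A] (𝒜 : ℕ → Submodule R A) [GradedAlgebra 𝒜]
    {B : Type u} [CommRing B] [Algebra R B] (ℬ : ℕ → Submodule R B) [GradedAlgebra ℬ] (φ : 𝒜 →+*ᵍ ℬ)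
    (p : (PCone.dom φ : Scheme.{u}) ⟶ Proj 𝒜) (hp : ∀ (d : ℕ) (f : A) (hd : 0 < d) (hf : f ∈ 𝒜 d),
        PCone.chart φ hf hd ≫ p =
          Spec.map (CommRingCat.ofHom (HomogeneousLocalization.Away.map φ f)) ≫ Proj.awayι 𝒜 f hf hd) :
    IsAffineHom p := by
  apply isAffineHom_of_forall_exists_isAffineOpen
  intro x
  have hx := (Proj.affineOpenCover 𝒜).covers x
  set s := (Proj.affineOpenCover 𝒜).idx x with hs
  refine ⟨Proj.basicOpen 𝒜 s.2, ?_, Proj.isAffineOpen_basicOpen 𝒜 s.2.1 s.2.2 s.1.2, ?_⟩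
  · rw [← Proj.opensRange_awayι 𝒜 s.2.1 s.2.2 s.1.2]
    exact hx
  · rw [Groth.Agent.H18.preimage_basicOpen_of_chart_compat φ p hp s.1.2 s.2.2,
      ← Groth.Agent.H18.opensRange_chart φ s.2.2 s.1.2]
    exact isAffineOpen_opensRange _

end Groth.Agent.S3596
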