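import Groth.Statements.S3597
import Groth.Agent.H18.PConeBasic

set_option autoImplicit false
universe u
open CategoryTheory CategoryTheory.Limits AlgebraicGeometry
open EGA2

namespace Groth.Agent.S3597

open HomogeneousLocalization in
theorem map_eq_id_of_eq {A σ : Type u} [CommRing A] [SetLike σ A] [AddSubgroupClass σ A]
    {𝒜 : ℕ → σ} [GradedRing 𝒜] (χ : 𝒜 →+*ᵍ 𝒜) (hχ : χ = GradedRingHom.id 𝒜)
    (h : HomogeneousIdeal.irrelevant 𝒜 ≤ (HomogeneousIdeal.irrelevant 𝒜).map χ) :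
    Proj.map χ h = 𝟙 (Proj 𝒜) := by
  subst hχ
  exact Proj.map_id

/-- Let S be a graded algebra over a ring and Ŝ = S[z] the graded S-algebra obtained by adjoining a
variable z in degree 1 (an S-algebra with an element z of degree 1 such that S[T] → Ŝ, T ↦ z, is
bijective), with φ : S → Ŝ the graded structure map and ψ : Ŝ → S the graded retraction with ψ ∘ φ =
id and ψ(z) = 0 (the irrelevant-ideal containment needed to define Proj(ψ) on all of X = Proj S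
carried as a hypothesis). Let Ê ⊆ Ĉ = Proj Ŝ be the pointed projective cone, the open union of the
D_+(φ f) for f ∈ S homogeneous of positive degree, and p : Ê → X a morphism which on each chart
D_+(φ f) = Spec Ŝ_{(φ f)} is induced by S_{(f)} → Ŝ_{(φ f)} (the canonical retraction). Then p is
surjective, and the closed immersion j = Proj(ψ) : X → Ĉ factors through Ê with p ∘ j = id_X. -/
theorem result {R A : Type u} [CommRing R] [CommRing A] [Algebra R A] (𝒜 : ℕ → Submodule R A) [GradedAlgebra 𝒜]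
    {B : Type u} [CommRing B] [Algebra R B] (ℬ : ℕ → Submodule R B) [GradedAlgebra ℬ]
    [Algebra A B] [IsScalarTower R A B] (φ : 𝒜 →+*ᵍ ℬ) (hφ : ∀ a : A, φ a = algebraMap A B a)
    (z : B) (hz : z ∈ ℬ 1) (hhat : Function.Bijective (Polynomial.aeval (R := A) z))
    (ψ : ℬ →+*ᵍ 𝒜) (hψφ : ∀ a : A, ψ (φ a) = a) (hψz : ψ z = 0)
    (hψ : HomogeneousIdeal.irrelevant 𝒜 ≤ (HomogeneousIdeal.irrelevant ℬ).map ψ)
    (p : (PCone.dom φ : Scheme.{u}) ⟶ Proj 𝒜) (hp : ∀ (d : ℕ) (f : A) (hd : 0 < d) (hf : f ∈ 𝒜 d),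
        PCone.chart φ hf hd ≫ p =
          Spec.map (CommRingCat.ofHom (HomogeneousLocalization.Away.map φ f)) ≫ Proj.awayι 𝒜 f hf hd) :
    Surjective p ∧ ∃ j : Proj 𝒜 ⟶ (PCone.dom φ : Scheme.{u}), j ≫ (PCone.dom φ).ι = Proj.map ψ hψ ∧ j ≫ p = 𝟙 (Proj 𝒜) := by
  -- the range of `Proj ψ` is in the pointed cone
  have hrange : Set.range (Proj.map ψ hψ).base ⊆ Set.range (PCone.dom φ).ι.base := by
    rintro _ ⟨x, rfl⟩
    rw [Scheme.Opens.range_ι]
    obtain ⟨i, hi, s, hs, hsx⟩ := Groth.Agent.H18.exists_homogeneous_pos_not_mem 𝒜 x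
    refine TopologicalSpace.Opens.mem_iSup.mpr ⟨⟨s, i, hi, hs⟩, ?_⟩
    show x ∈ Proj.map ψ hψ ⁻¹ᵁ Proj.basicOpen ℬ (φ s)
    rw [Proj.map_preimage_basicOpen, hψφ]
    exact hsx
  have hχ : ψ.comp φ = GradedRingHom.id 𝒜 := GradedRingHom.ext fun a => hψφ a
  have hid : HomogeneousIdeal.irrelevant 𝒜 ≤ (HomogeneousIdeal.irrelevant 𝒜).map (ψ.comp φ) := by
    rw [hχ]; simp
  have hmapid : Proj.map (ψ.comp φ) hid = 𝟙 (Proj 𝒜) := map_eq_id_of_eq _ hχ hid
  let j : Proj 𝒜 ⟶ (PCone.dom φ : Scheme.{u}) :=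
    IsOpenImmersion.lift (PCone.dom φ).ι (Proj.map ψ hψ) hrange
  have hjι : j ≫ (PCone.dom φ).ι = Proj.map ψ hψ := IsOpenImmersion.lift_fac _ _ _
  have hjp : j ≫ p = 𝟙 (Proj 𝒜) := by
    refine (Proj.mapAffineOpenCover (ψ.comp φ) hid).openCover.hom_ext _ _ fun s => ?_
    simp only [Scheme.AffineOpenCover.openCover_f, Proj.mapAffineOpenCover_f]
    have hs : s.2.1 ∈ 𝒜 s.1.1 := s.2.2
    have hpos : 0 < s.1.1 := s.1.2
    have h1 : Proj.awayι 𝒜 (ψ (φ s.2.1)) (ψ.2 (φ.2 hs)) hpos ≫ j =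
        Spec.map (CommRingCat.ofHom (HomogeneousLocalization.Away.map ψ (φ s.2.1))) ≫
          PCone.chart φ hs hpos := by
      rw [← cancel_mono (PCone.dom φ).ι, Category.assoc, Category.assoc, hjι,
        Groth.Agent.H18.chart_ι, Proj.awayι_comp_map ψ hψ hpos (φ s.2.1) (φ.2 hs)]
    have h2 : Proj.awayι 𝒜 (ψ (φ s.2.1)) (ψ.2 (φ.2 hs)) hpos ≫ j ≫ p =
        Proj.awayι 𝒜 (ψ (φ s.2.1)) (ψ.2 (φ.2 hs)) hpos ≫ 𝟙 (Proj 𝒜) := by
      rw [← Category.assoc, h1, Category.assoc, hp _ _ hpos hs, ← Category.assoc, ← Spec.map_comp,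
        ← CommRingCat.ofHom_comp, ← HomogeneousLocalization.Away.map_comp, ← hmapid]
      exact (Proj.awayι_comp_map (ψ.comp φ) hid hpos s.2.1 hs).symm
    exact h2
  refine ⟨⟨?_⟩, j, hjι, hjp⟩
  intro x
  refine ⟨j.base x, ?_⟩
  have := congrArg (fun f => f.base x) hjp
  simpa using this

end Groth.Agent.S3597
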