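import Groth.Statements.S3624
import Mathlib
import Groth.Agent.S0344
import Groth.Agent.H60.GorTransfer
import Groth.Agent.H29.FiberStalkAt

set_option autoImplicit false
universe u
open CategoryTheory CategoryTheory.Limits AlgebraicGeometry
attribute [local instance] HasDerivedCategory.standard
open Dual3

namespace Groth.Agent.S3624

/-- Let f : X → Y be a flat morphism of locally Noetherian schemes with X Gorenstein. Then f is a
Gorenstein morphism (flat with Gorenstein local rings of fibres at every point) and the local ring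
O_{Y, f(x)} is Gorenstein for every point x of X. -/
theorem result (X Y : Scheme.{u}) [IsLocallyNoetherian Y] (f : X ⟶ Y) [Flat f] (hX : Dual3.IsGorenstein X) : Dual3.IsGorensteinMor f ∧ ∀ x : X, LocCoh.IsGorensteinLocalRing (Y.presheaf.stalk (f x)) := by
  obtain ⟨hXn, hXg⟩ := hX
  have key : ∀ x : X, LocCoh.IsGorensteinLocalRing (Y.presheaf.stalk (f x)) ∧
      LocCoh.IsGorensteinLocalRing ((f.fiber (f x)).presheaf.stalk (f.asFiber x)) := by
    intro x
    have hB := hXg x
    haveI : IsNoetherianRing (X.presheaf.stalk x) := hB.toIsNoetherian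
    letI : Algebra (Y.presheaf.stalk (f x)) (X.presheaf.stalk x) := (f.stalkMap x).hom.toAlgebra
    haveI : IsLocalHom (algebraMap (Y.presheaf.stalk (f x)) (X.presheaf.stalk x)) :=
      inferInstanceAs (IsLocalHom (f.stalkMap x).hom)
    haveI : Module.Flat (Y.presheaf.stalk (f x)) (X.presheaf.stalk x) := Flat.stalkMap f x
    have h := (Groth.Agent.S0344.result (Y.presheaf.stalk (f x)) (X.presheaf.stalk x)).mp hB
    obtain ⟨e⟩ := Groth.Agent.H29.FiberStalkAt.nonempty_fiberStalkEquiv f x
    exact ⟨h.1, Groth.Agent.H60.GorTransfer.gor_of_ringEquiv e h.2⟩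
  exact ⟨fun x => ⟨Flat.stalkMap f x, (key x).2⟩, fun x => (key x).1⟩

end Groth.Agent.S3624
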