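import Groth.Statements.S3707
-- import your own Groth.Agent.* helpers here

set_option autoImplicit false
universe u
open SGA1

namespace Groth.Agent.S3707

open AlgebraicGeometry CategoryTheory CategoryTheory.Limits in
/-- Let g : S' -> S be a surjective morphism of schemes, X and Y schemes over S with Y unramified over S
(formally unramified and locally of finite type), and X', Y' their base changes to S'. Then the map
sending an S-morphism X -> Y to the induced S'-morphism X' -> Y' is injective. -/
theorem result {S S' X Y : Scheme.{u}} (g : S' ⟶ S) [Surjective g]
    (p : X ⟶ S) (q : Y ⟶ S) [FormallyUnramified q] [LocallyOfFiniteType q]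
    (u v : X ⟶ Y) (hu : p ≫ 𝟙 S = u ≫ q) (hv : p ≫ 𝟙 S = v ≫ q)
    (h : pullback.map p g q g u (𝟙 S') (𝟙 S) hu ((Category.comp_id _).trans (Category.id_comp _).symm) =
      pullback.map p g q g v (𝟙 S') (𝟙 S) hv ((Category.comp_id _).trans (Category.id_comp _).symm)) :
    u = v := by
  have hu' : u ≫ q = p := by simpa using hu.symm
  have hv' : v ≫ q = p := by simpa using hv.symm
  let w : X ⟶ pullback q q := pullback.lift u v (by rw [hu', hv'])
  have hΔ : IsOpenImmersion (pullback.diagonal q) := inferInstance
  have hsurj : Surjective (pullback.fst p g) := inferInstance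
  have hrange : Set.range w ⊆ Set.range (pullback.diagonal q) := by
    rintro _ ⟨x, rfl⟩
    obtain ⟨x', rfl⟩ := (pullback.fst p g).surjective x
    refine ⟨(pullback.map p g q g u (𝟙 S') (𝟙 S) hu
      ((Category.comp_id _).trans (Category.id_comp _).symm) ≫ pullback.fst q g) x', ?_⟩
    rw [← Scheme.Hom.comp_apply, ← Scheme.Hom.comp_apply]
    have key : (pullback.map p g q g u (𝟙 S') (𝟙 S) hu
        ((Category.comp_id _).trans (Category.id_comp _).symm) ≫ pullback.fst q g) ≫
        pullback.diagonal q = pullback.fst p g ≫ w := by
      apply pullback.hom_ext
      · simp only [Category.assoc, pullback.diagonal_fst, Category.comp_id, w, pullback.lift_fst,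
          pullback.map]
      · simp only [Category.assoc, pullback.diagonal_snd, Category.comp_id, w, pullback.lift_snd]
        rw [h]
        simp only [pullback.map, pullback.lift_fst]
    rw [key]
  have hw := IsOpenImmersion.lift_fac (pullback.diagonal q) w hrange
  have h1 : IsOpenImmersion.lift (pullback.diagonal q) w hrange = u := by
    have := congr($hw ≫ pullback.fst q q)
    rw [Category.assoc, pullback.diagonal_fst, Category.comp_id, pullback.lift_fst] at this
    exact this
  have h2 : IsOpenImmersion.lift (pullback.diagonal q) w hrange = v := by
    have := congr($hw ≫ pullback.snd q q)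
    rw [Category.assoc, pullback.diagonal_snd, Category.comp_id, pullback.lift_snd] at this
    exact this
  exact h1.symm.trans h2

end Groth.Agent.S3707
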