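import Groth.Statements.S3713
import Mathlib
import Groth.Agent.H70.SmoothLocusChart
import Groth.Agent.H70.EtaleCoords
import Groth.Agent.H70.AffineSpaceEtale

set_option autoImplicit false
universe u
open SGA1

namespace Groth.Agent.S3713



open AlgebraicGeometry CategoryTheory CategoryTheory.Limits in
/-- Let Y be locally Noetherian, f : X -> Y locally of finite type, i a section of f and y a point of Y.
Then X is smooth over Y at i(y) (i(y) lies in the smooth locus of f) if and only if there are an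
open neighbourhood U of y, an open V of X with i(U) ⊆ V ⊆ f^{-1}(U), and finitely many sections of
O_X over V, all vanishing along i(U), which define an etale U-morphism from V to an affine space
over U (so that this etale chart carries the section to the zero section). -/
theorem result {X Y : Scheme.{u}} [IsLocallyNoetherian Y] (f : X ⟶ Y)
    [LocallyOfFiniteType f] [LocallyOfFinitePresentation f] (i : Y ⟶ X) (hi : i ≫ f = 𝟙 Y) (y : Y) :
    i.base y ∈ f.smoothLocus ↔
      ∃ (U : Y.Opens) (V : X.Opens) (_ : y ∈ U) (hUV : U ≤ i ⁻¹ᵁ V) (hVU : V ≤ f ⁻¹ᵁ U) (m : ℕ)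
        (v : ULift.{u} (Fin m) → Γ(V, ⊤)),
        Etale (AffineSpace.homOfVector (f.resLE U V hVU) v) ∧ ∀ j, (i.resLE V U hUV).appTop (v j) = 0 := by
  have hfi : ∀ z : Y, f.base (i.base z) = z := fun z => by
    have := congrArg (fun h : Y ⟶ Y => h.base z) hi
    simpa using this
  constructor
  · intro hx
    obtain ⟨U₀, hU₀, V₀, hV₀, hxV₀, e₀, n, hstd⟩ :=
      Groth.Agent.H70.SmoothLocusChart.exists_chart_of_mem_smoothLocus f (i.base y) hx
    obtain ⟨ψ, hψC, hψ⟩ := hstd.exists_etale_mvPolynomial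
    have hyU₀ : y ∈ U₀ := by
      have := e₀ hxV₀
      rw [Scheme.Hom.mem_preimage, hfi] at this
      exact this
    obtain ⟨a, ha_le, hya⟩ := hU₀.exists_basicOpen_le
      (⟨y, ⟨hyU₀, hxV₀⟩⟩ : (U₀ ⊓ i ⁻¹ᵁ V₀ : Y.Opens)) hyU₀
    set U : Y.Opens := Y.basicOpen a with hUdef
    set V : X.Opens := X.basicOpen ((f.appLE U₀ V₀ e₀).hom a) with hVdef
    have hU : IsAffineOpen U := hU₀.basicOpen a
    have hV : IsAffineOpen V := hV₀.basicOpen _
    have hVeq : V = V₀ ⊓ f ⁻¹ᵁ U := Scheme.basicOpen_appLE f V₀ U₀ e₀ a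
    have hVU : V ≤ f ⁻¹ᵁ U := hVeq ▸ inf_le_right
    have hVV₀ : V ≤ V₀ := X.basicOpen_le _
    have hUU₀ : U ≤ U₀ := Y.basicOpen_le _
    have hUV : U ≤ i ⁻¹ᵁ V := by
      intro z hz
      rw [hVeq]
      refine ⟨(ha_le hz).2, ?_⟩
      show f.base (i.base z) ∈ U
      rw [hfi]
      exact hz
    haveI : IsAffine U.toScheme := hU
    haveI : IsAffine V.toScheme := hV
    -- étale coordinates over the localized base
    haveI := hU₀.isLocalization_basicOpen a
    haveI := hV₀.isLocalization_basicOpen ((f.appLE U₀ V₀ e₀).hom a)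
    have hφ : (f.appLE U V hVU).hom.comp (algebraMap Γ(Y, U₀) Γ(Y, U)) =
        (algebraMap Γ(X, V₀) Γ(X, V)).comp (f.appLE U₀ V₀ e₀).hom := by
      show (Y.presheaf.map (homOfLE hUU₀).op ≫ f.appLE U V hVU).hom =
        (f.appLE U₀ V₀ e₀ ≫ X.presheaf.map (homOfLE hVV₀).op).hom
      rw [Scheme.Hom.map_appLE, Scheme.Hom.appLE_map]
    have h1 := Groth.Agent.H70.EtaleCoords.etale_eval₂_of_localization a (f.appLE U₀ V₀ e₀).hom
      (f.appLE U V hVU).hom hφ n ψ hψC hψ
    -- transport to the open subschemes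
    have h2 := Groth.Agent.H70.EtaleCoords.etale_eval₂_transport (f.appLE U V hVU).hom _ h1
      U.topIso.commRingCatIsoToRingEquiv V.topIso.symm.commRingCatIsoToRingEquiv
      (Equiv.ulift : ULift.{u} (Fin n) ≃ Fin n)
    have hφtop : ((V.topIso.symm.commRingCatIsoToRingEquiv.toRingHom.comp
        (f.appLE U V hVU).hom).comp U.topIso.commRingCatIsoToRingEquiv.toRingHom) =
        (f.resLE U V hVU).appTop.hom := by
      rw [Scheme.Hom.appTop, Scheme.Hom.resLE_app_top]
      rfl
    rw [hφtop] at h2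
    -- translate along the section
    have hsec : i.resLE V U hUV ≫ f.resLE U V hVU = 𝟙 _ := by
      rw [Scheme.Hom.resLE_comp_resLE]
      simp only [hi]
      rw [Scheme.Hom.resLE_id]
      exact Scheme.homOfLE_rfl _ _
    have hσφ : ∀ r, (i.resLE V U hUV).appTop.hom ((f.resLE U V hVU).appTop.hom r) = r := by
      intro r
      have := congrArg (fun h => h.appTop.hom r) hsec
      simpa using this
    have h3 := Groth.Agent.H70.EtaleCoords.etale_eval₂_translate (f.resLE U V hVU).appTop.hom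
      (fun j => (i.resLE V U hUV).appTop.hom
        (V.topIso.symm.commRingCatIsoToRingEquiv
          (algebraMap Γ(X, V₀) Γ(X, V) (ψ (MvPolynomial.X (Equiv.ulift j)))))) _ h2
    refine ⟨U, V, hya, hUV, hVU, n, _,
      (Groth.Agent.H70.AffineSpaceEtale.etale_homOfVector_iff (f.resLE U V hVU) _).mpr h3, ?_⟩
    intro j
    show (i.resLE V U hUV).appTop.hom (_ - _) = 0
    rw [map_sub, hσφ, sub_self]
  · rintro ⟨U, V, hyU, hUV, hVU, m, v, het, -⟩
    haveI : Smooth (f.resLE U V hVU) := by
      rw [← AffineSpace.homOfVector_over (f.resLE U V hVU) v]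
      infer_instance
    haveI : Smooth (V.ι ≫ f) := by
      rw [← Scheme.Hom.resLE_comp_ι f hVU]
      infer_instance
    have h1 : (V.ι ≫ f).smoothLocus = ⊤ := Scheme.Hom.smoothLocus_eq_top _
    rw [← Scheme.Hom.preimage_smoothLocus_eq] at h1
    have h2 : (⟨i.base y, hUV hyU⟩ : V) ∈ V.ι ⁻¹ᵁ f.smoothLocus := h1 ▸ trivial
    exact h2

end Groth.Agent.S3713
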