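import Groth.Statements.S3720
import Mathlib
import Groth.Agent.H75.FEtRing
import Groth.Agent.H75.KummerCore

set_option autoImplicit false
open CategoryTheory CategoryTheory.Limits AlgebraicGeometry
universe u
open SGA1t

namespace Groth.Agent.S3720

open AlgebraicGeometry CategoryTheory in
/-- the isomorphism of spectra induced by a ring isomorphism -/
noncomputable def specIsoOfRingEquiv {R S : Type u} [CommRing R] [CommRing S] (f : R ≃+* S) :
    Spec (CommRingCat.of S) ≅ Spec (CommRingCat.of R) where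
  hom := Spec.map (CommRingCat.ofHom f.toRingHom)
  inv := Spec.map (CommRingCat.ofHom f.symm.toRingHom)
  hom_inv_id := by
    rw [← Spec.map_comp, ← CommRingCat.ofHom_comp]
    have h : f.toRingHom.comp f.symm.toRingHom = RingHom.id S := by
      ext x; simp
    rw [h]
    exact Spec.map_id _
  inv_hom_id := by
    rw [← Spec.map_comp, ← CommRingCat.ofHom_comp]
    have h : f.symm.toRingHom.comp f.toRingHom = RingHom.id R := by
      ext x; simp
    rw [h]
    exact Spec.map_id _


/-- Kummer theory over a local ring: let A be a local ring, n ≥ 1 an integer invertible in A, and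
suppose A contains a primitive n-th root of unity (so that the group μ_n(A) of n-th roots of unity
in A is cyclic of order n). Then every principal μ_n(A)-cover P of Spec A is isomorphic over Spec A
to a Kummer cover Spec A[T]/(Tⁿ − a) for some unit a of A, compatibly with the actions: the given
action of a root of unity ζ on P corresponds to the automorphism of A[T]/(Tⁿ − a) induced by T ↦ ζT. -/
theorem result (A : Type u) [CommRing A] [IsLocalRing A] (n : ℕ) (hn1 : 1 ≤ n)
    (hn : IsUnit ((n : ℕ) : A)) (ζ₀ : A) (hζ₀ : IsPrimitiveRoot ζ₀ n)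
    (P : FEt.Cat (Spec (CommRingCat.of A))) (ρ : ↥(rootsOfUnity n A) →* Aut P)
    (hP : SGA1t.IsPrincipal ↥(rootsOfUnity n A) P ρ) :
    ∃ (a : Aˣ) (e : P.left ≅ Spec (CommRingCat.of (SGA1t.kummer A (fun _ : Unit => (a : A)) (fun _ => n)))),
      e.hom ≫ Spec.map (CommRingCat.ofHom (algebraMap A (SGA1t.kummer A (fun _ : Unit => (a : A)) (fun _ => n)))) = P.hom ∧
      ∀ ζ : ↥(rootsOfUnity n A), (ρ ζ).hom.left ≫ e.hom =
        e.hom ≫ Spec.map (CommRingCat.ofHom (SGA1t.kummerTwist A (fun _ : Unit => (a : A)) (fun _ => n) (fun _ => ζ))) := by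
  obtain ⟨B, _, _, _, _, e, σ, he, hσ, hσ1, hσmul, hprin⟩ :=
    Groth.Agent.H75.FEtRing.exists_ring_model A (↥(rootsOfUnity n A)) P ρ
  obtain ⟨hsurj, htors⟩ := hprin hP
  obtain ⟨a, t, htn, ht, hbij⟩ :=
    Groth.Agent.H75.KummerCore.kummer_core n hn1 hn ζ₀ hζ₀ B σ hσmul hsurj htors
  obtain ⟨e', he'⟩ := Groth.Agent.H75.KummerCore.kummer_equiv n hn1 B σ (a : A) t htn ht hbij
  refine ⟨a, e ≪≫ specIsoOfRingEquiv e'.toRingEquiv, ?_, ?_⟩
  · show (e.hom ≫ Spec.map (CommRingCat.ofHom e'.toRingEquiv.toRingHom)) ≫ _ = _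
    rw [Category.assoc, ← Spec.map_comp, ← CommRingCat.ofHom_comp]
    have h : e'.toRingEquiv.toRingHom.comp (algebraMap A (SGA1t.kummer A (fun _ : Unit => (a : A))
        (fun _ => n))) = algebraMap A B := by
      ext x
      exact e'.commutes x
    rw [h]
    exact he
  · intro ζ
    show (ρ ζ).hom.left ≫ (e.hom ≫ Spec.map (CommRingCat.ofHom e'.toRingEquiv.toRingHom)) =
      (e.hom ≫ Spec.map (CommRingCat.ofHom e'.toRingEquiv.toRingHom)) ≫ _
    have hR : (σ ζ).toRingHom.comp e'.toRingEquiv.toRingHom =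
        (e'.toRingEquiv.toRingHom).comp (SGA1t.kummerTwist A (fun _ : Unit => (a : A)) (fun _ => n)
          (fun _ => ζ)) := RingHom.ext (fun x => he' ζ x)
    rw [← Category.assoc, hσ ζ, Category.assoc, Category.assoc, ← Spec.map_comp, ← Spec.map_comp,
      ← CommRingCat.ofHom_comp, ← CommRingCat.ofHom_comp, hR]

end Groth.Agent.S3720
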