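import Groth.Statements.S3721
import Groth.Agent.H87.ASTorsor

set_option autoImplicit false
open CategoryTheory CategoryTheory.Limits AlgebraicGeometry
universe u
open SGA1t

namespace Groth.Agent.S3721

/-- Let p be a prime and A a commutative ring of characteristic p. Then every principal ℤ/p-cover P of
Spec A (a finite étale cover with an action of ℤ/p making it a torsor) is isomorphic over Spec A to
an Artin–Schreier cover Spec A[T]/(T^p − T − a) for some a ∈ A, compatibly with the actions: under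
the isomorphism the given action of j ∈ ℤ/p on P corresponds to the automorphism of the
Artin–Schreier cover induced by T ↦ T + j. The published statement is for any base S of
characteristic p on which Frobenius fixes no nonzero element of H¹(S, O_S); it is stated here for S
= Spec A affine. -/
theorem result (A : Type u) [CommRing A] (p : ℕ) [Fact p.Prime] [CharP A p]
    (P : FEt.Cat (Spec (CommRingCat.of A))) (ρ : Multiplicative (ZMod p) →* Aut P)
    (hP : SGA1t.IsPrincipal (Multiplicative (ZMod p)) P ρ) :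
    ∃ (a : A) (e : P.left ≅ Spec (CommRingCat.of (SGA1t.artinSchreier A p a))),
      e.hom ≫ Spec.map (CommRingCat.ofHom (algebraMap A (SGA1t.artinSchreier A p a))) = P.hom ∧
      ∀ j : ZMod p, (ρ (Multiplicative.ofAdd j)).hom.left ≫ e.hom =
        e.hom ≫ Spec.map (CommRingCat.ofHom (SGA1t.artinSchreierShift A p a j)) := by
  classical
  let f : P.left ⟶ Spec (CommRingCat.of A) := P.hom
  have hfP : P.hom = f := rfl
  have hfin0 : IsFinite f := P.prop.1
  have het0 : Etale f := P.prop.2
  have : IsAffine P.left := isAffine_of_isAffineHom f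
  let B : CommRingCat.{u} := Γ(P.left, ⊤)
  let φ : CommRingCat.of A ⟶ B := (Scheme.ΓSpecIso (CommRingCat.of A)).inv ≫ f.appTop
  have hφ : P.left.isoSpec.inv ≫ f = Spec.map φ := by
    rw [← Scheme.isoSpec_inv_naturality, Scheme.isoSpec_Spec_inv, ← Spec.map_comp]
  have hφ' : f = P.left.isoSpec.hom ≫ Spec.map φ := by
    rw [← hφ, Iso.hom_inv_id_assoc]
  letI : Algebra A B := φ.hom.toAlgebra
  have halg : ∀ a : A, algebraMap A B a = φ.hom a := fun _ => rfl
  have hfin : IsFinite (Spec.map φ) := by rw [← hφ]; infer_instance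
  have het : Etale (Spec.map φ) := by rw [← hφ]; infer_instance
  have : Module.Finite A B := (IsFinite.SpecMap_iff φ).mp hfin
  have : Algebra.Etale A B := (HasRingHomProperty.Spec_iff (P := @Etale)).mp het
  -- the action
  have hw : ∀ g : Multiplicative (ZMod p), (ρ g).hom.left ≫ f = f := fun g =>
    Over.w (ρ g).hom.hom
  let τ : Multiplicative (ZMod p) → (B ⟶ B) := fun g => (ρ g).hom.left.appTop
  have hτφ : ∀ g, φ ≫ τ g = φ := by
    intro g
    have h1 : f.appTop ≫ (ρ g).hom.left.appTop = f.appTop := by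
      rw [← Scheme.Hom.comp_appTop, hw g]
    simp only [φ, τ, Category.assoc, h1]
  have hτ1 : τ 1 = 𝟙 B := by
    simp only [τ, map_one]
    exact Scheme.Hom.id_appTop
  have hτmul : ∀ g h, τ (g * h) = τ g ≫ τ h := by
    intro g h
    simp only [τ, map_mul]
    rw [← Scheme.Hom.comp_appTop]
    rfl
  let σ : ZMod p → (B →ₐ[A] B) := fun j =>
    { toRingHom := (τ (Multiplicative.ofAdd j)).hom
      commutes' := fun a => by
        have := congrArg (fun h => h.hom a) (hτφ (Multiplicative.ofAdd j))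
        exact this }
  have hσapp : ∀ j (b : B), σ j b = (τ (Multiplicative.ofAdd j)).hom b := fun _ _ => rfl
  have hσ0 : σ 0 = AlgHom.id A B := by
    ext b
    rw [hσapp, ofAdd_zero, hτ1]
    rfl
  have hσadd : ∀ j k, σ (j + k) = (σ j).comp (σ k) := by
    intro j k
    ext b
    rw [hσapp, add_comm, ofAdd_add, hτmul]
    rfl
  
  have hS : ∀ 𝔭 : PrimeSpectrum A, ∃ 𝔮 : PrimeSpectrum B,
      𝔮.asIdeal.comap (algebraMap A B) = 𝔭.asIdeal := by
    intro 𝔭
    obtain ⟨x, hx⟩ := hP.1 𝔭
    refine ⟨P.left.isoSpec.hom.base x, ?_⟩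
    have h1 : (Spec.map φ).base (P.left.isoSpec.hom.base x) = 𝔭 := by
      rw [← hx, hfP, hφ']; rfl
    exact congrArg PrimeSpectrum.asIdeal h1
  have hT : ∀ (Ω : Type u) [Field Ω] [IsAlgClosed Ω] (ψ ψ' : B →+* Ω),
      ψ.comp (algebraMap A B) = ψ'.comp (algebraMap A B) →
        ∃! j : ZMod p, ψ.comp (σ j : B →+* B) = ψ' := by
    intro Ω _ _ ψ ψ' hψ
    let s : Spec (CommRingCat.of Ω) ⟶ P.left :=
      Spec.map (CommRingCat.ofHom ψ) ≫ P.left.isoSpec.inv
    let s' : Spec (CommRingCat.of Ω) ⟶ P.left :=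
      Spec.map (CommRingCat.ofHom ψ') ≫ P.left.isoSpec.inv
    have hs : s ≫ f = Spec.map (φ ≫ CommRingCat.ofHom ψ) := by
      simp only [s, Category.assoc, hφ, Spec.map_comp]
    have hs' : s' ≫ f = Spec.map (φ ≫ CommRingCat.ofHom ψ') := by
      simp only [s', Category.assoc, hφ, Spec.map_comp]
    have hψ2 : φ ≫ CommRingCat.ofHom ψ = φ ≫ CommRingCat.ofHom ψ' := by
      ext a
      exact RingHom.congr_fun hψ a
    have key : ∀ g : Multiplicative (ZMod p),
        (s ≫ (ρ g).hom.left = s') ↔ (τ g ≫ CommRingCat.ofHom ψ = CommRingCat.ofHom ψ') := by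
      intro g
      have h0 : s ≫ (ρ g).hom.left =
          Spec.map (τ g ≫ CommRingCat.ofHom ψ) ≫ P.left.isoSpec.inv := by
        simp only [s, τ, Category.assoc, Spec.map_comp, Scheme.isoSpec_inv_naturality]
      rw [h0]
      constructor
      · intro h2
        exact Spec.map_injective ((cancel_mono _).mp h2)
      · intro h2
        rw [h2]
    let ξ : Spec (CommRingCat.of Ω) ⟶ Spec (CommRingCat.of A) := s ≫ f
    obtain ⟨g, hg, hguniq⟩ := hP.2 Ω ξ ⟨s, rfl⟩ ⟨s', by rw [hfP, hs', ← hψ2, ← hs]⟩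
    refine ⟨Multiplicative.toAdd g, ?_, ?_⟩
    · have h1 : s ≫ (ρ g).hom.left = s' := congrArg Subtype.val hg
      have h3 := (key g).mp h1
      ext b
      exact congrArg (fun h => h.hom b) h3
    · intro j hj
      have h3 : τ (Multiplicative.ofAdd j) ≫ CommRingCat.ofHom ψ = CommRingCat.ofHom ψ' := by
        ext b
        exact RingHom.congr_fun hj b
      have h1 := (key (Multiplicative.ofAdd j)).mpr h3
      have := hguniq (Multiplicative.ofAdd j) (Subtype.ext h1)
      rw [← this]; rfl
  
  obtain ⟨a, Φ, hΦ⟩ := Groth.Agent.H87.ASTorsor.main p σ hσ0 hσadd hS hT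
  let Φc : CommRingCat.of (SGA1t.artinSchreier A p a) ≅ B := (Φ.toRingEquiv).toCommRingCatIso
  have hΦc : ∀ x, Φc.hom.hom x = Φ x := fun _ => rfl
  let e2 : Spec B ≅ Spec (CommRingCat.of (SGA1t.artinSchreier A p a)) :=
    { hom := Spec.map Φc.hom
      inv := Spec.map Φc.inv
      hom_inv_id := by rw [← Spec.map_comp, Iso.inv_hom_id, Spec.map_id]
      inv_hom_id := by rw [← Spec.map_comp, Iso.hom_inv_id, Spec.map_id] }
  refine ⟨a, P.left.isoSpec ≪≫ e2, ?_, ?_⟩
  · rw [hfP, hφ']
    simp only [Iso.trans_hom, e2, Category.assoc, ← Spec.map_comp]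
    congr 2
    ext x
    exact Φ.commutes x
  · intro j
    have h1 : Φc.hom ≫ τ (Multiplicative.ofAdd j) =
        CommRingCat.ofHom (SGA1t.artinSchreierShift A p a j) ≫ Φc.hom := by
      refine CommRingCat.hom_ext (RingHom.ext fun x => ?_)
      exact (hΦ j x).symm
    simp only [Iso.trans_hom, e2, Category.assoc, ← Spec.map_comp]
    rw [← h1, Spec.map_comp, ← Scheme.isoSpec_hom_naturality_assoc]

end Groth.Agent.S3721
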