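import Groth.Statements.S3731
import Mathlib.Algebra.Homology.DerivedCategory.TStructure
import Mathlib.CategoryTheory.Triangulated.TStructure.TruncLEGT
-- import your own Groth.Agent.* helpers here

set_option autoImplicit false
universe u v
open CategoryTheory CategoryTheory.Limits
attribute [local instance] HasDerivedCategory.standard
open EtDl

namespace Groth.Agent.S3731

section helpers

open DerivedCategory Pretriangulated

variable {A : Type u} [Category.{v} A] [Abelian A]

lemma chainMap_eq_zero {X Y : CochainComplex A ℤ} (a : ℤ) [X.IsStrictlyLE a] [Y.IsStrictlyGE a]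
    (g : X ⟶ Y) (hg : HomologicalComplex.homologyMap g a = 0) : g = 0 := by
  ext i
  by_cases hi : a < i
  · apply (X.isZero_of_isStrictlyLE a i hi).eq_of_src
  · by_cases hi' : i < a
    · apply (Y.isZero_of_isStrictlyGE a i hi').eq_of_tgt
    · obtain rfl : i = a := by omega
      have h1 : IsIso (X.iCycles i) := by
        apply HomologicalComplex.isIso_iCycles X i (i + 1) (by simp)
        apply (X.isZero_of_isStrictlyLE i (i + 1) (by omega)).eq_of_tgt
      have h2 : IsIso (Y.homologyπ i) := by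
        apply HomologicalComplex.isIso_homologyπ Y (i - 1) i (by simp)
        apply (Y.isZero_of_isStrictlyGE i (i - 1) (by omega)).eq_of_src
      have h3 : HomologicalComplex.cyclesMap g i = 0 := by
        rw [← cancel_mono (Y.homologyπ i), zero_comp, ← HomologicalComplex.homologyπ_naturality,
          hg, comp_zero]
      rw [← cancel_epi (X.iCycles i), HomologicalComplex.zero_f, comp_zero,
        ← HomologicalComplex.cyclesMap_i, h3, zero_comp]


lemma Q_hom_eq_zero {X Y : CochainComplex A ℤ} (a : ℤ) [X.IsStrictlyLE a] [Y.IsStrictlyGE a]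
    (f : Q.obj X ⟶ Q.obj Y) (hf : (homologyFunctor A a).map f = 0) : f = 0 := by
  obtain ⟨X', _, s, _, g, rfl⟩ := right_fac_of_isStrictlyLE f a
  have h1 : (homologyFunctor A a).map (Q.map g) = 0 := by
    have : Q.map g = Q.map s ≫ (inv (Q.map s) ≫ Q.map g) := by simp
    rw [this, Functor.map_comp, hf, comp_zero]
  have h2 := homologyFunctorFactors_hom_naturality g a
  rw [h1, zero_comp] at h2
  have hg : HomologicalComplex.homologyMap g a = 0 :=
    (cancel_epi ((homologyFunctorFactors A a).hom.app X')).1 (h2.symm.trans comp_zero.symm)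
  rw [chainMap_eq_zero a g hg, Q.map_zero, comp_zero]

lemma hom_eq_zero {X Z : DerivedCategory A} (a : ℤ) [hX : X.IsLE a] [hZ : Z.IsGE a]
    (u : X ⟶ Z) (hu : (homologyFunctor A a).map u = 0) : u = 0 := by
  obtain ⟨K, _, ⟨e⟩⟩ := X.exists_iso_Q_obj_of_isLE a
  obtain ⟨L, _, ⟨e'⟩⟩ := Z.exists_iso_Q_obj_of_isGE a
  have : e.inv ≫ u ≫ e'.hom = 0 := by
    apply Q_hom_eq_zero a
    rw [Functor.map_comp, Functor.map_comp, hu, zero_comp, comp_zero]
  rw [← cancel_epi e.inv, ← cancel_mono e'.hom, Category.assoc, this, comp_zero, zero_comp]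


open DerivedCategory.TStructure in
/-- one step: a map from an object `≤ a` which is zero on `H^a` factors through an object `≤ a-1`. -/
lemma exists_factor {X Y : DerivedCategory A} (a : ℤ) [hX : X.IsLE a]
    (g : X ⟶ Y) (hg : (homologyFunctor A a).map g = 0) :
    ∃ (W : DerivedCategory A) (_ : W.IsLE (a - 1)) (g' : X ⟶ W) (c : W ⟶ Y), g = g' ≫ c := by
  have h0 : g ≫ (t.truncGEπ a).app Y = 0 := by
    have : ((t.truncGE a).obj Y).IsGE a := inferInstanceAs (t.IsGE ((t.truncGE a).obj Y) a)
    apply hom_eq_zero a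
    rw [Functor.map_comp, hg, zero_comp]
  obtain ⟨g', hg'⟩ := Triangle.coyoneda_exact₂ _ (t.triangleLTGE_distinguished a Y) g h0
  exact ⟨(t.truncLT a).obj Y, inferInstanceAs (t.IsLE ((t.truncLT a).obj Y) (a - 1)), g',
    (t.truncLTι a).app Y, hg'⟩


open DerivedCategory.TStructure in
lemma chain_comp_eq_zero (n k : ℕ) (hkn : k ≤ n) (K : ComposableArrows (DerivedCategory A) n)
    (hGE : ∀ (i : ℕ) (hi : i ≤ n), (K.obj' i).IsGE 0)
    (hf : ∀ (i : ℕ) (hi : i < n) (p : ℤ), p < (k : ℤ) →
      (homologyFunctor A p).map (K.map' i (i + 1)) = 0)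
    (T : DerivedCategory A) (hT : T.IsLE ((k : ℤ) - 1)) (ι : T ⟶ K.obj' 0) :
    ι ≫ K.map' 0 k = 0 := by
  have key : ∀ (j : ℕ) (hj : j ≤ k), ∃ (W : DerivedCategory A) (_ : W.IsLE ((k : ℤ) - 1 - j))
      (a : T ⟶ W) (c : W ⟶ K.obj' j), a ≫ c = ι ≫ K.map' 0 j := by
    intro j
    induction j with
    | zero =>
      intro _
      refine ⟨T, by simpa using hT, 𝟙 T, ι, ?_⟩
      rw [K.map'_self 0, Category.id_comp, Category.comp_id]
    | succ j ih =>
      intro hj
      obtain ⟨W, hW, a, c, hac⟩ := ih (by omega)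
      have hz : (homologyFunctor A ((k : ℤ) - 1 - j)).map (c ≫ K.map' j (j + 1)) = 0 := by
        rw [Functor.map_comp, hf j (by omega) _ (by omega), comp_zero]
      obtain ⟨W', hW', g', c', hgc⟩ := exists_factor ((k : ℤ) - 1 - j) (c ≫ K.map' j (j + 1)) hz
      refine ⟨W', ?_, a ≫ g', c', ?_⟩
      · have e : (k : ℤ) - 1 - ((j + 1 : ℕ) : ℤ) = (k : ℤ) - 1 - j - 1 := by push_cast; omega
        rw [e]
        exact hW'
      · rw [Category.assoc, ← hgc, ← Category.assoc, hac, Category.assoc,
          ← K.map'_comp 0 j (j + 1)]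
  obtain ⟨W, hW, a, c, hac⟩ := key k le_rfl
  have hc : c = 0 := by
    have := hGE k hkn
    exact t.zero c ((k : ℤ) - 1 - k) 0 (by omega)
  rw [← hac, hc, comp_zero]


lemma exists_factor_through (n k : ℕ) (hkn : k ≤ n) (K : ComposableArrows (DerivedCategory A) n)
    (hGE : ∀ (i : ℕ) (hi : i ≤ n), (K.obj' i).IsGE 0)
    (hLE0 : ∀ p : ℤ, (k : ℤ) < p → IsZero ((homologyFunctor A p).obj (K.obj' 0)))
    (hf : ∀ (i : ℕ) (hi : i < n) (p : ℤ), p < (k : ℤ) →
      (homologyFunctor A p).map (K.map' i (i + 1)) = 0)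
    (S : DerivedCategory A) (hSGE : S.IsGE (k : ℤ)) (hSLE : S.IsLE (k : ℤ))
    (π : K.obj' 0 ⟶ S) (hπiso : IsIso ((homologyFunctor A (k : ℤ)).map π)) :
    ∃ φ : S ⟶ K.obj' n, K.map' 0 n = π ≫ φ := by
  obtain ⟨T, ι, δ, hT⟩ := Pretriangulated.distinguished_cocone_triangle₁ π
  have hTLE : T.IsLE ((k : ℤ) - 1) := by
    rw [DerivedCategory.isLE_iff]
    intro p hp
    have hcomp : (homologyFunctor A p).map ι ≫ (homologyFunctor A p).map π = 0 := by
      rw [← Functor.map_comp]
      have h12 : ι ≫ π = 0 := Pretriangulated.comp_distTriang_mor_zero₁₂ _ hT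
      rw [h12, Functor.map_zero]
    by_cases hpk : p = (k : ℤ)
    · subst hpk
      have hδ : HomologySequence.δ (Triangle.mk ι π δ) ((k : ℤ) - 1) (k : ℤ) (by omega) = 0 :=
        (DerivedCategory.isZero_of_isGE S (k : ℤ) ((k : ℤ) - 1) (by omega)).eq_of_src _ _
      have hmono : Mono ((homologyFunctor A (k : ℤ)).map ι) :=
        (HomologySequence.mono_homologyMap_mor₁_iff _ hT ((k : ℤ) - 1) (k : ℤ)
          (by omega)).mpr hδ
      have hz : (homologyFunctor A (k : ℤ)).map ι = 0 := by
        rw [← cancel_mono ((homologyFunctor A (k : ℤ)).map π), hcomp, zero_comp]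
      exact IsZero.of_mono_eq_zero _ hz
    · have hpk' : (k : ℤ) < p := by omega
      have hg0 : (homologyFunctor A p).map ι = 0 := (hLE0 p hpk').eq_of_tgt _ _
      have hex := HomologySequence.exact₁ _ hT (p - 1) p (by omega)
      have hδ : HomologySequence.δ (Triangle.mk ι π δ) (p - 1) p (by omega) = 0 := by
        by_cases hp1 : p - 1 = (k : ℤ)
        · have hc := HomologySequence.comp_δ _ hT (p - 1) p (by omega)
          have hiso' : IsIso ((homologyFunctor A (p - 1)).map π) := by
            rw [hp1]; exact hπiso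
          exact (cancel_epi ((homologyFunctor A (p - 1)).map π)).1 (hc.trans comp_zero.symm)
        · exact (DerivedCategory.isZero_of_isLE S (k : ℤ) (p - 1) (by omega)).eq_of_src _ _
      have hepi : Epi (HomologySequence.δ (Triangle.mk ι π δ) (p - 1) p (by omega)) :=
        hex.epi_f hg0
      exact @IsZero.of_epi_eq_zero _ _ _ _ _ _ hepi hδ
  have hzero : ι ≫ K.map' 0 n = 0 := by
    rw [K.map'_comp 0 k n, ← Category.assoc,
      chain_comp_eq_zero n k hkn K hGE hf T hTLE ι, zero_comp]
  obtain ⟨φ, hφ⟩ := Pretriangulated.Triangle.yoneda_exact₂ _ hT (K.map' 0 n) hzero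
  exact ⟨φ, hφ⟩

end helpers

/-- Let A be an abelian category, k ≥ 0, and K_0 -> K_1 -> ... -> K_{2k} a chain of 2k morphisms in the
derived category of A such that every K_i has H^p(K_i) = 0 for p outside [0, k] and every morphism
K_i -> K_{i+1} induces the zero map on H^p for all p < k. Let π : K_0 -> H^k(K_0)[-k] be the
morphism to the top cohomology object placed in degree k that induces the identity on H^k. Then the
composite K_0 -> K_{2k} factors through π. -/
theorem result {A : Type u} [Category.{v} A] [Abelian A] (k : ℕ)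
    (K : ComposableArrows (DerivedCategory A) (2 * k))
    (hK : ∀ (i : ℕ) (hi : i ≤ 2 * k) (p : ℤ), p < 0 ∨ (k : ℤ) < p →
      IsZero ((DerivedCategory.homologyFunctor A p).obj (K.obj' i)))
    (hf : ∀ (i : ℕ) (hi : i < 2 * k) (p : ℤ), p < (k : ℤ) →
      (DerivedCategory.homologyFunctor A p).map (K.map' i (i + 1)) = 0)
    (π : K.obj' 0 ⟶ (DerivedCategory.singleFunctor A (k : ℤ)).obj
      ((DerivedCategory.homologyFunctor A (k : ℤ)).obj (K.obj' 0)))
    (hπ : (DerivedCategory.homologyFunctor A (k : ℤ)).map π ≫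
      (DerivedCategory.singleFunctorCompHomologyFunctorIso A (k : ℤ)).hom.app
        ((DerivedCategory.homologyFunctor A (k : ℤ)).obj (K.obj' 0)) = 𝟙 _) :
    ∃ φ : (DerivedCategory.singleFunctor A (k : ℤ)).obj
        ((DerivedCategory.homologyFunctor A (k : ℤ)).obj (K.obj' 0)) ⟶ K.obj' (2 * k),
      K.map' 0 (2 * k) = π ≫ φ := by
  have hπiso : IsIso ((DerivedCategory.homologyFunctor A (k : ℤ)).map π) := by
    have := (Iso.comp_hom_eq_id ((DerivedCategory.singleFunctorCompHomologyFunctorIso A (k : ℤ)).app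
      ((DerivedCategory.homologyFunctor A (k : ℤ)).obj (K.obj' 0)))).mp hπ
    rw [this]; infer_instance
  have hGE : ∀ (i : ℕ) (hi : i ≤ 2 * k), (K.obj' i).IsGE 0 := by
    intro i hi
    rw [DerivedCategory.isGE_iff]
    intro p hp
    exact hK i hi p (Or.inl hp)
  exact exists_factor_through (2 * k) k (by omega) K hGE
    (fun p hp => hK 0 (by omega) p (Or.inr hp)) hf _ inferInstance inferInstance π hπiso

end Groth.Agent.S3731
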