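import Groth.Statements.S3780
import Groth.Agent.H41.Sigma

set_option autoImplicit false
universe v u
open CategoryTheory CategoryTheory.Limits AlgebraicGeometry
attribute [local instance] HasDerivedCategory.standard
open KRR

namespace Groth.Agent.S3780

/-- Let K be a λ-ring with positive structure admitting a splitting, e a positive element of
augmentation ε(e) = r + 1, K_e = K[T]/(p_e(T)) the elementary extension of K with ℓ the class of T,
and f : K_e → K a K-linear functional with f(ℓ^i) = σ^i(e) for i ≤ r. For any λ-operations on K_e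
extending those of K with λ^i(ℓ) = 0 for i ≥ 2, and q = e − ℓ ∈ K_e, one has f(λ^0(q)) = 1 and
f(λ^i(q)) = 0 for all i ≥ 1; that is, f(λ_t(q)) = 1. -/
theorem result (K : Type v) [CommRing K] [LambdaRing.LambdaOps K] (P : LambdaRing.PosStructure K) (hK : LambdaRing.HasSplitting K P) (e : K) (he : e ∈ P.pos) (r : ℕ) (hr : P.aug e = r + 1)
    (inst : LambdaRing.LambdaOps (AdjoinRoot (KRR.extPoly P e)))
    (hext : ∀ (i : ℕ) (x : K), @LambdaRing.LambdaOps.lam _ _ inst i (AdjoinRoot.of (KRR.extPoly P e) x) =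
      AdjoinRoot.of (KRR.extPoly P e) (LambdaRing.LambdaOps.lam i x))
    (hroot : ∀ i : ℕ, 2 ≤ i → @LambdaRing.LambdaOps.lam _ _ inst i (AdjoinRoot.root (KRR.extPoly P e)) = 0)
    (f : AdjoinRoot (KRR.extPoly P e) →ₗ[K] K)
    (hf : ∀ i : ℕ, i ≤ r → f (AdjoinRoot.root (KRR.extPoly P e) ^ i) = KRR.sigma i e) (i : ℕ) :
    f (@LambdaRing.LambdaOps.lam _ _ inst i (AdjoinRoot.of (KRR.extPoly P e) e - AdjoinRoot.root (KRR.extPoly P e))) =
      if i = 0 then 1 else 0 := by
  classical
  set ℓ := AdjoinRoot.root (KRR.extPoly P e) with hℓ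
  set q := AdjoinRoot.of (KRR.extPoly P e) e - ℓ with hq
  have part1 : ∀ i : ℕ, f (ℓ ^ i) = KRR.sigma i e :=
    Groth.Agent.H41.functional_root_pow P e he r hr f hf
  have hqe : q + ℓ = AdjoinRoot.of (KRR.extPoly P e) e := by rw [hq]; ring
  have hl0 : @LambdaRing.LambdaOps.lam _ _ inst 0 ℓ = 1 := inst.lam_zero ℓ
  have hl1 : @LambdaRing.LambdaOps.lam _ _ inst 1 ℓ = ℓ := inst.lam_one ℓ
  -- recursion
  have hrec : ∀ i : ℕ, @LambdaRing.LambdaOps.lam _ _ inst (i + 1) q =
      AdjoinRoot.of (KRR.extPoly P e) (LambdaRing.LambdaOps.lam (i + 1) e) -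
        ℓ * @LambdaRing.LambdaOps.lam _ _ inst i q := by
    intro i
    have h := inst.lam_add (i + 1) q ℓ
    rw [hqe, hext, Finset.sum_range_succ, Finset.sum_range_succ] at h
    have hz : ∑ x ∈ Finset.range i, @LambdaRing.LambdaOps.lam _ _ inst x q *
        @LambdaRing.LambdaOps.lam _ _ inst (i + 1 - x) ℓ = 0 := by
      apply Finset.sum_eq_zero
      intro x hx
      have hx' := Finset.mem_range.1 hx
      rw [hroot (i + 1 - x) (by omega), mul_zero]
    rw [hz, zero_add, Nat.sub_self, hl0, mul_one, Nat.add_sub_cancel_left, hl1] at h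
    rw [h]; ring
  -- explicit formula
  have hformula : ∀ i : ℕ, @LambdaRing.LambdaOps.lam _ _ inst i q =
      ∑ j ∈ Finset.range (i + 1),
        AdjoinRoot.of (KRR.extPoly P e) (LambdaRing.LambdaOps.lam (i - j) e) * (-ℓ) ^ j := by
    intro i
    induction i with
    | zero =>
      simp [inst.lam_zero q, LambdaRing.LambdaOps.lam_zero]
    | succ i ih =>
      rw [hrec, ih, Finset.sum_range_succ' _ (i + 1), Finset.mul_sum]
      simp only [Nat.add_sub_add_right, pow_zero, mul_one, Nat.sub_zero]
      rw [sub_eq_add_neg, add_comm, ← Finset.sum_neg_distrib]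
      congr 1
      apply Finset.sum_congr rfl
      intro j _
      ring
  -- apply f
  have hterm : ∀ (a : K) (j : ℕ),
      f (AdjoinRoot.of (KRR.extPoly P e) a * (-ℓ) ^ j) = a * (-1) ^ j * KRR.sigma j e := by
    intro a j
    have : AdjoinRoot.of (KRR.extPoly P e) a * (-ℓ) ^ j = (a * (-1) ^ j) • ℓ ^ j := by
      rw [Algebra.smul_def, AdjoinRoot.algebraMap_eq, map_mul, map_pow, map_neg, map_one,
        neg_pow ℓ j]
      ring
    rw [this, map_smul, part1, smul_eq_mul]
  rw [hformula, map_sum]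
  simp only [hterm]
  by_cases hi : i = 0
  · subst hi
    simp [Groth.Agent.H41.sigma_zero, LambdaRing.LambdaOps.lam_zero]
  · rw [if_neg hi]
    have h0 := Groth.Agent.H41.sigma_rec e i
    rw [if_neg hi] at h0
    have hthis : ∑ j ∈ Finset.range (i + 1), LambdaRing.LambdaOps.lam (i - j) e * (-1) ^ j * KRR.sigma j e =
        (-1) ^ i * ∑ j ∈ Finset.range (i + 1),
          ((-1 : K) ^ (i - j) * LambdaRing.LambdaOps.lam (i - j) e) * KRR.sigma (i - (i - j)) e := by
      rw [Finset.mul_sum]
      apply Finset.sum_congr rfl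
      intro j hj
      have hj' : j ≤ i := by
        have := Finset.mem_range.1 hj
        omega
      have e1 : i - (i - j) = j := by omega
      have e2 : (-1 : K) ^ j = (-1) ^ i * (-1) ^ (i - j) := by
        rw [← pow_add]
        have : i + (i - j) = j + 2 * (i - j) := by omega
        rw [this, pow_add, pow_mul]
        simp
      rw [e1, e2]
      ring
    rw [hthis, Finset.sum_flip (fun j => ((-1 : K) ^ j * LambdaRing.LambdaOps.lam j e) * KRR.sigma (i - j) e),
      h0, mul_zero]

end Groth.Agent.S3780
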