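import Groth.Statements.S3781
import Groth.Agent.H19.Det

set_option autoImplicit false
universe v u
open CategoryTheory CategoryTheory.Limits AlgebraicGeometry
attribute [local instance] HasDerivedCategory.standard
open KRR

namespace Groth.Agent.S3781

/-- Let K be a λ-ring with positive structure having the splitting property, L its group of line
elements and F^n the γ-filtration. Assume moreover that the inverse of a line element is a line
element and that for a positive e with ε(e) = r the element det e = λ^r(e) is positive (hence a line
element); these are part of the published setting but are not implied by the axioms used here, so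
they are hypotheses. Then u ↦ u − 1 induces an isomorphism L ≅ Gr^1 K = F^1/F^2: every x ∈ F^1 is
congruent modulo F^2 to u − 1 for some line element u, and line elements u, v with u − v ∈ F^2 are
equal. -/
theorem result (K : Type v) [CommRing K] [LambdaRing.LambdaOps K] (P : LambdaRing.PosStructure K) (hK : LambdaRing.HasSplitting K P)
    (hLinv : ∀ w : K, P.IsLine w → ∃ w' : K, P.IsLine w' ∧ w * w' = 1)
    (hdet : ∀ e : K, e ∈ P.pos → LambdaRing.LambdaOps.lam (P.aug e).toNat e ∈ P.pos) :
    (∀ x : K, x ∈ LambdaRing.gammaFiltration P 1 → ∃ u : K, P.IsLine u ∧ x - (u - 1) ∈ LambdaRing.gammaFiltration P 2) ∧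
    ∀ u v : K, P.IsLine u → P.IsLine v → u - v ∈ LambdaRing.gammaFiltration P 2 → u = v := by
  constructor
  · intro x hx
    have hax : P.aug x = 0 := Groth.Agent.H19.Det.aug_F1 P hK hx
    obtain ⟨e, f, he, hf, hxe⟩ := P.exists_sub x
    have hm : (P.aug e).toNat = (P.aug f).toNat := by
      rw [hxe, map_sub] at hax
      omega
    have hde := Groth.Agent.H19.Det.isLine_topLam P hK hdet he
    have hdf := Groth.Agent.H19.Det.isLine_topLam P hK hdet hf
    obtain ⟨w', hw', hinv⟩ := hLinv _ hdf
    refine ⟨Groth.Agent.H19.Det.topLam P e * w', Groth.Agent.H19.Adams.isLine_mul P hde hw', ?_⟩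
    have hA := Groth.Agent.H19.Det.topLam_sub_mem P hK he
    have hB := Groth.Agent.H19.Det.topLam_sub_mem P hK hf
    rw [← hm] at hB
    have h1 : Groth.Agent.H19.Det.topLam P e - Groth.Agent.H19.Det.topLam P f ∈
        LambdaRing.gammaFiltration P 1 := by
      have := sub_mem (Groth.Agent.H19.Det.line_sub_one_mem P hde)
        (Groth.Agent.H19.Det.line_sub_one_mem P hdf)
      rwa [sub_sub_sub_cancel_right] at this
    have h2 : 1 - w' ∈ LambdaRing.gammaFiltration P 1 := by
      have := neg_mem (Groth.Agent.H19.Det.line_sub_one_mem P hw')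
      rwa [neg_sub] at this
    have h3 := Groth.Agent.H19.AdamsGamma.mul_mem P 1 1 _ _ h1 h2
    have hfin : x - (Groth.Agent.H19.Det.topLam P e * w' - 1) =
        (Groth.Agent.H19.Det.topLam P e - Groth.Agent.H19.Det.topLam P f) * (1 - w') -
          (Groth.Agent.H19.Det.topLam P e - 1 - (e - ((P.aug e).toNat : K))) +
          (Groth.Agent.H19.Det.topLam P f - 1 - (f - ((P.aug e).toNat : K))) := by
      rw [hxe]
      linear_combination (-1 : K) * hinv
    rw [hfin]
    exact add_mem (sub_mem h3 hA) hB
  · intro u v hu hv huv
    have h := Groth.Agent.H19.Det.det_F2 P hK huv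
    rw [Groth.Agent.H19.Det.det_sub, mul_inv_eq_one] at h
    have := congrArg Units.val h
    rwa [Groth.Agent.H19.Det.det_line P hu, Groth.Agent.H19.Det.det_line P hv] at this

end Groth.Agent.S3781
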