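import Groth.Statements.S3782
import Groth.Agent.H19.ElemExt
import Groth.Agent.H41.Sigma

set_option autoImplicit false
universe v u
open CategoryTheory CategoryTheory.Limits AlgebraicGeometry
attribute [local instance] HasDerivedCategory.standard
open KRR

namespace Groth.Agent.S3782

/-- Let K be a λ-ring with positive structure having the splitting property, e positive with ε(e) = r +
1, and K_e = K[T]/(p_e) with generator ℓ, equipped with a λ-structure extending that of K with
λ^i(ℓ) = 0 for i ≥ 2 and a positive structure making K ⟶ K_e an extension with ℓ a line element and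
again having the splitting property. Then for every k ≥ 0 the γ-filtration of K_e is F^k K_e =
Σ_{i=0}^{r} F^{k-i}K · (ℓ - 1)^i (F^j K = K for j ≤ 0). In particular F^k K_e ∩ K = F^k K. -/
theorem result (K : Type v) [CommRing K] [LambdaRing.LambdaOps K] (P : LambdaRing.PosStructure K) (hK : LambdaRing.HasSplitting K P) (e : K) (he : e ∈ P.pos) (r : ℕ) (hr : P.aug e = r + 1)
    (inst : LambdaRing.LambdaOps (AdjoinRoot (KRR.extPoly P e))) (Pe : @LambdaRing.PosStructure _ _ inst)
    (hext : @LambdaRing.IsExtension K _ _ _ _ inst P Pe (AdjoinRoot.of (KRR.extPoly P e)))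
    (hroot : ∀ i : ℕ, 2 ≤ i → @LambdaRing.LambdaOps.lam _ _ inst i (AdjoinRoot.root (KRR.extPoly P e)) = 0)
    (hline : @LambdaRing.PosStructure.IsLine _ _ inst Pe (AdjoinRoot.root (KRR.extPoly P e)))
    (hsplit : @LambdaRing.HasSplitting _ _ inst Pe) (k : ℕ) :
    @LambdaRing.gammaFiltration _ _ inst Pe k =
      ⨆ i ∈ Finset.range (r + 1), AddSubgroup.map
        ((AddMonoidHom.mulRight ((AdjoinRoot.root (KRR.extPoly P e) - 1) ^ i)).comp
          (AdjoinRoot.of (KRR.extPoly P e)).toAddMonoidHom)
        (LambdaRing.gammaFiltration P (k - i)) := by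
  have hm : (P.aug e).toNat = r + 1 := by rw [hr]; omega
  have hgen : ∀ x : AdjoinRoot (KRR.extPoly P e), ∃ q : Polynomial K,
      x = Polynomial.eval₂ (AdjoinRoot.of (KRR.extPoly P e)) (AdjoinRoot.root (KRR.extPoly P e)) q := by
    intro x
    obtain ⟨q, rfl⟩ := AdjoinRoot.mk_surjective x
    refine ⟨q, ?_⟩
    rw [← AdjoinRoot.aeval_eq, Polynomial.aeval_def, AdjoinRoot.algebraMap_eq]
  have hrel : ∑ i ∈ Finset.range (r + 1 + 1),
      AdjoinRoot.of (KRR.extPoly P e) ((-1) ^ i * LambdaRing.LambdaOps.lam i e) *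
        AdjoinRoot.root (KRR.extPoly P e) ^ (r + 1 - i) = 0 := by
    have h := Groth.Agent.H41.extPoly_root_rel P e (r + 1) hm
    simpa only [Algebra.smul_def, AdjoinRoot.algebraMap_eq] using h
  exact Groth.Agent.H19.ElemExt.main P Pe hsplit (AdjoinRoot.of (KRR.extPoly P e)) hext
    (AdjoinRoot.root (KRR.extPoly P e)) hline hgen e he r hr hrel k

end Groth.Agent.S3782
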