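import Groth.Statements.S3791
import Groth.Agent.H19.LambdaLine
-- import your own Groth.Agent.* helpers here

set_option autoImplicit false
universe v u
open CategoryTheory CategoryTheory.Limits AlgebraicGeometry
attribute [local instance] HasDerivedCategory.standard
open KRR

namespace Groth.Agent.S3791

/-- Let K be a λ-ring with positive structure P and u an ample line element (for every x, u^n x is a
positive element minus a natural number for all large n). Then for every line element v, the element
v - 1 is nilpotent. -/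
theorem result (K : Type v) [CommRing K] [LambdaRing.LambdaOps K] (P : LambdaRing.PosStructure K)
    (u : K) (hu : KRR.IsAmpleElt P u) (w : K) (hw : P.IsLine w) : IsNilpotent (w - 1) := by
  obtain ⟨hul, hamp⟩ := hu
  -- for a line element `v`, `u ^ n * v - 1` is nilpotent for all large `n`
  have key : ∀ v : K, P.IsLine v → ∃ n₀ : ℕ, ∀ n : ℕ, n₀ ≤ n → IsNilpotent (u ^ n * v - 1) := by
    intro v hv
    obtain ⟨n₀, hn₀⟩ := hamp (-v)
    refine ⟨n₀, fun n hn => ?_⟩
    obtain ⟨e, m, he, hem⟩ := hn₀ n hn
    have hl : P.IsLine (u ^ n * v) :=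
      Groth.Agent.H19.isLine_mul P (Groth.Agent.H19.isLine_pow P hul n) hv
    have h0 := Groth.Agent.H19.one_sub_line_pow_eq_zero P hl he m
      (by linear_combination -hem)
    have : IsNilpotent (1 - u ^ n * v) := ⟨m, h0⟩
    rw [← neg_sub]
    exact this.neg
  obtain ⟨n₁, h₁⟩ := key w hw
  obtain ⟨n₂, h₂⟩ := key 1 (Groth.Agent.H19.isLine_one P)
  have hA := h₁ (max n₁ n₂) (le_max_left _ _)
  have hB := h₂ (max n₁ n₂) (le_max_right _ _)
  rw [mul_one] at hB
  have hC : IsNilpotent ((u ^ max n₁ n₂ - 1) * w) := (Commute.all _ _).isNilpotent_mul_right hB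
  have : w - 1 = (u ^ max n₁ n₂ * w - 1) - (u ^ max n₁ n₂ - 1) * w := by ring
  rw [this]
  exact (Commute.all _ _).isNilpotent_sub hA hC

end Groth.Agent.S3791
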