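import Groth.Statements.S3794
import Groth.Agent.H43.KGChern

set_option autoImplicit false
universe v u
open CategoryTheory CategoryTheory.Limits AlgebraicGeometry
attribute [local instance] HasDerivedCategory.standard
open scoped TensorProduct
open KRR

namespace Groth.Agent.S3794

open Groth.Agent.H43.KG LambdaRing

theorem exists_rep {K : Type v} [CommRing K] (z : TensorProduct ℤ ℚ K) :
    ∃ (N : ℕ) (x : K), 0 < N ∧ z = ((1 : ℚ) / (N : ℚ)) ⊗ₜ[ℤ] x := by
  induction z using TensorProduct.induction_on with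
  | zero => exact ⟨1, 0, one_pos, (TensorProduct.tmul_zero _ _).symm⟩
  | tmul q x =>
    refine ⟨q.den, q.num • x, q.pos, ?_⟩
    rw [← TensorProduct.smul_tmul]
    congr 1
    rw [zsmul_eq_mul, mul_one_div, Rat.num_div_den]
  | add a b ha hb =>
    obtain ⟨N, x, hN, rfl⟩ := ha
    obtain ⟨M, y, hM, rfl⟩ := hb
    refine ⟨N * M, (M : ℤ) • x + (N : ℤ) • y, Nat.mul_pos hN hM, ?_⟩
    have hN0 : (N : ℚ) ≠ 0 := by positivity
    have hM0 : (M : ℚ) ≠ 0 := by positivity
    rw [TensorProduct.tmul_add, ← TensorProduct.smul_tmul, ← TensorProduct.smul_tmul]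
    congr 2
    · rw [zsmul_eq_mul]; push_cast; field_simp
    · rw [zsmul_eq_mul]; push_cast; field_simp


/-- Let K be a λ-ring with positive structure having the splitting property, whose γ-filtration
satisfies F^{d+1} K = 0. Then the Chern character ch : K ⟶ ℚGr K = ℚ ⊗ (⊕ F^n/F^{n+1}) (from the
Chern classes c^i(x) = γ^i(x - ε x) mod F^{i+1} through the Hirzebruch polynomials of exp, truncated
at d) is additive and induces a bijection ℚ ⊗ K ⟶ ℚGr K: there is a ℚ-linear Φ with Φ(1 ⊗ x) = ch(x)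
for all x, and it is bijective. -/
theorem result (K : Type v) [CommRing K] [LambdaRing.LambdaOps K] (P : LambdaRing.PosStructure K) (hK : LambdaRing.HasSplitting K P) (d : ℕ) (hd : LambdaRing.gammaFiltration P (d + 1) = ⊥)
    :
    ∃ Φ : TensorProduct ℤ ℚ K →ₗ[ℚ] KGr.Gr P, (∀ x : K, Φ ((1 : ℚ) ⊗ₜ[ℤ] x) = KGr.chK P d x) ∧ Function.Bijective Φ := by
  classical
  let chA : K →+ KGr.Gr P := AddMonoidHom.mk' (KGr.chK P d) (chK_add P d hd)
  have hchA : ∀ x, chA x = KGr.chK P d x := fun _ => rfl
  let Φ : TensorProduct ℤ ℚ K →ₗ[ℚ] KGr.Gr P :=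
    TensorProduct.AlgebraTensorModule.lift
      (LinearMap.toSpanSingleton ℚ (K →ₗ[ℤ] KGr.Gr P) chA.toIntLinearMap)
  have hΦ : ∀ (q : ℚ) (x : K), Φ (q ⊗ₜ[ℤ] x) = q • KGr.chK P d x := by
    intro q x
    show TensorProduct.AlgebraTensorModule.lift _ (q ⊗ₜ[ℤ] x) = _
    rw [TensorProduct.AlgebraTensorModule.lift_tmul, LinearMap.toSpanSingleton_apply,
      LinearMap.smul_apply]
    rfl
  refine ⟨Φ, fun x => by rw [hΦ, one_smul], ?_, ?_⟩
  · rw [injective_iff_map_eq_zero]
    intro z hz
    obtain ⟨N, x, hN, rfl⟩ := exists_rep z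
    have hN0 : (N : ℚ) ≠ 0 := by positivity
    rw [hΦ] at hz
    have hch : KGr.chK P d x = 0 := (smul_eq_zero.1 hz).resolve_left (by positivity)
    have claim : ∀ n : ℕ, ∃ s : ℤ, s ≠ 0 ∧ s • x ∈ gammaFiltration P n := by
      intro n
      induction n with
      | zero => exact ⟨1, one_ne_zero, mem_fil_zero P _⟩
      | succ n ih =>
        obtain ⟨s, hs0, hs⟩ := ih
        have hch' : KGr.chK P d (s • x) = 0 := by
          rw [← hchA, map_zsmul, hchA, hch, smul_zero]
        have htri := chK_tri P hK d hd hs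
        rw [hch', zero_sub] at htri
        have hmem : gr P n (s • x) ∈ Hi P (n + 1) := by
          have := neg_mem htri
          rwa [neg_neg] at this
        obtain ⟨t, ht0, ht⟩ := exists_smul_mem_of_gr_mem_Hi P hs hmem
        exact ⟨t * s, mul_ne_zero ht0 hs0, by rw [mul_smul]; exact ht⟩
    obtain ⟨s, hs0, hs⟩ := claim (d + 1)
    rw [hd, AddSubgroup.mem_bot] at hs
    have hsq : (s : ℚ) ≠ 0 := Int.cast_ne_zero.2 hs0
    have e : ((1 : ℚ) / (N : ℚ)) = s • ((1 : ℚ) / ((N : ℚ) * (s : ℚ))) := by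
      rw [zsmul_eq_mul]; field_simp
    rw [e, TensorProduct.smul_tmul, hs, TensorProduct.tmul_zero]
  · have hle : ∀ j n : ℕ, d + 1 ≤ n + j → Hi P n ≤ LinearMap.range Φ := by
      intro j
      induction j with
      | zero =>
        intro n hn
        apply Submodule.span_le.2
        rintro g ⟨m, x, hm, hx, rfl⟩
        have hx0 : x = 0 := by
          have h := fil_anti P (by omega : d + 1 ≤ m) hx
          rwa [hd, AddSubgroup.mem_bot] at h
        rw [hx0, gr_zero]; exact zero_mem _
      | succ j ih =>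
        intro n hn
        apply Submodule.span_le.2
        rintro g ⟨m, x, hm, hx, rfl⟩
        by_cases hmn : m = n
        · subst hmn
          have h1 : KGr.chK P d x ∈ LinearMap.range Φ :=
            ⟨(1 : ℚ) ⊗ₜ[ℤ] x, by rw [hΦ, one_smul]⟩
          have h2 := ih (m + 1) (by omega) (chK_tri P hK d hd hx)
          have e : gr P m x = KGr.chK P d x - (KGr.chK P d x - gr P m x) := by abel
          rw [e]; exact sub_mem h1 h2
        · exact ih (n + 1) (by omega) (gr_mem_Hi P (by omega) hx)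
    have htop : LinearMap.range Φ = ⊤ := by
      rw [eq_top_iff, ← Hi_zero P]; exact hle (d + 1) 0 (by omega)
    exact LinearMap.range_eq_top.1 htop

end Groth.Agent.S3794
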