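import Groth.Statements.S3795
import Groth.Agent.H19.AdamsGamma

set_option autoImplicit false
universe v u
open CategoryTheory CategoryTheory.Limits AlgebraicGeometry
attribute [local instance] HasDerivedCategory.standard
open KRR

namespace Groth.Agent.S3795

/-- Let K be a λ-ring with positive structure having the splitting property, j ≥ 2, n ≥ 0 and x ∈ K. If
ψ^j(x) - j^n x lies in ℚF^{n+1} (some positive multiple lies in F^{n+1}, γ-filtration), then x lies
in ℚF^n (some positive multiple of x lies in F^n). -/
theorem result (K : Type v) [CommRing K] [LambdaRing.LambdaOps K] (P : LambdaRing.PosStructure K) (hK : LambdaRing.HasSplitting K P) (j : ℕ) (hj : 2 ≤ j) (n : ℕ) (x : K)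
    (hx : ∃ N : ℕ, 1 ≤ N ∧ (N : K) * (LambdaRing.adams P j x - (j : K) ^ n * x) ∈ LambdaRing.gammaFiltration P (n + 1)) :
    ∃ N : ℕ, 1 ≤ N ∧ (N : K) * x ∈ LambdaRing.gammaFiltration P n := by
  obtain ⟨N', hN', hx'⟩ := hx
  have key : ∀ m, m ≤ n → ∃ N : ℕ, 1 ≤ N ∧ (N : K) * x ∈ LambdaRing.gammaFiltration P m := by
    intro m
    induction m with
    | zero =>
      intro _
      exact ⟨1, le_rfl, by
        rw [Groth.Agent.H19.AdamsGamma.filtration_zero]; exact AddSubgroup.mem_top _⟩
    | succ m ih =>
      intro hm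
      obtain ⟨N, hN, hNx⟩ := ih (by omega)
      have h1 := Groth.Agent.H19.AdamsGamma.adams_sub_pow_mem P hK j m _ hNx
      have h2 : (N' : K) * (LambdaRing.adams P j x - (j : K) ^ n * x) ∈
          LambdaRing.gammaFiltration P (m + 1) :=
        Groth.Agent.H19.AdamsGamma.filtration_antitone P (by omega) hx'
      have hpow : j ^ m ≤ j ^ n := Nat.pow_le_pow_right (by omega) (by omega)
      have hlt : j ^ m < j ^ n := Nat.pow_lt_pow_right (by omega) (by omega)
      refine ⟨N * N' * (j ^ n - j ^ m), ?_, ?_⟩
      · have h3 : 1 ≤ j ^ n - j ^ m := by omega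
        exact Nat.one_le_iff_ne_zero.2
          (Nat.mul_ne_zero (Nat.mul_ne_zero (by omega) (by omega)) (by omega))
      · have hN'' : LambdaRing.adams P j ((N : K) * x) = (N : K) * LambdaRing.adams P j x := by
          rw [Groth.Agent.H19.Adams.adams_mul P hK,
            show LambdaRing.adams P j (N : K) = (N : K) from
              map_natCast (Groth.Agent.H19.Adams.adamsRingHom P hK j) N]
        rw [hN''] at h1
        have e : ((N * N' * (j ^ n - j ^ m) : ℕ) : K) * x =
            (N' : K) * ((N : K) * LambdaRing.adams P j x - (j : K) ^ m * ((N : K) * x)) -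
              (N : K) * ((N' : K) * (LambdaRing.adams P j x - (j : K) ^ n * x)) := by
          rw [Nat.cast_mul, Nat.cast_mul, Nat.cast_sub hpow, Nat.cast_pow, Nat.cast_pow]; ring
        rw [e]
        exact (LambdaRing.gammaFiltration P (m + 1)).sub_mem
          (Groth.Agent.H19.AdamsGamma.smul_mem P _ _ _ h1)
          (Groth.Agent.H19.AdamsGamma.smul_mem P _ _ _ h2)
  exact key n le_rfl

end Groth.Agent.S3795
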