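import Groth.Statements.S3797
import Groth.Agent.H6.DefoConnT1
import Groth.Agent.H31.StalkPullback
import Groth.Agent.H28.LpullLoc

set_option autoImplicit false
universe v u
open CategoryTheory CategoryTheory.Limits AlgebraicGeometry
attribute [local instance] HasDerivedCategory.standard
open KRR

namespace Groth.Agent.S3797

set_option backward.isDefEq.respectTransparency false
set_option linter.style.haveILetI false

open Groth.Agent.H31.Stalk Groth.Agent.H31 Groth.Agent.H40.StalkTensor Groth.Agent.H6.DefoConnT1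

instance pullback_additive' {X Y : Scheme.{u}} (f : X ⟶ Y) : (Scheme.Modules.pullback f).Additive :=
  (Scheme.Modules.pullbackPushforwardAdjunction f).left_adjoint_additive

/-- The pullback of a short exact sequence with finite locally free cokernel is short exact. -/
theorem pullback_shortExact {X Y : Scheme.{u}} (f : X ⟶ Y) (S : ShortComplex Y.Modules)
    (hS : S.ShortExact) (h3 : FlatMod.IsFinLocFree S.X₃) :
    (S.map (Scheme.Modules.pullback f)).ShortExact := by
  apply shortExact_of_stk
  intro x
  have h1 : (S.map (stk (shX Y) (f x))).ShortExact := hS.map_of_exact _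
  haveI : Projective (S.map (stk (shX Y) (f x))).X₃ := projective_stk_of_isFinLocFree h3 (f x)
  have s := h1.splittingOfProjective
  have h2 := (s.map (ModuleCat.extendScalars.{u, u, u} (φx f x))).shortExact
  refine ShortComplex.shortExact_of_iso ?_ h2
  exact (ShortComplex.mapNatIso S (stkPullbackIso f x)).symm

theorem cl_eq_add {X : Scheme.{u}} (S : ShortComplex X.Modules) (hS : S.ShortExact)
    (h₁ : FlatMod.IsFinLocFree S.X₁) (h₂ : FlatMod.IsFinLocFree S.X₂)
    (h₃ : FlatMod.IsFinLocFree S.X₃) :
    KRR.cl X S.X₂ - KRR.cl X S.X₁ - KRR.cl X S.X₃ = 0 := by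
  have e : ∀ (M : X.Modules) (h : FlatMod.IsFinLocFree M), KRR.cl X M =
      (QuotientAddGroup.mk (FreeAbelianGroup.of (⟨M, h⟩ : Subtype (KRR.vbP X))) :
        SGA6.Kvb X) := fun M h => dif_pos h
  rw [e _ h₁, e _ h₂, e _ h₃]
  rw [← QuotientAddGroup.mk_sub, ← QuotientAddGroup.mk_sub]
  exact (QuotientAddGroup.eq_zero_iff _).2
    (AddSubgroup.subset_closure ⟨S, h₁, h₂, h₃, hS, rfl⟩)

/-- For a morphism f : X ⟶ Y of connected Noetherian schemes and models (KX, PX, φX), (KY, PY, φY) of
K(X) and K(Y), there is a unique additive map g : K(Y) ⟶ K(X) with g[E] = [f^*E] for every finite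
locally free O_Y-module E (the pull-back f^K). (The published treatment adds that f^K is a
homomorphism of λ-rings; that is not asserted here.) -/
theorem result {X Y : Scheme.{u}} (f : X ⟶ Y) [IsNoetherian X] [ConnectedSpace ↥X] [IsNoetherian Y] [ConnectedSpace ↥Y]
    (KX : Type v) [CommRing KX] [LambdaRing.LambdaOps KX] (PX : LambdaRing.PosStructure KX) (φX : SGA6.Kvb X →+ KX) (hKX : KRR.IsModel X KX PX φX)
    (KY : Type v) [CommRing KY] [LambdaRing.LambdaOps KY] (PY : LambdaRing.PosStructure KY) (φY : SGA6.Kvb Y →+ KY) (hKY : KRR.IsModel Y KY PY φY) :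
    ∃! g : KY →+ KX, KRR.IsPull f φY φX g := by
  classical
  let F0 : FreeAbelianGroup (Subtype (KRR.vbP Y)) →+ SGA6.Kvb X :=
    FreeAbelianGroup.lift (fun E => KRR.cl X ((Scheme.Modules.pullback f).obj E.1))
  have hrel : KZero.relSub (KRR.vbP Y) ≤ F0.ker := by
    apply (AddSubgroup.closure_le _).2
    rintro _ ⟨S, h₁, h₂, h₃, hS, rfl⟩
    show F0 _ = 0
    rw [map_sub, map_sub]
    simp only [F0, FreeAbelianGroup.lift_apply_of]
    exact cl_eq_add (S.map (Scheme.Modules.pullback f)) (pullback_shortExact f S hS h₃)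
      (Groth.Agent.H28.LpullLoc.isFinLocFree_pullback f h₁)
      (Groth.Agent.H28.LpullLoc.isFinLocFree_pullback f h₂)
      (Groth.Agent.H28.LpullLoc.isFinLocFree_pullback f h₃)
  let fK : SGA6.Kvb Y →+ SGA6.Kvb X := QuotientAddGroup.lift _ F0 hrel
  have eY : ∀ (M : Y.Modules) (h : FlatMod.IsFinLocFree M), KRR.cl Y M =
      (QuotientAddGroup.mk (FreeAbelianGroup.of (⟨M, h⟩ : Subtype (KRR.vbP Y))) :
        SGA6.Kvb Y) := fun M h => dif_pos h
  have hfK : ∀ (E : Y.Modules), FlatMod.IsFinLocFree E →
      fK (KRR.cl Y E) = KRR.cl X ((Scheme.Modules.pullback f).obj E) := by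
    intro E hE
    rw [eY E hE]
    show F0 _ = _
    simp only [F0, FreeAbelianGroup.lift_apply_of]
  let e := AddEquiv.ofBijective φY hKY.bijective
  refine ⟨(φX.comp fK).comp e.symm.toAddMonoidHom, ?_, ?_⟩
  · intro E hE
    show φX (fK (e.symm (φY (KRR.cl Y E)))) = _
    have : e.symm (φY (KRR.cl Y E)) = KRR.cl Y E := e.symm_apply_apply _
    rw [this, hfK E hE]
  · intro g hg
    have key : ∀ z : SGA6.Kvb Y, g (φY z) = φX (fK z) := by
      intro z
      induction z using QuotientAddGroup.induction_on with
      | H w =>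
        induction w using FreeAbelianGroup.induction_on with
        | zero => simp
        | of E =>
          have h1 := hg E.1 E.2
          rw [eY E.1 E.2] at h1
          rw [h1]
          have h2 := hfK E.1 E.2
          rw [eY E.1 E.2] at h2
          rw [h2]
        | neg E ih =>
          rw [QuotientAddGroup.mk_neg, map_neg, map_neg, map_neg, map_neg, ih]
        | add a b iha ihb =>
          rw [QuotientAddGroup.mk_add, map_add, map_add, map_add, map_add, iha, ihb]
    ext y
    obtain ⟨z, rfl⟩ := hKY.bijective.2 y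
    show g (φY z) = φX (fK (e.symm (φY z)))
    have : e.symm (φY z) = z := e.symm_apply_apply _
    rw [this, key z]

end Groth.Agent.S3797
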