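import Groth.Statements.S3802
import Groth.Agent.H41.Sigma
import Groth.Agent.S3780

set_option autoImplicit false
universe v u
open CategoryTheory CategoryTheory.Limits AlgebraicGeometry
attribute [local instance] HasDerivedCategory.standard
open KRR

namespace Groth.Agent.S3802

section poly
open Polynomial

variable {K : Type v} [CommRing K]

/-- `p = Σ_{i<m+1} C (a i) X^(m-i)` -/
private noncomputable def pp (a : ℕ → K) (m : ℕ) : K[X] :=
  ∑ i ∈ Finset.range (m + 1), C (a i) * X ^ (m - i)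

/-- `g = (p - p(1)) / (X - 1)` written out -/
private noncomputable def gg (a : ℕ → K) (m : ℕ) : K[X] :=
  ∑ i ∈ Finset.range (m + 1), C (a i) * ∑ k ∈ Finset.range (m - i), X ^ k

private lemma gg_mul (a : ℕ → K) (m : ℕ) :
    gg a m * (X - 1) = pp a m - C ((pp a m).eval 1) := by
  have he : (pp a m).eval 1 = ∑ i ∈ Finset.range (m + 1), a i := by
    simp [pp, eval_finsetSum]
  rw [he, gg, pp, Finset.sum_mul, map_sum, ← Finset.sum_sub_distrib]
  refine Finset.sum_congr rfl fun i _ => ?_
  rw [mul_assoc, geom_sum_mul]; ring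

private lemma pp_monic [Nontrivial K] (a : ℕ → K) (m : ℕ) (ha : a 0 = 1) :
    (pp a m).Monic ∧ (pp a m).natDegree = m := by
  have hlow : degree (∑ i ∈ Finset.range m, C (a (i + 1)) * X ^ (m - (i + 1))) <
      (m : WithBot ℕ) := by
    refine (degree_sum_le _ _).trans_lt ?_
    refine (Finset.sup_lt_iff (WithBot.bot_lt_coe m)).2 fun i hi => ?_
    refine (degree_C_mul_X_pow_le _ _).trans_lt ?_
    have := Finset.mem_range.1 hi
    have h3 : m - (i + 1) < m := by omega
    simp only [Nat.cast_withBot, WithBot.coe_lt_coe]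
    exact h3
  have hp : pp a m = X ^ m + ∑ i ∈ Finset.range m, C (a (i + 1)) * X ^ (m - (i + 1)) := by
    rw [pp, Finset.sum_range_succ', ha, map_one, one_mul, Nat.sub_zero, add_comm]
  rw [hp]
  refine ⟨monic_X_pow_add hlow, ?_⟩
  rw [natDegree_add_eq_left_of_degree_lt (by rw [degree_X_pow]; exact hlow), natDegree_X_pow]

private lemma ann_lemma [Nontrivial K] (a : ℕ → K) (r : ℕ) (ha : a 0 = 1) (p : K[X])
    (hp : p = pp a (r + 1))
    (z : AdjoinRoot p) (hz : z * (AdjoinRoot.root p - 1) = 0) :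
    ∃ b : K, z = AdjoinRoot.of p b * AdjoinRoot.mk p (gg a (r + 1)) := by
  subst hp
  obtain ⟨hmon, hdeg⟩ := pp_monic a (r + 1) ha
  obtain ⟨q, rfl⟩ := AdjoinRoot.mk_surjective z
  have hne1 : pp a (r + 1) ≠ 1 := by
    intro h
    rw [h, natDegree_one] at hdeg
    omega
  have hzt : AdjoinRoot.mk (pp a (r + 1)) (q %ₘ pp a (r + 1)) = AdjoinRoot.mk (pp a (r + 1)) q := by
    rw [AdjoinRoot.mk_eq_mk]
    exact ⟨-(q /ₘ pp a (r + 1)), by
      have := modByMonic_add_div q (pp a (r + 1))
      linear_combination this⟩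
  have hlt : (q %ₘ pp a (r + 1)).natDegree < r + 1 := by
    have := natDegree_modByMonic_lt q hmon hne1
    rwa [hdeg] at this
  have hdvd : pp a (r + 1) ∣ (q %ₘ pp a (r + 1)) * (X - 1) := by
    rw [← AdjoinRoot.mk_eq_zero, map_mul, hzt, map_sub, AdjoinRoot.mk_X, map_one]
    exact hz
  obtain ⟨h, hh⟩ := hdvd
  have hnd : h.natDegree = 0 := by
    by_contra hne
    have h0 : h ≠ 0 := by
      rintro rfl
      simp at hne
    have h1 := hmon.natDegree_mul' h0
    rw [← hh, hdeg] at h1
    have h2 : ((q %ₘ pp a (r + 1)) * (X - 1)).natDegree ≤ (q %ₘ pp a (r + 1)).natDegree + 1 := by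
      refine natDegree_mul_le.trans (Nat.add_le_add_left ?_ _)
      refine (natDegree_sub_le _ _).trans ?_
      rw [natDegree_one]
      exact max_le natDegree_X_le (Nat.zero_le _)
    omega
  rw [eq_C_of_natDegree_eq_zero hnd] at hh
  have hev : (pp a (r + 1)).eval 1 * h.coeff 0 = 0 := by
    have := congrArg (eval 1) hh
    simp only [eval_mul, eval_sub, eval_X, eval_one, sub_self, mul_zero, eval_C] at this
    exact this.symm
  have hfin : (q %ₘ pp a (r + 1)) = C (h.coeff 0) * gg a (r + 1) := by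
    have hreg := (monic_X_sub_C (1 : K)).isRegular.right
    apply hreg
    show (q %ₘ pp a (r + 1)) * (X - C 1) = C (h.coeff 0) * gg a (r + 1) * (X - C 1)
    rw [C_1, mul_assoc, gg_mul, hh, mul_sub, ← C_mul, mul_comm (h.coeff 0), hev, C_0, sub_zero,
      mul_comm]
  refine ⟨h.coeff 0, ?_⟩
  rw [← hzt, hfin, map_mul, AdjoinRoot.mk_C]

end poly

section ringlemmas

private lemma D_eq {A : Type*} [CommRing A] (ℓ : A) (α ν : ℕ → A) (h0 : α 0 = ν 0)
    (hs : ∀ i, α (i + 1) = ν (i + 1) - ℓ * ν i) (n : ℕ) :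
    ∑ i ∈ Finset.range (n + 1), α i * ℓ ^ (n - i) = ν n := by
  induction n with
  | zero => simp [h0]
  | succ n ih =>
    rw [Finset.sum_range_succ, Nat.sub_self, pow_zero, mul_one, hs]
    have : ∑ i ∈ Finset.range (n + 1), α i * ℓ ^ (n + 1 - i) =
        ℓ * ∑ i ∈ Finset.range (n + 1), α i * ℓ ^ (n - i) := by
      rw [Finset.mul_sum]
      refine Finset.sum_congr rfl fun i hi => ?_
      have := Finset.mem_range.1 hi
      rw [show n + 1 - i = (n - i) + 1 by omega, pow_succ]
      ring
    rw [this, ih]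
    ring

private lemma T_eq {A : Type*} [CommRing A] (ℓ : A) (α ν : ℕ → A) (h0 : α 0 = ν 0)
    (hs : ∀ i, α (i + 1) = ν (i + 1) - ℓ * ν i) (n : ℕ) :
    ∑ i ∈ Finset.range (n + 1), α i * ∑ k ∈ Finset.range (n - i), ℓ ^ k =
      ∑ i ∈ Finset.range n, ν i := by
  induction n with
  | zero => simp
  | succ n ih =>
    rw [Finset.sum_range_succ, Nat.sub_self, Finset.range_zero, Finset.sum_empty, mul_zero,
      add_zero]
    have : ∑ i ∈ Finset.range (n + 1), α i * ∑ k ∈ Finset.range (n + 1 - i), ℓ ^ k =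
        ∑ i ∈ Finset.range (n + 1), α i * ∑ k ∈ Finset.range (n - i), ℓ ^ k +
          ∑ i ∈ Finset.range (n + 1), α i * ℓ ^ (n - i) := by
      rw [← Finset.sum_add_distrib]
      refine Finset.sum_congr rfl fun i hi => ?_
      have := Finset.mem_range.1 hi
      rw [show n + 1 - i = (n - i) + 1 by omega, Finset.sum_range_succ, mul_add]
    rw [this, ih, D_eq ℓ α ν h0 hs n, Finset.sum_range_succ]

private lemma lam_rec {A : Type*} [CommRing A] [LambdaRing.LambdaOps A] (ℓ q e' : A)
    (hqe : q + ℓ = e')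
    (hroot : ∀ i, 2 ≤ i → LambdaRing.LambdaOps.lam i ℓ = 0) (i : ℕ) :
    LambdaRing.LambdaOps.lam (i + 1) e' =
      LambdaRing.LambdaOps.lam (i + 1) q + ℓ * LambdaRing.LambdaOps.lam i q := by
  subst hqe
  rw [LambdaRing.LambdaOps.lam_add (i + 1) q ℓ, Finset.sum_range_succ, Finset.sum_range_succ]
  have hz : ∑ x ∈ Finset.range i, LambdaRing.LambdaOps.lam x q *
      LambdaRing.LambdaOps.lam (i + 1 - x) ℓ = 0 := by
    apply Finset.sum_eq_zero
    intro x hx
    have hx' := Finset.mem_range.1 hx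
    rw [hroot (i + 1 - x) (by omega), mul_zero]
  rw [hz, zero_add, Nat.sub_self, LambdaRing.LambdaOps.lam_zero, mul_one,
    Nat.add_sub_cancel_left, LambdaRing.LambdaOps.lam_one]
  ring

end ringlemmas

/-- Let K be a λ-ring with positive structure having the splitting property, c positive with ε(c) = r +
1, and K_c = K[T]/(p_c) with generator ℓ, equipped with a λ-structure extending that of K with
λ^i(ℓ) = 0 for i ≥ 2 and a positive structure making K ⟶ K_c an extension with ℓ a line element and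
c - ℓ positive (when r ≥ 1), having the splitting property; let f : K_c ⟶ K be the associated
K-linear functional (f(ℓ^i) = σ^i(c) for i ≤ r). If z ∈ K_c satisfies z (1 - ℓ) = 0, then z = f(z) ·
λ_{-1}(c - ℓ), where λ_{-1}(c - ℓ) = Σ_{i ≤ r} (-1)^i λ^i(c - ℓ). -/
theorem result (K : Type v) [CommRing K] [LambdaRing.LambdaOps K] (P : LambdaRing.PosStructure K) (hK : LambdaRing.HasSplitting K P) (c : K) (hc : c ∈ P.pos) (r : ℕ) (hr : P.aug c = r + 1)
    (inst : LambdaRing.LambdaOps (AdjoinRoot (KRR.extPoly P c))) (Pc : @LambdaRing.PosStructure _ _ inst)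
    (hext : @LambdaRing.IsExtension K _ _ _ _ inst P Pc (AdjoinRoot.of (KRR.extPoly P c)))
    (hroot : ∀ i : ℕ, 2 ≤ i → @LambdaRing.LambdaOps.lam _ _ inst i (AdjoinRoot.root (KRR.extPoly P c)) = 0)
    (hline : @LambdaRing.PosStructure.IsLine _ _ inst Pc (AdjoinRoot.root (KRR.extPoly P c)))
    (hpos : 1 ≤ r → AdjoinRoot.of (KRR.extPoly P c) c - AdjoinRoot.root (KRR.extPoly P c) ∈ (@LambdaRing.PosStructure.pos _ _ inst Pc))
    (hsplit : @LambdaRing.HasSplitting _ _ inst Pc)
    (f : AdjoinRoot (KRR.extPoly P c) →ₗ[K] K)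
    (hf : ∀ i : ℕ, i ≤ r → f (AdjoinRoot.root (KRR.extPoly P c) ^ i) = KRR.sigma i c)
    (z : AdjoinRoot (KRR.extPoly P c)) (hz : z * (1 - AdjoinRoot.root (KRR.extPoly P c)) = 0) :
    z = AdjoinRoot.of (KRR.extPoly P c) (f z) *
      @KRR.lamAlt _ _ inst Pc (AdjoinRoot.of (KRR.extPoly P c) c - AdjoinRoot.root (KRR.extPoly P c)) := by
  classical
  rcases subsingleton_or_nontrivial K with hsub | hnt
  · have h10 : (1 : AdjoinRoot (KRR.extPoly P c)) = 0 := by
      rw [← map_one (AdjoinRoot.of (KRR.extPoly P c)), Subsingleton.elim (1 : K) 0, map_zero]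
    have h0 : ∀ x : AdjoinRoot (KRR.extPoly P c), x = 0 := fun x => by
      rw [← mul_one x, h10, mul_zero]
    exact (h0 z).trans (h0 _).symm
  · have hm : (P.aug c).toNat = r + 1 := by rw [hr]; omega
    have ha0 : (fun i : ℕ => (-1 : K) ^ i * LambdaRing.LambdaOps.lam i c) 0 = 1 := by
      simp [LambdaRing.LambdaOps.lam_zero]
    have hp : KRR.extPoly P c =
        pp (fun i : ℕ => (-1 : K) ^ i * LambdaRing.LambdaOps.lam i c) (r + 1) := by
      simp only [KRR.extPoly, pp, hm]
    have hz' : z * (AdjoinRoot.root (KRR.extPoly P c) - 1) = 0 := by linear_combination -hz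
    obtain ⟨b, hb⟩ := ann_lemma _ r ha0 _ hp z hz'
    -- the λ-side
    have hlam : ∀ (i : ℕ) (x : K),
        @LambdaRing.LambdaOps.lam _ _ inst i (AdjoinRoot.of (KRR.extPoly P c) x) =
          AdjoinRoot.of (KRR.extPoly P c) (LambdaRing.LambdaOps.lam i x) :=
      fun i x => (hext.isLambdaHom i x).symm
    have hrec := @lam_rec _ _ inst (AdjoinRoot.root (KRR.extPoly P c))
      (AdjoinRoot.of (KRR.extPoly P c) c - AdjoinRoot.root (KRR.extPoly P c))
      (AdjoinRoot.of (KRR.extPoly P c) c) (by ring) hroot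
    have h0 : (fun i : ℕ => AdjoinRoot.of (KRR.extPoly P c)
          ((-1 : K) ^ i * LambdaRing.LambdaOps.lam i c)) 0 =
        (fun i : ℕ => (-1 : AdjoinRoot (KRR.extPoly P c)) ^ i *
          @LambdaRing.LambdaOps.lam _ _ inst i
            (AdjoinRoot.of (KRR.extPoly P c) c - AdjoinRoot.root (KRR.extPoly P c))) 0 := by
      simp only [pow_zero, one_mul, LambdaRing.LambdaOps.lam_zero, map_one]
    have hs : ∀ i : ℕ, (fun i : ℕ => AdjoinRoot.of (KRR.extPoly P c)
          ((-1 : K) ^ i * LambdaRing.LambdaOps.lam i c)) (i + 1) =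
        (fun i : ℕ => (-1 : AdjoinRoot (KRR.extPoly P c)) ^ i *
          @LambdaRing.LambdaOps.lam _ _ inst i
            (AdjoinRoot.of (KRR.extPoly P c) c - AdjoinRoot.root (KRR.extPoly P c))) (i + 1) -
        AdjoinRoot.root (KRR.extPoly P c) *
          (fun i : ℕ => (-1 : AdjoinRoot (KRR.extPoly P c)) ^ i *
          @LambdaRing.LambdaOps.lam _ _ inst i
            (AdjoinRoot.of (KRR.extPoly P c) c - AdjoinRoot.root (KRR.extPoly P c))) i := by
      intro i
      have h1 := hrec i
      rw [hlam] at h1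
      simp only [map_mul, map_pow, map_neg, map_one]
      rw [h1]
      ring
    have hmkg : AdjoinRoot.mk (KRR.extPoly P c)
        (gg (fun i : ℕ => (-1 : K) ^ i * LambdaRing.LambdaOps.lam i c) (r + 1)) =
        ∑ i ∈ Finset.range (r + 1), (-1 : AdjoinRoot (KRR.extPoly P c)) ^ i *
          @LambdaRing.LambdaOps.lam _ _ inst i
            (AdjoinRoot.of (KRR.extPoly P c) c - AdjoinRoot.root (KRR.extPoly P c)) := by
      have := T_eq (AdjoinRoot.root (KRR.extPoly P c))
        (fun i : ℕ => AdjoinRoot.of (KRR.extPoly P c)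
          ((-1 : K) ^ i * LambdaRing.LambdaOps.lam i c))
        (fun i : ℕ => (-1 : AdjoinRoot (KRR.extPoly P c)) ^ i *
          @LambdaRing.LambdaOps.lam _ _ inst i
            (AdjoinRoot.of (KRR.extPoly P c) c - AdjoinRoot.root (KRR.extPoly P c))) h0 hs (r + 1)
      rw [← this]
      simp only [gg, map_sum, map_mul, map_pow, AdjoinRoot.mk_C, AdjoinRoot.mk_X]
    have haug : (Pc.aug (AdjoinRoot.of (KRR.extPoly P c) c -
        AdjoinRoot.root (KRR.extPoly P c))).toNat = r := by
      rw [map_sub, hext.aug_comp, hr, hline.2]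
      omega
    have hL : @KRR.lamAlt _ _ inst Pc (AdjoinRoot.of (KRR.extPoly P c) c -
        AdjoinRoot.root (KRR.extPoly P c)) =
        ∑ i ∈ Finset.range (r + 1), (-1 : AdjoinRoot (KRR.extPoly P c)) ^ i *
          @LambdaRing.LambdaOps.lam _ _ inst i
            (AdjoinRoot.of (KRR.extPoly P c) c - AdjoinRoot.root (KRR.extPoly P c)) := by
      unfold KRR.lamAlt
      rw [haug]
    have hfL : f (∑ i ∈ Finset.range (r + 1), (-1 : AdjoinRoot (KRR.extPoly P c)) ^ i *
          @LambdaRing.LambdaOps.lam _ _ inst i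
            (AdjoinRoot.of (KRR.extPoly P c) c - AdjoinRoot.root (KRR.extPoly P c))) = 1 := by
      have hterm : ∀ i ∈ Finset.range (r + 1),
          f ((-1 : AdjoinRoot (KRR.extPoly P c)) ^ i *
            @LambdaRing.LambdaOps.lam _ _ inst i
              (AdjoinRoot.of (KRR.extPoly P c) c - AdjoinRoot.root (KRR.extPoly P c))) =
          if i = 0 then 1 else 0 := by
        intro i _
        have hsm : (-1 : AdjoinRoot (KRR.extPoly P c)) ^ i *
            @LambdaRing.LambdaOps.lam _ _ inst i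
              (AdjoinRoot.of (KRR.extPoly P c) c - AdjoinRoot.root (KRR.extPoly P c)) =
            ((-1 : K) ^ i) • @LambdaRing.LambdaOps.lam _ _ inst i
              (AdjoinRoot.of (KRR.extPoly P c) c - AdjoinRoot.root (KRR.extPoly P c)) := by
          rw [Algebra.smul_def, AdjoinRoot.algebraMap_eq, map_pow, map_neg, map_one]
        rw [hsm, map_smul, Groth.Agent.S3780.result K P hK c hc r hr inst hlam hroot f hf i,
          smul_eq_mul]
        split_ifs with h
        · subst h
          simp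
        · simp
      rw [map_sum, Finset.sum_congr rfl hterm, Finset.sum_ite_eq']
      simp
    have hfz : f z = b := by
      rw [hb, ← AdjoinRoot.algebraMap_eq, ← Algebra.smul_def, map_smul, hmkg, hfL, smul_eq_mul,
        mul_one]
    rw [hfz, hL, ← hmkg]
    exact hb

end Groth.Agent.S3802
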