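import Groth.Statements.S3807
-- no extra imports

set_option autoImplicit false
universe u
open scoped TensorProduct
attribute [local instance] PP16.mapAlgebra PP16.isScalarTower_mapAlgebra
open PP16

namespace Groth.Agent.S3807

section

variable (n : ℕ) (A B B' : Type u) [CommRing A] [CommRing B] [Algebra A B]
    [CommRing B'] [Algebra B B'] [Algebra A B'] [IsScalarTower A B B'] (S : Submonoid B)

/-- The submonoid `S ⊗ 1` of `P^n_{B/A}`. -/
noncomputable abbrev Msub : Submonoid (PP16.P n A B) := S.map (algebraMap B (PP16.P n A B))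

/-- The localization of `P^n_{B/A}` at `S ⊗ 1`. -/
def L : Type u := Localization (Msub n A B S)

noncomputable instance : CommRing (L n A B S) :=
  inferInstanceAs (CommRing (Localization (Msub n A B S)))

noncomputable instance : Algebra (PP16.P n A B) (L n A B S) :=
  inferInstanceAs (Algebra (PP16.P n A B) (Localization (Msub n A B S)))

instance : IsLocalization (Msub n A B S) (L n A B S) :=
  inferInstanceAs (IsLocalization (Msub n A B S) (Localization (Msub n A B S)))

noncomputable instance algAL : Algebra A (L n A B S) :=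
  ((algebraMap (PP16.P n A B) (L n A B S)).comp (algebraMap A (PP16.P n A B))).toAlgebra


theorem algebraMap_eq_mk (b : B) :
    algebraMap B (PP16.P n A B) b = Ideal.Quotient.mk _ (b ⊗ₜ[A] (1 : B)) := rfl

theorem dn_eq_mk (b : B) :
    PP16.dn n A B b = Ideal.Quotient.mk _ ((1 : B) ⊗ₜ[A] b) := rfl

theorem isNilpotent_diag (s : B) :
    IsNilpotent (Ideal.Quotient.mk (KaehlerDifferential.ideal A B ^ (n + 1))
      ((1 : B) ⊗ₜ[A] s - s ⊗ₜ[A] (1 : B))) := by
  refine ⟨n + 1, ?_⟩
  rw [← map_pow, Ideal.Quotient.eq_zero_iff_mem]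
  exact Ideal.pow_mem_pow (KaehlerDifferential.one_smul_sub_smul_one_mem_ideal A s) _

/-- `b ↦ [b ⊗ 1]` into the localization. -/
noncomputable def lam0 : B →+* L n A B S :=
  (algebraMap (PP16.P n A B) (L n A B S)).comp (algebraMap B (PP16.P n A B))

/-- `b ↦ [1 ⊗ b]` into the localization. -/
noncomputable def rho0 : B →+* L n A B S :=
  (algebraMap (PP16.P n A B) (L n A B S)).comp (PP16.dn n A B).toRingHom

theorem lam0_unit (s : S) : IsUnit (lam0 n A B S s) :=
  IsLocalization.map_units (L n A B S)
    (⟨algebraMap B (PP16.P n A B) s, ⟨s, s.2, rfl⟩⟩ : Msub n A B S)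

theorem rho0_unit (s : S) : IsUnit (rho0 n A B S s) := by
  have h1 : rho0 n A B S s = lam0 n A B S s +
      algebraMap (PP16.P n A B) (L n A B S) (Ideal.Quotient.mk _
        ((1 : B) ⊗ₜ[A] (s : B) - (s : B) ⊗ₜ[A] (1 : B))) := by
    show algebraMap (PP16.P n A B) (L n A B S) (PP16.dn n A B s) =
      algebraMap (PP16.P n A B) (L n A B S) (algebraMap B (PP16.P n A B) s) + _
    rw [← map_add, dn_eq_mk, algebraMap_eq_mk, ← map_add]
    congr 2
    abel
  rw [h1]
  exact ((isNilpotent_diag n A B s).map _).isUnit_add_left_of_commute (lam0_unit n A B S s)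
    (Commute.all _ _)

variable [IsLocalization S B']

/-- The extension of `lam0` to `B'`. -/
noncomputable def lam : B' →+* L n A B S :=
  IsLocalization.lift (M := S) (g := lam0 n A B S) (lam0_unit n A B S)

/-- The extension of `rho0` to `B'`. -/
noncomputable def rho : B' →+* L n A B S :=
  IsLocalization.lift (M := S) (g := rho0 n A B S) (rho0_unit n A B S)

theorem lam_algebraMap (b : B) : lam n A B B' S (algebraMap B B' b) = lam0 n A B S b :=
  IsLocalization.lift_eq _ b

theorem rho_algebraMap (b : B) : rho n A B B' S (algebraMap B B' b) = rho0 n A B S b :=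
  IsLocalization.lift_eq _ b

/-- `lam` as an `A`-algebra map. -/
noncomputable def lamA : B' →ₐ[A] L n A B S :=
  { lam n A B B' S with
    commutes' := fun a => by
      show lam n A B B' S (algebraMap A B' a) = algebraMap A (L n A B S) a
      rw [IsScalarTower.algebraMap_apply A B B', lam_algebraMap]
      show algebraMap (PP16.P n A B) (L n A B S)
          (algebraMap B (PP16.P n A B) (algebraMap A B a)) =
        algebraMap (PP16.P n A B) (L n A B S) (algebraMap A (PP16.P n A B) a)
      rw [← IsScalarTower.algebraMap_apply A B (PP16.P n A B)] }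

/-- `rho` as an `A`-algebra map. -/
noncomputable def rhoA : B' →ₐ[A] L n A B S :=
  { rho n A B B' S with
    commutes' := fun a => by
      show rho n A B B' S (algebraMap A B' a) = algebraMap A (L n A B S) a
      rw [IsScalarTower.algebraMap_apply A B B', rho_algebraMap]
      show algebraMap (PP16.P n A B) (L n A B S) (PP16.dn n A B (algebraMap A B a)) =
        algebraMap (PP16.P n A B) (L n A B S) (algebraMap A (PP16.P n A B) a)
      rw [(PP16.dn n A B).commutes a] }

/-- The map `B' ⊗ B' → L`. -/
noncomputable def Psi0 : B' ⊗[A] B' →ₐ[A] L n A B S :=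
  Algebra.TensorProduct.lift (lamA n A B B' S) (rhoA n A B B' S) (fun _ _ => Commute.all _ _)

theorem Psi0_tmul (b c : B') :
    Psi0 n A B B' S (b ⊗ₜ[A] c) = lam n A B B' S b * rho n A B B' S c := by
  rw [Psi0, Algebra.TensorProduct.lift_tmul]
  rfl

/-- The image of the augmentation ideal in `L`. -/
noncomputable def aug : Ideal (L n A B S) :=
  Ideal.map (algebraMap (PP16.P n A B) (L n A B S))
    (Ideal.map (Ideal.Quotient.mk (KaehlerDifferential.ideal A B ^ (n + 1)))
      (KaehlerDifferential.ideal A B))

theorem aug_pow : aug n A B S ^ (n + 1) = ⊥ := by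
  rw [aug, ← Ideal.map_pow, ← Ideal.map_pow, Ideal.map_quotient_self, Ideal.map_bot]

theorem rho_sub_lam_mem (b' : B') :
    rho n A B B' S b' - lam n A B B' S b' ∈ aug n A B S := by
  have h : (Ideal.Quotient.mk (aug n A B S)).comp (rho n A B B' S) =
      (Ideal.Quotient.mk (aug n A B S)).comp (lam n A B B' S) := by
    apply IsLocalization.ringHom_ext S
    ext b
    simp only [RingHom.comp_apply]
    rw [rho_algebraMap, lam_algebraMap, Ideal.Quotient.eq]
    have h1 : rho0 n A B S b - lam0 n A B S b =
        algebraMap (PP16.P n A B) (L n A B S) (Ideal.Quotient.mk _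
          ((1 : B) ⊗ₜ[A] b - b ⊗ₜ[A] (1 : B))) := by
      show algebraMap (PP16.P n A B) (L n A B S) (PP16.dn n A B b) -
        algebraMap (PP16.P n A B) (L n A B S) (algebraMap B (PP16.P n A B) b) = _
      rw [← map_sub, dn_eq_mk, algebraMap_eq_mk, ← map_sub]
    rw [h1]
    exact Ideal.mem_map_of_mem _ (Ideal.mem_map_of_mem _
      (KaehlerDifferential.one_smul_sub_smul_one_mem_ideal A b))
  have h2 := RingHom.congr_fun h b'
  simp only [RingHom.comp_apply] at h2
  exact Ideal.Quotient.eq.1 h2

theorem Psi0_map_le :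
    Ideal.map (Psi0 n A B B' S) (KaehlerDifferential.ideal A B') ≤ aug n A B S := by
  rw [← KaehlerDifferential.span_range_eq_ideal A B', Ideal.map_span, Ideal.span_le]
  rintro _ ⟨_, ⟨b', rfl⟩, rfl⟩
  rw [SetLike.mem_coe, map_sub, Psi0_tmul, Psi0_tmul, map_one, map_one, one_mul, mul_one]
  exact rho_sub_lam_mem n A B B' S b'

theorem Psi0_kills (x : B' ⊗[A] B') (hx : x ∈ KaehlerDifferential.ideal A B' ^ (n + 1)) :
    Psi0 n A B B' S x = 0 := by
  have h1 : Psi0 n A B B' S x ∈
      Ideal.map (Psi0 n A B B' S) (KaehlerDifferential.ideal A B' ^ (n + 1)) :=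
    Ideal.mem_map_of_mem _ hx
  rw [Ideal.map_pow] at h1
  have h2 := Ideal.pow_right_mono (Psi0_map_le n A B B' S) (n + 1) h1
  rw [aug_pow] at h2
  exact (Ideal.mem_bot).1 h2

/-- The map `P^n_{B'/A} → L`. -/
noncomputable def Psi : PP16.P n A B' →+* L n A B S :=
  Ideal.Quotient.lift _ (Psi0 n A B B' S).toRingHom (Psi0_kills n A B B' S)

theorem Psi_mk (x : B' ⊗[A] B') :
    Psi n A B B' S (Ideal.Quotient.mk _ x) = Psi0 n A B B' S x := rfl

theorem kappa_units (y : Msub n A B S) :
    IsUnit (algebraMap (PP16.P n A B) (PP16.P n A B') y) := by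
  obtain ⟨_, s, hs, rfl⟩ := y
  show IsUnit (PP16.map n A B A B' (algebraMap B (PP16.P n A B) s))
  rw [PP16.map_algebraMap]
  exact (IsLocalization.map_units B' (⟨s, hs⟩ : S)).map (algebraMap B' (PP16.P n A B'))

/-- The map `L → P^n_{B'/A}`. -/
noncomputable def kappa : L n A B S →+* PP16.P n A B' :=
  IsLocalization.lift (M := Msub n A B S) (g := algebraMap (PP16.P n A B) (PP16.P n A B'))
    (kappa_units n A B B' S)

theorem kappa_algebraMap (x : PP16.P n A B) :
    kappa n A B B' S (algebraMap (PP16.P n A B) (L n A B S) x) =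
      algebraMap (PP16.P n A B) (PP16.P n A B') x :=
  IsLocalization.lift_eq _ x

theorem Psi_algebraMap (x : PP16.P n A B) :
    Psi n A B B' S (algebraMap (PP16.P n A B) (PP16.P n A B') x) =
      algebraMap (PP16.P n A B) (L n A B S) x := by
  obtain ⟨t, rfl⟩ := Ideal.Quotient.mk_surjective x
  induction t using TensorProduct.induction_on with
  | zero => simp
  | tmul b c =>
    show Psi n A B B' S (PP16.map n A B A B' (Ideal.Quotient.mk _ (b ⊗ₜ[A] c))) = _
    rw [PP16.map_mk, PP16.tensorMap_tmul, Psi_mk, Psi0_tmul, lam_algebraMap, rho_algebraMap]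
    show algebraMap (PP16.P n A B) (L n A B S) (algebraMap B (PP16.P n A B) b) *
      algebraMap (PP16.P n A B) (L n A B S) (PP16.dn n A B c) = _
    rw [← map_mul, algebraMap_eq_mk, dn_eq_mk, ← map_mul, Algebra.TensorProduct.tmul_mul_tmul,
      mul_one, one_mul]
  | add t t' ht ht' =>
    rw [map_add, map_add, map_add, map_add, ht, ht']

theorem kappa_lam : (kappa n A B B' S).comp (lam n A B B' S) = algebraMap B' (PP16.P n A B') := by
  apply IsLocalization.ringHom_ext S
  ext b
  simp only [RingHom.comp_apply]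
  rw [lam_algebraMap]
  show kappa n A B B' S (algebraMap (PP16.P n A B) (L n A B S) (algebraMap B (PP16.P n A B) b)) = _
  rw [kappa_algebraMap]
  exact PP16.map_algebraMap n A B A B' b

theorem kappa_rho :
    (kappa n A B B' S).comp (rho n A B B' S) = (PP16.dn n A B').toRingHom := by
  apply IsLocalization.ringHom_ext S
  ext b
  simp only [RingHom.comp_apply]
  rw [rho_algebraMap]
  show kappa n A B B' S (algebraMap (PP16.P n A B) (L n A B S) (PP16.dn n A B b)) = _
  rw [kappa_algebraMap]
  exact PP16.map_dn n A B A B' b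

theorem kappa_Psi (z : PP16.P n A B') : kappa n A B B' S (Psi n A B B' S z) = z := by
  obtain ⟨t, rfl⟩ := Ideal.Quotient.mk_surjective z
  induction t using TensorProduct.induction_on with
  | zero => simp
  | tmul b c =>
    rw [Psi_mk, Psi0_tmul, map_mul]
    have h1 : kappa n A B B' S (lam n A B B' S b) = algebraMap B' (PP16.P n A B') b :=
      RingHom.congr_fun (kappa_lam n A B B' S) b
    have h2 : kappa n A B B' S (rho n A B B' S c) = PP16.dn n A B' c :=
      RingHom.congr_fun (kappa_rho n A B B' S) c
    rw [h1, h2, algebraMap_eq_mk, dn_eq_mk, ← map_mul, Algebra.TensorProduct.tmul_mul_tmul,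
      mul_one, one_mul]
  | add t t' ht ht' =>
    rw [map_add, map_add, map_add, ht, ht']

theorem Psi_kappa : (Psi n A B B' S).comp (kappa n A B B' S) = RingHom.id (L n A B S) := by
  apply IsLocalization.ringHom_ext (Msub n A B S)
  refine RingHom.ext fun x => ?_
  simp only [RingHom.comp_apply, RingHom.id_apply]
  rw [kappa_algebraMap, Psi_algebraMap]

theorem main : IsLocalization (S.map (algebraMap B (PP16.P n A B))) (PP16.P n A B') := by
  have h1 : (kappa n A B B' S).comp (Psi n A B B' S) = RingHom.id (PP16.P n A B') := by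
    exact RingHom.ext fun z => kappa_Psi n A B B' S z
  let e : L n A B S ≃ₐ[PP16.P n A B] PP16.P n A B' :=
    AlgEquiv.ofRingEquiv (f := RingEquiv.ofRingHom (kappa n A B B' S) (Psi n A B B' S) h1
      (Psi_kappa n A B B' S)) (fun x => kappa_algebraMap n A B B' S x)
  exact IsLocalization.isLocalization_of_algEquiv (Msub n A B S) e

end

/-- Let B be an A-algebra, S a multiplicative subset of B and B' = S⁻¹B. Then the canonical map
S⁻¹P^n_{B/A} → P^n_{B'/A} induced by functoriality is an isomorphism: P^n_{B'/A} is the localization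
of P^n_{B/A} at the image of S. -/
theorem result (n : ℕ) (A B B' : Type u) [CommRing A] [CommRing B] [Algebra A B]
    [CommRing B'] [Algebra B B'] [Algebra A B'] [IsScalarTower A B B'] (S : Submonoid B) [IsLocalization S B'] :
    IsLocalization (S.map (algebraMap B (PP16.P n A B))) (PP16.P n A B') := by
  exact main n A B B' S

end Groth.Agent.S3807
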