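import Groth.Statements.S3808
import Groth.Agent.H19.PP
import Mathlib.RingTheory.Localization.BaseChange

set_option autoImplicit false
universe u
open scoped TensorProduct
open PP16

namespace Groth.Agent.S3808

/-- Let A → B be a ring map, R a multiplicative subset of A, S one of B containing the image of R, and
A' = R⁻¹A, B' = S⁻¹B with the induced map A' → B'. Then the canonical map P^n_{B'/A} → P^n_{B'/A'}
is bijective. -/
theorem result (n : ℕ) (A B A' B' : Type u) [CommRing A] [CommRing B] [Algebra A B]
    [CommRing A'] [CommRing B'] [Algebra A A'] [Algebra B B'] [Algebra A' B'] [Algebra A B']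
    [IsScalarTower A A' B'] [IsScalarTower A B B'] (R : Submonoid A) (S : Submonoid B) [IsLocalization R A']
    [IsLocalization S B'] (hRS : ∀ r ∈ R, algebraMap A B r ∈ S) :
    Function.Bijective (PP16.map n A B' A' B') := by
  have hid : Function.Surjective (algebraMap B' B') := fun b => ⟨b, rfl⟩
  obtain ⟨hsurj, hker⟩ := Groth.Agent.H19.map_surjective_and_ker n A B' A' B' hid
  refine ⟨?_, hsurj⟩
  have hinj : Function.Injective (PP16.tensorMap A B' A' B') := by
    have key : ∀ x, PP16.tensorMap A B' A' B' x =
        (IsLocalization.moduleTensorEquiv R A' B' B').symm x := by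
      intro x
      induction x using TensorProduct.induction_on with
      | zero => simp
      | tmul b c =>
        rw [PP16.tensorMap_tmul]
        rfl
      | add x y hx hy => rw [map_add, map_add, hx, hy]
    intro x y hxy
    rw [key, key] at hxy
    exact (IsLocalization.moduleTensorEquiv R A' B' B').symm.injective hxy
  have hk0 : RingHom.ker (PP16.tensorMap A B' A' B') = ⊥ :=
    (RingHom.injective_iff_ker_eq_bot _).mp hinj
  rw [hk0, Ideal.map_bot] at hker
  exact (RingHom.injective_iff_ker_eq_bot _).mpr hker


end Groth.Agent.S3808
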