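import Groth.Statements.S3809
import Groth.Agent.H19.PPTower
-- import your own Groth.Agent.* helpers here

set_option autoImplicit false
universe u
open scoped TensorProduct
open PP16

namespace Groth.Agent.S3809

/-- Let A → B → C be ring maps. Then the canonical map P^n_{C/A} → P^n_{C/B} is surjective, and its
kernel is the ideal generated by the image, under the canonical map P^n_{B/A} → P^n_{C/A}, of the
augmentation ideal of P^n_{B/A}. -/
theorem result (n : ℕ) (A B C : Type u) [CommRing A] [CommRing B] [CommRing C]
    [Algebra A B] [Algebra B C] [Algebra A C] [IsScalarTower A B C] :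
    Function.Surjective (PP16.map n A C B C) ∧
      RingHom.ker (PP16.map n A C B C) = (PP16.augIdeal n A B).map (PP16.map n A B A C) := by
  have hs : Function.Surjective (algebraMap C C) := fun c => ⟨c, rfl⟩
  obtain ⟨h1, h2⟩ := Groth.Agent.H19.map_surjective_and_ker n A C B C hs
  refine ⟨h1, ?_⟩
  rw [h2, Groth.Agent.H19.ker_tensorMap_tower, Groth.Agent.H19.towerIdeal_eq_map, PP16.augIdeal]
  have e1 := Ideal.map_map (I := KaehlerDifferential.ideal A B) (PP16.tensorMap A B A C).toRingHom
    (Ideal.Quotient.mk ((KaehlerDifferential.ideal A C) ^ (n + 1)))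
  have e2 := Ideal.map_map (I := KaehlerDifferential.ideal A B)
    (Ideal.Quotient.mk ((KaehlerDifferential.ideal A B) ^ (n + 1)))
    (PP16.map n A B A C).toRingHom
  have e3 : (Ideal.Quotient.mk ((KaehlerDifferential.ideal A C) ^ (n + 1))).comp
      (PP16.tensorMap A B A C).toRingHom =
      (PP16.map n A B A C).toRingHom.comp
        (Ideal.Quotient.mk ((KaehlerDifferential.ideal A B) ^ (n + 1))) := by
    apply RingHom.ext
    intro x
    rfl
  rw [e3] at e1
  exact e1.trans e2.symm

end Groth.Agent.S3809
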