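import Groth.Statements.S3811
import Mathlib.RingTheory.Ideal.Quotient.Operations
-- import your own Groth.Agent.* helpers here

set_option autoImplicit false
universe u
open scoped TensorProduct
open PP16

namespace Groth.Agent.S3811

section helpers

variable (n : ℕ) (A B : Type u) [CommRing A] [CommRing B] [Algebra A B] (g : B →ₐ[A] A)

/-- `b ⊗ c ↦ [g b • c]` -/
noncomputable def mu : B ⊗[A] B →ₐ[A] B ⧸ (RingHom.ker g) ^ (n + 1) :=
  Algebra.TensorProduct.lift
    ((Ideal.Quotient.mkₐ A ((RingHom.ker g) ^ (n + 1))).comp ((Algebra.ofId A B).comp g))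
    (Ideal.Quotient.mkₐ A ((RingHom.ker g) ^ (n + 1)))
    (fun _ _ => Commute.all _ _)

theorem mu_tmul (b c : B) :
    mu n A B g (b ⊗ₜ[A] c) =
      Ideal.Quotient.mk ((RingHom.ker g) ^ (n + 1)) (algebraMap A B (g b) * c) := by
  simp only [mu, Algebra.TensorProduct.lift_tmul, AlgHom.comp_apply, Ideal.Quotient.mkₐ_eq_mk,
    map_mul]
  rfl

theorem sub_mem_ker (b : B) : b - algebraMap A B (g b) ∈ RingHom.ker g := by
  rw [RingHom.mem_ker, map_sub, AlgHom.commutes]
  simp

theorem ideal_map_mu_le :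
    (KaehlerDifferential.ideal A B).map (mu n A B g) ≤
      (RingHom.ker g).map (Ideal.Quotient.mk ((RingHom.ker g) ^ (n + 1))) := by
  rw [← KaehlerDifferential.span_range_eq_ideal, Ideal.map_span, Ideal.span_le]
  rintro _ ⟨_, ⟨b, rfl⟩, rfl⟩
  change mu n A B g ((1 : B) ⊗ₜ[A] b - b ⊗ₜ[A] (1 : B)) ∈ _
  rw [map_sub, mu_tmul, mu_tmul, ← map_sub, map_one, map_one, one_mul, mul_one]
  exact Ideal.mem_map_of_mem _ (sub_mem_ker A B g b)

theorem pow_le_ker_mu :
    (KaehlerDifferential.ideal A B) ^ (n + 1) ≤ RingHom.ker (mu n A B g) := by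
  intro x hx
  rw [RingHom.mem_ker]
  have h1 : mu n A B g x ∈ ((KaehlerDifferential.ideal A B) ^ (n + 1)).map (mu n A B g) :=
    Ideal.mem_map_of_mem _ hx
  rw [Ideal.map_pow] at h1
  have h2 := Ideal.pow_right_mono (ideal_map_mu_le n A B g) (n + 1) h1
  rw [← Ideal.map_pow, Ideal.map_quotient_self] at h2
  exact h2

/-- the induced map `P^n → B ⧸ K^(n+1)` -/
noncomputable def mu' : PP16.P n A B →+* B ⧸ (RingHom.ker g) ^ (n + 1) :=
  Ideal.Quotient.lift _ (mu n A B g).toRingHom (fun _ hx => (RingHom.mem_ker).mp (pow_le_ker_mu n A B g hx))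

theorem mu'_mk (x : B ⊗[A] B) :
    mu' n A B g (Ideal.Quotient.mk _ x) = mu n A B g x := rfl

theorem map_le_ker_mu' :
    (RingHom.ker g).map (algebraMap B (PP16.P n A B)) ≤ RingHom.ker (mu' n A B g) := by
  rw [Ideal.map_le_iff_le_comap]
  intro k hk
  rw [Ideal.mem_comap, RingHom.mem_ker]
  change mu' n A B g (Ideal.Quotient.mk _ (k ⊗ₜ[A] (1 : B))) = 0
  rw [mu'_mk, mu_tmul, (RingHom.mem_ker).mp hk, map_zero, zero_mul, map_zero]

/-- the induced map `P^n ⧸ K P^n → B ⧸ K^(n+1)` -/
noncomputable def rho :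
    PP16.P n A B ⧸ (RingHom.ker g).map (algebraMap B (PP16.P n A B)) →+* B ⧸ (RingHom.ker g) ^ (n + 1) :=
  Ideal.Quotient.lift _ (mu' n A B g) (fun _ hx => (RingHom.mem_ker).mp (map_le_ker_mu' n A B g hx))

theorem rho_theta (b : B) :
    rho n A B g (((Ideal.Quotient.mk ((RingHom.ker g).map (algebraMap B (PP16.P n A B)))).comp
        (PP16.dn n A B).toRingHom) b) = Ideal.Quotient.mk _ b := by
  change mu n A B g ((1 : B) ⊗ₜ[A] b) = _
  rw [mu_tmul, map_one, map_one, one_mul]

end helpers

/-- Let B be an A-algebra with an A-algebra retraction g : B → A, and K the kernel of g. The composite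
of d^n : B → P^n_{B/A} with the projection P^n_{B/A} → P^n_{B/A} / K P^n_{B/A} (base change of
P^n_{B/A} along g) is surjective with kernel K^(n+1); thus P^n_{B/A} ⊗_B A is identified with
B/K^(n+1), the class of d^n t corresponding to the class of t. -/
theorem result (n : ℕ) (A B : Type u) [CommRing A] [CommRing B] [Algebra A B]
    (g : B →ₐ[A] A) :
    Function.Surjective ((Ideal.Quotient.mk ((RingHom.ker g).map (algebraMap B (PP16.P n A B)))).comp
        (PP16.dn n A B).toRingHom) ∧
      RingHom.ker ((Ideal.Quotient.mk ((RingHom.ker g).map (algebraMap B (PP16.P n A B)))).comp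
        (PP16.dn n A B).toRingHom) = RingHom.ker g ^ (n + 1) := by
  set KP := (RingHom.ker g).map (algebraMap B (PP16.P n A B)) with hKP
  set θ := (Ideal.Quotient.mk KP).comp (PP16.dn n A B).toRingHom with hθ
  have hθdn : ∀ c : B, θ c = Ideal.Quotient.mk KP (PP16.dn n A B c) := fun c => rfl
  -- `algebraMap b ≡ dn (algebraMap (g b))` modulo `K P`
  have hcongr : ∀ b : B, Ideal.Quotient.mk KP (algebraMap B (PP16.P n A B) b) =
      θ (algebraMap A B (g b)) := by
    intro b
    have h1 : algebraMap B (PP16.P n A B) (algebraMap A B (g b)) =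
        PP16.dn n A B (algebraMap A B (g b)) := by
      rw [AlgHom.commutes, ← IsScalarTower.algebraMap_apply]
    rw [hθdn, ← h1, ← sub_eq_zero, ← map_sub, ← map_sub, Ideal.Quotient.eq_zero_iff_mem]
    exact Ideal.mem_map_of_mem _ (sub_mem_ker A B g b)
  constructor
  · intro y
    obtain ⟨p, rfl⟩ := Ideal.Quotient.mk_surjective y
    obtain ⟨t, rfl⟩ := Ideal.Quotient.mk_surjective p
    induction t using TensorProduct.induction_on with
    | zero => exact ⟨0, by simp⟩
    | tmul b c =>
      refine ⟨algebraMap A B (g b) * c, ?_⟩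
      have h : (Ideal.Quotient.mk ((KaehlerDifferential.ideal A B) ^ (n + 1))) (b ⊗ₜ[A] c) =
          algebraMap B (PP16.P n A B) b * PP16.dn n A B c := by
        change _ = (Ideal.Quotient.mk _ (b ⊗ₜ[A] (1 : B))) * (Ideal.Quotient.mk _ ((1 : B) ⊗ₜ[A] c))
        rw [← map_mul, Algebra.TensorProduct.tmul_mul_tmul, mul_one, one_mul]
      rw [h, map_mul, map_mul, hcongr, hθdn c]
    | add x y hx hy =>
      obtain ⟨a, ha⟩ := hx
      obtain ⟨b, hb⟩ := hy
      exact ⟨a + b, by rw [map_add, ha, hb, map_add, map_add]⟩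
  · apply le_antisymm
    · intro x hx
      have h0 := rho_theta n A B g x
      rw [(RingHom.mem_ker).mp hx, map_zero] at h0
      exact Ideal.Quotient.eq_zero_iff_mem.mp h0.symm
    · -- `K ^ (n+1) ≤ ker θ`
      have hK : (RingHom.ker g).map θ ≤
          ((KaehlerDifferential.ideal A B).map
            (Ideal.Quotient.mk ((KaehlerDifferential.ideal A B) ^ (n + 1)))).map
              (Ideal.Quotient.mk KP) := by
        rw [Ideal.map_le_iff_le_comap]
        intro k hk
        rw [Ideal.mem_comap, hθdn]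
        have h1 : PP16.dn n A B k =
            Ideal.Quotient.mk ((KaehlerDifferential.ideal A B) ^ (n + 1))
              ((1 : B) ⊗ₜ[A] k - k ⊗ₜ[A] (1 : B)) + algebraMap B (PP16.P n A B) k := by
          change Ideal.Quotient.mk _ ((1 : B) ⊗ₜ[A] k) = _ + Ideal.Quotient.mk _ (k ⊗ₜ[A] (1 : B))
          rw [← map_add, sub_add_cancel]
        have h2 : Ideal.Quotient.mk KP (algebraMap B (PP16.P n A B) k) = 0 :=
          Ideal.Quotient.eq_zero_iff_mem.mpr (Ideal.mem_map_of_mem _ hk)
        rw [h1, map_add, h2, add_zero]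
        exact Ideal.mem_map_of_mem _ (Ideal.mem_map_of_mem _
          (KaehlerDifferential.one_smul_sub_smul_one_mem_ideal A k))
      have hpow : (((KaehlerDifferential.ideal A B).map
            (Ideal.Quotient.mk ((KaehlerDifferential.ideal A B) ^ (n + 1)))).map
              (Ideal.Quotient.mk KP)) ^ (n + 1) = ⊥ := by
        have e1 := Ideal.map_pow (Ideal.Quotient.mk KP) ((KaehlerDifferential.ideal A B).map
            (Ideal.Quotient.mk ((KaehlerDifferential.ideal A B) ^ (n + 1)))) (n + 1)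
        have e2 := Ideal.map_pow (Ideal.Quotient.mk ((KaehlerDifferential.ideal A B) ^ (n + 1)))
            (KaehlerDifferential.ideal A B) (n + 1)
        rw [← e1, ← e2, Ideal.map_quotient_self, Ideal.map_bot]
      intro x hx
      rw [RingHom.mem_ker]
      have h3 : θ x ∈ ((RingHom.ker g) ^ (n + 1)).map θ := Ideal.mem_map_of_mem _ hx
      have e3 := Ideal.map_pow θ (RingHom.ker g) (n + 1)
      rw [e3] at h3
      have h4 := Ideal.pow_right_mono hK (n + 1) h3
      rw [hpow] at h4
      exact h4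

end Groth.Agent.S3811
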