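import Groth.Statements.S3812
import Mathlib.RingTheory.MvPolynomial.Ideal
import Mathlib.RingTheory.Ideal.Quotient.Operations

set_option autoImplicit false
universe u
open scoped TensorProduct
open PP16

namespace Groth.Agent.S3812


section helpers

variable (A : Type u) [CommRing A] (σ : Type u)

/-- `U_i ↦ 1 ⊗ T_i - T_i ⊗ 1`. -/
noncomputable def phi :
    MvPolynomial σ (MvPolynomial σ A) →ₐ[MvPolynomial σ A] (MvPolynomial σ A) ⊗[A] (MvPolynomial σ A) :=
  MvPolynomial.aeval (fun i => (1 : MvPolynomial σ A) ⊗ₜ[A] (MvPolynomial.X i : MvPolynomial σ A) -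
    (MvPolynomial.X i : MvPolynomial σ A) ⊗ₜ[A] (1 : MvPolynomial σ A))

/-- `T_i ↦ T_i + U_i`. -/
noncomputable def gR : MvPolynomial σ A →ₐ[A] MvPolynomial σ (MvPolynomial σ A) :=
  MvPolynomial.aeval (fun i => MvPolynomial.C (MvPolynomial.X i : MvPolynomial σ A) +
    (MvPolynomial.X i : MvPolynomial σ (MvPolynomial σ A)))

/-- `b ⊗ c ↦ b * c(T + U)`. -/
noncomputable def psi :
    (MvPolynomial σ A) ⊗[A] (MvPolynomial σ A) →ₐ[MvPolynomial σ A] MvPolynomial σ (MvPolynomial σ A) :=
  Algebra.TensorProduct.lift (Algebra.ofId (MvPolynomial σ A) (MvPolynomial σ (MvPolynomial σ A)))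
    (gR A σ) (fun _ _ => Commute.all _ _)

theorem phi_X (i : σ) : phi A σ (MvPolynomial.X i) =
    (1 : MvPolynomial σ A) ⊗ₜ[A] (MvPolynomial.X i : MvPolynomial σ A) -
      (MvPolynomial.X i : MvPolynomial σ A) ⊗ₜ[A] (1 : MvPolynomial σ A) := by
  simp [phi]

theorem phi_C (b : MvPolynomial σ A) : phi A σ (MvPolynomial.C b) = b ⊗ₜ[A] (1 : MvPolynomial σ A) := by
  rw [← MvPolynomial.algebraMap_eq, AlgHom.commutes, Algebra.TensorProduct.algebraMap_apply]
  rfl

theorem gR_X (i : σ) : gR A σ (MvPolynomial.X i) =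
    MvPolynomial.C (MvPolynomial.X i : MvPolynomial σ A) +
      (MvPolynomial.X i : MvPolynomial σ (MvPolynomial σ A)) := by
  simp [gR]

theorem psi_tmul (b c : MvPolynomial σ A) :
    psi A σ (b ⊗ₜ[A] c) = MvPolynomial.C b * gR A σ c := by
  rw [psi, Algebra.TensorProduct.lift_tmul, Algebra.ofId_apply, MvPolynomial.algebraMap_eq]

theorem phi_gR (c : MvPolynomial σ A) : phi A σ (gR A σ c) = (1 : MvPolynomial σ A) ⊗ₜ[A] c := by
  have h : ((phi A σ).restrictScalars A).comp (gR A σ) =
      (Algebra.TensorProduct.includeRight : MvPolynomial σ A →ₐ[A] _) := by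
    apply MvPolynomial.algHom_ext
    intro i
    rw [AlgHom.comp_apply, gR_X, AlgHom.restrictScalars_apply, map_add, phi_C, phi_X,
      Algebra.TensorProduct.includeRight_apply]
    abel
  exact AlgHom.congr_fun h c

theorem phi_psi (x : (MvPolynomial σ A) ⊗[A] (MvPolynomial σ A)) : phi A σ (psi A σ x) = x := by
  induction x using TensorProduct.induction_on with
  | zero => simp
  | tmul b c =>
    rw [psi_tmul, map_mul, phi_C, phi_gR, Algebra.TensorProduct.tmul_mul_tmul, mul_one, one_mul]
  | add x y hx hy => rw [map_add, map_add, hx, hy]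

theorem psi_phi (p : MvPolynomial σ (MvPolynomial σ A)) : psi A σ (phi A σ p) = p := by
  have h : (psi A σ).comp (phi A σ) = AlgHom.id _ _ := by
    apply MvPolynomial.algHom_ext
    intro i
    rw [AlgHom.comp_apply, phi_X, map_sub, psi_tmul, psi_tmul, gR_X, map_one, map_one, one_mul,
      mul_one, AlgHom.id_apply]
    abel
  exact AlgHom.congr_fun h p

/-- The isomorphism `B ⊗[A] B ≃ B[U]`. -/
noncomputable def Theta :
    (MvPolynomial σ A) ⊗[A] (MvPolynomial σ A) ≃ₐ[MvPolynomial σ A] MvPolynomial σ (MvPolynomial σ A) :=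
  AlgEquiv.ofAlgHom (psi A σ) (phi A σ) (AlgHom.ext (psi_phi A σ)) (AlgHom.ext (phi_psi A σ))

theorem Theta_apply (x : (MvPolynomial σ A) ⊗[A] (MvPolynomial σ A)) : Theta A σ x = psi A σ x := rfl

theorem Theta_symm_apply (p : MvPolynomial σ (MvPolynomial σ A)) :
    (Theta A σ).symm p = phi A σ p := rfl

theorem lmul_phi (p : MvPolynomial σ (MvPolynomial σ A)) :
    Algebra.TensorProduct.lmul' A (phi A σ p) = MvPolynomial.constantCoeff p := by
  have h : (Algebra.TensorProduct.lmul' A :
        (MvPolynomial σ A) ⊗[A] (MvPolynomial σ A) →ₐ[A] MvPolynomial σ A).toRingHom.comp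
      (phi A σ).toRingHom = MvPolynomial.constantCoeff := by
    apply MvPolynomial.ringHom_ext
    · intro b
      change Algebra.TensorProduct.lmul' A (phi A σ (MvPolynomial.C b)) = _
      rw [phi_C]
      simp
    · intro i
      change Algebra.TensorProduct.lmul' A (phi A σ (MvPolynomial.X i)) = _
      rw [phi_X]
      simp
  exact RingHom.congr_fun h p

theorem mem_span_X_iff {R : Type u} [CommRing R] (p : MvPolynomial σ R) :
    p ∈ Ideal.span (Set.range (MvPolynomial.X : σ → MvPolynomial σ R)) ↔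
      MvPolynomial.constantCoeff p = 0 := by
  have h := MvPolynomial.mem_pow_idealOfVars_iff' (σ := σ) (R := R) 1 p
  rw [pow_one] at h
  change p ∈ MvPolynomial.idealOfVars σ R ↔ _
  rw [h]
  constructor
  · intro H
    exact H 0 (by simp)
  · intro H x hx
    have hx0 : Finsupp.degree x = 0 := by omega
    have : x = 0 := (Finsupp.degree_eq_zero_iff x).mp hx0
    rw [this]
    exact H

theorem ideal_map_Theta :
    (KaehlerDifferential.ideal A (MvPolynomial σ A)).map (Theta A σ) =
      Ideal.span (Set.range (MvPolynomial.X : σ → MvPolynomial σ (MvPolynomial σ A))) := by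
  apply le_antisymm
  · rw [Ideal.map_le_iff_le_comap]
    intro x hx
    rw [Ideal.mem_comap, mem_span_X_iff, ← lmul_phi, Theta_apply, phi_psi]
    exact hx
  · intro p hp
    rw [mem_span_X_iff, ← lmul_phi] at hp
    have h : p = Theta A σ (phi A σ p) := (psi_phi A σ p).symm
    rw [h]
    exact Ideal.mem_map_of_mem _ hp

end helpers

/-- Let B = A[T_i] be a polynomial algebra. There is an isomorphism of B-algebras from P^n_{B/A} onto
B[U_i]/(U)^(n+1), where (U) is the ideal generated by the new indeterminates, sending the principal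
part d^n T_i to the class of T_i + U_i for every i (so d^n F(T) goes to the class of F(T + U)). -/
theorem result (n : ℕ) (A : Type u) [CommRing A] (σ : Type u) :
    ∃ e : PP16.P n A (MvPolynomial σ A) ≃ₐ[MvPolynomial σ A]
        (MvPolynomial σ (MvPolynomial σ A) ⧸
          Ideal.span (Set.range (MvPolynomial.X : σ → MvPolynomial σ (MvPolynomial σ A))) ^ (n + 1)),
      ∀ i : σ, e (PP16.dn n A (MvPolynomial σ A) (MvPolynomial.X i)) =
        Ideal.Quotient.mk _ (MvPolynomial.C (MvPolynomial.X i : MvPolynomial σ A) +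
          (MvPolynomial.X i : MvPolynomial σ (MvPolynomial σ A))) := by
  have hIJ : Ideal.span (Set.range (MvPolynomial.X : σ → MvPolynomial σ (MvPolynomial σ A))) ^ (n + 1) =
      ((KaehlerDifferential.ideal A (MvPolynomial σ A)) ^ (n + 1)).map (Theta A σ) := by
    rw [← ideal_map_Theta, ← Ideal.map_pow]
  refine ⟨Ideal.quotientEquivAlg _ _ (Theta A σ) hIJ, ?_⟩
  intro i
  change Ideal.quotientEquivAlg _ _ (Theta A σ) hIJ
    (Ideal.Quotient.mk _ ((1 : MvPolynomial σ A) ⊗ₜ[A] (MvPolynomial.X i : MvPolynomial σ A))) = _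
  rw [Ideal.quotientEquivAlg_mk]
  change Ideal.Quotient.mk _ (Theta A σ ((1 : MvPolynomial σ A) ⊗ₜ[A] (MvPolynomial.X i : MvPolynomial σ A))) = _
  rw [Theta_apply, psi_tmul, gR_X, map_one, one_mul]


end Groth.Agent.S3812
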