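import Groth.Statements.S3813
import Mathlib.RingTheory.TensorProduct.Quotient
import Mathlib.LinearAlgebra.TensorProduct.RightExactness
import Mathlib.RingTheory.Ideal.Quotient.Operations

set_option autoImplicit false
universe u
open scoped TensorProduct
open PP16

namespace Groth.Agent.S3813


section helpers

variable (A : Type u) [CommRing A] (E : Type u) [AddCommGroup E] [Module A E]

/-- the augmentation -/
noncomputable def eps : SymmetricAlgebra A E →ₐ[A] A := SymmetricAlgebra.lift (0 : E →ₗ[A] A)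

theorem eps_ι (t : E) : eps A E (SymmetricAlgebra.ι A E t) = 0 := by
  simp [eps]

theorem eps_surjective : Function.Surjective (eps A E) := fun a =>
  ⟨algebraMap A (SymmetricAlgebra A E) a, by rw [AlgHom.commutes]; rfl⟩

/-- comultiplication `t ↦ t ⊗ 1 + 1 ⊗ t` -/
noncomputable def Delta : SymmetricAlgebra A E →ₐ[A] SymmetricAlgebra A E ⊗[A] SymmetricAlgebra A E :=
  SymmetricAlgebra.lift
    ((Algebra.TensorProduct.includeLeft :
        SymmetricAlgebra A E →ₐ[A] SymmetricAlgebra A E ⊗[A] SymmetricAlgebra A E).toLinearMap ∘ₗ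
        SymmetricAlgebra.ι A E +
      (Algebra.TensorProduct.includeRight :
        SymmetricAlgebra A E →ₐ[A] SymmetricAlgebra A E ⊗[A] SymmetricAlgebra A E).toLinearMap ∘ₗ
        SymmetricAlgebra.ι A E)

theorem Delta_ι (t : E) : Delta A E (SymmetricAlgebra.ι A E t) =
    SymmetricAlgebra.ι A E t ⊗ₜ[A] (1 : SymmetricAlgebra A E) +
      (1 : SymmetricAlgebra A E) ⊗ₜ[A] SymmetricAlgebra.ι A E t := by
  simp [Delta]

/-- `t ↦ 1 ⊗ t - t ⊗ 1` -/
noncomputable def Delta' : SymmetricAlgebra A E →ₐ[A] SymmetricAlgebra A E ⊗[A] SymmetricAlgebra A E :=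
  SymmetricAlgebra.lift
    ((Algebra.TensorProduct.includeRight :
        SymmetricAlgebra A E →ₐ[A] SymmetricAlgebra A E ⊗[A] SymmetricAlgebra A E).toLinearMap ∘ₗ
        SymmetricAlgebra.ι A E -
      (Algebra.TensorProduct.includeLeft :
        SymmetricAlgebra A E →ₐ[A] SymmetricAlgebra A E ⊗[A] SymmetricAlgebra A E).toLinearMap ∘ₗ
        SymmetricAlgebra.ι A E)

theorem Delta'_ι (t : E) : Delta' A E (SymmetricAlgebra.ι A E t) =
    (1 : SymmetricAlgebra A E) ⊗ₜ[A] SymmetricAlgebra.ι A E t -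
      SymmetricAlgebra.ι A E t ⊗ₜ[A] (1 : SymmetricAlgebra A E) := by
  simp [Delta']

/-- `b ⊗ c ↦ (b ⊗ 1) * Δ c` -/
noncomputable def psi :
    SymmetricAlgebra A E ⊗[A] SymmetricAlgebra A E →ₐ[SymmetricAlgebra A E]
      SymmetricAlgebra A E ⊗[A] SymmetricAlgebra A E :=
  Algebra.TensorProduct.lift (Algebra.ofId (SymmetricAlgebra A E) _) (Delta A E)
    (fun _ _ => Commute.all _ _)

/-- `b ⊗ c ↦ (b ⊗ 1) * Δ' c` -/
noncomputable def phi :
    SymmetricAlgebra A E ⊗[A] SymmetricAlgebra A E →ₐ[SymmetricAlgebra A E]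
      SymmetricAlgebra A E ⊗[A] SymmetricAlgebra A E :=
  Algebra.TensorProduct.lift (Algebra.ofId (SymmetricAlgebra A E) _) (Delta' A E)
    (fun _ _ => Commute.all _ _)

theorem psi_tmul (b c : SymmetricAlgebra A E) :
    psi A E (b ⊗ₜ[A] c) = (b ⊗ₜ[A] (1 : SymmetricAlgebra A E)) * Delta A E c := by
  rw [psi, Algebra.TensorProduct.lift_tmul, Algebra.ofId_apply,
    Algebra.TensorProduct.algebraMap_apply]
  rfl

theorem phi_tmul (b c : SymmetricAlgebra A E) :
    phi A E (b ⊗ₜ[A] c) = (b ⊗ₜ[A] (1 : SymmetricAlgebra A E)) * Delta' A E c := by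
  rw [phi, Algebra.TensorProduct.lift_tmul, Algebra.ofId_apply,
    Algebra.TensorProduct.algebraMap_apply]
  rfl

theorem psi_Delta' (c : SymmetricAlgebra A E) :
    psi A E (Delta' A E c) = (1 : SymmetricAlgebra A E) ⊗ₜ[A] c := by
  have h : ((psi A E).restrictScalars A).comp (Delta' A E) =
      (Algebra.TensorProduct.includeRight :
        SymmetricAlgebra A E →ₐ[A] SymmetricAlgebra A E ⊗[A] SymmetricAlgebra A E) := by
    apply SymmetricAlgebra.algHom_ext
    ext t
    change psi A E (Delta' A E (SymmetricAlgebra.ι A E t)) =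
      (1 : SymmetricAlgebra A E) ⊗ₜ[A] SymmetricAlgebra.ι A E t
    rw [Delta'_ι, map_sub, psi_tmul, psi_tmul, Delta_ι, map_one, mul_one,
      ← Algebra.TensorProduct.one_def, one_mul]
    abel
  exact AlgHom.congr_fun h c

theorem phi_Delta (c : SymmetricAlgebra A E) :
    phi A E (Delta A E c) = (1 : SymmetricAlgebra A E) ⊗ₜ[A] c := by
  have h : ((phi A E).restrictScalars A).comp (Delta A E) =
      (Algebra.TensorProduct.includeRight :
        SymmetricAlgebra A E →ₐ[A] SymmetricAlgebra A E ⊗[A] SymmetricAlgebra A E) := by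
    apply SymmetricAlgebra.algHom_ext
    ext t
    change phi A E (Delta A E (SymmetricAlgebra.ι A E t)) =
      (1 : SymmetricAlgebra A E) ⊗ₜ[A] SymmetricAlgebra.ι A E t
    rw [Delta_ι, map_add, phi_tmul, phi_tmul, Delta'_ι, map_one, mul_one,
      ← Algebra.TensorProduct.one_def, one_mul]
    abel
  exact AlgHom.congr_fun h c

theorem psi_phi (x : SymmetricAlgebra A E ⊗[A] SymmetricAlgebra A E) : psi A E (phi A E x) = x := by
  induction x using TensorProduct.induction_on with
  | zero => simp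
  | tmul b c =>
    rw [phi_tmul, map_mul, psi_Delta', psi_tmul, map_one, mul_one,
      Algebra.TensorProduct.tmul_mul_tmul, mul_one, one_mul]
  | add x y hx hy => rw [map_add, map_add, hx, hy]

theorem phi_psi (x : SymmetricAlgebra A E ⊗[A] SymmetricAlgebra A E) : phi A E (psi A E x) = x := by
  induction x using TensorProduct.induction_on with
  | zero => simp
  | tmul b c =>
    rw [psi_tmul, map_mul, phi_Delta, phi_tmul, map_one, mul_one,
      Algebra.TensorProduct.tmul_mul_tmul, mul_one, one_mul]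
  | add x y hx hy => rw [map_add, map_add, hx, hy]

/-- the change of coordinates -/
noncomputable def Theta :
    SymmetricAlgebra A E ⊗[A] SymmetricAlgebra A E ≃ₐ[SymmetricAlgebra A E]
      SymmetricAlgebra A E ⊗[A] SymmetricAlgebra A E :=
  AlgEquiv.ofAlgHom (psi A E) (phi A E) (AlgHom.ext (psi_phi A E)) (AlgHom.ext (phi_psi A E))

theorem Theta_apply (x : SymmetricAlgebra A E ⊗[A] SymmetricAlgebra A E) :
    Theta A E x = psi A E x := rfl

/-- `b ⊗ c ↦ ε(c) b` -/
noncomputable def rho : SymmetricAlgebra A E ⊗[A] SymmetricAlgebra A E →ₐ[A] SymmetricAlgebra A E :=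
  (Algebra.TensorProduct.rid A A (SymmetricAlgebra A E)).toAlgHom.comp
    (Algebra.TensorProduct.map (AlgHom.id A (SymmetricAlgebra A E)) (eps A E))

theorem rho_tmul (b c : SymmetricAlgebra A E) : rho A E (b ⊗ₜ[A] c) = eps A E c • b := by
  simp [rho]

theorem rho_eq_zero_iff (y : SymmetricAlgebra A E ⊗[A] SymmetricAlgebra A E) :
    rho A E y = 0 ↔ y ∈ (RingHom.ker (eps A E)).map
      (Algebra.TensorProduct.includeRight :
        SymmetricAlgebra A E →ₐ[A] SymmetricAlgebra A E ⊗[A] SymmetricAlgebra A E) := by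
  rw [← Algebra.TensorProduct.lTensor_ker (A := SymmetricAlgebra A E) (eps A E) (eps_surjective A E),
    RingHom.mem_ker]
  change (Algebra.TensorProduct.rid A A (SymmetricAlgebra A E))
    ((Algebra.TensorProduct.map (AlgHom.id A (SymmetricAlgebra A E)) (eps A E)) y) = 0 ↔ _
  rw [map_eq_zero_iff _ (Algebra.TensorProduct.rid A A (SymmetricAlgebra A E)).injective]

theorem rho_Delta (c : SymmetricAlgebra A E) : rho A E (Delta A E c) = c := by
  have h : (rho A E).comp (Delta A E) = AlgHom.id A _ := by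
    apply SymmetricAlgebra.algHom_ext
    ext t
    change rho A E (Delta A E (SymmetricAlgebra.ι A E t)) = SymmetricAlgebra.ι A E t
    rw [Delta_ι, map_add, rho_tmul, rho_tmul, eps_ι, map_one, one_smul, zero_smul, add_zero]
  exact AlgHom.congr_fun h c

theorem rho_psi (x : SymmetricAlgebra A E ⊗[A] SymmetricAlgebra A E) :
    rho A E (psi A E x) = Algebra.TensorProduct.lmul' A x := by
  induction x using TensorProduct.induction_on with
  | zero => simp
  | tmul b c =>
    rw [psi_tmul, map_mul, rho_Delta, rho_tmul, map_one, one_smul,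
      Algebra.TensorProduct.lmul'_apply_tmul]
  | add x y hx hy => rw [map_add, map_add, map_add, hx, hy]

theorem ideal_map_Theta :
    (KaehlerDifferential.ideal A (SymmetricAlgebra A E)).map (Theta A E) =
      (RingHom.ker (eps A E)).map
        (Algebra.TensorProduct.includeRight :
          SymmetricAlgebra A E →ₐ[A] SymmetricAlgebra A E ⊗[A] SymmetricAlgebra A E) := by
  apply le_antisymm
  · rw [Ideal.map_le_iff_le_comap]
    intro x hx
    rw [Ideal.mem_comap, ← rho_eq_zero_iff, Theta_apply, rho_psi]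
    exact hx
  · intro y hy
    rw [← rho_eq_zero_iff] at hy
    have h : y = Theta A E (phi A E y) := (psi_phi A E y).symm
    rw [h]
    apply Ideal.mem_map_of_mem
    change Algebra.TensorProduct.lmul' A (phi A E y) = 0
    rw [← rho_psi, psi_phi, hy]

end helpers

/-- Let E be an A-module, B = Sym_A(E) its symmetric algebra and K the augmentation ideal of B (the
kernel of the A-algebra map B → A killing E). For every n there is an isomorphism of B-algebras from
P^n_{B/A} onto B ⊗_A (B/K^(n+1)) sending the principal part d^n t of an element t of E to t ⊗ 1 + 1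
⊗ (class of t). -/
theorem result (n : ℕ) (A : Type u) [CommRing A] (E : Type u) [AddCommGroup E]
    [Module A E] :
    ∃ e : PP16.P n A (SymmetricAlgebra A E) ≃ₐ[SymmetricAlgebra A E]
        (SymmetricAlgebra A E ⊗[A] (SymmetricAlgebra A E ⧸
          RingHom.ker (SymmetricAlgebra.lift (0 : E →ₗ[A] A)) ^ (n + 1))),
      ∀ t : E, e (PP16.dn n A (SymmetricAlgebra A E) (SymmetricAlgebra.ι A E t)) =
        SymmetricAlgebra.ι A E t ⊗ₜ 1 + 1 ⊗ₜ Ideal.Quotient.mk _ (SymmetricAlgebra.ι A E t) := by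
  have hIJ : ((RingHom.ker (SymmetricAlgebra.lift (0 : E →ₗ[A] A))) ^ (n + 1)).map
        (Algebra.TensorProduct.includeRight :
          SymmetricAlgebra A E →ₐ[A] SymmetricAlgebra A E ⊗[A] SymmetricAlgebra A E) =
      ((KaehlerDifferential.ideal A (SymmetricAlgebra A E)) ^ (n + 1)).map (Theta A E) := by
    rw [Ideal.map_pow, Ideal.map_pow, ideal_map_Theta]
    rfl
  let e1 := Ideal.quotientEquivAlg _ _ (Theta A E) hIJ
  let e2 := (Algebra.TensorProduct.tensorQuotientEquiv (R := A) (SymmetricAlgebra A E)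
    (SymmetricAlgebra A E) (SymmetricAlgebra A E)
    ((RingHom.ker (SymmetricAlgebra.lift (0 : E →ₗ[A] A))) ^ (n + 1))).symm
  refine ⟨e1.trans e2, ?_⟩
  intro t
  change e2 (e1 (Ideal.Quotient.mk _
    ((1 : SymmetricAlgebra A E) ⊗ₜ[A] SymmetricAlgebra.ι A E t))) = _
  rw [Ideal.quotientEquivAlg_mk]
  change e2 (Ideal.Quotient.mk _ (Theta A E
    ((1 : SymmetricAlgebra A E) ⊗ₜ[A] SymmetricAlgebra.ι A E t))) = _
  rw [Theta_apply, psi_tmul, Delta_ι, ← Algebra.TensorProduct.one_def, one_mul, map_add, map_add]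
  rfl


end Groth.Agent.S3813
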