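import Groth.Statements.S5002
import Mathlib.RingTheory.Finiteness.NilpotentKer
import Mathlib.RingTheory.Kaehler.Basic
import Mathlib.RingTheory.EssentialFiniteness

set_option autoImplicit false
universe u
open PP16

namespace Groth.Agent.S5002

/-- Suppose A is a commutative ring and B is a finite-type A-algebra. For each n, the ring of principal
parts of order n of B over A is then finitely generated as a B-module, where B acts via the first
factor. -/
theorem result (n : ℕ) (A B : Type u) [CommRing A] [CommRing B] [Algebra A B]
    [Algebra.FiniteType A B] : Module.Finite B (PP16.P n A B) := by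
  have hK : RingHom.ker (Algebra.TensorProduct.lmul'' A : TensorProduct A B B →ₐ[B] B).toRingHom =
      KaehlerDifferential.ideal A B := by
    ext x
    rw [RingHom.mem_ker, RingHom.mem_ker]
    rfl
  have hle : ∀ x ∈ (KaehlerDifferential.ideal A B) ^ (n + 1),
      (Algebra.TensorProduct.lmul'' A : TensorProduct A B B →ₐ[B] B) x = 0 := by
    intro x hx
    have h1 : x ∈ KaehlerDifferential.ideal A B := Ideal.pow_le_self (Nat.succ_ne_zero n) hx
    rw [← hK] at h1
    exact h1
  let f : PP16.P n A B →ₐ[B] B :=
    Ideal.Quotient.liftₐ ((KaehlerDifferential.ideal A B) ^ (n + 1)) (Algebra.TensorProduct.lmul'' A) hle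
  have hker : RingHom.ker f = (KaehlerDifferential.ideal A B).map
      (Ideal.Quotient.mk ((KaehlerDifferential.ideal A B) ^ (n + 1))) := by
    have h2 := Ideal.ker_quotient_lift (I := (KaehlerDifferential.ideal A B) ^ (n + 1))
      (Algebra.TensorProduct.lmul'' A : TensorProduct A B B →ₐ[B] B).toRingHom (fun x hx => hle x hx)
    rw [hK] at h2
    exact h2
  have hpow : ((KaehlerDifferential.ideal A B).map
      (Ideal.Quotient.mk ((KaehlerDifferential.ideal A B) ^ (n + 1)))) ^ (n + 1) = ⊥ := by
    have e := Ideal.map_pow (Ideal.Quotient.mk ((KaehlerDifferential.ideal A B) ^ (n + 1)))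
      (KaehlerDifferential.ideal A B) (n + 1)
    rw [Ideal.map_quotient_self] at e
    exact e.symm
  refine Module.finite_of_surjective_of_ker_le_nilradical f ?_ ?_ ?_
  · intro b
    exact ⟨algebraMap B (PP16.P n A B) b, by rw [AlgHom.commutes]; rfl⟩
  · intro x hx
    rw [hker] at hx
    rw [mem_nilradical]
    refine ⟨n + 1, ?_⟩
    have h3 := Ideal.pow_mem_pow hx (n + 1)
    rw [hpow] at h3
    exact (Submodule.mem_bot _).mp h3
  · rw [hker]
    exact (KaehlerDifferential.ideal_fg A B).map _


end Groth.Agent.S5002
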