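import Groth.Statements.S3815
import Groth.Agent.S3805
import Groth.Agent.H14.DiffOp
import Groth.Agent.H14.DiffOpLin
import Mathlib.LinearAlgebra.Quotient.Basic
import Mathlib.RingTheory.Ideal.Quotient.Operations

set_option autoImplicit false
universe u
open scoped TensorProduct
open scoped BigOperators
open PP16

namespace Groth.Agent.S3815


open Diff16 Groth.Agent.H14

section helpers

variable (n : ℕ) (A B : Type u) [CommRing A] [CommRing B] [Algebra A B]
    (M N : Type u) [AddCommGroup M] [Module A M] [Module B M] [IsScalarTower A B M]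
    [AddCommGroup N] [Module A N] [Module B N] [IsScalarTower A B N]

/-- `c ↦ c • m` -/
noncomputable def rho (m : M) : B →ₗ[A] M := (LinearMap.toSpanSingleton B M m).restrictScalars A

theorem rho_apply (m : M) (c : B) : rho A B M m c = c • m := rfl

theorem rho_add (m m' : M) : rho A B M (m + m') = rho A B M m + rho A B M m' := by
  apply LinearMap.ext
  intro c
  rw [LinearMap.add_apply, rho_apply, rho_apply, rho_apply, smul_add]

theorem rho_zero : rho A B M (0 : M) = 0 := by
  apply LinearMap.ext
  intro c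
  rw [LinearMap.zero_apply, rho_apply, smul_zero]

theorem isDiffOpLE_rho (m : M) : IsDiffOpLE A B B M 0 (rho A B M m) := by
  rw [isDiffOpLE_zero_iff]
  intro b c
  rw [rho_apply, rho_apply, smul_eq_mul, mul_smul]

theorem isDiffOpLE_comp_rho (D : M →ₗ[A] N) (hD : IsDiffOpLE A B M N n D) (m : M) :
    IsDiffOpLE A B B N n (D ∘ₗ rho A B M m) := by
  have h := isDiffOpLE_comp 0 n (rho A B M m) D (isDiffOpLE_rho A B M m) hD
  rwa [Nat.zero_add] at h

theorem linearize_add (D D' : B →ₗ[A] N) (x : B ⊗[A] B) :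
    linearize A B B N (D + D') x = linearize A B B N D x + linearize A B B N D' x := by
  induction x using TensorProduct.induction_on with
  | zero => simp
  | tmul b c => rw [linearize_tmul, linearize_tmul, linearize_tmul, LinearMap.add_apply, smul_add]
  | add x y hx hy =>
    rw [map_add, map_add, map_add, hx, hy]
    abel

theorem linearize_zero (x : B ⊗[A] B) : linearize A B B N (0 : B →ₗ[A] N) x = 0 := by
  induction x using TensorProduct.induction_on with
  | zero => simp
  | tmul b c => rw [linearize_tmul, LinearMap.zero_apply, smul_zero]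
  | add x y hx hy => rw [map_add, hx, hy, add_zero]

theorem linearize_left_mul (D : B →ₗ[A] N) (b : B) (x : B ⊗[A] B) :
    linearize A B B N D ((b ⊗ₜ[A] (1 : B)) * x) = b • linearize A B B N D x := by
  induction x using TensorProduct.induction_on with
  | zero => simp
  | tmul c c' =>
    rw [Algebra.TensorProduct.tmul_mul_tmul, one_mul, linearize_tmul, linearize_tmul, mul_smul]
  | add x y hx hy => rw [mul_add, map_add, map_add, hx, hy, smul_add]

theorem linearize_right_mul (D : M →ₗ[A] N) (m : M) (b : B) (x : B ⊗[A] B) :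
    linearize A B B N (D ∘ₗ rho A B M m) (((1 : B) ⊗ₜ[A] b) * x) =
      linearize A B B N (D ∘ₗ rho A B M (b • m)) x := by
  induction x using TensorProduct.induction_on with
  | zero => simp
  | tmul c c' =>
    rw [Algebra.TensorProduct.tmul_mul_tmul, one_mul, linearize_tmul, linearize_tmul,
      LinearMap.comp_apply, LinearMap.comp_apply, rho_apply, rho_apply, mul_comm b c', mul_smul]
  | add x y hx hy => rw [mul_add, map_add, map_add, hx, hy]

/-- the descended linearization `P^n → N`, `[b ⊗ c] ↦ b • D (c • m)` -/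
noncomputable def G (D : M →ₗ[A] N) (hD : IsDiffOpLE A B M N n D) (m : M) : PP16.P n A B →ₗ[A] N :=
  (Submodule.liftQ (((KaehlerDifferential.ideal A B) ^ (n + 1)).restrictScalars A)
    (linearize A B B N (D ∘ₗ rho A B M m))
    (fun x hx => LinearMap.mem_ker.mpr
      ((isDiffOpLE_iff_linearize n (D ∘ₗ rho A B M m)).mp
        (isDiffOpLE_comp_rho n A B M N D hD m) x hx))) ∘ₗ
  (Submodule.Quotient.restrictScalarsEquiv A ((KaehlerDifferential.ideal A B) ^ (n + 1))).symm.toLinearMap

theorem G_mk (D : M →ₗ[A] N) (hD : IsDiffOpLE A B M N n D) (m : M) (y : B ⊗[A] B) :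
    G n A B M N D hD m (Ideal.Quotient.mk ((KaehlerDifferential.ideal A B) ^ (n + 1)) y) =
      linearize A B B N (D ∘ₗ rho A B M m) y := rfl

theorem G_algebraMap_mul (D : M →ₗ[A] N) (hD : IsDiffOpLE A B M N n D) (m : M) (b : B)
    (x : PP16.P n A B) :
    G n A B M N D hD m (algebraMap B (PP16.P n A B) b * x) = b • G n A B M N D hD m x := by
  obtain ⟨y, rfl⟩ := Ideal.Quotient.mk_surjective x
  change G n A B M N D hD m (Ideal.Quotient.mk _ (b ⊗ₜ[A] (1 : B)) * Ideal.Quotient.mk _ y) = _
  rw [← map_mul, G_mk, G_mk, linearize_left_mul]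

theorem G_dn_mul (D : M →ₗ[A] N) (hD : IsDiffOpLE A B M N n D) (m : M) (b : B)
    (x : PP16.P n A B) :
    G n A B M N D hD m (PP16.dn n A B b * x) = G n A B M N D hD (b • m) x := by
  obtain ⟨y, rfl⟩ := Ideal.Quotient.mk_surjective x
  change G n A B M N D hD m (Ideal.Quotient.mk _ ((1 : B) ⊗ₜ[A] b) * Ideal.Quotient.mk _ y) = _
  rw [← map_mul, G_mk, G_mk, linearize_right_mul]

theorem G_one (D : M →ₗ[A] N) (hD : IsDiffOpLE A B M N n D) (m : M) :
    G n A B M N D hD m 1 = D m := by
  change G n A B M N D hD m (Ideal.Quotient.mk _ ((1 : B) ⊗ₜ[A] (1 : B))) = _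
  rw [G_mk, linearize_tmul, LinearMap.comp_apply, rho_apply, one_smul, one_smul]

/-- `m ↦ G m`, additive -/
noncomputable def g (D : M →ₗ[A] N) (hD : IsDiffOpLE A B M N n D) : M →+ (PP16.P n A B →+ N) where
  toFun m := (G n A B M N D hD m).toAddMonoidHom
  map_zero' := by
    apply AddMonoidHom.ext
    intro x
    obtain ⟨y, rfl⟩ := Ideal.Quotient.mk_surjective x
    change G n A B M N D hD 0 (Ideal.Quotient.mk _ y) = 0
    rw [G_mk, rho_zero, LinearMap.comp_zero, linearize_zero]
  map_add' m m' := by
    apply AddMonoidHom.ext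
    intro x
    obtain ⟨y, rfl⟩ := Ideal.Quotient.mk_surjective x
    change G n A B M N D hD (m + m') (Ideal.Quotient.mk _ y) =
      G n A B M N D hD m (Ideal.Quotient.mk _ y) + G n A B M N D hD m' (Ideal.Quotient.mk _ y)
    rw [G_mk, G_mk, G_mk, rho_add, LinearMap.comp_add, linearize_add]

theorem g_apply (D : M →ₗ[A] N) (hD : IsDiffOpLE A B M N n D) (m : M) (x : PP16.P n A B) :
    g n A B M N D hD m x = G n A B M N D hD m x := rfl

/-- the identity map `P^n → P^n` with the second-factor structure on the target -/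
def toPr (x : PP16.P n A B) : PP16.Pr n A B := x

theorem toPr_add (x y : PP16.P n A B) : toPr n A B (x + y) = toPr n A B x + toPr n A B y := rfl

theorem toPr_sub (x y : PP16.P n A B) : toPr n A B (x - y) = toPr n A B x - toPr n A B y := rfl

theorem toPr_zero : toPr n A B 0 = 0 := rfl

theorem smul_toPr (b : B) (x : PP16.P n A B) :
    b • toPr n A B x = toPr n A B (PP16.dn n A B b * x) := rfl

theorem psmul_toPr (p x : PP16.P n A B) : p • toPr n A B x = toPr n A B (p * x) := rfl

theorem exists_toPr (x : PP16.Pr n A B) : ∃ x' : PP16.P n A B, toPr n A B x' = x := ⟨x, rfl⟩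

/-- the factorization `u : P^n(M) → N` -/
noncomputable def uOf (D : M →ₗ[A] N) (hD : IsDiffOpLE A B M N n D) : PP16.PM n A B M →+ N :=
  TensorProduct.liftAddHom ((g n A B M N D hD).flip : PP16.Pr n A B →+ M →+ N)
    (by
      intro b x m
      obtain ⟨x', rfl⟩ := exists_toPr n A B x
      change G n A B M N D hD m (PP16.dn n A B b * x') = G n A B M N D hD (b • m) x'
      exact G_dn_mul n A B M N D hD m b x')

theorem uOf_tmul (D : M →ₗ[A] N) (hD : IsDiffOpLE A B M N n D) (x : PP16.P n A B) (m : M) :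
    uOf n A B M N D hD (toPr n A B x ⊗ₜ[B] m) = G n A B M N D hD m x := rfl

theorem uOf_linear (D : M →ₗ[A] N) (hD : IsDiffOpLE A B M N n D) (b : B) (t : PP16.PM n A B M) :
    uOf n A B M N D hD (algebraMap B (PP16.P n A B) b • t) = b • uOf n A B M N D hD t := by
  induction t using TensorProduct.induction_on with
  | zero => rw [smul_zero, map_zero, smul_zero]
  | tmul x m =>
    obtain ⟨x', rfl⟩ := exists_toPr n A B x
    rw [TensorProduct.smul_tmul', psmul_toPr, uOf_tmul, uOf_tmul, G_algebraMap_mul]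
  | add t t' ht ht' => rw [smul_add, map_add, map_add, ht, ht', smul_add]

theorem dM_eq (m : M) : PP16.dM n A B M m = toPr n A B 1 ⊗ₜ[B] m := rfl

theorem uOf_dM (D : M →ₗ[A] N) (hD : IsDiffOpLE A B M N n D) (m : M) :
    uOf n A B M N D hD (PP16.dM n A B M m) = D m := by
  rw [dM_eq, uOf_tmul, G_one]

theorem u_unique_aux (u u' : PP16.PM n A B M →+ N)
    (h1 : ∀ (b : B) (t : PP16.PM n A B M), u (algebraMap B (PP16.P n A B) b • t) = b • u t)
    (h1' : ∀ (b : B) (t : PP16.PM n A B M), u' (algebraMap B (PP16.P n A B) b • t) = b • u' t)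
    (h2 : ∀ m : M, u (PP16.dM n A B M m) = u' (PP16.dM n A B M m))
    (x : PP16.P n A B) (hx : x ∈ Submodule.span B (Set.range (PP16.dn n A B))) :
    ∀ m : M, u (toPr n A B x ⊗ₜ[B] m) = u' (toPr n A B x ⊗ₜ[B] m) := by
  refine Submodule.span_induction
    (p := fun (x : PP16.P n A B) _ =>
      ∀ m : M, u (toPr n A B x ⊗ₜ[B] m) = u' (toPr n A B x ⊗ₜ[B] m)) ?_ ?_ ?_ ?_ hx
  · rintro _ ⟨c, rfl⟩ m
    have e : toPr n A B (PP16.dn n A B c) ⊗ₜ[B] m = PP16.dM n A B M (c • m) := by
      rw [dM_eq, ← TensorProduct.smul_tmul, smul_toPr, mul_one]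
    rw [e, h2]
  · intro m
    rw [toPr_zero, TensorProduct.zero_tmul, map_zero, map_zero]
  · intro x y _ _ hx hy m
    rw [toPr_add, TensorProduct.add_tmul, map_add, map_add, hx, hy]
  · intro b x _ hx m
    have e : toPr n A B (b • x) ⊗ₜ[B] m =
        algebraMap B (PP16.P n A B) b • (toPr n A B x ⊗ₜ[B] m) := by
      rw [TensorProduct.smul_tmul', psmul_toPr, Algebra.smul_def]
    rw [e, h1, h1', hx]

theorem u_unique (u u' : PP16.PM n A B M →+ N)
    (h1 : ∀ (b : B) (t : PP16.PM n A B M), u (algebraMap B (PP16.P n A B) b • t) = b • u t)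
    (h1' : ∀ (b : B) (t : PP16.PM n A B M), u' (algebraMap B (PP16.P n A B) b • t) = b • u' t)
    (h2 : ∀ m : M, u (PP16.dM n A B M m) = u' (PP16.dM n A B M m)) : u = u' := by
  apply AddMonoidHom.ext
  intro t
  induction t using TensorProduct.induction_on with
  | zero => rw [map_zero, map_zero]
  | tmul x m =>
    obtain ⟨x', rfl⟩ := exists_toPr n A B x
    have hx : x' ∈ Submodule.span B (Set.range (PP16.dn n A B)) := by
      rw [Groth.Agent.S3805.result]
      trivial
    exact u_unique_aux n A B M N u u' h1 h1' h2 x' hx m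
  | add t t' ht ht' => rw [map_add, map_add, ht, ht']

/-- `m ↦ u (x ⊗ m)` -/
noncomputable def Dx (u : PP16.PM n A B M →+ N)
    (h1 : ∀ (b : B) (t : PP16.PM n A B M), u (algebraMap B (PP16.P n A B) b • t) = b • u t)
    (x : PP16.P n A B) : M →ₗ[A] N where
  toFun m := u (toPr n A B x ⊗ₜ[B] m)
  map_add' m m' := by rw [TensorProduct.tmul_add, map_add]
  map_smul' a m := by
    have e : toPr n A B x ⊗ₜ[B] (a • m) =
        algebraMap B (PP16.P n A B) (algebraMap A B a) • (toPr n A B x ⊗ₜ[B] m) := by
      rw [← algebraMap_smul B a m, ← TensorProduct.smul_tmul, TensorProduct.smul_tmul',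
        smul_toPr, psmul_toPr, AlgHom.commutes, ← IsScalarTower.algebraMap_apply]
    rw [RingHom.id_apply, e, h1, algebraMap_smul]

theorem Dx_apply (u : PP16.PM n A B M →+ N)
    (h1 : ∀ (b : B) (t : PP16.PM n A B M), u (algebraMap B (PP16.P n A B) b • t) = b • u t)
    (x : PP16.P n A B) (m : M) :
    Dx n A B M N u h1 x m = u (toPr n A B x ⊗ₜ[B] m) := rfl

theorem commutator_Dx (u : PP16.PM n A B M →+ N)
    (h1 : ∀ (b : B) (t : PP16.PM n A B M), u (algebraMap B (PP16.P n A B) b • t) = b • u t)
    (x : PP16.P n A B) (b : B) :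
    commutator A B M N (Dx n A B M N u h1 x) b =
      Dx n A B M N u h1 (x * (PP16.dn n A B b - algebraMap B (PP16.P n A B) b)) := by
  apply LinearMap.ext
  intro m
  have e : x * (PP16.dn n A B b - algebraMap B (PP16.P n A B) b) =
      PP16.dn n A B b * x - algebraMap B (PP16.P n A B) b * x := by ring
  rw [commutator_apply, Dx_apply, Dx_apply, Dx_apply, ← h1, TensorProduct.smul_tmul',
    ← TensorProduct.smul_tmul, smul_toPr, psmul_toPr, ← map_sub, ← TensorProduct.sub_tmul,
    ← toPr_sub, e]

theorem zeta_mem (b : B) :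
    PP16.dn n A B b - algebraMap B (PP16.P n A B) b ∈ PP16.augIdeal n A B := by
  change Ideal.Quotient.mk ((KaehlerDifferential.ideal A B) ^ (n + 1)) ((1 : B) ⊗ₜ[A] b) -
    Ideal.Quotient.mk ((KaehlerDifferential.ideal A B) ^ (n + 1)) (b ⊗ₜ[A] (1 : B)) ∈ _
  rw [← map_sub]
  exact Ideal.mem_map_of_mem _ (KaehlerDifferential.one_smul_sub_smul_one_mem_ideal A b)

theorem augIdeal_pow : (PP16.augIdeal n A B) ^ (n + 1) = ⊥ := by
  have e := Ideal.map_pow (Ideal.Quotient.mk ((KaehlerDifferential.ideal A B) ^ (n + 1)))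
    (KaehlerDifferential.ideal A B) (n + 1)
  rw [Ideal.map_quotient_self] at e
  exact e.symm

theorem mul_zeta_mem (k : ℕ) (x : PP16.P n A B) (hx : x ∈ (PP16.augIdeal n A B) ^ k) (b : B) :
    x * (PP16.dn n A B b - algebraMap B (PP16.P n A B) b) ∈ (PP16.augIdeal n A B) ^ (k + 1) := by
  rw [pow_succ (PP16.augIdeal n A B) k]
  exact Ideal.mul_mem_mul hx (zeta_mem n A B b)

theorem isDiffOpLE_Dx (u : PP16.PM n A B M →+ N)
    (h1 : ∀ (b : B) (t : PP16.PM n A B M), u (algebraMap B (PP16.P n A B) b • t) = b • u t) :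
    ∀ (j k : ℕ), j + k = n → ∀ x ∈ (PP16.augIdeal n A B) ^ k,
      IsDiffOpLE A B M N j (Dx n A B M N u h1 x) := by
  intro j
  induction j with
  | zero =>
    intro k hk x hx
    rw [isDiffOpLE_zero_iff]
    intro b m
    have hc := commutator_Dx n A B M N u h1 x b
    have hz : x * (PP16.dn n A B b - algebraMap B (PP16.P n A B) b) = 0 := by
      have hmem := mul_zeta_mem n A B k x hx b
      have hk' : k = n := by omega
      rw [hk', augIdeal_pow] at hmem
      exact (Submodule.mem_bot _).mp hmem
    have hcm := LinearMap.congr_fun hc m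
    rw [commutator_apply, hz] at hcm
    have h0 : Dx n A B M N u h1 0 m = 0 := by
      rw [Dx_apply, toPr_zero, TensorProduct.zero_tmul, map_zero]
    rw [h0] at hcm
    exact sub_eq_zero.mp hcm
  | succ j ih =>
    intro k hk x hx
    rw [isDiffOpLE_succ_iff]
    intro b
    rw [commutator_Dx]
    exact ih (k + 1) (by omega) _ (mul_zeta_mem n A B k x hx b)

end helpers

/-- Let B be an A-algebra, M and N two B-modules and D : M → N an A-linear map. Let P^n(M) = P^n_{B/A}
⊗_B M, the tensor product formed with the B-module structure of P^n_{B/A} through d^n, regarded as a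
B-module through the first factor of P^n_{B/A}, with d^n_M : M → P^n(M), m ↦ 1 ⊗ m. Then D is a
differential operator of order at most n relative to A (order defined through iterated commutators
with multiplication by elements of B) if and only if there is exactly one additive map u : P^n(M) →
N which is B-linear for the first-factor structure and satisfies u(1 ⊗ m) = D(m) for all m ∈ M. -/
theorem result (n : ℕ) (A B : Type u) [CommRing A] [CommRing B] [Algebra A B]
    (M N : Type u) [AddCommGroup M] [Module A M] [Module B M] [IsScalarTower A B M]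
    [AddCommGroup N] [Module A N] [Module B N] [IsScalarTower A B N] (D : M →ₗ[A] N) :
    Diff16.IsDiffOpLE A B M N n D ↔
      ∃! u : PP16.PM n A B M →+ N,
        (∀ (b : B) (t : PP16.PM n A B M), u (algebraMap B (PP16.P n A B) b • t) = b • u t) ∧
          ∀ m : M, u (PP16.dM n A B M m) = D m := by
  constructor
  · intro hD
    refine ⟨uOf n A B M N D hD, ⟨uOf_linear n A B M N D hD, uOf_dM n A B M N D hD⟩, ?_⟩
    rintro u' ⟨h1', h2'⟩
    refine u_unique n A B M N u' (uOf n A B M N D hD) h1' (uOf_linear n A B M N D hD) ?_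
    intro m
    rw [h2', uOf_dM]
  · rintro ⟨u, ⟨h1, h2⟩, -⟩
    have h := isDiffOpLE_Dx n A B M N u h1 n 0 (by omega) 1
      (by rw [pow_zero (PP16.augIdeal n A B), Ideal.one_eq_top]; trivial)
    have e : Dx n A B M N u h1 1 = D := by
      apply LinearMap.ext
      intro m
      rw [Dx_apply]
      exact h2 m
    rw [e] at h
    exact h


end Groth.Agent.S3815
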