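import Groth.Statements.S3825
import Groth.Agent.S3824

set_option autoImplicit false
universe u
open QReg16

namespace Groth.Agent.S3825

section aux
open MvPolynomial

/-- the linear form `Σ_i a_i X_i` -/
noncomputable def linv {R : Type*} [CommRing R] {n : ℕ} (a : Fin n → R) : MvPolynomial (Fin n) R :=
  ∑ j, C (a j) * X j

theorem linv_homog {R : Type*} [CommRing R] {n : ℕ} (a : Fin n → R) : (linv a).IsHomogeneous 1 :=
  IsHomogeneous.sum _ _ _ fun j _ => (isHomogeneous_X _ j).C_mul (a j)

theorem eval_linv {R : Type*} [CommRing R] {n : ℕ} (f : Fin n → R) (a : Fin n → R) :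
    eval f (linv a) = ∑ j, a j * f j := by
  simp [linv]

theorem coeff_linv {R : Type*} [CommRing R] {n : ℕ} (a : Fin n → R) (k : Fin n) :
    coeff (Finsupp.single k 1) (linv a) = a k := by
  classical
  simp only [linv, coeff_sum, coeff_C_mul, coeff_X']
  rw [Finset.sum_eq_single k]
  · simp
  · intro j _ hj
    rw [if_neg, mul_zero]
    intro h
    exact hj (Finsupp.single_left_injective one_ne_zero h)
  · intro h
    exact absurd (Finset.mem_univ k) h

theorem cot_of_qr {A : Type u} [CommRing A] {m : ℕ} (I : Ideal A) (f : Fin m → I)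
    (hq : CAlgX.IsQuasiRegular (fun i => (f i : A)))
    (hI : Ideal.span (Set.range fun i => (f i : A)) = I) :
    LinearIndependent (A ⧸ I) (fun i => I.toCotangent (f i)) ∧
      Submodule.span (A ⧸ I) (Set.range fun i => I.toCotangent (f i)) = ⊤ := by
  classical
  have hsm : ∀ (a : A) (y : I.Cotangent), Ideal.Quotient.mk I a • y = a • y := by
    intro a y
    exact algebraMap_smul (A ⧸ I) a y
  constructor
  · rw [Fintype.linearIndependent_iff]
    intro c hc i
    choose a ha using fun i => Ideal.Quotient.mk_surjective (I := I) (c i)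
    have h1 : ∀ i, c i • I.toCotangent (f i) = I.toCotangent (a i • f i) := by
      intro i
      rw [← ha i, map_smul, hsm]
    rw [Finset.sum_congr rfl (fun i _ => h1 i), ← map_sum, Ideal.toCotangent_eq_zero] at hc
    have hval : ((∑ i, a i • f i : I) : A) = ∑ i, a i * (f i : A) := by
      simp
    rw [hval] at hc
    have hc2 : MvPolynomial.eval (fun i => (f i : A)) (linv a) ∈
        Ideal.span (Set.range fun i => (f i : A)) ^ (1 + 1) := by
      rw [eval_linv, hI]
      exact hc
    have := hq 1 (linv a) (linv_homog a) hc2 (Finsupp.single i 1)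
    rw [coeff_linv, hI] at this
    rw [← ha i]
    exact Ideal.Quotient.eq_zero_iff_mem.2 this
  · rw [eq_top_iff]
    rintro y -
    obtain ⟨x, rfl⟩ := Ideal.toCotangent_surjective I y
    have hx : (x : A) ∈ Ideal.span (Set.range fun i => (f i : A)) := by
      rw [hI]; exact x.2
    obtain ⟨a, ha⟩ := Ideal.mem_span_range_iff_exists_fun.1 hx
    have hx2 : x = ∑ i, a i • f i := by
      apply Subtype.ext
      rw [← ha]
      simp
    rw [hx2, map_sum]
    refine Submodule.sum_mem _ fun i _ => ?_
    rw [map_smul, ← hsm]
    exact Submodule.smul_mem _ _ (Submodule.subset_span ⟨i, rfl⟩)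

end aux

/-- a) iff c) (affine local form): let A be a local ring and I a proper ideal generated by some
quasi-regular sequence. For a finite family (f_i) of elements of I, the following are equivalent:
(a) (f_i) is a quasi-regular sequence generating I; (c) the classes of the f_i form a basis of the
A/I-module I/I² (equivalently, b): (f_i) is a minimal system of generators of I). -/
theorem result {A : Type u} [CommRing A] [IsLocalRing A]
    (I : Ideal A) (hI : I ≤ IsLocalRing.maximalIdeal A)
    (hq : ∃ (r : ℕ) (g : Fin r → A), CAlgX.IsQuasiRegular g ∧ Ideal.span (Set.range g) = I)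
    {m : ℕ} (f : Fin m → I) :
    (CAlgX.IsQuasiRegular (fun i => (f i : A)) ∧ Ideal.span (Set.range fun i => (f i : A)) = I) ↔
      (LinearIndependent (A ⧸ I) (fun i => I.toCotangent (f i)) ∧
        Submodule.span (A ⧸ I) (Set.range fun i => I.toCotangent (f i)) = ⊤) := by
  classical
  constructor
  · rintro ⟨h1, h2⟩
    exact cot_of_qr I f h1 h2
  · rintro ⟨hli, hsp⟩
    obtain ⟨r, g, hg, hgI⟩ := hq
    have hsm : ∀ (a : A) (y : I.Cotangent), Ideal.Quotient.mk I a • y = a • y := by
      intro a y
      exact algebraMap_smul (A ⧸ I) a y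
    -- f generates I (Nakayama)
    have hle : Ideal.span (Set.range fun i => (f i : A)) ≤ I := by
      rw [Ideal.span_le]
      rintro _ ⟨i, rfl⟩
      exact (f i).2
    have hspan : Ideal.span (Set.range fun i => (f i : A)) = I := by
      apply le_antisymm hle
      have hfg : (I : Submodule A A).FG := by
        rw [← hgI]
        exact Submodule.fg_span (Set.finite_range g)
      have hjac : I ≤ Ideal.jacobson ⊥ := by
        rw [IsLocalRing.jacobson_eq_maximalIdeal ⊥ bot_ne_top]
        exact hI
      refine Submodule.le_of_le_smul_of_le_jacobson_bot hfg hjac ?_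
      intro x hx
      have hy : I.toCotangent ⟨x, hx⟩ ∈
          Submodule.span (A ⧸ I) (Set.range fun i => I.toCotangent (f i)) := by
        rw [hsp]; exact Submodule.mem_top
      obtain ⟨c, hc⟩ := (Submodule.mem_span_range_iff_exists_fun (A ⧸ I)).1 hy
      choose a ha using fun i => Ideal.Quotient.mk_surjective (I := I) (c i)
      have h1 : ∀ i, c i • I.toCotangent (f i) = I.toCotangent (a i • f i) := by
        intro i
        rw [← ha i, map_smul, hsm]
      rw [Finset.sum_congr rfl (fun i _ => h1 i), ← map_sum, Ideal.toCotangent_eq] at hc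
      have hval : ((∑ i, a i • f i : I) : A) = ∑ i, a i * (f i : A) := by
        simp
      rw [hval] at hc
      have hx2 : x = ∑ i, a i * (f i : A) + (x - ∑ i, a i * (f i : A)) := by ring
      rw [hx2]
      refine Submodule.add_mem_sup ?_ ?_
      · exact Ideal.sum_mem _ fun i _ =>
          Ideal.mul_mem_left _ _ (Ideal.subset_span ⟨i, rfl⟩)
      · have : x - ∑ i, a i * (f i : A) ∈ I ^ 2 := by
          have := (I ^ 2).neg_mem hc
          rwa [neg_sub] at this
        rw [pow_two] at this
        exact this
    -- compare lengths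
    have hgI' : ∀ i, g i ∈ I := fun i => by
      rw [← hgI]; exact Ideal.subset_span ⟨i, rfl⟩
    obtain ⟨hli', hsp'⟩ := cot_of_qr I (fun i => (⟨g i, hgI' i⟩ : I)) hg hgI
    have hne : I ≠ ⊤ := by
      intro h
      rw [h] at hI
      exact (IsLocalRing.maximalIdeal.isMaximal A).ne_top (top_le_iff.1 hI)
    have : Nontrivial (A ⧸ I) := Ideal.Quotient.nontrivial_iff.2 hne
    have hmr : m = r := by
      have e := (Module.Basis.mk hli hsp.ge).indexEquiv (Module.Basis.mk hli' hsp'.ge)
      have := Fintype.card_congr e
      simpa using this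
    subst hmr
    exact ⟨Groth.Agent.S3824.result g (fun i => (f i : A)) hg (hspan.trans hgI.symm), hspan⟩

end Groth.Agent.S3825
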