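import Groth.Statements.S3827
import Groth.Agent.H19.QReg

set_option autoImplicit false
universe u
open QReg16

namespace Groth.Agent.S3827

/-- Let A be a ring, J an ideal, A' = A/J and f_1, …, f_r elements of A forming an A'-regular sequence
(each f_i a non-zero-divisor on A' modulo the previous ones); let R be the ideal generated by the
f_i. Then for all integers 0 < n ≤ N one has J ∩ Rⁿ = J·Rⁿ + (J ∩ R^N). -/
theorem result {A : Type u} [CommRing A] (J : Ideal A) {r : ℕ} (f : Fin r → A)
    (hf : RingTheory.Sequence.IsWeaklyRegular (A ⧸ J) (List.ofFn f)) (n N : ℕ) (hn : 0 < n) (hnN : n ≤ N) :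
    J ⊓ Ideal.span (Set.range f) ^ n =
      J * Ideal.span (Set.range f) ^ n ⊔ J ⊓ Ideal.span (Set.range f) ^ N := by
  apply le_antisymm
  · have key : ∀ k : ℕ, J ⊓ Ideal.span (Set.range f) ^ n ≤
        J * Ideal.span (Set.range f) ^ n ⊔ J ⊓ Ideal.span (Set.range f) ^ (n + k) := by
      intro k
      induction k with
      | zero => exact le_sup_right
      | succ k ih =>
        refine ih.trans ?_
        refine sup_le le_sup_left ?_
        refine (Groth.Agent.H19.QReg.inf_pow_le_step J f hf (n + k)).trans ?_
        refine sup_le ?_ le_sup_right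
        exact le_sup_of_le_left
          (Ideal.mul_mono_right (Ideal.pow_le_pow_right (Nat.le_add_right n k)))
    obtain ⟨k, rfl⟩ := Nat.exists_eq_add_of_le hnN
    exact key k
  · exact sup_le (Ideal.mul_le_inf)
      (inf_le_inf_left J (Ideal.pow_le_pow_right hnN))

end Groth.Agent.S3827
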