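import Groth.Statements.S3828
import Groth.Agent.S3827

set_option autoImplicit false
universe u
open QReg16

namespace Groth.Agent.S3828

/-- Let A be a Noetherian ring, J an ideal of A, and f_1, …, f_r elements of A forming a weakly regular
sequence on A/J (each f_i a nonzerodivisor on A/(J + (f_1, …, f_{i−1}))) and generating an ideal R
contained in the Jacobson radical of A; put Q = J + R. Then J ∩ Rⁿ = J·Rⁿ for every n > 0, and J ∩
Q² = J·Q (equivalently, the canonical map J/JQ → Q/Q² is injective). -/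
theorem result {A : Type u} [CommRing A] [IsNoetherianRing A] (J : Ideal A)
    {r : ℕ} (f : Fin r → A) (hf : RingTheory.Sequence.IsWeaklyRegular (A ⧸ J) (List.ofFn f))
    (hrad : Ideal.span (Set.range f) ≤ (⊥ : Ideal A).jacobson) :
    (∀ n : ℕ, 0 < n → J ⊓ Ideal.span (Set.range f) ^ n = J * Ideal.span (Set.range f) ^ n) ∧
      J ⊓ (J ⊔ Ideal.span (Set.range f)) ^ 2 = J * (J ⊔ Ideal.span (Set.range f)) := by
  have part1 : ∀ n : ℕ, 0 < n →
      J ⊓ Ideal.span (Set.range f) ^ n = J * Ideal.span (Set.range f) ^ n := by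
    intro n hn
    apply le_antisymm _ Ideal.mul_le_inf
    intro x hx
    have hxN : ∀ N, n ≤ N →
        x ∈ J * Ideal.span (Set.range f) ^ n ⊔ J ⊓ Ideal.span (Set.range f) ^ N := fun N hN => by
      rw [← Groth.Agent.S3827.result J f hf n N hn hN]; exact hx
    have hK := Ideal.iInf_pow_smul_eq_bot_of_le_jacobson (I := Ideal.span (Set.range f))
      (M := A ⧸ (J * Ideal.span (Set.range f) ^ n)) hrad
    have hmem : (Ideal.Quotient.mk (J * Ideal.span (Set.range f) ^ n) x) ∈
        (⨅ i : ℕ, Ideal.span (Set.range f) ^ i •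
          (⊤ : Submodule A (A ⧸ (J * Ideal.span (Set.range f) ^ n)))) := by
      rw [Submodule.mem_iInf]
      intro i
      obtain ⟨a, ha, b, hb, hab⟩ := Submodule.mem_sup.1 (hxN (max n i) (le_max_left _ _))
      have hb' : b ∈ Ideal.span (Set.range f) ^ i :=
        Ideal.pow_le_pow_right (le_max_right n i) hb.2
      have hxb : Ideal.Quotient.mk (J * Ideal.span (Set.range f) ^ n) x =
          b • (1 : A ⧸ (J * Ideal.span (Set.range f) ^ n)) := by
        rw [Algebra.smul_def, mul_one, Ideal.Quotient.algebraMap_eq, ← hab, map_add,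
          Ideal.Quotient.eq_zero_iff_mem.2 ha, zero_add]
      rw [hxb]
      exact Submodule.smul_mem_smul hb' Submodule.mem_top
    rw [hK, Submodule.mem_bot, Ideal.Quotient.eq_zero_iff_mem] at hmem
    exact hmem
  refine ⟨part1, ?_⟩
  apply le_antisymm
  · intro x hx
    obtain ⟨hxJ, hxQ⟩ := hx
    have hQ2 : (J ⊔ Ideal.span (Set.range f)) ^ 2 ≤
        J * (J ⊔ Ideal.span (Set.range f)) ⊔ Ideal.span (Set.range f) ^ 2 := by
      rw [sq (J ⊔ Ideal.span (Set.range f)), Ideal.mul_le]
      intro a ha b hb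
      obtain ⟨a1, ha1, a2, ha2, rfl⟩ := Submodule.mem_sup.1 ha
      obtain ⟨b1, hb1, b2, hb2, rfl⟩ := Submodule.mem_sup.1 hb
      have h1 : a1 * (b1 + b2) ∈ J * (J ⊔ Ideal.span (Set.range f)) := Ideal.mul_mem_mul ha1 hb
      have h2 : b1 * a2 ∈ J * (J ⊔ Ideal.span (Set.range f)) :=
        Ideal.mul_mem_mul hb1 (Ideal.mem_sup_right ha2)
      have h3 : a2 * b2 ∈ Ideal.span (Set.range f) ^ 2 := by
        rw [sq]; exact Ideal.mul_mem_mul ha2 hb2
      have h4 : (a1 + a2) * (b1 + b2) = a1 * (b1 + b2) + b1 * a2 + a2 * b2 := by ring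
      rw [h4]
      exact Ideal.add_mem _ (Ideal.mem_sup_left (Ideal.add_mem _ h1 h2)) (Ideal.mem_sup_right h3)
    obtain ⟨a, ha, b, hb, hab⟩ := Submodule.mem_sup.1 (hQ2 hxQ)
    have haJ : a ∈ J := Ideal.mul_le_left ha
    have hbJ : b ∈ J := by
      have hbx : b = x - a := by rw [← hab]; ring
      rw [hbx]; exact sub_mem hxJ haJ
    have hb2 : b ∈ J * Ideal.span (Set.range f) ^ 2 := by
      rw [← part1 2 (by norm_num)]; exact ⟨hbJ, hb⟩
    have hb3 : b ∈ J * (J ⊔ Ideal.span (Set.range f)) :=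
      Ideal.mul_mono_right ((Ideal.pow_le_self two_ne_zero).trans le_sup_right) hb2
    rw [← hab]
    exact Ideal.add_mem _ ha hb3
  · refine le_inf Ideal.mul_le_left ?_
    rw [sq]
    exact Ideal.mul_mono_left le_sup_left

end Groth.Agent.S3828
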