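import Groth.Statements.S3829
import Mathlib
import Groth.Agent.S3700
import Groth.Agent.H70.ClosedImmStalk

set_option autoImplicit false
universe u
open CategoryTheory CategoryTheory.Limits AlgebraicGeometry TopologicalSpace
open Unram17

namespace Groth.Agent.S3829



/-- c) implies a) (case of a closed immersion): let f : X → S and h : Y → S be locally of finite
presentation, j : Y → X a closed immersion over S and y a point of Y. If h is smooth on a
neighbourhood of y and, on some affine open neighbourhood of j(y) in X, the ideal of j is generated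
by a regular sequence (j is a regular immersion near y), then f is smooth on an open neighbourhood
of j(y). -/
theorem result {X Y S : Scheme.{u}} (f : X ⟶ S) (h : Y ⟶ S)
    [LocallyOfFinitePresentation f] [LocallyOfFinitePresentation h] (j : Y ⟶ X) [IsClosedImmersion j]
    (hj : j ≫ f = h) (y : ↥Y) (hy : ∃ V : Y.Opens, y ∈ V ∧ Smooth (V.ι ≫ h))
    (hreg : ∃ (U : X.Opens) (hU : IsAffineOpen U), j y ∈ U ∧
      ∃ rs : List Γ(X, U), RingTheory.Sequence.IsRegular Γ(X, U) rs ∧ j.ker.ideal ⟨U, hU⟩ = Ideal.ofList rs) :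
    ∃ U : X.Opens, j y ∈ U ∧ Smooth (U.ι ≫ f) := by
  classical
  obtain ⟨V, hyV, hVsm⟩ := hy
  obtain ⟨U, hU, hjyU, rs, hrs, hker⟩ := hreg
  subst hj
  have hY : y ∈ (j ≫ f).smoothLocus := by
    have h1 : (V.ι ≫ (j ≫ f)).smoothLocus = ⊤ := Scheme.Hom.smoothLocus_eq_top _
    rw [← Scheme.Hom.preimage_smoothLocus_eq] at h1
    have h2 : (⟨y, hyV⟩ : V) ∈ V.ι ⁻¹ᵁ (j ≫ f).smoothLocus := h1 ▸ trivial
    exact h2
  refine ⟨f.smoothLocus, ?_,
    Groth.Agent.H49.SmoothFibre.smooth_comp_of_le_smoothLocus f.smoothLocus.ι f (fun z => z.2)⟩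
  rw [Scheme.Hom.mem_smoothLocus] at hY ⊢
  rw [Groth.Agent.H29.FiberStalkAt.stalkMap_comp_hom j f y] at hY
  have hψ : Function.Surjective (j.stalkMap y).hom := j.stalkMap_surjective y
  have hregJ : CInt.IsRegularIdeal (RingHom.ker (j.stalkMap y).hom) := by
    letI : Algebra Γ(X, U) (X.presheaf.stalk (j y)) :=
      X.presheaf.algebra_section_stalk ⟨j y, hjyU⟩
    haveI := hU.isLocalization_stalk ⟨j y, hjyU⟩
    have hk := Groth.Agent.H70.ClosedImmStalk.ker_stalkMap_of_isClosedImmersion j ⟨U, hU⟩ y hjyU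
    have hk' : RingHom.ker (j.stalkMap y).hom =
        (j.ker.ideal ⟨U, hU⟩).map (algebraMap Γ(X, U) (X.presheaf.stalk (j y))) := hk
    have hne : RingHom.ker (j.stalkMap y).hom ≠ ⊤ := RingHom.ker_ne_top _
    refine ⟨rs.map (algebraMap Γ(X, U) (X.presheaf.stalk (j y))), ?_, ?_⟩
    · refine RingTheory.Sequence.IsWeaklyRegular.isRegular_of_isLocalization_of_mem _
        (hU.primeIdealOf ⟨j y, hjyU⟩).asIdeal hrs.toIsWeaklyRegular ?_
      intro r hr
      rw [← IsLocalization.AtPrime.to_map_mem_maximal_iff (X.presheaf.stalk (j y))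
        (hU.primeIdealOf ⟨j y, hjyU⟩).asIdeal]
      have hmem : algebraMap Γ(X, U) (X.presheaf.stalk (j y)) r ∈
          RingHom.ker (j.stalkMap y).hom := by
        rw [hk']
        exact Ideal.mem_map_of_mem _ (hker ▸ Ideal.subset_span hr)
      exact IsLocalRing.le_maximalIdeal hne hmem
    · rw [hk', hker, Ideal.map_ofList]
  obtain ⟨T, hT, hsT, -⟩ := exists_isAffineOpen_mem_and_subset
    (x := f (j y)) (U := (⊤ : S.Opens)) trivial
  obtain ⟨W, hW, hxW, hWT⟩ := exists_isAffineOpen_mem_and_subset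
    (x := j y) (U := f ⁻¹ᵁ T) hsT
  letI : Algebra Γ(S, T) Γ(X, W) := (f.appLE T W hWT).hom.toAlgebra
  haveI : Algebra.FinitePresentation Γ(S, T) Γ(X, W) := f.finitePresentation_appLE hT hW hWT
  letI : Algebra Γ(X, W) (X.presheaf.stalk (j y)) :=
    X.presheaf.algebra_section_stalk ⟨j y, hxW⟩
  haveI := hW.isLocalization_stalk ⟨j y, hxW⟩
  letI : Algebra Γ(S, T) (S.presheaf.stalk (f (j y))) :=
    S.presheaf.algebra_section_stalk ⟨f (j y), hsT⟩
  haveI := hT.isLocalization_stalk ⟨f (j y), hsT⟩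
  refine Groth.Agent.S3700.ring_backward (A := Γ(S, T)) (B := Γ(X, W))
    (hT.primeIdealOf ⟨f (j y), hsT⟩).asIdeal
    (hW.primeIdealOf ⟨j y, hxW⟩).asIdeal _ _ hψ ?_ hY hregJ
  intro a
  simp only [RingHom.algebraMap_toAlgebra]
  erw [Scheme.Hom.germ_stalkMap_apply]
  simp only [Scheme.Hom.appLE, CommRingCat.comp_apply]
  exact TopCat.Presheaf.germ_res_apply _ _ _ _ _

end Groth.Agent.S3829
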