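import Groth.Statements.S3830
import Mathlib

set_option autoImplicit false
universe u
open Unram17

namespace Groth.Agent.S3830


open Polynomial in
theorem aux (A B : Type u) [CommRing A] [CommRing B] [Algebra A B]
    (q : Ideal B) [q.IsPrime] [Algebra.QuasiFiniteAt A q] (f : B) (hfq : f ∉ q) (m : ℕ)
    (alg : Algebra (MvPolynomial (Fin (m + 1)) A) (Localization.Away f))
    (tower : IsScalarTower A (MvPolynomial (Fin (m + 1)) A) (Localization.Away f))
    (hse : Algebra.IsStandardEtale (MvPolynomial (Fin (m + 1)) A) (Localization.Away f)) : False := by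
  classical
  let e : MvPolynomial (Fin (m + 1)) A ≃ₐ[A] (MvPolynomial (Fin m) A)[X] :=
    MvPolynomial.finSuccEquiv A m
  let g : (MvPolynomial (Fin m) A)[X] →+* Localization.Away f :=
    (algebraMap (MvPolynomial (Fin (m + 1)) A) (Localization.Away f)).comp e.symm.toRingHom
  have hgflat : g.Flat := by
    refine RingHom.Flat.comp (RingHom.Flat.of_bijective e.symm.bijective) ?_
    show (algebraMap (MvPolynomial (Fin (m + 1)) A) (Localization.Away f)).Flat
    rw [RingHom.flat_algebraMap_iff]
    infer_instance
  letI : Algebra ((MvPolynomial (Fin m) A)[X]) (Localization.Away f) := g.toAlgebra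
  letI : Algebra (MvPolynomial (Fin m) A) (Localization.Away f) := (g.comp C).toAlgebra
  haveI : IsScalarTower (MvPolynomial (Fin m) A) ((MvPolynomial (Fin m) A)[X])
      (Localization.Away f) := IsScalarTower.of_algebraMap_eq (fun _ => rfl)
  haveI : IsScalarTower A (MvPolynomial (Fin m) A) (Localization.Away f) := by
    refine IsScalarTower.of_algebraMap_eq (fun a => ?_)
    show _ = algebraMap (MvPolynomial (Fin (m + 1)) A) (Localization.Away f)
      (e.symm (C (algebraMap A (MvPolynomial (Fin m) A) a)))
    have h1 : (C (algebraMap A (MvPolynomial (Fin m) A) a) : (MvPolynomial (Fin m) A)[X]) =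
        algebraMap A ((MvPolynomial (Fin m) A)[X]) a := by
      rw [IsScalarTower.algebraMap_apply A (MvPolynomial (Fin m) A) ((MvPolynomial (Fin m) A)[X])]
      rfl
    rw [h1, AlgEquiv.commutes,
      ← IsScalarTower.algebraMap_apply A (MvPolynomial (Fin (m + 1)) A) (Localization.Away f)]
  haveI : Module.Flat ((MvPolynomial (Fin m) A)[X]) (Localization.Away f) := hgflat
  haveI hqf : (q.map (algebraMap B (Localization.Away f))).IsPrime :=
    IsLocalization.isPrime_of_isPrime_disjoint (.powers f) _ _ ‹_›
      ((Ideal.disjoint_powers_iff_notMem_of_isPrime _).mpr hfq)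
  have hcomap : q = (q.map (algebraMap B (Localization.Away f))).comap
      (IsScalarTower.toAlgHom A B (Localization.Away f)).toRingHom :=
    (IsLocalization.comap_map_of_isPrime_disjoint (.powers f) _ ‹_›
      ((Ideal.disjoint_powers_iff_notMem_of_isPrime _).mpr hfq)).symm
  haveI : Algebra.QuasiFiniteAt A (q.map (algebraMap B (Localization.Away f))) :=
    Algebra.QuasiFiniteAt.of_surjectiveOnStalks q (IsScalarTower.toAlgHom A B (Localization.Away f))
      (RingHom.surjectiveOnStalks_of_isLocalization (Submonoid.powers f) (Localization.Away f))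
      _ hcomap
  haveI : Algebra.QuasiFiniteAt (MvPolynomial (Fin m) A)
      (q.map (algebraMap B (Localization.Away f))) :=
    Algebra.QuasiFinite.of_restrictScalars (R := A) (S := MvPolynomial (Fin m) A)
      (T := Localization.AtPrime (q.map (algebraMap B (Localization.Away f))))
  have hlt := Polynomial.map_under_lt_comap_of_weaklyQuasiFiniteAt
    (IsScalarTower.toAlgHom (MvPolynomial (Fin m) A) ((MvPolynomial (Fin m) A)[X])
      (Localization.Away f)) (q.map (algebraMap B (Localization.Away f)))
  obtain ⟨P, hPle, hPprime, hPover⟩ := Ideal.exists_ideal_le_liesOver_of_le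
    (p := ((q.map (algebraMap B (Localization.Away f))).under (MvPolynomial (Fin m) A)).map C)
    (q := (q.map (algebraMap B (Localization.Away f))).under ((MvPolynomial (Fin m) A)[X]))
    (q.map (algebraMap B (Localization.Away f))) hlt.le
  have hPunder : P.under (MvPolynomial (Fin m) A) =
      (q.map (algebraMap B (Localization.Away f))).under (MvPolynomial (Fin m) A) := by
    rw [← Ideal.under_under (B := (MvPolynomial (Fin m) A)[X]) P, ← hPover.over]
    ext a
    rw [Ideal.under_def, Ideal.mem_comap, Ideal.mem_map_C_iff]
    constructor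
    · intro h
      simpa using h 0
    · intro h n
      show (C a).coeff n ∈ _
      rw [Polynomial.coeff_C]
      split_ifs
      · exact h
      · exact zero_mem _
  have hPeq : P = q.map (algebraMap B (Localization.Away f)) :=
    Algebra.QuasiFiniteAt.eq_of_le_of_under_eq (R := MvPolynomial (Fin m) A) hPle hPunder
  have h2 := hPover.over
  rw [hPeq] at h2
  exact hlt.ne h2


/-- b) implies a) (affine pointwise form): let B be an A-algebra of finite presentation and q a prime of
B. If B is smooth over A at q and quasi-finite over A at q, then B is étale over A at q. -/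
theorem result (A B : Type u) [CommRing A] [CommRing B] [Algebra A B]
    [Algebra.FinitePresentation A B] (q : Ideal B) [q.IsPrime] [Algebra.QuasiFiniteAt A q]
    (h : Algebra.IsSmoothAt A q) : Algebra.IsEtaleAt A q := by
  classical
  haveI : Algebra.IsSmoothAt A q := h
  obtain ⟨f, hfq, n, alg, tower, hse⟩ :=
    Algebra.IsSmoothAt.exists_isStandardEtale_mvPolynomial (R := A) (p := q)
  have hmem : (⟨q, inferInstance⟩ : PrimeSpectrum B) ∈
      (PrimeSpectrum.basicOpen f : Set (PrimeSpectrum B)) := hfq
  rcases n with _ | m
  · -- relative dimension zero: étale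
    haveI : Algebra.FormallyEtale A (MvPolynomial (Fin 0) A) :=
      Algebra.FormallyEtale.of_equiv (MvPolynomial.isEmptyAlgEquiv A (Fin 0)).symm
    haveI : Algebra.FormallyEtale A (Localization.Away f) :=
      Algebra.FormallyEtale.comp A (MvPolynomial (Fin 0) A) (Localization.Away f)
    exact (Algebra.basicOpen_subset_etaleLocus_iff (R := A) (A := B) (f := f)).mpr
      inferInstance hmem
  · exfalso
    exact Groth.Agent.S3830.aux A B q f hfq m alg tower hse

end Groth.Agent.S3830
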