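import Groth.Statements.S3833
-- import your own Groth.Agent.* helpers here

set_option autoImplicit false
universe u
open CategoryTheory CategoryTheory.Limits AlgebraicGeometry TopologicalSpace
open Rat20

namespace Groth.Agent.S3833

/-- Stated for a global section, the case of a section over an open subset U being the same statement
for the open subscheme U: let X be a scheme and s a global section of O_X which is regular in the
sense that its germ at every point x is a non-zero-divisor of the local ring O_{X,x} (on an affine
scheme this is the same as being a non-zero-divisor of Γ(X, O_X), but not in general). Then the open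
subset X_s where s is invertible is schematically dense in X. -/
theorem result (X : Scheme.{u}) (s : Γ(X, ⊤))
    (hs : ∀ x : ↥X, (X.presheaf.germ ⊤ x trivial s) ∈ nonZeroDivisors ↑(X.presheaf.stalk x)) :
    CInt.IsSchematicallyDense (X.basicOpen s) := by
  intro V
  rw [injective_iff_map_eq_zero]
  intro t ht
  refine TopCat.Presheaf.section_ext X.sheaf V t 0 (fun x hxV => ?_)
  rw [map_zero]
  obtain ⟨_, ⟨W, hW : IsAffineOpen W, rfl⟩, hxW, hWV : W ≤ V⟩ :=
    X.isBasis_affineOpens.exists_subset_of_mem_open hxV V.2
  set t' : Γ(X, W) := X.presheaf.map (homOfLE hWV).op t with ht'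
  set s' : Γ(X, W) := X.presheaf.map (homOfLE (le_top : W ≤ ⊤)).op s with hs'
  have hb : X.basicOpen s' = W ⊓ X.basicOpen s := by
    rw [hs']
    exact X.basicOpen_res s (homOfLE (le_top : W ≤ ⊤)).op
  have hle : X.basicOpen s' ≤ V ⊓ X.basicOpen s := by
    rw [hb]
    exact inf_le_inf_right _ hWV
  have hres : X.presheaf.map (homOfLE (X.basicOpen_le s')).op t' = 0 := by
    have h1 : X.presheaf.map (homOfLE (X.basicOpen_le s')).op t' =
        X.presheaf.map (homOfLE hle).op
          (X.presheaf.map (homOfLE (inf_le_left : V ⊓ X.basicOpen s ≤ V)).op t) := by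
      rw [ht']
      simp only [← CommRingCat.comp_apply, ← Functor.map_comp]
      rfl
    rw [h1, ht, map_zero]
  obtain ⟨n, hn⟩ := exists_pow_mul_eq_zero_of_res_basicOpen_eq_zero_of_isAffineOpen X hW t' s' hres
  have hg : X.presheaf.germ W x hxW (s' ^ n * t') = 0 := by rw [hn, map_zero]
  rw [map_mul, map_pow] at hg
  have hs1 : X.presheaf.germ W x hxW s' = X.presheaf.germ ⊤ x trivial s := by
    rw [hs']
    exact X.presheaf.germ_res_apply (homOfLE (le_top : W ≤ ⊤)) x hxW s
  have ht1 : X.presheaf.germ W x hxW t' = X.presheaf.germ V x hxV t := by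
    rw [ht']
    exact X.presheaf.germ_res_apply (homOfLE hWV) x hxW t
  rw [hs1, ht1] at hg
  exact (mem_nonZeroDivisors_iff.mp (pow_mem (hs x) n)).1 _ hg

end Groth.Agent.S3833
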