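import Groth.Statements.S3834
import Mathlib
import Groth.Agent.S3833
import Groth.Agent.S3842

set_option autoImplicit false
universe u
open CategoryTheory CategoryTheory.Limits AlgebraicGeometry TopologicalSpace
open Rat20

namespace Groth.Agent.S3834


/-- the ideal of global functions whose non-vanishing locus lies in `U` -/
def idealOf (X : Scheme.{u}) (U : X.Opens) : Ideal Γ(X, ⊤) where
  carrier := {a | X.basicOpen a ≤ U}
  zero_mem' := by
    show X.basicOpen (0 : Γ(X, ⊤)) ≤ U
    rw [Scheme.basicOpen_zero]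
    exact bot_le
  add_mem' := by
    intro a b ha hb
    exact (Scheme.basicOpen_add_le (X := X) (f := a) (g := b)).trans (sup_le ha hb)
  smul_mem' := by
    intro c a ha
    show X.basicOpen (c • a) ≤ U
    rw [smul_eq_mul, Scheme.basicOpen_mul]
    exact inf_le_right.trans ha

lemma mem_idealOf {X : Scheme.{u}} {U : X.Opens} {a : Γ(X, ⊤)} :
    a ∈ idealOf X U ↔ X.basicOpen a ≤ U := Iff.rfl

/-- the ideal of global functions whose non-vanishing locus misses `Z` -/
def vanIdeal (X : Scheme.{u}) (Z : Set X) : Ideal Γ(X, ⊤) where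
  carrier := {a | Disjoint (X.basicOpen a : Set X) Z}
  zero_mem' := by
    show Disjoint (X.basicOpen (0 : Γ(X, ⊤)) : Set X) Z
    rw [Scheme.basicOpen_zero, Opens.coe_bot]
    exact Set.empty_disjoint Z
  add_mem' := by
    intro a b ha hb
    show Disjoint (X.basicOpen (a + b) : Set X) Z
    have hsub : (X.basicOpen (a + b) : Set X) ⊆
        (X.basicOpen a : Set X) ∪ (X.basicOpen b : Set X) := by
      intro y hy
      have h1 : y ∈ ((X.basicOpen a ⊔ X.basicOpen b : X.Opens) : Set X) :=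
        Scheme.basicOpen_add_le (X := X) (f := a) (g := b) hy
      rwa [Opens.coe_sup] at h1
    exact Set.disjoint_of_subset_left hsub (Set.disjoint_union_left.mpr ⟨ha, hb⟩)
  smul_mem' := by
    intro c a ha
    show Disjoint (X.basicOpen (c • a) : Set X) Z
    rw [smul_eq_mul, Scheme.basicOpen_mul, Opens.coe_inf]
    exact Set.disjoint_of_subset_left Set.inter_subset_right ha

lemma mem_vanIdeal {X : Scheme.{u}} {Z : Set X} {a : Γ(X, ⊤)} :
    a ∈ vanIdeal X Z ↔ Disjoint (X.basicOpen a : Set X) Z := Iff.rfl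

lemma vanIdeal_isPrime (X : Scheme.{u}) (Z : Set X) (hZ : IsIrreducible Z) :
    (vanIdeal X Z).IsPrime := by
  refine ⟨?_, ?_⟩
  · intro h
    have h1 : (1 : Γ(X, ⊤)) ∈ vanIdeal X Z := by rw [h]; trivial
    rw [mem_vanIdeal, Scheme.basicOpen_one, Opens.coe_top] at h1
    obtain ⟨z, hz⟩ := hZ.1
    exact Set.disjoint_left.mp h1 (Set.mem_univ z) hz
  · intro a b hab
    rw [mem_vanIdeal, Scheme.basicOpen_mul, Opens.coe_inf] at hab
    by_contra hcon
    push Not at hcon
    obtain ⟨ha, hb⟩ := hcon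
    have ha' : (Z ∩ (X.basicOpen a : Set X)).Nonempty := by
      by_contra h
      apply ha
      rw [mem_vanIdeal, Set.disjoint_iff_inter_eq_empty, Set.inter_comm]
      exact Set.not_nonempty_iff_eq_empty.mp h
    have hb' : (Z ∩ (X.basicOpen b : Set X)).Nonempty := by
      by_contra h
      apply hb
      rw [mem_vanIdeal, Set.disjoint_iff_inter_eq_empty, Set.inter_comm]
      exact Set.not_nonempty_iff_eq_empty.mp h
    obtain ⟨z, hzZ, hza, hzb⟩ :=
      hZ.2 _ _ (X.basicOpen a).isOpen (X.basicOpen b).isOpen ha' hb'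
    exact Set.disjoint_left.mp hab ⟨hza, hzb⟩ hzZ

lemma dense_of_meets {T : Type*} [TopologicalSpace T] (W : Set T) (hW : IsOpen W)
    (h : ∀ Z ∈ irreducibleComponents T, (W ∩ Z).Nonempty) : Dense W := by
  rw [dense_iff_inter_open]
  rintro O hO ⟨x, hxO⟩
  obtain ⟨q, hqW, hqZ⟩ := h _ (irreducibleComponent_mem_irreducibleComponents x)
  obtain ⟨r, _, hrO, hrW⟩ := (isIrreducible_irreducibleComponent (x := x)).2 O W hO hW
    ⟨x, mem_irreducibleComponent, hxO⟩ ⟨q, hqZ, hqW⟩
  exact ⟨r, hrO, hrW⟩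

lemma eq_zero_of_cover {X : Scheme.{u}} (W : X.Opens) (hW : CInt.IsSchematicallyDense W)
    (x : Γ(X, ⊤)) (h : ∀ y ∈ W, ∃ a : Γ(X, ⊤), y ∈ X.basicOpen a ∧ x * a = 0) : x = 0 := by
  apply hW ⊤
  rw [map_zero]
  apply TopCat.Presheaf.section_ext X.sheaf (⊤ ⊓ W)
  intro y hy
  change (X.presheaf.germ (⊤ ⊓ W) y hy).hom
      ((X.presheaf.map (homOfLE (inf_le_left : ⊤ ⊓ W ≤ ⊤)).op).hom x) =
    (X.presheaf.germ (⊤ ⊓ W) y hy).hom 0
  rw [map_zero]
  have e : (X.presheaf.germ (⊤ ⊓ W) y hy).hom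
      ((X.presheaf.map (homOfLE (inf_le_left : ⊤ ⊓ W ≤ ⊤)).op).hom x) =
      (X.presheaf.germ ⊤ y trivial).hom x :=
    TopCat.Presheaf.germ_res_apply X.presheaf (homOfLE (inf_le_left : ⊤ ⊓ W ≤ ⊤)) y hy x
  rw [e]
  have hyW : y ∈ W := (inf_le_right : ⊤ ⊓ W ≤ W) hy
  obtain ⟨a, hya, hxa⟩ := h y hyW
  have hu : IsUnit ((X.presheaf.germ ⊤ y trivial).hom a) := (X.mem_basicOpen_top a y).mp hya
  have hmul : (X.presheaf.germ ⊤ y trivial).hom x * (X.presheaf.germ ⊤ y trivial).hom a = 0 := by
    rw [← map_mul, hxa, map_zero]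
  exact hu.mul_left_eq_zero.mp hmul

lemma mono {X : Scheme.{u}} {W U : X.Opens} (hWU : W ≤ U) (hW : CInt.IsSchematicallyDense W) :
    CInt.IsSchematicallyDense U := by
  intro V a b hab
  apply hW V
  have key : ∀ c : Γ(X, V), X.presheaf.map (homOfLE (inf_le_left : V ⊓ W ≤ V)).op c =
      X.presheaf.map (homOfLE (inf_le_inf_left V hWU : V ⊓ W ≤ V ⊓ U)).op
        (X.presheaf.map (homOfLE (inf_le_left : V ⊓ U ≤ V)).op c) := by
    intro c
    rw [← ConcreteCategory.comp_apply, ← Functor.map_comp]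
    rfl
  rw [key a, key b, hab]


/-- Let X = Spec A be an affine scheme, with A Noetherian, or A reduced with finitely many minimal
primes. Then an open subset U of X is schematically dense if and only if it contains an open subset
of the form X_t with t a regular element of A = Γ(X, O_X). -/
theorem result (X : Scheme.{u}) [IsAffine X]
    (hX : IsNoetherian X ∨ (IsReduced X ∧ (irreducibleComponents ↥X).Finite)) (U : X.Opens) :
    CInt.IsSchematicallyDense U ↔ ∃ t : Γ(X, ⊤), t ∈ nonZeroDivisors Γ(X, ⊤) ∧ X.basicOpen t ≤ U := by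
  constructor
  · intro hU
    have hbasis : ∀ y ∈ U, ∃ a : Γ(X, ⊤), y ∈ X.basicOpen a ∧ a ∈ idealOf X U := by
      intro y hy
      obtain ⟨_, ⟨a, rfl⟩, hya, haU⟩ := Opens.isBasis_iff_nbhd.mp (isBasis_basicOpen X) hy
      exact ⟨a, hya, haU⟩
    have KC : ∀ x : Γ(X, ⊤), (∀ a ∈ idealOf X U, x * a = 0) → x = 0 := by
      intro x hx
      apply eq_zero_of_cover U hU x
      intro y hy
      obtain ⟨a, hya, haI⟩ := hbasis y hy
      exact ⟨a, hya, hx a haI⟩
    suffices h : ∃ t ∈ idealOf X U, t ∈ nonZeroDivisors Γ(X, ⊤) by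
      obtain ⟨t, htI, ht⟩ := h
      exact ⟨t, ht, htI⟩
    rcases hX with hN | ⟨hR, hfin⟩
    · have hNR : IsNoetherianRing Γ(X, ⊤) :=
        IsLocallyNoetherian.component_noetherian ⟨⊤, isAffineOpen_top X⟩
      by_contra hcon
      push Not at hcon
      have hdisj : Disjoint ((idealOf X U : Ideal Γ(X, ⊤)) : Set Γ(X, ⊤))
          (nonZeroDivisors Γ(X, ⊤) : Set Γ(X, ⊤)) := by
        rw [Set.disjoint_left]
        intro t htI ht
        exact hcon t htI ht
      have hlt := Ideal.bot_lt_annihilator_of_disjoint_nonZeroDivisors hdisj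
      obtain ⟨x, hxann, hx0⟩ := (SetLike.lt_iff_le_and_exists.mp hlt).2
      apply hx0
      rw [Ideal.mem_bot]
      apply KC
      intro a ha
      have h1 := Module.mem_annihilator.mp hxann ⟨a, ha⟩
      have h2 := congrArg Subtype.val h1
      simpa using h2
    · have hUd : Dense (U : Set X) := Groth.Agent.S3842.dense_of_schematicallyDense U hU
      have hfin' : ∀ x : X, ∃ W : Opens X, x ∈ W ∧
          {Z ∈ irreducibleComponents X | (Z ∩ (W : Set X)).Nonempty}.Finite :=
        fun x => ⟨⊤, trivial, hfin.subset (fun Z hZ => hZ.1)⟩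
      have hnot : ∀ Z ∈ irreducibleComponents X, ¬ (idealOf X U ≤ vanIdeal X Z) := by
        intro Z hZ hle
        obtain ⟨p, hpU, hpZ⟩ :=
          Groth.Agent.S3842.inter_comp_nonempty hfin' (U : Set X) hUd Z hZ
        obtain ⟨a, hpa, haI⟩ := hbasis p hpU
        have h1 := hle haI
        rw [mem_vanIdeal] at h1
        exact Set.disjoint_left.mp h1 hpa hpZ
      have hprime : ∀ Z ∈ irreducibleComponents X, (vanIdeal X Z).IsPrime :=
        fun Z hZ => vanIdeal_isPrime X Z hZ.1
      have havoid : ¬ (((idealOf X U : Ideal Γ(X, ⊤)) : Set Γ(X, ⊤)) ⊆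
          ⋃ Z ∈ irreducibleComponents X, ((vanIdeal X Z : Ideal Γ(X, ⊤)) : Set Γ(X, ⊤))) := by
        intro hsub
        obtain ⟨Z, hZ, hle⟩ := (Ideal.subset_union_prime_finite hfin (f := vanIdeal X) ∅ ∅
          (fun Z hZ _ _ => hprime Z hZ)).mp hsub
        exact hnot Z hZ hle
      rw [Set.not_subset] at havoid
      obtain ⟨t, htI, htn⟩ := havoid
      refine ⟨t, htI, ?_⟩
      have hmeets : ∀ Z ∈ irreducibleComponents X, ((X.basicOpen t : Set X) ∩ Z).Nonempty := by
        intro Z hZ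
        by_contra hcon
        apply htn
        rw [Set.mem_iUnion₂]
        refine ⟨Z, hZ, ?_⟩
        rw [SetLike.mem_coe, mem_vanIdeal]
        exact Set.disjoint_iff_inter_eq_empty.mpr (Set.not_nonempty_iff_eq_empty.mp hcon)
      have hDd : Dense (X.basicOpen t : Set X) :=
        dense_of_meets _ (X.basicOpen t).isOpen hmeets
      have hDs := Groth.Agent.S3842.schematicallyDense_of_dense (X.basicOpen t) hDd
      rw [mem_nonZeroDivisors_iff_right]
      intro x hx
      apply eq_zero_of_cover (X.basicOpen t) hDs x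
      intro y hy
      exact ⟨t, hy, hx⟩
  · rintro ⟨t, ht, htU⟩
    have hstalk : ∀ x : X,
        (X.presheaf.germ ⊤ x trivial t) ∈ nonZeroDivisors ↑(X.presheaf.stalk x) := by
      intro x
      letI : Algebra Γ(X, ⊤) (X.presheaf.stalk x) :=
        TopCat.Presheaf.algebra_section_stalk X.presheaf (U := ⊤) ⟨x, trivial⟩
      haveI hloc : IsLocalization.AtPrime (X.presheaf.stalk x)
          ((isAffineOpen_top X).primeIdealOf ⟨x, trivial⟩).asIdeal :=
        (isAffineOpen_top X).isLocalization_stalk ⟨x, trivial⟩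
      have h3 := IsLocalization.map_nonZeroDivisors_le
        ((isAffineOpen_top X).primeIdealOf ⟨x, trivial⟩).asIdeal.primeCompl
        (X.presheaf.stalk x)
        (Submonoid.mem_map_of_mem (algebraMap Γ(X, ⊤) (X.presheaf.stalk x)) ht)
      exact h3
    exact mono htU (Groth.Agent.S3833.result X t hstalk)

end Groth.Agent.S3834
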