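import Groth.Statements.S3836
import Groth.Agent.H73.RatExtIso

set_option autoImplicit false
universe u
open CategoryTheory CategoryTheory.Limits AlgebraicGeometry TopologicalSpace
open Rat20

namespace Groth.Agent.S3836

/-- Let X be a locally integral S-scheme, Y an S-scheme locally of finite type and separated over S, and
h : U → Y an S-morphism on a dense open subset (a rational S-map ω). Let Γ be the closure in X ×_S Y
of the graph of h and p : Γ → X the projection. If x is a point of X whose local ring is integrally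
closed and the fibre p⁻¹(x) contains an isolated point, then ω is defined at x: some S-morphism from
an open neighbourhood of x to Y agrees with h on U. -/
theorem result {X Y S : Scheme.{u}} (pX : X ⟶ S) (pY : Y ⟶ S)
    [LocallyOfFiniteType pY] [IsSeparated pY] (hX : ∀ y : ↥X, ∃ W : X.Opens, y ∈ W ∧ IsIntegral (W : Scheme.{u}))
    (U : X.Opens) (hU : Dense (U : Set ↥X)) (h : (U : Scheme.{u}) ⟶ Y) (hh : U.ι ≫ pX = h ≫ pY)
    (x : ↥X) (hx : IsIntegrallyClosed (X.presheaf.stalk x))
    (z : ↥(pullback pX pY)) (hz : pullback.fst pX pY z = x)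
    (hzΓ : z ∈ closure (Set.range (pullback.lift U.ι h hh)))
    (hiso : ∃ W : (pullback pX pY).Opens, (W : Set ↥(pullback pX pY)) ∩ closure (Set.range (pullback.lift U.ι h hh)) ∩
      (pullback.fst pX pY) ⁻¹' {x} = {z}) :
    ∃ (V : X.Opens) (v : (V : Scheme.{u}) ⟶ Y), x ∈ V ∧ v ≫ pY = V.ι ≫ pX ∧
      X.homOfLE (inf_le_right : U ⊓ V ≤ V) ≫ v = X.homOfLE (inf_le_left : U ⊓ V ≤ U) ≫ h := by
  obtain ⟨W', hW'⟩ := hiso
  obtain ⟨N, hxN, hNint⟩ := hX x
  subst hz
  have hhP : pullback.lift U.ι h hh ≫ pullback.fst pX pY = U.ι := pullback.lift_fst _ _ _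
  have hNne : Nonempty (N : Scheme.{u}) := ⟨⟨_, hxN⟩⟩
  have hGI : X.IsGermInjectiveAt ((pullback.fst pX pY).base z) := by
    have h1 : X.IsGermInjectiveAt (N.ι.base ⟨(pullback.fst pX pY).base z, hxN⟩) := inferInstance
    exact h1
  have hDom : IsDomain (X.presheaf.stalk ((pullback.fst pX pY).base z)) := by
    have h1 : IsDomain ((N : Scheme.{u}).presheaf.stalk ⟨(pullback.fst pX pY).base z, hxN⟩) :=
      inferInstance
    exact ((N.stalkIso ⟨(pullback.fst pX pY).base z, hxN⟩).commRingCatIsoToRingEquiv).toMulEquiv.isDomain_iff.mp h1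
  let g : X := N.ι.base (genericPoint (N : Scheme.{u}))
  have hgx : g ⤳ (pullback.fst pX pY).base z :=
    (genericPoint_specializes (α := N.toScheme) ⟨_, hxN⟩).map N.ι.continuous
  have hgN : ∀ p : X, p ∈ N → g ⤳ p := fun p hp =>
    (genericPoint_specializes (α := N.toScheme) ⟨p, hp⟩).map N.ι.continuous
  have hgU : g ∈ U := by
    obtain ⟨p, hpN, hpU⟩ := hU.inter_open_nonempty N N.2 ⟨_, hxN⟩
    exact (hgN p hpN).mem_open U.2 hpU
  have hj := Groth.Agent.H73.RatExt.jK_preimage_eq_top_of_mem _ hgx hgU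
  have hzW' : z ∈ W' := by
    have : z ∈ ({z} : Set ↥(pullback pX pY)) := rfl
    rw [← hW'] at this
    exact this.1.1
  have hsp : ∀ ubK : Spec (CommRingCat.of (FractionRing
      (X.presheaf.stalk ((pullback.fst pX pY).base z)))) ⟶ (U : Scheme.{u}),
      ubK ≫ U.ι = Groth.Agent.H73.RatExt.jK ((pullback.fst pX pY).base z) →
      (ubK ≫ pullback.lift U.ι h hh).base (IsLocalRing.closedPoint
        (FractionRing (X.presheaf.stalk ((pullback.fst pX pY).base z)))) ⤳ z := by
    intro ubK hubK
    rw [specializes_iff_mem_closure]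
    have h1 : z ∈ closure (((pullback.fst pX pY) ⁻¹ᵁ N : Set ↥(pullback pX pY)) ∩
        Set.range (pullback.lift U.ι h hh)) :=
      ((pullback.fst pX pY) ⁻¹ᵁ N).2.inter_closure ⟨hxN, hzΓ⟩
    refine closure_minimal ?_ isClosed_closure h1
    rintro _ ⟨hpN, u, rfl⟩
    rw [← specializes_iff_mem_closure, Scheme.Hom.comp_apply]
    refine Specializes.map ?_ (pullback.lift U.ι h hh).continuous
    rw [← U.ι.isEmbedding.isInducing.specializes_iff, ← Scheme.Hom.comp_apply, hubK]
    refine (Groth.Agent.H73.RatExt.jK_specializes _ hgx).trans (hgN _ ?_)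
    have : (pullback.lift U.ι h hh ≫ pullback.fst pX pY).base u ∈ N := hpN
    rw [hhP] at this
    exact this
  have hiso' : ∀ ubK : Spec (CommRingCat.of (FractionRing
      (X.presheaf.stalk ((pullback.fst pX pY).base z)))) ⟶ (U : Scheme.{u}),
      ubK ≫ U.ι = Groth.Agent.H73.RatExt.jK ((pullback.fst pX pY).base z) → ∀ w ∈ W',
      (ubK ≫ pullback.lift U.ι h hh).base (IsLocalRing.closedPoint
        (FractionRing (X.presheaf.stalk ((pullback.fst pX pY).base z)))) ⤳ w →
      (pullback.fst pX pY).base w = (pullback.fst pX pY).base z → w = z := by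
    intro ubK hubK w hwW' hspw hqw
    have hwcl : w ∈ closure (Set.range (pullback.lift U.ι h hh)) := by
      refine closure_mono ?_ (specializes_iff_mem_closure.mp hspw)
      rw [Set.singleton_subset_iff, Scheme.Hom.comp_apply]
      exact Set.mem_range_self _
    have : w ∈ ({z} : Set ↥(pullback pX pY)) := by
      rw [← hW']
      exact ⟨⟨hwW', hwcl⟩, hqw⟩
    exact this
  obtain ⟨U', hUU', h', hxU', hq', hext⟩ :=
    Groth.Agent.H73.RatExt.exists_extension_of_isolated hhP hx hj hsp W' hzW' hiso'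
  refine ⟨U', h' ≫ pullback.snd pX pY, hxU', ?_, ?_⟩
  · rw [Category.assoc, ← pullback.condition, ← Category.assoc, hq']
  · have e1 : X.homOfLE (inf_le_right : U ⊓ U' ≤ U') =
        X.homOfLE (inf_le_left : U ⊓ U' ≤ U) ≫ X.homOfLE hUU' := by
      rw [Scheme.homOfLE_homOfLE]
    rw [e1, Category.assoc, ← Category.assoc (X.homOfLE hUU'), hext, pullback.lift_snd]

end Groth.Agent.S3836
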