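import Groth.Statements.S3837
import Groth.Agent.S3836

set_option autoImplicit false
universe u
open CategoryTheory CategoryTheory.Limits AlgebraicGeometry TopologicalSpace
open Rat20

namespace Groth.Agent.S3837

/-- Let X be a normal S-scheme (locally integral with integrally closed local rings), Y an S-scheme
locally of finite type and separated over S, h : U → Y an S-morphism on a dense open subset (a
rational S-map ω), and f : X' → X a morphism locally of finite type and universally open with X'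
reduced, so that f⁻¹(U) is dense and ω ∘ f is defined. Then for x' in X' with image x, ω is defined
at x if and only if ω ∘ f is defined at x': some S-morphism on an open neighbourhood of x agrees
with h on U if and only if some S-morphism on an open neighbourhood of x' agrees with h ∘ f on the
preimage of U. -/
theorem result {X X' Y S : Scheme.{u}} (pX : X ⟶ S) (pY : Y ⟶ S)
    [LocallyOfFiniteType pY] [IsSeparated pY] (hX : ∀ y : ↥X, ∃ W : X.Opens, y ∈ W ∧ IsIntegral (W : Scheme.{u}))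
    (hXn : ∀ y : ↥X, IsIntegrallyClosed (X.presheaf.stalk y))
    (U : X.Opens) (hU : Dense (U : Set ↥X)) (h : (U : Scheme.{u}) ⟶ Y) (hh : h ≫ pY = U.ι ≫ pX)
    (f : X' ⟶ X) [LocallyOfFiniteType f] [UniversallyOpen f] [IsReduced X'] (x' : ↥X') :
    (∃ (V : X.Opens) (v : (V : Scheme.{u}) ⟶ Y), f x' ∈ V ∧ v ≫ pY = V.ι ≫ pX ∧
        X.homOfLE (inf_le_right : U ⊓ V ≤ V) ≫ v = X.homOfLE (inf_le_left : U ⊓ V ≤ U) ≫ h) ↔
      ∃ (V' : X'.Opens) (v' : (V' : Scheme.{u}) ⟶ Y), x' ∈ V' ∧ v' ≫ pY = V'.ι ≫ f ≫ pX ∧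
        X'.homOfLE (inf_le_right : f ⁻¹ᵁ U ⊓ V' ≤ V') ≫ v' =
          X'.homOfLE (inf_le_left : f ⁻¹ᵁ U ⊓ V' ≤ f ⁻¹ᵁ U) ≫ (f ∣_ U) ≫ h := by
  constructor
  · rintro ⟨V, v, hxV, hv, hagree⟩
    refine ⟨f ⁻¹ᵁ V, (f ∣_ V) ≫ v, hxV, ?_, ?_⟩
    · rw [Category.assoc, hv, ← Category.assoc, morphismRestrict_ι, Category.assoc]
    · let r : ((f ⁻¹ᵁ U ⊓ f ⁻¹ᵁ V : X'.Opens) : Scheme.{u}) ⟶ ((U ⊓ V : X.Opens) : Scheme.{u}) :=
        f.resLE (U ⊓ V) (f ⁻¹ᵁ U ⊓ f ⁻¹ᵁ V) le_rfl
      have e1 : X'.homOfLE (inf_le_right : f ⁻¹ᵁ U ⊓ f ⁻¹ᵁ V ≤ f ⁻¹ᵁ V) ≫ (f ∣_ V) =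
          r ≫ X.homOfLE (inf_le_right : U ⊓ V ≤ V) := by
        rw [← cancel_mono V.ι]
        simp [r]
      have e2 : X'.homOfLE (inf_le_left : f ⁻¹ᵁ U ⊓ f ⁻¹ᵁ V ≤ f ⁻¹ᵁ U) ≫ (f ∣_ U) =
          r ≫ X.homOfLE (inf_le_left : U ⊓ V ≤ U) := by
        rw [← cancel_mono U.ι]
        simp [r]
      rw [← Category.assoc, e1, Category.assoc, hagree, ← Category.assoc, ← e2, Category.assoc]
  · rintro ⟨V', v', hx'V', hv', hagree'⟩
    -- the two fibre products and the maps between them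
    have hγ'c : (f ⁻¹ᵁ U).ι ≫ f ≫ pX = ((f ∣_ U) ≫ h) ≫ pY := by
      rw [Category.assoc, hh, morphismRestrict_ι_assoc]
    have hfYc : (pullback.fst (f ≫ pX) pY ≫ f) ≫ pX = pullback.snd (f ≫ pX) pY ≫ pY := by
      rw [Category.assoc, pullback.condition]
    let fY : pullback (f ≫ pX) pY ⟶ pullback pX pY :=
      pullback.lift (pullback.fst (f ≫ pX) pY ≫ f) (pullback.snd (f ≫ pX) pY) hfYc
    let γ : (U : Scheme.{u}) ⟶ pullback pX pY := pullback.lift U.ι h hh.symm
    let γ' : ((f ⁻¹ᵁ U : X'.Opens) : Scheme.{u}) ⟶ pullback (f ≫ pX) pY :=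
      pullback.lift (f ⁻¹ᵁ U).ι ((f ∣_ U) ≫ h) hγ'c
    let γv : (V' : Scheme.{u}) ⟶ pullback (f ≫ pX) pY := pullback.lift V'.ι v' hv'.symm
    have hfYfst : fY ≫ pullback.fst pX pY = pullback.fst (f ≫ pX) pY ≫ f := pullback.lift_fst _ _ _
    have hfYsnd : fY ≫ pullback.snd pX pY = pullback.snd (f ≫ pX) pY := pullback.lift_snd _ _ _
    have hγfst : γ ≫ pullback.fst pX pY = U.ι := pullback.lift_fst _ _ _
    have hγsnd : γ ≫ pullback.snd pX pY = h := pullback.lift_snd _ _ _
    have hγ'fst : γ' ≫ pullback.fst (f ≫ pX) pY = (f ⁻¹ᵁ U).ι := pullback.lift_fst _ _ _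
    have hγ'snd : γ' ≫ pullback.snd (f ≫ pX) pY = (f ∣_ U) ≫ h := pullback.lift_snd _ _ _
    have hγvfst : γv ≫ pullback.fst (f ≫ pX) pY = V'.ι := pullback.lift_fst _ _ _
    have hγvsnd : γv ≫ pullback.snd (f ≫ pX) pY = v' := pullback.lift_snd _ _ _
    have H3 : IsPullback fY (pullback.fst (f ≫ pX) pY) (pullback.fst pX pY) f := by
      refine IsPullback.of_right ?_ hfYfst (IsPullback.of_hasPullback pX pY).flip
      rw [hfYsnd]
      exact (IsPullback.of_hasPullback (f ≫ pX) pY).flip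
    have hγ'fY : γ' ≫ fY = (f ∣_ U) ≫ γ := by
      apply pullback.hom_ext
      · rw [Category.assoc, hfYfst, ← Category.assoc, hγ'fst, Category.assoc, hγfst,
          morphismRestrict_ι]
      · rw [Category.assoc, hfYsnd, hγ'snd, Category.assoc, hγsnd]
    have H5 : IsPullback γ' (f ∣_ U) fY γ := by
      refine IsPullback.of_right ?_ hγ'fY H3.flip
      rw [hγ'fst, hγfst]
      exact (isPullback_morphismRestrict f U).flip
    have hrange : Set.range γ'.base = fY.base ⁻¹' Set.range γ.base := by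
      have := Scheme.image_preimage_eq_of_isPullback H5.flip Set.univ
      rwa [Set.preimage_univ, Set.image_univ, Set.image_univ] at this
    have hUO : UniversallyOpen fY := MorphismProperty.of_isPullback H3.flip inferInstance
    have hΓ' : fY.base ⁻¹' closure (Set.range γ.base) = closure (Set.range γ'.base) := by
      rw [fY.isOpenMap.preimage_closure_eq_closure_preimage fY.continuous, hrange]
    -- agreement of the graphs
    have hagreeγ : X'.homOfLE (inf_le_left : f ⁻¹ᵁ U ⊓ V' ≤ f ⁻¹ᵁ U) ≫ γ' =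
        X'.homOfLE (inf_le_right : f ⁻¹ᵁ U ⊓ V' ≤ V') ≫ γv := by
      apply pullback.hom_ext
      · rw [Category.assoc, Category.assoc, hγ'fst, hγvfst, Scheme.homOfLE_ι, Scheme.homOfLE_ι]
      · rw [Category.assoc, Category.assoc, hγ'snd, hγvsnd, hagree']
    have hγ'γv : ∀ (t : X') (ht : t ∈ f ⁻¹ᵁ U) (htV : t ∈ V'),
        γ'.base ⟨t, ht⟩ = γv.base ⟨t, htV⟩ := by
      intro t ht htV
      have := congrArg (fun φ => φ.base (⟨t, ⟨ht, htV⟩⟩ : ↥(f ⁻¹ᵁ U ⊓ V'))) hagreeγ
      simp only [Scheme.Hom.comp_apply] at this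
      have e1 : (X'.homOfLE (inf_le_left : f ⁻¹ᵁ U ⊓ V' ≤ f ⁻¹ᵁ U)).base ⟨t, ⟨ht, htV⟩⟩ =
          ⟨t, ht⟩ := Subtype.ext (Scheme.homOfLE_apply _ _)
      have e2 : (X'.homOfLE (inf_le_right : f ⁻¹ᵁ U ⊓ V' ≤ V')).base ⟨t, ⟨ht, htV⟩⟩ =
          ⟨t, htV⟩ := Subtype.ext (Scheme.homOfLE_apply _ _)
      rw [e1, e2] at this
      exact this
    -- the graph of v' is closed in the preimage of V'
    let O : (pullback (f ≫ pX) pY).Opens := (pullback.fst (f ≫ pX) pY) ⁻¹ᵁ V'
    have hrO : Set.range γv.base ⊆ Set.range O.ι.base := by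
      rw [Scheme.Opens.range_ι]
      rintro _ ⟨t, rfl⟩
      change (γv ≫ pullback.fst (f ≫ pX) pY).base t ∈ V'
      rw [hγvfst]
      exact t.2
    let sec : (V' : Scheme.{u}) ⟶ (O : Scheme.{u}) := IsOpenImmersion.lift O.ι γv hrO
    have hsecι : sec ≫ O.ι = γv := IsOpenImmersion.lift_fac _ _ _
    have hsec : sec ≫ (pullback.fst (f ≫ pX) pY ∣_ V') = 𝟙 _ := by
      rw [← cancel_mono V'.ι, Category.assoc, morphismRestrict_ι, ← Category.assoc, hsecι,
        hγvfst, Category.id_comp]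
    have hsecCl : IsClosedImmersion sec := by
      have : IsClosedImmersion (sec ≫ (pullback.fst (f ≫ pX) pY ∣_ V')) := by
        rw [hsec]; infer_instance
      exact IsClosedImmersion.of_comp sec (pullback.fst (f ≫ pX) pY ∣_ V')
    have hkey : ∀ p' : ↥(pullback (f ≫ pX) pY), p' ∈ closure (Set.range γ'.base) →
        ∀ hp'V : (pullback.fst (f ≫ pX) pY).base p' ∈ V',
        p' = γv.base ⟨(pullback.fst (f ≫ pX) pY).base p', hp'V⟩ := by
      intro p' hp' hp'V
      have hO : p' ∈ O := hp'V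
      have h1 : p' ∈ closure ((O : Set ↥(pullback (f ≫ pX) pY)) ∩ Set.range γ'.base) :=
        O.2.inter_closure ⟨hO, hp'⟩
      have h2 : (O : Set ↥(pullback (f ≫ pX) pY)) ∩ Set.range γ'.base ⊆ Set.range γv.base := by
        rintro _ ⟨hu'O, u', rfl⟩
        have hu'V : u'.1 ∈ V' := by
          have : (γ' ≫ pullback.fst (f ≫ pX) pY).base u' ∈ V' := hu'O
          rw [hγ'fst] at this
          exact this
        exact ⟨⟨u'.1, hu'V⟩, (hγ'γv u'.1 u'.2 hu'V).symm⟩
      have h3 : p' ∈ closure (Set.range γv.base) := closure_mono h2 h1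
      have h4 : (⟨p', hO⟩ : ↥O) ∈ closure (Set.range sec.base) := by
        rw [O.ι.isEmbedding.isInducing.closure_eq_preimage_closure_image]
        have : O.ι.base '' Set.range sec.base = Set.range γv.base := by
          rw [← Set.range_comp, ← hsecι]
          rfl
        rw [this]
        exact h3
      rw [sec.isClosedEmbedding.isClosed_range.closure_eq] at h4
      obtain ⟨t, ht⟩ := h4
      have h5 : γv.base t = p' := by
        rw [← hsecι, Scheme.Hom.comp_apply, ht]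
        rfl
      have h6 : V'.ι.base t = (pullback.fst (f ≫ pX) pY).base p' := by
        rw [← hγvfst, Scheme.Hom.comp_apply, h5]
      have h7 : t = ⟨(pullback.fst (f ≫ pX) pY).base p', hp'V⟩ := Subtype.ext h6
      rw [← h7, h5]
    -- the point z
    let z' : ↥(pullback (f ≫ pX) pY) := γv.base ⟨x', hx'V'⟩
    have hz'fst : (pullback.fst (f ≫ pX) pY).base z' = x' := by
      change (γv ≫ pullback.fst (f ≫ pX) pY).base ⟨x', hx'V'⟩ = x'
      rw [hγvfst]
      rfl
    have hz'Γ : z' ∈ closure (Set.range γ'.base) := by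
      have hD : Dense ((V'.ι ≫ f).base ⁻¹' (U : Set X)) :=
        hU.preimage ((V'.ι ≫ f).isOpenMap)
      have h1 : (⟨x', hx'V'⟩ : ↥V') ∈ closure ((V'.ι ≫ f).base ⁻¹' (U : Set X)) := hD _
      have h2 := image_closure_subset_closure_image γv.continuous (Set.mem_image_of_mem _ h1)
      refine closure_mono ?_ h2
      rintro _ ⟨d, hd, rfl⟩
      have hd' : d.1 ∈ f ⁻¹ᵁ U := hd
      exact ⟨⟨d.1, hd'⟩, hγ'γv d.1 hd' d.2⟩
    let z : ↥(pullback pX pY) := fY.base z'
    have hzfst : (pullback.fst pX pY).base z = f.base x' := by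
      change (pullback.fst pX pY).base (fY.base z') = f.base x'
      rw [← Scheme.Hom.comp_apply, hfYfst, Scheme.Hom.comp_apply, hz'fst]
    have hzΓ : z ∈ closure (Set.range γ.base) := by
      have : z' ∈ fY.base ⁻¹' closure (Set.range γ.base) := by rw [hΓ']; exact hz'Γ
      exact this
    have hiso : ((⊤ : (pullback pX pY).Opens) : Set ↥(pullback pX pY)) ∩
        closure (Set.range γ.base) ∩ (pullback.fst pX pY).base ⁻¹' {f.base x'} = {z} := by
      ext p
      constructor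
      · rintro ⟨⟨-, hpΓ⟩, hpx⟩
        have hpx' : f.base x' = (pullback.fst pX pY).base p := hpx.symm
        obtain ⟨p', hp'1, hp'2⟩ := Scheme.exists_preimage_of_isPullback H3.flip x' p hpx'
        have hp'Γ : p' ∈ closure (Set.range γ'.base) := by
          rw [← hΓ', Set.mem_preimage, hp'2]
          exact hpΓ
        have hp'V : (pullback.fst (f ≫ pX) pY).base p' ∈ V' := by rw [hp'1]; exact hx'V'
        have h1 := hkey p' hp'Γ hp'V
        have h2 : p' = z' := by
          rw [h1]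
          congr 1
          exact Subtype.ext hp'1
        rw [Set.mem_singleton_iff, ← hp'2, h2]
      · intro hp
        rw [Set.mem_singleton_iff] at hp
        rw [hp]
        exact ⟨⟨trivial, hzΓ⟩, hzfst⟩
    exact Groth.Agent.S3836.result pX pY hX U hU h hh.symm (f.base x') (hXn _) z hzfst hzΓ
      ⟨⊤, hiso⟩

end Groth.Agent.S3837
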