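import Groth.Statements.S3843
import Groth.Agent.H21.SchDom

set_option autoImplicit false
universe u
open CategoryTheory CategoryTheory.Limits AlgebraicGeometry TopologicalSpace
open Rat20

namespace Groth.Agent.S3843
lemma res_injective_of_ge {X : Scheme.{u}} {A B : X.Opens} (hAB : A ≤ B) (hBA : B ≤ A) :
    Function.Injective (X.presheaf.map (homOfLE hAB).op) := by
  obtain rfl : A = B := le_antisymm hAB hBA
  have : homOfLE hAB = 𝟙 A := Subsingleton.elim _ _
  rw [this, op_id, X.presheaf.map_id]
  exact fun _ _ h => h

/-- For the open subset U = X; the general case is the same statement over the open subscheme U: let f :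
X' → X be flat and locally of finite presentation. Then for every schematically dense open subset V
of X, the preimage f⁻¹(V) is schematically dense in X'. -/
theorem result {X X' : Scheme.{u}} (f : X' ⟶ X) [Flat f]
    [LocallyOfFinitePresentation f] (V : X.Opens) (hV : CInt.IsSchematicallyDense V) :
    CInt.IsSchematicallyDense (f ⁻¹ᵁ V) := by
  have key := Groth.Agent.H21.SchDom.schDominant_baseChange (X := X) (X' := X')
    (ι := PUnit.{u + 1}) (fun _ => (V : Scheme.{u})) (fun _ => V.ι) f ?_
  · intro W
    rw [injective_iff_map_eq_zero]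
    intro t ht
    apply key W t
    intro _
    -- the image of `snd` lies in `f ⁻¹ᵁ V`
    have hle : (Limits.pullback.snd V.ι f) ⁻¹ᵁ W ≤ (Limits.pullback.snd V.ι f) ⁻¹ᵁ (W ⊓ f ⁻¹ᵁ V) := by
      intro p hp
      refine ⟨hp, ?_⟩
      change f ((Limits.pullback.snd V.ι f) p) ∈ V
      rw [← Scheme.Hom.comp_apply, ← Limits.pullback.condition, Scheme.Hom.comp_apply]
      exact ((Limits.pullback.fst V.ι f) p).2
    have nat := (Limits.pullback.snd V.ι f).naturality
      (homOfLE (inf_le_left : W ⊓ f ⁻¹ᵁ V ≤ W)).op
    have h1 := congrArg (fun φ => φ t) nat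
    simp only [CommRingCat.comp_apply] at h1
    rw [ht, map_zero] at h1
    have hinj := res_injective_of_ge
      ((TopologicalSpace.Opens.map (Limits.pullback.snd V.ι f).base).map
        (homOfLE (inf_le_left : W ⊓ f ⁻¹ᵁ V ≤ W))).le hle
    exact hinj (h1.symm.trans (map_zero _).symm)
  · intro W t ht
    apply hV W
    rw [map_zero]
    have h1 := ht PUnit.unit
    rw [Scheme.Opens.ι_app] at h1
    have hle : W ⊓ V ≤ V.ι ''ᵁ (V.ι ⁻¹ᵁ W) := by
      intro x hx
      exact ⟨⟨x, hx.2⟩, hx.1, rfl⟩
    have h2 : X.presheaf.map (homOfLE hle).op (X.presheaf.map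
        (homOfLE (V.ι.image_preimage_le W)).op t) = 0 :=
      (congrArg (X.presheaf.map (homOfLE hle).op) h1).trans (map_zero _)
    rw [← CommRingCat.comp_apply, ← Functor.map_comp] at h2
    exact h2

end Groth.Agent.S3843
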