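import Groth.Statements.S3846
import Mathlib

set_option autoImplicit false
universe u
open CategoryTheory CategoryTheory.Limits AlgebraicGeometry TopologicalSpace
open Unram17

namespace Groth.Agent.S3846


/-- a) iff b''): let f : X → Y be locally of finite presentation and x a point of X. Then f is
unramified on some open neighbourhood of x if and only if, for every base change g : Y' → Y and
every section s' of X ×_Y Y' → Y', s' is a local isomorphism at every point y' of Y' such that
s'(y') lies over x. -/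
theorem result {X Y : Scheme.{u}} (f : X ⟶ Y) [LocallyOfFinitePresentation f]
    (x : ↥X) :
    (∃ U : X.Opens, x ∈ U ∧ FormallyUnramified (U.ι ≫ f)) ↔
      ∀ (Y' : Scheme.{u}) (g : Y' ⟶ Y) (s' : Y' ⟶ pullback f g), s' ≫ pullback.snd f g = 𝟙 Y' →
        ∀ y' : ↥Y', pullback.fst f g (s' y') = x → SchLoc.IsLocalIsoAt s' y' := by
  constructor
  · rintro ⟨U, hxU, hU⟩ Y' g s' hs' y' hy'
    have hUft : LocallyOfFiniteType (U.ι ≫ f) := inferInstance
    let Ω : (pullback f g).Opens := pullback.fst f g ⁻¹ᵁ U
    let N : Y'.Opens := s' ⁻¹ᵁ Ω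
    have hyN : y' ∈ N := by
      show pullback.fst f g (s' y') ∈ U
      rw [hy']; exact hxU
    have sq : IsPullback (pullback.fst f g ∣_ U) (Ω.ι ≫ pullback.snd f g) (U.ι ≫ f) g :=
      (isPullback_morphismRestrict (pullback.fst f g) U).paste_vert (IsPullback.of_hasPullback f g)
    have h1 : LocallyOfFiniteType (Ω.ι ≫ pullback.snd f g) :=
      MorphismProperty.of_isPullback (P := @LocallyOfFiniteType) sq hUft
    have h2 : FormallyUnramified (Ω.ι ≫ pullback.snd f g) :=
      MorphismProperty.of_isPullback (P := @FormallyUnramified) sq hU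
    have hrange : Set.range (N.ι ≫ s') ⊆ Set.range Ω.ι := by
      rintro _ ⟨a, rfl⟩
      rw [Scheme.Opens.range_ι]
      exact a.2
    let σ : N.toScheme ⟶ Ω.toScheme := IsOpenImmersion.lift Ω.ι (N.ι ≫ s') hrange
    have hσ : σ ≫ Ω.ι = N.ι ≫ s' := IsOpenImmersion.lift_fac _ _ _
    have hσ2 : σ ≫ (Ω.ι ≫ pullback.snd f g) = N.ι := by
      rw [← Category.assoc, hσ, Category.assoc, hs', Category.comp_id]
    have : MorphismProperty.HasOfPostcompProperty @IsOpenImmersion
        (@LocallyOfFiniteType ⊓ @FormallyUnramified) := by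
      rw [MorphismProperty.hasOfPostcompProperty_iff_le_diagonal]
      intro X Y f ⟨hft, hfu⟩
      exact inferInstanceAs <| IsOpenImmersion (pullback.diagonal f)
    have hσo : IsOpenImmersion σ :=
      MorphismProperty.of_postcomp (W := @IsOpenImmersion)
        (W' := @LocallyOfFiniteType ⊓ @FormallyUnramified) σ (Ω.ι ≫ pullback.snd f g) ⟨h1, h2⟩
        (by rw [hσ2]; infer_instance)
    refine ⟨N, hyN, ?_⟩
    rw [← hσ]
    infer_instance
  · intro H
    obtain ⟨N, hxN, hN⟩ := H X f (pullback.diagonal f) (by simp) x (by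
      rw [← Scheme.Hom.comp_apply]; simp)
    refine ⟨N, hxN, ?_⟩
    let j : pullback (N.ι ≫ f) (N.ι ≫ f) ⟶ pullback f f :=
      pullback.map (N.ι ≫ f) (N.ι ≫ f) f f N.ι N.ι (𝟙 Y) (by simp) (by simp)
    have hj : pullback.diagonal (N.ι ≫ f) ≫ j = N.ι ≫ pullback.diagonal f := by
      apply pullback.hom_ext
      · rw [Category.assoc, Category.assoc, pullback.diagonal_fst]
        show pullback.diagonal (N.ι ≫ f) ≫ pullback.map _ _ _ _ _ _ _ _ _ ≫ pullback.fst f f = _
        rw [pullback.lift_fst, pullback.diagonal_fst_assoc, Category.comp_id]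
      · rw [Category.assoc, Category.assoc, pullback.diagonal_snd]
        show pullback.diagonal (N.ι ≫ f) ≫ pullback.map _ _ _ _ _ _ _ _ _ ≫ pullback.snd f f = _
        rw [pullback.lift_snd, pullback.diagonal_snd_assoc, Category.comp_id]
    haveI : IsOpenImmersion (pullback.diagonal (N.ι ≫ f) ≫ j) := by rw [hj]; exact hN
    haveI : IsOpenImmersion (pullback.diagonal (N.ι ≫ f)) :=
      IsOpenImmersion.of_comp (pullback.diagonal (N.ι ≫ f)) j
    infer_instance

end Groth.Agent.S3846
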