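import Groth.Statements.S3847
import Groth.Agent.H87.GenRankC
import Groth.Agent.H87.GenRankD
import Groth.Agent.H15.CohenNorm
import Groth.Agent.S5080

set_option autoImplicit false
set_option maxHeartbeats 400000
universe u
open EGA418

namespace Groth.Agent.S3847

/-- Let k be a field, A a complete Noetherian local k-algebra whose residue field is a finite extension
of k, p a prime ideal of A and q a minimal prime ideal of A contained in p. Let Ω̂ be the completion
of the module of differentials of A over k for the topology of the maximal ideal. Then the minimal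
number of generators of the A_p-module Ω̂_p (the rank of its fibre at p) is at least dim(A/q). -/
theorem result (k A : Type u) [Field k] [CommRing A]
    [IsLocalRing A] [IsNoetherianRing A] [Algebra k A]
    [IsAdicComplete (IsLocalRing.maximalIdeal A) A]
    [Module.Finite k (IsLocalRing.ResidueField A)]
    (p q : Ideal A) [p.IsPrime] (hq : q ∈ minimalPrimes A) (hqp : q ≤ p) :
    ringKrullDim (A ⧸ q) ≤
      (Cardinal.toENat (Module.rank p.ResidueField
        (TensorProduct A p.ResidueField
          (AdicCompletion (IsLocalRing.maximalIdeal A) (KaehlerDifferential k A)))) : WithBot ℕ∞) := by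
  classical
  haveI : q.IsPrime := hq.1.1
  haveI : Nontrivial (A ⧸ q) := Ideal.Quotient.nontrivial_iff.mpr (Ideal.IsPrime.ne_top ‹_›)
  haveI : IsLocalRing (A ⧸ q) :=
    IsLocalRing.of_surjective' (Ideal.Quotient.mk q) Ideal.Quotient.mk_surjective
  obtain ⟨n, hn⟩ := Groth.Agent.H15.CohenNorm.exists_nat_ringKrullDim (A ⧸ q)
  have hn' : ringKrullDim (A ⧸ q) = (n : WithBot ℕ∞) := hn
  haveI : IsScalarTower A (A ⧸ q) (FractionRing (A ⧸ q)) := inferInstance
  obtain ⟨Φ, hΦ⟩ := Groth.Agent.H87.GenRankC.exists_Phi k A q n hn' (FractionRing (A ⧸ q))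
  haveI : Module.Finite A (AdicCompletion (IsLocalRing.maximalIdeal A) (KaehlerDifferential k A)) :=
    Groth.Agent.S5080.finite_Ωh k A
  have hK : ∀ s ∈ p.primeCompl, algebraMap A (FractionRing (A ⧸ q)) s ≠ 0 := by
    intro s hs h0
    have h1 : algebraMap (A ⧸ q) (FractionRing (A ⧸ q)) (Ideal.Quotient.mk q s) = 0 := by
      rw [← h0, IsScalarTower.algebraMap_apply A (A ⧸ q) (FractionRing (A ⧸ q))]
      rfl
    have h2 : Ideal.Quotient.mk q s = 0 :=
      (IsFractionRing.injective (A ⧸ q) (FractionRing (A ⧸ q))) (by rw [h1, map_zero])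
    rw [Ideal.Quotient.eq_zero_iff_mem] at h2
    exact hs (hqp h2)
  have key := Groth.Agent.H87.GenRankD.le_finrank_fibre p hK n Φ hΦ
  rw [hn', ← Module.finrank_eq_rank, Cardinal.toENat_nat]
  exact_mod_cast key

end Groth.Agent.S3847
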