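import Groth.Statements.S3848
import Groth.Agent.H73.RatExt

set_option autoImplicit false
universe u
open CategoryTheory CategoryTheory.Limits AlgebraicGeometry TopologicalSpace
open Rat20

namespace Groth.Agent.S3848

/-- In the case S = X (valuative criterion for a rational map to be defined at a point): let X be a
locally Noetherian scheme, q : Y → X a morphism locally of finite type, U a dense open subset of X,
h : U → Y a section of q over U, x a point of X outside U whose local ring is an integrally closed
domain, and y₀ a point of Y over x with trivial residue field extension (an X-morphism Spec k(x) →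
Y). Then h extends to a section h' of q over an open subset U' containing U and x with h'(x) = y₀ if
and only if: for every discrete valuation ring R and every morphism u : Spec R → X sending the
closed point to x and the generic point into U, there is a morphism h₁ : Spec R → Y over X sending
the closed point to y₀ and agreeing with h at the generic point. -/
theorem result {X Y : Scheme.{u}} [IsLocallyNoetherian X] (q : Y ⟶ X)
    [LocallyOfFiniteType q] (U : X.Opens) (hU : Dense (U : Set ↥X)) (h : (U : Scheme.{u}) ⟶ Y)
    (hh : h ≫ q = U.ι) (x : ↥X) (hxU : x ∉ U) [IsDomain ↑(X.presheaf.stalk x)]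
    (hx : IsIntegrallyClosed ↑(X.presheaf.stalk x)) (y₀ : ↥Y) (hy₀ : q y₀ = x)
    (hk : Function.Bijective (q.residueFieldMap y₀)) :
    (∃ (U' : X.Opens) (hUU' : U ≤ U') (hxU' : x ∈ U') (h' : (U' : Scheme.{u}) ⟶ Y),
        h' ≫ q = U'.ι ∧ X.homOfLE hUU' ≫ h' = h ∧ h' ⟨x, hxU'⟩ = y₀) ↔
      ∀ (R : Type u) [CommRing R] [IsDomain R] [IsDiscreteValuationRing R]
        (u : Spec (CommRingCat.of R) ⟶ X), u (IsLocalRing.closedPoint R) = x →
        ∀ ub : Spec (CommRingCat.of (FractionRing R)) ⟶ (U : Scheme.{u}),
          ub ≫ U.ι = Spec.map (CommRingCat.ofHom (algebraMap R (FractionRing R))) ≫ u →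
          ∃ h₁ : Spec (CommRingCat.of R) ⟶ Y, h₁ ≫ q = u ∧ h₁ (IsLocalRing.closedPoint R) = y₀ ∧
            Spec.map (CommRingCat.ofHom (algebraMap R (FractionRing R))) ≫ h₁ = ub ≫ h := by
  constructor
  · rintro ⟨U', hUU', hxU', h', h1, h2, h3⟩ R _ _ _ u hu ub hub
    have hpre : u ⁻¹ᵁ U' = ⊤ :=
      Groth.Agent.H73.AnClosed.preimage_eq_top_of_closedPoint_mem u U' (by rw [hu]; exact hxU')
    have hrange : Set.range u.base ⊆ Set.range U'.ι.base := by
      rw [Scheme.Opens.range_ι]
      rintro _ ⟨t, rfl⟩
      have : t ∈ u ⁻¹ᵁ U' := by rw [hpre]; trivial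
      exact this
    let u' : Spec (CommRingCat.of R) ⟶ (U' : Scheme.{u}) := IsOpenImmersion.lift U'.ι u hrange
    have hu' : u' ≫ U'.ι = u := IsOpenImmersion.lift_fac _ _ _
    refine ⟨u' ≫ h', ?_, ?_, ?_⟩
    · rw [Category.assoc, h1, hu']
    · have h4 : u'.base (IsLocalRing.closedPoint R) = ⟨x, hxU'⟩ := by
        apply Subtype.ext
        have := congrArg (fun f => f.base (IsLocalRing.closedPoint R)) hu'
        simp only [Scheme.Hom.comp_apply] at this
        rw [hu] at this
        exact this
      rw [Scheme.Hom.comp_apply, h4]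
      exact h3
    · have h5 : Spec.map (CommRingCat.ofHom (algebraMap R (FractionRing R))) ≫ u' =
          ub ≫ X.homOfLE hUU' := by
        rw [← cancel_mono U'.ι, Category.assoc, Category.assoc, hu', Scheme.homOfLE_ι, hub]
      rw [← Category.assoc, h5, Category.assoc, h2]
  · intro H
    exact Groth.Agent.H73.RatExt.exists_extension hU hh hx hxU hy₀ H

end Groth.Agent.S3848
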