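import Groth.Statements.S3849
import Groth.Agent.H73.RatExtQF

set_option autoImplicit false
universe u
open CategoryTheory CategoryTheory.Limits AlgebraicGeometry TopologicalSpace
open Rat20

namespace Groth.Agent.S3849

/-- In the case S = X (sections of q : Y → X): let X be a locally Noetherian scheme, q : Y → X
separated, locally of finite type and locally quasi-finite, U a dense open subset of X, h : U → Y a
section of q over U, and x a point of X outside U whose local ring is an integrally closed domain.
Then h extends to a section of q over an open subset containing U and x if and only if there exist a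
discrete valuation ring R, a morphism u : Spec R → X sending the closed point to x and the generic
point into U, and a morphism Spec R → Y over X agreeing with h at the generic point. -/
theorem result {X Y : Scheme.{u}} [IsLocallyNoetherian X] (q : Y ⟶ X)
    [LocallyOfFiniteType q] [IsSeparated q] [LocallyQuasiFinite q] (U : X.Opens) (hU : Dense (U : Set ↥X))
    (h : (U : Scheme.{u}) ⟶ Y) (hh : h ≫ q = U.ι) (x : ↥X) (hxU : x ∉ U) [IsDomain ↑(X.presheaf.stalk x)]
    (hx : IsIntegrallyClosed ↑(X.presheaf.stalk x)) :
    (∃ (U' : X.Opens) (hUU' : U ≤ U') (h' : (U' : Scheme.{u}) ⟶ Y),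
        x ∈ U' ∧ h' ≫ q = U'.ι ∧ X.homOfLE hUU' ≫ h' = h) ↔
      ∃ (R : Type u) (_ : CommRing R) (_ : IsDomain R) (_ : IsDiscreteValuationRing R)
        (u : Spec (CommRingCat.of R) ⟶ X) (ub : Spec (CommRingCat.of (FractionRing R)) ⟶ (U : Scheme.{u}))
        (h₁ : Spec (CommRingCat.of R) ⟶ Y),
        u (IsLocalRing.closedPoint R) = x ∧
          ub ≫ U.ι = Spec.map (CommRingCat.ofHom (algebraMap R (FractionRing R))) ≫ u ∧
          h₁ ≫ q = u ∧ Spec.map (CommRingCat.ofHom (algebraMap R (FractionRing R))) ≫ h₁ = ub ≫ h := by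
  constructor
  · rintro ⟨U', hUU', h', hxU', h1, h2⟩
    obtain ⟨p, ⟨hpU, -⟩, hpx⟩ : ∃ p ∈ (U : Set X) ∩ Set.univ, p ⤳ x :=
      Groth.Agent.H73.RatExt.exists_specializes_of_mem_closure_inter_scheme U.2 isClosed_univ
        (by rw [Set.inter_univ]; exact hU x)
    have hne : x ≠ (𝟙 X : X ⟶ X).base p := by
      rintro rfl
      exact hxU hpU
    obtain ⟨A, uA, hA, hcl, hgen⟩ :=
      Groth.Agent.H73.KA.exists_dvr_through_specialization (𝟙 X) p x hpx hne
    rw [Category.comp_id] at hgen
    have hrange : Set.range (X.fromSpecResidueField p).base ⊆ Set.range U.ι.base := by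
      rw [Scheme.Opens.range_ι]
      rintro _ ⟨t, rfl⟩
      rw [Scheme.fromSpecResidueField_apply]
      exact hpU
    let ubκ : Spec (CommRingCat.of (X.residueField p)) ⟶ (U : Scheme.{u}) :=
      IsOpenImmersion.lift U.ι (X.fromSpecResidueField p) hrange
    have hubκ : ubκ ≫ U.ι = X.fromSpecResidueField p := IsOpenImmersion.lift_fac _ _ _
    let e : FractionRing A ≃ₐ[A] X.residueField p := FractionRing.algEquiv A (X.residueField p)
    have he : CommRingCat.ofHom (algebraMap A (FractionRing A)) =
        CommRingCat.ofHom A.subtype ≫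
          CommRingCat.ofHom (e.symm : X.residueField p →+* FractionRing A) := by
      apply CommRingCat.hom_ext
      apply RingHom.ext
      intro a
      exact (e.symm.commutes a).symm
    let ub : Spec (CommRingCat.of (FractionRing A)) ⟶ (U : Scheme.{u}) :=
      Spec.map (CommRingCat.ofHom (e.symm : X.residueField p →+* FractionRing A)) ≫ ubκ
    have hub : ub ≫ U.ι = Spec.map (CommRingCat.ofHom (algebraMap A (FractionRing A))) ≫ uA := by
      simp only [ub]
      rw [Category.assoc, hubκ, ← hgen, ← Spec.map_comp_assoc, ← he]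
    have hpre : uA ⁻¹ᵁ U' = ⊤ :=
      Groth.Agent.H73.AnClosed.preimage_eq_top_of_closedPoint_mem uA U' (by rw [hcl]; exact hxU')
    have hrange' : Set.range uA.base ⊆ Set.range U'.ι.base := by
      rw [Scheme.Opens.range_ι]
      rintro _ ⟨t, rfl⟩
      have : t ∈ uA ⁻¹ᵁ U' := by rw [hpre]; trivial
      exact this
    let u' : Spec (CommRingCat.of A) ⟶ (U' : Scheme.{u}) := IsOpenImmersion.lift U'.ι uA hrange'
    have hu' : u' ≫ U'.ι = uA := IsOpenImmersion.lift_fac _ _ _
    refine ⟨A, inferInstance, inferInstance, hA, uA, ub, u' ≫ h', hcl, hub, ?_, ?_⟩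
    · rw [Category.assoc, h1, hu']
    · have h5 : Spec.map (CommRingCat.ofHom (algebraMap A (FractionRing A))) ≫ u' =
          ub ≫ X.homOfLE hUU' := by
        rw [← cancel_mono U'.ι, Category.assoc, Category.assoc, hu', Scheme.homOfLE_ι, hub]
      rw [← Category.assoc, h5, Category.assoc, h2]
  · rintro ⟨R, _, _, _, u, ub, h₁, hu, hub, hq₁, hgen⟩
    have hy₀ : q.base (h₁.base (IsLocalRing.closedPoint R)) = x := by
      rw [← Scheme.Hom.comp_apply, hq₁]
      exact hu
    subst hy₀
    have hpU : (ub ≫ U.ι).base (IsLocalRing.closedPoint (FractionRing R)) ∈ U := by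
      rw [Scheme.Hom.comp_apply]
      exact (ub.base (IsLocalRing.closedPoint (FractionRing R))).2
    have hpx : (ub ≫ U.ι).base (IsLocalRing.closedPoint (FractionRing R)) ⤳
        q.base (h₁.base (IsLocalRing.closedPoint R)) := by
      rw [hub, Scheme.Hom.comp_apply, ← Scheme.Hom.comp_apply h₁ q, hq₁]
      exact (IsLocalRing.specializes_closedPoint (R := R) _).map u.continuous
    have hj := Groth.Agent.H73.RatExt.jK_preimage_eq_top_of_mem _ hpx hpU
    refine Groth.Agent.H73.RatExt.exists_extension_of_quasiFinite hh hx hj ?_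
    intro ubK hubK
    have h1 := Groth.Agent.H73.RatExt.jK_specializes _ hpx
    rw [← hubK] at h1
    have h2 : ubK.base (IsLocalRing.closedPoint _) ⤳
        ub.base (IsLocalRing.closedPoint (FractionRing R)) := by
      rw [← U.ι.isEmbedding.isInducing.specializes_iff]
      exact h1
    have h3 := h2.map h.continuous
    rw [Scheme.Hom.comp_apply]
    refine h3.trans ?_
    rw [← Scheme.Hom.comp_apply ub h, ← hgen, Scheme.Hom.comp_apply]
    exact (IsLocalRing.specializes_closedPoint (R := R) _).map h₁.continuous

end Groth.Agent.S3849
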