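import Groth.Statements.S5054
import Groth.Agent.H87.GenRankE
import Groth.Agent.H87.GenRankF
import Groth.Agent.H87.GenRankC
import Groth.Agent.S4557
import Groth.Agent.S5991
import Groth.Agent.S5080
import Groth.Agent.H15.CohenNorm
import Groth.Agent.H61.ObsDimMain

set_option autoImplicit false
set_option maxHeartbeats 800000
universe u
open EGA418

namespace Groth.Agent.S5054


open IsLocalRing TensorProduct

section main

variable (k A : Type u) [Field k] [CommRing A] [IsLocalRing A] [IsNoetherianRing A] [Algebra k A]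
  [IsAdicComplete (maximalIdeal A) A] [Module.Finite k (ResidueField A)]

/-- (⇐): a finite unramified-at-`p` map from `k⟦T₁..T_m⟧` gives `m` generators of `Ω̂_p`. -/
theorem gens_of_unramified (p : Ideal A) [p.IsPrime] (m : ℕ)
    [Algebra (MvPowerSeries (Fin m) k) A] [IsScalarTower k (MvPowerSeries (Fin m) k) A]
    [IsLocalHom (algebraMap (MvPowerSeries (Fin m) k) A)]
    [Module.Finite (MvPowerSeries (Fin m) k) A]
    (hunr : Algebra.IsUnramifiedAt (MvPowerSeries (Fin m) k) p) :
    ∃ s : Fin m → LocalizedModule p.primeCompl (AdicCompletion (maximalIdeal A) (Ω[A⁄k])),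
      Submodule.span (Localization.AtPrime p) (Set.range s) = ⊤ := by
  classical
  haveI := Groth.Agent.H61.Obs.ps_isRegularLocalRing (k := k) m
  haveI : IsNoetherianRing (MvPowerSeries (Fin m) k) := inferInstance
  haveI : IsAdicComplete (maximalIdeal (MvPowerSeries (Fin m) k)) (MvPowerSeries (Fin m) k) :=
    Groth.Agent.H61.PS.isAdicComplete
  haveI : Module.Finite (ResidueField A) (Ω[ResidueField A⁄k]) := inferInstance
  obtain ⟨hcompl, hsurj, hex⟩ := Groth.Agent.S5991.result k (MvPowerSeries (Fin m) k) A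
  have hgen := Groth.Agent.H87.GenRankE.span_of_eq_top (maximalIdeal A)
    (maximalIdeal A).fg_of_isNoetherianRing _ (Groth.Agent.S4557.mem_span_sup k m A)
  rw [Groth.Agent.H87.GenRankF.isUnramifiedAt_iff] at hunr
  set fh := (AdicCompletion.map (maximalIdeal A)
    (KaehlerDifferential.mapBaseChange k (MvPowerSeries (Fin m) k) A)).restrictScalars A with hfh
  set gh := (AdicCompletion.map (maximalIdeal A)
    (KaehlerDifferential.map k (MvPowerSeries (Fin m) k) A A)).restrictScalars A with hgh
  let ω : Fin m → AdicCompletion (maximalIdeal A) (Ω[A⁄k]) := fun i =>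
    fh (AdicCompletion.of (maximalIdeal A) _ ((1 : A) ⊗ₜ[MvPowerSeries (Fin m) k]
      KaehlerDifferential.D k (MvPowerSeries (Fin m) k) (MvPowerSeries.X i)))
  refine ⟨fun i => LocalizedModule.mkLinearMap p.primeCompl _ (ω i), ?_⟩
  have h := Groth.Agent.H87.GenRankF.span_localized_eq_top p (Set.range ω) ?_
  · rw [← Set.range_comp] at h
    exact h
  intro x
  obtain ⟨y, hy⟩ := (AdicCompletion.ofLinearEquiv (maximalIdeal A)
    (Ω[A⁄MvPowerSeries (Fin m) k])).surjective (gh x)
  obtain ⟨s, hs, hsy⟩ := hunr y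
  refine ⟨s, hs, ?_⟩
  have h1 : gh (s • x) = 0 := by
    rw [map_smul, ← hy, ← map_smul, hsy, map_zero]
  have h2 : s • x ∈ LinearMap.range (AdicCompletion.map (maximalIdeal A)
      (KaehlerDifferential.mapBaseChange k (MvPowerSeries (Fin m) k) A)) := by
    rw [hex]; exact h1
  obtain ⟨z, hz1⟩ := h2
  have hz' : z ∈ Submodule.span A (Set.range fun i : Fin m =>
      AdicCompletion.of (maximalIdeal A) _ ((1 : A) ⊗ₜ[MvPowerSeries (Fin m) k]
        KaehlerDifferential.D k (MvPowerSeries (Fin m) k) (MvPowerSeries.X i))) := by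
    rw [hgen]; trivial
  have h4 : fh z = s • x := hz1
  rw [← h4]
  clear h4 hz1
  induction hz' using Submodule.span_induction with
  | mem v hv =>
    obtain ⟨i, rfl⟩ := hv
    exact Submodule.subset_span ⟨i, rfl⟩
  | zero => rw [map_zero]; exact zero_mem _
  | add v v' _ _ hv hv' => rw [map_add]; exact add_mem hv hv'
  | smul a v _ hv => rw [map_smul]; exact Submodule.smul_mem _ _ hv

/-- (⇒): `m` generators of `Ω̂_p` give a finite map from `k⟦T₁..T_m⟧` unramified at `p`. -/
theorem exists_algebra_of_gens (p : Ideal A) [p.IsPrime] (hp : p ≠ maximalIdeal A)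
    (hq : ∃ q ∈ minimalPrimes A, q ≤ p ∧ ringKrullDim (A ⧸ q) = ringKrullDim A) (m : ℕ)
    (hgen : ∃ s : Fin m → LocalizedModule p.primeCompl
      (AdicCompletion (maximalIdeal A) (Ω[A⁄k])),
      Submodule.span (Localization.AtPrime p) (Set.range s) = ⊤) :
    ∃ (_ : Algebra (MvPowerSeries (Fin m) k) A) (_ : IsScalarTower k (MvPowerSeries (Fin m) k) A),
      IsLocalHom (algebraMap (MvPowerSeries (Fin m) k) A) ∧
        Module.Finite (MvPowerSeries (Fin m) k) A ∧
          Algebra.IsUnramifiedAt (MvPowerSeries (Fin m) k) p := by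
  classical
  obtain ⟨q, hqmin, hqp, hqdim⟩ := hq
  haveI : q.IsPrime := hqmin.1.1
  obtain ⟨n, hn⟩ := Groth.Agent.H15.CohenNorm.exists_nat_ringKrullDim A
  have hn' : ringKrullDim A = (n : WithBot ℕ∞) := hn
  have hnq : ringKrullDim (A ⧸ q) = (n : WithBot ℕ∞) := hqdim.trans hn'
  haveI : IsScalarTower A (A ⧸ q) (FractionRing (A ⧸ q)) := inferInstance
  obtain ⟨Φ, hΦ⟩ := Groth.Agent.H87.GenRankC.exists_Phi k A q n hnq (FractionRing (A ⧸ q))
  have hK : ∀ s ∈ p.primeCompl, algebraMap A (FractionRing (A ⧸ q)) s ≠ 0 := by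
    intro s hs h0
    have h1 : algebraMap (A ⧸ q) (FractionRing (A ⧸ q)) (Ideal.Quotient.mk q s) = 0 := by
      rw [← h0, IsScalarTower.algebraMap_apply A (A ⧸ q) (FractionRing (A ⧸ q))]
      rfl
    have h2 : Ideal.Quotient.mk q s = 0 :=
      (IsFractionRing.injective (A ⧸ q) (FractionRing (A ⧸ q))) (by rw [h1, map_zero])
    rw [Ideal.Quotient.eq_zero_iff_mem] at h2
    exact hs (hqp h2)
  have hG : ∀ (r : ℕ) (g : Fin r → LocalizedModule p.primeCompl
      (AdicCompletion (maximalIdeal A) (Ω[A⁄k]))),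
      Submodule.span (Localization.AtPrime p) (Set.range g) = ⊤ → n ≤ r :=
    fun r g hg => Groth.Agent.H87.GenRankC.le_card_of_span_localized p hK n Φ hΦ g hg
  -- minimal number of generators
  have hPr : ∃ r : ℕ, ∃ s : Fin r → LocalizedModule p.primeCompl
      (AdicCompletion (maximalIdeal A) (Ω[A⁄k])),
      Submodule.span (Localization.AtPrime p) (Set.range s) = ⊤ := ⟨m, hgen⟩
  set M₀ := Nat.find hPr with hM₀
  have hM₀gen := Nat.find_spec hPr
  have hM₀le : M₀ ≤ m := Nat.find_min' hPr hgen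
  have hnM₀ : n ≤ M₀ := by
    obtain ⟨g, hg⟩ := hM₀gen
    exact hG _ g hg
  have hmin : ∀ s : Finset (LocalizedModule p.primeCompl
      (AdicCompletion (maximalIdeal A) (Ω[A⁄k]))),
      Submodule.span (Localization.AtPrime p) (↑s : Set (LocalizedModule p.primeCompl
      (AdicCompletion (maximalIdeal A) (Ω[A⁄k])))) = ⊤ → M₀ ≤ s.card := by
    intro s hs
    apply Nat.find_min' hPr
    refine ⟨fun i => ((s.equivFin.symm i : s) : LocalizedModule p.primeCompl
      (AdicCompletion (maximalIdeal A) (Ω[A⁄k]))), ?_⟩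
    have hr : Set.range (fun i => ((s.equivFin.symm i : s) : LocalizedModule p.primeCompl
        (AdicCompletion (maximalIdeal A) (Ω[A⁄k])))) = ↑s := by
      ext b
      constructor
      · rintro ⟨i, rfl⟩
        exact (s.equivFin.symm i).2
      · intro hb
        exact ⟨s.equivFin ⟨b, hb⟩, by simp⟩
    rw [hr]
    exact hs
  -- system of parameters avoiding `p`
  obtain ⟨x, hx, hxprim⟩ := Groth.Agent.H87.GenRankF.exists_sop_notMem A p hp n hn'
  obtain ⟨w, hwm, hwp⟩ : ∃ w ∈ maximalIdeal A, w ∉ p := by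
    by_contra h
    push Not at h
    exact hp (le_antisymm (IsLocalRing.le_maximalIdeal (Ideal.IsPrime.ne_top ‹_›)) h)
  let x' : Fin M₀ → A := fun i => if h : (i : ℕ) < n then x ⟨i, h⟩ else w
  have hx'_pos : ∀ (i : Fin M₀) (h : (i : ℕ) < n), x' i = x ⟨i, h⟩ := fun i h => dif_pos h
  have hx'_neg : ∀ (i : Fin M₀), ¬ (i : ℕ) < n → x' i = w := fun i h => dif_neg h
  have hx' : ∀ i, x' i ∈ maximalIdeal A ∧ x' i ∉ p := by
    intro i
    by_cases h : (i : ℕ) < n
    · rw [hx'_pos i h]; exact hx _
    · rw [hx'_neg i h]; exact ⟨hwm, hwp⟩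
  obtain ⟨u, hu⟩ := Groth.Agent.S5080.result k A p hp M₀ hM₀gen hmin x' hx'
  let z : Fin m → A := fun i => if h : (i : ℕ) < M₀ then (u ⟨i, h⟩ : A) * x' ⟨i, h⟩ else 0
  have hz_pos : ∀ (i : Fin m) (h : (i : ℕ) < M₀), z i = (u ⟨i, h⟩ : A) * x' ⟨i, h⟩ :=
    fun i h => dif_pos h
  have hz_neg : ∀ (i : Fin m), ¬ (i : ℕ) < M₀ → z i = 0 := fun i h => dif_neg h
  have hzm : ∀ i, z i ∈ maximalIdeal A := by
    intro i
    by_cases h : (i : ℕ) < M₀
    · rw [hz_pos i h]; exact Ideal.mul_mem_left _ _ (hx' _).1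
    · rw [hz_neg i h]; exact zero_mem _
  have hzprim : ∀ P : Ideal A, P.IsPrime → Ideal.span (Set.range z) ≤ P →
      P = maximalIdeal A := by
    intro P hP hle
    apply hxprim P hP
    rw [Ideal.span_le]
    rintro _ ⟨i, rfl⟩
    have hi : (i : ℕ) < M₀ := lt_of_lt_of_le i.2 hnM₀
    have hi' : (i : ℕ) < m := lt_of_lt_of_le hi hM₀le
    have h1 : z ⟨i, hi'⟩ = (u ⟨i, hi⟩ : A) * x i := by
      rw [hz_pos ⟨i, hi'⟩ hi, hx'_pos ⟨i, hi⟩ i.2]
    have h2 : x i = (((u ⟨i, hi⟩)⁻¹ : Aˣ) : A) * z ⟨i, hi'⟩ := by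
      rw [h1, ← mul_assoc, Units.inv_mul, one_mul]
    rw [SetLike.mem_coe, h2]
    exact Ideal.mul_mem_left _ _ (hle (Ideal.subset_span ⟨_, rfl⟩))
  obtain ⟨F, hFX, hFfin⟩ := Groth.Agent.H87.GenRankF.exists_finite_ps k A m z hzm hzprim
  letI alg : Algebra (MvPowerSeries (Fin m) k) A := F.toRingHom.toAlgebra
  haveI tower : IsScalarTower k (MvPowerSeries (Fin m) k) A :=
    IsScalarTower.of_algebraMap_eq (fun c => (F.commutes c).symm)
  have hloc : IsLocalHom (algebraMap (MvPowerSeries (Fin m) k) A) :=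
    Groth.Agent.H87.GenRankF.isLocalHom_of_X_mem k A m F (fun i => by rw [hFX]; exact hzm i)
  haveI hfin : Module.Finite (MvPowerSeries (Fin m) k) A := hFfin
  refine ⟨alg, tower, hloc, hfin, ?_⟩
  rw [Groth.Agent.H87.GenRankF.isUnramifiedAt_iff]
  haveI := Groth.Agent.H61.Obs.ps_isRegularLocalRing (k := k) m
  haveI : IsNoetherianRing (MvPowerSeries (Fin m) k) := inferInstance
  haveI : IsAdicComplete (maximalIdeal (MvPowerSeries (Fin m) k)) (MvPowerSeries (Fin m) k) :=
    Groth.Agent.H61.PS.isAdicComplete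
  haveI : Module.Finite (ResidueField A) (Ω[ResidueField A⁄k]) := inferInstance
  obtain ⟨hcompl, hsurj, hex⟩ := Groth.Agent.S5991.result k (MvPowerSeries (Fin m) k) A
  intro y
  set gh := (AdicCompletion.map (maximalIdeal A)
    (KaehlerDifferential.map k (MvPowerSeries (Fin m) k) A A)).restrictScalars A with hgh
  obtain ⟨ξ, hξ⟩ := hsurj (AdicCompletion.of (maximalIdeal A) _ y)
  have hξ' : gh ξ = AdicCompletion.of (maximalIdeal A) _ y := hξ
  let S : Set (AdicCompletion (maximalIdeal A) (Ω[A⁄k])) := Set.range fun i : Fin M₀ =>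
    AdicCompletion.of (maximalIdeal A) (Ω[A⁄k]) (KaehlerDifferential.D k A ((u i : A) * x' i))
  have hS : LocalizedModule.mkLinearMap p.primeCompl _ ξ ∈
      Submodule.span (Localization.AtPrime p)
        (LocalizedModule.mkLinearMap p.primeCompl _ '' S) := by
    rw [← Set.range_comp]
    have : (⇑(LocalizedModule.mkLinearMap p.primeCompl
        (AdicCompletion (maximalIdeal A) (Ω[A⁄k]))) ∘ fun i : Fin M₀ =>
        AdicCompletion.of (maximalIdeal A) (Ω[A⁄k])
          (KaehlerDifferential.D k A ((u i : A) * x' i))) =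
        fun i => LocalizedModule.mkLinearMap p.primeCompl
          (AdicCompletion (maximalIdeal A) (Ω[A⁄k]))
          (AdicCompletion.of (maximalIdeal A) (Ω[A⁄k])
            (KaehlerDifferential.D k A ((u i : A) * x' i))) := rfl
    rw [this, hu]
    trivial
  obtain ⟨s, hs, hsξ⟩ := Groth.Agent.H87.GenRankF.exists_smul_mem_span p S ξ hS
  refine ⟨s, hs, ?_⟩
  have hkill : ∀ v ∈ Submodule.span A S, gh v = 0 := by
    intro v hv
    induction hv using Submodule.span_induction with
    | mem v hv =>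
      obtain ⟨i, rfl⟩ := hv
      show AdicCompletion.map (maximalIdeal A)
        (KaehlerDifferential.map k (MvPowerSeries (Fin m) k) A A)
        (AdicCompletion.of (maximalIdeal A) _ _) = 0
      rw [AdicCompletion.map_of, KaehlerDifferential.map_D]
      have hi' : (i : ℕ) < m := lt_of_lt_of_le i.2 hM₀le
      have h5 : algebraMap A A ((u i : A) * x' i) =
          algebraMap (MvPowerSeries (Fin m) k) A (MvPowerSeries.X ⟨i, hi'⟩) := by
        show _ = F (MvPowerSeries.X _)
        rw [hFX, hz_pos ⟨i, hi'⟩ i.2]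
        rfl
      rw [h5, Derivation.map_algebraMap, map_zero]
    | zero => exact map_zero _
    | add v v' _ _ hv hv' => rw [map_add, hv, hv', add_zero]
    | smul a v _ hv => rw [map_smul, hv, smul_zero]
  have h1 : gh (s • ξ) = 0 := hkill _ hsξ
  rw [map_smul, hξ', ← map_smul] at h1
  exact AdicCompletion.of_injective (maximalIdeal A) _ (h1.trans (map_zero _).symm)

end main

/-- Let k be a field, A a complete Noetherian local k-algebra whose residue field is a finite extension
of k, p a prime ideal of A distinct from the maximal ideal and containing a minimal prime q with dim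
A/q = dim A, Ω̂ the completion (for the topology of the maximal ideal) of the module of
differentials of A over k, and m a natural number. Then the A_p-module Ω̂_p is generated by m
elements if and only if there is a local k-algebra homomorphism from the power series ring k[[T_1,
…, T_m]] to A making A a finite algebra over it which is unramified at p. -/
theorem result (k A : Type u) [Field k] [CommRing A]
    [IsLocalRing A] [IsNoetherianRing A] [Algebra k A] [IsAdicComplete (IsLocalRing.maximalIdeal A) A]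
    [Module.Finite k (IsLocalRing.ResidueField A)]
    (p : Ideal A) [p.IsPrime] (hp : p ≠ IsLocalRing.maximalIdeal A)
    (hq : ∃ q ∈ minimalPrimes A, q ≤ p ∧ ringKrullDim (A ⧸ q) = ringKrullDim A) (m : ℕ) :
    (∃ s : Fin m → (LocalizedModule p.primeCompl (AdicCompletion (IsLocalRing.maximalIdeal A) (KaehlerDifferential k A))), Submodule.span (Localization.AtPrime p) (Set.range s) = ⊤) ↔
      ∃ (_ : Algebra (MvPowerSeries (Fin m) k) A) (_ : IsScalarTower k (MvPowerSeries (Fin m) k) A),
        IsLocalHom (algebraMap (MvPowerSeries (Fin m) k) A) ∧ Module.Finite (MvPowerSeries (Fin m) k) A ∧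
          Algebra.IsUnramifiedAt (MvPowerSeries (Fin m) k) p := by
  constructor
  · intro hgen
    exact exists_algebra_of_gens k A p hp hq m hgen
  · rintro ⟨alg, tower, hloc, hfin, hunr⟩
    exact gens_of_unramified k A p m hunr

end Groth.Agent.S5054
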