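import Groth.Statements.S5055
import Groth.Agent.H87.GenRankH
import Groth.Agent.H87.GenRankC
import Groth.Agent.S5054

set_option autoImplicit false
set_option maxHeartbeats 800000
universe u
open EGA418

namespace Groth.Agent.S5055


open IsLocalRing TensorProduct

section main

variable (k A : Type u) [Field k] [CommRing A] [IsLocalRing A] [IsNoetherianRing A] [Algebra k A]
  [IsAdicComplete (maximalIdeal A) A] [Module.Finite k (ResidueField A)]

/-- étale at `p` over `k⟦T₁..Tₙ⟧`, `n` generators ⇒ free of rank `n` and geometrically regular. -/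
theorem free_of_gens_of_etale (n : ℕ) (p : Ideal A) [p.IsPrime]
    (q : Ideal A) (hqmin : q ∈ minimalPrimes A) (hqp : q ≤ p) (hqdim : ringKrullDim (A ⧸ q) = n)
    [Algebra (MvPowerSeries (Fin n) k) A] [IsScalarTower k (MvPowerSeries (Fin n) k) A]
    [Module.Finite (MvPowerSeries (Fin n) k) A]
    (het : Algebra.IsEtaleAt (MvPowerSeries (Fin n) k) p)
    (hgen : ∃ s : Fin n → LocalizedModule p.primeCompl
      (AdicCompletion (maximalIdeal A) (Ω[A⁄k])),
      Submodule.span (Localization.AtPrime p) (Set.range s) = ⊤) :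
    (Module.Free (Localization.AtPrime p) (LocalizedModule p.primeCompl
        (AdicCompletion (maximalIdeal A) (Ω[A⁄k]))) ∧
      Module.finrank (Localization.AtPrime p) (LocalizedModule p.primeCompl
        (AdicCompletion (maximalIdeal A) (Ω[A⁄k]))) = n) ∧
      CAlg.IsGeometricallyRegular k (Localization.AtPrime p) := by
  classical
  haveI : q.IsPrime := hqmin.1.1
  haveI hreg := Groth.Agent.H61.Obs.ps_isRegularLocalRing (k := k) n
  haveI : IsNoetherianRing (MvPowerSeries (Fin n) k) := inferInstance
  haveI : IsDomain (MvPowerSeries (Fin n) k) := NoZeroDivisors.to_isDomain _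
  haveI : IsIntegrallyClosed (MvPowerSeries (Fin n) k) := Groth.Agent.S9829.result _
  haveI : Algebra.FiniteType (MvPowerSeries (Fin n) k) A := inferInstance
  haveI : Algebra.FinitePresentation (MvPowerSeries (Fin n) k) A :=
    Algebra.FinitePresentation.of_finiteType.mp inferInstance
  haveI : Algebra.IsEtaleAt (MvPowerSeries (Fin n) k) p := het
  obtain ⟨hdom, hgr⟩ := Groth.Agent.H87.GenRankH.atPrime_of_isEtaleAt k (MvPowerSeries (Fin n) k) A p
  haveI := hdom
  haveI : IsScalarTower A (A ⧸ q) (FractionRing (A ⧸ q)) := inferInstance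
  obtain ⟨Φ, hΦ⟩ := Groth.Agent.H87.GenRankC.exists_Phi k A q n hqdim (FractionRing (A ⧸ q))
  have hKq : ∀ s : A, algebraMap A (FractionRing (A ⧸ q)) s = 0 → s ∈ q := by
    intro s h0
    have h1 : algebraMap (A ⧸ q) (FractionRing (A ⧸ q)) (Ideal.Quotient.mk q s) = 0 := by
      rw [← h0, IsScalarTower.algebraMap_apply A (A ⧸ q) (FractionRing (A ⧸ q))]
      rfl
    have h2 : Ideal.Quotient.mk q s = 0 :=
      (IsFractionRing.injective (A ⧸ q) (FractionRing (A ⧸ q))) (by rw [h1, map_zero])
    rwa [Ideal.Quotient.eq_zero_iff_mem] at h2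
  have hK : ∀ s ∈ p.primeCompl, algebraMap A (FractionRing (A ⧸ q)) s ≠ 0 :=
    fun s hs h0 => hs (hqp (hKq s h0))
  have hker : ∀ a : A, algebraMap A (FractionRing (A ⧸ q)) a = 0 →
      algebraMap A (Localization.AtPrime p) a = 0 := fun a ha =>
    Groth.Agent.H87.GenRankH.algebraMap_eq_zero_of_mem_minimalPrime p q hqmin hqp a (hKq a ha)
  obtain ⟨g, hg⟩ := hgen
  have hli := Groth.Agent.H87.GenRankH.linearIndependent_of_span_localized p hK hker n Φ hΦ g hg
  let B : Module.Basis (Fin n) (Localization.AtPrime p) (LocalizedModule p.primeCompl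
      (AdicCompletion (maximalIdeal A) (Ω[A⁄k]))) := Module.Basis.mk hli hg.ge
  refine ⟨⟨Module.Free.of_basis B, ?_⟩, hgr (Groth.Agent.H87.GenRankG.isGeometricallyRegular_mvPowerSeries k n)⟩
  rw [Module.finrank_eq_card_basis B, Fintype.card_fin]

end main

/-- Let k be a field, A a complete Noetherian local k-algebra of Krull dimension n whose residue field
is a finite extension of k, p a prime ideal distinct from the maximal ideal and containing a minimal
prime q with dim A/q = n, and Ω̂ the completion of the module of differentials of A over k. If the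
A_p-module Ω̂_p is generated by n elements, then it is free of rank n and A_p is a geometrically
regular k-algebra. -/
theorem result (k A : Type u) [Field k] [CommRing A]
    [IsLocalRing A] [IsNoetherianRing A] [Algebra k A] [IsAdicComplete (IsLocalRing.maximalIdeal A) A]
    [Module.Finite k (IsLocalRing.ResidueField A)]
    (n : ℕ) (hn : ringKrullDim A = n) (p : Ideal A) [p.IsPrime] (hp : p ≠ IsLocalRing.maximalIdeal A)
    (hq : ∃ q ∈ minimalPrimes A, q ≤ p ∧ ringKrullDim (A ⧸ q) = n)
    (hgen : ∃ s : Fin n → (LocalizedModule p.primeCompl (AdicCompletion (IsLocalRing.maximalIdeal A) (KaehlerDifferential k A))), Submodule.span (Localization.AtPrime p) (Set.range s) = ⊤) :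
    (Module.Free (Localization.AtPrime p) (LocalizedModule p.primeCompl (AdicCompletion (IsLocalRing.maximalIdeal A) (KaehlerDifferential k A))) ∧
      Module.finrank (Localization.AtPrime p) (LocalizedModule p.primeCompl (AdicCompletion (IsLocalRing.maximalIdeal A) (KaehlerDifferential k A))) = n) ∧
      CAlg.IsGeometricallyRegular k (Localization.AtPrime p) := by
  classical
  have hq' : ∃ q ∈ minimalPrimes A, q ≤ p ∧ ringKrullDim (A ⧸ q) = ringKrullDim A := by
    rw [hn]; exact hq
  obtain ⟨alg, tower, hloc, hfin, hunr⟩ := (Groth.Agent.S5054.result k A p hp hq' n).mp hgen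
  obtain ⟨q, hqmin, hqp, hqdim⟩ := hq
  haveI : q.IsPrime := hqmin.1.1
  have het := Groth.Agent.H87.GenRankH.isEtaleAt_of_unramified k n A p hunr q hqp hqdim
  exact free_of_gens_of_etale k A n p q hqmin hqp hqdim het hgen

end Groth.Agent.S5055
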