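import Groth.Statements.S3850
import Groth.Agent.H87.GenRankH
import Groth.Agent.S5055
import Groth.Agent.S5054
import Groth.Agent.S5080

set_option autoImplicit false
set_option maxHeartbeats 800000
universe u
open EGA418

namespace Groth.Agent.S3850

/-- b) iff c), in the case n = dim A: let k be a field, A a complete Noetherian local k-algebra whose
residue field is finite over k, of dimension n, p a non-maximal prime ideal of A contained in an
irreducible component of dimension n (there is a minimal prime q ⊆ p with dim A/q = n), and Ω̂ the
completion of the module of differentials of A over k for the topology of the maximal ideal. Then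
Ω̂_p is a free A_p-module of rank n if and only if there is a local k-algebra map u : k[[T_1, …,
T_n]] → A making A a finite algebra over the power series ring and étale over it at p. -/
theorem result (k A : Type u) [Field k] [CommRing A]
    [IsLocalRing A] [IsNoetherianRing A] [Algebra k A] [IsAdicComplete (IsLocalRing.maximalIdeal A) A]
    [Module.Finite k (IsLocalRing.ResidueField A)] (n : ℕ) (hn : ringKrullDim A = n)
    (p : Ideal A) [p.IsPrime] (hp : p ≠ IsLocalRing.maximalIdeal A)
    (hq : ∃ q ∈ minimalPrimes A, q ≤ p ∧ ringKrullDim (A ⧸ q) = n) :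
    (Module.Free (Localization.AtPrime p)
        (LocalizedModule p.primeCompl (AdicCompletion (IsLocalRing.maximalIdeal A) (KaehlerDifferential k A))) ∧
      Module.finrank (Localization.AtPrime p)
        (LocalizedModule p.primeCompl (AdicCompletion (IsLocalRing.maximalIdeal A) (KaehlerDifferential k A))) = n) ↔
      ∃ (_ : Algebra (MvPowerSeries (Fin n) k) A) (_ : IsScalarTower k (MvPowerSeries (Fin n) k) A),
        IsLocalHom (algebraMap (MvPowerSeries (Fin n) k) A) ∧ Module.Finite (MvPowerSeries (Fin n) k) A ∧
          Algebra.IsEtaleAt (MvPowerSeries (Fin n) k) p := by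
  classical
  have hq' : ∃ q ∈ minimalPrimes A, q ≤ p ∧ ringKrullDim (A ⧸ q) = ringKrullDim A := by
    rw [hn]; exact hq
  haveI : Module.Finite A (AdicCompletion (IsLocalRing.maximalIdeal A) (KaehlerDifferential k A)) :=
    Groth.Agent.S5080.finite_Ωh k A
  constructor
  · rintro ⟨hfree, hrank⟩
    haveI := hfree
    let B := Module.finBasisOfFinrankEq (Localization.AtPrime p)
      (LocalizedModule p.primeCompl (AdicCompletion (IsLocalRing.maximalIdeal A)
        (KaehlerDifferential k A))) hrank
    have hgen : ∃ s : Fin n → (LocalizedModule p.primeCompl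
        (AdicCompletion (IsLocalRing.maximalIdeal A) (KaehlerDifferential k A))),
        Submodule.span (Localization.AtPrime p) (Set.range s) = ⊤ := ⟨B, B.span_eq⟩
    obtain ⟨alg, tower, hloc, hfin, hunr⟩ := (Groth.Agent.S5054.result k A p hp hq' n).mp hgen
    obtain ⟨q, hqmin, hqp, hqdim⟩ := hq
    haveI : q.IsPrime := hqmin.1.1
    exact ⟨alg, tower, hloc, hfin,
      Groth.Agent.H87.GenRankH.isEtaleAt_of_unramified k n A p hunr q hqp hqdim⟩
  · rintro ⟨alg, tower, hloc, hfin, het⟩
    have hunr : Algebra.IsUnramifiedAt (MvPowerSeries (Fin n) k) p := by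
      haveI : Algebra.FormallyEtale (MvPowerSeries (Fin n) k) (Localization.AtPrime p) := het
      exact (inferInstance : Algebra.FormallyUnramified (MvPowerSeries (Fin n) k)
        (Localization.AtPrime p))
    have hgen := (Groth.Agent.S5054.result k A p hp hq' n).mpr ⟨alg, tower, hloc, hfin, hunr⟩
    obtain ⟨q, hqmin, hqp, hqdim⟩ := hq
    exact (Groth.Agent.S5055.free_of_gens_of_etale k A n p q hqmin hqp hqdim het hgen).1

end Groth.Agent.S3850
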