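import Groth.Statements.S3852
-- import your own Groth.Agent.* helpers here

set_option autoImplicit false
universe u
open FCompl

namespace Groth.Agent.S3852

open AlgebraicGeometry in
/-- Second assertion; stated for quasi-coherent ideal sheaves, with the condition on supports as an
inclusion, which is what the proof uses: Let X be a Noetherian scheme and I, J ideal sheaves such
that the zero locus of J is contained in the zero locus of I. Then I^n ≤ J for some n ≥ 1. -/
theorem result
    (X : Scheme.{u}) [IsNoetherian X] (I J : X.IdealSheafData)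
    (h : (J.support : Set X) ⊆ I.support) :
    ∃ n : ℕ, I ^ (n + 1) ≤ J := by
  have h1 : I ≤ J.radical := by
    rw [← Scheme.IdealSheafData.vanishingIdeal_support,
      ← Scheme.IdealSheafData.le_support_iff_le_vanishingIdeal]
    exact h
  obtain ⟨t, ht⟩ := isCompact_univ.elim_finite_subcover
    (fun U : X.affineOpens => (U.1 : Set X)) (fun U => U.1.2) (by
      intro x _
      obtain ⟨_, ⟨U, hU, rfl⟩, hxU, -⟩ :=
        X.isBasis_affineOpens.exists_subset_of_mem_open (Set.mem_univ x) isOpen_univ
      exact Set.mem_iUnion.mpr ⟨⟨U, hU⟩, hxU⟩)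
  have h2 : ∀ U : X.affineOpens, ∃ n, (J.ideal U).radical ^ n ≤ J.ideal U := fun U =>
    have := IsLocallyNoetherian.component_noetherian U
    Ideal.exists_radical_pow_le_of_fg _ (IsNoetherian.noetherian _)
  choose n hn using h2
  refine ⟨t.sup n, ?_⟩
  apply Scheme.IdealSheafData.le_of_iSup_eq_top (fun U : t => U.1)
  · rw [eq_top_iff]
    rintro x -
    obtain ⟨U, hU⟩ := Set.mem_iUnion.mp (ht (Set.mem_univ x))
    obtain ⟨hUt, hxU⟩ := Set.mem_iUnion.mp hU
    exact TopologicalSpace.Opens.mem_iSup.mpr ⟨⟨U, hUt⟩, hxU⟩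
  · intro U
    rw [Scheme.IdealSheafData.ideal_pow]
    calc (I.ideal U.1) ^ (t.sup n + 1) ≤ (J.ideal U.1).radical ^ (t.sup n + 1) :=
          Ideal.pow_right_mono (h1 U.1) _
      _ ≤ (J.ideal U.1).radical ^ (n U.1) :=
          Ideal.pow_le_pow_right (by have := Finset.le_sup (f := n) U.2; omega)
      _ ≤ J.ideal U.1 := hn U.1

end Groth.Agent.S3852
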