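import Groth.Statements.S3854
import Groth.Agent.H93.IdealSub

set_option autoImplicit false
universe u
open FCompl

namespace Groth.Agent.S3854

section aux

open AlgebraicGeometry CategoryTheory

lemma htoX (X : Scheme.{u}) (𝓘 : X.IdealSheafData) : ∀ k (hk : 𝓘 ^ (k + 1) ≤ 𝓘 ^ (0 + 1)),
    (FSch.completionAlong X 𝓘).toX k = Scheme.IdealSheafData.inclusion hk := by
  intro k
  induction k with
  | zero =>
    intro hk
    exact (Scheme.IdealSheafData.inclusion_id _).symm
  | succ k ih =>
    intro hk
    have hk' : 𝓘 ^ (k + 1) ≤ 𝓘 ^ (0 + 1) :=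
      pow_le_pow_of_le_one bot_le le_top (by omega)
    have h1 : (FSch.completionAlong X 𝓘).toX (k + 1) =
        Scheme.IdealSheafData.inclusion hk' ≫
          Scheme.IdealSheafData.inclusion (FSch.pow_succ_le X 𝓘 k) :=
      congrArg (· ≫ Scheme.IdealSheafData.inclusion (FSch.pow_succ_le X 𝓘 k)) (ih hk')
    rw [h1, Scheme.IdealSheafData.inclusion_comp]

lemma key (X : Scheme.{u}) (𝓘 : X.IdealSheafData) (n : ℕ) (hk : 𝓘 ^ (n + 1 + 1) ≤ 𝓘 ^ (0 + 1)) :
    (Scheme.IdealSheafData.inclusion (FSch.pow_succ_le X 𝓘 n)).ker =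
      (Scheme.IdealSheafData.inclusion hk).ker ^ (n + 1) := by
  rw [Groth.Agent.H93.IdealSub.ker_inclusion, Groth.Agent.H93.IdealSub.ker_inclusion,
    Groth.Agent.H93.IdealComap.comap_pow, Groth.Agent.H93.IdealComap.comap_pow, ← pow_mul]
  simp only [zero_add, one_mul]

end aux


open AlgebraicGeometry in
/-- The completion along a closed subset, presented as the system of closed subschemes cut out by the
powers of an ideal sheaf: Let X be a locally Noetherian scheme and I an ideal sheaf on X. The closed
subschemes defined by I, I^2, I^3, ... with their inclusions form a locally Noetherian adic formal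
system: each inclusion is a surjective closed immersion, the kernel ideal of the n-th inclusion is
the (n+1)-st power of the kernel ideal of the composite inclusion from level 0, and every level is
locally Noetherian. -/
theorem result (X : Scheme.{u}) [IsLocallyNoetherian X]
    (𝓘 : X.IdealSheafData) : (FSch.completionAlong X 𝓘).IsLocNoethFormal := by
  refine ⟨?_, ?_, ?_⟩
  · intro n
    refine ⟨?_, ?_⟩
    · exact Groth.Agent.H93.IdealSub.isClosedImmersion_inclusion (FSch.pow_succ_le X 𝓘 n)
    · exact Groth.Agent.H93.IdealSub.inclusion_surjective (FSch.pow_succ_le X 𝓘 n) (by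
        rw [Scheme.IdealSheafData.support_pow_succ, Scheme.IdealSheafData.support_pow_succ])
  · intro n
    have hk : 𝓘 ^ (n + 1 + 1) ≤ 𝓘 ^ (0 + 1) := pow_le_pow_of_le_one bot_le le_top (by omega)
    change (Scheme.IdealSheafData.inclusion (FSch.pow_succ_le X 𝓘 n)).ker =
      ((FSch.completionAlong X 𝓘).toX (n + 1)).ker ^ (n + 1)
    rw [htoX X 𝓘 (n + 1) hk]
    exact key X 𝓘 n hk
  · intro n
    have hn : IsLocallyNoetherian (𝓘 ^ (n + 1)).subscheme :=
      LocallyOfFiniteType.isLocallyNoetherian (𝓘 ^ (n + 1)).subschemeι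
    exact hn

end Groth.Agent.S3854
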