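import Groth.Statements.S3855
-- import your own Groth.Agent.* helpers here

set_option autoImplicit false
universe u
open FCompl

namespace Groth.Agent.S3855

open AlgebraicGeometry CategoryTheory

section aux

lemma ker_appTop_SpecMap {R S : CommRingCat.{u}} (ψ : R ⟶ S) :
    RingHom.ker (Spec.map ψ).appTop.hom =
      (RingHom.ker ψ.hom).comap (Scheme.ΓSpecIso R).hom.hom := by
  ext x
  rw [RingHom.mem_ker, Ideal.mem_comap, RingHom.mem_ker]
  have h : ((Spec.map ψ).appTop ≫ (Scheme.ΓSpecIso S).hom).hom x =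
      ((Scheme.ΓSpecIso R).hom ≫ ψ).hom x := by rw [Scheme.ΓSpecIso_naturality]
  simp only [CommRingCat.hom_comp, RingHom.comp_apply] at h
  constructor
  · intro hx
    rw [← h, hx, map_zero]
  · intro hx
    rw [hx] at h
    have inj : Function.Injective (Scheme.ΓSpecIso S).hom.hom :=
      (Scheme.ΓSpecIso S).commRingCatIsoToRingEquiv.injective
    exact inj (by rw [h, map_zero])

lemma comap_pow_iso {P R : CommRingCat.{u}} (e : P ≅ R) (I : Ideal R) (m : ℕ) :
    (I ^ m).comap e.hom.hom = (I.comap e.hom.hom) ^ m := by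
  have h : ∀ K : Ideal R, K.comap e.hom.hom = K.map e.commRingCatIsoToRingEquiv.symm := by
    intro K
    rw [Ideal.map_symm]
    rfl
  rw [h, h, Ideal.map_pow]

lemma ideal_top_ker {X Y : Scheme.{u}} [IsAffine Y] (f : X ⟶ Y) :
    f.ker.ideal ⟨⊤, isAffineOpen_top Y⟩ = RingHom.ker f.appTop.hom := by
  rw [Scheme.ker_of_isAffine]
  simp

lemma ker_of_comp_mk {A B : Type*} [CommRing A] [CommRing B] (K L : Ideal A) (φ : A ⧸ K →+* B)
    (hφ : RingHom.ker (φ.comp (Ideal.Quotient.mk K)) = L) :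
    RingHom.ker φ = L.map (Ideal.Quotient.mk K) := by
  rw [← hφ, ← RingHom.comap_ker, Ideal.map_comap_of_surjective _ Ideal.Quotient.mk_surjective]

lemma surj_base {R S : CommRingCat.{u}} (ψ : R ⟶ S) (hs : Function.Surjective ψ.hom)
    (hk : RingHom.ker ψ.hom ≤ nilradical R) : Function.Surjective (Spec.map ψ).base := by
  intro y
  have hy : y ∈ Set.range (PrimeSpectrum.comap ψ.hom) := by
    rw [range_comap_of_surjective _ ψ.hom hs,
      (PrimeSpectrum.zeroLocus_eq_univ_iff _).mpr (fun x hx => hk hx)]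
    exact Set.mem_univ _
  obtain ⟨x, hx⟩ := hy
  exact ⟨x, hx⟩

variable (A : Type u) [CommRing A] (J : Ideal A)

/-- the transition ring map `A/J^(n+2) → A/J^(n+1)`. -/
noncomputable abbrev fac (n : ℕ) : A ⧸ J ^ (n + 2) →+* A ⧸ J ^ (n + 1) :=
  Ideal.Quotient.factor (Ideal.pow_le_pow_right (Nat.le_succ (n + 1)))

lemma trans_eq (n : ℕ) :
    CohB1.specQuotTrans J n = Spec.map (CommRingCat.ofHom (fac A J n)) := rfl

lemma ker_fac (n : ℕ) :
    RingHom.ker (fac A J n) = (J ^ (n + 1)).map (Ideal.Quotient.mk (J ^ (n + 2))) := by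
  have h : (fac A J n).comp (Ideal.Quotient.mk (J ^ (n + 2))) = Ideal.Quotient.mk (J ^ (n + 1)) :=
    Ideal.Quotient.factor_comp_mk _
  apply ker_of_comp_mk
  rw [h, Ideal.mk_ker]

lemma toX_eq (k : ℕ) :
    ∃ φ : A ⧸ J ^ (k + 1) →+* A ⧸ J ^ (0 + 1),
      (FSch.spf A J).toX k = Spec.map (CommRingCat.ofHom φ) ∧
        φ.comp (Ideal.Quotient.mk (J ^ (k + 1))) = Ideal.Quotient.mk (J ^ (0 + 1)) := by
  induction k with
  | zero =>
    refine ⟨RingHom.id _, ?_, rfl⟩
    exact (by rw [CommRingCat.ofHom_id, Spec.map_id] :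
      Spec.map (CommRingCat.ofHom (RingHom.id (A ⧸ J ^ (0 + 1)))) = 𝟙 _).symm
  | succ k ih =>
    obtain ⟨φ, hφ, hφ2⟩ := ih
    refine ⟨φ.comp (fac A J k), ?_, ?_⟩
    · have h1 : (FSch.spf A J).toX (k + 1) =
          Spec.map (CommRingCat.ofHom φ) ≫ Spec.map (CommRingCat.ofHom (fac A J k)) := by
        change (FSch.spf A J).toX k ≫ CohB1.specQuotTrans J k = _
        rw [hφ]
        rfl
      rw [h1, ← Spec.map_comp, ← CommRingCat.ofHom_comp]
    · rw [RingHom.comp_assoc]
      have h : (fac A J k).comp (Ideal.Quotient.mk (J ^ (k + 2))) =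
          Ideal.Quotient.mk (J ^ (k + 1)) := Ideal.Quotient.factor_comp_mk _
      rw [h, hφ2]

lemma adic_core (n : ℕ) (φ : A ⧸ J ^ (n + 2) →+* A ⧸ J ^ (0 + 1))
    (hφmk : φ.comp (Ideal.Quotient.mk (J ^ (n + 2))) = Ideal.Quotient.mk (J ^ (0 + 1))) :
    (Spec.map (CommRingCat.ofHom (fac A J n))).ker =
      (Spec.map (CommRingCat.ofHom φ)).ker ^ (n + 1) := by
  apply Scheme.IdealSheafData.ext_of_isAffine
  rw [Scheme.IdealSheafData.ideal_pow, Pi.pow_apply, ideal_top_ker, ideal_top_ker,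
    ker_appTop_SpecMap, ker_appTop_SpecMap, ← comap_pow_iso]
  congr 1
  change RingHom.ker (fac A J n) = RingHom.ker φ ^ (n + 1)
  rw [ker_fac, ker_of_comp_mk _ (J ^ (0 + 1)) φ (by rw [hφmk, Ideal.mk_ker]), ← Ideal.map_pow,
    ← pow_mul]
  simp

end aux


open AlgebraicGeometry in
/-- Sufficiency (the formal spectrum presented as the system Spec(A/J) -> Spec(A/J^2) -> ...). For a
Noetherian ring A and an ideal J this system is a locally Noetherian adic formal system: the
transition maps are surjective closed immersions, the kernel ideal of Spec(A/J^(n+1)) ->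
Spec(A/J^(n+2)) is the (n+1)-st power of that of Spec(A/J) -> Spec(A/J^(n+2)), and every level is
locally Noetherian. -/
theorem result (A : Type u) [CommRing A] [IsNoetherianRing A] (J : Ideal A) :
    (FSch.spf A J).IsLocNoethFormal := by
  refine ⟨?_, ?_, ?_⟩
  · intro n
    refine ⟨?_, ?_⟩
    · change IsClosedImmersion (Spec.map (CommRingCat.ofHom (fac A J n)))
      exact IsClosedImmersion.spec_of_surjective _
        (Ideal.Quotient.factor_surjective (Ideal.pow_le_pow_right (Nat.le_succ (n + 1))))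
    · change Function.Surjective (Spec.map (CommRingCat.ofHom (fac A J n))).base
      apply surj_base
      · exact Ideal.Quotient.factor_surjective (Ideal.pow_le_pow_right (Nat.le_succ (n + 1)))
      · intro x hx
        have hx' : x ∈ RingHom.ker (fac A J n) := hx
        rw [ker_fac] at hx'
        refine mem_nilradical.mpr ⟨2, ?_⟩
        have h2 : x ^ 2 ∈ ((J ^ (n + 1)).map (Ideal.Quotient.mk (J ^ (n + 2)))) ^ 2 :=
          Ideal.pow_mem_pow hx' 2
        rw [← Ideal.map_pow, ← pow_mul] at h2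
        have hle : J ^ ((n + 1) * 2) ≤ J ^ (n + 2) := Ideal.pow_le_pow_right (by omega)
        have h3 := Ideal.map_mono (f := Ideal.Quotient.mk (J ^ (n + 2))) hle h2
        rw [Ideal.map_quotient_self] at h3
        exact Ideal.mem_bot.mp h3
  · intro n
    obtain ⟨φ, hφ, hφmk⟩ := toX_eq A J (n + 1)
    change (CohB1.specQuotTrans J n).ker = ((FSch.spf A J).toX (n + 1)).ker ^ (n + 1)
    rw [hφ]
    exact adic_core A J n φ hφmk
  · intro n
    change IsLocallyNoetherian (Spec (CommRingCat.of (A ⧸ J ^ (n + 1))))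
    infer_instance

end Groth.Agent.S3855
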