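import Groth.Statements.S3856
import Groth.Agent.Lead.CompleteNoetherian

set_option autoImplicit false
universe u
open AdicRing

namespace Groth.Agent.S3856

/-- Let A be a ring that is complete and separated for the J-adic topology of an ideal J. If A/J² is
Noetherian (equivalently, A/J is Noetherian and J/J² is a finitely generated A/J-module), then A is
Noetherian. The published statement is phrased for a formal spectrum Spf(A) all of whose levels
Spec(A/J^(n+1)) are Noetherian; it is stated here with the weaker hypothesis that A/J² is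
Noetherian. -/
theorem result (A : Type u) [CommRing A]
    (J : Ideal A) [IsAdicComplete J A] [IsNoetherianRing (A ⧸ J ^ 2)] : IsNoetherianRing A := by
  have h1 : IsNoetherianRing (A ⧸ J) :=
    isNoetherianRing_of_surjective (A ⧸ J ^ 2) (A ⧸ J)
      (Ideal.Quotient.factor (Ideal.pow_le_self two_ne_zero)) (Ideal.Quotient.factor_surjective _)
  have h2 : J.FG := by
    classical
    obtain ⟨S, hSJ, hJS⟩ := Groth.Agent.Lead.exists_finset_le_sup (J ^ 2) J
    refine ⟨S, le_antisymm (Ideal.span_le.2 hSJ) ?_⟩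
    have approx : ∀ n : ℕ, ∀ z ∈ J ^ (n + 1),
        ∃ w ∈ J ^ n • Ideal.span (S : Set A), z - w ∈ J ^ (n + 2) := by
      intro n z hz
      have hle : J ^ (n + 1) ≤ J ^ n * Ideal.span (S : Set A) ⊔ J ^ (n + 2) := by
        calc J ^ (n + 1) = J ^ n * J := pow_succ J n
          _ ≤ J ^ n * (Ideal.span (S : Set A) ⊔ J ^ 2) := Ideal.mul_mono_right hJS
          _ = J ^ n * Ideal.span (S : Set A) ⊔ J ^ n * J ^ 2 := Ideal.mul_sup _ _ _
          _ = J ^ n * Ideal.span (S : Set A) ⊔ J ^ (n + 2) := by rw [← pow_add]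
      obtain ⟨w, hw, r, hr, hwr⟩ := Submodule.mem_sup.1 (hle hz)
      refine ⟨w, hw, ?_⟩
      have : z - w = r := by rw [← hwr]; ring
      rw [this]; exact hr
    intro x hx
    have step : ∀ n, ∀ z : {z : A // z ∈ J ^ (n + 1)},
        ∃ z' : {z : A // z ∈ J ^ (n + 2)},
          (z : A) - z' ∈ J ^ n • Ideal.span (S : Set A) := by
      rintro n ⟨z, hz⟩
      obtain ⟨w, hw, hzw⟩ := approx n z hz
      refine ⟨⟨z - w, hzw⟩, ?_⟩
      simpa using hw
    choose nxt hnxt using step
    let zs : ∀ n, {z : A // z ∈ J ^ (n + 1)} := fun n =>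
      Nat.rec (motive := fun n => {z : A // z ∈ J ^ (n + 1)}) ⟨x, by simpa using hx⟩
        (fun n zn => nxt n zn) n
    have hy : ∀ n, (zs n).1 - (zs (n + 1)).1 ∈ J ^ (n - 0) • Ideal.span (S : Set A) :=
      fun n => hnxt n (zs n)
    refine Groth.Agent.Lead.mem_span_of_series J S 0 x (fun n => (zs n).1 - (zs (n + 1)).1) hy ?_
    intro n
    rw [Finset.sum_range_sub' (fun n => (zs n).1)]
    have : x - ((zs 0).1 - (zs n).1) = (zs n).1 := by
      change x - (x - (zs n).1) = (zs n).1
      ring
    rw [this]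
    exact Ideal.pow_le_pow_right (Nat.le_succ n) (zs n).2
  exact Groth.Agent.Lead.isNoetherianRing_of_isAdicComplete J h2

end Groth.Agent.S3856
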