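import Groth.Statements.S3857
import Groth.Agent.H93.ComapFG

set_option autoImplicit false
universe u
open FCompl

namespace Groth.Agent.S3857

open AlgebraicGeometry in
/-- Here formal schemes are presented as systems of thickenings, an adic morphism being one all of whose
squares are cartesian. Let S_0 -> S_1 -> ... be a locally Noetherian adic formal system and (X_n ->
S_n) a compatible family of morphisms such that every square X_n -> X_(n+1), S_n -> S_(n+1) is
cartesian. If X_0 is locally Noetherian, then (X_n) is a locally Noetherian adic formal system. -/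
theorem result {𝔛 𝔖 : FSch.Sys.{u}} (f : 𝔛 ⟶ 𝔖)
    (h𝔖 : 𝔖.IsLocNoethFormal) (hf : FSch.IsAdicHom f) [IsLocallyNoetherian (𝔛.X 0)] :
    𝔛.IsLocNoethFormal := by
  have hF := Groth.Agent.H93.SysPull.isFormal_of_isAdicHom f hf h𝔖.1
  have hA := Groth.Agent.H93.SysPull.isAdic_of_isAdicHom f hf h𝔖.1 h𝔖.2.1
  refine ⟨hF, hA, Groth.Agent.H93.Thick.isLocallyNoetherian_levels 𝔛 hF hA (fun x => ?_)⟩
  have hc := (h𝔖.1 0).1
  have hker : (𝔛.ι 0).ker = (𝔖.ι 0).ker.comap (FSch.Hom.app f 1) :=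
    Groth.Agent.H93.SysPull.ker_eq_comap_of_isPullback (hf 0)
  obtain ⟨U, hU, hxU, -⟩ := exists_isAffineOpen_mem_and_subset
    (X := 𝔖.X 1) (x := (FSch.Hom.app f 1) x) (U := ⊤) trivial
  obtain ⟨V, hV, hxV, hVU⟩ := exists_isAffineOpen_mem_and_subset
    (X := 𝔛.X 1) (x := x) (U := (FSch.Hom.app f 1) ⁻¹ᵁ U) hxU
  refine ⟨⟨V, hV⟩, hxV, ?_⟩
  rw [hker]
  have hS1 := h𝔖.2.2 1
  have hN : IsNoetherianRing Γ(𝔖.X 1, U) := IsLocallyNoetherian.component_noetherian ⟨U, hU⟩
  exact Groth.Agent.H93.ComapFG.fg_ideal_comap _ _ ⟨U, hU⟩ ⟨V, hV⟩ hVU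
    ((isNoetherianRing_iff_ideal_fg _).mp hN _)

end Groth.Agent.S3857
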