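import Groth.Statements.S3860
import Mathlib.RingTheory.AdicCompletion.RingHom

set_option autoImplicit false
universe u
open FCompl

namespace Groth.Agent.S3860


open AlgebraicGeometry CategoryTheory

section helpers

variable {A B : Type u} [CommRing A] [CommRing B] (I : Ideal A) (K : Ideal B)

theorem strictMono_succ : StrictMono (fun n : ℕ => n + 1) := fun _ _ h => Nat.succ_lt_succ h

theorem quotPowMap_mk (φ : B →+* A) (h : K ≤ I.comap φ) (n : ℕ) (b : B) :
    FSch.quotPowMap I K φ h n (Ideal.Quotient.mk (K ^ (n + 1)) b) =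
      Ideal.Quotient.mk (I ^ (n + 1)) (φ b) := rfl

theorem quotPowMap_eq_of_spfMap_eq (φ φ' : B →+* A) (h : K ≤ I.comap φ) (h' : K ≤ I.comap φ')
    (e : FSch.spfMap I K φ h = FSch.spfMap I K φ' h') (n : ℕ) :
    FSch.quotPowMap I K φ h n = FSch.quotPowMap I K φ' h' n := by
  have h1 : (FSch.spfMap I K φ h : FSch.Hom _ _).app n = (FSch.spfMap I K φ' h' : FSch.Hom _ _).app n :=
    congrArg (fun F : FSch.Hom (FSch.spf A I) (FSch.spf B K) => F.app n) e
  rw [FSch.spfMap_app, FSch.spfMap_app] at h1
  have h3 := Spec.map_injective h1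
  have h4 := congrArg CommRingCat.Hom.hom h3
  exact h4

/-- the ring map at level `n` underlying a morphism of systems -/
noncomputable def psi (F : FSch.Hom (FSch.spf A I) (FSch.spf B K)) (n : ℕ) :
    CommRingCat.of (B ⧸ K ^ (n + 1)) ⟶ CommRingCat.of (A ⧸ I ^ (n + 1)) :=
  Spec.preimage (F.app n)

theorem map_psi (F : FSch.Hom (FSch.spf A I) (FSch.spf B K)) (n : ℕ) :
    Spec.map (psi I K F n) = F.app n := Spec.map_preimage _

theorem psi_comm (F : FSch.Hom (FSch.spf A I) (FSch.spf B K)) (n : ℕ) :
    CommRingCat.ofHom (Ideal.Quotient.factor (Ideal.pow_le_pow_right (Nat.le_succ (n + 1)))) ≫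
        psi I K F n =
      psi I K F (n + 1) ≫
        CommRingCat.ofHom (Ideal.Quotient.factor (Ideal.pow_le_pow_right (Nat.le_succ (n + 1)))) := by
  apply Spec.map_injective
  rw [Spec.map_comp, Spec.map_comp, map_psi, map_psi]
  exact F.comm n

theorem psi_comm_apply (F : FSch.Hom (FSch.spf A I) (FSch.spf B K)) (n : ℕ) (x : B ⧸ K ^ (n + 2)) :
    (psi I K F n).hom (Ideal.Quotient.factor (Ideal.pow_le_pow_right (Nat.le_succ (n + 1))) x) =
      Ideal.Quotient.factor (Ideal.pow_le_pow_right (Nat.le_succ (n + 1)))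
        ((psi I K F (n + 1)).hom x) := by
  have h := congrArg (fun g => (CommRingCat.Hom.hom g) x) (psi_comm I K F n)
  exact h

/-- level maps `B → A/I^(n+1)` -/
noncomputable def fLevel (F : FSch.Hom (FSch.spf A I) (FSch.spf B K)) (n : ℕ) :
    B →+* A ⧸ I ^ (n + 1) :=
  (psi I K F n).hom.comp (Ideal.Quotient.mk (K ^ (n + 1)))

theorem fLevel_compat (F : FSch.Hom (FSch.spf A I) (FSch.spf B K)) {m : ℕ} :
    (Ideal.Quotient.factorPow I (strictMono_succ.monotone m.le_succ)).comp (fLevel I K F (m + 1)) =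
      fLevel I K F m := by
  apply RingHom.ext
  intro b
  change Ideal.Quotient.factor (Ideal.pow_le_pow_right (Nat.le_succ (m + 1)))
      ((psi I K F (m + 1)).hom (Ideal.Quotient.mk (K ^ (m + 2)) b)) =
    (psi I K F m).hom (Ideal.Quotient.mk (K ^ (m + 1)) b)
  rw [← psi_comm_apply]
  rfl

variable [IsAdicComplete I A]

/-- the ring map `B → A` obtained from a morphism of systems by completeness -/
noncomputable def phiOf (F : FSch.Hom (FSch.spf A I) (FSch.spf B K)) : B →+* A :=
  IsAdicComplete.StrictMono.liftRingHom I strictMono_succ (fLevel I K F)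
    (fun {m} => fLevel_compat I K F (m := m))

theorem mk_phiOf (F : FSch.Hom (FSch.spf A I) (FSch.spf B K)) (n : ℕ) (b : B) :
    Ideal.Quotient.mk (I ^ (n + 1)) (phiOf I K F b) = fLevel I K F n b :=
  IsAdicComplete.StrictMono.mk_liftRingHom I strictMono_succ (fLevel I K F)
    (fun {m} => fLevel_compat I K F (m := m)) (n := n) b

theorem phiOf_le (F : FSch.Hom (FSch.spf A I) (FSch.spf B K)) : K ≤ I.comap (phiOf I K F) := by
  intro k hk
  rw [Ideal.mem_comap]
  have h1 := mk_phiOf I K F 0 k
  have h2 : Ideal.Quotient.mk (K ^ (0 + 1)) k = 0 := by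
    rw [Ideal.Quotient.eq_zero_iff_mem, zero_add, pow_one]
    exact hk
  have h3 : fLevel I K F 0 k = 0 := by
    change (psi I K F 0).hom (Ideal.Quotient.mk (K ^ (0 + 1)) k) = 0
    rw [h2, map_zero]
  rw [h3, Ideal.Quotient.eq_zero_iff_mem, zero_add, pow_one] at h1
  exact h1

end helpers

open AlgebraicGeometry in
/-- (Affine adic case; the formal spectra presented as the systems Spec(A/I^(n+1)) and Spec(B/K^(n+1)).)
Let I be an ideal of a ring A which is complete and separated for the I-adic topology, and K an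
ideal of a ring B. Then φ ↦ (Spec of the induced maps B/K^(n+1) -> A/I^(n+1)) is a bijection from
the ring homomorphisms φ : B -> A with φ(K) ⊆ I onto the morphisms of systems from Spf(A) to Spf(B),
i.e. the compatible families of morphisms Spec(A/I^(n+1)) -> Spec(B/K^(n+1)). -/
theorem result (A B : Type u) [CommRing A] [CommRing B] (I : Ideal A) (K : Ideal B)
    [IsAdicComplete I A] :
    Function.Bijective (fun φ : {φ : B →+* A // K ≤ I.comap φ} ↦ FSch.spfMap I K φ.1 φ.2) := by
  constructor
  · rintro ⟨φ, hφ⟩ ⟨φ', hφ'⟩ e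
    apply Subtype.ext
    apply DFunLike.coe_injective
    apply IsHausdorff.StrictMono.funext' I strictMono_succ
    intro n b
    have h1 := quotPowMap_eq_of_spfMap_eq I K φ φ' hφ hφ' e n
    have h2 := congrArg (fun g => g (Ideal.Quotient.mk (K ^ (n + 1)) b)) h1
    exact h2
  · intro F
    refine ⟨⟨phiOf I K F, phiOf_le I K F⟩, ?_⟩
    apply FSch.Hom.ext
    funext n
    change Spec.map (CommRingCat.ofHom (FSch.quotPowMap I K (phiOf I K F) (phiOf_le I K F) n)) =
      FSch.Hom.app F n
    rw [← map_psi I K F n]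
    congr 1
    apply CommRingCat.hom_ext
    apply Ideal.Quotient.ringHom_ext
    apply RingHom.ext
    intro b
    change Ideal.Quotient.mk (I ^ (n + 1)) (phiOf I K F b) = _
    rw [mk_phiOf]
    rfl


end Groth.Agent.S3860
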