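import Groth.Statements.S3866
import Mathlib.RingTheory.AdicCompletion.AsTensorProduct
import Mathlib.RingTheory.AdicCompletion.Noetherian

set_option autoImplicit false
universe u
open AdicRing

namespace Groth.Agent.S3866

open TensorProduct in
/-- Let A be a Noetherian ring that is complete and separated for the J-adic topology, where J is an
ideal of A. Then every finite A-module M is itself complete and separated for the J-adic topology.
(This is the algebraic fact behind the statement that the global sections of the sheaf M^Δ on the
formal spectrum of A recover M.) -/
theorem result (A : Type u) [CommRing A] [IsNoetherianRing A]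
    (J : Ideal A) [IsAdicComplete J A] (M : Type u) [AddCommGroup M] [Module A M] [Module.Finite A M] :
    IsAdicComplete J M := by
  have hH : IsHausdorff J M := IsHausdorff.of_le_jacobson J M (IsAdicComplete.le_jacobson_bot J)
  have hP : IsPrecomplete J M := by
    rw [← AdicCompletion.of_surjective_iff]
    intro y
    obtain ⟨t, rfl⟩ := (AdicCompletion.ofTensorProduct_bijective_of_finite_of_isNoetherian J M).2 y
    induction t using TensorProduct.induction_on with
    | zero => exact ⟨0, by simp⟩
    | tmul r x =>
      obtain ⟨a, rfl⟩ := AdicCompletion.of_surjective J A r
      refine ⟨a • x, ?_⟩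
      rw [AdicCompletion.ofTensorProduct_tmul, map_smul]
      have : AdicCompletion.of J A a = algebraMap A (AdicCompletion J A) a := by
        rw [AdicCompletion.algebraMap_apply]; rfl
      rw [this, algebraMap_smul]
    | add s t hs ht =>
      obtain ⟨a, ha⟩ := hs
      obtain ⟨b, hb⟩ := ht
      exact ⟨a + b, by rw [map_add, map_add, ha, hb]⟩
  exact { toIsHausdorff := hH, toIsPrecomplete := hP }

end Groth.Agent.S3866
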