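import Groth.Statements.S3867
import Groth.Agent.H20.RingPushout
import Mathlib.RingTheory.Ideal.Quotient.PowTransition
import Mathlib.RingTheory.Nakayama

set_option autoImplicit false
universe u
open FCompl

namespace Groth.Agent.S3867

open AlgebraicGeometry CategoryTheory in
theorem isAdicHom_iff (A B : Type u) [CommRing A] [CommRing B]
    (I : Ideal A) (K : Ideal B) (φ : B →+* A) (h : K ≤ I.comap φ) :
    FSch.IsAdicHom (FSch.spfMap I K φ h) ↔
      ∀ n : ℕ, IsPullback
        (Spec.map (CommRingCat.ofHom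
          (Ideal.Quotient.factor (Ideal.pow_le_pow_right (I := I) (Nat.le_succ (n + 1))))))
        (Spec.map (CommRingCat.ofHom (FSch.quotPowMap I K φ h n)))
        (Spec.map (CommRingCat.ofHom (FSch.quotPowMap I K φ h (n + 1))))
        (Spec.map (CommRingCat.ofHom
          (Ideal.Quotient.factor (Ideal.pow_le_pow_right (I := K) (Nat.le_succ (n + 1)))))) :=
  Iff.rfl

theorem comm_sq (A B : Type u) [CommRing A] [CommRing B]
    (I : Ideal A) (K : Ideal B) (φ : B →+* A) (h : K ≤ I.comap φ) (n : ℕ) :
    (Ideal.Quotient.factor (Ideal.pow_le_pow_right (I := I) (Nat.le_succ (n + 1)))).comp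
        (FSch.quotPowMap I K φ h (n + 1)) =
      (FSch.quotPowMap I K φ h n).comp
        (Ideal.Quotient.factor (Ideal.pow_le_pow_right (I := K) (Nat.le_succ (n + 1)))) := by
  apply Ideal.Quotient.ringHom_ext
  ext b
  rfl

theorem map_ker_factor (A B : Type u) [CommRing A] [CommRing B]
    (I : Ideal A) (K : Ideal B) (φ : B →+* A) (h : K ≤ I.comap φ) (n : ℕ) :
    (RingHom.ker (Ideal.Quotient.factor
        (Ideal.pow_le_pow_right (I := K) (Nat.le_succ (n + 1))))).map
        (FSch.quotPowMap I K φ h (n + 1)) =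
      ((K.map φ) ^ (n + 1)).map (Ideal.Quotient.mk (I ^ (n + 2))) := by
  rw [Ideal.Quotient.factor_ker, Ideal.map_map]
  have : (FSch.quotPowMap I K φ h (n + 1)).comp (Ideal.Quotient.mk (K ^ (n + 1).succ)) =
      (Ideal.Quotient.mk (I ^ (n + 2))).comp φ := by
    ext b
    rfl
  rw [this, ← Ideal.map_map, Ideal.map_pow]

open AlgebraicGeometry CategoryTheory in
theorem adic_of_eq (A B : Type u) [CommRing A] [CommRing B]
    (I : Ideal A) (K : Ideal B) (φ : B →+* A) (h : K ≤ I.comap φ)
    (hKI : K.map φ = I) : FSch.IsAdicHom (FSch.spfMap I K φ h) := by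
  rw [isAdicHom_iff]
  intro n
  have hpo : IsPushout (CommRingCat.ofHom (FSch.quotPowMap I K φ h (n + 1)))
      (CommRingCat.ofHom (Ideal.Quotient.factor (Ideal.pow_le_pow_right (I := K) (Nat.le_succ (n + 1)))))
      (CommRingCat.ofHom (Ideal.Quotient.factor (Ideal.pow_le_pow_right (I := I) (Nat.le_succ (n + 1)))))
      (CommRingCat.ofHom (FSch.quotPowMap I K φ h n)) := by
    apply Groth.Agent.H20.isPushout_of_surjective
      (FSch.quotPowMap I K φ h (n + 1))
      (Ideal.Quotient.factor (Ideal.pow_le_pow_right (I := K) (Nat.le_succ (n + 1))))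
      (Ideal.Quotient.factor (Ideal.pow_le_pow_right (I := I) (Nat.le_succ (n + 1))))
      (FSch.quotPowMap I K φ h n) (comm_sq A B I K φ h n)
      (Ideal.Quotient.factor_surjective (Ideal.pow_le_pow_right (I := K) (Nat.le_succ (n + 1))))
      (Ideal.Quotient.factor_surjective (Ideal.pow_le_pow_right (I := I) (Nat.le_succ (n + 1))))
    rw [map_ker_factor, Ideal.Quotient.factor_ker, hKI]
  exact isPullback_SpecMap_of_isPushout _ _ _ _ hpo

open AlgebraicGeometry CategoryTheory in
theorem eq_of_adic (A B : Type u) [CommRing A] [CommRing B] [IsNoetherianRing A]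
    (I : Ideal A) (K : Ideal B) [IsAdicComplete I A] (φ : B →+* A) (h : K ≤ I.comap φ)
    (H : FSch.IsAdicHom (FSch.spfMap I K φ h)) : K.map φ = I := by
  rw [isAdicHom_iff] at H
  have h0 : IsPushout (CommRingCat.ofHom (FSch.quotPowMap I K φ h (0 + 1)))
      (CommRingCat.ofHom (Ideal.Quotient.factor (Ideal.pow_le_pow_right (I := K) (Nat.le_succ (0 + 1)))))
      (CommRingCat.ofHom (Ideal.Quotient.factor (Ideal.pow_le_pow_right (I := I) (Nat.le_succ (0 + 1)))))
      (CommRingCat.ofHom (FSch.quotPowMap I K φ h 0)) :=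
    Groth.Agent.H20.isPushout_of_isPullback_SpecMap _ _ _ _ (H 0)
  have hk := Groth.Agent.H20.ker_inl_of_isPushout
      (FSch.quotPowMap I K φ h (0 + 1))
      (Ideal.Quotient.factor (Ideal.pow_le_pow_right (I := K) (Nat.le_succ (0 + 1))))
      (Ideal.Quotient.factor (Ideal.pow_le_pow_right (I := I) (Nat.le_succ (0 + 1))))
      (FSch.quotPowMap I K φ h 0)
      (Ideal.Quotient.factor_surjective (Ideal.pow_le_pow_right (I := K) (Nat.le_succ (0 + 1)))) h0
  rw [map_ker_factor, Ideal.Quotient.factor_ker] at hk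
  have hk2 := congrArg (Ideal.comap (Ideal.Quotient.mk _)) hk
  rw [Ideal.comap_map_of_surjective _ Ideal.Quotient.mk_surjective,
    Ideal.comap_map_of_surjective _ Ideal.Quotient.mk_surjective] at hk2
  simp only [zero_add, pow_one, ← RingHom.ker_eq_comap_bot, Ideal.mk_ker] at hk2
  have hle : K.map φ ≤ I := Ideal.map_le_iff_le_comap.2 h
  apply le_antisymm hle
  have hI2 : I ^ 2 ≤ I := Ideal.pow_le_self two_ne_zero
  have hIeq : I = K.map φ ⊔ I • I := by
    rw [sup_eq_left.2 hI2] at hk2
    rw [smul_eq_mul, ← sq]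
    exact hk2
  exact Submodule.le_of_le_smul_of_le_jacobson_bot (IsNoetherian.noetherian I)
    (IsAdicComplete.le_jacobson_bot I) hIeq.le

open AlgebraicGeometry in
/-- Formal spectra are presented as the systems Spec(A/I^(n+1)) and Spec(B/K^(n+1)), a morphism of
systems being adic when all its squares are cartesian. Let A be a Noetherian ring, complete and
separated for the I-adic topology of an ideal I, K an ideal of a ring B and φ : B → A a ring
homomorphism with φ(K) ⊆ I. Then the induced morphism Spf(A) → Spf(B) is adic if and only if the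
ideal of A generated by φ(K) is I. -/
theorem result (A B : Type u) [CommRing A] [CommRing B] [IsNoetherianRing A]
    (I : Ideal A) (K : Ideal B) [IsAdicComplete I A] (φ : B →+* A) (h : K ≤ I.comap φ) :
    FSch.IsAdicHom (FSch.spfMap I K φ h) ↔ K.map φ = I :=
  ⟨eq_of_adic A B I K φ h, adic_of_eq A B I K φ h⟩

end Groth.Agent.S3867
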