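import Groth.Statements.S3869
import Groth.Agent.H87.AdicUnit

set_option autoImplicit false
universe u
open FCompl

namespace Groth.Agent.S3869

section compl

variable {S T U : Type u} [CommRing S] [CommRing T] [CommRing U]

theorem evalₐ_complMap (I : Ideal S) (K : Ideal T) (g : S →+* T) (h : I.map g ≤ K) (n : ℕ)
    (x : AdicCompletion I S) :
    AdicCompletion.evalₐ K n (FSch.complMap I K g h x) =
      Ideal.quotientMap (K ^ n) g (FSch.pow_le_comap_pow_of_map_le I K g h n)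
        (AdicCompletion.evalₐ I n x) := by
  unfold FSch.complMap
  generalize_proofs
  rw [AdicCompletion.evalₐ_liftRingHom]
  · rfl
  · assumption

theorem complMap_comp (I : Ideal S) (K : Ideal T) (L : Ideal U) (g1 : S →+* T) (g2 : T →+* U)
    (h1 : I.map g1 ≤ K) (h2 : K.map g2 ≤ L) (h12 : I.map (g2.comp g1) ≤ L)
    (x : AdicCompletion I S) :
    FSch.complMap K L g2 h2 (FSch.complMap I K g1 h1 x) =
      FSch.complMap I L (g2.comp g1) h12 x := by
  apply AdicCompletion.ext_evalₐ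
  intro n
  rw [evalₐ_complMap, evalₐ_complMap, evalₐ_complMap]
  obtain ⟨r, hr⟩ := Ideal.Quotient.mk_surjective (AdicCompletion.evalₐ I n x)
  rw [← hr]
  simp only [Ideal.quotientMap_mk, RingHom.comp_apply]

theorem complMap_congr (I : Ideal S) (K : Ideal T) {g g' : S →+* T} (e : g = g')
    (h : I.map g ≤ K) (h' : I.map g' ≤ K) (x : AdicCompletion I S) :
    FSch.complMap I K g h x = FSch.complMap I K g' h' x := by
  subst e
  rfl

end compl

section away

variable (A : Type u) [CommRing A] (J : Ideal A)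

noncomputable def awayMap (f h : A) (hd : f ∣ h) : Localization.Away f →+* Localization.Away h :=
  IsLocalization.Away.lift f (g := algebraMap A (Localization.Away h)) (by
    obtain ⟨c, rfl⟩ := hd
    have := (IsLocalization.Away.algebraMap_isUnit (f * c) :
      IsUnit (algebraMap A (Localization.Away (f * c)) (f * c)))
    rw [map_mul] at this
    exact isUnit_of_mul_isUnit_left this)

@[simp] theorem awayMap_algebraMap (f h : A) (hd : f ∣ h) (a : A) :
    awayMap A f h hd (algebraMap A (Localization.Away f) a) =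
      algebraMap A (Localization.Away h) a :=
  IsLocalization.Away.lift_eq _ _ a

theorem map_awayMap_le (f h : A) (hd : f ∣ h) :
    (J.map (algebraMap A (Localization.Away f))).map (awayMap A f h hd) ≤
      J.map (algebraMap A (Localization.Away h)) := by
  rw [Ideal.map_map]
  apply le_of_eq
  congr 1
  ext a
  simp

noncomputable def cAwayMap (f h : A) (hd : f ∣ h) : FSch.cAway A J f →+* FSch.cAway A J h :=
  FSch.complMap _ _ (awayMap A f h hd) (map_awayMap_le A J f h hd)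

variable (𝔭 : Ideal A) [𝔭.IsPrime]

theorem awayToAtPrime_algebraMap (f : A) (hf : f ∉ 𝔭) (a : A) :
    FSch.awayToAtPrime A 𝔭 f hf (algebraMap A (Localization.Away f) a) =
      algebraMap A (Localization.AtPrime 𝔭) a :=
  IsLocalization.Away.lift_eq _ _ a

theorem awayToAtPrime_comp_awayMap (f h : A) (hd : f ∣ h) (hf : f ∉ 𝔭) (hh : h ∉ 𝔭) :
    (FSch.awayToAtPrime A 𝔭 h hh).comp (awayMap A f h hd) = FSch.awayToAtPrime A 𝔭 f hf := by
  apply IsLocalization.ringHom_ext (Submonoid.powers f)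
  ext a
  simp [awayToAtPrime_algebraMap]

theorem cAwayToAtPrime_cAwayMap (f h : A) (hd : f ∣ h) (hf : f ∉ 𝔭) (hh : h ∉ 𝔭)
    (y : FSch.cAway A J f) :
    FSch.cAwayToAtPrime A J 𝔭 h hh (cAwayMap A J f h hd y) =
      FSch.cAwayToAtPrime A J 𝔭 f hf y := by
  unfold FSch.cAwayToAtPrime cAwayMap
  rw [complMap_comp _ _ _ _ _ _ _ (by
    rw [awayToAtPrime_comp_awayMap A 𝔭 f h hd hf hh]
    exact FSch.map_awayToAtPrime_le A J 𝔭 f hf) y]
  exact complMap_congr _ _ (awayToAtPrime_comp_awayMap A 𝔭 f h hd hf hh) _ _ y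

theorem range_le_range (f h : A) (hd : f ∣ h) (hf : f ∉ 𝔭) (hh : h ∉ 𝔭) :
    (FSch.cAwayToAtPrime A J 𝔭 f hf).range ≤ (FSch.cAwayToAtPrime A J 𝔭 h hh).range := by
  rintro _ ⟨y, rfl⟩
  exact ⟨cAwayMap A J f h hd y, cAwayToAtPrime_cAwayMap A J 𝔭 f h hd hf hh y⟩

theorem mem_stalkSubring_iff (s : FSch.cAtPrime A J 𝔭) :
    s ∈ FSch.stalkSubring A J 𝔭 ↔
      ∃ (f : A) (hf : f ∉ 𝔭), s ∈ (FSch.cAwayToAtPrime A J 𝔭 f hf).range := by
  have hne : Nonempty {f : A // f ∉ 𝔭} :=
    ⟨⟨1, fun h1 => (‹𝔭.IsPrime›).ne_top ((Ideal.eq_top_iff_one _).mpr h1)⟩⟩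
  have hdir : Directed (· ≤ ·)
      (fun f : {f : A // f ∉ 𝔭} => (FSch.cAwayToAtPrime A J 𝔭 f.1 f.2).range) := by
    intro f g
    have hfg : f.1 * g.1 ∉ 𝔭 :=
      fun hmem => (Ideal.IsPrime.mem_or_mem ‹𝔭.IsPrime› hmem).elim f.2 g.2
    exact ⟨⟨f.1 * g.1, hfg⟩, range_le_range A J 𝔭 _ _ (dvd_mul_right f.1 g.1) f.2 hfg,
      range_le_range A J 𝔭 _ _ (dvd_mul_left g.1 f.1) g.2 hfg⟩
  unfold FSch.stalkSubring
  rw [Subring.mem_iSup_of_directed hdir]
  constructor
  · rintro ⟨f, hf⟩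
    exact ⟨f.1, f.2, hf⟩
  · rintro ⟨f, hf, hs⟩
    exact ⟨⟨f, hf⟩, hs⟩

theorem isUnit_of_isUnit_mk (hJ : J ≤ 𝔭) (b : Localization.AtPrime 𝔭)
    (hb : IsUnit (Ideal.Quotient.mk ((J.map (algebraMap A (Localization.AtPrime 𝔭))) ^ 1) b)) :
    IsUnit b := by
  by_contra hnu
  have hmem : b ∈ IsLocalRing.maximalIdeal (Localization.AtPrime 𝔭) :=
    (IsLocalRing.mem_maximalIdeal b).mpr hnu
  obtain ⟨c', hc'⟩ := isUnit_iff_exists_inv.mp hb
  obtain ⟨c, rfl⟩ := Ideal.Quotient.mk_surjective c'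
  have h1 : b * c - 1 ∈ (J.map (algebraMap A (Localization.AtPrime 𝔭))) ^ 1 := by
    rw [← Ideal.Quotient.eq, map_mul, map_one]
    exact hc'
  have h4 : J.map (algebraMap A (Localization.AtPrime 𝔭)) ≤
      IsLocalRing.maximalIdeal (Localization.AtPrime 𝔭) := by
    rw [← Localization.AtPrime.map_eq_maximalIdeal]
    exact Ideal.map_mono hJ
  rw [pow_one] at h1
  have h2 : b * c - (b * c - 1) ∈ IsLocalRing.maximalIdeal (Localization.AtPrime 𝔭) :=
    Ideal.sub_mem _ (Ideal.mul_mem_right c _ hmem) (h4 h1)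
  rw [sub_sub_cancel] at h2
  exact (IsLocalRing.maximalIdeal.isMaximal _).ne_top ((Ideal.eq_top_iff_one _).mpr h2)

theorem exists_isUnit_cAwayMap (hJ : J ≤ 𝔭) (f : A) (hf : f ∉ 𝔭) (y : FSch.cAway A J f)
    (hy : IsUnit (FSch.cAwayToAtPrime A J 𝔭 f hf y)) :
    ∃ (h : A) (hd : f ∣ h) (_ : h ∉ 𝔭), IsUnit (cAwayMap A J f h hd y) := by
  obtain ⟨c, hc⟩ := Ideal.Quotient.mk_surjective
    (AdicCompletion.evalₐ (J.map (algebraMap A (Localization.Away f))) 1 y)
  obtain ⟨a, t, rfl⟩ := IsLocalization.exists_mk'_eq (Submonoid.powers f) c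
  have h1 : IsUnit (FSch.awayToAtPrime A 𝔭 f hf
      (IsLocalization.mk' (Localization.Away f) a t)) := by
    apply isUnit_of_isUnit_mk A J 𝔭 hJ
    have := hy.map (AdicCompletion.evalₐ (J.map (algebraMap A (Localization.AtPrime 𝔭))) 1)
    rw [FSch.cAwayToAtPrime, evalₐ_complMap, ← hc, Ideal.quotientMap_mk] at this
    exact this
  have hspec : IsLocalization.mk' (Localization.Away f) a t *
      algebraMap A (Localization.Away f) (t : A) = algebraMap A (Localization.Away f) a :=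
    IsLocalization.mk'_spec _ a t
  have ht : (t : A) ∉ 𝔭 := by
    obtain ⟨k, hk⟩ := (Submonoid.mem_powers_iff _ _).mp t.2
    rw [← hk]
    exact fun hmem => hf (Ideal.IsPrime.mem_of_pow_mem ‹𝔭.IsPrime› k hmem)
  have h2 : IsUnit (algebraMap A (Localization.AtPrime 𝔭) a) := by
    have e := congrArg (FSch.awayToAtPrime A 𝔭 f hf) hspec
    rw [map_mul, awayToAtPrime_algebraMap, awayToAtPrime_algebraMap] at e
    rw [← e]
    exact h1.mul ((IsLocalization.AtPrime.isUnit_to_map_iff (Localization.AtPrime 𝔭) 𝔭 _).mpr ht)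
  have ha : a ∉ 𝔭 :=
    (IsLocalization.AtPrime.isUnit_to_map_iff (Localization.AtPrime 𝔭) 𝔭 a).mp h2
  have hh : f * a ∉ 𝔭 := fun hmem => (Ideal.IsPrime.mem_or_mem ‹𝔭.IsPrime› hmem).elim hf ha
  refine ⟨f * a, dvd_mul_right f a, hh, ?_⟩
  apply Groth.Agent.H87.isUnit_of_isUnit_evalₐ_one
  rw [cAwayMap, evalₐ_complMap, ← hc, Ideal.quotientMap_mk]
  refine IsUnit.map (Ideal.Quotient.mk _) ?_
  have e := congrArg (awayMap A f (f * a) (dvd_mul_right f a)) hspec
  rw [map_mul, awayMap_algebraMap, awayMap_algebraMap] at e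
  have hua : IsUnit (algebraMap A (Localization.Away (f * a)) a) := by
    have := (IsLocalization.Away.algebraMap_isUnit (f * a) :
      IsUnit (algebraMap A (Localization.Away (f * a)) (f * a)))
    rw [map_mul] at this
    exact isUnit_of_mul_isUnit_right this
  rw [← e] at hua
  exact isUnit_of_mul_isUnit_left hua

theorem isLocalRing_cAtPrime (hJ : J ≤ 𝔭) : IsLocalRing (FSch.cAtPrime A J 𝔭) := by
  have hne : (J.map (algebraMap A (Localization.AtPrime 𝔭))) ^ 1 ≠ ⊤ := by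
    rw [pow_one]
    intro htop
    have h4 : J.map (algebraMap A (Localization.AtPrime 𝔭)) ≤
        IsLocalRing.maximalIdeal (Localization.AtPrime 𝔭) := by
      rw [← Localization.AtPrime.map_eq_maximalIdeal]
      exact Ideal.map_mono hJ
    exact (IsLocalRing.maximalIdeal.isMaximal _).ne_top (top_le_iff.mp (htop ▸ h4))
  have hnt : Nontrivial (Localization.AtPrime 𝔭 ⧸
      (J.map (algebraMap A (Localization.AtPrime 𝔭))) ^ 1) :=
    Ideal.Quotient.nontrivial_iff.mpr hne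
  have hloc : IsLocalRing (Localization.AtPrime 𝔭 ⧸
      (J.map (algebraMap A (Localization.AtPrime 𝔭))) ^ 1) :=
    IsLocalRing.of_surjective' (Ideal.Quotient.mk _) Ideal.Quotient.mk_surjective
  have hlh : IsLocalHom
      (AdicCompletion.evalₐ (J.map (algebraMap A (Localization.AtPrime 𝔭))) 1).toRingHom :=
    ⟨fun x hx => Groth.Agent.H87.isUnit_of_isUnit_evalₐ_one _ x hx⟩
  exact RingHom.domain_isLocalRing
    (AdicCompletion.evalₐ (J.map (algebraMap A (Localization.AtPrime 𝔭))) 1).toRingHom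

end away

/-- For a ring A, an ideal J and a prime ideal 𝔭, let A{S⁻¹}, S = A ∖ 𝔭, be the completion of A_𝔭 for
the topology defined by the extension of J, and for f ∉ 𝔭 let A_{f} be the completion of A_f for the
topology defined by the extension of J. Consider the subring A_{S} of A{S⁻¹} generated by the images
of all the A_{f}, f ∉ 𝔭 (when A is adic Noetherian and 𝔭 is open, this is the inductive limit of the
A_{f}, i.e. the stalk at 𝔭 of the structure sheaf of Spf(A) as a plain ring). If J ⊆ 𝔭, then A_{S}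
is a local ring and its inclusion into A{S⁻¹} is a local homomorphism. -/
theorem result (A : Type u) [CommRing A] (J : Ideal A) (𝔭 : Ideal A) [𝔭.IsPrime]
    (hJ : J ≤ 𝔭) :
    IsLocalRing (FSch.stalkSubring A J 𝔭) ∧ IsLocalHom (FSch.stalkSubring A J 𝔭).subtype := by
  have hlocal : IsLocalHom (FSch.stalkSubring A J 𝔭).subtype := by
    refine ⟨fun s hs => ?_⟩
    obtain ⟨f, hf, y, hy⟩ := (mem_stalkSubring_iff A J 𝔭 s.1).mp s.2
    have hs' : IsUnit (FSch.cAwayToAtPrime A J 𝔭 f hf y) := by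
      rw [hy]
      exact hs
    obtain ⟨h, hd, hh, hu⟩ := exists_isUnit_cAwayMap A J 𝔭 hJ f hf y hs'
    obtain ⟨w, hw⟩ := isUnit_iff_exists_inv.mp hu
    have hmem : FSch.cAwayToAtPrime A J 𝔭 h hh w ∈ FSch.stalkSubring A J 𝔭 :=
      (mem_stalkSubring_iff A J 𝔭 _).mpr ⟨h, hh, w, rfl⟩
    refine isUnit_iff_exists_inv.mpr ⟨⟨_, hmem⟩, Subtype.ext ?_⟩
    show s.1 * FSch.cAwayToAtPrime A J 𝔭 h hh w = 1
    rw [← hy, ← cAwayToAtPrime_cAwayMap A J 𝔭 f h hd hf hh y, ← map_mul, hw, map_one]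
  have hC : IsLocalRing (FSch.cAtPrime A J 𝔭) := isLocalRing_cAtPrime A J 𝔭 hJ
  exact ⟨RingHom.domain_isLocalRing (FSch.stalkSubring A J 𝔭).subtype, hlocal⟩

end Groth.Agent.S3869
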