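import Groth.Statements.S3872


set_option autoImplicit false
universe u
open FCompl

namespace Groth.Agent.S3872

theorem complMap_of {S T : Type u} [CommRing S] [CommRing T] (I : Ideal S) (K : Ideal T)
    (g : S →+* T) (h : I.map g ≤ K) (s : S) :
    FSch.complMap I K g h (AdicCompletion.of I S s) = AdicCompletion.of K T (g s) := by
  apply AdicCompletion.ext_evalₐ
  intro n
  unfold FSch.complMap
  generalize_proofs
  rw [AdicCompletion.evalₐ_liftRingHom, AdicCompletion.evalₐ_of]
  · simp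
  · assumption

theorem exists_sub_mem_maximalIdeal (A : Type u) [CommRing A] (J : Ideal A) (𝔭 : Ideal A)
    [𝔭.IsPrime] (hJ : J ≤ 𝔭) [IsLocalRing (FSch.cAtPrime A J 𝔭)] (x : FSch.cAtPrime A J 𝔭) :
    ∃ b : Localization.AtPrime 𝔭,
      x - algebraMap (Localization.AtPrime 𝔭) (FSch.cAtPrime A J 𝔭) b ∈
        IsLocalRing.maximalIdeal (FSch.cAtPrime A J 𝔭) := by
  obtain ⟨b, hb⟩ := Ideal.Quotient.mk_surjective
    (AdicCompletion.evalₐ (J.map (algebraMap A (Localization.AtPrime 𝔭))) 1 x)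
  refine ⟨b, ?_⟩
  rw [IsLocalRing.mem_maximalIdeal, mem_nonunits_iff]
  intro hu
  have h1 : AdicCompletion.evalₐ (J.map (algebraMap A (Localization.AtPrime 𝔭))) 1
      (x - algebraMap (Localization.AtPrime 𝔭) (FSch.cAtPrime A J 𝔭) b) = 0 := by
    rw [map_sub, AdicCompletion.algebraMap_apply, AdicCompletion.evalₐ_of, ← hb]
    simp
  have h2 := hu.map (AdicCompletion.evalₐ (J.map (algebraMap A (Localization.AtPrime 𝔭))) 1)
  rw [h1] at h2
  have h3 : (J.map (algebraMap A (Localization.AtPrime 𝔭))) ^ 1 = ⊤ := by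
    rw [← Ideal.Quotient.subsingleton_iff]
    exact subsingleton_of_zero_eq_one (isUnit_zero_iff.mp h2)
  rw [pow_one] at h3
  have h4 : J.map (algebraMap A (Localization.AtPrime 𝔭)) ≤
      IsLocalRing.maximalIdeal (Localization.AtPrime 𝔭) := by
    rw [← Localization.AtPrime.map_eq_maximalIdeal]
    exact Ideal.map_mono hJ
  exact (IsLocalRing.maximalIdeal.isMaximal _).ne_top (top_le_iff.mp (h3 ▸ h4))

theorem algebraMap_mem_stalkSubring (A : Type u) [CommRing A] (J : Ideal A) (𝔭 : Ideal A)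
    [𝔭.IsPrime] (b : Localization.AtPrime 𝔭) :
    algebraMap (Localization.AtPrime 𝔭) (FSch.cAtPrime A J 𝔭) b ∈ FSch.stalkSubring A J 𝔭 := by
  obtain ⟨a, t, rfl⟩ := IsLocalization.exists_mk'_eq 𝔭.primeCompl b
  have ht : (t : A) ∉ 𝔭 := t.2
  have hy : FSch.awayToAtPrime A 𝔭 t ht (IsLocalization.mk' (Localization.Away (t : A)) a
      (⟨(t : A), Submonoid.mem_powers _⟩ : Submonoid.powers (t : A))) =
      IsLocalization.mk' (Localization.AtPrime 𝔭) a t := by
    unfold FSch.awayToAtPrime IsLocalization.Away.lift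
    rw [IsLocalization.lift_mk'_spec]
    exact (IsLocalization.mk'_spec' (Localization.AtPrime 𝔭) a t).symm
  have h2 : FSch.cAwayToAtPrime A J 𝔭 t ht (AdicCompletion.of _ _
      (IsLocalization.mk' (Localization.Away (t : A)) a
        (⟨(t : A), Submonoid.mem_powers _⟩ : Submonoid.powers (t : A)))) =
      algebraMap (Localization.AtPrime 𝔭) (FSch.cAtPrime A J 𝔭)
        (IsLocalization.mk' (Localization.AtPrime 𝔭) a t) := by
    rw [FSch.cAwayToAtPrime, complMap_of, hy]
    rfl
  rw [← h2]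
  show _ ∈ (⨆ f : {f : A // f ∉ 𝔭}, (FSch.cAwayToAtPrime A J 𝔭 f.1 f.2).range)
  exact le_iSup (fun f : {f : A // f ∉ 𝔭} => (FSch.cAwayToAtPrime A J 𝔭 f.1 f.2).range)
    (⟨(t : A), ht⟩ : {f : A // f ∉ 𝔭}) (RingHom.mem_range.mpr ⟨_, rfl⟩)

/-- For a ring A, an ideal J and a prime ideal 𝔭 with J ⊆ 𝔭, let A{S⁻¹}, S = A ∖ 𝔭, be the completion of
A_𝔭 for the topology defined by the extension of J, and A_{S} the subring of A{S⁻¹} generated by the
images of the completed localizations A_{f}, f ∉ 𝔭 (the stalk ring of Spf(A) at 𝔭). Given that A_{S}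
and A{S⁻¹} are local rings and that the inclusion A_{S} → A{S⁻¹} and the canonical map A_𝔭 → A{S⁻¹}
are local homomorphisms (all four are carried here as instance hypotheses; the two about A_{S} are
stated separately), both maps induce bijections on residue fields; so the residue field of A_{S} is
the residue field κ(𝔭) of A_𝔭. -/
theorem result (A : Type u) [CommRing A] (J : Ideal A) (𝔭 : Ideal A)
    [𝔭.IsPrime] (hJ : J ≤ 𝔭) [IsLocalRing (FSch.stalkSubring A J 𝔭)] [IsLocalRing (FSch.cAtPrime A J 𝔭)]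
    [IsLocalHom (FSch.stalkSubring A J 𝔭).subtype]
    [IsLocalHom (algebraMap (Localization.AtPrime 𝔭) (FSch.cAtPrime A J 𝔭))] :
    Function.Bijective (IsLocalRing.ResidueField.map (FSch.stalkSubring A J 𝔭).subtype) ∧
      Function.Bijective
        (IsLocalRing.ResidueField.map (algebraMap (Localization.AtPrime 𝔭) (FSch.cAtPrime A J 𝔭))) := by
  have hsurj2 : Function.Surjective (IsLocalRing.ResidueField.map
      (algebraMap (Localization.AtPrime 𝔭) (FSch.cAtPrime A J 𝔭))) := by
    intro z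
    obtain ⟨x, rfl⟩ := IsLocalRing.residue_surjective z
    obtain ⟨b, hb⟩ := exists_sub_mem_maximalIdeal A J 𝔭 hJ x
    refine ⟨IsLocalRing.residue _ b, ?_⟩
    rw [IsLocalRing.ResidueField.map_residue, eq_comm, ← sub_eq_zero, ← map_sub,
      IsLocalRing.residue_eq_zero_iff]
    exact hb
  have hsurj1 : Function.Surjective (IsLocalRing.ResidueField.map
      (FSch.stalkSubring A J 𝔭).subtype) := by
    intro z
    obtain ⟨x, rfl⟩ := IsLocalRing.residue_surjective z
    obtain ⟨b, hb⟩ := exists_sub_mem_maximalIdeal A J 𝔭 hJ x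
    refine ⟨IsLocalRing.residue _ ⟨_, algebraMap_mem_stalkSubring A J 𝔭 b⟩, ?_⟩
    rw [IsLocalRing.ResidueField.map_residue, eq_comm, ← sub_eq_zero, ← map_sub,
      IsLocalRing.residue_eq_zero_iff]
    exact hb
  exact ⟨⟨RingHom.injective _, hsurj1⟩, ⟨RingHom.injective _, hsurj2⟩⟩

end Groth.Agent.S3872
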