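import Groth.Statements.S3873
import Mathlib.AlgebraicGeometry.Morphisms.ClosedImmersion

set_option autoImplicit false
universe u
open FCompl

namespace Groth.Agent.S3873

open CategoryTheory CategoryTheory.Limits AlgebraicGeometry in
theorem isPushout_quot (A B : Type u) [CommRing A] [CommRing B] (φ : B →+* A) (𝔟 : Ideal B) :
    IsPushout (CommRingCat.ofHom φ) (CommRingCat.ofHom (Ideal.Quotient.mk 𝔟))
      (CommRingCat.ofHom (Ideal.Quotient.mk (𝔟.map φ)))
      (CommRingCat.ofHom (Ideal.quotientMap (𝔟.map φ) φ Ideal.le_comap_map)) := by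
  refine ⟨⟨?_⟩, ⟨PushoutCocone.IsColimit.mk _ (fun s => ?_) ?_ ?_ ?_⟩⟩
  · ext b
    simp
  · refine CommRingCat.ofHom (Ideal.Quotient.lift (𝔟.map φ) s.inl.hom ?_)
    intro a ha
    have hle : 𝔟.map φ ≤ RingHom.ker s.inl.hom := by
      rw [Ideal.map_le_iff_le_comap]
      intro b hb
      rw [Ideal.mem_comap, RingHom.mem_ker]
      have h1 : s.inl.hom (φ b) = s.inr.hom (Ideal.Quotient.mk 𝔟 b) := by
        have := s.condition
        exact congrArg (fun f => f.hom b) this
      rw [h1, Ideal.Quotient.eq_zero_iff_mem.mpr hb, map_zero]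
    exact hle ha
  · intro s
    ext a
    rfl
  · intro s
    ext b
    have h1 : s.inl.hom (φ b) = s.inr.hom (Ideal.Quotient.mk 𝔟 b) := by
      have := s.condition
      exact congrArg (fun f => f.hom b) this
    exact h1
  · intro s m h1 h2
    ext a
    exact congrArg (fun f => f.hom a) h1

open AlgebraicGeometry in
/-- Its content on the affine schemes underlying the formal spectra: the inverse image ideal of b^Δ is
(bA)^Δ, read on Spec: For a ring homomorphism φ : B -> A and an ideal b of B, the inverse image
along Spec(φ) of the ideal sheaf of b on Spec B is the ideal sheaf on Spec A of the ideal generated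
by φ(b). -/
theorem result (A B : Type u) [CommRing A] [CommRing B] (φ : B →+* A) (𝔟 : Ideal B) :
    (FSch.idealSpec B 𝔟).comap (Spec.map (CommRingCat.ofHom φ)) = FSch.idealSpec A (𝔟.map φ) := by
  have hpb := isPullback_SpecMap_of_isPushout _ _ _ _ (isPushout_quot A B φ 𝔟)
  have : IsClosedImmersion (Spec.map (CommRingCat.ofHom (Ideal.Quotient.mk 𝔟))) :=
    IsClosedImmersion.spec_of_surjective _ Ideal.Quotient.mk_surjective
  unfold FSch.idealSpec
  rw [← Scheme.IdealSheafData.ker_fst_of_isClosedImmersion, ← hpb.isoPullback_hom_fst,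
    Scheme.Hom.ker_comp_of_isIso]

end Groth.Agent.S3873
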