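import Groth.Statements.S3874
import Groth.Agent.H87.AdicPi

set_option autoImplicit false
universe u
open FCompl

namespace Groth.Agent.S3874

section gen

variable {R : Type u} [CommRing R] (I : Ideal R)

theorem mem_map_pow_iff (h : I.FG) (N : ℕ) (x : AdicCompletion I R) :
    x ∈ (I.map (algebraMap R (AdicCompletion I R))) ^ N ↔ AdicCompletion.eval I R N x = 0 := by
  rw [← Ideal.map_pow, ← LinearMap.mem_ker, ← AdicCompletion.pow_smul_top_eq_ker_eval h,
    Ideal.smul_top_eq_map]
  rfl

theorem exists_sub_of_mem (h : I.FG) (N : ℕ) (x : AdicCompletion I R) :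
    ∃ r : R, x - AdicCompletion.of I R r ∈ (I.map (algebraMap R (AdicCompletion I R))) ^ N := by
  obtain ⟨r, hr⟩ := Submodule.Quotient.mk_surjective _ (AdicCompletion.eval I R N x)
  refine ⟨r, (mem_map_pow_iff I h N _).mpr ?_⟩
  rw [map_sub, sub_eq_zero, ← hr]
  rfl

theorem mem_pow_of_of_mem (h : I.FG) (N : ℕ) (r : R)
    (hr : AdicCompletion.of I R r ∈ (I.map (algebraMap R (AdicCompletion I R))) ^ N) :
    r ∈ I ^ N := by
  have h1 := (mem_map_pow_iff I h N _).mp hr
  rw [AdicCompletion.eval_of, Submodule.mkQ_apply, Submodule.Quotient.mk_eq_zero] at h1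
  exact (Groth.Agent.H87.mem_smul_top_self (I ^ N) r).mp h1

end gen

noncomputable abbrev KK (A : Type u) [CommRing A] (J : Ideal A) (f : A) (n : ℕ) : Ideal (FSch.cAway A J f) :=
  (J.map (algebraMap A (FSch.cAway A J f))) ^ (n + 1)

theorem algebraMap_comp (A : Type u) [CommRing A] (J : Ideal A) (f : A) (a : A) :
    algebraMap (Localization.Away f) (FSch.cAway A J f) (algebraMap A (Localization.Away f) a)
      = algebraMap A (FSch.cAway A J f) a := rfl

theorem KK_eq (A : Type u) [CommRing A] (J : Ideal A) (f : A) (n : ℕ) :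
    KK A J f n = ((J.map (algebraMap A (Localization.Away f))).map
      (algebraMap (Localization.Away f) (FSch.cAway A J f))) ^ (n + 1) := by
  have h : algebraMap A (FSch.cAway A J f) =
      (algebraMap (Localization.Away f) (FSch.cAway A J f)).comp
        (algebraMap A (Localization.Away f)) :=
    RingHom.ext fun a => (algebraMap_comp A J f a).symm
  rw [Ideal.map_map, ← h]

noncomputable def φ (A : Type u) [CommRing A] (J : Ideal A) (f : A) (n : ℕ) :
    A ⧸ J ^ (n + 1) →+* FSch.cAway A J f ⧸ KK A J f n :=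
  Ideal.Quotient.lift (J ^ (n + 1))
    ((Ideal.Quotient.mk (KK A J f n)).comp (algebraMap A (FSch.cAway A J f))) (by
      intro a ha
      rw [RingHom.comp_apply, Ideal.Quotient.eq_zero_iff_mem]
      show algebraMap A (FSch.cAway A J f) a ∈
        (J.map (algebraMap A (FSch.cAway A J f))) ^ (n + 1)
      rw [← Ideal.map_pow]
      exact Ideal.mem_map_of_mem _ ha)

theorem g_surjective (A : Type u) [CommRing A] [IsNoetherianRing A] (J : Ideal A) (f : A)
    (n : ℕ) :
    Function.Surjective ((Ideal.Quotient.mk (KK A J f n)).comp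
      (algebraMap (Localization.Away f) (FSch.cAway A J f))) := by
  have hfg : (J.map (algebraMap A (Localization.Away f))).FG :=
    Ideal.FG.map ((isNoetherianRing_iff_ideal_fg A).mp inferInstance J) _
  intro t
  obtain ⟨x, rfl⟩ := Ideal.Quotient.mk_surjective t
  obtain ⟨b, hb⟩ := exists_sub_of_mem _ hfg (n + 1) x
  refine ⟨b, ?_⟩
  rw [RingHom.comp_apply, eq_comm, Ideal.Quotient.eq, KK_eq]
  exact hb

theorem ker_g_le (A : Type u) [CommRing A] [IsNoetherianRing A] (J : Ideal A) (f : A) (n : ℕ) :
    RingHom.ker ((Ideal.Quotient.mk (KK A J f n)).comp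
      (algebraMap (Localization.Away f) (FSch.cAway A J f))) ≤
    (RingHom.ker (Ideal.Quotient.mk (J ^ (n + 1)))).map (algebraMap A (Localization.Away f)) := by
  have hfg : (J.map (algebraMap A (Localization.Away f))).FG :=
    Ideal.FG.map ((isNoetherianRing_iff_ideal_fg A).mp inferInstance J) _
  intro b hb
  rw [RingHom.mem_ker, RingHom.comp_apply, Ideal.Quotient.eq_zero_iff_mem, KK_eq] at hb
  rw [Ideal.mk_ker, Ideal.map_pow]
  exact mem_pow_of_of_mem _ hfg (n + 1) b hb

/-- Let A be a Noetherian ring, J an ideal, f ∈ A and n ≥ 0, and let A_{f} be the completion of the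
localization A_f for the topology defined by the extension of J. There is a ring isomorphism from
the localization of A/J^(n+1) away from the class of f onto A_{f} modulo the (n+1)-st power of the
extension of J to A_{f}, compatible with the canonical maps from A (and hence unique). In terms of
formal spectra: the open D(f) of Spf(A) is Spf(A_{f}), and at level n its ring is the ring
(A/J^(n+1))_f of the open D(f) of Spec(A/J^(n+1)). -/
theorem result (A : Type u) [CommRing A] [IsNoetherianRing A] (J : Ideal A)
    (f : A) (n : ℕ) :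
    ∃ e : Localization.Away (Ideal.Quotient.mk (J ^ (n + 1)) f) ≃+*
        FSch.cAway A J f ⧸ (J.map (algebraMap A (FSch.cAway A J f))) ^ (n + 1),
      ∀ a : A, e (algebraMap (A ⧸ J ^ (n + 1)) _ (Ideal.Quotient.mk (J ^ (n + 1)) a)) =
        Ideal.Quotient.mk _ (algebraMap A (FSch.cAway A J f) a) := by
  let _ : Algebra (A ⧸ J ^ (n + 1)) (FSch.cAway A J f ⧸ KK A J f n) := (φ A J f n).toAlgebra
  have H : ((Ideal.Quotient.mk (KK A J f n)).comp
      (algebraMap (Localization.Away f) (FSch.cAway A J f))).comp
        (algebraMap A (Localization.Away f)) =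
      (algebraMap (A ⧸ J ^ (n + 1)) (FSch.cAway A J f ⧸ KK A J f n)).comp
        (Ideal.Quotient.mk (J ^ (n + 1))) := RingHom.ext fun a => rfl
  have hloc := IsLocalization.of_surjective (Submonoid.powers f) (Localization.Away f)
    (Ideal.Quotient.mk (J ^ (n + 1))) Ideal.Quotient.mk_surjective _ (g_surjective A J f n) H
    (ker_g_le A J f n)
  rw [Submonoid.map_powers] at hloc
  have hloc' : IsLocalization (Submonoid.powers (Ideal.Quotient.mk (J ^ (n + 1)) f))
    (FSch.cAway A J f ⧸ KK A J f n) := hloc
  let e := IsLocalization.algEquiv (Submonoid.powers (Ideal.Quotient.mk (J ^ (n + 1)) f))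
    (Localization.Away (Ideal.Quotient.mk (J ^ (n + 1)) f))
    (FSch.cAway A J f ⧸ KK A J f n)
  refine ⟨e.toRingEquiv, fun a => ?_⟩
  show e (algebraMap _ _ (Ideal.Quotient.mk _ a)) = _
  rw [e.commutes]
  rfl

end Groth.Agent.S3874
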