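import Groth.Statements.S3883
import Mathlib
import Groth.Agent.H4.ClosedSets

set_option autoImplicit false
open CategoryTheory CategoryTheory.Limits AlgebraicGeometry Opposite
universe u
open EtDesc

namespace Groth.Agent.S3883


open Groth.Agent.H4

/-- Let i : Y -> X be a closed immersion and j : U -> X an open immersion whose image is the complement
of the image of i. Then the direct image functor i_* on etale sheaves of sets is fully faithful, and
a sheaf of sets F on X is isomorphic to some i_* G if and only if j^* F is a final object. -/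
theorem result {Y X U : Scheme.{u}} (i : Y ⟶ X)
    [IsClosedImmersion i] (j : U ⟶ X) [IsOpenImmersion j]
    (hU : Set.range j.base = (Set.range i.base)ᶜ) :
    (EtDesc.pushSh i).Full ∧ (EtDesc.pushSh i).Faithful ∧
    ∀ F : EtDesc.Sh X, (EtDesc.pushSh i).essImage F ↔ IsIso (terminal.from ((EtDesc.pullSh j).obj F)) := by
  refine ⟨?_, ?_, fun F => essImage_pushSh_iff_terminal i j hU F⟩
  · constructor
    intro G G' φ
    let α : (EtCoh.bc i).op ⋙ G.obj ⟶ (EtCoh.bc i).op ⋙ G'.obj := φ.hom
    refine ⟨⟨Functor.IsCoverDense.sheafHom α⟩, ?_⟩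
    apply Sheaf.hom_ext
    exact Functor.IsCoverDense.sheafHom_restrict_eq α
  · constructor
    intro G G' a b hab
    have h1 : Functor.whiskerLeft (EtCoh.bc i).op a.hom =
        Functor.whiskerLeft (EtCoh.bc i).op b.hom := congrArg (fun q => q.hom) hab
    apply Sheaf.hom_ext
    rw [← Functor.IsCoverDense.sheafHom_eq (EtCoh.bc i) a.hom,
      ← Functor.IsCoverDense.sheafHom_eq (EtCoh.bc i) b.hom, h1]

end Groth.Agent.S3883
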