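import Groth.Statements.S3886
import Mathlib.AlgebraicTopology.SimplicialObject.ChainHomotopy
import Mathlib.Algebra.Homology.Opposite

set_option autoImplicit false
universe u
open CategoryTheory
open Hyper

namespace Groth.Agent.S3886

section aux

open CategoryTheory CategoryTheory.Limits Opposite AlgebraicTopology Simplicial

universe v₁ u₁ v₂ u₂

variable {D : Type u₁} [Category.{v₁} D] {A : Type u₂} [Category.{v₂} A] [Preadditive A]
  (G : Dᵒᵖ ⥤ A) {K L : SimplicialObject D}

/-- the cosimplicial map induced by a simplicial map. -/
abbrev coMap (a : L ⟶ K) : (K.rightOp ⋙ G : CosimplicialObject A) ⟶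
    (L.rightOp ⋙ G : CosimplicialObject A) :=
  ((Functor.whiskeringLeft _ _ _).map (NatTrans.rightOp a)).app G

/-- the cosimplicial object induced by a simplicial object. -/
abbrev coObj (Y : SimplicialObject D) : CosimplicialObject A := Y.rightOp ⋙ G

/-- the simplicial object in the opposite category. -/
abbrev opObj (Y : SimplicialObject D) : SimplicialObject Aᵒᵖ := Y ⋙ G.rightOp

lemma d_op (Y : SimplicialObject D) (n : ℕ) :
    (((alternatingCofaceMapComplex A).obj (Y.rightOp ⋙ G)).d n (n + 1)).op =
      ((alternatingFaceMapComplex Aᵒᵖ).obj (Y ⋙ G.rightOp)).d (n + 1) n := by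
  have h1 : ((alternatingCofaceMapComplex A).obj (coObj G Y)).d n (n + 1) =
      AlternatingCofaceMapComplex.objD (coObj G Y) n :=
    CochainComplex.of_d (fun n => (coObj G Y).obj ⦋n⦌)
      (AlternatingCofaceMapComplex.objD (coObj G Y)) n
  have h2 : AlternatingCofaceMapComplex.objD (coObj G Y) n =
      (AlternatingFaceMapComplex.objD (opObj G Y) n).unop :=
    AlternatingCofaceMapComplex.d_eq_unop_d (coObj G Y) n
  have h3 : ((alternatingFaceMapComplex Aᵒᵖ).obj (opObj G Y)).d (n + 1) n =
      AlternatingFaceMapComplex.objD (opObj G Y) n := alternatingFaceMapComplex_obj_d _ _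
  change (((alternatingCofaceMapComplex A).obj (coObj G Y)).d n (n + 1)).op =
    ((alternatingFaceMapComplex Aᵒᵖ).obj (opObj G Y)).d (n + 1) n
  rw [h1, h2, h3]
  rfl

lemma f_op (a : L ⟶ K) (n : ℕ) :
    (((alternatingCofaceMapComplex A).map (coMap G a)).f n).op =
      ((alternatingFaceMapComplex Aᵒᵖ).map
        (((SimplicialObject.whiskering D Aᵒᵖ).obj G.rightOp).map a)).f n := rfl

/-- A simplicial homotopy induces a cochain homotopy after applying a contravariant functor. -/
noncomputable def coHomotopy {a b : L ⟶ K} (H : SimplicialObject.Homotopy a b) :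
    Homotopy ((alternatingCofaceMapComplex A).map (coMap G a))
      ((alternatingCofaceMapComplex A).map (coMap G b)) where
  hom i j := ((H.whiskerRight G.rightOp).toChainHomotopy.hom j i).unop
  zero i j hij := by
    rw [(H.whiskerRight G.rightOp).toChainHomotopy.zero j i hij]
    rfl
  comm n := by
    apply Quiver.Hom.op_inj
    have hc := (H.whiskerRight G.rightOp).toChainHomotopy.comm n
    cases n with
    | zero =>
      rw [Homotopy.dNext_zero_chainComplex, Homotopy.prevD_chainComplex, zero_add] at hc
      rw [Homotopy.dNext_cochainComplex, Homotopy.prevD_zero_cochainComplex, add_zero]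
      rw [op_add, op_comp, d_op, f_op, f_op]
      exact hc
    | succ n =>
      rw [Homotopy.dNext_succ_chainComplex, Homotopy.prevD_chainComplex] at hc
      rw [Homotopy.dNext_cochainComplex, Homotopy.prevD_succ_cochainComplex]
      rw [op_add, op_add, op_comp, op_comp, d_op, d_op, f_op, f_op]
      refine hc.trans ?_
      congr 1
      exact add_comm _ _

end aux


open Opposite CategoryTheory.Limits in
/-- Let a, b : L -> K be two morphisms of simplicial semi-representable objects over an object X of a
small category (simplicial objects in formal coproducts of objects over X), homotopic in the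
combinatorial (simplicial) sense. Then for every presheaf of abelian groups P and every p, a and b
induce the same map from the p-th Cech cohomology group of P with respect to K to that with respect
to L. -/
theorem result {C : Type u} [SmallCategory C] (X : C)
    {K L : SimplicialObject (FormalCoproduct.{u} (Over X))} (a b : L ⟶ K)
    (h : Nonempty (SimplicialObject.Homotopy a b)) (P : Cᵒᵖ ⥤ AddCommGrpCat.{u}) (p : ℕ) :
    Hyper.cechHMap X a P p = Hyper.cechHMap X b P p := by
  obtain ⟨H⟩ := h
  have key := (coHomotopy ((FormalCoproduct.evalOp.{u} (Over X) AddCommGrpCat.{u}).obj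
    ((Over.forget X).op ⋙ P)) H).homologyMap_eq p
  exact congrArg AddCommGrpCat.Hom.hom key

end Groth.Agent.S3886
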