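import Groth.Statements.S3888
import Mathlib
import Groth.Agent.H4.ClosedSets

set_option autoImplicit false
open CategoryTheory CategoryTheory.Limits AlgebraicGeometry Opposite
universe u
open EtDesc

namespace Groth.Agent.S3888

open Groth.Agent.H4

/-- Direct image of sheaves of sets along an open immersion is fully faithful. -/
theorem pushSh_ff_open {U X : Scheme.{u}} (j : U ⟶ X) [IsOpenImmersion j] :
    (EtDesc.pushSh j).Full ∧ (EtDesc.pushSh j).Faithful := by
  have hj : EtCoh.etaleMP j := (inferInstance : Etale j)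
  let adj : EtShriek.compEtale j ⊣ EtCoh.bc j :=
    MorphismProperty.Over.mapPullbackAdj EtCoh.etaleMP ⊤ j hj trivial
  haveI : IsIso adj.unit := inferInstance
  let e : EtShriek.compEtale j ⋙ EtCoh.bc j ≅ 𝟭 U.Etale := (asIso adj.unit).symm
  let adj₂ : restrSh j ⊣ EtDesc.pushSh j :=
    adj.sheafPushforwardContinuous (E := Type (u + 1)) U.smallEtaleTopology X.smallEtaleTopology
  let i : EtDesc.pushSh j ⋙ restrSh j ≅ 𝟭 (EtDesc.Sh U) :=
    Functor.sheafPushforwardContinuousComp' (F := EtShriek.compEtale j) (G := EtCoh.bc j)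
      (FG := 𝟭 U.Etale) e
      (Type (u + 1)) U.smallEtaleTopology X.smallEtaleTopology U.smallEtaleTopology ≪≫
      Functor.sheafPushforwardContinuousId _ _
  haveI h2 : IsIso adj₂.counit := adj₂.isIso_counit_of_iso i
  let ff := adj₂.fullyFaithfulROfIsIsoCounit
  exact ⟨ff.full, ff.faithful⟩

/-- Direct image of sheaves of sets along a closed immersion is fully faithful. -/
theorem pushSh_ff_closed {Z X : Scheme.{u}} (i : Z ⟶ X) [IsClosedImmersion i] :
    (EtDesc.pushSh i).Full ∧ (EtDesc.pushSh i).Faithful := by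
  constructor
  · constructor
    intro G G' φ
    let α : (EtCoh.bc i).op ⋙ G.obj ⟶ (EtCoh.bc i).op ⋙ G'.obj := φ.hom
    refine ⟨⟨Functor.IsCoverDense.sheafHom α⟩, ?_⟩
    apply Sheaf.hom_ext
    exact Functor.IsCoverDense.sheafHom_restrict_eq α
  · constructor
    intro G G' a b hab
    have h1 : Functor.whiskerLeft (EtCoh.bc i).op a.hom =
        Functor.whiskerLeft (EtCoh.bc i).op b.hom := congrArg (fun q => q.hom) hab
    apply Sheaf.hom_ext
    rw [← Functor.IsCoverDense.sheafHom_eq (EtCoh.bc i) a.hom,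
      ← Functor.IsCoverDense.sheafHom_eq (EtCoh.bc i) b.hom, h1]

/-- Let f : X -> Y be an immersion of schemes. Then for every sheaf of sets F on the small etale site of
X the counit f^* f_* F -> F of the adjunction between inverse and direct image is an isomorphism. -/
theorem result {X Y : Scheme.{u}} (f : X ⟶ Y) [IsImmersion f] (F : EtDesc.Sh X) :
    IsIso ((EtDesc.adjSh f).counit.app F) := by
  let i := f.liftCoborder
  let j := f.coborderRange.ι
  have hij : i ≫ j = f := f.liftCoborder_ι
  obtain ⟨hi1, hi2⟩ := pushSh_ff_closed i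
  obtain ⟨hj1, hj2⟩ := pushSh_ff_open j
  haveI := hi1
  haveI := hi2
  haveI := hj1
  haveI := hj2
  let e : EtDesc.pushSh i ⋙ EtDesc.pushSh j ≅ EtDesc.pushSh f :=
    EtDesc.pushCompSh j i ≪≫ eqToIso (congrArg (fun g => EtDesc.pushSh g) hij)
  haveI : (EtDesc.pushSh f).Full := Functor.Full.of_iso e
  haveI : (EtDesc.pushSh f).Faithful := Functor.Faithful.of_iso e
  infer_instance

end Groth.Agent.S3888
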