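import Groth.Statements.S3894

set_option autoImplicit false
universe u
open CategoryTheory CategoryTheory.Limits Opposite
open Tors

namespace Groth.Agent.S3894

/-- A torsor P under an abelian sheaf G is trivial, i.e. equivariantly isomorphic to G acting on itself
by translations, if and only if P has a global section (a morphism from the final sheaf of sets). -/
theorem result {C : Type u} [SmallCategory C] {J : GrothendieckTopology C}
    {G : Sheaf J AddCommGrpCat.{u}} (T : Tors.Torsor G) : T.IsTrivial ↔ T.HasSection := by
  let Q : Sheaf J (Type u) := Sheaf.terminal J Types.isTerminalPUnit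
  have hQ : IsTerminal Q := Sheaf.isTerminalTerminal J Types.isTerminalPUnit
  have key : T.HasSection ↔ Nonempty (Q ⟶ T.P) := by
    constructor
    · rintro ⟨s⟩
      exact ⟨terminal.from _ ≫ s⟩
    · rintro ⟨s⟩
      exact ⟨hQ.from _ ≫ s⟩
  rw [key]
  constructor
  · rintro ⟨e, he⟩
    refine ⟨ObjectProperty.homMk
      { app := fun U => TypeCat.ofHom (fun _ => e.hom.hom.app U (0 : G.obj.obj U))
        naturality := ?_ }⟩
    intro U V f
    ext x
    have h1 := NatTrans.naturality_apply e.hom.hom f (0 : G.obj.obj U)
    have h2 : (((sheafCompose J (forget AddCommGrpCat)).obj G).obj.map f) (0 : G.obj.obj U)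
        = (0 : G.obj.obj V) := map_zero (G.obj.map f).hom
    change e.hom.hom.app V (0 : G.obj.obj V) = T.P.obj.map f (e.hom.hom.app U (0 : G.obj.obj U))
    rw [← h1, h2]
  · rintro ⟨s⟩
    let σ : ∀ U : Cᵒᵖ, T.P.obj.obj U := fun U => s.hom.app U PUnit.unit
    have hσ : ∀ {U V : Cᵒᵖ} (f : U ⟶ V), T.P.obj.map f (σ U) = σ V := by
      intro U V f
      exact (NatTrans.naturality_apply s.hom f PUnit.unit).symm
    let η : ((sheafCompose J (forget AddCommGrpCat)).obj G).obj ⟶ T.P.obj :=
      { app := fun U => TypeCat.ofHom (fun g : G.obj.obj U => T.vadd g (σ U))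
        naturality := by
          intro U V f
          ext g
          have h := T.map_vadd f (g : G.obj.obj U) (σ U)
          rw [hσ] at h
          exact h.symm }
    have hη : ∀ U, IsIso (η.app U) := by
      intro U
      rw [isIso_iff_bijective]
      constructor
      · intro g h hgh
        exact (T.free_transitive (σ U) (T.vadd h (σ U))).unique hgh rfl
      · intro q
        obtain ⟨g, hg, -⟩ := T.free_transitive (σ U) q
        exact ⟨g, hg⟩
    have : IsIso η := NatIso.isIso_of_isIso_app η
    let f : (sheafCompose J (forget AddCommGrpCat)).obj G ⟶ T.P := ObjectProperty.homMk η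
    have hf : IsIso f := by
      have : IsIso ((sheafToPresheaf J (Type u)).map f) := ‹IsIso η›
      exact isIso_of_reflects_iso f (sheafToPresheaf J (Type u))
    refine ⟨asIso f, ?_⟩
    intro U g h
    change T.vadd (g + h) (σ U) = T.vadd g (T.vadd h (σ U))
    exact T.add_vadd g h (σ U)
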