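import Groth.Statements.S3896
import Mathlib
import Groth.Agent.H11.SubT_P3
import Groth.Agent.H18.SubT_P4
import Groth.Agent.H68.SubT_P5
import Groth.Agent.H84.SubT_P2

set_option autoImplicit false
open CategoryTheory CategoryTheory.Limits AlgebraicGeometry Opposite
universe u
open EtDesc

namespace Groth.Agent.S3896

theorem iso_of_homs {X : Scheme.{u}} (F G : EtDesc.Sh X) (hF : Mono (terminal.from F))
    (hG : Mono (terminal.from G)) (a : F ⟶ G) (b : G ⟶ F) : Nonempty (F ≅ G) := by
  refine ⟨⟨a, b, ?_, ?_⟩⟩
  · have := hF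
    rw [← cancel_mono (terminal.from F)]
    exact Subsingleton.elim _ _
  · have := hG
    rw [← cancel_mono (terminal.from G)]
    exact Subsingleton.elim _ _

theorem range_ofOpen {X : Scheme.{u}} (U : X.Opens) :
    Set.range (EtDesc.ofOpen U).hom.base = (U : Set X) := by
  show Set.range U.ι.base = (U : Set X)
  exact Scheme.Opens.range_ι U


/-- Let X be a scheme. Sending a Zariski open U of X to the etale sheaf of sets attached to the open
immersion U -> X gives an isomorphism of ordered sets from the opens of X onto the subobjects of the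
final object of the etale topos of X: (a) each such sheaf is a subobject of the final sheaf; (b) U ≤
V if and only if there is a morphism between the attached sheaves; (c) every subobject of the final
sheaf is isomorphic to the sheaf attached to some open. -/
theorem result (X : Scheme.{u}) :
    (∀ U : X.Opens, Mono (terminal.from (EtDesc.repSh (EtDesc.ofOpen U)))) ∧
    (∀ U V : X.Opens, U ≤ V ↔ Nonempty (EtDesc.repSh (EtDesc.ofOpen U) ⟶ EtDesc.repSh (EtDesc.ofOpen V))) ∧
    (∀ F : EtDesc.Sh X, Mono (terminal.from F) → ∃ U : X.Opens, Nonempty (F ≅ EtDesc.repSh (EtDesc.ofOpen U))) := by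
  refine ⟨fun U => Groth.Agent.H11.SubT_P3.mono_terminal_from_repSh_ofOpen U, fun U V => ?_,
    fun F hF => ?_⟩
  · rw [Groth.Agent.H84.SubT_P2.nonempty_hom_iff _ _
      (Groth.Agent.H11.SubT_P3.mono_terminal_from_repSh_ofOpen V)]
    constructor
    · intro hUV W hW
      rw [Groth.Agent.H18.SubT_P4.nonempty_sections_repSh_ofOpen_iff] at hW ⊢
      exact hW.trans hUV
    · intro h
      have h1 := h (EtDesc.ofOpen U)
        ((Groth.Agent.H18.SubT_P4.nonempty_sections_repSh_ofOpen_iff U (EtDesc.ofOpen U)).2
          (range_ofOpen U).le)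
      rw [Groth.Agent.H18.SubT_P4.nonempty_sections_repSh_ofOpen_iff, range_ofOpen] at h1
      exact h1
  · obtain ⟨U, hU⟩ := Groth.Agent.H68.SubT_P5.exists_opens_nonempty_sections_iff F hF
    refine ⟨U, ?_⟩
    have hR := Groth.Agent.H11.SubT_P3.mono_terminal_from_repSh_ofOpen U
    obtain ⟨a⟩ := (Groth.Agent.H84.SubT_P2.nonempty_hom_iff F _ hR).2 (fun W hW =>
      (Groth.Agent.H18.SubT_P4.nonempty_sections_repSh_ofOpen_iff U W).2 ((hU W).1 hW))
    obtain ⟨b⟩ := (Groth.Agent.H84.SubT_P2.nonempty_hom_iff _ F hF).2 (fun W hW =>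
      (hU W).2 ((Groth.Agent.H18.SubT_P4.nonempty_sections_repSh_ofOpen_iff U W).1 hW))
    exact iso_of_homs F _ hF hR a b

end Groth.Agent.S3896
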