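import Groth.Statements.S4027
import Mathlib

set_option autoImplicit false
universe u
open LefPen

namespace Groth.Agent.S4027

section lemmas

variable {k : Type u} [Field k] {r : ℕ}

/-- the polynomial ring `k[X_1..X_r]` -/
abbrev PP (k : Type u) [Field k] (r : ℕ) := MvPolynomial (Fin r) k
/-- `k[X][T]` -/
abbrev QQ (k : Type u) [Field k] (r : ℕ) := Polynomial (MvPolynomial (Fin r) k)
/-- `k[X][T, T⁻¹]` -/
abbrev LL (k : Type u) [Field k] (r : ℕ) :=
  Localization.Away (Polynomial.X : Polynomial (MvPolynomial (Fin r) k))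

/-- substitution `X_j ↦ X_j T` -/
noncomputable def phi (k : Type u) [Field k] (r : ℕ) : PP k r →+* QQ k r :=
  MvPolynomial.eval₂Hom (Polynomial.C.comp MvPolynomial.C)
    (fun j => Polynomial.C (MvPolynomial.X j) * Polynomial.X)

theorem phi_C (c : k) : phi k r (MvPolynomial.C c) = Polynomial.C (MvPolynomial.C c) := by
  unfold phi; rw [MvPolynomial.eval₂Hom_C]; rfl

theorem phi_X (j : Fin r) :
    phi k r (MvPolynomial.X j) = Polynomial.C (MvPolynomial.X j) * Polynomial.X := by
  unfold phi; rw [MvPolynomial.eval₂Hom_X']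

/-- inverse of `T` -/
noncomputable def tinv (k : Type u) [Field k] (r : ℕ) : LL k r :=
  IsLocalization.Away.invSelf (Polynomial.X : QQ k r)

theorem t_mul_tinv :
    algebraMap (QQ k r) (LL k r) Polynomial.X * tinv k r = 1 :=
  IsLocalization.Away.mul_invSelf _

theorem iota_inj : Function.Injective (algebraMap (QQ k r) (LL k r)) :=
  IsLocalization.injective (LL k r) (M := Submonoid.powers (Polynomial.X : QQ k r))
    (powers_le_nonZeroDivisors_of_noZeroDivisors Polynomial.X_ne_zero)

noncomputable def psi0 (k : Type u) [Field k] (r : ℕ) : PP k r →+* LL k r :=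
  MvPolynomial.eval₂Hom ((algebraMap (QQ k r) (LL k r)).comp (Polynomial.C.comp MvPolynomial.C))
    (fun j => algebraMap (QQ k r) (LL k r) (Polynomial.C (MvPolynomial.X j)) * tinv k r)

theorem psi0_C (c : k) : psi0 k r (MvPolynomial.C c) =
    algebraMap (QQ k r) (LL k r) (Polynomial.C (MvPolynomial.C c)) := by
  unfold psi0; rw [MvPolynomial.eval₂Hom_C]; rfl

theorem psi0_X (j : Fin r) : psi0 k r (MvPolynomial.X j) =
    algebraMap (QQ k r) (LL k r) (Polynomial.C (MvPolynomial.X j)) * tinv k r := by
  unfold psi0; rw [MvPolynomial.eval₂Hom_X']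

noncomputable def psi1 (k : Type u) [Field k] (r : ℕ) : QQ k r →+* LL k r :=
  Polynomial.eval₂RingHom (psi0 k r) (algebraMap (QQ k r) (LL k r) Polynomial.X)

theorem psi1_X : psi1 k r Polynomial.X = algebraMap (QQ k r) (LL k r) Polynomial.X :=
  Polynomial.eval₂_X _ _

theorem psi1_C (p : PP k r) : psi1 k r (Polynomial.C p) = psi0 k r p :=
  Polynomial.eval₂_C _ _

noncomputable def psi (k : Type u) [Field k] (r : ℕ) : LL k r →+* LL k r :=
  IsLocalization.Away.lift (Polynomial.X : QQ k r) (g := psi1 k r)
    (by rw [psi1_X]; exact IsLocalization.Away.algebraMap_isUnit _)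

theorem psi_iota (a : QQ k r) : psi k r (algebraMap (QQ k r) (LL k r) a) = psi1 k r a :=
  IsLocalization.Away.lift_eq _ _ a

noncomputable def psi0' (k : Type u) [Field k] (r : ℕ) : PP k r →+* LL k r :=
  MvPolynomial.eval₂Hom ((algebraMap (QQ k r) (LL k r)).comp (Polynomial.C.comp MvPolynomial.C))
    (fun j => algebraMap (QQ k r) (LL k r) (Polynomial.C (MvPolynomial.X j)) *
      algebraMap (QQ k r) (LL k r) Polynomial.X)

theorem psi0'_C (c : k) : psi0' k r (MvPolynomial.C c) =
    algebraMap (QQ k r) (LL k r) (Polynomial.C (MvPolynomial.C c)) := by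
  unfold psi0'; rw [MvPolynomial.eval₂Hom_C]; rfl

theorem psi0'_X (j : Fin r) : psi0' k r (MvPolynomial.X j) =
    algebraMap (QQ k r) (LL k r) (Polynomial.C (MvPolynomial.X j)) *
      algebraMap (QQ k r) (LL k r) Polynomial.X := by
  unfold psi0'; rw [MvPolynomial.eval₂Hom_X']

noncomputable def psi1' (k : Type u) [Field k] (r : ℕ) : QQ k r →+* LL k r :=
  Polynomial.eval₂RingHom (psi0' k r) (algebraMap (QQ k r) (LL k r) Polynomial.X)

theorem psi1'_X : psi1' k r Polynomial.X = algebraMap (QQ k r) (LL k r) Polynomial.X :=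
  Polynomial.eval₂_X _ _

theorem psi1'_C (p : PP k r) : psi1' k r (Polynomial.C p) = psi0' k r p :=
  Polynomial.eval₂_C _ _

noncomputable def psi' (k : Type u) [Field k] (r : ℕ) : LL k r →+* LL k r :=
  IsLocalization.Away.lift (Polynomial.X : QQ k r) (g := psi1' k r)
    (by rw [psi1'_X]; exact IsLocalization.Away.algebraMap_isUnit _)

theorem psi'_iota (a : QQ k r) : psi' k r (algebraMap (QQ k r) (LL k r) a) = psi1' k r a :=
  IsLocalization.Away.lift_eq _ _ a

theorem psi'_tinv : psi' k r (tinv k r) = tinv k r := by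
  have h1 : psi' k r (algebraMap (QQ k r) (LL k r) Polynomial.X) =
      algebraMap (QQ k r) (LL k r) Polynomial.X := by rw [psi'_iota, psi1'_X]
  have h2 : psi' k r (algebraMap (QQ k r) (LL k r) Polynomial.X) * psi' k r (tinv k r) = 1 := by
    rw [← map_mul, t_mul_tinv, map_one]
  rw [h1] at h2
  calc psi' k r (tinv k r)
      = (algebraMap (QQ k r) (LL k r) Polynomial.X * tinv k r) * psi' k r (tinv k r) := by
        rw [t_mul_tinv, one_mul]
    _ = tinv k r * (algebraMap (QQ k r) (LL k r) Polynomial.X * psi' k r (tinv k r)) := by ring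
    _ = tinv k r := by rw [h2, mul_one]

theorem psi'_psi (a : LL k r) : psi' k r (psi k r a) = a := by
  have h : (psi' k r).comp (psi k r) = RingHom.id (LL k r) := by
    apply IsLocalization.ringHom_ext (Submonoid.powers (Polynomial.X : QQ k r))
    apply Polynomial.ringHom_ext
    · intro p
      show psi' k r (psi k r (algebraMap (QQ k r) (LL k r) (Polynomial.C p))) =
        algebraMap (QQ k r) (LL k r) (Polynomial.C p)
      rw [psi_iota, psi1_C]
      have h0 : (psi' k r).comp (psi0 k r) =
          (algebraMap (QQ k r) (LL k r)).comp Polynomial.C := by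
        apply MvPolynomial.ringHom_ext
        · intro c
          show psi' k r (psi0 k r (MvPolynomial.C c)) =
            algebraMap (QQ k r) (LL k r) (Polynomial.C (MvPolynomial.C c))
          rw [psi0_C, psi'_iota, psi1'_C, psi0'_C]
        · intro j
          show psi' k r (psi0 k r (MvPolynomial.X j)) =
            algebraMap (QQ k r) (LL k r) (Polynomial.C (MvPolynomial.X j))
          rw [psi0_X, map_mul, psi'_tinv, psi'_iota, psi1'_C, psi0'_X, mul_assoc, t_mul_tinv,
            mul_one]
      exact RingHom.congr_fun h0 p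
    · show psi' k r (psi k r (algebraMap (QQ k r) (LL k r) Polynomial.X)) =
        algebraMap (QQ k r) (LL k r) Polynomial.X
      rw [psi_iota, psi1_X, psi'_iota, psi1'_X]
  exact RingHom.congr_fun h a

theorem psi_phi (F : PP k r) : psi k r (algebraMap (QQ k r) (LL k r) (phi k r F)) =
    algebraMap (QQ k r) (LL k r) (Polynomial.C F) := by
  have h : ((psi k r).comp ((algebraMap (QQ k r) (LL k r)).comp (phi k r))) =
      (algebraMap (QQ k r) (LL k r)).comp Polynomial.C := by
    apply MvPolynomial.ringHom_ext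
    · intro c
      show psi k r (algebraMap (QQ k r) (LL k r) (phi k r (MvPolynomial.C c))) =
        algebraMap (QQ k r) (LL k r) (Polynomial.C (MvPolynomial.C c))
      rw [phi_C, psi_iota, psi1_C, psi0_C]
    · intro j
      show psi k r (algebraMap (QQ k r) (LL k r) (phi k r (MvPolynomial.X j))) =
        algebraMap (QQ k r) (LL k r) (Polynomial.C (MvPolynomial.X j))
      rw [phi_X, psi_iota, map_mul, psi1_C, psi1_X, psi0_X, mul_assoc,
        mul_comm (tinv k r), t_mul_tinv, mul_one]
  exact RingHom.congr_fun h F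

theorem prime_iota_CF (F : PP k r) (hF : Irreducible F) :
    Prime (algebraMap (QQ k r) (LL k r) (Polynomial.C F)) := by
  have hFp : Prime F := UniqueFactorizationMonoid.irreducible_iff_prime.mp hF
  have hCF : Prime (Polynomial.C F : QQ k r) := Polynomial.prime_C_iff.mpr hFp
  have hne : (Polynomial.C F : QQ k r) ≠ 0 := hCF.ne_zero
  have hI : (Ideal.span {(Polynomial.C F : QQ k r)}).IsPrime :=
    (Ideal.span_singleton_prime hne).mpr hCF
  have hdisj : Disjoint ((Submonoid.powers (Polynomial.X : QQ k r) : Submonoid (QQ k r)) :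
      Set (QQ k r)) (Ideal.span {(Polynomial.C F : QQ k r)} : Set (QQ k r)) := by
    rw [Set.disjoint_left]
    rintro x ⟨N, rfl⟩ hx
    rw [SetLike.mem_coe, Ideal.mem_span_singleton] at hx
    have h1 : (Polynomial.C F : QQ k r) ∣ Polynomial.X := hCF.dvd_of_dvd_pow hx
    rw [Polynomial.C_dvd_iff_dvd_coeff] at h1
    have h2 := h1 1
    rw [Polynomial.coeff_X_one] at h2
    exact hFp.not_isUnit (isUnit_of_dvd_one h2)
  have hmap := IsLocalization.isPrime_of_isPrime_disjoint
    (Submonoid.powers (Polynomial.X : QQ k r)) (LL k r) _ hI hdisj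
  rw [Ideal.map_span, Set.image_singleton] at hmap
  have hne' : algebraMap (QQ k r) (LL k r) (Polynomial.C F) ≠ 0 :=
    fun h => hne (iota_inj (h.trans (map_zero _).symm))
  exact (Ideal.span_singleton_prime hne').mp hmap

theorem prime_iota_G (F : PP k r) (hF : Irreducible F) :
    Prime (algebraMap (QQ k r) (LL k r) (phi k r F)) := by
  have hp := prime_iota_CF F hF
  have hG : psi' k r (algebraMap (QQ k r) (LL k r) (Polynomial.C F)) =
      algebraMap (QQ k r) (LL k r) (phi k r F) := by
    rw [← psi_phi, psi'_psi]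
  refine ⟨?_, ?_, ?_⟩
  · intro h0
    apply hp.ne_zero
    rw [← psi_phi, h0, map_zero]
  · intro hu
    apply hp.not_isUnit
    rw [← psi_phi]
    exact hu.map (psi k r)
  · intro a b hab
    have h1 : algebraMap (QQ k r) (LL k r) (Polynomial.C F) ∣ psi k r a * psi k r b := by
      rw [← psi_phi, ← map_mul]
      exact map_dvd (psi k r) hab
    rcases hp.dvd_or_dvd h1 with h | h
    · left
      have h2 := map_dvd (psi' k r) h
      rwa [hG, psi'_psi] at h2
    · right
      have h2 := map_dvd (psi' k r) h
      rwa [hG, psi'_psi] at h2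

theorem phi_coeff_zero (F : PP k r) :
    (phi k r F).coeff 0 = MvPolynomial.C (MvPolynomial.eval (fun _ => (0:k)) F) := by
  rw [Polynomial.coeff_zero_eq_eval_zero]
  have h : ((Polynomial.evalRingHom (0 : PP k r)).comp (phi k r)) =
      MvPolynomial.C.comp (MvPolynomial.eval (fun _ => (0:k))) := by
    apply MvPolynomial.ringHom_ext
    · intro c
      show Polynomial.eval 0 (phi k r (MvPolynomial.C c)) =
        MvPolynomial.C (MvPolynomial.eval (fun _ => (0:k)) (MvPolynomial.C c))
      rw [phi_C, Polynomial.eval_C, MvPolynomial.eval_C]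
    · intro j
      show Polynomial.eval 0 (phi k r (MvPolynomial.X j)) =
        MvPolynomial.C (MvPolynomial.eval (fun _ => (0:k)) (MvPolynomial.X j))
      rw [phi_X, Polynomial.eval_mul, Polynomial.eval_X, mul_zero, MvPolynomial.eval_X, map_zero]
  exact RingHom.congr_fun h F

theorem irreducible_G (F : PP k r) (hF : Irreducible F)
    (hF0 : MvPolynomial.eval (fun _ => (0:k)) F ≠ 0) : Irreducible (phi k r F) := by
  have hp := prime_iota_G F hF
  have hXndvd : ¬ (Polynomial.X : QQ k r) ∣ phi k r F := by
    rw [Polynomial.X_dvd_iff, phi_coeff_zero]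
    intro h
    apply hF0
    have h' : (MvPolynomial.C (MvPolynomial.eval (fun _ => (0:k)) F) : PP k r) =
        MvPolynomial.C 0 := by rw [h, map_zero]
    exact MvPolynomial.C_injective _ _ h'
  have hG0 : phi k r F ≠ 0 := fun h => hXndvd (h ▸ dvd_zero _)
  have key : ∀ A B : QQ k r, phi k r F = A * B →
      algebraMap (QQ k r) (LL k r) (phi k r F) ∣ algebraMap (QQ k r) (LL k r) A → IsUnit B := by
    intro A B hAB hdvd
    obtain ⟨z, hz⟩ := hdvd
    obtain ⟨N, c, hc⟩ := IsLocalization.Away.surj (Polynomial.X : QQ k r) z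
    have h1 : A * Polynomial.X ^ N = phi k r F * c := by
      apply iota_inj
      rw [map_mul, map_mul, map_pow, hz, mul_assoc, hc]
    have h2 : (Polynomial.X : QQ k r) ^ N ∣ c :=
      Polynomial.prime_X.pow_dvd_of_dvd_mul_left N hXndvd ⟨A, by rw [← h1]; ring⟩
    obtain ⟨c', rfl⟩ := h2
    have hX : (Polynomial.X : QQ k r) ^ N ≠ 0 := pow_ne_zero _ Polynomial.X_ne_zero
    have h3 : A = phi k r F * c' := by
      apply mul_right_cancel₀ hX
      rw [h1]; ring
    have h4 : phi k r F * 1 = phi k r F * (c' * B) := by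
      rw [mul_one, ← mul_assoc, ← h3, ← hAB]
    have h5 : 1 = c' * B := mul_left_cancel₀ hG0 h4
    exact IsUnit.of_mul_eq_one c' (by rw [mul_comm]; exact h5.symm)
  constructor
  · intro hu
    exact hp.not_isUnit (hu.map (algebraMap (QQ k r) (LL k r)))
  · intro A B hAB
    have hdvd : algebraMap (QQ k r) (LL k r) (phi k r F) ∣
        algebraMap (QQ k r) (LL k r) A * algebraMap (QQ k r) (LL k r) B := by
      rw [← map_mul, ← hAB]
    rcases hp.dvd_or_dvd hdvd with h | h
    · right; exact key A B hAB h
    · left; exact key B A (by rw [hAB, mul_comm]) h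

theorem primitive_G (F : PP k r) (hF0 : MvPolynomial.eval (fun _ => (0:k)) F ≠ 0) :
    (phi k r F).IsPrimitive := by
  rw [Polynomial.isPrimitive_iff_isUnit_of_C_dvd]
  intro a ha
  rw [Polynomial.C_dvd_iff_dvd_coeff] at ha
  have h0 := ha 0
  rw [phi_coeff_zero] at h0
  have hu : IsUnit (MvPolynomial.C (MvPolynomial.eval (fun _ => (0:k)) F) : PP k r) :=
    (isUnit_iff_ne_zero.mpr hF0).map MvPolynomial.C
  exact isUnit_of_dvd_unit h0 hu

end lemmas


/-- Let k be an algebraically closed field, r ≥ 2, and F ∈ k[X_1, …, X_r] an irreducible polynomial with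
F(0) ≠ 0 (in the source the origin is the base point of the lines considered and lies off the
hypersurface F = 0; without this the claim fails, e.g. for X_1 - X_2^2). Then the polynomial G(T) =
F(X_1 T, …, X_r T), with coefficients in the field of rational functions k(X_1, …, X_r), is
irreducible. -/
theorem result (k : Type u) [Field k] [IsAlgClosed k] (r : ℕ) (hr : 2 ≤ r)
    (F : MvPolynomial (Fin r) k) (hF : Irreducible F) (hF0 : MvPolynomial.eval (fun _ => (0 : k)) F ≠ 0) :
    Irreducible ((MvPolynomial.eval₂ (Polynomial.C.comp MvPolynomial.C)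
        (fun j => Polynomial.C (MvPolynomial.X j) * Polynomial.X) F).map
      (algebraMap (MvPolynomial (Fin r) k) (FractionRing (MvPolynomial (Fin r) k)))) := by
  have h := irreducible_G F hF hF0
  exact ((primitive_G F hF0).irreducible_iff_irreducible_map_fraction_map
    (K := FractionRing (MvPolynomial (Fin r) k))).mp h

end Groth.Agent.S4027
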