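import Groth.Statements.S4064
import Groth.Agent.H20.ExtOne

set_option autoImplicit false
universe w v v'
open CategoryTheory CategoryTheory.Abelian
open SGA7

namespace Groth.Agent.S4064

/-- Let P -> F -> R and R -> E -> Q be short exact sequences in an abelian category (F an extension of R
by P, E an extension of Q by R). A blended extension of E by F is an object X with a monomorphism i
: F -> X and an epimorphism p : X -> E such that P -> X -> E (via i) and F -> X -> Q (via p) are
short exact and F -> X -> E is the composite F -> R -> E. Such an X exists if and only if the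
composite of the two extension classes, an element of Ext^2(Q, P), is zero. -/
theorem result {C : Type w} [Category.{v} C] [Abelian C]
    [HasExt.{v'} C] {P F R E Q : C} (a : P ⟶ F) (b : F ⟶ R) (wF : a ≫ b = 0)
    (hF : (ShortComplex.mk a b wF).ShortExact) (c : R ⟶ E) (d : E ⟶ Q) (wE : c ≫ d = 0)
    (hE : (ShortComplex.mk c d wE).ShortExact) :
    (∃ (X : C) (i : F ⟶ X) (p : X ⟶ E), i ≫ p = b ≫ c ∧
        (∃ w : (a ≫ i) ≫ p = 0, (ShortComplex.mk (a ≫ i) p w).ShortExact) ∧
        (∃ w : i ≫ (p ≫ d) = 0, (ShortComplex.mk i (p ≫ d) w).ShortExact)) ↔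
      hE.extClass.comp hF.extClass (rfl : 1 + 1 = 2) = 0 := by
  constructor
  · rintro ⟨X, i, p, hip, ⟨w₁, h₁⟩, ⟨w₂, h₂⟩⟩
    let φ : ShortComplex.mk i (p ≫ d) w₂ ⟶ ShortComplex.mk c d wE :=
      { τ₁ := b
        τ₂ := p
        τ₃ := 𝟙 Q
        comm₁₂ := hip.symm
        comm₂₃ := by simp }
    have nat := ShortComplex.ShortExact.extClass_naturality h₂ hE φ
    have nat' : h₂.extClass.comp (Ext.mk₀ b) (add_zero 1) = hE.extClass := by
      rw [nat]
      exact Ext.mk₀_id_comp _
    rw [← nat', Ext.comp_assoc _ _ _ (add_zero 1) (zero_add 1) (by lia)]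
    have hz : (Ext.mk₀ b).comp hF.extClass (zero_add 1) = 0 := hF.comp_extClass
    rw [hz, Ext.comp_zero]
  · intro hzero
    obtain ⟨x₂, hx₂⟩ := Ext.covariant_sequence_exact₃ Q hF hE.extClass (rfl : 1 + 1 = 2) hzero
    obtain ⟨X, i, p, w, hS, hx⟩ := Groth.Agent.H20.exists_shortExact_extClass_eq x₂
    obtain ⟨p', hp1, hp2⟩ := Groth.Agent.H20.exists_map_of_extClass_comp_eq hS hE b
      (by rw [hx]; exact hx₂)
    subst hp2
    have hmi : Mono i := hS.mono_f
    have hma : Mono a := hF.mono_f
    have hmc : Mono c := hE.mono_f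
    have heb : Epi b := hF.epi_g
    have hepd : Epi (p' ≫ d) := hS.epi_g
    have hed : Epi d := hE.epi_g
    have w₁ : (a ≫ i) ≫ p' = 0 := by
      rw [Category.assoc, hp1, ← Category.assoc, wF, Limits.zero_comp]
    refine ⟨X, i, p', hp1, ⟨w₁, ?_⟩, ⟨w, hS⟩⟩
    refine ShortComplex.ShortExact.mk' ?_ (mono_comp a i) ?_
    · rw [ShortComplex.exact_iff_exact_up_to_refinements]
      intro A z hz
      dsimp at z hz
      have hz1 : z ≫ (p' ≫ d) = 0 := by rw [← Category.assoc, hz, Limits.zero_comp]
      obtain ⟨z', hz'⟩ := hS.exact.lift' z hz1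
      dsimp at z' hz'
      have hz2 : z' ≫ b = 0 := by
        rw [← cancel_mono c, Category.assoc, ← hp1, ← Category.assoc, hz', hz, Limits.zero_comp]
      obtain ⟨z'', hz''⟩ := hF.exact.lift' z' hz2
      dsimp at z'' hz''
      refine ⟨A, 𝟙 A, inferInstance, z'', ?_⟩
      dsimp
      rw [Category.id_comp, ← Category.assoc, hz'', hz']
    · apply Preadditive.epi_of_cancel_zero
      intro T t ht
      have h1 : c ≫ t = 0 := by
        rw [← cancel_epi b, ← Category.assoc, ← hp1, Category.assoc, ht, Limits.comp_zero,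
          Limits.comp_zero]
      obtain ⟨t', ht'⟩ := hE.exact.desc' t h1
      dsimp at t' ht'
      have h2 : t' = 0 := by
        rw [← cancel_epi (p' ≫ d), Category.assoc, ht', ht, Limits.comp_zero]
      rw [← ht', h2, Limits.comp_zero]
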