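import Groth.Statements.S4086
import Groth.Agent.H49.GQ9

set_option autoImplicit false
universe u
open CategoryTheory MonoidalCategory CartesianMonoidalCategory MonObj GrpObj AlgebraicGeometry CategoryTheory.Limits
open GrpQ

namespace Groth.Agent.S4086


/-- Let (U, R, s, t, c) be a groupoid scheme over S with s finite locally free and every set t(s⁻¹(x))
contained in an affine open of U, and assume that j = (t, s) : R → U ×_S U is a monomorphism. Then
for every coequalizer p : U → Y of (t, s) in schemes, the square formed by t, s, p, p is cartesian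
(R ≅ U ×_Y U) and p is finite locally free. (The source adds that Y is then the quotient sheaf for
the fppf topology and that its formation commutes with base change on Y.) -/
theorem result (S : Scheme.{u}) (G : Grpd.GroupoidScheme S)
    (ha : Mor2.IsFinLocFree G.s)
    (hb : ∀ x : G.U, ∃ V : G.U.Opens, IsAffineOpen V ∧ G.t.base '' (G.s.base ⁻¹' {x}) ⊆ (V : Set G.U))
    [Mono G.j] (Y : Scheme.{u}) (p : G.U ⟶ Y) (w : G.t ≫ p = G.s ≫ p) (hc : IsColimit (Cofork.ofπ p w)) :
    IsPullback G.t G.s p p ∧ Mor2.IsFinLocFree p := by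
  obtain ⟨h1, h2, h3⟩ := ha
  haveI := h1
  haveI := h2
  haveI := h3
  have hT := Groth.Agent.H49.GQ7.goodFamily_top hb
  haveI := Groth.Agent.H49.GQ9.epi_q hT
  have hq : IsColimit (Cofork.ofπ (Groth.Agent.H49.GQ7.q hT)
      (Groth.Agent.H49.GQ7.s_q_eq_t_q hT).symm) :=
    Cofork.IsColimit.mk _
      (fun c => (Groth.Agent.H49.GQ9.exists_desc hT c.π c.condition.symm).choose)
      (fun c => (Groth.Agent.H49.GQ9.exists_desc hT c.π c.condition.symm).choose_spec)
      (fun c m hm => by
        rw [← cancel_epi (Groth.Agent.H49.GQ7.q hT)]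
        exact hm.trans (Groth.Agent.H49.GQ9.exists_desc hT c.π c.condition.symm).choose_spec.symm)
  have he : Groth.Agent.H49.GQ7.q hT ≫ (hq.coconePointUniqueUpToIso hc).hom = p :=
    hq.comp_coconePointUniqueUpToIso_hom hc WalkingParallelPair.one
  haveI := Groth.Agent.H49.GQ8.isIso_lift hT
  have hpb : IsPullback G.t G.s (Groth.Agent.H49.GQ7.q hT) (Groth.Agent.H49.GQ7.q hT) :=
    IsPullback.of_iso_pullback ⟨(Groth.Agent.H49.GQ7.s_q_eq_t_q hT).symm⟩
      (asIso (pullback.lift G.t G.s (Groth.Agent.H49.GQ7.s_q_eq_t_q hT).symm))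
      (pullback.lift_fst _ _ _) (pullback.lift_snd _ _ _)
  haveI := Groth.Agent.H49.GQ8.isFinite_q hT
  haveI := Groth.Agent.H49.GQ8.flat_q hT
  haveI := Groth.Agent.H49.GQ8.lfp_q hT
  rw [← he]
  refine ⟨?_, ⟨inferInstance, inferInstance, inferInstance⟩⟩
  exact IsPullback.of_iso hpb (Iso.refl _) (Iso.refl _) (Iso.refl _)
    (hq.coconePointUniqueUpToIso hc) (by simp) (by simp) (by simp) (by simp)

end Groth.Agent.S4086
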