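import Groth.Statements.S4104
import Mathlib
import Groth.Agent.H83.TkGeneral

set_option autoImplicit false
universe u
open CategoryTheory MonoidalCategory CartesianMonoidalCategory MonObj GrpObj AlgebraicGeometry CategoryTheory.Limits
open SGA3

namespace Groth.Agent.S4104

open scoped TensorProduct

/-- Let φ : A' → A be a bialgebra map between commutative Hopf algebras over a field k (a homomorphism
of affine k-groups Spec A → Spec A', not necessarily of finite type). If the corresponding morphism
of schemes is a monomorphism, i.e. φ is an epimorphism in the category of commutative rings, then φ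
is surjective (the homomorphism is a closed immersion). -/
theorem result (k : Type u) [Field k] (A' A : Type u) [CommRing A'] [HopfAlgebra k A']
    [CommRing A] [HopfAlgebra k A] (φ : A' →ₐc[k] A)
    (hepi : ∀ (R : Type u) [CommRing R] (f g : A →+* R), f.comp (φ : A' →+* A) = g.comp (φ : A' →+* A) → f = g) :
    Function.Surjective φ := by
  have hS := Groth.Agent.H83.Tk.range_comul φ
  have hanti := Groth.Agent.H83.Tk.range_antipode φ
  have hff : Module.FaithfullyFlat ↥(φ : A' →ₐ[k] A).range A :=
    Groth.Agent.H83.Tk.hopfSub_faithfullyFlat k A _ hS hanti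
  have heq := hepi (A ⊗[↥(φ : A' →ₐ[k] A).range] A)
    (Algebra.TensorProduct.includeLeftRingHom)
    ((Algebra.TensorProduct.includeRight :
      A →ₐ[↥(φ : A' →ₐ[k] A).range] A ⊗[↥(φ : A' →ₐ[k] A).range] A).toRingHom) ?_
  · intro a
    have hE := Algebra.IsEffective.of_faithfullyFlat ↥(φ : A' →ₐ[k] A).range A
    have h1 : Algebra.TensorProduct.includeLeftSubRight ↥(φ : A' →ₐ[k] A).range A a = 0 := by
      rw [Algebra.TensorProduct.includeLeftSubRight_apply, sub_eq_zero]
      exact RingHom.congr_fun heq a
    obtain ⟨b, hb⟩ := (hE a).mp h1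
    obtain ⟨a', ha'⟩ := b.2
    refine ⟨a', ?_⟩
    rw [← hb]
    exact ha'
  · ext a'
    obtain ⟨b, hb⟩ : ∃ b : ↥(φ : A' →ₐ[k] A).range, (b : A) = φ a' := ⟨⟨φ a', a', rfl⟩, rfl⟩
    have hb1 : b • (1 : A) = φ a' := by
      rw [Algebra.smul_def, _root_.mul_one, ← hb]
      rfl
    change (φ a') ⊗ₜ[↥(φ : A' →ₐ[k] A).range] (1 : A) =
      (1 : A) ⊗ₜ[↥(φ : A' →ₐ[k] A).range] (φ a')
    rw [← hb1, TensorProduct.smul_tmul]

end Groth.Agent.S4104
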