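import Groth.Statements.S4110
import Groth.Agent.H1.FinHopf.HeightOne
open scoped TensorProduct

set_option autoImplicit false
universe u
open CategoryTheory MonoidalCategory CartesianMonoidalCategory MonObj GrpObj AlgebraicGeometry CategoryTheory.Limits
open SGA3

namespace Groth.Agent.S4110

/-- (iv) ⟹ (ii), over a local base: let R be a local ring of prime characteristic p and A a commutative
Hopf algebra over R which is of finite presentation and flat over R (an R-group G locally of finite
presentation and flat; finiteness is then a consequence) and of height ≤ 1: every element a of the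
augmentation ideal satisfies a^p = 0 (the Frobenius of G is trivial). Then A is isomorphic as an
R-algebra to R[X₁, …, Xₙ]/(X₁^p, …, Xₙ^p) for some n (n is the rank of the conormal module ω_G,
which is free). -/
theorem result (p : ℕ) [Fact p.Prime] (R : Type u) [CommRing R]
    [IsLocalRing R] [CharP R p] (A : Type u) [CommRing A] [HopfAlgebra R A] [Algebra.FinitePresentation R A] [Module.Flat R A]
    (h1 : ∀ a : A, Bialgebra.counitAlgHom R A a = 0 → a ^ p = 0) :
    ∃ n : ℕ, Nonempty (A ≃ₐ[R] (MvPolynomial (Fin n) R ⧸
      Ideal.span (Set.range fun i : Fin n => (MvPolynomial.X i : MvPolynomial (Fin n) R) ^ p))) := by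
  classical
  have hp : p.Prime := Fact.out
  have hsub : ∀ a : A, (a - algebraMap R A (Bialgebra.counitAlgHom R A a)) ^ p = 0 := by
    intro a
    apply h1
    rw [map_sub, AlgHom.commutes]
    simp
  haveI : Algebra.IsIntegral R A := ⟨fun a =>
    ⟨(Polynomial.X - Polynomial.C (Bialgebra.counitAlgHom R A a)) ^ p,
      (Polynomial.monic_X_sub_C _).pow p, by
        rw [Polynomial.eval₂_pow, Polynomial.eval₂_sub, Polynomial.eval₂_X, Polynomial.eval₂_C]
        exact hsub a⟩⟩
  haveI : Module.Finite R A := Algebra.IsIntegral.finite
  haveI : CharP (IsLocalRing.ResidueField R) p := by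
    have h0 : (p : IsLocalRing.ResidueField R) = 0 := by
      have h2 : (p : R) = 0 := CharP.cast_eq_zero R p
      have h3 := congrArg (IsLocalRing.residue R) h2
      rw [map_natCast, map_zero] at h3
      exact h3
    obtain ⟨q, hq⟩ := CharP.exists (IsLocalRing.ResidueField R)
    have hdvd : q ∣ p := (CharP.cast_eq_zero_iff (IsLocalRing.ResidueField R) q p).mp h0
    rcases (Nat.dvd_prime hp).mp hdvd with h | h
    · exfalso
      subst h
      exact CharP.char_ne_one (IsLocalRing.ResidueField R) 1 rfl
    · subst h
      exact hq
  haveI : Nontrivial (IsLocalRing.ResidueField R ⊗[R] A) :=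
    (Bialgebra.counitAlgHom (IsLocalRing.ResidueField R) (IsLocalRing.ResidueField R ⊗[R] A) :
      _ →+* IsLocalRing.ResidueField R).domain_nontrivial
  haveI : CharP (IsLocalRing.ResidueField R ⊗[R] A) p :=
    charP_of_injective_algebraMap
      (algebraMap (IsLocalRing.ResidueField R) (IsLocalRing.ResidueField R ⊗[R] A)).injective p
  have hAκ : ∀ t : IsLocalRing.ResidueField R ⊗[R] A,
      (t - algebraMap (IsLocalRing.ResidueField R) (IsLocalRing.ResidueField R ⊗[R] A)
        (Coalgebra.counit (R := IsLocalRing.ResidueField R) t)) ^ p = 0 := by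
    intro t
    induction t using TensorProduct.induction_on with
    | zero => simp [zero_pow hp.ne_zero]
    | tmul c a =>
      have e : c ⊗ₜ[R] a - algebraMap (IsLocalRing.ResidueField R)
          (IsLocalRing.ResidueField R ⊗[R] A)
          (Coalgebra.counit (R := IsLocalRing.ResidueField R) (c ⊗ₜ[R] a)) =
          c ⊗ₜ[R] (a - algebraMap R A (Bialgebra.counitAlgHom R A a)) := by
        rw [TensorProduct.tmul_sub, TensorProduct.counit_tmul,
          Algebra.TensorProduct.algebraMap_apply, Algebra.algebraMap_eq_smul_one (A := A),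
          TensorProduct.tmul_smul, TensorProduct.smul_tmul']
        simp
      rw [e, Algebra.TensorProduct.tmul_pow, hsub a, TensorProduct.tmul_zero]
    | add s t hs ht =>
      have e : s + t - algebraMap (IsLocalRing.ResidueField R)
          (IsLocalRing.ResidueField R ⊗[R] A)
          (Coalgebra.counit (R := IsLocalRing.ResidueField R) (s + t)) =
          (s - algebraMap (IsLocalRing.ResidueField R) (IsLocalRing.ResidueField R ⊗[R] A)
            (Coalgebra.counit (R := IsLocalRing.ResidueField R) s)) +
          (t - algebraMap (IsLocalRing.ResidueField R) (IsLocalRing.ResidueField R ⊗[R] A)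
            (Coalgebra.counit (R := IsLocalRing.ResidueField R) t)) := by
        rw [map_add, map_add]
        ring
      rw [e, add_pow_char, hs, ht, add_zero]
  have h1κ : ∀ t : IsLocalRing.ResidueField R ⊗[R] A,
      Coalgebra.counit (R := IsLocalRing.ResidueField R) t = 0 → t ^ p = 0 := by
    intro t ht
    have := hAκ t
    rwa [ht, map_zero, sub_zero] at this
  obtain ⟨n, xb, hxb0, hbij⟩ := Groth.Agent.H1.FinHopf.height_one_basis
    (k := IsLocalRing.ResidueField R) (B := IsLocalRing.ResidueField R ⊗[R] A) p h1κ
  have hsurj : Function.Surjective (TensorProduct.mk R (IsLocalRing.ResidueField R) A 1) :=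
    TensorProduct.mk_surjective R A (IsLocalRing.ResidueField R) Ideal.Quotient.mk_surjective
  choose a ha using fun i => hsurj (xb i)
  set x : Fin n → A := fun i => a i - algebraMap R A (Bialgebra.counitAlgHom R A (a i)) with hx
  have hx1 : ∀ i, (1 : IsLocalRing.ResidueField R) ⊗ₜ[R] x i = xb i := by
    intro i
    have h2 := hAκ (xb i)
    have h3 : (1 : IsLocalRing.ResidueField R) ⊗ₜ[R] a i = xb i := ha i
    rw [hx]
    simp only
    rw [TensorProduct.tmul_sub, h3]
    have h4 : (1 : IsLocalRing.ResidueField R) ⊗ₜ[R]
        algebraMap R A (Bialgebra.counitAlgHom R A (a i)) =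
        algebraMap (IsLocalRing.ResidueField R) (IsLocalRing.ResidueField R ⊗[R] A)
          (Coalgebra.counit (R := IsLocalRing.ResidueField R) (xb i)) := by
      rw [← h3, TensorProduct.counit_tmul, Algebra.TensorProduct.algebraMap_apply,
        Algebra.algebraMap_eq_smul_one (A := A), TensorProduct.tmul_smul,
        TensorProduct.smul_tmul']
      simp
    rw [h4, hxb0 i, map_zero, sub_zero]
  set Sbox := Fintype.piFinset (fun _ : Fin n => Finset.range p) with hSbox
  set v : ↥Sbox → A := fun α => Groth.Agent.H1.FinHopf.mon x α.1 with hv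
  have hcomp : (TensorProduct.mk R (IsLocalRing.ResidueField R) A 1) ∘ v =
      fun α : ↥Sbox => Groth.Agent.H1.FinHopf.mon xb α.1 := by
    funext α
    show (1 : IsLocalRing.ResidueField R) ⊗ₜ[R] Groth.Agent.H1.FinHopf.mon x α.1 = _
    have h5 : ∀ y : A, (1 : IsLocalRing.ResidueField R) ⊗ₜ[R] y =
        (Algebra.TensorProduct.includeRight : A →ₐ[R] IsLocalRing.ResidueField R ⊗[R] A) y :=
      fun y => rfl
    rw [h5]
    unfold Groth.Agent.H1.FinHopf.mon
    rw [map_prod]
    apply Finset.prod_congr rfl
    intro j _
    rw [map_pow, ← h5, hx1]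
  have hb : Function.Bijective (Finsupp.linearCombination R v) := by
    apply Module.IsLocalRing.linearCombination_bijective_of_flat v
    rw [hcomp]
    exact hbij
  refine ⟨n, Groth.Agent.H1.FinHopf.algEquiv_truncated p n hp.pos x (fun i => ?_) hb⟩
  apply h1
  rw [hx]
  simp only
  rw [map_sub, AlgHom.commutes]
  simp

end Groth.Agent.S4110
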