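import Groth.Statements.S4130
import Groth.Agent.H62.CocommBC

set_option autoImplicit false
universe u
open TensorProduct
open SGA3

namespace Groth.Agent.S4130

/-- Let A be a finitely generated commutative and cocommutative Hopf algebra over a field k (a
commutative affine algebraic group G = Spec A). Then G has a largest subgroup M of multiplicative
type and G/M is unipotent: there is a Hopf ideal J of A (defining M) such that A/J is of
multiplicative type (diagonalizable after a faithfully flat extension of k), J is contained in every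
Hopf ideal I with A/I of multiplicative type, and J is the ideal generated by the augmentation ideal
of the image of an injective bialgebra map φ : B → A from a Hopf algebra B (so Spec B = G/M) which
is unipotent in the fixed-vector sense. -/
theorem result (k : Type u) [Field k]
    (A : Type u) [CommRing A] [HopfAlgebra k A] [Algebra.FiniteType k A] [Coalgebra.IsCocomm k A] :
    ∃ (J : Ideal A) (_ : J.IsHopfIdeal k), SGA3b.IsMultTypeConst k (A ⧸ J) ∧
      (∀ (I : Ideal A) [I.IsHopfIdeal k], SGA3b.IsMultTypeConst k (A ⧸ I) → J ≤ I) ∧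
      ∃ (B : Type u) (_ : CommRing B) (_ : HopfAlgebra k B) (φ : B →ₐc[k] A), Function.Injective φ ∧
        J = Ideal.map (φ : B →+* A) (RingHom.ker (Bialgebra.counitAlgHom k B)) ∧ HopfRep.IsUnipotent k B := by
  classical
  refine ⟨Groth.Agent.H62.CocommBC.JU k A, Groth.Agent.H62.CocommBC.isHopfIdeal_JU k A, ?_, ?_, ?_⟩
  · exact ⟨AlgebraicClosure k, inferInstance, inferInstance, inferInstance,
      Groth.Agent.H62.CocommBC.isDiag_of_isDiagonalizable
        (Groth.Agent.H62.CocommBC.isDiagonalizable_quot k (AlgebraicClosure k) A)⟩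
  · intro I _ hI
    apply Groth.Agent.H62.CocommBC.JU_le
    intro n b hb
    have h1 := Groth.Agent.H62.UniFil.F_map k A (Bialgebra.Quotient.mkBialgHom I) n b hb
    have h2 := Groth.Agent.H62.UniFil.F_le_span_one k (A ⧸ I)
      (Groth.Agent.H62.CocommBC.noPrim_of_isMultTypeConst k (A ⧸ I) hI) n h1
    obtain ⟨c, hc⟩ := Submodule.mem_span_singleton.mp h2
    have h3 : c = CoalgebraStruct.counit (R := k) b := by
      have h4 := congrArg (CoalgebraStruct.counit (R := k) (A := A ⧸ I)) hc
      rw [map_smul, Bialgebra.counit_one, smul_eq_mul, mul_one] at h4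
      rw [h4]
      rfl
    rw [← Ideal.Quotient.eq_zero_iff_mem, map_sub, sub_eq_zero]
    rw [h3] at hc
    have h5 : (Ideal.Quotient.mk I) (CoalgebraStruct.counit (R := k) b • (1 : A)) =
        CoalgebraStruct.counit (R := k) b • (1 : A ⧸ I) := by
      rw [Algebra.smul_def, Algebra.smul_def, mul_one, mul_one]
      rfl
    rw [h5, hc]
    rfl
  · exact ⟨↥(Groth.Agent.H62.UniFil.UB k A), inferInstance, Groth.Agent.H62.UniFil.hopfUB k A,
      Groth.Agent.H62.UniFil.inclUB k A, Subtype.val_injective,
      Groth.Agent.H62.CocommBC.JU_eq_map k A, Groth.Agent.H62.UniFil.isUnipotent_UB k A⟩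

end Groth.Agent.S4130
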