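import Groth.Statements.S4135
import Groth.Agent.H84.CMM1
import Groth.Agent.H84.CMM4

set_option autoImplicit false
universe u
open TensorProduct
attribute [local instance] LieRing.ofAssociativeRing
open SGA3y

namespace Groth.Agent.S4135

open Groth.Agent.H84.CMM

theorem inj_part (k : Type u) [Field k] [CharZero k] (H : Type u) [Ring H]
    [Bialgebra k H] :
    Function.Injective (UniversalEnvelopingAlgebra.lift k (SGA3y.primLie k H).incl) := by
  classical
  let L := ↥(SGA3y.primLie k H)
  let ι := Module.Basis.ofVectorSpaceIndex k L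
  letI : LinearOrder ι := IsWellOrder.linearOrder WellOrderingRel
  let b : Module.Basis ι k L := Module.Basis.ofVectorSpace k L
  apply injective_of_prim b
  · intro x
    rw [UniversalEnvelopingAlgebra.lift_ι_apply]
    exact x.2
  · intro x hx
    rw [UniversalEnvelopingAlgebra.lift_ι_apply] at hx
    exact Subtype.ext hx

theorem surj_part (k : Type u) [Field k] [CharZero k] (H : Type u) [Ring H]
    [Bialgebra k H] [Coalgebra.IsCocomm k H] (hconn : SGA3y.IsConnectedCoalg k H) :
    Function.Surjective (UniversalEnvelopingAlgebra.lift k (SGA3y.primLie k H).incl) := by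
  let f := UniversalEnvelopingAlgebra.lift k (SGA3y.primLie k H).incl
  let B : Subalgebra k H := f.range
  have hB : ∀ x : H, CoalgebraStruct.comul (R := k) x = x ⊗ₜ[k] 1 + 1 ⊗ₜ[k] x → x ∈ B := by
    intro x hx
    refine ⟨UniversalEnvelopingAlgebra.ι k (⟨x, hx⟩ : SGA3y.primLie k H), ?_⟩
    exact UniversalEnvelopingAlgebra.lift_ι_apply k _ _
  suffices h : ∀ h : H, h ∈ B by
    intro h'
    exact h h'
  intro h
  by_cases h0 : h = 0
  · rw [h0]; exact B.zero_mem
  let D : Submodule k H := gen (k := k) h
  have hD : IsSubcoalg D := gen_isSubcoalg h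
  have hhD : h ∈ D := mem_gen_self h
  have hDne : D ≠ ⊥ := by
    intro hbot
    rw [hbot] at hhD
    exact h0 ((Submodule.mem_bot k).1 hhD)
  have h1D : (1 : H) ∈ D := hconn D hD hDne
  letI : Coalgebra k D := coalgD D hD
  haveI : Coalgebra.IsCocomm k D := coalgD_isCocomm D hD
  haveI : FiniteDimensional k D := gen_finite h
  let g : D := ⟨1, h1D⟩
  have hg1 : CoalgebraStruct.counit (R := k) g = 1 := by
    show CoalgebraStruct.counit (R := k) (1 : H) = 1
    exact Bialgebra.counit_one
  have hg2 : CoalgebraStruct.comul (R := k) g = g ⊗ₜ[k] g := by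
    apply jD_injective D
    show jD D (comulD D hD g) = _
    rw [jD_comulD, jD_tmul]
    exact Bialgebra.comul_one
  have hconn' : ∀ D₂ : Submodule k D, IsSubcoalg D₂ → D₂ ≠ ⊥ → g ∈ D₂ := by
    intro D₂ hD₂ hne
    let D₂' : Submodule k H := D₂.map D.subtype
    let e : D₂ →ₗ[k] D₂' :=
      { toFun := fun x => ⟨(x.1 : H), Submodule.mem_map_of_mem x.2⟩
        map_add' := fun _ _ => rfl
        map_smul' := fun _ _ => rfl }
    have hsub : ∀ d' ∈ D₂', CoalgebraStruct.comul (R := k) d' ∈
        LinearMap.range (TensorProduct.map D₂'.subtype D₂'.subtype) := by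
      rintro _ ⟨d, hd, rfl⟩
      obtain ⟨t, ht⟩ := hD₂ d hd
      refine ⟨TensorProduct.map e e t, ?_⟩
      have h3 : CoalgebraStruct.comul (R := k) (D.subtype d) =
          jD D (CoalgebraStruct.comul (R := k) d) := (jD_comulD D hD d).symm
      rw [h3, ← ht]
      have h4 : ∀ t : D₂ ⊗[k] D₂, TensorProduct.map D₂'.subtype D₂'.subtype
          (TensorProduct.map e e t) =
          jD D (TensorProduct.map D₂.subtype D₂.subtype t) := by
        intro t
        induction t using TensorProduct.induction_on with
        | zero => simp
        | tmul x y => rfl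
        | add x y hx hy => simp only [map_add, hx, hy]
      exact h4 t
    have hne' : D₂' ≠ ⊥ := by
      intro hbot
      apply hne
      rw [eq_bot_iff]
      intro x hx
      have : D.subtype x ∈ D₂' := Submodule.mem_map_of_mem hx
      rw [hbot] at this
      have h5 : (x : H) = 0 := (Submodule.mem_bot k).1 this
      exact (Submodule.mem_bot k).2 (Subtype.ext h5)
    obtain ⟨d, hd, hd1⟩ := hconn D₂' hsub hne'
    have : d = g := Subtype.ext hd1
    rw [← this]
    exact hd
  have key := range_le_of_connected (inclD D hD) g hg1 hg2 rfl hconn' B hB ⟨h, hhD⟩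
  exact key

/-- Let k be a field of characteristic zero and H a cocommutative bialgebra over k which is connected
(every nonzero subcoalgebra contains 1). Then the canonical algebra homomorphism from the universal
enveloping algebra of the Lie algebra of primitive elements of H to H is bijective. -/
theorem result (k : Type u) [Field k] [CharZero k] (H : Type u) [Ring H]
    [Bialgebra k H] [Coalgebra.IsCocomm k H] (hconn : SGA3y.IsConnectedCoalg k H) :
    Function.Bijective (UniversalEnvelopingAlgebra.lift k (SGA3y.primLie k H).incl) := by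
  exact ⟨inj_part k H, surj_part k H hconn⟩

end Groth.Agent.S4135
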