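import Groth.Statements.S4183
import Groth.Agent.H21.AnGen

set_option autoImplicit false
open CategoryTheory AlgebraicGeometry Topology TopologicalSpace
open An

namespace Groth.Agent.S4183

theorem bijective_eval₂Hom_coord (n : ℕ) :
    Function.Bijective (MvPolynomial.eval₂Hom (An.strHom (𝔸(Fin n; An.SC)))
      (AffineSpace.coord (n := Fin n) An.SC)) := by
  have h := AffineSpace.SpecIso_hom_appTop (n := Fin n) (CommRingCat.of ℂ)
  have h1 : CommRingCat.ofHom (MvPolynomial.eval₂Hom (An.strHom (𝔸(Fin n; An.SC)))
      (AffineSpace.coord (n := Fin n) An.SC)) =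
      (Scheme.ΓSpecIso _).inv ≫ (AffineSpace.SpecIso (Fin n) (CommRingCat.of ℂ)).hom.appTop := by
    rw [h, Iso.inv_hom_id_assoc]
    rfl
  have h2 : IsIso (CommRingCat.ofHom (MvPolynomial.eval₂Hom (An.strHom (𝔸(Fin n; An.SC)))
      (AffineSpace.coord (n := Fin n) An.SC))) := by
    rw [h1]
    have : IsIso (AffineSpace.SpecIso (Fin n) (CommRingCat.of ℂ)).hom.appTop :=
      inferInstanceAs (IsIso ((AffineSpace.SpecIso (Fin n) (CommRingCat.of ℂ)).hom.app ⊤))
    infer_instance
  exact (ConcreteCategory.isIso_iff_bijective _).mp h2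

/-- For affine n-space over ℂ, the map sending a ℂ-point to the values of the n coordinate functions is
a homeomorphism from its space of ℂ-points, with the complex topology of this problem, onto ℂ^n with
its usual topology. -/
theorem result (n : ℕ) :
    IsHomeomorph (fun (x : An.Pts (𝔸(Fin n; An.SC))) (i : Fin n) => x.evTop (AffineSpace.coord An.SC i)) := by
  have hb := bijective_eval₂Hom_coord n
  have hemb := Groth.Agent.H21.isClosedEmbedding_evFam
    (AffineSpace.coord (n := Fin n) An.SC) hb.2
  rw [isHomeomorph_iff_isEmbedding_surjective]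
  refine ⟨hemb.isEmbedding, ?_⟩
  intro z
  have hz : z ∈ Set.range (Groth.Agent.H21.evFam (AffineSpace.coord (n := Fin n) An.SC)) := by
    rw [Groth.Agent.H21.range_evFam _ hb.2]
    intro p hp
    have : p = 0 := hb.1 (by rw [hp, map_zero])
    rw [this, map_zero]
  exact hz

end Groth.Agent.S4183
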