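import Groth.Statements.S4185
import Groth.Agent.H21.AnFT

set_option autoImplicit false
open CategoryTheory AlgebraicGeometry Topology TopologicalSpace
open An

namespace Groth.Agent.S4185

open Groth.Agent.H21 in
/-- For X locally of finite type over ℂ the space X(ℂ) with its complex topology is locally compact. -/
theorem result (X : Scheme.{0}) [X.Over An.SC] [LocallyOfFiniteType (X ↘ An.SC)] :
    LocallyCompactSpace (An.Pts X) := by
  refine ⟨fun x n hn => ?_⟩
  obtain ⟨_, ⟨U, hU, rfl⟩, hxU, -⟩ :=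
    (X.isBasis_affineOpens).exists_subset_of_mem_open (Set.mem_univ x.pt) isOpen_univ
  letI : (U : Scheme).Over An.SC := ⟨Scheme.Opens.ι U ≫ X ↘ An.SC⟩
  haveI : (Scheme.Opens.ι U).IsOver An.SC := ⟨rfl⟩
  haveI : IsAffine (U : Scheme) := hU
  haveI : LocallyOfFiniteType ((U : Scheme) ↘ An.SC) := by
    change LocallyOfFiniteType (Scheme.Opens.ι U ≫ X ↘ An.SC)
    infer_instance
  haveI := locallyCompactSpace_of_isAffine (X := (U : Scheme))
  have hemb := isOpenEmbedding_map_of_isOpenImmersion (Scheme.Opens.ι U)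
  have hx : x ∈ Set.range (An.Pts.map (Scheme.Opens.ι U)) := by
    rw [range_map_of_isOpenImmersion, Set.mem_preimage, Scheme.Opens.range_ι]
    exact hxU
  obtain ⟨y, rfl⟩ := hx
  have h1 : An.Pts.map (Scheme.Opens.ι U) ⁻¹' n ∈ 𝓝 y := hemb.continuous.continuousAt hn
  obtain ⟨K, hK, hKn, hKc⟩ := LocallyCompactSpace.local_compact_nhds y _ h1
  exact ⟨An.Pts.map (Scheme.Opens.ι U) '' K, (hemb.image_mem_nhds).2 hK, by
    rintro _ ⟨k, hk, rfl⟩
    exact hKn hk, hKc.image hemb.continuous⟩

end Groth.Agent.S4185
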