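import Groth.Statements.S4187
import Groth.Agent.H21.AnClosure

set_option autoImplicit false
open CategoryTheory AlgebraicGeometry Topology TopologicalSpace
open An

namespace Groth.Agent.S4187

open Groth.Agent.H21 in
/-- For X locally of finite type over ℂ, the underlying space of X is discrete if and only if the space
X(ℂ) (complex topology) is discrete. -/
theorem result (X : Scheme.{0}) [X.Over An.SC] [LocallyOfFiniteType (X ↘ An.SC)] :
    DiscreteTopology ↥X ↔ DiscreteTopology (An.Pts X) := by
  constructor
  · intro h
    rw [discreteTopology_iff_isOpen_singleton]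
    intro p
    have h1 : IsOpen (An.Pts.pt ⁻¹' {p.pt} : Set (An.Pts X)) :=
      (isOpen_discrete _).preimage An.Pts.continuous_pt
    have h2 : (An.Pts.pt ⁻¹' {p.pt} : Set (An.Pts X)) = {p} := by
      ext q
      simp only [Set.mem_preimage, Set.mem_singleton_iff]
      exact ⟨fun hq => pt_injective hq, fun hq => by rw [hq]⟩
    rw [← h2]
    exact h1
  · intro h
    -- every closed point is open
    have hclosedopen : ∀ x ∈ closedPoints X, IsOpen ({x} : Set X) := by
      intro x hx
      obtain ⟨p, rfl⟩ := exists_pt_eq hx
      have hcl : IsClosed ({p.pt} : Set X) := hx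
      -- {p.pt}ᶜ is open; use the closure comparison on the complement? work with LC directly
      have hLC1 : LC ({p.pt} : Set X) := fun t ht =>
        ⟨{p.pt}, hcl.isLocallyClosed, ht, subset_rfl⟩
      have hLC2 : LC ({p.pt} : Set X)ᶜ := fun t ht =>
        ⟨{p.pt}ᶜ, hcl.isOpen_compl.isLocallyClosed, ht, subset_rfl⟩
      -- closure of the complement
      have hsub := preimage_closure_subset ({p.pt} : Set X)ᶜ hLC2 (by rwa [compl_compl])
      have hclq : IsClosed (An.Pts.pt ⁻¹' ({p.pt} : Set X)ᶜ : Set (An.Pts X)) :=
        isClosed_discrete _
      rw [hclq.closure_eq] at hsub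
      have hnot : p.pt ∉ closure ({p.pt} : Set X)ᶜ := by
        intro hmem
        have := hsub hmem
        exact this rfl
      have hopen : IsOpen (closure ({p.pt} : Set X)ᶜ)ᶜ := isClosed_closure.isOpen_compl
      have heq : (closure ({p.pt} : Set X)ᶜ)ᶜ = {p.pt} := by
        ext y
        constructor
        · intro hy
          by_contra hne
          exact hy (subset_closure hne)
        · intro hy
          rw [Set.mem_singleton_iff] at hy
          rw [hy]
          exact hnot
      rw [← heq]
      exact hopen
    -- every point is closed
    have hallclosed : ∀ x : X, x ∈ closedPoints X := by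
      intro x
      by_contra hx
      have hne : (closure ({x} : Set X)).Nonempty := ⟨x, subset_closure rfl⟩
      obtain ⟨p, hp⟩ := exists_pt_mem_of_isLocallyClosed hne isClosed_closure.isLocallyClosed
      have hopen := hclosedopen p.pt (pt_mem_closedPoints p)
      -- p.pt ∈ closure {x} and {p.pt} open ⇒ x ∈ {p.pt}
      have hmeet : (({p.pt} : Set X) ∩ {x}).Nonempty :=
        mem_closure_iff.1 hp _ hopen rfl
      obtain ⟨y, hy1, hy2⟩ := hmeet
      rw [Set.mem_singleton_iff] at hy1 hy2
      apply hx
      rw [← hy2, hy1]
      exact pt_mem_closedPoints p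
    rw [discreteTopology_iff_isOpen_singleton]
    intro x
    exact hclosedopen x (hallclosed x)

end Groth.Agent.S4187
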