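import Groth.Statements.S4192
import Groth.Agent.H21.AnConn

set_option autoImplicit false
open CategoryTheory AlgebraicGeometry Topology TopologicalSpace
open An

namespace Groth.Agent.S4192

/-- For X locally of finite type over ℂ, the map π_0(X(ℂ)) → π_0(X) induced by the continuous map X(ℂ) →
X is bijective. -/
theorem result (X : Scheme.{0}) [X.Over An.SC] [LocallyOfFiniteType (X ↘ An.SC)] :
    Function.Bijective (An.Pts.continuous_pt (X := X)).connectedComponentsMap := by
  constructor
  · intro a b
    obtain ⟨p, rfl⟩ := ConnectedComponents.surjective_coe a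
    obtain ⟨q, rfl⟩ := ConnectedComponents.surjective_coe b
    intro h
    rw [Continuous.connectedComponentsMap_mk, Continuous.connectedComponentsMap_mk,
      ConnectedComponents.coe_eq_coe'] at h
    rw [ConnectedComponents.coe_eq_coe']
    have hclopen : IsClopen (connectedComponent q) :=
      ⟨isClosed_connectedComponent, Groth.Agent.H21.isOpen_connectedComponent_pts q⟩
    obtain ⟨W, hW, hWA⟩ := Groth.Agent.H21.exists_isClopen _ hclopen
    have hq : q.pt ∈ W := by
      have : q ∈ An.Pts.pt ⁻¹' W := by
        rw [hWA]
        exact mem_connectedComponent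
      exact this
    have hsub := hW.connectedComponent_subset hq
    have hp : p ∈ An.Pts.pt ⁻¹' W := hsub h
    rw [hWA] at hp
    exact hp
  · intro c
    obtain ⟨x, rfl⟩ := ConnectedComponents.surjective_coe c
    obtain ⟨p, hp⟩ := Groth.Agent.H21.exists_pt_mem_of_isLocallyClosed (X := X)
      (Z := connectedComponent x) ⟨x, mem_connectedComponent⟩
      isClosed_connectedComponent.isLocallyClosed
    refine ⟨(p : ConnectedComponents (An.Pts X)), ?_⟩
    rw [Continuous.connectedComponentsMap_mk, ConnectedComponents.coe_eq_coe']
    exact hp

end Groth.Agent.S4192
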