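import Groth.Statements.S4194
import Groth.Agent.H21.AnPts
import Mathlib.AlgebraicGeometry.Morphisms.Immersion
import Mathlib.AlgebraicGeometry.PullbackCarrier

set_option autoImplicit false
open CategoryTheory AlgebraicGeometry Topology TopologicalSpace
open An

namespace Groth.Agent.S4194

open Groth.Agent.H21 Limits in
/-- A morphism f : X → Y of schemes locally of finite type over ℂ is injective (on underlying points) if
and only if the induced map X(ℂ) → Y(ℂ) is injective. -/
theorem result (X Y : Scheme.{0}) [X.Over An.SC] [LocallyOfFiniteType (X ↘ An.SC)]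
    [Y.Over An.SC] [LocallyOfFiniteType (Y ↘ An.SC)] (f : X ⟶ Y) [f.IsOver An.SC] :
    Function.Injective f.base ↔ Function.Injective (An.Pts.map f) := by
  constructor
  · intro hf p q hpq
    apply pt_injective
    apply hf
    have := congrArg An.Pts.pt hpq
    rwa [An.Pts.pt_map, An.Pts.pt_map] at this
  · intro hf a b hab
    by_contra hne
    obtain ⟨z, hz1, hz2⟩ := Scheme.Pullback.exists_preimage_pullback (f := f) (g := f) a b hab
    have hz : z ∈ (Set.range (pullback.diagonal f).base)ᶜ := by
      rintro ⟨x, rfl⟩
      apply hne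
      rw [← hz1, ← hz2, ← Scheme.Hom.comp_apply, ← Scheme.Hom.comp_apply,
        pullback.diagonal_fst, pullback.diagonal_snd]
    have hlc : IsLocallyClosed (Set.range (pullback.diagonal f).base) :=
      (pullback.diagonal f).isLocallyClosed_range
    -- the complement of a locally closed set is the union of a closed set and an open set
    obtain ⟨U, C, hU, hC, hUC⟩ := hlc
    have : LocallyOfFiniteType ((pullback f f) ↘ An.SC) := locallyOfFiniteType_pullback f f
    have hw : ∃ w : An.Pts (pullback f f), w.pt ∈ (Set.range (pullback.diagonal f).base)ᶜ := by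
      rw [hUC, Set.compl_inter] at hz ⊢
      rcases hz with hz | hz
      · obtain ⟨w, hw⟩ := exists_pt_mem_of_isLocallyClosed ⟨z, hz⟩ hU.isClosed_compl.isLocallyClosed
        exact ⟨w, Or.inl hw⟩
      · obtain ⟨w, hw⟩ := exists_pt_mem_of_isLocallyClosed ⟨z, hz⟩ hC.isOpen_compl.isLocallyClosed
        exact ⟨w, Or.inr hw⟩
    obtain ⟨w, hw⟩ := hw
    apply hw
    have h12 : An.Pts.map (pullback.fst f f) w = An.Pts.map (pullback.snd f f) w :=
      hf (An.Pts.map_pullback_condition f f w)
    have h12' : w.1 ≫ pullback.fst f f = w.1 ≫ pullback.snd f f := congrArg Subtype.val h12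
    have hw' : w.1 = (w.1 ≫ pullback.fst f f) ≫ pullback.diagonal f := by
      apply pullback.hom_ext
      · simp
      · simp [h12']
    refine ⟨(w.1 ≫ pullback.fst f f) An.cpt, ?_⟩
    rw [← Scheme.Hom.comp_apply, ← hw']
    rfl

end Groth.Agent.S4194
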