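import Groth.Statements.S4198
import Groth.Agent.H21.AnPts
import Groth.Agent.H21.Constr
import Mathlib.AlgebraicGeometry.Morphisms.FinitePresentation

set_option autoImplicit false
open CategoryTheory AlgebraicGeometry Topology TopologicalSpace
open An

namespace Groth.Agent.S4198

open Groth.Agent.H21 in
/-- Let f : X → Y be a morphism of finite type (here: quasi-compact, X and Y being locally of finite
type over ℂ). Then f is surjective if and only if the induced map on complex points X(ℂ) → Y(ℂ) is
surjective. (The finite-type hypothesis cannot be dropped.) -/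
theorem result (X Y : Scheme.{0}) [X.Over An.SC] [LocallyOfFiniteType (X ↘ An.SC)]
    [Y.Over An.SC] [LocallyOfFiniteType (Y ↘ An.SC)] (f : X ⟶ Y) [f.IsOver An.SC] [QuasiCompact f] :
    Function.Surjective f.base ↔ Function.Surjective (An.Pts.map f) := by
  constructor
  · intro hf y
    have hy : IsClosed ({y.pt} : Set Y) := pt_mem_closedPoints y
    have hcl : IsClosed (f.base ⁻¹' {y.pt}) := hy.preimage f.continuous
    have hne : (f.base ⁻¹' {y.pt}).Nonempty := by
      obtain ⟨x, hx⟩ := hf y.pt
      exact ⟨x, hx⟩
    obtain ⟨p, hp⟩ := exists_pt_mem_of_isLocallyClosed hne hcl.isLocallyClosed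
    refine ⟨p, pt_injective ?_⟩
    rw [An.Pts.pt_map]
    exact hp
  · intro hf
    have : IsLocallyNoetherian Y := isLocallyNoetherian
    have : LocallyOfFiniteType f := locallyOfFiniteType_of_isOver f
    have hrange : IsLocallyConstructible (Set.range f.base) := by
      rw [← Set.image_univ]
      exact f.isLocallyConstructible_image IsLocallyConstructible.univ
    by_contra hns
    have hne : (Set.range f.base)ᶜ.Nonempty := by
      rw [Set.nonempty_compl]
      intro h
      exact hns (Set.range_eq_univ.mp h)
    have := jacobsonSpace (X := Y)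
    obtain ⟨y, hy, hyc⟩ := exists_mem_closedPoints_of_isLocallyConstructible
      (isLocallyConstructible_compl hrange) hne
    obtain ⟨q, rfl⟩ := exists_pt_eq hyc
    obtain ⟨p, rfl⟩ := hf q
    apply hy
    rw [An.Pts.pt_map]
    exact ⟨_, rfl⟩

end Groth.Agent.S4198
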