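import Groth.Statements.S4199
import Groth.Agent.H21.AnClosure
import Mathlib.AlgebraicGeometry.Morphisms.FinitePresentation

set_option autoImplicit false
open CategoryTheory AlgebraicGeometry Topology TopologicalSpace
open An

namespace Groth.Agent.S4199

open Groth.Agent.H21 in
/-- Let f : X → Y be quasi-compact, with X and Y locally of finite type over ℂ. Then f is dominant if
and only if the image of X(ℂ) → Y(ℂ) is dense. -/
theorem result (X Y : Scheme.{0}) [X.Over An.SC] [LocallyOfFiniteType (X ↘ An.SC)]
    [Y.Over An.SC] [LocallyOfFiniteType (Y ↘ An.SC)] (f : X ⟶ Y) [f.IsOver An.SC] [QuasiCompact f] :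
    DenseRange f.base ↔ DenseRange (An.Pts.map f) := by
  have : IsLocallyNoetherian Y := isLocallyNoetherian
  have : LocallyOfFiniteType f := locallyOfFiniteType_of_isOver f
  have hrange : IsLocallyConstructible (Set.range f.base) := by
    rw [← Set.image_univ]
    exact f.isLocallyConstructible_image IsLocallyConstructible.univ
  have hpre : (An.Pts.pt ⁻¹' Set.range f.base : Set (An.Pts Y)) = Set.range (An.Pts.map f) := by
    ext y
    constructor
    · rintro ⟨x, hx⟩
      have hy : IsClosed ({y.pt} : Set Y) := pt_mem_closedPoints y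
      have hcl : IsClosed (f.base ⁻¹' {y.pt}) := hy.preimage f.continuous
      obtain ⟨p, hp⟩ := exists_pt_mem_of_isLocallyClosed ⟨x, hx⟩ hcl.isLocallyClosed
      refine ⟨p, pt_injective ?_⟩
      rw [An.Pts.pt_map]
      exact hp
    · rintro ⟨p, rfl⟩
      rw [Set.mem_preimage, An.Pts.pt_map]
      exact ⟨_, rfl⟩
  unfold DenseRange
  rw [← hpre]
  exact dense_iff_preimage _ hrange

end Groth.Agent.S4199
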