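import Groth.Statements.S4208
import Groth.Agent.H21.AnFull

set_option autoImplicit false
open CategoryTheory AlgebraicGeometry Topology TopologicalSpace
open An

namespace Groth.Agent.S4208

/-- For X locally of finite type over ℂ, the functor U ↦ U(ℂ) from etale X-schemes to spaces over X(ℂ)
is faithful, and it is full towards etale X-schemes V that are separated over X: every continuous
map U(ℂ) → V(ℂ) over X(ℂ) is induced by a unique X-morphism U → V. Finite etale X-schemes are
separated over X, so this contains the full faithfulness of the passage from finite etale covers of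
X to finite covering spaces of X(ℂ). The statement assumes that every etale morphism of schemes
locally of finite type over ℂ induces a local homeomorphism on ℂ-points (this holds and is stated
separately). (The published statement asserts fullness for all etale X-schemes V; its published
proof treats affine, hence separated, V, and fullness is stated here for targets separated over X
only.) -/
theorem result (X : Scheme.{0}) [X.Over An.SC] [LocallyOfFiniteType (X ↘ An.SC)]
    [Fact An.EtaleLH] :
    (∀ (U V : X.Etale) [IsSeparated (V.left ↘ X)],
        Function.Surjective ((An.eps X).map : (U ⟶ V) → ((An.eps X).obj U ⟶ (An.eps X).obj V))) ∧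
      (An.eps X).Faithful := by
  constructor
  · intro U V _ φ
    obtain ⟨f, hf, hfφ⟩ := Groth.Agent.H21.exists_hom_of_continuous (U.left ↘ X) (V.left ↘ X)
      ((Fact.out : An.EtaleLH) V.left X (V.left ↘ X)) φ.toFun φ.continuous φ.over
    refine ⟨MorphismProperty.Over.homMk f hf trivial, ?_⟩
    apply An.Cl.hom_ext
    funext u
    apply Subtype.ext
    exact (hfφ u).symm
  · constructor
    intro U V g₁ g₂ h
    apply MorphismProperty.Over.Hom.ext
    haveI : LocallyOfFiniteType (U.left ↘ An.SC) := by
      change LocallyOfFiniteType ((U.left ↘ X) ≫ X ↘ An.SC)
      infer_instance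
    have w₁ : g₁.left ≫ (V.left ↘ X) = (U.left ↘ X) := Over.w g₁.hom
    have w₂ : g₂.left ≫ (V.left ↘ X) = (U.left ↘ X) := Over.w g₂.hom
    apply Groth.Agent.H21.hom_ext_of_pts (V.left ↘ X) g₁.left g₂.left (w₁.trans w₂.symm)
    intro p
    exact congrArg (fun ψ => ψ.toFun p) h

end Groth.Agent.S4208
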