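import Groth.Statements.S4209
import Groth.Agent.H21.AnPullback
import Groth.Agent.H21.AnPts
import Mathlib.CategoryTheory.Sites.CoverPreserving
import Mathlib.CategoryTheory.Limits.Constructions.Over.Connected

set_option autoImplicit false
open CategoryTheory AlgebraicGeometry Topology TopologicalSpace
open An

namespace Groth.Agent.S4209

open Groth.Agent.H21

section general

variable {P X Y S : Scheme.{0}} [P.Over An.SC] [X.Over An.SC] [Y.Over An.SC] [S.Over An.SC]
  (fst : P ⟶ X) (snd : P ⟶ Y) (f : X ⟶ S) (g : Y ⟶ S)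
  [fst.IsOver An.SC] [snd.IsOver An.SC] [f.IsOver An.SC] [g.IsOver An.SC]

/-- continuous lifting into the points of a fibre product square -/
theorem exists_lift_of_isPullback (H : IsPullback fst snd f g) {E : Type} [TopologicalSpace E]
    (a : E → An.Pts X) (b : E → An.Pts Y) (ha : Continuous a) (hb : Continuous b)
    (hab : ∀ e, An.Pts.map f (a e) = An.Pts.map g (b e)) :
    ∃ k : E → An.Pts P, Continuous k ∧ (∀ e, An.Pts.map fst (k e) = a e) ∧
      (∀ e, An.Pts.map snd (k e) = b e) := by
  haveI : H.isoPullback.inv.IsOver An.SC := ⟨by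
    change H.isoPullback.inv ≫ (P ↘ An.SC) = Limits.pullback.fst f g ≫ (X ↘ An.SC)
    rw [← comp_over fst An.SC, ← Category.assoc, H.isoPullback_inv_fst]⟩
  obtain ⟨h, hh⟩ := isHomeomorph_iff_exists_homeomorph.1 (isHomeomorph_psi f g)
  let q : E → {q : An.Pts X × An.Pts Y // An.Pts.map f q.1 = An.Pts.map g q.2} :=
    fun e => ⟨(a e, b e), hab e⟩
  have hq : Continuous q := Continuous.subtype_mk (ha.prodMk hb) _
  have hpsi : ∀ e, psi f g (h.symm (q e)) = q e := by
    intro e
    rw [← hh]
    exact h.apply_symm_apply (q e)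
  refine ⟨fun e => An.Pts.map H.isoPullback.inv (h.symm (q e)),
    (An.Pts.continuous_map _).comp (h.symm.continuous.comp hq), ?_, ?_⟩
  · intro e
    have h1 := congrArg (fun r => r.1.1) (hpsi e)
    simp only [q] at h1
    rw [← h1]
    apply Subtype.ext
    change ((h.symm (q e)).1 ≫ H.isoPullback.inv) ≫ fst = (h.symm (q e)).1 ≫ Limits.pullback.fst f g
    rw [Category.assoc, H.isoPullback_inv_fst]
  · intro e
    have h1 := congrArg (fun r => r.1.2) (hpsi e)
    simp only [q] at h1
    rw [← h1]
    apply Subtype.ext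
    change ((h.symm (q e)).1 ≫ H.isoPullback.inv) ≫ snd = (h.symm (q e)).1 ≫ Limits.pullback.snd f g
    rw [Category.assoc, H.isoPullback_inv_snd]

end general

section helpers

variable (X : Scheme.{0}) [X.Over An.SC] [LocallyOfFiniteType (X ↘ An.SC)] [Fact An.EtaleLH]

omit [Fact An.EtaleLH] in
theorem locallyOfFiniteType_left (U : X.Etale) : LocallyOfFiniteType (U.left ↘ An.SC) := by
  change LocallyOfFiniteType ((U.left ↘ X) ≫ X ↘ An.SC)
  infer_instance

theorem coverPreserving_eps :
    CoverPreserving X.smallEtaleTopology (An.Cl.topology (An.Pts X)) (An.eps X) := by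
  constructor
  intro U S hS
  have eX : X.smallEtaleTopology =
      (X.smallPretopology (P := @Etale) (Q := @Etale)).toGrothendieck :=
    Scheme.smallGrothendieckTopology_eq_toGrothendieck_smallPretopology X le_rfl
  rw [eX] at hS
  replace hS := (Scheme.mem_toGrothendieck_smallPretopology U S).1 hS
  intro a
  haveI : LocallyOfFiniteType (U.left ↘ An.SC) := locallyOfFiniteType_left X U
  have a' : An.Pts U.left := a
  obtain ⟨V, g, v, hg, het, hv⟩ := hS (An.Pts.pt (X := U.left) a)
  haveI : LocallyOfFiniteType (V.left ↘ An.SC) := locallyOfFiniteType_left X V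
  have hy : IsClosed ({An.Pts.pt (X := U.left) a} : Set U.left) :=
    pt_mem_closedPoints (X := U.left) a
  have hcl : IsClosed (g.left ⁻¹' {An.Pts.pt (X := U.left) a}) := hy.preimage g.left.continuous
  obtain ⟨b, hb⟩ := exists_pt_mem_of_isLocallyClosed (X := V.left) ⟨v, hv⟩ hcl.isLocallyClosed
  have hba : An.Pts.map g.left b = a := pt_injective (X := U.left) (by
    rw [An.Pts.pt_map]
    exact hb)
  have hlh : IsLocalHomeomorph (An.Pts.map g.left) :=
    (Fact.out : An.EtaleLH) V.left U.left g.left
  obtain ⟨φ, hbφ, hφ⟩ := hlh b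
  have hN : IsOpen (φ.source : Set (An.Pts V.left)) := φ.open_source
  refine ⟨An.Cl.restrictOpen ((An.eps X).obj V) φ.source hN,
    An.Cl.restrictOpenι ((An.eps X).obj V) φ.source hN ≫ (An.eps X).map g, ?_, ?_, ?_⟩
  · exact ⟨V, g, An.Cl.restrictOpenι ((An.eps X).obj V) φ.source hN, hg, rfl⟩
  · change IsOpenEmbedding (An.Pts.map g.left ∘ (Subtype.val : φ.source → An.Pts V.left))
    rw [hφ]
    exact φ.isOpenEmbedding_restrict
  · exact ⟨⟨b, hbφ⟩, hba⟩

theorem compatiblePreserving_eps :
    CompatiblePreserving.{1} (An.Cl.topology (An.Pts X)) (An.eps X) := by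
  constructor
  intro ℱ Z T x hx Y₁ Y₂ E f₁ f₂ g₁ g₂ hg₁ hg₂ e
  have hQ : IsPullback (Limits.pullback.fst g₁ g₂) (Limits.pullback.snd g₁ g₂) g₁ g₂ :=
    IsPullback.of_hasPullback g₁ g₂
  have hQ' : IsPullback (Limits.pullback.fst g₁ g₂).left (Limits.pullback.snd g₁ g₂).left
      g₁.left g₂.left := hQ.map (Scheme.Etale.forget X ⋙ Over.forget X)
  obtain ⟨k, hk, hk1, hk2⟩ := exists_lift_of_isPullback
    (Limits.pullback.fst g₁ g₂).left (Limits.pullback.snd g₁ g₂).left g₁.left g₂.left hQ'
    f₁.toFun f₂.toFun f₁.continuous f₂.continuous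
    (fun a => congrFun (congrArg An.Cl.Hom.toFun e) a)
  let kk : E ⟶ (An.eps X).obj (Limits.pullback g₁ g₂) := ⟨k, hk, fun a => by
    have h1 := f₁.over a
    rw [← h1, ← hk1 a]
    apply Subtype.ext
    change (k a).1 ≫ (Limits.pullback g₁ g₂).hom =
      ((k a).1 ≫ (Limits.pullback.fst g₁ g₂).left) ≫ Y₁.hom
    rw [Category.assoc, CategoryTheory.Over.w]⟩
  have h1 : kk ≫ (An.eps X).map (Limits.pullback.fst g₁ g₂) = f₁ :=
    An.Cl.hom_ext (funext hk1)
  have h2 : kk ≫ (An.eps X).map (Limits.pullback.snd g₁ g₂) = f₂ :=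
    An.Cl.hom_ext (funext hk2)
  rw [← h1, ← h2]
  simp only [op_comp, Functor.map_comp, types_comp_apply]
  congr 1
  exact hx (Limits.pullback.fst g₁ g₂) (Limits.pullback.snd g₁ g₂) hg₁ hg₂ hQ.w

end helpers

/-- For X locally of finite type over ℂ, U ↦ U(ℂ) defines a morphism of sites ε from the classical site
of X(ℂ) to the small etale site of X; in particular the functor is continuous (precomposition with
it carries sheaves to sheaves). This is the hypothesis An.EpsCont carried by the comparison
statements. -/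
theorem result (X : Scheme.{0}) [X.Over An.SC] [LocallyOfFiniteType (X ↘ An.SC)]
    [Fact An.EtaleLH] :
    An.EpsCont X := by
  exact Functor.isContinuous_of_coverPreserving (compatiblePreserving_eps X)
    (coverPreserving_eps X)

end Groth.Agent.S4209
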