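import Groth.Statements.S4210
import Groth.Agent.S4209
import Groth.Agent.H21.LanFlat
import Mathlib.CategoryTheory.Limits.Constructions.LimitsOfProductsAndEqualizers
import Mathlib.CategoryTheory.Sites.Pullback

set_option autoImplicit false
open CategoryTheory AlgebraicGeometry Topology TopologicalSpace
open An

namespace Groth.Agent.S4210

open Groth.Agent.H21 CategoryTheory.Limits

section helpers

variable (X : Scheme.{0}) [X.Over An.SC] [LocallyOfFiniteType (X ↘ An.SC)] [Fact An.EtaleLH]

theorem preservesPullback_eps {Y₁ Y₂ Z : X.Etale} (g₁ : Y₁ ⟶ Z) (g₂ : Y₂ ⟶ Z) :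
    PreservesLimit (cospan g₁ g₂) (An.eps X) := by
  have hQ : IsPullback (pullback.fst g₁ g₂) (pullback.snd g₁ g₂) g₁ g₂ :=
    IsPullback.of_hasPullback g₁ g₂
  have hQ' : IsPullback (pullback.fst g₁ g₂).left (pullback.snd g₁ g₂).left
      g₁.left g₂.left := hQ.map (Scheme.Etale.forget X ⋙ Over.forget X)
  apply preservesLimit_of_preserves_limit_cone (pullbackIsPullback g₁ g₂)
  refine (isLimitMapConePullbackConeEquiv (An.eps X) pullback.condition).symm ?_
  have hex : ∀ s : PullbackCone ((An.eps X).map g₁) ((An.eps X).map g₂),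
      ∃ l : s.pt ⟶ (An.eps X).obj (pullback g₁ g₂),
        l ≫ (An.eps X).map (pullback.fst g₁ g₂) = s.fst ∧
        l ≫ (An.eps X).map (pullback.snd g₁ g₂) = s.snd := by
    intro s
    obtain ⟨k, hk, hk1, hk2⟩ := Groth.Agent.S4209.exists_lift_of_isPullback
      (pullback.fst g₁ g₂).left (pullback.snd g₁ g₂).left g₁.left g₂.left hQ'
      s.fst.toFun s.snd.toFun s.fst.continuous s.snd.continuous
      (fun a => congrFun (congrArg An.Cl.Hom.toFun s.condition) a)
    refine ⟨⟨k, hk, fun a => ?_⟩, An.Cl.hom_ext (funext hk1), An.Cl.hom_ext (funext hk2)⟩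
    have h1 := s.fst.over a
    rw [← h1, ← hk1 a]
    apply Subtype.ext
    change (k a).1 ≫ (pullback g₁ g₂).hom =
      ((k a).1 ≫ (pullback.fst g₁ g₂).left) ≫ Y₁.hom
    rw [Category.assoc, CategoryTheory.Over.w]
  choose l hl1 hl2 using hex
  refine PullbackCone.IsLimit.mk _ l hl1 hl2 (fun s m h1 h2 => ?_)
  apply An.Cl.hom_ext
  funext a
  apply Subtype.ext
  apply hQ'.hom_ext
  · have := congrFun (congrArg An.Cl.Hom.toFun (h1.trans (hl1 s).symm)) a
    exact congrArg Subtype.val this
  · have := congrFun (congrArg An.Cl.Hom.toFun (h2.trans (hl2 s).symm)) a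
    exact congrArg Subtype.val this

theorem preservesTerminal_eps : PreservesLimit (Functor.empty.{0} X.Etale) (An.eps X) := by
  apply preservesLimit_of_preserves_limit_cone (EtCore.topIsTerminal X)
  refine (isLimitMapConeEmptyConeEquiv (An.eps X) (EtCoh.top X)).symm ?_
  exact IsTerminal.ofIso (An.Cl.selfIsTerminal (An.Pts X)) (An.epsTopIso X).symm

theorem preservesFiniteLimits_eps : PreservesFiniteLimits (An.eps X) := by
  haveI : PreservesLimit (Functor.empty.{0} X.Etale) (An.eps X) := preservesTerminal_eps X
  haveI : PreservesLimitsOfShape (Discrete PEmpty.{1}) (An.eps X) :=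
    preservesLimitsOfShape_pempty_of_preservesTerminal _
  haveI : PreservesLimitsOfShape WalkingCospan (An.eps X) := ⟨fun {K} => by
    haveI := preservesPullback_eps X (K.map WalkingCospan.Hom.inl) (K.map WalkingCospan.Hom.inr)
    exact preservesLimit_of_iso_diagram _ (diagramIsoCospan K).symm⟩
  exact preservesFiniteLimits_of_preservesTerminal_and_pullbacks (An.eps X)

end helpers

/-- Ε is a morphism of sites, so its inverse image functor is exact: for X locally of finite type over ℂ
the inverse image ε^* from abelian etale sheaves on X to abelian sheaves on the classical site of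
X(ℂ) preserves finite limits (it preserves colimits, being a left adjoint). This is the exactness
hypothesis carried by the comparison maps on cohomology. -/
theorem result (X : Scheme.{0}) [X.Over An.SC] [LocallyOfFiniteType (X ↘ An.SC)]
    [Fact An.EtaleLH] [An.EpsCont X] :
    Limits.PreservesFiniteLimits (An.epsPull X) := by
  haveI := preservesFiniteLimits_eps X
  haveI : RepresentablyFlat (An.eps X) := flat_of_preservesFiniteLimits _
  haveI := lan_preservesFiniteLimits_of_flat' (An.eps X)
  exact Functor.sheafPullbackConstruction.preservesFiniteLimits (An.eps X) AddCommGrpCat.{1}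
    X.smallEtaleTopology (An.Cl.topology (An.Pts X))

end Groth.Agent.S4210
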