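import Groth.Statements.S4211
-- import your own Groth.Agent.* helpers here

set_option autoImplicit false
universe u
open An

namespace Groth.Agent.S4211

open CategoryTheory TopologicalSpace Opposite in
/-- The canonical map from an object over `T` whose structure map lands in the open `V`. -/
def liftToOpen {T : Type u} [TopologicalSpace T] (X : An.Cl T) (V : Opens T)
    (h : ∀ a : X.E, X.p a ∈ V) : X ⟶ (An.opensToCl T).obj V where
  toFun a := ⟨X.p a, h a⟩
  continuous := Continuous.subtype_mk X.lh.continuous _
  over _ := rfl

open CategoryTheory TopologicalSpace Opposite in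
/-- For a topological space T, the inclusion of the opens of T into the site of local homeomorphisms
over T is continuous. This is the hypothesis An.OpCont carried by statements that restrict classical
sheaves to opens. -/
theorem result (T : Type u) [TopologicalSpace T] :
    An.OpCont T := by
  apply Functor.isContinuous_of_coverPreserving
  · constructor
    intro ℱ Z P x hx Y₁ Y₂ X f₁ f₂ g₁ g₂ hg₁ hg₂ e
    -- both maps factor through the intersection
    have h1 : ∀ a : X.E, X.p a ∈ Y₁ ⊓ Y₂ := by
      intro a
      refine ⟨?_, ?_⟩
      · have := f₁.over a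
        rw [← this]
        exact (f₁.toFun a).2
      · have := f₂.over a
        rw [← this]
        exact (f₂.toFun a).2
    let k : X ⟶ (An.opensToCl T).obj (Y₁ ⊓ Y₂) := liftToOpen X (Y₁ ⊓ Y₂) h1
    have e1 : f₁ = k ≫ (An.opensToCl T).map (homOfLE inf_le_left) := by
      apply An.Cl.hom_ext
      funext a
      apply Subtype.ext
      exact f₁.over a
    have e2 : f₂ = k ≫ (An.opensToCl T).map (homOfLE inf_le_right) := by
      apply An.Cl.hom_ext
      funext a
      apply Subtype.ext
      exact f₂.over a
    rw [e1, e2, op_comp, op_comp, Functor.map_comp, Functor.map_comp]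
    simp only [types_comp_apply]
    congr 1
    exact hx (homOfLE inf_le_left) (homOfLE inf_le_right) hg₁ hg₂ (Subsingleton.elim _ _)
  · constructor
    intro U S hS a
    obtain ⟨V, f, hf, ha⟩ := hS a.1 a.2
    refine ⟨(An.opensToCl T).obj V, (An.opensToCl T).map f, ?_, ?_, ?_⟩
    · exact ⟨V, f, 𝟙 _, hf, by simp⟩
    · exact (TopologicalSpace.Opens.isOpenEmbedding_of_le f.le)
    · exact ⟨⟨a.1, ha⟩, rfl⟩

end Groth.Agent.S4211
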