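import Groth.Statements.S4212
import Mathlib.CategoryTheory.Sites.DenseSubsite.SheafEquiv

set_option autoImplicit false
universe u
open An

namespace Groth.Agent.S4212

open CategoryTheory TopologicalSpace Opposite Topology

theorem full_opensToCl (T : Type u) [TopologicalSpace T] : (An.opensToCl T).Full where
  map_surjective {U V} f := by
    have hUV : U ≤ V := by
      intro a ha
      have h1 : ((An.opensToCl T).obj V).p (f.toFun ⟨a, ha⟩) = a := f.over ⟨a, ha⟩
      rw [← h1]
      exact (f.toFun ⟨a, ha⟩).2
    refine ⟨homOfLE hUV, ?_⟩
    apply An.Cl.hom_ext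
    funext a
    apply Subtype.ext
    exact (f.over a).symm

theorem faithful_opensToCl (T : Type u) [TopologicalSpace T] : (An.opensToCl T).Faithful where
  map_injective _ := Subsingleton.elim _ _

theorem coverDense_opensToCl (T : Type u) [TopologicalSpace T] :
    (An.opensToCl T).IsCoverDense (An.Cl.topology T) where
  is_cover A := by
    intro a
    obtain ⟨e, ha, he⟩ := A.lh a
    let V : Opens T := ⟨e.target, e.open_target⟩
    let g : (An.opensToCl T).obj V ⟶ A :=
      { toFun := fun v => e.symm v.1
        continuous := e.continuousOn_symm.comp_continuous continuous_subtype_val (fun v => v.2)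
        over := fun v => by
          rw [he]
          exact e.right_inv v.2 }
    refine ⟨(An.opensToCl T).obj V, g, Presieve.in_coverByImage _ g, ?_, ?_⟩
    · exact e.symm.isOpenEmbedding_restrict
    · exact ⟨⟨e a, e.map_source ha⟩, e.left_inv ha⟩

theorem denseSubsite_opensToCl (T : Type u) [TopologicalSpace T] :
    (An.opensToCl T).IsDenseSubsite (Opens.grothendieckTopology T) (An.Cl.topology T) := by
  have := full_opensToCl T
  have := faithful_opensToCl T
  have := coverDense_opensToCl T
  refine { functorPushforward_mem_iff := ?_ }
  intro U S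
  constructor
  · intro h x hx
    obtain ⟨B, g, hg, -, b, hb⟩ := h ⟨x, hx⟩
    obtain ⟨V, f, k, hf, rfl⟩ := hg
    refine ⟨V, f, hf, ?_⟩
    have h1 : ((An.opensToCl T).obj V).p (k.toFun b) = x := by
      have := congrArg Subtype.val hb
      exact this
    rw [← h1]
    exact (k.toFun b).2
  · intro hS a
    obtain ⟨V, f, hf, ha⟩ := hS a.1 a.2
    refine ⟨(An.opensToCl T).obj V, (An.opensToCl T).map f, ?_, ?_, ?_⟩
    · exact ⟨V, f, 𝟙 _, hf, by simp⟩
    · exact (TopologicalSpace.Opens.isOpenEmbedding_of_le f.le)
    · exact ⟨⟨a.1, ha⟩, rfl⟩

/-- For a topological space T, the topos of the site of local homeomorphisms over T is equivalent to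
that of T: restriction of abelian sheaves along the inclusion of the opens of T is an equivalence of
categories. -/
theorem result (T : Type u) [TopologicalSpace T] [An.OpCont T] :
    (An.resOpens T).IsEquivalence := by
  have := denseSubsite_opensToCl T
  exact inferInstanceAs ((An.opensToCl T).sheafPushforwardContinuous AddCommGrpCat.{u + 1}
    (Opens.grothendieckTopology T) (An.Cl.topology T)).IsEquivalence

end Groth.Agent.S4212
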