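import Groth.Statements.S4243
import Mathlib.FieldTheory.Finite.Polynomial
import Mathlib.RingTheory.MvPolynomial.Homogeneous

set_option autoImplicit false
open SGA4h

namespace Groth.Agent.S4243

theorem eq_single_of_degree {σ : Type*} [Fintype σ] [DecidableEq σ] (s : σ →₀ ℕ) (q : ℕ) (j : σ)
    (hdeg : s.degree ≤ q) (hj : q ≤ s j) : s = Finsupp.single j q := by
  rw [Finsupp.degree_eq_sum] at hdeg
  have h1 := Finset.add_sum_erase Finset.univ (fun i => s i) (Finset.mem_univ j)
  have h2 : ∑ i ∈ Finset.univ.erase j, s i = 0 := by
    have : s j + ∑ i ∈ Finset.univ.erase j, s i ≤ q := by rw [h1]; exact hdeg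
    omega
  have h3 : s j = q := by
    have : s j + ∑ i ∈ Finset.univ.erase j, s i ≤ q := by rw [h1]; exact hdeg
    omega
  rw [Finset.sum_eq_zero_iff] at h2
  ext i
  by_cases hij : i = j
  · subst hij
    simp [h3]
  · rw [Finsupp.single_eq_of_ne hij]
    exact h2 i (Finset.mem_erase.mpr ⟨hij, Finset.mem_univ _⟩)

/-- Let k be a finite field with q elements and P a nonzero homogeneous polynomial of degree d in r+1
variables over k. If P vanishes at every point of k^{r+1} (that is, the hypersurface P = 0 in
projective r-space passes through every rational point), then d ≥ q + 1. -/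
theorem result (k : Type) [Field k] [Fintype k] (r d : ℕ)
    (P : MvPolynomial (Fin (r + 1)) k) (hP : P.IsHomogeneous d) (hP0 : P ≠ 0)
    (hvan : ∀ x : Fin (r + 1) → k, MvPolynomial.eval x P = 0) :
    Fintype.card k + 1 ≤ d := by
  classical
  by_contra hd
  push Not at hd
  have hdq : d ≤ Fintype.card k := by omega
  set q := Fintype.card k with hq
  have hq2 : 2 ≤ q := Fintype.one_lt_card
  let c : Fin (r + 1) → k := fun i => MvPolynomial.coeff (Finsupp.single i q) P
  let Q : MvPolynomial (Fin (r + 1)) k :=
    P - ∑ i, MvPolynomial.C (c i) * (MvPolynomial.X i ^ q - MvPolynomial.X i)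
  have hQvan : ∀ x, MvPolynomial.eval x Q = 0 := by
    intro x
    simp only [Q, map_sub, map_sum, map_mul, map_pow, MvPolynomial.eval_C, MvPolynomial.eval_X,
      hvan, hq, FiniteField.pow_card, sub_self, mul_zero, Finset.sum_const_zero]
  have hcoeffQ : ∀ s, MvPolynomial.coeff s Q = MvPolynomial.coeff s P -
      ∑ i, c i * ((if Finsupp.single i q = s then 1 else 0) -
        (if Finsupp.single i 1 = s then 1 else 0)) := by
    intro s
    simp only [Q, MvPolynomial.coeff_sub, MvPolynomial.coeff_sum, MvPolynomial.coeff_C_mul,
      MvPolynomial.coeff_X_pow, MvPolynomial.coeff_X]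
  have hne1 : ∀ i j : Fin (r + 1), Finsupp.single i 1 ≠ Finsupp.single j q := by
    intro i j h
    have := congrArg Finsupp.degree h
    simp only [Finsupp.degree_single] at this
    omega
  have hQmem : Q ∈ MvPolynomial.restrictDegree (Fin (r + 1)) k (q - 1) := by
    rw [MvPolynomial.mem_restrictDegree]
    intro s hs j
    by_contra hsj
    push Not at hsj
    have hsj' : q ≤ s j := by omega
    apply MvPolynomial.mem_support_iff.mp hs
    rw [hcoeffQ]
    by_cases hsingle : s = Finsupp.single j q
    · subst hsingle
      have : ∑ i, c i * ((if Finsupp.single i q = Finsupp.single j q then (1 : k) else 0) -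
          (if Finsupp.single i 1 = Finsupp.single j q then 1 else 0)) = c j := by
        rw [Finset.sum_eq_single j]
        · simp [hne1]
        · intro i _ hij
          have : Finsupp.single i q ≠ Finsupp.single j q := by
            intro h
            have := Finsupp.single_left_injective (by omega : q ≠ 0) h
            exact hij this
          simp [this, hne1]
        · simp
      rw [this]
      exact sub_self _
    · have h1 : MvPolynomial.coeff s P = 0 := by
        by_contra hne
        have hdeg : s.degree = d := by
          by_contra hdeg
          exact hne (hP.coeff_eq_zero hdeg)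
        exact hsingle (eq_single_of_degree s q j (by omega) hsj')
      have h2 : ∀ i, Finsupp.single i q ≠ s := by
        intro i h
        subst h
        by_cases hij : i = j
        · subst hij; exact hsingle rfl
        · rw [Finsupp.single_eq_of_ne (Ne.symm hij)] at hsj'
          omega
      have h3 : ∀ i, Finsupp.single i 1 ≠ s := by
        intro i h
        subst h
        by_cases hij : i = j
        · subst hij
          simp at hsj'
          omega
        · rw [Finsupp.single_eq_of_ne (Ne.symm hij)] at hsj'
          omega
      simp [h1, h2, h3]
  have hQ0 : Q = 0 := MvPolynomial.eq_zero_of_eval_eq_zero _ _ Q hQvan hQmem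
  -- all c j vanish
  have hc : ∀ j, c j = 0 := by
    intro j
    by_cases hd1 : d = 1
    · apply hP.coeff_eq_zero
      simp only [Finsupp.degree_single]
      omega
    · have h0 := hcoeffQ (Finsupp.single j 1)
      rw [hQ0, MvPolynomial.coeff_zero] at h0
      have h1 : MvPolynomial.coeff (Finsupp.single j 1) P = 0 := by
        apply hP.coeff_eq_zero
        simp only [Finsupp.degree_single]
        omega
      have : ∑ i, c i * ((if Finsupp.single i q = Finsupp.single j 1 then (1 : k) else 0) -
          (if Finsupp.single i 1 = Finsupp.single j 1 then 1 else 0)) = - c j := by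
        rw [Finset.sum_eq_single j]
        · simp [(hne1 j j).symm]
        · intro i _ hij
          have : Finsupp.single i 1 ≠ Finsupp.single j 1 := by
            intro h
            have := Finsupp.single_left_injective (by omega : (1 : ℕ) ≠ 0) h
            exact hij this
          simp [this, (hne1 j i).symm]
        · simp
      rw [h1, this] at h0
      simp at h0
      exact h0.symm
  apply hP0
  have : Q = P := by
    simp only [Q, hc, map_zero, zero_mul, Finset.sum_const_zero, sub_zero]
  rw [← this, hQ0]

end Groth.Agent.S4243
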