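import Groth.Statements.S4256
-- import your own Groth.Agent.* helpers here

set_option autoImplicit false
open scoped BigOperators
open SGA4h

namespace Groth.Agent.S4256

theorem addChar_sum {A R ι : Type*} [AddCommMonoid A] [CommMonoid R] (ψ : AddChar A R)
    (s : Finset ι) (f : ι → A) : ψ (∑ i ∈ s, f i) = ∏ i ∈ s, ψ (f i) := by
  classical
  induction s using Finset.induction_on with
  | empty => simp
  | insert a s ha ih => rw [Finset.sum_insert ha, Finset.prod_insert ha, AddChar.map_add_eq_mul, ih]

/-- Let k be a finite field, ψ a nontrivial additive character of k with values in a domain R, and n ≥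
1. Then the generalised Kloosterman sum with parameter 0, Σ ψ(x_1 + ⋯ + x_n) over all (x_1, …, x_n)
∈ k^n with x_1 ⋯ x_n = 0, equals (-1)^{n-1}. -/
theorem result (k : Type) [Field k] [Fintype k] [DecidableEq k] (R : Type) [CommRing R] [IsDomain R]
    (ψ : AddChar k R) (hψ : ψ ≠ 1) (n : ℕ) (hn : 1 ≤ n) :
    ∑ x ∈ (Finset.univ : Finset (Fin n → k)).filter (fun x => ∏ i, x i = 0), ψ (∑ i, x i) = (-1) ^ (n - 1) := by
  have h0 : ∑ a : k, ψ a = 0 := AddChar.sum_eq_zero_of_ne_one hψ
  have h1 : ∑ a ∈ (Finset.univ : Finset k).erase 0, ψ a = -1 := by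
    have := Finset.add_sum_erase (Finset.univ : Finset k) (fun a => ψ a) (Finset.mem_univ 0)
    rw [h0, AddChar.map_zero_eq_one] at this
    linear_combination this
  have hall : ∑ x : Fin n → k, ψ (∑ i, x i) = 0 := by
    have : ∀ x : Fin n → k, ψ (∑ i, x i) = ∏ i, ψ (x i) := fun x => addChar_sum ψ _ _
    simp_rw [this]
    have h2 := Finset.prod_univ_sum (fun _ : Fin n => (Finset.univ : Finset k)) (fun _ a => ψ a)
    rw [Fintype.piFinset_univ] at h2
    rw [← h2, h0]
    simp only [Finset.prod_const, Finset.card_univ, Fintype.card_fin]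
    exact zero_pow (by omega)
  have hunits : ∑ x ∈ (Finset.univ : Finset (Fin n → k)).filter (fun x => ¬ ∏ i, x i = 0), ψ (∑ i, x i)
      = (-1) ^ n := by
    have : ∀ x : Fin n → k, ψ (∑ i, x i) = ∏ i, ψ (x i) := fun x => addChar_sum ψ _ _
    simp_rw [this]
    have h2 := Finset.prod_univ_sum (fun _ : Fin n => (Finset.univ : Finset k).erase 0) (fun _ a => ψ a)
    have h3 : (Finset.univ : Finset (Fin n → k)).filter (fun x => ¬ ∏ i, x i = 0)
        = Fintype.piFinset (fun _ : Fin n => (Finset.univ : Finset k).erase 0) := by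
      ext x
      simp only [Finset.mem_filter, Finset.mem_univ, true_and, Fintype.mem_piFinset,
        Finset.mem_erase, and_true]
      rw [Finset.prod_eq_zero_iff]
      simp
    rw [h3, ← h2, h1]
    simp
  have hsplit := Finset.sum_filter_add_sum_filter_not (Finset.univ : Finset (Fin n → k))
    (fun x => ∏ i, x i = 0) (fun x => ψ (∑ i, x i))
  rw [hall, hunits] at hsplit
  obtain ⟨m, rfl⟩ : ∃ m, n = m + 1 := ⟨n - 1, by omega⟩
  simp only [Nat.add_sub_cancel]
  rw [pow_succ] at hsplit
  linear_combination hsplit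

end Groth.Agent.S4256
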