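import Groth.Statements.S4270
import Groth.Agent.H22.ResPropFamily
import Groth.Agent.S7390
-- import your own Groth.Agent.* helpers here

set_option autoImplicit false
universe u
open CategoryTheory CategoryTheory.Limits AlgebraicGeometry
attribute [local instance] HasDerivedCategory.standard
open KSix

namespace Groth.Agent.S4270
open AlgebraicGeometry CategoryTheory Limits

/-- A scheme admitting an ample family of invertible modules has the resolution property: every
quasi-coherent module of finite type is a quotient of a finite locally free module. -/
theorem result (X : Scheme.{u}) (hX : MoreMor.HasAmpleFamily X) :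
    PerfAux.HasResolutionProperty X := by
  obtain ⟨hXc, hXcov⟩ := hX
  have : CompactSpace X := hXc
  have hfam : ∀ x : X, ∃ (Λ : X.Modules) (s : Coh.structureModule X ⟶ Λ), PicF.IsInvertible Λ ∧
      x ∈ CohB1.genLocus Λ s ∧ IsAffineOpen (CohB1.genLocus Λ s) := fun x => by
    obtain ⟨N, n, t, hN, -, hxt, haff⟩ := hXcov x
    exact ⟨_, t, Groth.Agent.H18.TensorGen.isInvertible_tensorPow hN n, hxt, haff⟩
  have : QuasiSeparatedSpace X := by
    have h := Groth.Agent.S7390.result X hfam
    rw [quasiSeparatedSpace_iff_quasiSeparated]
    exact ⟨inferInstance⟩
  exact Groth.Agent.H22.ResPropFamily.hasResolutionProperty_of_family hfam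

end Groth.Agent.S4270
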