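import Groth.Statements.S4307
import Groth.Agent.S4183
import Groth.Agent.H21.AnRestrict
import Mathlib.Analysis.Calculus.FDeriv.Mul
import Mathlib.Analysis.Calculus.FDeriv.Pow
import Mathlib.Analysis.Calculus.FDeriv.Prod
import Mathlib.Analysis.Calculus.FDeriv.Add

set_option autoImplicit false
open CategoryTheory AlgebraicGeometry Topology TopologicalSpace
open An

namespace Groth.Agent.S4307

section helpers

open Groth.Agent.H21

theorem differentiable_eval {n : ℕ} (p : MvPolynomial (Fin n) ℂ) :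
    Differentiable ℂ (fun z : Fin n → ℂ => MvPolynomial.eval z p) := by
  induction p using MvPolynomial.induction_on with
  | C c =>
    simp only [MvPolynomial.eval_C]
    exact differentiable_const c
  | add p q hp hq =>
    simp only [map_add]
    exact hp.add hq
  | mul_X p i hp =>
    simp only [map_mul, MvPolynomial.eval_X]
    exact hp.mul (differentiable_apply i)

/-- local expression of sections as fractions on an affine open -/
theorem exists_frac {X : Scheme.{0}} [X.Over An.SC] (U : X.Opens) (hU : IsAffineOpen U)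
    (W : X.Opens) (x₀ : An.Pts X) (hW : x₀.pt ∈ W) (hx₀U : x₀.pt ∈ U) :
    ∃ (q : Γ(X, U)) (hqW : X.basicOpen q ≤ W), x₀.pt ∈ X.basicOpen q ∧
      ∀ s : Γ(X, W), ∃ (a : Γ(X, U)) (k : ℕ), ∀ (x : An.Pts X) (hx : x.pt ∈ X.basicOpen q),
        x.ev W (hqW hx) s * (x.ev U (X.basicOpen_le q hx) q) ^ k =
          x.ev U (X.basicOpen_le q hx) a := by
  obtain ⟨g, hgW, hxg⟩ := hU.exists_basicOpen_le ⟨x₀.pt, hW⟩ hx₀U
  refine ⟨g, hgW, hxg, ?_⟩
  intro f
  have hloc : IsLocalization.Away g Γ(X, X.basicOpen g) := hU.isLocalization_basicOpen g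
  obtain ⟨⟨a, ⟨_, n, rfl⟩⟩, han⟩ := IsLocalization.surj (Submonoid.powers g)
    (X.presheaf.map (homOfLE hgW).op f)
  simp only at han
  have hgU : X.basicOpen g ≤ U := X.basicOpen_le g
  refine ⟨a, n, ?_⟩
  intro x hx
  have h1 := congrArg (evHom x (X.basicOpen g) hx) han
  rw [map_mul, RingHom.algebraMap_toAlgebra] at h1
  simp only [evHom_apply] at h1
  rw [Groth.Agent.H21.ev_res x hgW hx f] at h1
  have h2 : x.ev (X.basicOpen g) hx
      ((X.presheaf.map (homOfLE (X.basicOpen_le g)).op).hom (g ^ n)) =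
        (x.ev U (hgU hx) g) ^ n := by
    rw [map_pow]
    have := Groth.Agent.H21.ev_res x (X.basicOpen_le g) hx g
    rw [← evHom_apply, map_pow, evHom_apply]
    rw [this]
  have h3 : x.ev (X.basicOpen g) hx
      ((X.presheaf.map (homOfLE (X.basicOpen_le g)).op).hom a) = x.ev U (hgU hx) a :=
    Groth.Agent.H21.ev_res x (X.basicOpen_le g) hx a
  rw [h2, h3] at h1
  exact h1

variable (n : ℕ)

/-- the coordinate map -/
noncomputable def kap (x : An.Pts (𝔸(Fin n; An.SC))) : Fin n → ℂ :=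
  fun i => x.evTop (AffineSpace.coord An.SC i)

theorem isHomeomorph_kap : IsHomeomorph (kap n) := Groth.Agent.S4183.result n

/-- the coordinate homeomorphism -/
noncomputable def kapHomeo : An.Pts (𝔸(Fin n; An.SC)) ≃ₜ (Fin n → ℂ) :=
  (isHomeomorph_kap n).homeomorph (kap n)

theorem kapHomeo_apply (x : An.Pts (𝔸(Fin n; An.SC))) : kapHomeo n x = kap n x := rfl

open Classical in
/-- extension by zero of a function on an open set of points, transported to `ℂⁿ` -/
noncomputable def ext (V : Opens (An.Pts (𝔸(Fin n; An.SC)))) (h : V → ℂ) : (Fin n → ℂ) → ℂ :=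
  fun z => if hz : (kapHomeo n).symm z ∈ V then h ⟨(kapHomeo n).symm z, hz⟩ else 0

theorem ext_apply (V : Opens (An.Pts (𝔸(Fin n; An.SC)))) (h : V → ℂ) (y : V) :
    ext n V h (kap n y.1) = h y := by
  have h1 : (kapHomeo n).symm (kap n y.1) = y.1 := (kapHomeo n).symm_apply_apply y.1
  unfold ext
  rw [dif_pos (by rw [h1]; exact y.2)]
  congr 1
  exact Subtype.ext h1

theorem ext_add (V : Opens (An.Pts (𝔸(Fin n; An.SC)))) (h₁ h₂ : V → ℂ) :
    ext n V (h₁ + h₂) = ext n V h₁ + ext n V h₂ := by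
  funext z
  unfold ext
  by_cases hz : (kapHomeo n).symm z ∈ V
  · simp only [Pi.add_apply, dif_pos hz]
  · simp only [Pi.add_apply, dif_neg hz, add_zero]

theorem ext_mul (V : Opens (An.Pts (𝔸(Fin n; An.SC)))) (h₁ h₂ : V → ℂ) :
    ext n V (h₁ * h₂) = ext n V h₁ * ext n V h₂ := by
  funext z
  unfold ext
  by_cases hz : (kapHomeo n).symm z ∈ V
  · simp only [Pi.mul_apply, dif_pos hz]
  · simp only [Pi.mul_apply, dif_neg hz, mul_zero]

theorem diffOn_of_isChartFun (V : Opens (An.Pts (𝔸(Fin n; An.SC)))) (h : V → ℂ)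
    (hc : An.IsChartFun (X := 𝔸(Fin n; An.SC)) V h) :
    DifferentiableOn ℂ (ext n V h) (kap n '' (V : Set (An.Pts (𝔸(Fin n; An.SC))))) := by
  obtain ⟨W, hW, m, s, Vset, G', hVopen, hG', hval⟩ := hc
  rintro z₀ ⟨y₀, hy₀, rfl⟩
  apply DifferentiableAt.differentiableWithinAt
  obtain ⟨q, hqW, hy₀q, hfrac⟩ := exists_frac (X := 𝔸(Fin n; An.SC)) ⊤
    (isAffineOpen_top _) W y₀ (hW ⟨y₀, hy₀⟩) (Opens.mem_top _)
  choose a k hak using hfrac
  obtain ⟨Q, hQ⟩ := (Groth.Agent.S4183.bijective_eval₂Hom_coord n).2 q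
  choose P hP using fun i => (Groth.Agent.S4183.bijective_eval₂Hom_coord n).2 (a (s i))
  have evq : ∀ y : An.Pts (𝔸(Fin n; An.SC)), y.evTop q = MvPolynomial.eval (kap n y) Q := by
    intro y
    rw [← hQ]
    exact evTop_eval₂Hom _ y Q
  have eva : ∀ (y : An.Pts (𝔸(Fin n; An.SC))) (i : Fin m),
      y.evTop (a (s i)) = MvPolynomial.eval (kap n y) (P i) := by
    intro y i
    rw [← hP i]
    exact evTop_eval₂Hom _ y (P i)
  let S : (Fin n → ℂ) → (Fin m → ℂ) := fun z i =>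
    MvPolynomial.eval z (P i) * ((MvPolynomial.eval z Q) ^ (k (s i)))⁻¹
  have hq0 : ∀ (y : An.Pts (𝔸(Fin n; An.SC))), y.pt ∈ (𝔸(Fin n; An.SC)).basicOpen q →
      MvPolynomial.eval (kap n y) Q ≠ 0 := by
    intro y hy
    rw [← evq]
    exact (mem_basicOpen_iff y ⊤ (Opens.mem_top _) q).1 hy
  have hS : ∀ (y : An.Pts (𝔸(Fin n; An.SC))) (hy : y.pt ∈ (𝔸(Fin n; An.SC)).basicOpen q),
      (fun i => y.ev W (hqW hy) (s i)) = S (kap n y) := by
    intro y hy
    funext i
    have h1 := hak (s i) y hy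
    change _ = MvPolynomial.eval (kap n y) (P i) * ((MvPolynomial.eval (kap n y) Q) ^ (k (s i)))⁻¹
    rw [← eva, ← evq, eq_mul_inv_iff_mul_eq₀ (pow_ne_zero _ (by rw [evq]; exact hq0 y hy))]
    exact h1
  have hSdiff : DifferentiableAt ℂ S (kap n y₀) := by
    rw [differentiableAt_pi]
    intro i
    exact ((differentiable_eval (P i)).differentiableAt).mul
      ((((differentiable_eval Q).differentiableAt).pow _).inv (pow_ne_zero _ (hq0 y₀ hy₀q)))
  have hSV : S (kap n y₀) ∈ Vset := by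
    rw [← hS y₀ hy₀q]
    exact (hval ⟨y₀, hy₀⟩).1
  have hG'diff : DifferentiableAt ℂ G' (S (kap n y₀)) :=
    (hG' _ hSV).differentiableAt (hVopen.mem_nhds hSV)
  have hcomp : DifferentiableAt ℂ (G' ∘ S) (kap n y₀) := hG'diff.comp _ hSdiff
  refine hcomp.congr_of_eventuallyEq ?_
  have hN : kap n '' ((V : Set (An.Pts (𝔸(Fin n; An.SC)))) ∩
      ptsIn ((𝔸(Fin n; An.SC)).basicOpen q)) ∈ 𝓝 (kap n y₀) :=
    ((isHomeomorph_kap n).isOpenMap _ (V.2.inter (isOpen_ptsIn _))).mem_nhds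
      ⟨y₀, ⟨hy₀, hy₀q⟩, rfl⟩
  filter_upwards [hN] with z hz
  obtain ⟨y, ⟨hyV, hyq⟩, rfl⟩ := hz
  rw [ext_apply n V h ⟨y, hyV⟩, Function.comp_apply, ← hS y hyq]
  exact (hval ⟨y, hyV⟩).2

theorem diffOn_of_mem_chartAlg (V : Opens (An.Pts (𝔸(Fin n; An.SC)))) (h : V → ℂ)
    (hc : h ∈ An.chartAlg (X := 𝔸(Fin n; An.SC)) V) :
    DifferentiableOn ℂ (ext n V h) (kap n '' (V : Set (An.Pts (𝔸(Fin n; An.SC))))) := by
  unfold An.chartAlg at hc
  induction hc using Algebra.adjoin_induction with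
  | mem h hh => exact diffOn_of_isChartFun n V h hh
  | algebraMap c =>
    refine (differentiableOn_const (c := c)).congr ?_
    rintro z ⟨y, hy, rfl⟩
    exact ext_apply n V _ ⟨y, hy⟩
  | add h₁ h₂ _ _ ih₁ ih₂ =>
    exact (ih₁.add ih₂).congr (fun z _ => congrFun (ext_add n V h₁ h₂) z)
  | mul h₁ h₂ _ _ ih₁ ih₂ =>
    exact (ih₁.mul ih₂).congr (fun z _ => congrFun (ext_mul n V h₁ h₂) z)

end helpers

/-- A sanity check of the definition of holomorphic functions: for an open set U of complex points of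
affine n-space over ℂ and g : U → ℂ, g is holomorphic (satisfies the local predicate An.holPred of
the prelude) if and only if g = G ∘ (coordinates) for some G : ℂ^n → ℂ complex-differentiable on the
image of U in ℂ^n. -/
theorem result (n : ℕ) (U : TopologicalSpace.Opens (An.Pts (𝔸(Fin n; An.SC))))
    (g : U → ℂ) :
    (An.holPred (𝔸(Fin n; An.SC))).pred g ↔
      ∃ G : (Fin n → ℂ) → ℂ,
        DifferentiableOn ℂ G ((fun (x : An.Pts (𝔸(Fin n; An.SC))) (i : Fin n) =>
          x.evTop (AffineSpace.coord An.SC i)) '' (U : Set (An.Pts (𝔸(Fin n; An.SC))))) ∧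
        ∀ x : U, g x = G (fun i => (x : An.Pts (𝔸(Fin n; An.SC))).evTop (AffineSpace.coord An.SC i)) := by
  constructor
  · intro hg
    refine ⟨ext n U g, ?_, fun x => (ext_apply n U g x).symm⟩
    rintro z₀ ⟨x₀, hx₀, rfl⟩
    have hg' : ∀ x : U, ∃ (V : Opens (An.Pts (𝔸(Fin n; An.SC)))) (_ : x.1 ∈ V) (i : V ⟶ U),
        (fun y : V => g ⟨y.1, i.le y.2⟩) ∈ An.chartAlg (X := 𝔸(Fin n; An.SC)) V := hg
    obtain ⟨V', hxV', i, hV'⟩ := hg' ⟨x₀, hx₀⟩
    have h1 := diffOn_of_mem_chartAlg n V' _ hV'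
    have hopen : IsOpen (kap n '' (V' : Set (An.Pts (𝔸(Fin n; An.SC))))) :=
      (isHomeomorph_kap n).isOpenMap _ V'.2
    have hmem : kap n x₀ ∈ kap n '' (V' : Set (An.Pts (𝔸(Fin n; An.SC)))) := ⟨x₀, hxV', rfl⟩
    have h2 : DifferentiableAt ℂ (ext n V' fun y : V' => g ⟨y.1, i.le y.2⟩) (kap n x₀) :=
      (h1 _ hmem).differentiableAt (hopen.mem_nhds hmem)
    apply DifferentiableAt.differentiableWithinAt
    refine h2.congr_of_eventuallyEq ?_
    filter_upwards [hopen.mem_nhds hmem] with z hz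
    obtain ⟨y, hy, rfl⟩ := hz
    rw [ext_apply n V' _ ⟨y, hy⟩]
    exact ext_apply n U g ⟨y, i.le hy⟩
  · rintro ⟨G, hG, hgG⟩
    apply An.holPred_of_chartAlg
    apply Algebra.subset_adjoin
    refine ⟨⊤, fun _ => Opens.mem_top _, n, fun i => AffineSpace.coord An.SC i,
      kap n '' (U : Set (An.Pts (𝔸(Fin n; An.SC)))), G,
      (isHomeomorph_kap n).isOpenMap _ U.2, hG, fun x => ⟨⟨x.1, x.2, rfl⟩, hgG x⟩⟩

end Groth.Agent.S4307
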