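import Groth.Statements.S4329
import Groth.Agent.H5.KInj.DerivedAdj
import Groth.Agent.H3.KInj
import Groth.Agent.H45.EtPullExact
import Mathlib
-- import your own Groth.Agent.* helpers here

set_option autoImplicit false
universe u
open CategoryTheory CategoryTheory.Limits AlgebraicGeometry Opposite
attribute [local instance] HasDerivedCategory.standard
open EtSix

namespace Groth.Agent.S4329

open Groth.Agent.H5.KInjDer

/-- `f_*` of abelian etale sheaves preserves K-injective complexes. -/
theorem isKInjective_push {X Y : Scheme.{u}} (f : X ⟶ Y) (I : CochainComplex (EtCoh.Ab X) ℤ)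
    (hI : I.IsKInjective) :
    CochainComplex.IsKInjective
      (((EtCoh.push f).mapHomologicalComplex (ComplexShape.up ℤ)).obj I) := by
  have : PreservesFiniteLimits (EtCoh.pull f) := Groth.Agent.H45.preservesFiniteLimits_pullAb f
  have : PreservesFiniteColimits (EtCoh.pull f) := by
    have : PreservesColimitsOfSize.{0, 0} (EtCoh.pull f) :=
      (EtCoh.pullPushAdj f).leftAdjoint_preservesColimits
    exact PreservesColimitsOfSize.preservesFiniteColimits _
  have : (EtCoh.pull f).Additive := (EtCoh.pullPushAdj f).left_adjoint_additive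
  exact Groth.Agent.H3.isKInjective_of_rightAdjoint (EtCoh.push f) (EtCoh.pull f)
    (EtCoh.pullPushAdj f) I hI

theorem result {X Y Z : Scheme.{u}} (f : X ⟶ Y) (g : Y ⟶ Z)
    [DCoh.HasRpushEt X f] [DCoh.HasRpushEt Y g] [DCoh.HasRpushEt X (f ≫ g)] :
    IsIso (EtSix.compMap f g) := by
  have : ∀ K : DCoh.DEt X, IsIso ((EtSix.compMap f g).app K) := by
    intro K
    obtain ⟨I, φ, hI, hφ, -, -⟩ := Groth.Agent.S0476.result (DerivedCategory.Q.objPreimage K)
    have := hI
    have := hφ
    let K₀ := (HomotopyCategory.quotient (EtCoh.Ab X) (ComplexShape.up ℤ)).obj I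
    let e' : DerivedCategory.Qh.obj K₀ ≅ K :=
      (DerivedCategory.quotientCompQhIso _).app I ≪≫ (asIso (DerivedCategory.Q.map φ)).symm ≪≫
        DerivedCategory.Q.objObjPreimageIso K
    refine (NatTrans.isIso_app_iff_of_iso (EtSix.compMap f g) e').1 ?_
    have fac := Functor.rightDerived_fac_app (DCoh.RpushEt X (f ≫ g))
      ((DCoh.pushEtKh X (f ≫ g)).totalRightDerivedUnit DerivedCategory.Qh
        (HomotopyCategory.quasiIso (EtCoh.Ab X) (ComplexShape.up ℤ)))
      (HomotopyCategory.quasiIso (EtCoh.Ab X) (ComplexShape.up ℤ))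
      (DCoh.RpushEt X f ⋙ DCoh.RpushEt Y g) (EtSix.compUnit f g) K₀
    have h1 : IsIso (((DCoh.pushEtKh X (f ≫ g)).totalRightDerivedUnit DerivedCategory.Qh
        (HomotopyCategory.quasiIso (EtCoh.Ab X) (ComplexShape.up ℤ))).app K₀) :=
      isIso_app_quotient_of_isKInjective _ _ _ I
    have h2 : IsIso (((DCoh.pushEtKh X f).totalRightDerivedUnit DerivedCategory.Qh
        (HomotopyCategory.quasiIso (EtCoh.Ab X) (ComplexShape.up ℤ))).app K₀) :=
      isIso_app_quotient_of_isKInjective _ _ _ I
    have hfI := isKInjective_push f I hI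
    have h3 : IsIso (((DCoh.pushEtKh Y g).totalRightDerivedUnit DerivedCategory.Qh
        (HomotopyCategory.quasiIso (EtCoh.Ab Y) (ComplexShape.up ℤ))).app
        ((HomotopyCategory.quotient (EtCoh.Ab Y) (ComplexShape.up ℤ)).obj
          (((EtCoh.push f).mapHomologicalComplex (ComplexShape.up ℤ)).obj I))) :=
      isIso_app_quotient_of_isKInjective _ _ _ _
    have h3' : IsIso (((DCoh.pushEtKh Y g).totalRightDerivedUnit DerivedCategory.Qh
        (HomotopyCategory.quasiIso (EtCoh.Ab Y) (ComplexShape.up ℤ))).app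
        (((EtCoh.push f).mapHomotopyCategory (ComplexShape.up ℤ)).obj K₀)) := h3
    have h4 : IsIso (NatTrans.mapHomotopyCategory (EtCoh.pushComp g f).inv (ComplexShape.up ℤ)) :=
      ⟨⟨NatTrans.mapHomotopyCategory (EtCoh.pushComp g f).hom (ComplexShape.up ℤ), by
        rw [← NatTrans.mapHomotopyCategory_comp, Iso.inv_hom_id, NatTrans.mapHomotopyCategory_id],
        by rw [← NatTrans.mapHomotopyCategory_comp, Iso.hom_inv_id,
          NatTrans.mapHomotopyCategory_id]⟩⟩
    have h5 : IsIso ((EtSix.compUnit f g).app K₀) := by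
      rw [EtSix.compUnit]
      simp only [NatTrans.comp_app, Functor.whiskerRight_app, Functor.whiskerLeft_app,
        Functor.associator_hom_app, Functor.associator_inv_app, Category.id_comp,
        Category.comp_id]
      infer_instance
    unfold EtSix.compMap
    exact IsIso.of_isIso_fac_left fac
  exact NatIso.isIso_of_isIso_app _

end Groth.Agent.S4329
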