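import Groth.Statements.S4336
import Groth.Agent.H22.Admissible

set_option autoImplicit false
universe u
open LinTop

namespace Groth.Agent.S4336

/-- Let A be an admissible ring and J an ideal of definition of A. An element of A is invertible if and
only if its image in A/J is invertible. -/
theorem result
    (A : Type u) [CommRing A] [UniformSpace A] [IsUniformAddGroup A] [IsTopologicalRing A]
    (hA : LinTop.IsAdmissible A) (J : Ideal A) (hJ : LinTop.IsIdealOfDefinition A J) (f : A) :
    IsUnit f ↔ IsUnit (Ideal.Quotient.mk J f) := by
  constructor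
  · intro h
    exact h.map _
  · intro h
    obtain ⟨g, hg⟩ := Ideal.Quotient.mk_surjective (h.unit⁻¹ : (A ⧸ J)ˣ).val
    have h1 : Ideal.Quotient.mk J (f * g) = 1 := by
      rw [map_mul, hg]
      exact h.mul_val_inv
    have h2 : f * g - 1 ∈ J := by
      rw [← Ideal.Quotient.eq_zero_iff_mem, map_sub, h1, map_one, sub_self]
    have h3 : IsUnit (f * g) := Ideal.isUnit_of_sub_one_mem_jacobson_bot _
      (Groth.Agent.H22.le_jacobson_bot_of_isIdealOfDefinition hA hJ h2)
    exact isUnit_of_mul_isUnit_left h3

end Groth.Agent.S4336
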