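import Groth.Statements.S4338
import Groth.Agent.H22.Admissible
import Mathlib.RingTheory.AdicCompletion.Basic
import Mathlib.RingTheory.Finiteness.Ideal

set_option autoImplicit false
universe u
open LinTop

namespace Groth.Agent.S4338

open Filter Topology

/-- Elements of `span t * L` are combinations of the elements of `t` with coefficients in `L`. -/
theorem exists_sum_of_mem_span_mul {A : Type*} [CommRing A] (t : Finset A) (L : Ideal A) {x : A}
    (hx : x ∈ Ideal.span (t : Set A) * L) :
    ∃ d : A → A, (∀ a, d a ∈ L) ∧ x = ∑ a ∈ t, a * d a := by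
  refine Submodule.mul_induction_on hx ?_ ?_
  · intro r hr l hl
    obtain ⟨c, -, rfl⟩ := Submodule.mem_span_finset.mp hr
    refine ⟨fun a => c a * l, fun a => L.mul_mem_left _ hl, ?_⟩
    rw [Finset.sum_mul]
    refine Finset.sum_congr rfl fun a _ => ?_
    simp only [smul_eq_mul]
    ring
  · rintro x y ⟨d, hd, rfl⟩ ⟨d', hd', rfl⟩
    refine ⟨fun a => d a + d' a, fun a => L.add_mem (hd a) (hd' a), ?_⟩
    rw [← Finset.sum_add_distrib]
    refine Finset.sum_congr rfl fun a _ => ?_
    ring

/-- For a finitely generated ideal. Let A be an admissible ring and I a finitely generated ideal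
contained in an ideal of definition of A. Then A is separated and complete for the I-adic topology.
(The published statement has no finiteness hypothesis on I and is then not correct: the completion
of a polynomial ring in countably many variables over a field along the ideal generated by the
variables, with its inverse-limit topology, is admissible, the kernel of its projection onto the
field is an ideal of definition, and the ring is not adically complete for that kernel.) -/
theorem result
    (A : Type u) [CommRing A] [UniformSpace A] [IsUniformAddGroup A] [IsTopologicalRing A]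
    (hA : LinTop.IsAdmissible A) (J : Ideal A) (hJ : LinTop.IsIdealOfDefinition A J)
    (I : Ideal A) (hI : I.FG) (hIJ : I ≤ J) :
    IsAdicComplete I A := by
  obtain ⟨⟨hlin, -⟩, hT2, hC⟩ := hA
  have hna := Groth.Agent.H22.nonarchimedeanAddGroup_of_isLinearTopology A
  -- powers of `I` tend to zero
  have hsmall : ∀ U ∈ 𝓝 (0 : A), ∃ m : ℕ, ∀ k, m ≤ k → ((I ^ k : Ideal A) : Set A) ⊆ U := by
    intro U hU
    obtain ⟨m, -, hm⟩ := hJ.2 U hU
    refine ⟨m, fun k hk x hx => hm ?_⟩
    exact Ideal.pow_le_pow_right hk (Ideal.pow_right_mono hIJ k hx)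
  have htend : ∀ (e : ℕ → A), (∀ j, e j ∈ I ^ j) → Tendsto e atTop (𝓝 0) := by
    intro e he
    rw [tendsto_def]
    intro U hU
    obtain ⟨m, hm⟩ := hsmall U hU
    rw [mem_atTop_sets]
    exact ⟨m, fun k hk => hm k hk (he k)⟩
  have hsummable : ∀ (e : ℕ → A), (∀ j, e j ∈ I ^ j) → Summable e := by
    intro e he
    apply NonarchimedeanAddGroup.summable_of_tendsto_cofinite_zero
    rw [Nat.cofinite_eq_atTop]
    exact htend e he
  refine @IsAdicComplete.mk _ _ _ _ _ _ ⟨?_⟩ ⟨?_⟩
  · -- Hausdorff
    intro x hx
    have hx' : ∀ n, x ∈ I ^ n := by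
      intro n
      have := hx n
      rw [SModEq.zero, smul_eq_mul, Ideal.mul_top] at this
      exact this
    have : x ⤳ (0 : A) := by
      rw [specializes_iff_pure]
      intro U hU
      obtain ⟨m, hm⟩ := hsmall U hU
      exact hm m le_rfl (hx' m)
    exact this.eq
  · -- precomplete
    intro f hf
    have hf' : ∀ {m n}, m ≤ n → f n - f m ∈ I ^ m := by
      intro m n hmn
      have := (hf hmn).symm
      rw [SModEq.sub_mem, smul_eq_mul, Ideal.mul_top] at this
      exact this
    have hcauchy : CauchySeq f := by
      apply NonarchimedeanAddGroup.cauchySeq_of_tendsto_sub_nhds_zero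
      exact htend _ fun j => hf' (Nat.le_succ j)
    obtain ⟨L, hL⟩ := cauchySeq_tendsto_of_complete hcauchy
    refine ⟨L, fun n => ?_⟩
    rw [SModEq.sub_mem, smul_eq_mul, Ideal.mul_top]
    obtain ⟨t, ht⟩ := Ideal.FG.pow (n := n) hI
    have hg : ∀ j : ℕ, ∃ d : A → A, (∀ a, d a ∈ I ^ j) ∧
        f (j + 1 + n) - f (j + n) = ∑ a ∈ t, a * d a := by
      intro j
      apply exists_sum_of_mem_span_mul
      rw [ht, ← pow_add]
      exact Ideal.pow_le_pow_right (by omega) (hf' (show j + n ≤ j + 1 + n by omega))
    choose d hd hg using hg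
    have hD : ∀ a, HasSum (fun j => d j a) (∑' j, d j a) := fun a =>
      (hsummable _ fun j => hd j a).hasSum
    have hsum : HasSum (fun j => f (j + 1 + n) - f (j + n)) (∑ a ∈ t, a * ∑' j, d j a) := by
      simp_rw [hg]
      exact hasSum_sum fun a _ => (hD a).mul_left a
    have h1 := hsum.tendsto_sum_nat
    have h2 : ∀ m : ℕ, ∑ j ∈ Finset.range m, (f (j + 1 + n) - f (j + n)) = f (m + n) - f n := by
      intro m
      have := Finset.sum_range_sub (fun j => f (j + n)) m
      simpa using this
    simp_rw [h2] at h1
    have h3 : Tendsto (fun m => f (m + n) - f n) atTop (𝓝 (L - f n)) :=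
      ((tendsto_add_atTop_iff_nat n).mpr hL).sub_const _
    have h4 := tendsto_nhds_unique h1 h3
    have h5 : L - f n ∈ I ^ n := by
      rw [← h4, ← ht]
      exact Submodule.sum_mem _ fun a ha => Ideal.mul_mem_right _ _ (Ideal.subset_span ha)
    have : f n - L = -(L - f n) := by ring
    rw [this]
    exact neg_mem h5

end Groth.Agent.S4338
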