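import Mathlib
import Groth.Statements.S4342
import Groth.Agent.H22.FTExtZorn

set_option autoImplicit false
set_option linter.style.haveILetI false
universe u
open CategoryTheory CategoryTheory.Limits AlgebraicGeometry TopologicalSpace Opposite
open QCohSup

namespace Groth.Agent.S4342

open Groth.Agent.H22 Groth.Agent.H22.SubSh Groth.Agent.H8 in
open AlgebraicGeometry in
open CategoryTheory in
open Opposite in
/-- In the sectionwise form its proof gives. Let X be a scheme whose underlying space is locally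
Noetherian and F a quasi-coherent O_X-module. For every affine open U and every section s of F over
U there is a quasi-coherent sub-O_X-module of finite type of F having s among its sections over U;
hence F is the inductive limit of its quasi-coherent submodules of finite type. -/
theorem result
    {X : Scheme.{u}}
    (hX : ∀ x : X, ∃ U : X.Opens, x ∈ U ∧ TopologicalSpace.NoetherianSpace (U : Set X))
    (F : X.Modules) [Coh.IsQCoh F]
    (U : X.affineOpens) (s : F.val.obj (op (U : X.Opens))) :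
    ∃ (G' : X.Modules) (i' : G' ⟶ F), Mono i' ∧ Coh.IsQCoh G' ∧ CohB1.IsFT G' ∧
      ∃ g : G'.val.obj (op (U : X.Opens)), (i'.val.app (op (U : X.Opens))).hom g = s := by
  haveI : F.IsQuasicoherent := ‹Coh.IsQCoh F›
  have hN := isCompact_inf_of_locallyNoetherian hX
  obtain ⟨s', hs'⟩ : ∃ s' : Γ(F, U.1), s' = s := ⟨s, rfl⟩
  have hbot : IsCompact (((⊥ : X.Opens) ⊓ U.1 : X.Opens) : Set X) := by
    have h1 : (((⊥ : X.Opens) ⊓ U.1 : X.Opens) : Set X) = ∅ := by simp
    rw [h1]
    exact isCompact_empty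
  obtain ⟨K₁, hK₁, -, -, hfg₁, hs₁⟩ := (top F).exists_shrink QC_top ⊥ (ftOn_bot _) U.1 U.2
    hbot (fun A hA => hN A hA U.1) (fun _ : PUnit.{u + 1} => s') (fun _ => trivial)
  have hft₁ : K₁.FTOn U.1 := K₁.ftOn_of_fg hK₁ U.2 hfg₁
  have hsatle : ∀ A : X.Opens, A ≤ U.1 → ∀ x : Γ(F, A),
      (SubSh.sat U.1 K₁).mem A x ↔ K₁.mem A x := fun A hA x => mem_sat_iff_of_le hA K₁ x
  obtain ⟨K', hK', hft', hagree⟩ :=
    exists_ft_extension hN (SubSh.sat U.1 K₁) U.1 (sat_isSat U.1 K₁)
      (sat_QC U.1 K₁ hK₁ (fun A hA => hN A hA U.1))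
      (FTOn.congr (K := K₁) (K' := SubSh.sat U.1 K₁) hsatle hft₁)
  refine ⟨K'.toModules, K'.ι, inferInstance, K'.isQuasicoherent_toModules hK',
    K'.isFiniteType_toModules hK' hft', ?_⟩
  have hmem : K'.mem U.1 s' :=
    (hagree U.1 le_rfl s').mpr ((hsatle U.1 le_rfl s').mpr (hs₁ PUnit.unit))
  refine ⟨K'.ofSub ⟨s', hmem⟩, ?_⟩
  rw [← hs']
  rfl

end Groth.Agent.S4342
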