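import Groth.Statements.S4364
-- import your own Groth.Agent.* helpers here

set_option autoImplicit false
universe u
open FinCond

namespace Groth.Agent.S4364

open AlgebraicGeometry in
open CategoryTheory in
/-- Let X and Y be S-schemes with Y locally of finite type over S, and let f, g : X -> Y be S-morphisms.
If f x = g x for some point x and the two induced homomorphisms of local rings O_{Y, f x} -> O_{X,
x} coincide, then f and g coincide on an open neighbourhood of x. No condition is imposed on X. (The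
published statement assumes Y of finite type over S; this row assumes Y only locally of finite type
over S, which is all the published proof uses.) -/
theorem result
    {X Y S : Scheme.{u}} (sX : X ⟶ S) (sY : Y ⟶ S) [LocallyOfFiniteType sY]
    (f g : X ⟶ Y) (hf : f ≫ sY = sX) (hg : g ≫ sY = sX) {x : X} (e : f x = g x)
    (H : f.stalkMap x =
      Y.presheaf.stalkSpecializes (Inseparable.of_eq e.symm).specializes ≫ g.stalkMap x) :
    ∃ U : X.Opens, x ∈ U ∧ U.ι ≫ f = U.ι ≫ g := by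
  -- choose affine opens
  obtain ⟨_, ⟨W : S.Opens, hW, rfl⟩, hxW, -⟩ :=
    S.isBasis_affineOpens.exists_subset_of_mem_open (Set.mem_univ (sY (f x))) isOpen_univ
  obtain ⟨_, ⟨V : Y.Opens, hV, rfl⟩, hxV, hVW⟩ :=
    Y.isBasis_affineOpens.exists_subset_of_mem_open (show f x ∈ (sY ⁻¹ᵁ W : Y.Opens) from hxW)
      (sY ⁻¹ᵁ W).2
  have hxV' : g x ∈ V := e ▸ hxV
  have hVW' : V ≤ sY ⁻¹ᵁ W := hVW
  -- finite type
  have hft : (sY.appLE W V hVW').hom.FiniteType := sY.finiteType_appLE hW hV hVW'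
  let U₀ : X.Opens := f ⁻¹ᵁ V ⊓ g ⁻¹ᵁ V
  have hxU₀ : x ∈ U₀ := ⟨hxV, hxV'⟩
  have hU₀f : U₀ ≤ f ⁻¹ᵁ V := inf_le_left
  have hU₀g : U₀ ≤ g ⁻¹ᵁ V := inf_le_right
  -- germs agree
  have hgerm : ∀ t : Γ(Y, V), X.presheaf.germ U₀ x hxU₀ (f.appLE V U₀ hU₀f t) =
      X.presheaf.germ U₀ x hxU₀ (g.appLE V U₀ hU₀g t) := by
    intro t
    have h1 : f.appLE V U₀ hU₀f ≫ X.presheaf.germ U₀ x hxU₀ =
        g.appLE V U₀ hU₀g ≫ X.presheaf.germ U₀ x hxU₀ := by
      simp only [Scheme.Hom.appLE, Category.assoc, X.presheaf.germ_res']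
      rw [← Scheme.Hom.germ_stalkMap f V x hxV, ← Scheme.Hom.germ_stalkMap g V x hxV', H]
      simp only [TopCat.Presheaf.germ_stalkSpecializes_assoc]
    exact congr($h1 t)
  -- for each t, find a neighbourhood where they agree
  have hloc : ∀ t : Γ(Y, V), ∃ (U' : X.Opens) (_ : x ∈ U') (hU' : U' ≤ U₀),
      f.appLE V U' (hU'.trans hU₀f) t = g.appLE V U' (hU'.trans hU₀g) t := by
    intro t
    obtain ⟨U', hxU', i1, i2, h⟩ := X.presheaf.germ_eq x hxU₀ hxU₀ _ _ (hgerm t)
    refine ⟨U', hxU', i1.le, ?_⟩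
    have e1 := congr($(f.appLE_map hU₀f i1.op) t)
    have e2 := congr($(g.appLE_map hU₀g i2.op) t)
    simp only [CommRingCat.comp_apply] at e1 e2
    rw [← e1, ← e2]
    exact h
  choose Ut hxUt hUt hUteq using hloc
  algebraize [(sY.appLE W V hVW').hom]
  obtain ⟨s, hs⟩ := hft
  let U : X.Opens := s.inf Ut ⊓ U₀
  have hxU : x ∈ U := by
    rw [← SetLike.mem_coe, TopologicalSpace.Opens.coe_inf, TopologicalSpace.Opens.coe_finset_inf]
    exact ⟨by simpa using fun t _ ↦ hxUt t, hxU₀⟩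
  have hUU₀ : U ≤ U₀ := inf_le_right
  refine ⟨U, hxU, ?_⟩
  have hUW : U ≤ sX ⁻¹ᵁ W := by
    intro z hz
    have hz' : f z ∈ V := hU₀f (hUU₀ hz)
    have : sY (f z) ∈ W := hVW' hz'
    rw [← hf]
    exact this
  have cf : sY.appLE W V hVW' ≫ f.appLE V U (hUU₀.trans hU₀f) = sX.appLE W U hUW := by
    rw [Scheme.Hom.appLE_comp_appLE]
    subst hf
    rfl
  have cg : sY.appLE W V hVW' ≫ g.appLE V U (hUU₀.trans hU₀g) = sX.appLE W U hUW := by
    rw [Scheme.Hom.appLE_comp_appLE]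
    subst hg
    rfl
  have key : f.appLE V U (hUU₀.trans hU₀f) = g.appLE V U (hUU₀.trans hU₀g) := by
    let _ : Algebra Γ(S, W) Γ(X, U) := (sX.appLE W U hUW).hom.toAlgebra
    let φf : Γ(Y, V) →ₐ[Γ(S, W)] Γ(X, U) :=
      { (f.appLE V U (hUU₀.trans hU₀f)).hom with
        commutes' := fun r => congr($cf r) }
    let φg : Γ(Y, V) →ₐ[Γ(S, W)] Γ(X, U) :=
      { (g.appLE V U (hUU₀.trans hU₀g)).hom with
        commutes' := fun r => congr($cg r) }
    have hφ : φf = φg := by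
      apply AlgHom.ext_of_adjoin_eq_top hs
      intro t ht
      have hUt' : U ≤ Ut t := inf_le_left.trans (Finset.inf_le ht)
      have e1 := congr($(f.appLE_map ((hUt t).trans hU₀f) (homOfLE hUt').op) t)
      have e2 := congr($(g.appLE_map ((hUt t).trans hU₀g) (homOfLE hUt').op) t)
      simp only [CommRingCat.comp_apply] at e1 e2
      change f.appLE V U _ t = g.appLE V U _ t
      rw [← e1, ← e2, hUteq t]
    ext t
    exact congr($hφ t)
  rw [← Scheme.Hom.resLE_comp_ι _ (hUU₀.trans hU₀f),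
    ← Scheme.Hom.resLE_comp_ι _ (hUU₀.trans hU₀g)]
  congr 1
  have : IsAffine V := hV
  suffices ∀ (U₁ V₁) (eU : U = U₁) (eV : V = V₁),
      f.appLE V₁ U₁ (eU ▸ eV ▸ hUU₀.trans hU₀f) =
        g.appLE V₁ U₁ (eU ▸ eV ▸ hUU₀.trans hU₀g) by
    rw [← cancel_mono V.toScheme.isoSpec.hom]
    simp only [Scheme.isoSpec, asIso_hom, Scheme.toSpecΓ_naturality,
      Scheme.Hom.app_eq_appLE, Scheme.Hom.resLE_appLE]
    congr 2
    apply this <;> simp
  rintro _ _ rfl rfl
  exact key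

end Groth.Agent.S4364
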