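import Groth.Statements.S4344


set_option autoImplicit false
universe u
open RatMapD

namespace Groth.Agent.S4344

open AlgebraicGeometry CategoryTheory Scheme Limits

section

variable (S : Scheme.{u}) {X Y : Scheme.{u}} [X.Over S] [Y.Over S]

/-- The `S`-partial maps representing a rational map. -/
abbrev Rep (f : X ⤏ Y) : Type u := { h : X.PartialMap Y // h.IsOver S ∧ h.toRationalMap = f }

/-- The union of the domains of all `S`-representatives. -/
def domainS (f : X ⤏ Y) : X.Opens := ⨆ h : Rep S f, h.1.domain

set_option backward.isDefEq.respectTransparency false in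
/-- The cover of `domainS` by the domains of the representatives. -/
noncomputable def coverS (f : X ⤏ Y) : (domainS S f).toScheme.OpenCover where
  I₀ := Rep S f
  X h := h.1.domain.toScheme
  f h := X.homOfLE (le_iSup (fun h : Rep S f => h.1.domain) h)
  mem₀ := by
    rw [presieve₀_mem_precoverage_iff]
    refine ⟨fun x ↦ ?_, inferInstance⟩
    obtain ⟨h, hx⟩ := TopologicalSpace.Opens.mem_iSup.mp x.2
    exact ⟨h, ⟨x.1, hx⟩, Subtype.ext (by simp)⟩

variable [IsReduced X] [IsSeparated (Y ↘ S)]

set_option backward.isDefEq.respectTransparency false in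
theorem glue_compat (f : X ⤏ Y) (x y : Rep S f) :
    pullback.fst ((coverS S f).f x) ((coverS S f).f y) ≫ x.1.hom =
      pullback.snd ((coverS S f).f x) ((coverS S f).f y) ≫ y.1.hom := by
  refine (cancel_epi (isPullback_opens_inf_le (le_iSup (fun h : Rep S f => h.1.domain) x)
    (le_iSup (fun h : Rep S f => h.1.domain) y)).isoPullback.hom).mp ?_
  simp only [coverS, IsPullback.isoPullback_hom_fst_assoc, IsPullback.isoPullback_hom_snd_assoc]
  have := x.2.1
  have := y.2.1
  exact (PartialMap.equiv_iff_of_isSeparated (S := S) (f := x.1) (g := y.1)).mp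
    (by rw [← PartialMap.toRationalMap_eq_iff, x.2.2, y.2.2])

/-- The glued morphism. -/
noncomputable def glued (f : X ⤏ Y) : (domainS S f).toScheme ⟶ Y :=
  (coverS S f).glueMorphisms (fun h => h.1.hom) (glue_compat S f)

theorem ι_glued (f : X ⤏ Y) (h : Rep S f) (hle : h.1.domain ≤ domainS S f) :
    X.homOfLE hle ≫ glued S f = h.1.hom :=
  (coverS S f).ι_glueMorphisms _ _ h

end


open AlgebraicGeometry in
open CategoryTheory in
/-- Let X be a reduced S-scheme, Y an S-scheme separated over S and f an S-rational map from X to Y.
There is a representative g of f which is an S-morphism and of which every S-morphism representing f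
is a restriction; in particular g is the unique S-morphism of the class of f defined on the largest
open where some S-representative is defined. (The published statement speaks of the domain of
definition among all representatives; over a base that is not separated that domain can be larger
than the one on which an S-representative exists, and this row takes the latter.) -/
theorem result
    (S X Y : Scheme.{u}) [X.Over S] [Y.Over S] [IsReduced X] [IsSeparated (Y ↘ S)]
    (f : X ⤏ Y) [f.IsOver S] :
    ∃ g : X.PartialMap Y, g.IsOver S ∧ g.toRationalMap = f ∧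
      ∀ h : X.PartialMap Y, h.IsOver S → h.toRationalMap = f →
        ∃ hle : h.domain ≤ g.domain, h = g.restrict h.domain h.dense_domain hle := by
  obtain ⟨h₀, hh₀S, hh₀⟩ := f.exists_partialMap_over S
  let r₀ : Rep S f := ⟨h₀, hh₀S, hh₀⟩
  have hle : ∀ h : Rep S f, h.1.domain ≤ domainS S f :=
    fun h => le_iSup (fun h : Rep S f => h.1.domain) h
  have hdense : Dense ((domainS S f : X.Opens) : Set X) := h₀.dense_domain.mono (hle r₀)
  let g : X.PartialMap Y := ⟨domainS S f, hdense, glued S f⟩
  have hres : ∀ h : Rep S f, h.1 = g.restrict h.1.domain h.1.dense_domain (hle h) := by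
    intro h
    change h.1 = ⟨h.1.domain, h.1.dense_domain, X.homOfLE (hle h) ≫ glued S f⟩
    rw [ι_glued S f h (hle h)]
  refine ⟨g, ?_, ?_, ?_⟩
  · rw [PartialMap.IsOver, Hom.isOver_iff]
    have key : ∀ h : Rep S f, X.homOfLE (hle h) ≫ glued S f ≫ (Y ↘ S) =
        X.homOfLE (hle h) ≫ (domainS S f).ι ≫ (X ↘ S) := by
      intro h
      have := h.2.1
      rw [← Category.assoc, ι_glued S f h (hle h), comp_over h.1.hom S]
      simp
    exact (coverS S f).hom_ext _ _ key
  · rw [← hh₀]
    have h1 : h₀ = g.restrict h₀.domain h₀.dense_domain (hle r₀) := hres r₀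
    rw [h1, PartialMap.restrict_toRationalMap]
  · intro h hS hf
    exact ⟨hle ⟨h, hS, hf⟩, hres ⟨h, hS, hf⟩⟩

end Groth.Agent.S4344
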