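import Groth.Statements.S4345
import Groth.Agent.H22.LocalSubringLemmas
import Mathlib.Tactic.TFAE

set_option autoImplicit false
universe u
open SchLoc

namespace Groth.Agent.S4345

/-- Let A and B be subrings of a field R, C the subring generated by A and B, and for a subring E let
L(E) be the set of local subrings E_p of R, p a prime ideal of E. The following are equivalent: (i)
for every local subring Q of R containing A and B, the localizations of A and of B at the traces of
the maximal ideal of Q coincide; (ii) for every prime ideal r of C the localizations of A and B at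
the traces of r coincide; (iii) two members of L(A) and L(B) dominated by a common local subring of
R are equal; (iv) the intersection of L(A) and L(B) is L(C). -/
theorem result
    (R : Type u) [Field R] (A B : Subring R) :
    [ ∀ (Q : LocalSubring R) (hA : A ≤ Q.toSubring) (hB : B ≤ Q.toSubring),
        LocalSubring.ofPrime A ((IsLocalRing.maximalIdeal Q.toSubring).comap (Subring.inclusion hA)) =
          LocalSubring.ofPrime B ((IsLocalRing.maximalIdeal Q.toSubring).comap (Subring.inclusion hB)),
      ∀ r : PrimeSpectrum ↥(A ⊔ B),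
        LocalSubring.ofPrime A (r.asIdeal.comap (Subring.inclusion (le_sup_left : A ≤ A ⊔ B))) =
          LocalSubring.ofPrime B (r.asIdeal.comap (Subring.inclusion (le_sup_right : B ≤ A ⊔ B))),
      ∀ (p : PrimeSpectrum A) (q : PrimeSpectrum B),
        (∃ Q : LocalSubring R, LocalSubring.ofPrime A p.asIdeal ≤ Q ∧ LocalSubring.ofPrime B q.asIdeal ≤ Q) →
          LocalSubring.ofPrime A p.asIdeal = LocalSubring.ofPrime B q.asIdeal,
      Set.range (fun p : PrimeSpectrum A ↦ LocalSubring.ofPrime A p.asIdeal) ∩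
          Set.range (fun q : PrimeSpectrum B ↦ LocalSubring.ofPrime B q.asIdeal) =
        Set.range (fun r : PrimeSpectrum ↥(A ⊔ B) ↦ LocalSubring.ofPrime (A ⊔ B) r.asIdeal) ].TFAE := by
  have hAC : A ≤ A ⊔ B := le_sup_left
  have hBC : B ≤ A ⊔ B := le_sup_right
  tfae_have 1 → 2 := by
    intro h r
    have hA : A ≤ (LocalSubring.ofPrime (A ⊔ B) r.asIdeal).toSubring :=
      hAC.trans (LocalSubring.le_ofPrime _ _)
    have hB : B ≤ (LocalSubring.ofPrime (A ⊔ B) r.asIdeal).toSubring :=
      hBC.trans (LocalSubring.le_ofPrime _ _)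
    have := h (LocalSubring.ofPrime (A ⊔ B) r.asIdeal) hA hB
    have h1 : (IsLocalRing.maximalIdeal (LocalSubring.ofPrime (A ⊔ B) r.asIdeal).toSubring).comap
        (Subring.inclusion hA) = r.asIdeal.comap (Subring.inclusion hAC) := by
      conv_rhs => rw [← Groth.Agent.H22.comap_maximalIdeal_ofPrime (A ⊔ B) r.asIdeal]
      rfl
    have h2 : (IsLocalRing.maximalIdeal (LocalSubring.ofPrime (A ⊔ B) r.asIdeal).toSubring).comap
        (Subring.inclusion hB) = r.asIdeal.comap (Subring.inclusion hBC) := by
      conv_rhs => rw [← Groth.Agent.H22.comap_maximalIdeal_ofPrime (A ⊔ B) r.asIdeal]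
      rfl
    rwa [Groth.Agent.H22.ofPrime_congr A h1, Groth.Agent.H22.ofPrime_congr B h2] at this
  tfae_have 2 → 1 := by
    intro h Q hA hB
    have hC : A ⊔ B ≤ Q.toSubring := sup_le hA hB
    have := h ⟨(IsLocalRing.maximalIdeal Q.toSubring).comap (Subring.inclusion hC), inferInstance⟩
    exact this
  tfae_have 1 → 3 := by
    rintro h p q ⟨Q, hp, hq⟩
    have := h Q ((LocalSubring.le_ofPrime A p.asIdeal).trans hp.1)
      ((LocalSubring.le_ofPrime B q.asIdeal).trans hq.1)
    rwa [Groth.Agent.H22.ofPrime_congr A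
        (Groth.Agent.H22.comap_maximalIdeal_of_ofPrime_le A p.asIdeal hp),
      Groth.Agent.H22.ofPrime_congr B
        (Groth.Agent.H22.comap_maximalIdeal_of_ofPrime_le B q.asIdeal hq)] at this
  tfae_have 3 → 1 := by
    intro h Q hA hB
    exact h ⟨(IsLocalRing.maximalIdeal Q.toSubring).comap (Subring.inclusion hA), inferInstance⟩
      ⟨(IsLocalRing.maximalIdeal Q.toSubring).comap (Subring.inclusion hB), inferInstance⟩
      ⟨Q, Groth.Agent.H22.ofPrime_comap_le A Q hA, Groth.Agent.H22.ofPrime_comap_le B Q hB⟩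
  tfae_have 2 → 4 := by
    intro h
    apply Set.Subset.antisymm
    · rintro Q ⟨⟨p, rfl⟩, ⟨q, hq⟩⟩
      have hC : A ⊔ B ≤ (LocalSubring.ofPrime A p.asIdeal).toSubring := by
        refine sup_le (LocalSubring.le_ofPrime _ _) ?_
        have := LocalSubring.le_ofPrime B q.asIdeal
        have hq' : LocalSubring.ofPrime B q.asIdeal = LocalSubring.ofPrime A p.asIdeal := hq
        rwa [hq'] at this
      exact ⟨⟨(IsLocalRing.maximalIdeal (LocalSubring.ofPrime A p.asIdeal).toSubring).comap
        (Subring.inclusion hC), inferInstance⟩, Groth.Agent.H22.ofPrime_comap_eq hAC p.asIdeal hC⟩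
    · rintro Q ⟨r, rfl⟩
      have hAB := h r
      -- the common value
      have hC : A ⊔ B ≤ (LocalSubring.ofPrime A (r.asIdeal.comap (Subring.inclusion hAC))).toSubring := by
        refine sup_le (LocalSubring.le_ofPrime _ _) ?_
        have := LocalSubring.le_ofPrime B (r.asIdeal.comap (Subring.inclusion hBC))
        rwa [← hAB] at this
      have hle := Groth.Agent.H22.ofPrime_comap_le_ofPrime hAC r.asIdeal
      have h1 := Groth.Agent.H22.ofPrime_comap_eq hAC (r.asIdeal.comap (Subring.inclusion hAC)) hC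
      have h2 : (IsLocalRing.maximalIdeal (LocalSubring.ofPrime A
          (r.asIdeal.comap (Subring.inclusion hAC))).toSubring).comap (Subring.inclusion hC) =
          r.asIdeal := by
        rw [Groth.Agent.H22.comap_maximalIdeal_eq_of_le hle hC]
        exact Groth.Agent.H22.comap_maximalIdeal_ofPrime (A ⊔ B) r.asIdeal
      rw [Groth.Agent.H22.ofPrime_congr (A ⊔ B) h2] at h1
      refine ⟨⟨⟨r.asIdeal.comap (Subring.inclusion hAC), inferInstance⟩, h1.symm⟩,
        ⟨⟨r.asIdeal.comap (Subring.inclusion hBC), inferInstance⟩, ?_⟩⟩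
      exact hAB.symm.trans h1.symm
  tfae_have 4 → 1 := by
    intro h Q hA hB
    have hC : A ⊔ B ≤ Q.toSubring := sup_le hA hB
    let r : PrimeSpectrum ↥(A ⊔ B) :=
      ⟨(IsLocalRing.maximalIdeal Q.toSubring).comap (Subring.inclusion hC), inferInstance⟩
    have hr : LocalSubring.ofPrime (A ⊔ B) r.asIdeal ≤ Q :=
      Groth.Agent.H22.ofPrime_comap_le (A ⊔ B) Q hC
    have hmem : LocalSubring.ofPrime (A ⊔ B) r.asIdeal ∈
        Set.range (fun r : PrimeSpectrum ↥(A ⊔ B) ↦ LocalSubring.ofPrime (A ⊔ B) r.asIdeal) :=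
      ⟨r, rfl⟩
    rw [← h] at hmem
    obtain ⟨⟨p, hp⟩, ⟨q, hq⟩⟩ := hmem
    have hp' : LocalSubring.ofPrime A p.asIdeal ≤ Q := by
      have : LocalSubring.ofPrime A p.asIdeal = LocalSubring.ofPrime (A ⊔ B) r.asIdeal := hp
      rw [this]; exact hr
    have hq' : LocalSubring.ofPrime B q.asIdeal ≤ Q := by
      have : LocalSubring.ofPrime B q.asIdeal = LocalSubring.ofPrime (A ⊔ B) r.asIdeal := hq
      rw [this]; exact hr
    rw [Groth.Agent.H22.ofPrime_congr A
        (Groth.Agent.H22.comap_maximalIdeal_of_ofPrime_le A p.asIdeal hp'),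
      Groth.Agent.H22.ofPrime_congr B
        (Groth.Agent.H22.comap_maximalIdeal_of_ofPrime_le B q.asIdeal hq')]
    exact (show LocalSubring.ofPrime A p.asIdeal = LocalSubring.ofPrime (A ⊔ B) r.asIdeal from
      hp).trans (show LocalSubring.ofPrime B q.asIdeal = LocalSubring.ofPrime (A ⊔ B) r.asIdeal from
      hq).symm
  tfae_finish

end Groth.Agent.S4345
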