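import Groth.Statements.S4346
import Mathlib

set_option autoImplicit false
universe u
open SchLoc

namespace Groth.Agent.S4346

set_option backward.isDefEq.respectTransparency false in
open AlgebraicGeometry CategoryTheory in
/-- On an integral separated scheme distinct points have distinct local rings inside the function field. -/
theorem result (X : Scheme.{u}) [IsIntegral X] [X.IsSeparated] :
    Function.Injective (fun x : X ↦ (algebraMap (X.presheaf.stalk x) X.functionField).range) := by
  intro x y hxy
  simp only at hxy
  have hgx : genericPoint X ⤳ x := (genericPoint_spec X).specializes trivial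
  have hgy : genericPoint X ⤳ y := (genericPoint_spec X).specializes trivial
  have injx := IsFractionRing.injective (X.presheaf.stalk x) X.functionField
  have injy := IsFractionRing.injective (X.presheaf.stalk y) X.functionField
  let ex : X.presheaf.stalk x ≃+* (algebraMap (X.presheaf.stalk x) X.functionField).range :=
    RingEquiv.ofBijective (algebraMap (X.presheaf.stalk x) X.functionField).rangeRestrict
      ⟨fun a b h => injx (congrArg Subtype.val h),
        (algebraMap (X.presheaf.stalk x) X.functionField).rangeRestrict_surjective⟩
  let ey : X.presheaf.stalk y ≃+* (algebraMap (X.presheaf.stalk y) X.functionField).range :=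
    RingEquiv.ofBijective (algebraMap (X.presheaf.stalk y) X.functionField).rangeRestrict
      ⟨fun a b h => injy (congrArg Subtype.val h),
        (algebraMap (X.presheaf.stalk y) X.functionField).rangeRestrict_surjective⟩
  let τ : X.presheaf.stalk y ≃+* X.presheaf.stalk x :=
    ey.trans ((RingEquiv.subringCongr hxy.symm).trans ex.symm)
  have hτ : ∀ b, algebraMap (X.presheaf.stalk x) X.functionField (τ b) =
      algebraMap (X.presheaf.stalk y) X.functionField b := by
    intro b
    have h1 : (ex (τ b) : X.functionField) = (ey b : X.functionField) := by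
      simp only [τ, RingEquiv.trans_apply, RingEquiv.apply_symm_apply]
      rfl
    exact h1
  let τhom : X.presheaf.stalk y ⟶ X.presheaf.stalk x := CommRingCat.ofHom τ.toRingHom
  have hloc : IsLocalHom τhom.hom := ⟨fun a ha => by
    have h2 : IsUnit (τ.symm (τ a)) := ha.map τ.symm
    simpa using h2⟩
  have hcomp : τhom ≫ X.presheaf.stalkSpecializes hgx = X.presheaf.stalkSpecializes hgy := by
    ext b
    exact hτ b
  have hdom : IsDominant (Spec.map (X.presheaf.stalkSpecializes hgx)) := ⟨by
    show DenseRange (PrimeSpectrum.comap (X.presheaf.stalkSpecializes hgx).hom)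
    rw [PrimeSpectrum.denseRange_comap_iff_ker_le_nilRadical]
    have hk : RingHom.ker (X.presheaf.stalkSpecializes hgx).hom = ⊥ :=
      (RingHom.injective_iff_ker_eq_bot _).mp injx
    rw [hk]
    exact bot_le⟩
  have h1 : Spec.map (X.presheaf.stalkSpecializes hgx) ≫ X.fromSpecStalk x =
      Spec.map (X.presheaf.stalkSpecializes hgx) ≫ (Spec.map τhom ≫ X.fromSpecStalk y) := by
    rw [Scheme.SpecMap_stalkSpecializes_fromSpecStalk, ← Category.assoc, ← Spec.map_comp, hcomp,
      Scheme.SpecMap_stalkSpecializes_fromSpecStalk]
  have hab : X.fromSpecStalk x = Spec.map τhom ≫ X.fromSpecStalk y :=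
    ext_of_isDominant_of_isSeparated (Limits.terminal.from X) (Limits.terminal.hom_ext _ _)
      (Spec.map (X.presheaf.stalkSpecializes hgx)) h1
  have hx' : (X.fromSpecStalk x) (IsLocalRing.closedPoint (X.presheaf.stalk x)) = x :=
    Scheme.fromSpecStalk_closedPoint
  have hy' : (Spec.map τhom ≫ X.fromSpecStalk y)
      (IsLocalRing.closedPoint (X.presheaf.stalk x)) = y := by
    rw [Scheme.Hom.comp_apply, Spec_closedPoint, Scheme.fromSpecStalk_closedPoint]
  rw [← hx', ← hy', hab]

end Groth.Agent.S4346
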