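import Groth.Statements.S4349
import Mathlib

set_option autoImplicit false
universe u
open RatFun

namespace Groth.Agent.S4349

open AlgebraicGeometry CategoryTheory TopologicalSpace in
instance isCofiltered_denseOpens (X : Scheme.{u}) :
    IsCofiltered (RatFun.IsDenseOpen X).FullSubcategory where
  cone_objs U V := ⟨⟨U.obj ⊓ V.obj, by
      show Dense ((U.obj : Set X) ∩ (V.obj : Set X))
      exact Dense.inter_of_isOpen_left U.property V.property U.obj.isOpen⟩,
    ObjectProperty.homMk (homOfLE inf_le_left), ObjectProperty.homMk (homOfLE inf_le_right),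
    trivial⟩
  cone_maps U V f g := ⟨U, 𝟙 U, by ext; exact Subsingleton.elim _ _⟩
  nonempty := ⟨⟨⊤, by show Dense ((⊤ : X.Opens) : Set X); simp⟩⟩

open AlgebraicGeometry in
/-- Second assertion (in the form: sections over a dense open inject into the ring of rational
functions). Let X be a reduced scheme and V a dense open subset of X. The canonical map from the
sections of O_X over V to the ring R(X) of rational functions on X is injective. (The published
statement also assumes X locally integral or locally Noetherian; that hypothesis serves the
quasi-coherence of the sheaf of rational functions and is not needed here.) -/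
theorem result (X : Scheme.{u}) [IsReduced X]
    (V : X.Opens) (hV : Dense (V : Set X)) :
    Function.Injective (RatFun.toRing X V hV) := by
  show Function.Injective (RatFun.toRing X V hV).hom
  rw [injective_iff_map_eq_zero]
  intro s hs
  have h0 : (RatFun.toRing X V hV) s = (RatFun.toRing X V hV) 0 := by
    rw [map_zero]; exact hs
  unfold RatFun.toRing at h0
  obtain ⟨k, f, g, hfg⟩ := CategoryTheory.Limits.Concrete.colimit_exists_of_rep_eq
    (RatFun.sectionsOnDense X) (i := Opposite.op ⟨V, hV⟩) (j := Opposite.op ⟨V, hV⟩) s 0 h0
  rw [map_zero] at hfg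
  have hres : (X.presheaf.map (f.unop.hom).op).hom s = 0 := hfg
  have hW : Dense ((k.unop.obj : X.Opens) : Set X) := k.unop.property
  have hbo : X.basicOpen ((X.presheaf.map (f.unop.hom).op).hom s) =
      k.unop.obj ⊓ X.basicOpen s := Scheme.basicOpen_res X s (f.unop.hom).op
  rw [hres, Scheme.basicOpen_zero] at hbo
  have hbot : X.basicOpen s = ⊥ := by
    by_contra hne
    have hne' : ((X.basicOpen s : X.Opens) : Set X).Nonempty := by
      rw [Set.nonempty_iff_ne_empty]
      intro h
      exact hne (TopologicalSpace.Opens.ext h)
    obtain ⟨x, hx1, hx2⟩ := hW.inter_open_nonempty _ (X.basicOpen s).isOpen hne'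
    have : x ∈ (k.unop.obj ⊓ X.basicOpen s : X.Opens) := ⟨hx2, hx1⟩
    rw [← hbo] at this
    exact this
  exact (basicOpen_eq_bot_iff s).mp hbot

end Groth.Agent.S4349
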