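import Mathlib
import Groth.Statements.S4350
import Groth.Agent.H8.QCohStalk
import Groth.Agent.H22.SymAlgGen

set_option autoImplicit false
set_option linter.style.haveILetI false
universe u
open TorSh

namespace Groth.Agent.S4350

open AlgebraicGeometry CategoryTheory TopologicalSpace Opposite

section TF

variable {X : Scheme.{u}} [IsIntegral X] (F : X.Modules) [F.IsQuasicoherent]

/-- A nonempty open of an integral scheme contains the generic point. -/
lemma generic_mem {U : X.Opens} {x : X} (hx : x ∈ U) : genericPoint X ∈ U :=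
  ((genericPoint_spec X).mem_open_set_iff U.2).mpr ⟨x, Set.mem_univ x, hx⟩

/-- A section of a torsion-free quasi-coherent module with zero germ at the generic point is zero. -/
lemma eq_zero_of_germ_generic (hF : TorSh.IsTorsionFree F) {U : X.Opens}
    (hξ : genericPoint X ∈ U) (s : Γ(F, U))
    (hs : F.presheaf.germ U (genericPoint X) hξ s = 0) : s = 0 := by
  refine Groth.Agent.H8.section_eq_of_cover F _ _ (fun x hx => ?_)
  obtain ⟨W, hW, hxW, hWU⟩ : ∃ W : X.Opens, IsAffineOpen W ∧ x ∈ W ∧ W ≤ U := by
    obtain ⟨W, hW, hxW, hWU⟩ := Opens.isBasis_iff_nbhd.mp X.isBasis_affineOpens hx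
    exact ⟨W, hW, hxW, hWU⟩
  refine ⟨W, hWU, hxW, ?_⟩
  rw [map_zero]
  obtain ⟨n, hn⟩ : ∃ n : Γ(F, W), n = F.presheaf.map (homOfLE hWU).op s := ⟨_, rfl⟩
  rw [← hn]
  have hξW : genericPoint X ∈ W := generic_mem hxW
  have hgn : F.presheaf.germ W (genericPoint X) hξW n = 0 := by
    rw [hn, TopCat.Presheaf.germ_res_apply]
    exact hs
  obtain ⟨c, hξc, hc⟩ :=
    Groth.Agent.H8.exists_smul_eq_zero_of_germ_eq_zero F hW (genericPoint X) hξW n hgn
  have hc0 : c ≠ 0 := by
    rintro rfl
    rw [Scheme.basicOpen_zero] at hξc
    exact hξc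
  refine TopCat.Presheaf.section_ext ⟨F.presheaf, F.isSheaf⟩ W n 0 (fun y hy => ?_)
  rw [map_zero]
  have h1 : X.presheaf.germ W y hy c • F.presheaf.germ W y hy n = 0 := by
    rw [← Groth.Agent.H8.germ_smul, hc, map_zero]
  have hcy : X.presheaf.germ W y hy c ≠ 0 := by
    intro h0
    apply hc0
    apply germ_injective_of_isIntegral X y hy
    rw [h0, map_zero]
  haveI := hF y
  have hreg : IsSMulRegular (F.presheaf.stalk y) (X.presheaf.germ W y hy c) :=
    Module.IsTorsionFree.isSMulRegular (IsRegular.of_ne_zero hcy)
  exact hreg (h1.trans (smul_zero _).symm)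

end TF

section Main

variable {X : Scheme.{u}} [IsIntegral X] (F : X.Modules)

/-- The map `K → Γ(Spec K, g⁻¹ U)`. -/
noncomputable def κ (U : X.Opens) : X.presheaf.stalk (genericPoint X) →+*
    Γ(Spec (X.presheaf.stalk (genericPoint X)), X.fromSpecStalk (genericPoint X) ⁻¹ᵁ U) :=
  ((Scheme.ΓSpecIso (X.presheaf.stalk (genericPoint X))).inv ≫
    (Spec (X.presheaf.stalk (genericPoint X))).presheaf.map (homOfLE le_top).op).hom

lemma κ_res {U V : X.Opens} (h : V ≤ U) (y : X.presheaf.stalk (genericPoint X)) :
    (Spec (X.presheaf.stalk (genericPoint X))).presheaf.map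
      (homOfLE ((X.fromSpecStalk (genericPoint X)).preimage_mono h)).op (κ U y) = κ V y := by
  unfold κ
  simp only [CommRingCat.hom_comp, RingHom.coe_comp, Function.comp_apply]
  rw [← CommRingCat.comp_apply, ← Functor.map_comp]
  rfl

lemma κ_germ {U : X.Opens} (h : genericPoint X ∈ U) (r : Γ(X, U)) :
    κ U (X.presheaf.germ U (genericPoint X) h r) =
      ((X.fromSpecStalk (genericPoint X)).app U).hom r := by
  rw [Scheme.fromSpecStalk_app h]
  rfl

lemma κ_injective {U : X.Opens} (h : genericPoint X ∈ U) : Function.Injective (κ (X := X) U) := by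
  haveI : Nonempty ↥(X.fromSpecStalk (genericPoint X) ⁻¹ᵁ U) := by
    refine ⟨⟨IsLocalRing.closedPoint _, ?_⟩⟩
    show X.fromSpecStalk (genericPoint X) (IsLocalRing.closedPoint _) ∈ U
    rw [Scheme.fromSpecStalk_closedPoint]
    exact h
  exact (κ (X := X) U).injective

variable (φ : F.presheaf.stalk (genericPoint X) ≃ₗ[X.presheaf.stalk (genericPoint X)]
  X.presheaf.stalk (genericPoint X))

/-- The target module: rational functions. -/
noncomputable abbrev T (X : Scheme.{u}) [IsIntegral X] : X.Modules :=
  (Scheme.Modules.pushforward (X.fromSpecStalk (genericPoint X))).obj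
    (Coh.structureModule (Spec (X.presheaf.stalk (genericPoint X))))

open Classical in
/-- The components of the embedding. -/
noncomputable def f (U : X.Opens) : Γ(F, U) →+ Γ(T X, U) :=
  if h : genericPoint X ∈ U then
    (κ (X := X) U).toAddMonoidHom.comp
      (φ.toLinearMap.toAddMonoidHom.comp (F.presheaf.germ U (genericPoint X) h).hom)
  else 0

lemma f_apply {U : X.Opens} (h : genericPoint X ∈ U) (s : Γ(F, U)) :
    f F φ U s = κ (X := X) U (φ (F.presheaf.germ U (genericPoint X) h s)) := by
  unfold f
  rw [dif_pos h]
  rfl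

lemma subsingleton_T {U : X.Opens} (h : genericPoint X ∉ U) : Subsingleton Γ(T X, U) := by
  have hU : U = ⊥ := by
    by_contra hne
    obtain ⟨x, hx⟩ : ∃ x, x ∈ U := by
      by_contra hall
      push Not at hall
      exact hne (Opens.ext (Set.eq_empty_of_forall_notMem hall))
    exact h (generic_mem hx)
  subst hU
  have h0 : X.fromSpecStalk (genericPoint X) ⁻¹ᵁ ⊥ = ⊥ := rfl
  show Subsingleton Γ(Spec (X.presheaf.stalk (genericPoint X)),
    X.fromSpecStalk (genericPoint X) ⁻¹ᵁ ⊥)
  rw [h0]
  infer_instance

lemma f_res {U V : X.Opens} (h : V ≤ U) (s : Γ(F, U)) :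
    (T X).presheaf.map (homOfLE h).op (f F φ U s) = f F φ V (F.presheaf.map (homOfLE h).op s) := by
  by_cases hV : genericPoint X ∈ V
  · rw [f_apply F φ (h hV), f_apply F φ hV, TopCat.Presheaf.germ_res_apply]
    exact κ_res h _
  · haveI := subsingleton_T hV
    exact Subsingleton.elim _ _

lemma f_smul {U : X.Opens} (r : Γ(X, U)) (s : Γ(F, U)) :
    f F φ U (r • s) = r • f F φ U s := by
  by_cases hU : genericPoint X ∈ U
  · rw [f_apply F φ hU, f_apply F φ hU, Groth.Agent.H8.germ_smul, map_smul, smul_eq_mul, map_mul,
      κ_germ hU]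
    rfl
  · haveI := subsingleton_T hU
    exact Subsingleton.elim _ _

/-- The embedding into rational functions. -/
noncomputable def emb : F ⟶ T X :=
  ⟨PresheafOfModules.homMk
    { app := fun U => AddCommGrpCat.ofHom (f F φ U.unop)
      naturality := fun U V i => by
        ext s
        exact (f_res F φ i.unop.le s).symm }
    (fun U r s => f_smul F φ r s)⟩

lemma emb_app (U : X.Opens) (s : Γ(F, U)) : (emb F φ).app U s = f F φ U s := rfl

end Main

open AlgebraicGeometry in
open CategoryTheory in
/-- Direct assertion (the sheaf of rational functions of the integral scheme X being the direct image of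
the structure sheaf of Spec of the function field under its canonical morphism to X). On an integral
scheme, a quasi-coherent torsion-free O_X-module of rank 1, i.e. whose stalk at the generic point is
one-dimensional over the function field (for instance an invertible module), is isomorphic to a
sub-O_X-module of the sheaf of rational functions. (The published statement adds a converse, which
for the zero submodule does not hold as stated; it is not included here.) -/
theorem result
    (X : Scheme.{u}) [IsIntegral X] (F : X.Modules) [Coh.IsQCoh F] (hF : TorSh.IsTorsionFree F)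
    (h1 : Module.finrank (X.presheaf.stalk (genericPoint X)) (F.presheaf.stalk (genericPoint X)) = 1) :
    ∃ i : F ⟶ (Scheme.Modules.pushforward (X.fromSpecStalk (genericPoint X))).obj
        (Coh.structureModule (Spec (X.presheaf.stalk (genericPoint X)))), Mono i := by
  haveI : F.IsQuasicoherent := ‹Coh.IsQCoh F›
  haveI : Module.Finite (X.presheaf.stalk (genericPoint X)) (F.presheaf.stalk (genericPoint X)) :=
    Module.finite_of_finrank_pos (by rw [h1]; exact Nat.one_pos)
  have h2 : Module.finrank (X.presheaf.stalk (genericPoint X))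
      (F.presheaf.stalk (genericPoint X)) =
      Module.finrank (X.presheaf.stalk (genericPoint X)) (X.presheaf.stalk (genericPoint X)) := by
    rw [h1, Module.finrank_self]
  let φ := LinearEquiv.ofFinrankEq _ _ h2
  refine ⟨emb F φ, Groth.Agent.H22.mono_of_app_injective _ (fun U => ?_)⟩
  rw [injective_iff_map_eq_zero]
  intro s hs
  by_cases hU : genericPoint X ∈ U
  · have hs' : f F φ U s = 0 := hs
    rw [f_apply F φ hU] at hs'
    have h3 : φ (F.presheaf.germ U (genericPoint X) hU s) = 0 :=
      κ_injective hU (hs'.trans (map_zero _).symm)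
    have h4 : F.presheaf.germ U (genericPoint X) hU s = 0 :=
      φ.injective (h3.trans (map_zero φ).symm)
    exact eq_zero_of_germ_generic F hF hU s h4
  · refine Groth.Agent.H8.section_eq_of_cover F _ _ (fun x hx => ?_)
    exact (hU (generic_mem hx)).elim

end Groth.Agent.S4350
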