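import Mathlib
import Groth.Statements.S4352
import Groth.Agent.H22.QCAlgSub

set_option autoImplicit false
universe u
open QCohSup

namespace Groth.Agent.S4352

open AlgebraicGeometry in
open CategoryTheory in
open Opposite in
/-- Case b), in the sectionwise form its proof gives. Let X be a scheme that is quasi-compact and
separated and B a quasi-coherent O_X-algebra. Every section of B over an affine open U lies in a
quasi-coherent sub-O_X-algebra of B whose sections over every affine open form an algebra of finite
type over the functions; hence B is the inductive limit of its quasi-coherent sub-O_X-algebras of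
finite type. -/
theorem result
    {X : Scheme.{u}} [CompactSpace X] [X.IsSeparated] (B : RelSpec.QCAlg X)
    (U : X.affineOpens) (b : B.presheaf.obj (op (U : X.Opens))) :
    ∃ (B' : RelSpec.QCAlg X) (φ : B' ⟶ B),
      (∀ V : X.Opens, Function.Injective (φ.hom.app (op V)).hom) ∧
      (∀ V : X.affineOpens, (B'.str.app (op (V : X.Opens))).hom.FiniteType) ∧
      b ∈ Set.range (φ.hom.app (op (U : X.Opens))).hom := by
  haveI := Groth.Agent.H22.toModule_isQuasicoherent B
  obtain ⟨K, hK, hft, hmem⟩ := Groth.Agent.H22.SubSh.exists_ft_through (F := B.toModule) U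
    (fun _ : PUnit.{u + 1} => Groth.Agent.H22.ofB B U.1 b)
  obtain ⟨B', φ, h1, h2, h3⟩ := Groth.Agent.H22.exists_subalgebra B K hK hft
  exact ⟨B', φ, h1, h2, h3 U.1 b (hmem PUnit.unit)⟩

end Groth.Agent.S4352
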