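import Mathlib
import Groth.Statements.S4355
import Groth.Agent.H22.FTExtWO

set_option autoImplicit false
set_option linter.style.haveILetI false
universe u v
open CategoryTheory CategoryTheory.Limits AlgebraicGeometry TopologicalSpace Opposite
open QCohSup

namespace Groth.Agent.S4355

open Groth.Agent.H22 Groth.Agent.H22.SubSh Groth.Agent.H8 in
open AlgebraicGeometry in
open CategoryTheory in
/-- Let X be a scheme, L a well-ordered set and (V_l) a cover of X by affine opens indexed by L such
that, for every l, the intersection of V_l with the union of the V_m, m < l, is quasi-compact; let U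
be an open subset of X whose inclusion morphism is quasi-compact. Then for every quasi-coherent
O_X-module F and every quasi-coherent subsheaf of finite type G of F restricted to U there is a
quasi-coherent subsheaf of finite type G' of F whose restriction to U is G. -/
theorem result
    {X : Scheme.{u}} {L : Type v} [LinearOrder L] [WellFoundedLT L]
    (V : L → X.Opens) (hV : ∀ l, IsAffineOpen (V l)) (hcov : ⨆ l, V l = ⊤)
    (hW : ∀ l, IsCompact ((V l : Set X) ∩ ⋃ m ∈ Set.Iio l, (V m : Set X)))
    (U : X.Opens) [QuasiCompact U.ι] (F : X.Modules) [Coh.IsQCoh F]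
    (G : (U : Scheme.{u}).Modules) (i : G ⟶ F.restrict U.ι) [Mono i]
    [Coh.IsQCoh G] (hG : CohB1.IsFT G) :
    ∃ (G' : X.Modules) (i' : G' ⟶ F) (e : G'.restrict U.ι ≅ G), Mono i' ∧ Coh.IsQCoh G' ∧ CohB1.IsFT G' ∧
      e.hom ≫ i = (Scheme.Modules.restrictFunctor U.ι).map i' := by
  haveI : F.IsQuasicoherent := ‹Coh.IsQCoh F›
  haveI : G.IsQuasicoherent := ‹Coh.IsQCoh G›
  haveI : SheafOfModules.IsFiniteType (R := (↑U : Scheme.{u}).ringCatSheaf) G := hG
  have hU : ∀ A : X.Opens, IsAffineOpen A → IsCompact ((A ⊓ U : X.Opens) : Set X) := by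
    intro A hA
    have h1 : IsCompact (U.ι ⁻¹' (A : Set X)) :=
      QuasiCompact.isCompact_preimage (f := U.ι) _ A.2 hA.isCompact
    have h2 := h1.image U.ι.continuous
    rw [Set.image_preimage_eq_inter_range, Scheme.Opens.range_ι] at h2
    exact h2
  have hLQC : (range i).QC := range_QC i
  have hK₀ : (ext U (range i)).QC :=
    QC_of_isSat (ext U (range i)) U (ext_isSat U (range i)) (ext_QCOn U (range i) hLQC) hU
  have hft₀ : (ext U (range i)).FTOn U := by
    intro A hA hAU
    obtain ⟨O, rfl⟩ := GenLocus.exists_eq_image hAU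
    have hO : IsAffineOpen O := (U.ι.isAffineOpen_iff_of_isOpenImmersion).mp hA
    exact ext_fg U (range i) O (range_fg i O (finite_sections_of_isAffineOpen G hO))
  obtain ⟨K', hK', hft', hagree⟩ :=
    exists_ft_extension_wo V hV hcov hW (ext U (range i)) U hU (ext_isSat U (range i)) hK₀ hft₀
  obtain ⟨e, he⟩ := exists_iso_of_mem_iff U i K' (fun O x =>
    ⟨fun h => (mem_ext_image U (range i) O x).mp ((hagree _ (U.ι_image_le O) x).mp h),
     fun h => (hagree _ (U.ι_image_le O) x).mpr ((mem_ext_image U (range i) O x).mpr h)⟩)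
  exact ⟨K'.toModules, K'.ι, e, inferInstance, K'.isQuasicoherent_toModules hK',
    K'.isFiniteType_toModules hK' hft', he⟩

end Groth.Agent.S4355
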