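import Groth.Statements.S4356
import Groth.Agent.H8.SectionsExact
import Groth.Agent.H8.ZeroStalk
import Groth.Agent.H8.QCohPush
import Groth.Prelude.Def_MeroDiv

set_option autoImplicit false
universe u
open TorSh

namespace Groth.Agent.S4356


open CategoryTheory CategoryTheory.Limits AlgebraicGeometry TopologicalSpace Opposite
open Groth.Agent.H8

section Helpers

variable {X : Scheme.{u}} [IsIntegral X]

/-- The module of rational functions. -/
noncomputable abbrev KK (X : Scheme.{u}) [IsIntegral X] : X.Modules :=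
  (Scheme.Modules.pushforward (X.fromSpecStalk (genericPoint X))).obj
    (Coh.structureModule (Spec (X.presheaf.stalk (genericPoint X))))

/-- The comparison map from the function field to the sections of `KK` over `U`. -/
noncomputable def θ (U : X.Opens) : X.presheaf.stalk (genericPoint X) ⟶
    Γ(Spec (X.presheaf.stalk (genericPoint X)), X.fromSpecStalk (genericPoint X) ⁻¹ᵁ U) :=
  (Scheme.ΓSpecIso (X.presheaf.stalk (genericPoint X))).inv ≫
    (Spec (X.presheaf.stalk (genericPoint X))).presheaf.map (homOfLE le_top).op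

lemma app_eq (U : X.Opens) (hU : genericPoint X ∈ U) :
    (X.fromSpecStalk (genericPoint X)).app U =
      X.presheaf.germ U (genericPoint X) hU ≫ θ U :=
  Scheme.fromSpecStalk_app hU

lemma preimage_eq_top (U : X.Opens) (hU : genericPoint X ∈ U) :
    X.fromSpecStalk (genericPoint X) ⁻¹ᵁ U = ⊤ := by
  letI : Field (X.presheaf.stalk (genericPoint X)) := inferInstanceAs (Field X.functionField)
  refine top_le_iff.mp (fun z _ => ?_)
  have hsub : Subsingleton (PrimeSpectrum (X.presheaf.stalk (genericPoint X))) := inferInstance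
  have hz : z = IsLocalRing.closedPoint (X.presheaf.stalk (genericPoint X)) := hsub.elim _ _
  show (X.fromSpecStalk (genericPoint X)) z ∈ U
  rw [hz, Scheme.fromSpecStalk_closedPoint]
  exact hU

lemma θ_bijective (U : X.Opens) (hU : genericPoint X ∈ U) :
    Function.Bijective (θ U).hom := by
  have h0 : IsIso (homOfLE (le_top : X.fromSpecStalk (genericPoint X) ⁻¹ᵁ U ≤ ⊤)) :=
    ⟨⟨homOfLE (preimage_eq_top U hU).ge, Subsingleton.elim _ _, Subsingleton.elim _ _⟩⟩
  have h1 : IsIso ((Spec (X.presheaf.stalk (genericPoint X))).presheaf.map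
      (homOfLE (le_top : X.fromSpecStalk (genericPoint X) ⁻¹ᵁ U ≤ ⊤)).op) := inferInstance
  have h2 : IsIso (θ U) := by
    unfold θ
    infer_instance
  exact ConcreteCategory.bijective_of_isIso (θ U)

lemma θ_res {U V : X.Opens} (j : V ⟶ U) (k : X.presheaf.stalk (genericPoint X)) :
    (Spec (X.presheaf.stalk (genericPoint X))).presheaf.map
      ((Opens.map (X.fromSpecStalk (genericPoint X)).base).map j).op ((θ U).hom k) =
      (θ V).hom k := by
  unfold θ
  rw [← CommRingCat.comp_apply, Category.assoc, ← Functor.map_comp]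
  rfl

/-- Torsion-freeness of `KK` on sections. -/
lemma eq_zero_of_smul_eq_zero (U : X.Opens) (hU : genericPoint X ∈ U) (r : Γ(X, U))
    (hr : X.presheaf.germ U (genericPoint X) hU r ≠ 0) (t : Γ(KK X, U)) (h : r • t = 0) :
    t = 0 := by
  letI : Field (X.presheaf.stalk (genericPoint X)) := inferInstanceAs (Field X.functionField)
  have h1 : (X.fromSpecStalk (genericPoint X)).app U r *
      (show Γ(Spec (X.presheaf.stalk (genericPoint X)),
        X.fromSpecStalk (genericPoint X) ⁻¹ᵁ U) from t) = 0 := h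
  have hu : IsUnit ((X.fromSpecStalk (genericPoint X)).app U r) := by
    rw [app_eq U hU, CommRingCat.comp_apply]
    exact (IsUnit.mk0 _ hr).map (θ U).hom
  exact (hu.mul_right_eq_zero).mp h1

/-- The module structure of `KK` in terms of `θ`. -/
lemma smul_θ (U : X.Opens) (hU : genericPoint X ∈ U) (r : Γ(X, U))
    (k : X.presheaf.stalk (genericPoint X)) :
    r • (show Γ(KK X, U) from (θ U).hom k) =
      (show Γ(KK X, U) from (θ U).hom (X.presheaf.germ U (genericPoint X) hU r * k)) := by
  have h1 : r • (show Γ(KK X, U) from (θ U).hom k) =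
      (show Γ(KK X, U) from (X.fromSpecStalk (genericPoint X)).app U r * (θ U).hom k) := rfl
  rw [h1, app_eq U hU, CommRingCat.comp_apply, map_mul]

/-- Restriction maps of `KK` between opens containing the generic point are injective. -/
lemma res_injective {U V : X.Opens} (j : V ⟶ U) (hV : genericPoint X ∈ V) :
    Function.Injective ((KK X).presheaf.map j.op) := by
  have hU : genericPoint X ∈ U := j.le hV
  intro t₁ t₂ h
  obtain ⟨k₁, hk₁⟩ := (θ_bijective U hU).2
    (show Γ(Spec (X.presheaf.stalk (genericPoint X)),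
      X.fromSpecStalk (genericPoint X) ⁻¹ᵁ U) from t₁)
  obtain ⟨k₂, hk₂⟩ := (θ_bijective U hU).2
    (show Γ(Spec (X.presheaf.stalk (genericPoint X)),
      X.fromSpecStalk (genericPoint X) ⁻¹ᵁ U) from t₂)
  have e₁ : (KK X).presheaf.map j.op t₁ = (show Γ(KK X, V) from (θ V).hom k₁) := by
    rw [← θ_res j k₁, hk₁]
    rfl
  have e₂ : (KK X).presheaf.map j.op t₂ = (show Γ(KK X, V) from (θ V).hom k₂) := by
    rw [← θ_res j k₂, hk₂]
    rfl
  rw [e₁, e₂] at h
  have hk : k₁ = k₂ := (θ_bijective V hV).1 h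
  have ht₁ : t₁ = (show Γ(KK X, U) from (θ U).hom k₁) := hk₁.symm
  have ht₂ : t₂ = (show Γ(KK X, U) from (θ U).hom k₂) := hk₂.symm
  rw [ht₁, ht₂, hk]

lemma app_res' {M N : X.Modules} (φ : M ⟶ N) {V W : X.Opens} (j : W ⟶ V)
    (s : M.presheaf.obj (op V)) :
    φ.app W (M.presheaf.map j.op s) = N.presheaf.map j.op (φ.app V s) :=
  NatTrans.naturality_apply φ.mapPresheaf j.op s

end Helpers

open AlgebraicGeometry in
open CategoryTheory in
/-- Converse assertion (the sheaf of rational functions of the integral scheme X being modelled as the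
direct image of the structure sheaf of Spec of the function field under its canonical morphism to
X). On an integral scheme, a nonzero quasi-coherent sub-O_X-module of the sheaf of rational
functions is torsion-free of rank 1: every stalk is a torsion-free module over the local ring, and
the stalk at the generic point is one-dimensional over the function field. (The published statement
does not exclude the zero submodule, whose generic stalk has dimension 0; it is excluded here.) -/
theorem result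
    (X : Scheme.{u}) [IsIntegral X] (G : X.Modules) [Coh.IsQCoh G]
    (i : G ⟶ (Scheme.Modules.pushforward (X.fromSpecStalk (genericPoint X))).obj
        (Coh.structureModule (Spec (X.presheaf.stalk (genericPoint X))))) [Mono i]
    (hG : ¬ Limits.IsZero G) :
    TorSh.IsTorsionFree G ∧
      Module.finrank (X.presheaf.stalk (genericPoint X)) (G.presheaf.stalk (genericPoint X)) = 1 := by
  classical
  letI : Field (X.presheaf.stalk (genericPoint X)) := inferInstanceAs (Field X.functionField)
  have hiinj : ∀ U : X.Opens, Function.Injective (i.app U) := fun U =>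
    app_injective_of_mono i U
  refine ⟨fun x => Module.IsTorsionFree.of_smul_eq_zero (fun r₀ m₀ h => ?_), ?_⟩
  · by_contra hcon
    push_neg at hcon
    obtain ⟨hr₀, hm₀⟩ := hcon
    obtain ⟨U, hxU, r, rfl⟩ := TopCat.Presheaf.exists_germ_eq X.presheaf r₀
    obtain ⟨V, hxV, m, rfl⟩ := TopCat.Presheaf.exists_germ_eq G.presheaf m₀
    have hxW : x ∈ U ⊓ V := ⟨hxU, hxV⟩
    have h1 : G.presheaf.germ (U ⊓ V) x hxW
        (X.presheaf.map (homOfLE (inf_le_left : U ⊓ V ≤ U)).op r •
          G.presheaf.map (homOfLE (inf_le_right : U ⊓ V ≤ V)).op m) =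
        G.presheaf.germ (U ⊓ V) x hxW 0 := by
      rw [Mero.germ_smul, TopCat.Presheaf.germ_res_apply, TopCat.Presheaf.germ_res_apply,
        map_zero]
      exact h
    obtain ⟨W', hxW', iU, iV, e⟩ := G.presheaf.germ_eq x hxW hxW _ _ h1
    rw [map_zero, G.map_smul] at e
    have hη : genericPoint X ∈ W' := (genericPoint_specializes x).mem_open W'.2 hxW'
    have hr'' : X.presheaf.germ W' (genericPoint X) hη
        (X.presheaf.map iU.op (X.presheaf.map (homOfLE (inf_le_left : U ⊓ V ≤ U)).op r)) ≠ 0 := by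
      intro h0
      have h2 := germ_injective_of_isIntegral X (genericPoint X) hη (h0.trans (map_zero _).symm)
      apply hr₀
      have h3 := congrArg (X.presheaf.germ W' x hxW') h2
      rw [TopCat.Presheaf.germ_res_apply, TopCat.Presheaf.germ_res_apply, map_zero] at h3
      exact h3
    have h4 := congrArg (i.app W') e
    rw [Scheme.Modules.Hom.app_smul, map_zero] at h4
    have h5 := eq_zero_of_smul_eq_zero W' hη _ hr'' _ h4
    have h6 := hiinj W' (h5.trans (map_zero _).symm)
    apply hm₀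
    have h7 := congrArg (G.presheaf.germ W' x hxW') h6
    rw [TopCat.Presheaf.germ_res_apply, TopCat.Presheaf.germ_res_apply, map_zero] at h7
    exact h7
  · obtain ⟨x, hx⟩ : ∃ x : X, ¬ Subsingleton (G.presheaf.stalk x) := by
      by_contra hcon
      push_neg at hcon
      exact hG (isZero_of_subsingleton_stalk G hcon)
    rw [not_subsingleton_iff_nontrivial] at hx
    obtain ⟨c, hc⟩ := exists_ne (0 : G.presheaf.stalk x)
    obtain ⟨U, hxU, m, rfl⟩ := TopCat.Presheaf.exists_germ_eq G.presheaf c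
    have hm : m ≠ 0 := fun h => hc (by rw [h, map_zero])
    have hηU : genericPoint X ∈ U := (genericPoint_specializes x).mem_open U.2 hxU
    have hv : G.presheaf.germ U (genericPoint X) hηU m ≠ 0 := by
      intro h0
      obtain ⟨V, hηV, iU, iV, e⟩ := G.presheaf.germ_eq (genericPoint X) hηU hηU m 0
        (by rw [h0, map_zero])
      rw [map_zero] at e
      have h1 : (KK X).presheaf.map iU.op (i.app U m) = (KK X).presheaf.map iU.op 0 := by
        rw [← app_res' i iU m, e, map_zero, map_zero]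
      have h2 : i.app U m = 0 := res_injective iU hηV h1
      exact hm (hiinj U (h2.trans (map_zero _).symm))
    rw [finrank_eq_one_iff_of_nonzero' _ hv]
    intro w
    obtain ⟨U', hηU', m', rfl⟩ := TopCat.Presheaf.exists_germ_eq G.presheaf w
    have hηW : genericPoint X ∈ U ⊓ U' := ⟨hηU, hηU'⟩
    obtain ⟨m₁, hm₁⟩ : ∃ m₁ : Γ(G, U ⊓ U'),
        m₁ = G.presheaf.map (homOfLE (inf_le_left : U ⊓ U' ≤ U)).op m := ⟨_, rfl⟩
    obtain ⟨m₂, hm₂⟩ : ∃ m₂ : Γ(G, U ⊓ U'),
        m₂ = G.presheaf.map (homOfLE (inf_le_right : U ⊓ U' ≤ U')).op m' := ⟨_, rfl⟩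
    have hg₁ : G.presheaf.germ (U ⊓ U') (genericPoint X) hηW m₁ =
        G.presheaf.germ U (genericPoint X) hηU m := by
      rw [hm₁, TopCat.Presheaf.germ_res_apply]
    have hg₂ : G.presheaf.germ (U ⊓ U') (genericPoint X) hηW m₂ =
        G.presheaf.germ U' (genericPoint X) hηU' m' := by
      rw [hm₂, TopCat.Presheaf.germ_res_apply]
    obtain ⟨k₁, hk₁⟩ := (θ_bijective (U ⊓ U') hηW).2
      (show Γ(Spec (X.presheaf.stalk (genericPoint X)),
        X.fromSpecStalk (genericPoint X) ⁻¹ᵁ (U ⊓ U')) from i.app (U ⊓ U') m₁)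
    obtain ⟨k₂, hk₂⟩ := (θ_bijective (U ⊓ U') hηW).2
      (show Γ(Spec (X.presheaf.stalk (genericPoint X)),
        X.fromSpecStalk (genericPoint X) ⁻¹ᵁ (U ⊓ U')) from i.app (U ⊓ U') m₂)
    have hk₁0 : k₁ ≠ 0 := by
      intro h0
      rw [h0, map_zero] at hk₁
      have h1 : i.app (U ⊓ U') m₁ = 0 := hk₁.symm
      have h2 := hiinj (U ⊓ U') (h1.trans (map_zero _).symm)
      apply hv
      rw [← hg₁, h2, map_zero]
    obtain ⟨W', hηW', a, ha⟩ := TopCat.Presheaf.exists_germ_eq X.presheaf (k₂ / k₁)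
    have hηW'' : genericPoint X ∈ (U ⊓ U') ⊓ W' := ⟨hηW, hηW'⟩
    obtain ⟨a', ha'⟩ : ∃ a' : Γ(X, (U ⊓ U') ⊓ W'),
        a' = X.presheaf.map (homOfLE (inf_le_right : (U ⊓ U') ⊓ W' ≤ W')).op a := ⟨_, rfl⟩
    have hga : X.presheaf.germ ((U ⊓ U') ⊓ W') (genericPoint X) hηW'' a' = k₂ / k₁ := by
      rw [ha', TopCat.Presheaf.germ_res_apply, ha]
    have key : a' • G.presheaf.map (homOfLE (inf_le_left : (U ⊓ U') ⊓ W' ≤ U ⊓ U')).op m₁ =
        G.presheaf.map (homOfLE (inf_le_left : (U ⊓ U') ⊓ W' ≤ U ⊓ U')).op m₂ := by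
      apply hiinj ((U ⊓ U') ⊓ W')
      rw [Scheme.Modules.Hom.app_smul, app_res' i, app_res' i]
      have e₁ : (KK X).presheaf.map (homOfLE (inf_le_left : (U ⊓ U') ⊓ W' ≤ U ⊓ U')).op
          (i.app (U ⊓ U') m₁) =
          (show Γ(KK X, (U ⊓ U') ⊓ W') from (θ ((U ⊓ U') ⊓ W')).hom k₁) := by
        rw [← θ_res (homOfLE (inf_le_left : (U ⊓ U') ⊓ W' ≤ U ⊓ U')) k₁, hk₁]
        rfl
      have e₂ : (KK X).presheaf.map (homOfLE (inf_le_left : (U ⊓ U') ⊓ W' ≤ U ⊓ U')).op
          (i.app (U ⊓ U') m₂) =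
          (show Γ(KK X, (U ⊓ U') ⊓ W') from (θ ((U ⊓ U') ⊓ W')).hom k₂) := by
        rw [← θ_res (homOfLE (inf_le_left : (U ⊓ U') ⊓ W' ≤ U ⊓ U')) k₂, hk₂]
        rfl
      rw [e₁, e₂, smul_θ _ hηW'', hga, div_mul_cancel₀ _ hk₁0]
    refine ⟨k₂ / k₁, ?_⟩
    rw [← hg₂, ← hg₁, ← hga]
    have h8 := congrArg (G.presheaf.germ ((U ⊓ U') ⊓ W') (genericPoint X) hηW'') key
    rw [Mero.germ_smul, TopCat.Presheaf.germ_res_apply, TopCat.Presheaf.germ_res_apply] at h8
    exact h8

end Groth.Agent.S4356
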