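import Groth.Statements.S4361
import Groth.Agent.H22.LocNoeth

set_option autoImplicit false
universe u
open FinCond

namespace Groth.Agent.S4361

open AlgebraicGeometry in
open CategoryTheory in
/-- Let f : X -> Y and g : Y -> Z be morphisms whose composite is quasi-compact, and suppose the
underlying space of X is locally Noetherian (every point has an open neighbourhood which is a
Noetherian topological space). Then f is quasi-compact. (The published statement also covers the
case g separated, which is the standard cancellation property; this row states only the case of a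
locally Noetherian source.) -/
theorem result
    {X Y Z : Scheme.{u}} (f : X ⟶ Y) (g : Y ⟶ Z) [QuasiCompact (f ≫ g)]
    (hX : ∀ x : X, ∃ U : X.Opens, x ∈ U ∧ TopologicalSpace.NoetherianSpace U) :
    QuasiCompact f := by
  rw [quasiCompact_iff_forall_isAffineOpen]
  intro U hU
  -- the image of U in Z is compact, hence covered by finitely many affine opens
  have hgU : IsCompact (g '' (U : Set Y)) := hU.isCompact.image g.continuous
  obtain ⟨t, ht⟩ := hgU.elim_finite_subcover (fun W : Z.affineOpens => ((W : Z.Opens) : Set Z))
    (fun W => (W : Z.Opens).2) (by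
      intro z _
      obtain ⟨_, ⟨W, hW, rfl⟩, hzW, -⟩ :=
        Z.isBasis_affineOpens.exists_subset_of_mem_open (Set.mem_univ z) isOpen_univ
      exact Set.mem_iUnion.mpr ⟨⟨W, hW⟩, hzW⟩)
  have hK : IsCompact (⋃ W ∈ t, ((f ≫ g) ⁻¹ᵁ (W : Z.Opens) : Set X)) :=
    t.finite_toSet.isCompact_biUnion fun W _ =>
      QuasiCompact.isCompact_preimage (f := f ≫ g) _ (W : Z.Opens).2 W.2.isCompact
  refine Groth.Agent.H22.isCompact_of_subset_of_locallyNoetherian hX hK ?_
  intro x hx
  have : g (f x) ∈ ⋃ W ∈ t, ((W : Z.Opens) : Set Z) := ht ⟨f x, hx, rfl⟩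
  simp only [Set.mem_iUnion] at this ⊢
  obtain ⟨W, hW, hxW⟩ := this
  exact ⟨W, hW, by simpa using hxW⟩

end Groth.Agent.S4361
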