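import Groth.Statements.S4362
import Mathlib

set_option autoImplicit false
universe u
open FinCond

namespace Groth.Agent.S4362

theorem pi_wellFoundedGT {ι : Type*} [Finite ι] (α : ι → Type*) [∀ i, Preorder (α i)]
    [∀ i, WellFoundedGT (α i)] : WellFoundedGT (∀ i, α i) :=
  ⟨(Pi.wellFoundedLT (α := fun i => (α i)ᵒᵈ)).wf⟩

open AlgebraicGeometry in
open CategoryTheory in
/-- If X is a Noetherian scheme, every increasing sequence of quasi-coherent sheaves of ideals of the
structure sheaf is eventually constant; equivalently the ordered set of quasi-coherent ideal sheaves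
of X is well-founded for the reverse order. (On a locally Noetherian scheme quasi-coherent and
coherent ideal sheaves coincide.) -/
theorem result
    (X : Scheme.{u}) [IsNoetherian X] : WellFoundedGT X.IdealSheafData := by
  obtain ⟨s, hs, hU⟩ := (isCompact_iff_finite_and_eq_biUnion_affineOpens (X := X)
    (U := ⊤)).mp (by simpa using isCompact_univ)
  haveI : Finite s := hs.to_subtype
  have hcov : ⨆ i : s, (i.1 : X.Opens) = ⊤ := by rw [hU, iSup_subtype']
  let g : X.IdealSheafData → (∀ i : s, Ideal Γ(X, i.1)) := fun I i => I.ideal i.1
  have hmono : Monotone g := fun I J h i => h i.1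
  have hinj : Function.Injective g := fun I J h =>
    Scheme.IdealSheafData.ext_of_iSup_eq_top (fun i : s => i.1) hcov (fun i => congrFun h i)
  have hsm : StrictMono g := hmono.strictMono_of_injective hinj
  haveI : ∀ i : s, WellFoundedGT (Ideal Γ(X, i.1)) := fun i =>
    isNoetherian_iff'.mp (IsLocallyNoetherian.component_noetherian i.1)
  haveI : WellFoundedGT (∀ i : s, Ideal Γ(X, i.1)) := pi_wellFoundedGT _
  exact hsm.wellFoundedGT

end Groth.Agent.S4362
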