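import Groth.Statements.S4363
import Mathlib

set_option autoImplicit false
universe u v
open RedSep

namespace Groth.Agent.S4363

open CategoryTheory AlgebraicGeometry Limits in
lemma closure_eq_top_of_isPushout {A B C D : CommRingCat.{u}} {f : A ⟶ B} {g : A ⟶ C}
    {inl : B ⟶ D} {inr : C ⟶ D} (h : IsPushout f g inl inr) :
    Subring.closure (Set.range inl.hom ∪ Set.range inr.hom) = ⊤ := by
  obtain ⟨R', hR'⟩ : ∃ R' : Subring D, R' = Subring.closure (Set.range inl.hom ∪ Set.range inr.hom) :=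
    ⟨_, rfl⟩
  rw [← hR']
  have hl : ∀ x, inl.hom x ∈ R' := fun x => by
    rw [hR']; exact Subring.subset_closure (Or.inl ⟨x, rfl⟩)
  have hr : ∀ x, inr.hom x ∈ R' := fun x => by
    rw [hR']; exact Subring.subset_closure (Or.inr ⟨x, rfl⟩)
  let inl' : B ⟶ CommRingCat.of R' := CommRingCat.ofHom (inl.hom.codRestrict R' hl)
  let inr' : C ⟶ CommRingCat.of R' := CommRingCat.ofHom (inr.hom.codRestrict R' hr)
  let incl : CommRingCat.of R' ⟶ D := CommRingCat.ofHom R'.subtype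
  have h1 : inl' ≫ incl = inl := by ext x; rfl
  have h2 : inr' ≫ incl = inr := by ext x; rfl
  have hw : f ≫ inl' = g ≫ inr' := by
    ext x
    have h3 := congrArg (fun φ => φ.hom x) h.w
    exact h3
  have hd : h.desc inl' inr' hw ≫ incl = 𝟙 D := by
    apply h.hom_ext
    · rw [← Category.assoc, h.inl_desc, h1, Category.comp_id]
    · rw [← Category.assoc, h.inr_desc, h2, Category.comp_id]
  rw [eq_top_iff]
  intro x _
  have h4 : incl.hom ((h.desc inl' inr' hw).hom x) = x := congrArg (fun φ => φ.hom x) hd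
  rw [← h4]
  exact ((h.desc inl' inr' hw).hom x).2

open CategoryTheory AlgebraicGeometry Limits in
lemma pair_iff {X Y : Scheme.{u}} [IsAffine Y] (f : X ⟶ Y) (U₁ U₂ : X.Opens)
    (h₁ : IsAffineOpen U₁) (h₂ : IsAffineOpen U₂) :
    (IsAffine (pullback U₁.ι U₂.ι) ∧
      Function.Surjective (pullback.mapDesc U₁.ι U₂.ι f).appTop) ↔
    (IsAffineOpen (U₁ ⊓ U₂) ∧
      Subring.closure (Set.range (X.presheaf.map (homOfLE (inf_le_left : U₁ ⊓ U₂ ≤ U₁)).op).hom ∪
        Set.range (X.presheaf.map (homOfLE (inf_le_right : U₁ ⊓ U₂ ≤ U₂)).op).hom) = ⊤) := by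
  haveI : IsAffine (U₁ : Scheme.{u}) := h₁
  haveI : IsAffine (U₂ : Scheme.{u}) := h₂
  have hpb := isPullback_opens_inf U₁ U₂
  obtain ⟨e, he⟩ : ∃ e : ((U₁ ⊓ U₂ : X.Opens) : Scheme.{u}) ≅ pullback U₁.ι U₂.ι,
    e = hpb.isoPullback := ⟨_, rfl⟩
  have he1 : e.hom ≫ pullback.fst U₁.ι U₂.ι = X.homOfLE inf_le_left := by
    rw [he]; exact hpb.isoPullback_hom_fst
  have he2 : e.hom ≫ pullback.snd U₁.ι U₂.ι = X.homOfLE inf_le_right := by
    rw [he]; exact hpb.isoPullback_hom_snd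
  have hafn : IsAffine (pullback U₁.ι U₂.ι) ↔ IsAffineOpen (U₁ ⊓ U₂) := by
    constructor
    · intro h
      exact IsAffine.of_isIso e.hom
    · intro h
      haveI : IsAffine ((U₁ ⊓ U₂ : X.Opens) : Scheme.{u}) := h
      exact IsAffine.of_isIso e.inv
  -- the map to the fibre product over Y
  obtain ⟨n, hn⟩ : ∃ n : ((U₁ ⊓ U₂ : X.Opens) : Scheme.{u}) ⟶ pullback (U₁.ι ≫ f) (U₂.ι ≫ f),
    n = e.hom ≫ pullback.mapDesc U₁.ι U₂.ι f := ⟨_, rfl⟩
  have hn1 : n ≫ pullback.fst (U₁.ι ≫ f) (U₂.ι ≫ f) = X.homOfLE inf_le_left := by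
    rw [hn, Category.assoc, pullback.lift_fst, Category.comp_id, he1]
  have hn2 : n ≫ pullback.snd (U₁.ι ≫ f) (U₂.ι ≫ f) = X.homOfLE inf_le_right := by
    rw [hn, Category.assoc, pullback.lift_snd, Category.comp_id, he2]
  have hgen : Subring.closure
      (Set.range (pullback.fst (U₁.ι ≫ f) (U₂.ι ≫ f)).appTop.hom ∪
        Set.range (pullback.snd (U₁.ι ≫ f) (U₂.ι ≫ f)).appTop.hom) = ⊤ :=
    closure_eq_top_of_isPushout
      (isPushout_appTop_of_isPullback (IsPullback.of_hasPullback (U₁.ι ≫ f) (U₂.ι ≫ f)))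
  obtain ⟨ψ, hψ⟩ : ∃ ψ : Γ(pullback (U₁.ι ≫ f) (U₂.ι ≫ f), ⊤) ⟶ Γ(X, U₁ ⊓ U₂),
    ψ = n.appTop ≫ (U₁ ⊓ U₂).topIso.hom := ⟨_, rfl⟩
  have hψ1 : (pullback.fst (U₁.ι ≫ f) (U₂.ι ≫ f)).appTop ≫ ψ =
      U₁.topIso.hom ≫ X.presheaf.map (homOfLE (inf_le_left : U₁ ⊓ U₂ ≤ U₁)).op := by
    have h3 : (pullback.fst (U₁.ι ≫ f) (U₂.ι ≫ f)).appTop ≫ n.appTop =
        (X.homOfLE (inf_le_left : U₁ ⊓ U₂ ≤ U₁)).appTop := by
      rw [← Scheme.Hom.comp_appTop, hn1]
    rw [hψ, ← Category.assoc, h3, Scheme.homOfLE_appTop, Scheme.Opens.topIso_hom,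
      Scheme.Opens.topIso_hom]
    erw [← X.presheaf.map_comp, ← X.presheaf.map_comp]
    congr 1
  have hψ2 : (pullback.snd (U₁.ι ≫ f) (U₂.ι ≫ f)).appTop ≫ ψ =
      U₂.topIso.hom ≫ X.presheaf.map (homOfLE (inf_le_right : U₁ ⊓ U₂ ≤ U₂)).op := by
    have h3 : (pullback.snd (U₁.ι ≫ f) (U₂.ι ≫ f)).appTop ≫ n.appTop =
        (X.homOfLE (inf_le_right : U₁ ⊓ U₂ ≤ U₂)).appTop := by
      rw [← Scheme.Hom.comp_appTop, hn2]
    rw [hψ, ← Category.assoc, h3, Scheme.homOfLE_appTop, Scheme.Opens.topIso_hom,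
      Scheme.Opens.topIso_hom]
    erw [← X.presheaf.map_comp, ← X.presheaf.map_comp]
    congr 1
  have hτ : Function.Bijective (U₁ ⊓ U₂).topIso.hom.hom :=
    ConcreteCategory.bijective_of_isIso (U₁ ⊓ U₂).topIso.hom
  haveI : IsIso e.hom.appTop := (inferInstance : IsIso (e.hom.app ⊤))
  have hε : Function.Bijective e.hom.appTop.hom :=
    ConcreteCategory.bijective_of_isIso e.hom.appTop
  have hnapp : n.appTop = (pullback.mapDesc U₁.ι U₂.ι f).appTop ≫ e.hom.appTop := by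
    rw [hn]; rfl
  constructor
  · rintro ⟨hA, hs⟩
    have hs' : Function.Surjective (pullback.mapDesc U₁.ι U₂.ι f).appTop.hom := hs
    refine ⟨hafn.mp hA, ?_⟩
    rw [eq_top_iff]
    intro y _
    obtain ⟨y', rfl⟩ := hτ.surjective y
    obtain ⟨y'', rfl⟩ := hε.surjective y'
    obtain ⟨z, rfl⟩ := hs' y''
    have hz : z ∈ Subring.closure
        (Set.range (pullback.fst (U₁.ι ≫ f) (U₂.ι ≫ f)).appTop.hom ∪
          Set.range (pullback.snd (U₁.ι ≫ f) (U₂.ι ≫ f)).appTop.hom) := by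
      rw [hgen]; trivial
    have hmap : (Subring.closure
        (Set.range (pullback.fst (U₁.ι ≫ f) (U₂.ι ≫ f)).appTop.hom ∪
          Set.range (pullback.snd (U₁.ι ≫ f) (U₂.ι ≫ f)).appTop.hom)).map ψ.hom ≤
        Subring.closure
          (Set.range (X.presheaf.map (homOfLE (inf_le_left : U₁ ⊓ U₂ ≤ U₁)).op).hom ∪
            Set.range (X.presheaf.map (homOfLE (inf_le_right : U₁ ⊓ U₂ ≤ U₂)).op).hom) := by
      rw [RingHom.map_closure]
      apply Subring.closure_mono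
      rintro _ ⟨w, hw | hw, rfl⟩
      · obtain ⟨x, rfl⟩ := hw
        left
        refine ⟨U₁.topIso.hom.hom x, ?_⟩
        have h5 := congrArg (fun φ => φ.hom x) hψ1
        exact h5.symm
      · obtain ⟨x, rfl⟩ := hw
        right
        refine ⟨U₂.topIso.hom.hom x, ?_⟩
        have h5 := congrArg (fun φ => φ.hom x) hψ2
        exact h5.symm
    have h6 : ψ.hom z ∈ Subring.closure
          (Set.range (X.presheaf.map (homOfLE (inf_le_left : U₁ ⊓ U₂ ≤ U₁)).op).hom ∪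
            Set.range (X.presheaf.map (homOfLE (inf_le_right : U₁ ⊓ U₂ ≤ U₂)).op).hom) :=
      hmap ⟨z, hz, rfl⟩
    have h7 : ψ.hom z = (U₁ ⊓ U₂).topIso.hom.hom (e.hom.appTop.hom
        ((pullback.mapDesc U₁.ι U₂.ι f).appTop.hom z)) := by
      rw [hψ, hnapp]; rfl
    rw [h7] at h6
    exact h6
  · rintro ⟨hW, hc⟩
    refine ⟨hafn.mpr hW, ?_⟩
    have hψs : Function.Surjective ψ.hom := by
      rw [← RingHom.range_eq_top, eq_top_iff, ← hc, Subring.closure_le]
      rintro y (⟨x, rfl⟩ | ⟨x, rfl⟩)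
      · obtain ⟨x', rfl⟩ := (ConcreteCategory.bijective_of_isIso U₁.topIso.hom).surjective x
        refine ⟨(pullback.fst (U₁.ι ≫ f) (U₂.ι ≫ f)).appTop.hom x', ?_⟩
        have h5 := congrArg (fun φ => φ.hom x') hψ1
        exact h5
      · obtain ⟨x', rfl⟩ := (ConcreteCategory.bijective_of_isIso U₂.topIso.hom).surjective x
        refine ⟨(pullback.snd (U₁.ι ≫ f) (U₂.ι ≫ f)).appTop.hom x', ?_⟩
        have h5 := congrArg (fun φ => φ.hom x') hψ2
        exact h5
    intro y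
    obtain ⟨z, hz⟩ := hψs ((U₁ ⊓ U₂).topIso.hom.hom (e.hom.appTop.hom y))
    refine ⟨z, ?_⟩
    have h7 : ψ.hom z = (U₁ ⊓ U₂).topIso.hom.hom (e.hom.appTop.hom
        ((pullback.mapDesc U₁.ι U₂.ι f).appTop.hom z)) := by
      rw [hψ, hnapp]; rfl
    rw [h7] at hz
    exact hε.injective (hτ.injective hz)


open AlgebraicGeometry in
open CategoryTheory in
/-- Let Y be an affine scheme, f : X -> Y a morphism and (U i) a cover of X by affine open subschemes.
Then f is separated if and only if, for every pair of indices i, j, the intersection of U i and U j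
is an affine open and its ring of sections is generated, as a ring, by the images of the rings of
sections of U i and of U j under the restriction maps. -/
theorem result
    {X Y : Scheme.{u}} [IsAffine Y] (f : X ⟶ Y) {ι : Type v} (U : ι → X.Opens)
    (hU : ∀ i, IsAffineOpen (U i)) (hcov : ⨆ i, U i = ⊤) :
    IsSeparated f ↔ ∀ i j, IsAffineOpen (U i ⊓ U j) ∧
      Subring.closure (Set.range (X.presheaf.map (homOfLE (inf_le_left : U i ⊓ U j ≤ U i)).op).hom ∪
        Set.range (X.presheaf.map (homOfLE (inf_le_right : U i ⊓ U j ≤ U j)).op).hom) = ⊤ := by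
  classical
  have hiff : ∀ i j, (IsAffine (Limits.pullback (U i).ι (U j).ι) ∧
      Function.Surjective (Limits.pullback.mapDesc (U i).ι (U j).ι f).appTop) ↔
      (IsAffineOpen (U i ⊓ U j) ∧
      Subring.closure (Set.range (X.presheaf.map (homOfLE (inf_le_left : U i ⊓ U j ≤ U i)).op).hom ∪
        Set.range (X.presheaf.map (homOfLE (inf_le_right : U i ⊓ U j ≤ U j)).op).hom) = ⊤) :=
    fun i j => pair_iff f (U i) (U j) (hU i) (hU j)
  have h0 : IsSeparated f ↔ MorphismProperty.diagonal @IsClosedImmersion f :=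
    (isSeparated_iff f).trans Iff.rfl
  have h1 := @HasAffineProperty.diagonal_iff @IsClosedImmersion.{u} _ IsClosedImmersion.hasAffineProperty X Y f _
  rw [h0, ← h1]
  constructor
  · intro H i j
    haveI : IsAffine ((U i : X.Opens) : Scheme.{u}) := hU i
    haveI : IsAffine ((U j : X.Opens) : Scheme.{u}) := hU j
    exact (hiff i j).mp (H (U i).ι (U j).ι)
  · intro H
    letI := IsClosedImmersion.hasAffineProperty.{u}.isLocal_affineProperty
    haveI : ∀ i, IsAffine ((X.openCoverOfIsOpenCover U hcov).X i) := fun i => hU i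
    exact AffineTargetMorphismProperty.diagonal_of_openCover_source f
      (X.openCoverOfIsOpenCover U hcov) (fun i j => (hiff i j).mpr (H i j))

end Groth.Agent.S4363
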