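import Groth.Statements.S4365
import Mathlib

set_option autoImplicit false
set_option linter.style.haveILetI false
set_option linter.unusedSectionVars false
set_option linter.unusedVariables false
universe u
open FinCond

namespace Groth.Agent.S4365

section Helpers
open AlgebraicGeometry CategoryTheory Limits

/-- (as in helper36's S16721) a nonempty scheme locally of finite type over an algebraically
closed field has a rational point. -/
theorem exists_section_of_isAlgClosed' {K : Type u} [Field K] [IsAlgClosed K] {Z : Scheme.{u}}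
    (f : Z ⟶ Spec (CommRingCat.of K)) [LocallyOfFiniteType f] [Nonempty Z] :
    ∃ s : Spec (CommRingCat.of K) ⟶ Z, s ≫ f = 𝟙 _ := by
  haveI : JacobsonSpace Z := LocallyOfFiniteType.jacobsonSpace f
  obtain ⟨x, -, hx⟩ := nonempty_inter_closedPoints (X := Z) Set.univ_nonempty
    isOpen_univ.isLocallyClosed
  exact ⟨pointOfClosedPoint f x hx, pointOfClosedPoint_comp f x hx⟩

theorem exists_injective_ringHom (K Ω : Type u) [Field K] [Field Ω] [IsAlgClosed Ω]
    [Algebra K Ω] (t : ℕ → Ω) (ht : AlgebraicIndependent K t)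
    (D : Type u) [CommRing D] [IsDomain D] [Algebra K D] [Algebra.FiniteType K D] :
    ∃ χ : D →+* Ω, Function.Injective χ ∧
      ∀ k : K, χ (algebraMap K D k) = algebraMap K Ω k := by
  obtain ⟨ι, x, hx⟩ := exists_isTranscendenceBasis' K D
  have hfin : Finite ι := by
    have h1 : Cardinal.mk ι < Cardinal.aleph0 := by
      rw [hx.cardinalMk_eq_trdeg]
      exact trdeg_lt_aleph0_of_finiteType
    exact Cardinal.lt_aleph0_iff_finite.mp h1
  obtain ⟨e, he⟩ := Countable.exists_injective_nat ι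
  have hte : AlgebraicIndependent K (t ∘ e) := ht.comp e he
  have hte' : Function.Injective (MvPolynomial.aeval (t ∘ e) : MvPolynomial ι K →ₐ[K] Ω) := hte
  obtain ⟨g, hg⟩ : ∃ g : Algebra.adjoin K (Set.range x) →ₐ[K] Ω, Function.Injective g := by
    refine ⟨(MvPolynomial.aeval (t ∘ e) : MvPolynomial ι K →ₐ[K] Ω).comp
      (hx.1.aevalEquiv.symm : _ →ₐ[K] MvPolynomial ι K), ?_⟩
    rw [AlgHom.coe_comp]
    exact Function.Injective.comp hte' hx.1.aevalEquiv.symm.injective
  letI : Algebra (Algebra.adjoin K (Set.range x)) Ω := (g : _ →+* Ω).toAlgebra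
  have hgalg : ∀ r, algebraMap (Algebra.adjoin K (Set.range x)) Ω r = g r := fun r => rfl
  haveI : Module.IsTorsionFree (Algebra.adjoin K (Set.range x)) Ω :=
    Module.isTorsionFree_iff_algebraMap_injective.mpr hg
  haveI : Algebra.IsAlgebraic (Algebra.adjoin K (Set.range x)) D := hx.isAlgebraic
  obtain ⟨χ₀⟩ : Nonempty (D →ₐ[Algebra.adjoin K (Set.range x)] Ω) := ⟨IsAlgClosed.lift⟩
  refine ⟨χ₀.toRingHom, ?_, ?_⟩
  · rw [injective_iff_map_eq_zero]
    intro d hd
    have hd' : χ₀ d = 0 := hd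
    by_contra hne
    obtain ⟨r, hr, c, hc⟩ :=
      (Algebra.IsAlgebraic.isAlgebraic (R := Algebra.adjoin K (Set.range x)) d).exists_nonzero_dvd
        (mem_nonZeroDivisors_of_ne_zero hne)
    have h1 : χ₀ (algebraMap (Algebra.adjoin K (Set.range x)) D r) = 0 := by
      rw [hc, map_mul, hd', zero_mul]
    rw [χ₀.commutes, hgalg] at h1
    exact hr ((injective_iff_map_eq_zero g).mp hg r h1)
  · intro k
    show χ₀ (algebraMap K D k) = _
    rw [IsScalarTower.algebraMap_apply K (Algebra.adjoin K (Set.range x)) D, χ₀.commutes, hgalg,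
      AlgHom.commutes]

theorem lift_point_of_surjective {K Ω : Type u} [Field K] [Field Ω] [IsAlgClosed Ω]
    {X Y : Scheme.{u}} (pX : X ⟶ Spec (CommRingCat.of K)) (pY : Y ⟶ Spec (CommRingCat.of K))
    [LocallyOfFiniteType pX] (f : X ⟶ Y) (hf : f ≫ pY = pX) [Surjective f]
    (y : Spec (CommRingCat.of Ω) ⟶ Y) :
    ∃ x : Spec (CommRingCat.of Ω) ⟶ X, x ≫ f = y := by
  haveI : LocallyOfFiniteType (f ≫ pY) := hf ▸ inferInstance
  haveI : LocallyOfFiniteType f := locallyOfFiniteType_of_comp f pY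
  haveI : Nonempty ↑(pullback f y) := by
    obtain ⟨w⟩ : Nonempty (Spec (CommRingCat.of Ω)) :=
      ⟨(⟨⊥, Ideal.isPrime_bot⟩ : PrimeSpectrum Ω)⟩
    obtain ⟨z, -⟩ := (pullback.snd f y).surjective w
    exact ⟨z⟩
  obtain ⟨σ, hσ⟩ := exists_section_of_isAlgClosed' (pullback.snd f y)
  refine ⟨σ ≫ pullback.fst f y, ?_⟩
  rw [Category.assoc, pullback.condition, ← Category.assoc, hσ, Category.id_comp]

theorem exists_point_over (K Ω : Type u) [Field K] [Field Ω] [IsAlgClosed Ω] [Algebra K Ω]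
    (t : ℕ → Ω) (ht : AlgebraicIndependent K t) {Y : Scheme.{u}}
    (pY : Y ⟶ Spec (CommRingCat.of K)) [LocallyOfFiniteType pY] (y₀ : Y) :
    ∃ y : Spec (CommRingCat.of Ω) ⟶ Y,
      y ≫ pY = Spec.map (CommRingCat.ofHom (algebraMap K Ω)) ∧
      ∀ z : Spec (CommRingCat.of Ω), y z = y₀ := by
  obtain ⟨_, ⟨V, hV, rfl⟩, hyV, -⟩ :=
    Y.isBasis_affineOpens.exists_subset_of_mem_open (Set.mem_univ y₀) isOpen_univ
  have hV' : IsAffineOpen V := hV
  obtain ⟨φ, hφ⟩ : ∃ φ : CommRingCat.of K ⟶ Γ(Y, V), Spec.map φ = hV'.fromSpec ≫ pY :=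
    ⟨Spec.preimage (hV'.fromSpec ≫ pY), Spec.map_preimage _⟩
  have hft : φ.hom.FiniteType := by
    haveI : LocallyOfFiniteType (Spec.map φ) := by
      rw [hφ]
      infer_instance
    exact (HasRingHomProperty.Spec_iff (P := @LocallyOfFiniteType)).mp inferInstance
  obtain ⟨p, hp⟩ : ∃ p : PrimeSpectrum Γ(Y, V), hV'.fromSpec p = y₀ :=
    ⟨hV'.primeIdealOf ⟨y₀, hyV⟩, hV'.fromSpec_primeIdealOf ⟨y₀, hyV⟩⟩
  letI : Algebra K Γ(Y, V) := φ.hom.toAlgebra
  haveI : Algebra.FiniteType K Γ(Y, V) := hft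
  haveI := p.isPrime
  obtain ⟨χ, hχinj, hχK⟩ := exists_injective_ringHom K Ω t ht (Γ(Y, V) ⧸ p.asIdeal)
  obtain ⟨ψ, hψ⟩ : ∃ ψ : Γ(Y, V) →+* Ω, ψ = χ.comp (Ideal.Quotient.mk p.asIdeal) := ⟨_, rfl⟩
  have hker : RingHom.ker ψ = p.asIdeal := by
    rw [hψ]
    ext a
    rw [RingHom.mem_ker, RingHom.comp_apply, ← Ideal.Quotient.eq_zero_iff_mem]
    constructor
    · intro h
      exact (injective_iff_map_eq_zero χ).mp hχinj _ h
    · intro h
      rw [h, map_zero]
  have hcomp : ψ.comp φ.hom = algebraMap K Ω := by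
    ext k
    rw [hψ]
    exact hχK k
  refine ⟨Spec.map (CommRingCat.ofHom ψ) ≫ hV'.fromSpec, ?_, ?_⟩
  · rw [Category.assoc, ← hφ, ← Spec.map_comp]
    congr 1
    ext k
    exact RingHom.congr_fun hcomp k
  · intro z
    rw [Scheme.Hom.comp_apply, Spec.map_apply]
    have hz : z.asIdeal = ⊥ := by
      haveI := z.isPrime
      exact Ideal.eq_bot_of_prime (K := Ω) z.asIdeal
    have hzp : PrimeSpectrum.comap (CommRingCat.ofHom ψ).hom z = p := by
      apply PrimeSpectrum.ext
      show Ideal.comap ψ z.asIdeal = p.asIdeal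
      rw [hz, ← RingHom.ker_eq_comap_bot, hker]
    rw [hzp, hp]

end Helpers


open AlgebraicGeometry in
open CategoryTheory in
/-- Let K be a field, X and Y schemes locally of finite type over K, f : X -> Y a K-morphism and Ω an
algebraically closed extension field of K of infinite transcendence degree over K (there is an
algebraically independent sequence in Ω). Then f is surjective if and only if the map it induces
from the K-points of X with values in Ω to those of Y is surjective, i.e. every K-morphism Spec Ω ->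
Y factors through f. (The published proposition assumes X and Y of finite type over K, and a later
remark of the same text extends it to X and Y locally of finite type over K, the form stated here.) -/
theorem result
    (K Ω : Type u) [Field K] [Field Ω] [IsAlgClosed Ω] [Algebra K Ω]
    (t : ℕ → Ω) (ht : AlgebraicIndependent K t)
    {X Y : Scheme.{u}} (pX : X ⟶ Spec (CommRingCat.of K)) (pY : Y ⟶ Spec (CommRingCat.of K))
    [LocallyOfFiniteType pX] [LocallyOfFiniteType pY] (f : X ⟶ Y) (hf : f ≫ pY = pX) :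
    Surjective f ↔ ∀ y : Spec (CommRingCat.of Ω) ⟶ Y,
      y ≫ pY = Spec.map (CommRingCat.ofHom (algebraMap K Ω)) →
        ∃ x : Spec (CommRingCat.of Ω) ⟶ X, x ≫ f = y := by
  constructor
  · intro hs y hy
    haveI := hs
    exact lift_point_of_surjective pX pY f hf y
  · intro H
    refine ⟨fun y₀ => ?_⟩
    obtain ⟨y, hy, hyz⟩ := exists_point_over K Ω t ht pY y₀
    obtain ⟨x, hx⟩ := H y hy
    obtain ⟨w⟩ : Nonempty (Spec (CommRingCat.of Ω)) :=
      ⟨(⟨⊥, Ideal.isPrime_bot⟩ : PrimeSpectrum Ω)⟩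
    refine ⟨x w, ?_⟩
    rw [← Scheme.Hom.comp_apply, hx]
    exact hyz w

end Groth.Agent.S4365
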