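import Groth.Statements.S4367
import Mathlib.AlgebraicGeometry.PullbackCarrier

set_option autoImplicit false
universe u
open RedSep

namespace Groth.Agent.S4367

open AlgebraicGeometry in
open CategoryTheory in
/-- Let X be a reduced scheme, f : X -> Y a morphism and j : Z -> Y a closed immersion (a closed
subscheme of Y) such that the image of f is contained, as a set, in the image of j. Then f factors
as a morphism X -> Z followed by j. -/
theorem result
    {X Y Z : Scheme.{u}} [IsReduced X] (f : X ⟶ Y) (j : Z ⟶ Y) [IsClosedImmersion j]
    (h : Set.range f ⊆ Set.range j) :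
    ∃ g : X ⟶ Z, g ≫ j = f := by
  have hsurj : Surjective (Limits.pullback.fst f j) := by
    rw [surjective_iff, ← Set.range_eq_univ, Scheme.Pullback.range_fst]
    exact Set.eq_univ_of_forall fun x => h ⟨x, rfl⟩
  have : IsIso (Limits.pullback.fst f j) :=
    isIso_of_isClosedImmersion_of_surjective _
  refine ⟨inv (Limits.pullback.fst f j) ≫ Limits.pullback.snd f j, ?_⟩
  rw [Category.assoc, ← Limits.pullback.condition, IsIso.inv_hom_id_assoc]

end Groth.Agent.S4367
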