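import Groth.Statements.S4368
import Mathlib.RingTheory.Ideal.Quotient.Nilpotent

set_option autoImplicit false
universe u
open RedSep

namespace Groth.Agent.S4368

open AlgebraicGeometry in
/-- The closed subscheme defined by `I` is reduced iff all the ideals of `I` are radical. -/
theorem isReduced_subscheme_iff (X : Scheme.{u}) (I : X.IdealSheafData) :
    IsReduced I.subscheme ↔ ∀ U : X.affineOpens, (I.ideal U).IsRadical := by
  rw [IsReduced.iff_of_openCover _ I.subschemeCover.openCover]
  change (∀ U : X.affineOpens, IsReduced (Spec (.of <| Γ(X, U) ⧸ I.ideal U))) ↔ _
  refine forall_congr' fun U => ?_
  rw [affine_isReduced_iff]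
  exact (Ideal.isRadical_iff_quotient_reduced _).symm

open AlgebraicGeometry in
open CategoryTheory in
/-- Let X be a scheme and I a quasi-coherent sheaf of ideals of O_X whose support is all of X, so that
the closed subscheme it defines has underlying space X. Then that closed subscheme is reduced if and
only if I is the nilradical of O_X. In particular the closed subscheme defined by the nilradical is
the unique reduced closed subscheme of X with underlying space X (and, the support condition being
equivalent to I being contained in the nilradical, the smallest one). -/
theorem result
    (X : Scheme.{u}) (I : X.IdealSheafData) (hI : I.support = ⊤) :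
    IsReduced I.subscheme ↔ I = X.nilradical := by
  have hle : I ≤ X.nilradical := by
    rw [← Scheme.IdealSheafData.vanishingIdeal_top,
      ← Scheme.IdealSheafData.le_support_iff_le_vanishingIdeal, hI]
  rw [isReduced_subscheme_iff]
  constructor
  · intro h
    refine le_antisymm hle ?_
    intro U
    change (X.nilradical.ideal U) ≤ I.ideal U
    rw [Scheme.nilradical, Scheme.IdealSheafData.radical_ideal, ← (h U).radical]
    exact Ideal.radical_mono bot_le
  · rintro rfl U
    rw [Scheme.nilradical, Scheme.IdealSheafData.radical_ideal]
    exact Ideal.radical_isRadical _

end Groth.Agent.S4368
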