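import Groth.Statements.S4369


set_option autoImplicit false
universe u
open AffSch

namespace Groth.Agent.S4369

/-- Let φ : A' -> A be a ring homomorphism such that every f in A can be written f = h φ(f') with h
invertible in A (this holds in particular when φ is surjective). Then the associated continuous map
Spec A -> Spec A' is a homeomorphism onto its image. -/
theorem result
    {A' A : Type u} [CommRing A'] [CommRing A] (φ : A' →+* A)
    (h : ∀ f : A, ∃ (u : Aˣ) (f' : A'), f = (u : A) * φ f') :
    Topology.IsEmbedding (PrimeSpectrum.comap φ) := by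
  choose u f' hf' using h
  have key : ∀ (p : PrimeSpectrum A) (f : A),
      f ∈ p.asIdeal ↔ f' f ∈ (PrimeSpectrum.comap φ p).asIdeal := by
    intro p f
    rw [PrimeSpectrum.comap_asIdeal, Ideal.mem_comap]
    conv_lhs => rw [hf' f]
    exact Ideal.unit_mul_mem_iff_mem _ (u f).isUnit
  refine (Topology.isEmbedding_iff _).2 ⟨⟨?_⟩, ?_⟩
  · refine TopologicalSpace.ext_isClosed fun Z => ?_
    simp_rw [isClosed_induced_iff, PrimeSpectrum.isClosed_iff_zeroLocus]
    constructor
    · rintro ⟨s, rfl⟩
      refine ⟨PrimeSpectrum.zeroLocus (f' '' s), ⟨_, rfl⟩, ?_⟩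
      ext p
      simp only [Set.mem_preimage, PrimeSpectrum.mem_zeroLocus, Set.subset_def, Set.mem_image,
        SetLike.mem_coe, forall_exists_index, and_imp, forall_apply_eq_imp_iff₂]
      exact forall₂_congr fun f _ => (key p f).symm
    · rintro ⟨_, ⟨s, rfl⟩, rfl⟩
      exact ⟨φ '' s, PrimeSpectrum.preimage_comap_zeroLocus φ s⟩
  · intro p q hpq
    ext f
    rw [key p, key q, hpq]

end Groth.Agent.S4369
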