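import Groth.Statements.S4370
import Groth.Agent.S4368
import Mathlib.AlgebraicGeometry.Morphisms.ClosedImmersion
import Mathlib.AlgebraicGeometry.PullbackCarrier

set_option autoImplicit false
universe u
open RedSep

namespace Groth.Agent.S4370

open AlgebraicGeometry in
open CategoryTheory in
/-- Let f : X -> Y be an open immersion and let g : X_red -> Y_red be the morphism of reduced schemes
induced by f, i.e. the morphism between the closed subschemes defined by the nilradicals whose
composite with the inclusion of Y_red in Y is the inclusion of X_red in X followed by f. Then g is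
an open immersion. -/
theorem result
    {X Y : Scheme.{u}} (f : X ⟶ Y) [IsOpenImmersion f]
    (g : X.nilradical.subscheme ⟶ Y.nilradical.subscheme)
    (hg : g ≫ Y.nilradical.subschemeι = X.nilradical.subschemeι ≫ f) :
    IsOpenImmersion g := by
  have hYred : IsReduced Y.nilradical.subscheme :=
    (Groth.Agent.S4368.result Y Y.nilradical rfl).mpr rfl
  let φ : X.nilradical.subscheme ⟶ Limits.pullback Y.nilradical.subschemeι f :=
    Limits.pullback.lift g X.nilradical.subschemeι hg
  have hφ1 : φ ≫ Limits.pullback.snd _ _ = X.nilradical.subschemeι := Limits.pullback.lift_snd _ _ _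
  have hφ2 : φ ≫ Limits.pullback.fst _ _ = g := Limits.pullback.lift_fst _ _ _
  have : IsClosedImmersion (φ ≫ Limits.pullback.snd Y.nilradical.subschemeι f) := by
    rw [hφ1]; infer_instance
  have hφcl : IsClosedImmersion φ :=
    IsClosedImmersion.of_comp_isClosedImmersion φ (Limits.pullback.snd Y.nilradical.subschemeι f)
  have hPred : IsReduced (Limits.pullback Y.nilradical.subschemeι f) :=
    isReduced_of_isOpenImmersion (Limits.pullback.fst Y.nilradical.subschemeι f)
  have hsurjι : Function.Surjective X.nilradical.subschemeι := by
    rw [← Set.range_eq_univ, Scheme.IdealSheafData.range_subschemeι]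
    rfl
  have hφsurj : Surjective φ := by
    constructor
    intro p
    obtain ⟨x, hx⟩ := hsurjι (Limits.pullback.snd Y.nilradical.subschemeι f p)
    refine ⟨x, ?_⟩
    apply (Limits.pullback.snd Y.nilradical.subschemeι f).isClosedEmbedding.injective
    rw [← hx, ← hφ1]
    rfl
  have : IsIso φ := isIso_of_isClosedImmersion_of_surjective φ
  rw [← hφ2]
  infer_instance

end Groth.Agent.S4370
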