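import Groth.Statements.S4371
import Mathlib
-- import your own Groth.Agent.* helpers here

set_option autoImplicit false
universe u
open RedSep

namespace Groth.Agent.S4371

open AlgebraicGeometry CategoryTheory Opposite TopologicalSpace

/-- restriction map of the structure sheaf, indexed by a proof of `V ≤ U`. -/
noncomputable def res (X : Scheme.{u}) {U V : X.Opens} (h : V ≤ U) : Γ(X, U) →+* Γ(X, V) :=
  (X.presheaf.map (homOfLE h).op).hom

theorem res_res (X : Scheme.{u}) {U V W : X.Opens} (h1 : V ≤ U) (h2 : W ≤ V) (x : Γ(X, U)) :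
    res X h2 (res X h1 x) = res X (h2.trans h1) x := by
  unfold res
  have : (homOfLE (h2.trans h1)) = homOfLE h2 ≫ homOfLE h1 := Subsingleton.elim _ _
  rw [this, op_comp, X.presheaf.map_comp]
  rfl

theorem loc_facts (X : Scheme.{u}) [IsAffine X] [IsDomain Γ(X, ⊤)] (f : Γ(X, ⊤)) (hf : f ≠ 0) :
    Function.Injective (res X (le_top : X.basicOpen f ≤ ⊤)) ∧
    IsUnit (res X (le_top : X.basicOpen f ≤ ⊤) f) ∧
    ∀ y : Γ(X, X.basicOpen f), ∃ (a : Γ(X, ⊤)) (n : ℕ),
      y * res X (le_top : X.basicOpen f ≤ ⊤) (f ^ n) = res X (le_top : X.basicOpen f ≤ ⊤) a := by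
  have hX := isAffineOpen_top X
  letI : Algebra Γ(X, ⊤) Γ(X, X.basicOpen f) := (res X (le_top : X.basicOpen f ≤ ⊤)).toAlgebra
  haveI : IsLocalization.Away f Γ(X, X.basicOpen f) :=
    hX.isLocalization_of_eq_basicOpen f (homOfLE le_top) rfl
  refine ⟨?_, ?_, ?_⟩
  · exact IsLocalization.injective (M := Submonoid.powers f) _
      (powers_le_nonZeroDivisors_of_noZeroDivisors hf)
  · exact IsLocalization.Away.algebraMap_isUnit f
  · intro y
    obtain ⟨⟨a, ⟨_, n, rfl⟩⟩, ha⟩ := IsLocalization.surj (Submonoid.powers f) y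
    exact ⟨a, n, ha⟩

theorem core (X : Scheme.{u}) [IsAffine X] [IsDomain Γ(X, ⊤)] (f g : Γ(X, ⊤))
    (hf : Prime f) (hg : g ≠ 0) (hfg : ¬ f ∣ g) :
    Function.Bijective (res X (le_top : X.basicOpen f ⊔ X.basicOpen g ≤ ⊤)) := by
  have hfg0 : f * g ≠ 0 := mul_ne_zero hf.ne_zero hg
  have hle1 : X.basicOpen (f * g) ≤ X.basicOpen f := by
    rw [Scheme.basicOpen_mul]; exact inf_le_left
  have hle2 : X.basicOpen (f * g) ≤ X.basicOpen g := by
    rw [Scheme.basicOpen_mul]; exact inf_le_right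
  have hjF : X.basicOpen f ≤ X.basicOpen f ⊔ X.basicOpen g := le_sup_left
  have hjG : X.basicOpen g ≤ X.basicOpen f ⊔ X.basicOpen g := le_sup_right
  obtain ⟨injF, unitF, surjF⟩ := loc_facts X f hf.ne_zero
  obtain ⟨injG, unitG, surjG⟩ := loc_facts X g hg
  obtain ⟨injFG, -, -⟩ := loc_facts X (f * g) hfg0
  constructor
  · intro a b hab
    apply injF
    have := congrArg (res X hjF) hab
    simpa only [res_res] using this
  · intro σ
    obtain ⟨a, n, ha⟩ := surjF (res X hjF σ)
    obtain ⟨b, m, hb⟩ := surjG (res X hjG σ)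
    have e1 : res X (hle1.trans hjF) σ * res X (le_top : X.basicOpen (f * g) ≤ ⊤) (f ^ n)
        = res X (le_top : X.basicOpen (f * g) ≤ ⊤) a := by
      have := congrArg (res X hle1) ha
      simpa only [map_mul, res_res] using this
    have e2 : res X (hle1.trans hjF) σ * res X (le_top : X.basicOpen (f * g) ≤ ⊤) (g ^ m)
        = res X (le_top : X.basicOpen (f * g) ≤ ⊤) b := by
      have := congrArg (res X hle2) hb
      simpa only [map_mul, res_res] using this
    have key : a * g ^ m = b * f ^ n := by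
      apply injFG
      rw [map_mul, map_mul, ← e1, ← e2]; ring
    have hdvd : f ^ n ∣ a := by
      apply Prime.pow_dvd_of_dvd_mul_right hf n (fun h => hfg (hf.dvd_of_dvd_pow h))
      exact ⟨b, by rw [key]; ring⟩
    obtain ⟨c, rfl⟩ := hdvd
    have hb2 : b = c * g ^ m := by
      have hfn : f ^ n ≠ 0 := pow_ne_zero _ hf.ne_zero
      apply mul_left_cancel₀ hfn
      rw [mul_comm (f ^ n) b, ← key]; ring
    subst hb2
    refine ⟨c, ?_⟩
    symm
    apply X.sheaf.eq_of_locally_eq₂ (homOfLE hjF) (homOfLE hjG) le_rfl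
    · show res X hjF σ = res X hjF (res X le_top c)
      rw [res_res]
      have hu : IsUnit (res X (le_top : X.basicOpen f ≤ ⊤) (f ^ n)) := by
        rw [map_pow]; exact unitF.pow n
      rw [← hu.mul_left_inj, ha, map_mul]
      exact mul_comm _ _
    · show res X hjG σ = res X hjG (res X le_top c)
      rw [res_res]
      have hu : IsUnit (res X (le_top : X.basicOpen g ≤ ⊤) (g ^ m)) := by
        rw [map_pow]; exact unitG.pow m
      rw [← hu.mul_left_inj, hb, map_mul]


open AlgebraicGeometry in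
open CategoryTheory in
/-- Let K be a field and Y = Spec K[s, t] the affine plane over K. The open subset D(s) ∪ D(t) of Y, the
complement of the closed point s = t = 0, is not affine. -/
theorem result
    (K : Type u) [Field K] :
    ¬ IsAffineOpen (X := Spec (CommRingCat.of (MvPolynomial (Fin 2) K)))
      (PrimeSpectrum.basicOpen (MvPolynomial.X 0 : MvPolynomial (Fin 2) K) ⊔
        PrimeSpectrum.basicOpen (MvPolynomial.X 1 : MvPolynomial (Fin 2) K)) := by
  intro hU
  obtain ⟨R, hR⟩ : ∃ R : CommRingCat.{u}, R = CommRingCat.of (MvPolynomial (Fin 2) K) := ⟨_, rfl⟩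
  subst hR
  have e0 := basicOpen_eq_of_affine (R := CommRingCat.of (MvPolynomial (Fin 2) K))
    (MvPolynomial.X 0 : MvPolynomial (Fin 2) K)
  have e1 := basicOpen_eq_of_affine (R := CommRingCat.of (MvPolynomial (Fin 2) K))
    (MvPolynomial.X 1 : MvPolynomial (Fin 2) K)
  rw [← e0, ← e1] at hU
  let e : Γ(Spec (CommRingCat.of (MvPolynomial (Fin 2) K)), ⊤) ≃+* MvPolynomial (Fin 2) K :=
    (Scheme.ΓSpecIso (CommRingCat.of (MvPolynomial (Fin 2) K))).commRingCatIsoToRingEquiv
  haveI : IsDomain Γ(Spec (CommRingCat.of (MvPolynomial (Fin 2) K)), ⊤) :=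
    MulEquiv.isDomain (MvPolynomial (Fin 2) K) e.toMulEquiv
  have hnd : ¬ (MvPolynomial.X 0 : MvPolynomial (Fin 2) K) ∣ MvPolynomial.X 1 := by
    rintro ⟨q, hq⟩
    have := congrArg (MvPolynomial.eval (fun i : Fin 2 => if i = 0 then (0 : K) else 1)) hq
    simp at this
  have hf : Prime (e.symm (MvPolynomial.X 0)) :=
    (MulEquiv.prime_iff e.symm).mpr MvPolynomial.X_prime
  have hg : e.symm (MvPolynomial.X 1) ≠ 0 :=
    (map_ne_zero_iff e.symm e.symm.injective).mpr (MvPolynomial.X_ne_zero 1)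
  have hfg : ¬ e.symm (MvPolynomial.X 0) ∣ e.symm (MvPolynomial.X 1) := by
    rw [map_dvd_iff e.symm]; exact hnd
  have hbij := core (Spec (CommRingCat.of (MvPolynomial (Fin 2) K))) _ _ hf hg hfg
  change IsAffineOpen ((Spec (CommRingCat.of (MvPolynomial (Fin 2) K))).basicOpen (e.symm (MvPolynomial.X 0)) ⊔
    (Spec (CommRingCat.of (MvPolynomial (Fin 2) K))).basicOpen (e.symm (MvPolynomial.X 1))) at hU
  have hX := isAffineOpen_top (Spec (CommRingCat.of (MvPolynomial (Fin 2) K)))
  have hcomp := hX.map_fromSpec hU (homOfLE le_top).op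
  haveI : IsIso ((Spec (CommRingCat.of (MvPolynomial (Fin 2) K))).presheaf.map
      (homOfLE (le_top : (Spec (CommRingCat.of (MvPolynomial (Fin 2) K))).basicOpen (e.symm (MvPolynomial.X 0)) ⊔
    (Spec (CommRingCat.of (MvPolynomial (Fin 2) K))).basicOpen (e.symm (MvPolynomial.X 1)) ≤ ⊤)).op) :=
    (ConcreteCategory.isIso_iff_bijective _).mpr hbij
  haveI : IsIso hX.fromSpec := by rw [IsAffineOpen.fromSpec_top]; infer_instance
  haveI : IsIso hU.fromSpec := by rw [← hcomp]; infer_instance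
  have hsurj : Function.Surjective hU.fromSpec := hU.fromSpec.homeomorph.surjective
  have hr := hU.range_fromSpec
  let x : PrimeSpectrum (MvPolynomial (Fin 2) K) :=
    ⟨RingHom.ker (MvPolynomial.eval (fun _ : Fin 2 => (0 : K))), RingHom.ker_isPrime _⟩
  have hx : x ∈ ((Spec (CommRingCat.of (MvPolynomial (Fin 2) K))).basicOpen (e.symm (MvPolynomial.X 0)) ⊔
    (Spec (CommRingCat.of (MvPolynomial (Fin 2) K))).basicOpen (e.symm (MvPolynomial.X 1)) :
      (Spec (CommRingCat.of (MvPolynomial (Fin 2) K))).Opens) := by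
    have hmem : x ∈ Set.range hU.fromSpec := hsurj x
    rw [hr] at hmem
    exact hmem
  change x ∈ ((Spec (CommRingCat.of (MvPolynomial (Fin 2) K))).basicOpen
    ((Scheme.ΓSpecIso (CommRingCat.of (MvPolynomial (Fin 2) K))).inv (MvPolynomial.X 0)) ⊔
    (Spec (CommRingCat.of (MvPolynomial (Fin 2) K))).basicOpen
    ((Scheme.ΓSpecIso (CommRingCat.of (MvPolynomial (Fin 2) K))).inv (MvPolynomial.X 1)) :
      (Spec (CommRingCat.of (MvPolynomial (Fin 2) K))).Opens) at hx
  rw [e0, e1] at hx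
  rcases hx with hx | hx
  · apply hx
    show (MvPolynomial.X 0 : MvPolynomial (Fin 2) K) ∈ RingHom.ker _
    simp [RingHom.mem_ker]
  · apply hx
    show (MvPolynomial.X 1 : MvPolynomial (Fin 2) K) ∈ RingHom.ker _
    simp [RingHom.mem_ker]

end Groth.Agent.S4371
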