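import Groth.Statements.S4372
import Groth.Agent.S4368
import Groth.Agent.S4367
import Mathlib.AlgebraicGeometry.Morphisms.Immersion
import Mathlib.AlgebraicGeometry.PullbackCarrier

set_option autoImplicit false
universe u
open RedSep

namespace Groth.Agent.S4372

open AlgebraicGeometry in
open CategoryTheory in
/-- Let h : Z -> X be an immersion with Z reduced (a reduced subscheme of X), and let W be the reduced
closed subscheme of X whose underlying space is the closure of h(Z). Then Z is an open subscheme of
W: h factors as an open immersion Z -> W followed by the closed immersion W -> X. Stated as the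
existence of such a factorization through a reduced scheme W closed-immersed onto the closure of the
image. -/
theorem result
    {Z X : Scheme.{u}} (h : Z ⟶ X) [IsImmersion h] [IsReduced Z] :
    ∃ (W : Scheme.{u}) (j : Z ⟶ W) (i : W ⟶ X), IsOpenImmersion j ∧ IsClosedImmersion i ∧
      IsReduced W ∧ Set.range i = closure (Set.range h) ∧ j ≫ i = h := by
  let C : TopologicalSpace.Closeds X := ⟨closure (Set.range h), isClosed_closure⟩
  let I := Scheme.IdealSheafData.vanishingIdeal C
  have hrange : Set.range I.subschemeι = closure (Set.range h) := by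
    rw [Scheme.IdealSheafData.range_subschemeι]
    exact Scheme.IdealSheafData.coe_support_vanishingIdeal C
  have hWred : IsReduced I.subscheme := by
    rw [Groth.Agent.S4368.isReduced_subscheme_iff]
    intro U
    rw [Scheme.IdealSheafData.vanishingIdeal_ideal]
    intro x ⟨n, hn⟩
    rw [PrimeSpectrum.mem_vanishingIdeal] at hn ⊢
    exact fun p hp => p.2.mem_of_pow_mem n (hn p hp)
  obtain ⟨j, hj⟩ := Groth.Agent.S4367.result h I.subschemeι (by
    rw [hrange]; exact subset_closure)
  refine ⟨I.subscheme, j, I.subschemeι, ?_, inferInstance, hWred, hrange, hj⟩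
  -- `j` is an open immersion
  let U := h.coborderRange
  let φ : Z ⟶ Limits.pullback I.subschemeι U.ι :=
    Limits.pullback.lift j h.liftCoborder (by rw [hj, Scheme.Hom.liftCoborder_ι])
  have hφ1 : φ ≫ Limits.pullback.snd _ _ = h.liftCoborder := Limits.pullback.lift_snd _ _ _
  have hφ2 : φ ≫ Limits.pullback.fst _ _ = j := Limits.pullback.lift_fst _ _ _
  have : IsClosedImmersion (φ ≫ Limits.pullback.snd I.subschemeι U.ι) := by
    rw [hφ1]; infer_instance
  have hφcl : IsClosedImmersion φ :=
    IsClosedImmersion.of_comp_isClosedImmersion φ (Limits.pullback.snd I.subschemeι U.ι)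
  have hPred : IsReduced (Limits.pullback I.subschemeι U.ι) :=
    isReduced_of_isOpenImmersion (Limits.pullback.fst I.subschemeι U.ι)
  have hφsurj : Surjective φ := by
    constructor
    intro p
    -- the image of `p` in `X` lies in `closure (range h) ∩ coborder (range h) = range h`
    have h1 : U.ι (Limits.pullback.snd I.subschemeι U.ι p) ∈ closure (Set.range h) := by
      rw [← hrange]
      refine ⟨Limits.pullback.fst I.subschemeι U.ι p, ?_⟩
      rw [← Scheme.Hom.comp_apply, Limits.pullback.condition]
      rfl
    have h2 : U.ι (Limits.pullback.snd I.subschemeι U.ι p) ∈ coborder (Set.range h) :=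
      (Limits.pullback.snd I.subschemeι U.ι p).2
    have h3 : U.ι (Limits.pullback.snd I.subschemeι U.ι p) ∈ Set.range h := by
      rw [← closure_inter_coborder (s := Set.range h)]
      exact ⟨h1, h2⟩
    obtain ⟨z, hz⟩ := h3
    refine ⟨z, ?_⟩
    apply (Limits.pullback.snd I.subschemeι U.ι).isClosedEmbedding.injective
    apply U.ι.isOpenEmbedding.injective
    rw [← hz, ← Scheme.Hom.comp_apply, ← Scheme.Hom.comp_apply, ← Category.assoc, hφ1,
      Scheme.Hom.liftCoborder_ι]
  have : IsIso φ := isIso_of_isClosedImmersion_of_surjective φ
  rw [← hφ2]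
  infer_instance

end Groth.Agent.S4372
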