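import Groth.Statements.S4375
import Mathlib
import Groth.Agent.H22.SerreAffine

set_option autoImplicit false
universe u
open CategoryTheory CategoryTheory.Limits AlgebraicGeometry
open EGA2

namespace Groth.Agent.S4375

open Groth.Agent.H22.SerreAffine

/-- (c') ⇒ (a): let X be a quasi-compact separated scheme. Suppose that for every n, every
quasi-coherent O_X-module F admitting a monomorphism into the free module O_X^n, and every
epimorphism p : F → F'' onto a quasi-coherent O_X-module, the map induced by p on global sections is
surjective. Then X is affine. (The published statement also allows X to be a scheme whose underlying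
space is Noetherian; this row assumes it quasi-compact and separated.) -/
theorem result (X : Scheme.{u}) [CompactSpace X] [X.IsSeparated]
    (h : ∀ (n : ℕ) (F F'' : X.Modules) (i : F ⟶ FlatMod.freeMod X n) (p : F ⟶ F''),
      Mono i → Epi p → Coh.IsQCoh F → Coh.IsQCoh F'' →
        Function.Surjective (p.val.app (Opposite.op ⊤)).hom) :
    IsAffine X := by
  classical
  have h1 : H1 X := by
    intro J K i p hi hp hJ hK
    haveI := hi
    exact h 1 J K (i ≫ Sigma.ι (fun _ : Fin 1 => Coh.structureModule X) 0) p
      (mono_comp _ _) hp hJ hK
  obtain ⟨n, f, hf, hcov⟩ := exists_finite_cover h1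
  apply isAffine_of_isAffineOpen_basicOpen (Set.range f)
  · rw [Ideal.eq_top_iff_one]
    haveI := epi_psi f hcov
    obtain ⟨u, hu⟩ := h n (FlatMod.freeMod X n) (Coh.structureModule X) (𝟙 _) (psi f)
      inferInstance inferInstance (isQuasicoherent_freeMod n)
      (Groth.Agent.H8.isQuasicoherent_structureModule' X)
      (show Γ(Coh.structureModule X, ⊤) from (1 : Γ(X, ⊤)))
    have h2 := psi_app_mem f u
    have h3 : (show Γ(X, ⊤) from (psi f).app ⊤ u) = 1 := hu
    rw [h3] at h2
    exact h2
  · rintro _ ⟨k, rfl⟩
    exact hf k

end Groth.Agent.S4375
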