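import Groth.Statements.S4378
import Mathlib

set_option autoImplicit false
set_option linter.unusedSimpArgs false
universe u
open CategoryTheory CategoryTheory.Limits AlgebraicGeometry
open EGA2

namespace Groth.Agent.S4378

/-- Let q : Y → S be separated and of finite type, and f : X → Y a morphism such that X is also
separated and of finite type over S through f ≫ q. Then f is proper if and only if for every scheme
S' over S the morphism X ×_S S' → Y ×_S S' induced by f is closed (as a map of topological spaces). -/
theorem result {X Y S : Scheme.{u}} (q : Y ⟶ S) (f : X ⟶ Y)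
    [IsSeparated q] [LocallyOfFiniteType q] [QuasiCompact q]
    [IsSeparated (f ≫ q)] [LocallyOfFiniteType (f ≫ q)] [QuasiCompact (f ≫ q)] :
    IsProper f ↔ ∀ (S' : Scheme.{u}) (g : S' ⟶ S),
      IsClosedMap (pullback.map (f ≫ q) g q g f (𝟙 S') (𝟙 S) (Category.comp_id (f ≫ q))
        ((Category.comp_id g).trans (Category.id_comp g).symm)).base := by
  constructor
  · intro hf S' g
    have hmap : pullback.map (f ≫ q) g q g f (𝟙 S') (𝟙 S) (Category.comp_id (f ≫ q))
        ((Category.comp_id g).trans (Category.id_comp g).symm) =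
        (pullbackRightPullbackFstIso q g f).inv ≫ pullback.snd f (pullback.fst q g) := by
      apply pullback.hom_ext <;> simp [pullback.lift_fst, pullback.lift_snd, pullback.lift_fst_assoc, pullback.lift_snd_assoc]
    rw [hmap]
    exact ((pullbackRightPullbackFstIso q g f).inv ≫
      pullback.snd f (pullback.fst q g)).isClosedMap
  · intro H
    have hsep : IsSeparated f := IsSeparated.of_comp f q
    have hlft : LocallyOfFiniteType f := locallyOfFiniteType_of_comp f q
    have huc : UniversallyClosed f := by
      rw [universallyClosed_eq]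
      intro X' Y' i₁ i₂ f' hpb
      have hF := H Y' (i₂ ≫ q)
      set F := pullback.map (f ≫ q) (i₂ ≫ q) q (i₂ ≫ q) f (𝟙 Y') (𝟙 S)
        (Category.comp_id (f ≫ q))
        ((Category.comp_id (i₂ ≫ q)).trans (Category.id_comp (i₂ ≫ q)).symm) with hFdef
      let Γ : Y' ⟶ pullback q (i₂ ≫ q) :=
        pullback.lift i₂ (𝟙 Y') (by simp)
      let h : X' ⟶ pullback (f ≫ q) (i₂ ≫ q) :=
        hpb.flip.isoPullback.hom ≫ pullback.mapDesc f i₂ q
      have hh : IsClosedImmersion h := inferInstance
      have hΓsnd : Γ ≫ pullback.snd q (i₂ ≫ q) = 𝟙 Y' := by simp [Γ, pullback.lift_fst, pullback.lift_snd, pullback.lift_fst_assoc, pullback.lift_snd_assoc]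
      have hFh : h ≫ F = f' ≫ Γ := by
        apply pullback.hom_ext
        · simp [h, F, Γ, hpb.w, pullback.lift_fst, pullback.lift_snd, pullback.lift_fst_assoc, pullback.lift_snd_assoc]
        · simp [h, F, Γ, pullback.lift_fst, pullback.lift_snd, pullback.lift_fst_assoc, pullback.lift_snd_assoc]
      have hΓinj : Function.Injective Γ.base := by
        intro a b hab
        have h1 := congrArg (fun φ : Y' ⟶ Y' => φ.base a) hΓsnd
        have h2 := congrArg (fun φ : Y' ⟶ Y' => φ.base b) hΓsnd
        simp only [Scheme.Hom.comp_base, TopCat.comp_app, Scheme.Hom.id_base,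
          TopCat.id_app] at h1 h2
        rw [← h1, ← h2, hab]
      have hcomp : ∀ x, Γ.base (f'.base x) = F.base (h.base x) := by
        intro x
        have h1 := congrArg (fun φ : X' ⟶ pullback q (i₂ ≫ q) => φ.base x) hFh
        simp only [Scheme.Hom.comp_base, TopCat.comp_app] at h1
        exact h1.symm
      intro Z hZ
      have hZ1 : IsClosed (h.base '' Z) := h.isClosedEmbedding.isClosedMap Z hZ
      have hZ2 : IsClosed (F.base '' (h.base '' Z)) := hF _ hZ1
      have hZ3 : IsClosed (Γ.base ⁻¹' (F.base '' (h.base '' Z))) :=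
        hZ2.preimage Γ.base.hom.continuous
      have heq : f'.base '' Z = Γ.base ⁻¹' (F.base '' (h.base '' Z)) := by
        ext y
        constructor
        · rintro ⟨x, hx, rfl⟩
          exact ⟨h.base x, ⟨x, hx, rfl⟩, (hcomp x).symm⟩
        · rintro ⟨w, ⟨x, hx, rfl⟩, hw⟩
          refine ⟨x, hx, hΓinj ?_⟩
          rw [hcomp x, hw]
      rw [heq]
      exact hZ3
    exact {}

end Groth.Agent.S4378
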