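import Groth.Statements.S4387
import Groth.Agent.H18.RestrictTensor

set_option autoImplicit false
universe u
open CategoryTheory CategoryTheory.Limits AlgebraicGeometry
open EGA2

namespace Groth.Agent.S4387

/-- Let f : X → Y be a quasi-compact morphism, L an invertible O_X-module and n > 0 an integer. Then L
is ample relative to f if and only if L^{⊗n} is ample relative to f. -/
theorem result {X Y : Scheme.{u}} (f : X ⟶ Y) [QuasiCompact f] (L : X.Modules)
    (hL : PicF.IsInvertible L) (n : ℕ) (hn : 0 < n) :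
    RelAmple.IsRelAmple f L ↔ RelAmple.IsRelAmple f (CohB1.tensorPow L n) := by
  have key : ∀ V : Y.affineOpens, CohB1.IsAmple (L.restrict (f ⁻¹ᵁ V.1).ι) ↔
      CohB1.IsAmple ((CohB1.tensorPow L n).restrict (f ⁻¹ᵁ V.1).ι) := by
    intro V
    have hinv := Groth.Agent.H8.isInvertible_restrict (f ⁻¹ᵁ V.1).ι hL
    obtain ⟨ρ⟩ := Groth.Agent.H18.RestrictTensor.nonempty_restrict_tensorPow (f ⁻¹ᵁ V.1).ι hinv n
    constructor
    · intro h
      have := h.2.1
      exact Groth.Agent.H18.AmpleIso.isAmple_of_iso ρ.symm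
        ((Groth.Agent.H18.AmpleBasis.isAmple_tensorPow_iff hinv hn).mp h)
    · intro h
      have h' := Groth.Agent.H18.AmpleIso.isAmple_of_iso ρ h
      have := h'.2.1
      exact (Groth.Agent.H18.AmpleBasis.isAmple_tensorPow_iff hinv hn).mpr h'
  constructor
  · rintro ⟨hqc, h⟩
    exact ⟨hqc, fun V => (key V).mp (h V)⟩
  · rintro ⟨hqc, h⟩
    exact ⟨hqc, fun V => (key V).mpr (h V)⟩

end Groth.Agent.S4387
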