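import Mathlib
import Groth.Statements.S4388
import Groth.Agent.H22.CounitEpi
import Groth.Agent.H8.InvRestrict
-- import your own Groth.Agent.* helpers here

set_option autoImplicit false
universe u
open CategoryTheory CategoryTheory.Limits AlgebraicGeometry
open EGA2

namespace Groth.Agent.S4388

open TopologicalSpace AlgebraicGeometry.Scheme.Modules Groth.Agent.H22.AmpleLocal
  Groth.Agent.H22.CounitEpi Groth.Agent.H18.TensorGen Groth.Agent.H18.RestrictTensor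
  Groth.Agent.H18.TensorPowIso

/-- Let f : X → Y be a quasi-compact morphism, L an O_X-module ample relative to f and L' an invertible
O_X-module such that, for some n > 0, the canonical morphism f^*(f_*(L'^{⊗n})) → L'^{⊗n} (counit of
the adjunction between f^* and f_*) is an epimorphism. Then L ⊗ L' is ample relative to f. -/
theorem result {X Y : Scheme.{u}} (f : X ⟶ Y) [QuasiCompact f] (L L' : X.Modules)
    (hL : RelAmple.IsRelAmple f L) (hL' : PicF.IsInvertible L') (n : ℕ) (hn : 0 < n)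
    (hepi : Epi ((Scheme.Modules.pullbackPushforwardAdjunction f).counit.app (CohB1.tensorPow L' n))) :
    RelAmple.IsRelAmple f (CohB1.tensorMod L L') := by
  obtain ⟨k, rfl⟩ : ∃ k, n = k + 1 := Nat.exists_eq_succ_of_ne_zero hn.ne'
  have hsep : IsSeparated f := isSeparated_of_isRelAmple f L hL
  have hN : PicF.IsInvertible (CohB1.tensorPow L' (k + 1)) := isInvertible_tensorPow hL' (k + 1)
  have : (CohB1.tensorPow L' (k + 1)).IsQuasicoherent :=
    Groth.Agent.H18.AmpleBasis.isQuasicoherent_of_isInvertible hN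
  refine ⟨inferInstance, fun V => ?_⟩
  have hA := hL.2 V
  have hinv'Z : PicF.IsInvertible (L'.restrict (f ⁻¹ᵁ V.1).ι) :=
    Groth.Agent.H8.isInvertible_restrict (f ⁻¹ᵁ V.1).ι hL'
  obtain ⟨e⟩ := nonempty_restrict_tensorMod (f ⁻¹ᵁ V.1).ι hA.1 hinv'Z
  refine Groth.Agent.H18.AmpleIso.isAmple_of_iso e ?_
  refine Groth.Agent.H18.AmpleTensor.isAmple_tensorMod_of_cover hA hinv'Z (fun z => ?_)
  obtain ⟨s, hs⟩ := exists_genAt_of_epi_affine f (CohB1.tensorPow L' (k + 1)) hN hepi V.1 V.2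
    z.1 z.2
  obtain ⟨ρ⟩ := nonempty_restrict_tensorPow (f ⁻¹ᵁ V.1).ι hinv'Z (k + 1)
  have hZtop : (f ⁻¹ᵁ V.1).ι ''ᵁ ⊤ ≤ f ⁻¹ᵁ V.1 := by
    rw [Scheme.Opens.ι_image_top]
  refine ⟨k, secHom ((CohB1.tensorPow L' (k + 1)).restrict (f ⁻¹ᵁ V.1).ι)
    (toRes (f ⁻¹ᵁ V.1).ι (CohB1.tensorPow L' (k + 1))
      ((CohB1.tensorPow L' (k + 1)).presheaf.map (homOfLE hZtop).op s)) ≫ ρ.hom, ?_⟩
  rw [Groth.Agent.H18.TwistAmple.genLocus_comp_iso, mem_genLocus_secHom, genAt_restrict]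
  have hz : (f ⁻¹ᵁ V.1).ι z ∈ (f ⁻¹ᵁ V.1).ι ''ᵁ ⊤ := ⟨z, trivial, rfl⟩
  show GenAt (CohB1.tensorPow L' (k + 1))
    ((CohB1.tensorPow L' (k + 1)).presheaf.map (homOfLE hZtop).op s) ((f ⁻¹ᵁ V.1).ι z)
  rw [genAt_res hZtop _ hz]
  exact hs

end Groth.Agent.S4388
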