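import Groth.Statements.S4390
import Mathlib
import Groth.Agent.S4389

set_option autoImplicit false
universe u
open EGA2

namespace Groth.Agent.S4390

/-- Let S be a ring graded in nonnegative degrees. Then the irrelevant ideal S_+ is a finitely generated
ideal if and only if S is an S_0-algebra of finite type. -/
theorem result {R A : Type u} [CommRing R] [CommRing A] [Algebra R A] (𝒜 : ℕ → Submodule R A) [GradedAlgebra 𝒜] :
    (HomogeneousIdeal.irrelevant 𝒜).toIdeal.FG ↔ Algebra.FiniteType (𝒜 0) A := by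
  classical
  constructor
  · rintro ⟨F, hF⟩
    let F' : Finset A := F.biUnion (fun f =>
      (DirectSum.decompose 𝒜 f).support.image (fun i => (DirectSum.decompose 𝒜 f i : A)))
    have hFirr : ∀ f ∈ F, f ∈ (HomogeneousIdeal.irrelevant 𝒜).toIdeal := fun f hf => by
      rw [← hF]; exact Ideal.subset_span hf
    have hE : ∀ e ∈ (F' : Set A), ∃ d : ℕ, 0 < d ∧ e ∈ 𝒜 d := by
      intro e he
      obtain ⟨f, hf, he⟩ := Finset.mem_biUnion.mp (Finset.mem_coe.mp he)
      obtain ⟨i, hi, rfl⟩ := Finset.mem_image.mp he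
      refine ⟨i, Nat.pos_of_ne_zero ?_, SetLike.coe_mem _⟩
      rintro rfl
      have h0 : GradedRing.proj 𝒜 0 f = 0 := hFirr f hf
      rw [GradedRing.proj_apply] at h0
      rw [DFinsupp.mem_support_toFun] at hi
      exact hi (Subtype.ext h0)
    have hspan : (HomogeneousIdeal.irrelevant 𝒜).toIdeal = Ideal.span (F' : Set A) := by
      apply le_antisymm
      · rw [← hF, Ideal.span_le]
        intro f hf
        rw [← DirectSum.sum_support_decompose 𝒜 f]
        refine Ideal.sum_mem _ fun i hi => Ideal.subset_span ?_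
        exact Finset.mem_coe.mpr (Finset.mem_biUnion.mpr ⟨f, hf, Finset.mem_image.mpr ⟨i, hi, rfl⟩⟩)
      · rw [Ideal.span_le]
        intro e he
        obtain ⟨d, hd0, hd⟩ := hE e he
        exact Groth.Agent.S4389.mem_irrelevant_of_mem_pos 𝒜 hd0 hd
    exact ⟨⟨F', (Groth.Agent.S4389.result 𝒜 (F' : Set A) hE).mp hspan⟩⟩
  · intro hft
    obtain ⟨s, hs1, hs2⟩ := GradedAlgebra.exists_finset_adjoin_eq_top_and_homogeneous_ne_zero 𝒜
    have hE : ∀ e ∈ (s : Set A), ∃ d : ℕ, 0 < d ∧ e ∈ 𝒜 d := by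
      intro e he
      obtain ⟨n, hn, hen⟩ := hs2 e (Finset.mem_coe.mp he)
      exact ⟨n, Nat.pos_of_ne_zero hn, hen⟩
    exact ⟨s, ((Groth.Agent.S4389.result 𝒜 (s : Set A) hE).mpr hs1).symm⟩

end Groth.Agent.S4390
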