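import Groth.Statements.S4392
import Mathlib
import Groth.Agent.H22.GradedFT

set_option autoImplicit false
universe u
open EGA2

namespace Groth.Agent.S4392

/-- Let S be a ring graded in nonnegative degrees which is an S_0-algebra of finite type, and M a
finitely generated graded S-module, graded in nonnegative degrees. Then there exist an integer n₁
and an integer h > 0 such that M_{n+h} = S_h M_n for every n ≥ n₁. (The published statement allows M
graded in all integer degrees; this row takes M graded in nonnegative degrees.) -/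
theorem result {R A : Type u} [CommRing R] [CommRing A] [Algebra R A] (𝒜 : ℕ → Submodule R A) [GradedAlgebra 𝒜] [Algebra.FiniteType (𝒜 0) A]
    {M : Type u} [AddCommGroup M] [Module R M] [Module A M] [IsScalarTower R A M] (ℳ : ℕ → Submodule R M) [DirectSum.Decomposition ℳ] [SetLike.GradedSMul 𝒜 ℳ] [Module.Finite A M] :
    ∃ (n₁ h : ℕ), 0 < h ∧ ∀ n : ℕ, n₁ ≤ n → ℳ (n + h) = (𝒜 h : Submodule R A) • (ℳ n : Submodule R M) := by
  classical
  obtain ⟨q, n₀, hq, hper⟩ := Groth.Agent.H22.exists_period 𝒜
  obtain ⟨T, hT⟩ := (Module.Finite.fg_top : (⊤ : Submodule A M).FG)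
  let T' : Finset M := T.biUnion (fun t =>
    (DirectSum.decompose ℳ t).support.image (fun i => (DirectSum.decompose ℳ t i : M)))
  have hT'hom : ∀ t ∈ (T' : Set M), ∃ e : ℕ, t ∈ ℳ e := by
    intro t ht
    obtain ⟨t₀, _, ht⟩ := Finset.mem_biUnion.mp (Finset.mem_coe.mp ht)
    obtain ⟨i, _, rfl⟩ := Finset.mem_image.mp ht
    exact ⟨i, SetLike.coe_mem _⟩
  have hT'span : Submodule.span A (T' : Set M) = ⊤ := by
    rw [eq_top_iff, ← hT, Submodule.span_le]
    intro t ht
    rw [← DirectSum.sum_support_decompose ℳ t]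
    refine Submodule.sum_mem _ fun i hi => Submodule.subset_span ?_
    exact Finset.mem_coe.mpr (Finset.mem_biUnion.mpr ⟨t, ht, Finset.mem_image.mpr ⟨i, hi, rfl⟩⟩)
  choose! deg hdeg using hT'hom
  refine ⟨n₀ + T'.sup deg, q, hq, fun n hn => le_antisymm ?_ ?_⟩
  · intro x hx
    have hxT : x ∈ Submodule.span A (T' : Set M) := by rw [hT'span]; trivial
    refine Groth.Agent.H22.mem_of_mem_span_homogeneous_module 𝒜 ℳ (T' : Set M) deg hdeg hx hxT
      ((𝒜 q : Submodule R A) • (ℳ n : Submodule R M)).toAddSubmonoid ?_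
    intro t ht hle c hc
    have hD : deg t ≤ T'.sup deg := Finset.le_sup (f := deg) (Finset.mem_coe.mp ht)
    have e1 : n + q - deg t = (n - deg t) + q := by omega
    rw [e1, hper (n - deg t) (by omega)] at hc
    show c • t ∈ ((𝒜 q : Submodule R A) • (ℳ n : Submodule R M))
    induction hc using Submodule.mul_induction_on' with
    | mem_mul_mem u hu v hv =>
      rw [mul_smul]
      refine Submodule.smul_mem_smul hu ?_
      have h2 : v • t ∈ ℳ ((n - deg t) + deg t) := SetLike.GradedSMul.smul_mem hv (hdeg t ht)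
      have e2 : (n - deg t) + deg t = n := by omega
      rwa [e2] at h2
    | add c₁ _ c₂ _ h₁ h₂ =>
      rw [add_smul]
      exact Submodule.add_mem _ h₁ h₂
  · rw [Submodule.smul_le]
    intro a ha m hm
    have h2 : a • m ∈ ℳ (q + n) := SetLike.GradedSMul.smul_mem ha hm
    rwa [add_comm q n] at h2

end Groth.Agent.S4392
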