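import Groth.Statements.S4393
import Mathlib
import Groth.Agent.H22.GradedFT

set_option autoImplicit false
universe u
open EGA2

namespace Groth.Agent.S4393

/-- Let S be a ring graded in nonnegative degrees which is an S_0-algebra of finite type. Then there is
an integer h > 0 such that S_{mh} = (S_h)^m (the S_0-submodule spanned by m-fold products of
elements of S_h) for every m > 0. -/
theorem result {R A : Type u} [CommRing R] [CommRing A] [Algebra R A] (𝒜 : ℕ → Submodule R A) [GradedAlgebra 𝒜] [Algebra.FiniteType (𝒜 0) A] :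
    ∃ h : ℕ, 0 < h ∧ ∀ m : ℕ, 0 < m → 𝒜 (m * h) = (𝒜 h : Submodule R A) ^ m := by
  obtain ⟨q, n₀, hq, hper⟩ := Groth.Agent.H22.exists_period 𝒜
  have hper' := Groth.Agent.H22.period_mul 𝒜 hper (n₀ + 1) (Nat.succ_pos _)
  have hn₀ : n₀ ≤ (n₀ + 1) * q :=
    le_trans (Nat.le_succ n₀) (Nat.le_mul_of_pos_right _ hq)
  refine ⟨(n₀ + 1) * q, Nat.mul_pos (Nat.succ_pos _) hq, fun m hm => ?_⟩
  induction m, hm using Nat.le_induction with
  | base =>
    have e0 : Nat.succ 0 * ((n₀ + 1) * q) = (n₀ + 1) * q := one_mul _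
    rw [e0]
    exact (pow_one _).symm
  | succ m hm ih =>
    have e1 : (m + 1) * ((n₀ + 1) * q) = m * ((n₀ + 1) * q) + (n₀ + 1) * q := by ring
    rw [e1, hper' (m * ((n₀ + 1) * q)) (le_trans hn₀ (Nat.le_mul_of_pos_left _ hm)), ih,
      ← pow_succ']

end Groth.Agent.S4393
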