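import Groth.Statements.S4395
import Mathlib

set_option autoImplicit false
set_option linter.unusedSectionVars false
set_option linter.unusedVariables false
universe u
open EGA2

namespace Groth.Agent.S4395

section
variable {R A : Type u} [CommRing R] [CommRing A] [Algebra R A] (𝒜 : ℕ → Submodule R A)
  [GradedAlgebra 𝒜]

theorem exists_homogeneous_not_mem (𝔭 : HomogeneousIdeal 𝒜)
    (h : ¬ HomogeneousIdeal.irrelevant 𝒜 ≤ 𝔭) :
    ∃ d : ℕ, 0 < d ∧ ∃ f ∈ 𝒜 d, f ∉ 𝔭.toIdeal := by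
  classical
  by_contra hcon
  push Not at hcon
  apply h
  intro x hx
  show x ∈ 𝔭.toIdeal
  rw [← DirectSum.sum_support_decompose 𝒜 x]
  refine Ideal.sum_mem _ fun m _ => ?_
  rcases Nat.eq_zero_or_pos m with rfl | hm
  · have h0 : GradedRing.proj 𝒜 0 x = 0 := hx
    rw [GradedRing.proj_apply] at h0
    rw [h0]
    exact zero_mem _
  · exact hcon m hm _ (SetLike.coe_mem _)

theorem homogeneousIdeal_le_of_homogeneous (𝔭 𝔮 : HomogeneousIdeal 𝒜)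
    (h : ∀ m : ℕ, ∀ x ∈ 𝒜 m, x ∈ 𝔭.toIdeal → x ∈ 𝔮.toIdeal) : 𝔭.toIdeal ≤ 𝔮.toIdeal := by
  classical
  intro x hx
  rw [← DirectSum.sum_support_decompose 𝒜 x]
  refine Ideal.sum_mem _ fun m _ => ?_
  exact h m _ (SetLike.coe_mem _) (𝔭.isHomogeneous m hx)

/-- The ideal built from the tail data `p` and an element `f` of degree `n₁`. -/
def tailIdeal (p : ℕ → AddSubgroup A) (n₀ n₁ : ℕ) (hn₁ : n₀ ≤ n₁) (f : A)
    (h1 : ∀ m n : ℕ, n₀ ≤ n → ∀ a ∈ 𝒜 m, ∀ b ∈ p n, a * b ∈ p (m + n)) : Ideal A where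
  carrier := {x | ∀ m, f * (DirectSum.decompose 𝒜 x m : A) ∈ p (m + n₁)}
  add_mem' := fun {x y} hx hy m => by
    rw [DirectSum.decompose_add, DirectSum.add_apply, Submodule.coe_add, mul_add]
    exact (p _).add_mem (hx m) (hy m)
  zero_mem' := fun m => by
    rw [DirectSum.decompose_zero, DirectSum.zero_apply, ZeroMemClass.coe_zero, mul_zero]
    exact (p _).zero_mem
  smul_mem' := fun a x hx => by
    show ∀ m, f * (DirectSum.decompose 𝒜 (a * x) m : A) ∈ p (m + n₁)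
    induction a using DirectSum.Decomposition.inductionOn 𝒜 with
    | zero =>
      intro m
      rw [zero_mul, DirectSum.decompose_zero, DirectSum.zero_apply, ZeroMemClass.coe_zero,
        mul_zero]
      exact (p _).zero_mem
    | @homogeneous k a =>
      intro m
      by_cases hkm : k ≤ m
      · rw [DirectSum.coe_decompose_mul_of_left_mem_of_le 𝒜 a.2 hkm]
        have h := h1 k ((m - k) + n₁) (by omega) a a.2 _ (hx (m - k))
        have e : k + ((m - k) + n₁) = m + n₁ := by omega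
        rw [e] at h
        have e2 : f * ((a : A) * (DirectSum.decompose 𝒜 x (m - k) : A)) =
            (a : A) * (f * (DirectSum.decompose 𝒜 x (m - k) : A)) := by ring
        rw [e2]
        exact h
      · rw [DirectSum.coe_decompose_mul_of_left_mem_of_not_le 𝒜 a.2 hkm, mul_zero]
        exact (p _).zero_mem
    | add a b ha hb =>
      intro m
      rw [add_mul, DirectSum.decompose_add, DirectSum.add_apply, Submodule.coe_add, mul_add]
      exact (p _).add_mem (ha m) (hb m)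

theorem mem_tailIdeal_iff_of_mem (p : ℕ → AddSubgroup A) (n₀ n₁ : ℕ) (hn₁ : n₀ ≤ n₁) (f : A)
    (h1 : ∀ m n : ℕ, n₀ ≤ n → ∀ a ∈ 𝒜 m, ∀ b ∈ p n, a * b ∈ p (m + n))
    {m : ℕ} {x : A} (hx : x ∈ 𝒜 m) :
    x ∈ tailIdeal 𝒜 p n₀ n₁ hn₁ f h1 ↔ f * x ∈ p (m + n₁) := by
  constructor
  · intro h
    have h' := h m
    rwa [DirectSum.decompose_of_mem_same 𝒜 hx] at h'
  · intro h k
    by_cases hk : m = k
    · subst hk
      rwa [DirectSum.decompose_of_mem_same 𝒜 hx]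
    · rw [DirectSum.decompose_of_mem_ne 𝒜 hx hk, mul_zero]
      exact (p _).zero_mem

end

/-- Let S be a ring graded in nonnegative degrees, n₀ > 0 an integer and, for every n ≥ n₀, p_n an
additive subgroup of S_n. Then there is a graded prime ideal p of S not containing S_+ with p ∩ S_n
= p_n for all n ≥ n₀ if and only if: (1) S_m p_n ⊆ p_{m+n} for all m ≥ 0 and n ≥ n₀; (2) for m ≥ n₀,
n ≥ n₀, f ∈ S_m, g ∈ S_n, fg ∈ p_{m+n} implies f ∈ p_m or g ∈ p_n; (3) p_n ≠ S_n for at least one n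
≥ n₀. Moreover such a graded prime ideal is unique. -/
theorem result {R A : Type u} [CommRing R] [CommRing A] [Algebra R A] (𝒜 : ℕ → Submodule R A) [GradedAlgebra 𝒜]
    (n₀ : ℕ) (hn₀ : 0 < n₀) (p : ℕ → AddSubgroup A) (hp : ∀ n : ℕ, n₀ ≤ n → (p n : Set A) ⊆ 𝒜 n) :
    ((∃ 𝔭 : HomogeneousIdeal 𝒜, 𝔭.toIdeal.IsPrime ∧ ¬ HomogeneousIdeal.irrelevant 𝒜 ≤ 𝔭 ∧
        ∀ n : ℕ, n₀ ≤ n → (𝔭.toIdeal : Set A) ∩ 𝒜 n = p n) ↔
      ((∀ m n : ℕ, n₀ ≤ n → ∀ a ∈ 𝒜 m, ∀ b ∈ p n, a * b ∈ p (m + n)) ∧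
        (∀ m n : ℕ, n₀ ≤ m → n₀ ≤ n → ∀ f ∈ 𝒜 m, ∀ g ∈ 𝒜 n, f * g ∈ p (m + n) → f ∈ p m ∨ g ∈ p n) ∧
        ∃ n : ℕ, n₀ ≤ n ∧ (p n : Set A) ≠ 𝒜 n)) ∧
    ∀ 𝔭 𝔮 : HomogeneousIdeal 𝒜, 𝔭.toIdeal.IsPrime → 𝔮.toIdeal.IsPrime →
      ¬ HomogeneousIdeal.irrelevant 𝒜 ≤ 𝔭 → ¬ HomogeneousIdeal.irrelevant 𝒜 ≤ 𝔮 →
      (∀ n : ℕ, n₀ ≤ n → (𝔭.toIdeal : Set A) ∩ 𝒜 n = p n) → (∀ n : ℕ, n₀ ≤ n → (𝔮.toIdeal : Set A) ∩ 𝒜 n = p n) →
      𝔭 = 𝔮 := by
  classical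
  refine ⟨⟨?_, ?_⟩, ?_⟩
  · -- (⇒)
    rintro ⟨𝔭, hprime, hirr, htail⟩
    refine ⟨?_, ?_, ?_⟩
    · intro m n hn a ha b hb
      have hb' : b ∈ (𝔭.toIdeal : Set A) ∩ 𝒜 n := by rw [htail n hn]; exact hb
      have hab : a * b ∈ (𝔭.toIdeal : Set A) ∩ 𝒜 (m + n) :=
        ⟨𝔭.toIdeal.mul_mem_left a hb'.1, SetLike.mul_mem_graded ha hb'.2⟩
      rw [htail (m + n) (by omega)] at hab
      exact hab
    · intro m n hm hn f hf g hg hfg
      have hfg' : f * g ∈ (𝔭.toIdeal : Set A) ∩ 𝒜 (m + n) := by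
        rw [htail (m + n) (by omega)]; exact hfg
      rcases hprime.mem_or_mem hfg'.1 with h | h
      · left
        have : f ∈ (𝔭.toIdeal : Set A) ∩ 𝒜 m := ⟨h, hf⟩
        rwa [htail m hm] at this
      · right
        have : g ∈ (𝔭.toIdeal : Set A) ∩ 𝒜 n := ⟨h, hg⟩
        rwa [htail n hn] at this
    · obtain ⟨d, hd, f, hf, hfp⟩ := exists_homogeneous_not_mem 𝒜 𝔭 hirr
      refine ⟨n₀ • d, ?_, ?_⟩
      · rw [smul_eq_mul]
        exact Nat.le_mul_of_pos_right n₀ hd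
      · intro heq
        have hmem : f ^ n₀ ∈ (𝒜 (n₀ • d) : Set A) := SetLike.pow_mem_graded n₀ hf
        rw [← heq, ← htail (n₀ • d) (by rw [smul_eq_mul]; exact Nat.le_mul_of_pos_right n₀ hd)]
          at hmem
        exact hfp (hprime.mem_of_pow_mem n₀ hmem.1)
  · -- (⇐)
    rintro ⟨h1, h2, n₁, hn₁, hne⟩
    obtain ⟨f, hf, hfp⟩ : ∃ f ∈ 𝒜 n₁, f ∉ p n₁ := by
      by_contra hcon
      push Not at hcon
      exact hne (Set.Subset.antisymm (hp n₁ hn₁) (fun x hx => hcon x hx))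
    have hmem := fun {m : ℕ} {x : A} (hx : x ∈ 𝒜 m) =>
      mem_tailIdeal_iff_of_mem 𝒜 p n₀ n₁ hn₁ f h1 hx
    have hIhom : (tailIdeal 𝒜 p n₀ n₁ hn₁ f h1).IsHomogeneous 𝒜 := fun i x hx =>
      (hmem (SetLike.coe_mem _)).mpr (hx i)
    have hfI : f ∉ tailIdeal 𝒜 p n₀ n₁ hn₁ f h1 := by
      rw [hmem hf]
      intro hff
      rcases h2 n₁ n₁ hn₁ hn₁ f hf f hf hff with h | h <;> exact hfp h
    have htail : ∀ n : ℕ, n₀ ≤ n → ∀ x ∈ 𝒜 n,
        (x ∈ tailIdeal 𝒜 p n₀ n₁ hn₁ f h1 ↔ x ∈ p n) := by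
      intro n hn x hx
      rw [hmem hx]
      constructor
      · intro h
        rw [add_comm n n₁] at h
        rcases h2 n₁ n hn₁ hn f hf x hx h with h' | h'
        · exact absurd h' hfp
        · exact h'
      · intro h
        have := h1 n₁ n hn f hf x h
        rwa [add_comm n₁ n] at this
    have hprime : (tailIdeal 𝒜 p n₀ n₁ hn₁ f h1).IsPrime := by
      refine hIhom.isPrime_of_homogeneous_mem_or_mem ?_ ?_
      · intro htop
        exact hfI (htop ▸ Submodule.mem_top)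
      · rintro x y ⟨i, hx⟩ ⟨j, hy⟩ hxy
        rw [hmem (SetLike.mul_mem_graded hx hy)] at hxy
        have h3 := h1 n₁ (i + j + n₁) (by omega) f hf _ hxy
        have e1 : f * (f * (x * y)) = (f * x) * (f * y) := by ring
        have e2 : n₁ + (i + j + n₁) = (n₁ + i) + (n₁ + j) := by omega
        rw [e1, e2] at h3
        rcases h2 (n₁ + i) (n₁ + j) (by omega) (by omega) (f * x)
          (SetLike.mul_mem_graded hf hx) (f * y) (SetLike.mul_mem_graded hf hy) h3 with h | h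
        · left
          rw [hmem hx, add_comm i n₁]
          exact h
        · right
          rw [hmem hy, add_comm j n₁]
          exact h
    refine ⟨⟨tailIdeal 𝒜 p n₀ n₁ hn₁ f h1, hIhom⟩, hprime, ?_, ?_⟩
    · intro hle
      apply hfI
      have hfirr : f ∈ HomogeneousIdeal.irrelevant 𝒜 := by
        show GradedRing.proj 𝒜 0 f = 0
        rw [GradedRing.proj_apply, DirectSum.decompose_of_mem_ne 𝒜 hf (by omega)]
      exact hle hfirr
    · intro n hn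
      ext x
      constructor
      · rintro ⟨hxI, hxn⟩
        exact (htail n hn x hxn).mp hxI
      · intro hx
        exact ⟨(htail n hn x (hp n hn hx)).mpr hx, hp n hn hx⟩
  · -- uniqueness
    intro 𝔭 𝔮 hP hQ hPirr hQirr hPt hQt
    have key : ∀ (𝔭 𝔮 : HomogeneousIdeal 𝒜), 𝔭.toIdeal.IsPrime → 𝔮.toIdeal.IsPrime →
        ¬ HomogeneousIdeal.irrelevant 𝒜 ≤ 𝔭 →
        (∀ n : ℕ, n₀ ≤ n → (𝔭.toIdeal : Set A) ∩ 𝒜 n = p n) →
        (∀ n : ℕ, n₀ ≤ n → (𝔮.toIdeal : Set A) ∩ 𝒜 n = p n) → 𝔭.toIdeal ≤ 𝔮.toIdeal := by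
      intro 𝔭 𝔮 hP hQ hPirr hPt hQt
      obtain ⟨d, hd, f, hf, hfp⟩ := exists_homogeneous_not_mem 𝒜 𝔭 hPirr
      have hdeg : n₀ ≤ n₀ • d := by
        rw [smul_eq_mul]; exact Nat.le_mul_of_pos_right n₀ hd
      have hfn : f ^ n₀ ∈ 𝒜 (n₀ • d) := SetLike.pow_mem_graded n₀ hf
      have hfnP : f ^ n₀ ∉ 𝔭.toIdeal := fun h => hfp (hP.mem_of_pow_mem n₀ h)
      have hfnQ : f ^ n₀ ∉ 𝔮.toIdeal := by
        intro h
        have h' : f ^ n₀ ∈ (𝔮.toIdeal : Set A) ∩ 𝒜 (n₀ • d) := ⟨h, hfn⟩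
        rw [hQt _ hdeg, ← hPt _ hdeg] at h'
        exact hfnP h'.1
      apply homogeneousIdeal_le_of_homogeneous 𝒜 𝔭 𝔮
      intro m x hx hxP
      have h1 : f ^ n₀ * x ∈ (𝔭.toIdeal : Set A) ∩ 𝒜 (n₀ • d + m) :=
        ⟨𝔭.toIdeal.mul_mem_left _ hxP, SetLike.mul_mem_graded hfn hx⟩
      rw [hPt _ (by omega), ← hQt _ (by omega)] at h1
      rcases hQ.mem_or_mem h1.1 with h | h
      · exact absurd h hfnQ
      · exact h
    apply HomogeneousIdeal.toIdeal_injective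
    exact le_antisymm (key 𝔭 𝔮 hP hQ hPirr hPt hQt) (key 𝔮 𝔭 hQ hP hQirr hQt hPt)

end Groth.Agent.S4395
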