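import Groth.Statements.S4396
import Mathlib

set_option autoImplicit false
set_option linter.unusedSectionVars false
universe u
open AlgebraicGeometry
open EGA2

namespace Groth.Agent.S4396

open HomogeneousLocalization

section
variable {R A : Type u} [CommRing R] [CommRing A] [Algebra R A] (𝒜 : ℕ → Submodule R A)
  [GradedAlgebra 𝒜]
  {B : Type u} [CommRing B] [Algebra R B] (ℬ : ℕ → Submodule R B) [GradedAlgebra ℬ]
  (d : ℕ) (φ : B →ₐ[R] A)
  (hdeg : ∀ n : ℕ, Submodule.map φ.toLinearMap (ℬ n) = 𝒜 (n * d)) {f' : B} (hf' : f' ∈ ℬ 1)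

include hdeg in
theorem map_mem' {n : ℕ} {x : B} (hx : x ∈ ℬ n) : φ x ∈ 𝒜 (n • d) := by
  rw [smul_eq_mul, ← hdeg n]
  exact Submodule.mem_map_of_mem hx

include hdeg hf' in
theorem f_mem : φ f' ∈ 𝒜 d := by
  have h := map_mem' 𝒜 ℬ d φ hdeg hf'
  rwa [one_smul] at h

/-- The degree-`n` component of the map `B → A_(f)`, `x ↦ φ x / f ^ n`. -/
noncomputable def comp (n : ℕ) : ℬ n →+ Away 𝒜 (φ f') where
  toFun x := Away.mk 𝒜 (f_mem 𝒜 ℬ d φ hdeg hf') n (φ x) (map_mem' 𝒜 ℬ d φ hdeg x.2)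
  map_zero' := by
    apply HomogeneousLocalization.val_injective
    rw [Away.val_mk, HomogeneousLocalization.val_zero, ZeroMemClass.coe_zero, map_zero,
      Localization.mk_zero]
  map_add' x y := by
    apply HomogeneousLocalization.val_injective
    rw [HomogeneousLocalization.val_add, Away.val_mk, Away.val_mk, Away.val_mk,
      Submodule.coe_add, map_add, Localization.add_mk_self]

theorem comp_one :
    comp 𝒜 ℬ d φ hdeg hf' 0 (GradedMonoid.GOne.one (A := fun i => ℬ i)) = 1 := by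
  apply HomogeneousLocalization.val_injective
  show (Away.mk 𝒜 (f_mem 𝒜 ℬ d φ hdeg hf') 0 (φ ((GradedMonoid.GOne.one (A := fun i => ℬ i) : ℬ 0) : B)) _).val = _
  rw [Away.val_mk, HomogeneousLocalization.val_one, ← Localization.mk_one,
    Localization.mk_eq_mk_iff, Localization.r_iff_exists]
  exact ⟨1, by simp [SetLike.coe_gOne]⟩

theorem comp_mul {i j : ℕ} (x : ℬ i) (y : ℬ j) :
    comp 𝒜 ℬ d φ hdeg hf' (i + j) (GradedMonoid.GMul.mul (A := fun i => ℬ i) x y) =
      comp 𝒜 ℬ d φ hdeg hf' i x * comp 𝒜 ℬ d φ hdeg hf' j y := by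
  apply HomogeneousLocalization.val_injective
  rw [HomogeneousLocalization.val_mul]
  show (Away.mk 𝒜 (f_mem 𝒜 ℬ d φ hdeg hf') (i + j)
      (φ ((GradedMonoid.GMul.mul (A := fun i => ℬ i) x y : ℬ (i + j)) : B)) _).val =
    (Away.mk 𝒜 (f_mem 𝒜 ℬ d φ hdeg hf') i (φ x) _).val *
      (Away.mk 𝒜 (f_mem 𝒜 ℬ d φ hdeg hf') j (φ y) _).val
  rw [Away.val_mk, Away.val_mk, Away.val_mk, Localization.mk_mul, Localization.mk_eq_mk_iff,
    Localization.r_iff_exists]
  refine ⟨1, ?_⟩
  simp only [SetLike.coe_gMul, map_mul, OneMemClass.coe_one, one_mul, Submonoid.coe_mul, pow_add]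

/-- The ring homomorphism `B → A_(f)` sending `x ∈ ℬ n` to `φ x / f ^ n`. -/
noncomputable def psi : B →+* Away 𝒜 (φ f') :=
  (DirectSum.toSemiring (comp 𝒜 ℬ d φ hdeg hf') (comp_one 𝒜 ℬ d φ hdeg hf')
    (fun x y => comp_mul 𝒜 ℬ d φ hdeg hf' x y)).comp (DirectSum.decomposeRingEquiv ℬ).toRingHom

theorem psi_of_mem {n : ℕ} {x : B} (hx : x ∈ ℬ n) :
    psi 𝒜 ℬ d φ hdeg hf' x =
      Away.mk 𝒜 (f_mem 𝒜 ℬ d φ hdeg hf') n (φ x) (map_mem' 𝒜 ℬ d φ hdeg hx) := by
  unfold psi
  rw [RingHom.comp_apply]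
  show DirectSum.toSemiring _ _ _ (DirectSum.decompose ℬ x) = _
  rw [DirectSum.decompose_of_mem ℬ hx, DirectSum.toSemiring_of]
  rfl

end

/-- Let S be a ring graded in nonnegative degrees, d > 0, and S^{(d)} the graded ring whose degree-n
part is S_{nd} (given here as any graded ring S' with an injective algebra homomorphism φ : S' → S
carrying S'_n onto S_{nd} for every n); let f' ∈ S'_1, with image f = φ(f') ∈ S_d. Then there is a
ring isomorphism between the degree-zero homogeneous localization S_(f) and the quotient S'/(f' -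
1)S', whose inverse sends the class of an element x of S'_n to the fraction φ(x)/f^n. (The module
part of the published statement is not stated here.) -/
theorem result {R A : Type u} [CommRing R] [CommRing A] [Algebra R A] (𝒜 : ℕ → Submodule R A) [GradedAlgebra 𝒜]
    {B : Type u} [CommRing B] [Algebra R B] (ℬ : ℕ → Submodule R B) [GradedAlgebra ℬ]
    (d : ℕ) (hd : 0 < d) (φ : B →ₐ[R] A) (hφ : Function.Injective φ)
    (hdeg : ∀ n : ℕ, Submodule.map φ.toLinearMap (ℬ n) = 𝒜 (n * d)) (f' : B) (hf' : f' ∈ ℬ 1) :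
    ∃ e : HomogeneousLocalization.Away 𝒜 (φ f') ≃+* B ⧸ Ideal.span {f' - 1},
      ∀ (n : ℕ) (x : B), x ∈ ℬ n →
        (e.symm (Ideal.Quotient.mk (Ideal.span {f' - 1}) x)).val =
          Localization.mk (φ x) ⟨φ f' ^ n, pow_mem (Submonoid.mem_powers (φ f')) n⟩ := by
  classical
  have hf : φ f' ∈ 𝒜 d := f_mem 𝒜 ℬ d φ hdeg hf'
  have hψ : ∀ {n : ℕ} {x : B} (hx : x ∈ ℬ n), psi 𝒜 ℬ d φ hdeg hf' x =
      Away.mk 𝒜 hf n (φ x) (map_mem' 𝒜 ℬ d φ hdeg hx) := fun hx => psi_of_mem 𝒜 ℬ d φ hdeg hf' hx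
  have hψf : psi 𝒜 ℬ d φ hdeg hf' f' = 1 := by
    rw [hψ hf']
    apply HomogeneousLocalization.val_injective
    rw [Away.val_mk, HomogeneousLocalization.val_one, ← Localization.mk_one,
      Localization.mk_eq_mk_iff, Localization.r_iff_exists]
    exact ⟨1, by simp⟩
  have hker : ∀ a ∈ Ideal.span {f' - 1}, psi 𝒜 ℬ d φ hdeg hf' a = 0 := by
    have hle : Ideal.span {f' - 1} ≤ RingHom.ker (psi 𝒜 ℬ d φ hdeg hf') := by
      rw [Ideal.span_le, Set.singleton_subset_iff, SetLike.mem_coe, RingHom.mem_ker, map_sub, hψf,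
        map_one, sub_self]
    exact fun a ha => hle ha
  have hq : Ideal.Quotient.mk (Ideal.span {f' - 1}) f' = 1 := by
    rw [← sub_eq_zero, ← map_one (Ideal.Quotient.mk (Ideal.span {f' - 1})), ← map_sub,
      Ideal.Quotient.eq_zero_iff_mem]
    exact Ideal.subset_span rfl
  have hsurj : Function.Surjective
      (Ideal.Quotient.lift (Ideal.span {f' - 1}) (psi 𝒜 ℬ d φ hdeg hf') hker) := by
    intro z
    obtain ⟨n, a, ha, rfl⟩ := Away.mk_surjective 𝒜 hf z
    have ha' : a ∈ Submodule.map φ.toLinearMap (ℬ n) := by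
      rw [hdeg n, ← smul_eq_mul]; exact ha
    obtain ⟨x, hx, rfl⟩ := ha'
    refine ⟨Ideal.Quotient.mk _ x, ?_⟩
    rw [Ideal.Quotient.lift_mk, hψ hx]
    rfl
  have hinj : Function.Injective
      (Ideal.Quotient.lift (Ideal.span {f' - 1}) (psi 𝒜 ℬ d φ hdeg hf') hker) := by
    rw [injective_iff_map_eq_zero]
    intro z hz
    obtain ⟨x, rfl⟩ := Ideal.Quotient.mk_surjective z
    rw [Ideal.Quotient.lift_mk] at hz
    obtain ⟨M, hM⟩ : ∃ M : ℕ, M = (DirectSum.decompose ℬ x).support.sup id := ⟨_, rfl⟩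
    obtain ⟨y, hydef⟩ : ∃ y : B, y = ∑ n ∈ (DirectSum.decompose ℬ x).support,
        (DirectSum.decompose ℬ x n : B) * f' ^ (M - n) := ⟨_, rfl⟩
    have hy : y ∈ ℬ M := by
      rw [hydef]
      refine Submodule.sum_mem _ fun n hn => ?_
      have hle : n ≤ M := by rw [hM]; exact Finset.le_sup (f := id) hn
      have h1 := SetLike.mul_mem_graded (SetLike.coe_mem (DirectSum.decompose ℬ x n))
        (SetLike.pow_mem_graded (M - n) hf')
      have e1 : n + (M - n) • 1 = M := by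
        rw [smul_eq_mul, mul_one]; omega
      rwa [e1] at h1
    have hψy : psi 𝒜 ℬ d φ hdeg hf' y = psi 𝒜 ℬ d φ hdeg hf' x := by
      rw [hydef]
      simp only [map_sum, map_mul, map_pow, hψf, one_pow, mul_one]
      rw [← map_sum, DirectSum.sum_support_decompose]
    have hqy : Ideal.Quotient.mk (Ideal.span {f' - 1}) y =
        Ideal.Quotient.mk (Ideal.span {f' - 1}) x := by
      rw [hydef]
      simp only [map_sum, map_mul, map_pow, hq, one_pow, mul_one]
      rw [← map_sum, DirectSum.sum_support_decompose]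
    rw [← hψy, hψ hy] at hz
    have hz' := congrArg HomogeneousLocalization.val hz
    rw [Away.val_mk, HomogeneousLocalization.val_zero, Localization.mk_eq_mk',
      IsLocalization.mk'_eq_zero_iff] at hz'
    obtain ⟨⟨_, N, rfl⟩, hN⟩ := hz'
    have h0 : f' ^ N * y = 0 := by
      apply hφ
      rw [map_mul, map_pow, map_zero]
      exact hN
    rw [← hqy]
    have h2 : Ideal.Quotient.mk (Ideal.span {f' - 1}) (f' ^ N * y) =
        Ideal.Quotient.mk (Ideal.span {f' - 1}) y := by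
      rw [map_mul, map_pow, hq, one_pow, one_mul]
    rw [← h2, h0, map_zero]
  refine ⟨(RingEquiv.ofBijective _ ⟨hinj, hsurj⟩).symm, fun n x hx => ?_⟩
  rw [RingEquiv.symm_symm]
  change (Ideal.Quotient.lift (Ideal.span {f' - 1}) (psi 𝒜 ℬ d φ hdeg hf') hker
    (Ideal.Quotient.mk _ x)).val = _
  rw [Ideal.Quotient.lift_mk, hψ hx, Away.val_mk]

end Groth.Agent.S4396
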