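import Groth.Statements.S4398
import Mathlib

set_option autoImplicit false
universe u
open AlgebraicGeometry CategoryTheory
open EGA2

namespace Groth.Agent.S4398

open HomogeneousLocalization in
theorem away_map_bijective {R A : Type u} [CommRing R] [CommRing A] [Algebra R A]
    (𝒜 : ℕ → Submodule R A) [GradedAlgebra 𝒜]
    {B : Type u} [CommRing B] [Algebra R B] (ℬ : ℕ → Submodule R B) [GradedAlgebra ℬ]
    (φ : ℬ →+*ᵍ 𝒜) (hbij : ∀ n : ℕ, 0 < n → Set.BijOn φ (ℬ n) (𝒜 n))
    {n : ℕ} (hn : 0 < n) (s : B) (hs : s ∈ ℬ n) :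
    Function.Bijective (Away.map φ s) := by
  constructor
  · rw [injective_iff_map_eq_zero]
    intro z hz
    obtain ⟨k, x, hx, rfl⟩ := Away.mk_surjective ℬ hs z
    rw [Away.map_mk φ s hs] at hz
    have hz' := congrArg HomogeneousLocalization.val hz
    rw [Away.val_mk, HomogeneousLocalization.val_zero, Localization.mk_eq_mk',
      IsLocalization.mk'_eq_zero_iff] at hz'
    obtain ⟨⟨_, N, rfl⟩, hN⟩ := hz'
    have hmem : s ^ (N + 1) * x ∈ ℬ ((N + 1) • n + k • n) :=
      SetLike.mul_mem_graded (SetLike.pow_mem_graded _ hs) hx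
    have hpos : 0 < (N + 1) • n + k • n := by
      simp only [smul_eq_mul]
      have : 0 < (N + 1) * n := Nat.mul_pos (Nat.succ_pos N) hn
      omega
    have hφ0 : φ (s ^ (N + 1) * x) = 0 := by
      have h1 : φ (s ^ (N + 1) * x) = φ s * (φ s ^ N * φ x) := by
        rw [map_mul, map_pow, pow_succ']
        ring
      rw [h1]
      simp only at hN
      rw [hN, mul_zero]
    have h0 : s ^ (N + 1) * x = 0 :=
      (hbij _ hpos).injOn hmem (zero_mem _) (by rw [hφ0, map_zero])
    apply HomogeneousLocalization.val_injective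
    rw [Away.val_mk, HomogeneousLocalization.val_zero, Localization.mk_eq_mk',
      IsLocalization.mk'_eq_zero_iff]
    exact ⟨⟨s ^ (N + 1), N + 1, rfl⟩, h0⟩
  · intro z
    obtain ⟨k, y, hy, rfl⟩ := Away.mk_surjective 𝒜 (show φ s ∈ 𝒜 n from φ.2 hs) z
    have hmem : y * φ s ∈ 𝒜 ((k + 1) • n) := by
      have h1 := SetLike.mul_mem_graded hy (show φ s ∈ 𝒜 n from φ.2 hs)
      have e1 : k • n + n = (k + 1) • n := by simp only [smul_eq_mul]; ring
      rwa [e1] at h1
    have hpos : 0 < (k + 1) • n := by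
      simp only [smul_eq_mul]
      exact Nat.mul_pos (Nat.succ_pos k) hn
    obtain ⟨x, hx, hxy⟩ := (hbij ((k + 1) • n) hpos).surjOn hmem
    refine ⟨Away.mk ℬ hs (k + 1) x hx, ?_⟩
    rw [Away.map_mk φ s hs]
    apply HomogeneousLocalization.val_injective
    rw [Away.val_mk, Away.val_mk, Localization.mk_eq_mk_iff, Localization.r_iff_exists]
    refine ⟨1, ?_⟩
    simp only [OneMemClass.coe_one, one_mul]
    rw [hxy, pow_succ]
    ring

/-- Let φ : S' → S be a homomorphism of rings graded in nonnegative degrees which maps S'_n bijectively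
onto S_n for every n > 0, so that S_+ lies in the ideal generated by φ(S'_+) (stated as a hypothesis
because the induced morphism is built from it). Then the induced morphism Proj S → Proj S' is an
isomorphism of schemes. (The published statement treats the cases S'_0 = ℤ and S'_0 = A with S'_n =
S_n for n > 0; this row allows any graded φ that is bijective in positive degrees.) -/
theorem result {R A : Type u} [CommRing R] [CommRing A] [Algebra R A] (𝒜 : ℕ → Submodule R A) [GradedAlgebra 𝒜]
    {B : Type u} [CommRing B] [Algebra R B] (ℬ : ℕ → Submodule R B) [GradedAlgebra ℬ]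
    (φ : ℬ →+*ᵍ 𝒜) (hbij : ∀ n : ℕ, 0 < n → Set.BijOn φ (ℬ n) (𝒜 n))
    (hφ : HomogeneousIdeal.irrelevant 𝒜 ≤ (HomogeneousIdeal.irrelevant ℬ).map φ) :
    CategoryTheory.IsIso (Proj.map φ hφ) := by
  have key : (MorphismProperty.isomorphisms Scheme) (Proj.map φ hφ) := by
    rw [IsZariskiLocalAtTarget.iff_of_openCover (P := MorphismProperty.isomorphisms Scheme)
      (Proj.affineOpenCover ℬ).openCover]
    rintro ⟨⟨n, hn⟩, ⟨s, hs0⟩⟩
    have hs : s ∈ ℬ n := hs0
    show IsIso (Limits.pullback.snd (Proj.map φ hφ) (Proj.awayι ℬ s hs hn))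
    have hpb : IsPullback (Spec.map (CommRingCat.ofHom (HomogeneousLocalization.Away.map φ s)))
        (Proj.awayι 𝒜 (φ s) (φ.2 hs) hn) (Proj.awayι ℬ s hs hn) (Proj.map φ hφ) :=
      IsOpenImmersion.isPullback _ _ _ _ (Proj.awayι_comp_map φ hφ hn s hs)
        (by rw [Proj.opensRange_awayι, Proj.opensRange_awayι]; rfl)
    have hiso0 : IsIso (CommRingCat.ofHom (HomogeneousLocalization.Away.map φ s)) :=
      (ConcreteCategory.isIso_iff_bijective _).mpr (away_map_bijective 𝒜 ℬ φ hbij hn s hs)
    have hsnd : Limits.pullback.snd (Proj.map φ hφ) (Proj.awayι ℬ s hs hn) =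
        hpb.flip.isoPullback.inv ≫
          Spec.map (CommRingCat.ofHom (HomogeneousLocalization.Away.map φ s)) := by
      rw [Iso.eq_inv_comp]
      exact hpb.flip.isoPullback_hom_snd
    rw [hsnd]
    infer_instance
  exact key

end Groth.Agent.S4398
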