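import Groth.Statements.S4399
import Groth.Agent.H18.TwistRestrict

set_option autoImplicit false
universe u
open CategoryTheory CategoryTheory.Limits AlgebraicGeometry
open EGA2

namespace Groth.Agent.S4399

/-- Let S be a ring graded in nonnegative degrees, X = Proj S, d > 0, and U the union of the opens
D_+(f) for f running through S_d. Then for every integer n the restriction of the twisting sheaf
O_X(nd) to U is an invertible O_U-module. -/
theorem result {R A : Type u} [CommRing R] [CommRing A] [Algebra R A] (𝒜 : ℕ → Submodule R A) [GradedAlgebra 𝒜]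
    (d : ℕ) (hd : 0 < d) (n : ℤ) :
    PicF.IsInvertible ((Twist.twist 𝒜 (n * d)).restrict (⨆ f : 𝒜 d, Proj.basicOpen 𝒜 (f : A)).ι) := by
  intro y
  obtain ⟨y0, hy0⟩ := y
  obtain ⟨f, hf0⟩ := TopologicalSpace.Opens.mem_iSup.mp hy0
  have hf : (f : A) ∈ 𝒜 d := f.2
  have hu : (f : A) ^ n.toNat ∈ 𝒜 (n.toNat • d) := SetLike.pow_mem_graded _ hf
  have hv : (f : A) ^ (-n).toNat ∈ 𝒜 ((-n).toNat • d) := SetLike.pow_mem_graded _ hf
  have hpq : ((n.toNat • d : ℕ) : ℤ) = ((-n).toNat • d : ℕ) + n * d := by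
    have h := Int.toNat_sub_toNat_neg n
    simp only [smul_eq_mul]
    push_cast
    linear_combination (d : ℤ) * h
  have hfx : ∀ x : Groth.Agent.H18.TwistRestrict.ofProjOpens 𝒜
      ((⨆ f : 𝒜 d, Proj.basicOpen 𝒜 (f : A)).ι ''ᵁ
        ((⨆ f : 𝒜 d, Proj.basicOpen 𝒜 (f : A)).ι ⁻¹ᵁ (Proj.basicOpen 𝒜 (f : A)))),
      (f : A) ∉ x.1.asHomogeneousIdeal := fun x =>
    (ProjectiveSpectrum.mem_basicOpen 𝒜 (f : A) x.1).mp
      ((⨆ f : 𝒜 d, Proj.basicOpen 𝒜 (f : A)).ι.image_preimage_le _ x.2)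
  refine ⟨(⨆ f : 𝒜 d, Proj.basicOpen 𝒜 (f : A)).ι ⁻¹ᵁ (Proj.basicOpen 𝒜 (f : A)), hf0, ?_⟩
  exact Groth.Agent.H18.TwistRestrict.nonempty_twist_restrict_restrict_iso 𝒜
    (⨆ f : 𝒜 d, Proj.basicOpen 𝒜 (f : A)) _ hu hv hpq
    (fun x h => hfx x (x.1.isPrime.mem_of_pow_mem _ h))
    (fun x h => hfx x (x.1.isPrime.mem_of_pow_mem _ h))

end Groth.Agent.S4399
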