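import Groth.Statements.S4401
import Groth.Agent.H18.FreeEpi
import Groth.Agent.H18.TwistRestrict

set_option autoImplicit false
universe u
open CategoryTheory CategoryTheory.Limits AlgebraicGeometry
open EGA2

namespace Groth.Agent.S4401

/-- Let S be a ring graded in nonnegative degrees whose irrelevant ideal S_+ is generated by finitely
many elements of degree one, and X = Proj S. Then for every integer n ≥ 0 there exist an integer k
and an epimorphism of O_X-modules O_X^k → O_X(n). -/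
theorem result {R A : Type u} [CommRing R] [CommRing A] [Algebra R A] (𝒜 : ℕ → Submodule R A) [GradedAlgebra 𝒜]
    (s : Finset A) (hs1 : ∀ f ∈ s, f ∈ 𝒜 1)
    (hs : (HomogeneousIdeal.irrelevant 𝒜).toIdeal = Ideal.span (s : Set A)) (n : ℕ) :
    ∃ (k : ℕ) (p : FlatMod.freeMod (Proj 𝒜) k ⟶ Twist.twist 𝒜 (n : ℤ)), Epi p := by
  classical
  have hcov : ∀ y : ProjectiveSpectrum 𝒜, ∃ g ∈ s, g ∉ y.asHomogeneousIdeal := by
    intro y
    by_contra hcon
    push Not at hcon
    apply y.not_irrelevant_le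
    show (HomogeneousIdeal.irrelevant 𝒜).toIdeal ≤ y.asHomogeneousIdeal.toIdeal
    rw [hs, Ideal.span_le]
    exact fun g hg => hcon g hg
  let e : Fin s.card ≃ s := s.equivFin.symm
  have hmem : ∀ i : Fin s.card, ((e i : A)) ^ n ∈ 𝒜 n := fun i => by
    have := SetLike.pow_mem_graded n (hs1 _ (e i).2)
    rwa [smul_eq_mul, mul_one] at this
  let σ : Fin s.card → Γ(Twist.twist 𝒜 (n : ℤ), ⊤) :=
    fun i => Twist.globalOf 𝒜 ⟨(e i : A) ^ n, hmem i⟩
  obtain ⟨p, hp⟩ := Groth.Agent.H18.FreeEpi.exists_epi_coprod_unit (X := Proj 𝒜)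
    (Twist.twist 𝒜 (n : ℤ)) σ (by
      intro U x hxU
      obtain ⟨g, hgs, hgx⟩ := hcov x
      refine ⟨U ⊓ Proj.basicOpen 𝒜 g, inf_le_left,
        TopologicalSpace.Opens.mem_inf.mpr ⟨hxU, hgx⟩, e.symm ⟨g, hgs⟩, ?_⟩
      have hei : (e (e.symm ⟨g, hgs⟩) : A) = g := by rw [Equiv.apply_symm_apply]
      have hbij := Groth.Agent.H18.TwistRestrict.bijective_smul_of_fraction 𝒜
        (W := Groth.Agent.H18.TwistRestrict.ofProjOpens 𝒜 (U ⊓ Proj.basicOpen 𝒜 g))
        (k := (n : ℤ)) (p := n) (q := 0) (u := (e (e.symm ⟨g, hgs⟩) : A) ^ n) (v := 1)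
        (hmem _) SetLike.GradedOne.one_mem (by simp)
        (fun y h => (show g ∉ y.1.asHomogeneousIdeal from
          (TopologicalSpace.Opens.mem_inf.mp y.2).2) (by
            rw [hei] at h
            exact y.1.isPrime.mem_of_pow_mem _ h))
        (fun y h => y.1.isPrime.ne_top ((Ideal.eq_top_iff_one _).mpr h))
        ((Twist.twist 𝒜 (n : ℤ)).presheaf.map
          (homOfLE (le_top : U ⊓ Proj.basicOpen 𝒜 g ≤ ⊤)).op (σ (e.symm ⟨g, hgs⟩)))
        (fun y => rfl)
      exact hbij.2)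
  exact ⟨s.card, p, hp⟩

end Groth.Agent.S4401
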