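import Groth.Statements.S4404
import Mathlib.RingTheory.GradedAlgebra.Radical
import Mathlib.RingTheory.Nilpotent.Lemmas

set_option autoImplicit false
universe u
open EGA2

namespace Groth.Agent.S4404

/-- (a) ⇔ (b): let S be a ring graded in nonnegative degrees and E a subset of the irrelevant ideal S_+.
Then V_+(E) is the whole of Proj S if and only if every element of E is nilpotent. -/
theorem result {R A : Type u} [CommRing R] [CommRing A] [Algebra R A] (𝒜 : ℕ → Submodule R A) [GradedAlgebra 𝒜]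
    (E : Set A) (hE : E ⊆ (HomogeneousIdeal.irrelevant 𝒜).toIdeal) :
    ProjectiveSpectrum.zeroLocus 𝒜 E = Set.univ ↔ ∀ e ∈ E, IsNilpotent e := by
  constructor
  · intro h e he
    have hbot : (⊥ : Ideal A).IsHomogeneous 𝒜 := Ideal.IsHomogeneous.bot 𝒜
    rw [← mem_nilradical, nilradical, ← Ideal.zero_eq_bot] at *
    rw [hbot.radical_eq, Ideal.mem_sInf]
    rintro J ⟨hJ, -, hJp⟩
    by_cases hirr : HomogeneousIdeal.irrelevant 𝒜 ≤ ⟨J, hJ⟩
    · exact hirr (hE he)
    · have : (⟨⟨J, hJ⟩, hJp, hirr⟩ : ProjectiveSpectrum 𝒜) ∈ ProjectiveSpectrum.zeroLocus 𝒜 E := by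
        rw [h]; trivial
      exact this he
  · intro h
    rw [Set.eq_univ_iff_forall]
    intro x e he
    obtain ⟨n, hn⟩ := h e he
    exact x.isPrime.mem_of_pow_mem n (hn ▸ Submodule.zero_mem _)

end Groth.Agent.S4404
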