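import Groth.Statements.S4406
import Groth.Agent.S3546
import Groth.Agent.H62.BCTw_G1
import Groth.Agent.H82.BCTw_COV
import Groth.Agent.H88.BCTwInj
import Groth.Agent.H88.BCTwSurj

set_option autoImplicit false
universe u
open CategoryTheory CategoryTheory.Limits AlgebraicGeometry
open EGA2

namespace Groth.Agent.S4406

/-- The twisting sheaves under base change: let A' → A be a ring homomorphism, S' a graded A'-algebra
and S = S' ⊗_{A'} A with the induced grading (here: any graded A-algebra S with a graded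
homomorphism φ : S' → S exhibiting S as the base change of S'), and Φ : Proj S → Proj S' the induced
morphism. Then for every integer n the O-module Φ^*(O(n)) is isomorphic to O(n) on Proj S.
(Existence of an isomorphism only; the published identification is canonical. The published
statement also covers a general graded S'-module M'; this row states the twisting sheaves only.) -/
theorem result {R R' A B : Type u} [CommRing R'] [CommRing R] [Algebra R' R]
    [CommRing B] [Algebra R' B] (ℬ : ℕ → Submodule R' B) [GradedAlgebra ℬ]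
    [CommRing A] [Algebra R A] [Algebra R' A] [IsScalarTower R' R A] (𝒜 : ℕ → Submodule R A) [GradedAlgebra 𝒜]
    [Algebra B A] [IsScalarTower R' B A] [Algebra.IsPushout R' R B A]
    (φ : ℬ →+*ᵍ 𝒜) (hφA : ∀ b : B, φ b = algebraMap B A b)
    (hφ : HomogeneousIdeal.irrelevant 𝒜 ≤ (HomogeneousIdeal.irrelevant ℬ).map φ) (n : ℤ) :
    Nonempty ((Scheme.Modules.pullback (Proj.map φ hφ)).obj (Twist.twist ℬ n) ≅ Twist.twist 𝒜 n) := by
  haveI hq1 : (GrTwist.twist ℬ n).IsQuasicoherent := Groth.Agent.S3546.result ℬ n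
  haveI hq2 : (GrTwist.twist 𝒜 n).IsQuasicoherent := Groth.Agent.S3546.result 𝒜 n
  have key := Groth.Agent.H62.BCTw_G1.isIso_adjunct_of_affine_cover (Proj.map φ hφ)
    (GrTwist.twist ℬ n) (GrTwist.twist 𝒜 n) (GrTwist.comap φ hφ n)
    (fun p : {p : ℕ × B // 0 < p.1 ∧ p.2 ∈ ℬ p.1} => Proj.basicOpen ℬ p.1.2)
    (fun p => Proj.isAffineOpen_basicOpen ℬ p.1.2 p.2.2 p.2.1)
    (fun p => Proj.isAffineOpen_basicOpen 𝒜 (φ p.1.2) (φ.2 p.2.2) p.2.1)
    (Groth.Agent.H82.BCTw_COV.isOpenCover_preimage_basicOpen ℬ 𝒜 φ hφ)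
    (fun p t => Groth.Agent.H88.BCTwSurj.exists_sum_eq ℬ 𝒜 φ hφA hφ n p.1.1 p.2.1 p.1.2 p.2.2 t)
    (fun p l c x h0 =>
      Groth.Agent.H88.BCTwInj.sumZero_of_sum_eq_zero ℬ 𝒜 φ hφA hφ n p.1.1 p.2.1 p.1.2 p.2.2 l c x h0)
  exact ⟨@asIso _ _ _ _ _ key⟩

end Groth.Agent.S4406
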