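import Mathlib
import Groth.Statements.S4409
import Groth.Agent.H22.IdealTwist
import Groth.Agent.H22.RelTwistGG
import Groth.Agent.S4407
-- import your own Groth.Agent.* helpers here

set_option autoImplicit false
universe u
open CategoryTheory CategoryTheory.Limits AlgebraicGeometry
open EGA2

namespace Groth.Agent.S4409

set_option linter.style.haveILetI false

open TopologicalSpace Opposite AlgebraicGeometry.Scheme.Modules
open Groth.Agent.H22.IdealTwist Groth.Agent.H22.AmpleLocal Groth.Agent.H18.TensorGen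
open Groth.Agent.H22.SerreAffine Groth.Agent.H8 Groth.Agent.H18.SecTw

/-- The ideal of the complement of an open `U`: quasi-coherent, contains `1` over `U` and all its
sections vanish outside `U`. -/
theorem exists_ideal' {X : Scheme.{u}} (U : X.Opens) :
    ∃ (G : X.Modules) (i : G ⟶ Coh.structureModule X), Mono i ∧ Coh.IsQCoh G ∧
      (∃ g : Γ(G, U), coef i g = 1) ∧ ∀ y : X, y ∉ U → VanishAt i y := by
  classical
  let Yc : Closeds X := ⟨(U : Set X)ᶜ, U.2.isClosed_compl⟩
  obtain ⟨IY, hsY⟩ : ∃ IY : X.IdealSheafData, (IY.support : Set X) = (Yc : Set X) :=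
    ⟨Scheme.IdealSheafData.vanishingIdeal Yc, Scheme.IdealSheafData.coe_support_vanishingIdeal Yc⟩
  have hdisj : Disjoint (U : Set X) (IY.support : Set X) := by
    rw [hsY]
    exact Set.disjoint_left.mpr (fun y hy hyY => hyY hy)
  obtain ⟨t, ht⟩ := exists_lift_of_disjoint IY U hdisj
    (show Γ(Coh.structureModule X, U) from (1 : Γ(X, U)))
  haveI hMq : Coh.IsQCoh (kernel (ClSub.toSubscheme IY)) := inferInstance
  refine ⟨kernel (ClSub.toSubscheme IY), kernel.ι (ClSub.toSubscheme IY), inferInstance, hMq,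
    ⟨t, ht⟩, ?_⟩
  intro y hyU W a hy
  obtain ⟨z, rfl⟩ : ∃ z : IY.subscheme, IY.subschemeι z = y := by
    have h5 : y ∈ Set.range IY.subschemeι := by
      rw [IY.range_subschemeι, hsY]
      exact hyU
    exact h5
  have h0 : (IY.subschemeι.app W).hom (coef (kernel.ι (ClSub.toSubscheme IY)) a) = 0 := by
    have h6 := app_comp_eq_zero (ShortComplex.mk (kernel.ι (ClSub.toSubscheme IY))
      (ClSub.toSubscheme IY) (kernel.condition _)) W a
    exact h6
  have h1 : z ∈ IY.subschemeι ⁻¹ᵁ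
      X.basicOpen (coef (kernel.ι (ClSub.toSubscheme IY)) a) := hy
  rw [Scheme.preimage_basicOpen] at h1
  have h3 : (IY.subschemeι.app W) (coef (kernel.ι (ClSub.toSubscheme IY)) a) = 0 := h0
  rw [h3, Scheme.basicOpen_zero] at h1
  exact h1

theorem isQuasiAffine_of_counit_epi {X Y : Scheme.{u}} (f : X ⟶ Y) [QuasiCompact f]
    [QuasiSeparated f]
    (h : ∀ F : X.Modules, Coh.IsQCoh F →
      Epi ((Scheme.Modules.pullbackPushforwardAdjunction f).counit.app F))
    (V : Y.Opens) (hV : IsAffineOpen V) : Scheme.IsQuasiAffine (f ⁻¹ᵁ V : Scheme.{u}) := by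
  haveI : CompactSpace ((f ⁻¹ᵁ V : X.Opens) : Scheme.{u}) :=
    isCompact_iff_compactSpace.mp (QuasiCompact.isCompact_preimage (f := f) _ V.2 hV.isCompact)
  refine Scheme.IsQuasiAffine.of_forall_exists_mem_basicOpen _ fun z => ?_
  have hzV : z.1 ∈ f ⁻¹ᵁ V := z.2
  obtain ⟨U, hU, hxU, hUZ⟩ := (Opens.isBasis_iff_nbhd.mp X.isBasis_affineOpens) hzV
  obtain ⟨G, i, hmono, hq, ⟨g, hg⟩, hvan⟩ := exists_ideal' U
  haveI : G.IsQuasicoherent := hq
  have hepi := h G hq
  have hO : PicF.IsInvertible (Coh.structureModule X) :=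
    isInvertible_of_isGen _ (fun x => ⟨⊤, _, trivial, isGen_one ⊤⟩)
  have hloc : ∃ (A : X.Opens) (m : Γ(G, A)), GenAt (Coh.structureModule X) (i.app A m) z.1 := by
    refine ⟨U, g, U, le_rfl, hxU, ?_⟩
    rw [res_self']
    have h1 : i.app U g = (show Γ(Coh.structureModule X, U) from (1 : Γ(X, U))) := hg
    rw [h1]
    exact isGen_one U
  obtain ⟨s, hs⟩ := exists_genAt_map_of_epi_affine f i hepi V hV z.1 hzV hloc
  obtain ⟨c, hc⟩ : ∃ c : Γ(X, f ⁻¹ᵁ V), c = coef i s := ⟨_, rfl⟩
  have hmem : ∀ y : X, GenAt (Coh.structureModule X) (i.app _ s) y → y ∈ X.basicOpen c := by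
    intro y hy
    have h1 : i.app (f ⁻¹ᵁ V) s = c • (show Γ(Coh.structureModule X, f ⁻¹ᵁ V) from
        (1 : Γ(X, f ⁻¹ᵁ V))) := by
      rw [hc]
      exact (mul_one (coef i s)).symm
    rw [h1] at hy
    exact mem_basicOpen_of_genAt_smul hO c _ hy
  have hcU : X.basicOpen c ≤ U := fun y hy => by
    by_contra hyU
    exact hvan y hyU _ s (hc ▸ hy)
  have haff : IsAffineOpen (X.basicOpen c) := by
    have h2 : X.basicOpen (X.presheaf.map (homOfLE hUZ).op c) = X.basicOpen c := by
      rw [X.basicOpen_res]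
      exact inf_eq_right.mpr hcU
    rw [← h2]
    exact hU.basicOpen _
  have h3 := Scheme.Opens.ι_image_basicOpen_topIso_inv (U := f ⁻¹ᵁ V) c
  refine ⟨(f ⁻¹ᵁ V).topIso.inv c, ?_, ?_⟩
  · have h4 : IsAffineOpen ((f ⁻¹ᵁ V).ι ''ᵁ
        (f ⁻¹ᵁ V).toScheme.basicOpen ((f ⁻¹ᵁ V).topIso.inv c)) := by
      rw [h3]
      exact haff
    exact (Scheme.Hom.isAffineOpen_iff_of_isOpenImmersion (f ⁻¹ᵁ V).ι).mp h4
  · have h5 : (f ⁻¹ᵁ V).ι z ∈ (f ⁻¹ᵁ V).ι ''ᵁ
        (f ⁻¹ᵁ V).toScheme.basicOpen ((f ⁻¹ᵁ V).topIso.inv c) := by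
      rw [h3]
      exact hmem _ hs
    obtain ⟨z', hz', hzz'⟩ := h5
    have : z' = z := (f ⁻¹ᵁ V).ι.isOpenEmbedding.injective hzz'
    exact this ▸ hz'

/-- (a) ⇔ (d): let f : X → Y be a quasi-compact morphism. Then f is quasi-affine (the preimage of every
affine open of Y is a quasi-affine scheme) if and only if f is separated and, for every
quasi-coherent O_X-module F, the canonical morphism f^*(f_*(F)) → F (counit of the adjunction
between f^* and f_*) is an epimorphism. -/
theorem result {X Y : Scheme.{u}} (f : X ⟶ Y) [QuasiCompact f] :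
    Mor2.IsQuasiAffine f ↔ (IsSeparated f ∧ ∀ F : X.Modules, Coh.IsQCoh F →
      Epi ((Scheme.Modules.pullbackPushforwardAdjunction f).counit.app F)) := by
  constructor
  · intro hf
    haveI := hf.1
    have hsep : IsSeparated f := by
      rw [HasAffineProperty.eq_targetAffineLocally (P := @IsSeparated)]
      intro V
      haveI := hf.2 V.1 V.2
      infer_instance
    refine ⟨hsep, fun F hF => ?_⟩
    apply Groth.Agent.H22.RelTwistGG.epi_counit_of_cover
    intro x
    obtain ⟨V, hV, hxV, -⟩ := (Opens.isBasis_iff_nbhd.mp Y.isBasis_affineOpens)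
      (show f x ∈ (⊤ : Y.Opens) from trivial)
    refine ⟨V, hxV, ?_⟩
    haveI := hf.2 V hV
    haveI : F.IsQuasicoherent := hF
    exact Groth.Agent.S4407.result _ _
      (inferInstanceAs ((Scheme.Modules.restrictFunctor (f ⁻¹ᵁ V).ι).obj F).IsQuasicoherent)
  · rintro ⟨hsep, h⟩
    exact ⟨inferInstance, fun V hV => isQuasiAffine_of_counit_epi f h V hV⟩

end Groth.Agent.S4409
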