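import Groth.Statements.S5877
import Groth.Agent.H73.ImmApprox2
import Groth.Agent.H73.RelSpecImm2

set_option autoImplicit false
universe u
open CategoryTheory AlgebraicGeometry Opposite
open Lim8

namespace Groth.Agent.S5877

/-- Equivalence of a) and b): let Y be a quasi-compact quasi-separated scheme, f : X ⟶ Y a
quasi-separated morphism of finite type, C a quasi-coherent O_Y-algebra with relative spectrum
Spec(C) ⟶ Y, and g : X ⟶ Spec(C) a Y-morphism. The quasi-coherent sub-O_Y-algebras of C of finite
type form an increasing filtered family with union C; here such a sub-algebra is a quasi-coherent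
O_Y-algebra C' with a homomorphism C' ⟶ C that is injective on sections over every open, and with
C'(U) a finitely generated O_Y(U)-algebra for every affine open U of Y. Then g is an immersion if
and only if, for some quasi-coherent sub-algebra C' of C of finite type, the composite X ⟶ Spec(C) ⟶
Spec(C') is an immersion. -/
theorem result {X Y : Scheme.{u}}
    [CompactSpace Y] [QuasiSeparatedSpace Y]
    (f : X ⟶ Y) [LocallyOfFiniteType f] [QuasiCompact f] [QuasiSeparated f]
    (C : RelSpec.QCAlg Y) (g : X ⟶ C.spec) (hg : g ≫ C.π = f) :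
    IsImmersion g ↔
      ∃ (C' : RelSpec.QCAlg Y) (φ : C' ⟶ C),
        (∀ U : Y.Opens, Function.Injective (φ.hom.app (op U))) ∧
        (∀ U : Y.affineOpens, (C'.str.app (op (U : Y.Opens))).hom.FiniteType) ∧
        IsImmersion (g ≫ RelSpec.QCAlg.specMap φ) := by
  constructor
  · intro himm
    subst hg
    obtain ⟨Scov, hSfin, hScov⟩ := (isCompact_and_isOpen_iff_finite_and_eq_biUnion_affineOpens
      (X := Y) (U := Set.univ)).mp ⟨isCompact_univ, isOpen_univ⟩
    obtain ⟨t, ht⟩ := Groth.Agent.H73.ImmApprox.exists_finsets_immersion C.π g Scov hScov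
    have hiso : IsIso C.gammaMap := Groth.Agent.S8255.result C
    classical
    let tC : ∀ W : Y.affineOpens, Finset (C.presheaf.obj (op W.1)) := fun W =>
      (t W).image (C.gammaMap.app (op W.1)).hom
    obtain ⟨C', φ, hφinj, hφft, hφrange⟩ :=
      Groth.Agent.H73.RelSpecImm.exists_ft_subalgebra_sections C tC hSfin.toFinset.toList
    have hiso' : IsIso C'.gammaMap := Groth.Agent.S8255.result C'
    refine ⟨C', φ, fun U => hφinj U, hφft, ?_⟩
    refine ht C'.spec C'.π (RelSpec.QCAlg.specMap φ) (RelSpec.QCAlg.specMap_π φ) inferInstance ?_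
    intro U hU x hx
    have hxC : (C.gammaMap.app (op U.1)).hom x ∈ tC U := Finset.mem_image_of_mem _ hx
    obtain ⟨c', hc'⟩ := hφrange U (Finset.mem_toList.mpr (hSfin.mem_toFinset.mpr hU)) _ hxC
    have hb' : Function.Bijective (C'.gammaMap.app (op U.1)).hom := by
      haveI : IsIso (C'.gammaMap.app (op U.1)) := inferInstance
      exact ConcreteCategory.bijective_of_isIso _
    have hb : Function.Bijective (C.gammaMap.app (op U.1)).hom := by
      haveI : IsIso (C.gammaMap.app (op U.1)) := inferInstance
      exact ConcreteCategory.bijective_of_isIso _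
    obtain ⟨x', hx'⟩ := hb'.2 c'
    refine ⟨x', ?_⟩
    apply hb.1
    have key := Groth.Agent.H73.RelSpecImm.specMap_appLE_gammaAff φ U.1 U.2
    rw [← C.gammaMap_app U.1 U.2, ← C'.gammaMap_app U.1 U.2] at key
    have key' := congr($(key).hom x')
    simp only [CommRingCat.hom_comp, RingHom.comp_apply] at key'
    rw [key', hx', hc']
  · rintro ⟨C', φ, -, -, himm⟩
    exact IsImmersion.of_comp g (RelSpec.QCAlg.specMap φ)

end Groth.Agent.S5877
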