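import Groth.Statements.S4410
import Groth.Agent.S5877
import Groth.Agent.H73.RelSpecImm3

set_option autoImplicit false
universe u
open CategoryTheory CategoryTheory.Limits AlgebraicGeometry
open EGA2

namespace Groth.Agent.S4410

/-- Let Y be a quasi-compact separated scheme and f : X → Y a quasi-affine morphism of finite type. Then
there are a scheme X'', an affine morphism of finite type g : X'' → Y and an immersion j : X → X''
with j ≫ g = f. (The published statement also allows Y to be a scheme whose underlying space is
Noetherian; this row assumes it quasi-compact and separated. The published statement realises X'' as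
the relative spectrum of a quasi-coherent sub-algebra of finite type of f_*O_X, and says every
larger such sub-algebra also works; only the resulting factorisation is stated here.) -/
theorem result {X Y : Scheme.{u}} [CompactSpace Y] [Y.IsSeparated]
    (f : X ⟶ Y) (hf : Mor2.IsQuasiAffine f) [LocallyOfFiniteType f] :
    ∃ (X'' : Scheme.{u}) (g : X'' ⟶ Y) (j : X ⟶ X''), IsAffineHom g ∧ LocallyOfFiniteType g ∧ IsImmersion j ∧ j ≫ g = f := by
  obtain ⟨hqc, hqa⟩ := hf
  haveI := hqc
  haveI : QuasiSeparated f := by
    rw [HasAffineProperty.iff_of_iSup_eq_top (P := @QuasiSeparated) (fun V : Y.affineOpens => V)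
      (iSup_affineOpens_eq_top Y)]
    intro V
    haveI : Scheme.IsQuasiAffine (f ⁻¹ᵁ V.1 : Scheme.{u}) := hqa V.1 V.2
    show QuasiSeparatedSpace (f ⁻¹ᵁ V.1 : Scheme.{u})
    infer_instance
  haveI : QuasiSeparatedSpace Y := inferInstance
  obtain ⟨g, w, hg⟩ := Groth.Agent.H73.RelSpecImm.exists_canonical f
  have himm : IsImmersion g := Groth.Agent.H73.RelSpecImm.isImmersion_canonical f hqa g w hg
  obtain ⟨C', φ, -, hft, himm'⟩ :=
    (Groth.Agent.S5877.result f (RelSpec.QCAlg.directImage f) g w).mp himm
  refine ⟨C'.spec, C'.π, g ≫ RelSpec.QCAlg.specMap φ, inferInstance,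
    Groth.Agent.H73.RelSpecImm.locallyOfFiniteType_π C' hft, himm', ?_⟩
  rw [Category.assoc, RelSpec.QCAlg.specMap_π, w]

end Groth.Agent.S4410
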