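import Groth.Statements.S4411
import Mathlib
-- import your own Groth.Agent.* helpers here

set_option autoImplicit false
universe u
open EGA2

namespace Groth.Agent.S4411

section Ver
variable {R A : Type u} [CommRing R] [CommRing A] [Algebra R A] (𝒜 : ℕ → Submodule R A)
  [GradedAlgebra 𝒜]

/-- the Veronese projection: keep the components of degree divisible by `d` -/
noncomputable def ver (d : ℕ) : A →+ A :=
  (DirectSum.toAddMonoid (fun i => if d ∣ i then (𝒜 i).subtype.toAddMonoidHom else 0)).comp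
    (DirectSum.decomposeAddEquiv 𝒜).toAddMonoidHom

theorem ver_of_mem (d : ℕ) {i : ℕ} {a : A} (ha : a ∈ 𝒜 i) :
    ver 𝒜 d a = if d ∣ i then a else 0 := by
  have h1 : ver 𝒜 d a =
      DirectSum.toAddMonoid (fun i => if d ∣ i then (𝒜 i).subtype.toAddMonoidHom else 0)
        (DirectSum.decompose 𝒜 a) := rfl
  rw [h1, DirectSum.decompose_of_mem 𝒜 ha, DirectSum.toAddMonoid_of]
  split_ifs <;> rfl

theorem ver_mul (d : ℕ) {j : ℕ} (hj : d ∣ j) {v : A} (hv : v ∈ 𝒜 j) (a : A) :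
    ver 𝒜 d (v * a) = v * ver 𝒜 d a := by
  refine DirectSum.Decomposition.inductionOn 𝒜 ?_ ?_ ?_ a
  · simp
  · intro i m
    have hm : (m : A) ∈ 𝒜 i := m.2
    have hvm : v * (m : A) ∈ 𝒜 (j + i) := SetLike.mul_mem_graded hv hm
    rw [ver_of_mem 𝒜 d hvm, ver_of_mem 𝒜 d hm]
    by_cases hi : d ∣ i
    · rw [if_pos hi, if_pos ((Nat.dvd_add_right hj).mpr hi)]
    · rw [if_neg hi, if_neg (fun h => hi ((Nat.dvd_add_right hj).mp h)), mul_zero]
  · intro x y hx hy
    rw [mul_add, map_add, map_add, hx, hy, mul_add]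

end Ver


/-- Let S be a ring graded in nonnegative degrees which is an S_0-algebra of finite type, d > 0, and
S^{(d)} the graded ring whose degree-n part is S_{nd} (given here as any graded ring S' with an
injective algebra homomorphism φ : S' → S carrying S'_n onto S_{nd} for every n). Then S^{(d)} is an
algebra of finite type over its degree-zero part S'_0 (which φ identifies with S_0). -/
theorem result {R A : Type u} [CommRing R] [CommRing A] [Algebra R A] (𝒜 : ℕ → Submodule R A) [GradedAlgebra 𝒜] [Algebra.FiniteType (𝒜 0) A]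
    {B : Type u} [CommRing B] [Algebra R B] (ℬ : ℕ → Submodule R B) [GradedAlgebra ℬ]
    (d : ℕ) (hd : 0 < d) (φ : B →ₐ[R] A) (hφ : Function.Injective φ)
    (hdeg : ∀ n : ℕ, Submodule.map φ.toLinearMap (ℬ n) = 𝒜 (n * d)) :
    Algebra.FiniteType (ℬ 0) B := by
  classical
  obtain ⟨t, ht, hthom⟩ := GradedAlgebra.exists_finset_adjoin_eq_top_and_homogeneous 𝒜
  have hφmem : ∀ n (b : B), b ∈ ℬ n → φ b ∈ 𝒜 (n * d) := by
    intro n b hb
    rw [← hdeg n]
    exact Submodule.mem_map_of_mem hb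
  have hrange : ∀ n (a : A), a ∈ 𝒜 (n * d) → ∃ b ∈ ℬ n, φ b = a := by
    intro n a ha
    rw [← hdeg n] at ha
    obtain ⟨b, hb, hba⟩ := Submodule.mem_map.1 ha
    exact ⟨b, hb, hba⟩
  have hfix : ∀ b : B, ver 𝒜 d (φ b) = φ b := by
    intro b
    refine DirectSum.Decomposition.inductionOn ℬ ?_ ?_ ?_ b
    · simp
    · intro n m
      rw [ver_of_mem 𝒜 d (hφmem n m m.2), if_pos (dvd_mul_left d n)]
    · intro x y hx hy
      rw [map_add, map_add, hx, hy]
  have hver_range : ∀ a : A, ∃ b : B, φ b = ver 𝒜 d a := by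
    intro a
    refine DirectSum.Decomposition.inductionOn 𝒜 ?_ ?_ ?_ a
    · exact ⟨0, by simp⟩
    · intro i m
      rw [ver_of_mem 𝒜 d m.2]
      by_cases hi : d ∣ i
      · rw [if_pos hi]
        obtain ⟨n, hn⟩ := hi
        obtain ⟨b, -, hb⟩ := hrange n m (by rw [mul_comm, ← hn]; exact m.2)
        exact ⟨b, hb⟩
      · rw [if_neg hi]; exact ⟨0, map_zero φ⟩
    · rintro x y ⟨bx, hx⟩ ⟨by', hy⟩
      exact ⟨bx + by', by rw [map_add, map_add, hx, hy]⟩
  have hver_mul : ∀ (b : B) (a : A), ver 𝒜 d (φ b * a) = φ b * ver 𝒜 d a := by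
    intro b a
    refine DirectSum.Decomposition.inductionOn ℬ ?_ ?_ ?_ b
    · simp
    · intro n m
      exact ver_mul 𝒜 d (dvd_mul_left d n) (hφmem n m m.2) a
    · intro x y hx hy
      rw [map_add, add_mul, map_add, hx, hy, add_mul]
  obtain ⟨g, hg⟩ : ∃ g : A → B, ∀ a, (∃ b, φ b = a) → φ (g a) = a :=
    ⟨fun a => if h : ∃ b, φ b = a then h.choose else 0, fun a h => by
      simp only [dif_pos h]; exact h.choose_spec⟩
  have hpow : ∀ x ∈ t, ∃ b, φ b = x ^ d := by
    intro x hx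
    obtain ⟨e, he⟩ := hthom x hx
    have h1 : x ^ d ∈ 𝒜 (d • e) := SetLike.pow_mem_graded d he
    obtain ⟨b, -, hb⟩ := hrange e (x ^ d) (by rw [mul_comm]; simpa [smul_eq_mul] using h1)
    exact ⟨b, hb⟩
  -- the intermediate ring
  let C' : Subalgebra (𝒜 0) A := Algebra.adjoin (𝒜 0) ((fun x => x ^ d) '' (t : Set A))
  have hint : ∀ x ∈ (t : Set A), IsIntegral C' x := by
    intro x hx
    refine IsIntegral.of_pow hd ?_
    have : x ^ d = algebraMap C' A ⟨x ^ d, Algebra.subset_adjoin ⟨x, hx, rfl⟩⟩ := rfl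
    rw [this]
    exact isIntegral_algebraMap
  have htop : Algebra.adjoin C' (t : Set A) = ⊤ := by
    rw [eq_top_iff]
    intro a _
    have ha : a ∈ Algebra.adjoin (𝒜 0) (t : Set A) := by rw [ht]; trivial
    have hle : Algebra.adjoin (𝒜 0) (t : Set A) ≤
        (Algebra.adjoin C' (t : Set A)).restrictScalars (𝒜 0) :=
      Algebra.adjoin_le (fun x hx => Algebra.subset_adjoin (R := C') hx)
    exact hle ha
  have hfg : (⊤ : Submodule C' A).FG := by
    have := fg_adjoin_of_finite (R := C') t.finite_toSet hint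
    rwa [htop, Algebra.top_toSubmodule] at this
  obtain ⟨W, hW⟩ := hfg
  refine ⟨⟨t.image (fun x => g (x ^ d)) ∪ W.image (fun w => g (ver 𝒜 d w)), ?_⟩⟩
  set T : Subalgebra (ℬ 0) B := Algebra.adjoin (ℬ 0)
    ((t.image (fun x => g (x ^ d)) ∪ W.image (fun w => g (ver 𝒜 d w)) : Finset B) : Set B) with hT
  have hY : ∀ x ∈ t, g (x ^ d) ∈ T := by
    intro x hx
    refine Algebra.subset_adjoin ?_
    rw [Finset.coe_union]
    exact Or.inl (Finset.mem_coe.2 (Finset.mem_image_of_mem _ hx))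
  have hU : ∀ w ∈ W, g (ver 𝒜 d w) ∈ T := by
    intro w hw
    refine Algebra.subset_adjoin ?_
    rw [Finset.coe_union]
    exact Or.inr (Finset.mem_coe.2 (Finset.mem_image_of_mem _ hw))
  have K0 : ∀ a ∈ 𝒜 0, ∃ b' ∈ T, φ b' = a := by
    intro a ha
    obtain ⟨b₀, hb₀, hb⟩ := hrange 0 a (by rwa [zero_mul])
    exact ⟨b₀, Subalgebra.algebraMap_mem T ⟨b₀, hb₀⟩, hb⟩
  have K1 : ∀ c ∈ C', ∃ b' ∈ T, φ b' = c := by
    intro c hc
    induction hc using Algebra.adjoin_induction with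
    | mem x hx =>
      obtain ⟨y, hy, rfl⟩ := hx
      exact ⟨g (y ^ d), hY y hy, hg _ (hpow y hy)⟩
    | algebraMap r => exact K0 _ r.2
    | add x y _ _ hx hy =>
      obtain ⟨bx, hbx, hx⟩ := hx
      obtain ⟨by', hby, hy⟩ := hy
      exact ⟨bx + by', T.add_mem hbx hby, by rw [map_add, hx, hy]⟩
    | mul x y _ _ hx hy =>
      obtain ⟨bx, hbx, hx⟩ := hx
      obtain ⟨by', hby, hy⟩ := hy
      exact ⟨bx * by', T.mul_mem hbx hby, by rw [map_mul, hx, hy]⟩
  have K2 : ∀ a ∈ Submodule.span C' (W : Set A), ∃ b' ∈ T, φ b' = ver 𝒜 d a := by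
    intro a ha
    induction ha using Submodule.span_induction with
    | mem w hw => exact ⟨g (ver 𝒜 d w), hU w hw, hg _ (hver_range w)⟩
    | zero => exact ⟨0, T.zero_mem, by simp⟩
    | add x y _ _ hx hy =>
      obtain ⟨bx, hbx, hx⟩ := hx
      obtain ⟨by', hby, hy⟩ := hy
      exact ⟨bx + by', T.add_mem hbx hby, by rw [map_add, map_add, hx, hy]⟩
    | smul c x _ hx =>
      obtain ⟨bx, hbx, hx⟩ := hx
      obtain ⟨bc, hbc, hc⟩ := K1 c c.2
      refine ⟨bc * bx, T.mul_mem hbc hbx, ?_⟩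
      have h1 : c • x = φ bc * x := by rw [hc]; rfl
      rw [h1, hver_mul, map_mul, hx]
  rw [eq_top_iff]
  intro b _
  obtain ⟨b', hb', hbb⟩ := K2 (φ b) (by rw [hW]; trivial)
  rw [hfix] at hbb
  rw [← hφ hbb]
  exact hb'

end Groth.Agent.S4411
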