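import Groth.Statements.S4412
import Mathlib

set_option autoImplicit false
universe u
open EGA2

namespace Groth.Agent.S4412

section Veronese

variable {R A : Type u} [CommRing R] [CommRing A] [Algebra R A] (𝒜 : ℕ → Submodule R A)
  [GradedAlgebra 𝒜] (d : ℕ)

/-- The additive projection of a graded ring onto the sum of its components of degree divisible
by `d`. -/
noncomputable def verProj : A →+ A :=
  (DirectSum.toAddMonoid (fun k => if d ∣ k then (𝒜 k).subtype.toAddMonoidHom else 0)).comp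
    (DirectSum.decomposeAddEquiv 𝒜).toAddMonoidHom

theorem verProj_of_mem {k : ℕ} {x : A} (hx : x ∈ 𝒜 k) :
    verProj 𝒜 d x = if d ∣ k then x else 0 := by
  classical
  unfold verProj
  rw [AddMonoidHom.comp_apply]
  show DirectSum.toAddMonoid _ (DirectSum.decompose 𝒜 x) = _
  rw [DirectSum.decompose_of_mem 𝒜 hx, DirectSum.toAddMonoid_of]
  split_ifs <;> rfl

theorem verProj_one : verProj 𝒜 d 1 = 1 := by
  rw [verProj_of_mem 𝒜 d (SetLike.one_mem_graded 𝒜), if_pos (dvd_zero d)]

theorem verProj_mul_of_mem {n : ℕ} {y : A} (hy : y ∈ 𝒜 (n * d)) (a : A) :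
    verProj 𝒜 d (a * y) = verProj 𝒜 d a * y := by
  induction a using DirectSum.Decomposition.inductionOn 𝒜 with
  | zero => simp
  | @homogeneous k a =>
    have hmul : (a : A) * y ∈ 𝒜 (k + n * d) := SetLike.mul_mem_graded a.2 hy
    rw [verProj_of_mem 𝒜 d hmul, verProj_of_mem 𝒜 d a.2]
    have hnd : d ∣ n * d := Dvd.intro_left n rfl
    have hiff : d ∣ k + n * d ↔ d ∣ k := by
      constructor
      · intro h; exact (Nat.dvd_add_iff_left hnd).mpr h
      · intro h; exact dvd_add h hnd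
    by_cases h : d ∣ k
    · rw [if_pos h, if_pos (hiff.mpr h)]
    · rw [if_neg h, if_neg (fun h' => h (hiff.mp h')), zero_mul]
  | add a b ha hb => rw [add_mul, map_add, map_add, ha, hb, add_mul]

variable {B : Type u} [CommRing B] [Algebra R B] (ℬ : ℕ → Submodule R B) [GradedAlgebra ℬ]
  (φ : B →ₐ[R] A) (hdeg : ∀ n : ℕ, Submodule.map φ.toLinearMap (ℬ n) = 𝒜 (n * d))

include hdeg in
theorem map_mem_of_mem {n : ℕ} {b : B} (hb : b ∈ ℬ n) : φ b ∈ 𝒜 (n * d) := by
  rw [← hdeg n]; exact Submodule.mem_map_of_mem hb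

include hdeg in
theorem verProj_mul_map (a : A) (b : B) :
    verProj 𝒜 d (a * φ b) = verProj 𝒜 d a * φ b := by
  induction b using DirectSum.Decomposition.inductionOn ℬ with
  | zero => simp
  | @homogeneous n b => exact verProj_mul_of_mem 𝒜 d (map_mem_of_mem 𝒜 d ℬ φ hdeg b.2) a
  | add b c hb hc => rw [map_add, mul_add, map_add, hb, hc, mul_add]

include hdeg in
theorem verProj_mem_range (a : A) : ∃ b : B, verProj 𝒜 d a = φ b := by
  induction a using DirectSum.Decomposition.inductionOn 𝒜 with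
  | zero => exact ⟨0, by simp⟩
  | @homogeneous k a =>
    rw [verProj_of_mem 𝒜 d a.2]
    by_cases h : d ∣ k
    · rw [if_pos h]
      obtain ⟨n, rfl⟩ := h
      have hmem : (a : A) ∈ Submodule.map φ.toLinearMap (ℬ n) := by
        rw [hdeg n, mul_comm]; exact a.2
      obtain ⟨b, _, hb⟩ := hmem
      exact ⟨b, hb.symm⟩
    · rw [if_neg h]; exact ⟨0, by simp⟩
  | add a b ha hb =>
    obtain ⟨x, hx⟩ := ha
    obtain ⟨y, hy⟩ := hb
    exact ⟨x + y, by rw [map_add, map_add, hx, hy]⟩

include hdeg in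
theorem comap_map_eq (hφ : Function.Injective φ) (I : Ideal B) :
    Ideal.comap φ (Ideal.map φ I) = I := by
  apply le_antisymm _ Ideal.le_comap_map
  intro b hb
  have hP : ∀ y ∈ Ideal.map φ I, ∀ a : A, ∃ b' ∈ I, verProj 𝒜 d (a * y) = φ b' := by
    intro y hy
    refine Submodule.span_induction
      (p := fun y _ => ∀ a : A, ∃ b' ∈ I, verProj 𝒜 d (a * y) = φ b') ?_ ?_ ?_ ?_ hy
    · rintro _ ⟨i, hi, rfl⟩ a
      obtain ⟨c, hc⟩ := verProj_mem_range 𝒜 d ℬ φ hdeg a
      exact ⟨c * i, I.mul_mem_left c hi, by rw [verProj_mul_map 𝒜 d ℬ φ hdeg, hc, map_mul]⟩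
    · intro a; exact ⟨0, I.zero_mem, by simp⟩
    · intro y z _ _ hy hz a
      obtain ⟨b1, hb1, e1⟩ := hy a
      obtain ⟨b2, hb2, e2⟩ := hz a
      exact ⟨b1 + b2, I.add_mem hb1 hb2, by rw [mul_add, map_add, e1, e2, map_add]⟩
    · intro c y _ hy a
      obtain ⟨b1, hb1, e1⟩ := hy (a * c)
      exact ⟨b1, hb1, by rw [smul_eq_mul, ← mul_assoc, e1]⟩
  obtain ⟨b', hb', e⟩ := hP (φ b) hb 1
  rw [verProj_mul_map 𝒜 d ℬ φ hdeg, verProj_one, one_mul] at e
  rw [hφ e]; exact hb'

end Veronese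

/-- Let S be a ring graded in nonnegative degrees which is Noetherian, d > 0, and S^{(d)} the graded
ring with degree-n part S_{nd} (given as a graded ring S' with an injective algebra homomorphism φ :
S' → S carrying S'_n onto S_{nd} for every n). Then S^{(d)} is Noetherian. -/
theorem result {R A : Type u} [CommRing R] [CommRing A] [Algebra R A] (𝒜 : ℕ → Submodule R A) [GradedAlgebra 𝒜] [IsNoetherianRing A]
    {B : Type u} [CommRing B] [Algebra R B] (ℬ : ℕ → Submodule R B) [GradedAlgebra ℬ]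
    (d : ℕ) (hd : 0 < d) (φ : B →ₐ[R] A) (hφ : Function.Injective φ)
    (hdeg : ∀ n : ℕ, Submodule.map φ.toLinearMap (ℬ n) = 𝒜 (n * d)) :
    IsNoetherianRing B := by
  have hinj : Function.Injective (Ideal.map φ : Ideal B → Ideal A) :=
    Function.LeftInverse.injective (g := Ideal.comap φ)
      (fun I => comap_map_eq 𝒜 d ℬ φ hdeg hφ I)
  have hmono : StrictMono (Ideal.map φ : Ideal B → Ideal A) :=
    Monotone.strictMono_of_injective (fun _ _ h => Ideal.map_mono h) hinj
  have hwf : WellFoundedGT (Ideal A) := isNoetherian_iff'.mp inferInstance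
  exact isNoetherian_iff'.mpr hmono.wellFoundedGT

end Groth.Agent.S4412
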