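import Mathlib
import Groth.Statements.S4413
import Groth.Agent.H22.PullGen
-- import your own Groth.Agent.* helpers here

set_option autoImplicit false
universe u
open CategoryTheory CategoryTheory.Limits AlgebraicGeometry
open EGA2

namespace Groth.Agent.S4413

/-- Precomposing a section with an automorphism of the structure module does not change the locus
where it generates. -/
theorem genLocus_iso_comp {X : Scheme.{u}} {N : X.Modules}
    (ω : Coh.structureModule X ⟶ Coh.structureModule X) [IsIso ω]
    (t : Coh.structureModule X ⟶ N) : CohB1.genLocus N (ω ≫ t) = CohB1.genLocus N t := by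
  unfold CohB1.genLocus
  congr 1
  ext U
  simp only [Set.mem_ofPred_eq, CategoryTheory.Functor.map_comp]
  constructor
  · intro h
    exact IsIso.of_isIso_comp_left ((Scheme.Modules.restrictFunctor U.ι).map ω) _
  · intro h
    infer_instance

/-- Let u : Z → S be a morphism of schemes, L an invertible O_S-module, s : O_S → L a global section of
L and s' the section of u^*(L) corresponding to s, i.e. u^*(s) composed with an isomorphism O_Z ≅
u^*(O_S) (the locus in question does not depend on that choice). Then the open Z_{s'} of Z where s'
generates u^*(L) is the preimage u⁻¹(S_s) of the open where s generates L. -/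
theorem result {Z S : Scheme.{u}} (u : Z ⟶ S) (L : S.Modules) (hL : PicF.IsInvertible L)
    (s : Coh.structureModule S ⟶ L)
    (e : Coh.structureModule Z ≅ (Scheme.Modules.pullback u).obj (Coh.structureModule S)) :
    CohB1.genLocus ((Scheme.Modules.pullback u).obj L) (e.hom ≫ (Scheme.Modules.pullback u).map s) = u ⁻¹ᵁ CohB1.genLocus L s := by
  have h1 : e.hom ≫ (Scheme.Modules.pullback u).map s =
      (e.hom ≫ (Groth.Agent.H22.PullGen.pullbackUnitIso u).hom) ≫
        Groth.Agent.H22.PullGen.pbSec u s := by
    unfold Groth.Agent.H22.PullGen.pbSec
    rw [Category.assoc, Iso.hom_inv_id_assoc]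
  rw [h1, genLocus_iso_comp, Groth.Agent.H22.PullGen.genLocus_pbSec u hL s]

end Groth.Agent.S4413
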