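import Groth.Statements.S5722
import Groth.Agent.H41.TwistAmpleRel
import Groth.Agent.H41.SymGraded2
import Groth.Agent.H22.PullAmple
import Groth.Agent.H18.AmpleIso

set_option autoImplicit false
universe u
open CategoryTheory CategoryTheory.Limits AlgebraicGeometry TopologicalSpace Opposite
open scoped HomogeneousIdeal
open EGA2

namespace Groth.Agent.S5722

/-- Let f : X → Y be a quasi-compact morphism, E a quasi-coherent O_Y-module, 𝒮 its graded symmetric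
algebra, p : P → Y the projective bundle P(E) = Proj(𝒮) with its charts over affine opens, and
O_P(1) its fundamental sheaf, given with its chart identifications. If g : X → P is a Y-morphism (g
≫ p = f) whose underlying map is a homeomorphism of X onto a subspace of P, then the inverse image
g^*O_P(1) is ample relative to f. -/
theorem result {X Y : Scheme.{u}} (f : X ⟶ Y) [QuasiCompact f]
    (E : Y.Modules) (hE : Coh.IsQCoh E) (𝒮 : RelProj.QCGrAlg Y) (j : E ⟶ 𝒮.toModule)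
    (hj : RelProj.IsGrSymAlg E 𝒮 j) (P : Scheme.{u}) (p : P ⟶ Y)
    (chart : ∀ (U : Y.Opens) (hU : IsAffineOpen U), ((p ⁻¹ᵁ U : P.Opens) : Scheme.{u}) ≅ Proj (𝒮.deg U hU))
    (hP : RelProj.IsRelProj 𝒮 p chart) (O1 : P.Modules)
    (lam : ∀ (U : Y.Opens) (hU : IsAffineOpen U),
      O1 ⟶ (Scheme.Modules.pushforward (RelProj.emb p chart U hU)).obj (GrTwist.twist (𝒮.deg U hU) 1))
    (hO1 : RelProj.IsRelTwist 𝒮 p chart 1 O1 lam)
    (g : X ⟶ P) (hg : g ≫ p = f) (hemb : Topology.IsEmbedding g.base) :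
    RelAmple.IsRelAmple f ((Scheme.Modules.pullback g).obj O1) := by
  classical
  have hEq : E.IsQuasicoherent := hE
  have hgen := Groth.Agent.H41.SymGraded.isGenDegOne_of_isGrSymAlg 𝒮 j hj
  refine ⟨inferInstance, fun V => ?_⟩
  obtain ⟨V, hV0⟩ := V
  have hV : IsAffineOpen V := hV0
  show CohB1.IsAmple (((Scheme.Modules.pullback g).obj O1).restrict (f ⁻¹ᵁ V).ι)
  have hcX : IsCompact ((f ⁻¹ᵁ V : X.Opens) : Set X) :=
    QuasiCompact.isCompact_preimage (f := f) _ V.2 hV.isCompact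
  have : CompactSpace ((f ⁻¹ᵁ V : X.Opens) : Scheme.{u}) := isCompact_iff_compactSpace.mp hcX
  have hcov : ∀ x ∈ ((f ⁻¹ᵁ V : X.Opens) : Set X), ∃ a : 𝒮.deg V hV 1,
      g.base x ∈ Groth.Agent.H41.TwistAmpleRel.D 𝒮 p chart V hV
        (a : 𝒮.presheaf.obj (op V)) := by
    intro x hx
    have hxV : g.base x ∈ p ⁻¹ᵁ V := by
      show p.base (g.base x) ∈ V
      have h1 : p.base (g.base x) = f.base x := congrArg (fun ψ : X ⟶ Y => ψ.base x) hg
      rw [h1]; exact hx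
    obtain ⟨b, hb1, hxb⟩ := Groth.Agent.H41.TwistAmpleRel.exists_mem_D 𝒮 p chart hgen V hV hxV
    exact ⟨⟨b, hb1⟩, hxb⟩
  obtain ⟨T, hT⟩ := hcX.elim_finite_subcover
    (fun a : 𝒮.deg V hV 1 => g.base ⁻¹' ((Groth.Agent.H41.TwistAmpleRel.D 𝒮 p chart V hV
      (a : 𝒮.presheaf.obj (op V)) : P.Opens) : Set P))
    (fun a => (Groth.Agent.H41.TwistAmpleRel.D 𝒮 p chart V hV
      (a : 𝒮.presheaf.obj (op V))).2.preimage g.continuous)
    (fun x hx => by
      obtain ⟨a, ha⟩ := hcov x hx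
      exact Set.mem_iUnion.mpr ⟨a, ha⟩)
  have hample := Groth.Agent.H41.TwistAmpleRel.isAmple_restrict_iSup 𝒮 p chart O1 lam hO1 hgen V hV
    (fun a : T => (((a : 𝒮.deg V hV 1)) : 𝒮.presheaf.obj (op V)))
    (fun a => (a : 𝒮.deg V hV 1).2)
  obtain ⟨W, hW⟩ : ∃ W : P.Opens, W = ⨆ a : T, Groth.Agent.H41.TwistAmpleRel.D 𝒮 p chart V hV
      (((a : 𝒮.deg V hV 1)) : 𝒮.presheaf.obj (op V)) := ⟨_, rfl⟩
  rw [← hW] at hample
  have hrange : Set.range ((f ⁻¹ᵁ V).ι ≫ g) ⊆ Set.range W.ι := by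
    rintro _ ⟨x, rfl⟩
    rw [Scheme.Opens.range_ι]
    obtain ⟨a, haT, hxa⟩ := Set.mem_iUnion₂.mp (hT x.2)
    show ((f ⁻¹ᵁ V).ι ≫ g).base x ∈ W
    rw [hW]
    exact Opens.mem_iSup.mpr ⟨⟨a, haT⟩, hxa⟩
  obtain ⟨gW, hfac⟩ : ∃ gW : ((f ⁻¹ᵁ V : X.Opens) : Scheme.{u}) ⟶ ((W : P.Opens) : Scheme.{u}),
      gW ≫ W.ι = (f ⁻¹ᵁ V).ι ≫ g :=
    ⟨IsOpenImmersion.lift W.ι ((f ⁻¹ᵁ V).ι ≫ g) hrange, IsOpenImmersion.lift_fac _ _ _⟩
  have hembV : Topology.IsEmbedding ((f ⁻¹ᵁ V).ι ≫ g).base := hemb.comp (f ⁻¹ᵁ V).ι.isEmbedding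
  have hembW : Topology.IsEmbedding gW.base := by
    have h1 : Topology.IsEmbedding (gW ≫ W.ι).base := by rw [hfac]; exact hembV
    exact (Topology.IsEmbedding.of_comp_iff W.ι.isEmbedding).mp h1
  have h2 := Groth.Agent.H22.PullAmple.isAmple_pullback_of_isEmbedding gW hembW hample
  refine Groth.Agent.H18.AmpleIso.isAmple_of_iso ?_ h2
  exact (Scheme.Modules.pullback gW).mapIso
      ((Scheme.Modules.restrictFunctorIsoPullback W.ι).app O1) ≪≫
    (Scheme.Modules.pullbackComp gW W.ι).app O1 ≪≫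
    (Scheme.Modules.pullbackCongr hfac).app O1 ≪≫
    ((Scheme.Modules.pullbackComp (f ⁻¹ᵁ V).ι g).app O1).symm ≪≫
    ((Scheme.Modules.restrictFunctorIsoPullback (f ⁻¹ᵁ V).ι).app
      ((Scheme.Modules.pullback g).obj O1)).symm

end Groth.Agent.S5722
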