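import Groth.Statements.S4418
import Groth.Agent.H41.DegOneMod2
import Groth.Agent.H41.SymGraded2
import Groth.Agent.H41.ProjBundleProper
import Groth.Agent.H41.RelProjExists
import Groth.Agent.H41.RelTwistExists
import Groth.Agent.H41.RelProjGlue
import Groth.Agent.H41.RelProjLib
import Groth.Agent.S8292
import Groth.Agent.S5722

set_option autoImplicit false
universe u
open CategoryTheory CategoryTheory.Limits AlgebraicGeometry
open EGA2

namespace Groth.Agent.S4418

/-- Every projective morphism f : X → Y is quasi-projective (of finite type with an f-ample module) and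
proper. -/
theorem result {X Y : Scheme.{u}} (f : X ⟶ Y) (hf : RelProj.IsProjective f) :
    RelProj.IsQuasiProjective f ∧ IsProper f := by
  classical
  obtain ⟨𝒮, P, p, chart, e, hgen, hft1, hP, hep⟩ := hf
  obtain ⟨E, hE, u, hu1, husurj, -, hfin⟩ := Groth.Agent.H41.DegOneMod.exists_degMod_inj 𝒮 1
  have hEq : E.IsQuasicoherent := hE
  obtain ⟨𝒯, jT, hT, hdeg⟩ := Groth.Agent.H41.SymGraded.exists_isGrSymAlg_deg E
  obtain ⟨ubar, hubar, hju⟩ := Groth.Agent.H41.SymGraded.exists_gradedHom 𝒯 jT hT hdeg 𝒮 u hu1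
  have hirr := Groth.Agent.H41.SymGraded.irrelevant_le_map 𝒯 jT hT 𝒮 hgen u husurj ubar hubar hju
  obtain ⟨PT, pT, chartT, hPT⟩ := Groth.Agent.H41.RelProjExists.exists_isRelProj 𝒯
  obtain ⟨OT, lamT, hOT⟩ := Groth.Agent.H41.RelTwistExists.exists_isRelTwist 𝒯 pT chartT hPT 1
  obtain ⟨h, hh, -⟩ := Groth.Agent.H41.RelProjLib.existsUnique_relProjMap ubar hubar hirr
    chartT chart hPT hP
  have hcomp : h ≫ pT = p := Groth.Agent.H41.RelProjLib.relProjMap_comp ubar hubar hirr pT p
    chartT chart hPT hP h hh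
  have hci : IsClosedImmersion h := Groth.Agent.S8292.result 𝒮 𝒯 hgen E hE u hu1 husurj jT hT ubar
    hubar hju hirr pT p chartT chart hPT hP h hh
  have hproperT : IsProper pT := Groth.Agent.H41.ProjBundleProper.isProper_projBundle 𝒯 jT hT hdeg
    (hfin hft1) pT chartT hPT
  have hci' : IsClosedImmersion (e.hom ≫ h) := inferInstance
  have hfeq : (e.hom ≫ h) ≫ pT = f := by rw [Category.assoc, hcomp, hep]
  have hproper : IsProper f := by rw [← hfeq]; infer_instance
  refine ⟨⟨inferInstance, inferInstance, (Scheme.Modules.pullback (e.hom ≫ h)).obj OT, ?_⟩, hproper⟩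
  exact Groth.Agent.S5722.result f E hE 𝒯 jT hT PT pT chartT hPT OT lamT hOT (e.hom ≫ h) hfeq
    (e.hom ≫ h).isEmbedding

end Groth.Agent.S4418
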