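import Groth.Statements.S4426

set_option autoImplicit false
universe u
open CategoryTheory CategoryTheory.Limits AlgebraicGeometry
open EGA2

namespace Groth.Agent.S4426

/-- Let g : X → Y be a proper morphism, 𝒮 a quasi-coherent graded O_Y-algebra and p : P → Y its relative
homogeneous spectrum (given with its charts over affine opens). Then every morphism u : X → P with u
≫ p = g is proper (in particular closed). -/
theorem result {X Y P : Scheme.{u}} (g : X ⟶ Y) [IsProper g] (𝒮 : RelProj.QCGrAlg Y) (p : P ⟶ Y)
    (chart : ∀ (U : Y.Opens) (hU : IsAffineOpen U), ((p ⁻¹ᵁ U : P.Opens) : Scheme.{u}) ≅ Proj (𝒮.deg U hU))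
    (hp : RelProj.IsRelProj 𝒮 p chart) (u : X ⟶ P) (hu : u ≫ p = g) : IsProper u := by
  haveI hsep : IsSeparated p := by
    refine IsZariskiLocalAtTarget.of_iSup_eq_top (P := @IsSeparated)
      (fun U : Y.affineOpens => (U : Y.Opens)) (iSup_affineOpens_eq_top Y) fun U => ?_
    haveI : ((p ⁻¹ᵁ (U : Y.Opens) : P.Opens) : Scheme.{u}).IsSeparated := by
      refine ⟨?_⟩
      have e : terminal.from ((p ⁻¹ᵁ (U : Y.Opens) : P.Opens) : Scheme.{u}) =
          (chart U.1 U.2).hom ≫ terminal.from (Proj (𝒮.deg U.1 U.2)) :=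
        (terminal.comp_from _).symm
      rw [e]
      infer_instance
    infer_instance
  haveI : IsProper (u ≫ p) := by rw [hu]; infer_instance
  exact IsProper.of_comp u p

end Groth.Agent.S4426
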