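import Groth.Statements.S4428
import Mathlib
import Groth.Agent.H22.ExtTensor
import Groth.Agent.H22.PullBC
import Groth.Agent.H22.RelTwistGG
-- import your own Groth.Agent.* helpers here

set_option autoImplicit false
universe u
open CategoryTheory CategoryTheory.Limits AlgebraicGeometry
open EGA2

namespace Groth.Agent.S4428

open Groth.Agent.H22.ExtTensor Groth.Agent.H22.PullBC Groth.Agent.H22.PullGen TopologicalSpace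
open Groth.Agent.H18

/-- Abstract form of the statement: `P`, `Q` with projections satisfying the affineness property
of fibre products. -/
theorem aux {P Q X₁ X₂ Y₁ Y₂ S : Scheme.{u}} (p₁ : P ⟶ X₁) (p₂ : P ⟶ X₂) (q₁ : Q ⟶ Y₁)
    (q₂ : Q ⟶ Y₂) (F : P ⟶ Q) (f₁ : X₁ ⟶ Y₁) (f₂ : X₂ ⟶ Y₂) (a₁ : Y₁ ⟶ S) (a₂ : Y₂ ⟶ S)
    [QuasiCompact F] (h₁ : F ≫ q₁ = p₁ ≫ f₁) (h₂ : F ≫ q₂ = p₂ ≫ f₂)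
    (hq : q₁ ≫ a₁ = q₂ ≫ a₂)
    (haffP : ∀ (W : S.Opens) (D₁ : X₁.Opens) (D₂ : X₂.Opens), IsAffineOpen W → IsAffineOpen D₁ →
      IsAffineOpen D₂ → D₁ ≤ (f₁ ≫ a₁) ⁻¹ᵁ W → D₂ ≤ (f₂ ≫ a₂) ⁻¹ᵁ W →
      IsAffineOpen (p₁ ⁻¹ᵁ D₁ ⊓ p₂ ⁻¹ᵁ D₂))
    (haffQ : ∀ (W : S.Opens) (D₁ : Y₁.Opens) (D₂ : Y₂.Opens), IsAffineOpen W → IsAffineOpen D₁ →
      IsAffineOpen D₂ → D₁ ≤ a₁ ⁻¹ᵁ W → D₂ ≤ a₂ ⁻¹ᵁ W →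
      IsAffineOpen (q₁ ⁻¹ᵁ D₁ ⊓ q₂ ⁻¹ᵁ D₂))
    (L₁ : X₁.Modules) (L₂ : X₂.Modules)
    (hL₁ : RelAmple.IsRelAmple f₁ L₁) (hL₂ : RelAmple.IsRelAmple f₂ L₂) :
    RelAmple.IsRelAmple F (CohB1.tensorMod ((Scheme.Modules.pullback p₁).obj L₁)
      ((Scheme.Modules.pullback p₂).obj L₂)) := by
  apply isRelAmple_of_local
  intro y
  obtain ⟨W, hW, hyW, -⟩ := (Opens.isBasis_iff_nbhd.mp S.isBasis_affineOpens)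
    (show (q₁ ≫ a₁) y ∈ (⊤ : S.Opens) from trivial)
  have hy₁ : q₁ y ∈ a₁ ⁻¹ᵁ W := hyW
  have hy₂ : q₂ y ∈ a₂ ⁻¹ᵁ W := by
    have h3 : (q₂ ≫ a₂) y ∈ W := by
      rw [← hq]
      exact hyW
    exact h3
  obtain ⟨V₁, hV₁, hyV₁, hV₁W⟩ := (Opens.isBasis_iff_nbhd.mp Y₁.isBasis_affineOpens) hy₁
  obtain ⟨V₂, hV₂, hyV₂, hV₂W⟩ := (Opens.isBasis_iff_nbhd.mp Y₂.isBasis_affineOpens) hy₂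
  refine ⟨q₁ ⁻¹ᵁ V₁ ⊓ q₂ ⁻¹ᵁ V₂, ⟨hyV₁, hyV₂⟩, fun T hT hTO => ?_⟩
  have hO : IsAffineOpen (q₁ ⁻¹ᵁ V₁ ⊓ q₂ ⁻¹ᵁ V₂) := haffQ W V₁ V₂ hW hV₁ hV₂ hV₁W hV₂W
  obtain ⟨Z, hZ⟩ : ∃ Z : P.Opens, Z = F ⁻¹ᵁ T := ⟨_, rfl⟩
  rw [← hZ]
  haveI : CompactSpace Z := isCompact_iff_compactSpace.mp (by
    rw [hZ]
    exact QuasiCompact.isCompact_preimage (f := F) _ T.2 hT.isCompact)
  have hZ₁ : Z ≤ p₁ ⁻¹ᵁ (f₁ ⁻¹ᵁ V₁) := by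
    intro x hx
    rw [hZ] at hx
    have h3 : (F ≫ q₁) x ∈ V₁ := (hTO hx).1
    rw [h₁] at h3
    exact h3
  have hZ₂ : Z ≤ p₂ ⁻¹ᵁ (f₂ ⁻¹ᵁ V₂) := by
    intro x hx
    rw [hZ] at hx
    have h3 : (F ≫ q₂) x ∈ V₂ := (hTO hx).2
    rw [h₂] at h3
    exact h3
  obtain ⟨r₁, hr₁⟩ : ∃ r₁ : Z.toScheme ⟶ (f₁ ⁻¹ᵁ V₁).toScheme, r₁ = p₁.resLE _ _ hZ₁ := ⟨_, rfl⟩
  obtain ⟨r₂, hr₂⟩ : ∃ r₂ : Z.toScheme ⟶ (f₂ ⁻¹ᵁ V₂).toScheme, r₂ = p₂.resLE _ _ hZ₂ := ⟨_, rfl⟩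
  have hr₁ι : ∀ z : Z.toScheme, (f₁ ⁻¹ᵁ V₁).ι (r₁ z) = p₁ (Z.ι z) := by
    intro z
    have e := Scheme.Hom.resLE_comp_ι p₁ hZ₁
    have e' : (p₁.resLE _ _ hZ₁ ≫ (f₁ ⁻¹ᵁ V₁).ι) z = (Z.ι ≫ p₁) z := by rw [e]
    rw [hr₁]
    exact e'
  have hr₂ι : ∀ z : Z.toScheme, (f₂ ⁻¹ᵁ V₂).ι (r₂ z) = p₂ (Z.ι z) := by
    intro z
    have e := Scheme.Hom.resLE_comp_ι p₂ hZ₂
    have e' : (p₂.resLE _ _ hZ₂ ≫ (f₂ ⁻¹ᵁ V₂).ι) z = (Z.ι ≫ p₂) z := by rw [e]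
    rw [hr₂]
    exact e'
  have hL₁' := hL₁.2 ⟨V₁, hV₁⟩
  have hL₂' := hL₂.2 ⟨V₂, hV₂⟩
  have key : CohB1.IsAmple (CohB1.tensorMod
      ((Scheme.Modules.pullback r₁).obj (L₁.restrict (f₁ ⁻¹ᵁ V₁).ι))
      ((Scheme.Modules.pullback r₂).obj (L₂.restrict (f₂ ⁻¹ᵁ V₂).ι))) := by
    refine isAmple_tensorMod_pullback r₁ r₂ hL₁' hL₂' (fun D₁ D₂ hD₁ hD₂ => ?_)
    rw [← Scheme.Hom.isAffineOpen_iff_of_isOpenImmersion Z.ι]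
    have himg : Z.ι ''ᵁ (r₁ ⁻¹ᵁ D₁ ⊓ r₂ ⁻¹ᵁ D₂) =
        (p₁ ⁻¹ᵁ ((f₁ ⁻¹ᵁ V₁).ι ''ᵁ D₁) ⊓ p₂ ⁻¹ᵁ ((f₂ ⁻¹ᵁ V₂).ι ''ᵁ D₂)) ⊓ F ⁻¹ᵁ T := by
      ext x
      constructor
      · rintro ⟨z, ⟨hz₁, hz₂⟩, rfl⟩
        refine ⟨⟨⟨r₁ z, hz₁, hr₁ι z⟩, ⟨r₂ z, hz₂, hr₂ι z⟩⟩, ?_⟩
        have hz : Z.ι z ∈ Z := z.2
        exact hZ.le hz
      · rintro ⟨⟨⟨u₁, hu₁, hu₁'⟩, ⟨u₂, hu₂, hu₂'⟩⟩, hxT⟩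
        have hxZ : x ∈ Z := by
          rw [hZ]
          exact hxT
        refine ⟨⟨x, hxZ⟩, ⟨?_, ?_⟩, rfl⟩
        · have h5 : r₁ ⟨x, hxZ⟩ = u₁ := by
            apply (f₁ ⁻¹ᵁ V₁).ι.isOpenEmbedding.injective
            rw [hr₁ι]
            exact hu₁'.symm
          show r₁ ⟨x, hxZ⟩ ∈ D₁
          rw [h5]
          exact hu₁
        · have h5 : r₂ ⟨x, hxZ⟩ = u₂ := by
            apply (f₂ ⁻¹ᵁ V₂).ι.isOpenEmbedding.injective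
            rw [hr₂ι]
            exact hu₂'.symm
          show r₂ ⟨x, hxZ⟩ ∈ D₂
          rw [h5]
          exact hu₂
    rw [himg]
    have hD₁' : (f₁ ⁻¹ᵁ V₁).ι ''ᵁ D₁ ≤ (f₁ ≫ a₁) ⁻¹ᵁ W :=
      ((f₁ ⁻¹ᵁ V₁).ι_image_le D₁).trans (fun x hx => hV₁W hx)
    have hD₂' : (f₂ ⁻¹ᵁ V₂).ι ''ᵁ D₂ ≤ (f₂ ≫ a₂) ⁻¹ᵁ W :=
      ((f₂ ⁻¹ᵁ V₂).ι_image_le D₂).trans (fun x hx => hV₂W hx)
    have hE := haffP W _ _ hW (hD₁.image_of_isOpenImmersion (f₁ ⁻¹ᵁ V₁).ι)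
      (hD₂.image_of_isOpenImmersion (f₂ ⁻¹ᵁ V₂).ι) hD₁' hD₂'
    refine isAffineOpen_inf_preimage F hE hO ?_ hT hTO
    rintro x ⟨hx₁, hx₂⟩
    constructor
    · have h3 : (p₁ ≫ f₁) x ∈ V₁ := (f₁ ⁻¹ᵁ V₁).ι_image_le D₁ hx₁
      rw [← h₁] at h3
      exact h3
    · have h3 : (p₂ ≫ f₂) x ∈ V₂ := (f₂ ⁻¹ᵁ V₂).ι_image_le D₂ hx₂
      rw [← h₂] at h3
      exact h3
  have e₁ : ((Scheme.Modules.pullback p₁).obj L₁).restrict Z.ι ≅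
      (Scheme.Modules.pullback r₁).obj (L₁.restrict (f₁ ⁻¹ᵁ V₁).ι) := by
    rw [hr₁]
    exact (bcIsoLE p₁ (f₁ ⁻¹ᵁ V₁) Z hZ₁).app L₁
  have e₂ : ((Scheme.Modules.pullback p₂).obj L₂).restrict Z.ι ≅
      (Scheme.Modules.pullback r₂).obj (L₂.restrict (f₂ ⁻¹ᵁ V₂).ι) := by
    rw [hr₂]
    exact (bcIsoLE p₂ (f₂ ⁻¹ᵁ V₂) Z hZ₂).app L₂
  have hB : PicF.IsInvertible (((Scheme.Modules.pullback p₂).obj L₂).restrict Z.ι) :=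
    AmpleIso.isInvertible_of_iso e₂.symm (isInvertible_pullback r₂ hL₂'.1)
  obtain ⟨e₀⟩ := Groth.Agent.H22.RelTwistGG.nonempty_restrict_tensorMod_right Z.ι
    ((Scheme.Modules.pullback p₁).obj L₁) hB
  obtain ⟨e₃⟩ := TensorModIso.nonempty_tensorMod_congr e₁ e₂
  exact AmpleIso.isAmple_of_iso (e₃.symm ≪≫ e₀) key


/-- Let a₁ : Y₁ → S and a₂ : Y₂ → S be morphisms, f₁ : X₁ → Y₁ and f₂ : X₂ → Y₂ quasi-compact morphisms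
(so X₁, X₂ are S-schemes through f_i ≫ a_i), and L₁, L₂ modules on X₁, X₂ ample relative to f₁, f₂.
Then the external tensor product p₁^*(L₁) ⊗ p₂^*(L₂) on X₁ ×_S X₂ (p₁, p₂ the projections) is ample
relative to the product morphism f₁ ×_S f₂ : X₁ ×_S X₂ → Y₁ ×_S Y₂. -/
theorem result {X₁ X₂ Y₁ Y₂ S : Scheme.{u}} (a₁ : Y₁ ⟶ S) (a₂ : Y₂ ⟶ S)
    (f₁ : X₁ ⟶ Y₁) (f₂ : X₂ ⟶ Y₂) [QuasiCompact f₁] [QuasiCompact f₂] (L₁ : X₁.Modules) (L₂ : X₂.Modules)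
    (hL₁ : RelAmple.IsRelAmple f₁ L₁) (hL₂ : RelAmple.IsRelAmple f₂ L₂) :
    RelAmple.IsRelAmple
      (pullback.map (f₁ ≫ a₁) (f₂ ≫ a₂) a₁ a₂ f₁ f₂ (𝟙 S) (Category.comp_id (f₁ ≫ a₁)) (Category.comp_id (f₂ ≫ a₂)))
      (CohB1.tensorMod ((Scheme.Modules.pullback (pullback.fst (f₁ ≫ a₁) (f₂ ≫ a₂))).obj L₁)
        ((Scheme.Modules.pullback (pullback.snd (f₁ ≫ a₁) (f₂ ≫ a₂))).obj L₂)) := by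
  haveI : QuasiCompact (pullback.map (f₁ ≫ a₁) (f₂ ≫ a₂) a₁ a₂ f₁ f₂ (𝟙 S)
      (Category.comp_id (f₁ ≫ a₁)) (Category.comp_id (f₂ ≫ a₂))) :=
    MorphismProperty.pullbackMap (P := @QuasiCompact) (f' := a₁) (g' := a₂)
      (i₁ := f₁) (i₂ := f₂) inferInstance inferInstance rfl rfl
  refine aux (pullback.fst (f₁ ≫ a₁) (f₂ ≫ a₂)) (pullback.snd (f₁ ≫ a₁) (f₂ ≫ a₂))
    (pullback.fst a₁ a₂) (pullback.snd a₁ a₂) _ f₁ f₂ a₁ a₂ ?_ ?_ pullback.condition ?_ ?_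
    L₁ L₂ hL₁ hL₂
  · exact pullback.lift_fst _ _ _
  · exact pullback.lift_snd _ _ _
  · intro W D₁ D₂ hW hD₁ hD₂ h1 h2
    exact isAffineOpen_pullback_inf hD₁ hD₂ hW h1 h2
  · intro W D₁ D₂ hW hD₁ hD₂ h1 h2
    exact isAffineOpen_pullback_inf hD₁ hD₂ hW h1 h2

end Groth.Agent.S4428
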