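import Groth.Statements.S4429
import Mathlib

set_option autoImplicit false
universe u
open EGA2

namespace Groth.Agent.S4429

/-- For an integral domain A with fraction field K, a finitely generated A-module E and an endomorphism
u of E, the coefficients of the characteristic polynomial of u ⊗ 1 acting on the K-vector space K
⊗_A E (the elementary symmetric functions of u, among them its trace and determinant) are integral
over A. -/
theorem result (A : Type u) [CommRing A] [IsDomain A] (K : Type u) [Field K]
    [Algebra A K] [IsFractionRing A K] (E : Type u) [AddCommGroup E] [Module A E] [Module.Finite A E]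
    (u : E →ₗ[A] E) (i : ℕ) :
    IsIntegral A (((u.baseChange K).charpoly).coeff i) := by
  classical
  open Polynomial TensorProduct in
  let V := K ⊗[A] E
  let v : Module.End K V := u.baseChange K
  let L := AlgebraicClosure K
  let w : Module.End L (L ⊗[K] V) := v.baseChange L
  have hu : IsIntegral A u := Algebra.IsIntegral.isIntegral u
  have hv : IsIntegral A v := hu.map (Module.End.baseChangeHom A K E)
  obtain ⟨p, hp, hpv⟩ := hv
  have hqv : Polynomial.aeval v (p.map (algebraMap A K)) = 0 := by
    rw [Polynomial.aeval_map_algebraMap]; exact hpv
  have hqw : Polynomial.aeval w ((p.map (algebraMap A K)).map (algebraMap K L)) = 0 := by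
    rw [Polynomial.aeval_map_algebraMap]
    have hw : w = Module.End.baseChangeHom K L V v := rfl
    rw [hw, Polynomial.aeval_algHom_apply, hqv, map_zero]
  have hg : (v.charpoly.map (algebraMap K L)) = w.charpoly :=
    (LinearMap.charpoly_baseChange (A := L) v).symm
  have hroots : ∀ a ∈ (v.charpoly.map (algebraMap K L)).roots,
      a ∈ (algebraMap (integralClosure A L) L).range := by
    intro a ha
    rw [hg] at ha
    have hroot : w.charpoly.IsRoot a := Polynomial.isRoot_of_mem_roots ha
    have hev : w.HasEigenvalue a := (Module.End.hasEigenvalue_iff_isRoot_charpoly w a).mpr hroot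
    obtain ⟨x, hx⟩ := hev.exists_hasEigenvector
    have h1 := Module.End.aeval_apply_of_hasEigenvector
      (p := (p.map (algebraMap A K)).map (algebraMap K L)) hx
    rw [hqw, LinearMap.zero_apply] at h1
    have h2 : ((p.map (algebraMap A K)).map (algebraMap K L)).eval a = 0 := by
      rcases smul_eq_zero.mp h1.symm with h | h
      · exact h
      · exact absurd h hx.2
    have hint : IsIntegral A a := by
      refine ⟨p, hp, ?_⟩
      rw [Polynomial.map_map, ← IsScalarTower.algebraMap_eq, Polynomial.eval_map] at h2
      exact h2
    exact (SetLike.ext_iff.mp (integralClosure A L).range_algebraMap _).mpr hint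
  have hmem := (IsAlgClosed.splits (v.charpoly.map (algebraMap K L))).mem_lift_of_roots_mem_range
    ((LinearMap.charpoly_monic v).map _) (algebraMap (integralClosure A L) L) hroots
  rw [Polynomial.lifts_iff_coeff_lifts] at hmem
  obtain ⟨⟨c, hc⟩, hc'⟩ := hmem i
  rw [Polynomial.coeff_map] at hc'
  have h3 : IsIntegral A (algebraMap K L (v.charpoly.coeff i)) := by rw [← hc']; exact hc
  exact (isIntegral_algebraMap_iff (algebraMap K L).injective).mp h3

end Groth.Agent.S4429
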