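import Groth.Statements.S4430
import Mathlib
import Groth.Agent.S4429

set_option autoImplicit false
universe u
open EGA2

namespace Groth.Agent.S4430

/-- Let A be an integral domain with fraction field K, E a finitely generated A-module and u an
endomorphism of E whose characteristic-polynomial coefficients (those of u ⊗ 1 on K ⊗_A E) all lie
in A. If u is an automorphism of E, then its determinant, as an element of A, is invertible in A. -/
theorem result (A : Type u) [CommRing A] [IsDomain A] (K : Type u) [Field K]
    [Algebra A K] [IsFractionRing A K] (E : Type u) [AddCommGroup E] [Module A E] [Module.Finite A E]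
    (u : E →ₗ[A] E) (hcoeff : ∀ i : ℕ, ((u.baseChange K).charpoly).coeff i ∈ (algebraMap A K).range)
    (a : A) (ha : algebraMap A K a = LinearMap.det (u.baseChange K)) (hu : Function.Bijective u) :
    IsUnit a := by
  classical
  let e : E ≃ₗ[A] E := LinearEquiv.ofBijective u hu
  let w : E →ₗ[A] E := e.symm.toLinearMap
  have hwu : w ∘ₗ u = LinearMap.id := by
    ext x; exact e.symm_apply_apply x
  have hcomp : (w.baseChange K) ∘ₗ (u.baseChange K) = LinearMap.id := by
    rw [← LinearMap.baseChange_comp, hwu, LinearMap.baseChange_id]
  have hdet : LinearMap.det (w.baseChange K) * LinearMap.det (u.baseChange K) = 1 := by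
    rw [← LinearMap.det_comp, hcomp, LinearMap.det_id]
  have hdint : IsIntegral A (LinearMap.det (w.baseChange K)) := by
    rw [LinearMap.det_eq_sign_charpoly_coeff]
    refine IsIntegral.mul ?_ (Groth.Agent.S4429.result A K E w 0)
    exact (isIntegral_one.neg).pow _
  rw [← ha] at hdet
  generalize LinearMap.det (w.baseChange K) = d at hdet hdint
  obtain ⟨P, hP, hPd⟩ := hdint
  let _ : Invertible d := ⟨algebraMap A K a, by rw [mul_comm]; exact hdet, hdet⟩
  have h1 : Polynomial.eval₂ (algebraMap A K) (⅟d) P.reverse = 0 :=
    (Polynomial.eval₂_reverse_eq_zero_iff (algebraMap A K) d P).mpr hPd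
  change Polynomial.eval₂ (algebraMap A K) (algebraMap A K a) P.reverse = 0 at h1
  rw [Polynomial.eval₂_at_apply] at h1
  have hQ : P.reverse.eval a = 0 :=
    (map_eq_zero_iff _ (IsFractionRing.injective A K)).mp h1
  have hc0 : P.reverse.coeff 0 = 1 := by rw [Polynomial.coeff_zero_reverse, hP.leadingCoeff]
  have hdecomp := Polynomial.divX_mul_X_add P.reverse
  rw [hc0] at hdecomp
  rw [← hdecomp] at hQ
  simp only [Polynomial.eval_add, Polynomial.eval_mul, Polynomial.eval_X, Polynomial.eval_C] at hQ
  exact IsUnit.of_mul_eq_one (-(P.reverse.divX.eval a)) (by linear_combination (-1 : A) * hQ)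

end Groth.Agent.S4430
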