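import Groth.Statements.S4431
import Mathlib

set_option autoImplicit false
universe u
open EGA2

namespace Groth.Agent.S4431

/-- Let A be an integral domain with fraction field K, E a finitely generated torsion-free A-module and
u an endomorphism of E whose characteristic-polynomial coefficients (those of u ⊗ 1 on K ⊗_A E) all
lie in A. If the determinant of u is the image of a unit of A, then u is an automorphism of E. -/
theorem result (A : Type u) [CommRing A] [IsDomain A] (K : Type u) [Field K]
    [Algebra A K] [IsFractionRing A K] (E : Type u) [AddCommGroup E] [Module A E] [Module.Finite A E]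
    [Module.IsTorsionFree A E]
    (u : E →ₗ[A] E) (hcoeff : ∀ i : ℕ, ((u.baseChange K).charpoly).coeff i ∈ (algebraMap A K).range)
    (a : A) (ha : algebraMap A K a = LinearMap.det (u.baseChange K)) (hunit : IsUnit a) :
    Function.Bijective u := by
  classical
  open TensorProduct in
  let V := K ⊗[A] E
  let v : Module.End K V := u.baseChange K
  let ι : E →ₗ[A] V := TensorProduct.mk A K E 1
  have hloc : IsLocalizedModule (nonZeroDivisors A) ι :=
    (isLocalizedModule_iff_isBaseChange (nonZeroDivisors A) K ι).mpr
      (TensorProduct.isBaseChange A E K)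
  have hι : Function.Injective ι := by
    rw [injective_iff_map_eq_zero]
    intro x hx
    obtain ⟨s, hs⟩ := (IsLocalizedModule.eq_zero_iff (nonZeroDivisors A) ι).mp hx
    have hs' : (s : A) • x = 0 := hs
    rcases smul_eq_zero.mp hs' with h | h
    · exact absurd h (nonZeroDivisors.coe_ne_zero s)
    · exact h
  have hlift : v.charpoly ∈ Polynomial.lifts (algebraMap A K) := by
    rw [Polynomial.lifts_iff_coeff_lifts]; intro n; exact RingHom.mem_range.mp (hcoeff n)
  obtain ⟨P, hP⟩ := Polynomial.mem_lifts _ |>.mp hlift
  have hbc : (Polynomial.aeval u P).baseChange K = 0 := by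
    have h1 : Polynomial.aeval v (P.map (algebraMap A K)) = 0 := by
      rw [hP]; exact LinearMap.aeval_self_charpoly v
    rw [Polynomial.aeval_map_algebraMap] at h1
    have hv : v = Module.End.baseChangeHom A K E u := rfl
    rw [hv, Polynomial.aeval_algHom_apply] at h1
    exact h1
  have hPu : Polynomial.aeval u P = 0 := by
    apply LinearMap.ext
    intro x
    apply hι
    have h := LinearMap.congr_fun hbc ((1 : K) ⊗ₜ[A] x)
    rw [LinearMap.baseChange_tmul, LinearMap.zero_apply] at h
    show ι ((Polynomial.aeval u P) x) = ι ((0 : E →ₗ[A] E) x)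
    rw [LinearMap.zero_apply, map_zero]
    exact h
  have hc0 : IsUnit (P.coeff 0) := by
    have h1 : algebraMap A K a =
        algebraMap A K ((-1) ^ (Module.finrank K (TensorProduct A K E)) * P.coeff 0) := by
      rw [ha, LinearMap.det_eq_sign_charpoly_coeff, ← hP, Polynomial.coeff_map]
      simp only [map_mul, map_pow, map_neg, map_one]
    have h2 : a = (-1) ^ (Module.finrank K (TensorProduct A K E)) * P.coeff 0 := IsFractionRing.injective A K h1
    rw [h2] at hunit
    exact isUnit_of_mul_isUnit_right hunit
  obtain ⟨c, hc⟩ := hc0.exists_left_inv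
  have h1 : ∀ x, (Polynomial.aeval u P.divX) (u x) + P.coeff 0 • x = 0 := fun x => by
    have h := LinearMap.congr_fun hPu x
    rw [← Polynomial.divX_mul_X_add P, map_add, map_mul, Polynomial.aeval_X,
      Polynomial.aeval_C] at h
    simpa [Module.algebraMap_end_apply] using h
  have h2 : ∀ x, u ((Polynomial.aeval u P.divX) x) + P.coeff 0 • x = 0 := fun x => by
    have h := LinearMap.congr_fun hPu x
    rw [← Polynomial.X_mul_divX_add P, map_add, map_mul, Polynomial.aeval_X,
      Polynomial.aeval_C] at h
    simpa [Module.algebraMap_end_apply] using h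
  constructor
  · rw [injective_iff_map_eq_zero]
    intro x hx
    have h := h1 x
    rw [hx, map_zero, zero_add] at h
    calc x = (c * P.coeff 0) • x := by rw [hc, one_smul]
      _ = c • (P.coeff 0 • x) := mul_smul _ _ _
      _ = 0 := by rw [h, smul_zero]
  · intro y
    refine ⟨-(c • (Polynomial.aeval u P.divX) y), ?_⟩
    have h := h2 y
    calc u (-(c • (Polynomial.aeval u P.divX) y))
        = -(c • u ((Polynomial.aeval u P.divX) y)) := by rw [map_neg, map_smul]
      _ = -(c • (-(P.coeff 0 • y))) := by rw [eq_neg_of_add_eq_zero_left h]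
      _ = (c * P.coeff 0) • y := by rw [smul_neg, neg_neg, mul_smul]
      _ = y := by rw [hc, one_smul]

end Groth.Agent.S4431
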