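import Groth.Statements.S4432
import Mathlib

set_option autoImplicit false
universe u
open EGA2

namespace Groth.Agent.S4432

open Matrix Polynomial

section MatId

variable {K : Type*} [CommRing K] {ι : Type*} [Fintype ι] [DecidableEq ι]

/-- The coefficients of the characteristic polynomial times a determinant, as a sum of
determinants of matrices with some rows replaced. -/
theorem charpoly_coeff_mul_det (N W : Matrix ι ι K) (j : ℕ) :
    N.charpoly.coeff j * W.det =
      ∑ S ∈ (Finset.univ : Finset ι).powersetCard j,
        Matrix.det (Matrix.of (S.piecewise (fun i => W i) (fun i => -(W * N) i))) := by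
  have h1 : (C.mapMatrix W * charmatrix N).det = C W.det * N.charpoly := by
    rw [Matrix.det_mul, ← RingHom.map_det]; rfl
  let a : ι → ι → K[X] := fun i k => C (W i k)
  let m' : ι → ι → K[X] := fun i k => C (-(W * N) i k)
  have h2 : (C.mapMatrix W * charmatrix N) =
      Matrix.of ((fun i => (X : K[X]) • a i) + m') := by
    ext i k
    rw [Matrix.mul_apply]
    simp only [RingHom.mapMatrix_apply, Matrix.map_apply, charmatrix_apply, Matrix.diagonal_apply,
      mul_sub, Finset.sum_sub_distrib, Matrix.of_apply, Pi.add_apply, Pi.smul_apply, smul_eq_mul,
      a, m', Matrix.neg_apply, map_neg, Matrix.mul_apply, map_sum, map_mul]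
    rw [Finset.sum_eq_single k]
    · simp only [if_true]; ring
    · intro l _ hl; rw [if_neg hl, mul_zero]
    · intro h; exact absurd (Finset.mem_univ k) h
  have h3 : Matrix.det (Matrix.of ((fun i => (X : K[X]) • a i) + m')) =
      ∑ S : Finset ι, (X : K[X]) ^ S.card *
        C (Matrix.det (Matrix.of (S.piecewise (fun i => W i) (fun i => -(W * N) i)))) := by
    show Matrix.detRowAlternating ((fun i => (X : K[X]) • a i) + m') = _
    rw [AlternatingMap.map_add_univ]
    refine Finset.sum_congr rfl fun S _ => ?_
    have e1 : S.piecewise (fun i => (X : K[X]) • a i) m' =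
        S.piecewise (fun i => (X : K[X]) • (S.piecewise a m') i) (S.piecewise a m') := by
      funext i
      by_cases hi : i ∈ S
      · simp [Finset.piecewise, hi]
      · simp [Finset.piecewise, hi]
    rw [e1]
    have e2 := MultilinearMap.map_piecewise_smul
      (Matrix.detRowAlternating (R := K[X]) (n := ι)).toMultilinearMap
      (fun _ : ι => (X : K[X])) (S.piecewise a m') S
    have e3 : Matrix.detRowAlternating
        (S.piecewise (fun i => (X : K[X]) • (S.piecewise a m') i) (S.piecewise a m')) =
        (∏ _i ∈ S, (X : K[X])) • Matrix.detRowAlternating (S.piecewise a m') := e2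
    rw [e3, Finset.prod_const, smul_eq_mul]
    congr 1
    have e4 : S.piecewise a m' = C.mapMatrix
        (Matrix.of (S.piecewise (fun i => W i) (fun i => -(W * N) i))) := by
      funext i k
      by_cases hi : i ∈ S
      · simp [Finset.piecewise, hi, a]
      · simp [Finset.piecewise, hi, m']
    rw [e4]
    exact (RingHom.map_det C _).symm
  have h4 : C W.det * N.charpoly = ∑ S : Finset ι, (X : K[X]) ^ S.card *
      C (Matrix.det (Matrix.of (S.piecewise (fun i => W i) (fun i => -(W * N) i)))) := by
    rw [← h1, h2, h3]
  have h5 := congrArg (fun p : K[X] => p.coeff j) h4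
  simp only [Polynomial.coeff_C_mul, Polynomial.finset_sum_coeff] at h5
  rw [mul_comm, h5]
  have h6 : ∀ S : Finset ι, ((X : K[X]) ^ S.card *
      C (Matrix.det (Matrix.of (S.piecewise (fun i => W i) (fun i => -(W * N) i))))).coeff j =
      if S.card = j then
        Matrix.det (Matrix.of (S.piecewise (fun i => W i) (fun i => -(W * N) i))) else 0 := by
    intro S
    rw [mul_comm, Polynomial.coeff_C_mul_X_pow]
    by_cases h : S.card = j
    · rw [if_pos h, if_pos h.symm]
    · rw [if_neg h, if_neg (fun h' => h h'.symm)]
  simp only [h6]
  rw [← Finset.sum_filter]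
  refine Finset.sum_congr ?_ fun _ _ => rfl
  ext S
  simp [Finset.mem_powersetCard]

end MatId

section Multi

/-- A multilinear map takes values in a submodule as soon as it does so on families taken from a
spanning set. -/
theorem multilinear_mem_of_span {R M N ι : Type*} [CommRing R] [AddCommGroup M] [Module R M]
    [AddCommGroup N] [Module R N] [Fintype ι] [DecidableEq ι]
    (f : MultilinearMap R (fun _ : ι => M) N) (S : Set M) (hS : Submodule.span R S = ⊤)
    (V : Submodule R N) (h : ∀ r : ι → M, (∀ i, r i ∈ S) → f r ∈ V) : ∀ r, f r ∈ V := by
  have key : ∀ T : Finset ι, ∀ r : ι → M, (∀ i, i ∉ T → r i ∈ S) → f r ∈ V := by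
    intro T
    induction T using Finset.induction_on with
    | empty =>
      intro r hr
      exact h r fun i => hr i (Finset.notMem_empty i)
    | insert a T ha ih =>
      intro r hr
      have hmem : r a ∈ Submodule.span R S := by rw [hS]; exact Submodule.mem_top
      have hgen : ∀ y ∈ Submodule.span R S, f (Function.update r a y) ∈ V := by
        intro y hy
        induction hy using Submodule.span_induction with
        | mem y hy =>
          apply ih
          intro i hi
          by_cases hia : i = a
          · subst hia; rw [Function.update_self]; exact hy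
          · rw [Function.update_of_ne hia]
            exact hr i (by simp [hia, hi])
        | zero => rw [f.map_update_zero]; exact V.zero_mem
        | add x y _ _ hx hy => rw [f.map_update_add]; exact V.add_mem hx hy
        | smul c x _ hx => rw [f.map_update_smul]; exact V.smul_mem c hx
      have := hgen (r a) hmem
      rwa [Function.update_eq_self] at this
  intro r
  exact key Finset.univ r fun i hi => absurd (Finset.mem_univ i) hi

end Multi


/-- Let A be a reduced Noetherian ring, K its total ring of fractions, and E a finitely generated
A-module with K ⊗_A E free over K. The A-subalgebra of K generated by the coefficients of the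
characteristic polynomials of v ⊗ 1 (v running through all endomorphisms of E), i.e. by all
elementary symmetric functions of all endomorphisms of E, is a finitely generated A-module. -/
theorem result (A : Type u) [CommRing A] [IsNoetherianRing A] [IsReduced A]
    (E : Type u) [AddCommGroup E] [Module A E] [Module.Finite A E]
    [Module.Free (FractionRing A) (TensorProduct A (FractionRing A) E)] :
    (Algebra.adjoin A {c : FractionRing A | ∃ (v : E →ₗ[A] E) (j : ℕ),
        c = ((v.baseChange (FractionRing A)).charpoly).coeff j}).toSubmodule.FG := by
  classical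
  let K := FractionRing A
  let EK := TensorProduct A K E
  let ι := Module.Free.ChooseBasisIndex K EK
  let b : Module.Basis ι K EK := Module.Free.chooseBasis K EK
  -- coordinates of `1 ⊗ e`
  let co : E →ₗ[A] (ι → K) :=
    ((b.equivFun.restrictScalars A).toLinearMap).comp (TensorProduct.mk A K E 1)
  have hco : ∀ e, co e = b.equivFun ((1 : K) ⊗ₜ[A] e) := fun e => rfl
  -- the `A`-multilinear determinant
  let detK : MultilinearMap K (fun _ : ι => (ι → K)) K :=
    (Matrix.detRowAlternating (R := K) (n := ι)).toMultilinearMap
  let dA : MultilinearMap A (fun _ : ι => E) K :=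
    (detK.restrictScalars A).compLinearMap (fun _ => co)
  have hdA : ∀ e : ι → E, dA e = Matrix.det (Matrix.of fun i => co (e i)) := fun e => rfl
  let L : Submodule A K := Submodule.span A (Set.range dA)
  -- L is finitely generated
  have hLfg : L.FG := by
    obtain ⟨r, g, hg⟩ := Module.Finite.exists_fin (R := A) (M := E)
    let L' : Submodule A K := Submodule.span A (Set.range fun τ : ι → Fin r => dA (g ∘ τ))
    have hL' : ∀ e, dA e ∈ L' := by
      apply multilinear_mem_of_span dA (Set.range g) hg L'
      intro e he
      choose τ hτ using he
      have : e = g ∘ τ := funext fun i => (hτ i).symm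
      rw [this]
      exact Submodule.subset_span ⟨τ, rfl⟩
    have hLL' : L = L' := by
      apply le_antisymm
      · rw [Submodule.span_le]
        rintro _ ⟨e, rfl⟩
        exact hL' e
      · apply Submodule.span_mono
        rintro _ ⟨τ, rfl⟩
        exact ⟨g ∘ τ, rfl⟩
    rw [hLL']
    exact Submodule.fg_span (Set.finite_range _)
  -- faithfulness
  have hfaith : ∀ x : K, (∀ l ∈ L, x * l = 0) → x = 0 := by
    intro x hx
    let V : Submodule K K :=
      { carrier := {y | x * y = 0}
        zero_mem' := mul_zero x
        add_mem' := fun {y z} hy hz => by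
          show x * (y + z) = 0
          rw [mul_add, show x * y = 0 from hy, show x * z = 0 from hz, add_zero]
        smul_mem' := fun c y hy => by
          show x * (c • y) = 0
          rw [smul_eq_mul, mul_left_comm, show x * y = 0 from hy, mul_zero] }
    have hspan : Submodule.span K (Set.range co) = ⊤ := by
      rw [eq_top_iff]
      intro y _
      have h1 : b.equivFun.symm y ∈ (⊤ : Submodule A EK) := Submodule.mem_top
      rw [← TensorProduct.span_tmul_eq_top A K E] at h1
      have h2 : y = b.equivFun (b.equivFun.symm y) := (b.equivFun.apply_symm_apply y).symm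
      rw [h2]
      have h3 : ∀ z ∈ Submodule.span A {t : EK | ∃ (m : K) (n : E), m ⊗ₜ[A] n = t},
          b.equivFun z ∈ Submodule.span K (Set.range co) := by
        intro z hz
        induction hz using Submodule.span_induction with
        | mem z hz =>
          obtain ⟨c, e, rfl⟩ := hz
          have : (c ⊗ₜ[A] e : EK) = c • ((1 : K) ⊗ₜ[A] e) := by
            rw [TensorProduct.smul_tmul', smul_eq_mul, mul_one]
          rw [this, map_smul]
          exact Submodule.smul_mem _ _ (Submodule.subset_span ⟨e, rfl⟩)
        | zero => rw [map_zero]; exact Submodule.zero_mem _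
        | add z w _ _ hz hw => rw [map_add]; exact Submodule.add_mem _ hz hw
        | smul c z _ hz =>
          have hcz : b.equivFun (c • z) = c • b.equivFun z := by
            rw [← algebraMap_smul K c z, map_smul, algebraMap_smul]
          rw [hcz]
          exact Submodule.smul_of_tower_mem _ c hz
      exact h3 _ h1
    have hall : ∀ rws : ι → (ι → K), detK rws ∈ V := by
      apply multilinear_mem_of_span detK (Set.range co) hspan V
      intro rws hr
      choose e he using hr
      have : rws = fun i => co (e i) := funext fun i => (he i).symm
      rw [this]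
      exact hx _ (Submodule.subset_span ⟨e, rfl⟩)
    have h1 := hall (fun i => Pi.single i 1)
    have h2 : detK (fun i => Pi.single i 1) = 1 := by
      show Matrix.det (Matrix.of fun i : ι => (Pi.single i 1 : ι → K)) = 1
      have : (Matrix.of fun i : ι => (Pi.single i 1 : ι → K)) = 1 := by
        ext i k
        simp [Matrix.one_apply, Pi.single_apply, eq_comm]
      rw [this, Matrix.det_one]
    have h3 : x * detK (fun i => Pi.single i 1) = 0 := h1
    rwa [h2, mul_one] at h3
  -- the stabiliser of L
  let R' : Subalgebra A K :=
    { carrier := {x | ∀ l ∈ L, x * l ∈ L}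
      mul_mem' := fun {x y} hx hy l hl => by
        rw [mul_assoc]; exact hx _ (hy l hl)
      one_mem' := fun l hl => by rwa [one_mul]
      add_mem' := fun {x y} hx hy l hl => by
        rw [add_mul]; exact L.add_mem (hx l hl) (hy l hl)
      zero_mem' := fun l _ => by rw [zero_mul]; exact L.zero_mem
      algebraMap_mem' := fun a l hl => by
        rw [← Algebra.smul_def]; exact L.smul_mem a hl }
  -- coefficients of characteristic polynomials stabilise L
  have hcoeff : ∀ (v : E →ₗ[A] E) (j : ℕ),
      ((v.baseChange K).charpoly).coeff j ∈ R' := by
    intro v j l hl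
    induction hl using Submodule.span_induction with
    | mem l hl =>
      obtain ⟨e, rfl⟩ := hl
      let M := LinearMap.toMatrix b b (v.baseChange K)
      let W : Matrix ι ι K := Matrix.of fun i => co (e i)
      have hcp : (v.baseChange K).charpoly = (Mᵀ).charpoly := by
        rw [Matrix.charpoly_transpose]; rfl
      have hWM : ∀ i, (W * Mᵀ) i = co (v (e i)) := by
        intro i
        rw [Matrix.mul_apply_eq_vecMul, Matrix.vecMul_transpose]
        show M *ᵥ (co (e i)) = co (v (e i))
        rw [hco, hco]
        have := LinearMap.toMatrix_mulVec_repr b b (v.baseChange K) ((1 : K) ⊗ₜ[A] e i)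
        rw [LinearMap.baseChange_tmul] at this
        exact this
      rw [hcp, hdA]
      show (Mᵀ).charpoly.coeff j * W.det ∈ L
      rw [charpoly_coeff_mul_det]
      refine L.sum_mem fun S _ => ?_
      have : Matrix.det (Matrix.of (S.piecewise (fun i => W i) (fun i => -(W * Mᵀ) i))) =
          dA (S.piecewise e (fun i => -(v (e i)))) := by
        rw [hdA]
        congr 2
        funext i
        by_cases hi : i ∈ S
        · rw [Finset.piecewise_eq_of_mem _ _ _ hi, Finset.piecewise_eq_of_mem _ _ _ hi]
          rfl
        · rw [Finset.piecewise_eq_of_notMem _ _ _ hi, Finset.piecewise_eq_of_notMem _ _ _ hi,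
            map_neg, ← hWM i]
      rw [this]
      exact Submodule.subset_span ⟨_, rfl⟩
    | zero => rw [mul_zero]; exact L.zero_mem
    | add x y _ _ hx hy => rw [mul_add]; exact L.add_mem hx hy
    | smul a x _ hx =>
      rw [mul_smul_comm]; exact L.smul_mem a hx
  -- R' is a noetherian A-module
  haveI : Module.Finite A L := Module.Finite.of_fg hLfg
  haveI : IsNoetherian A L := isNoetherian_of_isNoetherianRing_of_finite A L
  let θ : R'.toSubmodule →ₗ[A] (L →ₗ[A] L) :=
    { toFun := fun x =>
        { toFun := fun l => ⟨(x : K) * (l : K), x.2 l l.2⟩
          map_add' := fun l l' => Subtype.ext (mul_add _ _ _)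
          map_smul' := fun a l => Subtype.ext (mul_smul_comm _ _ _) }
      map_add' := fun x y => LinearMap.ext fun l => Subtype.ext (add_mul _ _ _)
      map_smul' := fun a x => LinearMap.ext fun l => Subtype.ext (smul_mul_assoc _ _ _) }
  have hθ : Function.Injective θ := by
    refine (injective_iff_map_eq_zero θ).mpr ?_
    intro x hx
    apply Subtype.ext
    apply hfaith
    intro l hl
    have := congrArg Subtype.val (LinearMap.congr_fun hx ⟨l, hl⟩)
    exact this
  haveI : IsNoetherian A R'.toSubmodule := isNoetherian_of_injective θ hθ
  have hle : (Algebra.adjoin A {c : FractionRing A | ∃ (v : E →ₗ[A] E) (j : ℕ),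
      c = ((v.baseChange (FractionRing A)).charpoly).coeff j}).toSubmodule ≤ R'.toSubmodule := by
    have h1 : Algebra.adjoin A {c : FractionRing A | ∃ (v : E →ₗ[A] E) (j : ℕ),
        c = ((v.baseChange (FractionRing A)).charpoly).coeff j} ≤ R' := by
      apply Algebra.adjoin_le
      rintro _ ⟨v, j, rfl⟩
      exact hcoeff v j
    exact fun x hx => h1 hx
  haveI := isNoetherian_of_le hle
  exact (Submodule.fg_top _).mp (IsNoetherian.noetherian _)

end Groth.Agent.S4432
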