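import Groth.Statements.S4433
import Groth.Agent.H73.DVRExists

set_option autoImplicit false
universe u
open EGA2

namespace Groth.Agent.S4433

/-- Let A be a Noetherian local domain that is not a field, K its field of fractions and L a finitely
generated field extension of K. Then there is a discrete valuation subring of L, with fraction field
L, which contains the image of A and dominates A (elements of the maximal ideal of A have valuation
less than one). -/
theorem result (A : Type u) [CommRing A] [IsDomain A] [IsNoetherianRing A]
    [IsLocalRing A] (hA : ¬ IsField A) (K : Type u) [Field K] [Algebra A K] [IsFractionRing A K]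
    (L : Type u) [Field L] [Algebra K L] [Algebra A L] [IsScalarTower A K L] (hfg : (⊤ : IntermediateField K L).FG) :
    ∃ R : ValuationSubring L, IsDiscreteValuationRing R ∧ (∀ a : A, algebraMap A L a ∈ R) ∧
      ∀ a ∈ IsLocalRing.maximalIdeal A, R.valuation (algebraMap A L a) < 1 := by
  have hinj : Function.Injective (algebraMap A L) := by
    rw [IsScalarTower.algebraMap_eq A K L]
    exact (algebraMap K L).injective.comp (IsFractionRing.injective A K)
  obtain ⟨s, hs⟩ := hfg
  have hcl : Subfield.closure (Set.range (algebraMap A L) ∪ ↑s) = ⊤ := by
    rw [eq_top_iff]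
    have h1 : (IntermediateField.adjoin K (s : Set L)).toSubfield ≤
        Subfield.closure (Set.range (algebraMap A L) ∪ ↑s) := by
      apply IntermediateField.adjoin_le_subfield
      · rintro _ ⟨k, rfl⟩
        obtain ⟨a, b, hb, rfl⟩ := IsFractionRing.div_surjective (A := A) k
        rw [map_div₀, ← IsScalarTower.algebraMap_apply, ← IsScalarTower.algebraMap_apply]
        exact div_mem (Subfield.subset_closure (Or.inl ⟨a, rfl⟩))
          (Subfield.subset_closure (Or.inl ⟨b, rfl⟩))
      · exact fun x hx => Subfield.subset_closure (Or.inr hx)
    intro x _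
    have hx : x ∈ (IntermediateField.adjoin K (s : Set L)).toSubfield := by
      rw [hs, IntermediateField.top_toSubfield]; exact Subfield.mem_top x
    exact h1 hx
  have hm : IsLocalRing.maximalIdeal A ≠ ⊥ := fun h =>
    hA (IsLocalRing.isField_iff_maximalIdeal_eq.mpr h)
  obtain ⟨a₀, ha₀m, ha₀⟩ := Submodule.exists_mem_ne_zero_of_ne_bot hm
  exact Groth.Agent.H73.KA.exists_dvr_of_ringHom (algebraMap A L)
    ⟨a₀, ha₀m, fun h => ha₀ (hinj (h.trans (map_zero _).symm))⟩ s hcl

end Groth.Agent.S4433
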