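import Groth.Statements.S4434
import Groth.Agent.H73.DVRExists

set_option autoImplicit false
universe u
open EGA2

namespace Groth.Agent.S4434

open Groth.Agent.H73.KA

/-- Let A be a Noetherian domain with field of fractions K and L a finitely generated field extension of
K. The integral closure of A in L is the intersection of the discrete valuation subrings of L (with
fraction field L) containing the image of A: an element of L is integral over A exactly when it
belongs to all of them. -/
theorem result (A : Type u) [CommRing A] [IsDomain A] [IsNoetherianRing A]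
    (K : Type u) [Field K] [Algebra A K] [IsFractionRing A K]
    (L : Type u) [Field L] [Algebra K L] [Algebra A L] [IsScalarTower A K L] (hfg : (⊤ : IntermediateField K L).FG) (x : L) :
    IsIntegral A x ↔ ∀ R : ValuationSubring L, IsDiscreteValuationRing R → (∀ a : A, algebraMap A L a ∈ R) → x ∈ R := by
  constructor
  · intro hx R _ hAR
    let f : A →+* R := (algebraMap A L).codRestrict R hAR
    have hx' : ((algebraMap R L).comp f).IsIntegralElem x := by
      have : (algebraMap R L).comp f = algebraMap A L := RingHom.ext fun a => rfl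
      rw [this]; exact hx
    have hint : IsIntegral R x := RingHom.IsIntegralElem.of_comp hx'
    obtain ⟨y, rfl⟩ := IsIntegrallyClosed.isIntegral_iff.mp hint
    exact y.2
  · intro h
    by_contra hx
    have hx0 : x ≠ 0 := by rintro rfl; exact hx isIntegral_zero
    let _ := invertibleOfNonzero (inv_ne_zero hx0)
    let S := Algebra.adjoin A {x⁻¹}
    let y' : S := ⟨x⁻¹, Algebra.subset_adjoin rfl⟩
    have hspan : Ideal.span {y'} ≠ ⊤ := by
      intro htop
      have ⟨p, hp, hpx⟩ := Algebra.exists_aeval_invOf_eq_zero_of_idealMap_adjoin_sup_span_eq_top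
        x⁻¹ (⊥ : Ideal A) bot_ne_top (by rw [htop]; simp)
      apply hx
      have hlc : p.leadingCoeff = 1 := by simpa [sub_eq_zero] using hp
      refine ⟨p, hlc, ?_⟩
      simpa [Polynomial.aeval_def] using hpx
    obtain ⟨n, hn, hle⟩ := Ideal.exists_le_maximal _ hspan
    have hyn : y' ∈ n := hle (Ideal.mem_span_singleton_self y')
    have hN : IsNoetherianRing S.toSubring := noeth_adjoin' {x⁻¹} (Set.finite_singleton _)
    let n' : Ideal S.toSubring := n
    have hn' : n'.IsPrime := hn.isPrime
    have hn0 : n' ≠ ⊥ := by
      intro hbot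
      have h1 : y' ∈ n' := hyn
      rw [hbot, Submodule.mem_bot] at h1
      exact inv_ne_zero hx0 (congrArg Subtype.val h1)
    obtain ⟨s, hs⟩ := hfg
    have hcl : Subfield.closure ((S.toSubring : Set L) ∪ ↑s) = ⊤ :=
      closure_eq_top_of_adjoin_eq_top (A := A) (K := K) (s : Set L) hs _
        (by rintro _ ⟨a, rfl⟩; exact S.algebraMap_mem a)
    obtain ⟨V, hV, hSV, hlt⟩ := exists_dvr_of_subring S.toSubring n' hn0 s hcl
    have hxV : x ∈ V := h V hV (fun a => hSV (S.algebraMap_mem a))
    have h1 : V.valuation x ≤ 1 := (V.valuation_le_one_iff x).mpr hxV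
    have h2 : V.valuation x⁻¹ < 1 := hlt y' hyn
    have h3 : V.valuation x * V.valuation x⁻¹ = 1 := by
      rw [← map_mul, mul_inv_cancel₀ hx0, map_one]
    have h4 : V.valuation x * V.valuation x⁻¹ < 1 :=
      (mul_le_of_le_one_left' h1).trans_lt h2
    exact h4.ne h3

end Groth.Agent.S4434
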