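import Groth.Statements.S4435
import Mathlib

set_option autoImplicit false
universe u
open CategoryTheory CategoryTheory.Limits AlgebraicGeometry
open EGA2

namespace Groth.Agent.S4435

section Aux
open Polynomial

theorem step1 {A B K L : Type*} [CommRing A] [CommRing B] [CommRing K] [CommRing L]
    (φ : A →+* B) (gA : A →+* K) (gB : B →+* L) (ψ : K →+* L)
    (hcomm : ψ.comp gA = gB.comp φ) (b : B) (hb : φ.IsIntegralElem b) :
    ψ.IsIntegralElem (gB b) := by
  obtain ⟨p, hp, hpb⟩ := hb
  refine ⟨p.map gA, hp.map gA, ?_⟩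
  rw [Polynomial.eval₂_map, hcomm, ← Polynomial.hom_eval₂, hpb, map_zero]

variable {A B K L : Type u} [CommRing A] [CommRing B] [IsDomain B] [CommRing K] [IsLocalRing K]
  [Field L]

theorem key_integral (φ : A →+* B) (gA : A →+* K) (gB : B →+* L) (ψ : K →+* L) [IsLocalHom ψ]
    (hcomm : ψ.comp gA = gB.comp φ) (hfrac : @IsFractionRing B _ L _ gB.toAlgebra)
    (hφ : φ.IsIntegral) : (IsLocalRing.ResidueField.lift ψ).IsIntegral := by
  have hψ : (IsLocalRing.ResidueField.lift ψ).comp (IsLocalRing.residue K) = ψ :=
    IsLocalRing.ResidueField.lift_comp_residue ψ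
  have hcomm' : (IsLocalRing.ResidueField.lift ψ).comp ((IsLocalRing.residue K).comp gA) =
      gB.comp φ := by
    rw [← RingHom.comp_assoc, hψ, hcomm]
  letI := gB.toAlgebra
  letI := (IsLocalRing.ResidueField.lift ψ).toAlgebra
  intro y
  obtain ⟨b, s, hs, rfl⟩ := IsFractionRing.div_surjective (A := B) y
  have hb : IsIntegral (IsLocalRing.ResidueField K) (algebraMap B L b) :=
    step1 φ ((IsLocalRing.residue K).comp gA) gB _ hcomm' b (hφ b)
  have hs' : IsIntegral (IsLocalRing.ResidueField K) (algebraMap B L s) :=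
    step1 φ ((IsLocalRing.residue K).comp gA) gB _ hcomm' s (hφ s)
  rw [div_eq_mul_inv]
  exact hb.mul hs'.inv

theorem integral_aux (φ : A →+* B) (gA : A →+* K) (gB : B →+* L) (ψ : K →+* L) [IsLocalHom ψ]
    (hcomm : ψ.comp gA = gB.comp φ) (hfrac : @IsFractionRing B _ L _ gB.toAlgebra)
    (hφ : φ.IsIntegral) : ψ.IsIntegral := by
  have hψ : (IsLocalRing.ResidueField.lift ψ).comp (IsLocalRing.residue K) = ψ :=
    IsLocalRing.ResidueField.lift_comp_residue ψ
  rw [← hψ]
  exact RingHom.IsIntegral.trans _ _
    (RingHom.isIntegral_of_surjective _ IsLocalRing.residue_surjective)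
    (key_integral φ gA gB ψ hcomm hfrac hφ)

theorem finite_aux (φ : A →+* B) (gA : A →+* K) (gB : B →+* L) (ψ : K →+* L) [IsLocalHom ψ]
    (hcomm : ψ.comp gA = gB.comp φ) (hfrac : @IsFractionRing B _ L _ gB.toAlgebra)
    (hφ : φ.Finite) : ψ.Finite := by
  classical
  have hψ : (IsLocalRing.ResidueField.lift ψ).comp (IsLocalRing.residue K) = ψ :=
    IsLocalRing.ResidueField.lift_comp_residue ψ
  have hcomm' : (IsLocalRing.ResidueField.lift ψ).comp ((IsLocalRing.residue K).comp gA) =
      gB.comp φ := by
    rw [← RingHom.comp_assoc, hψ, hcomm]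
  have hint : (IsLocalRing.ResidueField.lift ψ).IsIntegral :=
    key_integral φ gA gB ψ hcomm hfrac hφ.to_isIntegral
  have key : (IsLocalRing.ResidueField.lift ψ).Finite := by
    letI := gB.toAlgebra
    letI := (IsLocalRing.ResidueField.lift ψ).toAlgebra
    letI := φ.toAlgebra
    have hfin : Module.Finite A B := hφ
    obtain ⟨S, hS⟩ := hfin.fg_top
    haveI : Algebra.IsIntegral (IsLocalRing.ResidueField K) L := ⟨hint⟩
    have hmem : ∀ b : B, algebraMap B L b ∈
        Algebra.adjoin (IsLocalRing.ResidueField K) ((algebraMap B L) '' (S : Set B)) := by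
      intro b
      have hb : b ∈ Submodule.span A (S : Set B) := by rw [hS]; trivial
      induction hb using Submodule.span_induction with
      | mem x hx => exact Algebra.subset_adjoin ⟨x, hx, rfl⟩
      | zero => rw [map_zero]; exact Subalgebra.zero_mem _
      | add x y _ _ hx hy => rw [map_add]; exact Subalgebra.add_mem _ hx hy
      | smul a x _ hx =>
        rw [Algebra.smul_def, map_mul]
        refine Subalgebra.mul_mem _ ?_ hx
        have e : algebraMap B L (algebraMap A B a) =
            algebraMap (IsLocalRing.ResidueField K) L (IsLocalRing.residue K (gA a)) := by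
          have := congrArg (fun h => h a) hcomm'
          exact this.symm
        rw [e]
        exact Subalgebra.algebraMap_mem _ _
    have hadj : Algebra.adjoin (IsLocalRing.ResidueField K) ((algebraMap B L) '' (S : Set B)) =
        ⊤ := by
      rw [eq_top_iff]
      intro y _
      obtain ⟨b, s, hs, rfl⟩ := IsFractionRing.div_surjective (A := B) y
      rw [div_eq_mul_inv]
      exact Subalgebra.mul_mem _ (hmem b)
        (IsIntegral.inv_mem (Algebra.IsIntegral.isIntegral _) (hmem s))
    haveI : Algebra.FiniteType (IsLocalRing.ResidueField K) L :=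
      ⟨⟨S.image (algebraMap B L), by rw [Finset.coe_image]; exact hadj⟩⟩
    exact Algebra.IsIntegral.finite
  rw [← hψ]
  exact key.comp (RingHom.Finite.of_surjective _ IsLocalRing.residue_surjective)

end Aux

/-- Let X, S be integral schemes and f : X ⟶ S a dominant morphism. If f is integral, the field of
rational functions of X is algebraic over that of S; if f is finite, it is a finite extension. Here
the extension is given by the stalk map of f at the generic point of X, whose source is the local
ring of S at the generic point of S (f being dominant), i.e. the function field of S. -/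
theorem result {X S : Scheme.{u}} [IsIntegral X] [IsIntegral S]
    (f : X ⟶ S) [IsDominant f] :
    (IsIntegralHom f → (f.stalkMap (genericPoint X)).hom.IsIntegral) ∧
      (IsFinite f → (f.stalkMap (genericPoint X)).hom.Finite) := by
  have hyV' : ∃ V : S.Opens, IsAffineOpen V ∧ f (genericPoint X) ∈ V := by
    obtain ⟨V, hV, hyV, -⟩ :=
      exists_isAffineOpen_mem_and_subset (x := f (genericPoint X)) (U := ⊤) trivial
    exact ⟨V, hV, hyV⟩
  obtain ⟨V, hV, hyV⟩ := hyV'
  have hξU : genericPoint X ∈ f ⁻¹ᵁ V := hyV
  haveI : Nonempty ↥((f ⁻¹ᵁ V).toScheme) := ⟨⟨genericPoint X, hξU⟩⟩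
  have hcomm : ((f.stalkMap (genericPoint X)).hom).comp
      (S.presheaf.germ V (f (genericPoint X)) hyV).hom =
      (X.germToFunctionField (f ⁻¹ᵁ V)).hom.comp (f.app V).hom := by
    rw [← CommRingCat.hom_comp, ← CommRingCat.hom_comp]
    congr 1
    exact Scheme.Hom.germ_stalkMap f V (genericPoint X) hyV
  refine ⟨fun hint => ?_, fun hfin => ?_⟩
  · have hU : IsAffineOpen (f ⁻¹ᵁ V) := hV.preimage f
    have hfrac := functionField_isFractionRing_of_isAffineOpen X (f ⁻¹ᵁ V) hU
    exact integral_aux (f.app V).hom (S.presheaf.germ V _ hyV).hom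
      (X.germToFunctionField (f ⁻¹ᵁ V)).hom (f.stalkMap (genericPoint X)).hom hcomm hfrac
      (f.isIntegral_app V hV)
  · have hU : IsAffineOpen (f ⁻¹ᵁ V) := hV.preimage f
    have hfrac := functionField_isFractionRing_of_isAffineOpen X (f ⁻¹ᵁ V) hU
    exact finite_aux (f.app V).hom (S.presheaf.germ V _ hyV).hom
      (X.germToFunctionField (f ⁻¹ᵁ V)).hom (f.stalkMap (genericPoint X)).hom hcomm hfrac
      (f.finite_app V hV)

end Groth.Agent.S4435
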