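import Groth.Statements.S4437
import Mathlib
import Groth.Agent.S0503
import Groth.Agent.S0411

set_option autoImplicit false
universe u
open CategoryTheory CategoryTheory.Limits AlgebraicGeometry
open EGA2

namespace Groth.Agent.S4437

open AlgebraicGeometry CategoryTheory Limits


/-- Let A be a complete Noetherian local ring and f : X ⟶ Spec A a separated quasi-finite morphism (of
finite type with discrete fibres). Then X splits as a disjoint sum of two open subschemes, one
finite over Spec A and containing the fibre over the closed point, the other not meeting that fibre: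
there is an open and closed U ⊆ X, finite over Spec A, containing every point lying over the closed
point. -/
theorem result (A : Type u) [CommRing A] [IsLocalRing A]
    [IsNoetherianRing A] [IsAdicComplete (IsLocalRing.maximalIdeal A) A] (X : Scheme.{u})
    (f : X ⟶ Spec (CommRingCat.of A)) [LocallyOfFiniteType f] [QuasiCompact f] [IsSeparated f] [LocallyQuasiFinite f] :
    ∃ U : X.Opens, IsClosed (U : Set X) ∧ IsFinite (U.ι ≫ f) ∧
      ∀ x : X, f.base x = IsLocalRing.closedPoint A → x ∈ U := by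
  classical
  haveI : HenselianLocalRing A :=
    { toIsLocalRing := inferInstance
      is_henselian := fun g hg a₀ h₁ h₂ =>
        HenselianRing.is_henselian (I := IsLocalRing.maximalIdeal A) g hg a₀ h₁ (h₂.map _) }
  have hT : (f ⁻¹' {IsLocalRing.closedPoint A}).Finite := f.finite_preimage_singleton _
  obtain ⟨W, hW, hTW⟩ := Groth.Agent.S0411.result f hT.toFinset
  haveI : IsAffine W.toScheme := hW
  let g : W.toScheme ⟶ Spec (CommRingCat.of A) := W.ι ≫ f
  let ψ : CommRingCat.of A ⟶ Γ(W.toScheme, ⊤) := Spec.preimage (W.toScheme.isoSpec.inv ≫ g)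
  have hψ : Spec.map ψ = W.toScheme.isoSpec.inv ≫ g := Spec.map_preimage _
  have hft : ψ.hom.FiniteType :=
    (HasRingHomProperty.Spec_iff (P := @LocallyOfFiniteType)).mp (by rw [hψ]; infer_instance)
  have hqf : ψ.hom.QuasiFinite :=
    (HasRingHomProperty.Spec_iff (P := @LocallyQuasiFinite)).mp (by rw [hψ]; infer_instance)
  letI : Algebra A Γ(W.toScheme, ⊤) := ψ.hom.toAlgebra
  haveI : Algebra.FiniteType A Γ(W.toScheme, ⊤) := hft
  haveI : Algebra.QuasiFinite A Γ(W.toScheme, ⊤) := hqf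
  obtain ⟨e, he, hfin, htop⟩ := Groth.Agent.S0503.result A Γ(W.toScheme, ⊤)
  haveI : IsLocalization.Away e (Γ(W.toScheme, ⊤) ⧸ Ideal.span ({1 - e} : Set Γ(W.toScheme, ⊤))) :=
    IsLocalization.Away.quotient_of_isIdempotentElem he
  let j₀ : Spec (CommRingCat.of (Γ(W.toScheme, ⊤) ⧸ Ideal.span ({1 - e} : Set Γ(W.toScheme, ⊤)))) ⟶
      Spec Γ(W.toScheme, ⊤) :=
    Spec.map (CommRingCat.ofHom (algebraMap Γ(W.toScheme, ⊤)
      (Γ(W.toScheme, ⊤) ⧸ Ideal.span ({1 - e} : Set Γ(W.toScheme, ⊤)))))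
  haveI : IsOpenImmersion j₀ := IsOpenImmersion.of_isLocalization (R := Γ(W.toScheme, ⊤))
    (S := Γ(W.toScheme, ⊤) ⧸ Ideal.span ({1 - e} : Set Γ(W.toScheme, ⊤))) e
  let j : Spec (CommRingCat.of (Γ(W.toScheme, ⊤) ⧸ Ideal.span ({1 - e} : Set Γ(W.toScheme, ⊤)))) ⟶ X :=
    j₀ ≫ W.toScheme.isoSpec.inv ≫ W.ι
  haveI : IsOpenImmersion j := inferInstance
  have hjf : j ≫ f = Spec.map (ψ ≫ CommRingCat.ofHom (algebraMap Γ(W.toScheme, ⊤)
      (Γ(W.toScheme, ⊤) ⧸ Ideal.span ({1 - e} : Set Γ(W.toScheme, ⊤))))) := by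
    rw [Spec.map_comp, hψ]
    simp only [j, j₀, g, Category.assoc]
  haveI hfinj : IsFinite (j ≫ f) := by
    rw [hjf, IsFinite.SpecMap_iff]
    have h1 : (ψ ≫ CommRingCat.ofHom (algebraMap Γ(W.toScheme, ⊤)
        (Γ(W.toScheme, ⊤) ⧸ Ideal.span ({1 - e} : Set Γ(W.toScheme, ⊤))))).hom =
        algebraMap A (Γ(W.toScheme, ⊤) ⧸ Ideal.span ({1 - e} : Set Γ(W.toScheme, ⊤))) := by
      rw [IsScalarTower.algebraMap_eq A Γ(W.toScheme, ⊤)
        (Γ(W.toScheme, ⊤) ⧸ Ideal.span ({1 - e} : Set Γ(W.toScheme, ⊤)))]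
      rfl
    rw [h1]
    exact RingHom.finite_algebraMap.mpr hfin
  have hUι : j.opensRange.ι = j.isoOpensRange.inv ≫ j := (Scheme.Hom.isoOpensRange_inv_comp j).symm
  refine ⟨j.opensRange, ?_, ?_, ?_⟩
  · haveI : IsProper j := IsProper.of_comp j f
    exact j.isClosedMap.isClosed_range
  · rw [hUι, Category.assoc]
    infer_instance
  · intro x hx
    have hxT : x ∈ hT.toFinset := by
      rw [Set.Finite.mem_toFinset]; exact hx
    have hxW : x ∈ W := hTW x hxT
    let p : Spec Γ(W.toScheme, ⊤) := W.toScheme.isoSpec.hom ⟨x, hxW⟩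
    have hpx : (W.toScheme.isoSpec.inv ≫ W.ι) p = x := by
      show (W.toScheme.isoSpec.inv ≫ W.ι) (W.toScheme.isoSpec.hom ⟨x, hxW⟩) = x
      rw [← Scheme.Hom.comp_apply, Iso.hom_inv_id_assoc]
      rfl
    have hpm : Ideal.comap ψ.hom p.asIdeal = IsLocalRing.maximalIdeal A := by
      have h1 : (Spec.map ψ) p = IsLocalRing.closedPoint A := by
        rw [hψ, ← hx, ← hpx]
        simp only [g, Scheme.Hom.comp_apply]
      exact congrArg PrimeSpectrum.asIdeal h1
    have hp_e : e ∉ p.asIdeal := by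
      intro hep
      have h1 : Ideal.map (algebraMap A Γ(W.toScheme, ⊤)) (IsLocalRing.maximalIdeal A) ≤ p.asIdeal := by
        rw [Ideal.map_le_iff_le_comap]
        exact hpm.ge
      have h2 : Ideal.map (Ideal.Quotient.mk (Ideal.span ({e} : Set Γ(W.toScheme, ⊤)))) p.asIdeal = ⊤ := by
        rw [eq_top_iff, ← htop,
          IsScalarTower.algebraMap_eq A Γ(W.toScheme, ⊤)
            (Γ(W.toScheme, ⊤) ⧸ Ideal.span ({e} : Set Γ(W.toScheme, ⊤))),
          ← Ideal.map_map]
        exact Ideal.map_mono h1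
      have h3 := Ideal.comap_map_of_surjective
        (Ideal.Quotient.mk (Ideal.span ({e} : Set Γ(W.toScheme, ⊤)))) Ideal.Quotient.mk_surjective
        p.asIdeal
      rw [h2, Ideal.comap_top] at h3
      have h4 : Ideal.comap (Ideal.Quotient.mk (Ideal.span ({e} : Set Γ(W.toScheme, ⊤)))) ⊥ ≤
          p.asIdeal := by
        rw [← RingHom.ker_eq_comap_bot, Ideal.mk_ker, Ideal.span_singleton_le_iff_mem]
        exact hep
      have h5 : p.asIdeal = ⊤ := by
        rw [eq_top_iff, h3]
        exact sup_le le_rfl h4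
      exact p.isPrime.ne_top h5
    have hp1e : (1 - e) ∈ p.asIdeal := by
      have h0 : e * (1 - e) ∈ p.asIdeal := by
        rw [mul_sub, mul_one, he.eq, sub_self]
        exact zero_mem _
      exact (p.isPrime.mem_or_mem h0).resolve_left hp_e
    have hpj : p ∈ Set.range j₀ := by
      have hr : Set.range j₀ = PrimeSpectrum.zeroLocus
          ((RingHom.ker (Ideal.Quotient.mk (Ideal.span ({1 - e} : Set Γ(W.toScheme, ⊤))))) :
            Set Γ(W.toScheme, ⊤)) :=
        range_comap_of_surjective _ _ Ideal.Quotient.mk_surjective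
      rw [hr, Ideal.mk_ker]
      show ((Ideal.span ({1 - e} : Set Γ(W.toScheme, ⊤)) : Ideal Γ(W.toScheme, ⊤)) :
        Set Γ(W.toScheme, ⊤)) ⊆ p.asIdeal
      rw [SetLike.coe_subset_coe, Ideal.span_singleton_le_iff_mem]
      exact hp1e
    obtain ⟨z, hz⟩ := hpj
    refine ⟨z, ?_⟩
    show j z = x
    simp only [j]
    rw [Scheme.Hom.comp_apply, hz]
    exact hpx

end Groth.Agent.S4437
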