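import Groth.Statements.S4439
import Mathlib

set_option autoImplicit false
universe u
open CategoryTheory CategoryTheory.Limits AlgebraicGeometry
open EGA2

namespace Groth.Agent.S4439

open IsLocalRing in
set_option backward.isDefEq.respectTransparency false in
/-- Adaptation of Mathlib's `ValuativeCriterion.Existence.of_specializingMap`: only the base change
along the given `i₂` is needed to be specializing. -/
lemma exists_lift_of_specializingMap_fst {X Y : Scheme.{u}} (f : X ⟶ Y)
    (R : Type u) [CommRing R] [IsDomain R] [ValuationRing R] (K : Type u) [Field K]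
    [Algebra R K] [IsFractionRing R K] (i₁ : Spec (.of K) ⟶ X) (i₂ : Spec (.of R) ⟶ Y)
    (w : i₁ ≫ f = Spec.map (CommRingCat.ofHom (algebraMap R K)) ≫ i₂)
    (H : SpecializingMap (pullback.fst i₂ f)) :
    ∃ l : Spec (.of R) ⟶ X,
      Spec.map (CommRingCat.ofHom (algebraMap R K)) ≫ l = i₁ ∧ l ≫ f = i₂ := by
  have : IsDomain (CommRingCat.of R) := ‹_›
  have : ValuationRing (CommRingCat.of R) := ‹_›
  let : Field (CommRingCat.of K) := ‹_›
  let lft := pullback.lift (Spec.map (CommRingCat.ofHom (algebraMap R K))) i₁ w.symm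
  obtain ⟨x, h₁, h₂⟩ := @H (lft (closedPoint _)) _ (specializes_closedPoint (R := R) _)
  let e : CommRingCat.of R ≅ (Spec <| .of R).presheaf.stalk (pullback.fst i₂ f x) :=
    (stalkClosedPointIso (.of R)).symm ≪≫
      (Spec <| .of R).presheaf.stalkCongr (.of_eq h₂.symm)
  let α := e.hom ≫ (pullback.fst i₂ f).stalkMap x
  have : IsLocalHom e.hom.hom := isLocalHom_of_isIso e.hom
  have : IsLocalHom α.hom := inferInstanceAs
    (IsLocalHom (((pullback.fst i₂ f).stalkMap x).hom.comp e.hom.hom))
  let β := (pullback i₂ f).presheaf.stalkSpecializes h₁ ≫ Scheme.stalkClosedPointTo lft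
  have hαβ : α ≫ β = CommRingCat.ofHom (algebraMap R K) := by
    simp only [CommRingCat.coe_of, Iso.trans_hom, Iso.symm_hom, TopCat.Presheaf.stalkCongr_hom,
      Category.assoc, α, e, β, stalkClosedPointIso_inv, StructureSheaf.toStalk]
    change (Scheme.ΓSpecIso (.of R)).inv ≫ (Spec <| .of R).presheaf.germ _ _ _ ≫ _ = _
    simp only [TopCat.Presheaf.germ_stalkSpecializes_assoc, Scheme.Hom.germ_stalkMap_assoc]
    simp only [TopologicalSpace.Opens.map_top]
    rw [Scheme.germ_stalkClosedPointTo lft ⊤ trivial]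
    erw [← Scheme.Hom.comp_app_assoc lft (pullback.fst i₂ f)]
    rw [pullback.lift_fst]
    simp
  have hbij := (bijective_rangeRestrict_comp_of_valuationRing (R := R) (K := K) α.hom β.hom
    (CommRingCat.hom_ext_iff.mp hαβ))
  let φ : (pullback i₂ f).presheaf.stalk x ⟶ CommRingCat.of R := CommRingCat.ofHom <|
    (RingEquiv.ofBijective _ hbij).symm.toRingHom.comp β.hom.rangeRestrict
  have hαφ : α ≫ φ = 𝟙 _ := by ext x; exact (RingEquiv.ofBijective _ hbij).symm_apply_apply x
  have hαφ' : (pullback.fst i₂ f).stalkMap x ≫ φ = e.inv := by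
    rw [← cancel_epi e.hom, ← Category.assoc, hαφ, e.hom_inv_id]
  have hφβ : φ ≫ CommRingCat.ofHom (algebraMap R K) = β :=
    hαβ ▸ CommRingCat.hom_ext (RingHom.ext fun x ↦ congr_arg Subtype.val
      ((RingEquiv.ofBijective _ hbij).apply_symm_apply (β.hom.rangeRestrict x)))
  refine ⟨Spec.map ((pullback.snd i₂ f).stalkMap x ≫ φ) ≫ X.fromSpecStalk _, ?_, ?_⟩
  · simp only [← Spec.map_comp_assoc, Category.assoc, hφβ]
    simp only [Spec.map_comp, Category.assoc, Scheme.SpecMap_stalkMap_fromSpecStalk,
      Scheme.SpecMap_stalkSpecializes_fromSpecStalk_assoc, β]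
    rw [Scheme.Spec_stalkClosedPointTo_fromSpecStalk_assoc]
    simp [lft]
  · simp only [Spec.map_comp, Category.assoc, Scheme.SpecMap_stalkMap_fromSpecStalk,
      ← pullback.condition]
    rw [← Scheme.SpecMap_stalkMap_fromSpecStalk_assoc, ← Spec.map_comp_assoc, hαφ']
    simp only [Iso.trans_inv, TopCat.Presheaf.stalkCongr_inv, Iso.symm_inv, Spec.map_comp,
      Category.assoc, Scheme.SpecMap_stalkSpecializes_fromSpecStalk_assoc, e]
    rw [← Spec_stalkClosedPointIso, ← Spec.map_comp_assoc,
      Iso.inv_hom_id, Spec.map_id, Category.id_comp]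

/-- Let A be a valuation ring with field of fractions K and f : X ⟶ Spec A a separated morphism whose
underlying map is closed. Then restriction to the generic point is a bijection from sections of f to
K-rational points of the generic fibre: every morphism Spec K ⟶ X over Spec A extends to exactly one
section of f. -/
theorem result (A : Type u) [CommRing A] [IsDomain A]
    [ValuationRing A] (K : Type u) [Field K] [Algebra A K] [IsFractionRing A K] (X : Scheme.{u})
    (f : X ⟶ Spec (CommRingCat.of A)) [IsSeparated f] (hf : IsClosedMap f.base)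
    (x : Spec (CommRingCat.of K) ⟶ X) (hx : x ≫ f = Spec.map (CommRingCat.ofHom (algebraMap A K))) :
    ∃! s : Spec (CommRingCat.of A) ⟶ X, s ≫ f = 𝟙 _ ∧ Spec.map (CommRingCat.ofHom (algebraMap A K)) ≫ s = x := by
  have hfst : pullback.fst (𝟙 (Spec (CommRingCat.of A))) f =
      pullback.snd (𝟙 (Spec (CommRingCat.of A))) f ≫ f := by
    have h := pullback.condition (f := 𝟙 (Spec (CommRingCat.of A))) (g := f)
    rwa [Category.comp_id] at h
  have hcl : IsClosedMap (pullback.fst (𝟙 (Spec (CommRingCat.of A))) f) := by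
    rw [hfst]
    have h1 : IsClosedMap (pullback.snd (𝟙 (Spec (CommRingCat.of A))) f) :=
      (pullback.snd (𝟙 (Spec (CommRingCat.of A))) f).homeomorph.isClosedMap
    have h2 := hf.comp h1
    simpa using h2
  have hw : x ≫ f = Spec.map (CommRingCat.ofHom (algebraMap A K)) ≫ 𝟙 _ := by
    rw [Category.comp_id]; exact hx
  obtain ⟨l, hl1, hl2⟩ := exists_lift_of_specializingMap_fst f A K x (𝟙 _) hw hcl.specializingMap
  refine ⟨l, ⟨hl2, hl1⟩, ?_⟩
  rintro s ⟨hs1, hs2⟩
  let S : ValuativeCommSq f :=
    { R := A, K := K, i₁ := x, i₂ := 𝟙 _, commSq := ⟨hw⟩ }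
  have hsub : Subsingleton S.commSq.LiftStruct := IsSeparated.valuativeCriterion f S
  exact congrArg CommSq.LiftStruct.l
    (Subsingleton.elim (⟨s, hs2, hs1⟩ : S.commSq.LiftStruct) ⟨l, hl1, hl2⟩)

end Groth.Agent.S4439
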