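import Groth.Statements.S4441
import Mathlib

set_option autoImplicit false
universe u
open CategoryTheory CategoryTheory.Limits AlgebraicGeometry
open EGA2

namespace Groth.Agent.S4441

set_option backward.isDefEq.respectTransparency false in
/-- Let X and Y be integral separated schemes and f : X ⟶ Y a dominant, quasi-compact, universally
closed morphism, ξ the generic point of X. Every valuation subring R of the function field K(X) of X
which dominates the local ring of Y at a point y (via O_{Y,y} → O_{Y,f(ξ)} → K(X): image inside R,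
maximal ideal into the maximal ideal of R) also dominates the local ring of X at some point x (via
O_{X,x} → K(X)). -/
theorem result {X Y : Scheme.{u}} [IsIntegral X] [IsIntegral Y]
    [X.IsSeparated] [Y.IsSeparated] (f : X ⟶ Y) [IsDominant f] [QuasiCompact f] [UniversallyClosed f]
    (R : ValuationSubring X.functionField) (y : Y) (hy : f.base (genericPoint X) ⤳ y)
    (hdom : (∀ a : Y.presheaf.stalk y, (Y.presheaf.stalkSpecializes hy ≫ f.stalkMap (genericPoint X)).hom a ∈ R) ∧
      ∀ a ∈ IsLocalRing.maximalIdeal (Y.presheaf.stalk y),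
        R.valuation ((Y.presheaf.stalkSpecializes hy ≫ f.stalkMap (genericPoint X)).hom a) < 1) :
    ∃ x : X, (∀ a : X.presheaf.stalk x, algebraMap (X.presheaf.stalk x) X.functionField a ∈ R) ∧
      ∀ a ∈ IsLocalRing.maximalIdeal (X.presheaf.stalk x), R.valuation (algebraMap (X.presheaf.stalk x) X.functionField a) < 1 := by
  obtain ⟨hdom1, hdom2⟩ := hdom
  let θ : Y.presheaf.stalk y ⟶ X.presheaf.stalk (genericPoint X) :=
    Y.presheaf.stalkSpecializes hy ≫ f.stalkMap (genericPoint X)
  let ψ : Y.presheaf.stalk y ⟶ .of R :=
    CommRingCat.ofHom (θ.hom.codRestrict R.toSubring hdom1)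
  have w : X.fromSpecStalk (genericPoint X) ≫ f =
      Spec.map (CommRingCat.ofHom (algebraMap R X.functionField)) ≫
        Spec.map ψ ≫ Y.fromSpecStalk y := by
    rw [← Scheme.SpecMap_stalkMap_fromSpecStalk,
      ← Scheme.SpecMap_stalkSpecializes_fromSpecStalk hy]
    simp_rw [← Spec.map_comp_assoc]
    rfl
  have hex : ValuativeCriterion.Existence f := by
    have h := ‹UniversallyClosed f›
    rw [UniversallyClosed.eq_valuativeCriterion] at h
    exact h.1
  obtain ⟨l, hl₁, hl₂⟩ := (hex { R := R, K := X.functionField, commSq := ⟨w⟩, .. }).exists_lift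
  dsimp only at hl₁ hl₂
  have hl : Spec.map (Scheme.stalkClosedPointTo l) ≫ X.fromSpecStalk _ = l :=
    Scheme.Spec_stalkClosedPointTo_fromSpecStalk l
  have hgx : genericPoint X ⤳ l (IsLocalRing.closedPoint R) :=
    (genericPoint_spec X).specializes trivial
  have hcomp : Scheme.stalkClosedPointTo l ≫
      CommRingCat.ofHom (algebraMap R X.functionField) = X.presheaf.stalkSpecializes hgx := by
    apply Spec.map_injective
    rw [← cancel_mono (X.fromSpecStalk (l (IsLocalRing.closedPoint R))), Spec.map_comp,
      Category.assoc, hl, hl₁, Scheme.SpecMap_stalkSpecializes_fromSpecStalk]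
  have hval : ∀ a : X.presheaf.stalk (l (IsLocalRing.closedPoint R)),
      algebraMap (X.presheaf.stalk (l (IsLocalRing.closedPoint R))) X.functionField a =
        (((Scheme.stalkClosedPointTo l).hom a : R) : X.functionField) := by
    intro a
    have h1 := congrArg (fun φ => φ.hom a) hcomp
    exact h1.symm
  refine ⟨l (IsLocalRing.closedPoint R), fun a => ?_, fun a ha => ?_⟩
  · rw [hval a]
    exact ((Scheme.stalkClosedPointTo l).hom a).2
  · rw [hval a]
    have hloc : IsLocalHom (Scheme.stalkClosedPointTo l).hom :=
      Scheme.isLocalHom_stalkClosedPointTo' l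
    have hmem : (Scheme.stalkClosedPointTo l).hom a ∈ IsLocalRing.maximalIdeal R := by
      rw [IsLocalRing.mem_maximalIdeal, mem_nonunits_iff]
      intro hu
      exact (mem_nonunits_iff.mp ((IsLocalRing.mem_maximalIdeal a).mp ha))
        (hloc.map_nonunit a hu)
    exact (ValuationSubring.valuation_lt_one_iff R _).mp hmem

end Groth.Agent.S4441
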