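import Groth.Statements.S4442
import Groth.Agent.H54.SchemeDim2

set_option autoImplicit false
universe u
open CategoryTheory CategoryTheory.Limits AlgebraicGeometry
attribute [local instance] Curv2.resAlgebra
open EGA2

namespace Groth.Agent.S4442

/-- (a) ⇔ (b): let X be a scheme of finite type over a field k. The residue fields of the generic points
of the irreducible components of X all have transcendence degree one over k if and only if the local
ring of X at every closed point has dimension one. (The published statement has a third equivalent
condition: the irreducible closed subsets of X other than the irreducible components are exactly the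
closed points of X. This row states only the equivalence of the first two.) -/
theorem result (k : Type u) [Field k] (X : Scheme.{u})
    [X.Over (Spec (CommRingCat.of k))] [LocallyOfFiniteType (X ↘ (Spec (CommRingCat.of k)))]
    [QuasiCompact (X ↘ (Spec (CommRingCat.of k)))] :
    (∀ x : X, closure ({x} : Set X) ∈ irreducibleComponents (X : Type u) → Algebra.trdeg k (X.residueField x) = 1) ↔
      ∀ x : X, IsClosed ({x} : Set X) → ringKrullDim (X.presheaf.stalk x) = 1 := by

  have key : ∀ x : X, Algebra.trdeg k (X.residueField x) = 1 ↔
      Groth.Agent.H54.tdeg (X ↘ Spec (CommRingCat.of k)) x = 1 := by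
    intro x
    have h := Groth.Agent.H54.tdeg_spec (X ↘ Spec (CommRingCat.of k)) x
    constructor
    · intro h1
      have h2 : ((Groth.Agent.H54.tdeg (X ↘ Spec (CommRingCat.of k)) x : ℕ) : Cardinal.{u}) =
          ((1 : ℕ) : Cardinal.{u}) := by
        rw [Nat.cast_one]; exact h.symm.trans h1
      exact_mod_cast h2
    · intro h1
      refine h.trans ?_
      rw [h1, Nat.cast_one]
  have key2 : ∀ x : X, ringKrullDim (X.presheaf.stalk x) = 1 ↔ Order.coheight x = 1 := by
    intro x
    rw [ringKrullDim_stalk_eq_coheight]
    exact WithBot.coe_eq_one
  simp only [key, key2]
  exact Groth.Agent.H54.tdeg_generic_eq_one_iff (X ↘ Spec (CommRingCat.of k))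

end Groth.Agent.S4442
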