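import Groth.Statements.S4443
import Groth.Agent.H38.CurveTop

set_option autoImplicit false
universe u
open CategoryTheory CategoryTheory.Limits AlgebraicGeometry
open EGA2

namespace Groth.Agent.S4443

open Groth.Agent.H38 TopologicalSpace in
/-- Let X be an irreducible algebraic curve over a field k (separated and of finite type over k,
nonempty, irreducible, local rings at closed points of dimension one). Then the generic point is the
only non-closed point of X, and the closed subsets of X distinct from X are exactly the finite sets
of closed points. (The published statement adds that these are also exactly the subsets of X that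
are not dense in X, an immediate consequence; this row does not state it.) -/
theorem result (k : Type u) [Field k] (X : Scheme.{u})
    [X.Over (Spec (CommRingCat.of k))] [LocallyOfFiniteType (X ↘ (Spec (CommRingCat.of k)))]
    [QuasiCompact (X ↘ (Spec (CommRingCat.of k)))] [IsSeparated (X ↘ (Spec (CommRingCat.of k)))]
    [Nonempty X] [IrreducibleSpace X] (hcurve : ∀ x : X, IsClosed ({x} : Set X) → ringKrullDim (X.presheaf.stalk x) = 1) :
    (∀ x : X, ¬ IsClosed ({x} : Set X) → x = genericPoint X) ∧
      ∀ F : Set X, IsClosed F → (F ≠ Set.univ ↔ (F.Finite ∧ ∀ x ∈ F, IsClosed ({x} : Set X))) := by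
  obtain ⟨hN, hC⟩ := noetherian_of_finiteType_field k X (X ↘ Spec (CommRingCat.of k))
  have hco : ∀ x : X, IsClosed ({x} : Set X) → Order.coheight x = 1 := fun x hx =>
    coheight_eq_one_of_dim x (hcurve x hx)
  have part1 : ∀ x : X, ¬ IsClosed ({x} : Set X) → x = genericPoint X := by
    intro x hx
    by_contra hne
    obtain ⟨y, hyc, hyx⟩ := exists_closed_lt hx
    have hηx : genericPoint X ⤳ x := genericPoint_specializes x
    have h2 : x < genericPoint X := lt_of_specializes_of_ne hηx (fun e => hne e.symm)
    have h3 := two_le_coheight hyx h2
    rw [hco y hyc] at h3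
    have h' : (2 : ℕ) ≤ 1 := by exact_mod_cast h3
    omega
  refine ⟨part1, fun F hF => ⟨fun hne => ?_, fun ⟨hfin, hcl⟩ => ?_⟩⟩
  · have hη : genericPoint X ∉ F := by
      intro h
      apply hne
      rw [Set.eq_univ_iff_forall]
      intro x
      exact (genericPoint_specializes x).mem_closed hF h
    have hcl : ∀ x ∈ F, IsClosed ({x} : Set X) := by
      intro x hx
      by_contra hnc
      exact hη (part1 x hnc ▸ hx)
    refine ⟨?_, hcl⟩
    obtain ⟨S, hSfin, hScl, hSirr, hSeq⟩ :=
      NoetherianSpace.exists_finite_set_isClosed_irreducible hF
    have hfin : (⋃₀ S).Finite := by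
      refine hSfin.sUnion fun t ht => ?_
      obtain ⟨z, hz⟩ := QuasiSober.sober (hSirr t ht) (hScl t ht)
      have hzF : z ∈ F := by rw [hSeq]; exact ⟨t, ht, hz.mem⟩
      have ht' : t = {z} := by rw [← hz.def, (hcl z hzF).closure_eq]
      rw [ht']; exact Set.finite_singleton z
    rw [hSeq]; exact hfin
  · intro huniv
    have hη : genericPoint X ∈ F := huniv ▸ Set.mem_univ _
    have hηc := hcl _ hη
    have h1 := hco _ hηc
    have hmax : IsMax (genericPoint X) := fun b _ => genericPoint_specializes b
    rw [Order.coheight_eq_zero.mpr hmax] at h1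
    exact zero_ne_one h1

end Groth.Agent.S4443
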