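import Groth.Statements.S4445
import Groth.Agent.H54.Curve
import Groth.Agent.S9718

set_option autoImplicit false
universe u
open CategoryTheory CategoryTheory.Limits AlgebraicGeometry
attribute [local instance] Curv2.stalkAlgebra
open EGA2

namespace Groth.Agent.S4445

/-- Let X be a normal irreducible algebraic curve over a field k with field of rational functions K, and
Y an integral complete (proper over k) algebraic curve with field of rational functions L. Dominant
k-morphisms X ⟶ Y correspond bijectively to k-embeddings L → K: for every k-algebra homomorphism φ :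
L → K there is exactly one k-morphism u : X ⟶ Y mapping the generic point of X to the generic point
of Y and inducing φ on the stalks at the generic points. -/
theorem result (k : Type u) [Field k] (X Y : Scheme.{u})
    [X.Over (Spec (CommRingCat.of k))] [LocallyOfFiniteType (X ↘ (Spec (CommRingCat.of k)))]
    [QuasiCompact (X ↘ (Spec (CommRingCat.of k)))] [IsSeparated (X ↘ (Spec (CommRingCat.of k)))] [IsIntegral X]
    (hX : ∀ x : X, IsClosed ({x} : Set X) → ringKrullDim (X.presheaf.stalk x) = 1) (hnorm : Pi1.IsNormalScheme X)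
    [Y.Over (Spec (CommRingCat.of k))] [IsProper (Y ↘ (Spec (CommRingCat.of k)))] [IsIntegral Y]
    (hY : ∀ y : Y, IsClosed ({y} : Set Y) → ringKrullDim (Y.presheaf.stalk y) = 1)
    (φ : Y.functionField →ₐ[k] X.functionField) :
    ∃! u : X ⟶ Y, u ≫ (Y ↘ (Spec (CommRingCat.of k))) = X ↘ (Spec (CommRingCat.of k)) ∧
      ∃ hu : u.base (genericPoint X) = genericPoint Y,
        (Y.presheaf.stalkSpecializes (specializes_of_eq hu) ≫ u.stalkMap (genericPoint X)).hom = (φ : Y.functionField →+* X.functionField) := by
  classical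
  haveI : IsLocallyNoetherian X :=
    LocallyOfFiniteType.isLocallyNoetherian (X ↘ Spec (CommRingCat.of k))
  haveI : CompactSpace X :=
    QuasiCompact.compactSpace_of_compactSpace (X ↘ Spec (CommRingCat.of k))
  haveI : LocallyOfFinitePresentation (Y ↘ Spec (CommRingCat.of k)) :=
    LocallyOfFinitePresentation.iff_locallyOfFiniteType.mpr inferInstance
  have hval : ∀ x : X, ∃ hdom : IsDomain (X.presheaf.stalk x),
      @ValuationRing (X.presheaf.stalk x) _ hdom :=
    fun x => ⟨inferInstance, H54.valuationRing_stalk_of_curve hX (fun x => (hnorm x).2) x⟩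
  obtain ⟨φ', hφ'⟩ : ∃ φ' : Y.presheaf.stalk (genericPoint Y) ⟶ X.presheaf.stalk (genericPoint X),
      φ'.hom = (φ : Y.functionField →+* X.functionField) :=
    ⟨CommRingCat.ofHom (φ : Y.functionField →+* X.functionField), rfl⟩
  obtain ⟨j, hj⟩ : ∃ j : Spec (X.presheaf.stalk (genericPoint X)) ⟶ Y,
      j = Spec.map φ' ≫ Y.fromSpecStalk (genericPoint Y) := ⟨_, rfl⟩
  have hXs := H54.fromSpecStalk_comp_toSpec (X ↘ Spec (CommRingCat.of k)) (genericPoint X)
  have hYs := H54.fromSpecStalk_comp_toSpec (Y ↘ Spec (CommRingCat.of k)) (genericPoint Y)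
  have hcomm : j ≫ (Y ↘ Spec (CommRingCat.of k)) =
      X.fromSpecStalk (genericPoint X) ≫ (X ↘ Spec (CommRingCat.of k)) := by
    rw [hj, Category.assoc, hYs, hXs, ← Spec.map_comp]
    congr 1
    refine CommRingCat.hom_ext (RingHom.ext fun c => ?_)
    show φ'.hom (algebraMap k Y.functionField c) = algebraMap k X.functionField c
    rw [hφ']
    exact φ.commutes c
  obtain ⟨U, hxU, f, hf1, hf2⟩ := Groth.Agent.S9718.spread_out_lfp'
    (X ↘ Spec (CommRingCat.of k)) (Y ↘ Spec (CommRingCat.of k)) j hcomm
  have hUd : Dense (U : Set X) := U.2.dense ⟨genericPoint X, hxU⟩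
  obtain ⟨u, hu1, hu2⟩ := H54.exists_extension_of_forall_valuationRing
    (Y ↘ Spec (CommRingCat.of k)) (X ↘ Spec (CommRingCat.of k)) hval U hUd f hf2
  have hkey : X.fromSpecStalk (genericPoint X) ≫ u = j := by
    rw [hf1, ← hu2, ← Category.assoc, Scheme.Opens.fromSpecStalkOfMem_ι]
  have hu : u (genericPoint X) = genericPoint Y := by
    have h1 : u (genericPoint X) = j (IsLocalRing.closedPoint (X.presheaf.stalk (genericPoint X))) := by
      rw [← hkey, Scheme.Hom.comp_apply, X.fromSpecStalk_closedPoint]
    have h2 : u (genericPoint X) ∈ Set.range (Y.fromSpecStalk (genericPoint Y)) := by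
      rw [h1, hj, Scheme.Hom.comp_apply]; exact ⟨_, rfl⟩
    rw [Scheme.range_fromSpecStalk] at h2
    have h2' : u (genericPoint X) ⤳ genericPoint Y := h2
    exact (h2'.antisymm ((genericPoint_spec Y).specializes trivial)).eq
  have hst : ∀ (v : X ⟶ Y) (hv : v (genericPoint X) = genericPoint Y),
      X.fromSpecStalk (genericPoint X) ≫ v =
        Spec.map (Y.presheaf.stalkSpecializes (specializes_of_eq hv) ≫
          v.stalkMap (genericPoint X)) ≫ Y.fromSpecStalk (genericPoint Y) := by
    intro v hv
    rw [Spec.map_comp, Category.assoc, Scheme.SpecMap_stalkSpecializes_fromSpecStalk,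
      Scheme.SpecMap_stalkMap_fromSpecStalk]
  have hstalk : Y.presheaf.stalkSpecializes (specializes_of_eq hu) ≫
      u.stalkMap (genericPoint X) = φ' := by
    apply Spec.map_injective
    rw [← cancel_mono (Y.fromSpecStalk (genericPoint Y)), ← hst u hu, hkey, hj]
  refine ⟨u, ⟨hu1, hu, ?_⟩, ?_⟩
  · rw [hstalk, hφ']
  · rintro v ⟨hv1, hv, hv2⟩
    have hv' : Y.presheaf.stalkSpecializes (specializes_of_eq hv) ≫
        v.stalkMap (genericPoint X) = φ' := by
      apply CommRingCat.hom_ext
      rw [hv2, hφ']
    haveI : IsDominant (X.fromSpecStalk (genericPoint X)) :=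
      H54.isDominant_fromSpecStalk_genericPoint X
    refine ext_of_isDominant_of_isSeparated (Y ↘ Spec (CommRingCat.of k)) (hv1.trans hu1.symm)
      (X.fromSpecStalk (genericPoint X)) ?_
    rw [hst v hv, hv', hkey, hj]

end Groth.Agent.S4445
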