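import Groth.Statements.S4447
import Mathlib

set_option autoImplicit false
universe u
open CategoryTheory CategoryTheory.Limits AlgebraicGeometry
open EGA2

namespace Groth.Agent.S4447

set_option backward.isDefEq.respectTransparency false in
/-- Let p : X ⟶ Y be a morphism, x a point of X, y = p(x) and y' a specialization of y distinct from y.
Then there are a valuation ring A which is not a field, with field of fractions the residue field
k(x), and a morphism Spec A ⟶ Y mapping the closed point to y' and restricting on Spec k(x) to the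
canonical morphism Spec k(x) ⟶ X ⟶ Y (in particular the generic point of Spec A goes to y). -/
theorem result {X Y : Scheme.{u}} (p : X ⟶ Y) (x : X) (y' : Y)
    (hsp : p.base x ⤳ y') (hne : y' ≠ p.base x) :
    ∃ (A : ValuationSubring (X.residueField x)) (h : Spec (CommRingCat.of A) ⟶ Y), A ≠ ⊤ ∧
      h.base (IsLocalRing.closedPoint A) = y' ∧
      Spec.map (CommRingCat.ofHom A.subtype) ≫ h = X.fromSpecResidueField x ≫ p := by
  let φ : Y.presheaf.stalk y' ⟶ X.residueField x :=
    Y.presheaf.stalkSpecializes hsp ≫ p.stalkMap x ≫ X.residue x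
  obtain ⟨A, hA, hA_local⟩ := IsLocalRing.exists_factor_valuationRing φ.hom
  let ψ : Y.presheaf.stalk y' ⟶ .of A := CommRingCat.ofHom (φ.hom.codRestrict _ hA)
  have w : X.fromSpecResidueField x ≫ p =
      Spec.map (CommRingCat.ofHom (algebraMap A (X.residueField x))) ≫
        Spec.map ψ ≫ Y.fromSpecStalk y' := by
    rw [Scheme.fromSpecResidueField, Category.assoc, ← Scheme.SpecMap_stalkMap_fromSpecStalk,
      ← Scheme.SpecMap_stalkSpecializes_fromSpecStalk hsp]
    simp_rw [← Spec.map_comp_assoc]
    rfl
  have hcl : (Spec.map ψ ≫ Y.fromSpecStalk y') (IsLocalRing.closedPoint A) = y' := by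
    rw [Scheme.Hom.comp_apply]
    have h1 : Spec.map ψ (IsLocalRing.closedPoint A) =
        IsLocalRing.closedPoint (Y.presheaf.stalk y') :=
      IsLocalRing.comap_closedPoint (S := A) (φ.hom.codRestrict A.toSubring hA)
    rw [h1, Y.fromSpecStalk_closedPoint]
  refine ⟨A, Spec.map ψ ≫ Y.fromSpecStalk y', ?_, hcl, w.symm⟩
  intro htop
  have hsurj : Function.Surjective A.subtype := fun z =>
    ⟨⟨z, by rw [htop]; exact ValuationSubring.mem_top z⟩, rfl⟩
  let e : A ≃+* X.residueField x :=
    RingEquiv.ofBijective A.subtype ⟨Subtype.val_injective, hsurj⟩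
  haveI : IsLocalHom (CommRingCat.ofHom A.subtype).hom :=
    ⟨fun a ha => (isUnit_map_iff e a).mp ha⟩
  have h1 : Spec.map (CommRingCat.ofHom A.subtype)
      (IsLocalRing.closedPoint (X.residueField x)) = IsLocalRing.closedPoint A :=
    Spec_closedPoint
  apply hne
  calc y' = (Spec.map ψ ≫ Y.fromSpecStalk y') (IsLocalRing.closedPoint A) := hcl.symm
    _ = (Spec.map (CommRingCat.ofHom A.subtype) ≫ Spec.map ψ ≫ Y.fromSpecStalk y')
          (IsLocalRing.closedPoint (X.residueField x)) := by
        rw [Scheme.Hom.comp_apply (Spec.map (CommRingCat.ofHom A.subtype)), h1]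
    _ = (X.fromSpecResidueField x ≫ p) (IsLocalRing.closedPoint (X.residueField x)) := by
        rw [w]; rfl
    _ = p.base x := by
        rw [Scheme.Hom.comp_apply, Scheme.fromSpecResidueField_apply]

end Groth.Agent.S4447
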