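import Groth.Statements.S4448
import Groth.Agent.H73.NormzField

set_option autoImplicit false
universe u
open CategoryTheory CategoryTheory.Limits AlgebraicGeometry
open EGA2

namespace Groth.Agent.S4448

/-- Let X be an integral scheme with field of rational functions k(ξ), K a field extension of k(ξ) (an
embedding φ), and X' the integral closure of X relative to K, i.e. the normalization of X along the
morphism g : Spec K ⟶ X through the generic point. Then X' is integral and normal, the generic point
ξ' of X' is the only point over ξ, the canonical morphism Spec K ⟶ X' hits ξ', and the field of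
rational functions of X' (the local ring at ξ') maps isomorphically onto the algebraic closure of
k(ξ) in K. (The quasi-compactness and quasi-separatedness binders on g always hold; they are needed
only to form the normalization.) -/
theorem result (X : Scheme.{u}) [IsIntegral X] (K : Type u) [Field K]
    (φ : X.functionField →+* K) (g : Spec (CommRingCat.of K) ⟶ X)
    (hg : g = Spec.map (CommRingCat.ofHom φ) ≫ X.fromSpecStalk (genericPoint X)) [QuasiCompact g] [QuasiSeparated g] :
    ∃ (_ : IsIntegral g.normalization), Pi1.IsNormalScheme g.normalization ∧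
      g.fromNormalization.base ⁻¹' {genericPoint X} = {genericPoint g.normalization} ∧
      g.toNormalization.base (IsLocalRing.closedPoint K) = genericPoint g.normalization ∧
      Function.Injective (Scheme.stalkClosedPointTo g.toNormalization).hom ∧
      Set.range (Scheme.stalkClosedPointTo g.toNormalization).hom =
        {y : K | ∃ q : Polynomial X.functionField, q.Monic ∧ Polynomial.eval₂ φ y q = 0} := by
  subst hg
  have hloc : IsLocalHom (CommRingCat.ofHom φ).hom := inferInstanceAs (IsLocalHom φ)
  have hgpt : (Spec.map (CommRingCat.ofHom φ) ≫ X.fromSpecStalk (genericPoint X)).base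
      (IsLocalRing.closedPoint K) = genericPoint X := by
    rw [Scheme.Hom.comp_apply, Spec_closedPoint, Scheme.fromSpecStalk_closedPoint]
  have hint : IsIntegral (Spec.map (CommRingCat.ofHom φ) ≫
      X.fromSpecStalk (genericPoint X)).normalization := inferInstance
  refine ⟨hint, fun x' => Groth.Agent.H73.Normz.stalk_isDomain_isIntegrallyClosed _ hgpt x',
    Groth.Agent.H73.Normz.fibre_genericPoint _ hgpt,
    Groth.Agent.H73.Normz.toNormalization_closedPoint _, ?_⟩
  set g := Spec.map (CommRingCat.ofHom φ) ≫ X.fromSpecStalk (genericPoint X) with hgdef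
  have hτgen : closure {g.toNormalization.base (IsLocalRing.closedPoint K)} ∈
      irreducibleComponents g.normalization := by
    rw [Groth.Agent.H73.Normz.toNormalization_closedPoint g, irreducibleComponents_eq_singleton]
    exact genericPoint_spec g.normalization
  have hF : IsField (g.normalization.presheaf.stalk
      (g.toNormalization.base (IsLocalRing.closedPoint K))) :=
    isField_stalk_of_closure_mem_irreducibleComponents g.normalization _ hτgen
  letI := hF.toField
  refine ⟨RingHom.injective _, ?_⟩
  obtain ⟨U, hU, hxU, hη⟩ := Groth.Agent.H73.Normz.exists_affine_nhd g hgpt (genericPoint X)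
  have hV : IsAffineOpen (g.fromNormalization ⁻¹ᵁ U) := hU.preimage g.fromNormalization
  have hτV : g.toNormalization.base (IsLocalRing.closedPoint K) ∈ g.fromNormalization ⁻¹ᵁ U := by
    change g.fromNormalization.base (g.toNormalization.base (IsLocalRing.closedPoint K)) ∈ U
    rw [← Scheme.Hom.comp_apply, Scheme.Hom.toNormalization_fromNormalization]
    exact hη
  have hne : Nonempty U := ⟨⟨_, hxU⟩⟩
  have hfrac : IsFractionRing Γ(X, U) X.functionField :=
    functionField_isFractionRing_of_isAffineOpen X U hU
  letI := φ.toAlgebra
  letI := (Groth.Agent.H73.Normz.chartρ g hη).toAlgebra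
  have hρ : Groth.Agent.H73.Normz.chartρ g hη = φ.comp (X.germToFunctionField U).hom := by
    rw [Groth.Agent.H73.Normz.chartρ_eq_germ_stalkClosedPointTo g hη]
    exact congrArg CommRingCat.Hom.hom
      (Scheme.germ_stalkClosedPointTo_Spec_fromSpecStalk (CommRingCat.ofHom φ) U hη)
  have htower : IsScalarTower Γ(X, U) X.functionField K := IsScalarTower.of_algebraMap_eq' hρ
  have hRdom : IsDomain Γ(X, U) := inferInstance
  have hlocz := hV.isLocalization_stalk ⟨_, hτV⟩
  have hbot := Groth.Agent.H73.Normz.primeIdealOf_eq_bot g hgpt hU hη _ hτV (by
    rw [← Scheme.Hom.comp_apply, Scheme.Hom.toNormalization_fromNormalization]; exact hgpt)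
  have hmain := Groth.Agent.H73.Normz.range_eq_integral (R := Γ(X, U)) (F := X.functionField)
    (K := K) (Groth.Agent.H73.Normz.chartι g hη)
    (Groth.Agent.H73.Normz.chartι_range g hU hη)
    (g.normalization.presheaf.germ (g.fromNormalization ⁻¹ᵁ U) _ hτV).hom
    (Scheme.stalkClosedPointTo g.toNormalization).hom
    (Groth.Agent.H73.Normz.chartι_eq_germ_stalkClosedPointTo g hη hτV).symm
    (by
      intro t
      let _ := g.normalization.presheaf.algebra_section_stalk
        (⟨_, hτV⟩ : ↥(g.fromNormalization ⁻¹ᵁ U))
      obtain ⟨⟨c, s⟩, hts⟩ := IsLocalization.surj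
        (hV.primeIdealOf ⟨_, hτV⟩).asIdeal.primeCompl t
      refine ⟨c, s.1, ?_, hts⟩
      have hs0 : (s : Γ(g.normalization, g.fromNormalization ⁻¹ᵁ U)) ≠ 0 := by
        intro h0
        apply s.2
        rw [h0]
        exact zero_mem _
      intro h
      apply hs0
      have hinj := germ_injective_of_isIntegral g.normalization
        (g.toNormalization.base (IsLocalRing.closedPoint K)) hτV
      exact hinj (by rw [h, map_zero]))
  rw [hmain]
  rfl

end Groth.Agent.S4448
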