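import Groth.Statements.S4451
import Groth.Agent.H54.ValRing
import Mathlib

set_option autoImplicit false
universe u
open CategoryTheory CategoryTheory.Limits AlgebraicGeometry
attribute [local instance] Curv2.stalkAlgebra
open EGA2

namespace Groth.Agent.S4451


open IsLocalRing

/-- A valuation subring dominating (through a local homomorphism compatible with the inclusions)
a valuation ring with the same fraction field is equal to it. -/
theorem range_eq_of_isLocalHom {O K : Type*} [CommRing O] [IsDomain O] [ValuationRing O]
    [Field K] [Algebra O K] [IsFractionRing O K] (R : ValuationSubring K) (φ : O →+* R)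
    [IsLocalHom φ] (hφ : ∀ a, ((φ a : R) : K) = algebraMap O K a) :
    (R : Set K) = Set.range (algebraMap O K) := by
  ext t
  constructor
  · intro ht
    rcases ValuationRing.isInteger_or_isInteger O t with ⟨a, ha⟩ | ⟨a, ha⟩
    · exact ⟨a, ha⟩
    · by_cases ht0 : t = 0
      · exact ⟨0, by rw [ht0, map_zero]⟩
      have h1 : φ a * ⟨t, ht⟩ = 1 := by
        apply Subtype.ext
        show ((φ a : R) : K) * t = 1
        rw [hφ, ha]
        exact inv_mul_cancel₀ ht0
      have hunit : IsUnit (φ a) := ⟨⟨φ a, ⟨t, ht⟩, h1, by rw [mul_comm]; exact h1⟩, rfl⟩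
      have ha' : IsUnit a := isUnit_of_map_unit φ a hunit
      obtain ⟨b, hb⟩ := ha'.exists_right_inv
      refine ⟨b, ?_⟩
      have h2 : algebraMap O K a * algebraMap O K b = 1 := by rw [← map_mul, hb, map_one]
      rw [ha] at h2
      exact ((inv_mul_eq_one₀ ht0).mp h2).symm
  · rintro ⟨a, rfl⟩
    rw [← hφ]
    exact (φ a).2


/-- Let X be a normal, complete, irreducible algebraic curve over a field k with field of rational
functions K. The set of local rings of X, as subrings of K, consists of K itself (at the generic
point) and of the valuation rings of K containing k (and distinct from K): every non-generic point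
has such a valuation ring as local ring, and every such valuation ring is the local ring of exactly
one point. -/
theorem result (k : Type u) [Field k] (X : Scheme.{u})
    [X.Over (Spec (CommRingCat.of k))] [IsProper (X ↘ (Spec (CommRingCat.of k)))] [IsIntegral X]
    (hX : ∀ x : X, IsClosed ({x} : Set X) → ringKrullDim (X.presheaf.stalk x) = 1) (hnorm : Pi1.IsNormalScheme X) :
    (∀ x : X, x ≠ genericPoint X → ∃ R : ValuationSubring X.functionField, R ≠ ⊤ ∧
        (R : Set X.functionField) = Set.range (algebraMap (X.presheaf.stalk x) X.functionField)) ∧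
      ∀ R : ValuationSubring X.functionField, R ≠ ⊤ → (∀ c : k, algebraMap k X.functionField c ∈ R) →
        ∃! x : X, (R : Set X.functionField) = Set.range (algebraMap (X.presheaf.stalk x) X.functionField) := by
  classical
  haveI : IsLocallyNoetherian X :=
    LocallyOfFiniteType.isLocallyNoetherian (X ↘ Spec (CommRingCat.of k))
  haveI : CompactSpace X :=
    QuasiCompact.compactSpace_of_compactSpace (X ↘ Spec (CommRingCat.of k))
  haveI : X.IsSeparated := ⟨by
    rw [← terminal.comp_from (X ↘ Spec (CommRingCat.of k))]
    infer_instance⟩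
  obtain ⟨κ, hκ⟩ : ∃ κ : X.presheaf.stalk (genericPoint X) ⟶ CommRingCat.of X.functionField,
      ∀ a, κ.hom a = a := ⟨𝟙 _, fun a => rfl⟩
  have hgen : ∀ x : X, genericPoint X ⤳ x := fun x => (genericPoint_spec X).specializes trivial
  have halg : ∀ (x : X) (b : X.presheaf.stalk x),
      algebraMap (X.presheaf.stalk x) X.functionField b =
        (X.presheaf.stalkSpecializes (hgen x)).hom b := fun x b => rfl
  -- every non-generic point is closed
  have hclosed : ∀ x : X, x ≠ genericPoint X → IsClosed ({x} : Set X) := by
    intro x hx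
    obtain ⟨y, hy, hyc⟩ := (isClosed_closure (s := ({x} : Set X))).exists_closed_singleton
      ⟨x, subset_closure rfl⟩
    have hxy : x ⤳ y := specializes_iff_mem_closure.mpr hy
    have hdim := hX y hyc
    have hmem : x ∈ Set.range (X.fromSpecStalk y) := by
      rw [Scheme.range_fromSpecStalk]; exact hxy
    obtain ⟨p, hp⟩ := hmem
    have hmemη : genericPoint X ∈ Set.range (X.fromSpecStalk y) := by
      rw [Scheme.range_fromSpecStalk]; exact hgen y
    obtain ⟨q, hq⟩ := hmemη
    by_cases hp0 : (p : PrimeSpectrum (X.presheaf.stalk y)).asIdeal = ⊥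
    · exfalso
      apply hx
      have hpq : p ⤳ q := by
        refine (PrimeSpectrum.le_iff_specializes (p : PrimeSpectrum (X.presheaf.stalk y)) q).mp ?_
        show (p : PrimeSpectrum (X.presheaf.stalk y)).asIdeal ≤
          (q : PrimeSpectrum (X.presheaf.stalk y)).asIdeal
        rw [hp0]; exact bot_le
      have h1 : x ⤳ genericPoint X := by
        rw [← hp, ← hq]
        exact hpq.map (X.fromSpecStalk y).continuous
      exact (h1.antisymm (hgen x)).eq
    · have h1 : Ring.KrullDimLE 1 (X.presheaf.stalk y) :=
        (Ring.krullDimLE_iff (n := 1)).mpr (by exact_mod_cast hdim.le)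
      have hmax := Ring.krullDimLE_one_iff_of_isPrime_bot.mp h1 _ hp0
        (p : PrimeSpectrum (X.presheaf.stalk y)).isPrime
      have hpc : p = closedPoint (X.presheaf.stalk y) := by
        apply PrimeSpectrum.ext
        exact IsLocalRing.eq_maximalIdeal hmax
      have hxy' : x = y := by
        rw [← hp, hpc, Scheme.fromSpecStalk_closedPoint]
      rw [hxy']; exact hyc
  have hdimle : ∀ x : X, ringKrullDim (X.presheaf.stalk x) ≤ 1 := by
    intro x
    by_cases hx : x = genericPoint X
    · subst hx
      have h0 : ringKrullDim (X.presheaf.stalk (genericPoint X)) = 0 :=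
        ringKrullDim_eq_zero_of_isField (Field.toIsField X.functionField)
      rw [h0]; exact zero_le_one
    · exact (hX x (hclosed x hx)).le
  have hval : ∀ x : X, ValuationRing (X.presheaf.stalk x) := fun x =>
    H54.valuationRing_of_ringKrullDim_le_one _ (hnorm x).2 (hdimle x)
  refine ⟨fun x hx => ?_, fun R hR hk => ?_⟩
  · haveI := hval x
    refine ⟨⟨(algebraMap (X.presheaf.stalk x) X.functionField).range, fun t =>
      (ValuationRing.isInteger_or_isInteger (X.presheaf.stalk x) t).imp
        (fun ⟨a, ha⟩ => ⟨a, ha⟩) (fun ⟨a, ha⟩ => ⟨a, ha⟩)⟩, ?_, rfl⟩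
    intro htop
    have hsurj : Function.Surjective (algebraMap (X.presheaf.stalk x) X.functionField) := by
      intro t
      have ht : t ∈ (⊤ : ValuationSubring X.functionField) := trivial
      rw [← htop] at ht
      obtain ⟨a, ha⟩ := ht
      exact ⟨a, ha⟩
    have hfield : IsField (X.presheaf.stalk x) :=
      (RingEquiv.ofBijective (algebraMap (X.presheaf.stalk x) X.functionField)
        ⟨IsFractionRing.injective _ _, hsurj⟩).toMulEquiv.isField (Field.toIsField _)
    have h0 := ringKrullDim_eq_zero_of_isField hfield
    have h1 := hX x (hclosed x hx)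
    rw [h0] at h1
    exact zero_ne_one h1
  · have hkmem : ∀ c : k, algebraMap k X.functionField c ∈ R.toSubring := hk
    obtain ⟨ψ, hψ⟩ : ∃ ψ : k →+* R,
        ψ = (algebraMap k X.functionField).codRestrict R.toSubring hkmem := ⟨_, rfl⟩
    obtain ⟨i₁, hi₁⟩ : ∃ i₁ : Spec (CommRingCat.of X.functionField) ⟶ X,
        i₁ = Spec.map κ ≫ X.fromSpecStalk (genericPoint X) := ⟨_, rfl⟩
    obtain ⟨i₂, hi₂⟩ : ∃ i₂ : Spec (CommRingCat.of R) ⟶ Spec (CommRingCat.of k),
        i₂ = Spec.map (CommRingCat.ofHom ψ) := ⟨_, rfl⟩
    have h3 : X.fromSpecStalk (genericPoint X) ≫ (X ↘ Spec (CommRingCat.of k)) =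
        Spec.map ((Scheme.ΓSpecIso (CommRingCat.of k)).inv ≫
          (X ↘ Spec (CommRingCat.of k)).appTop ≫
            X.presheaf.germ ⊤ (genericPoint X) trivial) := by
      calc X.fromSpecStalk (genericPoint X) ≫ (X ↘ Spec (CommRingCat.of k))
          = X.fromSpecStalk (genericPoint X) ≫ (X ↘ Spec (CommRingCat.of k)) ≫
              (Spec (CommRingCat.of k)).toSpecΓ ≫
                Spec.map (Scheme.ΓSpecIso (CommRingCat.of k)).inv := by
            rw [toSpecΓ_SpecMap_ΓSpecIso_inv, Category.comp_id]
        _ = X.fromSpecStalk (genericPoint X) ≫ X.toSpecΓ ≫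
              Spec.map (X ↘ Spec (CommRingCat.of k)).appTop ≫
                Spec.map (Scheme.ΓSpecIso (CommRingCat.of k)).inv := by
            rw [Scheme.toSpecΓ_naturality_assoc]
        _ = Spec.map (X.presheaf.germ ⊤ (genericPoint X) trivial) ≫
              Spec.map (X ↘ Spec (CommRingCat.of k)).appTop ≫
                Spec.map (Scheme.ΓSpecIso (CommRingCat.of k)).inv := by
            rw [Scheme.fromSpecStalk_toSpecΓ_assoc]
        _ = _ := by
            rw [← Spec.map_comp, ← Spec.map_comp, Category.assoc]
    have hring : ((Scheme.ΓSpecIso (CommRingCat.of k)).inv ≫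
        (X ↘ Spec (CommRingCat.of k)).appTop ≫
          X.presheaf.germ ⊤ (genericPoint X) trivial) ≫ κ =
        CommRingCat.ofHom ψ ≫ CommRingCat.ofHom (algebraMap R X.functionField) := by
      refine CommRingCat.hom_ext (RingHom.ext fun c => ?_)
      show κ.hom _ = _
      rw [hκ, hψ]
      rfl
    have w : i₁ ≫ (X ↘ Spec (CommRingCat.of k)) =
        Spec.map (CommRingCat.ofHom (algebraMap R X.functionField)) ≫ i₂ := by
      rw [hi₁, hi₂, Category.assoc, h3, ← Spec.map_comp, ← Spec.map_comp, hring]
    obtain ⟨l, hl₁, hl₂⟩ : ∃ l : Spec (CommRingCat.of R) ⟶ X,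
        Spec.map (CommRingCat.ofHom (algebraMap R X.functionField)) ≫ l = i₁ ∧
          l ≫ (X ↘ Spec (CommRingCat.of k)) = i₂ := by
      obtain ⟨l, hl₁, hl₂⟩ :=
        ((H54.existence_of_universallyClosed (X ↘ Spec (CommRingCat.of k)))
          { R := R, K := X.functionField, i₁ := i₁, i₂ := i₂, commSq := ⟨w⟩, .. }).exists_lift
      exact ⟨l, hl₁, hl₂⟩
    have hlam : Scheme.stalkClosedPointTo l ≫
        CommRingCat.ofHom (algebraMap R X.functionField) =
        X.presheaf.stalkSpecializes (hgen (l (closedPoint R))) ≫ κ := by
      apply Spec.map_injective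
      rw [← cancel_mono (X.fromSpecStalk (l (closedPoint R)))]
      have hL : Spec.map (Scheme.stalkClosedPointTo l ≫
          CommRingCat.ofHom (algebraMap R X.functionField)) ≫
          X.fromSpecStalk (l (closedPoint R)) = i₁ := by
        rw [Spec.map_comp, Category.assoc, Scheme.Spec_stalkClosedPointTo_fromSpecStalk, hl₁]
      have hR' : Spec.map (X.presheaf.stalkSpecializes (hgen (l (closedPoint R))) ≫ κ) ≫
          X.fromSpecStalk (l (closedPoint R)) = i₁ := by
        rw [hi₁, Spec.map_comp, Category.assoc, Scheme.SpecMap_stalkSpecializes_fromSpecStalk]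
      exact hL.trans hR'.symm
    haveI := hval (l (closedPoint R))
    have hφ : ∀ a, (((Scheme.stalkClosedPointTo l).hom a : R) : X.functionField) =
        algebraMap (X.presheaf.stalk (l (closedPoint R))) X.functionField a := by
      intro a
      have h4 := congrArg (fun φ => φ.hom a) hlam
      rw [halg]
      exact h4.trans (hκ _)
    have hrange := range_eq_of_isLocalHom R (Scheme.stalkClosedPointTo l).hom hφ
    -- points with local ring `R` give morphisms from `Spec R`
    have haux : ∀ x : X, (R : Set X.functionField) =
        Set.range (algebraMap (X.presheaf.stalk x) X.functionField) →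
        ∃ g : Spec (CommRingCat.of R) ⟶ X, g (closedPoint R) = x ∧
          Spec.map (CommRingCat.ofHom (algebraMap R X.functionField)) ≫ g = i₁ := by
      intro x hx
      have hmem : ∀ a, algebraMap (X.presheaf.stalk x) X.functionField a ∈ R.toSubring := by
        intro a
        show _ ∈ (R : Set X.functionField)
        rw [hx]; exact ⟨a, rfl⟩
      obtain ⟨ψx, hψx⟩ : ∃ ψx : X.presheaf.stalk x ⟶ CommRingCat.of R,
          ψx = CommRingCat.ofHom ((algebraMap (X.presheaf.stalk x) X.functionField).codRestrict
            R.toSubring hmem) := ⟨_, rfl⟩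
      have hbij : Function.Bijective ψx.hom := by
        rw [hψx]
        constructor
        · intro a b hab
          apply IsFractionRing.injective (X.presheaf.stalk x) X.functionField
          exact congrArg Subtype.val hab
        · rintro ⟨t, ht⟩
          have ht' : t ∈ (R : Set X.functionField) := ht
          rw [hx] at ht'
          obtain ⟨a, ha⟩ := ht'
          exact ⟨a, Subtype.ext ha⟩
      haveI : IsLocalHom ψx.hom := by
        have hloc : IsLocalHom (RingEquiv.ofBijective ψx.hom hbij) := inferInstance
        exact ⟨fun a ha => hloc.map_nonunit a ha⟩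
      refine ⟨Spec.map ψx ≫ X.fromSpecStalk x, ?_, ?_⟩
      · rw [Scheme.Hom.comp_apply]
        have hcp : Spec.map ψx (closedPoint R) = closedPoint (X.presheaf.stalk x) :=
          comap_closedPoint (S := R) ψx.hom
        rw [hcp, X.fromSpecStalk_closedPoint]
      · have h5 : ψx ≫ CommRingCat.ofHom (algebraMap R X.functionField) =
            X.presheaf.stalkSpecializes (hgen x) ≫ κ := by
          rw [hψx]
          refine CommRingCat.hom_ext (RingHom.ext fun a => ?_)
          show algebraMap (X.presheaf.stalk x) X.functionField a =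
            κ.hom ((X.presheaf.stalkSpecializes (hgen x)).hom a)
          rw [hκ]
          rfl
        rw [hi₁, ← Spec.map_comp_assoc, h5, Spec.map_comp, Category.assoc,
          Scheme.SpecMap_stalkSpecializes_fromSpecStalk]
    refine ⟨l (closedPoint R), hrange, fun y hy => ?_⟩
    obtain ⟨g₁, hg₁, hg₁'⟩ := haux _ hrange
    obtain ⟨g₂, hg₂, hg₂'⟩ := haux y hy
    haveI : IsDominant (Spec.map (CommRingCat.ofHom (algebraMap R X.functionField))) := by
      refine ⟨?_⟩
      refine (PrimeSpectrum.denseRange_comap_iff_ker_le_nilRadical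
        (f := algebraMap R X.functionField)).mpr ?_
      rw [(RingHom.injective_iff_ker_eq_bot _).mp (IsFractionRing.injective R X.functionField)]
      exact bot_le
    have hgg : g₂ = g₁ :=
      ext_of_isDominant (Spec.map (CommRingCat.ofHom (algebraMap R X.functionField)))
        (hg₂'.trans hg₁'.symm)
    rw [← hg₂, ← hg₁, hgg]

end Groth.Agent.S4451
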