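import Groth.Statements.S4452
import Groth.Agent.H41.PolyAlg
import Groth.Agent.H41.RelProjExists
import Groth.Agent.H22.SpecLib
import Groth.Agent.S12137

set_option autoImplicit false
universe u
open CategoryTheory CategoryTheory.Limits AlgebraicGeometry
open EGA2

namespace Groth.Agent.S4452

/-- Every finite morphism f : X ⟶ Y is projective (here: X is Y-isomorphic to the homogeneous spectrum
of a quasi-coherent graded O_Y-algebra generated by its degree-one part, that part being of finite
type — the form of projectivity equivalent to X being a closed subscheme of a projective bundle P(E)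
with E quasi-coherent of finite type). -/
theorem result {X Y : Scheme.{u}} (f : X ⟶ Y) [IsFinite f] : RelProj.IsProjective f := by
  obtain ⟨P, p, chart, hP⟩ := Groth.Agent.H41.RelProjExists.exists_isRelProj
    (Groth.Agent.H41.PolyAlg.Sh f)
  choose θ hθ using fun U hU => Groth.Agent.H41.PolyAlg.exists_θ f U hU
  obtain ⟨⟨i, hi, -⟩, hall⟩ := Groth.Agent.S12137.result (RelSpec.QCAlg.directImage f)
    (Groth.Agent.H41.PolyAlg.Sh f) (Groth.Agent.H41.PolyAlg.ιhom f) (Groth.Agent.H41.PolyAlg.hι f)
    (Groth.Agent.H41.PolyAlg.zTop f) (Groth.Agent.H41.PolyAlg.hz f)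
    (Groth.Agent.H41.PolyAlg.hpoly' f) p chart hP θ hθ
  obtain ⟨hiso, hip⟩ := hall i hi
  obtain ⟨c, hc⟩ := Groth.Agent.H22.SpecLib.exists_iso_spec_directImage f
  haveI := hiso
  refine ⟨Groth.Agent.H41.PolyAlg.Sh f, P, p, chart, c ≪≫ asIso i,
    Groth.Agent.H41.PolyAlg.isGenDegOne f, Groth.Agent.H41.PolyAlg.isFTDeg_one f, hP, ?_⟩
  simp only [Iso.trans_hom, asIso_hom, Category.assoc]
  rw [hip, hc]

end Groth.Agent.S4452
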