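import Groth.Statements.S4458
-- import your own Groth.Agent.* helpers here
import Groth.Agent.H8.DevMain

set_option autoImplicit false
universe u
open Coherent

namespace Groth.Agent.S4458

set_option linter.style.haveILetI false
open AlgebraicGeometry CategoryTheory CategoryTheory.Limits Groth.Agent.H8.Dev


open AlgebraicGeometry CategoryTheory CategoryTheory.Limits in
/-- Let X be a Noetherian scheme and K' a class of O_X-modules, closed under isomorphism, containing 0,
such that in every short exact sequence of coherent modules with two terms in K' the third is in K',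
and such that every coherent direct summand of a coherent module in K' is in K'. Let X' be a closed
subset such that for every irreducible closed subset Z ⊆ X' with generic point y there is a coherent
module G in K' supported in Z, annihilated by the ideal sheaf of the reduced closed subscheme Z,
whose stalk at y is nonzero. Then every coherent O_X-module with support contained in X' belongs to
K'. (The published statement asks of G only that it lie in K' and have nonzero stalk at y, remarking
that this amounts to G having support Z; that is not sufficient: on the spectrum of the ring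
k[e]/(e^2) of dual numbers over a field the free coherent modules form such a class K', containing
the structure sheaf and not the residue field. This row asks G to be supported in Z and annihilated
by the ideal sheaf of Z, which is what the published proof uses, through the stalk of G at y being a
vector space over the residue field of y.) -/
theorem result (X : Scheme.{u}) [IsNoetherian X]
    (K' : ObjectProperty X.Modules) [K'.IsClosedUnderIsomorphisms]
    (h0 : ∀ M : X.Modules, IsZero M → K' M)
    (hex : ∀ S : ShortComplex X.Modules, S.ShortExact → Coh.IsCoh S.X₁ → Coh.IsCoh S.X₂ → Coh.IsCoh S.X₃ →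
      (K' S.X₁ → K' S.X₂ → K' S.X₃) ∧ (K' S.X₁ → K' S.X₃ → K' S.X₂) ∧ (K' S.X₂ → K' S.X₃ → K' S.X₁))
    (hsum : ∀ (M N : X.Modules) (i : N ⟶ M) (r : M ⟶ N), i ≫ r = 𝟙 N → Coh.IsCoh M → Coh.IsCoh N →
      K' M → K' N)
    (X' : Set X) (hX' : IsClosed X')
    (hgen : ∀ (Z : Set X) (hZ : IsClosed Z), IsIrreducible Z → Z ⊆ X' → ∀ y : X, closure {y} = Z →
      ∃ G : X.Modules, Coh.IsCoh G ∧ K' G ∧ CohB1.support G ⊆ Z ∧
        ClSub.KilledByIdeal (Scheme.IdealSheafData.vanishingIdeal ⟨Z, hZ⟩) G ∧ y ∈ CohB1.support G)
    (F : X.Modules) (hF : Coh.IsCoh F) (hsupp : CohB1.support F ⊆ X') : K' F := by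
  refine main K' h0 hex X' ?_ F hF hsupp
  intro Z hZ hirr hZX' y hy _
  obtain ⟨G, hG, hGK, hGZ, hGk, hyG⟩ := hgen Z hZ hirr hZX' y hy
  haveI := Groth.Agent.H8.finite_stalk_of_isCoh _ hG y
  have hfin : Module.length (X.presheaf.stalk y) ↑(G.presheaf.stalk y) ≠ ⊤ :=
    R1b _ _ (Groth.Agent.H60.Dev.S1 Z hZ y hy G hGk)
  obtain ⟨q, hq⟩ := ENat.ne_top_iff_exists.mp hfin
  have hq0 : q ≠ 0 := by
    rintro rfl
    rw [Nat.cast_zero] at hq
    exact hyG (Module.length_eq_zero_iff.mp hq.symm)
  obtain ⟨q', rfl⟩ := Nat.exists_eq_succ_of_ne_zero hq0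
  refine ⟨G, q' + 1, hG, hGK, hGZ, Groth.Agent.H60.Dev.S1 Z hZ y hy G hGk, Nat.succ_le_succ (Nat.zero_le _), hq.symm, ?_⟩
  intro F' hF' hK
  exact hsum (pw F' (q' + 1)) F' (biprod.inl : F' ⟶ F' ⊞ pw F' q') biprod.fst biprod.inl_fst
    (isCoh_pw hF' (q' + 1)) hF' hK

end Groth.Agent.S4458
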