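import Groth.Statements.S4459


set_option autoImplicit false
universe u
open Coherent

namespace Groth.Agent.S4459

open AlgebraicGeometry CategoryTheory in
/-- Let A be a Noetherian ring which is separated and complete for the J-adic topology, and let f : X →
Spec A be a morphism of schemes which is a closed map on underlying spaces. Then every open subset
of X containing the inverse image of V(J) is all of X. (The published statement also assumes X of
finite type over A; that hypothesis is not used.) -/
theorem result (A : Type u) [CommRing A] [IsNoetherianRing A]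
    (J : Ideal A) [IsAdicComplete J A] {X : Scheme.{u}} (f : X ⟶ Spec (CommRingCat.of A))
    (hf : IsClosedMap f.base) (U : X.Opens)
    (hU : f.base ⁻¹' (PrimeSpectrum.zeroLocus (J : Set A)) ⊆ (U : Set X)) : U = ⊤ := by
  have hZ : IsClosed (f.base '' ((U : Set X)ᶜ)) := hf _ U.2.isClosed_compl
  obtain ⟨I, hI⟩ := (PrimeSpectrum.isClosed_iff_zeroLocus_ideal _).mp hZ
  have hdisj : PrimeSpectrum.zeroLocus ((I ⊔ J : Ideal A) : Set A) = ∅ := by
    rw [PrimeSpectrum.zeroLocus_sup, ← hI]
    rw [Set.eq_empty_iff_forall_notMem]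
    rintro p ⟨⟨z, hz, rfl⟩, hp⟩
    exact hz (hU hp)
  rw [PrimeSpectrum.zeroLocus_empty_iff_eq_top, Ideal.eq_top_iff_one, Submodule.mem_sup] at hdisj
  obtain ⟨i, hi, j, hj, hij⟩ := hdisj
  have hunit : IsUnit i := by
    apply Ideal.isUnit_of_sub_one_mem_jacobson_bot
    have : i - 1 = -j := by rw [← hij]; ring
    rw [this]
    exact neg_mem (IsAdicComplete.le_jacobson_bot J hj)
  have hItop : I = ⊤ := Ideal.eq_top_of_isUnit_mem _ hi hunit
  rw [hItop, Submodule.top_coe, PrimeSpectrum.zeroLocus_univ] at hI
  have hI' : (U : Set X)ᶜ = ∅ := Set.image_eq_empty.mp hI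
  rw [Set.compl_empty_iff] at hI'
  exact TopologicalSpace.Opens.ext hI'

end Groth.Agent.S4459
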