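import Groth.Statements.S4466
import Groth.Agent.H82.ProjLinear

set_option autoImplicit false
universe u
open Coherent

namespace Groth.Agent.S4466

theorem finrank_homog (k : Type u) [Field k] (r d : ℕ) :
    Module.finrank k (MvPolynomial.homogeneousSubmodule (Fin (r + 1)) k d) = Nat.choose (d + r) r := by
  classical
  have b := MvPolynomial.basisRestrictSupport k {d' : Fin (r + 1) →₀ ℕ | d'.degree = d}
  have h1 : Module.finrank k (MvPolynomial.homogeneousSubmodule (Fin (r + 1)) k d)
      = Module.finrank k (MvPolynomial.restrictSupport k {d' : Fin (r + 1) →₀ ℕ | d'.degree = d}) := by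
    rw [MvPolynomial.homogeneousSubmodule_eq_finsupp_supported]
    rfl
  rw [h1, Module.finrank_eq_nat_card_basis b]
  have e : ↥{d' : Fin (r + 1) →₀ ℕ | d'.degree = d} ≃ Sym (Fin (r + 1)) d :=
    (Equiv.subtypeEquivRight (fun d' => by
      show d'.degree = d ↔ d'.sum (fun _ => id) = d
      rfl)).trans (Sym.equivNatSum (Fin (r + 1)) d).symm
  rw [Nat.card_congr e, Nat.card_eq_fintype_card, Sym.card_sym_eq_multichoose, Nat.multichoose_eq,
    Fintype.card_fin]
  have h2 : r + 1 + d - 1 = d + r := by omega
  rw [h2]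
  exact Nat.choose_symm_add

theorem finrank_zero (k : Type u) [Field k] (r : ℕ) (n : ℤ) (j : ℕ)
    (h₀ : ¬ (j = 0 ∧ 0 ≤ n)) (hn : ¬ (j = r ∧ n ≤ -((r : ℤ) + 1))) :
    Module.finrank k (Coh.HH (CohB1.ProjSpace r k) (Twist.twistProjSpace r k n) j) = 0 := by
  haveI : Subsingleton (Coh.HH (CohB1.ProjSpace r k) (Twist.twistProjSpace r k n) j) :=
    Groth.Agent.H82.ProjCoh.subsingleton_HH r k n j h₀ hn
  exact Module.finrank_zero_of_subsingleton


open AlgebraicGeometry CategoryTheory in
/-- Let k be a field, r > 0 and n any integer. Then the Euler characteristic of the twisting sheaf O(n)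
on projective r-space over k, namely the alternating sum of the dimensions of H^j(P^r_k, O(n)) for 0
≤ j ≤ r, equals the binomial coefficient C(n+r, r), understood as the binomial polynomial evaluated
at the integer n+r (so that it makes sense and is correct for negative n too). -/
theorem result (k : Type u) [Field k] (r : ℕ) (hr : 0 < r)
    (n : ℤ) :
    ((Finset.range (r + 1)).sum fun j => (-1 : ℤ) ^ j *
        (Module.finrank k (Coh.HH (CohB1.ProjSpace r k) (Twist.twistProjSpace r k n) j) : ℤ)) =
      Ring.choose (n + r) r := by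
  by_cases h0 : 0 ≤ n
  · -- `n ≥ 0`: only `H^0`
    obtain ⟨d, rfl⟩ := Int.eq_ofNat_of_zero_le h0
    rw [Finset.sum_eq_single 0]
    · obtain ⟨L⟩ := Groth.Agent.H82.ProjLinear.nonempty_H0 r k d
      rw [L.finrank_eq, finrank_homog, pow_zero, one_mul]
      have : ((d : ℤ) + (r : ℤ)) = ((d + r : ℕ) : ℤ) := by push_cast; ring
      rw [this, Ring.choose_natCast]
    · intro j _ hj
      rw [finrank_zero k r d j (fun h => hj h.1) (fun h => by
        have := h.2
        have : (0 : ℤ) ≤ (r : ℤ) := Int.natCast_nonneg r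
        omega)]
      simp
    · intro h
      exact absurd (Finset.mem_range.mpr (Nat.succ_pos r)) h
  · push Not at h0
    by_cases h1 : n ≤ -((r : ℤ) + 1)
    · -- `n ≤ -r-1`: only `H^r`
      obtain ⟨kk, hkk⟩ : ∃ kk : ℕ, n = -((r : ℤ) + 1 + kk) :=
        ⟨(-n - r - 1).toNat, by omega⟩
      subst hkk
      rw [Finset.sum_eq_single r]
      · obtain ⟨L⟩ := Groth.Agent.H82.ProjLinear.nonempty_Htop r k kk
        rw [L.finrank_eq, finrank_homog]
        have e1 : (-((r : ℤ) + 1 + kk) + r) = -(((kk + 1 : ℕ) : ℤ)) := by push_cast; ring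
        rw [e1, Ring.choose_neg]
        have e2 : (((kk + 1 : ℕ) : ℤ) + (r : ℤ) - 1) = ((kk + r : ℕ) : ℤ) := by push_cast; ring
        rw [e2, Ring.choose_natCast, Units.smul_def, Int.coe_negOnePow_natCast]
        simp
      · intro j _ hj
        rw [finrank_zero k r _ j (fun h => by
          have := h.2
          have : (0 : ℤ) ≤ (r : ℤ) := Int.natCast_nonneg r
          have : (0 : ℤ) ≤ (kk : ℤ) := Int.natCast_nonneg kk
          omega) (fun h => hj h.1)]
        simp
      · intro h
        exact absurd (Finset.mem_range.mpr (Nat.lt_succ_self r)) h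
    · -- `-r ≤ n ≤ -1`: everything vanishes
      push Not at h1
      rw [Finset.sum_eq_zero]
      · obtain ⟨t, ht⟩ : ∃ t : ℕ, n + r = t := ⟨(n + r).toNat, by omega⟩
        rw [ht, Ring.choose_natCast, Nat.choose_eq_zero_of_lt (by omega)]
        rfl
      · intro j _
        rw [finrank_zero k r n j (fun h => by omega) (fun h => by omega)]
        simp

end Groth.Agent.S4466
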