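import Groth.Statements.S4469
import Mathlib

set_option autoImplicit false
set_option linter.style.haveILetI false
universe u
open CAlg

namespace Groth.Agent.S4469

/-- Let A be an integrally closed Noetherian local domain with field of fractions K, B an A-algebra of
finite type which is a domain with the same field of fractions (A → B → K compatible with A → K),
and 𝔫 a maximal ideal of B lying over the maximal ideal 𝔪 of A and minimal among the prime ideals of
B lying over 𝔪. Then B = A: the structure map A → B is bijective. -/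
theorem result (A B K : Type u) [CommRing A]
    [IsDomain A] [IsNoetherianRing A] [IsLocalRing A] [IsIntegrallyClosed A] [CommRing B] [IsDomain B]
    [Field K] [Algebra A B] [Algebra B K] [Algebra A K] [IsScalarTower A B K] [IsFractionRing A K]
    [IsFractionRing B K] [Algebra.FiniteType A B] (n : Ideal B) [n.IsMaximal]
    (hn : n.comap (algebraMap A B) = IsLocalRing.maximalIdeal A)
    (hmin : ∀ q : Ideal B, q.IsPrime → q.comap (algebraMap A B) = IsLocalRing.maximalIdeal A → q ≤ n → q = n) :
    Function.Bijective (algebraMap A B) := by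
  classical
  have hinjBK : Function.Injective (algebraMap B K) := IsFractionRing.injective B K
  have hinjAK : Function.Injective (algebraMap A K) := IsFractionRing.injective A K
  have hinjAB : Function.Injective (algebraMap A B) := by
    intro a b h
    apply hinjAK
    rw [IsScalarTower.algebraMap_apply A B K, IsScalarTower.algebraMap_apply A B K, h]
  have hint : ∀ b : B, IsIntegral A b → ∃ a : A, algebraMap A B a = b := by
    intro b hb
    have h1 : IsIntegral A (algebraMap B K b) := hb.map (IsScalarTower.toAlgHom A B K)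
    obtain ⟨a, ha⟩ := IsIntegrallyClosed.isIntegral_iff.mp h1
    refine ⟨a, hinjBK ?_⟩
    rw [← IsScalarTower.algebraMap_apply A B K, ha]
  have hqf : Algebra.QuasiFiniteAt A n := by
    let q : PrimeSpectrum B := ⟨n, inferInstance⟩
    let pA : PrimeSpectrum A := q.comap (algebraMap A B)
    have hpA : pA.asIdeal = IsLocalRing.maximalIdeal A := hn
    refine Algebra.QuasiFiniteAt.of_isOpen_singleton_fiber (R := A) q ?_
    let e := PrimeSpectrum.preimageHomeomorphFiber A B pA
    rw [← e.isOpen_image, Set.image_singleton]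
    haveI : IsNoetherianRing (pA.asIdeal.Fiber B) :=
      Algebra.FiniteType.isNoetherianRing pA.asIdeal.ResidueField _
    haveI : IsJacobsonRing (pA.asIdeal.Fiber B) :=
      isJacobsonRing_of_finiteType (A := pA.asIdeal.ResidueField)
    have htfae := (PrimeSpectrum.isOpen_singleton_tfae_of_isNoetherian_of_isJacobsonRing
      (e ⟨q, rfl⟩)).out 0 2
    rw [htfae]
    refine ⟨?_, ?_⟩
    · rw [← Set.image_singleton, e.isClosed_image]
      have hcl : IsClosed ({q} : Set (PrimeSpectrum B)) :=
        (PrimeSpectrum.isClosed_singleton_iff_isMaximal q).mpr ‹n.IsMaximal›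
      have hpre : ({⟨q, rfl⟩} : Set (PrimeSpectrum.comap (algebraMap A B) ⁻¹' {pA})) =
          Subtype.val ⁻¹' {q} := by
        ext z; simp [Subtype.ext_iff]
      rw [hpre]
      exact hcl.preimage continuous_subtype_val
    · intro x y hyx hx
      rw [Set.mem_singleton_iff] at hx ⊢
      subst hx
      obtain ⟨z, rfl⟩ := e.surjective y
      rw [e.isInducing.specializes_iff, subtype_specializes_iff,
        ← PrimeSpectrum.le_iff_specializes] at hyx
      have hz : z.1.asIdeal.comap (algebraMap A B) = IsLocalRing.maximalIdeal A := by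
        rw [← hpA]
        exact congrArg PrimeSpectrum.asIdeal z.2
      have hzn := hmin z.1.asIdeal z.1.isPrime hz hyx
      congr 1
      exact Subtype.ext (PrimeSpectrum.ext hzn)
  obtain ⟨r, hrn, hrint, hr⟩ := Algebra.zariskisMainProperty_iff.mp
    (Algebra.ZariskisMainProperty.of_finiteType (R := A) n)
  obtain ⟨a₀, ha₀⟩ := hint r hrint
  have ha₀u : IsUnit a₀ := by
    by_contra h
    have hmem : a₀ ∈ IsLocalRing.maximalIdeal A := (IsLocalRing.mem_maximalIdeal a₀).mpr h
    rw [← hn, Ideal.mem_comap, ha₀] at hmem
    exact hrn hmem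
  refine ⟨hinjAB, fun x => ?_⟩
  obtain ⟨k, hk⟩ := hr x
  obtain ⟨a, ha⟩ := hint _ hk
  obtain ⟨u, hu⟩ := ha₀u
  refine ⟨↑(u⁻¹ ^ k) * a, ?_⟩
  have h1 : (↑(u⁻¹ ^ k) : A) * a₀ ^ k = 1 := by
    rw [← hu, ← Units.val_pow_eq_pow_val, ← Units.val_mul, ← mul_pow, inv_mul_cancel, one_pow,
      Units.val_one]
  calc algebraMap A B (↑(u⁻¹ ^ k) * a) = algebraMap A B ↑(u⁻¹ ^ k) * (r ^ k * x) := by
        rw [map_mul, ha]
    _ = algebraMap A B (↑(u⁻¹ ^ k) * a₀ ^ k) * x := by rw [map_mul, map_pow, ha₀, mul_assoc]
    _ = x := by rw [h1, map_one, one_mul]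

end Groth.Agent.S4469
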