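import Groth.Statements.S4475
import Groth.Agent.H82.KoszTopNat
import Groth.Agent.H82.MvPolyNeg
import Groth.Agent.H82.KPow

set_option autoImplicit false
universe u
open Koszul3

namespace Groth.Agent.S4475

open CategoryTheory CategoryTheory.Limits in
/-- Let A be a ring, S = A[T_0, …, T_r] the polynomial ring and T = (T_0, …, T_r). Then the direct-limit
Koszul cohomology H^i((T), S), the colimit over n of the Koszul cohomologies H^i(T^n, S), vanishes
for every i ≠ r + 1, and H^(r+1)((T), S) is a free A-module (the source gives an explicit basis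
indexed by the monomials with all exponents positive). -/
theorem result (A : Type u) [CommRing A] (r : ℕ) :
    (∀ i : ℕ, i ≠ r + 1 →
      Subsingleton (CohIII.koszulHLim (List.ofFn (fun j : Fin (r + 1) => (MvPolynomial.X j : MvPolynomial (Fin (r + 1)) A)))
        (ModuleCat.of (MvPolynomial (Fin (r + 1)) A) (MvPolynomial (Fin (r + 1)) A)) i)) ∧
    Module.Free A (RestrictScalars A (MvPolynomial (Fin (r + 1)) A)
      (CohIII.koszulHLim (List.ofFn (fun j : Fin (r + 1) => (MvPolynomial.X j : MvPolynomial (Fin (r + 1)) A)))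
        (ModuleCat.of (MvPolynomial (Fin (r + 1)) A) (MvPolynomial (Fin (r + 1)) A)) (r + 1))) := by
  classical
  have hP : Groth.Agent.H82.KPow.P
      (Groth.Agent.H59.Kosz.sgl (ModuleCat.of (MvPolynomial (Fin (r + 1)) A)
        (MvPolynomial (Fin (r + 1)) A))) (Groth.Agent.H82.MPN.Xs (A := A) r) :=
    (Groth.Agent.H59.Kosz.kz_regular (Groth.Agent.H82.MPN.Xs (A := A) r)
      (MvPolynomial (Fin (r + 1)) A) (Groth.Agent.H82.MPN.Xs_isWeaklyRegular r)).1
  constructor
  · intro i hi
    show Subsingleton (Module.DirectLimit _ _)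
    apply Groth.Agent.H82.DLF.subsingleton_directLimit
    intro n hn
    apply ModuleCat.subsingleton_of_isZero
    show CategoryTheory.Limits.IsZero ((CohIII.koszulCx _ _).homology _)
    rw [Groth.Agent.H59.Kosz.koszulCx_eq]
    apply Groth.Agent.H82.KPow.P_map_pow' _ n hn _ hP
    rw [List.length_ofFn]
    intro h0
    apply hi
    omega
  · obtain ⟨e⟩ := Groth.Agent.H82.KTN.nonempty_equiv_top (Groth.Agent.H82.MPN.Xs (A := A) r)
      (((r + 1 : ℕ) : ℤ) - ((Groth.Agent.H82.MPN.Xs (A := A) r).length : ℤ))
      (by rw [List.length_ofFn]; omega) (B := A)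
      (fun n => Groth.Agent.H82.MPN.ψ n)
      (Groth.Agent.H82.MPN.mem_ofList_Xs_pow_iff r)
      (fun n m h p => Groth.Agent.H82.MPN.ψ_prod_mul r n m h p)
      Groth.Agent.H82.MPN.exists_ψ
    exact Module.Free.of_equiv e

end Groth.Agent.S4475
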