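import Groth.Statements.S4486
import Groth.Agent.H12.FlatCxLoc

set_option autoImplicit false
universe u
open FlatCx

namespace Groth.Agent.S4486

open CategoryTheory CategoryTheory.Limits in
/-- For the homological functor T_p(M) = H_p(P ⊗_A M) of a chain complex P of flat modules over a
commutative ring A, which commutes with filtered colimits. Let A be a domain and suppose P_i = 0 for
i < i₀ and that every T_n(A) is a finitely presented A-module. Then for every integer N there is a
nonzero f ∈ A such that, for every p ≤ N, the functor of A_f-modules N ↦ H_p(P_f ⊗_{A_f} N), where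
P_f = P ⊗_A A_f, takes injections to injections and surjections to surjections. -/
theorem result {A : Type u} [CommRing A] [IsDomain A]
    (P : ChainComplex (ModuleCat.{u} A) ℤ) (hP : ∀ i, Module.Flat A (P.X i)) (i₀ : ℤ)
    (hb : ∀ i < i₀, IsZero (P.X i))
    (hfp : ∀ n : ℤ, Module.FinitePresentation A (CohIII.T P n (ModuleCat.of A A))) (N : ℤ) :
    ∃ f : A, f ≠ 0 ∧ ∀ p ≤ N,
      (CohIII.TFun (CohIII.bcCx (algebraMap A (Localization.Away f)) P) p).PreservesMonomorphisms ∧
        (CohIII.TFun (CohIII.bcCx (algebraMap A (Localization.Away f)) P) p).PreservesEpimorphisms := by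
  classical
  have hfpH : ∀ q, Module.FinitePresentation A (Groth.Agent.H12.FlatCx.HZ P q) := fun q => by
    haveI : Module.FinitePresentation A ((CohIII.TFun P q).obj (ModuleCat.of A A)) := hfp q
    exact Module.FinitePresentation.of_equiv (Groth.Agent.H12.FlatCx.TAEquiv' P q)
  let η : PrimeSpectrum A := ⟨⊥, Ideal.bot_prime⟩
  have hη : ∀ q, η ∈ Module.freeLocus A (Groth.Agent.H12.FlatCx.HZ P q) := fun q => by
    haveI : IsLocalization.AtPrime (FractionRing A) η.asIdeal := by
      show IsLocalization (⊥ : Ideal A).primeCompl (FractionRing A)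
      rw [Ideal.primeCompl_bot]
      infer_instance
    rw [Module.mem_freeLocus_iff_tensor η (FractionRing A)]
    infer_instance
  let U : Set (PrimeSpectrum A) :=
    ⋂ q ∈ Finset.Icc i₀ N, Module.freeLocus A (Groth.Agent.H12.FlatCx.HZ P q)
  have hUo : IsOpen U := isOpen_biInter_finset (fun q _ => by
    haveI := hfpH q
    exact Module.isOpen_freeLocus)
  have hηU : η ∈ U := Set.mem_iInter₂.mpr (fun q _ => hη q)
  obtain ⟨_, ⟨f, rfl⟩, hηf, hfU⟩ :=
    PrimeSpectrum.isTopologicalBasis_basic_opens.exists_subset_of_mem_open hηU hUo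
  refine ⟨f, ?_, ?_⟩
  · intro h0
    have h1 : f ∉ η.asIdeal := hηf
    apply h1
    rw [h0]
    exact Submodule.zero_mem _
  · have hW := Groth.Agent.H12.FlatCx.flatW_localization_away P hP i₀ hb N f (fun q h1 h2 => by
      haveI := hfpH q
      rw [← Module.basicOpen_subset_freeLocus_iff]
      exact fun x hx => (Set.mem_iInter₂.mp (hfU hx)) q (Finset.mem_Icc.mpr ⟨h1, h2⟩))
    exact (Groth.Agent.H12.FlatCx.exact_iff_flatW _
      (fun i => Groth.Agent.H12.FlatCx.flat_bcCx_X _ P i (hP i)) N).mpr hW

end Groth.Agent.S4486
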