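import Groth.Statements.S4488
import Groth.Agent.H12.FlatCxEW4
import Groth.Agent.H12.FlatCxReduced2

set_option autoImplicit false
universe u
open FlatCx

namespace Groth.Agent.S4488

open CategoryTheory CategoryTheory.Limits in
/-- For the homological functor T_q(M) = H_q(P ⊗_A M) of a chain complex P of flat modules over a
commutative local ring A with residue field k. Suppose P_i = 0 for i < i₀ and that every T_n(A) is a
finitely presented A-module, and let p be an integer. If T_q takes injections to injections and
surjections to surjections for every q ≤ p, then dim_{k(x)} T_q(k(x)) = dim_k T_q(k) for every point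
x of Spec A and every q ≤ p. Conversely, if A is reduced and this equality holds at the generic
point of every irreducible component of Spec A (every minimal prime) for every q ≤ p, then T_q takes
injections to injections and surjections to surjections for every q ≤ p. No Noetherian hypothesis on
A. -/
theorem result {A : Type u} [CommRing A] [IsLocalRing A]
    (P : ChainComplex (ModuleCat.{u} A) ℤ) (hP : ∀ i, Module.Flat A (P.X i)) (i₀ : ℤ)
    (hb : ∀ i < i₀, IsZero (P.X i))
    (hfp : ∀ n : ℤ, Module.FinitePresentation A (CohIII.T P n (ModuleCat.of A A))) (p : ℤ) :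
    ((∀ q ≤ p, (CohIII.TFun P q).PreservesMonomorphisms ∧ (CohIII.TFun P q).PreservesEpimorphisms) →
        ∀ (x : PrimeSpectrum A), ∀ q ≤ p, CohIII.dRank P q x = CohIII.dRank P q (IsLocalRing.closedPoint A)) ∧
      (IsReduced A →
        (∀ x : PrimeSpectrum A, x.asIdeal ∈ minimalPrimes A →
          ∀ q ≤ p, CohIII.dRank P q x = CohIII.dRank P q (IsLocalRing.closedPoint A)) →
        ∀ q ≤ p, (CohIII.TFun P q).PreservesMonomorphisms ∧ (CohIII.TFun P q).PreservesEpimorphisms) := by
  constructor
  · intro h x q hq
    have hF := (Groth.Agent.H12.FlatCx.exact_iff_flatW P hP p).mp h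
    have hW1 := hF (q - 1) (by omega)
    have hW := hF q hq
    haveI hflat : Module.Flat A (Groth.Agent.H12.FlatCx.HZ P q) :=
      (Groth.Agent.H12.FlatCx.flatW_iff_flat_HZ P hP q hW1).mp hW
    haveI hfpH : Module.FinitePresentation A (Groth.Agent.H12.FlatCx.HZ P q) :=
      Groth.Agent.H12.FlatCx.finitePresentation_HZ P hP q hW1 (hfp q)
    rw [Groth.Agent.H12.FlatCx.dRank_eq_fiberRank_HZ P hP q hW1 x,
      Groth.Agent.H12.FlatCx.dRank_eq_fiberRank_HZ P hP q hW1 (IsLocalRing.closedPoint A)]
    exact Groth.Agent.H12.FlatCx.fiberRank_eq_closedPoint_of_flat _ x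
  · intro hred h
    rw [Groth.Agent.H12.FlatCx.exact_iff_flatW P hP p]
    apply Groth.Agent.H12.FlatCx.flatW_of_forall P hP i₀ hb p
    intro q hq hW1
    haveI hfpH : Module.FinitePresentation A (Groth.Agent.H12.FlatCx.HZ P q) :=
      Groth.Agent.H12.FlatCx.finitePresentation_HZ P hP q hW1 (hfp q)
    have hfree : Module.Free A (Groth.Agent.H12.FlatCx.HZ P q) :=
      Groth.Agent.H12.FlatCx.free_of_fiberRank_eq _ (fun x hx => by
        rw [← Groth.Agent.H12.FlatCx.dRank_eq_fiberRank_HZ P hP q hW1 x,
          ← Groth.Agent.H12.FlatCx.dRank_eq_fiberRank_HZ P hP q hW1 (IsLocalRing.closedPoint A)]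
        exact h x hx q hq)
    infer_instance

end Groth.Agent.S4488
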