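import Groth.Statements.S4491
import Groth.Agent.H12.FlatCxLocal

set_option autoImplicit false
universe u
open FlatCx

namespace Groth.Agent.S4491

open TensorProduct in
theorem smul_inj (A : Type u) [CommRing A]
    (P : ChainComplex (ModuleCat.{u} A) ℤ) (hP : ∀ i, Module.Flat A (P.X i)) (p q : ℤ) (hpq : q + 1 = p)
    (hex : (CohIII.TFun P p).PreservesEpimorphisms) (M : ModuleCat.{u} A) (f : A)
    (hf : Function.Injective (fun x : M => f • x)) :
    Function.Injective (fun y : CohIII.T P q M => f • y) := by
  subst hpq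
  have hepi := (Groth.Agent.H12.FlatCx.preservesEpi_iff P (q + 1 + 1) (q + 1) q
    (ChainComplex.prev ℤ _) (by rw [ChainComplex.next]; ring)).mp hex
  have hmono := Groth.Agent.H12.FlatCx.monoAt_of_epiAt P (q + 1 + 1) (q + 1) q (q - 1) (hP _) hepi
  let e := Groth.Agent.H12.FlatCx.TEquiv P (q + 1) q (q - 1) (ChainComplex.prev ℤ _)
    (ChainComplex.next ℤ _) M
  have key : ∀ y : CohIII.T P q M, f • y = 0 → y = 0 := by
    intro y hy
    have h1 : f • e y = 0 := (map_smul e f y).symm.trans ((congrArg e hy).trans (map_zero e))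
    obtain ⟨z, hz⟩ := Submodule.Quotient.mk_surjective _ (e y)
    have h1' : (Submodule.Quotient.mk (f • z) : Groth.Agent.H12.FlatCx.Hm
        (Groth.Agent.H12.FlatCx.dT P M (q + 1) q) (Groth.Agent.H12.FlatCx.dT P M q (q - 1))
        (Groth.Agent.H12.FlatCx.dT_dT_apply P M (q + 1) q (q - 1))) = 0 := by
      rw [Submodule.Quotient.mk_smul, hz]; exact h1
    rw [Submodule.Quotient.mk_eq_zero] at h1'
    obtain ⟨u, hu⟩ := h1'
    have hu' : Groth.Agent.H12.FlatCx.dT P M (q + 1) q u = f • (z : (P.X q) ⊗[A] M) := by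
      have := congrArg Subtype.val hu
      simpa using this
    have hg : Function.Injective (LinearMap.lsmul A M f) := hf
    have hlt : (LinearMap.lsmul A M f).lTensor (P.X q) (z : (P.X q) ⊗[A] M) =
        f • (z : (P.X q) ⊗[A] M) := by
      have : LinearMap.lsmul A M f = f • LinearMap.id := by
        ext m; simp
      rw [this, LinearMap.lTensor_smul, LinearMap.lTensor_id]
      rfl
    obtain ⟨x₁, hx₁⟩ := hmono M M (LinearMap.lsmul A M f) hg (z : (P.X q) ⊗[A] M) z.2
      ⟨u, by rw [hlt, hu']⟩
    have hz0 : (Submodule.Quotient.mk z : Groth.Agent.H12.FlatCx.Hm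
        (Groth.Agent.H12.FlatCx.dT P M (q + 1) q) (Groth.Agent.H12.FlatCx.dT P M q (q - 1))
        (Groth.Agent.H12.FlatCx.dT_dT_apply P M (q + 1) q (q - 1))) = 0 := by
      rw [Submodule.Quotient.mk_eq_zero]
      exact ⟨x₁, Subtype.ext hx₁.symm⟩
    rw [hz0] at hz
    exact e.map_eq_zero_iff.mp hz.symm
  intro y₁ y₂ h
  have : f • (y₁ - y₂) = 0 := by
    rw [smul_sub]; exact sub_eq_zero.mpr h
  exact sub_eq_zero.mp (key _ this)


open CategoryTheory CategoryTheory.Limits in
/-- For the homological functor T_i(M) = H_i(P ⊗_A M) of a chain complex P of flat modules over a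
commutative ring A. Let q + 1 = p and suppose T_p takes surjections to surjections. If
multiplication by f ∈ A is injective on an A-module M, then multiplication by f is injective on
T_q(M). In particular, when A is a domain, T_q(A) is torsion-free. -/
theorem result {A : Type u} [CommRing A]
    (P : ChainComplex (ModuleCat.{u} A) ℤ) (hP : ∀ i, Module.Flat A (P.X i)) (p q : ℤ) (hpq : q + 1 = p)
    (hex : (CohIII.TFun P p).PreservesEpimorphisms) :
    (∀ (M : ModuleCat.{u} A) (f : A), Function.Injective (fun x : M => f • x) →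
        Function.Injective (fun y : CohIII.T P q M => f • y)) ∧
      (IsDomain A → NoZeroSMulDivisors A (CohIII.T P q (ModuleCat.of A A))) := by
  refine ⟨fun M f hf => smul_inj A P hP p q hpq hex M f hf, fun hdom => ?_⟩
  refine ⟨fun {c x} h => ?_⟩
  by_cases hc : c = 0
  · exact Or.inl hc
  · right
    have hinj : Function.Injective (fun a : (ModuleCat.of A A : ModuleCat.{u} A) => c • a) := by
      intro a b hab
      exact mul_left_cancel₀ hc hab
    have := smul_inj A P hP p q hpq hex (ModuleCat.of A A) c hinj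
    exact this (by simpa using h)

end Groth.Agent.S4491
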