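import Groth.Statements.S4492
import Mathlib.Algebra.Homology.ShortComplex.ModuleCat
import Mathlib.RingTheory.FiniteLength
import Mathlib.RingTheory.Artinian.Module

set_option autoImplicit false
universe u
open FlatCx

namespace Groth.Agent.S4492

open CategoryTheory CategoryTheory.Limits

section lin
variable {B : Type*} [Ring B] {X₁ X₂ X₃ : Type*} [AddCommGroup X₁] [AddCommGroup X₂] [AddCommGroup X₃]
  [Module B X₁] [Module B X₂] [Module B X₃]

theorem L0 (f : X₁ →ₗ[B] X₂) :
    Module.length B X₁ = Module.length B (LinearMap.ker f) + Module.length B (LinearMap.range f) :=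
  Module.length_eq_add_of_exact (LinearMap.ker f).subtype f.rangeRestrict
    (Submodule.subtype_injective _) f.surjective_rangeRestrict
    (by
      intro x
      constructor
      · intro hx
        have : f x = 0 := by simpa [Subtype.ext_iff] using hx
        exact ⟨⟨x, this⟩, rfl⟩
      · rintro ⟨y, rfl⟩
        ext
        simpa using y.2)

theorem L0' (N : Submodule B X₃) :
    Module.length B X₃ = Module.length B N + Module.length B (X₃ ⧸ N) :=
  Module.length_eq_add_of_exact N.subtype N.mkQ
    (Submodule.subtype_injective _) N.mkQ_surjective (LinearMap.exact_subtype_mkQ N)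

theorem L1 (f : X₁ →ₗ[B] X₂) (g : X₂ →ₗ[B] X₃) (hex : Function.Exact f g) :
    Module.length B X₂ ≤ Module.length B X₁ + Module.length B X₃ := by
  rw [L0 g, LinearMap.exact_iff.mp hex]
  refine add_le_add ?_ ?_
  · exact Module.length_le_of_surjective f.rangeRestrict f.surjective_rangeRestrict
  · exact Module.length_le_of_injective (LinearMap.range g).subtype (Submodule.subtype_injective _)

theorem L2 (f : X₁ →ₗ[B] X₂) (g : X₂ →ₗ[B] X₃) (hex : Function.Exact f g)
    (h1 : Module.length B X₁ ≠ ⊤) (h3 : Module.length B X₃ ≠ ⊤) :
    Module.length B X₂ = Module.length B X₁ + Module.length B X₃ ↔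
      Function.Injective f ∧ Function.Surjective g := by
  constructor
  · intro h
    have e2 := L0 g
    rw [LinearMap.exact_iff.mp hex] at e2
    have e1 := L0 f
    have e3 := L0' (LinearMap.range g)
    rw [e1] at h1
    rw [e3] at h3
    rw [e1, e3, e2] at h
    have hk : Module.length B (LinearMap.ker f) ≠ ⊤ := fun hh => h1 (by rw [hh, top_add])
    have hrf : Module.length B (LinearMap.range f) ≠ ⊤ := fun hh => h1 (by rw [hh, add_top])
    have hrg : Module.length B (LinearMap.range g) ≠ ⊤ := fun hh => h3 (by rw [hh, top_add])
    have hq : Module.length B (X₃ ⧸ LinearMap.range g) ≠ ⊤ := fun hh => h3 (by rw [hh, add_top])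
    lift Module.length B (LinearMap.ker f) to ℕ using hk with k hk'
    lift Module.length B (LinearMap.range f) to ℕ using hrf with rf hrf'
    lift Module.length B (LinearMap.range g) to ℕ using hrg with rg hrg'
    lift Module.length B (X₃ ⧸ LinearMap.range g) to ℕ using hq with q hq'
    norm_cast at h
    have hk0 : k = 0 := by omega
    have hq0 : q = 0 := by omega
    subst hk0 hq0
    have s1 : Subsingleton (LinearMap.ker f) := Module.length_eq_zero_iff.mp hk'.symm
    have s2 : Subsingleton (X₃ ⧸ LinearMap.range g) := Module.length_eq_zero_iff.mp hq'.symm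
    refine ⟨?_, ?_⟩
    · rw [← LinearMap.ker_eq_bot]
      exact Submodule.subsingleton_iff_eq_bot.mp s1
    · rw [← LinearMap.range_eq_top]
      exact Submodule.Quotient.subsingleton_iff.mp s2
  · rintro ⟨hi, hs⟩
    exact Module.length_eq_add_of_exact f g hi hs hex

end lin

theorem part1 {A B : Type u} [Ring A] [Ring B]
    (F : ModuleCat.{u} A ⥤ ModuleCat.{u} B) [F.Additive]
    (hF : ∀ S : ShortComplex (ModuleCat.{u} A), S.ShortExact → (S.map F).Exact)
    (hS : ∀ M : ModuleCat.{u} A, IsSimpleModule A M → Module.length B (F.obj M) ≠ ⊤) (n : ℕ) :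
    ∀ E : ModuleCat.{u} A, Module.length A E = n → Module.length B (F.obj E) ≠ ⊤ := by
  induction n using Nat.strong_induction_on with
  | _ n ih =>
    intro E hE
    rcases subsingleton_or_nontrivial E with hsub | hnt
    · have h0 : IsZero E := ModuleCat.isZero_of_subsingleton E
      have h1 : IsZero (F.obj E) := F.map_isZero h0
      have := ModuleCat.subsingleton_of_isZero h1
      rw [Module.length_eq_zero]
      simp
    · have hfin : IsFiniteLength A E :=
        Module.length_ne_top_iff.mp (by rw [hE]; exact ENat.natCast_ne_top n)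
      obtain ⟨_, _⟩ := isFiniteLength_iff_isNoetherian_isArtinian.mp hfin
      obtain ⟨N, hN⟩ := IsAtomic.exists_atom (Submodule A E)
      have hsimple : IsSimpleModule A N := isSimpleModule_iff_isAtom.mpr hN
      let S : ShortComplex (ModuleCat.{u} A) :=
        ShortComplex.mk (ModuleCat.ofHom N.subtype) (ModuleCat.ofHom N.mkQ) (by ext; simp)
      have hSE : S.ShortExact := ModuleCat.shortComplex_shortExact S
        (LinearMap.exact_subtype_mkQ N) N.subtype_injective N.mkQ_surjective
      have hlt : Module.length A (E ⧸ N) < Module.length A E :=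
        Submodule.length_quotient_lt N hN.1
      have hq : Module.length A (E ⧸ N) ≠ ⊤ := ne_top_of_lt hlt
      lift Module.length A (E ⧸ N) to ℕ using hq with m hm
      rw [hE] at hlt
      have hmn : m < n := by exact_mod_cast hlt
      have h3 : Module.length B (F.obj (ModuleCat.of A (E ⧸ N))) ≠ ⊤ :=
        ih m hmn (ModuleCat.of A (E ⧸ N)) hm.symm
      have h1 : Module.length B (F.obj (ModuleCat.of A N)) ≠ ⊤ := hS _ hsimple
      have hex := (ShortComplex.ShortExact.moduleCat_exact_iff_function_exact _).mp (hF S hSE)
      have hle := L1 (S.map F).f.hom (S.map F).g.hom hex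
      refine ne_top_of_le_ne_top ?_ hle
      exact WithTop.add_ne_top.mpr ⟨h1, h3⟩


open CategoryTheory CategoryTheory.Limits in
/-- (The published statement is for arbitrary abelian categories; this row is for functors between
module categories.) Let F be an additive functor from A-modules to B-modules which is half exact
(every short exact sequence 0 → E' → E → E'' → 0 goes to a sequence F(E') → F(E) → F(E'') exact at
the middle) and such that F(S) has finite length for every simple A-module S. Then F(E) has finite
length for every A-module E of finite length; and for every short exact sequence 0 → E' → E → E'' →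
0 of A-modules with E of finite length one has length F(E) ≤ length F(E') + length F(E''), with
equality if and only if 0 → F(E') → F(E) → F(E'') → 0 is (short) exact. Lengths are Mathlib's,
valued in ℕ∞. -/
theorem result {A B : Type u} [Ring A] [Ring B]
    (F : ModuleCat.{u} A ⥤ ModuleCat.{u} B) [F.Additive]
    (hF : ∀ S : ShortComplex (ModuleCat.{u} A), S.ShortExact → (S.map F).Exact)
    (hS : ∀ M : ModuleCat.{u} A, IsSimpleModule A M → Module.length B (F.obj M) ≠ ⊤) :
    (∀ E : ModuleCat.{u} A, Module.length A E ≠ ⊤ → Module.length B (F.obj E) ≠ ⊤) ∧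
      ∀ S : ShortComplex (ModuleCat.{u} A), S.ShortExact → Module.length A S.X₂ ≠ ⊤ →
        Module.length B (F.obj S.X₂) ≤ Module.length B (F.obj S.X₁) + Module.length B (F.obj S.X₃) ∧
          (Module.length B (F.obj S.X₂) = Module.length B (F.obj S.X₁) + Module.length B (F.obj S.X₃) ↔
            (S.map F).ShortExact) := by
  have h1 : ∀ E : ModuleCat.{u} A, Module.length A E ≠ ⊤ → Module.length B (F.obj E) ≠ ⊤ := by
    intro E hE
    obtain ⟨n, hn⟩ := ENat.ne_top_iff_exists.mp hE
    exact part1 F hF hS n E hn.symm
  refine ⟨h1, ?_⟩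
  intro S hSE hfin
  have hex := (ShortComplex.ShortExact.moduleCat_exact_iff_function_exact _).mp (hF S hSE)
  refine ⟨L1 (S.map F).f.hom (S.map F).g.hom hex, ?_⟩
  have hX1 : Module.length A S.X₁ ≠ ⊤ :=
    ne_top_of_le_ne_top hfin (Module.length_le_of_injective S.f.hom hSE.moduleCat_injective_f)
  have hX3 : Module.length A S.X₃ ≠ ⊤ :=
    ne_top_of_le_ne_top hfin (Module.length_le_of_surjective S.g.hom hSE.moduleCat_surjective_g)
  have key := L2 (S.map F).f.hom (S.map F).g.hom hex (h1 _ hX1) (h1 _ hX3)
  constructor
  · intro h
    obtain ⟨hi, hs⟩ := key.mp h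
    exact ModuleCat.shortComplex_shortExact _ hex hi hs
  · intro h
    exact key.mpr ⟨h.moduleCat_injective_f, h.moduleCat_surjective_g⟩

end Groth.Agent.S4492
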