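import Groth.Statements.S4495
import Mathlib.Topology.Sheaves.CommRingCat
import Mathlib.Topology.Connected.Clopen
import Mathlib.Algebra.Category.Ring.Constructions
import Mathlib.RingTheory.LocalRing.Basic

set_option autoImplicit false
universe u
open FlatCx

namespace Groth.Agent.S4495

open CategoryTheory AlgebraicGeometry Opposite TopologicalSpace

theorem subsingleton_of_eq_bot (Z : LocallyRingedSpace.{u}) (W : Opens Z) (hW : W = ⊥) :
    Subsingleton (Z.presheaf.obj (op W)) := by
  subst hW
  exact CommRingCat.subsingleton_of_isTerminal (Z.sheaf.isTerminalOfEmpty)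

theorem transport (Z : LocallyRingedSpace.{u}) (W : Opens Z) (hW : W = ⊤)
    (e' : Z.presheaf.obj (op W)) (he' : IsIdempotentElem e') :
    ∃ e : Z.presheaf.obj (op ⊤), IsIdempotentElem e ∧
      Z.presheaf.map (homOfLE (le_top : W ≤ ⊤)).op e = e' := by
  subst hW
  refine ⟨e', he', ?_⟩
  have : (homOfLE (le_top : (⊤ : Opens Z) ≤ ⊤)) = 𝟙 _ := rfl
  rw [this, op_id, Z.presheaf.map_id]
  rfl

theorem dir1 (Z : LocallyRingedSpace.{u}) [PreconnectedSpace Z]
    (e : Z.presheaf.obj (op ⊤)) (he : IsIdempotentElem e) : e = 0 ∨ e = 1 := by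
  have hmul : e * (1 - e) = 0 := by rw [mul_sub, mul_one, he.eq, sub_self]
  have hdisj : Z.toRingedSpace.basicOpen e ⊓ Z.toRingedSpace.basicOpen (1 - e) = ⊥ := by
    rw [← RingedSpace.basicOpen_mul, hmul]
    exact LocallyRingedSpace.basicOpen_zero Z ⊤
  have hcover : ∀ x : Z, x ∈ Z.toRingedSpace.basicOpen e ∨
      x ∈ Z.toRingedSpace.basicOpen (1 - e) := by
    intro x
    rw [RingedSpace.mem_top_basicOpen, RingedSpace.mem_top_basicOpen]
    have : Z.presheaf.Γgerm x e + Z.presheaf.Γgerm x (1 - e) = 1 := by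
      rw [← map_add]; simp
    exact IsLocalRing.isUnit_or_isUnit_of_add_one this
  have hpre := isPreconnected_univ (α := Z)
  by_cases hU : (Z.toRingedSpace.basicOpen e).carrier.Nonempty
  · by_cases hV : (Z.toRingedSpace.basicOpen (1 - e)).carrier.Nonempty
    · exfalso
      obtain ⟨x, -, hx⟩ := hpre (Z.toRingedSpace.basicOpen e).carrier
        (Z.toRingedSpace.basicOpen (1 - e)).carrier (Z.toRingedSpace.basicOpen e).isOpen
        (Z.toRingedSpace.basicOpen (1 - e)).isOpen (fun x _ => hcover x)
        (by simpa using hU) (by simpa using hV)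
      have : x ∈ (Z.toRingedSpace.basicOpen e ⊓ Z.toRingedSpace.basicOpen (1 - e)) := hx
      rw [hdisj] at this
      exact this
    · right
      have hall : ∀ x : Z, x ∈ Z.toRingedSpace.basicOpen e :=
        fun x => (hcover x).resolve_right (fun h => hV ⟨x, h⟩)
      have hunit : IsUnit e := by
        apply Z.toRingedSpace.isUnit_of_isUnit_germ
        intro x hx
        exact (Z.toRingedSpace.mem_basicOpen e x hx).mp (hall x)
      exact hunit.mul_left_cancel (by rw [he.eq, mul_one])
  · left
    have hall : ∀ x : Z, x ∈ Z.toRingedSpace.basicOpen (1 - e) :=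
      fun x => (hcover x).resolve_left (fun h => hU ⟨x, h⟩)
    have hunit : IsUnit (1 - e) := by
      apply Z.toRingedSpace.isUnit_of_isUnit_germ
      intro x hx
      exact (Z.toRingedSpace.mem_basicOpen (1 - e) x hx).mp (hall x)
    have : (1 - e) * e = (1 - e) * 0 := by rw [mul_comm, hmul, mul_zero]
    exact hunit.mul_left_cancel this

theorem dir2 (Z : LocallyRingedSpace.{u})
    (h : ∀ e : Z.presheaf.obj (op ⊤), IsIdempotentElem e → e = 0 ∨ e = 1) :
    PreconnectedSpace Z := by
  rw [preconnectedSpace_iff_clopen]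
  intro s hs
  let U : Opens Z := ⟨s, hs.isOpen⟩
  let V : Opens Z := ⟨sᶜ, hs.compl.isOpen⟩
  have hUV : U ⊓ V = ⊥ := by ext x; simp [U, V]
  have hsup : U ⊔ V = ⊤ := by ext x; simp [U, V]
  have hsub : Subsingleton (Z.presheaf.obj (op (U ⊓ V))) := subsingleton_of_eq_bot Z _ hUV
  let p : RingHom.eqLocus
      (RingHom.comp (Z.sheaf.obj.map (homOfLE inf_le_left : U ⊓ V ⟶ U).op).hom
        (RingHom.fst (Z.sheaf.obj.obj <| op U) (Z.sheaf.obj.obj <| op V)))
      (RingHom.comp (Z.sheaf.obj.map (homOfLE inf_le_right : U ⊓ V ⟶ V).op).hom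
        (RingHom.snd (Z.sheaf.obj.obj <| op U) (Z.sheaf.obj.obj <| op V))) :=
    ⟨(1, 0), Subsingleton.elim (α := Z.presheaf.obj (op (U ⊓ V))) _ _⟩
  have hp : IsIdempotentElem p := by
    apply Subtype.ext
    show ((1, 0) : _ × _) * (1, 0) = (1, 0)
    simp
  obtain ⟨e', he'def⟩ : ∃ e' : Z.presheaf.obj (op (U ⊔ V)),
      e' = (Z.sheaf.objSupIsoProdEqLocus U V).inv p := ⟨_, rfl⟩
  have he' : IsIdempotentElem e' := by
    rw [he'def]
    exact hp.map (Z.sheaf.objSupIsoProdEqLocus U V).inv.hom
  have h1 : Z.presheaf.map (homOfLE le_sup_left).op e' = 1 := by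
    rw [he'def]
    exact TopCat.Sheaf.objSupIsoProdEqLocus_inv_fst Z.sheaf U V p
  have h2 : Z.presheaf.map (homOfLE le_sup_right).op e' = 0 := by
    rw [he'def]
    exact TopCat.Sheaf.objSupIsoProdEqLocus_inv_snd Z.sheaf U V p
  obtain ⟨e, he, hee'⟩ := transport Z (U ⊔ V) hsup e' he'
  rcases h e he with h0 | h0
  · left
    have h0' : e' = 0 := by rw [← hee', h0, map_zero]
    have h1' : (0 : Z.presheaf.obj (op U)) = 1 := by rw [← h1, h0', map_zero]
    by_contra hne
    obtain ⟨x, hx⟩ := Set.nonempty_iff_ne_empty.mpr hne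
    have := @LocallyRingedSpace.component_nontrivial Z U ⟨⟨x, hx⟩⟩
    exact zero_ne_one h1'
  · right
    have h0' : e' = 1 := by rw [← hee', h0, map_one]
    have h2' : (1 : Z.presheaf.obj (op V)) = 0 := by rw [← h2, h0', map_one]
    by_contra hne
    have : (sᶜ : Set Z).Nonempty := by
      rw [Set.nonempty_compl]; exact hne
    obtain ⟨x, hx⟩ := this
    have := @LocallyRingedSpace.component_nontrivial Z V ⟨⟨x, hx⟩⟩
    exact one_ne_zero h2'


open CategoryTheory AlgebraicGeometry Opposite in
/-- A locally ringed space Z is connected, in the sense that it is not the disjoint union of two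
nonempty open subsets (the empty space being allowed), if and only if every idempotent of the ring
of global sections Γ(Z, O_Z) is 0 or 1 (equivalently, Γ(Z, O_Z) is not isomorphic to a product of
two nonzero rings). -/
theorem result (Z : LocallyRingedSpace.{u}) :
    PreconnectedSpace Z ↔
      ∀ e : Z.presheaf.obj (op ⊤), IsIdempotentElem e → e = 0 ∨ e = 1 := by
  constructor
  · intro h e he
    exact dir1 Z e he
  · exact dir2 Z

end Groth.Agent.S4495
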