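import Groth.Statements.S4496
import Groth.Agent.H12.FlatCxEW3

set_option autoImplicit false
universe u
open FlatCx

namespace Groth.Agent.S4496

open CategoryTheory CategoryTheory.Limits MonoidalCategory in
/-- For the homological functor T_p(M) = H_p(P ⊗_A M) of a chain complex P of flat modules over a
commutative ring A: T_p takes injections to injections and surjections to surjections if and only if
T_p is isomorphic to the functor M ↦ N ⊗_A M for some flat A-module N (which is then isomorphic to
T_p(A)). -/
theorem result {A : Type u} [CommRing A]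
    (P : ChainComplex (ModuleCat.{u} A) ℤ) (hP : ∀ i, Module.Flat A (P.X i)) (p : ℤ) :
    ((CohIII.TFun P p).PreservesMonomorphisms ∧ (CohIII.TFun P p).PreservesEpimorphisms) ↔
      ∃ N : ModuleCat.{u} A, Module.Flat A N ∧ Nonempty (CohIII.TFun P p ≅ tensorLeft N) := by
  constructor
  · rintro ⟨hm, he⟩
    have hW := (Groth.Agent.H12.FlatCx.preservesEpi_iff_flatW P hP p).mp he
    have e := (Groth.Agent.H12.FlatCx.tensorIsoZ P hP p hW).symm
    exact ⟨_, Groth.Agent.H12.FlatCx.flat_of_iso_tensorLeft e hm, ⟨e⟩⟩
  · rintro ⟨N, hN, ⟨e⟩⟩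
    haveI := hN
    exact ⟨Groth.Agent.H12.FlatCx.preservesMono_of_iso_tensorLeft e,
      Groth.Agent.H12.FlatCx.preservesEpi_of_iso_tensorLeft e⟩

end Groth.Agent.S4496
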