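import Groth.Statements.S4501
import Groth.Agent.H12.FlatCxLocus

set_option autoImplicit false
universe u
open FlatCx

namespace Groth.Agent.S4501

open CategoryTheory CategoryTheory.Limits in
/-- The case of finitely generated flat terms. Let A be a Noetherian domain, P a chain complex of
finitely generated flat A-modules, and for a prime y of A let P_y be the base change of P to the
local ring A_y. Then the set U of points y of Spec A such that the functor N ↦ H_p(P_y ⊗_{A_y} N) on
A_y-modules takes injections to injections and surjections to surjections is open and nonempty (it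
contains the generic point). -/
theorem result {A : Type u} [CommRing A] [IsNoetherianRing A] [IsDomain A]
    (P : ChainComplex (ModuleCat.{u} A) ℤ) (hP : ∀ i, Module.Finite A (P.X i) ∧ Module.Flat A (P.X i))
    (p : ℤ) :
    IsOpen {y : PrimeSpectrum A |
        (CohIII.TFun (CohIII.bcCx (algebraMap A (Localization.AtPrime y.asIdeal)) P) p).PreservesMonomorphisms ∧
          (CohIII.TFun (CohIII.bcCx (algebraMap A (Localization.AtPrime y.asIdeal)) P) p).PreservesEpimorphisms} ∧
      {y : PrimeSpectrum A |
        (CohIII.TFun (CohIII.bcCx (algebraMap A (Localization.AtPrime y.asIdeal)) P) p).PreservesMonomorphisms ∧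
          (CohIII.TFun (CohIII.bcCx (algebraMap A (Localization.AtPrime y.asIdeal)) P) p).PreservesEpimorphisms}.Nonempty := by
  have h : {y : PrimeSpectrum A |
      (CohIII.TFun (CohIII.bcCx (algebraMap A (Localization.AtPrime y.asIdeal)) P) p).PreservesMonomorphisms ∧
      (CohIII.TFun (CohIII.bcCx (algebraMap A (Localization.AtPrime y.asIdeal)) P) p).PreservesEpimorphisms} =
      Module.freeLocus A (Groth.Agent.H12.FlatCx.Wq P (p + 1) p) ∩
        Module.freeLocus A (Groth.Agent.H12.FlatCx.Wq P p (p - 1)) := by
    ext y
    rw [Set.mem_ofPred_eq, Groth.Agent.H12.FlatCx.preservesEpi_iff _ (p + 1) p (p - 1)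
      (ChainComplex.prev ℤ p) (ChainComplex.next ℤ p),
      Groth.Agent.H12.FlatCx.preservesMono_iff _ (p + 1) p (p - 1)
      (ChainComplex.prev ℤ p) (ChainComplex.next ℤ p),
      Groth.Agent.H12.FlatCx.epiAt_localization_iff P (p + 1) p (p - 1) (p - 1 - 1) (hP _).1
        (hP _).2 (hP _).2 y,
      Groth.Agent.H12.FlatCx.monoAt_localization_iff P (p + 1) p (p - 1) (hP _).1 (hP _).2 y]
    rfl
  rw [h]
  have := (hP (p - 1)).1
  have := (hP p).1
  have h1 : Module.FinitePresentation A (Groth.Agent.H12.FlatCx.Wq P p (p - 1)) :=
    Module.finitePresentation_of_finite A _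
  have h2 : Module.FinitePresentation A (Groth.Agent.H12.FlatCx.Wq P (p + 1) p) :=
    Module.finitePresentation_of_finite A _
  refine ⟨Module.isOpen_freeLocus.inter Module.isOpen_freeLocus, ⟨⟨⊥, Ideal.isPrime_bot⟩, ?_, ?_⟩⟩
  · have hloc : IsLocalization.AtPrime (FractionRing A) (⊥ : Ideal A) := by
      unfold IsLocalization.AtPrime
      rw [Ideal.primeCompl_bot]
      infer_instance
    rw [Module.mem_freeLocus_iff_tensor _ (FractionRing A)]
    exact Module.Free.of_divisionRing _ _
  · have hloc : IsLocalization.AtPrime (FractionRing A) (⊥ : Ideal A) := by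
      unfold IsLocalization.AtPrime
      rw [Ideal.primeCompl_bot]
      infer_instance
    rw [Module.mem_freeLocus_iff_tensor _ (FractionRing A)]
    exact Module.Free.of_divisionRing _ _

end Groth.Agent.S4501
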