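import Groth.Statements.S4503
import Mathlib.LinearAlgebra.TensorProduct.Basis
import Mathlib.CategoryTheory.Limits.Shapes.Products
import Mathlib.CategoryTheory.Limits.Preserves.Basic

set_option autoImplicit false
universe u
open FlatCx

namespace Groth.Agent.S4503

open CategoryTheory CategoryTheory.Limits TensorProduct

section
variable {A : Type u} [CommRing A] (T : ModuleCat.{u} A ⥤ ModuleCat.{u} A) [T.Additive] [T.Linear A]

noncomputable def θ (L : ModuleCat.{u} A) (x : L) : ModuleCat.of A A ⟶ L :=
  ModuleCat.ofHom ((LinearMap.ringLmapEquivSelf A A L).symm x)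

@[simp] theorem θ_apply (L : ModuleCat.{u} A) (x : L) (a : A) : (θ L x).hom a = a • x := by
  simp [θ]

theorem θ_one (L : ModuleCat.{u} A) (x : L) :
    (ModuleCat.Hom.hom (θ L x)) (1 : A) = x := by
  simp [θ]

noncomputable def tmap (L : ModuleCat.{u} A) :
    TensorProduct A (T.obj (ModuleCat.of A A)) L →ₗ[A] T.obj L :=
  TensorProduct.lift (LinearMap.flip
        ((ModuleCat.homLinearEquiv (S := A)).toLinearMap ∘ₗ Functor.mapLinearMap A T ∘ₗ
          (ModuleCat.homLinearEquiv (S := A)).symm.toLinearMap ∘ₗ
            (LinearMap.ringLmapEquivSelf A A L).symm.toLinearMap))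

theorem tmap_tmul (L : ModuleCat.{u} A) (y : T.obj (ModuleCat.of A A)) (x : L) :
    tmap T L (y ⊗ₜ x) = (T.map (θ L x)).hom y := by
  simp [tmap, θ]
  rfl

variable {L : ModuleCat.{u} A} {ι : Type u} (b : Module.Basis ι A L)

theorem hom_ext_basis {M : ModuleCat.{u} A} (m m' : L ⟶ M)
    (h : ∀ i, θ L (b i) ≫ m = θ L (b i) ≫ m') : m = m' := by
  ext : 1
  apply b.ext
  intro i
  have := congrArg (fun f => f.hom (1 : A)) (h i)
  simp only [ModuleCat.hom_comp, LinearMap.coe_comp, Function.comp_apply] at this
  erw [θ_one] at this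
  exact this

theorem fac_basis {M : ModuleCat.{u} A} (f : ι → (ModuleCat.of A A ⟶ M)) (j : ι) :
    θ L (b j) ≫ ModuleCat.ofHom (b.constr A (fun i => (f i).hom (1 : A))) = f j := by
  ext
  simp only [ModuleCat.hom_comp, ModuleCat.hom_ofHom, LinearMap.coe_comp, Function.comp_apply]
  erw [θ_one]
  simp

noncomputable def cof : Cofan (fun _ : ι => ModuleCat.of A A) :=
  Cofan.mk L (fun i => θ L (b i))

noncomputable def cofIsColimit : IsColimit (cof b) :=
  Cofan.IsColimit.mk _ (fun s => ModuleCat.ofHom (b.constr A (fun i => (s.inj i).hom (1 : A))))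
    (fun s j => fac_basis b (fun i => s.inj i) j)
    (fun s m h => hom_ext_basis b _ _ (fun i => (h i).trans (fac_basis b (fun i => s.inj i) i).symm))

noncomputable def ΦL : (ι →₀ T.obj (ModuleCat.of A A)) →ₗ[A] T.obj L :=
  Finsupp.lsum A (fun i => (T.map (θ L (b i))).hom)

theorem ΦL_surj [PreservesColimitsOfShape (Discrete ι) T] : Function.Surjective (ΦL T b) := by
  let hc' := isColimitOfPreserves T (cofIsColimit b)
  let R : Submodule A (T.obj L) := LinearMap.range (ΦL T b)
  have hq : ModuleCat.ofHom R.mkQ = 0 := by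
    apply hc'.hom_ext
    rintro ⟨i⟩
    ext y
    have hmem : (T.map (θ L (b i))).hom y ∈ R := ⟨Finsupp.single i y, by simp [ΦL]⟩
    have : R.mkQ ((T.map (θ L (b i))).hom y) = 0 := by
      rw [Submodule.mkQ_apply, Submodule.Quotient.mk_eq_zero]; exact hmem
    simpa [cof] using this
  intro z
  have : R.mkQ z = 0 := by
    have := congrArg (fun f => f.hom z) hq
    simpa using this
  rw [Submodule.mkQ_apply, Submodule.Quotient.mk_eq_zero] at this
  exact this

theorem ΦL_inj [PreservesColimitsOfShape (Discrete ι) T] : Function.Injective (ΦL T b) := by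
  classical
  let hc' := isColimitOfPreserves T (cofIsColimit b)
  rw [← LinearMap.ker_eq_bot, LinearMap.ker_eq_bot']
  intro y hy
  ext j
  let s : Cocone (Discrete.functor (fun _ : ι => ModuleCat.of A A) ⋙ T) :=
    { pt := T.obj (ModuleCat.of A A)
      ι := Discrete.natTrans (fun i =>
        (if i.as = j then 𝟙 (T.obj (ModuleCat.of A A)) else 0 :
          T.obj (ModuleCat.of A A) ⟶ T.obj (ModuleCat.of A A))) }
  obtain ⟨d, hd⟩ : ∃ d : T.obj L ⟶ T.obj (ModuleCat.of A A), ∀ i : ι, T.map (θ L (b i)) ≫ d =
      (if i = j then 𝟙 (T.obj (ModuleCat.of A A)) else 0) :=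
    ⟨hc'.desc s, fun i => hc'.fac s ⟨i⟩⟩
  have key : ∀ (i : ι) (m : T.obj (ModuleCat.of A A)),
      d.hom ((T.map (θ L (b i))).hom m) = if i = j then m else 0 := by
    intro i m
    have := congrArg (fun f => f.hom m) (hd i)
    simp only [ModuleCat.hom_comp, LinearMap.comp_apply] at this
    rw [this]
    split_ifs <;> simp
  have h2 : d.hom (ΦL T b y) = y j := by
    rw [ΦL, Finsupp.lsum_apply, Finsupp.sum, map_sum]
    simp_rw [key]
    rw [Finset.sum_ite_eq']
    split_ifs with hj
    · rfl
    · exact (by simpa using hj : y j = 0).symm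
  rw [hy, map_zero] at h2
  simpa using h2.symm

theorem tmap_eq (y : ι →₀ T.obj (ModuleCat.of A A)) [DecidableEq ι] :
    tmap T L ((TensorProduct.equivFinsuppOfBasisRight b).symm y) = ΦL T b y := by
  rw [TensorProduct.equivFinsuppOfBasisRight_symm_apply, map_finsuppSum, ΦL, Finsupp.lsum_apply]
  refine Finsupp.sum_congr fun i _ => ?_
  rw [tmap_tmul]

theorem tmap_bij (b : Module.Basis ι A L) [PreservesColimitsOfShape (Discrete ι) T] :
    Function.Bijective (tmap T L) := by
  classical
  let e := TensorProduct.equivFinsuppOfBasisRight (M := T.obj (ModuleCat.of A A)) b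
  constructor
  · intro w w' h
    have h1 : ΦL T b (e w) = ΦL T b (e w') := by
      rw [← tmap_eq, ← tmap_eq]
      simpa [e] using h
    exact e.injective (ΦL_inj T b h1)
  · intro z
    obtain ⟨y, hy⟩ := ΦL_surj T b z
    exact ⟨e.symm y, by rw [tmap_eq, hy]⟩

end


open CategoryTheory CategoryTheory.Limits in
/-- The case of A-linear functors (for commutative A, additive functors from A-modules to abelian groups
are the same as A-linear endofunctors of A-modules). Let T be an additive A-linear functor from
A-modules to A-modules commuting with arbitrary direct sums, and for an A-module M let t_M : T(A)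
⊗_A M → T(M) be the canonical map sending y ⊗ x to T(θ_x)(y), where θ_x : A → M is a ↦ a x. Then t_L
is bijective for every free A-module L. -/
theorem result {A : Type u} [CommRing A]
    (T : ModuleCat.{u} A ⥤ ModuleCat.{u} A) [T.Additive] [T.Linear A]
    [∀ J : Type u, PreservesColimitsOfShape (Discrete J) T] (L : ModuleCat.{u} A) [Module.Free A L] :
    Function.Bijective (TensorProduct.lift (LinearMap.flip
        ((ModuleCat.homLinearEquiv (S := A)).toLinearMap ∘ₗ Functor.mapLinearMap A T ∘ₗ
          (ModuleCat.homLinearEquiv (S := A)).symm.toLinearMap ∘ₗ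
            (LinearMap.ringLmapEquivSelf A A L).symm.toLinearMap)) :
      TensorProduct A (T.obj (ModuleCat.of A A)) L →ₗ[A] T.obj L) := by
  exact tmap_bij T (Module.Free.chooseBasis A L)

end Groth.Agent.S4503
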