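import Groth.Statements.S4504
import Groth.Agent.H12.EWT

set_option autoImplicit false
universe u
open FlatCx

namespace Groth.Agent.S4504

open CategoryTheory CategoryTheory.Limits in
/-- The case of A-linear functors (for commutative A, additive functors from A-modules to abelian groups
are the same as A-linear endofunctors of A-modules). Let T be an additive A-linear functor from
A-modules to A-modules commuting with arbitrary direct sums, and for an A-module M let t_M : T(A)
⊗_A M → T(M) be the canonical map sending y ⊗ x to T(θ_x)(y), θ_x : A → M being a ↦ a x. Then T is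
right exact (preserves finite colimits) if and only if t_M is bijective for every M; and also if and
only if T is half exact (sends short exact sequences to sequences exact at the middle) and t_M is
surjective for every M. -/
theorem result {A : Type u} [CommRing A]
    (T : ModuleCat.{u} A ⥤ ModuleCat.{u} A) [T.Additive] [T.Linear A]
    [∀ J : Type u, PreservesColimitsOfShape (Discrete J) T] :
    (PreservesFiniteColimits T ↔ ∀ M : ModuleCat.{u} A, Function.Bijective (TensorProduct.lift (LinearMap.flip
        ((ModuleCat.homLinearEquiv (S := A)).toLinearMap ∘ₗ Functor.mapLinearMap A T ∘ₗ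
          (ModuleCat.homLinearEquiv (S := A)).symm.toLinearMap ∘ₗ
            (LinearMap.ringLmapEquivSelf A A M).symm.toLinearMap)) :
      TensorProduct A (T.obj (ModuleCat.of A A)) M →ₗ[A] T.obj M)) ∧
    (PreservesFiniteColimits T ↔
      (∀ S : ShortComplex (ModuleCat.{u} A), S.ShortExact → (S.map T).Exact) ∧
        ∀ M : ModuleCat.{u} A, Function.Surjective (TensorProduct.lift (LinearMap.flip
        ((ModuleCat.homLinearEquiv (S := A)).toLinearMap ∘ₗ Functor.mapLinearMap A T ∘ₗ
          (ModuleCat.homLinearEquiv (S := A)).symm.toLinearMap ∘ₗ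
            (LinearMap.ringLmapEquivSelf A A M).symm.toLinearMap)) :
          TensorProduct A (T.obj (ModuleCat.of A A)) M →ₗ[A] T.obj M)) := by
  refine ⟨⟨fun h M => ?_, fun h => ?_⟩, ⟨fun h => ⟨?_, fun M => ?_⟩, fun h => ?_⟩⟩
  · haveI := h
    exact Groth.Agent.H12.EWT.tLin_bijective_of_preserves T M
  · exact Groth.Agent.H12.EWT.preserves_of_iso T _ (Groth.Agent.H12.EWT.isoOfBijective T h).symm
  · haveI := h
    exact (Groth.Agent.H12.EWT.halfExact_and_epi_of_preserves T).1
  · haveI := h
    exact (Groth.Agent.H12.EWT.tLin_bijective_of_preserves T M).2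
  · exact Groth.Agent.H12.EWT.preserves_of_iso T _ (Groth.Agent.H12.EWT.isoOfBijective T
      (fun M => ⟨Groth.Agent.H12.EWT.tLin_injective_of_halfExact T h.1 h.2 M, h.2 M⟩)).symm

end Groth.Agent.S4504
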