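import Groth.Statements.S4511
import Groth.Agent.H15.CoeffField
import Groth.Agent.H61.CotBasis
import Groth.Agent.H87.PowEval

set_option autoImplicit false
universe u
open EGA41

namespace Groth.Agent.S4511

/-- Equicharacteristic complete Noetherian local rings are quotients of power series rings over a
field, with kernel in the square of the maximal ideal. -/
theorem key (A : Type u) [CommRing A] [IsLocalRing A] [IsNoetherianRing A]
    [IsAdicComplete (IsLocalRing.maximalIdeal A) A] (K : Type u) [Field K] [Algebra K A]
    (hkR : Function.Surjective ((IsLocalRing.residue A).comp (algebraMap K A))) :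
    ∃ (n : ℕ) (f : MvPowerSeries (Fin n) K →+* A),
      Function.Surjective f ∧
        RingHom.ker f ≤ IsLocalRing.maximalIdeal (MvPowerSeries (Fin n) K) ^ 2 := by
  classical
  let b : Module.Basis (Fin (Module.finrank (IsLocalRing.ResidueField A)
      (IsLocalRing.CotangentSpace A))) (IsLocalRing.ResidueField A)
      (IsLocalRing.CotangentSpace A) := Module.finBasis _ _
  have hsurj : Function.Surjective (IsLocalRing.maximalIdeal A).toCotangent :=
    Ideal.toCotangent_surjective _
  choose t ht using fun i => hsurj (b i)
  obtain ⟨ψ, -, hψ2⟩ := Groth.Agent.H87.PowEval.exists_mvEvalₐ (IsLocalRing.maximalIdeal A)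
    (Algebra.ofId K A) (fun i => (t i : A)) (fun i => (t i).2)
  have hψ : ∀ i, ψ (MvPowerSeries.X i) ∈ IsLocalRing.maximalIdeal A := fun i => by
    rw [hψ2]; exact (t i).2
  have heq : (fun i => (IsLocalRing.maximalIdeal A).toCotangent ⟨ψ (MvPowerSeries.X i), hψ i⟩) =
      b := by
    funext i
    rw [← ht i]
    congr 1
    exact Subtype.ext (hψ2 i)
  have h1 : LinearIndependent (IsLocalRing.ResidueField A)
      (fun i => (IsLocalRing.maximalIdeal A).toCotangent ⟨ψ (MvPowerSeries.X i), hψ i⟩) := by
    rw [heq]; exact b.linearIndependent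
  have h2 : Submodule.span (IsLocalRing.ResidueField A) (Set.range
      (fun i => (IsLocalRing.maximalIdeal A).toCotangent ⟨ψ (MvPowerSeries.X i), hψ i⟩)) = ⊤ := by
    rw [heq]; exact b.span_eq
  exact ⟨_, ψ.toRingHom, Groth.Agent.H61.CotB.surjective_of_span K A hkR ψ hψ h2,
    Groth.Agent.H61.CotB.ker_le_of_linearIndependent K A hkR ψ hψ h1⟩

/-- A copy of the residue field, to avoid instance diamonds. -/
def KCopy (A : Type u) [CommRing A] [IsLocalRing A] : Type u := IsLocalRing.ResidueField A

noncomputable instance (A : Type u) [CommRing A] [IsLocalRing A] : Field (KCopy A) :=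
  inferInstanceAs (Field (IsLocalRing.ResidueField A))


open IsLocalRing in
/-- Let A be a complete Noetherian local ring whose residue field has characteristic p (p = 0 allowed).
The following are equivalent: (a) A contains a field, i.e. there is a ring homomorphism from a field
into A; (b) p·1 = 0 in A; (c) A is isomorphic to a quotient of a power series ring K[[T_1, …, T_n]]
over a field K. Moreover, when they hold, the surjection in (c) may be chosen with kernel contained
in the square of the maximal ideal of K[[T_1, …, T_n]]. -/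
theorem result (A : Type u) [CommRing A] [IsLocalRing A] [IsNoetherianRing A]
    [IsAdicComplete (maximalIdeal A) A] (p : ℕ) [CharP (ResidueField A) p] :
    [∃ (K : Type u) (_ : Field K), Nonempty (K →+* A),
     (p : A) = 0,
     ∃ (K : Type u) (_ : Field K) (n : ℕ) (f : MvPowerSeries (Fin n) K →+* A), Function.Surjective f].TFAE ∧
    ((p : A) = 0 → ∃ (K : Type u) (_ : Field K) (n : ℕ) (f : MvPowerSeries (Fin n) K →+* A),
      Function.Surjective f ∧ RingHom.ker f ≤ maximalIdeal (MvPowerSeries (Fin n) K) ^ 2) := by
  classical
  have key' : (p : A) = 0 → ∃ (K : Type u) (_ : Field K) (n : ℕ)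
      (f : MvPowerSeries (Fin n) K →+* A),
      Function.Surjective f ∧ RingHom.ker f ≤ maximalIdeal (MvPowerSeries (Fin n) K) ^ 2 := by
    intro hp0
    obtain ⟨s, hs⟩ := Groth.Agent.H15.CoeffField.exists_residue_section A p hp0
    let s' : KCopy A →+* A := s
    let _ : Algebra (KCopy A) A := s'.toAlgebra
    have hkR : Function.Surjective ((residue A).comp (algebraMap (KCopy A) A)) := by
      show Function.Surjective ((residue A).comp s)
      rw [hs]; exact Function.surjective_id
    obtain ⟨n, f, hf1, hf2⟩ := key A (KCopy A) hkR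
    exact ⟨KCopy A, inferInstance, n, f, hf1, hf2⟩
  refine ⟨?_, key'⟩
  tfae_have 1 → 2 := by
    rintro ⟨K, _, ⟨ι⟩⟩
    have hinj : Function.Injective ((residue A).comp ι) := RingHom.injective _
    have : CharP K p := RingHom.charP _ hinj p
    have h1 : ((p : ℕ) : K) = 0 := CharP.cast_eq_zero K p
    have h2 := congrArg ι h1
    rwa [map_natCast, map_zero] at h2
  tfae_have 2 → 3 := by
    intro hp0
    obtain ⟨K, hK, n, f, hf, -⟩ := key' hp0
    exact ⟨K, hK, n, f, hf⟩
  tfae_have 3 → 1 := by
    rintro ⟨K, hK, n, f, -⟩
    exact ⟨K, hK, ⟨f.comp MvPowerSeries.C⟩⟩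
  tfae_finish

end Groth.Agent.S4511
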