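import Groth.Statements.S4513
import Groth.Agent.H87.FSTower
import Groth.Agent.S4523

set_option autoImplicit false
set_option maxHeartbeats 400000
universe u
open EGA41

namespace Groth.Agent.S4513

open IsLocalRing in
/-- Let A be a Noetherian local ring and k a field mapping to A such that A is formally smooth over k
for the adic topology of its maximal ideal (k discrete). Then every field K with k → K → A
(compatible ring maps) is a separable extension of k, i.e. K is geometrically reduced over k. -/
theorem result {k A K : Type u} [Field k] [CommRing A]
    [IsLocalRing A] [IsNoetherianRing A] [Algebra k A] (h : CAlgX.IsAdicFormallySmooth k A (maximalIdeal A))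
    [Field K] [Algebra k K] [Algebra K A] [IsScalarTower k K A] :
    Algebra.IsGeometricallyReduced k K := by
  rw [(Groth.Agent.S4523.result (k := k) (K := K)).2]
  intro D
  let d : Derivation ℤ k (ResidueField A) :=
    (IsScalarTower.toAlgHom k K (ResidueField A)).toLinearMap.compDer D
  have hd : ∀ x, d x = algebraMap K (ResidueField A) (D x) := fun x => rfl
  obtain ⟨DA, hDA⟩ := Groth.Agent.H87.FSTower.exists_derivation_of_smooth h d
  obtain ⟨r, hr⟩ := LinearMap.exists_leftInverse_of_injective
    (Algebra.linearMap K (ResidueField A))
    (LinearMap.ker_eq_bot.2 (algebraMap K (ResidueField A)).injective)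
  have hr' : ∀ c : K, r (algebraMap K (ResidueField A) c) = c := fun c => LinearMap.congr_fun hr c
  refine ⟨r.compDer (DA.compAlgebraMap K), fun a => ?_⟩
  show r (DA (algebraMap K A (algebraMap k K a))) = D a
  rw [← IsScalarTower.algebraMap_apply, hDA, hd, hr']

end Groth.Agent.S4513
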