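import Groth.Statements.S4514
import Groth.Agent.H87.LiftMain
import Groth.Agent.H87.FibreEquiv
import Groth.Agent.Lead.CompleteNoetherian

set_option autoImplicit false
set_option maxHeartbeats 400000
universe u
open EGA41

namespace Groth.Agent.S4514

open IsLocalRing TensorProduct in
/-- Let A be a Noetherian local ring with residue field k, and let B₀ be a k-algebra which is a complete
regular local ring. Then there exist a complete Noetherian local ring B and a local homomorphism A →
B making B a flat A-module, such that B₀ is k-isomorphic to k ⊗_A B = B/𝔪B. -/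
theorem result {A : Type u} [CommRing A] [IsLocalRing A] [IsNoetherianRing A]
    (B₀ : Type u) [CommRing B₀] [IsRegularLocalRing B₀] [IsAdicComplete (maximalIdeal B₀) B₀]
    [Algebra (ResidueField A) B₀] :
    ∃ (B : Type u) (_ : CommRing B) (_ : IsLocalRing B) (_ : IsNoetherianRing B) (_ : Algebra A B)
      (_ : IsLocalHom (algebraMap A B)),
      IsAdicComplete (maximalIdeal B) B ∧ Module.Flat A B ∧
        Nonempty (ResidueField A ⊗[A] B ≃ₐ[ResidueField A] B₀) := by
  classical
  obtain ⟨Â, hÂ⟩ : ∃ Â : Type u, Â = AdicCompletion (maximalIdeal A) A := ⟨_, rfl⟩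
  subst hÂ
  haveI : IsNoetherianRing (AdicCompletion (maximalIdeal A) A) :=
    Groth.Agent.Lead.isNoetherianRing_adicCompletion (maximalIdeal A) (IsNoetherian.noetherian _)
  let ev : AdicCompletion (maximalIdeal A) A →+* ResidueField A :=
    (AdicCompletion.evalOneₐ (maximalIdeal A)).toRingHom
  have hev : Function.Surjective ev := AdicCompletion.evalOneₐ_surjective (maximalIdeal A)
  have hevA : ∀ a : A, ev (algebraMap A (AdicCompletion (maximalIdeal A) A) a) = residue A a :=
    fun a => (AdicCompletion.evalOneₐ (maximalIdeal A)).commutes a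
  letI : Algebra (AdicCompletion (maximalIdeal A) A) (ResidueField A) := ev.toAlgebra
  have hκ : Function.Surjective
      (algebraMap (AdicCompletion (maximalIdeal A) A) (ResidueField A)) := hev
  letI : Algebra (AdicCompletion (maximalIdeal A) A) B₀ :=
    ((algebraMap (ResidueField A) B₀).comp ev).toAlgebra
  haveI : IsScalarTower (AdicCompletion (maximalIdeal A) A) (ResidueField A) B₀ :=
    IsScalarTower.of_algebraMap_eq (fun _ => rfl)
  obtain ⟨T, _, _, _, hN, hC, hL, hF, ⟨ψ, hψ, hker⟩, -⟩ :=
    Groth.Agent.H87.LiftMain.exists_lift (A := AdicCompletion (maximalIdeal A) A)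
      (κ := ResidueField A) B₀ hκ
  letI : Algebra A T :=
    ((algebraMap (AdicCompletion (maximalIdeal A) A) T).comp
      (algebraMap A (AdicCompletion (maximalIdeal A) A))).toAlgebra
  haveI : IsScalarTower A (AdicCompletion (maximalIdeal A) A) T :=
    IsScalarTower.of_algebraMap_eq (fun _ => rfl)
  haveI : IsLocalHom (algebraMap A T) := by
    have : algebraMap A T = (algebraMap (AdicCompletion (maximalIdeal A) A) T).comp
      (algebraMap A (AdicCompletion (maximalIdeal A) A)) := rfl
    rw [this]
    exact RingHom.isLocalHom_comp _ _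
  have hflat : Module.Flat A T := Module.Flat.trans A (AdicCompletion (maximalIdeal A) A) T
  letI : Algebra A B₀ :=
    ((algebraMap (ResidueField A) B₀).comp (algebraMap A (ResidueField A))).toAlgebra
  haveI : IsScalarTower A (ResidueField A) B₀ := IsScalarTower.of_algebraMap_eq (fun _ => rfl)
  let ψA : T →ₐ[A] B₀ :=
    { toRingHom := ψ.toRingHom
      commutes' := fun a => by
        show ψ (algebraMap (AdicCompletion (maximalIdeal A) A) T
          (algebraMap A (AdicCompletion (maximalIdeal A) A) a)) = _
        rw [ψ.commutes]
        show algebraMap (ResidueField A) B₀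
          (ev (algebraMap A (AdicCompletion (maximalIdeal A) A) a)) = _
        rw [hevA]
        rfl }
  have hkerA : RingHom.ker ψA.toRingHom = (maximalIdeal A).map (algebraMap A T) := by
    have h1 : RingHom.ker ψA.toRingHom = RingHom.ker ψ.toRingHom := rfl
    rw [h1, hker, AdicCompletion.maximalIdeal_eq_map, Ideal.map_map]
    rfl
  refine ⟨T, inferInstance, inferInstance, hN, inferInstance, inferInstance, hC, hflat, ?_⟩
  exact Groth.Agent.H87.FibreEquiv.tensor_equiv (A := A) (κ := ResidueField A)
    residue_surjective (fun a ha => by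
      rw [ResidueField.algebraMap_eq]; exact (residue_eq_zero_iff a).2 ha) ψA hψ hkerA

end Groth.Agent.S4514
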