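import Groth.Statements.S4515
import Mathlib.RingTheory.AdicCompletion.Functoriality
import Mathlib.RingTheory.Flat.EquationalCriterion

set_option autoImplicit false
universe u
open EGA41

namespace Groth.Agent.S4515

theorem ker_inf {A : Type u} [CommRing A] (J : Ideal A)
    {M N : Type u} [AddCommGroup M] [Module A M] [AddCommGroup N] [Module A N]
    [Module.Flat A M] (u : N →ₗ[A] M) (hu : Function.Surjective u) :
    ∀ n ∈ LinearMap.ker u, n ∈ (J • ⊤ : Submodule A N) → n ∈ J • LinearMap.ker u := by
  classical
  intro n hn hnJ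
  have h0 : n ∈ J • Submodule.span A (Set.range (fun x : N => x)) := by simpa using hnJ
  obtain ⟨a, haJ, hsum⟩ := (Submodule.mem_ideal_smul_span_iff_exists_sum J (fun x : N => x) n).mp h0
  have hrel : ∑ i : a.support, a i • u i = 0 := by
    have h1 : u n = 0 := LinearMap.mem_ker.mp hn
    have h2 : ∑ i : a.support, a i • u i = ∑ x ∈ a.support, a x • u x :=
      Finset.sum_coe_sort a.support (fun x => a x • u x)
    rw [h2, ← h1, ← hsum, Finsupp.sum, map_sum]
    apply Finset.sum_congr rfl
    intro i _
    exact (map_smul u (a i) (i : N)).symm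
  obtain ⟨k, b, y, hy, hb⟩ := Module.Flat.isTrivialRelation_of_sum_smul_eq_zero hrel
  choose z hz using fun j => hu (y j)
  have hk : ∀ i : a.support, (i : N) - ∑ j, b i j • z j ∈ LinearMap.ker u := by
    intro i
    have hyi : u (i : N) = ∑ j, b i j • y j := hy i
    rw [LinearMap.mem_ker, map_sub, map_sum, hyi, sub_eq_zero]
    refine Finset.sum_congr rfl fun j _ => ?_
    rw [map_smul, hz]
  have hn' : n = ∑ i : a.support, a i • ((i : N) - ∑ j, b i j • z j) := by
    have e1 : ∑ i : a.support, a i • ((i : N) - ∑ j, b i j • z j) =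
        ∑ i : a.support, a i • (i : N) - ∑ j, (∑ i : a.support, a i * b i j) • z j := by
      simp_rw [smul_sub, Finset.sum_sub_distrib, Finset.smul_sum, Finset.sum_smul, smul_smul]
      rw [Finset.sum_comm]
    rw [e1]
    have hb' : ∀ j, (∑ i : a.support, a i * b i j) = 0 := hb
    simp_rw [hb', zero_smul, Finset.sum_const_zero, sub_zero]
    rw [← hsum, Finsupp.sum]
    exact (Finset.sum_coe_sort a.support (fun x => a x • x)).symm
  rw [hn']
  exact Submodule.sum_mem _ fun i _ => Submodule.smul_mem_smul (haJ i) (hk i)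

theorem aux {A : Type u} [CommRing A] (J : Ideal A)
    {M N : Type u} [AddCommGroup M] [Module A M] [AddCommGroup N] [Module A N]
    [IsHausdorff J M] [IsAdicComplete J N] [Module.Flat A M] (u : N →ₗ[A] M)
    (hsurj : ∀ m : M, ∃ n : N, m - u n ∈ (J • ⊤ : Submodule A M))
    (hinj : ∀ n : N, u n ∈ (J • ⊤ : Submodule A M) → n ∈ (J • ⊤ : Submodule A N)) :
    Function.Bijective u := by
  have hs : Function.Surjective u := by
    apply surjective_of_mkQ_comp_surjective (I := J)
    intro q
    obtain ⟨m, rfl⟩ := Submodule.mkQ_surjective _ q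
    obtain ⟨n, hn⟩ := hsurj m
    refine ⟨n, ?_⟩
    simp only [LinearMap.coe_comp, Function.comp_apply, Submodule.mkQ_apply]
    rw [eq_comm, Submodule.Quotient.eq]
    exact hn
  refine ⟨?_, hs⟩
  rw [← LinearMap.ker_eq_bot, eq_bot_iff]
  have hK : LinearMap.ker u ≤ J • LinearMap.ker u := by
    intro n hn
    apply ker_inf J u hs n hn
    apply hinj
    rw [LinearMap.mem_ker.mp hn]
    exact Submodule.zero_mem _
  have hpow : ∀ k : ℕ, LinearMap.ker u ≤ (J ^ k • ⊤ : Submodule A N) := by
    intro k
    induction k with
    | zero => simp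
    | succ k ih =>
      calc LinearMap.ker u ≤ J • LinearMap.ker u := hK
        _ ≤ J • (J ^ k • ⊤ : Submodule A N) := Submodule.smul_mono le_rfl ih
        _ = (J ^ (k + 1) • ⊤ : Submodule A N) := by rw [← Submodule.mul_smul, ← pow_succ']
  intro n hn
  have : n = 0 := IsHausdorff.haus' (I := J) n fun k => by
    rw [SModEq.zero]
    exact hpow k hn
  rw [this]
  exact Submodule.zero_mem _


/-- Let A be a ring, J an ideal of A, and M, N two A-modules which are Hausdorff for the J-adic
topology; suppose moreover that N is J-adically complete and M is flat. Let u : N → M be A-linear.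
If the induced map N/JN → M/JM is bijective (surjectivity and injectivity written out below), then u
is bijective. -/
theorem result {A : Type u} [CommRing A] (J : Ideal A)
    {M N : Type u} [AddCommGroup M] [Module A M] [AddCommGroup N] [Module A N]
    [IsHausdorff J M] [IsAdicComplete J N] [Module.Flat A M] (u : N →ₗ[A] M)
    (hsurj : ∀ m : M, ∃ n : N, m - u n ∈ (J • ⊤ : Submodule A M))
    (hinj : ∀ n : N, u n ∈ (J • ⊤ : Submodule A M) → n ∈ (J • ⊤ : Submodule A N)) :
    Function.Bijective u := by
  exact aux J u hsurj hinj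

end Groth.Agent.S4515
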