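import Groth.Statements.S4517
import Mathlib.Algebra.CharP.Lemmas
import Mathlib.RingTheory.Nilpotent.Lemmas
import Mathlib.RingTheory.Nilpotent.Basic
import Mathlib.Algebra.CharP.Basic

set_option autoImplicit false
universe u
open EGA41

namespace Groth.Agent.S4517

open TensorProduct in
theorem aux (p : ℕ) [Fact p.Prime] {A B : Type u}
    [CommRing A] [CommRing B] [Algebra A B] [CharP B p] (s : ℕ)
    (hpow : ∀ b : B, b ^ p ^ s ∈ Set.range (algebraMap A B)) :
    ∀ x ∈ KaehlerDifferential.ideal A B, IsNilpotent x := by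
  intro x hx
  rcases subsingleton_or_nontrivial (B ⊗[A] B) with hsub | hnt
  · rw [Subsingleton.elim x 0]; exact IsNilpotent.zero
  · have hp0 : ((p : ℕ) : B ⊗[A] B) = 0 := by
      have h1 : ((p : ℕ) : B) = 0 := CharP.cast_eq_zero B p
      rw [← map_natCast (algebraMap B (B ⊗[A] B)) p, h1, map_zero]
    have hchar : ringChar (B ⊗[A] B) = p :=
      CharP.ringChar_of_prime_eq_zero (Fact.out : p.Prime) hp0
    have : CharP (B ⊗[A] B) p := hchar ▸ ringChar.charP _
    rw [← KaehlerDifferential.span_range_eq_ideal] at hx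
    have hle : Ideal.span (Set.range fun b : B => (1 : B) ⊗ₜ[A] b - b ⊗ₜ[A] (1 : B)) ≤
        nilradical (B ⊗[A] B) := by
      rw [Ideal.span_le]
      rintro _ ⟨b, rfl⟩
      obtain ⟨a, ha⟩ := hpow b
      refine ⟨p ^ s, ?_⟩
      show _ = (0 : B ⊗[A] B)
      rw [sub_pow_char_pow, Algebra.TensorProduct.tmul_pow, Algebra.TensorProduct.tmul_pow,
        one_pow, ← ha,
        Algebra.algebraMap_eq_smul_one, TensorProduct.tmul_smul, TensorProduct.smul_tmul', sub_self]
    exact hle hx

/-- Let p be a prime, B an A-algebra of characteristic p, and suppose there is s ≥ 0 such that b^(p^s)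
lies in the image of A for every b ∈ B. Then the kernel of the multiplication map B ⊗_A B → B is a
nil ideal. -/
theorem result (p : ℕ) [Fact p.Prime] {A B : Type u}
    [CommRing A] [CommRing B] [Algebra A B] [CharP B p] (s : ℕ)
    (hpow : ∀ b : B, b ^ p ^ s ∈ Set.range (algebraMap A B)) :
    ∀ x ∈ KaehlerDifferential.ideal A B, IsNilpotent x := by
  exact aux p s hpow

end Groth.Agent.S4517
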