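import Groth.Statements.S4518
import Groth.Agent.H44.PBasisTower
open Groth.Agent.H44.PBasis

set_option autoImplicit false
universe u
open EGA41

namespace Groth.Agent.S4518

/-- Let p be a prime and A → C → B rings of characteristic p with C → B injective and every p-th power
of B in the image of A (so, identifying, B^p ⊆ A ⊆ C ⊆ B up to replacing A by its image); let x be a
family of elements of C and y a family of elements of B. (i) If x is a system of p-generators of C
over A and y one of B over C, then the family obtained by putting x (viewed in B) and y together is
a system of p-generators of B over A. (ii) If x is a p-basis of C over A, then y is p-independent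
over C if and only if the combined family is p-independent over A. (The published statement only
asks B^p ⊆ C and reduces to B^p ⊆ A by enlarging A to A[B^p]; but p-independence of x in C over A
refers to A[C^p], which can be smaller than A[B^p] — for A = 𝔽_p, C = 𝔽_p(t^p) ⊂ B = 𝔽_p(t), x =
(t^p), y = (t), x is a p-basis of C over A and y is p-independent over C while (t^p, t) is not
p-independent over A — so this row assumes B^p ⊆ A, the case the published proof treats.) -/
theorem result (p : ℕ) [Fact p.Prime] {A C B : Type u} [CommRing A] [CommRing C]
    [CommRing B] [Algebra A C] [Algebra C B] [Algebra A B] [IsScalarTower A C B] [CharP B p]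
    (hinj : Function.Injective (algebraMap C B)) (hpow : ∀ b : B, b ^ p ∈ Set.range (algebraMap A B))
    {ι κ : Type u} (x : ι → C) (y : κ → B) :
    (EGA41.IsPGenerating p A x → EGA41.IsPGenerating p C y →
      EGA41.IsPGenerating p A (Sum.elim (fun i => algebraMap C B (x i)) y)) ∧
    (EGA41.IsPBasis p A x →
      (EGA41.IsPIndependent p C y ↔ EGA41.IsPIndependent p A (Sum.elim (fun i => algebraMap C B (x i)) y))) := by
  classical
  have hpP : p.Prime := Fact.out
  have : CharP C p := RingHom.charP (algebraMap C B) hinj p
  have hpow' : ∀ b : B, b ^ p ∈ Set.range (algebraMap C B) := by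
    intro b
    obtain ⟨a, ha⟩ := hpow b
    exact ⟨algebraMap A C a, by rw [← IsScalarTower.algebraMap_apply, ha]⟩
  constructor
  · intro hx hy
    rw [isPGenerating_iff_adjoin] at hx hy ⊢
    have key : ∀ c : C, algebraMap C B c ∈
        Algebra.adjoin (EGA41.pPowerSubalgebra p A B)
          (Set.range (Sum.elim (fun i => algebraMap C B (x i)) y)) := by
      intro c
      have hc : c ∈ Algebra.adjoin (EGA41.pPowerSubalgebra p A C) (Set.range x) := by
        rw [hx]; trivial
      induction hc using Algebra.adjoin_induction with
      | mem c hc =>
        obtain ⟨i, rfl⟩ := hc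
        exact Algebra.subset_adjoin ⟨Sum.inl i, rfl⟩
      | algebraMap r =>
        have : algebraMap C B (algebraMap (EGA41.pPowerSubalgebra p A C) C r) =
            algebraMap (EGA41.pPowerSubalgebra p A B) B
              ⟨algebraMap C B r, map_mem_pPower p r.2⟩ := rfl
        rw [this]
        exact Subalgebra.algebraMap_mem _ _
      | add c d _ _ hc hd => rw [map_add]; exact add_mem hc hd
      | mul c d _ _ hc hd => rw [map_mul]; exact mul_mem hc hd
    rw [eq_top_iff]
    intro b hb0
    clear hb0
    have hb : b ∈ Algebra.adjoin (EGA41.pPowerSubalgebra p C B) (Set.range y) := by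
      rw [hy]; trivial
    clear hy hx
    induction hb using Algebra.adjoin_induction with
    | mem b hb =>
      obtain ⟨k, rfl⟩ := hb
      exact Algebra.subset_adjoin ⟨Sum.inr k, rfl⟩
    | algebraMap r =>
      obtain ⟨c, hc⟩ := exists_algebraMap_eq_of_pow_mem_range p hpow' r
      have : algebraMap (EGA41.pPowerSubalgebra p C B) B r = algebraMap C B c := hc.symm
      rw [this]
      exact key c
    | add c d _ _ hc hd => exact add_mem hc hd
    | mul c d _ _ hc hd => exact mul_mem hc hd
  · rintro ⟨hxi, hxg⟩
    have hxi' : LinearIndependent (EGA41.pPowerSubalgebra p A C) (redMono p x) := hxi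
    have hxg' : Submodule.span (EGA41.pPowerSubalgebra p A C) (Set.range (redMono p x)) = ⊤ := hxg
    constructor
    · intro hy
      have h1 : LinearIndependent C (redMono p y) := linearIndependent_of_isPIndependent p y hinj hy
      have h2 := linearIndependent_smul hxi' h1
      have h3 : LinearIndependent (EGA41.pPowerSubalgebra p A C)
          (redMono p (Sum.elim (fun i => algebraMap C B (x i)) y)) :=
        (linearIndependent_redMono_sumElim_iff p x y).mpr h2
      show LinearIndependent (EGA41.pPowerSubalgebra p A B)
          (redMono p (Sum.elim (fun i => algebraMap C B (x i)) y))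
      refine linearIndependent_of_forall_exists ?_ h3
      intro c''
      obtain ⟨a, ha⟩ := exists_algebraMap_eq_of_pow_mem_range p hpow c''
      refine ⟨algebraMap A (EGA41.pPowerSubalgebra p A C) a, fun m => ?_, fun h0 => ?_⟩
      · show (algebraMap A C a) • m = (c'' : B) • m
        rw [← ha, Algebra.smul_def, smul_eq_mul, ← IsScalarTower.algebraMap_apply]
      · have h0' : algebraMap A C a = 0 := congrArg Subtype.val h0
        apply Subtype.ext
        rw [← ha, IsScalarTower.algebraMap_apply A C B, h0', map_zero]
        rfl
    · intro hz
      have hz' : LinearIndependent (EGA41.pPowerSubalgebra p A B)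
          (redMono p (Sum.elim (fun i => algebraMap C B (x i)) y)) := hz
      have h3 : LinearIndependent (EGA41.pPowerSubalgebra p A C)
          (redMono p (Sum.elim (fun i => algebraMap C B (x i)) y)) := by
        refine linearIndependent_of_forall_exists ?_ hz'
        intro r
        refine ⟨⟨algebraMap C B r, map_mem_pPower p r.2⟩, fun m => ?_, fun h0 => ?_⟩
        · show algebraMap C B r * m = (r : C) • m
          rw [Algebra.smul_def]
        · have h0' : algebraMap C B r = 0 := congrArg Subtype.val h0
          apply Subtype.ext
          apply hinj
          rw [h0']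
          simp
      have h2 := (linearIndependent_redMono_sumElim_iff p x y).mp h3
      have h1 : LinearIndependent C (redMono p y) := linearIndependent_of_smul_of_span hxg' h2
      show LinearIndependent (EGA41.pPowerSubalgebra p C B) (redMono p y)
      refine linearIndependent_of_forall_exists ?_ h1
      intro c'
      obtain ⟨c, hc⟩ := exists_algebraMap_eq_of_pow_mem_range p hpow' c'
      refine ⟨c, fun m => ?_, fun h0 => ?_⟩
      · show c • m = (c' : B) • m
        rw [← hc, Algebra.smul_def, smul_eq_mul]
      · apply Subtype.ext
        rw [← hc, h0, map_zero]
        rfl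

end Groth.Agent.S4518
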