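import Groth.Statements.S4519
import Groth.Agent.H44.PBasis

set_option autoImplicit false
universe u
open EGA41

namespace Groth.Agent.S4519

/-- Let p be a prime, B a ring of characteristic p and A a subring of B with B^p ⊆ A (here: A → B
injective with every p-th power in its image; R → A → B with the image of R in B equal to the set of
p-th powers, so that R stands for B^p). If B admits a p-basis over A, then B is a formally smooth
A-algebra relative to R for the discrete topologies (square-zero liftings, as in the prelude's
relative notion). -/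
theorem result (p : ℕ) [Fact p.Prime] {R A B : Type u} [CommRing R] [CommRing A]
    [CommRing B] [Algebra R A] [Algebra A B] [Algebra R B] [IsScalarTower R A B] [CharP B p]
    (hinj : Function.Injective (algebraMap A B)) (hpow : ∀ b : B, b ^ p ∈ Set.range (algebraMap A B))
    (hR : Set.range (algebraMap R B) = Set.range fun b : B => b ^ p)
    {ι : Type u} (x : ι → B) (hx : EGA41.IsPBasis p A x) :
    EGA41.IsFormallySmoothRel R A B := by
  classical
  have hp : p.Prime := Fact.out
  have hli := Groth.Agent.H44.PBasis.linearIndependent_of_isPIndependent p x hinj hx.1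
  have hsp := Groth.Agent.H44.PBasis.span_eq_top_of_isPGenerating p x hpow hx.2
  choose a ha using fun i => hpow (x i)
  intro C _ _ _ _ J hJ u₀ hu
  obtain ⟨u, hu⟩ := hu
  have hr : ∀ i, ∃ r : R, algebraMap R B r = x i ^ p := fun i => by
    have : x i ^ p ∈ Set.range (algebraMap R B) := by
      rw [hR]
      exact ⟨x i, rfl⟩
    exact this
  choose r hr using hr
  have har : ∀ i, a i = algebraMap R A (r i) := fun i => by
    apply hinj
    rw [ha i, ← hr i, IsScalarTower.algebraMap_apply R A B]
  have hz : ∀ i, u (x i) ^ p = algebraMap A C (a i) := fun i => by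
    rw [← map_pow, ← hr i, AlgHom.commutes, har i, ← IsScalarTower.algebraMap_apply R A C]
  obtain ⟨v₀, ⟨hv1, hv2⟩, -⟩ := Groth.Agent.H44.PBasis.existsUnique_ringHom hp.pos x a ha hli hsp
    (algebraMap A C) (fun i => u (x i)) hz
  let v : B →ₐ[A] C := { v₀ with commutes' := fun s => RingHom.congr_fun hv1 s }
  have hvv : ∀ b, v b = v₀ b := fun b => rfl
  refine ⟨v, ?_⟩
  have hz' : ∀ i, u₀ (x i) ^ p = algebraMap A (C ⧸ J) (a i) := fun i => by
    rw [← map_pow, ← ha i, AlgHom.commutes]
  obtain ⟨w, -, hwuniq⟩ := Groth.Agent.H44.PBasis.existsUnique_ringHom hp.pos x a ha hli hsp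
    (algebraMap A (C ⧸ J)) (fun i => u₀ (x i)) hz'
  have hu' : ∀ b, Ideal.Quotient.mk J (u b) = u₀ b := fun b => by
    have := congrArg (fun h => h b) hu
    simpa using this
  have h1 : ((Ideal.Quotient.mkₐ A J).comp v).toRingHom = w :=
    hwuniq _ ⟨RingHom.ext fun s => by simp, fun i => by
      show Ideal.Quotient.mk J (v (x i)) = u₀ (x i)
      rw [hvv, hv2, hu']⟩
  have h2 : u₀.toRingHom = w := hwuniq _ ⟨RingHom.ext fun s => by simp, fun i => rfl⟩
  ext b
  have := RingHom.congr_fun (h1.trans h2.symm) b
  simpa using this

end Groth.Agent.S4519
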