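import Groth.Statements.S4520
import Groth.Agent.H44.PBasisAbs
open Groth.Agent.H44.PBasis

set_option autoImplicit false
universe u
open EGA41

namespace Groth.Agent.S4520

open TensorProduct in
/-- Let p be a prime, B a reduced ring of characteristic p, A a subring with B^p ⊆ A ⊆ B (here A → B
injective with all p-th powers in its image, and R → A → B with image in B the set of p-th powers, R
standing for B^p). Suppose B has a p-basis (x_λ) over A and A has a p-basis over R, and let x'_λ ∈ A
map to x_λ^p. Then the elements 1 ⊗ d_{A/ℤ}(x'_λ) form a basis of the B-module Υ_{B/A}, the kernel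
of B ⊗_A Ω_{A/ℤ} → Ω_{B/ℤ}. (The published statement also identifies Υ_{B/A} with the Frobenius
twist of Ω_{B/A}; this row states only the basis.) -/
theorem result (p : ℕ) [Fact p.Prime] {R A B : Type u} [CommRing R] [CommRing A]
    [CommRing B] [IsReduced B] [Algebra R A] [Algebra A B] [Algebra R B] [IsScalarTower R A B] [CharP B p]
    (hinj : Function.Injective (algebraMap A B)) (hpow : ∀ b : B, b ^ p ∈ Set.range (algebraMap A B))
    (hR : Set.range (algebraMap R B) = Set.range fun b : B => b ^ p)
    {Λ M : Type u} (x : Λ → B) (hx : EGA41.IsPBasis p A x) (x' : Λ → A) (hx' : ∀ i, algebraMap A B (x' i) = x i ^ p)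
    (y : M → A) (hy : EGA41.IsPBasis p R y) :
    ∃ b : Module.Basis Λ B (EGA41.imperfection ℤ A B),
      ∀ i, (b i : B ⊗[A] Ω[A⁄ℤ]) = (1 : B) ⊗ₜ[A] KaehlerDifferential.D ℤ A (x' i) := by
  classical
  have hpP : p.Prime := Fact.out
  have : CharP A p := RingHom.charP (algebraMap A B) hinj p
  have hpA : (p : A) = 0 := CharP.cast_eq_zero A p
  have hpB : (p : B) = 0 := CharP.cast_eq_zero B p
  let φ : B →+* A := frobRoot p hinj hpow
  have hφ1 : ∀ b, algebraMap A B (φ b) = b ^ p := algebraMap_frobRoot p hinj hpow
  have hφ2 : ∀ a, φ (algebraMap A B a) = a ^ p := frobRoot_algebraMap p hinj hpow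
  have hφx : ∀ i, φ (x i) = x' i := fun i => hinj (by rw [hφ1, hx'])
  have hφinj : Function.Injective φ := frobRoot_injective p hinj hpow
  have hlix : LinearIndependent A (redMono p x) :=
    linearIndependent_of_isPIndependent p x hinj hx.1
  have hspx : Submodule.span A (Set.range (redMono p x)) = ⊤ :=
    span_eq_top_of_isPGenerating p x hpow hx.2
  have hpowRA : ∀ a : A, a ^ p ∈ Set.range (algebraMap R A) := by
    intro a
    have h1 : (algebraMap A B a) ^ p ∈ Set.range (algebraMap R B) := by
      rw [hR]; exact ⟨_, rfl⟩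
    obtain ⟨r, hr⟩ := h1
    exact ⟨r, hinj (by rw [← IsScalarTower.algebraMap_apply, hr, map_pow])⟩
  have hbases : (∃ bA : Module.Basis (Λ ⊕ M) A (Ω[A⁄ℤ]),
        ∀ k, bA k = KaehlerDifferential.D ℤ A (Sum.elim x' y k)) ∧
      (∃ bB : Module.Basis (M ⊕ Λ) B (Ω[B⁄ℤ]),
        ∀ k, bB k = KaehlerDifferential.D ℤ B (Sum.elim (fun m => algebraMap A B (y m)) x k)) := by
    let _ : Algebra B A := φ.toAlgebra
    have hBA : ∀ b, algebraMap B A b = φ b := fun _ => rfl
    have hliy : LinearIndependent B (redMono p y) := by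
      have h0 : LinearIndependent (EGA41.pPowerSubalgebra p R A) (redMono p y) := hy.1
      refine linearIndependent_of_forall_exists ?_ h0
      intro b
      have hmem : φ b ∈ EGA41.pPowerSubalgebra p R A := by
        have h1 : b ^ p ∈ Set.range (algebraMap R B) := by rw [hR]; exact ⟨_, rfl⟩
        obtain ⟨r, hr⟩ := h1
        have h2 : algebraMap R A r = φ b :=
          hinj (by rw [← IsScalarTower.algebraMap_apply, hr, hφ1])
        rw [← h2]; exact Subalgebra.algebraMap_mem _ r
      refine ⟨⟨φ b, hmem⟩, fun a => ?_, fun h0 => ?_⟩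
      · show φ b * a = b • a
        rw [Algebra.smul_def, hBA]
      · have h1 : φ b = 0 := congrArg Subtype.val h0
        exact hφinj (by rw [h1, map_zero])
    have hspy : Submodule.span B (Set.range (redMono p y)) = ⊤ := by
      have h0 : Submodule.span (EGA41.pPowerSubalgebra p R A) (Set.range (redMono p y)) = ⊤ :=
        hy.2
      refine span_eq_top_of_forall_exists ?_ h0
      intro r''
      obtain ⟨r, hr⟩ := exists_algebraMap_eq_of_pow_mem_range p hpowRA r''
      have h1 : algebraMap R B r ∈ Set.range fun b : B => b ^ p := by rw [← hR]; exact ⟨r, rfl⟩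
      obtain ⟨b, hb⟩ := h1
      have hb' : b ^ p = algebraMap R B r := hb
      have hφb : φ b = r'' :=
        hinj (by rw [hφ1, hb', ← hr, ← IsScalarTower.algebraMap_apply])
      refine ⟨b, fun a => ?_⟩
      show b • a = (r'' : A) • a
      rw [Algebra.smul_def, hBA, hφb, smul_eq_mul]
    constructor
    · have UP := existsUnique_derivation_twoStep (p := p) hpP.pos (U := B) (V := A) hpB hpA
        (fun a => by rw [hBA, hφ2]) (fun b => by rw [hBA, hφ1]) x y hlix hspx hliy hspy
      obtain ⟨bA, hbA⟩ := exists_basis_of_UP (Sum.elim (fun i => algebraMap B A (x i)) y)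
        (fun L _ _ _ l => by
          obtain ⟨D, ⟨hD1, hD2⟩, hDu⟩ := UP L (fun i => l (Sum.inl i)) (fun j => l (Sum.inr j))
          refine ⟨D, fun k => ?_, fun D' hD' =>
            hDu D' ⟨fun i => hD' (Sum.inl i), fun j => hD' (Sum.inr j)⟩⟩
          cases k with
          | inl i => exact hD1 i
          | inr j => exact hD2 j)
      refine ⟨bA, fun k => ?_⟩
      rw [hbA]
      cases k with
      | inl i =>
        show KaehlerDifferential.D ℤ A (algebraMap B A (x i)) = KaehlerDifferential.D ℤ A (x' i)
        rw [hBA, hφx]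
      | inr j => rfl
    · have UP := existsUnique_derivation_twoStep (p := p) hpP.pos (U := A) (V := B) hpA hpB
        (fun b => by rw [hBA, hφ1]) (fun a => by rw [hBA, hφ2]) y x hliy hspy hlix hspx
      exact exists_basis_of_UP (Sum.elim (fun m => algebraMap A B (y m)) x)
        (fun L _ _ _ l => by
          obtain ⟨D, ⟨hD1, hD2⟩, hDu⟩ := UP L (fun i => l (Sum.inl i)) (fun j => l (Sum.inr j))
          refine ⟨D, fun k => ?_, fun D' hD' =>
            hDu D' ⟨fun i => hD' (Sum.inl i), fun j => hD' (Sum.inr j)⟩⟩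
          cases k with
          | inl i => exact hD1 i
          | inr j => exact hD2 j)
  obtain ⟨⟨bA, hbA⟩, ⟨bB, hbB⟩⟩ := hbases
  have h0 : ∀ l, KaehlerDifferential.mapBaseChange ℤ A B ((bA.baseChange B) (Sum.inl l)) = 0 := by
    intro l
    rw [Module.Basis.baseChange_apply, KaehlerDifferential.mapBaseChange_tmul, one_smul, hbA,
      KaehlerDifferential.map_D]
    show KaehlerDifferential.D ℤ B (algebraMap A B (x' l)) = 0
    rw [hx', Derivation.leibniz_pow, ← Nat.cast_smul_eq_nsmul B, hpB, zero_smul]
  have hli : LinearIndependent B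
      (fun m => KaehlerDifferential.mapBaseChange ℤ A B ((bA.baseChange B) (Sum.inr m))) := by
    have h1 : (fun m => KaehlerDifferential.mapBaseChange ℤ A B ((bA.baseChange B) (Sum.inr m))) =
        bB ∘ Sum.inl := funext fun m => by
      rw [Module.Basis.baseChange_apply, KaehlerDifferential.mapBaseChange_tmul, one_smul, hbA,
        KaehlerDifferential.map_D, Function.comp_apply, hbB]
      rfl
    rw [h1]
    exact bB.linearIndependent.comp _ Sum.inl_injective
  obtain ⟨k, hk⟩ := exists_basis_ker (bA.baseChange B) (KaehlerDifferential.mapBaseChange ℤ A B)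
    h0 hli
  refine ⟨k, fun i => (hk i).trans ?_⟩
  rw [Module.Basis.baseChange_apply, hbA]
  rfl

end Groth.Agent.S4520
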