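import Groth.Statements.S4522
import Groth.Agent.H44.PBasisField
import Groth.Agent.S2465

set_option autoImplicit false
universe u
open EGA41

namespace Groth.Agent.S4522

/-- Let L be a field of characteristic p > 0 and K a subfield with L^p ⊆ K ⊆ L (here R → K → L with the
image of R in L the set of p-th powers and every p-th power of L in the image of K). Then the
canonical L-linear map L ⊗_K Ω_{K/L^p} → Ω_{L/L^p} is injective, so that 0 → Ω_{K/L^p} ⊗_K L →
Ω_{L/L^p} → Ω_{L/K} → 0 is exact: the imperfection module of L over K relative to L^p vanishes. -/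
theorem result (p : ℕ) [Fact p.Prime] {R K L : Type u} [Field R] [Field K] [Field L]
    [Algebra R K] [Algebra K L] [Algebra R L] [IsScalarTower R K L] [CharP L p]
    (hR : Set.range (algebraMap R L) = Set.range fun y : L => y ^ p)
    (hK : ∀ y : L, y ^ p ∈ Set.range (algebraMap K L)) :
    Function.Injective (KaehlerDifferential.mapBaseChange R K L) := by
  classical
  open scoped TensorProduct in
  have hp : p.Prime := Fact.out
  have hinj : Function.Injective (algebraMap K L) := (algebraMap K L).injective
  -- a `p`-basis of `L` over `K`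
  obtain ⟨T, -, -, hTind, hTgen⟩ := Groth.Agent.H44.PBasis.exists_maximal_redSet p (id : L → L)
    (Groth.Agent.H44.PBasis.hC_pPower (k := K) p) (Set.subset_univ (∅ : Set L))
    (Groth.Agent.H44.PBasis.linearIndepOn_redSet_empty p (id : L → L) hp.pos
      (Groth.Agent.H44.PBasis.algebraMap_pPower_injective p))
  have hz : EGA41.IsPBasis p K (fun t : T => id (t : L)) :=
    Groth.Agent.H44.PBasis.isPBasis_subtype p (id : L → L) T hTind
      (fun b => hTgen b (Set.mem_univ _))
  -- the derivation `a ↦ 1 ⊗ d a`
  let D₁ : Derivation R K (L ⊗[K] Ω[K⁄R]) :=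
    (TensorProduct.mk K L (Ω[K⁄R]) 1).compDer (KaehlerDifferential.D R K)
  have hD₁ : ∀ a, D₁ a = (1 : L) ⊗ₜ[K] KaehlerDifferential.D R K a := fun a => rfl
  let D₀ : Derivation ℤ K (L ⊗[K] Ω[K⁄R]) := D₁.restrictScalars ℤ
  have hD₀ : ∀ (a : K) (b : L), algebraMap K L a = b ^ p → D₀ a = 0 := by
    intro a b hab
    have hb : b ^ p ∈ Set.range (algebraMap R L) := by
      rw [hR]
      exact ⟨b, rfl⟩
    obtain ⟨r, hr⟩ := hb
    have ha : a = algebraMap R K r :=
      hinj (by rw [hab, ← hr, IsScalarTower.algebraMap_apply R K L])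
    show D₁ a = 0
    rw [ha]
    exact Derivation.map_algebraMap D₁ r
  obtain ⟨D', ⟨hD'1, -⟩, -⟩ := (Groth.Agent.S2465.result p hinj hK (fun t : T => id (t : L)) hz
    (L ⊗[K] Ω[K⁄R]) D₀).2 hD₀ 0
  have hD'R : ∀ r : R, D' (algebraMap R L r) = 0 := fun r => by
    rw [IsScalarTower.algebraMap_apply R K L, hD'1]
    show D₁ (algebraMap R K r) = 0
    exact Derivation.map_algebraMap D₁ r
  let lin : L →ₗ[R] (L ⊗[K] Ω[K⁄R]) :=
    { toFun := fun l => D' l
      map_add' := fun l l' => map_add D' l l'
      map_smul' := fun r l => by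
        simp only [RingHom.id_apply]
        rw [Algebra.smul_def, D'.leibniz, hD'R r, smul_zero, add_zero, algebraMap_smul] }
  let D'' : Derivation R L (L ⊗[K] Ω[K⁄R]) := Derivation.mk' lin (fun l l' => D'.leibniz l l')
  have hD'' : ∀ l, D'' l = D' l := fun l => rfl
  have h1 : ∀ ω : Ω[K⁄R], D''.liftKaehlerDifferential
      (KaehlerDifferential.mapBaseChange R K L ((1 : L) ⊗ₜ[K] ω)) = (1 : L) ⊗ₜ[K] ω := by
    intro ω
    have hω : ω ∈ Submodule.span K (Set.range (KaehlerDifferential.D R K)) := by
      rw [KaehlerDifferential.span_range_derivation]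
      exact Submodule.mem_top
    induction hω using Submodule.span_induction with
    | mem y hy =>
      obtain ⟨a, rfl⟩ := hy
      rw [KaehlerDifferential.mapBaseChange_tmul, one_smul, KaehlerDifferential.map_D,
        Derivation.liftKaehlerDifferential_comp_D, hD'', hD'1]
      rfl
    | zero => simp
    | add y y' _ _ hy hy' => rw [TensorProduct.tmul_add, map_add, map_add, hy, hy']
    | smul c y _ hy =>
      rw [TensorProduct.tmul_smul, ← algebraMap_smul L c ((1 : L) ⊗ₜ[K] y), map_smul, map_smul,
        hy]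
  have hφ : ∀ v : L ⊗[K] Ω[K⁄R], D''.liftKaehlerDifferential
      (KaehlerDifferential.mapBaseChange R K L v) = v := by
    intro v
    induction v using TensorProduct.induction_on with
    | zero => simp
    | add v w hv hw => rw [map_add, map_add, hv, hw]
    | tmul l ω =>
      have hl : l ⊗ₜ[K] ω = l • ((1 : L) ⊗ₜ[K] ω) := by
        rw [TensorProduct.smul_tmul', smul_eq_mul, mul_one]
      rw [hl, map_smul, map_smul, h1]
  exact Function.LeftInverse.injective hφ

end Groth.Agent.S4522
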