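import Groth.Statements.S4524
import Mathlib.RingTheory.Etale.Kaehler
import Mathlib.RingTheory.Etale.Field
import Mathlib.RingTheory.Unramified.Field
import Mathlib.RingTheory.Kaehler.Polynomial
import Mathlib.RingTheory.AlgebraicIndependent.TranscendenceBasis
import Mathlib.FieldTheory.Perfect
import Mathlib.RingTheory.Flat.FaithfullyFlat.Basic

set_option autoImplicit false
universe u
open EGA41

namespace Groth.Agent.S4524

open TensorProduct

theorem dir2 {k K : Type u} [Field k] [CharZero k] [Field K] [Algebra k K]
    (h : Algebra.IsAlgebraic k K) : Subsingleton (Ω[K⁄k]) := by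
  have : Algebra.IsSeparable k K := Algebra.IsAlgebraic.isSeparable_of_perfectField
  have : Algebra.FormallyUnramified k K := Algebra.FormallyUnramified.of_isSeparable k K
  infer_instance

set_option maxHeartbeats 1000000 in
theorem dir1 {k K : Type u} [Field k] [CharZero k] [Field K] [Algebra k K]
    (h : Subsingleton (Ω[K⁄k])) : Algebra.IsAlgebraic k K := by
  obtain ⟨s, hs⟩ := exists_isTranscendenceBasis k K
  rw [← hs.isEmpty_iff_isAlgebraic]
  by_contra hne
  rw [not_isEmpty_iff] at hne
  obtain ⟨x⟩ := hne
  letI algQK : Algebra (MvPolynomial s k) K := (MvPolynomial.aeval (fun i : s => (i : K))).toAlgebra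
  haveI : IsScalarTower k (MvPolynomial s k) K := IsScalarTower.of_algebraMap_eq' (by
    ext a
    simp [RingHom.algebraMap_toAlgebra])
  have hinj : Function.Injective (algebraMap (MvPolynomial s k) K) := hs.1
  haveI : FaithfulSMul (MvPolynomial s k) K := (faithfulSMul_iff_algebraMap_injective _ _).mpr hinj
  letI := FractionRing.liftAlgebra (MvPolynomial s k) K
  haveI := FractionRing.isScalarTower_liftAlgebra (MvPolynomial s k) K
  haveI : IsScalarTower k (FractionRing (MvPolynomial s k)) K :=
    IsScalarTower.to₁₃₄ k (MvPolynomial s k) (FractionRing (MvPolynomial s k)) K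
  have halgP := hs.isAlgebraic
  have halgQ : Algebra.IsAlgebraic (MvPolynomial s k) K :=
    Algebra.IsAlgebraic.of_ringHom_of_comp_eq
      (S := Algebra.adjoin k (Set.range (fun i : s => (i : K)))) (B := K)
      (f := (hs.1.aevalEquiv : MvPolynomial s k ≃ₐ[k] _).toAlgHom.toRingHom)
      (g := RingHom.id K)
      (hs.1.aevalEquiv : MvPolynomial s k ≃ₐ[k] _).surjective Function.injective_id (by
        ext a
        · simp [RingHom.algebraMap_toAlgebra]
        · simp [RingHom.algebraMap_toAlgebra])
  have halgF : Algebra.IsAlgebraic (FractionRing (MvPolynomial s k)) K :=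
    halgQ.extendScalars (IsFractionRing.injective (MvPolynomial s k) _)
  have : CharZero (FractionRing (MvPolynomial s k)) :=
    charZero_of_injective_algebraMap (algebraMap k (FractionRing (MvPolynomial s k))).injective
  have : Algebra.IsSeparable (FractionRing (MvPolynomial s k)) K :=
    Algebra.IsAlgebraic.isSeparable_of_perfectField
  have : Algebra.FormallyEtale (FractionRing (MvPolynomial s k)) K :=
    Algebra.FormallyEtale.of_isSeparable _ K
  have e := KaehlerDifferential.tensorKaehlerEquivOfFormallyEtale k
    (FractionRing (MvPolynomial s k)) K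
  have : Subsingleton (K ⊗[FractionRing (MvPolynomial s k)] Ω[FractionRing (MvPolynomial s k)⁄k]) :=
    e.toEquiv.subsingleton
  have : Subsingleton Ω[FractionRing (MvPolynomial s k)⁄k] :=
    Module.FaithfullyFlat.lTensor_reflects_triviality (FractionRing (MvPolynomial s k)) K _
  have hloc := KaehlerDifferential.isLocalizedModule_map (R := k) (S := MvPolynomial s k)
    (T := FractionRing (MvPolynomial s k)) (nonZeroDivisors (MvPolynomial s k))
  let b := KaehlerDifferential.mvPolynomialBasis k s
  have h0 : KaehlerDifferential.map k k (MvPolynomial s k) (FractionRing (MvPolynomial s k)) (b x)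
      = 0 := Subsingleton.elim _ _
  obtain ⟨c, hc⟩ := (IsLocalizedModule.eq_zero_iff (nonZeroDivisors (MvPolynomial s k)) _).mp h0
  have hc' : (c : MvPolynomial s k) • b x = 0 := hc
  have h1 := congrArg (fun m => b.repr m x) hc'
  simp at h1


/-- Let k be a field of characteristic 0 and K an extension of k. Then Ω_{K/k} = 0 if and only if K is
an algebraic extension of k. -/
theorem result {k K : Type u} [Field k] [CharZero k] [Field K] [Algebra k K] :
    Subsingleton (Ω[K⁄k]) ↔ Algebra.IsAlgebraic k K := by
  exact ⟨dir1, dir2⟩

end Groth.Agent.S4524
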