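import Groth.Statements.S4525
import Groth.Agent.H44.Cartier

set_option autoImplicit false
universe u
open EGA41

namespace Groth.Agent.S4525

/-- Let K be a field, L an extension of finite type of K and k a subfield of K. Then Ω_{L/K} and the
imperfection module Υ_{L/K/k} are finite-dimensional L-vector spaces and rank Ω_{L/K} − rank
Υ_{L/K/k} ≥ trdeg_K L. (The published statement also gives the equality rank Ω_{L/K} − rank
Υ_{L/K/k} = trdeg_K L + d(L/K, k) and an equality criterion; this row states only finiteness and the
inequality.) -/
theorem result {k K L : Type u} [Field k] [Field K] [Field L]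
    [Algebra k K] [Algebra K L] [Algebra k L] [IsScalarTower k K L] [Algebra.EssFiniteType K L] :
    Module.Finite L (Ω[L⁄K]) ∧ Module.Finite L (EGA41.imperfection k K L) ∧
      (Cardinal.toNat (Algebra.trdeg K L) : ℤ) ≤
        (Module.finrank L (Ω[L⁄K]) : ℤ) - Module.finrank L (EGA41.imperfection k K L) := by
  obtain ⟨h1, h2, h3⟩ := Groth.Agent.H44.Cartier.cartier K L
  haveI := h2
  obtain ⟨h4, h5⟩ := Groth.Agent.H44.Cartier.imperfection_finite_le k K L
  refine ⟨h1, h4, ?_⟩
  rw [← h3]
  have h6 : (Module.finrank L (EGA41.imperfection k K L) : ℤ) ≤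
      Module.finrank L (Algebra.H1Cotangent K L) := by exact_mod_cast h5
  linarith

end Groth.Agent.S4525
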