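import Groth.Statements.S4526
import Groth.Agent.H44.Cartier

set_option autoImplicit false
universe u
open EGA41

namespace Groth.Agent.S4526

/-- Let k ⊆ K ⊆ L be three fields with L an extension of finite type of k. Then Ω_{L/k} and Ω_{K/k} are
finite-dimensional and rank_L Ω_{L/k} − rank_K Ω_{K/k} ≥ trdeg_K L. (The published statement also
gives the exact value trdeg_K L + d(L/K, k) and an equality criterion; this row states only the
inequality.) -/
theorem result {k K L : Type u} [Field k] [Field K] [Field L]
    [Algebra k K] [Algebra K L] [Algebra k L] [IsScalarTower k K L] [Algebra.EssFiniteType k L] :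
    Module.Finite L (Ω[L⁄k]) ∧ Module.Finite K (Ω[K⁄k]) ∧
      (Cardinal.toNat (Algebra.trdeg K L) : ℤ) ≤ (Module.finrank L (Ω[L⁄k]) : ℤ) - Module.finrank K (Ω[K⁄k]) := by
  haveI : Algebra.EssFiniteType K L := Algebra.EssFiniteType.of_comp k K L
  obtain ⟨h1, h2, h3⟩ := Groth.Agent.H44.Cartier.cartier K L
  obtain ⟨g1, -, -⟩ := Groth.Agent.H44.Cartier.cartier k L
  haveI := h1
  haveI := h2
  haveI := g1
  have e34 := Algebra.H1Cotangent.exact_δ_mapBaseChange k K L
  have e45 := KaehlerDifferential.exact_mapBaseChange_map k K L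
  have s5 := KaehlerDifferential.map_surjective k K L
  haveI : Module.Finite L (TensorProduct K L Ω[K⁄k]) :=
    Groth.Agent.H44.Cartier.finite_of_exact _ _ e34
  haveI : Module.Finite K Ω[K⁄k] := by
    have hr : Module.rank L (TensorProduct K L Ω[K⁄k]) =
        Cardinal.lift.{u} (Module.rank K Ω[K⁄k]) := Module.rank_baseChange
    rw [Cardinal.lift_id] at hr
    rw [← Module.rank_lt_aleph0_iff, ← hr]
    exact Module.rank_lt_aleph0 L _
  have d3 := Groth.Agent.H44.Cartier.finrank_exact _ _ e34
  have d4 := Groth.Agent.H44.Cartier.finrank_exact _ _ e45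
  have r5 : Module.finrank L (LinearMap.range (KaehlerDifferential.map k K L L)) =
      Module.finrank L Ω[L⁄K] := by
    rw [LinearMap.range_eq_top.mpr s5, finrank_top]
  have r34 : Module.finrank L (TensorProduct K L Ω[K⁄k]) = Module.finrank K Ω[K⁄k] :=
    Module.finrank_baseChange
  have r3 := LinearMap.finrank_range_le (Algebra.H1Cotangent.δ k K L)
  refine ⟨g1, inferInstance, ?_⟩
  rw [← h3]
  omega

end Groth.Agent.S4526
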