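import Groth.Statements.S4530
import Groth.Agent.H76.CokerProj
-- import your own Groth.Agent.* helpers here

set_option autoImplicit false
universe u
open EGA41

namespace Groth.Agent.S4530

open TensorProduct

section
variable {A : Type u} [CommRing A] {M N : Type u} [AddCommGroup M] [Module A M]
  [AddCommGroup N] [Module A N]

/-- Concrete form of "left invertible after localizing at `S`". -/
def CondS (S : Submonoid A) (u : M →ₗ[A] N) : Prop :=
  ∃ (v : N →ₗ[A] M) (s t : S), t • (v ∘ₗ u) = t • (s • (LinearMap.id : M →ₗ[A] M))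

lemma leftInv_of_condS (S : Submonoid A) {M' N' : Type u} [AddCommGroup M'] [Module A M']
    [AddCommGroup N'] [Module A N']
    (fM : M →ₗ[A] M') (fN : N →ₗ[A] N') [IsLocalizedModule S fM] [IsLocalizedModule S fN]
    (u : M →ₗ[A] N) (u' : M' →ₗ[A] N') (hu : u' ∘ₗ fM = fN ∘ₗ u) (h : CondS S u) :
    ∃ w : N' →ₗ[A] M', w ∘ₗ u' = LinearMap.id := by
  obtain ⟨v, s, t, hv⟩ := h
  obtain ⟨σ, hσ⟩ := IsLocalizedModule.map_units fM s
  refine ⟨(σ⁻¹ : (Module.End A M')ˣ).1 ∘ₗ IsLocalizedModule.map S fN fM v, ?_⟩
  apply IsLocalizedModule.ext S fM (IsLocalizedModule.map_units fM)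
  apply LinearMap.ext
  intro m
  have h1 : u' (fM m) = fN (u m) := LinearMap.congr_fun hu m
  have h3 : (t : A) • v (u m) = (t : A) • ((s : A) • m) := by
    have := LinearMap.congr_fun hv m
    simpa [Submonoid.smul_def] using this
  have h4 : t • fM (v (u m)) = t • ((s : A) • fM m) := by
    rw [Submonoid.smul_def, Submonoid.smul_def, ← map_smul, h3, map_smul, map_smul]
  have h5 : fM (v (u m)) = (s : A) • fM m := IsLocalizedModule.smul_injective fM t h4
  have h6 : (σ : Module.End A M') (fM m) = (s : A) • fM m := by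
    rw [hσ, Module.algebraMap_end_apply]
  show (σ⁻¹ : (Module.End A M')ˣ).1 (IsLocalizedModule.map S fN fM v (u' (fM m))) = fM m
  rw [h1, IsLocalizedModule.map_apply, h5, ← h6]
  have h7 : ((σ⁻¹ : (Module.End A M')ˣ).1 * σ.1) (fM m) = fM m := by
    rw [Units.inv_mul]; rfl
  exact h7

lemma condS_of_leftInv (S : Submonoid A) {M' N' : Type u} [AddCommGroup M'] [Module A M']
    [AddCommGroup N'] [Module A N']
    (fM : M →ₗ[A] M') (fN : N →ₗ[A] N') [IsLocalizedModule S fM] [IsLocalizedModule S fN]
    [Module.FinitePresentation A N] [Module.Finite A M]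
    (u : M →ₗ[A] N) (u' : M' →ₗ[A] N') (hu : u' ∘ₗ fM = fN ∘ₗ u)
    (h : ∃ w : N' →ₗ[A] M', w ∘ₗ u' = LinearMap.id) : CondS S u := by
  obtain ⟨w, hw⟩ := h
  obtain ⟨v, s, hv⟩ := Module.FinitePresentation.exists_lift_of_isLocalizedModule S fM (w ∘ₗ fN)
  have H : fM ∘ₗ (v ∘ₗ u) = fM ∘ₗ (s • (LinearMap.id : M →ₗ[A] M)) := by
    apply LinearMap.ext
    intro m
    have h1 : fM (v (u m)) = s • w (fN (u m)) := LinearMap.congr_fun hv (u m)
    have h2 : u' (fM m) = fN (u m) := LinearMap.congr_fun hu m
    have h3 : w (u' (fM m)) = fM m := LinearMap.congr_fun hw (fM m)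
    show fM (v (u m)) = fM (s • m)
    rw [h1, ← h2, h3, Submonoid.smul_def, Submonoid.smul_def, map_smul]
  obtain ⟨t, ht⟩ := Module.Finite.exists_smul_of_comp_eq_of_isLocalizedModule S fM _ _ H
  exact ⟨v, s, t, ht⟩

lemma map_restrict_eq (S : Submonoid A) (g : M →ₗ[A] N) :
    (LocalizedModule.map S g).restrictScalars A =
      IsLocalizedModule.map S (LocalizedModule.mkLinearMap S M)
        (LocalizedModule.mkLinearMap S N) g := rfl

/-- Left invertibility of the localization of `u` at `S`. -/
def LeftInvLoc (S : Submonoid A) (u : M →ₗ[A] N) : Prop :=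
  ∃ w : LocalizedModule S N →ₗ[A] LocalizedModule S M,
    w ∘ₗ LocalizedModule.map S u = LinearMap.id

lemma leftInvLoc_iff_condS (S : Submonoid A) [Module.FinitePresentation A N] [Module.Finite A M]
    (u : M →ₗ[A] N) : LeftInvLoc S u ↔ CondS S u := by
  have hu : (LocalizedModule.map S u).restrictScalars A ∘ₗ LocalizedModule.mkLinearMap S M =
      LocalizedModule.mkLinearMap S N ∘ₗ u := by
    rw [map_restrict_eq]
    exact IsLocalizedModule.map_comp S (LocalizedModule.mkLinearMap S M)
      (LocalizedModule.mkLinearMap S N) u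
  exact ⟨fun h => condS_of_leftInv S (LocalizedModule.mkLinearMap S M)
      (LocalizedModule.mkLinearMap S N) u ((LocalizedModule.map S u).restrictScalars A) hu h,
    fun h => leftInv_of_condS S (LocalizedModule.mkLinearMap S M)
      (LocalizedModule.mkLinearMap S N) u ((LocalizedModule.map S u).restrictScalars A) hu h⟩

lemma leftInvLoc_comp_iff (S : Submonoid A) {N₂ : Type u} [AddCommGroup N₂] [Module A N₂]
    (u : M →ₗ[A] N) (i : N →ₗ[A] N₂) (r : N₂ →ₗ[A] N) (hri : r ∘ₗ i = LinearMap.id) :
    LeftInvLoc S (i ∘ₗ u) ↔ LeftInvLoc S u := by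
  have hcomp : (LocalizedModule.map S (i ∘ₗ u)).restrictScalars A =
      (LocalizedModule.map S i).restrictScalars A ∘ₗ
        (LocalizedModule.map S u).restrictScalars A := by
    rw [map_restrict_eq, map_restrict_eq, map_restrict_eq]
    exact IsLocalizedModule.map_comp' S (LocalizedModule.mkLinearMap S M)
      (LocalizedModule.mkLinearMap S N) (LocalizedModule.mkLinearMap S N₂) u i
  have hri' : (LocalizedModule.map S r).restrictScalars A ∘ₗ
      (LocalizedModule.map S i).restrictScalars A = LinearMap.id := by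
    have h1 : (LocalizedModule.map S (r ∘ₗ i)).restrictScalars A =
        (LocalizedModule.map S r).restrictScalars A ∘ₗ
          (LocalizedModule.map S i).restrictScalars A := by
      rw [map_restrict_eq, map_restrict_eq, map_restrict_eq]
      exact IsLocalizedModule.map_comp' S (LocalizedModule.mkLinearMap S N)
        (LocalizedModule.mkLinearMap S N₂) (LocalizedModule.mkLinearMap S N) i r
    rw [← h1, hri, map_restrict_eq]
    exact IsLocalizedModule.map_id S (LocalizedModule.mkLinearMap S N)
  constructor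
  · rintro ⟨w, hw⟩
    refine ⟨w ∘ₗ (LocalizedModule.map S i).restrictScalars A, LinearMap.ext fun x => ?_⟩
    have h2 := LinearMap.congr_fun hw x
    rw [hcomp] at h2
    exact h2
  · rintro ⟨w, hw⟩
    refine ⟨w ∘ₗ (LocalizedModule.map S r).restrictScalars A, LinearMap.ext fun x => ?_⟩
    rw [hcomp]
    show w ((LocalizedModule.map S r).restrictScalars A
      ((LocalizedModule.map S i).restrictScalars A
        ((LocalizedModule.map S u).restrictScalars A x))) = x
    have h2 : (LocalizedModule.map S r).restrictScalars A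
        ((LocalizedModule.map S i).restrictScalars A
          ((LocalizedModule.map S u).restrictScalars A x)) =
        (LocalizedModule.map S u).restrictScalars A x :=
      LinearMap.congr_fun hri' ((LocalizedModule.map S u).restrictScalars A x)
    rw [h2]
    exact LinearMap.congr_fun hw x

lemma lTensor_injective_comp_iff (Q : Type u) [AddCommGroup Q] [Module A Q] {N₂ : Type u}
    [AddCommGroup N₂] [Module A N₂]
    (u : M →ₗ[A] N) (i : N →ₗ[A] N₂) (r : N₂ →ₗ[A] N) (hri : r ∘ₗ i = LinearMap.id) :
    Function.Injective ((i ∘ₗ u).lTensor Q) ↔ Function.Injective (u.lTensor Q) := by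
  have hi : Function.Injective (i.lTensor Q) := by
    have : r.lTensor Q ∘ₗ i.lTensor Q = LinearMap.id := by
      rw [← LinearMap.lTensor_comp, hri, LinearMap.lTensor_id]
    exact Function.LeftInverse.injective (g := r.lTensor Q)
      (fun x => LinearMap.congr_fun this x)
  rw [LinearMap.lTensor_comp, LinearMap.coe_comp]
  exact hi.of_comp_iff _

lemma lTensor_injective_iff_condS (p : PrimeSpectrum A) [Module.Finite A M] [Module.Finite A N]
    [Module.Free A N] (u : M →ₗ[A] N) :
    Function.Injective (u.lTensor p.asIdeal.ResidueField) ↔ CondS p.asIdeal.primeCompl u := by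
  have e1 := IsLocalRing.split_injective_iff_lTensor_residueField_injective
    (u.baseChange (Localization.AtPrime p.asIdeal))
  have e2 := Groth.Agent.H76.injective_baseChange_baseChange_iff
    (Localization.AtPrime p.asIdeal) p.asIdeal.ResidueField u
  have e3 : Function.Injective (u.lTensor p.asIdeal.ResidueField) ↔
      ∃ l' : Localization.AtPrime p.asIdeal ⊗[A] N →ₗ[Localization.AtPrime p.asIdeal]
        Localization.AtPrime p.asIdeal ⊗[A] M,
        l' ∘ₗ u.baseChange (Localization.AtPrime p.asIdeal) = LinearMap.id := by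
    rw [e1]
    exact e2.symm
  rw [e3]
  have hu : ((u.baseChange (Localization.AtPrime p.asIdeal)).restrictScalars A) ∘ₗ
      (TensorProduct.mk A (Localization.AtPrime p.asIdeal) M 1) =
      (TensorProduct.mk A (Localization.AtPrime p.asIdeal) N 1) ∘ₗ u := by
    apply LinearMap.ext
    intro m
    simp
  have : Module.FinitePresentation A N := Module.finitePresentation_of_projective A N
  constructor
  · rintro ⟨l', hl'⟩
    exact condS_of_leftInv p.asIdeal.primeCompl
      (TensorProduct.mk A (Localization.AtPrime p.asIdeal) M 1)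
      (TensorProduct.mk A (Localization.AtPrime p.asIdeal) N 1) u _ hu
      ⟨l'.restrictScalars A, LinearMap.ext fun x => LinearMap.congr_fun hl' x⟩
  · intro h
    obtain ⟨w, hw⟩ := leftInv_of_condS p.asIdeal.primeCompl
      (TensorProduct.mk A (Localization.AtPrime p.asIdeal) M 1)
      (TensorProduct.mk A (Localization.AtPrime p.asIdeal) N 1) u _ hu h
    exact ⟨w.extendScalarsOfIsLocalization p.asIdeal.primeCompl
      (Localization.AtPrime p.asIdeal), LinearMap.ext fun x => LinearMap.congr_fun hw x⟩

lemma condS_primeCompl_iff (p : PrimeSpectrum A) (u : M →ₗ[A] N) :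
    CondS p.asIdeal.primeCompl u ↔
      ∃ f : A, f ∉ p.asIdeal ∧ CondS (Submonoid.powers f) u := by
  constructor
  · rintro ⟨v, s, t, h⟩
    refine ⟨(s : A) * t, fun hmem => ?_, (t : A) • v,
      ⟨(s : A) * t, Submonoid.mem_powers _⟩, 1, ?_⟩
    · rcases p.isPrime.mem_or_mem hmem with h1 | h1
      exacts [s.2 h1, t.2 h1]
    · rw [one_smul, one_smul]
      apply LinearMap.ext
      intro m
      have := LinearMap.congr_fun h m
      simp only [Submonoid.smul_def, LinearMap.smul_apply, LinearMap.comp_apply,
        LinearMap.id_apply] at this ⊢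
      rw [this, smul_smul, mul_comm]
  · rintro ⟨f, hf, v, s, t, h⟩
    have hle : Submonoid.powers f ≤ p.asIdeal.primeCompl := Submonoid.powers_le.2 hf
    exact ⟨v, ⟨s, hle s.2⟩, ⟨t, hle t.2⟩, h⟩


theorem core [Module.Finite A M] (u : M →ₗ[A] N) {F : Type u} [AddCommGroup F] [Module A F]
    {F₀ : Type u} [AddCommGroup F₀] [Module A F₀] [Module.Free A F₀] [Module.Finite A F₀]
    (i : N →ₗ[A] F) (r : F →ₗ[A] N) (hi : r ∘ₗ i = LinearMap.id)
    (j : F₀ →ₗ[A] F) (q : F →ₗ[A] F₀) (hq : q ∘ₗ j = LinearMap.id)
    (u' : M →ₗ[A] F₀) (hfac : j ∘ₗ u' = i ∘ₗ u) :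
    (∀ p : PrimeSpectrum A,
      [∃ w : LocalizedModule p.asIdeal.primeCompl N →ₗ[A] LocalizedModule p.asIdeal.primeCompl M,
          w ∘ₗ LocalizedModule.map p.asIdeal.primeCompl u = LinearMap.id,
       Function.Injective (u.lTensor p.asIdeal.ResidueField),
       ∃ f : A, f ∉ p.asIdeal ∧
          ∃ w : LocalizedModule (Submonoid.powers f) N →ₗ[A] LocalizedModule (Submonoid.powers f) M,
            w ∘ₗ LocalizedModule.map (Submonoid.powers f) u = LinearMap.id].TFAE) ∧
    IsOpen {p : PrimeSpectrum A |
      ∃ w : LocalizedModule p.asIdeal.primeCompl N →ₗ[A] LocalizedModule p.asIdeal.primeCompl M,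
        w ∘ₗ LocalizedModule.map p.asIdeal.primeCompl u = LinearMap.id} := by
  have : Module.FinitePresentation A F₀ := Module.finitePresentation_of_projective A F₀
  have hA : ∀ S : Submonoid A, LeftInvLoc S u ↔ CondS S u' := by
    intro S
    have h1 : LeftInvLoc S (i ∘ₗ u) ↔ LeftInvLoc S u := leftInvLoc_comp_iff S u i r hi
    have h2 : LeftInvLoc S (j ∘ₗ u') ↔ LeftInvLoc S u' := leftInvLoc_comp_iff S u' j q hq
    have h3 : LeftInvLoc S u' ↔ CondS S u' := leftInvLoc_iff_condS S u'
    rw [hfac] at h2
    exact h1.symm.trans (h2.trans h3)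
  have hB : ∀ p : PrimeSpectrum A, Function.Injective (u.lTensor p.asIdeal.ResidueField) ↔
      CondS p.asIdeal.primeCompl u' := by
    intro p
    have h1 : Function.Injective ((i ∘ₗ u).lTensor p.asIdeal.ResidueField) ↔
        Function.Injective (u.lTensor p.asIdeal.ResidueField) :=
      lTensor_injective_comp_iff p.asIdeal.ResidueField u i r hi
    have h2 : Function.Injective ((j ∘ₗ u').lTensor p.asIdeal.ResidueField) ↔
        Function.Injective (u'.lTensor p.asIdeal.ResidueField) :=
      lTensor_injective_comp_iff p.asIdeal.ResidueField u' j q hq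
    have h3 : Function.Injective (u'.lTensor p.asIdeal.ResidueField) ↔
        CondS p.asIdeal.primeCompl u' := lTensor_injective_iff_condS p u'
    rw [hfac] at h2
    exact h1.symm.trans (h2.trans h3)
  constructor
  · intro p
    refine List.tfae_of_forall (CondS p.asIdeal.primeCompl u') _ ?_
    intro a ha
    rcases List.mem_cons.1 ha with rfl | ha
    · exact hA _
    rcases List.mem_cons.1 ha with rfl | ha
    · exact hB p
    rcases List.mem_cons.1 ha with rfl | ha
    · rw [condS_primeCompl_iff p u']
      exact exists_congr fun f => and_congr_right fun _ => hA _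
    · cases ha
  · have hset : {p : PrimeSpectrum A |
        ∃ w : LocalizedModule p.asIdeal.primeCompl N →ₗ[A]
            LocalizedModule p.asIdeal.primeCompl M,
          w ∘ₗ LocalizedModule.map p.asIdeal.primeCompl u = LinearMap.id} =
        ⋃ f ∈ {f : A | CondS (Submonoid.powers f) u'},
          (PrimeSpectrum.basicOpen f : Set (PrimeSpectrum A)) := by
      ext p
      simp only [Set.mem_setOf_eq, Set.mem_iUnion, exists_prop]
      have h1 := (hA p.asIdeal.primeCompl).trans (condS_primeCompl_iff p u')
      refine h1.trans ⟨?_, ?_⟩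
      · rintro ⟨f, hf, hc⟩
        exact ⟨f, hc, hf⟩
      · rintro ⟨f, hc, hf⟩
        exact ⟨f, hf, hc⟩
    rw [hset]
    exact isOpen_biUnion fun f _ => (PrimeSpectrum.basicOpen f).isOpen

end


open TensorProduct in
/-- Let A be a ring, M an A-module of finite type, N a projective A-module, u : M → N a homomorphism.
For a prime ideal 𝔭 the following are equivalent: (a) u_𝔭 : M_𝔭 → N_𝔭 is left invertible; (b) u ⊗ 1
: M ⊗ k(𝔭) → N ⊗ k(𝔭) is injective; (d) there is f ∉ 𝔭 with u_f : M_f → N_f left invertible.
Moreover the set of such 𝔭 is open in Spec A. (The published statement also has a determinant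
criterion (c); this row omits it.) -/
theorem result {A : Type u} [CommRing A] {M N : Type u} [AddCommGroup M] [Module A M]
    [Module.Finite A M] [AddCommGroup N] [Module A N] [Module.Projective A N] (u : M →ₗ[A] N) :
    (∀ p : PrimeSpectrum A,
      [∃ w : LocalizedModule p.asIdeal.primeCompl N →ₗ[A] LocalizedModule p.asIdeal.primeCompl M,
          w ∘ₗ LocalizedModule.map p.asIdeal.primeCompl u = LinearMap.id,
       Function.Injective (u.lTensor p.asIdeal.ResidueField),
       ∃ f : A, f ∉ p.asIdeal ∧
          ∃ w : LocalizedModule (Submonoid.powers f) N →ₗ[A] LocalizedModule (Submonoid.powers f) M,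
            w ∘ₗ LocalizedModule.map (Submonoid.powers f) u = LinearMap.id].TFAE) ∧
    IsOpen {p : PrimeSpectrum A |
      ∃ w : LocalizedModule p.asIdeal.primeCompl N →ₗ[A] LocalizedModule p.asIdeal.primeCompl M,
        w ∘ₗ LocalizedModule.map p.asIdeal.primeCompl u = LinearMap.id} := by
  classical
  obtain ⟨i, hi⟩ := Module.projective_def'.1 (inferInstance : Module.Projective A N)
  obtain ⟨G, hG⟩ := (Module.Finite.fg_top : (⊤ : Submodule A M).FG)
  let T : Finset N := G.biUnion (fun g => (i (u g)).support)
  have hmem : ∀ m, i (u m) ∈ Finsupp.supported A A (T : Set N) := by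
    intro m
    have hm : m ∈ Submodule.span A (G : Set M) := by rw [hG]; trivial
    induction hm using Submodule.span_induction with
    | mem x hx =>
      rw [Finsupp.mem_supported]
      intro a ha
      exact Finset.mem_coe.2 (Finset.mem_biUnion.2 ⟨x, hx, ha⟩)
    | zero => rw [map_zero, map_zero]; exact Submodule.zero_mem _
    | add x y _ _ hx hy => rw [map_add, map_add]; exact Submodule.add_mem _ hx hy
    | smul a x _ hx => rw [map_smul, map_smul]; exact Submodule.smul_mem _ a hx
  let F₀ : Submodule A (N →₀ A) := Finsupp.supported A A (T : Set N)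
  let u' : M →ₗ[A] F₀ := (i ∘ₗ u).codRestrict F₀ hmem
  have hfac : F₀.subtype ∘ₗ u' = i ∘ₗ u := LinearMap.subtype_comp_codRestrict _ _ _
  have : Module.Free A F₀ :=
    Module.Free.of_equiv (Finsupp.supportedEquivFinsupp (M := A) (R := A) (T : Set N)).symm
  have : Module.Finite A F₀ :=
    Module.Finite.equiv (Finsupp.supportedEquivFinsupp (M := A) (R := A) (T : Set N)).symm
  have hq : (Finsupp.restrictDom A A (T : Set N)) ∘ₗ F₀.subtype = LinearMap.id :=
    Finsupp.restrictDom_comp_subtype (M := A) (R := A) (T : Set N)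
  exact core (F := N →₀ A) (F₀ := ↥F₀) u i (Finsupp.linearCombination A id) hi F₀.subtype
    (Finsupp.restrictDom A A (T : Set N)) hq u' hfac

end Groth.Agent.S4530
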