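import Groth.Statements.S4539
import Mathlib
import Groth.Agent.H25.DvrCrit
import Groth.Agent.H44.MacLaneAll

set_option autoImplicit false
set_option linter.style.haveILetI false
set_option linter.unusedSectionVars false
set_option linter.unusedVariables false
universe u
open EGA41

namespace Groth.Agent.S4539

section Helpers

open IsLocalRing

variable (p : ℕ)

local notation "PP" => Localization.AtPrime (Ideal.span {((p : ℕ) : ℤ)})

theorem p_cases [hp : (Ideal.span {(p : ℤ)}).IsPrime] : p = 0 ∨ p.Prime := by
  by_cases h0 : p = 0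
  · exact Or.inl h0
  · right
    have h1 : (p : ℤ) ≠ 0 := by exact_mod_cast h0
    exact Nat.prime_iff_prime_int.mpr ((Ideal.span_singleton_prime h1).mp hp)

theorem maxP [hp : (Ideal.span {(p : ℤ)}).IsPrime] :
    maximalIdeal PP = Ideal.span {((p : ℕ) : PP)} := by
  have h := (Localization.AtPrime.map_eq_maximalIdeal (I := Ideal.span {(p : ℤ)})).symm
  rw [Ideal.map_span, Set.image_singleton, map_natCast] at h
  exact h

theorem mapMax [hp : (Ideal.span {(p : ℤ)}).IsPrime] {A : Type} [CommRing A] [Algebra PP A] :
    (maximalIdeal PP).map (algebraMap PP A) = Ideal.span {((p : ℕ) : A)} := by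
  rw [maxP p, Ideal.map_span, Set.image_singleton, map_natCast]

theorem hM_le [hp : (Ideal.span {(p : ℤ)}).IsPrime] :
    (Ideal.span {(p : ℤ)}).primeCompl ≤ nonZeroDivisors ℤ := by
  intro x hx
  apply mem_nonZeroDivisors_of_ne_zero
  rintro rfl
  exact hx (Ideal.zero_mem _)

theorem isDomainP [hp : (Ideal.span {(p : ℤ)}).IsPrime] : IsDomain PP :=
  IsLocalization.isDomain_localization (hM_le p)

theorem injZP [hp : (Ideal.span {(p : ℤ)}).IsPrime] : Function.Injective (algebraMap ℤ PP) :=
  IsLocalization.injective PP (hM_le p)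

theorem flat_of_charZero [hp : (Ideal.span {(p : ℤ)}).IsPrime] {A : Type} [CommRing A]
    [IsDomain A] [CharZero A] [Algebra PP A] : Module.Flat PP A := by
  have hT : @IsScalarTower ℤ PP A Algebra.toSMul Algebra.toSMul Algebra.toSMul :=
    IsScalarTower.of_algebraMap_eq' (RingHom.ext_int _ _)
  rw [@Module.flat_iff_of_isLocalization ℤ PP _ _ _ (Ideal.span {(p : ℤ)}).primeCompl _ A _ _ _ hT,
    Module.Flat.flat_iff_torsion_eq_bot_of_isBezout, eq_bot_iff]
  rintro x ⟨⟨n, hn⟩, hx⟩
  have hn0 : n ≠ 0 := nonZeroDivisors.ne_zero hn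
  have h1 : (n : A) * x = 0 := by
    have h2 : n • x = 0 := hx
    rwa [zsmul_eq_mul] at h2
  rcases mul_eq_zero.mp h1 with h2 | h2
  · exact absurd (Int.cast_eq_zero.mp h2) hn0
  · exact (Submodule.mem_bot _).mpr h2

theorem nzd [hp : (Ideal.span {(p : ℤ)}).IsPrime] (hpp : p.Prime) {A : Type} [CommRing A]
    [Algebra PP A] [Module.Flat PP A] : ∀ x : A, ((p : ℕ) : A) * x = 0 → x = 0 := by
  haveI := isDomainP p
  have hp0 : ((p : ℕ) : PP) ≠ 0 := by
    intro h
    have h' : algebraMap ℤ PP (p : ℤ) = algebraMap ℤ PP 0 := by rw [map_natCast, map_zero, h]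
    have h2 := injZP p h'
    exact hpp.ne_zero (by exact_mod_cast h2)
  have hreg : IsSMulRegular PP ((p : ℕ) : PP) := fun a b hab => mul_left_cancel₀ hp0 hab
  have h2 : IsSMulRegular A (algebraMap PP A ((p : ℕ) : PP)) := IsSMulRegular.of_flat hreg
  rw [map_natCast] at h2
  intro x hx
  exact h2 (by simpa using hx)

theorem perfP [hp : (Ideal.span {(p : ℤ)}).IsPrime] : PerfectField (ResidueField PP) := by
  rcases p_cases p with h0 | hpp
  · haveI : CharZero (ResidueField PP) := by
      have hc : ((p : ℕ) : PP) = 0 := by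
        have h1 := congrArg (Nat.cast : ℕ → PP) h0
        rwa [Nat.cast_zero] at h1
      have hm0 : maximalIdeal PP = ⊥ := by
        rw [maxP p, hc]
        exact Ideal.span_singleton_eq_bot.mpr rfl
      have hinj : Function.Injective (residue PP) := by
        rw [RingHom.injective_iff_ker_eq_bot, ker_residue, hm0]
      haveI : CharZero PP := charZero_of_injective_ringHom (injZP p)
      exact charZero_of_injective_ringHom hinj
    infer_instance
  · haveI : Fact p.Prime := ⟨hpp⟩
    haveI hmaxI : (Ideal.span {(p : ℤ)}).IsMaximal :=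
      Ideal.IsPrime.isMaximal hp (by
        rw [Ne, Ideal.span_singleton_eq_bot]
        exact_mod_cast hpp.ne_zero)
    have e1 := IsLocalization.AtPrime.equivQuotMaximalIdeal (Ideal.span {(p : ℤ)}) PP
    have e2 := Int.quotientSpanNatEquivZMod p
    haveI : Finite (ResidueField PP) := Finite.of_equiv (ZMod p) (e2.symm.trans e1).toEquiv
    infer_instance

theorem forward [hp : (Ideal.span {(p : ℤ)}).IsPrime] {A : Type} [CommRing A] [IsLocalRing A]
    [CharP (ResidueField A) p] [Algebra PP A] [IsLocalHom (algebraMap PP A)]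
    (h : EGA41.IsCohenAlgebra PP A) : EGA41.IsCohenRingEGA A := by
  obtain ⟨-, hAN, hcompl, hflat, hmax, -⟩ := h
  rw [mapMax p] at hmax
  rcases p_cases p with h0 | hpp
  · left
    have hp0A : ((p : ℕ) : A) = 0 := by
      have h1 := congrArg (Nat.cast : ℕ → A) h0
      rwa [Nat.cast_zero] at h1
    have hm0 : maximalIdeal A = ⊥ := by
      rw [← hmax, hp0A]
      exact Ideal.span_singleton_eq_bot.mpr rfl
    refine ⟨isField_iff_maximalIdeal_eq.mpr hm0, ?_⟩
    haveI : CharP (ResidueField A) 0 := by rw [← h0]; infer_instance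
    haveI : CharZero (ResidueField A) := CharP.charP_to_charZero _
    exact (residue A).charZero
  · right
    haveI := hAN
    haveI := hflat
    obtain ⟨hdom, hdvr⟩ :=
      Groth.Agent.H25.DvrCrit.exists_isDomain_dvr ((p : ℕ) : A) (nzd p hpp) hmax.symm
    exact ⟨hdom, hdvr, hcompl, p, hpp, hmax.symm⟩

theorem backward [hp : (Ideal.span {(p : ℤ)}).IsPrime] {A : Type} [CommRing A] [IsLocalRing A]
    [hcp : CharP (ResidueField A) p] [Algebra PP A] [IsLocalHom (algebraMap PP A)]
    (h : EGA41.IsCohenRingEGA A) : EGA41.IsCohenAlgebra PP A := by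
  have key : ∃ (_ : IsDomain A), CharZero A ∧ IsNoetherianRing A ∧
      IsAdicComplete (maximalIdeal A) A ∧ maximalIdeal A = Ideal.span {((p : ℕ) : A)} := by
    rcases h with ⟨hf, hc⟩ | ⟨hdom, hdvr, hcompl, q, hq, hmq⟩
    · have hm0 : maximalIdeal A = ⊥ := isField_iff_maximalIdeal_eq.mp hf
      have hinj : Function.Injective (residue A) := by
        rw [RingHom.injective_iff_ker_eq_bot, ker_residue, hm0]
      haveI := hc
      haveI : CharZero (ResidueField A) := charZero_of_injective_ringHom hinj
      have hp0 : p = 0 := CharP.eq (ResidueField A) hcp (CharP.ofCharZero _)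
      have hp0A : ((p : ℕ) : A) = 0 := by
        have h1 := congrArg (Nat.cast : ℕ → A) hp0
        rwa [Nat.cast_zero] at h1
      refine ⟨hf.isDomain, hc, ?_, ?_, ?_⟩
      · rw [isNoetherianRing_iff_ideal_fg]
        intro I
        by_cases hI : I = ⊤
        · rw [hI]; exact Module.Finite.fg_top
        · have hI0 : I = ⊥ := le_bot_iff.mp ((le_maximalIdeal hI).trans hm0.le)
          rw [hI0]; exact Submodule.fg_bot
      · rw [hm0]; infer_instance
      · rw [hm0, hp0A]
        exact (Ideal.span_singleton_eq_bot.mpr rfl).symm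
    · haveI := hdom
      haveI := hdvr
      have hqres : ((q : ℕ) : ResidueField A) = 0 := by
        have h1 : ((q : ℕ) : A) ∈ maximalIdeal A := by
          rw [hmq]; exact Ideal.mem_span_singleton_self _
        have h2 : residue A ((q : ℕ) : A) = 0 := (residue_eq_zero_iff _).mpr h1
        rwa [map_natCast] at h2
      have hdvd : p ∣ q := (CharP.cast_eq_zero_iff (ResidueField A) p q).mp hqres
      have hpq : p = q := by
        rcases (Nat.dvd_prime hq).mp hdvd with h1 | h1
        · exact absurd h1 (CharP.char_ne_one (ResidueField A) p)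
        · exact h1
      have hchar : CharZero A := by
        obtain ⟨ℓ, hℓ⟩ := CharP.exists A
        haveI := hℓ
        rcases CharP.char_is_prime_or_zero A ℓ with hℓp | hℓ0
        · exfalso
          have h1 : ((ℓ : ℕ) : A) = 0 := CharP.cast_eq_zero A ℓ
          have h2 : ((ℓ : ℕ) : ResidueField A) = 0 := by
            have h3 := congrArg (residue A) h1
            rwa [map_natCast, map_zero] at h3
          have h3 : p ∣ ℓ := (CharP.cast_eq_zero_iff (ResidueField A) p ℓ).mp h2
          have h4 : p = ℓ := by
            rcases (Nat.dvd_prime hℓp).mp h3 with h5 | h5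
            · exact absurd h5 (CharP.char_ne_one (ResidueField A) p)
            · exact h5
          apply IsDiscreteValuationRing.not_a_field A
          rw [hmq, ← hpq, h4, h1]
          exact Ideal.span_singleton_eq_bot.mpr rfl
        · subst hℓ0
          exact CharP.charP_to_charZero A
      refine ⟨hdom, hchar, inferInstance, hcompl, ?_⟩
      rw [hpq]; exact hmq
  obtain ⟨hdom, hchar, hAN, hcompl, hmA⟩ := key
  haveI := hdom
  haveI := hchar
  refine ⟨inferInstance, hAN, hcompl, flat_of_charZero p, ?_, ?_⟩
  · rw [mapMax p, hmA]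
  · haveI : PerfectField (ResidueField PP) := perfP p
    exact Groth.Agent.H44.MacLane.isGeometricallyReduced_of_perfectField

end Helpers


open IsLocalRing in
/-- Let A be a local ring with residue characteristic p (p = 0 or a prime), P the prime local ring ℤ_(p)
(ℚ if p = 0) and P → A its unique local homomorphism. Then A is a Cohen ring, i.e. a Cohen P-algebra
— Noetherian and complete, flat over P, with pA its maximal ideal (and residue field separable over
the prime field) — if and only if A is a field of characteristic 0 or a complete discrete valuation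
ring of residue characteristic > 0 whose maximal ideal is generated by p·1. -/
theorem result (p : ℕ) [hp : (Ideal.span {(p : ℤ)}).IsPrime]
    {A : Type} [CommRing A] [IsLocalRing A] [CharP (ResidueField A) p]
    [Algebra (Localization.AtPrime (Ideal.span {(p : ℤ)})) A]
    [IsLocalHom (algebraMap (Localization.AtPrime (Ideal.span {(p : ℤ)})) A)] :
    EGA41.IsCohenAlgebra (Localization.AtPrime (Ideal.span {(p : ℤ)})) A ↔ EGA41.IsCohenRingEGA A := by
  exact ⟨forward p, backward p⟩

end Groth.Agent.S4539
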