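import Groth.Statements.S4547
import Groth.Agent.H76.LeftInv
-- import your own Groth.Agent.* helpers here

set_option autoImplicit false
universe u
open EGA41

namespace Groth.Agent.S4547

open IsLocalRing TensorProduct in
/-- Let A be a local ring with residue field k, M an A-module of finite type, N a projective A-module
and u : M → N a homomorphism. Then u is left invertible if and only if there is a finite system of
generators (x_i) of M such that the elements 1 ⊗ u(x_i) of k ⊗_A N are linearly independent over k;
and such a system (x_i) is then a basis of M. -/
theorem result {A : Type u} [CommRing A] [IsLocalRing A] {M N : Type u}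
    [AddCommGroup M] [Module A M] [Module.Finite A M] [AddCommGroup N] [Module A N] [Module.Projective A N]
    (u : M →ₗ[A] N) :
    ((∃ w : N →ₗ[A] M, w ∘ₗ u = LinearMap.id) ↔
      ∃ (m : ℕ) (x : Fin m → M), Submodule.span A (Set.range x) = ⊤ ∧
        LinearIndependent (ResidueField A) (fun i => (1 : ResidueField A) ⊗ₜ[A] u (x i))) ∧
    ∀ (m : ℕ) (x : Fin m → M), Submodule.span A (Set.range x) = ⊤ →
      LinearIndependent (ResidueField A) (fun i => (1 : ResidueField A) ⊗ₜ[A] u (x i)) →
        ∃ b : Module.Basis (Fin m) A M, ∀ i, b i = x i := by
  have partB : ∀ (m : ℕ) (x : Fin m → M), Submodule.span A (Set.range x) = ⊤ →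
      LinearIndependent (ResidueField A) (fun i => (1 : ResidueField A) ⊗ₜ[A] u (x i)) →
        ∃ b : Module.Basis (Fin m) A M, ∀ i, b i = x i :=
    fun m x hspan hli => Groth.Agent.H76.exists_basis_of_li u m x hspan hli
  refine ⟨⟨?_, ?_⟩, partB⟩
  · rintro ⟨w, hw⟩
    haveI : Module.Projective A M := Module.Projective.of_split u w hw
    haveI : Module.Free A M := Module.free_of_flat_of_isLocalRing
    refine ⟨Module.finrank A M, ⇑(Module.finBasis A M), (Module.finBasis A M).span_eq, ?_⟩
    have hinj : Function.Injective (u.baseChange (ResidueField A)) := by
      have hcomp : w.baseChange (ResidueField A) ∘ₗ u.baseChange (ResidueField A) =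
          LinearMap.id := by
        rw [← LinearMap.baseChange_comp, hw, LinearMap.baseChange_id]
      exact Function.LeftInverse.injective (g := w.baseChange (ResidueField A))
        (fun x => LinearMap.congr_fun hcomp x)
    have h1 : LinearIndependent (ResidueField A)
        (fun i => (u.baseChange (ResidueField A))
          (((Module.finBasis A M).baseChange (ResidueField A)) i)) :=
      ((Module.finBasis A M).baseChange (ResidueField A)).linearIndependent.map'
        (u.baseChange (ResidueField A)) (LinearMap.ker_eq_bot.2 hinj)
    have h2 : (fun i => (u.baseChange (ResidueField A))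
          (((Module.finBasis A M).baseChange (ResidueField A)) i)) =
        fun i => (1 : ResidueField A) ⊗ₜ[A] u ((Module.finBasis A M) i) := by
      funext i
      rw [Module.Basis.baseChange_apply, LinearMap.baseChange_tmul]
    rw [h2] at h1
    exact h1
  · rintro ⟨m, x, hspan, hli⟩
    obtain ⟨b, hb⟩ := partB m x hspan hli
    have hinj : Function.Injective (u.lTensor (ResidueField A)) := by
      have h1 : LinearIndependent (ResidueField A)
          (fun i => (u.baseChange (ResidueField A)) ((b.baseChange (ResidueField A)) i)) := by
        have h2 : (fun i => (u.baseChange (ResidueField A))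
            ((b.baseChange (ResidueField A)) i)) =
            fun i => (1 : ResidueField A) ⊗ₜ[A] u (x i) := by
          funext i
          rw [Module.Basis.baseChange_apply, LinearMap.baseChange_tmul, hb]
        rw [h2]
        exact hli
      have h3 := Groth.Agent.H76.injective_of_linearIndependent_basis
        (b.baseChange (ResidueField A)) (u.baseChange (ResidueField A)) h1
      intro y y' hyy'
      exact h3 hyy'
    exact (Groth.Agent.H76.leftInv_iff_lTensor_injective u).2 hinj

end Groth.Agent.S4547
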