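import Groth.Statements.S4549
import Groth.Agent.H44.PBasisAdm
open Groth.Agent.H44.PBasis

set_option autoImplicit false
universe u
open EGA41

namespace Groth.Agent.S4549

open TensorProduct in
/-- Let K be a field of characteristic p, k₀ a subfield and L an extension of K such that Υ_{L/K/k₀} has
finite rank over L. Then there is a subfield k of K containing k₀(K^p), with [K : k] finite, which
is k₀-admissible for the extension L of K, i.e. such that Υ_{L/K/k₀} → Υ_{L/K/k} is injective. (The
published statement uses the characteristic exponent and so also covers characteristic 0, where k =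
K works; this row treats characteristic p > 0.) -/
theorem result (p : ℕ) [Fact p.Prime] {k₀ K L : Type u} [Field k₀] [Field K] [Field L]
    [Algebra k₀ K] [Algebra K L] [Algebra k₀ L] [IsScalarTower k₀ K L] [CharP K p]
    [Module.Finite L (EGA41.imperfection k₀ K L)] :
    ∃ k : IntermediateField k₀ K, (∀ y : K, y ^ p ∈ k) ∧ Module.Finite k K ∧
      ∀ ω ∈ EGA41.imperfection k₀ K L,
        ((KaehlerDifferential.map k₀ k K K).restrictScalars K).baseChange L ω = 0 → ω = 0 := by
  classical
  have hp : p.Prime := Fact.out
  obtain ⟨T, hbasis⟩ := exists_pBasis_set (k₀ := k₀) (K := K) p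
  have hTgen : ∀ b : K, b ∈ Algebra.adjoin (EGA41.pPowerSubalgebra p k₀ K)
      (Set.range fun t : T => id (t : K)) := by
    intro b
    have h1 := (isPGenerating_iff_adjoin p (fun t : T => id (t : K))).mp hbasis.2
    rw [h1]
    trivial
  obtain ⟨bs, hbs⟩ := Groth.Agent.S2466.result p _ hbasis
  obtain ⟨F, hF⟩ := exists_finset_support_subset (bs.baseChange L) (EGA41.imperfection k₀ K L)
    (Module.Finite.iff_fg.mp inferInstance)
  let W : Set K := Set.range (fun y : K => y ^ p) ∪ (fun t : T => (t : K)) '' {t | t ∉ F}
  have hkpow : ∀ y : K, y ^ p ∈ IntermediateField.adjoin k₀ W :=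
    fun y => IntermediateField.subset_adjoin k₀ W (Or.inl ⟨y, rfl⟩)
  refine ⟨IntermediateField.adjoin k₀ W, hkpow, ?_, ?_⟩
  · let S : Set K := (fun t : T => (t : K)) '' (F : Set T)
    have hSfin : S.Finite := (Finset.finite_toSet F).image _
    have : Finite ↥S := hSfin.to_subtype
    have hint : ∀ s ∈ S, IsIntegral (IntermediateField.adjoin k₀ W) s := by
      intro s _
      refine IsIntegral.of_pow hp.pos ?_
      have h1 : s ^ p = algebraMap (IntermediateField.adjoin k₀ W) K ⟨s ^ p, hkpow s⟩ := rfl
      rw [h1]
      exact isIntegral_algebraMap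
    have := IntermediateField.finiteDimensional_adjoin
      (K := IntermediateField.adjoin k₀ W) (L := K) hint
    have htop : IntermediateField.adjoin (IntermediateField.adjoin k₀ W) S = ⊤ := by
      rw [eq_top_iff]
      intro b hb0
      clear hb0
      have hb := hTgen b
      induction hb using Algebra.adjoin_induction with
      | mem z hz =>
        obtain ⟨t, rfl⟩ := hz
        by_cases htF : t ∈ F
        · exact IntermediateField.subset_adjoin _ S ⟨t, htF, rfl⟩
        · have h1 : (id (t : K) : K) ∈ IntermediateField.adjoin k₀ W :=
            IntermediateField.subset_adjoin k₀ W (Or.inr ⟨t, htF, rfl⟩)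
          exact (IntermediateField.adjoin (IntermediateField.adjoin k₀ W) S).algebraMap_mem
            ⟨_, h1⟩
      | algebraMap c =>
        have hc : (c : K) ∈ IntermediateField.adjoin k₀ W := by
          have hle : Algebra.adjoin k₀ (Set.range fun y : K => y ^ p) ≤
              (IntermediateField.adjoin k₀ W).toSubalgebra :=
            Algebra.adjoin_le (fun z hz => IntermediateField.subset_adjoin k₀ W (Or.inl hz))
          exact hle c.2
        exact (IntermediateField.adjoin (IntermediateField.adjoin k₀ W) S).algebraMap_mem
          ⟨_, hc⟩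
      | add y z _ _ hy hz => exact add_mem hy hz
      | mul y z _ _ hy hz => exact mul_mem hy hz
    exact Module.Finite.equiv
      ((IntermediateField.equivOfEq htop).trans IntermediateField.topEquiv).toLinearEquiv
  · intro ω hω h0
    have hindT := (Groth.Agent.S4521.result p (fun t : T => id (t : K))).mp hbasis.1
    have hind : EGA41.IsPIndependent p (IntermediateField.adjoin k₀ W)
        (fun a : ↥(↑F : Set ↥T) => id ((a : T) : K)) := by
      refine (Groth.Agent.S4521.result p _).mpr fun a => ?_
      intro hcon
      apply hindT (a : T)
      have hkE : IntermediateField.adjoin k₀ W ≤ IntermediateField.adjoin k₀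
          (Set.range (fun y : K => y ^ p) ∪
            (fun t : T => id (t : K)) '' {b | b ≠ (a : T)}) := by
        refine IntermediateField.adjoin_le_iff.mpr ?_
        rintro z (hz | ⟨t, ht, rfl⟩)
        · exact IntermediateField.subset_adjoin k₀ _ (Or.inl hz)
        · refine IntermediateField.subset_adjoin k₀ _ (Or.inr ⟨t, ?_, rfl⟩)
          intro h
          exact ht (h ▸ a.2)
      have hle : IntermediateField.adjoin (IntermediateField.adjoin k₀ W)
          (Set.range (fun y : K => y ^ p) ∪
            (fun a' : ↥(↑F : Set ↥T) => id ((a' : T) : K)) '' {b | b ≠ a}) ≤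
          IntermediateField.extendScalars hkE := by
        refine IntermediateField.adjoin_le_iff.mpr ?_
        rintro z (hz | ⟨a', ha', rfl⟩)
        · exact IntermediateField.subset_adjoin k₀ _ (Or.inl hz)
        · refine IntermediateField.subset_adjoin k₀ _ (Or.inr ⟨(a' : T), ?_, rfl⟩)
          intro h
          exact ha' (Subtype.ext h)
      exact hle hcon
    have hli : LinearIndepOn K (fun t : T => KaehlerDifferential.D (IntermediateField.adjoin k₀ W)
        K (id (t : K))) (F : Set T) := linearIndependent_D_of_isPIndependent p _ hind
    exact eq_zero_of_baseChange_map_eq_zero (fun t : T => id (t : K)) bs hbs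
      (IntermediateField.adjoin k₀ W) (F : Set T) hli ω
      (Finset.coe_subset.mpr (hF ω hω)) h0

end Groth.Agent.S4549
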