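import Groth.Statements.S4551
import Mathlib

set_option autoImplicit false
universe u
open EGA41

namespace Groth.Agent.S4551

open TensorProduct in
private lemma key (k : Type u) [Field k] (r : ℕ) (L : Type u) [Field L] [Algebra k L] :
    IsReduced (L ⊗[k] FractionRing (MvPowerSeries (Fin r) k)) := by
  classical
  obtain ⟨φ, hφ⟩ : ∃ φ : L ⊗[k] MvPowerSeries (Fin r) k →ₐ[k] MvPowerSeries (Fin r) L,
      ∀ (l : L) (f : MvPowerSeries (Fin r) k) (d : Fin r →₀ ℕ), MvPowerSeries.coeff d (φ (l ⊗ₜ f)) =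
        l * algebraMap k L (MvPowerSeries.coeff d f) := by
    refine ⟨Algebra.TensorProduct.productMap
      (IsScalarTower.toAlgHom k L (MvPowerSeries (Fin r) L))
      (MvPowerSeries.mapAlgHom (Algebra.ofId k L)), fun l f d => ?_⟩
    rw [Algebra.TensorProduct.productMap_apply_tmul]
    have h1 : (IsScalarTower.toAlgHom k L (MvPowerSeries (Fin r) L)) l = MvPowerSeries.C l := rfl
    have h2 : (MvPowerSeries.mapAlgHom (σ := Fin r) (Algebra.ofId k L)) f =
        MvPowerSeries.map (algebraMap k L) f := rfl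
    rw [h1, h2, MvPowerSeries.coeff_C_mul, MvPowerSeries.coeff_map]
  have hφinj : Function.Injective φ := by
    rw [injective_iff_map_eq_zero]
    intro x hx
    obtain ⟨b⟩ : Nonempty (Module.Basis (Module.Free.ChooseBasisIndex k L) k L) :=
      ⟨Module.Free.chooseBasis k L⟩
    obtain ⟨c, hc⟩ : ∃ c, c = TensorProduct.equivFinsuppOfBasisLeft b x := ⟨_, rfl⟩
    have hx' : x = c.sum fun i f => b i ⊗ₜ[k] f := by
      rw [hc, ← TensorProduct.equivFinsuppOfBasisLeft_symm_apply, LinearEquiv.symm_apply_apply]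
    suffices hc0 : c = 0 by rw [hx', hc0, Finsupp.sum_zero_index]
    ext i d
    have hd : MvPowerSeries.coeff d (φ x) = 0 := by rw [hx, map_zero]
    rw [hx', map_finsuppSum, map_finsuppSum] at hd
    simp only [hφ] at hd
    have h3 : (c.mapRange (MvPowerSeries.coeff d) (map_zero _)).sum (fun i a => a • b i) = 0 := by
      rw [Finsupp.sum_mapRange_index (fun i => zero_smul k (b i))]
      rw [← hd]
      refine Finsupp.sum_congr fun i _ => ?_
      rw [Algebra.smul_def, mul_comm]
    have h4 : c.mapRange (MvPowerSeries.coeff d) (map_zero _) = 0 := by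
      apply b.repr.symm.injective
      rw [map_zero, Module.Basis.repr_symm_apply, Finsupp.linearCombination_apply]
      exact h3
    have h6 := DFunLike.congr_fun h4 i
    simpa using h6
  obtain ⟨m, hm⟩ : ∃ m : L ⊗[k] MvPowerSeries (Fin r) k →ₐ[k] L ⊗[k] FractionRing (MvPowerSeries (Fin r) k),
      m = Algebra.TensorProduct.map (AlgHom.id k L)
        (IsScalarTower.toAlgHom k (MvPowerSeries (Fin r) k) (FractionRing (MvPowerSeries (Fin r) k))) := ⟨_, rfl⟩
  have hmt : ∀ (l : L) (f : MvPowerSeries (Fin r) k), m (l ⊗ₜ f) = l ⊗ₜ (algebraMap (MvPowerSeries (Fin r) k) (FractionRing (MvPowerSeries (Fin r) k)) f) := by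
    intro l f; rw [hm]; rfl
  have hminj : Function.Injective m := by
    rw [hm]
    exact Module.Flat.lTensor_preserves_injective_linearMap (M := L)
      ((IsScalarTower.toAlgHom k (MvPowerSeries (Fin r) k) (FractionRing (MvPowerSeries (Fin r) k))).toLinearMap)
      (IsFractionRing.injective (MvPowerSeries (Fin r) k) (FractionRing (MvPowerSeries (Fin r) k)))
  have hden : ∀ x : L ⊗[k] FractionRing (MvPowerSeries (Fin r) k), ∃ g : MvPowerSeries (Fin r) k, g ≠ 0 ∧ ∃ x'' : L ⊗[k] MvPowerSeries (Fin r) k,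
      ((1 : L) ⊗ₜ[k] algebraMap (MvPowerSeries (Fin r) k) (FractionRing (MvPowerSeries (Fin r) k)) g) * x = m x'' := by
    intro x
    induction x using TensorProduct.induction_on with
    | zero => exact ⟨1, one_ne_zero, 0, by rw [mul_zero, map_zero]⟩
    | tmul l y =>
      obtain ⟨⟨f, g⟩, hfg⟩ := IsLocalization.surj (nonZeroDivisors (MvPowerSeries (Fin r) k)) y
      have hfg' : y * algebraMap (MvPowerSeries (Fin r) k) (FractionRing (MvPowerSeries (Fin r) k)) (g : MvPowerSeries (Fin r) k) = algebraMap (MvPowerSeries (Fin r) k) (FractionRing (MvPowerSeries (Fin r) k)) f := hfg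
      refine ⟨g, nonZeroDivisors.ne_zero g.2, l ⊗ₜ f, ?_⟩
      rw [Algebra.TensorProduct.tmul_mul_tmul, one_mul, hmt, mul_comm, hfg']
    | add x y hx hy =>
      obtain ⟨g1, hg1, x1, h1⟩ := hx
      obtain ⟨g2, hg2, x2, h2⟩ := hy
      refine ⟨g1 * g2, mul_ne_zero hg1 hg2,
        ((1 : L) ⊗ₜ g2) * x1 + ((1 : L) ⊗ₜ g1) * x2, ?_⟩
      simp only [map_add, map_mul, hmt]
      rw [← h1, ← h2]
      have e : ((1 : L) ⊗ₜ[k] (algebraMap (MvPowerSeries (Fin r) k) (FractionRing (MvPowerSeries (Fin r) k)) g1 * algebraMap (MvPowerSeries (Fin r) k) (FractionRing (MvPowerSeries (Fin r) k)) g2)) =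
          ((1 : L) ⊗ₜ[k] algebraMap (MvPowerSeries (Fin r) k) (FractionRing (MvPowerSeries (Fin r) k)) g1) *
            ((1 : L) ⊗ₜ[k] algebraMap (MvPowerSeries (Fin r) k) (FractionRing (MvPowerSeries (Fin r) k)) g2) := by
        rw [Algebra.TensorProduct.tmul_mul_tmul, one_mul]
      rw [e]
      ring
  refine ⟨fun x hx => ?_⟩
  obtain ⟨n, hn⟩ := hx
  obtain ⟨g, hg, x'', hx''⟩ := hden x
  have h1 : m (x'' ^ n) = 0 := by
    rw [map_pow, ← hx'', mul_pow, hn, mul_zero]
  have h2 : x'' ^ n = 0 := hminj (by rw [h1, map_zero])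
  have h3 : φ x'' = 0 := by
    have h : φ x'' ^ n = 0 := by rw [← map_pow, h2, map_zero]
    exact IsNilpotent.eq_zero ⟨n, h⟩
  have h4 : x'' = 0 := hφinj (by rw [h3, map_zero])
  rw [h4, map_zero] at hx''
  have hAg : algebraMap (MvPowerSeries (Fin r) k) (FractionRing (MvPowerSeries (Fin r) k)) g ≠ 0 := by
    intro h0
    exact hg ((IsFractionRing.injective (MvPowerSeries (Fin r) k) (FractionRing (MvPowerSeries (Fin r) k))) (by rw [h0, map_zero]))
  have hunit : ((1 : L) ⊗ₜ[k] (algebraMap (MvPowerSeries (Fin r) k) (FractionRing (MvPowerSeries (Fin r) k)) g)⁻¹) *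
      ((1 : L) ⊗ₜ[k] algebraMap (MvPowerSeries (Fin r) k) (FractionRing (MvPowerSeries (Fin r) k)) g) = 1 := by
    rw [Algebra.TensorProduct.tmul_mul_tmul, one_mul, inv_mul_cancel₀ hAg]
    rfl
  calc x = (((1 : L) ⊗ₜ[k] (algebraMap (MvPowerSeries (Fin r) k) (FractionRing (MvPowerSeries (Fin r) k)) g)⁻¹) *
        ((1 : L) ⊗ₜ[k] algebraMap (MvPowerSeries (Fin r) k) (FractionRing (MvPowerSeries (Fin r) k)) g)) * x := by rw [hunit, one_mul]
    _ = 0 := by rw [mul_assoc, hx'', mul_zero]

/-- For every field k (any characteristic) the field of fractions k((T_1, …, T_r)) of the power series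
ring k[[T_1, …, T_r]] is a separable extension of k, i.e. it is geometrically reduced over k. -/
theorem result (k : Type u) [Field k] (r : ℕ) :
    Algebra.IsGeometricallyReduced k (FractionRing (MvPowerSeries (Fin r) k)) := by
  rw [Algebra.isGeometricallyReduced_field_iff]
  exact key k r (AlgebraicClosure k)

end Groth.Agent.S4551
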