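import Groth.Statements.S4552
import Mathlib

set_option autoImplicit false
universe u
open EGA41

namespace Groth.Agent.S4552

theorem aux {A : Type u} [CommRing A] (𝔞 : Ideal A) (M : Type u)
    [AddCommGroup M] [Module A M] :
    (∀ (n : ℕ) (P Q : Type u) [AddCommGroup P] [Module A P] [AddCommGroup Q] [Module A Q],
      (∀ a ∈ 𝔞 ^ n, ∀ y : P, a • y = 0) → (∀ a ∈ 𝔞 ^ n, ∀ y : Q, a • y = 0) →
      ∀ f : P →ₗ[A] Q, Function.Surjective f → ∀ v : M →ₗ[A] Q, ∃ w : M →ₗ[A] P, f ∘ₗ w = v) ↔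
    ∀ n : ℕ, Module.Projective (A ⧸ 𝔞 ^ n) (M ⧸ (𝔞 ^ n • ⊤ : Submodule A M)) := by
  constructor
  · intro h n
    have hsurjA : Function.Surjective (algebraMap A (A ⧸ 𝔞 ^ n)) := Ideal.Quotient.mk_surjective
    have hkillF : ∀ a ∈ 𝔞 ^ n,
        ∀ y : (M ⧸ (𝔞 ^ n • ⊤ : Submodule A M)) →₀ (A ⧸ 𝔞 ^ n), a • y = 0 := by
      intro a ha y
      rw [← algebraMap_smul (A ⧸ 𝔞 ^ n) a y]
      have : algebraMap A (A ⧸ 𝔞 ^ n) a = 0 := Ideal.Quotient.eq_zero_iff_mem.mpr ha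
      rw [this, zero_smul]
    have hkillQ : ∀ a ∈ 𝔞 ^ n, ∀ y : M ⧸ (𝔞 ^ n • ⊤ : Submodule A M), a • y = 0 :=
      fun a ha y => Module.isTorsionBySet_quotient_ideal_smul M (𝔞 ^ n) (x := y) (a := ⟨a, ha⟩)
    obtain ⟨w, hw⟩ := h n ((M ⧸ (𝔞 ^ n • ⊤ : Submodule A M)) →₀ (A ⧸ 𝔞 ^ n))
      (M ⧸ (𝔞 ^ n • ⊤ : Submodule A M)) hkillF hkillQ
      ((Finsupp.linearCombination (A ⧸ 𝔞 ^ n)
        (id : M ⧸ (𝔞 ^ n • ⊤ : Submodule A M) → _)).restrictScalars A)
      (Finsupp.linearCombination_id_surjective _ _) (Submodule.mkQ _)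
    let wbar : (M ⧸ (𝔞 ^ n • ⊤ : Submodule A M)) →ₗ[A]
        ((M ⧸ (𝔞 ^ n • ⊤ : Submodule A M)) →₀ (A ⧸ 𝔞 ^ n)) :=
      Submodule.liftQ _ w (by
        rw [Submodule.smul_le]
        intro a ha m _
        rw [LinearMap.mem_ker, map_smul]
        exact hkillF a ha _)
    refine Module.Projective.of_split (LinearMap.extendScalarsOfSurjective hsurjA wbar)
      (Finsupp.linearCombination (A ⧸ 𝔞 ^ n) (id : M ⧸ (𝔞 ^ n • ⊤ : Submodule A M) → _)) ?_
    refine LinearMap.ext fun x => ?_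
    obtain ⟨m, rfl⟩ := Submodule.Quotient.mk_surjective _ x
    have := LinearMap.congr_fun hw m
    simpa [wbar] using this
  · intro h n P Q _ _ _ _ hP hQ f hf v
    have hsurjA : Function.Surjective (algebraMap A (A ⧸ 𝔞 ^ n)) := Ideal.Quotient.mk_surjective
    have hP' : Module.IsTorsionBySet A P ((𝔞 ^ n : Ideal A) : Set A) := fun y a => hP a.1 a.2 y
    have hQ' : Module.IsTorsionBySet A Q ((𝔞 ^ n : Ideal A) : Set A) := fun y a => hQ a.1 a.2 y
    let : Module (A ⧸ 𝔞 ^ n) P := hP'.module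
    let : Module (A ⧸ 𝔞 ^ n) Q := hQ'.module
    have : IsScalarTower A (A ⧸ 𝔞 ^ n) P := hP'.isScalarTower
    have : IsScalarTower A (A ⧸ 𝔞 ^ n) Q := hQ'.isScalarTower
    have := h n
    let vbar : (M ⧸ (𝔞 ^ n • ⊤ : Submodule A M)) →ₗ[A] Q :=
      Submodule.liftQ _ v (by
        rw [Submodule.smul_le]
        intro a ha m _
        rw [LinearMap.mem_ker, map_smul]
        exact hQ a ha _)
    obtain ⟨wbar, hwbar⟩ := Module.projective_lifting_property
      (LinearMap.extendScalarsOfSurjective hsurjA f)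
      (LinearMap.extendScalarsOfSurjective hsurjA vbar) hf
    refine ⟨(wbar.restrictScalars A).comp (Submodule.mkQ _), ?_⟩
    refine LinearMap.ext fun m => ?_
    have := LinearMap.congr_fun hwbar (Submodule.Quotient.mk m)
    simpa [vbar] using this

/-- For the 𝔞-adic topology on A and the deduced topology on M: the topological A-module M is formally
projective (for every open ideal 𝔞ⁿ, every pair of (A/𝔞ⁿ)-modules P, Q, every surjection P → Q and
every continuous A-linear map M → Q — here automatically continuous — there is a continuous A-linear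
lift M → P) if and only if it is strictly formally projective, i.e. M/𝔞ⁿM is a projective
(A/𝔞ⁿ)-module for every n. -/
theorem result {A : Type u} [CommRing A] (𝔞 : Ideal A) (M : Type u)
    [AddCommGroup M] [Module A M] :
    (∀ (n : ℕ) (P Q : Type u) [AddCommGroup P] [Module A P] [AddCommGroup Q] [Module A Q],
      (∀ a ∈ 𝔞 ^ n, ∀ y : P, a • y = 0) → (∀ a ∈ 𝔞 ^ n, ∀ y : Q, a • y = 0) →
      ∀ f : P →ₗ[A] Q, Function.Surjective f → ∀ v : M →ₗ[A] Q, ∃ w : M →ₗ[A] P, f ∘ₗ w = v) ↔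
    ∀ n : ℕ, Module.Projective (A ⧸ 𝔞 ^ n) (M ⧸ (𝔞 ^ n • ⊤ : Submodule A M)) := by
  exact aux 𝔞 M

end Groth.Agent.S4552
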