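import Groth.Statements.S4555
import Groth.Agent.H87.NilEval

set_option autoImplicit false
set_option maxHeartbeats 400000
universe u
open EGA41

namespace Groth.Agent.S4555

/-- Let A carry the 𝔞-adic topology, B = A[[T_1, …, T_n]] the product topology (the adic topology of 𝔞B
+ (T_1, …, T_n)), and let E be a discrete topological A-algebra (a power of 𝔞 kills E). (i) If f : B
→ E is a continuous A-algebra homomorphism then each f(T_i) is nilpotent. (ii) Conversely, for every
family (z_i) of nilpotent elements of E there is one and only one continuous A-algebra homomorphism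
g : B → E with g(T_i) = z_i for all i. -/
theorem result (A : Type u) [CommRing A] (𝔞 : Ideal A) (n : ℕ) (E : Type u) [CommRing E]
    [Algebra A E] (hE : ∃ k : ℕ, (𝔞 ^ k).map (algebraMap A E) = ⊥) :
    (∀ f : MvPowerSeries (Fin n) A →ₐ[A] E,
      (∃ m : ℕ, ∀ x ∈ (𝔞.map (MvPowerSeries.C : A →+* MvPowerSeries (Fin n) A) ⊔
        RingHom.ker (MvPowerSeries.constantCoeff : MvPowerSeries (Fin n) A →+* A)) ^ m, f x = 0) →
      ∀ i, IsNilpotent (f (MvPowerSeries.X i))) ∧
    ∀ z : Fin n → E, (∀ i, IsNilpotent (z i)) →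
      ∃! g : MvPowerSeries (Fin n) A →ₐ[A] E,
        (∃ m : ℕ, ∀ x ∈ (𝔞.map (MvPowerSeries.C : A →+* MvPowerSeries (Fin n) A) ⊔
          RingHom.ker (MvPowerSeries.constantCoeff : MvPowerSeries (Fin n) A →+* A)) ^ m, g x = 0) ∧
        ∀ i, g (MvPowerSeries.X i) = z i := by
  classical
  have hK : RingHom.ker (MvPowerSeries.constantCoeff : MvPowerSeries (Fin n) A →+* A) ≤
      𝔞.map (MvPowerSeries.C : A →+* MvPowerSeries (Fin n) A) ⊔
        RingHom.ker (MvPowerSeries.constantCoeff : MvPowerSeries (Fin n) A →+* A) := le_sup_right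
  have hK' : Ideal.span (Set.range (MvPowerSeries.X : Fin n → MvPowerSeries (Fin n) A)) ≤
      𝔞.map (MvPowerSeries.C : A →+* MvPowerSeries (Fin n) A) ⊔
        RingHom.ker (MvPowerSeries.constantCoeff : MvPowerSeries (Fin n) A →+* A) := by
    rw [← Groth.Agent.H87.NilEval.ker_constantCoeff_eq]; exact hK
  constructor
  · rintro f ⟨m, hm⟩ i
    refine ⟨m, ?_⟩
    rw [← map_pow]
    apply hm
    exact Ideal.pow_mem_pow (hK (RingHom.mem_ker.2 (MvPowerSeries.constantCoeff_X i))) m
  · intro z hz
    obtain ⟨g, M, hgX, hgM⟩ := Groth.Agent.H87.NilEval.exists_evalNil (A := A) z hz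
    obtain ⟨k, hk⟩ := hE
    have hle : (𝔞.map (MvPowerSeries.C : A →+* MvPowerSeries (Fin n) A)) ^ k ≤
        RingHom.ker (g : MvPowerSeries (Fin n) A →+* E) := by
      rw [← Ideal.map_pow, Ideal.map_le_iff_le_comap]
      intro r hr
      rw [Ideal.mem_comap, RingHom.mem_ker]
      have e1 : (g : MvPowerSeries (Fin n) A →+* E) (MvPowerSeries.C r) = algebraMap A E r := by
        have : (MvPowerSeries.C r : MvPowerSeries (Fin n) A) =
            algebraMap A (MvPowerSeries (Fin n) A) r := by
          rw [MvPowerSeries.algebraMap_apply]; rfl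
        rw [this]; exact g.commutes r
      rw [e1]
      have := Ideal.mem_map_of_mem (algebraMap A E) hr
      rw [hk] at this; exact this
    have hcont : ∀ x ∈ (𝔞.map (MvPowerSeries.C : A →+* MvPowerSeries (Fin n) A) ⊔
        RingHom.ker (MvPowerSeries.constantCoeff : MvPowerSeries (Fin n) A →+* A)) ^ (k + M),
        g x = 0 := by
      intro x hx
      have h1 := Ideal.sup_pow_add_le_pow_sup_pow hx
      obtain ⟨a, ha, b, hb, rfl⟩ := Submodule.mem_sup.1 h1
      rw [map_add]
      have h2 : g a = 0 := RingHom.mem_ker.1 (hle ha)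
      have h5 : g b = 0 := hgM b (by rwa [← Groth.Agent.H87.NilEval.ker_constantCoeff_eq])
      rw [h2, h5, add_zero]
    refine ⟨g, ⟨⟨k + M, hcont⟩, hgX⟩, ?_⟩
    rintro g' ⟨⟨m', hm'⟩, hg'X⟩
    refine Groth.Agent.H87.NilEval.algHom_ext_of_kills g' g (max m' M) ?_ ?_
      (fun i => by rw [hg'X, hgX])
    · intro f hf
      apply hm'
      exact Ideal.pow_right_mono hK' m' (Ideal.pow_le_pow_right (le_max_left _ _) hf)
    · intro f hf
      exact hgM f (Ideal.pow_le_pow_right (le_max_right _ _) hf)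

end Groth.Agent.S4555
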