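import Groth.Statements.S4556
import Mathlib

set_option autoImplicit false
universe u
open EGA41

namespace Groth.Agent.S4556

theorem aux {A B E E' : Type u} [CommRing A] [CommRing B] [Algebra A B]
    [Algebra.FormallySmooth A B] [CommRing E] [CommRing E'] [Algebra A E] [Algebra A E']
    (R : Ideal E) (R' : Ideal E') (hR : IsNilpotent R)
    (f : E →ₐ[A] E') (hf : Function.Surjective f) (hfR : R.map f.toRingHom = R')
    (hle : R ≤ R'.comap f)
    (u : B →ₐ[A] E ⧸ R) (v' : B →ₐ[A] E')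
    (huv : (Ideal.Quotient.mkₐ A R').comp v' = (Ideal.quotientMapₐ R' f hle).comp u) :
    ∃ v : B →ₐ[A] E, f.comp v = v' := by
  let φ₁ : (E' × (E ⧸ R)) →ₐ[A] (E' ⧸ R') :=
    (Ideal.Quotient.mkₐ A R').comp (AlgHom.fst A E' (E ⧸ R))
  let φ₂ : (E' × (E ⧸ R)) →ₐ[A] (E' ⧸ R') :=
    (Ideal.quotientMapₐ R' f hle).comp (AlgHom.snd A E' (E ⧸ R))
  let g : E →ₐ[A] AlgHom.equalizer φ₁ φ₂ :=
    AlgHom.codRestrict (AlgHom.prod f (Ideal.Quotient.mkₐ A R)) (AlgHom.equalizer φ₁ φ₂) (by
      intro e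
      rw [AlgHom.mem_equalizer]
      simp [φ₁, φ₂])
  let w : B →ₐ[A] AlgHom.equalizer φ₁ φ₂ :=
    AlgHom.codRestrict (AlgHom.prod v' u) (AlgHom.equalizer φ₁ φ₂) (by
      intro b
      rw [AlgHom.mem_equalizer]
      exact DFunLike.congr_fun huv b)
  have hg : Function.Surjective g := by
    rintro ⟨⟨e', ebar⟩, hd⟩
    obtain ⟨e, rfl⟩ := Ideal.Quotient.mk_surjective ebar
    rw [AlgHom.mem_equalizer] at hd
    have hd' : Ideal.Quotient.mk R' e' = Ideal.Quotient.mk R' (f e) := by
      simpa [φ₁, φ₂] using hd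
    have h1 : f e - e' ∈ R' := by
      rw [← Ideal.Quotient.eq]; exact hd'.symm
    rw [← hfR] at h1
    obtain ⟨ρ, hρ, hρe⟩ := (Ideal.mem_map_iff_of_surjective f.toRingHom hf).mp h1
    have hρe' : f ρ = f e - e' := hρe
    refine ⟨e - ρ, Subtype.ext (Prod.ext ?_ ?_)⟩
    · change f (e - ρ) = e'
      rw [map_sub, hρe']; ring
    · change Ideal.Quotient.mk R (e - ρ) = Ideal.Quotient.mk R e
      rw [map_sub, Ideal.Quotient.eq_zero_iff_mem.mpr hρ, sub_zero]
  have hker : RingHom.ker (g : E →+* AlgHom.equalizer φ₁ φ₂) ≤ R := by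
    intro e he
    have h0 : g e = 0 := he
    have h2 : Ideal.Quotient.mk R e = 0 :=
      congrArg (fun d : AlgHom.equalizer φ₁ φ₂ => d.1.2) h0
    exact Ideal.Quotient.eq_zero_iff_mem.mp h2
  have hnil : IsNilpotent (RingHom.ker (g : E →+* AlgHom.equalizer φ₁ φ₂)) := by
    obtain ⟨k, hk⟩ := hR
    refine ⟨k, ?_⟩
    rw [Ideal.zero_eq_bot] at hk ⊢
    exact le_bot_iff.mp ((Ideal.pow_right_mono hker k).trans hk.le)
  refine ⟨Algebra.FormallySmooth.liftOfSurjective w g hg hnil, ?_⟩
  have hcomp := Algebra.FormallySmooth.comp_liftOfSurjective w g hg hnil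
  ext b
  exact congrArg (fun d : AlgHom.equalizer φ₁ φ₂ => d.1.1) (DFunLike.congr_fun hcomp b)

/-- Let B be a formally smooth A-algebra, E and E' two A-algebras, R (resp. R') a nilpotent ideal of E
(resp. E'), f : E → E' a surjective A-algebra homomorphism with f(R) = R', and f' : E/R → E'/R' the
induced homomorphism. Let u : B → E/R be an A-algebra homomorphism and v' : B → E' an A-algebra
homomorphism through which f' ∘ u factors (v' followed by E' → E'/R' equals f' ∘ u). Then there is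
an A-algebra homomorphism v : B → E with f ∘ v = v'. (The published statement assumes only f(R) ⊆
R'; in that form it fails for B = ℚ[x, x⁻¹], E = ℚ[t], E' = ℚ[t]/(t²), R = 0, R' = (t), u : x ↦ 1
and v' : x ↦ 1 + t, since any v sends x to a unit of ℚ[t], a constant; the argument identifies R'
with the image of R, and that equality is assumed here.) -/
theorem result {A B E E' : Type u} [CommRing A] [CommRing B] [Algebra A B]
    [Algebra.FormallySmooth A B] [CommRing E] [CommRing E'] [Algebra A E] [Algebra A E']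
    (R : Ideal E) (R' : Ideal E') (hR : IsNilpotent R) (hR' : IsNilpotent R')
    (f : E →ₐ[A] E') (hf : Function.Surjective f) (hfR : R.map f.toRingHom = R')
    (u : B →ₐ[A] E ⧸ R) (v' : B →ₐ[A] E')
    (huv : (Ideal.Quotient.mkₐ A R').comp v' =
      (Ideal.quotientMapₐ R' f (fun x hx => hfR.le (Ideal.mem_map_of_mem f.toRingHom hx))).comp u) :
    ∃ v : B →ₐ[A] E, f.comp v = v' := by
  exact aux R R' hR f hf hfR _ u v' huv

end Groth.Agent.S4556
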