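import Groth.Statements.S4559
import Groth.Agent.Lead.KaehlerProj2

set_option autoImplicit false
universe u
open EGA41

namespace Groth.Agent.S4559

/-- Let A be 𝔞-adic and B a topological A-algebra for the 𝔟-adic topology (a power of 𝔞 maps into 𝔟).
Then B is a formally unramified A-algebra (for every homomorphism E → C of discrete A-algebras with
nilpotent kernel and every continuous u : B → C there is at most one continuous lift B → E; here E
discrete means killed by a power of 𝔞, and one may take C = E/J) if and only if the separated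
completion of Ω_{B/A}, i.e. its 𝔟-adic completion, is zero. -/
theorem result {A B : Type u} [CommRing A] [CommRing B] [Algebra A B]
    (𝔞 : Ideal A) (𝔟 : Ideal B) (hAB : ∃ k : ℕ, (𝔞 ^ k).map (algebraMap A B) ≤ 𝔟) :
    (∀ (E : Type u) [CommRing E] [Algebra A E], (∃ k : ℕ, (𝔞 ^ k).map (algebraMap A E) = ⊥) →
      ∀ J : Ideal E, IsNilpotent J → ∀ v₁ v₂ : B →ₐ[A] E,
        (∃ m : ℕ, ∀ x ∈ 𝔟 ^ m, v₁ x = 0) → (∃ m : ℕ, ∀ x ∈ 𝔟 ^ m, v₂ x = 0) →
        (∀ b : B, Ideal.Quotient.mk J (v₁ b) = Ideal.Quotient.mk J (v₂ b)) → v₁ = v₂) ↔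
    Subsingleton (AdicCompletion 𝔟 (Ω[B⁄A])) := by
  constructor
  · intro H
    have hΩ : ∀ n : ℕ, (𝔟 ^ n) • (⊤ : Submodule B Ω[B⁄A]) = ⊤ := by
      intro n
      apply Lead.KaehlerProj.smul_top_eq_top_of_eq
      obtain ⟨k₀, hk₀⟩ := hAB
      refine H (Lead.KaehlerProj.C' A B (𝔟 ^ n)) ⟨k₀ * n, ?_⟩ (Lead.KaehlerProj.K A B (𝔟 ^ n))
        ⟨2, Lead.KaehlerProj.K_sq A B (𝔟 ^ n)⟩ (Lead.KaehlerProj.u₁ A B (𝔟 ^ n))
        (Lead.KaehlerProj.u₀ A B (𝔟 ^ n)) ⟨n + n, ?_⟩ ⟨n, ?_⟩ ?_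
      · rw [Ideal.map_eq_bot_iff_le_ker]
        intro a ha
        rw [RingHom.mem_ker]
        apply Lead.KaehlerProj.algebraMap_C'_eq_zero
        have h1 : (𝔞 ^ (k₀ * n)).map (algebraMap A B) ≤ 𝔟 ^ n := by
          rw [pow_mul, Ideal.map_pow]
          exact Ideal.pow_right_mono hk₀ n
        exact h1 (Ideal.mem_map_of_mem _ ha)
      · intro x hx
        apply Lead.KaehlerProj.u₁_eq_zero_of_mem_mul
        rwa [pow_add] at hx
      · intro x hx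
        exact Lead.KaehlerProj.u₀_eq_zero_of_mem A B (𝔟 ^ n) hx
      · intro b
        rw [Ideal.Quotient.eq]
        exact Lead.KaehlerProj.sub_mem_K A B (𝔟 ^ n) b
    refine ⟨fun x y => ?_⟩
    apply AdicCompletion.ext
    intro n
    haveI : Subsingleton (Ω[B⁄A] ⧸ ((𝔟 ^ n) • (⊤ : Submodule B Ω[B⁄A]))) :=
      Submodule.Quotient.subsingleton_iff.2 (hΩ n)
    exact Subsingleton.elim _ _
  · intro hsub E _ _ hk J hJ v₁ v₂ hv₁ hv₂ hv
    obtain ⟨m₁, h₁⟩ := hv₁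
    obtain ⟨m₂, h₂⟩ := hv₂
    have hΩ : ∀ n : ℕ, (𝔟 ^ n) • (⊤ : Submodule B Ω[B⁄A]) = ⊤ := by
      intro n
      rw [← Submodule.Quotient.subsingleton_iff]
      exact (AdicCompletion.eval_surjective 𝔟 Ω[B⁄A] n).subsingleton
    set m := max m₁ m₂ with hm
    haveI hU : Algebra.FormallyUnramified A (B ⧸ 𝔟 ^ m) := by
      rw [Algebra.formallyUnramified_iff]
      haveI : Subsingleton (TensorProduct B (B ⧸ 𝔟 ^ m) Ω[B⁄A]) := by
        have h4 : Subsingleton (Ω[B⁄A] ⧸ (𝔟 ^ m) • (⊤ : Submodule B Ω[B⁄A])) :=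
          Submodule.Quotient.subsingleton_iff.2 (hΩ m)
        exact (TensorProduct.quotTensorEquivQuotSMul Ω[B⁄A] (𝔟 ^ m)).toEquiv.subsingleton
      exact (KaehlerDifferential.mapBaseChange_surjective A B (B ⧸ 𝔟 ^ m)
        Ideal.Quotient.mk_surjective).subsingleton
    have hk₁ : ∀ x ∈ 𝔟 ^ m, v₁ x = 0 := fun x hx =>
      h₁ x (Ideal.pow_le_pow_right (le_max_left m₁ m₂) hx)
    have hk₂ : ∀ x ∈ 𝔟 ^ m, v₂ x = 0 := fun x hx =>
      h₂ x (Ideal.pow_le_pow_right (le_max_right m₁ m₂) hx)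
    let w₁ : (B ⧸ 𝔟 ^ m) →ₐ[A] E := Ideal.Quotient.liftₐ (𝔟 ^ m) v₁ hk₁
    let w₂ : (B ⧸ 𝔟 ^ m) →ₐ[A] E := Ideal.Quotient.liftₐ (𝔟 ^ m) v₂ hk₂
    have hw : w₁ = w₂ := by
      apply Algebra.FormallyUnramified.lift_unique J hJ
      apply AlgHom.ext
      intro x
      obtain ⟨b, rfl⟩ := Ideal.Quotient.mk_surjective x
      exact hv b
    apply AlgHom.ext
    intro b
    exact AlgHom.congr_fun hw (Ideal.Quotient.mk (𝔟 ^ m) b)

end Groth.Agent.S4559
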