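import Mathlib
import Groth.Statements.S4560

set_option autoImplicit false
universe u
open EGA41
open KaehlerDifferential TensorProduct

namespace Groth.Agent.S4560

theorem subsingleton_tensor {A B : Type u} [CommRing A] [CommRing B] [Algebra A B] (𝔪 : Ideal A)
    [hU : Algebra.FormallyUnramified A (B ⧸ 𝔪.map (algebraMap A B))] :
    Subsingleton ((B ⧸ 𝔪.map (algebraMap A B)) ⊗[B] Ω[B⁄A]) := by
  haveI : Subsingleton Ω[(B ⧸ 𝔪.map (algebraMap A B))⁄A] :=
    (Algebra.formallyUnramified_iff _ _).1 hU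
  refine subsingleton_of_forall_eq 0 fun x ↦ ?_
  obtain ⟨x, rfl⟩ := (KaehlerDifferential.exact_kerCotangentToTensor_mapBaseChange A B
    (B ⧸ 𝔪.map (algebraMap A B)) Ideal.Quotient.mk_surjective x).mp (Subsingleton.elim _ _)
  obtain ⟨⟨x, hx⟩, rfl⟩ := Ideal.toCotangent_surjective _ x
  simp only [KaehlerDifferential.kerCotangentToTensor_toCotangent]
  replace hx : x ∈ Ideal.map (algebraMap A B) 𝔪 := by
    simpa [Ideal.Quotient.algebraMap_eq, Ideal.mk_ker] using hx
  induction hx using Submodule.span_induction with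
  | zero => simp
  | mem x h => obtain ⟨a, ha, rfl⟩ := h; simp
  | add x y hx hy _ _ => simp [*, TensorProduct.tmul_add]
  | smul b x hx ih =>
    have h0 : (Ideal.Quotient.mk (𝔪.map (algebraMap A B)) x) = 0 :=
      Ideal.Quotient.eq_zero_iff_mem.2 hx
    simp [*, TensorProduct.tmul_add, TensorProduct.smul_tmul', ← Algebra.algebraMap_eq_smul_one]

theorem pow_smul_top {B W : Type*} [CommRing B] [AddCommGroup W] [Module B W] (I : Ideal B)
    (h : I • (⊤ : Submodule B W) = ⊤) (k : ℕ) : (I ^ k) • (⊤ : Submodule B W) = ⊤ := by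
  induction k with
  | zero => simp
  | succ k ih => rw [pow_succ, Submodule.mul_smul, h, ih]


/-- Let A be a ring, 𝔪 an ideal of A, B an A-algebra; give A the 𝔪-adic topology and B the topology
deduced from it (the 𝔪B-adic topology), and put A₀ = A/𝔪, B₀ = B/𝔪B. Then B is a formally unramified
A-algebra (for these topologies: E discrete means killed by a power of 𝔪, and continuity of maps B →
E is then automatic) if and only if Ω_{B₀/A₀} = 0, i.e. B₀ is a formally unramified A₀-algebra. -/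
theorem result {A B : Type u} [CommRing A] [CommRing B] [Algebra A B] (𝔪 : Ideal A) :
    (∀ (E : Type u) [CommRing E] [Algebra A E], (∃ k : ℕ, (𝔪 ^ k).map (algebraMap A E) = ⊥) →
      ∀ J : Ideal E, IsNilpotent J → ∀ v₁ v₂ : B →ₐ[A] E,
        (∀ b : B, Ideal.Quotient.mk J (v₁ b) = Ideal.Quotient.mk J (v₂ b)) → v₁ = v₂) ↔
    Subsingleton (Ω[B ⧸ 𝔪.map (algebraMap A B)⁄A ⧸ 𝔪]) := by
  classical
  constructor
  · intro H
    rw [← Algebra.formallyUnramified_iff, Algebra.FormallyUnramified.iff_comp_injective]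
    intro E _ _ J hJ g₁ g₂ hg
    letI : Algebra A E := Algebra.compHom E (algebraMap A (A ⧸ 𝔪))
    haveI : IsScalarTower A (A ⧸ 𝔪) E := IsScalarTower.of_algebraMap_eq (fun _ => rfl)
    have hk : ∃ k : ℕ, (𝔪 ^ k).map (algebraMap A E) = ⊥ := by
      refine ⟨1, ?_⟩
      rw [pow_one, Ideal.map_eq_bot_iff_le_ker]
      intro a ha
      rw [RingHom.mem_ker, IsScalarTower.algebraMap_apply A (A ⧸ 𝔪) E,
        Ideal.Quotient.algebraMap_eq, Ideal.Quotient.eq_zero_iff_mem.2 ha, map_zero]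
    have hJnil : IsNilpotent J := ⟨2, hJ⟩
    let π : B →ₐ[A] (B ⧸ 𝔪.map (algebraMap A B)) := Ideal.Quotient.mkₐ A _
    have key := H E hk J hJnil ((g₁.restrictScalars A).comp π) ((g₂.restrictScalars A).comp π)
      (fun b => AlgHom.congr_fun hg (π b))
    apply AlgHom.ext
    intro x
    obtain ⟨b, rfl⟩ := Ideal.Quotient.mk_surjective x
    exact AlgHom.congr_fun key b
  · intro hΩ E _ _ hk J hJ v₁ v₂ hv
    obtain ⟨k, hk⟩ := hk
    set I := 𝔪.map (algebraMap A B) with hI
    haveI : Algebra.FormallyUnramified (A ⧸ 𝔪) (B ⧸ I) :=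
      (Algebra.formallyUnramified_iff _ _).2 hΩ
    haveI : Algebra.FormallyUnramified A (B ⧸ I) :=
      Algebra.FormallyUnramified.comp A (A ⧸ 𝔪) (B ⧸ I)
    haveI h1 : Subsingleton ((B ⧸ I) ⊗[B] Ω[B⁄A]) := subsingleton_tensor 𝔪
    have h2 : I • (⊤ : Submodule B Ω[B⁄A]) = ⊤ := by
      rw [← Submodule.Quotient.subsingleton_iff]
      exact (TensorProduct.quotTensorEquivQuotSMul Ω[B⁄A] I).symm.toEquiv.subsingleton
    have h3 := pow_smul_top I h2 k
    haveI hUk : Algebra.FormallyUnramified A (B ⧸ I ^ k) := by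
      rw [Algebra.formallyUnramified_iff]
      haveI : Subsingleton ((B ⧸ I ^ k) ⊗[B] Ω[B⁄A]) := by
        have h4 : Subsingleton (Ω[B⁄A] ⧸ (I ^ k) • (⊤ : Submodule B Ω[B⁄A])) :=
          Submodule.Quotient.subsingleton_iff.2 h3
        exact (TensorProduct.quotTensorEquivQuotSMul Ω[B⁄A] (I ^ k)).toEquiv.subsingleton
      exact (KaehlerDifferential.mapBaseChange_surjective A B (B ⧸ I ^ k)
        Ideal.Quotient.mk_surjective).subsingleton
    have hkill : ∀ (v : B →ₐ[A] E) (x : B), x ∈ I ^ k → v x = 0 := by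
      intro v x hx
      have h5 : (I ^ k).map (v : B →+* E) = ⊥ := by
        rw [hI, ← Ideal.map_pow, Ideal.map_map, v.comp_algebraMap, hk]
      have h6 := Ideal.mem_map_of_mem (v : B →+* E) hx
      rw [h5] at h6
      simpa using h6
    let w₁ : (B ⧸ I ^ k) →ₐ[A] E := Ideal.Quotient.liftₐ (I ^ k) v₁ (hkill v₁)
    let w₂ : (B ⧸ I ^ k) →ₐ[A] E := Ideal.Quotient.liftₐ (I ^ k) v₂ (hkill v₂)
    have hw : w₁ = w₂ := by
      apply Algebra.FormallyUnramified.lift_unique J hJ
      apply AlgHom.ext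
      intro x
      obtain ⟨b, rfl⟩ := Ideal.Quotient.mk_surjective x
      exact hv b
    apply AlgHom.ext
    intro b
    have := AlgHom.congr_fun hw (Ideal.Quotient.mk (I ^ k) b)
    exact this

end Groth.Agent.S4560
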