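import Groth.Statements.S4561
import Mathlib

set_option autoImplicit false
set_option linter.style.haveILetI false
set_option linter.unusedSectionVars false
set_option linter.unusedVariables false
universe u
open EGA41

namespace Groth.Agent.S4561

section Helpers

theorem F1_le_W (p : ℕ) [Fact p.Prime] {k₀ K₀ : Type u} [Field k₀] [Field K₀] [Algebra k₀ K₀]
    (hfin : Module.Finite (Subfield.closure (Set.range fun x : k₀ => x ^ p)) k₀) :
    ∃ (N : ℕ) (b : Fin N → k₀),
      ∀ a ∈ Subfield.closure (Set.range (algebraMap k₀ K₀) ∪ Set.range fun y : K₀ => y ^ p),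
      ∃ c : Fin N → K₀, (∀ i, c i ∈ Subfield.closure (Set.range fun y : K₀ => y ^ p)) ∧
        a = ∑ i, algebraMap k₀ K₀ (b i) * c i := by
  classical
  obtain ⟨N, b, hb⟩ := Module.Finite.exists_fin
    (R := ↥(Subfield.closure (Set.range fun x : k₀ => x ^ p))) (M := k₀)
  refine ⟨N, b, ?_⟩
  obtain ⟨F2, hF2⟩ : ∃ F2 : Subfield K₀,
      F2 = Subfield.closure (Set.range fun y : K₀ => y ^ p) := ⟨_, rfl⟩
  rw [← hF2]
  have hpow : ∀ a : K₀, a ^ p ∈ F2 := fun a => by
    rw [hF2]; exact Subfield.subset_closure ⟨a, rfl⟩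
  have hE : ∀ e : ↥(Subfield.closure (Set.range fun x : k₀ => x ^ p)),
      algebraMap k₀ K₀ (e : k₀) ∈ F2 := by
    have hle : Subfield.closure (Set.range fun x : k₀ => x ^ p) ≤
        F2.comap (algebraMap k₀ K₀) := by
      rw [Subfield.closure_le]
      rintro _ ⟨x, rfl⟩
      show algebraMap k₀ K₀ (x ^ p) ∈ F2
      rw [map_pow]
      exact hpow _
    intro e
    exact hle e.2
  obtain ⟨W, hW⟩ : ∃ W : Submodule ↥F2 K₀,
      W = Submodule.span ↥F2 (Set.range fun i => algebraMap k₀ K₀ (b i)) := ⟨_, rfl⟩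
  have hgen : ∀ i, algebraMap k₀ K₀ (b i) ∈ W := fun i => by
    rw [hW]; exact Submodule.subset_span ⟨i, rfl⟩
  have hF2W : ∀ c ∈ F2, ∀ w ∈ W, c * w ∈ W := by
    intro c hc w hw
    exact W.smul_mem (⟨c, hc⟩ : ↥F2) hw
  have hW1 : ∀ x : k₀, algebraMap k₀ K₀ x ∈ W := by
    intro x
    have hx : x ∈ Submodule.span ↥(Subfield.closure (Set.range fun x : k₀ => x ^ p))
        (Set.range b) := by rw [hb]; exact Submodule.mem_top
    obtain ⟨e, he⟩ := (Submodule.mem_span_range_iff_exists_fun _).mp hx
    rw [← he, map_sum]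
    apply W.sum_mem
    intro i _
    have h1 : algebraMap k₀ K₀ (e i • b i) =
        algebraMap k₀ K₀ (e i : k₀) * algebraMap k₀ K₀ (b i) := by
      rw [Subfield.smul_def, smul_eq_mul, map_mul]
    rw [h1]
    exact hF2W _ (hE (e i)) _ (hgen i)
  have hmulgen : ∀ i, ∀ w ∈ W, algebraMap k₀ K₀ (b i) * w ∈ W := by
    intro i w hw
    rw [hW] at hw
    induction hw using Submodule.span_induction with
    | mem t ht =>
      obtain ⟨j, rfl⟩ := ht
      rw [← map_mul]
      exact hW1 _
    | zero => rw [mul_zero]; exact W.zero_mem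
    | add t t' _ _ iht iht' => rw [mul_add]; exact W.add_mem iht iht'
    | smul c t _ iht =>
      have h1 : algebraMap k₀ K₀ (b i) * (c • t) = c • (algebraMap k₀ K₀ (b i) * t) := by
        rw [Subfield.smul_def, Subfield.smul_def, smul_eq_mul, smul_eq_mul]; ring
      rw [h1]
      exact W.smul_mem c iht
  have hmul : ∀ w₁ ∈ W, ∀ w₂ ∈ W, w₁ * w₂ ∈ W := by
    intro w₁ hw₁ w₂ hw₂
    rw [hW] at hw₁
    induction hw₁ using Submodule.span_induction with
    | mem t ht =>
      obtain ⟨j, rfl⟩ := ht
      exact hmulgen j w₂ hw₂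
    | zero => rw [zero_mul]; exact W.zero_mem
    | add t t' _ _ iht iht' => rw [add_mul]; exact W.add_mem iht iht'
    | smul c t _ iht =>
      have h1 : (c • t) * w₂ = c • (t * w₂) := by
        rw [Subfield.smul_def, Subfield.smul_def, smul_eq_mul, smul_eq_mul]; ring
      rw [h1]
      exact W.smul_mem c iht
  have hone : (1 : K₀) ∈ W := by
    have h1 := hW1 1
    rwa [map_one] at h1
  have hpowW : ∀ (n : ℕ), ∀ w ∈ W, w ^ n ∈ W := by
    intro n w hw
    induction n with
    | zero => rw [pow_zero]; exact hone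
    | succ n ih => rw [pow_succ]; exact hmul _ ih _ hw
  have hinv : ∀ w ∈ W, w⁻¹ ∈ W := by
    intro w hw
    by_cases h0 : w = 0
    · rw [h0, inv_zero]; exact W.zero_mem
    · obtain ⟨q, hq⟩ : ∃ q, p = q + 1 :=
        ⟨p - 1, (Nat.sub_add_cancel (Fact.out : p.Prime).one_le).symm⟩
      have h1 : w⁻¹ = (w ^ p)⁻¹ * w ^ q := by
        rw [hq, pow_succ, mul_inv, mul_comm (w ^ q)⁻¹ w⁻¹, mul_assoc,
          inv_mul_cancel₀ (pow_ne_zero q h0), mul_one]
      rw [h1]
      exact hF2W _ (F2.inv_mem (hpow w)) _ (hpowW q w hw)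
  have hF1W : ∀ a ∈ Subfield.closure
      (Set.range (algebraMap k₀ K₀) ∪ Set.range fun y : K₀ => y ^ p), a ∈ W := by
    intro a ha
    induction ha using Subfield.closure_induction with
    | mem x hx =>
      rcases hx with ⟨x0, rfl⟩ | ⟨y, rfl⟩
      · exact hW1 x0
      · have h1 := hF2W _ (hpow y) 1 hone
        rwa [mul_one] at h1
    | one => exact hone
    | add x y _ _ ihx ihy => exact W.add_mem ihx ihy
    | neg x _ ih => exact W.neg_mem ih
    | inv x _ ih => exact hinv x ih
    | mul x y _ _ ihx ihy => exact hmul x ihx y ihy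
  intro a ha
  have haW := hF1W a ha
  rw [hW] at haW
  obtain ⟨c, hc⟩ := (Submodule.mem_span_range_iff_exists_fun _).mp haW
  refine ⟨fun i => (c i : K₀), fun i => (c i).2, ?_⟩
  rw [← hc]
  apply Finset.sum_congr rfl
  intro i _
  rw [Subfield.smul_def, smul_eq_mul, mul_comm]

end Helpers

/-- Let k₀ be a field of characteristic p > 0 with [k₀ : k₀^p] < ∞ and K₀ an extension of k₀. Inside
K₀((T_1, …, T_r)) one has (k₀(K₀^p))((T_1, …, T_r)) = k₀(K₀^p((T_1, …, T_r))); here, for a subfield
F of K₀, F((T)) denotes the subfield of the fraction field of K₀[[T]] generated by the power series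
with all coefficients in F. -/
theorem result (p : ℕ) [Fact p.Prime] {k₀ K₀ : Type u} [Field k₀] [Field K₀] [Algebra k₀ K₀] [CharP k₀ p]
    (hfin : Module.Finite (Subfield.closure (Set.range fun x : k₀ => x ^ p)) k₀) (r : ℕ) :
    Subfield.closure (algebraMap (MvPowerSeries (Fin r) K₀) (FractionRing (MvPowerSeries (Fin r) K₀)) ''
        {f | ∀ n, MvPowerSeries.coeff n f ∈
          Subfield.closure (Set.range (algebraMap k₀ K₀) ∪ Set.range fun y : K₀ => y ^ p)}) =
      Subfield.closure
        (Set.range (algebraMap k₀ (FractionRing (MvPowerSeries (Fin r) K₀))) ∪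
          (Subfield.closure (algebraMap (MvPowerSeries (Fin r) K₀) (FractionRing (MvPowerSeries (Fin r) K₀)) ''
            {f | ∀ n, MvPowerSeries.coeff n f ∈ Subfield.closure (Set.range fun y : K₀ => y ^ p)}) :
            Set (FractionRing (MvPowerSeries (Fin r) K₀)))) := by
  classical
  obtain ⟨N, b, hb⟩ := F1_le_W p (k₀ := k₀) (K₀ := K₀) hfin
  have hmap : ∀ a : k₀, algebraMap k₀ (FractionRing (MvPowerSeries (Fin r) K₀)) a =
      algebraMap (MvPowerSeries (Fin r) K₀) (FractionRing (MvPowerSeries (Fin r) K₀))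
        (MvPowerSeries.C (algebraMap k₀ K₀ a)) := by
    intro a
    rw [IsScalarTower.algebraMap_apply k₀ (MvPowerSeries (Fin r) K₀)
      (FractionRing (MvPowerSeries (Fin r) K₀)), MvPowerSeries.algebraMap_apply]
  apply le_antisymm
  · rw [Subfield.closure_le]
    rintro _ ⟨f, hf, rfl⟩
    have hdec : ∀ n, ∃ c : Fin N → K₀,
        (∀ i, c i ∈ Subfield.closure (Set.range fun y : K₀ => y ^ p)) ∧
        MvPowerSeries.coeff n f = ∑ i, algebraMap k₀ K₀ (b i) * c i := fun n => hb _ (hf n)
    choose c hc2 hcsum using hdec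
    obtain ⟨g, hg⟩ : ∃ g : Fin N → MvPowerSeries (Fin r) K₀, g = fun i n => c n i := ⟨_, rfl⟩
    have hgc : ∀ i n, MvPowerSeries.coeff n (g i) = c n i := by
      intro i n; rw [hg]; rfl
    have hfeq : f = ∑ i, (MvPowerSeries.C (algebraMap k₀ K₀ (b i)) :
        MvPowerSeries (Fin r) K₀) * g i := by
      ext n
      rw [map_sum, hcsum n]
      apply Finset.sum_congr rfl
      intro i _
      rw [MvPowerSeries.coeff_C_mul, hgc]
    rw [hfeq, map_sum]
    apply Subfield.sum_mem
    intro i _
    rw [map_mul]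
    apply Subfield.mul_mem
    · apply Subfield.subset_closure
      left
      exact ⟨b i, hmap (b i)⟩
    · apply Subfield.subset_closure
      right
      apply Subfield.subset_closure
      exact ⟨g i, fun n => by rw [hgc]; exact hc2 n i, rfl⟩
  · rw [Subfield.closure_le]
    rintro x (⟨a, rfl⟩ | hx)
    · apply Subfield.subset_closure
      refine ⟨MvPowerSeries.C (algebraMap k₀ K₀ a), ?_, (hmap a).symm⟩
      intro n
      rw [MvPowerSeries.coeff_C]
      split_ifs
      · exact Subfield.subset_closure (Or.inl ⟨a, rfl⟩)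
      · exact Subfield.zero_mem _
    · have hmono : Subfield.closure
          (algebraMap (MvPowerSeries (Fin r) K₀) (FractionRing (MvPowerSeries (Fin r) K₀)) ''
            {f | ∀ n, MvPowerSeries.coeff n f ∈
              Subfield.closure (Set.range fun y : K₀ => y ^ p)}) ≤
          Subfield.closure
          (algebraMap (MvPowerSeries (Fin r) K₀) (FractionRing (MvPowerSeries (Fin r) K₀)) ''
            {f | ∀ n, MvPowerSeries.coeff n f ∈
              Subfield.closure (Set.range (algebraMap k₀ K₀) ∪ Set.range fun y : K₀ => y ^ p)}) := by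
        apply Subfield.closure_mono
        apply Set.image_mono
        intro f hf n
        exact (Subfield.closure_mono Set.subset_union_right) (hf n)
      exact hmono hx

end Groth.Agent.S4561
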