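import Groth.Statements.S4569
import Mathlib.RingTheory.Localization.Ideal
import Mathlib.RingTheory.Ideal.Span

set_option autoImplicit false
universe u
open CAlg

namespace Groth.Agent.S4569

theorem key {A : Type u} [CommRing A] (x : A)
    (hx : x ∈ nonZeroDivisors A) [hp : (Ideal.span ({x} : Set A)).IsPrime] :
    ∀ (n : ℕ) (a s : A), s ∉ Ideal.span ({x} : Set A) → x ^ n ∣ s * a → x ^ n ∣ a := by
  intro n
  induction n with
  | zero => intro a s _ _; simp
  | succ n ih =>
    intro a s hs hdvd
    have h1 : x ∣ s * a := dvd_trans (dvd_pow_self x (Nat.succ_ne_zero n)) hdvd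
    have h2 : s * a ∈ Ideal.span ({x} : Set A) := Ideal.mem_span_singleton.mpr h1
    have h3 : a ∈ Ideal.span ({x} : Set A) := (hp.mem_or_mem h2).resolve_left hs
    obtain ⟨a', rfl⟩ := Ideal.mem_span_singleton.mp h3
    obtain ⟨b, hb⟩ := hdvd
    have h4 : x * (s * a') = x * (x ^ n * b) := by
      have : x * (x ^ n * b) = x ^ (n + 1) * b := by ring
      rw [this, ← hb]; ring
    have h5 : s * a' = x ^ n * b := by
      have hreg := (mem_nonZeroDivisors_iff_right.mp hx)
      have : (s * a' - x ^ n * b) * x = 0 := by rw [mul_comm, mul_sub, h4, sub_self]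
      exact sub_eq_zero.mp (hreg _ this)
    have h7 : x ^ n ∣ a' := ih a' s hs ⟨b, h5⟩
    rw [pow_succ']
    exact mul_dvd_mul_left x h7

theorem aux {A : Type u} [CommRing A] (x : A)
    (hx : x ∈ nonZeroDivisors A) [(Ideal.span ({x} : Set A)).IsPrime] (n : ℕ) :
    Ideal.comap (algebraMap A (Localization.AtPrime (Ideal.span ({x} : Set A))))
      (Ideal.map (algebraMap A (Localization.AtPrime (Ideal.span ({x} : Set A)))) (Ideal.span ({x ^ n} : Set A))) =
      Ideal.span ({x ^ n} : Set A) := by
  apply le_antisymm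
  · intro a ha
    rw [Ideal.mem_comap,
      IsLocalization.algebraMap_mem_map_algebraMap_iff (Ideal.span ({x} : Set A)).primeCompl] at ha
    obtain ⟨m, hm, hma⟩ := ha
    rw [Ideal.mem_span_singleton] at hma ⊢
    exact key x hx n a m hm hma
  · exact Ideal.le_comap_map

/-- Let A be a ring, x a non-zero-divisor of A with p = xA prime. For every n > 0 the inverse image in A
of x^n A_p is x^n A. -/
theorem result {A : Type u} [CommRing A] (x : A)
    (hx : x ∈ nonZeroDivisors A) [(Ideal.span ({x} : Set A)).IsPrime] (n : ℕ) (hn : 0 < n) :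
    Ideal.comap (algebraMap A (Localization.AtPrime (Ideal.span ({x} : Set A))))
      (Ideal.map (algebraMap A (Localization.AtPrime (Ideal.span ({x} : Set A)))) (Ideal.span ({x ^ n} : Set A))) =
      Ideal.span ({x ^ n} : Set A) := by
  exact aux x hx n

end Groth.Agent.S4569
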