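import Groth.Statements.S4574
import Mathlib
import Groth.Agent.S4573
import Groth.Agent.S5807
-- import your own Groth.Agent.* helpers here

set_option autoImplicit false
universe u
open IsLocalRing
open EGA41

set_option linter.style.haveILetI false
set_option linter.unusedSectionVars false
set_option linter.unusedVariables false

namespace Groth.Agent.S4574


/-- Let k be a field and A a Noetherian local k-algebra, formally smooth over k for its adic topology.
Then every localization A_p at a prime p is formally smooth over k for the pA_p-adic topology. -/
theorem result {k A : Type u} [Field k] [CommRing A]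
    [IsLocalRing A] [IsNoetherianRing A] [Algebra k A] (h : CAlgX.IsAdicFormallySmooth k A (maximalIdeal A))
    (p : Ideal A) [p.IsPrime] :
    CAlgX.IsAdicFormallySmooth k (Localization.AtPrime p) (maximalIdeal (Localization.AtPrime p)) := by
  obtain ⟨q, hq⟩ := ExpChar.exists k
  haveI := hq
  have h1 := (Groth.Agent.S4573.result (k := k) (A := A) q).mp h
  haveI : IsNoetherianRing (Localization.AtPrime p) :=
    IsLocalization.isNoetherianRing p.primeCompl _ inferInstance
  refine (Groth.Agent.S4573.result (k := k) (A := Localization.AtPrime p) q).mpr ?_
  intro k' _ _ hfin hpow
  haveI := h1 k' hfin hpow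
  haveI := Groth.Agent.S5807.isRegularRing_localization (TensorProduct k k' A)
    (p.primeCompl.map (Algebra.TensorProduct.includeRight (R := k) (A := k')))
  exact IsRegularRing.of_ringEquiv
    (IsLocalization.tensorProductEquivOfMapIncludeRight k k' p.primeCompl
      (Localization.AtPrime p)
      (Localization (p.primeCompl.map
        (Algebra.TensorProduct.includeRight (R := k) (A := k'))))).symm.toRingEquiv

end Groth.Agent.S4574
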