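import Groth.Statements.S4575
import Mathlib
import Groth.Agent.H23.RegularLocal

set_option autoImplicit false
universe u
open IsLocalRing
open EGA41

namespace Groth.Agent.S4575

open Groth.Agent.H23 in
theorem aux {R : Type u} [CommRing R] [IsRegularLocalRing R]
    (n : Ideal R) (hn : n ≠ ⊤) (hreg : IsRegularRing (R ⧸ n)) :
    n ⊓ maximalIdeal R ^ 2 = maximalIdeal R * n := by
  classical
  have hnm : n ≤ maximalIdeal R := le_maximalIdeal hn
  apply le_antisymm
  swap
  · exact le_inf Ideal.mul_le_right (by rw [pow_two]; exact Ideal.mul_mono_right hnm)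
  have : Nontrivial (R ⧸ n) := Ideal.Quotient.nontrivial_iff.mpr hn
  have : IsLocalRing (R ⧸ n) :=
    IsLocalRing.of_surjective' (Ideal.Quotient.mk n) Ideal.Quotient.mk_surjective
  have hQreg : IsRegularLocalRing (R ⧸ n) := IsRegularLocalRing.of_isRegularRing_of_isLocalRing _
  have : IsLocalHom (Ideal.Quotient.mk n) :=
    IsLocalHom.of_surjective _ Ideal.Quotient.mk_surjective
  have hmapn : (maximalIdeal R).map (Ideal.Quotient.mk n) = maximalIdeal (R ⧸ n) := by
    ext z
    obtain ⟨z, rfl⟩ := Ideal.Quotient.mk_surjective z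
    simp [sup_eq_left.mpr hnm]
  have hsm : ∀ (a : R) (v : CotangentSpace R), IsLocalRing.residue R a • v = a • v := by
    intro a v
    rw [← IsLocalRing.ResidueField.algebraMap_eq]
    exact algebraMap_smul _ a v
  let N : Submodule R (maximalIdeal R) := Submodule.comap (maximalIdeal R).subtype n
  let W : Submodule (ResidueField R) (CotangentSpace R) :=
    Submodule.span (ResidueField R) ((maximalIdeal R).toCotangent '' N)
  have hW1 : ∀ w ∈ W, ∃ u ∈ N, (maximalIdeal R).toCotangent u = w := by
    intro w hw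
    induction hw using Submodule.span_induction with
    | mem w hw => obtain ⟨u, hu, rfl⟩ := hw; exact ⟨u, hu, rfl⟩
    | zero => exact ⟨0, N.zero_mem, map_zero _⟩
    | add w₁ w₂ _ _ h₁ h₂ =>
      obtain ⟨u₁, hu₁, rfl⟩ := h₁
      obtain ⟨u₂, hu₂, rfl⟩ := h₂
      exact ⟨u₁ + u₂, N.add_mem hu₁ hu₂, map_add _ _ _⟩
    | smul c w _ h =>
      obtain ⟨u, hu, rfl⟩ := h
      obtain ⟨a, rfl⟩ := IsLocalRing.residue_surjective c
      refine ⟨a • u, N.smul_mem a hu, ?_⟩
      rw [map_smul, hsm]
  let b := Module.finBasisOfFinrankEq (ResidueField R) W rfl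
  have hx : ∀ i, ∃ u ∈ N, (maximalIdeal R).toCotangent u = (b i : CotangentSpace R) :=
    fun i => hW1 _ (b i).2
  choose x hxN hxb using hx
  have hli : LinearIndependent (ResidueField R) (fun i => (maximalIdeal R).toCotangent (x i)) := by
    have h1 := b.linearIndependent.map' W.subtype (Submodule.ker_subtype W)
    have h2 : (fun i => (maximalIdeal R).toCotangent (x i)) = W.subtype ∘ b := by
      ext i; simp [hxb]
    rw [h2]; exact h1
  have hWspan : Submodule.span (ResidueField R)
      (Set.range fun i => (maximalIdeal R).toCotangent (x i)) = W := by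
    have h1 : (Set.range fun i => (maximalIdeal R).toCotangent (x i)) =
        W.subtype '' Set.range b := by
      rw [← Set.range_comp]; congr 1; ext i; simp [hxb]
    rw [h1, ← Submodule.map_span, b.span_eq, Submodule.map_top, Submodule.range_subtype]
  obtain ⟨k, y, hk, hm⟩ := exists_extension x hli
  have hdimR : ((maximalIdeal R).spanFinrank : WithBot ℕ∞) = ringKrullDim R :=
    IsRegularLocalRing.spanFinrank_maximalIdeal
  have hfr : Module.finrank (ResidueField R) (CotangentSpace R) =
      (maximalIdeal R).spanFinrank :=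
    (spanFinrank_maximalIdeal_eq_finrank_cotangentSpace R).symm
  obtain ⟨hIreg, hIdim⟩ := quotient_regular (fun i => (x i : R)) (fun j => (y j : R)) hm (by
    rw [← hdimR, ← hfr, hk])
  set I := Ideal.span (Set.range fun i => ((x i : maximalIdeal R) : R)) with hI
  have hIn : I ≤ n := by
    rw [hI, Ideal.span_le]; rintro _ ⟨i, rfl⟩; exact hxN i
  have hIdom : IsDomain (R ⧸ I) := isDomain_of_isRegularLocalRing _
  -- lower bound
  obtain ⟨s, hscard, hsspan⟩ := Submodule.FG.exists_span_finset_card_eq_spanFinrank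
    (IsNoetherian.noetherian (maximalIdeal (R ⧸ n)))
  have hsm' : ∀ q ∈ s, q ∈ maximalIdeal (R ⧸ n) := fun q hq =>
    hsspan ▸ Submodule.subset_span hq
  have hcomap : (maximalIdeal (R ⧸ n)).comap (Ideal.Quotient.mk n) = maximalIdeal R := by
    rw [← hmapn, Ideal.comap_map_of_surjective _ Ideal.Quotient.mk_surjective,
      ← RingHom.ker_eq_comap_bot, Ideal.mk_ker, sup_eq_left.mpr hnm]
  let g : (R ⧸ n) → R := Function.surjInv Ideal.Quotient.mk_surjective
  have hg : ∀ q, Ideal.Quotient.mk n (g q) = q := Function.surjInv_eq _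
  have hgm : ∀ q ∈ s, g q ∈ maximalIdeal R := fun q hq => by
    rw [← hcomap, Ideal.mem_comap, hg]; exact hsm' q hq
  let z' : s → maximalIdeal R := fun q => ⟨g q.1, hgm q.1 q.2⟩
  have hmz : maximalIdeal R = Ideal.span (Set.range fun q : s => (z' q : R)) ⊔ n := by
    have h1 : (Ideal.span (Set.range fun q : s => (z' q : R))).map (Ideal.Quotient.mk n) =
        maximalIdeal (R ⧸ n) := by
      rw [Ideal.map_span, ← Set.range_comp, ← hsspan]
      congr 1
      ext q
      simp [z', hg]
    calc maximalIdeal R = (maximalIdeal (R ⧸ n)).comap (Ideal.Quotient.mk n) := hcomap.symm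
      _ = ((Ideal.span (Set.range fun q : s => (z' q : R))).map (Ideal.Quotient.mk n)).comap
          (Ideal.Quotient.mk n) := by rw [h1]
      _ = _ := by
        rw [Ideal.comap_map_of_surjective _ Ideal.Quotient.mk_surjective,
          ← RingHom.ker_eq_comap_bot, Ideal.mk_ker]
  have htop : (⊤ : Submodule (ResidueField R) (CotangentSpace R)) ≤
      Submodule.span (ResidueField R) (Set.range (Sum.elim
        (fun q : s => (maximalIdeal R).toCotangent (z' q))
        (fun i => (maximalIdeal R).toCotangent (x i)))) := by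
    intro v _
    obtain ⟨u, rfl⟩ := (maximalIdeal R).toCotangent_surjective v
    have hu : (u : R) ∈ Ideal.span (Set.range fun q : s => (z' q : R)) ⊔ n := hmz ▸ u.2
    obtain ⟨a, ha, c, hc, hac⟩ := Submodule.mem_sup.mp hu
    have ha' : a ∈ Submodule.map (maximalIdeal R).subtype (Submodule.span R (Set.range z')) := by
      rw [Submodule.map_span, ← Set.range_comp]; exact ha
    obtain ⟨a', ha'span, rfl⟩ := ha'
    have hcm : c ∈ maximalIdeal R := hnm hc
    have hu' : u = a' + ⟨c, hcm⟩ := Subtype.ext hac.symm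
    rw [hu', map_add]
    refine Submodule.add_mem _ ?_ ?_
    · have h1 : (maximalIdeal R).toCotangent a' ∈
          Submodule.map (maximalIdeal R).toCotangent (Submodule.span R (Set.range z')) :=
        Submodule.mem_map_of_mem ha'span
      rw [Submodule.map_span, ← Set.range_comp] at h1
      have h2 : Submodule.span R (Set.range ((maximalIdeal R).toCotangent ∘ z')) ≤
          (Submodule.span (ResidueField R) (Set.range (Sum.elim
            (fun q : s => (maximalIdeal R).toCotangent (z' q))
            (fun i => (maximalIdeal R).toCotangent (x i))))).restrictScalars R := by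
        rw [Submodule.span_le]
        rintro _ ⟨q, rfl⟩
        exact Submodule.subset_span ⟨Sum.inl q, rfl⟩
      exact h2 h1
    · have h1 : (maximalIdeal R).toCotangent ⟨c, hcm⟩ ∈ W :=
        Submodule.subset_span ⟨⟨c, hcm⟩, hc, rfl⟩
      rw [← hWspan] at h1
      refine Submodule.span_mono ?_ h1
      rintro _ ⟨i, rfl⟩
      exact ⟨Sum.inr i, rfl⟩
  have hkt : k ≤ (maximalIdeal (R ⧸ n)).spanFinrank := by
    have h3 := top_le_iff.mp htop
    have h2 := finrank_range_le_card (R := ResidueField R) (Sum.elim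
        (fun q : s => (maximalIdeal R).toCotangent (z' q))
        (fun i => (maximalIdeal R).toCotangent (x i)))
    unfold Set.finrank at h2
    rw [h3, finrank_top, Fintype.card_sum, Fintype.card_coe, Fintype.card_fin, hscard, ← hk] at h2
    omega
  have hnI : n ≤ I := by
    by_contra hcon
    obtain ⟨z, hzn, hzI⟩ := SetLike.not_le_iff_exists.mp hcon
    have hp0 : Ideal.Quotient.mk I z ≠ 0 := fun h => hzI (Ideal.Quotient.eq_zero_iff_mem.mp h)
    have hpnzd : Ideal.Quotient.mk I z ∈ nonZeroDivisors (R ⧸ I) :=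
      mem_nonZeroDivisors_of_ne_zero hp0
    have h1 := ringKrullDim_quotient_succ_le_of_nonZeroDivisor hpnzd
    have hfp : Ideal.Quotient.factor hIn (Ideal.Quotient.mk I z) = 0 := by
      rw [Ideal.Quotient.factor_mk]; exact Ideal.Quotient.eq_zero_iff_mem.mpr hzn
    let f' : ((R ⧸ I) ⧸ Ideal.span {Ideal.Quotient.mk I z}) →+* (R ⧸ n) :=
      Ideal.Quotient.lift (Ideal.span {Ideal.Quotient.mk I z}) (Ideal.Quotient.factor hIn) (by
        intro a ha
        obtain ⟨c, rfl⟩ := Ideal.mem_span_singleton'.mp ha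
        rw [map_mul, hfp, mul_zero])
    have hf'surj : Function.Surjective f' := by
      intro q
      obtain ⟨w, rfl⟩ := Ideal.Quotient.mk_surjective q
      exact ⟨Ideal.Quotient.mk _ (Ideal.Quotient.mk I w), by simp [f']⟩
    have h2 : ringKrullDim (R ⧸ n) ≤
        ringKrullDim ((R ⧸ I) ⧸ Ideal.span {Ideal.Quotient.mk I z}) :=
      ringKrullDim_le_of_surjective f' hf'surj
    have h3 : ringKrullDim (R ⧸ n) = (maximalIdeal (R ⧸ n)).spanFinrank :=
      hQreg.spanFinrank_maximalIdeal.symm
    have h4 : ((maximalIdeal (R ⧸ n)).spanFinrank : WithBot ℕ∞) + 1 ≤ k := by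
      rw [← h3, ← hIdim]; exact (add_le_add_left h2 1).trans h1
    have h5 : (maximalIdeal (R ⧸ n)).spanFinrank + 1 ≤ k := by exact_mod_cast h4
    omega
  intro z hz
  obtain ⟨hzn, hz2⟩ := hz
  have hzI : z ∈ I := hnI hzn
  rw [hI] at hzI
  obtain ⟨a, ha⟩ := (Ideal.mem_span_range_iff_exists_fun).mp hzI
  have hzm : z ∈ maximalIdeal R := hnm hzn
  have hπz : (maximalIdeal R).toCotangent ⟨z, hzm⟩ = 0 :=
    (Ideal.toCotangent_eq_zero _ _).mpr hz2
  have hsum : (⟨z, hzm⟩ : maximalIdeal R) = ∑ i, a i • x i := by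
    apply Subtype.ext
    simp [← ha]
  rw [hsum, map_sum] at hπz
  have h0 : ∑ i, (IsLocalRing.residue R (a i)) • (maximalIdeal R).toCotangent (x i) = 0 := by
    rw [← hπz]
    refine Finset.sum_congr rfl fun i _ => ?_
    rw [map_smul, hsm]
  have hres := Fintype.linearIndependent_iff.mp hli (fun i => IsLocalRing.residue R (a i)) h0
  have ham : ∀ i, a i ∈ maximalIdeal R := fun i => (IsLocalRing.residue_eq_zero_iff _).mp (hres i)
  rw [← ha]
  exact Ideal.sum_mem _ fun i _ => Ideal.mul_mem_mul (ham i) (hxN i)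

/-- Let R be a regular local ring with maximal ideal m and n a proper ideal with R/n regular. Then
(n/n²) ⊗_R K → (m/m²) ⊗_R K is injective, K the residue field; stated in the equivalent form n ∩ m²
= m·n (the kernel of n/mn → m/m² is (n ∩ m²)/mn). -/
theorem result {R : Type u} [CommRing R] [IsRegularLocalRing R]
    (n : Ideal R) (hn : n ≠ ⊤) (hreg : IsRegularRing (R ⧸ n)) :
    n ⊓ maximalIdeal R ^ 2 = maximalIdeal R * n := by
  exact aux n hn hreg

end Groth.Agent.S4575
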