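import Groth.Statements.S4581
import Mathlib
import Groth.Agent.S3441
-- import your own Groth.Agent.* helpers here

set_option autoImplicit false
universe u
open EGA41

set_option linter.style.haveILetI false
set_option linter.unusedSectionVars false
set_option linter.unusedVariables false

namespace Groth.Agent.S4581

open TensorProduct

section

variable (A₀ : Type u) {A : Type u} [CommRing A₀] [CommRing A] [Algebra A₀ A] (I : Ideal A)

/-- `d` maps `I^(n+1)` into `I^n Ω`. -/
theorem D_mem : ∀ (n : ℕ) (a : A), a ∈ I ^ (n + 1) →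
    KaehlerDifferential.D A₀ A a ∈ (I ^ n • ⊤ : Submodule A (Ω[A⁄A₀]))
  | 0, a, _ => by simp
  | n + 1, a, ha => by
    rw [pow_succ'] at ha
    refine Submodule.smul_induction_on ha (fun x hx y hy => ?_) (fun x y hx hy => ?_)
    · rw [smul_eq_mul, Derivation.leibniz]
      refine add_mem ?_ ?_
      · have h1 : x • KaehlerDifferential.D A₀ A y ∈
            I • (I ^ n • ⊤ : Submodule A (Ω[A⁄A₀])) :=
          Submodule.smul_mem_smul hx (D_mem n y hy)
        rwa [← Submodule.mul_smul, ← pow_succ'] at h1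
      · exact Submodule.smul_mem_smul hy Submodule.mem_top
    · rw [map_add]
      exact add_mem hx hy

/-- The `A₀`-linear map `A ⧸ I^(n+1) → Ω ⧸ I^n Ω` induced by `d`. -/
noncomputable def dq (n : ℕ) : (A ⧸ (I ^ (n + 1) • ⊤ : Submodule A A)) →ₗ[A₀]
    (Ω[A⁄A₀] ⧸ (I ^ n • ⊤ : Submodule A (Ω[A⁄A₀]))) :=
  (Submodule.liftQ ((I ^ (n + 1) • ⊤ : Submodule A A).restrictScalars A₀)
    (((I ^ n • ⊤ : Submodule A (Ω[A⁄A₀])).mkQ.restrictScalars A₀) ∘ₗ
      (KaehlerDifferential.D A₀ A).toLinearMap)
    (fun a ha => by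
      have ha' : a ∈ I ^ (n + 1) := by simpa using ha
      rw [LinearMap.mem_ker]
      show Submodule.Quotient.mk (KaehlerDifferential.D A₀ A a) = 0
      rw [Submodule.Quotient.mk_eq_zero]
      exact D_mem A₀ I n a ha')) ∘ₗ
  (Submodule.Quotient.restrictScalarsEquiv A₀ (I ^ (n + 1) • ⊤ : Submodule A A)).symm.toLinearMap

theorem dq_mk (n : ℕ) (a : A) :
    dq A₀ I n (Submodule.Quotient.mk a) = Submodule.Quotient.mk (KaehlerDifferential.D A₀ A a) :=
  rfl

/-- The extension by continuity of `d`, as an `A₀`-linear map. -/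
noncomputable def DhatLin : AdicCompletion I A →ₗ[A₀] AdicCompletion I (Ω[A⁄A₀]) where
  toFun x := ⟨fun n => dq A₀ I n (x.val (n + 1)), fun {m n} hmn => by
    have hx : AdicCompletion.transitionMap I A (Nat.add_le_add_right hmn 1) (x.val (n + 1)) =
        x.val (m + 1) := x.property (Nat.add_le_add_right hmn 1)
    show AdicCompletion.transitionMap I _ hmn (dq A₀ I n (x.val (n + 1))) =
      dq A₀ I m (x.val (m + 1))
    rw [← hx]
    obtain ⟨a, ha⟩ := Submodule.Quotient.mk_surjective _ (x.val (n + 1))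
    rw [← ha]
    rfl⟩
  map_add' x y := by
    apply AdicCompletion.ext
    intro n
    exact map_add (dq A₀ I n) _ _
  map_smul' r x := by
    apply AdicCompletion.ext
    intro n
    exact map_smul (dq A₀ I n) r _

theorem DhatLin_val (x : AdicCompletion I A) (n : ℕ) :
    (DhatLin A₀ I x).val n = dq A₀ I n (x.val (n + 1)) := rfl

instance isScalarTower_hat :
    IsScalarTower A₀ (AdicCompletion I A) (AdicCompletion I (Ω[A⁄A₀])) :=
  IsScalarTower.of_algebraMap_smul fun r x => by
    rw [IsScalarTower.algebraMap_apply A₀ A (AdicCompletion I A), algebraMap_smul, algebraMap_smul]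

/-- The extension by continuity of `d`, as a derivation. -/
noncomputable def Dhat : Derivation A₀ (AdicCompletion I A) (AdicCompletion I (Ω[A⁄A₀])) where
  toLinearMap := DhatLin A₀ I
  map_one_eq_zero' := by
    apply AdicCompletion.ext
    intro n
    show dq A₀ I n ((1 : AdicCompletion I A).val (n + 1)) = 0
    rw [AdicCompletion.val_one]
    have h1 : (1 : A ⧸ (I ^ (n + 1) • ⊤ : Ideal A)) = Submodule.Quotient.mk (1 : A) := rfl
    rw [h1, dq_mk, Derivation.map_one_eq_zero]
    rfl
  leibniz' x y := by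
    apply AdicCompletion.ext
    intro n
    show dq A₀ I n ((x * y).val (n + 1)) =
      (x • DhatLin A₀ I y + y • DhatLin A₀ I x).val n
    rw [AdicCompletion.val_mul, AdicCompletion.val_add_apply, AdicCompletion.smul_eval,
      AdicCompletion.smul_eval, DhatLin_val, DhatLin_val]
    obtain ⟨a, ha⟩ := Submodule.Quotient.mk_surjective _ (x.val (n + 1))
    obtain ⟨b, hb⟩ := Submodule.Quotient.mk_surjective _ (y.val (n + 1))
    have hxa : x.val n = Submodule.Quotient.mk a := by
      rw [← x.property (Nat.le_succ n), ← ha]; rfl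
    have hyb : y.val n = Submodule.Quotient.mk b := by
      rw [← y.property (Nat.le_succ n), ← hb]; rfl
    rw [hxa, hyb, ← ha, ← hb]
    have hmul : (Submodule.Quotient.mk a : A ⧸ (I ^ (n + 1) • ⊤ : Submodule A A)) *
        Submodule.Quotient.mk b = Submodule.Quotient.mk (a * b) := rfl
    rw [hmul, dq_mk, dq_mk, dq_mk, Derivation.leibniz]
    rfl

theorem Dhat_of (a : A) :
    Dhat A₀ I (AdicCompletion.of I A a) =
      AdicCompletion.of I (Ω[A⁄A₀]) (KaehlerDifferential.D A₀ A a) := by
  apply AdicCompletion.ext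
  intro n
  rfl

end

section

variable (A₀ : Type u) {A : Type u} [CommRing A₀] [CommRing A] [Algebra A₀ A] (I : Ideal A)
  [IsNoetherianRing A] [Module.Finite A (Ω[A⁄A₀])]

theorem exists_leftInverse :
    ∃ l : Ω[AdicCompletion I A⁄A₀] →ₗ[AdicCompletion I A] AdicCompletion I A ⊗[A] Ω[A⁄A₀],
      l ∘ₗ KaehlerDifferential.mapBaseChange A₀ A (AdicCompletion I A) = LinearMap.id := by
  let e := AdicCompletion.ofTensorProductEquivOfFiniteNoetherian I (Ω[A⁄A₀])
  let D' : Derivation A₀ (AdicCompletion I A) (AdicCompletion I A ⊗[A] Ω[A⁄A₀]) :=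
    (e.symm.toLinearMap).compDer (Dhat A₀ I)
  have hD' : ∀ a : A, D' (algebraMap A (AdicCompletion I A) a) =
      (1 : AdicCompletion I A) ⊗ₜ[A] KaehlerDifferential.D A₀ A a := by
    intro a
    show e.symm (Dhat A₀ I (AdicCompletion.of I A a)) = _
    rw [Dhat_of]
    exact AdicCompletion.ofTensorProductEquivOfFiniteNoetherian_symm_of I (Ω[A⁄A₀]) _
  refine ⟨D'.liftKaehlerDifferential, ?_⟩
  have key : ∀ x : Ω[A⁄A₀],
      D'.liftKaehlerDifferential (KaehlerDifferential.map A₀ A₀ A (AdicCompletion I A) x) =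
        (1 : AdicCompletion I A) ⊗ₜ[A] x := by
    have := Derivation.liftKaehlerDifferential_unique (R := A₀) (S := A)
      ((D'.liftKaehlerDifferential.restrictScalars A) ∘ₗ
        (KaehlerDifferential.map A₀ A₀ A (AdicCompletion I A)))
      (TensorProduct.mk A (AdicCompletion I A) (Ω[A⁄A₀]) 1)
      (Derivation.ext fun b => by
        show D'.liftKaehlerDifferential (KaehlerDifferential.map A₀ A₀ A (AdicCompletion I A)
          (KaehlerDifferential.D A₀ A b)) = (1 : AdicCompletion I A) ⊗ₜ[A] (KaehlerDifferential.D A₀ A b)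
        rw [KaehlerDifferential.map_D, Derivation.liftKaehlerDifferential_comp_D, hD'])
    intro x
    exact LinearMap.congr_fun this x
  refine TensorProduct.AlgebraTensorModule.ext fun c x => ?_
  show D'.liftKaehlerDifferential
    (KaehlerDifferential.mapBaseChange A₀ A (AdicCompletion I A) (c ⊗ₜ x)) = c ⊗ₜ x
  rw [KaehlerDifferential.mapBaseChange_tmul, map_smul, key, TensorProduct.smul_tmul', smul_eq_mul,
    mul_one]

end


/-- Let A₀ be a semi-local Noetherian ring, A a module-finite A₀-algebra and Â the completion of A for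
the adic topology of its Jacobson radical. For the discrete topologies, Â is a formally smooth
A-algebra relative to A₀. -/
theorem result {A₀ A : Type u} [CommRing A₀]
    [IsNoetherianRing A₀] [Finite (MaximalSpectrum A₀)] [CommRing A] [Algebra A₀ A] [Module.Finite A₀ A] :
    EGA41.IsFormallySmoothRel A₀ A (AdicCompletion (Ideal.jacobson (⊥ : Ideal A)) A) := by
  haveI : IsNoetherianRing A := Algebra.FiniteType.isNoetherianRing A₀ A
  exact (Groth.Agent.S3441.result A₀ A (AdicCompletion (Ideal.jacobson (⊥ : Ideal A)) A)).mp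
    (exists_leftInverse A₀ (Ideal.jacobson (⊥ : Ideal A)))

end Groth.Agent.S4581
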