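import Groth.Statements.S4586
import Groth.Agent.S3398
import Groth.Agent.S3399
import Groth.Agent.S3402
import Groth.Agent.S15542
-- import your own Groth.Agent.* helpers here

set_option autoImplicit false
universe u
open AlgebraicGeometry CategoryTheory Topology
open EGA41

namespace Groth.Agent.S4586

/-- Let f : X → Y be surjective and either quasi-compact or locally of finite presentation, E ⊆ Y. Then
E is locally constructible (resp. pro-constructible, resp. ind-constructible) if and only if f⁻¹(E)
is. -/
theorem result {X Y : Scheme.{u}} (f : X ⟶ Y) [Surjective f]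
    (hf : QuasiCompact f ∨ LocallyOfFinitePresentation f) (E : Set Y) :
    (IsLocallyConstructible E ↔ IsLocallyConstructible (f.base ⁻¹' E)) ∧
    (ProCons.IsProConstructible E ↔ ProCons.IsProConstructible (f.base ⁻¹' E)) ∧
    (ProCons.IsIndConstructible E ↔ ProCons.IsIndConstructible (f.base ⁻¹' E)) := by
  have hsurj : Function.Surjective f.base := f.surjective
  have himg : ∀ A : Set Y, f.base '' (f.base ⁻¹' A) = A := fun A =>
    Set.image_preimage_eq A hsurj
  -- the two "descent" statements
  have hpro : ProCons.IsProConstructible (f.base ⁻¹' E) → ProCons.IsProConstructible E := by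
    intro h
    rcases hf with hqc | hfp
    · have := Groth.Agent.S3398.result f (f.base ⁻¹' E) h
      rwa [himg] at this
    · rw [H17.isProConstructible_iff_compl] at h ⊢
      rw [← Set.preimage_compl] at h
      have := Groth.Agent.S3399.result f (f.base ⁻¹' Eᶜ) h
      rwa [himg] at this
  have hind : ProCons.IsIndConstructible (f.base ⁻¹' E) → ProCons.IsIndConstructible E := by
    intro h
    rcases hf with hqc | hfp
    · rw [H17.isIndConstructible_iff_compl] at h ⊢
      rw [← Set.preimage_compl] at h
      have := Groth.Agent.S3398.result f (f.base ⁻¹' Eᶜ) h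
      rwa [himg] at this
    · have := Groth.Agent.S3399.result f (f.base ⁻¹' E) h
      rwa [himg] at this
  refine ⟨⟨?_, ?_⟩, ⟨Groth.Agent.S15542.result f E, hpro⟩, ⟨Groth.Agent.S15543.result f E, hind⟩⟩
  · intro h
    rw [Groth.Agent.S3402.result] at h ⊢
    exact ⟨Groth.Agent.S15543.result f E h.1, Groth.Agent.S15542.result f E h.2⟩
  · intro h
    rw [Groth.Agent.S3402.result] at h ⊢
    exact ⟨hind h.1, hpro h.2⟩

end Groth.Agent.S4586
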