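import Groth.Statements.S4587
import Mathlib.AlgebraicGeometry.Properties
import Mathlib.Topology.Sober
import Mathlib.Tactic

set_option autoImplicit false
universe u
open AlgebraicGeometry CategoryTheory
open EGA41

namespace Groth.Agent.S4587

theorem top_lemma {α β : Type*} [TopologicalSpace α] [TopologicalSpace β] [QuasiSober α]
    [QuasiSober β] [T0Space β] (g : α → β) (hg : Continuous g) :
    GeneralizingMap g ↔ ∀ Y' : Set β, IsClosed Y' → IsIrreducible Y' →
        ∀ Z ∈ irreducibleComponents ↥(g ⁻¹' Y'), closure (g '' (Subtype.val '' Z)) = Y' := by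
  constructor
  · intro hgen Y' hY'c hY'i Z hZ
    have hWc : IsClosed (g ⁻¹' Y') := hY'c.preimage hg
    have hZi : IsIrreducible Z := hZ.prop
    have hZc : IsClosed Z := isClosed_of_mem_irreducibleComponents Z hZ
    have hZ'c : IsClosed (Subtype.val '' Z : Set α) :=
      hWc.isClosedEmbedding_subtypeVal.isClosedMap Z hZc
    have hZ'i : IsIrreducible (Subtype.val '' Z : Set α) :=
      hZi.image _ continuous_subtype_val.continuousOn
    obtain ⟨z, hz⟩ := QuasiSober.sober hZ'i hZ'c
    obtain ⟨η, hη⟩ := QuasiSober.sober hY'i hY'c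
    obtain ⟨w, hwZ, hwz⟩ := hz.mem
    have hfz : g w.1 ∈ Y' := w.2
    have hspec : η ⤳ g w.1 := by
      rw [specializes_iff_mem_closure, hη.def]
      exact hfz
    obtain ⟨z', hz'z, hz'η⟩ := hgen hspec
    have hz'W : z' ∈ g ⁻¹' Y' := by
      show g z' ∈ Y'
      rw [hz'η]
      exact hη.mem
    have hsub : Z ⊆ closure {(⟨z', hz'W⟩ : ↥(g ⁻¹' Y'))} := by
      intro v hv
      rw [closure_subtype, Set.image_singleton]
      have h1 : v.1 ∈ closure {w.1} := by
        rw [hwz, hz.def]
        exact ⟨v, hv, rfl⟩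
      exact specializes_iff_mem_closure.mp (hz'z.trans (specializes_iff_mem_closure.mpr h1))
    have hTi : IsIrreducible (closure {(⟨z', hz'W⟩ : ↥(g ⁻¹' Y'))}) :=
      isIrreducible_singleton.closure
    have hle : closure {(⟨z', hz'W⟩ : ↥(g ⁻¹' Y'))} ⊆ Z := hZ.le_of_ge hTi hsub
    have hz'Z : (⟨z', hz'W⟩ : ↥(g ⁻¹' Y')) ∈ Z := hle (subset_closure rfl)
    apply subset_antisymm
    · apply hY'c.closure_subset_iff.mpr
      rintro _ ⟨_, ⟨v, _, rfl⟩, rfl⟩
      exact v.2
    · have h2 : closure ({η} : Set β) ⊆ closure (g '' (Subtype.val '' Z)) := by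
        apply closure_mono
        rw [Set.singleton_subset_iff]
        exact ⟨z', ⟨⟨z', hz'W⟩, hz'Z, rfl⟩, hz'η⟩
      intro y hy
      rw [← hη.def] at hy
      exact h2 hy
  · intro H a b hb
    have hY'c : IsClosed (closure ({b} : Set β)) := isClosed_closure
    have hY'i : IsIrreducible (closure ({b} : Set β)) := isIrreducible_singleton.closure
    have haW : a ∈ g ⁻¹' (closure ({b} : Set β)) := specializes_iff_mem_closure.mp hb
    have hWc : IsClosed (g ⁻¹' (closure ({b} : Set β))) := hY'c.preimage hg
    have hZ := irreducibleComponent_mem_irreducibleComponents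
      (⟨a, haW⟩ : ↥(g ⁻¹' (closure ({b} : Set β))))
    have hwZ : (⟨a, haW⟩ : ↥(g ⁻¹' (closure ({b} : Set β)))) ∈
        irreducibleComponent (⟨a, haW⟩ : ↥(g ⁻¹' (closure ({b} : Set β)))) :=
      mem_irreducibleComponent
    have hcl := H _ hY'c hY'i _ hZ
    have hZc := isClosed_of_mem_irreducibleComponents _ hZ
    have hZ'c := hWc.isClosedEmbedding_subtypeVal.isClosedMap _ hZc
    have hZ'i : IsIrreducible (Subtype.val ''
        irreducibleComponent (⟨a, haW⟩ : ↥(g ⁻¹' (closure ({b} : Set β)))) : Set α) :=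
      hZ.prop.image _ continuous_subtype_val.continuousOn
    obtain ⟨z, hz⟩ := QuasiSober.sober hZ'i hZ'c
    refine ⟨z, ?_, ?_⟩
    · show z ⤳ a
      rw [specializes_iff_mem_closure, hz.def]
      exact ⟨⟨a, haW⟩, hwZ, rfl⟩
    · obtain ⟨v, hvZ, hvz⟩ := hz.mem
      have hgz : g z ∈ closure ({b} : Set β) := by
        rw [← hvz]
        exact v.2
      have h1 : IsGenericPoint (g z) (closure ({b} : Set β)) := by
        rw [isGenericPoint_def]
        apply subset_antisymm
        · exact hY'c.closure_subset_iff.mpr (Set.singleton_subset_iff.mpr hgz)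
        · rw [← hcl, ← hz.def]
          apply closure_minimal _ isClosed_closure
          calc g '' closure {z} ⊆ closure (g '' {z}) := image_closure_subset_closure_image hg
            _ = closure {g z} := by rw [Set.image_singleton]
      exact h1.eq isGenericPoint_closure


/-- A morphism of schemes f : X → Y is generizing if and only if, for every irreducible closed subset Y'
of Y, each irreducible component of f⁻¹(Y') has dense image in Y'. -/
theorem result {X Y : Scheme.{u}} (f : X ⟶ Y) :
    GeneralizingMap f.base ↔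
      ∀ Y' : Set Y, IsClosed Y' → IsIrreducible Y' →
        ∀ Z ∈ irreducibleComponents ↥(f.base ⁻¹' Y'), closure (f.base '' (Subtype.val '' Z)) = Y' := by
  exact top_lemma f.base f.continuous

end Groth.Agent.S4587
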