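import Groth.Statements.S4588
import Mathlib
import Groth.Agent.H23.RegularSeq3
import Groth.Agent.H75.Rees
import Groth.Agent.S0564
-- import your own Groth.Agent.* helpers here

set_option autoImplicit false
universe u
open IsLocalRing
open EGA41

set_option linter.style.haveILetI false
set_option linter.unusedSectionVars false
set_option linter.unusedVariables false

namespace Groth.Agent.S4588


/-- Let A be a regular local ring with maximal ideal m and residue field K, and F_i(T_i) = T_i^{d_i} +
Σ_{k<d_i} c_{ik} T_i^k (1 ≤ i ≤ r) monic one-variable polynomials of degrees d_i ≥ 2 with all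
non-leading coefficients in m; put A' = A[T_1, …, T_r]/(F_1, …, F_r). Then (i) A' is local with
residue field K, and (ii) A' is regular if and only if the classes in m/m² of the constant terms
c_{i0} are linearly independent over K. -/
theorem result {A : Type u} [CommRing A]
    [IsRegularLocalRing A] {r : ℕ} (d : Fin r → ℕ) (hd : ∀ i, 2 ≤ d i) (c : Fin r → ℕ → A)
    (hc : ∀ i k, c i k ∈ maximalIdeal A) :
    let F : Fin r → MvPolynomial (Fin r) A := fun i =>
      MvPolynomial.X i ^ d i + (Finset.range (d i)).sum fun k => MvPolynomial.C (c i k) * MvPolynomial.X i ^ k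
    IsLocalRing (MvPolynomial (Fin r) A ⧸ Ideal.span (Set.range F)) ∧
    (∀ (M : Ideal (MvPolynomial (Fin r) A ⧸ Ideal.span (Set.range F))) [M.IsMaximal],
      Function.Surjective ((Ideal.Quotient.mk M).comp (algebraMap A _))) ∧
    (IsRegularRing (MvPolynomial (Fin r) A ⧸ Ideal.span (Set.range F)) ↔
      LinearIndependent (ResidueField A) (fun i => (maximalIdeal A).toCotangent ⟨c i 0, hc i 0⟩)) := by
  intro F
  classical
  set I : Ideal (MvPolynomial (Fin r) A) := Ideal.span (Set.range F) with hI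
  let cc : MvPolynomial (Fin r) A →+* A := MvPolynomial.constantCoeff
  have hccC : ∀ a : A, cc (MvPolynomial.C a) = a := fun a => MvPolynomial.constantCoeff_C _ a
  have hccX : ∀ j : Fin r, cc (MvPolynomial.X j) = 0 := fun j => MvPolynomial.constantCoeff_X A j
  have hccF : ∀ i, cc (F i) = c i 0 := by
    intro i
    obtain ⟨e, he⟩ : ∃ e, d i = e + 1 := ⟨d i - 1, by have := hd i; omega⟩
    simp only [F, cc, map_add, map_pow, MvPolynomial.constantCoeff_X, map_sum, map_mul,
      MvPolynomial.constantCoeff_C, he]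
    rw [Finset.sum_range_succ']
    simp
  have hrel : ∀ i, Ideal.Quotient.mk I (MvPolynomial.X i) ^ d i
      + ∑ k ∈ Finset.range (d i), Ideal.Quotient.mk I (MvPolynomial.C (c i k))
          * Ideal.Quotient.mk I (MvPolynomial.X i) ^ k = 0 := by
    intro i
    have hF0 : Ideal.Quotient.mk I (F i) = 0 :=
      Ideal.Quotient.eq_zero_iff_mem.mpr (Ideal.subset_span ⟨i, rfl⟩)
    have hexp : Ideal.Quotient.mk I (F i) = Ideal.Quotient.mk I (MvPolynomial.X i) ^ d i
        + ∑ k ∈ Finset.range (d i), Ideal.Quotient.mk I (MvPolynomial.C (c i k))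
          * Ideal.Quotient.mk I (MvPolynomial.X i) ^ k := by
      simp only [F, map_add, map_pow, map_sum, map_mul]
    rw [← hexp]
    exact hF0
  have hmkC : ∀ a : A, Ideal.Quotient.mk I (MvPolynomial.C a) = algebraMap A (MvPolynomial (Fin r) A ⧸ I) a :=
    fun a => rfl
  let ρ₀ : MvPolynomial (Fin r) A →+* ResidueField A := (residue A).comp cc
  have hρ₀I : ∀ f ∈ I, ρ₀ f = 0 := by
    intro f hf
    have hle : I ≤ RingHom.ker ρ₀ := by
      rw [hI, Ideal.span_le]
      rintro _ ⟨i, rfl⟩
      show residue A (cc (F i)) = 0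
      rw [hccF]
      exact (residue_eq_zero_iff _).mpr (hc i 0)
    exact hle hf
  let ρ : (MvPolynomial (Fin r) A ⧸ I) →+* ResidueField A := Ideal.Quotient.lift I ρ₀ hρ₀I
  have hρ_mk : ∀ f, ρ (Ideal.Quotient.mk I f) = residue A (cc f) := fun f => rfl
  have hρsurj : Function.Surjective ρ := by
    intro z
    obtain ⟨a, rfl⟩ := residue_surjective z
    exact ⟨Ideal.Quotient.mk I (MvPolynomial.C a), by rw [hρ_mk, hccC]⟩
  have htrick : ∀ Q : Ideal (MvPolynomial (Fin r) A ⧸ I), (∀ i, Ideal.Quotient.mk I (MvPolynomial.X i) ∈ Q) →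
      ∀ f, Ideal.Quotient.mk I f - Ideal.Quotient.mk I (MvPolynomial.C (cc f)) ∈ Q := by
    intro Q hQ f
    have heq : ((Ideal.Quotient.mk Q).comp (Ideal.Quotient.mk I))
        = (((Ideal.Quotient.mk Q).comp (Ideal.Quotient.mk I)).comp MvPolynomial.C).comp cc := by
      apply MvPolynomial.ringHom_ext
      · intro a
        show Ideal.Quotient.mk Q (Ideal.Quotient.mk I (MvPolynomial.C a))
          = Ideal.Quotient.mk Q (Ideal.Quotient.mk I (MvPolynomial.C (cc (MvPolynomial.C a))))
        rw [hccC]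
      · intro j
        show Ideal.Quotient.mk Q (Ideal.Quotient.mk I (MvPolynomial.X j))
          = Ideal.Quotient.mk Q (Ideal.Quotient.mk I (MvPolynomial.C (cc (MvPolynomial.X j))))
        rw [hccX, map_zero, map_zero, map_zero]
        exact Ideal.Quotient.eq_zero_iff_mem.mpr (hQ j)
    have h := RingHom.congr_fun heq f
    exact Ideal.Quotient.eq.mp h
  -- the univariate polynomials
  let G : Fin r → Polynomial A := fun i =>
    Polynomial.X ^ d i + ∑ k ∈ Finset.range (d i), Polynomial.C (c i k) * Polynomial.X ^ k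
  have hGlt : ∀ i, (∑ k ∈ Finset.range (d i), Polynomial.C (c i k) * Polynomial.X ^ k).degree
      < (d i : WithBot ℕ) := by
    intro i
    rw [Finset.sum_range]
    exact Polynomial.degree_sum_fin_lt (fun k : Fin (d i) => c i k)
  have hGmonic : ∀ i, (G i).Monic := fun i => Polynomial.monic_X_pow_add (hGlt i)
  have hGdeg : ∀ i, (G i).degree ≠ 0 := by
    intro i
    show (Polynomial.X ^ d i
      + ∑ k ∈ Finset.range (d i), Polynomial.C (c i k) * Polynomial.X ^ k).degree ≠ 0
    rw [Polynomial.degree_add_eq_left_of_degree_lt (by rw [Polynomial.degree_X_pow]; exact hGlt i),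
      Polynomial.degree_X_pow]
    have := hd i
    exact_mod_cast (by omega : d i ≠ 0)
  -- integrality
  have hXint : ∀ i, IsIntegral A (Ideal.Quotient.mk I (MvPolynomial.X i)) := by
    intro i
    refine ⟨G i, hGmonic i, ?_⟩
    simp only [G, Polynomial.eval₂_add, Polynomial.eval₂_pow, Polynomial.eval₂_X,
      Polynomial.eval₂_finsetSum, Polynomial.eval₂_mul, Polynomial.eval₂_C]
    exact hrel i
  have hint : Algebra.IsIntegral A (MvPolynomial (Fin r) A ⧸ I) := by
    refine ⟨fun y => ?_⟩
    obtain ⟨f, rfl⟩ := Ideal.Quotient.mk_surjective y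
    induction f using MvPolynomial.induction_on with
    | C a => exact isIntegral_algebraMap (x := a)
    | add p q hp hq => rw [map_add]; exact hp.add hq
    | mul_X p i hp => rw [map_mul]; exact hp.mul (hXint i)
  have hintR : (algebraMap A (MvPolynomial (Fin r) A ⧸ I)).IsIntegral := algebraMap_isIntegral_iff.mpr hint
  -- maximal ideals
  have hker_max : (RingHom.ker ρ).IsMaximal := RingHom.ker_isMaximal_of_surjective ρ hρsurj
  have hmax_eq : ∀ M : Ideal (MvPolynomial (Fin r) A ⧸ I), M.IsMaximal → M = RingHom.ker ρ := by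
    intro M hM
    haveI := hM
    have hcM : (M.comap (algebraMap A (MvPolynomial (Fin r) A ⧸ I))).IsMaximal :=
      Ideal.isMaximal_comap_of_isIntegral_of_isMaximal M
    have hcomap : M.comap (algebraMap A (MvPolynomial (Fin r) A ⧸ I)) = maximalIdeal A := eq_maximalIdeal hcM
    have hmM : ∀ a ∈ maximalIdeal A, Ideal.Quotient.mk I (MvPolynomial.C a) ∈ M := by
      intro a ha
      rw [← hcomap] at ha
      exact Ideal.mem_comap.mp ha
    have htM : ∀ i, Ideal.Quotient.mk I (MvPolynomial.X i) ∈ M := by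
      intro i
      have h1 : Ideal.Quotient.mk I (MvPolynomial.X i) ^ d i
          = -∑ k ∈ Finset.range (d i), Ideal.Quotient.mk I (MvPolynomial.C (c i k))
          * Ideal.Quotient.mk I (MvPolynomial.X i) ^ k := eq_neg_of_add_eq_zero_left (hrel i)
      have h2 : Ideal.Quotient.mk I (MvPolynomial.X i) ^ d i ∈ M := by
        rw [h1]
        exact neg_mem (Ideal.sum_mem _ fun k _ => Ideal.mul_mem_right _ _ (hmM _ (hc i k)))
      exact hM.isPrime.mem_of_pow_mem (d i) h2
    have hle : RingHom.ker ρ ≤ M := by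
      intro y hy
      obtain ⟨f, rfl⟩ := Ideal.Quotient.mk_surjective y
      rw [RingHom.mem_ker, hρ_mk, residue_eq_zero_iff] at hy
      have h3 := htrick M htM f
      have h4 := hmM _ hy
      have h5 := M.add_mem h3 h4
      rwa [sub_add_cancel] at h5
    exact (hker_max.eq_of_le hM.ne_top hle).symm
  have hloc : IsLocalRing (MvPolynomial (Fin r) A ⧸ I) :=
    IsLocalRing.of_unique_max_ideal ⟨RingHom.ker ρ, hker_max, fun M hM => hmax_eq M hM⟩
  have hmaxI : @maximalIdeal (MvPolynomial (Fin r) A ⧸ I) _ hloc = RingHom.ker ρ :=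
    hmax_eq _ (@maximalIdeal.isMaximal _ _ hloc)
  refine ⟨hloc, ?_, ?_⟩
  · intro M hM z
    have hMe := hmax_eq M hM
    obtain ⟨y, rfl⟩ := Ideal.Quotient.mk_surjective z
    obtain ⟨f, rfl⟩ := Ideal.Quotient.mk_surjective y
    refine ⟨cc f, ?_⟩
    show Ideal.Quotient.mk M (Ideal.Quotient.mk I (MvPolynomial.C (cc f)))
      = Ideal.Quotient.mk M (Ideal.Quotient.mk I f)
    rw [eq_comm, Ideal.Quotient.eq, hMe, RingHom.mem_ker, map_sub, hρ_mk, hρ_mk, hccC, sub_self]
  · haveI := hloc
    -- injectivity of A → A'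
    haveI : IsDomain A := Groth.Agent.H23.isDomain_of_isRegularLocalRing A
    have hinjL : Function.Injective (algebraMap A (AlgebraicClosure (FractionRing A))) := by
      rw [IsScalarTower.algebraMap_eq A (FractionRing A) (AlgebraicClosure (FractionRing A))]
      exact (algebraMap (FractionRing A) (AlgebraicClosure (FractionRing A))).injective.comp
        (IsFractionRing.injective A (FractionRing A))
    haveI : FaithfulSMul A (AlgebraicClosure (FractionRing A)) :=
      (faithfulSMul_iff_algebraMap_injective A _).mpr hinjL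
    have hroot : ∀ i, ∃ τ : AlgebraicClosure (FractionRing A), Polynomial.aeval τ (G i) = 0 :=
      fun i => IsAlgClosed.exists_aeval_eq_zero _ (G i) (hGdeg i)
    choose τ hτ using hroot
    let θ₀ : MvPolynomial (Fin r) A →+* AlgebraicClosure (FractionRing A) :=
      MvPolynomial.eval₂Hom (algebraMap A (AlgebraicClosure (FractionRing A))) τ
    have hθ₀I : ∀ f ∈ I, θ₀ f = 0 := by
      intro f hf
      have hle : I ≤ RingHom.ker θ₀ := by
        rw [hI, Ideal.span_le]
        rintro _ ⟨i, rfl⟩
        show θ₀ (F i) = 0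
        have h1 := hτ i
        simp only [G, map_add, map_pow, Polynomial.aeval_X, map_sum, map_mul,
          Polynomial.aeval_C] at h1
        simp only [F, θ₀, map_add, map_pow, MvPolynomial.eval₂Hom_X', map_sum, map_mul,
          MvPolynomial.eval₂Hom_C]
        exact h1
      exact hle hf
    let θ : (MvPolynomial (Fin r) A ⧸ I) →+* AlgebraicClosure (FractionRing A) := Ideal.Quotient.lift I θ₀ hθ₀I
    have hθC : ∀ a : A, θ (algebraMap A (MvPolynomial (Fin r) A ⧸ I) a)
        = algebraMap A (AlgebraicClosure (FractionRing A)) a := by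
      intro a
      show θ₀ (MvPolynomial.C a) = _
      exact MvPolynomial.eval₂Hom_C _ _ a
    have hinj : Function.Injective (algebraMap A (MvPolynomial (Fin r) A ⧸ I)) := by
      intro a b hab
      apply hinjL
      rw [← hθC, ← hθC, hab]
    have hdim : ringKrullDim (MvPolynomial (Fin r) A ⧸ I) = ringKrullDim A :=
      le_antisymm (Groth.Agent.H75.Rees.ringKrullDim_le_of_isIntegral _ hintR)
        (Groth.Agent.H75.Rees.ringKrullDim_le_of_injective_isIntegral _ hinj hintR)
    -- elements of the maximal ideals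
    have htm : ∀ i, Ideal.Quotient.mk I (MvPolynomial.X i) ∈ maximalIdeal (MvPolynomial (Fin r) A ⧸ I) := by
      intro i
      rw [hmaxI, RingHom.mem_ker, hρ_mk, hccX, map_zero]
    let x : Fin r → maximalIdeal A := fun i => ⟨c i 0, hc i 0⟩
    let tm : Fin r → maximalIdeal (MvPolynomial (Fin r) A ⧸ I) := fun i => ⟨Ideal.Quotient.mk I (MvPolynomial.X i), htm i⟩
    obtain ⟨J, hJ⟩ : ∃ J : Ideal A, J = Ideal.span (Set.range fun i => ((x i : maximalIdeal A) : A)) :=
      ⟨_, rfl⟩
    obtain ⟨J', hJ'⟩ : ∃ J' : Ideal (MvPolynomial (Fin r) A ⧸ I),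
        J' = Ideal.span (Set.range fun i => ((tm i : maximalIdeal (MvPolynomial (Fin r) A ⧸ I)) : MvPolynomial (Fin r) A ⧸ I)) := ⟨_, rfl⟩
    have hxJ : ∀ i, c i 0 ∈ J := fun i => by rw [hJ]; exact Ideal.subset_span ⟨i, rfl⟩
    have htJ' : ∀ i, Ideal.Quotient.mk I (MvPolynomial.X i) ∈ J' := fun i => by
      rw [hJ']; exact Ideal.subset_span ⟨i, rfl⟩
    -- the ring isomorphism A'/J' ≃ A/J
    have hfwd₀ : ∀ f ∈ I, ((Ideal.Quotient.mk J).comp cc) f = 0 := by
      intro f hf
      have hle : I ≤ RingHom.ker ((Ideal.Quotient.mk J).comp cc) := by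
        rw [hI, Ideal.span_le]
        rintro _ ⟨i, rfl⟩
        show Ideal.Quotient.mk J (cc (F i)) = 0
        rw [hccF]
        exact Ideal.Quotient.eq_zero_iff_mem.mpr (hxJ i)
      exact hle hf
    let fwd₁ : (MvPolynomial (Fin r) A ⧸ I) →+* A ⧸ J := Ideal.Quotient.lift I ((Ideal.Quotient.mk J).comp cc) hfwd₀
    have hfwd₁_mk : ∀ f, fwd₁ (Ideal.Quotient.mk I f) = Ideal.Quotient.mk J (cc f) := fun f => rfl
    have hfwd₁J' : ∀ y ∈ J', fwd₁ y = 0 := by
      intro y hy
      have hle : J' ≤ RingHom.ker fwd₁ := by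
        rw [hJ', Ideal.span_le]
        rintro _ ⟨i, rfl⟩
        show fwd₁ (Ideal.Quotient.mk I (MvPolynomial.X i)) = 0
        rw [hfwd₁_mk, hccX, map_zero]
      exact hle hy
    let fwd : ((MvPolynomial (Fin r) A ⧸ I) ⧸ J') →+* A ⧸ J := Ideal.Quotient.lift J' fwd₁ hfwd₁J'
    have hcJ' : ∀ i, Ideal.Quotient.mk I (MvPolynomial.C (c i 0)) ∈ J' := by
      intro i
      obtain ⟨e, he⟩ : ∃ e, d i = e + 1 := ⟨d i - 1, by have := hd i; omega⟩
      have h1 := hrel i
      rw [he, Finset.sum_range_succ'] at h1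
      simp only [pow_zero, mul_one] at h1
      have hval : Ideal.Quotient.mk I (MvPolynomial.C (c i 0))
          = -(Ideal.Quotient.mk I (MvPolynomial.X i) ^ (e + 1))
            - ∑ k ∈ Finset.range e, Ideal.Quotient.mk I (MvPolynomial.C (c i (k + 1)))
                * Ideal.Quotient.mk I (MvPolynomial.X i) ^ (k + 1) := by
        linear_combination h1
      rw [hval]
      refine Ideal.sub_mem _ (neg_mem ?_) (Ideal.sum_mem _ fun k _ => ?_)
      · rw [pow_succ]
        exact Ideal.mul_mem_left _ _ (htJ' i)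
      · rw [pow_succ, ← mul_assoc]
        exact Ideal.mul_mem_left _ _ (htJ' i)
    have hbwd₀ : ∀ a ∈ J, ((Ideal.Quotient.mk J').comp (algebraMap A (MvPolynomial (Fin r) A ⧸ I))) a = 0 := by
      intro a ha
      have hle : J ≤ RingHom.ker ((Ideal.Quotient.mk J').comp (algebraMap A (MvPolynomial (Fin r) A ⧸ I))) := by
        rw [hJ, Ideal.span_le]
        rintro _ ⟨i, rfl⟩
        show Ideal.Quotient.mk J' (Ideal.Quotient.mk I (MvPolynomial.C (c i 0))) = 0
        exact Ideal.Quotient.eq_zero_iff_mem.mpr (hcJ' i)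
      exact hle ha
    let bwd : (A ⧸ J) →+* ((MvPolynomial (Fin r) A ⧸ I) ⧸ J') :=
      Ideal.Quotient.lift J ((Ideal.Quotient.mk J').comp (algebraMap A (MvPolynomial (Fin r) A ⧸ I))) hbwd₀
    have h₁ : fwd.comp bwd = RingHom.id (A ⧸ J) := by
      apply Ideal.Quotient.ringHom_ext
      refine RingHom.ext fun a => ?_
      show Ideal.Quotient.mk J (cc (MvPolynomial.C a)) = Ideal.Quotient.mk J a
      rw [hccC]
    have h₂ : bwd.comp fwd = RingHom.id ((MvPolynomial (Fin r) A ⧸ I) ⧸ J') := by
      apply Ideal.Quotient.ringHom_ext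
      apply Ideal.Quotient.ringHom_ext
      refine RingHom.ext fun f => ?_
      show Ideal.Quotient.mk J' (Ideal.Quotient.mk I (MvPolynomial.C (cc f)))
        = Ideal.Quotient.mk J' (Ideal.Quotient.mk I f)
      rw [eq_comm, Ideal.Quotient.eq]
      exact htrick J' htJ' f
    let e : ((MvPolynomial (Fin r) A ⧸ I) ⧸ J') ≃+* (A ⧸ J) := RingEquiv.ofRingHom fwd bwd h₁ h₂
    -- linear independence of the classes of the T_i
    have hLIt : LinearIndependent (ResidueField (MvPolynomial (Fin r) A ⧸ I))
        (fun i => (maximalIdeal (MvPolynomial (Fin r) A ⧸ I)).toCotangent (tm i)) := by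
      let ψ₀ : MvPolynomial (Fin r) A →+* TrivSqZeroExt (ResidueField A) (Fin r → ResidueField A) :=
        MvPolynomial.eval₂Hom
          ((TrivSqZeroExt.inlHom (ResidueField A) (Fin r → ResidueField A)).comp (residue A))
          (fun i => TrivSqZeroExt.inr (Pi.single i 1))
      have hψ₀C : ∀ a, ψ₀ (MvPolynomial.C a) = TrivSqZeroExt.inl (residue A a) :=
        fun a => MvPolynomial.eval₂Hom_C _ _ a
      have hψ₀X : ∀ i, ψ₀ (MvPolynomial.X i)
          = TrivSqZeroExt.inr (Pi.single i (1 : ResidueField A)) :=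
        fun i => MvPolynomial.eval₂Hom_X' _ _ i
      have hψ₀I : ∀ f ∈ I, ψ₀ f = 0 := by
        intro f hf
        have hle : I ≤ RingHom.ker ψ₀ := by
          rw [hI, Ideal.span_le]
          rintro _ ⟨i, rfl⟩
          show ψ₀ (F i) = 0
          obtain ⟨e', he'⟩ : ∃ e', d i = e' + 2 := ⟨d i - 2, by have := hd i; omega⟩
          have hc0 : ∀ k, ψ₀ (MvPolynomial.C (c i k)) = 0 := by
            intro k
            rw [hψ₀C, (residue_eq_zero_iff _).mpr (hc i k), TrivSqZeroExt.inl_zero]
          simp only [F, map_add, map_pow, map_sum, map_mul, hc0, zero_mul, Finset.sum_const_zero,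
            add_zero, hψ₀X, he']
          rw [pow_succ, pow_succ, mul_assoc, TrivSqZeroExt.inr_mul_inr, mul_zero]
        exact hle hf
      let ψ : (MvPolynomial (Fin r) A ⧸ I) →+* TrivSqZeroExt (ResidueField A) (Fin r → ResidueField A) :=
        Ideal.Quotient.lift I ψ₀ hψ₀I
      have hψ_mk : ∀ f, ψ (Ideal.Quotient.mk I f) = ψ₀ f := fun f => rfl
      have hfst : ∀ y, (ψ y).fst = ρ y := by
        intro y
        obtain ⟨f, rfl⟩ := Ideal.Quotient.mk_surjective y
        rw [hψ_mk, hρ_mk]
        have heq : ((TrivSqZeroExt.fstHom (ResidueField A) (ResidueField A)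
            (Fin r → ResidueField A)).toRingHom.comp ψ₀) = (residue A).comp cc := by
          apply MvPolynomial.ringHom_ext
          · intro a
            show (ψ₀ (MvPolynomial.C a)).fst = residue A (cc (MvPolynomial.C a))
            rw [hψ₀C, hccC, TrivSqZeroExt.fst_inl]
          · intro j
            show (ψ₀ (MvPolynomial.X j)).fst = residue A (cc (MvPolynomial.X j))
            rw [hψ₀X, hccX, TrivSqZeroExt.fst_inr, map_zero]
        exact RingHom.congr_fun heq f
      have hsq : ∀ u v : TrivSqZeroExt (ResidueField A) (Fin r → ResidueField A),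
          u.fst = 0 → v.fst = 0 → u * v = 0 := by
        intro u v hu hv
        apply TrivSqZeroExt.ext
        · rw [TrivSqZeroExt.fst_mul, hu, zero_mul, TrivSqZeroExt.fst_zero]
        · rw [TrivSqZeroExt.snd_mul, hu, hv, zero_smul, MulOpposite.op_zero, zero_smul, add_zero,
            TrivSqZeroExt.snd_zero]
      have hψm2 : ∀ y ∈ maximalIdeal (MvPolynomial (Fin r) A ⧸ I) ^ 2, ψ y = 0 := by
        intro y hy
        have hk : maximalIdeal (MvPolynomial (Fin r) A ⧸ I) ^ 2
            = maximalIdeal (MvPolynomial (Fin r) A ⧸ I) * maximalIdeal (MvPolynomial (Fin r) A ⧸ I) := pow_two _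
        rw [hk] at hy
        refine Submodule.mul_induction_on hy ?_ ?_
        · intro a ha b hb
          rw [map_mul]
          rw [hmaxI, RingHom.mem_ker] at ha hb
          exact hsq _ _ (by rw [hfst, ha]) (by rw [hfst, hb])
        · intro a b ha hb
          rw [map_add, ha, hb, add_zero]
      rw [Fintype.linearIndependent_iff]
      intro gk hsum j
      choose lam hlam using fun i => residue_surjective (R := MvPolynomial (Fin r) A ⧸ I) (gk i)
      have hmem : ∑ i, lam i * Ideal.Quotient.mk I (MvPolynomial.X i) ∈ maximalIdeal (MvPolynomial (Fin r) A ⧸ I) :=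
        Ideal.sum_mem _ (fun i _ => Ideal.mul_mem_left _ _ (htm i))
      have e1 : (⟨∑ i, lam i * Ideal.Quotient.mk I (MvPolynomial.X i), hmem⟩ :
          maximalIdeal (MvPolynomial (Fin r) A ⧸ I)) = ∑ i, lam i • tm i := by
        apply Subtype.ext
        rw [Submodule.coe_sum]
        rfl
      have e2 : ∑ i, gk i • (maximalIdeal (MvPolynomial (Fin r) A ⧸ I)).toCotangent (tm i)
          = (maximalIdeal (MvPolynomial (Fin r) A ⧸ I)).toCotangent
            ⟨∑ i, lam i * Ideal.Quotient.mk I (MvPolynomial.X i), hmem⟩ := by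
        rw [e1, map_sum]
        refine Finset.sum_congr rfl fun i _ => ?_
        rw [map_smul, ← hlam i, ← IsLocalRing.ResidueField.algebraMap_eq, algebraMap_smul]
      rw [e2, Ideal.toCotangent_eq_zero] at hsum
      have h3 := hψm2 _ hsum
      rw [map_sum] at h3
      have h4 : ∀ i, ψ (lam i * Ideal.Quotient.mk I (MvPolynomial.X i))
          = TrivSqZeroExt.inr (ρ (lam i) • Pi.single i (1 : ResidueField A)) := by
        intro i
        rw [map_mul, hψ_mk, hψ₀X]
        apply TrivSqZeroExt.ext
        · rw [TrivSqZeroExt.fst_mul, TrivSqZeroExt.fst_inr, mul_zero, TrivSqZeroExt.fst_inr]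
        · rw [TrivSqZeroExt.snd_mul, TrivSqZeroExt.fst_inr, TrivSqZeroExt.snd_inr,
            MulOpposite.op_zero, zero_smul, add_zero, TrivSqZeroExt.snd_inr, hfst]
      have h5 : (∑ i, ρ (lam i) • Pi.single i (1 : ResidueField A)) = (0 : Fin r → ResidueField A) := by
        have h6 := congrArg TrivSqZeroExt.snd h3
        rw [TrivSqZeroExt.snd_sum] at h6
        simp only [h4, TrivSqZeroExt.snd_inr, TrivSqZeroExt.snd_zero] at h6
        exact h6
      have h7 := congrFun h5 j
      simp only [Finset.sum_apply, Pi.smul_apply, Pi.single_apply, smul_eq_mul, mul_ite, mul_one,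
        mul_zero, Finset.sum_ite_eq, Finset.mem_univ, if_true, Pi.zero_apply] at h7
      have h8 : lam j ∈ maximalIdeal (MvPolynomial (Fin r) A ⧸ I) := by rw [hmaxI, RingHom.mem_ker]; exact h7
      rw [← hlam j]
      exact (residue_eq_zero_iff _).mpr h8
    have hde : ringKrullDim ((MvPolynomial (Fin r) A ⧸ I) ⧸ J') = ringKrullDim (A ⧸ J) :=
      ringKrullDim_eq_of_ringEquiv (R := (MvPolynomial (Fin r) A ⧸ I) ⧸ J') (S := A ⧸ J) e
    have h1 := Groth.Agent.H23.regular_iff_quotient A r x
    have h2 := Groth.Agent.H23.regular_iff_quotient (MvPolynomial (Fin r) A ⧸ I) r tm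
    rw [← hJ] at h1
    rw [← hJ'] at h2
    constructor
    · intro hR
      haveI := hR
      have hRL : IsRegularLocalRing (MvPolynomial (Fin r) A ⧸ I) :=
        IsRegularLocalRing.of_isRegularRing_of_isLocalRing (MvPolynomial (Fin r) A ⧸ I)
      obtain ⟨hd2, hq2⟩ := h2.mp ⟨hRL, hLIt⟩
      haveI := hq2
      have hq1 : IsRegularLocalRing (A ⧸ J) := IsRegularLocalRing.of_ringEquiv (R := (MvPolynomial (Fin r) A ⧸ I) ⧸ J') e
      have hd1 : ringKrullDim (A ⧸ J) + r = ringKrullDim A := by
        rw [← hde, hd2, hdim]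
      exact (h1.mpr ⟨hd1, hq1⟩).2
    · intro hLI
      obtain ⟨hd1, hq1⟩ := h1.mp ⟨inferInstance, hLI⟩
      haveI := hq1
      have hq2 : IsRegularLocalRing ((MvPolynomial (Fin r) A ⧸ I) ⧸ J') := IsRegularLocalRing.of_ringEquiv (R := A ⧸ J) e.symm
      have hd2 : ringKrullDim ((MvPolynomial (Fin r) A ⧸ I) ⧸ J') + r = ringKrullDim (MvPolynomial (Fin r) A ⧸ I) := by
        rw [hde, hd1, hdim]
      haveI hRL : IsRegularLocalRing (MvPolynomial (Fin r) A ⧸ I) := (h2.mpr ⟨hd2, hq2⟩).1
      exact isRegularRing_iff.mpr fun p _ => Groth.Agent.S0564.result _ p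

end Groth.Agent.S4588
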