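import Groth.Statements.S4590
import Mathlib

set_option autoImplicit false
universe u
open CAlg

namespace Groth.Agent.S4590

theorem aux_nzd {A B : Type u} [CommRing A] [IsDomain A] [CommRing B] [Algebra A B]
    [Module.Flat A B] {a : A} (ha : a ≠ 0) {b : B} (h : algebraMap A B a * b = 0) : b = 0 := by
  have hreg : IsSMulRegular B a :=
    Module.Flat.isSMulRegular_of_nonZeroDivisors (mem_nonZeroDivisors_of_ne_zero ha)
  apply hreg
  show a • b = a • (0 : B)
  rw [smul_zero, Algebra.smul_def]
  exact h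

open Polynomial in
theorem aux_int {A B : Type u} [CommRing A] [IsDomain A] [CommRing B] [Algebra A B]
    [Module.FaithfullyFlat A B] (a s : A) (hs : s ≠ 0)
    (P : B[X]) (hP : P.Monic)
    (hnil : IsNilpotent (eval (algebraMap A B a) (scaleRoots P (algebraMap A B s)))) :
    IsIntegral A (algebraMap A (FractionRing A) a / algebraMap A (FractionRing A) s) := by
  classical
  haveI : Nontrivial B := (FaithfulSMul.algebraMap_injective A B).nontrivial
  obtain ⟨N, hN⟩ := hnil
  have hP'm : (P ^ N).Monic := hP.pow N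
  have hsc : scaleRoots (P ^ N) (algebraMap A B s) = (scaleRoots P (algebraMap A B s)) ^ N :=
    pow_scaleRoots' P _ N (by rw [hP.leadingCoeff, one_pow]; exact one_ne_zero)
  have hev : eval (algebraMap A B a) (scaleRoots (P ^ N) (algebraMap A B s)) = 0 := by
    rw [hsc, eval_pow, hN]
  obtain ⟨m, hm⟩ : ∃ m, m = (P ^ N).natDegree := ⟨_, rfl⟩
  rw [eval_eq_sum_range, natDegree_scaleRoots, Finset.sum_range_succ] at hev
  simp only [coeff_scaleRoots, hP'm.coeff_natDegree, Nat.sub_self, pow_zero, one_mul] at hev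
  rw [← hm] at hev
  have h3 : algebraMap A B a ^ m = -(∑ i ∈ Finset.range m,
      (P ^ N).coeff i * algebraMap A B s ^ (m - i) * algebraMap A B a ^ i) := by
    linear_combination hev
  obtain ⟨I, hI⟩ : ∃ I : Ideal A,
      I = Ideal.span (Set.range fun i : Fin m => s ^ (m - (i:ℕ)) * a ^ (i:ℕ)) := ⟨_, rfl⟩
  have hmemB : algebraMap A B a ^ m ∈ I.map (algebraMap A B) := by
    rw [h3]
    refine neg_mem (Ideal.sum_mem _ (fun i hi => ?_))
    have hi' := Finset.mem_range.mp hi
    have hmem : algebraMap A B (s ^ (m - i) * a ^ i) ∈ I.map (algebraMap A B) := by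
      apply Ideal.mem_map_of_mem
      rw [hI]
      exact Ideal.subset_span ⟨⟨i, hi'⟩, rfl⟩
    rw [map_mul, map_pow, map_pow] at hmem
    rw [mul_assoc]
    exact Ideal.mul_mem_left _ _ hmem
  have hmemA : a ^ m ∈ (I.map (algebraMap A B)).comap (algebraMap A B) := by
    rw [Ideal.mem_comap, map_pow]
    exact hmemB
  rw [Ideal.comap_map_eq_self_of_faithfullyFlat, hI] at hmemA
  obtain ⟨α, hα⟩ := Ideal.mem_span_range_iff_exists_fun.mp hmemA
  have hα' : ∑ i : Fin m, α i * (s ^ (m - (i:ℕ)) * a ^ (i:ℕ)) = a ^ m := hα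
  obtain ⟨sK, hsK⟩ : ∃ sK, sK = algebraMap A (FractionRing A) s := ⟨_, rfl⟩
  obtain ⟨aK, haK⟩ : ∃ aK, aK = algebraMap A (FractionRing A) a := ⟨_, rfl⟩
  rw [← hsK, ← haK]
  have hsK0 : sK ≠ 0 := by
    rw [hsK]
    exact (map_ne_zero_iff _ (IsFractionRing.injective A (FractionRing A))).mpr hs
  have hx : sK * (aK / sK) = aK := by field_simp
  refine ⟨X ^ m - ∑ i : Fin m, C (α i) * X ^ (i:ℕ), monic_X_pow_sub (degree_sum_fin_lt α), ?_⟩
  simp only [eval₂_sub, eval₂_pow, eval₂_X, eval₂_finsetSum, eval₂_mul, eval₂_C]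
  apply mul_left_cancel₀ (pow_ne_zero m hsK0)
  rw [mul_zero, mul_sub, Finset.mul_sum]
  have h1 : sK ^ m * (aK / sK) ^ m = aK ^ m := by rw [← mul_pow, hx]
  have h2 : ∀ i : Fin m, sK ^ m * (algebraMap A (FractionRing A) (α i) * (aK / sK) ^ (i:ℕ)) =
      algebraMap A (FractionRing A) (α i * (s ^ (m - (i:ℕ)) * a ^ (i:ℕ))) := by
    intro i
    have hpow : sK ^ m = sK ^ (m - (i:ℕ)) * sK ^ (i:ℕ) := by
      rw [← pow_add, Nat.sub_add_cancel i.2.le]
    have hxi : sK ^ (i:ℕ) * (aK / sK) ^ (i:ℕ) = aK ^ (i:ℕ) := by rw [← mul_pow, hx]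
    rw [map_mul, map_mul, map_pow, map_pow, ← hsK, ← haK, ← hxi, hpow]
    ring
  rw [h1, Finset.sum_congr rfl (fun i _ => h2 i), ← map_sum, hα', map_pow, ← haK, sub_self]

/-- Let A be a domain with fraction field K, B a faithfully flat A-algebra, C = B_red and R the total
ring of fractions of C. Then A → C is injective with nonzero elements going to non-zero-divisors, so
that K embeds in R, and an element of K is integral over C in R if and only if it is integral over
A. -/
theorem result {A B : Type u} [CommRing A] [IsDomain A]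
    [CommRing B] [Algebra A B] [Module.FaithfullyFlat A B] :
    Function.Injective (algebraMap A (B ⧸ nilradical B)) ∧
    (∀ a : A, a ≠ 0 → algebraMap A (B ⧸ nilradical B) a ∈ nonZeroDivisors (B ⧸ nilradical B)) ∧
    ∀ (R : Type u) [CommRing R] [Algebra (B ⧸ nilradical B) R] [IsFractionRing (B ⧸ nilradical B) R]
      [Algebra A R] [IsScalarTower A (B ⧸ nilradical B) R] [Algebra (FractionRing A) R]
      [IsScalarTower A (FractionRing A) R] (x : FractionRing A),
      IsIntegral (B ⧸ nilradical B) (algebraMap (FractionRing A) R x) ↔ IsIntegral A x := by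
  have hinj : Function.Injective (algebraMap A (B ⧸ nilradical B)) := by
    rw [injective_iff_map_eq_zero]
    intro a ha
    have ha' : Ideal.Quotient.mk (nilradical B) (algebraMap A B a) = 0 := ha
    rw [Ideal.Quotient.eq_zero_iff_mem, mem_nilradical] at ha'
    obtain ⟨n, hn⟩ := ha'
    rw [← map_pow] at hn
    have h0 : a ^ n = 0 := FaithfulSMul.algebraMap_injective A B (by rw [hn, map_zero])
    exact IsNilpotent.eq_zero ⟨n, h0⟩
  have hnzd : ∀ a : A, a ≠ 0 →
      algebraMap A (B ⧸ nilradical B) a ∈ nonZeroDivisors (B ⧸ nilradical B) := by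
    intro a ha
    rw [mem_nonZeroDivisors_iff_right]
    intro c hc
    obtain ⟨b, rfl⟩ := Ideal.Quotient.mk_surjective c
    have hc' : Ideal.Quotient.mk (nilradical B) (b * algebraMap A B a) = 0 := by
      rw [map_mul]; exact hc
    rw [Ideal.Quotient.eq_zero_iff_mem, mem_nilradical] at hc' ⊢
    obtain ⟨n, hn⟩ := hc'
    refine ⟨n, ?_⟩
    rw [mul_pow, ← map_pow, mul_comm] at hn
    exact aux_nzd (pow_ne_zero n ha) hn
  refine ⟨hinj, hnzd, ?_⟩
  intro R _ _ _ _ _ _ _ x
  constructor
  · intro hx
    obtain ⟨a, s, hs, rfl⟩ := IsFractionRing.div_surjective (A := A) x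
    have hs0 : s ≠ 0 := nonZeroDivisors.ne_zero hs
    haveI : Nontrivial (B ⧸ nilradical B) := hinj.nontrivial
    obtain ⟨p, hpm, hp⟩ := hx
    obtain ⟨P, hPmap, -, hPm⟩ := Polynomial.lifts_and_natDegree_eq_and_monic
      ((Polynomial.mem_lifts p).mpr
        (Polynomial.map_surjective _ Ideal.Quotient.mk_surjective p)) hpm
    apply aux_int a s hs0 P hPm
    rw [← mem_nilradical, ← Ideal.Quotient.eq_zero_iff_mem]
    rw [← Polynomial.eval₂_at_apply, ← Polynomial.eval_map,
      Polynomial.map_scaleRoots _ _ _ (by rw [hPm.leadingCoeff, map_one]; exact one_ne_zero),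
      hPmap]
    apply IsFractionRing.injective (B ⧸ nilradical B) R
    rw [map_zero, ← Polynomial.eval₂_at_apply]
    have e1 : ∀ t : A, algebraMap (B ⧸ nilradical B) R
        (Ideal.Quotient.mk (nilradical B) (algebraMap A B t)) =
        algebraMap (FractionRing A) R (algebraMap A (FractionRing A) t) := by
      intro t
      calc algebraMap (B ⧸ nilradical B) R (Ideal.Quotient.mk (nilradical B) (algebraMap A B t))
          = algebraMap (B ⧸ nilradical B) R (algebraMap A (B ⧸ nilradical B) t) := rfl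
        _ = algebraMap A R t := (IsScalarTower.algebraMap_apply A (B ⧸ nilradical B) R t).symm
        _ = _ := IsScalarTower.algebraMap_apply A (FractionRing A) R t
    have hsK0 : algebraMap A (FractionRing A) s ≠ 0 :=
      (map_ne_zero_iff _ (IsFractionRing.injective A (FractionRing A))).mpr hs0
    have key : algebraMap (B ⧸ nilradical B) R
          (Ideal.Quotient.mk (nilradical B) (algebraMap A B s)) *
        algebraMap (FractionRing A) R
          (algebraMap A (FractionRing A) a / algebraMap A (FractionRing A) s) =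
        algebraMap (B ⧸ nilradical B) R
          (Ideal.Quotient.mk (nilradical B) (algebraMap A B a)) := by
      rw [e1 s, e1 a, ← map_mul]
      congr 1
      field_simp
    rw [← key]
    exact Polynomial.scaleRoots_eval₂_eq_zero _ hp
  · intro hx
    exact (IsIntegral.map (IsScalarTower.toAlgHom A (FractionRing A) R) hx).tower_top

end Groth.Agent.S4590
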