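import Groth.Statements.S4591
import Groth.Agent.S3439
-- import your own Groth.Agent.* helpers here

set_option autoImplicit false
universe u
open AlgebraicGeometry
open EGA41

namespace Groth.Agent.S4591

/-- Let X be a quasi-compact scheme, F a pro-constructible subset and (E_i) a family of
ind-constructible subsets covering F. Then some finite subfamily covers F. -/
theorem result (X : Scheme.{u}) [CompactSpace X]
    (F : Set X) (hF : ProCons.IsProConstructible F) {ι : Type u} (E : ι → Set X)
    (hE : ∀ i, ProCons.IsIndConstructible (E i)) (h : F ⊆ ⋃ i, E i) :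
    ∃ J : Finset ι, F ⊆ ⋃ i ∈ J, E i := by
  have hF' : ProCons.IsIndConstructible Fᶜ := H17.isProConstructible_iff_compl.mp hF
  have hE' : ∀ i, ProCons.IsProConstructible (E i)ᶜ := fun i =>
    H17.isIndConstructible_iff_compl.mp (hE i)
  have h' : ⋂ i, (E i)ᶜ ⊆ Fᶜ := by
    rw [← Set.compl_iUnion]
    exact Set.compl_subset_compl.mpr h
  obtain ⟨J, hJ⟩ := Groth.Agent.S3439.result X Fᶜ hF' (fun i => (E i)ᶜ) hE' h'
  refine ⟨J, ?_⟩
  have : ⋂ i ∈ J, (E i)ᶜ = (⋃ i ∈ J, E i)ᶜ := by
    simp only [Set.compl_iUnion]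
  rw [this] at hJ
  exact Set.compl_subset_compl.mp hJ

end Groth.Agent.S4591
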