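import Groth.Statements.S4592

set_option autoImplicit false
universe u
open CategoryTheory CategoryTheory.Limits
open EGA41

namespace Groth.Agent.S4592

theorem aux {I : Type u} [SmallCategory I] [IsFiltered I]
    (D : I ⥤ CommRingCat.{u}) (c : Cocone D) (hc : IsColimit c) :
    Subsingleton c.pt ↔ ∃ i : I, Subsingleton (D.obj i) := by
  constructor
  · intro h
    by_contra hne
    push Not at hne
    have : ∀ i, Nontrivial (D.obj i) := hne
    have := CommRingCat.FilteredColimits.nontrivial hc
    exact not_subsingleton c.pt h
  · rintro ⟨i, hi⟩
    exact (c.ι.app i).hom.codomain_trivial


/-- A filtered colimit of commutative rings is the zero ring if and only if some ring of the system is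
zero (the clause that all later rings of the system are then zero is not restated). -/
theorem result {I : Type u} [SmallCategory I] [IsFiltered I]
    (D : I ⥤ CommRingCat.{u}) (c : Cocone D) (hc : IsColimit c) :
    Subsingleton c.pt ↔ ∃ i : I, Subsingleton (D.obj i) := by
  exact aux D c hc

end Groth.Agent.S4592
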