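import Groth.Statements.S4593
import Mathlib

set_option autoImplicit false
universe u
open CategoryTheory CategoryTheory.Limits AlgebraicGeometry
open EGA41

namespace Groth.Agent.S4593

theorem aux {I : Type u} [SmallCategory I] [IsFiltered I]
    (B : CommRingCat.{u}) (D : I ⥤ CommRingCat.{u}) (s : (Functor.const I).obj B ⟶ D) (c : Cocone D)
    (hc : IsColimit c) (i₀ : I) (p : PrimeSpectrum B) :
    p ∈ Set.range (PrimeSpectrum.comap (s.app i₀ ≫ c.ι.app i₀).hom) ↔
      ∀ i : I, p ∈ Set.range (PrimeSpectrum.comap (s.app i).hom) := by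
  have hs : ∀ {i k : I} (f : i ⟶ k), s.app i ≫ D.map f = s.app k := by
    intro i k f
    have := s.naturality f
    simpa using this.symm
  have hφ : ∀ i : I, s.app i ≫ c.ι.app i = s.app i₀ ≫ c.ι.app i₀ := by
    intro i
    have h1 : s.app i ≫ c.ι.app i =
        s.app (IsFiltered.max i i₀) ≫ c.ι.app (IsFiltered.max i i₀) := by
      rw [← hs (IsFiltered.leftToMax i i₀), Category.assoc, c.w]
    have h2 : s.app i₀ ≫ c.ι.app i₀ =
        s.app (IsFiltered.max i i₀) ≫ c.ι.app (IsFiltered.max i i₀) := by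
      rw [← hs (IsFiltered.rightToMax i i₀), Category.assoc, c.w]
    rw [h1, h2]
  have hw : ∀ {i k : I} (f : i ⟶ k) (x : D.obj i),
      (c.ι.app k).hom ((D.map f).hom x) = (c.ι.app i).hom x := by
    intro i k f x
    rw [← c.w f]; rfl
  constructor
  · rintro ⟨q, rfl⟩ i
    refine ⟨PrimeSpectrum.comap (c.ι.app i).hom q, ?_⟩
    rw [← hφ i]
    rfl
  · intro h
    rw [PrimeSpectrum.mem_range_comap_iff]
    refine le_antisymm ?_ Ideal.le_comap_map
    intro b hb
    rw [Ideal.mem_comap] at hb
    have hpush : ∀ {i k : I} (f : i ⟶ k) (a' : D.obj i), a' ∈ p.asIdeal.map (s.app i).hom →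
        (D.map f).hom a' ∈ p.asIdeal.map (s.app k).hom := by
      intro i k f a' ha'
      have := Ideal.mem_map_of_mem (D.map f).hom ha'
      rwa [Ideal.map_map, ← CommRingCat.hom_comp, hs f] at this
    have key : ∀ a : c.pt, a ∈ p.asIdeal.map (s.app i₀ ≫ c.ι.app i₀).hom →
        ∃ (i : I) (a' : D.obj i), a' ∈ p.asIdeal.map (s.app i).hom ∧ (c.ι.app i).hom a' = a := by
      intro a ha
      rw [Ideal.map] at ha
      induction ha using Submodule.span_induction with
      | mem x hx =>
        obtain ⟨b', hb', rfl⟩ := hx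
        exact ⟨i₀, (s.app i₀).hom b', Ideal.mem_map_of_mem _ hb', rfl⟩
      | zero => exact ⟨i₀, 0, zero_mem _, map_zero _⟩
      | add x y _ _ hx hy =>
        obtain ⟨i, x', hx', rfl⟩ := hx
        obtain ⟨j, y', hy', rfl⟩ := hy
        refine ⟨IsFiltered.max i j, (D.map (IsFiltered.leftToMax i j)).hom x' +
          (D.map (IsFiltered.rightToMax i j)).hom y', add_mem (hpush _ _ hx') (hpush _ _ hy'), ?_⟩
        rw [map_add, hw, hw]
      | smul r x _ hx =>
        obtain ⟨i, x', hx', rfl⟩ := hx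
        obtain ⟨j, r', hr'⟩ := Concrete.isColimit_exists_rep D hc r
        have hr'' : (c.ι.app j).hom r' = r := hr'
        refine ⟨IsFiltered.max i j, (D.map (IsFiltered.rightToMax i j)).hom r' *
          (D.map (IsFiltered.leftToMax i j)).hom x', Ideal.mul_mem_left _ _ (hpush _ _ hx'), ?_⟩
        rw [map_mul, hw, hw, hr'', smul_eq_mul]
    obtain ⟨i, a', ha', hia'⟩ := key _ hb
    have h0 : (c.ι.app i).hom a' = (c.ι.app i₀).hom ((s.app i₀).hom b) := hia'
    obtain ⟨k, f, g, hfg⟩ := Concrete.isColimit_exists_of_rep_eq D hc a' ((s.app i₀).hom b) h0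
    have h3 : (D.map f).hom a' = (D.map g).hom ((s.app i₀).hom b) := hfg
    have h2 : (D.map g).hom ((s.app i₀).hom b) = (s.app k).hom b := by rw [← hs g]; rfl
    have hk : (s.app k).hom b ∈ p.asIdeal.map (s.app k).hom := by
      rw [← h2, ← h3]; exact hpush f a' ha'
    have hk' : b ∈ Ideal.comap (s.app k).hom (Ideal.map (s.app k).hom p.asIdeal) := hk
    rwa [(PrimeSpectrum.mem_range_comap_iff (f := (s.app k).hom)).mp (h k)] at hk'

/-- Let B be a ring, (A_i) a filtered system of B-algebras with colimit A. The image of Spec A in Spec B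
is the intersection of the images of the Spec A_i. -/
theorem result {I : Type u} [SmallCategory I] [IsFiltered I]
    (B : CommRingCat.{u}) (D : I ⥤ CommRingCat.{u}) (s : (Functor.const I).obj B ⟶ D) (c : Cocone D)
    (hc : IsColimit c) (i₀ : I) :
    Set.range (Spec.map (s.app i₀ ≫ c.ι.app i₀)).base = ⋂ i : I, Set.range (Spec.map (s.app i)).base := by
  ext p
  rw [Set.mem_iInter]
  exact aux B D s c hc i₀ p

end Groth.Agent.S4593
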