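import Groth.Statements.S4594
import Mathlib
-- import your own Groth.Agent.* helpers here

set_option autoImplicit false
universe u
open TensorProduct KaehlerDifferential
open EGA41

set_option linter.style.haveILetI false
set_option linter.unusedSectionVars false
set_option linter.unusedVariables false

namespace Groth.Agent.S4594

theorem mem_of_tmul_D_eq_zero {Λ A C : Type u} [CommRing Λ] [CommRing A]
    [CommRing C] [Algebra Λ A] [Algebra A C] [Algebra Λ C] [IsScalarTower Λ A C]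
    (hsurj : Function.Surjective (algebraMap A C)) (p : ℕ)
    [Algebra (Λ ⧸ Ideal.span {(p : Λ)}) C] [IsScalarTower Λ (Λ ⧸ Ideal.span {(p : Λ)}) C]
    [Algebra.FormallySmooth (Λ ⧸ Ideal.span {(p : Λ)}) C]
    (hp : (p : A) ∈ RingHom.ker (algebraMap A C))
    (x₀ : A) (hx₀ : x₀ ∈ RingHom.ker (algebraMap A C))
    (h0 : (1 : C) ⊗ₜ[A] KaehlerDifferential.D Λ A x₀ = 0) :
    x₀ ∈ RingHom.ker (algebraMap A C) ^ 2 ⊔ Ideal.span {(p : A)} := by
  classical
  obtain ⟨J, hJ⟩ : ∃ J : Ideal A, J = RingHom.ker (algebraMap A C) := ⟨_, rfl⟩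
  have hJmem : ∀ a, a ∈ J ↔ algebraMap A C a = 0 := fun a => by rw [hJ, RingHom.mem_ker]
  obtain ⟨I, hI⟩ : ∃ I : Ideal A, I = J ^ 2 ⊔ Ideal.span {(p : A)} := ⟨_, rfl⟩
  rw [← hJ, ← hI]
  rw [← hJ] at hp hx₀
  have hIJ : I ≤ J := by
    rw [hI]
    exact sup_le (Ideal.pow_le_self two_ne_zero) ((Ideal.span_singleton_le_iff_mem _).mpr hp)
  have hpE : ((p : ℕ) : A ⧸ I) = 0 := by
    have : ((p : ℕ) : A ⧸ I) = Ideal.Quotient.mk I (p : A) :=
      (map_natCast (Ideal.Quotient.mk I) p).symm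
    rw [this]
    refine Ideal.Quotient.eq_zero_iff_mem.mpr ?_
    rw [hI]
    exact Submodule.mem_sup_right (Ideal.mem_span_singleton_self _)
  have h0' : ∀ a ∈ Ideal.span {(p : Λ)}, algebraMap Λ (A ⧸ I) a = 0 := by
    intro a ha
    obtain ⟨b, rfl⟩ := Ideal.mem_span_singleton'.mp ha
    rw [map_mul, map_natCast, hpE, mul_zero]
  letI algE : Algebra (Λ ⧸ Ideal.span {(p : Λ)}) (A ⧸ I) :=
    (Ideal.Quotient.lift (Ideal.span {(p : Λ)}) (algebraMap Λ (A ⧸ I)) h0').toAlgebra
  haveI towE : IsScalarTower Λ (Λ ⧸ Ideal.span {(p : Λ)}) (A ⧸ I) :=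
    IsScalarTower.of_algebraMap_eq (fun r => rfl)
  let g₀ : (A ⧸ I) →ₐ[Λ] C := Ideal.Quotient.liftₐ I (IsScalarTower.toAlgHom Λ A C)
    (fun a ha => (hJmem a).mp (hIJ ha))
  have hg₀ : ∀ a, g₀ (Ideal.Quotient.mk I a) = algebraMap A C a := fun a => rfl
  let g : (A ⧸ I) →ₐ[Λ ⧸ Ideal.span {(p : Λ)}] C :=
    { toRingHom := g₀.toRingHom
      commutes' := by
        intro r
        obtain ⟨r₀, rfl⟩ := Ideal.Quotient.mk_surjective r
        show g₀ (algebraMap Λ (A ⧸ I) r₀) = _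
        rw [g₀.commutes]
        exact IsScalarTower.algebraMap_apply Λ (Λ ⧸ Ideal.span {(p : Λ)}) C r₀ }
  have hg_mk : ∀ a, g (Ideal.Quotient.mk I a) = algebraMap A C a := fun a => rfl
  have hg : Function.Surjective g := by
    intro c
    obtain ⟨a, rfl⟩ := hsurj c
    exact ⟨Ideal.Quotient.mk I a, rfl⟩
  have hKsq : ∀ u v : A ⧸ I, g u = 0 → g v = 0 → u * v = 0 := by
    intro u v hu hv
    obtain ⟨a, rfl⟩ := Ideal.Quotient.mk_surjective u
    obtain ⟨b, rfl⟩ := Ideal.Quotient.mk_surjective v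
    rw [hg_mk] at hu hv
    rw [← map_mul]
    refine Ideal.Quotient.eq_zero_iff_mem.mpr ?_
    rw [hI]
    refine Submodule.mem_sup_left ?_
    have h2 : J ^ 2 = J * J := pow_two J
    rw [h2]
    exact Ideal.mul_mem_mul ((hJmem a).mpr hu) ((hJmem b).mpr hv)
  have hg' : IsNilpotent (RingHom.ker (g : (A ⧸ I) →+* C)) := by
    refine ⟨2, ?_⟩
    have hk : RingHom.ker (g : (A ⧸ I) →+* C) ^ 2
        = RingHom.ker (g : (A ⧸ I) →+* C) * RingHom.ker (g : (A ⧸ I) →+* C) := pow_two _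
    rw [hk, Ideal.zero_eq_bot, eq_bot_iff, Ideal.mul_le]
    intro x hx y hy
    rw [Ideal.mem_bot]
    exact hKsq x y (RingHom.mem_ker.mp hx) (RingHom.mem_ker.mp hy)
  let s : C →ₐ[Λ ⧸ Ideal.span {(p : Λ)}] (A ⧸ I) :=
    Algebra.FormallySmooth.liftOfSurjective (AlgHom.id (Λ ⧸ Ideal.span {(p : Λ)}) C) g hg hg'
  have hs : ∀ c, g (s c) = c := fun c =>
    Algebra.FormallySmooth.liftOfSurjective_apply (AlgHom.id (Λ ⧸ Ideal.span {(p : Λ)}) C) g hg hg' c
  let sΛ : C →ₐ[Λ] (A ⧸ I) := s.restrictScalars Λ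
  let mkΛ : A →ₐ[Λ] (A ⧸ I) := Ideal.Quotient.mkₐ Λ I
  let fΛ : A →ₐ[Λ] C := IsScalarTower.toAlgHom Λ A C
  have hgδ : ∀ a, g (Ideal.Quotient.mk I a - s (algebraMap A C a)) = 0 := by
    intro a
    rw [map_sub, hg_mk, hs, sub_self]
  let δ : Derivation Λ A (A ⧸ I) :=
    { toLinearMap := mkΛ.toLinearMap - (sΛ.comp fΛ).toLinearMap
      map_one_eq_zero' := by
        show Ideal.Quotient.mk I 1 - s (algebraMap A C 1) = 0
        rw [map_one, map_one, map_one, sub_self]
      leibniz' := fun a b => by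
        show Ideal.Quotient.mk I (a * b) - s (algebraMap A C (a * b))
          = a • (Ideal.Quotient.mk I b - s (algebraMap A C b))
            + b • (Ideal.Quotient.mk I a - s (algebraMap A C a))
        have hu := hKsq _ _ (hgδ a) (hgδ b)
        rw [map_mul, map_mul, map_mul, Algebra.smul_def, Algebra.smul_def,
          Ideal.Quotient.algebraMap_eq]
        linear_combination (-1 : A ⧸ I) * hu }
  have hδ : ∀ a, δ a = Ideal.Quotient.mk I a - s (algebraMap A C a) := fun a => rfl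
  let ψ : Ω[A⁄Λ] →ₗ[A] (A ⧸ I) := δ.liftKaehlerDifferential
  have hgψ : ∀ ω, g (ψ ω) = 0 := by
    intro ω
    have hω : ω ∈ Submodule.span A (Set.range (KaehlerDifferential.D Λ A)) := by
      rw [KaehlerDifferential.span_range_derivation]; exact Submodule.mem_top
    refine Submodule.span_induction (p := fun x _ => g (ψ x) = 0) ?_ ?_ ?_ ?_ hω
    · rintro _ ⟨a, rfl⟩
      show g (δ.liftKaehlerDifferential (KaehlerDifferential.D Λ A a)) = 0
      rw [Derivation.liftKaehlerDifferential_comp_D, hδ]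
      exact hgδ a
    · rw [map_zero, map_zero]
    · intro x y _ _ hx hy
      rw [map_add, map_add, hx, hy, add_zero]
    · intro a x _ hx
      rw [map_smul, Algebra.smul_def, map_mul, hx, mul_zero]
  let B : C →ₗ[A] Ω[A⁄Λ] →ₗ[A] (A ⧸ I) :=
    LinearMap.mk₂ A (fun c ω => s c * ψ ω)
      (fun c₁ c₂ ω => by rw [map_add, add_mul])
      (fun a c ω => by
        have h1 := hKsq (Ideal.Quotient.mk I a - s (algebraMap A C a)) (s c * ψ ω) (hgδ a)
          (by rw [map_mul, hgψ, mul_zero])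
        rw [Algebra.smul_def a c, map_mul, Algebra.smul_def, Ideal.Quotient.algebraMap_eq]
        linear_combination (-1 : A ⧸ I) * h1)
      (fun c ω₁ ω₂ => by rw [map_add, mul_add])
      (fun a c ω => by rw [map_smul, mul_smul_comm])
  let Ψ : C ⊗[A] Ω[A⁄Λ] →ₗ[A] (A ⧸ I) := TensorProduct.lift B
  have hΨ : Ψ ((1 : C) ⊗ₜ[A] KaehlerDifferential.D Λ A x₀) = Ideal.Quotient.mk I x₀ := by
    rw [TensorProduct.lift.tmul]
    show s 1 * δ.liftKaehlerDifferential (KaehlerDifferential.D Λ A x₀) = _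
    rw [map_one, one_mul, Derivation.liftKaehlerDifferential_comp_D, hδ, (hJmem x₀).mp hx₀,
      map_zero, sub_zero]
  rw [h0, map_zero] at hΨ
  exact Ideal.Quotient.eq_zero_iff_mem.mp hΨ.symm


/-- Let Λ be a ring, A → C a surjection of Λ-algebras with kernel J, C of characteristic p > 0, and π
the class of p·1 in J/J². If C is formally smooth over Λ/pΛ for the discrete topologies, then 0 →
(J/J²)/Cπ → Ω_{A/Λ} ⊗_A C → Ω_{C/Λ} → 0 is exact: the kernel of the conormal map J/J² → Ω_{A/Λ} ⊗_A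
C is the span of π, and the base-change map to Ω_{C/Λ} is surjective with kernel the image of J/J². -/
theorem result {Λ A C : Type u} [CommRing Λ] [CommRing A]
    [CommRing C] [Algebra Λ A] [Algebra A C] [Algebra Λ C] [IsScalarTower Λ A C]
    (hsurj : Function.Surjective (algebraMap A C)) (p : ℕ) [Fact p.Prime] [CharP C p]
    [Algebra (Λ ⧸ Ideal.span {(p : Λ)}) C] [IsScalarTower Λ (Λ ⧸ Ideal.span {(p : Λ)}) C]
    [Algebra.FormallySmooth (Λ ⧸ Ideal.span {(p : Λ)}) C]
    (hp : (p : A) ∈ RingHom.ker (algebraMap A C)) :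
    LinearMap.ker (kerCotangentToTensor Λ A C) =
        Submodule.span A {(RingHom.ker (algebraMap A C)).toCotangent ⟨(p : A), hp⟩} ∧
      LinearMap.range (kerCotangentToTensor Λ A C) = (LinearMap.ker (mapBaseChange Λ A C)).restrictScalars A ∧
      Function.Surjective (mapBaseChange Λ A C) := by
  refine ⟨?_, ?_, KaehlerDifferential.mapBaseChange_surjective Λ A C hsurj⟩
  · apply le_antisymm
    · intro y hy
      obtain ⟨x, rfl⟩ := Ideal.toCotangent_surjective _ y
      rw [LinearMap.mem_ker, kerCotangentToTensor_toCotangent] at hy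
      have hmem := mem_of_tmul_D_eq_zero hsurj p hp x.1 x.2 hy
      obtain ⟨j₂, hj₂, z, hz, hsum⟩ := Submodule.mem_sup.mp hmem
      obtain ⟨a, rfl⟩ := Ideal.mem_span_singleton'.mp hz
      have hj₂J : j₂ ∈ RingHom.ker (algebraMap A C) := Ideal.pow_le_self two_ne_zero hj₂
      have hx : x = ⟨j₂, hj₂J⟩ + a • (⟨(p : A), hp⟩ : RingHom.ker (algebraMap A C)) := by
        apply Subtype.ext
        rw [← hsum]
        rfl
      rw [hx, map_add, map_smul, (Ideal.toCotangent_eq_zero _ ⟨j₂, hj₂J⟩).mpr hj₂, zero_add]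
      exact Submodule.smul_mem _ _ (Submodule.mem_span_singleton_self _)
    · rw [Submodule.span_le, Set.singleton_subset_iff, SetLike.mem_coe, LinearMap.mem_ker,
        kerCotangentToTensor_toCotangent]
      show (1 : C) ⊗ₜ[A] KaehlerDifferential.D Λ A ((p : A)) = 0
      rw [Derivation.map_natCast, TensorProduct.tmul_zero]
  · exact KaehlerDifferential.range_kerCotangentToTensor Λ A C hsurj

end Groth.Agent.S4594
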