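import Groth.Statements.S4597
import Mathlib

set_option autoImplicit false
universe u
open AlgebraicGeometry CategoryTheory CategoryTheory.Limits
open EGA41

namespace Groth.Agent.S4597

section Aux
open CategoryTheory.Limits

theorem hcomm {X Y Y' : Scheme.{u}} (f : X ⟶ Y) (g : Y' ⟶ Y) (z : ↑(pullback f g)) :
    f.base ((pullback.fst f g).base z) = g.base ((pullback.snd f g).base z) := by
  have h1 : (pullback.fst f g ≫ f).base z = (pullback.snd f g ≫ g).base z := by
    rw [pullback.condition]
  exact h1

theorem qc_descent {X Y Y' : Scheme.{u}} (f : X ⟶ Y) (g : Y' ⟶ Y) [Surjective g]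
    (hg : QuasiCompact g) (hf' : QuasiCompact (pullback.snd f g)) : QuasiCompact f := by
  have hp : Function.Surjective (pullback.fst f g).base := (pullback.fst f g).surjective
  refine ⟨fun U hUo hUc => ?_⟩
  have h1 : IsCompact (g.base ⁻¹' U) := hg.isCompact_preimage U hUo hUc
  have h2 : IsCompact ((pullback.snd f g).base ⁻¹' (g.base ⁻¹' U)) :=
    hf'.isCompact_preimage _ (hUo.preimage g.continuous) h1
  have h3 : f.base ⁻¹' U =
      (pullback.fst f g).base '' ((pullback.snd f g).base ⁻¹' (g.base ⁻¹' U)) := by
    ext x
    constructor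
    · intro hx
      obtain ⟨z, rfl⟩ := hp x
      refine ⟨z, ?_, rfl⟩
      change g.base ((pullback.snd f g).base z) ∈ U
      rw [← hcomm]; exact hx
    · rintro ⟨z, hz, rfl⟩
      change f.base ((pullback.fst f g).base z) ∈ U
      rw [hcomm]; exact hz
  change IsCompact (f.base ⁻¹' U)
  rw [h3]
  exact h2.image (pullback.fst f g).continuous

theorem dominant_descent {X Y Y' : Scheme.{u}} (f : X ⟶ Y) (g : Y' ⟶ Y) [Surjective g]
    (hf' : IsDominant (pullback.snd f g)) : IsDominant f := by
  refine ⟨?_⟩
  have h1 : DenseRange (g.base ∘ (pullback.snd f g).base) :=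
    g.surjective.denseRange.comp hf'.denseRange g.continuous
  have h2 : g.base ∘ (pullback.snd f g).base = f.base ∘ (pullback.fst f g).base :=
    funext fun z => (hcomm f g z).symm
  rw [h2] at h1
  exact h1.mono (Set.range_comp_subset_range _ _)

end Aux

/-- Let f : X → Y, g : Y' → Y and f' : X ×_Y Y' → Y' the base change. If g is quasi-compact surjective
and f' quasi-compact, f is quasi-compact; if g is surjective and f' dominant, f is dominant. -/
theorem result {X Y Y' : Scheme.{u}} (f : X ⟶ Y)
    (g : Y' ⟶ Y) [Surjective g] :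
    (QuasiCompact g → QuasiCompact (pullback.snd f g) → QuasiCompact f) ∧
    (IsDominant (pullback.snd f g) → IsDominant f) := by
  exact ⟨fun hg hf' => qc_descent f g hg hf', fun hf' => dominant_descent f g hf'⟩

end Groth.Agent.S4597
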