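import Groth.Statements.S4600
import Mathlib.RingTheory.Extension.Presentation.Core
import Mathlib.Algebra.Category.Ring.FinitePresentation
import Mathlib.Algebra.Category.Ring.Constructions
import Mathlib.Algebra.Category.Ring.FilteredColimits
import Mathlib.RingTheory.FiniteStability

set_option autoImplicit false
universe u
open CategoryTheory CategoryTheory.Limits TensorProduct
open EGA41

namespace Groth.Agent.S4600

/-- Let (A_i) be a filtered system of rings with colimit A and B a finitely presented A-algebra. Then
some stage A_i carries a finitely presented algebra B_i with B isomorphic to A ⊗_{A_i} B_i as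
A-algebras (existence of an isomorphism; the base change is along the colimit map A_i → A). -/
theorem result {I : Type u} [SmallCategory I] [IsFiltered I]
    (D : I ⥤ CommRingCat.{u}) (c : Cocone D) (hc : IsColimit c) (B : Type u) [CommRing B] [Algebra c.pt B]
    [Algebra.FinitePresentation c.pt B] :
    ∃ (i : I) (Bi : Type u) (_ : CommRing Bi) (_ : Algebra (D.obj i) Bi),
      Algebra.FinitePresentation (D.obj i) Bi ∧
      (letI : Algebra (D.obj i) c.pt := (c.ι.app i).hom.toAlgebra
       Nonempty (B ≃ₐ[c.pt] (c.pt ⊗[D.obj i] Bi))) := by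
  classical
  let P := Algebra.Presentation.ofFinitePresentation c.pt B
  -- the base ring `ℤ`, lifted to the universe `u`
  let Z : CommRingCat.{u} := CommRingCat.of (ULift.{u} ℤ)
  have hZ : IsInitial Z := CommRingCat.isInitial
  let α : (Functor.const I).obj Z ⟶ D :=
    { app := fun i => hZ.to (D.obj i)
      naturality := fun _ _ _ => hZ.hom_ext _ _ }
  let f : Z ⟶ CommRingCat.of P.Core := hZ.to _
  let g : CommRingCat.of P.Core ⟶ c.pt := CommRingCat.ofHom (algebraMap P.Core c.pt)
  have hfp : f.hom.FinitePresentation := by
    haveI : IsNoetherianRing (ULift.{u} ℤ) :=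
      isNoetherianRing_of_ringEquiv ℤ ULift.ringEquiv.symm
    rw [← RingHom.FinitePresentation.of_finiteType]
    have h1 : (algebraMap ℤ P.Core).FiniteType :=
      RingHom.finiteType_algebraMap.mpr inferInstance
    have h2 : f.hom.comp (ULift.ringEquiv.symm : ℤ ≃+* ULift.{u} ℤ).toRingHom =
        algebraMap ℤ P.Core := RingHom.ext_int _ _
    exact RingHom.FiniteType.of_comp_finiteType (h2 ▸ h1)
  obtain ⟨i, g', -, hg⟩ := RingHom.EssFiniteType.exists_eq_comp_ι_app_of_isColimit Z D α f c hc
    hfp g (fun _ => hZ.hom_ext _ _)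
  letI : Algebra P.Core (D.obj i) := g'.hom.toAlgebra
  letI : Algebra (D.obj i) c.pt := (c.ι.app i).hom.toAlgebra
  haveI : IsScalarTower P.Core (D.obj i) c.pt := IsScalarTower.of_algebraMap_eq' (by
    have := congrArg CommRingCat.Hom.hom hg
    exact this)
  refine ⟨i, (D.obj i) ⊗[P.Core] (P.ModelOfHasCoeffs P.Core), inferInstance, inferInstance,
    inferInstance, ?_⟩
  exact ⟨(P.tensorModelOfHasCoeffsEquiv P.Core).symm.trans
    (Algebra.TensorProduct.cancelBaseChange P.Core (D.obj i) c.pt c.pt
      (P.ModelOfHasCoeffs P.Core)).symm⟩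

end Groth.Agent.S4600
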