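import Mathlib
import Groth.Statements.S4601

set_option autoImplicit false
universe u
open TensorProduct
open CAlg

namespace Groth.Agent.S4601

/-- Let A be a domain with fraction field K, B a Noetherian A-algebra which is flat over A, K' an
extension field of K, B₁ = B_red and R its total ring of fractions. For every sub-A-algebra A' of
K', the map (A' ⊗_A B)_red → (K' ⊗_A R)_red is injective, i.e. an element of A' ⊗_A B with nilpotent
image in K' ⊗_A R is nilpotent. -/
theorem result {A B K' R : Type u} [CommRing A]
    [IsDomain A] [CommRing B] [Algebra A B] [IsNoetherianRing B] [Module.Flat A B]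
    [Field K'] [Algebra A K'] [Algebra (FractionRing A) K'] [IsScalarTower A (FractionRing A) K']
    [CommRing R] [Algebra (B ⧸ nilradical B) R] [IsFractionRing (B ⧸ nilradical B) R]
    [Algebra B R] [IsScalarTower B (B ⧸ nilradical B) R] [Algebra A R] [IsScalarTower A B R]
    (A' : Subalgebra A K') (x : ↥A' ⊗[A] B)
    (hx : IsNilpotent (Algebra.TensorProduct.map A'.val (IsScalarTower.toAlgHom A B R) x)) :
    IsNilpotent x := by
  classical
  -- scalar tower A → B/nil → R
  haveI : IsScalarTower A (B ⧸ nilradical B) R := IsScalarTower.of_algebraMap_eq (fun a => by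
    rw [IsScalarTower.algebraMap_apply A B R, IsScalarTower.algebraMap_apply B (B ⧸ nilradical B) R]
    rfl)
  -- flatness of K' over A
  haveI : Module.Flat A (FractionRing A) := IsLocalization.flat (FractionRing A) (nonZeroDivisors A)
  haveI : Module.Flat (FractionRing A) K' := inferInstance
  haveI : Module.Flat A K' := Module.Flat.trans A (FractionRing A) K'
  -- the three maps
  let g₁ : ↥A' ⊗[A] B →ₐ[A] K' ⊗[A] B := Algebra.TensorProduct.map A'.val (AlgHom.id A B)
  let g₂ : K' ⊗[A] B →ₐ[A] K' ⊗[A] (B ⧸ nilradical B) :=
    Algebra.TensorProduct.map (AlgHom.id A K') (Ideal.Quotient.mkₐ A (nilradical B))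
  let g₃ : K' ⊗[A] (B ⧸ nilradical B) →ₐ[A] K' ⊗[A] R :=
    Algebra.TensorProduct.map (AlgHom.id A K') (IsScalarTower.toAlgHom A (B ⧸ nilradical B) R)
  -- injectivity of g₁
  have hg₁ : Function.Injective g₁ := by
    have h1 : Function.Injective (A'.val.toLinearMap.rTensor B) :=
      Module.Flat.rTensor_preserves_injective_linearMap (M := B) A'.val.toLinearMap
        Subtype.val_injective
    have h2 : ∀ z, g₁ z = A'.val.toLinearMap.rTensor B z := by
      intro z
      induction z using TensorProduct.induction_on with
      | zero => simp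
      | tmul a b => simp [g₁]
      | add z w hz hw => rw [map_add, map_add, hz, hw]
    intro z w hzw
    apply h1
    rw [← h2, ← h2, hzw]
  -- injectivity of g₃
  have hg₃ : Function.Injective g₃ := by
    have hj : Function.Injective (IsScalarTower.toAlgHom A (B ⧸ nilradical B) R).toLinearMap :=
      IsFractionRing.injective (B ⧸ nilradical B) R
    have h1 : Function.Injective
        ((IsScalarTower.toAlgHom A (B ⧸ nilradical B) R).toLinearMap.lTensor K') :=
      Module.Flat.lTensor_preserves_injective_linearMap (M := K') _ hj
    have h2 : ∀ z, g₃ z =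
        (IsScalarTower.toAlgHom A (B ⧸ nilradical B) R).toLinearMap.lTensor K' z := by
      intro z
      induction z using TensorProduct.induction_on with
      | zero => simp
      | tmul a b => simp [g₃]
      | add z w hz hw => rw [map_add, map_add, hz, hw]
    intro z w hzw
    apply h1
    rw [← h2, ← h2, hzw]
  -- kernel of g₂ consists of nilpotents
  have hg₂ : ∀ z, g₂ z = 0 → IsNilpotent z := by
    intro z hz
    have hex : Function.Exact ((nilradical B).subtype.restrictScalars A)
        ((Ideal.Quotient.mkₐ A (nilradical B)).toLinearMap) := by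
      intro b
      constructor
      · intro hb
        have hb' : b ∈ nilradical B := Ideal.Quotient.eq_zero_iff_mem.1 hb
        exact ⟨⟨b, hb'⟩, rfl⟩
      · rintro ⟨c, rfl⟩
        exact Ideal.Quotient.eq_zero_iff_mem.2 c.2
    have hsurj : Function.Surjective ((Ideal.Quotient.mkₐ A (nilradical B)).toLinearMap) :=
      Ideal.Quotient.mk_surjective
    have hex2 := lTensor_exact K' hex hsurj
    have h2 : ∀ w, g₂ w = (Ideal.Quotient.mkₐ A (nilradical B)).toLinearMap.lTensor K' w := by
      intro w
      induction w using TensorProduct.induction_on with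
      | zero => simp
      | tmul a b => simp [g₂]
      | add z w hz hw => rw [map_add, map_add, hz, hw]
    rw [h2] at hz
    obtain ⟨w, rfl⟩ := (hex2 z).1 hz
    -- images of K' ⊗ nilradical are nilpotent
    clear hz
    rw [← mem_nilradical]
    induction w using TensorProduct.induction_on with
    | zero => simp
    | tmul a c =>
      rw [LinearMap.lTensor_tmul, mem_nilradical]
      obtain ⟨n, hn⟩ := c.2
      refine ⟨n, ?_⟩
      show (a ⊗ₜ[A] (c : B)) ^ n = 0
      rw [Algebra.TensorProduct.tmul_pow, hn, TensorProduct.tmul_zero]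
    | add z w hz' hw' =>
      rw [map_add]
      exact (nilradical _).add_mem hz' hw'
  -- the composite
  have hcomp : ∀ z, Algebra.TensorProduct.map A'.val (IsScalarTower.toAlgHom A B R) z =
      g₃ (g₂ (g₁ z)) := by
    intro z
    induction z using TensorProduct.induction_on with
    | zero => simp
    | tmul a b =>
      simp only [g₁, g₂, g₃, Algebra.TensorProduct.map_tmul, AlgHom.coe_id, id_eq,
        IsScalarTower.coe_toAlgHom', Ideal.Quotient.mkₐ_eq_mk]
      rw [IsScalarTower.algebraMap_apply B (B ⧸ nilradical B) R]
      rfl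
    | add z w hz hw => rw [map_add, map_add, map_add, map_add, hz, hw]
  rw [hcomp] at hx
  have h1 : IsNilpotent (g₂ (g₁ x)) := (IsNilpotent.map_iff hg₃).1 hx
  obtain ⟨n, hn⟩ := h1
  rw [← map_pow] at hn
  obtain ⟨m, hm⟩ := hg₂ _ hn
  rw [← pow_mul] at hm
  have h2 : IsNilpotent (g₁ x) := ⟨n * m, hm⟩
  exact (IsNilpotent.map_iff hg₁).1 h2

end Groth.Agent.S4601
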