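import Groth.Statements.S4603
import Mathlib

set_option autoImplicit false
universe u
open AlgebraicGeometry CategoryTheory
open EGA41

namespace Groth.Agent.S4603

section Aux

/-- every point has a maximal generization -/
theorem exists_maximal_generization {α : Type*} [TopologicalSpace α] [QuasiSober α] [T0Space α]
    (y : α) : ∃ η : α, (∀ y' : α, y' ⤳ η → y' = η) ∧ η ⤳ y := by
  obtain ⟨η, hη⟩ := QuasiSober.sober (isIrreducible_irreducibleComponent (x := y))
    isClosed_irreducibleComponent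
  refine ⟨η, fun y' hy' => ?_, ?_⟩
  · have hZ : closure {η} = irreducibleComponent y := hη.def
    have h1 : closure {η} ⊆ closure {y'} := by
      rw [← specializes_iff_closure_subset]; exact hy'
    have hmax : Maximal IsIrreducible (irreducibleComponent y) :=
      irreducibleComponent_mem_irreducibleComponents y
    have h2 : irreducibleComponent y = closure {y'} :=
      hmax.eq_of_le (isIrreducible_singleton.closure) (hZ ▸ h1)
    have h3 : IsGenericPoint y' (irreducibleComponent y) := h2.symm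
    exact h3.eq hη
  · rw [specializes_iff_mem_closure, hη.def]; exact mem_irreducibleComponent

theorem affine_case {W V : Scheme.{u}} [IsAffine W] [IsAffine V] (q : W ⟶ V) [IsDominant q]
    (η : V) (hη : ∀ y' : V, y' ⤳ η → y' = η) : η ∈ Set.range q.base := by
  have hnat := Scheme.isoSpec_hom_naturality q
  have hdom : IsDominant (Spec.map q.appTop) := by
    have : Spec.map q.appTop = W.isoSpec.inv ≫ q ≫ V.isoSpec.hom := by
      rw [← hnat, Iso.inv_hom_id_assoc]
    rw [this]; infer_instance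
  have hdense : DenseRange (PrimeSpectrum.comap q.appTop.hom) := hdom.denseRange
  rw [PrimeSpectrum.denseRange_comap_iff_minimalPrimes] at hdense
  have hinvhom : ∀ z : V, V.isoSpec.inv.base (V.isoSpec.hom.base z) = z := by
    intro z
    have : (V.isoSpec.hom ≫ V.isoSpec.inv).base z = z := by rw [Iso.hom_inv_id]; rfl
    exact this
  have hhominv : ∀ z : PrimeSpectrum Γ(V, ⊤), V.isoSpec.hom.base (V.isoSpec.inv.base z) = z := by
    intro z
    have : (V.isoSpec.inv ≫ V.isoSpec.hom).base z = z := by rw [Iso.inv_hom_id]; rfl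
    exact this
  have hWhominv : ∀ z : PrimeSpectrum Γ(W, ⊤), W.isoSpec.hom.base (W.isoSpec.inv.base z) = z := by
    intro z
    have : (W.isoSpec.inv ≫ W.isoSpec.hom).base z = z := by rw [Iso.inv_hom_id]; rfl
    exact this
  obtain ⟨𝔭, h𝔭⟩ : ∃ 𝔭 : PrimeSpectrum Γ(V, ⊤), 𝔭 = V.isoSpec.hom.base η := ⟨_, rfl⟩
  have hmin : 𝔭.asIdeal ∈ minimalPrimes Γ(V, ⊤) := by
    refine ⟨⟨𝔭.isPrime, bot_le⟩, fun Q hQ hle => ?_⟩
    have hs : (⟨Q, hQ.1⟩ : PrimeSpectrum Γ(V, ⊤)) ⤳ 𝔭 :=
      (PrimeSpectrum.le_iff_specializes _ _).mp hle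
    have hs' : V.isoSpec.inv.base ⟨Q, hQ.1⟩ ⤳ V.isoSpec.inv.base 𝔭 :=
      hs.map V.isoSpec.inv.continuous
    rw [h𝔭, hinvhom] at hs'
    have h1 := hη _ hs'
    have e2 : (⟨Q, hQ.1⟩ : PrimeSpectrum Γ(V, ⊤)) = 𝔭 := by
      rw [h𝔭, ← h1, hhominv]
    exact (congrArg PrimeSpectrum.asIdeal e2).ge
  obtain ⟨Q, hQ⟩ := hdense _ hmin
  refine ⟨W.isoSpec.inv.base Q, ?_⟩
  apply V.isoSpec.hom.isOpenEmbedding.injective
  have h3 : (q ≫ V.isoSpec.hom).base (W.isoSpec.inv.base Q) =
      (W.isoSpec.hom ≫ Spec.map q.appTop).base (W.isoSpec.inv.base Q) := by rw [hnat]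
  have h4 : V.isoSpec.hom.base (q.base (W.isoSpec.inv.base Q)) =
      PrimeSpectrum.comap q.appTop.hom (W.isoSpec.hom.base (W.isoSpec.inv.base Q)) := h3
  rw [hWhominv, hQ] at h4
  rw [← h𝔭]
  exact h4

theorem dominant_imp {X Y : Scheme.{u}} (f : X ⟶ Y) [QuasiCompact f] [IsDominant f]
    (η : Y) (hη : ∀ y' : Y, y' ⤳ η → y' = η) : η ∈ Set.range f.base := by
  obtain ⟨V, hV, hηV, -⟩ := exists_isAffineOpen_mem_and_subset (x := η) (U := ⊤) trivial
  have hc : IsCompact (f ⁻¹ᵁ V : Set X) := f.isCompact_preimage hV.isCompact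
  have : CompactSpace ↥((f ⁻¹ᵁ V).toScheme) := isCompact_iff_compactSpace.mp hc
  obtain ⟨W, p, hp, -, hW⟩ :=
    Scheme.exists_hom_isAffine_of_isZariskiLocalAtSource @Flat (f ⁻¹ᵁ V).toScheme
  have : IsAffine (V : Scheme) := hV
  have : IsDominant (f ∣_ V) := IsZariskiLocalAtTarget.restrict ‹IsDominant f› V
  have : IsDominant (p ≫ f ∣_ V) := inferInstance
  have hη' : ∀ y' : ↥V, y' ⤳ (⟨η, hηV⟩ : ↥V) → y' = ⟨η, hηV⟩ := by
    intro y' hy'
    have := hη y'.1 (hy'.map continuous_subtype_val)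
    exact Subtype.ext this
  obtain ⟨w, hw⟩ := affine_case (p ≫ f ∣_ V) ⟨η, hηV⟩ hη'
  refine ⟨(f ⁻¹ᵁ V).ι.base (p.base w), ?_⟩
  have h1 : ((f ∣_ V) ≫ V.ι).base (p.base w) = ((f ⁻¹ᵁ V).ι ≫ f).base (p.base w) := by
    rw [morphismRestrict_ι]
  have h2 : (f ∣_ V).base (p.base w) = ⟨η, hηV⟩ := hw
  calc f.base ((f ⁻¹ᵁ V).ι.base (p.base w)) = V.ι.base ((f ∣_ V).base (p.base w)) := h1.symm
    _ = η := by rw [h2]; rfl

end Aux

/-- Let f : X → Y be quasi-compact. The following are equivalent: f is dominant; the fibre of f over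
every maximal point of Y (a point with no proper generization, i.e. the generic point of an
irreducible component) is nonempty; every maximal point of Y is the image of a maximal point of X. -/
theorem result {X Y : Scheme.{u}} (f : X ⟶ Y) [QuasiCompact f] :
    [IsDominant f,
     ∀ y : Y, (∀ y' : Y, y' ⤳ y → y' = y) → y ∈ Set.range f.base,
     ∀ y : Y, (∀ y' : Y, y' ⤳ y → y' = y) → ∃ x : X, (∀ x' : X, x' ⤳ x → x' = x) ∧ f.base x = y].TFAE := by
  tfae_have 1 → 2 := fun h η hη => dominant_imp f η hη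
  tfae_have 2 → 3 := by
    intro h η hη
    obtain ⟨x₀, hx₀⟩ := h η hη
    obtain ⟨x, hxmax, hxs⟩ := exists_maximal_generization x₀
    refine ⟨x, hxmax, ?_⟩
    have : f.base x ⤳ f.base x₀ := hxs.map f.continuous
    rw [hx₀] at this
    exact hη _ this
  tfae_have 3 → 2 := fun h η hη => let ⟨x, _, hx⟩ := h η hη; ⟨x, hx⟩
  tfae_have 2 → 1 := by
    intro h
    refine ⟨fun y => ?_⟩
    obtain ⟨η, hηmax, hηs⟩ := exists_maximal_generization y
    exact hηs.mem_closed isClosed_closure (subset_closure (h η hηmax))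
  tfae_finish

end Groth.Agent.S4603
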