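import Groth.Statements.S4604
import Mathlib
-- import your own Groth.Agent.* helpers here

set_option autoImplicit false
universe u
open IsLocalRing
open EGA41

set_option linter.style.haveILetI false
set_option linter.unusedSectionVars false
set_option linter.unusedVariables false

namespace Groth.Agent.S4604


/-- (i) and the kernel statement of (ii): let A be a local ring with maximal ideal m of square zero,
F_i(T_i) = T_i^{d_i} + Σ_{k<d_i} c_{ik} T_i^k (1 ≤ i ≤ r) monic of degrees d_i ≥ 2 with non-leading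
coefficients in m, and A' = A[T_1, …, T_r]/(F_1, …, F_r). Then A' is local with residue field K, and
the kernel of m → m'/m'² (m' the maximal ideal of A') is the ideal generated by the constant terms
c_{i0}. -/
theorem result {A : Type u} [CommRing A] [IsLocalRing A]
    (hm : maximalIdeal A ^ 2 = ⊥) {r : ℕ} (d : Fin r → ℕ) (hd : ∀ i, 2 ≤ d i) (c : Fin r → ℕ → A)
    (hc : ∀ i k, c i k ∈ maximalIdeal A) :
    let F : Fin r → MvPolynomial (Fin r) A := fun i =>
      MvPolynomial.X i ^ d i + (Finset.range (d i)).sum fun k => MvPolynomial.C (c i k) * MvPolynomial.X i ^ k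
    ∃ _ : IsLocalRing (MvPolynomial (Fin r) A ⧸ Ideal.span (Set.range F)),
      Function.Surjective ((Ideal.Quotient.mk (maximalIdeal (MvPolynomial (Fin r) A ⧸ Ideal.span (Set.range F)))).comp
        (algebraMap A (MvPolynomial (Fin r) A ⧸ Ideal.span (Set.range F)))) ∧
      maximalIdeal A ⊓ Ideal.comap (algebraMap A (MvPolynomial (Fin r) A ⧸ Ideal.span (Set.range F)))
          (maximalIdeal (MvPolynomial (Fin r) A ⧸ Ideal.span (Set.range F)) ^ 2) =
        Ideal.span (Set.range fun i => c i 0) := by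
  intro F
  classical
  set I : Ideal (MvPolynomial (Fin r) A) := Ideal.span (Set.range F) with hI
  let cc : MvPolynomial (Fin r) A →+* A := MvPolynomial.constantCoeff
  have hccC : ∀ a : A, cc (MvPolynomial.C a) = a := fun a => MvPolynomial.constantCoeff_C _ a
  have hccX : ∀ j : Fin r, cc (MvPolynomial.X j) = 0 := fun j => MvPolynomial.constantCoeff_X A j
  have hccF : ∀ i, cc (F i) = c i 0 := by
    intro i
    obtain ⟨e, he⟩ : ∃ e, d i = e + 1 := ⟨d i - 1, by have := hd i; omega⟩
    simp only [F, cc, map_add, map_pow, MvPolynomial.constantCoeff_X, map_sum, map_mul,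
      MvPolynomial.constantCoeff_C, he]
    rw [Finset.sum_range_succ']
    simp
  let ρ₀ : MvPolynomial (Fin r) A →+* ResidueField A := (residue A).comp cc
  have hρ₀I : ∀ f ∈ I, ρ₀ f = 0 := by
    intro f hf
    have hle : I ≤ RingHom.ker ρ₀ := by
      rw [hI, Ideal.span_le]
      rintro _ ⟨i, rfl⟩
      show residue A (cc (F i)) = 0
      rw [hccF]
      exact (residue_eq_zero_iff _).mpr (hc i 0)
    exact hle hf
  let ρ : (MvPolynomial (Fin r) A ⧸ I) →+* ResidueField A := Ideal.Quotient.lift I ρ₀ hρ₀I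
  have hρ_mk : ∀ f, ρ (Ideal.Quotient.mk I f) = residue A (cc f) := fun f => rfl
  have hJ2 : ((maximalIdeal A).map (algebraMap A (MvPolynomial (Fin r) A ⧸ I))) ^ 2 = ⊥ := by
    rw [← Ideal.map_pow, hm, Ideal.map_bot]
  have hmN : ∀ a ∈ maximalIdeal A, algebraMap A (MvPolynomial (Fin r) A ⧸ I) a ∈ nilradical (MvPolynomial (Fin r) A ⧸ I) := by
    intro a ha
    rw [mem_nilradical]
    refine ⟨2, ?_⟩
    rw [← map_pow]
    have h2 : a ^ 2 ∈ maximalIdeal A ^ 2 := Ideal.pow_mem_pow ha 2
    rw [hm, Ideal.mem_bot] at h2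
    rw [h2, map_zero]
  have hXN : ∀ i, Ideal.Quotient.mk I (MvPolynomial.X i) ∈ nilradical (MvPolynomial (Fin r) A ⧸ I) := by
    intro i
    rw [mem_nilradical]
    have hF0 : Ideal.Quotient.mk I (F i) = 0 :=
      Ideal.Quotient.eq_zero_iff_mem.mpr (Ideal.subset_span ⟨i, rfl⟩)
    obtain ⟨σ, hσ⟩ : ∃ σ : MvPolynomial (Fin r) A ⧸ I, σ = ∑ k ∈ Finset.range (d i),
        Ideal.Quotient.mk I (MvPolynomial.C (c i k)) * Ideal.Quotient.mk I (MvPolynomial.X i) ^ k :=
      ⟨_, rfl⟩
    have hexp : Ideal.Quotient.mk I (F i) = Ideal.Quotient.mk I (MvPolynomial.X i) ^ d i + σ := by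
      rw [hσ]
      simp only [F, map_add, map_pow, map_sum, map_mul]
    have h1 : Ideal.Quotient.mk I (MvPolynomial.X i) ^ d i = -σ := by
      rw [hexp] at hF0
      exact eq_neg_of_add_eq_zero_left hF0
    have hσJ : σ ∈ (maximalIdeal A).map (algebraMap A (MvPolynomial (Fin r) A ⧸ I)) := by
      rw [hσ]
      exact Ideal.sum_mem _ fun k _ => Ideal.mul_mem_right _ _
        (Ideal.mem_map_of_mem (algebraMap A (MvPolynomial (Fin r) A ⧸ I)) (hc i k))
    have hσ2 : σ * σ = 0 := by
      have h3 : σ * σ ∈ ((maximalIdeal A).map (algebraMap A (MvPolynomial (Fin r) A ⧸ I))) ^ 2 := by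
        have hk : ((maximalIdeal A).map (algebraMap A (MvPolynomial (Fin r) A ⧸ I))) ^ 2
            = ((maximalIdeal A).map (algebraMap A (MvPolynomial (Fin r) A ⧸ I)))
              * ((maximalIdeal A).map (algebraMap A (MvPolynomial (Fin r) A ⧸ I))) := pow_two _
        rw [hk]
        exact Ideal.mul_mem_mul hσJ hσJ
      rwa [hJ2, Ideal.mem_bot] at h3
    refine ⟨d i * 2, ?_⟩
    rw [pow_mul, h1]
    linear_combination hσ2
  have hnil : ∀ f, Ideal.Quotient.mk I f - algebraMap A (MvPolynomial (Fin r) A ⧸ I) (cc f) ∈ nilradical (MvPolynomial (Fin r) A ⧸ I) := by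
    intro f
    have heq : ((Ideal.Quotient.mk (nilradical (MvPolynomial (Fin r) A ⧸ I))).comp (Ideal.Quotient.mk I))
        = ((Ideal.Quotient.mk (nilradical (MvPolynomial (Fin r) A ⧸ I))).comp (algebraMap A (MvPolynomial (Fin r) A ⧸ I))).comp cc := by
      apply MvPolynomial.ringHom_ext
      · intro a
        show Ideal.Quotient.mk (nilradical (MvPolynomial (Fin r) A ⧸ I)) (Ideal.Quotient.mk I (MvPolynomial.C a))
          = Ideal.Quotient.mk (nilradical (MvPolynomial (Fin r) A ⧸ I)) (algebraMap A (MvPolynomial (Fin r) A ⧸ I) (cc (MvPolynomial.C a)))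
        rw [hccC]
        rfl
      · intro j
        show Ideal.Quotient.mk (nilradical (MvPolynomial (Fin r) A ⧸ I)) (Ideal.Quotient.mk I (MvPolynomial.X j))
          = Ideal.Quotient.mk (nilradical (MvPolynomial (Fin r) A ⧸ I)) (algebraMap A (MvPolynomial (Fin r) A ⧸ I) (cc (MvPolynomial.X j)))
        rw [hccX, map_zero, map_zero]
        exact Ideal.Quotient.eq_zero_iff_mem.mpr (hXN j)
    have h := RingHom.congr_fun heq f
    exact Ideal.Quotient.eq.mp h
  have hunit : ∀ y : MvPolynomial (Fin r) A ⧸ I, ρ y ≠ 0 → IsUnit y := by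
    intro y hy
    obtain ⟨f, rfl⟩ := Ideal.Quotient.mk_surjective y
    rw [hρ_mk] at hy
    have hu : IsUnit (cc f) := by
      by_contra h
      exact hy ((residue_eq_zero_iff _).mpr ((mem_maximalIdeal _).mpr h))
    have hn : IsNilpotent (Ideal.Quotient.mk I f - algebraMap A (MvPolynomial (Fin r) A ⧸ I) (cc f)) :=
      mem_nilradical.mp (hnil f)
    have h := hn.isUnit_add_left_of_commute (hu.map (algebraMap A (MvPolynomial (Fin r) A ⧸ I))) (Commute.all _ _)
    rwa [add_sub_cancel] at h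
  have hnonunit : ∀ y : MvPolynomial (Fin r) A ⧸ I, ρ y = 0 → ¬ IsUnit y := fun y hy hu => by
    have h := hu.map ρ
    rw [hy] at h
    exact not_isUnit_zero h
  haveI : Nontrivial (MvPolynomial (Fin r) A ⧸ I) := ρ.domain_nontrivial
  have hloc : IsLocalRing (MvPolynomial (Fin r) A ⧸ I) := IsLocalRing.of_nonunits_add (by
    intro a b ha hb
    have ha' : ρ a = 0 := by
      by_contra h
      exact (mem_nonunits_iff.mp ha) (hunit a h)
    have hb' : ρ b = 0 := by
      by_contra h
      exact (mem_nonunits_iff.mp hb) (hunit b h)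
    exact mem_nonunits_iff.mpr (hnonunit (a + b) (by rw [map_add, ha', hb', add_zero])))
  have hmem : ∀ y : MvPolynomial (Fin r) A ⧸ I, y ∈ @maximalIdeal (MvPolynomial (Fin r) A ⧸ I) _ hloc ↔ ρ y = 0 := by
    intro y
    rw [@mem_maximalIdeal _ _ hloc, mem_nonunits_iff]
    exact ⟨fun h => by by_contra h'; exact h (hunit y h'), hnonunit y⟩
  have hXm : ∀ j, Ideal.Quotient.mk I (MvPolynomial.X j) ∈ @maximalIdeal (MvPolynomial (Fin r) A ⧸ I) _ hloc :=
    fun j => by rw [hmem, hρ_mk, hccX, map_zero]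
  have hcm : ∀ a ∈ maximalIdeal A, algebraMap A (MvPolynomial (Fin r) A ⧸ I) a ∈ @maximalIdeal (MvPolynomial (Fin r) A ⧸ I) _ hloc :=
    fun a ha => by
      rw [hmem]
      show ρ (Ideal.Quotient.mk I (MvPolynomial.C a)) = 0
      rw [hρ_mk, hccC]
      exact (residue_eq_zero_iff _).mpr ha
  refine ⟨hloc, ?_, ?_⟩
  · intro z
    obtain ⟨y, rfl⟩ := Ideal.Quotient.mk_surjective z
    obtain ⟨f, rfl⟩ := Ideal.Quotient.mk_surjective y
    refine ⟨cc f, ?_⟩
    show Ideal.Quotient.mk (@maximalIdeal (MvPolynomial (Fin r) A ⧸ I) _ hloc) (algebraMap A (MvPolynomial (Fin r) A ⧸ I) (cc f))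
      = Ideal.Quotient.mk (@maximalIdeal (MvPolynomial (Fin r) A ⧸ I) _ hloc) (Ideal.Quotient.mk I f)
    rw [eq_comm, Ideal.Quotient.eq, hmem, map_sub, hρ_mk]
    show residue A (cc f) - ρ (Ideal.Quotient.mk I (MvPolynomial.C (cc f))) = 0
    rw [hρ_mk, hccC, sub_self]
  · apply le_antisymm
    · rintro x ⟨hx1, hx2⟩
      obtain ⟨M, hM⟩ : ∃ M : Ideal (MvPolynomial (Fin r) A), M = Ideal.comap cc (maximalIdeal A) := ⟨_, rfl⟩
      have hm'M : @maximalIdeal (MvPolynomial (Fin r) A ⧸ I) _ hloc ≤ M.map (Ideal.Quotient.mk I) := by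
        intro y hy
        obtain ⟨f, rfl⟩ := Ideal.Quotient.mk_surjective y
        rw [hmem, hρ_mk, residue_eq_zero_iff] at hy
        refine Ideal.mem_map_of_mem _ ?_
        rw [hM]
        exact Ideal.mem_comap.mpr hy
      have h2 : Ideal.Quotient.mk I (MvPolynomial.C x) ∈ (M ^ 2).map (Ideal.Quotient.mk I) := by
        rw [Ideal.map_pow]
        exact Ideal.pow_right_mono hm'M 2 (Ideal.mem_comap.mp hx2)
      rw [Ideal.mem_quotient_iff_mem_sup] at h2
      have h3 : cc (MvPolynomial.C x) ∈ Ideal.map cc (M ^ 2 ⊔ I) := Ideal.mem_map_of_mem cc h2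
      rw [hccC, Ideal.map_sup, Ideal.map_pow] at h3
      have h4 : Ideal.map cc M ^ 2 ≤ ⊥ := by
        rw [← hm, hM]
        exact Ideal.pow_right_mono Ideal.map_comap_le 2
      have h5 : Ideal.map cc I = Ideal.span (Set.range fun i => c i 0) := by
        rw [hI, Ideal.map_span, ← Set.range_comp]
        congr 1
        congr 1
        funext i
        exact hccF i
      rw [h5] at h3
      exact (sup_le (h4.trans bot_le) le_rfl) h3
    · rw [Ideal.span_le]
      rintro _ ⟨i, rfl⟩
      refine ⟨hc i 0, ?_⟩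
      obtain ⟨e, he⟩ : ∃ e, d i = e + 2 := ⟨d i - 2, by have := hd i; omega⟩
      have hF0 : Ideal.Quotient.mk I (F i) = 0 :=
        Ideal.Quotient.eq_zero_iff_mem.mpr (Ideal.subset_span ⟨i, rfl⟩)
      have hexp : Ideal.Quotient.mk I (F i) = Ideal.Quotient.mk I (MvPolynomial.X i) ^ (e + 2)
          + (∑ k ∈ Finset.range (e + 1), Ideal.Quotient.mk I (MvPolynomial.C (c i (k + 1)))
                * Ideal.Quotient.mk I (MvPolynomial.X i) ^ (k + 1)
             + Ideal.Quotient.mk I (MvPolynomial.C (c i 0))) := by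
        simp only [F, map_add, map_pow, map_sum, map_mul, he]
        rw [Finset.sum_range_succ']
        simp only [pow_zero, mul_one]
      rw [hexp] at hF0
      have hval : Ideal.Quotient.mk I (MvPolynomial.C (c i 0))
          = -(Ideal.Quotient.mk I (MvPolynomial.X i) ^ (e + 2))
            - ∑ k ∈ Finset.range (e + 1), Ideal.Quotient.mk I (MvPolynomial.C (c i (k + 1)))
                * Ideal.Quotient.mk I (MvPolynomial.X i) ^ (k + 1) := by
        linear_combination hF0
      show Ideal.Quotient.mk I (MvPolynomial.C (c i 0)) ∈ @maximalIdeal (MvPolynomial (Fin r) A ⧸ I) _ hloc ^ 2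
      rw [hval]
      have hk : @maximalIdeal (MvPolynomial (Fin r) A ⧸ I) _ hloc ^ 2
          = @maximalIdeal (MvPolynomial (Fin r) A ⧸ I) _ hloc * @maximalIdeal (MvPolynomial (Fin r) A ⧸ I) _ hloc := pow_two _
      refine Ideal.sub_mem _ (neg_mem ?_) (Ideal.sum_mem _ fun k _ => ?_)
      · rw [pow_add]
        exact Ideal.mul_mem_left _ _ (Ideal.pow_mem_pow (hXm i) 2)
      · rw [pow_succ' (Ideal.Quotient.mk I (MvPolynomial.X i)) k, ← mul_assoc]
        refine Ideal.mul_mem_right _ _ ?_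
        rw [hk]
        exact Ideal.mul_mem_mul (hcm _ (hc i (k + 1))) (hXm i)

end Groth.Agent.S4604
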