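import Groth.Statements.S4605
import Groth.Agent.H44.PBasis
import Mathlib.RingTheory.Polynomial.Basic
import Mathlib.RingTheory.LocalRing.ResidueField.Basic
import Mathlib.RingTheory.Nilpotent.Basic

set_option autoImplicit false
universe u
open IsLocalRing
open EGA41

namespace Groth.Agent.S4605

open MvPolynomial Groth.Agent.H44.PBasis in
/-- `K[T_i]/(T_i^p - a_i)` is a "field" when the `a_i` are `p`-independent over `K^p`. -/
theorem quot_field (p : ℕ) [Fact p.Prime] {K : Type u} [Field K] [CharP K p] {ι : Type u}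
    (a : ι → K)
    (hind : LinearIndependent (↥(frobenius K p).fieldRange)
      (fun e : {e : ι →₀ ℕ // ∀ i, e i < p} => EGA41.pMonomial a e.1)) :
    Nontrivial (MvPolynomial ι K ⧸ relIdeal p a) ∧
      ∀ b : MvPolynomial ι K ⧸ relIdeal p a, b = 0 ∨ IsUnit b := by
  classical
  have hp : p.Prime := Fact.out
  -- the "Frobenius evaluation"
  let φ : MvPolynomial ι K →+* K := eval₂Hom (frobenius K p) a
  have hφJ : ∀ q ∈ relIdeal p a, φ q = 0 := by
    intro q hq
    have hle : relIdeal p a ≤ RingHom.ker φ := by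
      unfold relIdeal
      refine Ideal.span_le.mpr ?_
      rintro _ ⟨i, rfl⟩
      rw [SetLike.mem_coe, RingHom.mem_ker]
      simp [φ, frobenius_def]
    exact (RingHom.mem_ker).mp (hle hq)
  let φbar : (MvPolynomial ι K ⧸ relIdeal p a) →+* K := Ideal.Quotient.lift (relIdeal p a) φ hφJ
  have hφbar : ∀ q, φbar (Ideal.Quotient.mk _ q) = φ q := fun q => Ideal.Quotient.lift_mk _ _ _
  haveI hnt : Nontrivial (MvPolynomial ι K ⧸ relIdeal p a) := φbar.domain_nontrivial
  refine ⟨hnt, ?_⟩
  have hpB : (p : MvPolynomial ι K ⧸ relIdeal p a) = 0 := by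
    rw [← map_natCast (algebraMap K (MvPolynomial ι K ⧸ relIdeal p a)), CharP.cast_eq_zero K p,
      map_zero]
  -- `b ^ p = φbar b`
  have hpow : ∀ q : MvPolynomial ι K,
      (Ideal.Quotient.mk (relIdeal p a) q) ^ p = Ideal.Quotient.mk (relIdeal p a) (C (φ q)) := by
    intro q
    induction q using MvPolynomial.induction_on with
    | C c =>
      rw [← map_pow, ← map_pow]
      simp [φ, frobenius_def]
    | add q₁ q₂ h₁ h₂ =>
      rw [map_add, add_pow_prime_eq' hp, hpB, zero_mul, add_zero, h₁, h₂, map_add, map_add, map_add]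
    | mul_X q i h =>
      have hX : (Ideal.Quotient.mk (relIdeal p a) (X i)) ^ p =
          Ideal.Quotient.mk (relIdeal p a) (C (a i)) := by
        rw [← map_pow]
        apply Ideal.Quotient.eq.mpr
        exact Ideal.subset_span ⟨i, rfl⟩
      rw [map_mul, mul_pow, h, hX, map_mul φ, map_mul C, map_mul]
      simp [φ]
  intro b
  obtain ⟨q, rfl⟩ := Ideal.Quotient.mk_surjective b
  by_cases h0 : φ q = 0
  · left
    obtain ⟨r, hr, hqr⟩ := isRedMod_all hp.pos a q
    have hbr : Ideal.Quotient.mk (relIdeal p a) q = Ideal.Quotient.mk (relIdeal p a) r :=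
      Ideal.Quotient.eq.mpr hqr
    have hφr : φ r = 0 := by
      rw [← hφbar, ← hbr, hφbar, h0]
    -- expand
    have hsum : ∑ e ∈ r.support, (coeff e r) ^ p * EGA41.pMonomial a e = 0 := by
      have := hφr
      simp only [φ, coe_eval₂Hom, eval₂_eq, frobenius_def] at this
      exact this
    -- linear independence
    rw [linearIndependent_iff'] at hind
    have hcoef : ∀ e ∈ r.support, coeff e r = 0 := by
      intro e he
      have hsub := hind (r.support.subtype fun e => ∀ i, e i < p)
        (fun e => ⟨(coeff e.1 r) ^ p, ⟨coeff e.1 r, rfl⟩⟩) (by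
          have h1 : ∑ e ∈ r.support.subtype fun e => ∀ i, e i < p,
              (fun e : ι →₀ ℕ => (coeff e r) ^ p * EGA41.pMonomial a e) e.1 = 0 := by
            exact (Finset.sum_subtype_of_mem
              (fun e : ι →₀ ℕ => (coeff e r) ^ p * EGA41.pMonomial a e) hr).trans hsum
          exact h1) ⟨e, hr e he⟩ (by
          rw [Finset.mem_subtype]
          exact he)
      have h2 : (coeff e r) ^ p = 0 := congrArg Subtype.val hsub
      exact (pow_eq_zero_iff hp.ne_zero).mp h2
    have hr0 : r = 0 := by
      ext e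
      by_cases he : e ∈ r.support
      · rw [hcoef e he, coeff_zero]
      · rw [notMem_support_iff.mp he, coeff_zero]
    rw [hbr, hr0, map_zero]
  · right
    have h1 : IsUnit ((Ideal.Quotient.mk (relIdeal p a) q) ^ p) := by
      rw [hpow]
      exact (IsUnit.mk0 _ h0).map ((Ideal.Quotient.mk (relIdeal p a)).comp C)
    exact (isUnit_pow_iff hp.ne_zero).mp h1


/-- Let A be a local ring with maximal ideal m of square zero and residue field K of characteristic p >
0, F_i(T_i) = T_i^p + p Σ_{k=1}^{p-1} c_{ik} T_i^{p-k} − f_i (i in a finite index set) with c_{ik},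
f_i ∈ A, and suppose the residues of the f_i in K are p-independent over K^p. Then A' = A[T_i]/(F_i)
is local with maximal ideal m A'. (The identification of the residue field with K(a_i^{1/p}) is not
restated.) -/
theorem result {A : Type u} [CommRing A]
    [IsLocalRing A] (hm : maximalIdeal A ^ 2 = ⊥) (p : ℕ) [Fact p.Prime] [CharP (ResidueField A) p]
    {ι : Type u} [Finite ι] (c : ι → Fin p → A) (f : ι → A)
    (hind : LinearIndependent (↥(frobenius (ResidueField A) p).fieldRange)
      (fun e : {e : ι →₀ ℕ // ∀ i, e i < p} => EGA41.pMonomial (fun i => residue A (f i)) e.1)) :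
    let F : ι → MvPolynomial ι A := fun i =>
      MvPolynomial.X i ^ p + (p : MvPolynomial ι A) * (Finset.univ.sum fun j : Fin p =>
        if (j : ℕ) = 0 then 0 else MvPolynomial.C (c i j) * MvPolynomial.X i ^ (p - (j : ℕ))) - MvPolynomial.C (f i)
    ∃ _ : IsLocalRing (MvPolynomial ι A ⧸ Ideal.span (Set.range F)),
      maximalIdeal (MvPolynomial ι A ⧸ Ideal.span (Set.range F)) =
        (maximalIdeal A).map (algebraMap A (MvPolynomial ι A ⧸ Ideal.span (Set.range F))) := by
  classical
  intro F
  have hp : p.Prime := Fact.out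
  -- notation
  set a : ι → ResidueField A := fun i => residue A (f i) with ha
  obtain ⟨hnt, hfield⟩ := quot_field p a hind
  -- the map to the residue quotient
  have hp0 : (p : MvPolynomial ι (ResidueField A)) = 0 := by
    rw [← map_natCast (MvPolynomial.C : ResidueField A →+* MvPolynomial ι (ResidueField A)),
      CharP.cast_eq_zero (ResidueField A) p, map_zero]
  have hρF : ∀ i, MvPolynomial.map (residue A) (F i) =
      MvPolynomial.X i ^ p - MvPolynomial.C (a i) := by
    intro i
    simp only [F, map_sub, map_add, map_mul, map_pow, MvPolynomial.map_X, MvPolynomial.map_C,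
      map_natCast]
    rw [hp0, zero_mul, add_zero]
  let ψ₀ : MvPolynomial ι A →+* (MvPolynomial ι (ResidueField A) ⧸ Groth.Agent.H44.PBasis.relIdeal p a) :=
    (Ideal.Quotient.mk _).comp (MvPolynomial.map (residue A))
  have hψ₀I : ∀ q ∈ Ideal.span (Set.range F), ψ₀ q = 0 := by
    intro q hq
    have hle : Ideal.span (Set.range F) ≤ RingHom.ker ψ₀ := by
      refine Ideal.span_le.mpr ?_
      rintro _ ⟨i, rfl⟩
      rw [SetLike.mem_coe, RingHom.mem_ker]
      show Ideal.Quotient.mk _ (MvPolynomial.map (residue A) (F i)) = 0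
      rw [hρF, Ideal.Quotient.eq_zero_iff_mem]
      exact Ideal.subset_span ⟨i, rfl⟩
    exact (RingHom.mem_ker).mp (hle hq)
  let ψ : (MvPolynomial ι A ⧸ Ideal.span (Set.range F)) →+*
      (MvPolynomial ι (ResidueField A) ⧸ Groth.Agent.H44.PBasis.relIdeal p a) :=
    Ideal.Quotient.lift _ ψ₀ hψ₀I
  have hψmk : ∀ q, ψ (Ideal.Quotient.mk _ q) = ψ₀ q := fun q => Ideal.Quotient.lift_mk _ _ _
  have hψsurj : Function.Surjective ψ := by
    intro b
    obtain ⟨q, rfl⟩ := Ideal.Quotient.mk_surjective b
    obtain ⟨q', rfl⟩ := MvPolynomial.map_surjective (residue A) residue_surjective q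
    exact ⟨Ideal.Quotient.mk _ q', hψmk q'⟩
  -- the algebra map
  have halg : algebraMap A (MvPolynomial ι A ⧸ Ideal.span (Set.range F)) =
      (Ideal.Quotient.mk (Ideal.span (Set.range F))).comp MvPolynomial.C := by
    rw [IsScalarTower.algebraMap_eq A (MvPolynomial ι A), Ideal.Quotient.algebraMap_eq,
      MvPolynomial.algebraMap_eq]
  -- kernel of ψ
  have hker : RingHom.ker ψ =
      (maximalIdeal A).map (algebraMap A (MvPolynomial ι A ⧸ Ideal.span (Set.range F))) := by
    apply le_antisymm
    · intro x hx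
      obtain ⟨q, rfl⟩ := Ideal.Quotient.mk_surjective x
      rw [RingHom.mem_ker, hψmk] at hx
      have hq : MvPolynomial.map (residue A) q ∈ Groth.Agent.H44.PBasis.relIdeal p a :=
        Ideal.Quotient.eq_zero_iff_mem.mp hx
      have hJ : Groth.Agent.H44.PBasis.relIdeal p a =
          (Ideal.span (Set.range F)).map (MvPolynomial.map (residue A)) := by
        unfold Groth.Agent.H44.PBasis.relIdeal
        rw [Ideal.map_span, ← Set.range_comp]
        congr 2
        funext i
        exact (hρF i).symm
      rw [hJ] at hq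
      obtain ⟨q', hq'I, hq'⟩ := (Ideal.mem_map_iff_of_surjective _
        (MvPolynomial.map_surjective (residue A) residue_surjective)).mp hq
      have hdiff : q - q' ∈ Ideal.map (MvPolynomial.C : A →+* MvPolynomial ι A) (maximalIdeal A) := by
        rw [← ker_residue, ← MvPolynomial.ker_map, RingHom.mem_ker, map_sub, hq', sub_self]
      have hmk : Ideal.Quotient.mk (Ideal.span (Set.range F)) q =
          Ideal.Quotient.mk (Ideal.span (Set.range F)) (q - q') := by
        rw [map_sub, Ideal.Quotient.eq_zero_iff_mem.mpr hq'I, sub_zero]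
      rw [hmk, halg, ← Ideal.map_map]
      exact Ideal.mem_map_of_mem _ hdiff
    · rw [Ideal.map_le_iff_le_comap]
      intro x hx
      rw [Ideal.mem_comap, RingHom.mem_ker, halg]
      show ψ (Ideal.Quotient.mk _ (MvPolynomial.C x)) = 0
      rw [hψmk]
      show Ideal.Quotient.mk _ (MvPolynomial.map (residue A) (MvPolynomial.C x)) = 0
      rw [MvPolynomial.map_C, (residue_eq_zero_iff x).mpr hx, map_zero, map_zero]
  have hker2 : RingHom.ker ψ ^ 2 = ⊥ := by
    rw [hker, ← Ideal.map_pow, hm, Ideal.map_bot]
  have hnil : ∀ x ∈ RingHom.ker ψ, IsNilpotent x := fun x hx => ⟨2, by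
    have := Ideal.pow_mem_pow hx 2
    rwa [hker2, Ideal.mem_bot] at this⟩
  haveI : Nontrivial (MvPolynomial ι A ⧸ Ideal.span (Set.range F)) := ψ.domain_nontrivial
  have hunit : ∀ x : MvPolynomial ι A ⧸ Ideal.span (Set.range F), IsUnit x ↔ ψ x ≠ 0 := by
    intro x
    constructor
    · intro hx h0
      exact (hx.map ψ).ne_zero h0
    · intro hx
      have hu : IsUnit (ψ x) := (hfield (ψ x)).resolve_left hx
      obtain ⟨y', hy'⟩ := hu.exists_right_inv
      obtain ⟨y, rfl⟩ := hψsurj y'
      have hmem : x * y - 1 ∈ RingHom.ker ψ := by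
        rw [RingHom.mem_ker, map_sub, map_mul, hy', map_one, sub_self]
      have h1 : IsUnit (x * y) := by
        have := (hnil _ hmem).isUnit_one_add
        rwa [add_sub_cancel] at this
      exact isUnit_of_mul_isUnit_left h1
  have hloc : IsLocalRing (MvPolynomial ι A ⧸ Ideal.span (Set.range F)) := by
    apply IsLocalRing.of_nonunits_add
    intro x y hx hy
    rw [mem_nonunits_iff, hunit, not_not] at hx hy ⊢
    rw [map_add, hx, hy, add_zero]
  refine ⟨hloc, ?_⟩
  rw [← hker]
  ext x
  rw [mem_maximalIdeal, mem_nonunits_iff, hunit, not_not, RingHom.mem_ker]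

end Groth.Agent.S4605
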