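import Groth.Statements.S4606
import Groth.Agent.H14.AdicSmooth
import Groth.Agent.S2463

set_option autoImplicit false
universe u
open TensorProduct KaehlerDifferential IsLocalRing
open EGA41

namespace Groth.Agent.S4606


open Groth.Agent.H14


/-- Let B be a Noetherian A-algebra formally smooth for the discrete topologies, B → C a surjection with
kernel J, p a prime of C and q its contraction to A. Then C_p is formally smooth over A_q (A_q
discrete, C_p with the adic topology of its maximal ideal) if and only if κ(p) ⊗ J/J² → κ(p) ⊗ (C
⊗_B Ω_{B/A}) is injective. (The equivalent variant with the q-adic topology on A_q is not stated.) -/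
theorem result {A B C : Type u} [CommRing A]
    [CommRing B] [CommRing C] [Algebra A B] [Algebra B C] [Algebra A C] [IsScalarTower A B C] [IsNoetherianRing B]
    [Algebra.FormallySmooth A B] (hsurj : Function.Surjective (algebraMap B C)) (p : Ideal C) [p.IsPrime]
    [Algebra (Localization.AtPrime (p.comap (algebraMap A C))) (Localization.AtPrime p)]
    [IsScalarTower A (Localization.AtPrime (p.comap (algebraMap A C))) (Localization.AtPrime p)] :
    CAlgX.IsAdicFormallySmooth (Localization.AtPrime (p.comap (algebraMap A C))) (Localization.AtPrime p)
        (maximalIdeal (Localization.AtPrime p)) ↔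
      Function.Injective ((kerCotangentToTensor A B C).lTensor p.ResidueField) := by
  haveI : Module.Finite B (RingHom.ker (algebraMap B C)).Cotangent :=
    Module.Finite.of_surjective _ (Ideal.toCotangent_surjective _)
  have tfae := Groth.Agent.S2463.result (A := A) hsurj p
  constructor
  · intro h
    have h' := isAdicFormallySmooth_of_isLocalization (A := A)
      (p.comap (algebraMap A C)).primeCompl _ h
    have := formallySmooth_localization_of_isAdicFormallySmooth hsurj p h'
    exact (tfae.out 0 1).mp this
  · intro h
    haveI : Algebra.FormallySmooth A (Localization.AtPrime p) := (tfae.out 0 1).mpr h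
    haveI : Algebra.FormallyEtale A (Localization.AtPrime (p.comap (algebraMap A C))) :=
      Algebra.FormallyEtale.of_isLocalization (p.comap (algebraMap A C)).primeCompl
    haveI : Algebra.FormallySmooth (Localization.AtPrime (p.comap (algebraMap A C)))
        (Localization.AtPrime p) :=
      Algebra.FormallySmooth.of_restrictScalars A _ _
    exact isAdicFormallySmooth_of_formallySmooth _

end Groth.Agent.S4606
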