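import Groth.Statements.S4610
import Mathlib

set_option autoImplicit false
universe u
open EGA41

namespace Groth.Agent.S4610

open scoped TensorProduct
open MvPolynomial

section aux

variable {A : Type u} [CommRing A] {r : ℕ} (F : Fin r → Polynomial A)

/-- the ideal -/
noncomputable abbrev II : Ideal (MvPolynomial (Fin r) A) :=
  Ideal.span (Set.range fun i => Polynomial.aeval (MvPolynomial.X i : MvPolynomial (Fin r) A) (F i))

noncomputable def phi : MvPolynomial (Fin r) A →ₐ[A] (⨂[A] i, AdjoinRoot (F i)) :=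
  MvPolynomial.aeval (fun i => PiTensorProduct.singleAlgHom i (AdjoinRoot.root (F i)))

theorem phi_X (i : Fin r) :
    phi F (X i) = PiTensorProduct.singleAlgHom i (AdjoinRoot.root (F i)) := by
  simp [phi]

theorem phi_zero (a : MvPolynomial (Fin r) A) (ha : a ∈ II F) : phi F a = 0 := by
  have hle : II F ≤ RingHom.ker (phi F) := by
    apply Ideal.span_le.mpr
    rintro _ ⟨i, rfl⟩
    rw [SetLike.mem_coe, RingHom.mem_ker]
    change phi F (Polynomial.aeval (X i) (F i)) = 0
    rw [← Polynomial.aeval_algHom_apply, phi_X, Polynomial.aeval_algHom_apply,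
      AdjoinRoot.aeval_eq, AdjoinRoot.mk_self, map_zero]
  exact (RingHom.mem_ker).mp (hle ha)

noncomputable def phibar :
    (MvPolynomial (Fin r) A ⧸ II F) →ₐ[A] (⨂[A] i, AdjoinRoot (F i)) :=
  Ideal.Quotient.liftₐ (II F) (phi F) (phi_zero F)

theorem phibar_mk (a : MvPolynomial (Fin r) A) :
    phibar F (Ideal.Quotient.mk (II F) a) = phi F a := rfl

theorem g_aux (i : Fin r) :
    (F i).eval₂ ((Algebra.ofId A (MvPolynomial (Fin r) A ⧸ II F) :
        A →ₐ[A] (MvPolynomial (Fin r) A ⧸ II F)) : A →+* (MvPolynomial (Fin r) A ⧸ II F))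
      (Ideal.Quotient.mk (II F) (X i)) = 0 := by
  rw [Algebra.toRingHom_ofId, ← Polynomial.aeval_def]
  have h1 : Polynomial.aeval (Ideal.Quotient.mk (II F) (X i)) (F i)
      = Ideal.Quotient.mkₐ A (II F) (Polynomial.aeval (X i) (F i)) :=
    Polynomial.aeval_algHom_apply (Ideal.Quotient.mkₐ A (II F)) (X i) (F i)
  rw [h1]
  exact (Ideal.Quotient.eq_zero_iff_mem).mpr (Ideal.subset_span ⟨i, rfl⟩)

noncomputable def g (i : Fin r) : AdjoinRoot (F i) →ₐ[A] (MvPolynomial (Fin r) A ⧸ II F) :=
  AdjoinRoot.liftAlgHom (F i) (Algebra.ofId A _) (Ideal.Quotient.mk (II F) (X i)) (g_aux F i)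

theorem g_root (i : Fin r) : g F i (AdjoinRoot.root (F i)) = Ideal.Quotient.mk (II F) (X i) := by
  simp [g]

noncomputable def mm :
    MultilinearMap A (fun i => AdjoinRoot (F i)) (MvPolynomial (Fin r) A ⧸ II F) :=
  (MultilinearMap.mkPiAlgebra A (Fin r) (MvPolynomial (Fin r) A ⧸ II F)).compLinearMap
      (fun i => (g F i).toLinearMap)

theorem mm_apply (x : ∀ i, AdjoinRoot (F i)) : mm F x = ∏ i, g F i (x i) := by
  simp [mm, MultilinearMap.compLinearMap_apply, MultilinearMap.mkPiAlgebra_apply]

theorem mm_one : mm F 1 = 1 := by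
  rw [mm_apply]
  simp

theorem mm_mul (x y : ∀ i, AdjoinRoot (F i)) : mm F (x * y) = mm F x * mm F y := by
  rw [mm_apply, mm_apply, mm_apply, ← Finset.prod_mul_distrib]
  apply Finset.prod_congr rfl
  intro i _
  rw [Pi.mul_apply, map_mul]

noncomputable def psi :
    (⨂[A] i, AdjoinRoot (F i)) →ₐ[A] (MvPolynomial (Fin r) A ⧸ II F) :=
  PiTensorProduct.liftAlgHom (mm F) (mm_one F) (mm_mul F)

theorem psi_single (i : Fin r) (a : AdjoinRoot (F i)) :
    psi F (PiTensorProduct.singleAlgHom i a) = g F i a := by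
  rw [psi, PiTensorProduct.liftAlgHom_apply, PiTensorProduct.singleAlgHom_apply,
    PiTensorProduct.lift.tprod, mm_apply]
  rw [Fintype.prod_eq_single i]
  · simp
  · intro j hj
    simp [Pi.mulSingle_eq_of_ne hj]

theorem phibar_psi : (phibar F).comp (psi F) = AlgHom.id A _ := by
  apply PiTensorProduct.algHom_ext
  intro i
  apply AdjoinRoot.algHom_ext
  simp only [AlgHom.comp_apply, AlgHom.id_apply]
  rw [psi_single, g_root, phibar_mk, phi_X]

theorem psi_phibar : (psi F).comp (phibar F) = AlgHom.id A _ := by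
  apply Ideal.Quotient.algHom_ext A
  apply MvPolynomial.algHom_ext
  intro i
  simp only [AlgHom.comp_apply, AlgHom.id_apply, Ideal.Quotient.mkₐ_eq_mk]
  rw [phibar_mk, phi_X, psi_single, g_root]

noncomputable def eqv :
    (MvPolynomial (Fin r) A ⧸ II F) ≃ₐ[A] (⨂[A] i, AdjoinRoot (F i)) :=
  AlgEquiv.ofAlgHom (phibar F) (psi F) (phibar_psi F) (psi_phibar F)

end aux


/-- Let A be a nonzero ring and F_1, …, F_r monic one-variable polynomials of degrees d_1, …, d_r; then
A[T_1, …, T_r]/(F_1(T_1), …, F_r(T_r)) is a free A-module of rank ∏ d_i. (The published statement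
assumes A local with maximal ideal of square zero and A' local, which this assertion does not use;
its bound [K' : K] ≤ d and part (ii) are not stated.) -/
theorem result {A : Type u} [CommRing A] [Nontrivial A]
    {r : ℕ} (F : Fin r → Polynomial A) (hF : ∀ i, (F i).Monic) :
    Module.Free A (MvPolynomial (Fin r) A ⧸ Ideal.span (Set.range fun i => Polynomial.aeval (MvPolynomial.X i : MvPolynomial (Fin r) A) (F i))) ∧
      Module.finrank A (MvPolynomial (Fin r) A ⧸ Ideal.span (Set.range fun i => Polynomial.aeval (MvPolynomial.X i : MvPolynomial (Fin r) A) (F i))) =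
        Finset.univ.prod fun i => (F i).natDegree := by
  classical
  let b := Basis.piTensorProduct (fun i => (AdjoinRoot.powerBasis' (hF i)).basis)
  have hfreeE : Module.Free A (⨂[A] i, AdjoinRoot (F i)) := Module.Free.of_basis b
  have e := eqv F
  refine ⟨Module.Free.of_equiv e.symm.toLinearEquiv, ?_⟩
  rw [LinearEquiv.finrank_eq e.toLinearEquiv, Module.finrank_eq_card_basis b, Fintype.card_pi]
  apply Finset.prod_congr rfl
  intro i _
  rw [Fintype.card_fin, AdjoinRoot.powerBasis'_dim]

end Groth.Agent.S4610
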