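import Groth.Statements.S4611
-- import your own Groth.Agent.* helpers here
import Mathlib.RingTheory.EssentialFiniteness

set_option autoImplicit false
universe u
open EGA41

namespace Groth.Agent.S4611

/-- A local algebra essentially of finite type over a ring A is A-isomorphic to a quotient of a
localization A[T_1, …, T_n]_q of a polynomial algebra at a prime ideal q; stated as the existence of
a surjective A-algebra map from such a localization. -/
theorem result {A B : Type u} [CommRing A]
    [CommRing B] [IsLocalRing B] [Algebra A B] [Algebra.EssFiniteType A B] :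
    ∃ (n : ℕ) (q : Ideal (MvPolynomial (Fin n) A)) (_ : q.IsPrime)
      (φ : Localization.AtPrime q →ₐ[A] B), Function.Surjective φ := by
  classical
  obtain ⟨σ, hσ⟩ := (Algebra.essFiniteType_iff A B).mp inferInstance
  obtain ⟨f, hrange⟩ : ∃ f : Fin σ.card → B, Set.range f = (σ : Set B) := by
    refine ⟨fun i => (σ.equivFin.symm i : B), ?_⟩
    ext b
    constructor
    · rintro ⟨i, rfl⟩; exact (σ.equivFin.symm i).2
    · intro hb; exact ⟨σ.equivFin ⟨b, hb⟩, by simp⟩
  have hφ₀ : ∀ b ∈ Algebra.adjoin A (σ : Set B),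
      ∃ P : MvPolynomial (Fin σ.card) A, MvPolynomial.aeval f P = b := by
    intro b hb
    rw [← hrange, Algebra.adjoin_range_eq_range_aeval] at hb
    exact hb
  have hq : ((IsLocalRing.maximalIdeal B).comap
      (MvPolynomial.aeval f : MvPolynomial (Fin σ.card) A →ₐ[A] B).toRingHom).IsPrime :=
    Ideal.comap_isPrime _ _
  have hunit : ∀ y : ((IsLocalRing.maximalIdeal B).comap
      (MvPolynomial.aeval f : MvPolynomial (Fin σ.card) A →ₐ[A] B).toRingHom).primeCompl,
      IsUnit ((MvPolynomial.aeval f : MvPolynomial (Fin σ.card) A →ₐ[A] B) y) := by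
    intro y
    have hy := y.2
    by_contra hnu
    exact hy ((IsLocalRing.mem_maximalIdeal _).mpr hnu)
  refine ⟨σ.card, _, hq, IsLocalization.liftAlgHom (M := ((IsLocalRing.maximalIdeal B).comap
      (MvPolynomial.aeval f : MvPolynomial (Fin σ.card) A →ₐ[A] B).toRingHom).primeCompl)
      (f := (MvPolynomial.aeval f : MvPolynomial (Fin σ.card) A →ₐ[A] B)) hunit, ?_⟩
  intro b
  obtain ⟨t, ht, htu, hbt⟩ := hσ b
  obtain ⟨t', rfl⟩ := hφ₀ t ht
  obtain ⟨x', hx'⟩ := hφ₀ _ hbt
  have ht'q : t' ∈ ((IsLocalRing.maximalIdeal B).comap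
      (MvPolynomial.aeval f : MvPolynomial (Fin σ.card) A →ₐ[A] B).toRingHom).primeCompl := by
    intro hmem
    exact (IsLocalRing.mem_maximalIdeal _).mp hmem htu
  refine ⟨IsLocalization.mk' _ x' ⟨t', ht'q⟩, ?_⟩
  apply htu.mul_right_cancel
  rw [← hx', IsLocalization.liftAlgHom_apply]
  have h1 : (MvPolynomial.aeval f : MvPolynomial (Fin σ.card) A →ₐ[A] B) t' =
      IsLocalization.lift (M := ((IsLocalRing.maximalIdeal B).comap
      (MvPolynomial.aeval f : MvPolynomial (Fin σ.card) A →ₐ[A] B).toRingHom).primeCompl)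
      (S := Localization.AtPrime ((IsLocalRing.maximalIdeal B).comap
      (MvPolynomial.aeval f : MvPolynomial (Fin σ.card) A →ₐ[A] B).toRingHom)) hunit
      (algebraMap _ _ t') := (IsLocalization.lift_eq hunit t').symm
  rw [h1, ← map_mul]
  have h2 := IsLocalization.mk'_spec (Localization.AtPrime ((IsLocalRing.maximalIdeal B).comap
      (MvPolynomial.aeval f : MvPolynomial (Fin σ.card) A →ₐ[A] B).toRingHom)) x' ⟨t', ht'q⟩
  rw [h2, IsLocalization.lift_eq]
  rfl

end Groth.Agent.S4611
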