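import Groth.Statements.S4613
-- import your own Groth.Agent.* helpers here

set_option autoImplicit false
universe u
open AlgebraicGeometry CategoryTheory
open EGA41

namespace Groth.Agent.S4613

/-- For a closed immersion j : X → Y: j is locally of finite presentation if and only if its ideal sheaf
is of finite type, i.e. for every affine open U of Y the kernel of Γ(U, O_Y) → Γ(j⁻¹U, O_X) is
finitely generated. (An immersion with image closed in an open U reduces to this case.) -/
theorem result {X Y : Scheme.{u}} (j : X ⟶ Y)
    [IsClosedImmersion j] :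
    LocallyOfFinitePresentation j ↔ ∀ U : Y.affineOpens, (RingHom.ker (j.app U).hom).FG := by
  constructor
  · intro h U
    have hU' : IsAffineOpen (j ⁻¹ᵁ U.1) := U.2.preimage j
    have h1 : (j.appLE U.1 (j ⁻¹ᵁ U.1) le_rfl).hom.FinitePresentation :=
      HasRingHomProperty.appLE (P := @LocallyOfFinitePresentation) j h U ⟨_, hU'⟩ le_rfl
    rw [← Scheme.Hom.app_eq_appLE] at h1
    have hs : Function.Surjective (j.app U.1).hom := j.app_surjective U.1 U.2
    algebraize [(j.app U.1).hom]
    have := Algebra.FinitePresentation.ker_fG_of_surjective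
      (Algebra.ofId Γ(Y, U.1) Γ(X, j ⁻¹ᵁ U.1)) hs
    exact this
  · intro h
    rw [HasRingHomProperty.iff_exists_appLE (P := @LocallyOfFinitePresentation)
      (RingHom.finitePresentation_stableUnderComposition.stableUnderCompositionWithLocalizationAway
        RingHom.finitePresentation_holdsForLocalizationAway).1]
    intro x
    obtain ⟨U, hU, hxU, -⟩ :=
      exists_isAffineOpen_mem_and_subset (x := j x) (U := ⊤) trivial
    refine ⟨⟨U, hU⟩, ⟨j ⁻¹ᵁ U, hU.preimage j⟩, hxU, le_rfl, ?_⟩
    rw [← Scheme.Hom.app_eq_appLE]
    exact RingHom.FinitePresentation.of_surjective _ (j.app_surjective U hU) (h ⟨U, hU⟩)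

end Groth.Agent.S4613
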