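import Groth.Statements.S4617
import Groth.Agent.H37.FieldCompositum
open CategoryTheory.Limits Groth.Agent.H37

set_option autoImplicit false
open CategoryTheory AlgebraicGeometry
universe u
open FBase

namespace Groth.Agent.S4617

/-- Let X be a scheme over a field k, K any extension field of k and Ω an algebraically closed extension
field of k. Then the set of irreducible components of X ⊗_k K has cardinality at most that of the
set of irreducible components of X ⊗_k Ω. In particular the cardinality of the set of irreducible
components of X ⊗_k Ω does not depend on the algebraically closed extension Ω. -/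
theorem result {k K Ω : Type u} [Field k] [Field K] [Algebra k K]
    [Field Ω] [Algebra k Ω] [IsAlgClosed Ω] {X : Scheme.{u}} (f : X ⟶ Spec (CommRingCat.of k)) :
    Cardinal.mk ↥(irreducibleComponents ↥(FBase.bc f K)) ≤ Cardinal.mk ↥(irreducibleComponents ↥(FBase.bc f Ω)) := by
  obtain ⟨L, _, a, b, hab⟩ := exists_compositum k K Ω
  have hq : Spec.map (CommRingCat.ofHom a) ≫ Spec.map (CommRingCat.ofHom (algebraMap k K)) =
      Spec.map (CommRingCat.ofHom b) ≫ Spec.map (CommRingCat.ofHom (algebraMap k Ω)) := by
    rw [← Spec.map_comp, ← Spec.map_comp, ← CommRingCat.ofHom_comp, ← CommRingCat.ofHom_comp, hab]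
  haveI : Surjective (Spec.map (CommRingCat.ofHom a)) := by
    letI := a.toAlgebra
    exact surjective_specMap_field (k := K) (K := L)
  obtain ⟨W, pK, pΩ, wL, hpK, sq⟩ := exists_common_pullback f _ _ _ _ hq
  haveI := hpK
  letI := b.toAlgebra
  have hb2 : UniversallyOpen (Spec.map (CommRingCat.ofHom b)) :=
    univOpen_specMap_field (k := Ω) (K := L)
  haveI : UniversallyOpen pΩ :=
    MorphismProperty.of_isPullback (P := @UniversallyOpen) sq.flip hb2
  have hb1 : GeometricallyIrreducible (Spec.map (CommRingCat.ofHom b)) :=
    geomIrr_specMap_of_isSepClosed (k := Ω) (K := L)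
  haveI : GeometricallyIrreducible pΩ :=
    MorphismProperty.of_isPullback (P := @GeometricallyIrreducible) sq.flip hb1
  have e := pΩ.irreducibleComponentsEquiv pΩ.isOpenMap
  calc Cardinal.mk ↥(irreducibleComponents ↥(FBase.bc f K))
      ≤ Cardinal.mk ↥(irreducibleComponents ↥W) :=
        mk_irreducibleComponents_le_of_surjective pK.continuous pK.surjective
    _ = Cardinal.mk ↥(irreducibleComponents ↥(FBase.bc f Ω)) := Cardinal.mk_congr e

end Groth.Agent.S4617
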