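import Groth.Statements.S4621
import Groth.Agent.H37.ConnDescent
open CategoryTheory.Limits Groth.Agent.H37

set_option autoImplicit false
open CategoryTheory AlgebraicGeometry
universe u
open FBase

namespace Groth.Agent.S4621

/-- Let h : Y → X be a morphism of schemes over a field k, with Y nonempty and geometrically connected
over k. Then the connected component of X containing the (connected) image h(Y) is geometrically
connected: for every extension field K of k, the inverse image in X ⊗_k K of the connected component
of h(y), for a point y of Y, is connected. -/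
theorem result {k K : Type u} [Field k] [Field K] [Algebra k K]
    {X Y : Scheme.{u}} (f : X ⟶ Spec (CommRingCat.of k)) (g : Y ⟶ Spec (CommRingCat.of k)) (h : Y ⟶ X) (w : h ≫ f = g)
    [GeometricallyConnected g] (y : Y) :
    _root_.IsConnected (⇑(FBase.bcπ f K) ⁻¹' connectedComponent (h y)) := by
  subst w
  haveI : Nonempty ↥(Spec (CommRingCat.of k)) := (inferInstance : Nonempty (PrimeSpectrum k))
  haveI : Subsingleton ↥(Spec (CommRingCat.of k)) :=
    (inferInstance : Subsingleton (PrimeSpectrum k))
  haveI hYconn : ConnectedSpace Y :=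
    GeometricallyConnected.connectedSpace_of_subsingleton (f := h ≫ f)
  have hYC : ∀ y' : Y, h y' ∈ connectedComponent (h y) := fun y' =>
    (isPreconnected_range h.continuous).subset_connectedComponent ⟨y, rfl⟩ ⟨y', rfl⟩
  obtain ⟨q, hq⟩ : ∃ q : Spec (CommRingCat.of (AlgebraicClosure k)) ⟶ Spec (CommRingCat.of k),
      q = Spec.map (CommRingCat.ofHom (algebraMap k (AlgebraicClosure k))) := ⟨_, rfl⟩
  have hYc : ConnectedSpace ↑(pullback (h ≫ f) q) :=
    pullback_of_geometrically
      (GeometricallyConnected.geometrically_connectedSpace (f := h ≫ f)) _ q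
  have hw : (pullback.fst (h ≫ f) q ≫ h) ≫ f = pullback.snd (h ≫ f) q ≫ q := by
    rw [Category.assoc]; exact pullback.condition
  obtain ⟨gk, hgk⟩ : ∃ gk : pullback (h ≫ f) q ⟶ pullback f q,
      gk = pullback.lift (pullback.fst (h ≫ f) q ≫ h) (pullback.snd (h ≫ f) q) hw := ⟨_, rfl⟩
  have hgk1 : gk ≫ pullback.fst f q = pullback.fst (h ≫ f) q ≫ h := by
    rw [hgk]; exact pullback.lift_fst _ _ _
  have hgk2 : gk ≫ pullback.snd f q = pullback.snd (h ≫ f) q := by
    rw [hgk]; exact pullback.lift_snd _ _ _
  have sqL : IsPullback gk (pullback.fst (h ≫ f) q) (pullback.fst f q) h := by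
    refine IsPullback.of_right ?_ hgk1 (IsPullback.of_hasPullback f q).flip
    rw [hgk2]
    exact (IsPullback.of_hasPullback (h ≫ f) q).flip
  subst hq
  refine isConnected_preimage_connectedComponent (K := K) f (h y) (Set.range gk)
    (isPreconnected_range gk.continuous) ?_ ?_
  · rintro _ ⟨y', rfl⟩
    show pullback.fst f _ (gk y') ∈ connectedComponent (h y)
    rw [← Scheme.Hom.comp_apply, hgk1, Scheme.Hom.comp_apply]
    exact hYC _
  · intro t ht
    obtain ⟨y', hy'1, -⟩ := exists_of_isPullback sqL t y ht
    exact ⟨y', hy'1⟩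

end Groth.Agent.S4621
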