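import Groth.Statements.S4622
import Groth.Agent.H69.PerfUH
import Groth.Agent.H69.UHomeo2

set_option autoImplicit false
open CategoryTheory AlgebraicGeometry
universe u
open FBase

namespace Groth.Agent.S4622

/-- Let k be a separably closed field, k' an algebraic closure of k and X a scheme over k. Then the
projection X ⊗_k k' → X is a universal homeomorphism. -/
theorem result {k k' : Type u} [Field k] [IsSepClosed k] [Field k'] [Algebra k k']
    [IsAlgClosure k k'] {X : Scheme.{u}} (f : X ⟶ Spec (CommRingCat.of k)) :
    FlatMor.IsUnivHomeo (FBase.bcπ f k') := by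
  haveI : Algebra.IsAlgebraic k k' := IsAlgClosure.isAlgebraic
  haveI : IsPurelyInseparable k k' := inferInstance
  have hint : (algebraMap k k').IsIntegral := fun x => (Algebra.IsAlgebraic.isAlgebraic x).isIntegral
  haveI : IsIntegralHom (Spec.map (CommRingCat.ofHom (algebraMap k k'))) :=
    IsIntegralHom.SpecMap_iff.mpr hint
  haveI : UniversallyInjective (Spec.map (CommRingCat.ofHom (algebraMap k k'))) := by
    apply Groth.Agent.H69.universallyInjective_Spec_of_ringHom_ext
    intro L _ f g hfg
    exact IsPurelyInseparable.injective_comp_algebraMap k k' L hfg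
  haveI : Surjective (Spec.map (CommRingCat.ofHom (algebraMap k k'))) := by
    refine ⟨fun P => ?_⟩
    obtain ⟨Q, hQ, hQP⟩ := Groth.Agent.H69.exists_prime_comap_eq_of_isIntegral'
      (algebraMap k k') hint P.asIdeal (by
        rw [(RingHom.injective_iff_ker_eq_bot _).mp (algebraMap k k').injective]
        exact bot_le)
    exact ⟨⟨Q, hQ⟩, PrimeSpectrum.ext hQP⟩
  have h1 : FlatMor.IsUnivHomeo (Spec.map (CommRingCat.ofHom (algebraMap k k'))) :=
    Groth.Agent.H69.isUnivHomeo_of_integral _
  exact MorphismProperty.pullback_fst _ _ h1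

end Groth.Agent.S4622
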