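import Groth.Statements.S4627
import Groth.Agent.S4626
import Groth.Agent.S4664
open CategoryTheory.Limits

set_option autoImplicit false
open CategoryTheory AlgebraicGeometry
universe u
open FBase

namespace Groth.Agent.S4627

/-- Let X be a scheme over a field k and K an extension field of k. Then X is geometrically integral
over k if and only if X ⊗_k K, with its structure of K-scheme, is geometrically integral over K. -/
theorem result {k K : Type u} [Field k] [Field K] [Algebra k K]
    {X : Scheme.{u}} (f : X ⟶ Spec (CommRingCat.of k)) :
    GeometricallyIntegral f ↔ GeometricallyIntegral (FBase.bcStr f K) := by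
  constructor
  · intro h
    exact (inferInstance :
      GeometricallyIntegral (pullback.snd f (Spec.map (CommRingCat.ofHom (algebraMap k K)))))
  · intro h
    haveI : Surjective (Spec.map (CommRingCat.ofHom (algebraMap k K))) :=
      Groth.Agent.H37.surjective_specMap_field
    haveI hI : GeometricallyIntegral
        (pullback.snd f (Spec.map (CommRingCat.ofHom (algebraMap k K)))) := h
    haveI h1 : GeometricallyReduced f :=
      (Groth.Agent.S4626.result (K := K) f).mpr
        (inferInstance : GeometricallyReduced
          (pullback.snd f (Spec.map (CommRingCat.ofHom (algebraMap k K)))))
    haveI h2 : GeometricallyIrreducible f :=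
      Groth.Agent.S4664.result f (Spec.map (CommRingCat.ofHom (algebraMap k K)))
    exact GeometricallyIntegral.of_geometricallyReduced_of_geometricallyIrreducible f

end Groth.Agent.S4627
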