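import Groth.Statements.S4629
import Groth.Agent.H38.GeomRedField

set_option autoImplicit false
open CategoryTheory AlgebraicGeometry
universe u
open FBase

namespace Groth.Agent.S4629

open CategoryTheory.Limits in
/-- If X and Y are schemes over a field k which are both geometrically reduced over k, then X ×_k Y is
geometrically reduced over k. -/
theorem result {k : Type u} [Field k] {X Y : Scheme.{u}}
    (f : X ⟶ Spec (CommRingCat.of k)) (g : Y ⟶ Spec (CommRingCat.of k)) [GeometricallyReduced f]
    [GeometricallyReduced g] : GeometricallyReduced (pullback.fst f g ≫ f) := by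
  refine ⟨geometrically_iff_of_commRing_of_isClosedUnderIsomorphisms.mpr fun K _ _ => ?_⟩
  have hXK : IsReduced (pullback f (Spec.map (CommRingCat.ofHom (algebraMap k K)))) :=
    (geometrically_iff_of_commRing_of_isClosedUnderIsomorphisms.mp
      (GeometricallyReduced.geometrically_isReduced (f := f))) K
  haveI := hXK
  haveI R4 : IsReduced (pullback g
      (pullback.fst f (Spec.map (CommRingCat.ofHom (algebraMap k K))) ≫ f)) :=
    Groth.Agent.S4628.result g _
  haveI R3 : IsReduced (pullback
      (pullback.fst f (Spec.map (CommRingCat.ofHom (algebraMap k K))) ≫ f) g) :=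
    isReduced_of_isOpenImmersion (pullbackSymmetry _ _).hom
  haveI R2 : IsReduced (pullback
      (pullback.fst f (Spec.map (CommRingCat.ofHom (algebraMap k K)))) (pullback.fst f g)) :=
    isReduced_of_isOpenImmersion (pullbackRightPullbackFstIso f g
      (pullback.fst f (Spec.map (CommRingCat.ofHom (algebraMap k K))))).hom
  haveI R1 : IsReduced (pullback (pullback.fst f g)
      (pullback.fst f (Spec.map (CommRingCat.ofHom (algebraMap k K))))) :=
    isReduced_of_isOpenImmersion (pullbackSymmetry _ _).hom
  exact isReduced_of_isOpenImmersion (pullbackRightPullbackFstIso f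
    (Spec.map (CommRingCat.ofHom (algebraMap k K))) (pullback.fst f g)).inv

end Groth.Agent.S4629
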