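import Groth.Statements.S4630
import Mathlib

set_option autoImplicit false
open CategoryTheory AlgebraicGeometry
universe u
open FBase

namespace Groth.Agent.S4630

open CategoryTheory.Limits

/-- ring-hom version of `FBase.IsGeomPtIntegralAt` -/
def GPI {k : Type u} [Field k] {X : Scheme.{u}} (f : X ⟶ Spec (CommRingCat.of k)) (x : X) : Prop :=
  ∀ (L : Type u) [Field L] (χ : CommRingCat.of k ⟶ CommRingCat.of L)
    (x'' : ↥(pullback f (Spec.map χ))), (pullback.fst f (Spec.map χ)) x'' = x →
    IsDomain ((pullback f (Spec.map χ)).presheaf.stalk x'')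

theorem gpi_iff {k : Type u} [Field k] {X : Scheme.{u}} (f : X ⟶ Spec (CommRingCat.of k)) (x : X) :
    FBase.IsGeomPtIntegralAt f x ↔ GPI f x := by
  constructor
  · intro H L _ χ x'' hx
    letI : Algebra k L := χ.hom.toAlgebra
    exact H L x'' hx
  · intro H L _ _ x'' hx
    exact H L (CommRingCat.ofHom (algebraMap k L)) x'' hx

theorem isDomain_stalk_of_iso {Z Z' : Scheme.{u}} (e : Z ⟶ Z') [IsIso e] (z : Z)
    (h : IsDomain (Z'.presheaf.stalk (e z))) : IsDomain (Z.presheaf.stalk z) := by
  have := (asIso (e.stalkMap z)).commRingCatIsoToRingEquiv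
  exact MulEquiv.isDomain (Z'.presheaf.stalk (e z)) this.symm.toMulEquiv

theorem isPullback_paste {k K : Type u} [Field k] [Field K] {R : CommRingCat.{u}} {X : Scheme.{u}}
    (f : X ⟶ Spec (CommRingCat.of k)) (φ : CommRingCat.of k ⟶ CommRingCat.of K)
    (ψ : CommRingCat.of K ⟶ R) :
    IsPullback (pullback.fst (pullback.snd f (Spec.map φ)) (Spec.map ψ) ≫ pullback.fst f (Spec.map φ))
      (pullback.snd (pullback.snd f (Spec.map φ)) (Spec.map ψ)) f (Spec.map (φ ≫ ψ)) := by
  have s := (IsPullback.of_hasPullback (pullback.snd f (Spec.map φ)) (Spec.map ψ)).flip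
  have t := (IsPullback.of_hasPullback f (Spec.map φ)).flip
  have := (s.paste_vert t).flip
  rwa [← Spec.map_comp] at this

theorem forward {k K : Type u} [Field k] [Field K] {X : Scheme.{u}}
    (f : X ⟶ Spec (CommRingCat.of k)) (φ : CommRingCat.of k ⟶ CommRingCat.of K)
    (x' : ↥(pullback f (Spec.map φ))) (H : GPI f ((pullback.fst f (Spec.map φ)) x')) :
    GPI (pullback.snd f (Spec.map φ)) x' := by
  intro L _ ψ x'' hx
  have hA := isPullback_paste f φ ψ
  have hd := H L (φ ≫ ψ) (hA.isoPullback.hom x'') (by
    rw [← Scheme.Hom.comp_apply, hA.isoPullback_hom_fst, Scheme.Hom.comp_apply, hx])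
  exact isDomain_stalk_of_iso hA.isoPullback.hom x'' hd


theorem backward {k K : Type u} [Field k] [Field K] {X : Scheme.{u}}
    (f : X ⟶ Spec (CommRingCat.of k)) (φ : CommRingCat.of k ⟶ CommRingCat.of K)
    (x' : ↥(pullback f (Spec.map φ))) (H' : GPI (pullback.snd f (Spec.map φ)) x') :
    GPI f ((pullback.fst f (Spec.map φ)) x') := by
  intro L _ χ y hy
  -- a point of the fibre product over `x'` and `y`
  let W : Scheme.{u} := pullback (pullback.fst f (Spec.map φ)) (pullback.fst f (Spec.map χ))
  obtain ⟨w, hw1, hw2⟩ : ∃ w : ↥W, (pullback.fst (pullback.fst f (Spec.map φ))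
      (pullback.fst f (Spec.map χ))) w = x' ∧ (pullback.snd (pullback.fst f (Spec.map φ))
      (pullback.fst f (Spec.map χ))) w = y := Scheme.Pullback.exists_preimage_pullback
    (f := pullback.fst f (Spec.map φ)) (g := pullback.fst f (Spec.map χ)) x' y hy.symm
  let R : CommRingCat.{u} := W.residueField w
  let ρ : Spec R ⟶ W := W.fromSpecResidueField w
  let ψK : CommRingCat.of K ⟶ R :=
    Spec.preimage (ρ ≫ pullback.fst _ _ ≫ pullback.snd f (Spec.map φ))
  let ψL : CommRingCat.of L ⟶ R :=
    Spec.preimage (ρ ≫ pullback.snd _ _ ≫ pullback.snd f (Spec.map χ))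
  have hψK : Spec.map ψK = ρ ≫ pullback.fst _ _ ≫ pullback.snd f (Spec.map φ) :=
    Spec.map_preimage _
  have hψL : Spec.map ψL = ρ ≫ pullback.snd _ _ ≫ pullback.snd f (Spec.map χ) :=
    Spec.map_preimage _
  have hcompat : Spec.map ψK ≫ Spec.map φ = Spec.map ψL ≫ Spec.map χ := by
    rw [hψK, hψL]
    simp only [Category.assoc]
    rw [← pullback.condition, ← pullback.condition (f := f) (g := Spec.map χ)]
    rw [pullback.condition_assoc]
  -- the point of `X_K ×_K R` given by the section
  let σ : Spec R ⟶ pullback (pullback.snd f (Spec.map φ)) (Spec.map ψK) :=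
    pullback.lift (ρ ≫ pullback.fst _ _) (𝟙 _) (by rw [hψK]; simp)
  let pt : ↥(Spec R) := IsLocalRing.closedPoint _
  have hρ : ρ pt = w := Scheme.fromSpecResidueField_apply _ _
  let z := σ pt
  have hz : (pullback.fst (pullback.snd f (Spec.map φ)) (Spec.map ψK)) z = x' := by
    change (pullback.fst (pullback.snd f (Spec.map φ)) (Spec.map ψK)) (σ pt) = x'
    rw [← Scheme.Hom.comp_apply, pullback.lift_fst, Scheme.Hom.comp_apply, hρ, hw1]
  have hdom := H' R ψK z hz
  -- the flat projection to `X_L`
  let q : pullback (pullback.snd f (Spec.map φ)) (Spec.map ψK) ⟶ pullback f (Spec.map χ) :=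
    pullback.lift (pullback.fst _ _ ≫ pullback.fst f (Spec.map φ))
      (pullback.snd _ _ ≫ Spec.map ψL) (by
        rw [Category.assoc, Category.assoc, pullback.condition, ← hcompat,
          pullback.condition_assoc])
  have hq1 : q ≫ pullback.fst f (Spec.map χ) = pullback.fst _ _ ≫ pullback.fst f (Spec.map φ) :=
    pullback.lift_fst _ _ _
  have hq2 : q ≫ pullback.snd f (Spec.map χ) = pullback.snd _ _ ≫ Spec.map ψL :=
    pullback.lift_snd _ _ _
  have houter : IsPullback (pullback.snd (pullback.snd f (Spec.map φ)) (Spec.map ψK))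
      (q ≫ pullback.fst f (Spec.map χ)) (Spec.map ψL ≫ Spec.map χ) f := by
    have := (isPullback_paste f φ ψK).flip
    rw [Spec.map_comp, hcompat] at this
    rwa [hq1]
  have htop : IsPullback (pullback.snd (pullback.snd f (Spec.map φ)) (Spec.map ψK)) q
      (Spec.map ψL) (pullback.snd f (Spec.map χ)) :=
    IsPullback.of_bot houter hq2.symm (IsPullback.of_hasPullback f (Spec.map χ)).flip
  haveI : Flat (Spec.map ψL) := by
    rw [Flat.SpecMap_iff]
    letI : Algebra L R := ψL.hom.toAlgebra
    exact RingHom.flat_algebraMap_iff.mpr inferInstance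
  haveI : Flat q := MorphismProperty.of_isPullback (P := @Flat) htop inferInstance
  -- `q z = y`
  have hσq : σ ≫ q = ρ ≫ pullback.snd _ _ := by
    apply pullback.hom_ext
    · rw [Category.assoc, hq1, pullback.lift_fst_assoc, Category.assoc, Category.assoc,
        pullback.condition]
    · rw [Category.assoc, hq2, pullback.lift_snd_assoc, Category.id_comp, hψL, Category.assoc]
  have hqz : q z = y := by
    change q (σ pt) = y
    rw [← Scheme.Hom.comp_apply, hσq, Scheme.Hom.comp_apply, hρ, hw2]
  subst hqz
  -- flat local homomorphisms are injective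
  have hinj : Function.Injective (q.stalkMap z).hom := by
    algebraize [(q.stalkMap z).hom]
    have : Module.FaithfullyFlat ((pullback f (Spec.map χ)).presheaf.stalk (q z))
        ((pullback (pullback.snd f (Spec.map φ)) (Spec.map ψK)).presheaf.stalk z) :=
      @Module.FaithfullyFlat.of_flat_of_isLocalHom _ _ _ _ _ _ _
        (Flat.stalkMap q z) (q.toLRSHom.prop z)
    exact ‹RingHom.FaithfullyFlat _›.injective
  exact hinj.isDomain _


/-- Let X be a scheme over a field k, k' an extension field of k, and x' a point of X' = X ⊗_k k' lying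
over the point x of X. Then X is geometrically pointwise integral at x over k if and only if X' is
geometrically pointwise integral at x' over k'. -/
theorem result {k K : Type u} [Field k] [Field K] [Algebra k K]
    {X : Scheme.{u}} (f : X ⟶ Spec (CommRingCat.of k)) (x' : ↥(FBase.bc f K)) :
    FBase.IsGeomPtIntegralAt f ((FBase.bcπ f K) x') ↔ FBase.IsGeomPtIntegralAt (FBase.bcStr f K) x' := by
  rw [gpi_iff, gpi_iff]
  exact ⟨forward f _ x', backward f _ x'⟩

end Groth.Agent.S4630
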