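import Groth.Statements.S4633
import Groth.Agent.H7.QuasiFlatOpen
import Groth.Agent.H54.GenericComp

set_option autoImplicit false
open CategoryTheory AlgebraicGeometry
universe u
open FDesc

namespace Groth.Agent.S4633

open CategoryTheory.Limits in
/-- Generizations inside a fibre of `g` lift along the second projection of a fibre product:
the fibre of `X ×_Y Y' → X` over `ξ` is the base change of the fibre of `g` over `f ξ` along the
(flat) field extension `κ(f ξ) → κ(ξ)`. -/
theorem exists_generization_snd {X Y Y' : Scheme.{u}} (f : X ⟶ Y) (g : Y' ⟶ Y)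
    (ζ : ↥(pullback f g)) (y₁ : Y') (hy : y₁ ⤳ pullback.snd f g ζ)
    (hgy : g y₁ = f (pullback.fst f g ζ)) :
    ∃ ζ₁ : ↥(pullback f g), ζ₁ ⤳ ζ ∧ pullback.snd f g ζ₁ = y₁ := by
  obtain ⟨p, hp⟩ : ∃ p : pullback f g ⟶ X, p = pullback.fst f g := ⟨_, rfl⟩
  obtain ⟨q, hq⟩ : ∃ q : pullback f g ⟶ Y', q = pullback.snd f g := ⟨_, rfl⟩
  rw [← hp] at hgy
  rw [← hq] at hy ⊢
  have hsq : IsPullback q p g f := by
    rw [hp, hq]; exact (IsPullback.of_hasPullback f g).flip
  have hpb := isPullback_fiberToSpecResidueField_of_isPullback hsq (p ζ)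
  obtain ⟨m, hm, hmι⟩ : ∃ m : p.fiber (p ζ) ⟶ g.fiber (f (p ζ)),
      IsPullback m (p.fiberToSpecResidueField (p ζ)) (g.fiberToSpecResidueField (f (p ζ)))
        (Spec.map (f.residueFieldMap (p ζ))) ∧ m ≫ g.fiberι (f (p ζ)) = p.fiberι (p ζ) ≫ q :=
    ⟨_, hpb, by dsimp only [Scheme.Hom.fiberι]; exact pullback.lift_fst _ _ _⟩
  have : Flat (Spec.map (f.residueFieldMap (p ζ))) := by
    rw [HasRingHomProperty.Spec_iff (P := @Flat)]
    algebraize [(f.residueFieldMap (p ζ)).hom]
    show Module.Flat _ _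
    infer_instance
  have : Flat m := MorphismProperty.of_isPullback hm.flip inferInstance
  have hgen : GeneralizingMap m := Flat.generalizingMap m
  have ha : p.fiberι (p ζ) (p.asFiber ζ) = ζ := p.fiberι_asFiber ζ
  have hy₁ : y₁ ∈ Set.range (g.fiberι (f (p ζ))) := by
    rw [Scheme.Hom.range_fiberι]; exact hgy
  obtain ⟨b₁, hb₁⟩ := hy₁
  have hmb : g.fiberι (f (p ζ)) (m (p.asFiber ζ)) = q ζ := by
    have h1 : (m ≫ g.fiberι (f (p ζ))) (p.asFiber ζ) = (p.fiberι (p ζ) ≫ q) (p.asFiber ζ) := by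
      rw [hmι]
    rw [Scheme.Hom.comp_apply, Scheme.Hom.comp_apply, ha] at h1
    exact h1
  have hspec : b₁ ⤳ m (p.asFiber ζ) := by
    rw [← (g.fiberι (f (p ζ))).isEmbedding.isInducing.specializes_iff, hb₁, hmb]
    exact hy
  obtain ⟨a₁, ha₁, hma₁⟩ := hgen hspec
  refine ⟨p.fiberι (p ζ) a₁, ?_, ?_⟩
  · have := ha₁.map (p.fiberι (p ζ)).continuous
    rwa [ha] at this
  · have h2 : (m ≫ g.fiberι (f (p ζ))) a₁ = (p.fiberι (p ζ) ≫ q) a₁ := by rw [hmι]
    rw [Scheme.Hom.comp_apply, Scheme.Hom.comp_apply, hma₁, hb₁] at h2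
    exact h2.symm

open CategoryTheory.Limits in
/-- Let f : X → Y be a morphism such that every irreducible component of X dominates an irreducible
component of Y (the closure of its image under f is an irreducible component of Y), and let g : Y' →
Y be quasi-flat (for instance flat). Then every irreducible component of X ×_Y Y' dominates an
irreducible component of Y'. -/
theorem result {X Y Y' : Scheme.{u}} (f : X ⟶ Y) (g : Y' ⟶ Y)
    (hf : ∀ Z ∈ irreducibleComponents ↥X, closure (⇑f '' Z) ∈ irreducibleComponents ↥Y)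
    (hg : FDesc.IsQuasiFlat g) (Z' : Set ↥(pullback f g)) (hZ' : Z' ∈ irreducibleComponents ↥(pullback f g)) :
    closure (⇑(pullback.snd f g) '' Z') ∈ irreducibleComponents ↥Y' := by
  obtain ⟨ζ', hζ'⟩ := QuasiSober.sober hZ'.1 (isClosed_of_mem_irreducibleComponents Z' hZ')
  have hZ'eq : closure ({ζ'} : Set ↥(pullback f g)) = Z' := hζ'.def
  have hcomp : closure ({ζ'} : Set ↥(pullback f g)) ∈ irreducibleComponents ↥(pullback f g) := by
    rw [hZ'eq]; exact hZ'
  have hmaxζ : ∀ z : ↥(pullback f g), z ⤳ ζ' → z = ζ' := fun z hz =>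
    Groth.Agent.H54.eq_of_specializes_of_closure_mem_irreducibleComponents hcomp hz
  have hpqf : FDesc.IsQuasiFlat (pullback.fst f g) :=
    Groth.Agent.H7.isQuasiFlat_of_isPullback (IsPullback.of_hasPullback f g).flip hg
  have hpgen : GeneralizingMap (pullback.fst f g) :=
    Groth.Agent.H70.QuasiFlat.generalizingMap_of_isQuasiFlat _ hpqf
  have hmaxξ : ∀ x : X, x ⤳ pullback.fst f g ζ' → x = pullback.fst f g ζ' := by
    intro x hx
    obtain ⟨z, hz, hpz⟩ := hpgen hx
    rw [← hpz, hmaxζ z hz]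
  have hξcomp : closure ({pullback.fst f g ζ'} : Set X) ∈ irreducibleComponents X :=
    Groth.Agent.H54.closure_mem_irreducibleComponents_of_forall hmaxξ
  have hη := hf _ hξcomp
  have hηeq : closure (⇑f '' closure {pullback.fst f g ζ'}) =
      closure {f (pullback.fst f g ζ')} := by
    rw [closure_image_closure f.continuous, Set.image_singleton]
  rw [hηeq] at hη
  have hcond : g (pullback.snd f g ζ') = f (pullback.fst f g ζ') := by
    have h1 : (pullback.fst f g ≫ f) ζ' = (pullback.snd f g ≫ g) ζ' := by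
      rw [pullback.condition]
    rw [Scheme.Hom.comp_apply, Scheme.Hom.comp_apply] at h1
    exact h1.symm
  have hmaxy : ∀ y₁ : Y', y₁ ⤳ pullback.snd f g ζ' → y₁ = pullback.snd f g ζ' := by
    intro y₁ hy₁
    have h1 : g y₁ ⤳ f (pullback.fst f g ζ') := by
      rw [← hcond]; exact hy₁.map g.continuous
    have h2 : g y₁ = f (pullback.fst f g ζ') :=
      Groth.Agent.H54.eq_of_specializes_of_closure_mem_irreducibleComponents hη h1
    obtain ⟨ζ₁, hζ₁, hqζ₁⟩ := exists_generization_snd f g ζ' y₁ hy₁ h2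
    rw [← hqζ₁, hmaxζ ζ₁ hζ₁]
  have hfin := Groth.Agent.H54.closure_mem_irreducibleComponents_of_forall hmaxy
  rw [← hZ'eq, closure_image_closure (pullback.snd f g).continuous, Set.image_singleton]
  exact hfin

end Groth.Agent.S4633
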