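import Groth.Statements.S4635
import Mathlib
import Groth.Agent.H25.NoEmbAffine

set_option autoImplicit false
open CategoryTheory AlgebraicGeometry
universe u
open FBase

namespace Groth.Agent.S4635

set_option linter.style.haveILetI false
set_option linter.unusedVariables false


open CategoryTheory.Limits in
/-- Let X and Y be integral locally Noetherian schemes over a field k such that X ×_k Y is locally
Noetherian. Then the structure sheaf of X ×_k Y has no embedded associated points. -/
theorem result {k : Type u} [Field k] {X Y : Scheme.{u}}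
    (f : X ⟶ Spec (CommRingCat.of k)) (g : Y ⟶ Spec (CommRingCat.of k)) [IsIntegral X] [IsIntegral Y]
    [IsLocallyNoetherian X] [IsLocallyNoetherian Y] [IsLocallyNoetherian (pullback f g)] :
    AssSch.NoEmbedded (Coh.structureModule (pullback f g)) := by
  apply Groth.Agent.H25.NoEmbAffine.noEmbedded_of_affine_cover
  intro z
  obtain ⟨_, ⟨U, hU, rfl⟩, hzU, -⟩ := X.isBasis_affineOpens.exists_subset_of_mem_open
    (Set.mem_univ ((pullback.fst f g).base z)) isOpen_univ
  obtain ⟨_, ⟨V, hV, rfl⟩, hzV, -⟩ := Y.isBasis_affineOpens.exists_subset_of_mem_open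
    (Set.mem_univ ((pullback.snd f g).base z)) isOpen_univ
  replace hU : IsAffineOpen U := hU
  replace hV : IsAffineOpen V := hV
  obtain ⟨W, hW, hmem, algU, algV, ⟨e⟩⟩ :=
    Groth.Agent.H25.NoEmbAffine.exists_affine_tensor_nhd f g U hU V hV
  letI := algU
  letI := algV
  haveI : IsDomain Γ(X, U) :=
    @AlgebraicGeometry.IsIntegral.component_integral X _ U ⟨⟨_, hzU⟩⟩
  haveI : IsDomain Γ(Y, V) :=
    @AlgebraicGeometry.IsIntegral.component_integral Y _ V ⟨⟨_, hzV⟩⟩
  refine ⟨W, hW, (hmem z).mpr ⟨hzU, hzV⟩, IsLocallyNoetherian.component_noetherian ⟨W, hW⟩, ?_⟩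
  exact Groth.Agent.H25.AssLoc.ass_subset_min_of_ringEquiv e.symm
    (Groth.Agent.H25.AssLoc.ass_subset_min_tensor_domains k Γ(X, U) Γ(Y, V))

end Groth.Agent.S4635
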