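import Groth.Statements.S4638
import Groth.Agent.H8.AssSch

set_option autoImplicit false
open CategoryTheory AlgebraicGeometry
universe u
open AssSch

namespace Groth.Agent.S4638

section
open AlgebraicGeometry CategoryTheory Opposite Groth.Agent.H8

lemma key {X : Scheme.{u}} [IsLocallyNoetherian X] (F : X.Modules) [F.IsQuasicoherent]
    (f : Γ(X, ⊤)) (hAss : AssSch.Ass F ⊆ (X.basicOpen f : Set ↥X)) (x : X)
    (m : F.presheaf.stalk x) (hm : X.presheaf.germ ⊤ x trivial f • m = 0) : m = 0 := by
  obtain ⟨_, ⟨U, hU, rfl⟩, hxU, -⟩ := X.isBasis_affineOpens.exists_subset_of_mem_open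
    (Set.mem_univ x) isOpen_univ
  haveI : IsNoetherianRing Γ(X, U) := IsLocallyNoetherian.component_noetherian ⟨U, hU⟩
  obtain ⟨a, hxa, n, hn⟩ := exists_germ_smul_eq_germ F hU x hxU m
  set fU : Γ(X, U) := X.presheaf.map (homOfLE (le_top : U ≤ ⊤)).op f with hfU
  have hfUgerm : ∀ (y : X) (hyU : y ∈ U),
      X.presheaf.germ U y hyU fU = X.presheaf.germ ⊤ y trivial f :=
    fun y hyU => TopCat.Presheaf.germ_res_apply X.presheaf (homOfLE (le_top : U ≤ ⊤)) y hyU f
  have h1 : F.presheaf.germ U x hxU (fU • n) = 0 := by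
    rw [germ_smul, hfUgerm, ← hn, smul_comm, hm, smul_zero]
  obtain ⟨b, hxb, hb⟩ := exists_smul_eq_zero_of_germ_eq_zero F hU x hxU (fU • n) h1
  have hbn : b • n = 0 := by
    by_contra hne
    obtain ⟨y, hyU, hyAss, hgerm⟩ := exists_isAssPoint_germ_ne_zero hU F (b • n) hne
    have hyf : y ∈ X.basicOpen f := hAss hyAss
    have hu : IsUnit (X.presheaf.germ U y hyU fU) := by
      rw [hfUgerm]
      exact (Scheme.mem_basicOpen _ _ _ (show y ∈ (⊤ : X.Opens) from trivial)).mp hyf
    apply hgerm
    have h2 : X.presheaf.germ U y hyU fU • F.presheaf.germ U y hyU (b • n) = 0 := by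
      rw [← germ_smul, smul_comm, hb, map_zero]
    exact (IsUnit.smul_eq_zero hu).mp h2
  have hua : IsUnit (X.presheaf.germ U x hxU a) := (Scheme.mem_basicOpen _ _ _ hxU).mp hxa
  have hub : IsUnit (X.presheaf.germ U x hxU b) := (Scheme.mem_basicOpen _ _ _ hxU).mp hxb
  have h3 : X.presheaf.germ U x hxU b • F.presheaf.germ U x hxU n = 0 := by
    rw [← germ_smul, hbn, map_zero]
  have h4 : F.presheaf.germ U x hxU n = 0 := (IsUnit.smul_eq_zero hub).mp h3
  rw [← hn] at h4
  exact (IsUnit.smul_eq_zero hua).mp h4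

end


/-- Let X be a locally Noetherian scheme, F a quasi-coherent O_X-module and f a global section of O_X.
Then f is F-regular, i.e. multiplication by the germ of f is injective on every stalk of F, if and
only if every associated point of F lies in the open subset X_f where f does not vanish. -/
theorem result {X : Scheme.{u}} [IsLocallyNoetherian X] (F : X.Modules)
    (hF : Coh.IsQCoh F) (f : Γ(X, ⊤)) :
    (∀ x : X, IsSMulRegular ↑(F.presheaf.stalk x) (X.presheaf.germ ⊤ x trivial f)) ↔
      AssSch.Ass F ⊆ (X.basicOpen f : Set ↥X) := by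
  haveI : F.IsQuasicoherent := hF
  constructor
  · intro hreg x hx
    obtain ⟨hp, m, hm⟩ := hx
    rw [SetLike.mem_coe, Scheme.mem_basicOpen _ _ _ (show x ∈ (⊤ : X.Opens) from trivial)]
    by_contra hnu
    have hmem : X.presheaf.germ ⊤ x trivial f ∈ IsLocalRing.maximalIdeal (X.presheaf.stalk x) :=
      (IsLocalRing.mem_maximalIdeal _).mpr hnu
    rw [hm] at hmem
    obtain ⟨n, hn⟩ := hmem
    rw [Submodule.mem_colon_singleton, Submodule.mem_bot] at hn
    have hm0 : m = 0 := by
      apply (hreg x).pow n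
      simp only [smul_zero]
      exact hn
    apply hp.ne_top
    rw [hm, hm0, Ideal.radical_eq_top, Ideal.eq_top_iff_one, Submodule.mem_colon_singleton]
    simp
  · intro hAss x m₁ m₂ h12
    have hsub : X.presheaf.germ ⊤ x trivial f • (m₁ - m₂) = 0 := by
      rw [smul_sub]
      exact sub_eq_zero.mpr h12
    exact sub_eq_zero.mp (key F f hAss x (m₁ - m₂) hsub)

end Groth.Agent.S4638
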