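import Groth.Statements.S4639
import Groth.Agent.S2488
import Groth.Agent.S1124

set_option autoImplicit false
open CategoryTheory AlgebraicGeometry
universe u
open FDesc

namespace Groth.Agent.S4639

section aux
open CategoryTheory.Limits TopologicalSpace MorphismProperty

lemma main :
    MorphismProperty.DescendsAlong
      (MorphismProperty.universally (topologically (fun f => Topology.IsEmbedding f)) ⊓
        @QuasiCompact : MorphismProperty Scheme.{u})
      (@Surjective ⊓ @Flat ⊓ @QuasiCompact : MorphismProperty Scheme.{u}) := by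
  constructor
  intro A X' Y X fst snd f g sq hf hfst
  obtain ⟨⟨hsurj, hflat⟩, hqc⟩ := hf
  obtain ⟨hemb, hfqc⟩ := hfst
  have hsurj' : Surjective f := hsurj
  have hflat' : Flat f := hflat
  have hqc' : QuasiCompact f := hqc
  have hfqc' : QuasiCompact fst := hfqc
  have hgqc : QuasiCompact g := Groth.Agent.S1124.quasiCompact_of_isPullback sq
  refine ⟨?_, hgqc⟩
  intro YT T i₁ i₂ g' sqT
  have sq1 : IsPullback (pullback.fst (pullback.snd f i₂) g') (pullback.snd (pullback.snd f i₂) g')
      (pullback.snd f i₂) g' := IsPullback.of_hasPullback _ _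
  have hw : (pullback.fst (pullback.snd f i₂) g' ≫ pullback.fst f i₂) ≫ f =
      (pullback.snd (pullback.snd f i₂) g' ≫ i₁) ≫ g := by
    rw [Category.assoc, pullback.condition, ← Category.assoc, sq1.w, Category.assoc, sqT.w,
      Category.assoc]
  obtain ⟨a, ha1, ha2⟩ : ∃ a : pullback (pullback.snd f i₂) g' ⟶ A,
      a ≫ fst = pullback.fst (pullback.snd f i₂) g' ≫ pullback.fst f i₂ ∧
      a ≫ snd = pullback.snd (pullback.snd f i₂) g' ≫ i₁ :=
    ⟨sq.lift _ _ hw, sq.lift_fst _ _ _, sq.lift_snd _ _ _⟩
  have big0 : IsPullback (pullback.snd (pullback.snd f i₂) g' ≫ i₁)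
      (pullback.fst (pullback.snd f i₂) g') g (pullback.snd f i₂ ≫ i₂) :=
    IsPullback.paste_horiz sq1.flip sqT.flip
  have big : IsPullback (a ≫ snd) (pullback.fst (pullback.snd f i₂) g') g
      (pullback.fst f i₂ ≫ f) := by
    rw [ha2, pullback.condition]; exact big0
  have sqp : IsPullback a (pullback.fst (pullback.snd f i₂) g') fst (pullback.fst f i₂) :=
    IsPullback.of_right big ha1 sq.flip
  have hpemb : Topology.IsEmbedding (pullback.fst (pullback.snd f i₂) g') :=
    hemb a (pullback.fst f i₂) (pullback.fst (pullback.snd f i₂) g') sqp.flip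
  have hpqc : QuasiCompact (pullback.fst (pullback.snd f i₂) g') :=
    MorphismProperty.of_isPullback (P := @QuasiCompact) sqp hfqc'
  have hQ : (@Surjective ⊓ @Flat ⊓ @QuasiCompact : MorphismProperty Scheme.{u})
      (pullback.snd f i₂) := ⟨⟨inferInstance, inferInstance⟩, inferInstance⟩
  have := Groth.Agent.S2488.result.{u}
  have hres := MorphismProperty.of_isPullback_of_descendsAlong
    (P := (topologically (fun f => Topology.IsEmbedding f) ⊓ @QuasiCompact :
      MorphismProperty Scheme.{u}))
    (Q := (@Surjective ⊓ @Flat ⊓ @QuasiCompact : MorphismProperty Scheme.{u})) sq1 hQ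
    ⟨hpemb, hpqc⟩
  exact hres.1

end aux

/-- The property of being quasi-compact and universally bicontinuous (every base change is a
homeomorphism onto its image) descends along a surjective, flat and quasi-compact base change. -/
theorem result :
    MorphismProperty.DescendsAlong
      (MorphismProperty.universally (topologically (fun f => Topology.IsEmbedding f)) ⊓ @QuasiCompact : MorphismProperty Scheme.{u})
      (@Surjective ⊓ @Flat ⊓ @QuasiCompact : MorphismProperty Scheme.{u}) := by
  exact main

end Groth.Agent.S4639
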