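import Groth.Statements.S4640
import Mathlib

set_option autoImplicit false
universe u
open FDesc

namespace Groth.Agent.S4640

open TensorProduct
open scoped nonZeroDivisors

section aux

variable {A K : Type u} [CommRing A] [IsDomain A] [Field K] [Algebra A K] [IsFractionRing A K]
  {M : Type u} [AddCommGroup M] [Module A M]

theorem exists_smul_eq (y : K ⊗[A] M) :
    ∃ s : A, s ≠ 0 ∧ ∃ m : M, s • y = (1 : K) ⊗ₜ[A] m := by
  obtain ⟨⟨m, s⟩, h⟩ := IsLocalizedModule.surj A⁰ (TensorProduct.mk A K M 1) y
  exact ⟨s.1, nonZeroDivisors.coe_ne_zero s, m, h⟩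

theorem exists_smul_eq_zero (K : Type u) [Field K] [Algebra A K] [IsFractionRing A K] (b : M)
    (h : (1 : K) ⊗ₜ[A] b = 0) : ∃ s : A, s ≠ 0 ∧ s • b = 0 := by
  obtain ⟨s, hs⟩ := (IsLocalizedModule.eq_zero_iff A⁰ (TensorProduct.mk A K M 1)).mp h
  exact ⟨s.1, nonZeroDivisors.coe_ne_zero s, hs⟩

theorem algebraMap_ne_zero {s : A} (hs : s ≠ 0) : algebraMap A K s ≠ 0 :=
  (map_ne_zero_iff _ (IsFractionRing.injective A K)).mpr hs

theorem eq_zero_of_smul_eq_zero {W : Type*} [AddCommGroup W] [Module K W] [Module A W]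
    [IsScalarTower A K W] {s : A} (hs : s ≠ 0) {y : W} (h : s • y = 0) : y = 0 := by
  have hs' : algebraMap A K s ≠ 0 := algebraMap_ne_zero hs
  have e : y = (algebraMap A K s)⁻¹ • (s • y) := by
    rw [← algebraMap_smul K s y, smul_smul, inv_mul_cancel₀ hs', one_smul]
  rw [e, h, smul_zero]

theorem mem_of_smul_mem {W : Type*} [AddCommGroup W] [Module K W] [Module A W]
    [IsScalarTower A K W] (P : Submodule K W) {s : A} (hs : s ≠ 0) {y : W}
    (h : s • y ∈ P) : y ∈ P := by
  have hs' : algebraMap A K s ≠ 0 := algebraMap_ne_zero hs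
  have e : y = (algebraMap A K s)⁻¹ • (s • y) := by
    rw [← algebraMap_smul K s y, smul_smul, inv_mul_cancel₀ hs', one_smul]
  rw [e]
  exact P.smul_mem _ h

end aux

open TensorProduct in
/-- Let A be a Dedekind domain with fraction field K, M an A-module and P' a K-submodule of K ⊗_A M. Let
φ : M → (K ⊗_A M)/P' be m ↦ class of 1 ⊗ m. Then a submodule Q of M equals ker φ if and only if M/Q
is a flat A-module and the kernel of the induced surjection K ⊗_A M → K ⊗_A (M/Q) is P'. Thus M/ker
φ is the unique flat quotient of M with generic fibre (K ⊗_A M)/P'. (The published statement takes A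
Noetherian, regular and of dimension 1; a field is allowed here, where the statement is immediate.) -/
theorem result {A K : Type u} [CommRing A] [IsDedekindDomain A] [Field K]
    [Algebra A K] [IsFractionRing A K] {M : Type u} [AddCommGroup M] [Module A M]
    (P' : Submodule K (K ⊗[A] M)) (Q : Submodule A M) :
    Q = LinearMap.ker ((P'.restrictScalars A).mkQ ∘ₗ TensorProduct.mk A K M 1) ↔
      (Module.Flat A (M ⧸ Q) ∧ LinearMap.ker (Q.mkQ.baseChange K) = P') := by
  have hmem : ∀ m : M,
      m ∈ LinearMap.ker ((P'.restrictScalars A).mkQ ∘ₗ TensorProduct.mk A K M 1) ↔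
        (1 : K) ⊗ₜ[A] m ∈ P' := by
    intro m
    rw [LinearMap.mem_ker, LinearMap.comp_apply, Submodule.mkQ_apply,
      Submodule.Quotient.mk_eq_zero, Submodule.restrictScalars_mem, TensorProduct.mk_apply]
  have hbc : ∀ m : M, (Q.mkQ.baseChange K) ((1 : K) ⊗ₜ[A] m) = (1 : K) ⊗ₜ[A] (Q.mkQ m) :=
    fun m => LinearMap.baseChange_tmul _ _ _
  constructor
  · intro h
    have hQ : ∀ m, m ∈ Q ↔ (1 : K) ⊗ₜ[A] m ∈ P' := fun m => by rw [← hmem m, ← h]
    refine ⟨?_, ?_⟩
    · have hT : Module.IsTorsionFree A (M ⧸ Q) := by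
        rw [Module.isTorsionFree_iff_smul_eq_zero]
        intro r x hx
        obtain ⟨m, rfl⟩ := Submodule.Quotient.mk_surjective Q x
        by_cases hr : r = 0
        · exact Or.inl hr
        · right
          rw [← Submodule.Quotient.mk_smul, Submodule.Quotient.mk_eq_zero, hQ, tmul_smul] at hx
          rw [Submodule.Quotient.mk_eq_zero, hQ]
          exact mem_of_smul_mem P' hr hx
      infer_instance
    · apply le_antisymm
      · intro y hy
        have hy' : (LinearMap.lTensor K Q.mkQ) y = 0 := LinearMap.mem_ker.mp hy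
        obtain ⟨z, rfl⟩ :=
          (lTensor_exact K (LinearMap.exact_subtype_mkQ Q) Q.mkQ_surjective y).mp hy'
        clear hy hy'
        induction z using TensorProduct.induction_on with
        | zero => rw [map_zero]; exact P'.zero_mem
        | tmul k q =>
          rw [LinearMap.lTensor_tmul, Submodule.subtype_apply]
          have e : k ⊗ₜ[A] (q : M) = k • ((1 : K) ⊗ₜ[A] (q : M)) := by
            rw [smul_tmul', smul_eq_mul, mul_one]
          rw [e]
          exact P'.smul_mem k ((hQ q).mp q.2)
        | add z₁ z₂ h₁ h₂ => rw [map_add]; exact P'.add_mem h₁ h₂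
      · intro y hy
        obtain ⟨s, hs, m, hm⟩ := exists_smul_eq (A := A) (K := K) y
        have h1 : (1 : K) ⊗ₜ[A] m ∈ P' := by
          rw [← hm, ← algebraMap_smul K s y]
          exact P'.smul_mem _ hy
        have h2 : m ∈ Q := (hQ m).mpr h1
        have h3 : s • (Q.mkQ.baseChange K) y = 0 := by
          rw [← LinearMap.map_smul_of_tower, hm, hbc, Submodule.mkQ_apply,
            (Submodule.Quotient.mk_eq_zero Q).mpr h2, tmul_zero]
        rw [LinearMap.mem_ker]
        exact eq_zero_of_smul_eq_zero (K := K) hs h3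
  · rintro ⟨hF, hk⟩
    apply Submodule.ext
    intro m
    rw [hmem, ← hk, LinearMap.mem_ker, hbc]
    constructor
    · intro hm
      rw [Submodule.mkQ_apply, (Submodule.Quotient.mk_eq_zero Q).mpr hm, tmul_zero]
    · intro h0
      obtain ⟨s, hs, hs0⟩ := exists_smul_eq_zero K (Q.mkQ m) h0
      have hT : Module.IsTorsionFree A (M ⧸ Q) := inferInstance
      rcases smul_eq_zero.mp hs0 with h | h
      · exact absurd h hs
      · exact (Submodule.Quotient.mk_eq_zero Q).mp h

end Groth.Agent.S4640
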