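import Groth.Statements.S4644
import Groth.Agent.H38.SubsetDim

set_option autoImplicit false
open CategoryTheory AlgebraicGeometry
universe u
open FBase

namespace Groth.Agent.S4644

/-- Let Y be a nonempty scheme locally of finite type over a field k whose irreducible components all
have the same dimension, and let Z be a locally closed subset of Y (the underlying set of a
subscheme). Then Z is nowhere dense in Y if and only if dim Z < dim Y. (For Y empty the left side
holds and the right side fails, so Y is taken nonempty; dimensions are Krull dimensions of the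
underlying spaces.) -/
theorem result {k : Type u} [Field k] {Y : Scheme.{u}} [Nonempty ↥Y]
    (g : Y ⟶ Spec (CommRingCat.of k)) [LocallyOfFiniteType g]
    (heq : ∀ T ∈ irreducibleComponents ↥Y, topologicalKrullDim ↥T = topologicalKrullDim ↥Y)
    (Z : Set ↥Y) (hZ : IsLocallyClosed Z) :
    IsNowhereDense Z ↔ topologicalKrullDim ↥Z < topologicalKrullDim ↥Y := by
  haveI : IsLocallyNoetherian Y := LocallyOfFiniteType.isLocallyNoetherian g
  obtain ⟨y0⟩ := ‹Nonempty ↥Y›
  obtain ⟨η0, hη0y, hη0⟩ := Groth.Agent.H54.exists_generic_specializes y0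
  have hdimY : topologicalKrullDim Y = (Groth.Agent.H54.tdeg g η0 : WithBot ℕ∞) := by
    rw [← heq _ hη0, Groth.Agent.H54.topologicalKrullDim_closure_singleton g η0]
  constructor
  · intro hnd
    have hcl : IsNowhereDense (closure Z) := hnd.closure
    have hb : ∀ z ∈ closure Z, Groth.Agent.H54.tdeg g z + 1 ≤ Groth.Agent.H54.tdeg g η0 := by
      intro z hz
      obtain ⟨ζ', hζ', hne⟩ :=
        Groth.Agent.H38.NowhereDenseDim.exists_specializes_ne_of_isNowhereDense isClosed_closure hcl hz
      have h1 := Groth.Agent.H54.tdeg_lt_of_specializes g hζ' hne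
      have h2 := Groth.Agent.H38.DimFibreSum.tdeg_le_dim g ζ'
      rw [hdimY] at h2
      have : Groth.Agent.H54.tdeg g ζ' ≤ Groth.Agent.H54.tdeg g η0 := by exact_mod_cast h2
      omega
    rw [hdimY]
    by_cases hZ' : Z.Nonempty
    · obtain ⟨z, hz⟩ := hZ'
      have h0 := hb z (subset_closure hz)
      have h1 := Groth.Agent.H38.SubsetDim.dim_subset_le_of_forall_tdeg_le g Z
        (Groth.Agent.H54.tdeg g η0 - 1) (fun z hz => by have := hb z hz; omega)
      refine lt_of_le_of_lt h1 ?_
      exact_mod_cast (by omega : Groth.Agent.H54.tdeg g η0 - 1 < Groth.Agent.H54.tdeg g η0)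
    · rw [Set.not_nonempty_iff_eq_empty] at hZ'
      subst hZ'
      have : topologicalKrullDim ↥(∅ : Set Y) = ⊥ := by
        rw [topologicalKrullDim, Order.krullDim_eq_bot_iff]
        exact ⟨fun W => (W.isIrreducible.nonempty.some).2⟩
      rw [this]
      exact WithBot.bot_lt_coe _
  · intro hlt
    by_contra hnd
    rw [IsNowhereDense, ← Set.not_nonempty_iff_eq_empty, not_not] at hnd
    obtain ⟨y, hy⟩ := hnd
    obtain ⟨U, C, hU, hC, rfl⟩ := hZ
    have hclC : closure (U ∩ C) ⊆ C := hC.closure_subset_iff.mpr Set.inter_subset_right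
    obtain ⟨v, hvO, hvZ⟩ := mem_closure_iff.mp (interior_subset hy) _ isOpen_interior hy
    let V : Y.Opens := ⟨interior (closure (U ∩ C)) ∩ U, isOpen_interior.inter hU⟩
    have hVZ : (V : Set Y) ⊆ U ∩ C := fun w hw => ⟨hw.2, hclC (interior_subset hw.1)⟩
    have hvV : v ∈ V := ⟨hvO, hvZ.1⟩
    obtain ⟨η, hηv, hη⟩ := Groth.Agent.H54.exists_generic_specializes v
    have hηV : η ∈ V := hηv.mem_open V.isOpen hvV
    have h1 := Groth.Agent.H54.tdeg_le_topologicalKrullDim g η V hηV
    have h2 : (Groth.Agent.H54.tdeg g η : WithBot ℕ∞) = topologicalKrullDim Y := by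
      rw [← heq _ hη, Groth.Agent.H54.topologicalKrullDim_closure_singleton g η]
    have h3 : topologicalKrullDim ↥V ≤ topologicalKrullDim ↥(U ∩ C) :=
      (Topology.IsEmbedding.inclusion hVZ).isInducing.topologicalKrullDim_le
    rw [h2] at h1
    exact absurd (h1.trans h3) (not_le.mpr hlt)

end Groth.Agent.S4644
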