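import Groth.Statements.S4645
import Groth.Agent.H37.CompFix

set_option autoImplicit false
open CategoryTheory AlgebraicGeometry
universe u
open FBase

namespace Groth.Agent.S4645

/-- Let X be a scheme over a field k with finitely many connected components, each of which contains a
point x such that the separable algebraic closure of k in κ(x) has finite degree over k. Then there
is a finite separable extension k'' of k such that all connected components of X ⊗_k k'' are
geometrically connected over k'': for every extension field K of k'' and every point x' of X ⊗_k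
k'', the inverse image in (X ⊗_k k'') ⊗_{k''} K of the connected component of x' is connected. -/
theorem result {k : Type u} [Field k] {X : Scheme.{u}}
    (f : X ⟶ Spec (CommRingCat.of k)) [Finite (_root_.ConnectedComponents ↥X)]
    (hx : ∀ c : _root_.ConnectedComponents ↥X, ∃ x : X, _root_.ConnectedComponents.mk x = c ∧
      FBase.ResidueFieldProp f x (fun K _ _ => FiniteDimensional k (separableClosure k K))) :
    ∃ (k'' : Type u) (_ : Field k'') (_ : Algebra k k''), FiniteDimensional k k'' ∧ Algebra.IsSeparable k k'' ∧
      ∀ (K : Type u) [Field K] [Algebra k'' K] (x' : ↥(FBase.bc f k'')),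
        _root_.IsConnected (⇑(FBase.bcπ (FBase.bcStr f k'') K) ⁻¹' connectedComponent x') := by
  letI : X.Over (Spec (CommRingCat.of k)) := ⟨f⟩
  choose xc hxc1 hxc2 using hx
  have key : ∀ c : _root_.ConnectedComponents ↥X, ∃ E : H37.FinSub k (SeparableClosure k),
      ∀ σ : SeparableClosure k ≃ₐ[k] SeparableClosure k, (∀ a, a ∈ E.1 → σ a = a) →
      ∀ y : ↥(Curv2.bc k X (SeparableClosure k)),
        Curv2.bcFst k X (SeparableClosure k) y = xc c →
        Curv2.galAct k X (SeparableClosure k) σ y = y := by
    intro c
    obtain ⟨φ, hφ, hfin⟩ := hxc2 c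
    exact H37.exists_finSub_fixing_fibre X _ φ hφ hfin
  choose Efun hEfun using key
  obtain ⟨E, hE⟩ := Finite.exists_le Efun
  have hE' : ∀ (c : _root_.ConnectedComponents ↥X)
      (σ : SeparableClosure k ≃ₐ[k] SeparableClosure k),
      (∀ a : SeparableClosure k, a ∈ E.1 → σ a = a) →
      ∀ y : ↥(Curv2.bc k X (SeparableClosure k)),
      Curv2.bcFst k X (SeparableClosure k) y = xc c →
      Curv2.galAct k X (SeparableClosure k) σ y = y := by
    intro c σ hσ y hy
    exact hEfun c σ
      (fun a ha => hσ a ((show (Efun c).1 ≤ E.1 from hE c) ha)) y hy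
  haveI := E.2
  refine ⟨↥E.1, inferInstance, inferInstance, E.2,
    Algebra.isSeparable_tower_bot_of_isSeparable k ↥E.1 (SeparableClosure k), ?_⟩
  intro K _ _ x'
  have hconn := H37.isConnected_preimage_eLeg k X (SeparableClosure k) E xc hxc1 hE' x'
  exact H37.isConnected_preimage_of_isPullback (SeparableClosure k)
    (H37.eLeg_isPullback k X (SeparableClosure k) E) (connectedComponent x')
    isClosed_connectedComponent hconn K

end Groth.Agent.S4645
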