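import Groth.Statements.S4646
import Groth.Agent.H37.CompFix

set_option autoImplicit false
open CategoryTheory AlgebraicGeometry
universe u
open FBase

namespace Groth.Agent.S4646

/-- Let X be a scheme over a field k having finitely many irreducible components, such that for the
generic point x of each irreducible component the separable algebraic closure of k in κ(x) has
finite degree over k. Then there is a finite separable extension L of k such that all irreducible
components of X ⊗_k L are geometrically irreducible over L: for every extension field K of L and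
every irreducible component Z' of X ⊗_k L, the inverse image of Z' in (X ⊗_k L) ⊗_L K is
irreducible. (No finite-type hypothesis on X.) -/
theorem result {k : Type u} [Field k] {X : Scheme.{u}}
    (f : X ⟶ Spec (CommRingCat.of k)) [Finite ↥(irreducibleComponents ↥X)]
    (hx : ∀ (Z : Set ↥X) (hZ : Z ∈ irreducibleComponents ↥X),
      FBase.ResidueFieldProp f hZ.1.genericPoint (fun K _ _ => FiniteDimensional k (separableClosure k K))) :
    ∃ (L : Type u) (_ : Field L) (_ : Algebra k L), FiniteDimensional k L ∧ Algebra.IsSeparable k L ∧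
      ∀ (K : Type u) [Field K] [Algebra L K] (Z' : Set ↥(FBase.bc f L)), Z' ∈ irreducibleComponents ↥(FBase.bc f L) →
        IsIrreducible (⇑(FBase.bcπ (FBase.bcStr f L) K) ⁻¹' Z') := by
  letI : X.Over (Spec (CommRingCat.of k)) := ⟨f⟩
  have key : ∀ Z : ↥(irreducibleComponents ↥X), ∃ E : H37.FinSub k (SeparableClosure k),
      ∀ σ : SeparableClosure k ≃ₐ[k] SeparableClosure k, (∀ a, a ∈ E.1 → σ a = a) →
      ∀ y : ↥(Curv2.bc k X (SeparableClosure k)),
        Curv2.bcFst k X (SeparableClosure k) y = Z.2.1.genericPoint →
        Curv2.galAct k X (SeparableClosure k) σ y = y := by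
    intro Z
    obtain ⟨φ, hφ, hfin⟩ := hx Z.1 Z.2
    exact H37.exists_finSub_fixing_fibre X _ φ hφ hfin
  choose Efun hEfun using key
  obtain ⟨E, hE⟩ := Finite.exists_le Efun
  have hE' : ∀ (Z : Set ↥X) (hZ : Z ∈ irreducibleComponents ↥X)
      (σ : SeparableClosure k ≃ₐ[k] SeparableClosure k),
      (∀ a : SeparableClosure k, a ∈ E.1 → σ a = a) →
      ∀ y : ↥(Curv2.bc k X (SeparableClosure k)),
      Curv2.bcFst k X (SeparableClosure k) y = hZ.1.genericPoint →
      Curv2.galAct k X (SeparableClosure k) σ y = y := by
    intro Z hZ σ hσ y hy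
    exact hEfun ⟨Z, hZ⟩ σ
      (fun a ha => hσ a ((show (Efun ⟨Z, hZ⟩).1 ≤ E.1 from hE ⟨Z, hZ⟩) ha)) y hy
  haveI := E.2
  refine ⟨↥E.1, inferInstance, inferInstance, E.2,
    Algebra.isSeparable_tower_bot_of_isSeparable k ↥E.1 (SeparableClosure k), ?_⟩
  intro K _ _ Z' hZ'
  have hirr := H37.isIrreducible_preimage_eLeg k X (SeparableClosure k) E hE' Z' hZ'
  exact H37.isIrreducible_preimage_of_isPullback (SeparableClosure k)
    (H37.eLeg_isPullback k X (SeparableClosure k) E) Z'
    (isClosed_of_mem_irreducibleComponents Z' hZ') hirr K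

end Groth.Agent.S4646
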