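import Groth.Statements.S4648
-- import your own Groth.Agent.* helpers here
import Groth.Agent.H70.QuasiFlat
import Groth.Agent.S4586
import Groth.Agent.S15542
import Groth.Agent.S3400

set_option autoImplicit false
open CategoryTheory AlgebraicGeometry
universe u
open FDesc

namespace Groth.Agent.S4648

/-- Every point of the closure of a pro-constructible subset of a scheme is a specialization of a
point of the subset. -/
theorem exists_specializes_of_mem_closure_proCons {Y : Scheme.{u}} (Z : Set ↥Y)
    (hZ : ProCons.IsProConstructible Z) (y : Y) (hy : y ∈ closure Z) : ∃ z ∈ Z, z ⤳ y := by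
  obtain ⟨V, hV, hyV, -⟩ : ∃ V : Y.Opens, IsAffineOpen V ∧ y ∈ V ∧ V ≤ (⊤ : Y.Opens) :=
    TopologicalSpace.Opens.isBasis_iff_nbhd.mp Y.isBasis_affineOpens (TopologicalSpace.Opens.mem_top y)
  haveI : IsAffine (V : Scheme.{u}) := hV
  have hZV : ProCons.IsProConstructible (V.ι.base ⁻¹' Z) := Groth.Agent.S15542.result V.ι Z hZ
  obtain ⟨X', g, hX', hg⟩ := (Groth.Agent.S3400.result (V : Scheme.{u}) (V.ι.base ⁻¹' Z)).mp hZV
  haveI : IsAffine X' := hX'
  let y' : (V : Scheme.{u}) := ⟨y, hyV⟩
  have hy' : y' ∈ closure (Set.range g.base) := by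
    rw [hg]
    exact V.ι.isOpenEmbedding.isOpenMap.preimage_closure_subset_closure_preimage hy
  obtain ⟨z', hz', hzy⟩ :=
    Groth.Agent.H70.QuasiFlat.exists_specializes_of_mem_closure_range g y' hy'
  rw [hg] at hz'
  exact ⟨V.ι.base z', hz', hzy.map V.ι.continuous⟩

/-- Let f : X → Y be a quasi-flat, surjective and quasi-compact morphism and Z a subset of Y. Then Z is
a locally closed pro-constructible subset of Y if and only if f⁻¹(Z) is a locally closed
pro-constructible subset of X. -/
theorem result {X Y : Scheme.{u}} (f : X ⟶ Y)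
    (hf : FDesc.IsQuasiFlat f) [Surjective f] [QuasiCompact f] (Z : Set ↥Y) :
    (IsLocallyClosed Z ∧ ProCons.IsProConstructible Z) ↔
      (IsLocallyClosed (⇑f ⁻¹' Z) ∧ ProCons.IsProConstructible (⇑f ⁻¹' Z)) := by
  have hgen := Groth.Agent.H70.QuasiFlat.generalizingMap_of_isQuasiFlat f hf
  have hq := Groth.Agent.H70.QuasiFlat.isQuotientMap_of_generalizingMap f hgen
  constructor
  · rintro ⟨h1, h2⟩
    exact ⟨h1.preimage f.continuous, Groth.Agent.S15542.result f Z h2⟩
  · rintro ⟨h1, h2⟩
    have hpc : ProCons.IsProConstructible Z :=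
      ((Groth.Agent.S4586.result f (Or.inl inferInstance) Z).2.1).mpr h2
    refine ⟨?_, hpc⟩
    have hcl : f.base ⁻¹' closure Z = closure (f.base ⁻¹' Z) := by
      apply subset_antisymm
      · intro x hx
        obtain ⟨z, hz, hzx⟩ := exists_specializes_of_mem_closure_proCons Z hpc (f.base x) hx
        obtain ⟨x', hx'x, hx'⟩ := hgen hzx
        have : x' ∈ f.base ⁻¹' Z := by
          show f.base x' ∈ Z
          rw [hx']; exact hz
        exact closure_mono (Set.singleton_subset_iff.mpr this) (hx'x.mem_closure)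
      · exact f.continuous.closure_preimage_subset _
    rw [isLocallyClosed_iff_isOpen_coborder] at h1 ⊢
    rw [← hq.isOpen_preimage]
    have : f.base ⁻¹' coborder Z = coborder (f.base ⁻¹' Z) := by
      rw [coborder, coborder, Set.preimage_compl, Set.preimage_sdiff, hcl]
    rw [this]
    exact h1

end Groth.Agent.S4648
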