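import Groth.Statements.S4649
import Mathlib
import Groth.Agent.S4630
import Groth.Agent.S4631
import Groth.Agent.H70.LocDomain

set_option autoImplicit false
open CategoryTheory AlgebraicGeometry
universe u
open FBase

namespace Groth.Agent.S4649

open TopologicalSpace

section Top

variable {α : Type*} [TopologicalSpace α]

theorem isOpen_connectedComponent_of_noetherian [NoetherianSpace α] (x : α) :
    IsOpen (connectedComponent x) := by
  rw [← isClosed_compl_iff]
  have hfin := NoetherianSpace.finite_irreducibleComponents (α := α)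
  have h : (connectedComponent x)ᶜ =
      ⋃₀ {Z ∈ irreducibleComponents α | ¬ Z ⊆ connectedComponent x} := by
    ext y
    constructor
    · intro hy
      exact ⟨irreducibleComponent y, ⟨irreducibleComponent_mem_irreducibleComponents y,
        fun h => hy (h mem_irreducibleComponent)⟩, mem_irreducibleComponent⟩
    · rintro ⟨Z, ⟨hZ, hZx⟩, hyZ⟩ hy
      apply hZx
      have hZpre : IsPreconnected Z := hZ.1.isConnected.isPreconnected
      have h1 := hZpre.subset_connectedComponent hyZ
      rwa [← connectedComponent_eq hy] at h1
  rw [h, Set.sUnion_eq_biUnion]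
  have hfin' : {Z ∈ irreducibleComponents α | ¬ Z ⊆ connectedComponent x}.Finite :=
    hfin.subset (fun Z hZ => hZ.1)
  exact hfin'.isClosed_biUnion
    (fun Z hZ => isClosed_of_mem_irreducibleComponents Z hZ.1)

/-- the connected component containing an irreducible component -/
noncomputable def Φ (Z : irreducibleComponents α) : ConnectedComponents α :=
  ConnectedComponents.mk (Z.2.1.nonempty.some)

theorem Φ_eq (Z : irreducibleComponents α) (z : α) (hz : z ∈ Z.1) :
    Φ Z = ConnectedComponents.mk z := by
  unfold Φ
  rw [ConnectedComponents.coe_eq_coe']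
  exact Z.2.1.isConnected.isPreconnected.subset_connectedComponent hz (Z.2.1.nonempty.some_mem)

theorem Φ_surjective : Function.Surjective (Φ (α := α)) := by
  intro c
  obtain ⟨y, rfl⟩ := ConnectedComponents.surjective_coe c
  exact ⟨⟨irreducibleComponent y, irreducibleComponent_mem_irreducibleComponents y⟩,
    Φ_eq _ y mem_irreducibleComponent⟩

theorem Φ_injective (h : ∀ y : α, IsIrreducible (connectedComponent y)) :
    Function.Injective (Φ (α := α)) := by
  intro Z₁ Z₂ h12
  obtain ⟨z₁, hz₁⟩ := Z₁.2.1.nonempty
  obtain ⟨z₂, hz₂⟩ := Z₂.2.1.nonempty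
  have e1 : Φ Z₁ = ConnectedComponents.mk z₁ := Φ_eq _ _ hz₁
  have e2 : Φ Z₂ = ConnectedComponents.mk z₂ := Φ_eq _ _ hz₂
  have hc : connectedComponent z₂ = connectedComponent z₁ := by
    rw [← ConnectedComponents.coe_eq_coe, ← e1, ← e2, h12]
  have s1 : Z₁.1 ⊆ connectedComponent z₁ :=
    Z₁.2.1.isConnected.isPreconnected.subset_connectedComponent hz₁
  have s2 : Z₂.1 ⊆ connectedComponent z₁ :=
    hc ▸ Z₂.2.1.isConnected.isPreconnected.subset_connectedComponent hz₂
  have m1 : connectedComponent z₁ ⊆ Z₁.1 := Z₁.2.2 (h z₁) s1
  have m2 : connectedComponent z₁ ⊆ Z₂.1 := Z₂.2.2 (h z₁) s2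
  exact Subtype.ext (Set.Subset.antisymm (s1.trans m2) (s2.trans m1))

theorem connectedComponent_eq_of_injective (hinj : Function.Injective (Φ (α := α))) (y : α) :
    connectedComponent y = irreducibleComponent y := by
  apply Set.Subset.antisymm
  · intro c hc
    have h1 : Φ ⟨irreducibleComponent c, irreducibleComponent_mem_irreducibleComponents c⟩ =
        Φ ⟨irreducibleComponent y, irreducibleComponent_mem_irreducibleComponents y⟩ := by
      rw [Φ_eq _ c mem_irreducibleComponent, Φ_eq _ y mem_irreducibleComponent,
        ConnectedComponents.coe_eq_coe']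
      exact hc
    have h2 : irreducibleComponent c = irreducibleComponent y :=
      congrArg Subtype.val (hinj h1)
    rw [← h2]
    exact mem_irreducibleComponent
  · exact isIrreducible_irreducibleComponent.isConnected.isPreconnected.subset_connectedComponent
      mem_irreducibleComponent

end Top

section Sch

variable {Y : Scheme.{u}}

theorem isDomain_stalk_opens (U : Y.Opens) (y : ↥(U : Scheme.{u})) :
    IsDomain (Y.presheaf.stalk y.1) ↔ IsDomain ((U : Scheme.{u}).presheaf.stalk y) := by
  let e : Y.presheaf.stalk (U.ι y) ≃+* (U : Scheme.{u}).presheaf.stalk y :=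
    (asIso (U.ι.stalkMap y)).commRingCatIsoToRingEquiv
  constructor
  · intro h
    haveI : IsDomain (Y.presheaf.stalk (U.ι y)) := h
    exact MulEquiv.isDomain _ e.symm.toMulEquiv
  · intro h
    exact MulEquiv.isDomain _ e.toMulEquiv

theorem isIrreducible_connectedComponent [IsLocallyNoetherian Y] [CompactSpace Y]
    (h : ∀ y : Y, IsDomain (Y.presheaf.stalk y)) (y : Y) :
    IsIrreducible (connectedComponent y) := by
  haveI : IsNoetherian Y := {}
  let U : Y.Opens := ⟨connectedComponent y, isOpen_connectedComponent_of_noetherian y⟩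
  haveI : ConnectedSpace ↥(U : Scheme.{u}) :=
    isConnected_iff_connectedSpace.mp (isConnected_connectedComponent (x := y))
  have hU : ∀ s : ↥(U : Scheme.{u}), IsDomain ((U : Scheme.{u}).presheaf.stalk s) :=
    fun s => (isDomain_stalk_opens U s).mp (h s.1)
  haveI : IrreducibleSpace ↥(U : Scheme.{u}) :=
    Groth.Agent.H70.LocDomain.irreducibleSpace_of_connected_of_isDomain_stalk hU
  exact isIrreducible_iff_irreducibleSpace.mpr
    (show IrreducibleSpace ↥(connectedComponent y) from ‹IrreducibleSpace ↥(U : Scheme.{u})›)

theorem isDomain_stalk_of_eq [IsLocallyNoetherian Y] [CompactSpace Y] [IsReduced Y] (y : Y)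
    (hy : connectedComponent y = irreducibleComponent y) : IsDomain (Y.presheaf.stalk y) := by
  haveI : IsNoetherian Y := {}
  let U : Y.Opens := ⟨connectedComponent y, isOpen_connectedComponent_of_noetherian y⟩
  haveI : IrreducibleSpace ↥(U : Scheme.{u}) := by
    have : IsIrreducible (connectedComponent y) := hy ▸ isIrreducible_irreducibleComponent
    exact isIrreducible_iff_irreducibleSpace.mp this
  haveI : IsIntegral (U : Scheme.{u}) := isIntegral_of_irreducibleSpace_of_isReduced _
  exact (isDomain_stalk_opens U ⟨y, mem_connectedComponent⟩).mpr inferInstance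

end Sch


/-- Let X be a scheme of finite type over a field k and Ω an algebraically closed extension field of k.
Then X is geometrically pointwise integral over k (every local ring of every X ⊗_k K is a domain) if
and only if X is geometrically reduced over k and the number of irreducible components of X ⊗_k Ω
equals the number of connected components of X ⊗_k Ω (the geometric numbers of irreducible and of
connected components agree). -/
theorem result {k Ω : Type u} [Field k] [Field Ω] [Algebra k Ω] [IsAlgClosed Ω]
    {X : Scheme.{u}} (f : X ⟶ Spec (CommRingCat.of k)) [LocallyOfFiniteType f] [QuasiCompact f] :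
    (∀ x : X, FBase.IsGeomPtIntegralAt f x) ↔
      (GeometricallyReduced f ∧
        Nat.card ↥(irreducibleComponents ↥(FBase.bc f Ω)) = Nat.card (_root_.ConnectedComponents ↥(FBase.bc f Ω))) := by
  haveI : IsLocallyNoetherian (FBase.bc f Ω) := by
    unfold FBase.bc
    infer_instance
  haveI : CompactSpace ↥(FBase.bc f Ω) := by
    unfold FBase.bc
    exact QuasiCompact.compactSpace_of_compactSpace
      (Limits.pullback.snd f (Spec.map (CommRingCat.ofHom (algebraMap k Ω))))
  haveI : IsNoetherian (FBase.bc f Ω) := {}
  haveI : Finite ↥(irreducibleComponents ↥(FBase.bc f Ω)) :=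
    (NoetherianSpace.finite_irreducibleComponents (α := ↥(FBase.bc f Ω))).to_subtype
  have hred_iff : GeometricallyReduced f ↔ ∀ (K : Type u) [Field K] [Algebra k K],
      IsReduced (FBase.bc f K) := by
    rw [geometricallyReduced_iff]
    exact geometrically_iff_of_commRing_of_isClosedUnderIsomorphisms
  constructor
  · intro H
    refine ⟨hred_iff.mpr (fun K _ _ => ?_), ?_⟩
    · haveI : ∀ y : ↥(FBase.bc f K), _root_.IsReduced ((FBase.bc f K).presheaf.stalk y) :=
        fun y => by
          haveI := H ((FBase.bcπ f K) y) K y rfl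
          infer_instance
      exact isReduced_of_isReduced_stalk _
    · have hst : ∀ y : ↥(FBase.bc f Ω), IsDomain ((FBase.bc f Ω).presheaf.stalk y) :=
        fun y => H ((FBase.bcπ f Ω) y) Ω y rfl
      exact Nat.card_eq_of_bijective Φ
        ⟨Φ_injective (isIrreducible_connectedComponent hst), Φ_surjective⟩
  · rintro ⟨hred, hcard⟩
    haveI : IsReduced (FBase.bc f Ω) := hred_iff.mp hred Ω
    have hbij : Function.Bijective (Φ (α := ↥(FBase.bc f Ω))) :=
      Φ_surjective.bijective_of_nat_card_le hcard.le
    have hst : ∀ y : ↥(FBase.bc f Ω), IsDomain ((FBase.bc f Ω).presheaf.stalk y) :=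
      fun y => isDomain_stalk_of_eq y (connectedComponent_eq_of_injective hbij.1 y)
    haveI : Surjective (Spec.map (CommRingCat.ofHom (algebraMap k Ω))) :=
      ⟨fun x => ⟨(⊥ : PrimeSpectrum Ω), Subsingleton.elim _ _⟩⟩
    have hsurj : Function.Surjective (FBase.bcπ f Ω) := by
      unfold FBase.bcπ
      exact (Limits.pullback.fst f (Spec.map (CommRingCat.ofHom (algebraMap k Ω)))).surjective
    intro x
    obtain ⟨y, rfl⟩ := hsurj x
    rw [Groth.Agent.S4630.result f y, Groth.Agent.S4631.result (FBase.bcStr f Ω) y]
    exact hst y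

end Groth.Agent.S4649
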