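import Groth.Statements.S4650
import Mathlib

set_option autoImplicit false
open CategoryTheory AlgebraicGeometry
universe u
open FDesc

namespace Groth.Agent.S4650

section Aux

theorem aux {X Y : Type*} [TopologicalSpace X] [TopologicalSpace Y] [QuasiSober X] [QuasiSober Y]
    (f : X → Y) (hc : Continuous f) (hf : GeneralizingMap f) (T : Set X)
    (hT : T ∈ irreducibleComponents X) :
    closure (f '' T) ∈ irreducibleComponents Y := by
  have hTmax : Maximal IsIrreducible T := hT
  have hTirr : IsIrreducible T := hTmax.prop
  have hTcl : IsClosed T := isClosed_of_mem_irreducibleComponents T hT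
  obtain ⟨ξ, hξ⟩ := QuasiSober.sober hTirr hTcl
  have hξT : closure {ξ} = T := hξ.def
  have hcl : closure (f '' T) = closure {f ξ} := by
    rw [← hξT, closure_image_closure hc, Set.image_singleton]
  show Maximal IsIrreducible (closure (f '' T))
  refine ⟨?_, ?_⟩
  · rw [hcl]; exact isIrreducible_singleton.closure
  · intro Z hZ hle
    obtain ⟨η, hη⟩ := QuasiSober.sober hZ.closure isClosed_closure
    have hηdef : closure {η} = closure Z := hη.def
    have h1 : η ⤳ f ξ := by
      rw [specializes_iff_mem_closure, hηdef]
      apply subset_closure
      apply hle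
      apply subset_closure
      exact ⟨ξ, hξT ▸ subset_closure (Set.mem_singleton ξ), rfl⟩
    obtain ⟨ξ', hξ', hfξ'⟩ := hf h1
    have h2 : T ⊆ closure {ξ'} := by
      rw [← hξT]; exact (specializes_iff_closure_subset.mp hξ')
    have h3 : closure {ξ'} ⊆ T := hTmax.le_of_ge isIrreducible_singleton.closure h2
    have h4 : ξ' ∈ T := h3 (subset_closure (Set.mem_singleton ξ'))
    have h5 : η ∈ closure (f '' T) := subset_closure ⟨ξ', h4, hfξ'⟩
    calc Z ⊆ closure Z := subset_closure
      _ = closure {η} := hηdef.symm
      _ ⊆ closure (f '' T) := closure_minimal (Set.singleton_subset_iff.mpr h5) isClosed_closure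

end Aux

/-- Let f : X → Y be a morphism of schemes along which generizations lift (this holds for flat,
quasi-flat or open morphisms). Then every irreducible component of X dominates an irreducible
component of Y: the closure of its image is an irreducible component of Y. -/
theorem result {X Y : Scheme.{u}} (f : X ⟶ Y)
    (hf : GeneralizingMap ⇑f) (T : Set ↥X) (hT : T ∈ irreducibleComponents ↥X) :
    closure (⇑f '' T) ∈ irreducibleComponents ↥Y := by
  exact aux _ f.continuous hf T hT

end Groth.Agent.S4650
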