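import Groth.Statements.S4652
import Groth.Agent.H8.PullbackStalk
import Groth.Agent.H8.RankLocFree
import Groth.Agent.H8.LocFreeSections
import Groth.Agent.H8.FPAffine
import Groth.Agent.H8.UnitIso
import Groth.Agent.H8.FreeMod

set_option autoImplicit false
open CategoryTheory AlgebraicGeometry
universe u
open FDesc

namespace Groth.Agent.S4652

/-- Let X be a scheme, F a finitely presented O_X-module and x a point of X. Then F_x is a flat module
over the local ring O_{X,x} if and only if x has an open neighbourhood U such that the restriction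
of F to U is finite locally free. -/
theorem result {X : Scheme.{u}} (F : X.Modules) (hF : CohB1.IsFP F) (x : X) :
    FlatMod.IsFlatAt F x ↔ ∃ U : X.Opens, x ∈ U ∧ FlatMod.IsFinLocFree ((Scheme.Modules.pullback U.ι).obj F) := by
  haveI : SheafOfModules.IsFinitePresentation (R := X.ringCatSheaf) F := hF
  haveI : F.IsQuasicoherent := inferInstance
  constructor
  · intro hfl
    obtain ⟨U, hU, hxU, -⟩ := exists_isAffineOpen_mem_and_subset (x := x)
      (U := (⊤ : X.Opens)) trivial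
    haveI hfp : Module.FinitePresentation Γ(X, U) Γ(F, U) :=
      Groth.Agent.H8.finitePresentation_sections_of_isAffineOpen F hU
    haveI : Module.Free (X.presheaf.stalk x) (F.presheaf.stalk x) := by
      haveI : Module.Finite (X.presheaf.stalk x) (F.presheaf.stalk x) :=
        Groth.Agent.H8.finite_stalk_of_finite_sections F hU x hxU
      haveI : Module.Flat (X.presheaf.stalk x) (F.presheaf.stalk x) := hfl
      exact Module.free_of_flat_of_isLocalRing
    obtain ⟨f, hxf, n, ⟨e⟩⟩ :=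
      Groth.Agent.H8.exists_basicOpen_restrict_iso_freeMod_of_free_stalk F hU x hxU
    refine ⟨X.basicOpen f, hxf, ?_⟩
    have e0 : (Scheme.Modules.pullback (X.basicOpen f).ι).obj F ≅ FlatMod.freeMod _ n :=
      ((Scheme.Modules.restrictFunctorIsoPullback (X.basicOpen f).ι).app F).symm ≪≫ e
    intro y
    refine ⟨⊤, n, trivial, ⟨?_⟩⟩
    exact (Scheme.Modules.restrictFunctor (⊤ : (X.basicOpen f).toScheme.Opens).ι).mapIso e0 ≪≫
      Groth.Agent.H8.restrictFreeIso _ n
  · rintro ⟨U, hxU, hlf⟩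
    obtain ⟨W, n, hyW, ⟨e⟩⟩ := hlf ⟨x, hxU⟩
    haveI := Groth.Agent.H8.isQuasicoherent_pullback U.ι F
    obtain ⟨b⟩ := Groth.Agent.H8.exists_basis_stalk_of_restrict_iso
      ((Scheme.Modules.pullback U.ι).obj F) e ⟨x, hxU⟩ hyW
    obtain ⟨E⟩ := Groth.Agent.H8.nonempty_stalk_pullback_equiv U.ι F ⟨x, hxU⟩
    letI := (U.ι.stalkMap ⟨x, hxU⟩).hom.toAlgebra
    haveI : IsLocalHom (algebraMap (X.presheaf.stalk (U.ι ⟨x, hxU⟩))
        (U.toScheme.presheaf.stalk ⟨x, hxU⟩)) :=
      (inferInstance : IsLocalHom (U.ι.stalkMap ⟨x, hxU⟩).hom)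
    haveI : Module.Flat (X.presheaf.stalk (U.ι ⟨x, hxU⟩)) (U.toScheme.presheaf.stalk ⟨x, hxU⟩) :=
      Flat.stalkMap U.ι ⟨x, hxU⟩
    haveI : Module.FaithfullyFlat (X.presheaf.stalk (U.ι ⟨x, hxU⟩))
        (U.toScheme.presheaf.stalk ⟨x, hxU⟩) := Module.FaithfullyFlat.of_flat_of_isLocalHom
    haveI : Module.Free (U.toScheme.presheaf.stalk ⟨x, hxU⟩)
        (((Scheme.Modules.pullback U.ι).obj F).presheaf.stalk ⟨x, hxU⟩) := Module.Free.of_basis b
    haveI : Module.Flat (U.toScheme.presheaf.stalk ⟨x, hxU⟩)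
        (TensorProduct (X.presheaf.stalk (U.ι ⟨x, hxU⟩)) (U.toScheme.presheaf.stalk ⟨x, hxU⟩)
          (F.presheaf.stalk (U.ι ⟨x, hxU⟩))) := Module.Flat.of_linearEquiv E.symm
    exact Module.Flat.of_flat_tensorProduct (X.presheaf.stalk (U.ι ⟨x, hxU⟩))
      (F.presheaf.stalk (U.ι ⟨x, hxU⟩)) (U.toScheme.presheaf.stalk ⟨x, hxU⟩)

end Groth.Agent.S4652
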