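import Groth.Statements.S4653
import Groth.Agent.H7.SuppGenerization

set_option autoImplicit false
open CategoryTheory AlgebraicGeometry
universe u
open FDesc

namespace Groth.Agent.S4653

/-- Let f : X → Y be a morphism of schemes, F a quasi-coherent O_X-module of finite type which is flat
over Y, E a quasi-coherent O_Y-module of finite type, and x a point of X with image y. Then x is a
maximal point of the support of f^*E ⊗ F (a point of the support admitting no proper generization in
it) if and only if y is a maximal point of Supp E and x, viewed in the fibre f⁻¹(y), is a maximal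
point of the support of the restriction of F to that fibre. -/
theorem result {X Y : Scheme.{u}} (f : X ⟶ Y) (F : X.Modules) (hF : Coh.IsCoh F)
    (hfl : FlatMod.IsFlatOver f F) (E : Y.Modules) (hE : Coh.IsCoh E) (x : X) :
    (x ∈ CohB1.support (CohB1.tensorMod ((Scheme.Modules.pullback f).obj E) F) ∧
        ∀ z ∈ CohB1.support (CohB1.tensorMod ((Scheme.Modules.pullback f).obj E) F), z ⤳ x → z = x) ↔
      ((f x ∈ CohB1.support E ∧ ∀ w ∈ CohB1.support E, w ⤳ f x → w = f x) ∧
        (f.asFiber x ∈ CohB1.support ((Scheme.Modules.pullback (f.fiberι (f x))).obj F) ∧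
          ∀ z ∈ CohB1.support ((Scheme.Modules.pullback (f.fiberι (f x))).obj F), z ⤳ f.asFiber x → z = f.asFiber x)) := by
  have : F.IsQuasicoherent := hF.1
  have : Coh.IsQCoh F := hF.1
  rw [Groth.Agent.H7.SuppGenerization.support_tensor_pullback f F hF E hE,
    Groth.Agent.S4357.result (f.fiberι (f x)) F hF.2]
  have hιx : f.fiberι (f x) (f.asFiber x) = x := f.fiberι_asFiber x
  constructor
  · rintro ⟨⟨hxE, hxF⟩, hmax⟩
    refine ⟨⟨hxE, fun w hw hwx => ?_⟩, ⟨?_, fun z' hz' hz'x => ?_⟩⟩
    · obtain ⟨z, hzx, hzF, hfz⟩ :=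
        Groth.Agent.H7.SuppGenerization.exists_generization_mem_support f F hF x (hfl x) hxF w hwx
      have hzT : z ∈ f ⁻¹' CohB1.support E ∩ CohB1.support F := by
        refine ⟨?_, hzF⟩
        show f z ∈ CohB1.support E
        rw [hfz]; exact hw
      rw [← hfz, hmax z hzT hzx]
    · show f.fiberι (f x) (f.asFiber x) ∈ CohB1.support F
      rw [hιx]; exact hxF
    · have hzF : f.fiberι (f x) z' ∈ CohB1.support F := hz'
      have hfz : f (f.fiberι (f x) z') = f x := by
        have : f.fiberι (f x) z' ∈ Set.range (f.fiberι (f x)) := ⟨z', rfl⟩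
        rw [Scheme.Hom.range_fiberι] at this
        exact this
      have hzT : f.fiberι (f x) z' ∈ f ⁻¹' CohB1.support E ∩ CohB1.support F := by
        refine ⟨?_, hzF⟩
        show f (f.fiberι (f x) z') ∈ CohB1.support E
        rw [hfz]; exact hxE
      have hsp : f.fiberι (f x) z' ⤳ x := by
        have := hz'x.map (f.fiberι (f x)).continuous
        rwa [hιx] at this
      have h1 := hmax _ hzT hsp
      apply (f.fiberι (f x)).isEmbedding.injective
      rw [h1, hιx]
  · rintro ⟨⟨hyE, hymax⟩, ⟨hxF', hxmax⟩⟩
    have hxF : x ∈ CohB1.support F := by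
      have : f.fiberι (f x) (f.asFiber x) ∈ CohB1.support F := hxF'
      rwa [hιx] at this
    refine ⟨⟨hyE, hxF⟩, fun z hz hzx => ?_⟩
    obtain ⟨hzE, hzF⟩ := hz
    have hfz : f z = f x := hymax (f z) hzE (hzx.map f.continuous)
    have hzr : z ∈ Set.range (f.fiberι (f x)) := by
      rw [Scheme.Hom.range_fiberι]; exact hfz
    obtain ⟨z', rfl⟩ := hzr
    have hsp : z' ⤳ f.asFiber x := by
      rw [← (f.fiberι (f x)).isEmbedding.isInducing.specializes_iff, hιx]
      exact hzx
    rw [hxmax z' hzF hsp, hιx]

end Groth.Agent.S4653
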