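import Groth.Statements.S4656
import Mathlib

set_option autoImplicit false
open CategoryTheory AlgebraicGeometry
universe u
open FDesc

namespace Groth.Agent.S4656

section Aux
open TensorProduct

theorem flat_of_comp (A B C : Type u) [CommRing A] [CommRing B] [CommRing C]
    [Algebra A B] [Algebra B C] [Algebra A C] [IsScalarTower A B C]
    [Module.Flat A C] [Module.FaithfullyFlat B C] : Module.Flat A B := by
  rw [Module.Flat.iff_lTensor_preserves_injective_linearMap]
  intro N N' _ _ _ _ φ hφ
  have h1 : Function.Injective (φ.baseChange C) := by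
    rw [LinearMap.baseChange_eq_ltensor]
    exact Module.Flat.lTensor_preserves_injective_linearMap φ hφ
  have h2 : Function.Injective ((φ.baseChange B).baseChange C) := by
    rw [LinearMap.baseChange_baseChange]
    simp only [LinearMap.coe_comp, LinearEquiv.coe_coe]
    exact (LinearEquiv.injective _).comp (h1.comp (LinearEquiv.injective _))
  have h3 : Function.Injective ((φ.baseChange B).lTensor C) := by
    rwa [LinearMap.baseChange_eq_ltensor] at h2
  have h4 := (Module.FaithfullyFlat.lTensor_injective_iff_injective B C (φ.baseChange B)).mp h3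
  rwa [LinearMap.baseChange_eq_ltensor] at h4

theorem ringhom_aux {A B C : Type u} [CommRing A] [CommRing B] [CommRing C]
    [IsLocalRing B] [IsLocalRing C]
    (α : A →+* B) (β : B →+* C) [hloc : IsLocalHom β] (hβ : β.Flat) :
    (β.comp α).Flat ↔ α.Flat := by
  constructor
  · intro h
    algebraize [α, β, β.comp α]
    have : Module.FaithfullyFlat B C :=
      @Module.FaithfullyFlat.of_flat_of_isLocalHom _ _ _ _ _ _ _ hβ hloc
    exact flat_of_comp A B C
  · intro h; exact h.comp hβ

end Aux

/-- Let f : X → Y and g : Y → Z be morphisms of schemes and x a point of X at which f is flat (the local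
ring of X at x is flat over that of Y at f(x)). Then the composite g ∘ f is flat at x if and only if
g is flat at f(x). -/
theorem result {X Y Z : Scheme.{u}} (f : X ⟶ Y) (g : Y ⟶ Z) (x : X)
    (hf : (f.stalkMap x).hom.Flat) :
    ((f ≫ g).stalkMap x).hom.Flat ↔ (g.stalkMap (f x)).hom.Flat := by
  have hloc : IsLocalHom (f.stalkMap x).hom := f.toLRSHom.prop x
  have := ringhom_aux (g.stalkMap (f x)).hom (f.stalkMap x).hom hf
  rw [← this, Scheme.Hom.stalkMap_comp]
  rfl

end Groth.Agent.S4656
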