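import Groth.Statements.S4657
import Groth.Agent.S4636
import Groth.Agent.H7.ReducedTensorFlat
import Groth.Agent.H8.SuppClosed

set_option autoImplicit false
set_option linter.style.haveILetI false
open CategoryTheory AlgebraicGeometry
universe u
open AssSch

namespace Groth.Agent.S4657

open TopologicalSpace Groth.Agent.H7.SocleFlat Groth.Agent.H7.LengthFlat IsLocalRing

/-- In a Noetherian quasi-sober space, a maximal point lying in the closure of a set `D`
specializes to some point of `D`. -/
theorem exists_specializes_of_mem_closure {T : Type*} [TopologicalSpace T] [NoetherianSpace T]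
    [QuasiSober T] (x : T) (hmax : ∀ z : T, z ⤳ x → z = x) (D : Set T) (hx : x ∈ closure D) :
    ∃ u ∈ D, x ⤳ u := by
  classical
  have hfin : (irreducibleComponents T).Finite := NoetherianSpace.finite_irreducibleComponents
  have hSfin : {C ∈ irreducibleComponents T | x ∉ C}.Finite := hfin.subset (fun C hC => hC.1)
  have hcl : IsClosed (⋃ C ∈ {C ∈ irreducibleComponents T | x ∉ C}, C) :=
    hSfin.isClosed_biUnion (fun C hC => isClosed_of_mem_irreducibleComponents C hC.1)
  have hxO : x ∈ (⋃ C ∈ {C ∈ irreducibleComponents T | x ∉ C}, C)ᶜ := by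
    intro hmem
    rw [Set.mem_iUnion₂] at hmem
    obtain ⟨C, hC, hxC⟩ := hmem
    exact hC.2 hxC
  obtain ⟨u, huO, huD⟩ := mem_closure_iff.mp hx _ hcl.isOpen_compl hxO
  refine ⟨u, huD, ?_⟩
  have huC : u ∈ irreducibleComponent u := mem_irreducibleComponent
  have hCmem : irreducibleComponent u ∈ irreducibleComponents T :=
    irreducibleComponent_mem_irreducibleComponents u
  have hxC : x ∈ irreducibleComponent u := by
    by_contra hxC
    apply huO
    rw [Set.mem_iUnion₂]
    exact ⟨_, ⟨hCmem, hxC⟩, huC⟩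
  obtain ⟨g, hg⟩ := QuasiSober.sober (isIrreducible_irreducibleComponent (x := u))
    isClosed_irreducibleComponent
  have hgx : g ⤳ x := hg.specializes hxC
  have hgeq := hmax g hgx
  rw [hgeq] at hg
  exact hg.specializes huC

/-- A maximal point of a closed subset `Z` of a locally Noetherian scheme lying in the closure of
`U ∩ Z`, `U` open, lies in `U`. -/
theorem mem_open_of_maximal_of_mem_closure {X : Scheme.{u}} [IsLocallyNoetherian X] (Z : Set X)
    (hZ : IsClosed Z) (x : X) (hxZ : x ∈ Z) (hmax : ∀ z ∈ Z, z ⤳ x → z = x) (U : Set X)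
    (hU : IsOpen U) (hx : x ∈ closure (U ∩ Z)) : x ∈ U := by
  obtain ⟨W, hW, hxW, -⟩ := exists_isAffineOpen_mem_and_subset (x := x)
    (U := (⊤ : X.Opens)) trivial
  haveI : IsNoetherianRing Γ(X, W) := IsLocallyNoetherian.component_noetherian ⟨W, hW⟩
  haveI : NoetherianSpace ↥(W : Set X) := noetherianSpace_of_isAffineOpen W hW
  haveI : QuasiSober ↥(W : Set X) := W.isOpen.isOpenEmbedding_subtypeVal.quasiSober
  have hTcl : IsClosed {w : ↥(W : Set X) | (w : X) ∈ Z} := hZ.preimage continuous_subtype_val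
  haveI : NoetherianSpace {w : ↥(W : Set X) | (w : X) ∈ Z} := NoetherianSpace.set _
  haveI : QuasiSober {w : ↥(W : Set X) | (w : X) ∈ Z} := hTcl.isClosedEmbedding_subtypeVal.quasiSober
  have hmaxT : ∀ z : {w : ↥(W : Set X) | (w : X) ∈ Z}, z ⤳ (⟨⟨x, hxW⟩, hxZ⟩ : {w : ↥(W : Set X) | (w : X) ∈ Z}) →
      z = ⟨⟨x, hxW⟩, hxZ⟩ := by
    intro z hz
    have h1 : ((z : ↥(W : Set X)) : X) ⤳ x := hz.map (continuous_subtype_val.comp continuous_subtype_val)
    have h2 := hmax _ z.2 h1
    exact Subtype.ext (Subtype.ext h2)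
  have hxD : (⟨⟨x, hxW⟩, hxZ⟩ : {w : ↥(W : Set X) | (w : X) ∈ Z}) ∈
      closure {t : {w : ↥(W : Set X) | (w : X) ∈ Z} | ((t : ↥(W : Set X)) : X) ∈ U} := by
    rw [mem_closure_iff]
    intro O hO hxO
    obtain ⟨O₁, hO₁, rfl⟩ := isOpen_induced_iff.mp hO
    obtain ⟨O₂, hO₂, rfl⟩ := isOpen_induced_iff.mp hO₁
    obtain ⟨u, ⟨hu2, huW⟩, huU, huZ⟩ :=
      mem_closure_iff.mp hx (O₂ ∩ W) (hO₂.inter W.isOpen) ⟨hxO, hxW⟩
    exact ⟨⟨⟨u, huW⟩, huZ⟩, hu2, huU⟩
  obtain ⟨t, htD, hxt⟩ := exists_specializes_of_mem_closure _ hmaxT _ hxD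
  have hsp : x ⤳ ((t : ↥(W : Set X)) : X) := hxt.map (continuous_subtype_val.comp continuous_subtype_val)
  exact hsp.mem_open hU htD

section OpenRestrict

variable {X : Scheme.{u}} [IsLocallyNoetherian X] (U : X.Opens) (F : X.Modules)
  [F.IsQuasicoherent]

theorem mem_ass_restrict_iff (a : ↥U) :
    a ∈ AssSch.Ass ((Scheme.Modules.pullback U.ι).obj F) ↔ U.ι a ∈ AssSch.Ass F := by
  have hbij : Function.Bijective (U.ι.stalkMap a).hom :=
    ConcreteCategory.bijective_of_isIso (U.ι.stalkMap a)
  letI alg : Algebra (X.presheaf.stalk (U.ι a)) ((U : Scheme).presheaf.stalk a) :=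
    (U.ι.stalkMap a).hom.toAlgebra
  have hsurj : Function.Surjective
      (algebraMap (X.presheaf.stalk (U.ι a)) ((U : Scheme).presheaf.stalk a)) := hbij.2
  have hker : RingHom.ker
      (algebraMap (X.presheaf.stalk (U.ι a)) ((U : Scheme).presheaf.stalk a)) = ⊥ :=
    (RingHom.injective_iff_ker_eq_bot _).mp hbij.1
  obtain ⟨e2⟩ := Groth.Agent.H8.nonempty_stalk_pullback_equiv U.ι F a
  show IsAssociatedPrime _ _ ↔ IsAssociatedPrime _ _
  rw [isAssociatedPrime_maximalIdeal_iff, isAssociatedPrime_maximalIdeal_iff, hasSocle_congr e2,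
    hasSocle_iff_of_surjective (B := X.presheaf.stalk (U.ι a)) hsurj,
    hasSocle_baseChange_iff (F.presheaf.stalk (U.ι a)) hsurj ⊥ hker]
  simp only [Submodule.bot_smul, Submodule.mem_bot]
  rfl

omit [IsLocallyNoetherian X] in
theorem length_restrict_eq (a : ↥U) :
    Module.length ((U : Scheme).presheaf.stalk a)
        (((Scheme.Modules.pullback U.ι).obj F).presheaf.stalk a) =
      Module.length (X.presheaf.stalk (U.ι a)) (F.presheaf.stalk (U.ι a)) := by
  have hbij : Function.Bijective (U.ι.stalkMap a).hom :=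
    ConcreteCategory.bijective_of_isIso (U.ι.stalkMap a)
  letI alg : Algebra (X.presheaf.stalk (U.ι a)) ((U : Scheme).presheaf.stalk a) :=
    (U.ι.stalkMap a).hom.toAlgebra
  have hsurj : Function.Surjective
      (algebraMap (X.presheaf.stalk (U.ι a)) ((U : Scheme).presheaf.stalk a)) := hbij.2
  have hker : RingHom.ker
      (algebraMap (X.presheaf.stalk (U.ι a)) ((U : Scheme).presheaf.stalk a)) = ⊥ :=
    (RingHom.injective_iff_ker_eq_bot _).mp hbij.1
  obtain ⟨e2⟩ := Groth.Agent.H8.nonempty_stalk_pullback_equiv U.ι F a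
  rw [e2.length_eq, length_baseChange_surjective (F.presheaf.stalk (U.ι a)) hsurj ⊥ hker]
  have hbot : (⊥ : Ideal (X.presheaf.stalk (U.ι a))) •
      (⊤ : Submodule (X.presheaf.stalk (U.ι a)) (F.presheaf.stalk (U.ι a))) = ⊥ :=
    Submodule.bot_smul _
  exact (Submodule.quotEquivOfEqBot _ hbot).length_eq

end OpenRestrict

end Groth.Agent.S4657

namespace Groth.Agent.S4657

/-- Let X be a locally Noetherian scheme, U an open subset of X and F a coherent O_X-module such that U
∩ Supp F is dense in Supp F. Then F is a reduced module if and only if its restriction to U is a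
reduced module and F has no embedded associated points. -/
theorem result {X : Scheme.{u}} [IsLocallyNoetherian X] (U : X.Opens) (F : X.Modules)
    (hF : Coh.IsCoh F) (hdense : CohB1.support F ⊆ closure ((U : Set ↥X) ∩ CohB1.support F)) :
    AssSch.IsReducedMod F ↔ AssSch.IsReducedMod ((Scheme.Modules.pullback U.ι).obj F) ∧ AssSch.NoEmbedded F := by
  haveI : F.IsQuasicoherent := hF.1
  have hιinj : Function.Injective U.ι := U.ι.isOpenEmbedding.injective
  have hrange : ∀ x : X, x ∈ U → ∃ a : ↥U, U.ι a = x := by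
    intro x hxU
    have : x ∈ Set.range U.ι := by rw [Scheme.Opens.range_ι]; exact hxU
    exact this
  constructor
  · rintro ⟨hne, hlen⟩
    refine ⟨⟨?_, ?_⟩, hne⟩
    · intro a ha b hb hba
      have ha' := (mem_ass_restrict_iff U F a).mp ha
      have hb' := (mem_ass_restrict_iff U F b).mp hb
      exact hιinj (hne _ ha' _ hb' (hba.map U.ι.continuous))
    · intro a ha
      have ha' := (mem_ass_restrict_iff U F a).mp ha
      rw [length_restrict_eq U F a]
      exact hlen _ ha'
  · rintro ⟨⟨-, hlenU⟩, hne⟩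
    refine ⟨hne, ?_⟩
    intro x hx
    have hmaxAss : x ∈ AssSch.Ass F ∧ ∀ y ∈ AssSch.Ass F, y ⤳ x → y = x :=
      ⟨hx, fun y hy hyx => (hne x hx y hy hyx).symm⟩
    obtain ⟨hxnt, hxmax⟩ := (Groth.Agent.S4636.result F hF x).mp hmaxAss
    have hxsupp : x ∈ CohB1.support F := by
      intro hsub
      exact not_subsingleton _ hsub
    haveI : SheafOfModules.IsFiniteType (R := X.ringCatSheaf) F := hF.2
    have hcl : IsClosed (CohB1.support F) :=
      Groth.Agent.H8.isClosed_support_of_isFiniteType F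
    have hxU : x ∈ (U : Set X) := by
      refine mem_open_of_maximal_of_mem_closure (CohB1.support F) hcl x hxsupp ?_ U U.isOpen
        (hdense hxsupp)
      intro z hz hzx
      refine hxmax z ?_ hzx
      exact not_subsingleton_iff_nontrivial.mp hz
    obtain ⟨a, rfl⟩ := hrange x hxU
    have ha := (mem_ass_restrict_iff U F a).mpr hx
    rw [← length_restrict_eq U F a]
    exact hlenU a ha

end Groth.Agent.S4657
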