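import Groth.Statements.S4658
import Groth.Agent.H7.AssMonoClosure

set_option autoImplicit false
open CategoryTheory AlgebraicGeometry
universe u
open AssSch

namespace Groth.Agent.S4658

/-- Let X be a locally Noetherian scheme, F a quasi-coherent O_X-module and x a point of X; let Z be the
reduced closed subscheme of X whose underlying space is the closure of x, and O_Z its structure
sheaf viewed as an O_X-module. Then x is an associated point of F if and only if x has an open
neighbourhood U over which there is a monomorphism of O_U-modules O_Z|_U → F|_U. -/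
theorem result {X : Scheme.{u}} [IsLocallyNoetherian X] (F : X.Modules)
    (hF : Coh.IsQCoh F) (x : X) :
    x ∈ AssSch.Ass F ↔ ∃ (U : X.Opens), x ∈ U ∧
      ∃ φ : (Scheme.Modules.pullback U.ι).obj
              ((Scheme.Modules.pushforward (Scheme.IdealSheafData.vanishingIdeal ⟨closure {x}, isClosed_closure⟩).subschemeι).obj
                (Coh.structureModule (Scheme.IdealSheafData.vanishingIdeal ⟨closure {x}, isClosed_closure⟩).subscheme)) ⟶
            (Scheme.Modules.pullback U.ι).obj F, Mono φ := by
  have : F.IsQuasicoherent := hF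
  have hAss : x ∈ AssSch.Ass F ↔
      Groth.Agent.H7.SocleFlat.HasSocle (X.presheaf.stalk x) (F.presheaf.stalk x) :=
    Groth.Agent.H7.SocleFlat.isAssociatedPrime_maximalIdeal_iff _ _
  rw [hAss]
  constructor
  · intro h
    obtain ⟨W, hW, hxW, -⟩ := exists_isAffineOpen_mem_and_subset (x := x)
      (U := (⊤ : X.Opens)) trivial
    have : IsNoetherianRing Γ(X, W) := IsLocallyNoetherian.component_noetherian ⟨W, hW⟩
    obtain ⟨t, h1, h2⟩ :=
      Groth.Agent.H7.AssMonoClosure.exists_section_of_hasSocle F hW x hxW h
    obtain ⟨φ, hφ⟩ := Groth.Agent.H7.AssMonoClosure.exists_mono_of_section x F hW hxW t h1 h2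
    refine ⟨W, hxW, (Scheme.Modules.restrictFunctorIsoPullback W.ι).inv.app _ ≫ φ ≫
      (Scheme.Modules.restrictFunctorIsoPullback W.ι).hom.app _, ?_⟩
    infer_instance
  · rintro ⟨U, hxU, φ, hφ⟩
    exact Groth.Agent.H7.AssMonoClosure.hasSocle_of_mono x F U hxU
      ((Scheme.Modules.restrictFunctorIsoPullback U.ι).hom.app _ ≫ φ ≫
        (Scheme.Modules.restrictFunctorIsoPullback U.ι).inv.app _)

end Groth.Agent.S4658
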