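import Groth.Statements.S4672
import Mathlib
import Groth.Agent.S4650
import Groth.Agent.H37.ClosedSubBC

set_option autoImplicit false
open CategoryTheory AlgebraicGeometry
universe u
open FBase

namespace Groth.Agent.S4672

section Aux

open CategoryTheory.Limits

/-- Preimage of a preirreducible subset of the range under an inducing map. -/
lemma isPreirreducible_preimage_of_isInducing {A B : Type*} [TopologicalSpace A]
    [TopologicalSpace B] {e : A → B} (he : Topology.IsInducing e) {V : Set B}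
    (hV : IsPreirreducible V) (hVr : V ⊆ Set.range e) : IsPreirreducible (e ⁻¹' V) := by
  intro u v hu hv ⟨a, haV, hau⟩ ⟨b, hbV, hbv⟩
  obtain ⟨U, hU, rfl⟩ := he.isOpen_iff.mp hu
  obtain ⟨V', hV', rfl⟩ := he.isOpen_iff.mp hv
  obtain ⟨z, hzV, hzU, hzV'⟩ := hV U V' hU hV' ⟨e a, haV, hau⟩ ⟨e b, hbV, hbv⟩
  obtain ⟨c, rfl⟩ := hVr hzV
  exact ⟨c, hzV, hzU, hzV'⟩

/-- For an inducing map `e : A → B` with range `C`, a maximal irreducible subset `W` of `C`
pulls back to an irreducible component of `A`. -/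
lemma preimage_mem_irreducibleComponents_of_maximal {A B : Type*} [TopologicalSpace A]
    [TopologicalSpace B] {e : A → B} (he : Topology.IsInducing e) (hec : Continuous e)
    {C : Set B} (hC : Set.range e = C) {W : Set B}
    (hW : Maximal (fun V : Set B => IsIrreducible V ∧ V ⊆ C) W) :
    e ⁻¹' W ∈ irreducibleComponents A := by
  have hWr : W ⊆ Set.range e := hC ▸ hW.prop.2
  have himg : e '' (e ⁻¹' W) = W := Set.image_preimage_eq_of_subset hWr
  refine ⟨⟨?_, isPreirreducible_preimage_of_isInducing he hW.prop.1.2 hWr⟩, ?_⟩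
  · obtain ⟨w, hw⟩ := hW.prop.1.1
    obtain ⟨a, rfl⟩ := hWr hw
    exact ⟨a, hw⟩
  · intro A' hA' hle
    have h1 : IsIrreducible (e '' A') := hA'.image e hec.continuousOn
    have h2 : e '' A' ⊆ C := hC ▸ Set.image_subset_range e A'
    have h3 : W ⊆ e '' A' := by
      rw [← himg]; exact Set.image_mono hle
    have h4 : e '' A' ⊆ W := hW.le_of_ge ⟨h1, h2⟩ h3
    intro a ha
    exact h4 ⟨a, ha, rfl⟩

variable {k : Type u} [Field k] {X Y : Scheme.{u}}
  (f : X ⟶ Spec (CommRingCat.of k)) (g : Y ⟶ Spec (CommRingCat.of k))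

lemma generalizingMap_fst : GeneralizingMap (pullback.fst f g) := by
  have : Flat g := inferInstance
  have : Flat (pullback.fst f g) := inferInstance
  exact Flat.generalizingMap _

lemma generalizingMap_snd : GeneralizingMap (pullback.snd f g) := by
  have : Flat f := inferInstance
  have : Flat (pullback.snd f g) := inferInstance
  exact Flat.generalizingMap _

/-- A maximal irreducible subset of `p⁻¹(X') ∩ q⁻¹(Y')` dominates `X'`. -/
lemma subset_closure_image_fst (X' : Set X) (hX' : X' ∈ irreducibleComponents ↥X)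
    (Y' : Set Y) (hY' : IsClosed Y')
    (W : Set ↥(pullback f g))
    (hW : Maximal (fun V : Set ↥(pullback f g) => IsIrreducible V ∧
      V ⊆ ⇑(pullback.fst f g) ⁻¹' X' ∩ ⇑(pullback.snd f g) ⁻¹' Y') W) :
    X' ⊆ closure (⇑(pullback.fst f g) '' W) := by
  obtain ⟨X'', ιX, hιX, hrX⟩ :=
    Groth.Agent.H37.exists_closedImmersion_range X' (isClosed_of_mem_irreducibleComponents X' hX')
  obtain ⟨Y'', ιY, hιY, hrY⟩ := Groth.Agent.H37.exists_closedImmersion_range Y' hY'
  let e : pullback (ιX ≫ f) (ιY ≫ g) ⟶ pullback f g :=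
    pullback.map (ιX ≫ f) (ιY ≫ g) f g ιX ιY (𝟙 _) (by simp) (by simp)
  have he : IsClosedImmersion e := by
    have : MorphismProperty.IsStableUnderComposition @IsClosedImmersion :=
      MorphismProperty.IsMultiplicative.toIsStableUnderComposition
    exact MorphismProperty.pullbackMap (P := @IsClosedImmersion) hιX hιY rfl rfl
  have hre : Set.range e = ⇑(pullback.fst f g) ⁻¹' X' ∩ ⇑(pullback.snd f g) ⁻¹' Y' := by
    rw [← hrX, ← hrY]
    exact Scheme.Pullback.range_map _ _ _ _ _ _ _ _ _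
  have hA := preimage_mem_irreducibleComponents_of_maximal e.isEmbedding.isInducing
    e.continuous hre hW
  have : IrreducibleSpace X'' := by
    rw [Groth.Agent.H37.irreducibleSpace_iff_of_range ιX.isEmbedding hrX]
    exact hX'.1
  have hB := Groth.Agent.S4650.result (pullback.fst (ιX ≫ f) (ιY ≫ g))
    (generalizingMap_fst (ιX ≫ f) (ιY ≫ g)) _ hA
  rw [irreducibleComponents_eq_singleton, Set.mem_singleton_iff] at hB
  have hcomm : e ≫ pullback.fst f g = pullback.fst (ιX ≫ f) (ιY ≫ g) ≫ ιX :=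
    pullback.lift_fst _ _ _
  intro x hx
  rw [← hrX] at hx
  obtain ⟨x'', rfl⟩ := hx
  have h1 : x'' ∈ closure (⇑(pullback.fst (ιX ≫ f) (ιY ≫ g)) '' (⇑e ⁻¹' W)) := by
    rw [hB]; trivial
  have h2 := image_closure_subset_closure_image ιX.continuous ⟨x'', h1, rfl⟩
  refine closure_mono ?_ h2
  rintro _ ⟨_, ⟨a, ha, rfl⟩, rfl⟩
  refine ⟨e a, ha, ?_⟩
  rw [← Scheme.Hom.comp_apply, hcomm, Scheme.Hom.comp_apply]

/-- A maximal irreducible subset of `p⁻¹(X') ∩ q⁻¹(Y')` dominates `Y'`. -/
lemma subset_closure_image_snd (X' : Set X) (hX' : IsClosed X')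
    (Y' : Set Y) (hY' : Y' ∈ irreducibleComponents ↥Y)
    (W : Set ↥(pullback f g))
    (hW : Maximal (fun V : Set ↥(pullback f g) => IsIrreducible V ∧
      V ⊆ ⇑(pullback.fst f g) ⁻¹' X' ∩ ⇑(pullback.snd f g) ⁻¹' Y') W) :
    Y' ⊆ closure (⇑(pullback.snd f g) '' W) := by
  obtain ⟨X'', ιX, hιX, hrX⟩ := Groth.Agent.H37.exists_closedImmersion_range X' hX'
  obtain ⟨Y'', ιY, hιY, hrY⟩ :=
    Groth.Agent.H37.exists_closedImmersion_range Y' (isClosed_of_mem_irreducibleComponents Y' hY')
  let e : pullback (ιX ≫ f) (ιY ≫ g) ⟶ pullback f g :=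
    pullback.map (ιX ≫ f) (ιY ≫ g) f g ιX ιY (𝟙 _) (by simp) (by simp)
  have he : IsClosedImmersion e := by
    have : MorphismProperty.IsStableUnderComposition @IsClosedImmersion :=
      MorphismProperty.IsMultiplicative.toIsStableUnderComposition
    exact MorphismProperty.pullbackMap (P := @IsClosedImmersion) hιX hιY rfl rfl
  have hre : Set.range e = ⇑(pullback.fst f g) ⁻¹' X' ∩ ⇑(pullback.snd f g) ⁻¹' Y' := by
    rw [← hrX, ← hrY]
    exact Scheme.Pullback.range_map _ _ _ _ _ _ _ _ _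
  have hA := preimage_mem_irreducibleComponents_of_maximal e.isEmbedding.isInducing
    e.continuous hre hW
  have : IrreducibleSpace Y'' := by
    rw [Groth.Agent.H37.irreducibleSpace_iff_of_range ιY.isEmbedding hrY]
    exact hY'.1
  have hB := Groth.Agent.S4650.result (pullback.snd (ιX ≫ f) (ιY ≫ g))
    (generalizingMap_snd (ιX ≫ f) (ιY ≫ g)) _ hA
  rw [irreducibleComponents_eq_singleton, Set.mem_singleton_iff] at hB
  have hcomm : e ≫ pullback.snd f g = pullback.snd (ιX ≫ f) (ιY ≫ g) ≫ ιY :=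
    pullback.lift_snd _ _ _
  intro y hy
  rw [← hrY] at hy
  obtain ⟨y'', rfl⟩ := hy
  have h1 : y'' ∈ closure (⇑(pullback.snd (ιX ≫ f) (ιY ≫ g)) '' (⇑e ⁻¹' W)) := by
    rw [hB]; trivial
  have h2 := image_closure_subset_closure_image ιY.continuous ⟨y'', h1, rfl⟩
  refine closure_mono ?_ h2
  rintro _ ⟨_, ⟨a, ha, rfl⟩, rfl⟩
  refine ⟨e a, ha, ?_⟩
  rw [← Scheme.Hom.comp_apply, hcomm, Scheme.Hom.comp_apply]

end Aux

open CategoryTheory.Limits in
/-- Let X and Y be locally Noetherian schemes over a field k such that X ×_k Y is locally Noetherian,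
with projections p and q. Then a subset W of X ×_k Y is an irreducible component of X ×_k Y if and
only if there exist an irreducible component X' of X and an irreducible component Y' of Y such that
W is a maximal irreducible subset of p⁻¹(X') ∩ q⁻¹(Y') (that is, an irreducible component of the
space underlying X' ×_k Y' for the reduced structures on X' and Y'). -/
theorem result {k : Type u} [Field k] {X Y : Scheme.{u}}
    (f : X ⟶ Spec (CommRingCat.of k)) (g : Y ⟶ Spec (CommRingCat.of k)) [IsLocallyNoetherian X]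
    [IsLocallyNoetherian Y] [IsLocallyNoetherian (pullback f g)] (W : Set ↥(pullback f g)) :
    W ∈ irreducibleComponents ↥(pullback f g) ↔
      ∃ X' ∈ irreducibleComponents ↥X, ∃ Y' ∈ irreducibleComponents ↥Y,
        Maximal (fun V : Set ↥(pullback f g) => IsIrreducible V ∧ V ⊆ ⇑(pullback.fst f g) ⁻¹' X' ∩ ⇑(pullback.snd f g) ⁻¹' Y') W := by
  constructor
  · intro hW
    refine ⟨closure (⇑(pullback.fst f g) '' W),
      Groth.Agent.S4650.result _ (generalizingMap_fst f g) W hW,
      closure (⇑(pullback.snd f g) '' W),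
      Groth.Agent.S4650.result _ (generalizingMap_snd f g) W hW, ?_⟩
    refine ⟨⟨hW.1, fun w hw => ⟨subset_closure ⟨w, hw, rfl⟩, subset_closure ⟨w, hw, rfl⟩⟩⟩, ?_⟩
    intro V hV hle
    exact hW.2 hV.1 hle
  · rintro ⟨X', hX', Y', hY', hW⟩
    obtain ⟨W₁, hW₁, hWW₁⟩ :=
      exists_mem_irreducibleComponents_subset_of_isIrreducible W hW.prop.1
    have hX₁ := Groth.Agent.S4650.result _ (generalizingMap_fst f g) W₁ hW₁
    have hY₁ := Groth.Agent.S4650.result _ (generalizingMap_snd f g) W₁ hW₁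
    have h1 : X' ⊆ closure (⇑(pullback.fst f g) '' W₁) :=
      (subset_closure_image_fst f g X' hX' Y' (isClosed_of_mem_irreducibleComponents _ hY')
        W hW).trans (closure_mono (Set.image_mono hWW₁))
    have h2 : Y' ⊆ closure (⇑(pullback.snd f g) '' W₁) :=
      (subset_closure_image_snd f g X' (isClosed_of_mem_irreducibleComponents _ hX') Y' hY'
        W hW).trans (closure_mono (Set.image_mono hWW₁))
    have h1' : X' = closure (⇑(pullback.fst f g) '' W₁) := (hX'.eq_of_ge hX₁.prop h1).symm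
    have h2' : Y' = closure (⇑(pullback.snd f g) '' W₁) := (hY'.eq_of_ge hY₁.prop h2).symm
    have hsub : W₁ ⊆ ⇑(pullback.fst f g) ⁻¹' X' ∩ ⇑(pullback.snd f g) ⁻¹' Y' := by
      intro w hw
      refine ⟨?_, ?_⟩
      · show (pullback.fst f g) w ∈ X'
        rw [h1']; exact subset_closure ⟨w, hw, rfl⟩
      · show (pullback.snd f g) w ∈ Y'
        rw [h2']; exact subset_closure ⟨w, hw, rfl⟩
    have hle : W₁ ⊆ W := hW.le_of_ge ⟨hW₁.prop, hsub⟩ hWW₁
    have : W = W₁ := Set.Subset.antisymm hWW₁ hle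
    rw [this]; exact hW₁

end Groth.Agent.S4672
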