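import Groth.Statements.S4674
import Mathlib

set_option autoImplicit false
open scoped TensorProduct
universe u v w
open FDesc

namespace Groth.Agent.S4674

/-- Let B be a flat A-algebra and M a finitely presented A-module. Then the annihilator of the B-module
B ⊗_A M is the ideal of B generated by the image of the annihilator of M. -/
theorem result {A : Type u} {B : Type v} [CommRing A] [CommRing B] [Algebra A B]
    [Module.Flat A B] (M : Type w) [AddCommGroup M] [Module A M] [Module.FinitePresentation A M] :
    Module.annihilator B (B ⊗[A] M) = (Module.annihilator A M).map (algebraMap A B) := by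
  classical
  obtain ⟨n, m, hm⟩ := Module.Finite.exists_fin (R := A) (M := M)
  let φ : A →ₗ[A] (Fin n → M) := LinearMap.pi (fun i => LinearMap.toSpanSingleton A M (m i))
  have hker : ∀ a, a ∈ LinearMap.ker φ ↔ a ∈ Module.annihilator A M := by
    intro a
    rw [LinearMap.mem_ker, Module.mem_annihilator]
    constructor
    · intro h x
      have hx : x ∈ Submodule.span A (Set.range m) := hm ▸ Submodule.mem_top
      induction hx using Submodule.span_induction with
      | mem y hy =>
        obtain ⟨i, rfl⟩ := hy
        have := congrFun h i
        simpa [φ] using this
      | zero => simp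
      | add y z _ _ hy hz => rw [smul_add, hy, hz, add_zero]
      | smul r y _ hy => rw [smul_comm, hy, smul_zero]
    · intro h
      ext i
      simp [φ, h]
  apply le_antisymm
  · intro b hb
    rw [Module.mem_annihilator] at hb
    have h1 : (b ⊗ₜ[A] (1 : A)) ∈
        LinearMap.ker (TensorProduct.AlgebraTensorModule.lTensor B B φ) := by
      rw [LinearMap.mem_ker]
      apply (TensorProduct.piRight A B B (fun _ : Fin n => M)).injective
      ext i
      have := hb ((1 : B) ⊗ₜ[A] (m i))
      rw [TensorProduct.smul_tmul', smul_eq_mul, mul_one] at this
      simpa [φ] using this
    rw [Module.Flat.ker_lTensor_eq] at h1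
    obtain ⟨x, hx⟩ := h1
    have key : ∀ x : B ⊗[A] (LinearMap.ker φ),
        TensorProduct.rid A B
          (TensorProduct.AlgebraTensorModule.lTensor B B (LinearMap.ker φ).subtype x) ∈
          (Module.annihilator A M).map (algebraMap A B) := by
      intro x
      induction x using TensorProduct.induction_on with
      | zero => simp
      | tmul b' a =>
        simp only [TensorProduct.AlgebraTensorModule.lTensor_tmul, Submodule.subtype_apply,
          TensorProduct.rid_tmul]
        rw [Algebra.smul_def]
        exact Ideal.mul_mem_right _ _ (Ideal.mem_map_of_mem _ ((hker _).mp a.2))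
      | add x y hx hy =>
        rw [map_add, map_add]
        exact Ideal.add_mem _ hx hy
    have := key x
    rw [hx] at this
    simpa using this
  · rw [Ideal.map_le_iff_le_comap]
    intro a ha
    rw [Ideal.mem_comap, Module.mem_annihilator]
    intro x
    induction x using TensorProduct.induction_on with
    | zero => simp
    | tmul b' y =>
      rw [TensorProduct.smul_tmul', Algebra.algebraMap_eq_smul_one, smul_assoc, one_smul,
        TensorProduct.smul_tmul, (Module.mem_annihilator.mp ha) y, TensorProduct.tmul_zero]
    | add x y hx hy => rw [smul_add, hx, hy, add_zero]

end Groth.Agent.S4674
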