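import Groth.Statements.S4675
import Mathlib

set_option autoImplicit false
universe u v
open FDesc

namespace Groth.Agent.S4675

/-- Let B be a ring, not necessarily commutative, and V, W two left B-modules which are isomorphic. For
a B-linear map u : V → W the following are equivalent: every B-linear map V → W can be written
uniquely as u ∘ c with c a B-linear endomorphism of V (that is, u is a basis of Hom_B(V, W) for its
right module structure over End_B(V)); u is bijective. -/
theorem result {B : Type u} [Ring B] {V W : Type v} [AddCommGroup V] [AddCommGroup W]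
    [Module B V] [Module B W] (e : V ≃ₗ[B] W) (u : V →ₗ[B] W) :
    (∀ v : V →ₗ[B] W, ∃! c : V →ₗ[B] V, v = u ∘ₗ c) ↔ Function.Bijective u := by
  constructor
  · intro h
    -- e = u ∘ c for a unique c
    obtain ⟨c, hc, -⟩ := h (e : V →ₗ[B] W)
    -- surjectivity: u ∘ c = e is surjective
    have hsurj : Function.Surjective u := by
      intro w
      refine ⟨c (e.symm w), ?_⟩
      have := congrArg (fun f : V →ₗ[B] W => f (e.symm w)) hc
      simpa using this.symm
    -- injectivity: let d := c ∘ e.symm ∘ u; then u ∘ d = u = u ∘ id so d = id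
    have hd : u ∘ₗ (c ∘ₗ (e.symm : W →ₗ[B] V) ∘ₗ u) = u := by
      ext x
      have := congrArg (fun f : V →ₗ[B] W => f (e.symm (u x))) hc
      simpa using this.symm
    obtain ⟨c', -, hc'⟩ := h u
    have h1 : (c ∘ₗ (e.symm : W →ₗ[B] V) ∘ₗ u) = c' := hc' _ hd.symm
    have h2 : (LinearMap.id : V →ₗ[B] V) = c' := hc' _ (by simp)
    have h3 : (c ∘ₗ (e.symm : W →ₗ[B] V) ∘ₗ u) = LinearMap.id := h1.trans h2.symm
    refine ⟨?_, hsurj⟩
    intro x y hxy
    have hx := congrArg (fun f : V →ₗ[B] V => f x) h3
    have hy := congrArg (fun f : V →ₗ[B] V => f y) h3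
    simp only [LinearMap.comp_apply, LinearMap.id_apply, LinearEquiv.coe_coe] at hx hy
    rw [← hx, ← hy, hxy]
  · intro hu v
    let eu := LinearEquiv.ofBijective u hu
    refine ⟨(eu.symm : W →ₗ[B] V) ∘ₗ v, ?_, ?_⟩
    · ext x
      simp [eu]
    · intro c hc
      ext x
      subst hc
      simp [eu]

end Groth.Agent.S4675
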