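import Groth.Statements.S4678
import Groth.Agent.S1391
import Groth.Agent.H8.TensorStalk
import Groth.Agent.H8.PullbackStalk
import Groth.Agent.H49.FibreCritFib

set_option linter.style.haveILetI false

set_option autoImplicit false
open CategoryTheory AlgebraicGeometry
universe u
open FDesc

namespace Groth.Agent.S4678

open TensorProduct in
/-- If `N` is flat over `B` and `G` is a `B`-module which is flat over `A`, then `N ⊗[B] G` is flat
over `A`. -/
theorem flat_tensor_of_flat_of_flat {A B N G : Type u} [CommRing A] [CommRing B] [Algebra A B]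
    [AddCommGroup N] [Module B N] [Module A N] [IsScalarTower A B N] [Module.Flat B N]
    [AddCommGroup G] [Module B G] [Module A G] [IsScalarTower A B G] [Module.Flat A G] :
    Module.Flat A (N ⊗[B] G) := by
  rw [Module.Flat.iff_lTensor_preserves_injective_linearMap]
  intro P Q _ _ _ _ u hu
  let gu : G ⊗[A] P →ₗ[B] G ⊗[A] Q := AlgebraTensorModule.lTensor B G u
  have hgu : Function.Injective gu :=
    Module.Flat.lTensor_preserves_injective_linearMap (M := G) u hu
  have h1 : Function.Injective (gu.lTensor N) :=
    Module.Flat.lTensor_preserves_injective_linearMap (M := N) gu hgu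
  have hnat : ∀ z : (N ⊗[B] G) ⊗[A] P,
      AlgebraTensorModule.assoc A B B N G Q (u.lTensor (N ⊗[B] G) z) =
      gu.lTensor N (AlgebraTensorModule.assoc A B B N G P z) := by
    intro z
    induction z using TensorProduct.induction_on with
    | zero => simp
    | tmul w p =>
      induction w using TensorProduct.induction_on with
      | zero => simp
      | tmul n g => simp [gu]
      | add a b ha hb => simp only [TensorProduct.add_tmul, map_add, ha, hb]
    | add a b ha hb => simp only [map_add, ha, hb]
  intro a b hab
  apply (AlgebraTensorModule.assoc A B B N G P).injective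
  apply h1
  rw [← hnat, ← hnat, hab]

set_option maxHeartbeats 3200000 in
open CategoryTheory.Limits in
/-- Let f : X → Y, g : Y' → Y and h : Y' → Z be morphisms of schemes, X' = X ×_Y Y' with projections p :
X' → X and q : X' → Y', and x' a point of X'. Let F be a quasi-coherent O_X-module which is flat
over Y at p(x') and G' a quasi-coherent O_{Y'}-module which is flat over Z at q(x'). Then the
O_{X'}-module p^*F ⊗ q^*G' is flat over Z at x', for the structure morphism q followed by h. -/
theorem result {X Y Y' Z : Scheme.{u}} (f : X ⟶ Y) (g : Y' ⟶ Y) (h : Y' ⟶ Z)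
    (F : X.Modules) (hF : Coh.IsQCoh F) (G' : Y'.Modules) (hG' : Coh.IsQCoh G') (x' : ↥(pullback f g))
    (hFx : FlatMod.IsFlatOverAt f F (pullback.fst f g x')) (hGy : FlatMod.IsFlatOverAt h G' (pullback.snd f g x')) :
    FlatMod.IsFlatOverAt (pullback.snd f g ≫ h) (CohB1.tensorMod ((Scheme.Modules.pullback (pullback.fst f g)).obj F) ((Scheme.Modules.pullback (pullback.snd f g)).obj G')) x' := by
  haveI : F.IsQuasicoherent := hF
  haveI : G'.IsQuasicoherent := hG'
  have hc : IsPullback (pullback.fst f g) (pullback.snd f g) f g := IsPullback.of_hasPullback f g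
  have hP : FlatMod.IsFlatOverAt (pullback.snd f g)
      ((Scheme.Modules.pullback (pullback.fst f g)).obj F) x' :=
    Groth.Agent.S1391.result f (pullback.snd f g) (pullback.fst f g) g hc F hF x' hFx
  obtain ⟨E1⟩ := Groth.Agent.H8.nonempty_stalk_tensorMod_equiv
    ((Scheme.Modules.pullback (pullback.fst f g)).obj F)
    ((Scheme.Modules.pullback (pullback.snd f g)).obj G') x'
  obtain ⟨E2⟩ := Groth.Agent.H8.nonempty_stalk_pullback_equiv (pullback.snd f g) G' x'
  letI aB'C' : Algebra (Y'.presheaf.stalk (pullback.snd f g x'))
      ((pullback f g).presheaf.stalk x') := ((pullback.snd f g).stalkMap x').hom.toAlgebra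
  letI aAB' : Algebra (Z.presheaf.stalk (h (pullback.snd f g x')))
      (Y'.presheaf.stalk (pullback.snd f g x')) := (h.stalkMap (pullback.snd f g x')).hom.toAlgebra
  letI aAC' : Algebra (Z.presheaf.stalk (h (pullback.snd f g x')))
      ((pullback f g).presheaf.stalk x') :=
    (((pullback.snd f g).stalkMap x').hom.comp (h.stalkMap (pullback.snd f g x')).hom).toAlgebra
  haveI : IsScalarTower (Z.presheaf.stalk (h (pullback.snd f g x')))
      (Y'.presheaf.stalk (pullback.snd f g x')) ((pullback f g).presheaf.stalk x') :=
    IsScalarTower.of_algebraMap_eq fun _ => rfl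
  -- module structures on `N = (p^*F)_{x'}`
  letI mB'N : Module (Y'.presheaf.stalk (pullback.snd f g x'))
      (((Scheme.Modules.pullback (pullback.fst f g)).obj F).presheaf.stalk x') :=
    FlatMod.moduleStalkOver (pullback.snd f g) _ x'
  haveI : IsScalarTower (Y'.presheaf.stalk (pullback.snd f g x'))
      ((pullback f g).presheaf.stalk x')
      (((Scheme.Modules.pullback (pullback.fst f g)).obj F).presheaf.stalk x') :=
    IsScalarTower.of_algebraMap_smul fun r m => rfl
  haveI : Module.Flat (Y'.presheaf.stalk (pullback.snd f g x'))
      (((Scheme.Modules.pullback (pullback.fst f g)).obj F).presheaf.stalk x') := hP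
  letI mAN : Module (Z.presheaf.stalk (h (pullback.snd f g x')))
      (((Scheme.Modules.pullback (pullback.fst f g)).obj F).presheaf.stalk x') :=
    Module.compHom _ (algebraMap (Z.presheaf.stalk (h (pullback.snd f g x')))
      ((pullback f g).presheaf.stalk x'))
  haveI : IsScalarTower (Z.presheaf.stalk (h (pullback.snd f g x')))
      (Y'.presheaf.stalk (pullback.snd f g x'))
      (((Scheme.Modules.pullback (pullback.fst f g)).obj F).presheaf.stalk x') :=
    IsScalarTower.of_algebraMap_smul fun r m => rfl
  haveI : IsScalarTower (Z.presheaf.stalk (h (pullback.snd f g x')))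
      ((pullback f g).presheaf.stalk x')
      (((Scheme.Modules.pullback (pullback.fst f g)).obj F).presheaf.stalk x') :=
    IsScalarTower.of_algebraMap_smul fun r m => rfl
  -- module structures on `G = G'_{y'}`
  letI mAG : Module (Z.presheaf.stalk (h (pullback.snd f g x')))
      (G'.presheaf.stalk (pullback.snd f g x')) :=
    FlatMod.moduleStalkOver h G' (pullback.snd f g x')
  haveI : IsScalarTower (Z.presheaf.stalk (h (pullback.snd f g x')))
      (Y'.presheaf.stalk (pullback.snd f g x')) (G'.presheaf.stalk (pullback.snd f g x')) :=
    IsScalarTower.of_algebraMap_smul fun r m => rfl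
  haveI : Module.Flat (Z.presheaf.stalk (h (pullback.snd f g x')))
      (G'.presheaf.stalk (pullback.snd f g x')) := hGy
  haveI hflat : Module.Flat (Z.presheaf.stalk (h (pullback.snd f g x')))
      (TensorProduct (Y'.presheaf.stalk (pullback.snd f g x'))
        (((Scheme.Modules.pullback (pullback.fst f g)).obj F).presheaf.stalk x')
        (G'.presheaf.stalk (pullback.snd f g x'))) :=
    flat_tensor_of_flat_of_flat
  -- the total equivalence
  let Etot := E1 ≪≫ₗ
    (TensorProduct.congr (LinearEquiv.refl ((pullback f g).presheaf.stalk x')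
      (((Scheme.Modules.pullback (pullback.fst f g)).obj F).presheaf.stalk x')) E2) ≪≫ₗ
    (TensorProduct.AlgebraTensorModule.cancelBaseChange
      (Y'.presheaf.stalk (pullback.snd f g x')) ((pullback f g).presheaf.stalk x')
      ((pullback f g).presheaf.stalk x')
      (((Scheme.Modules.pullback (pullback.fst f g)).obj F).presheaf.stalk x')
      (G'.presheaf.stalk (pullback.snd f g x')))
  letI mAT : Module (Z.presheaf.stalk (h (pullback.snd f g x')))
      ((CohB1.tensorMod ((Scheme.Modules.pullback (pullback.fst f g)).obj F)
        ((Scheme.Modules.pullback (pullback.snd f g)).obj G')).presheaf.stalk x') :=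
    Module.compHom _ (algebraMap (Z.presheaf.stalk (h (pullback.snd f g x')))
      ((pullback f g).presheaf.stalk x'))
  haveI : IsScalarTower (Z.presheaf.stalk (h (pullback.snd f g x')))
      ((pullback f g).presheaf.stalk x')
      ((CohB1.tensorMod ((Scheme.Modules.pullback (pullback.fst f g)).obj F)
        ((Scheme.Modules.pullback (pullback.snd f g)).obj G')).presheaf.stalk x') :=
    IsScalarTower.of_algebraMap_smul fun r m => rfl
  have hres : Module.Flat (Z.presheaf.stalk (h (pullback.snd f g x')))
      ((CohB1.tensorMod ((Scheme.Modules.pullback (pullback.fst f g)).obj F)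
        ((Scheme.Modules.pullback (pullback.snd f g)).obj G')).presheaf.stalk x') :=
    Module.Flat.of_linearEquiv (Etot.restrictScalars (Z.presheaf.stalk (h (pullback.snd f g x'))))
  have hcomp : ((pullback.snd f g ≫ h).stalkMap x').hom =
      ((pullback.snd f g).stalkMap x').hom.comp (h.stalkMap (pullback.snd f g x')).hom :=
    Groth.Agent.H49.FibreCrit.stalkMap_comp_hom' (pullback.snd f g) h x'
  change @Module.Flat (Z.presheaf.stalk (h (pullback.snd f g x'))) _ _ _
    (Module.compHom _ ((pullback.snd f g ≫ h).stalkMap x').hom)
  rw [hcomp]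
  exact hres

end Groth.Agent.S4678
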