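import Groth.Statements.S4681
import Mathlib

set_option autoImplicit false
open CategoryTheory AlgebraicGeometry
universe u
open FDesc

namespace Groth.Agent.S4681

open TensorProduct

/-- Descent of flatness along a faithfully flat module. -/
theorem flat_of_faithfullyFlat_module (A B M : Type u) [CommRing A] [CommRing B] [Algebra A B]
    [AddCommGroup M] [Module A M] [Module B M] [IsScalarTower A B M]
    [Module.FaithfullyFlat B M] [Module.Flat A M] : Module.Flat A B := by
  rw [Module.Flat.iff_lTensor_preserves_injective_linearMap]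
  intro N N' _ _ _ _ f hf
  let g : B ⊗[A] N →ₗ[B] B ⊗[A] N' := f.baseChange B
  suffices hinj : Function.Injective g from hinj
  refine (Module.FaithfullyFlat.lTensor_injective_iff_injective B M g).mp ?_
  have hcomm : ∀ t : M ⊗[B] (B ⊗[A] N),
      (TensorProduct.AlgebraTensorModule.cancelBaseChange A B B M N') ((g.lTensor M) t) =
        (f.lTensor M) (TensorProduct.AlgebraTensorModule.cancelBaseChange A B B M N t) := by
    intro t
    induction t using TensorProduct.induction_on with
    | zero => simp
    | add x y hx hy => simp only [map_add, hx, hy]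
    | tmul m s =>
      induction s using TensorProduct.induction_on with
      | zero => simp
      | add x y hx hy => simp only [TensorProduct.tmul_add, map_add, hx, hy]
      | tmul b n => rfl
  intro t t' h
  have h1 := congrArg (TensorProduct.AlgebraTensorModule.cancelBaseChange A B B M N') h
  rw [hcomm, hcomm] at h1
  have h2 := Module.Flat.lTensor_preserves_injective_linearMap (M := M) f hf h1
  exact (TensorProduct.AlgebraTensorModule.cancelBaseChange A B B M N).injective h2

section alg
variable {A B C M : Type u} [CommRing A] [CommRing B] [CommRing C] [AddCommGroup M] [Module C M]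

theorem flat_comp (φ : A →+* B) (ψ : B →+* C) (χ : A →+* C) (hχ : χ = ψ.comp φ)
    (hφ : φ.Flat) (hM : @Module.Flat B M _ _ (Module.compHom M ψ)) :
    @Module.Flat A M _ _ (Module.compHom M χ) := by
  subst hχ
  letI : Algebra A B := φ.toAlgebra
  letI : Module B M := Module.compHom M ψ
  letI : Module A M := Module.compHom M (ψ.comp φ)
  haveI : IsScalarTower A B M := ⟨fun a b m => by
    show ψ (φ a * b) • m = ψ (φ a) • (ψ b • m)
    rw [map_mul, mul_smul]⟩
  haveI : Module.Flat A B := hφ
  haveI : Module.Flat B M := hM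
  exact Module.Flat.trans A B M

theorem flat_of_flat_comp [IsLocalRing B] (φ : A →+* B) (ψ : B →+* C) (χ : A →+* C)
    (hχ : χ = ψ.comp φ)
    (hB : @Module.Flat B M _ _ (Module.compHom M ψ))
    (hA : @Module.Flat A M _ _ (Module.compHom M χ))
    (hne : letI := Module.compHom M ψ
      IsLocalRing.maximalIdeal B • (⊤ : Submodule B M) ≠ ⊤) : φ.Flat := by
  subst hχ
  letI : Algebra A B := φ.toAlgebra
  letI : Module B M := Module.compHom M ψ
  letI : Module A M := Module.compHom M (ψ.comp φ)
  haveI : IsScalarTower A B M := ⟨fun a b m => by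
    show ψ (φ a * b) • m = ψ (φ a) • (ψ b • m)
    rw [map_mul, mul_smul]⟩
  haveI : Module.Flat B M := hB
  haveI : Module.Flat A M := hA
  haveI : Module.FaithfullyFlat B M :=
    { submodule_ne_top := fun m hm => by rw [IsLocalRing.eq_maximalIdeal hm]; exact hne }
  exact flat_of_faithfullyFlat_module A B M

theorem smul_top_ne_top_comp [IsLocalRing A] [IsLocalRing B] (φ : A →+* B)
    (ψ : B →+* C) (χ : A →+* C) (hχ : χ = ψ.comp φ) [IsLocalHom φ]
    (hne : letI := Module.compHom M ψ
      IsLocalRing.maximalIdeal B • (⊤ : Submodule B M) ≠ ⊤) :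
    letI := Module.compHom M χ
    IsLocalRing.maximalIdeal A • (⊤ : Submodule A M) ≠ ⊤ := by
  subst hχ
  letI instB : Module B M := Module.compHom M ψ
  letI instA : Module A M := Module.compHom M (ψ.comp φ)
  intro h
  apply hne
  rw [eq_top_iff]
  intro m _
  have hm : m ∈ IsLocalRing.maximalIdeal A • (⊤ : Submodule A M) := by rw [h]; trivial
  refine Submodule.smul_induction_on hm (fun a ha n _ => ?_) (fun x y hx hy => add_mem hx hy)
  have hsm : a • n = φ a • n := rfl
  rw [hsm]
  exact Submodule.smul_mem_smul (map_nonunit φ a ha) trivial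

end alg

/-- Let f : X → Y and g : Y → Z be morphisms of schemes and F a quasi-coherent O_X-module which is
faithfully flat relative to Y: flat over Y, and for every point y of Y there is a point x over y
with F_x ⊗ κ(y) ≠ 0. Then g is flat and surjective (faithfully flat) if and only if F is faithfully
flat relative to Z for the morphism f followed by g: flat over Z, and for every point z of Z there
is a point x of X over z with F_x ⊗ κ(z) ≠ 0. -/
theorem result {X Y Z : Scheme.{u}} (f : X ⟶ Y) (g : Y ⟶ Z)
    (F : X.Modules) (hF : Coh.IsQCoh F) (hFfl : FlatMod.IsFlatOver f F)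
    (hFff : (∀ y : ↥Y, ∃ x : ↥X, f x = y ∧
      letI := FlatMod.moduleStalkOver f F x
      IsLocalRing.maximalIdeal (Y.presheaf.stalk (f x)) • (⊤ : Submodule (Y.presheaf.stalk (f x)) (F.presheaf.stalk x)) ≠ ⊤)) :
    (Flat g ∧ Surjective g) ↔
      (FlatMod.IsFlatOver (f ≫ g) F ∧
        (∀ z : ↥Z, ∃ x : ↥X, (f ≫ g) x = z ∧
      letI := FlatMod.moduleStalkOver (f ≫ g) F x
      IsLocalRing.maximalIdeal (Z.presheaf.stalk ((f ≫ g) x)) • (⊤ : Submodule (Z.presheaf.stalk ((f ≫ g) x)) (F.presheaf.stalk x)) ≠ ⊤)) := by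
  constructor
  · rintro ⟨hflat, hsurj⟩
    haveI := hflat
    refine ⟨fun x => ?_, fun z => ?_⟩
    · exact flat_comp (g.stalkMap (f.base x)).hom (f.stalkMap x).hom ((f ≫ g).stalkMap x).hom
        (by rw [Scheme.Hom.stalkMap_comp]; rfl) (Flat.stalkMap g (f.base x)) (hFfl x)
    · obtain ⟨y, rfl⟩ := hsurj.surj z
      obtain ⟨x, rfl, hx⟩ := hFff y
      refine ⟨x, rfl, ?_⟩
      exact smul_top_ne_top_comp (g.stalkMap (f.base x)).hom
        (f.stalkMap x).hom ((f ≫ g).stalkMap x).hom (by rw [Scheme.Hom.stalkMap_comp]; rfl) hx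
  · rintro ⟨hfl, hff⟩
    refine ⟨?_, ⟨fun z => ?_⟩⟩
    · rw [Flat.iff_flat_stalkMap]
      intro y
      obtain ⟨x, rfl, hx⟩ := hFff y
      exact flat_of_flat_comp (g.stalkMap (f.base x)).hom
        (f.stalkMap x).hom ((f ≫ g).stalkMap x).hom (by rw [Scheme.Hom.stalkMap_comp]; rfl) (hFfl x) (hfl x) hx
    · obtain ⟨x, rfl, _⟩ := hff z
      exact ⟨f.base x, rfl⟩

end Groth.Agent.S4681
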