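import Groth.Statements.S4682
import Groth.Agent.H21.RedClosure2
import Groth.Agent.H38.GeomRedField

set_option autoImplicit false
open CategoryTheory AlgebraicGeometry
universe u
open FBase

namespace Groth.Agent.S4682

/-- Let Y be a scheme over a field K', let K be an extension field of K' which is separable over K'
(Spec K → Spec K' is geometrically reduced), let g : Y ⊗_{K'} K → Y be the projection and T a closed
subset of Y ⊗_{K'} K. Then T is defined over K' as a closed subset, that is T = g⁻¹(T') for some
closed subset T' of Y, if and only if the reduced closed subscheme of Y ⊗_{K'} K with support T is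
defined over K', that is, there is a quasi-coherent ideal sheaf of O_Y whose inverse image in Y
⊗_{K'} K is the vanishing ideal sheaf of T. -/
theorem result {K' K : Type u} [Field K'] [Field K] [Algebra K' K]
    {Y : Scheme.{u}} (fY : Y ⟶ Spec (CommRingCat.of K'))
    [GeometricallyReduced (Spec.map (CommRingCat.ofHom (algebraMap K' K)))]
    (T : TopologicalSpace.Closeds ↥(FBase.bc fY K)) :
    (∃ T' : TopologicalSpace.Closeds ↥Y, (T : Set ↥(FBase.bc fY K)) = ⇑(FBase.bcπ fY K) ⁻¹' (T' : Set ↥Y)) ↔
      ∃ J : Y.IdealSheafData, J.comap (FBase.bcπ fY K) = Scheme.IdealSheafData.vanishingIdeal T := by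
  set q : Spec (CommRingCat.of K) ⟶ Spec (CommRingCat.of K') :=
    Spec.map (CommRingCat.ofHom (algebraMap K' K)) with hq
  have main : ∀ (T : TopologicalSpace.Closeds ↥(Limits.pullback fY q)),
      (∃ T' : TopologicalSpace.Closeds ↥Y,
        (T : Set ↥(Limits.pullback fY q)) = ⇑(Limits.pullback.fst fY q) ⁻¹' (T' : Set ↥Y)) ↔
      ∃ J : Y.IdealSheafData, J.comap (Limits.pullback.fst fY q) =
        Scheme.IdealSheafData.vanishingIdeal T := by
    intro T
    constructor
    · rintro ⟨T', hT'⟩
      refine ⟨Scheme.IdealSheafData.vanishingIdeal T', ?_⟩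
      set J := Scheme.IdealSheafData.vanishingIdeal T' with hJ
      haveI hZ0 : IsReduced J.subscheme :=
        Groth.Agent.H21.RedClosure.isReduced_subscheme_vanishingIdeal T'
      have hZ : ∀ _ : PUnit.{u+1}, IsReduced J.subscheme := fun _ => hZ0
      have hZ' : ∀ _ : PUnit.{u+1}, IsReduced (Limits.pullback (J.subschemeι ≫ fY) q) := fun _ =>
        Groth.Agent.H38.GeomRedField.isReduced_pullback_specMap (J.subschemeι ≫ fY)
      have key := @Groth.Agent.H21.RedClosure.vanishingIdeal_closure_baseChange _ _ _ _ fY q _
        (fun _ : PUnit.{u+1} => J.subscheme) (fun _ => J.subschemeι) hZ hZ'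
      have h1 : TopologicalSpace.Closeds.closure (⋃ _ : PUnit.{u+1}, Set.range J.subschemeι) = T' := by
        ext1
        rw [TopologicalSpace.Closeds.coe_closure, Set.iUnion_const, J.range_subschemeι,
          Scheme.IdealSheafData.coe_support_vanishingIdeal]
        exact T'.isClosed.closure_eq
      have h2 : TopologicalSpace.Closeds.closure (⋃ _ : PUnit.{u+1}, Set.range
          (Limits.pullback.map (J.subschemeι ≫ fY) q fY q J.subschemeι (𝟙 _) (𝟙 _) (Category.comp_id _)
            ((Category.comp_id _).trans (Category.id_comp _).symm))) = T := by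
        ext1
        rw [TopologicalSpace.Closeds.coe_closure, Set.iUnion_const, Scheme.Pullback.range_map,
          J.range_subschemeι, Scheme.IdealSheafData.coe_support_vanishingIdeal, hT']
        have : Set.range (𝟙 (Spec (CommRingCat.of K)) : _ ⟶ _) = Set.univ := by
          rw [Set.range_eq_univ]; intro x; exact ⟨x, rfl⟩
        rw [this, Set.preimage_univ, Set.inter_univ]
        exact (T'.isClosed.preimage (Limits.pullback.fst fY q).continuous).closure_eq
      rw [h1, h2] at key
      exact key.symm
    · rintro ⟨J, hJ⟩
      refine ⟨J.support, ?_⟩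
      have h : SetLike.coe (J.comap (Limits.pullback.fst fY q)).support =
          SetLike.coe (Scheme.IdealSheafData.vanishingIdeal T).support := by rw [hJ]
      rw [Scheme.IdealSheafData.support_comap, Scheme.IdealSheafData.coe_support_vanishingIdeal] at h
      exact h.symm
  exact main T

end Groth.Agent.S4682
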