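import Groth.Statements.S4683
import Groth.Agent.H8.AssSch
import Groth.Agent.H8.Coh
import Groth.Agent.H8.StalkLocal
import Mathlib.RingTheory.Ideal.AssociatedPrime.Finiteness

set_option autoImplicit false
open CategoryTheory AlgebraicGeometry
universe u
open AssSch

namespace Groth.Agent.S4683

section Helpers

open CategoryTheory.Limits TopologicalSpace Opposite Groth.Agent.H8

/-- Over a Noetherian ring, if no element outside the prime `p` kills `l`, then some associated
prime of the module is contained in `p`. -/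
lemma exists_assPrime_le {A : Type u} [CommRing A] [IsNoetherianRing A] {L : Type u}
    [AddCommGroup L] [Module A L] (p : Ideal A) [p.IsPrime] (l : L)
    (h : ∀ s : A, s ∉ p → s • l ≠ 0) :
    ∃ P : Ideal A, IsAssociatedPrime P L ∧ P ≤ p := by
  have hne : LocalizedModule.mkLinearMap p.primeCompl L l ≠ 0 := by
    intro h0
    obtain ⟨s, hs⟩ := (IsLocalizedModule.eq_zero_iff p.primeCompl
      (LocalizedModule.mkLinearMap p.primeCompl L)).mp h0
    exact h s.1 s.2 hs
  haveI : Nontrivial (LocalizedModule p.primeCompl L) := ⟨⟨_, 0, hne⟩⟩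
  haveI : IsNoetherianRing (Localization.AtPrime p) :=
    IsLocalization.isNoetherianRing p.primeCompl _ inferInstance
  obtain ⟨Q, hQ⟩ := associatedPrimes.nonempty (Localization.AtPrime p)
    (LocalizedModule p.primeCompl L)
  have hQ' : IsAssociatedPrime Q (LocalizedModule p.primeCompl L) := hQ
  haveI := hQ'.isPrime
  refine ⟨Q.comap (algebraMap A (Localization.AtPrime p)), ?_, ?_⟩
  · exact Module.associatedPrimes.comap_mem_associatedPrimes_of_mem_associatedPrimes_of_isLocalizedModule_of_fg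
      p.primeCompl (LocalizedModule.mkLinearMap p.primeCompl L) Q hQ
      ((isNoetherianRing_iff_ideal_fg _).mp inferInstance _)
  · have h1 : Q ≤ IsLocalRing.maximalIdeal (Localization.AtPrime p) :=
      IsLocalRing.le_maximalIdeal hQ'.isPrime.ne_top
    have h2 := Ideal.comap_mono (f := algebraMap A (Localization.AtPrime p)) h1
    exact h2.trans (le_of_eq (IsLocalization.AtPrime.under_maximalIdeal (Localization.AtPrime p) p))

variable {X : Scheme.{u}}

/-- The point of an associated prime of the sections over a Noetherian affine open is an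
associated point. -/
lemma pointOfPrime_isAssPoint {U : X.Opens} (hU : IsAffineOpen U) [IsNoetherianRing Γ(X, U)]
    (N : X.Modules) [N.IsQuasicoherent] (P : Ideal Γ(X, U)) [hPp : P.IsPrime]
    (hP : IsAssociatedPrime P Γ(N, U)) :
    Curv2.IsAssPoint N (pointOfPrime hU P) := by
  rw [isAssPoint_iff_isAssociatedPrime hU N _ (pointOfPrime_mem hU P),
    primeIdealOf_pointOfPrime]
  exact hP

/-- If the associated points of `N` are `{z}`, a nonzero section of `N` over a Noetherian affine
open `U` forces `z ∈ U`, and its annihilator lies in the prime of `z`. -/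
lemma mem_of_section_ne_zero {U : X.Opens} (hU : IsAffineOpen U) [IsNoetherianRing Γ(X, U)]
    (N : X.Modules) [N.IsQuasicoherent] (z : X) (hN : AssSch.Ass N = {z})
    (l : Γ(N, U)) (hl : l ≠ 0) :
    ∃ hz : z ∈ U, (⊥ : Submodule Γ(X, U) Γ(N, U)).colon {l} ≤
      (hU.primeIdealOf ⟨z, hz⟩).asIdeal := by
  obtain ⟨P, hP, hle⟩ := exists_le_isAssociatedPrime_of_isNoetherianRing Γ(X, U) l hl
  haveI := hP.isPrime
  have hpt : pointOfPrime hU P ∈ AssSch.Ass N := pointOfPrime_isAssPoint hU N P hP
  rw [hN, Set.mem_singleton_iff] at hpt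
  have hz : z ∈ U := hpt ▸ pointOfPrime_mem hU P
  refine ⟨hz, ?_⟩
  rw [← eq_of_pointOfPrime_eq hU P z hz hpt]
  exact hle

/-- A morphism of modules vanishing on sections over all affine opens is zero. -/
lemma hom_eq_zero_of_affine {K N : X.Modules} (φ : K ⟶ N)
    (h : ∀ (U : X.Opens), IsAffineOpen U → ∀ k : Γ(K, U), φ.app U k = 0) : φ = 0 := by
  apply Scheme.Modules.hom_ext
  intro V
  refine ConcreteCategory.hom_ext _ _ fun s => ?_
  show φ.app V s = 0
  refine TopCat.Presheaf.section_ext ⟨N.presheaf, N.isSheaf⟩ V (φ.app V s) 0 (fun y hy => ?_)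
  obtain ⟨_, ⟨U, hU, rfl⟩, hyU, hUV⟩ := X.isBasis_affineOpens.exists_subset_of_mem_open
    (show y ∈ (V : Set X) from hy) V.isOpen
  have hUV' : U ≤ V := fun _ hz => hUV hz
  have e1 : N.presheaf.germ V y hy (φ.app V s) = stalkMap φ y (K.presheaf.germ V y hy s) :=
    (stalkMap_germ φ y hy s).symm
  have e2 : K.presheaf.germ V y hy s =
      K.presheaf.germ U y hyU (K.presheaf.map (homOfLE hUV').op s) :=
    (germ_res y K hUV' hyU s).symm
  rw [e1, e2, stalkMap_germ φ y hyU, h U hU, map_zero, map_zero]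

/-- A jointly monomorphic family of morphisms is jointly injective on sections. -/
lemma joint_injective_sections {ι : Type u} (M : X.Modules) (G : ι → X.Modules)
    (q : ∀ i, M ⟶ G i)
    (hm : ∀ (T : X.Modules) (a b : T ⟶ M), (∀ i, a ≫ q i = b ≫ q i) → a = b)
    (U : X.Opens) (m : Γ(M, U)) (h : ∀ i, (q i).app U m = 0) : m = 0 := by
  haveI : Mono (Pi.lift q) := ⟨fun a b hab => hm _ a b (fun i => by
    have := congrArg (fun t => t ≫ Pi.π G i) hab
    simpa using this)⟩
  haveI : PreservesLimit (Discrete.functor G) (sectionsFunctor (X := X) U) := by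
    unfold sectionsFunctor
    haveI : PreservesLimitsOfSize.{u,u} ((evaluation (Opens X)ᵒᵖ Ab.{u}).obj (op U)) :=
      inferInstance
    haveI : PreservesLimitsOfSize.{u,u} (Scheme.Modules.toPresheaf X) := inferInstance
    haveI : PreservesLimitsOfSize.{u,u} (Scheme.Modules.toPresheaf X ⋙
        (evaluation (Opens X)ᵒᵖ Ab.{u}).obj (op U)) := comp_preservesLimits _ _
    infer_instance
  have hD := isLimitOfPreserves (sectionsFunctor (X := X) U) (limit.isLimit (Discrete.functor G))
  have ht : (Pi.lift q).app U m = 0 := by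
    refine Concrete.isLimit_ext _ hD _ _ (fun j => ?_)
    show (Pi.π G j.as).app U ((Pi.lift q).app U m) = (Pi.π G j.as).app U 0
    rw [map_zero]
    have h0 : (Pi.lift q ≫ Pi.π G j.as).app U = (q j.as).app U := by rw [Pi.lift_π]
    have := congr($h0 m)
    exact this.trans (h j.as)
  exact app_injective_of_mono (Pi.lift q) U (ht.trans (map_zero _).symm)

variable [IsLocallyNoetherian X]

/-- The affine-local heart of the uniqueness of the primary components at non-embedded points. -/
lemma exists_smul_eq_zero (M : X.Modules) (hM : Coh.IsCoh M) (hne : AssSch.NoEmbedded M)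
    (G : ↥(AssSch.Ass M) → X.Modules) (q : ∀ x, M ⟶ G x)
    [∀ x, (G x).IsQuasicoherent] (hA : ∀ x, AssSch.Ass (G x) = {x.1})
    {U : X.Opens} (hU : IsAffineOpen U)
    (hJ : ∀ m : Γ(M, U), (∀ y, (q y).app U m = 0) → m = 0)
    (x₀ : ↥(AssSch.Ass M)) (hx₀ : x₀.1 ∈ U) (m : Γ(M, U)) (hm0 : (q x₀).app U m = 0) :
    ∃ s : Γ(X, U), s ∉ (hU.primeIdealOf ⟨x₀.1, hx₀⟩).asIdeal ∧ s • m = 0 := by
  classical
  haveI : M.IsQuasicoherent := hM.1
  haveI : IsNoetherianRing Γ(X, U) := IsLocallyNoetherian.component_noetherian ⟨U, hU⟩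
  haveI : Module.Finite Γ(X, U) Γ(M, U) := finite_sections_of_isCoh M hM hU
  set p := (hU.primeIdealOf ⟨x₀.1, hx₀⟩).asIdeal with hp
  -- each component is killed by an element outside `p`
  have hΦ : ∀ y : ↥(AssSch.Ass M), ∃ s : Γ(X, U), s ∉ p ∧ s • (q y).app U m = 0 := by
    intro y
    by_contra hcon
    push Not at hcon
    obtain ⟨P, hP, hPp⟩ := exists_assPrime_le p ((q y).app U m) hcon
    haveI := hP.isPrime
    have hpt : pointOfPrime hU P ∈ AssSch.Ass (G y) := pointOfPrime_isAssPoint hU (G y) P hP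
    rw [hA y, Set.mem_singleton_iff] at hpt
    have hsp : pointOfPrime hU P ⤳ x₀.1 := pointOfPrime_specializes hU P x₀.1 hx₀ hPp
    rw [hpt] at hsp
    have hxy : x₀.1 = y.1 := hne x₀.1 x₀.2 y.1 y.2 hsp
    have hxy' : x₀ = y := Subtype.ext hxy
    subst hxy'
    refine hcon 1 ?_ ?_
    · exact (Ideal.ne_top_iff_one p).mp (Ideal.IsPrime.ne_top inferInstance)
    · rw [one_smul]; exact hm0
  choose σ hσp hσ0 using hΦ
  -- only finitely many associated points lie in `U`
  have hfin : {y : ↥(AssSch.Ass M) | y.1 ∈ U}.Finite := by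
    let f : ↥(AssSch.Ass M) → Ideal Γ(X, U) := fun y =>
      if h : y.1 ∈ U then (hU.primeIdealOf ⟨y.1, h⟩).asIdeal else ⊥
    refine Set.Finite.of_finite_image (f := f) ?_ ?_
    · refine (associatedPrimes.finite Γ(X, U) Γ(M, U)).subset ?_
      rintro _ ⟨y, hy, rfl⟩
      have hy' : y.1 ∈ U := hy
      simp only [f, dif_pos hy']
      exact (isAssPoint_iff_isAssociatedPrime hU M y.1 hy').mp y.2
    · intro y hy y' hy' hff
      have hy1 : y.1 ∈ U := hy
      have hy1' : y'.1 ∈ U := hy'
      simp only [f, dif_pos hy1, dif_pos hy1'] at hff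
      exact Subtype.ext ((pointOfPrime_primeIdealOf hU y.1 hy1).symm.trans
        ((pointOfPrime_congr hU _ _ hff).trans (pointOfPrime_primeIdealOf hU y'.1 hy1')))
  refine ⟨∏ y ∈ hfin.toFinset, σ y, ?_, ?_⟩
  · have : ∏ y ∈ hfin.toFinset, σ y ∈ p.primeCompl :=
      Submonoid.prod_mem _ (fun y _ => hσp y)
    exact this
  · apply hJ
    intro y
    rw [Scheme.Modules.Hom.app_smul]
    by_cases hyU : y.1 ∈ U
    · have hyF : y ∈ hfin.toFinset := by
        rw [Set.Finite.mem_toFinset]; exact hyU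
      obtain ⟨c, hc⟩ := Finset.dvd_prod_of_mem σ hyF
      rw [hc, mul_comm, mul_smul, hσ0 y, smul_zero]
    · have hl0 : (q y).app U m = 0 := by
        by_contra hl
        obtain ⟨hz, -⟩ := mem_of_section_ne_zero hU (G y) y.1 (hA y) _ hl
        exact hyU hz
      rw [hl0, smul_zero]

/-- On affine opens, the kernel of one primary quotient at `x₀` is contained in the kernel of
any other. -/
lemma app_eq_zero_of_app_eq_zero (M : X.Modules) (hM : Coh.IsCoh M) (hne : AssSch.NoEmbedded M)
    (G : ↥(AssSch.Ass M) → X.Modules) (q : ∀ x, M ⟶ G x)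
    [∀ x, (G x).IsQuasicoherent] (hA : ∀ x, AssSch.Ass (G x) = {x.1})
    (hm : ∀ (T : X.Modules) (a b : T ⟶ M), (∀ x, a ≫ q x = b ≫ q x) → a = b)
    (x₀ : ↥(AssSch.Ass M)) (N' : X.Modules) [N'.IsQuasicoherent] (q' : M ⟶ N')
    (hA' : AssSch.Ass N' = {x₀.1})
    {U : X.Opens} (hU : IsAffineOpen U) (m : Γ(M, U)) (hm0 : (q x₀).app U m = 0) :
    q'.app U m = 0 := by
  haveI : IsNoetherianRing Γ(X, U) := IsLocallyNoetherian.component_noetherian ⟨U, hU⟩
  by_contra hl
  obtain ⟨hx₀, hle⟩ := mem_of_section_ne_zero hU N' x₀.1 hA' _ hl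
  obtain ⟨s, hs, hsm⟩ := exists_smul_eq_zero M hM hne G q hA hU
    (joint_injective_sections M G q hm U) x₀ hx₀ m hm0
  apply hs
  apply hle
  rw [Submodule.mem_colon_singleton, Submodule.mem_bot, ← Scheme.Modules.Hom.app_smul, hsm,
    map_zero]

end Helpers

/-- Let X be a locally Noetherian scheme and M a coherent O_X-module without embedded associated points.
Then M has only one reduced irredundant decomposition: if (q_x : M → G_x) and (q'_x : M → G'_x) are
two families of coherent quotients of M indexed by the associated points x of M, with Ass(G_x) =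
Ass(G'_x) = {x} for every x and each family jointly monomorphic (M embeds in the product), then for
every x there is an isomorphism G_x ≅ G'_x under M (it is unique, q_x being an epimorphism). -/
theorem result {X : Scheme.{u}} [IsLocallyNoetherian X] (M : X.Modules)
    (hM : Coh.IsCoh M) (hne : AssSch.NoEmbedded M)
    (G G' : ↥(AssSch.Ass M) → X.Modules) (q : ∀ x, M ⟶ G x) (q' : ∀ x, M ⟶ G' x)
    (hq : ∀ x, Epi (q x)) (hq' : ∀ x, Epi (q' x)) (hG : ∀ x, Coh.IsCoh (G x)) (hG' : ∀ x, Coh.IsCoh (G' x))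
    (hA : ∀ x, AssSch.Ass (G x) = {x.1}) (hA' : ∀ x, AssSch.Ass (G' x) = {x.1})
    (hm : ∀ (T : X.Modules) (a b : T ⟶ M), (∀ x, a ≫ q x = b ≫ q x) → a = b)
    (hm' : ∀ (T : X.Modules) (a b : T ⟶ M), (∀ x, a ≫ q' x = b ≫ q' x) → a = b) (x : ↥(AssSch.Ass M)) :
    ∃ e : G x ≅ G' x, q x ≫ e.hom = q' x := by
  classical
  haveI : ∀ y, (G y).IsQuasicoherent := fun y => (hG y).1
  haveI : ∀ y, (G' y).IsQuasicoherent := fun y => (hG' y).1
  haveI := hq x
  haveI := hq' x
  have h1 : Limits.kernel.ι (q x) ≫ q' x = 0 := hom_eq_zero_of_affine _ (fun U hU k => by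
    have hk : (q x).app U ((Limits.kernel.ι (q x)).app U k) = 0 :=
      Groth.Agent.H8.app_comp_eq_zero
        (ShortComplex.mk (Limits.kernel.ι (q x)) (q x) (Limits.kernel.condition _)) U k
    exact app_eq_zero_of_app_eq_zero M hM hne G q hA hm x (G' x) (q' x) (hA' x) hU _ hk)
  have h2 : Limits.kernel.ι (q' x) ≫ q x = 0 := hom_eq_zero_of_affine _ (fun U hU k => by
    have hk : (q' x).app U ((Limits.kernel.ι (q' x)).app U k) = 0 :=
      Groth.Agent.H8.app_comp_eq_zero
        (ShortComplex.mk (Limits.kernel.ι (q' x)) (q' x) (Limits.kernel.condition _)) U k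
    exact app_eq_zero_of_app_eq_zero M hM hne G' q' hA' hm' x (G x) (q x) (hA x) hU _ hk)
  refine ⟨⟨Abelian.epiDesc (q x) (q' x) h1, Abelian.epiDesc (q' x) (q x) h2, ?_, ?_⟩,
    Abelian.comp_epiDesc _ _ _⟩
  · rw [← cancel_epi (q x)]
    simp
  · rw [← cancel_epi (q' x)]
    simp

end Groth.Agent.S4683
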