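import Groth.Statements.S4684
import Groth.Agent.H7.FlatQuotMA
import Groth.Agent.H95.FlatQuot_ST
import Groth.Agent.H5.FlatQuot_TF
import Groth.Agent.H31.FlatQuot_ZT
import Groth.Agent.H79.FibreTF
import Groth.Agent.H22.QCohAbelian
import Groth.Agent.H8.QCohPush

set_option autoImplicit false
open CategoryTheory AlgebraicGeometry
universe u
open FDesc

namespace Groth.Agent.S4684

/-- Let Y be an integral locally Noetherian scheme all of whose local rings are regular of dimension at
most one, with generic point η; let f : X → Y be a morphism, i : X_η → X the inclusion of the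
generic fibre, F a quasi-coherent O_X-module and π : i^*F → G' a quotient of its restriction to the
generic fibre, with G' quasi-coherent. Then there exist a quasi-coherent quotient ρ : F → G of F
which is flat over Y and an isomorphism i^*G ≅ G' carrying i^*ρ to π; and any two such quotients are
isomorphic under F. (The published statement takes Y of dimension exactly one and constructs G as
the image of F in i_*G'.) -/
theorem result {X Y : Scheme.{u}} [IsIntegral Y] [IsLocallyNoetherian Y]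
    (hY : ∀ y : Y, IsRegularLocalRing (Y.presheaf.stalk y) ∧ ringKrullDim (Y.presheaf.stalk y) ≤ 1)
    (f : X ⟶ Y) (F : X.Modules) (hF : Coh.IsQCoh F) (G' : (f.fiber (genericPoint Y)).Modules) (hG' : Coh.IsQCoh G')
    (π : (Scheme.Modules.pullback (f.fiberι (genericPoint Y))).obj F ⟶ G') [Epi π] :
    (∃ (G : X.Modules) (ρ : F ⟶ G) (e : (Scheme.Modules.pullback (f.fiberι (genericPoint Y))).obj G ≅ G'),
        Epi ρ ∧ Coh.IsQCoh G ∧ FlatMod.IsFlatOver f G ∧
          (Scheme.Modules.pullback (f.fiberι (genericPoint Y))).map ρ ≫ e.hom = π) ∧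
      ∀ (G₁ G₂ : X.Modules) (ρ₁ : F ⟶ G₁) (ρ₂ : F ⟶ G₂)
        (e₁ : (Scheme.Modules.pullback (f.fiberι (genericPoint Y))).obj G₁ ≅ G')
        (e₂ : (Scheme.Modules.pullback (f.fiberι (genericPoint Y))).obj G₂ ≅ G'),
        Epi ρ₁ → Epi ρ₂ → Coh.IsQCoh G₁ → Coh.IsQCoh G₂ → FlatMod.IsFlatOver f G₁ → FlatMod.IsFlatOver f G₂ →
        (Scheme.Modules.pullback (f.fiberι (genericPoint Y))).map ρ₁ ≫ e₁.hom = π →
        (Scheme.Modules.pullback (f.fiberι (genericPoint Y))).map ρ₂ ≫ e₂.hom = π →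
        ∃ e : G₁ ≅ G₂, ρ₁ ≫ e.hom = ρ₂ := by
  classical
  haveI hFq : F.IsQuasicoherent := hF
  haveI hG'q : G'.IsQuasicoherent := hG'
  haveI : QuasiCompact (Y.fromSpecResidueField (genericPoint Y)) := inferInstance
  haveI : QuasiSeparated (Y.fromSpecResidueField (genericPoint Y)) := inferInstance
  haveI : QuasiCompact (f.fiberι (genericPoint Y)) :=
    inferInstanceAs (QuasiCompact (Limits.pullback.fst f (Y.fromSpecResidueField (genericPoint Y))))
  haveI : QuasiSeparated (f.fiberι (genericPoint Y)) :=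
    inferInstanceAs (QuasiSeparated (Limits.pullback.fst f (Y.fromSpecResidueField (genericPoint Y))))
  haveI hpush : ((Scheme.Modules.pushforward (f.fiberι (genericPoint Y))).obj G').IsQuasicoherent :=
    Groth.Agent.H8.isQuasicoherent_pushforward (f.fiberι (genericPoint Y)) G'
  have hηmem : ∀ (V : Y.Opens) (y : Y), y ∈ V → genericPoint Y ∈ V := by
    intro V y hy
    exact ((genericPoint_spec Y).mem_open_set_iff V.2).mpr ⟨y, trivial, hy⟩
  refine ⟨?_, ?_⟩
  · let adj := Scheme.Modules.pullbackPushforwardAdjunction (f.fiberι (genericPoint Y))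
    let φ : F ⟶ (Scheme.Modules.pushforward (f.fiberι (genericPoint Y))).obj G' :=
      adj.homEquiv F G' π
    let G : X.Modules := Abelian.image φ
    let ρ : F ⟶ G := Abelian.factorThruImage φ
    let m : G ⟶ (Scheme.Modules.pushforward (f.fiberι (genericPoint Y))).obj G' :=
      Abelian.image.ι φ
    have hfac : ρ ≫ m = φ := Abelian.image.fac φ
    haveI hGq : G.IsQuasicoherent := Groth.Agent.H22.QCohAbelian.isQuasicoherent_image φ
    haveI : Mono m := inferInstanceAs (Mono (Abelian.image.ι φ))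
    haveI : Epi ρ := inferInstanceAs (Epi (Abelian.factorThruImage φ))
    let e0 : (Scheme.Modules.pullback (f.fiberι (genericPoint Y))).obj G ⟶ G' :=
      (adj.homEquiv G G').symm m
    have hπ : (Scheme.Modules.pullback (f.fiberι (genericPoint Y))).map ρ ≫ e0 = π := by
      have h1 := adj.homEquiv_naturality_left_symm ρ m
      rw [hfac] at h1
      rw [← h1]
      exact (adj.homEquiv F G').symm_apply_apply π
    haveI : Mono e0 := Groth.Agent.H7.FlatQuotMA.mono_adjunct f G G' m
    haveI : Epi e0 := by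
      haveI : Epi ((Scheme.Modules.pullback (f.fiberι (genericPoint Y))).map ρ ≫ e0) := by
        rw [hπ]; infer_instance
      exact epi_of_epi ((Scheme.Modules.pullback (f.fiberι (genericPoint Y))).map ρ) e0
    haveI : IsIso e0 := isIso_of_mono_of_epi e0
    refine ⟨G, ρ, asIso e0, inferInstance, hGq, ?_, hπ⟩
    intro x
    haveI : IsRegularLocalRing (Y.presheaf.stalk (f.base x)) := (hY (f.base x)).1
    obtain ⟨hdom, hded⟩ := Groth.Agent.H79.FibreTF.isDedekindDomain_of_dim_le_one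
      (Y.presheaf.stalk (f.base x)) (hY (f.base x)).2
    haveI := hded
    exact Groth.Agent.H95.FlatQuot_ST.isFlatOverAt_of_torsionFree f G x
      (fun V hV hxV U hxU hUV a s ha h =>
        Groth.Agent.H5.FlatQuot_TF.smul_eq_zero_sections f G' m hV (hηmem V _ hxV) hUV a ha s h)
  · intro G₁ G₂ ρ₁ ρ₂ e₁ e₂ hρ₁ hρ₂ hq₁ hq₂ hf₁ hf₂ h₁ h₂
    haveI := hρ₁
    haveI := hρ₂
    have key : ∀ (G₁ G₂ : X.Modules) (ρ₁ : F ⟶ G₁) (ρ₂ : F ⟶ G₂)
        (e₁ : (Scheme.Modules.pullback (f.fiberι (genericPoint Y))).obj G₁ ≅ G')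
        (e₂ : (Scheme.Modules.pullback (f.fiberι (genericPoint Y))).obj G₂ ≅ G'),
        Coh.IsQCoh G₂ → FlatMod.IsFlatOver f G₂ →
        (Scheme.Modules.pullback (f.fiberι (genericPoint Y))).map ρ₁ ≫ e₁.hom = π →
        (Scheme.Modules.pullback (f.fiberι (genericPoint Y))).map ρ₂ ≫ e₂.hom = π →
        Limits.kernel.ι ρ₁ ≫ ρ₂ = 0 := by
      intro G₁ G₂ ρ₁ ρ₂ e₁ e₂ hq₂ hf₂ h₁ h₂
      haveI : G₂.IsQuasicoherent := hq₂
      apply Groth.Agent.H31.FlatQuot_ZT.eq_zero_of_pullback_map_eq_zero f hf₂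
      have h3 : (Scheme.Modules.pullback (f.fiberι (genericPoint Y))).map (Limits.kernel.ι ρ₁ ≫ ρ₂) ≫
          e₂.hom = 0 := by
        rw [Functor.map_comp, Category.assoc, h₂, ← h₁, ← Category.assoc, ← Functor.map_comp,
          Limits.kernel.condition, Functor.map_zero, Limits.zero_comp]
      exact (cancel_mono e₂.hom).mp (h3.trans Limits.zero_comp.symm)
    have k12 := key G₁ G₂ ρ₁ ρ₂ e₁ e₂ hq₂ hf₂ h₁ h₂
    have k21 := key G₂ G₁ ρ₂ ρ₁ e₂ e₁ hq₁ hf₁ h₂ h₁
    let c1 := Abelian.epiIsCokernelOfKernel (Limits.KernelFork.ofι (Limits.kernel.ι ρ₁) (Limits.kernel.condition ρ₁))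
      (Limits.kernelIsKernel ρ₁)
    let c2 := Abelian.epiIsCokernelOfKernel (Limits.KernelFork.ofι (Limits.kernel.ι ρ₂) (Limits.kernel.condition ρ₂))
      (Limits.kernelIsKernel ρ₂)
    let a : G₁ ⟶ G₂ := c1.desc (Limits.CokernelCofork.ofπ ρ₂ k12)
    let b : G₂ ⟶ G₁ := c2.desc (Limits.CokernelCofork.ofπ ρ₁ k21)
    have ha : ρ₁ ≫ a = ρ₂ := c1.fac (Limits.CokernelCofork.ofπ ρ₂ k12) Limits.WalkingParallelPair.one
    have hb : ρ₂ ≫ b = ρ₁ := c2.fac (Limits.CokernelCofork.ofπ ρ₁ k21) Limits.WalkingParallelPair.one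
    refine ⟨⟨a, b, ?_, ?_⟩, ha⟩
    · rw [← cancel_epi ρ₁, ← Category.assoc, ha, hb, Category.comp_id]
    · rw [← cancel_epi ρ₂, ← Category.assoc, hb, ha, Category.comp_id]

end Groth.Agent.S4684
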