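import Groth.Statements.S4690
import Groth.Agent.H9.DimFormulaEq
import Groth.Agent.H9.SchemeDimStalk
import Groth.Agent.S9686

set_option linter.style.haveILetI false

set_option autoImplicit false
universe u
open EGA4

namespace Groth.Agent.S4690

open AlgebraicGeometry CategoryTheory Groth.Agent.H9.FibreFormula Groth.Agent.H9.FibDim
  Groth.Agent.H9.DimFormulaEq Groth.Agent.H9.DimFormulaScheme Groth.Agent.H54

set_option backward.isDefEq.respectTransparency.types false in
/-- A nonempty scheme locally of finite type over a field has a point with residue field algebraic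
over the base field. -/
theorem exists_tdeg_eq_zero {k : Type u} [Field k] {F : Scheme.{u}}
    (s : F ⟶ Spec (CommRingCat.of k)) [LocallyOfFiniteType s] (z₀ : F) :
    ∃ z : F, tdeg s z = 0 := by
  obtain ⟨A, j, hj, ψ, hψ, hft, ⟨P₀, -⟩, -⟩ := exists_chart s z₀ ⊤ trivial
  haveI : Nontrivial A := by
    by_contra hne
    rw [not_nontrivial_iff_subsingleton] at hne
    exact (PrimeSpectrum.instIsEmptyOfSubsingleton (R := A)).false P₀
  obtain ⟨m, hm⟩ := Ideal.exists_maximal A
  refine ⟨j ⟨m, hm.isPrime⟩, ?_⟩
  have h1 := ringKrullDim_quotient_chart s j ψ hψ hft ⟨m, hm.isPrime⟩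
  have h2 : ringKrullDim (A ⧸ m) = 0 :=
    ringKrullDim_eq_zero_of_isField ((Ideal.Quotient.maximal_ideal_iff_isField_quotient m).mp hm)
  have h3 : ((tdeg s (j ⟨m, hm.isPrime⟩) : ℕ) : WithBot ℕ∞) = ((0 : ℕ) : WithBot ℕ∞) := by
    rw [← h1]; exact h2
  exact_mod_cast h3

/-- Cancellation of a natural number in `WithBot ℕ∞`. -/
theorem withBot_add_nat_cancel' (a b : WithBot ℕ∞) (n : ℕ)
    (h : a + (n : WithBot ℕ∞) = b + (n : WithBot ℕ∞)) : a = b := by
  induction a using WithBot.recBotCoe with
  | bot =>
    induction b using WithBot.recBotCoe with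
    | bot => rfl
    | coe b =>
      exfalso
      rw [WithBot.bot_add] at h
      rw [show ((n : ℕ) : WithBot ℕ∞) = (((n : ℕ) : ℕ∞) : WithBot ℕ∞) from rfl, ← WithBot.coe_add] at h
      exact WithBot.bot_ne_coe h
  | coe a =>
    induction b using WithBot.recBotCoe with
    | bot =>
      exfalso
      rw [WithBot.bot_add] at h
      rw [show ((n : ℕ) : WithBot ℕ∞) = (((n : ℕ) : ℕ∞) : WithBot ℕ∞) from rfl, ← WithBot.coe_add] at h
      exact WithBot.coe_ne_bot h
    | coe b =>
      rw [show ((n : ℕ) : WithBot ℕ∞) = (((n : ℕ) : ℕ∞) : WithBot ℕ∞) from rfl, ← WithBot.coe_add,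
        ← WithBot.coe_add, WithBot.coe_inj] at h
      rw [WithBot.coe_inj]
      exact (ENat.add_left_injective_of_ne_top (ENat.natCast_ne_top n)) h

/-- `a + n ≤ c` for all members of a family implies `iSup + n ≤ c`. -/
theorem iSup_add_nat_le {ι : Sort*} (a : ι → WithBot ℕ∞) (n : ℕ) (c : WithBot ℕ∞)
    (h : ∀ i, a i + (n : WithBot ℕ∞) ≤ c) : (⨆ i, a i) + (n : WithBot ℕ∞) ≤ c := by
  induction c using WithBot.recBotCoe with
  | bot =>
    have h0 : ∀ i, a i = ⊥ := by
      intro i
      have := le_bot_iff.mp (h i)
      by_contra hne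
      obtain ⟨d, hd⟩ := WithBot.ne_bot_iff_exists.mp hne
      rw [← hd, show ((n : ℕ) : WithBot ℕ∞) = (((n : ℕ) : ℕ∞) : WithBot ℕ∞) from rfl,
        ← WithBot.coe_add] at this
      exact WithBot.coe_ne_bot this
    have : (⨆ i, a i) = ⊥ := by
      rw [eq_bot_iff]; exact iSup_le fun i => (h0 i).le
    rw [this, WithBot.bot_add]
  | coe c =>
    induction c using ENat.recTopCoe with
    | top => exact le_top
    | coe m =>
      -- every `a i ≤ m - n`
      have h1 : ∀ i, a i ≤ ((m - n : ℕ) : WithBot ℕ∞) ∧ n ≤ m ∨ a i = ⊥ := by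
        intro i
        induction hi : a i using WithBot.recBotCoe with
        | bot => exact Or.inr rfl
        | coe d =>
          left
          have hh := h i
          rw [hi] at hh
          induction d using ENat.recTopCoe with
          | top =>
            exfalso
            rw [show ((n : ℕ) : WithBot ℕ∞) = (((n : ℕ) : ℕ∞) : WithBot ℕ∞) from rfl,
              ← WithBot.coe_add, top_add] at hh
            have : (⊤ : ℕ∞) ≤ ((m : ℕ) : ℕ∞) := by exact_mod_cast hh
            exact absurd (le_antisymm le_top this) (ENat.natCast_ne_top m)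
          | coe d =>
            have : d + n ≤ m := by exact_mod_cast hh
            have h5 : d ≤ m - n := by omega
            exact ⟨show ((d : ℕ∞) : WithBot ℕ∞) ≤ (((m - n : ℕ) : ℕ∞) : WithBot ℕ∞) from
              WithBot.coe_le_coe.mpr (by exact_mod_cast h5), by omega⟩
      by_cases hall : ∀ i, a i = ⊥
      · have : (⨆ i, a i) = ⊥ := by
          rw [eq_bot_iff]; exact iSup_le fun i => (hall i).le
        rw [this, WithBot.bot_add]; exact bot_le
      · push Not at hall
        obtain ⟨i₀, hi₀⟩ := hall
        have hnm : n ≤ m := by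
          rcases h1 i₀ with ⟨-, h⟩ | h
          · exact h
          · exact absurd h hi₀
        have h2 : (⨆ i, a i) ≤ ((m - n : ℕ) : WithBot ℕ∞) := by
          apply iSup_le
          intro i
          rcases h1 i with ⟨h, -⟩ | h
          · exact h
          · rw [h]; exact bot_le
        calc (⨆ i, a i) + (n : WithBot ℕ∞) ≤ ((m - n : ℕ) : WithBot ℕ∞) + (n : WithBot ℕ∞) := by
              gcongr
          _ = ((m : ℕ) : WithBot ℕ∞) := by
              have : m - n + n = m := by omega
              exact_mod_cast congrArg (fun t : ℕ => (t : WithBot ℕ∞)) this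

theorem result' {X Y : Scheme.{u}} (f : X ⟶ Y) [IsLocallyNoetherian Y]
    [LocallyOfFiniteType f] [IrreducibleSpace X] [IrreducibleSpace Y] (hf : DenseRange f.base) :
    topologicalKrullDim X ≤ topologicalKrullDim Y + topologicalKrullDim (f.fiber (genericPoint Y)) ∧
      ((∀ y : Y, CAlg.IsUniversallyCatenary (Y.presheaf.stalk y)) →
        (topologicalKrullDim X =
            topologicalKrullDim Y + topologicalKrullDim (f.fiber (genericPoint Y)) ↔
          topologicalKrullDim Y =
            ⨆ y ∈ Set.range f.base, ringKrullDim (Y.presheaf.stalk y))) := by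
  haveI : IsDominant f := ⟨hf⟩
  obtain ⟨E, hE⟩ := exists_trdeg_eq_nat f (genericPoint X)
  obtain ⟨hG, -⟩ := dim_generic_fiber_eq f E hE
  rw [hG]
  have part1 : topologicalKrullDim X ≤ topologicalKrullDim Y + E :=
    Groth.Agent.S9686.result f E (fun ξ hξ => by
      have := eq_genericPoint ξ hξ
      subst this
      exact hE.le)
  refine ⟨part1, fun huc => ?_⟩
  have hSY : (⨆ y ∈ Set.range f.base, ringKrullDim (Y.presheaf.stalk y)) ≤
      topologicalKrullDim Y := iSup₂_le fun y _ => ringKrullDim_stalk_le Y y
  have hXS : topologicalKrullDim X =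
      (⨆ y ∈ Set.range f.base, ringKrullDim (Y.presheaf.stalk y)) + (E : WithBot ℕ∞) := by
    apply le_antisymm
    · rw [topologicalKrullDim_eq_iSup_stalk X]
      apply iSup_le
      intro x
      obtain ⟨n, hn⟩ := exists_trdeg_eq_nat f x
      have heq := stalk_add_trdeg_eq f x (huc _) n E hn hE
      calc ringKrullDim (X.presheaf.stalk x)
          ≤ ringKrullDim (X.presheaf.stalk x) + n :=
            le_add_of_nonneg_right (by exact_mod_cast Nat.zero_le n)
        _ = ringKrullDim (Y.presheaf.stalk (f.base x)) + E := heq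
        _ ≤ _ := by
            gcongr
            exact le_iSup₂ (f := fun y _ => ringKrullDim (Y.presheaf.stalk y)) (f.base x) ⟨x, rfl⟩
    · rw [iSup_subtype']
      apply iSup_add_nat_le
      rintro ⟨y, x₀, rfl⟩
      obtain ⟨z, hz⟩ := exists_tdeg_eq_zero (fiberQ f (f.base x₀)) (f.asFiber x₀)
      have hfx := fiberι_mem f (f.base x₀) z
      have hn := trdeg_fiber_eq f (f.base x₀) z
      rw [hz] at hn
      have heq := stalk_add_trdeg_eq f (f.fiberι _ z) (huc _) 0 E hn hE
      rw [hfx] at heq
      rw [Nat.cast_zero, add_zero] at heq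
      rw [← heq]
      exact ringKrullDim_stalk_le X _
  constructor
  · intro h
    rw [hXS] at h
    exact (withBot_add_nat_cancel' _ _ E h).symm
  · intro h
    rw [hXS, ← h]


open AlgebraicGeometry CategoryTheory in
/-- Let Y be an irreducible locally Noetherian scheme, X an irreducible scheme and f : X → Y a dominant
morphism locally of finite type; let e be the dimension of the generic fibre of f. Then dim X ≤ dim
Y + e. If moreover every local ring of Y is universally catenary, the two sides are equal if and
only if dim Y equals the supremum of the dimensions of the local rings of Y at the points of f(X). -/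
theorem result {X Y : Scheme.{u}} (f : X ⟶ Y) [IsLocallyNoetherian Y]
    [LocallyOfFiniteType f] [IrreducibleSpace X] [IrreducibleSpace Y] (hf : DenseRange f.base) :
    topologicalKrullDim X ≤ topologicalKrullDim Y + topologicalKrullDim (f.fiber (genericPoint Y)) ∧
      ((∀ y : Y, CAlg.IsUniversallyCatenary (Y.presheaf.stalk y)) →
        (topologicalKrullDim X = topologicalKrullDim Y + topologicalKrullDim (f.fiber (genericPoint Y)) ↔
          topologicalKrullDim Y = ⨆ y ∈ Set.range f.base, ringKrullDim (Y.presheaf.stalk y))) := by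
  exact result' f hf

end Groth.Agent.S4690
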