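import Groth.Statements.S4692
import Groth.Agent.S4690
import Groth.Agent.H9.FibDimTarget

set_option linter.style.haveILetI false

set_option autoImplicit false
universe u
open EGA4

namespace Groth.Agent.S4692

open AlgebraicGeometry CategoryTheory Groth.Agent.H9.FibDim

theorem main {X Y : Scheme.{u}} (f : X ⟶ Y) [IsLocallyNoetherian Y]
    [LocallyOfFiniteType f] [IrreducibleSpace X]
    (hY : ∀ y : Y, CAlg.IsUniversallyCatenary (Y.presheaf.stalk y))
    (hsurj : Function.Surjective f.base) :
    ∃ (_ : IrreducibleSpace Y), topologicalKrullDim X =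
      topologicalKrullDim Y + topologicalKrullDim (f.fiber (genericPoint Y)) := by
  haveI hirr : IrreducibleSpace Y := by
    haveI : Nonempty Y := ⟨f.base (genericPoint X)⟩
    have h1 : IsIrreducible (Set.univ : Set Y) := by
      rw [← Set.image_univ_of_surjective hsurj]
      exact (IrreducibleSpace.isIrreducible_univ X).image f.base f.continuous.continuousOn
    exact (irreducibleSpace_def Y).mpr h1
  refine ⟨hirr, ?_⟩
  have hf : DenseRange f.base := hsurj.denseRange
  have h := (Groth.Agent.S4690.result f hf).2 hY
  rw [h, topologicalKrullDim_eq_iSup_stalk Y]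
  apply le_antisymm
  · apply iSup_le
    intro y
    exact le_iSup₂ (f := fun y _ => ringKrullDim (Y.presheaf.stalk y)) y (hsurj y)
  · exact iSup₂_le fun y _ => le_iSup (fun y => ringKrullDim (Y.presheaf.stalk y)) y

theorem result' {X Y : Scheme.{u}} (f : X ⟶ Y) [IsLocallyNoetherian Y]
    [LocallyOfFiniteType f] [IrreducibleSpace X]
    (hY : ∀ y : Y, CAlg.IsUniversallyCatenary (Y.presheaf.stalk y))
    (n : ℕ) :
    ((∀ y : Y, (n : WithBot ℕ∞) ≤ topologicalKrullDim (f.fiber y)) →
        topologicalKrullDim Y + n ≤ topologicalKrullDim X) ∧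
      ((∀ y : Y, topologicalKrullDim (f.fiber y) = n) →
        topologicalKrullDim X = topologicalKrullDim Y + n) := by
  have hsurj_of : (∀ y : Y, (n : WithBot ℕ∞) ≤ topologicalKrullDim (f.fiber y)) →
      Function.Surjective f.base := by
    intro h y
    have h0 : ((0 : ℕ) : WithBot ℕ∞) ≤ topologicalKrullDim (f.fiber y) :=
      le_trans (by exact_mod_cast Nat.zero_le n) (h y)
    obtain ⟨x, hx, -⟩ := (natCast_le_dim_fiber_iff f y 0).mp h0
    exact ⟨x, hx⟩
  constructor
  · intro h
    obtain ⟨hirr, heq⟩ := main f hY (hsurj_of h)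
    rw [heq]
    gcongr
    exact h _
  · intro h
    obtain ⟨hirr, heq⟩ := main f hY (hsurj_of fun y => (h y).ge)
    rw [heq, h]


open AlgebraicGeometry CategoryTheory in
/-- Let Y be a locally Noetherian scheme all of whose local rings are universally catenary, X an
irreducible scheme, f : X → Y a morphism locally of finite type and n a natural number. If every
fibre of f has dimension at least n then dim X ≥ dim Y + n; if every fibre has dimension exactly n
then dim X = dim Y + n. (The empty scheme has dimension ⊥, so either hypothesis forces f to be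
surjective.) -/
theorem result {X Y : Scheme.{u}} (f : X ⟶ Y) [IsLocallyNoetherian Y]
    [LocallyOfFiniteType f] [IrreducibleSpace X] (hY : ∀ y : Y, CAlg.IsUniversallyCatenary (Y.presheaf.stalk y))
    (n : ℕ) :
    ((∀ y : Y, (n : WithBot ℕ∞) ≤ topologicalKrullDim (f.fiber y)) →
        topologicalKrullDim Y + n ≤ topologicalKrullDim X) ∧
      ((∀ y : Y, topologicalKrullDim (f.fiber y) = n) →
        topologicalKrullDim X = topologicalKrullDim Y + n) := by
  exact result' f hY n

end Groth.Agent.S4692
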