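import Groth.Statements.S6263
import Mathlib

set_option autoImplicit false
universe u
open CAlg

namespace Groth.Agent.S6263

section Aux
open TensorProduct

theorem torsionfree_aux {R : Type u} [CommRing R] (N : Type u) [AddCommGroup N] [Module R N]
    [Module.Flat R N] (p : Ideal R) [p.IsPrime] (r : R) (hr : r ∉ p) (m : N)
    (hm : r • m ∈ p • (⊤ : Submodule R N)) : m ∈ p • (⊤ : Submodule R N) := by
  have hr0 : Ideal.Quotient.mk p r ∈ nonZeroDivisors (R ⧸ p) := by
    rw [mem_nonZeroDivisors_iff_ne_zero]
    rwa [Ne, Ideal.Quotient.eq_zero_iff_mem]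
  have hreg := Module.Flat.isSMulRegular_of_nonZeroDivisors (R := R ⧸ p)
    (M := (R ⧸ p) ⊗[R] N) (r := Ideal.Quotient.mk p r) hr0
  have h0 : (Submodule.Quotient.mk (r • m) : N ⧸ p • (⊤ : Submodule R N)) = 0 :=
    (Submodule.Quotient.mk_eq_zero _).mpr hm
  have hz : (Ideal.Quotient.mk p r) •
      (TensorProduct.quotTensorEquivQuotSMul N p).symm (Submodule.Quotient.mk m) = 0 := by
    have h1 : (Ideal.Quotient.mk p r) •
        (TensorProduct.quotTensorEquivQuotSMul N p).symm (Submodule.Quotient.mk m) =
        r • (TensorProduct.quotTensorEquivQuotSMul N p).symm (Submodule.Quotient.mk m) := by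
      rw [← Ideal.Quotient.algebraMap_eq, algebraMap_smul]
    rw [h1, ← map_smul, ← Submodule.Quotient.mk_smul, h0, map_zero]
  have hz0 : (TensorProduct.quotTensorEquivQuotSMul N p).symm (Submodule.Quotient.mk m) = 0 :=
    hreg (show _ • _ = _ • (0 : (R ⧸ p) ⊗[R] N) by rw [hz, smul_zero])
  have h2 : (Submodule.Quotient.mk m : N ⧸ p • (⊤ : Submodule R N)) = 0 :=
    (TensorProduct.quotTensorEquivQuotSMul N p).symm.injective
      (hz0.trans (map_zero (TensorProduct.quotTensorEquivQuotSMul N p).symm).symm)
  exact (Submodule.Quotient.mk_eq_zero _).mp h2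

theorem aux {R S : Type u} [CommRing R] [CommRing S] [Algebra R S] (N : Type u) [AddCommGroup N]
    [Module S N] [Module R N] [IsScalarTower R S N] [Module.Finite S N] [Module.Flat R N]
    (p p' : Ideal R) [p.IsPrime] [p'.IsPrime] (hle : p ≤ p') (q' : PrimeSpectrum S)
    (hq' : q' ∈ Module.support S N) (hover : q'.asIdeal.under R = p') :
    ∃ q : PrimeSpectrum S, q ≤ q' ∧ q ∈ Module.support S N ∧ q.asIdeal.under R = p := by
  have hJ : Module.annihilator S N ≤ q'.asIdeal := (Module.mem_support_iff_of_finite).mp hq'
  have hdisj : Disjoint ((p.map (algebraMap R S) ⊔ Module.annihilator S N : Ideal S) : Set S)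
      ((Submonoid.map (algebraMap R S) p.primeCompl ⊔ q'.asIdeal.primeCompl : Submonoid S) :
        Set S) := by
    rw [Set.disjoint_left]
    intro x hxI hxM
    obtain ⟨y, ⟨r, hr, rfl⟩, s, hs, rfl⟩ := Submonoid.mem_sup.mp hxM
    obtain ⟨a, ha, j, hj, haj⟩ := Submodule.mem_sup.mp hxI
    have h1 : ∀ a ∈ p.map (algebraMap R S), ∀ n : N, a • n ∈ p • (⊤ : Submodule R N) := by
      intro a ha
      refine Submodule.span_induction
        (p := fun a _ => ∀ n : N, a • n ∈ p • (⊤ : Submodule R N)) ?_ ?_ ?_ ?_ ha
      · rintro _ ⟨c, hc, rfl⟩ n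
        rw [algebraMap_smul]
        exact Submodule.smul_mem_smul hc Submodule.mem_top
      · intro n; rw [zero_smul]; exact Submodule.zero_mem _
      · intro x y _ _ hx hy n; rw [add_smul]; exact Submodule.add_mem _ (hx n) (hy n)
      · intro c x _ hx n
        rw [smul_eq_mul, mul_comm, mul_smul]
        exact hx (c • n)
    have h2 : ∀ n : N, s • n ∈ p • (⊤ : Submodule R N) := by
      intro n
      apply torsionfree_aux N p r hr
      have e : r • (s • n) = a • n := by
        rw [← algebraMap_smul S r (s • n), ← mul_smul, ← haj, add_smul,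
          Module.mem_annihilator.mp hj n, add_zero]
      rw [e]; exact h1 a ha n
    have h3 : LinearMap.range (algebraMap S (Module.End S N) s) ≤
        q'.asIdeal • (⊤ : Submodule S N) := by
      rintro _ ⟨n, rfl⟩
      rw [Module.algebraMap_end_apply]
      refine Submodule.smul_induction_on (h2 n) ?_ ?_
      · intro c hc m _
        rw [← algebraMap_smul S c m]
        refine Submodule.smul_mem_smul ?_ Submodule.mem_top
        have hc' : c ∈ q'.asIdeal.under R := hover ▸ hle hc
        exact hc'
      · intro x y hx hy; exact Submodule.add_mem _ hx hy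
    obtain ⟨P, hPmonic, -, hPcoeff, hPeval⟩ :=
      LinearMap.exists_monic_and_natDegree_eq_and_coeff_mem_pow_and_aeval_eq_zero S _ q'.asIdeal h3
    have h4 : P.eval s ∈ Module.annihilator S N := by
      rw [Module.mem_annihilator]
      intro n
      have e1 : Polynomial.aeval (algebraMap S (Module.End S N) s) P =
          algebraMap S (Module.End S N) (P.eval s) := by
        rw [Polynomial.aeval_algebraMap_apply, Polynomial.coe_aeval_eq_eval]
      have e2 := congrArg (fun f => f n) hPeval
      simp only [e1, Module.algebraMap_end_apply, LinearMap.zero_apply] at e2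
      exact e2
    have h5 : P.eval s ∈ q'.asIdeal := hJ h4
    have h6 : s ^ P.natDegree ∈ q'.asIdeal := by
      rw [Polynomial.eval_eq_sum_range, Finset.sum_range_succ, hPmonic.coeff_natDegree,
        one_mul] at h5
      have h7 : ∑ k ∈ Finset.range P.natDegree, P.coeff k * s ^ k ∈ q'.asIdeal := by
        refine Ideal.sum_mem _ fun k hk => Ideal.mul_mem_right _ _ ?_
        have hk' : k < P.natDegree := Finset.mem_range.mp hk
        exact Ideal.pow_le_self (by omega) (hPcoeff k)
      exact (Ideal.add_mem_iff_right _ h7).mp h5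
    exact hs (q'.isPrime.mem_of_pow_mem _ h6)
  obtain ⟨q, hqprime, hIq, hqM⟩ := Ideal.exists_le_prime_disjoint _ _ hdisj
  refine ⟨⟨q, hqprime⟩, ?_, ?_, ?_⟩
  · show q ≤ q'.asIdeal
    intro x hx
    by_contra hxq'
    exact Set.disjoint_left.mp hqM hx (Submonoid.mem_sup_right (show x ∈ q'.asIdeal.primeCompl from hxq'))
  · rw [Module.mem_support_iff_of_finite]; exact le_trans le_sup_right hIq
  · apply le_antisymm
    · intro r hr
      by_contra hrp
      exact Set.disjoint_left.mp hqM hr (Submonoid.mem_sup_left ⟨r, hrp, rfl⟩)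
    · intro r hr
      exact hIq (Ideal.mem_sup_left (Ideal.mem_map_of_mem _ hr))

end Aux

/-- For a ring map R → S and a finite S-module N which is flat as an R-module, generalizations lift
along the map from the support of N (a subset of Spec S) to Spec R: if p ≤ p' are primes of R and q'
is a prime of S in the support of N whose inverse image in R is p', then some prime q ≤ q' of S lies
in the support of N and has inverse image p. -/
theorem result {R S : Type u} [CommRing R] [CommRing S] [Algebra R S] (N : Type u) [AddCommGroup N] [Module S N] [Module R N] [IsScalarTower R S N] [Module.Finite S N] [Module.Flat R N] (p p' : Ideal R) [p.IsPrime] [p'.IsPrime] (hle : p ≤ p') (q' : PrimeSpectrum S) (hq' : q' ∈ Module.support S N) (hover : q'.asIdeal.under R = p') : ∃ q : PrimeSpectrum S, q ≤ q' ∧ q ∈ Module.support S N ∧ q.asIdeal.under R = p := by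
  exact aux N p p' hle q' hq' hover

end Groth.Agent.S6263
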