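import Groth.Statements.S4693
import Mathlib
import Groth.Agent.S6263

set_option autoImplicit false
universe u
open EGA4

namespace Groth.Agent.S4693

section Aux
open IsLocalRing

theorem aux (A B : Type u) [CommRing A] [CommRing B] [IsNoetherianRing A]
    [IsNoetherianRing B] [IsLocalRing A] [IsLocalRing B] [Algebra A B] [IsLocalHom (algebraMap A B)]
    (h0 : ringKrullDim (EGA4.FibRing A B) = 0) :
    ringKrullDim B ≤ ringKrullDim A ∧
      (∀ (N : Type u) [AddCommGroup N] [Module B N] [Module A N] [IsScalarTower A B N]
          [Module.Finite B N] [Module.Flat A N],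
          Module.support B N = Set.univ → ringKrullDim B = ringKrullDim A) := by
  have hsurj : Function.Surjective
      (Ideal.Quotient.mk ((maximalIdeal A).map (algebraMap A B))) := Ideal.Quotient.mk_surjective
  have himg : (maximalIdeal B).map (Ideal.Quotient.mk ((maximalIdeal A).map (algebraMap A B))) =
      maximalIdeal (EGA4.FibRing A B) := by
    have hmax : (Ideal.comap (Ideal.Quotient.mk ((maximalIdeal A).map (algebraMap A B)))
        (maximalIdeal (EGA4.FibRing A B))).IsMaximal :=
      Ideal.comap_isMaximal_of_surjective _ hsurj
    rw [← IsLocalRing.eq_maximalIdeal hmax, Ideal.map_comap_of_surjective _ hsurj]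
  have hht : ((maximalIdeal B).map
      (Ideal.Quotient.mk ((maximalIdeal A).map (algebraMap A B)))).height = 0 := by
    rw [himg]
    have h1 := IsLocalRing.maximalIdeal_height_eq_ringKrullDim (R := EGA4.FibRing A B)
    rw [h0] at h1
    exact_mod_cast h1
  constructor
  · have h1 := Ideal.height_le_height_add_of_liesOver (maximalIdeal A) (maximalIdeal B)
    rw [hht, add_zero] at h1
    rw [← IsLocalRing.maximalIdeal_height_eq_ringKrullDim (R := B),
      ← IsLocalRing.maximalIdeal_height_eq_ringKrullDim (R := A)]
    exact_mod_cast h1
  · intro N _ _ _ _ _ _ hsupp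
    haveI : Algebra.HasGoingDown A B := ⟨fun {p} _ Q _ hlt => by
      obtain ⟨q, hq1, hq2, hq3⟩ := Groth.Agent.S6263.result N p (Q.under A) hlt.le
        ⟨Q, inferInstance⟩ (hsupp ▸ Set.mem_univ _) rfl
      exact ⟨q.asIdeal, hq1, q.isPrime, ⟨hq3.symm⟩⟩⟩
    have h1 := Ideal.height_eq_height_add_of_liesOver_of_hasGoingDown (maximalIdeal A)
      (maximalIdeal B)
    rw [hht, add_zero] at h1
    rw [← IsLocalRing.maximalIdeal_height_eq_ringKrullDim (R := B),
      ← IsLocalRing.maximalIdeal_height_eq_ringKrullDim (R := A), h1]

end Aux

/-- Let A → B be a local homomorphism of Noetherian local rings such that the closed fibre ring B/m_A B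
has Krull dimension 0 (that is, m_A B is an ideal of definition of B). Then dim B ≤ dim A. If
moreover some finite B-module which is flat over A has support equal to all of Spec B (for instance
if B is flat over A), then dim B = dim A. -/
theorem result (A B : Type u) [CommRing A] [CommRing B] [IsNoetherianRing A]
    [IsNoetherianRing B] [IsLocalRing A] [IsLocalRing B] [Algebra A B] [IsLocalHom (algebraMap A B)]
    (h0 : ringKrullDim (EGA4.FibRing A B) = 0) :
    ringKrullDim B ≤ ringKrullDim A ∧
      (∀ (N : Type u) [AddCommGroup N] [Module B N] [Module A N] [IsScalarTower A B N] [Module.Finite B N]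
          [Module.Flat A N], Module.support B N = Set.univ → ringKrullDim B = ringKrullDim A) := by
  exact aux A B h0

end Groth.Agent.S4693
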