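import Groth.Statements.S4703
import Groth.Agent.H29.HomComp
import Groth.Agent.H29.FinDomain
import Groth.Agent.Lead.CompleteNoetherian
set_option maxHeartbeats 400000
set_option linter.style.haveILetI false

set_option autoImplicit false
universe u
open EGA4

namespace Groth.Agent.S4703

open TensorProduct

theorem regular_tensor_of_finite_domains (A : Type u) [CommRing A] [IsNoetherianRing A]
    [IsLocalRing A]
    (h : ∀ (B : Type u) [CommRing B] [IsDomain B] [Algebra A B] [Module.Finite A B]
        (q : Ideal (B ⊗[A] EGA4.Cpl A)) [q.IsPrime],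
        q.comap (algebraMap B (B ⊗[A] EGA4.Cpl A)) = ⊥ →
          IsRegularLocalRing (Localization.AtPrime q))
    (p : Ideal A) [p.IsPrime] (K : Type u) [Field K] [Algebra p.ResidueField K]
    [Module.Finite p.ResidueField K]
    [IsNoetherianRing (K ⊗[p.ResidueField] (p.Fiber (EGA4.Cpl A)))] :
    IsRegularRing (K ⊗[p.ResidueField] (p.Fiber (EGA4.Cpl A))) := by
  letI : Algebra (A ⧸ p) K :=
    ((algebraMap p.ResidueField K).comp (algebraMap (A ⧸ p) p.ResidueField)).toAlgebra
  haveI : IsScalarTower (A ⧸ p) p.ResidueField K := IsScalarTower.of_algebraMap_eq (fun _ => rfl)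
  letI : Algebra A K :=
    ((algebraMap p.ResidueField K).comp (algebraMap A p.ResidueField)).toAlgebra
  haveI : IsScalarTower A p.ResidueField K := IsScalarTower.of_algebraMap_eq (fun _ => rfl)
  haveI : IsScalarTower A (A ⧸ p) K := IsScalarTower.of_algebraMap_eq (fun x => by
    change algebraMap p.ResidueField K (algebraMap A p.ResidueField x) =
      algebraMap p.ResidueField K (algebraMap (A ⧸ p) p.ResidueField (algebraMap A (A ⧸ p) x))
    rw [← IsScalarTower.algebraMap_apply A (A ⧸ p) p.ResidueField])
  let e2 : K ⊗[p.ResidueField] (p.Fiber (EGA4.Cpl A)) ≃+* K ⊗[A] EGA4.Cpl A :=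
    (Algebra.TensorProduct.cancelBaseChange A p.ResidueField p.ResidueField K
      (EGA4.Cpl A)).toRingEquiv
  haveI : IsNoetherianRing (K ⊗[A] EGA4.Cpl A) :=
    isNoetherianRing_of_surjective (K ⊗[p.ResidueField] (p.Fiber (EGA4.Cpl A)))
      (K ⊗[A] EGA4.Cpl A) (e2 : _ →+* _) e2.surjective
  have hT' : IsRegularRing (K ⊗[A] EGA4.Cpl A) := by
    refine ⟨fun q' _ => ?_⟩
    exact Groth.Agent.H29.FinDomain.forall_loc_tensor_field
      (fun X _ => IsRegularLocalRing X)
      (fun X Y _ _ e h => @IsRegularLocalRing.of_ringEquiv X _ h Y _ e)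
      A (A ⧸ p) p.ResidueField K (EGA4.Cpl A) (fun B _ _ _ _ q _ hq => h B q hq) q'
  exact @IsRegularRing.of_ringEquiv _ _ _ _ e2.symm hT'

theorem regularHom_of_finite_domains (A : Type u) [CommRing A] [IsNoetherianRing A]
    [IsLocalRing A]
    (h : ∀ (B : Type u) [CommRing B] [IsDomain B] [Algebra A B] [Module.Finite A B]
        (q : Ideal (B ⊗[A] EGA4.Cpl A)) [q.IsPrime],
        q.comap (algebraMap B (B ⊗[A] EGA4.Cpl A)) = ⊥ →
          IsRegularLocalRing (Localization.AtPrime q)) :
    CAlg.IsRegularHom A (EGA4.Cpl A) := by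
  haveI : IsNoetherianRing (EGA4.Cpl A) :=
    Groth.Agent.Lead.isNoetherianRing_adicCompletion (IsLocalRing.maximalIdeal A)
      (IsLocalRing.maximalIdeal A).fg_of_isNoetherianRing
  refine ⟨AdicCompletion.flat_of_isNoetherian _, fun p _ => ?_⟩
  haveI hN : IsNoetherianRing (p.Fiber (EGA4.Cpl A)) :=
    Groth.Agent.H34.FibLoc.isNoetherianRing_fiber A (EGA4.Cpl A) p
  refine ⟨hN, ?_⟩
  intro K _ _ hfin
  haveI := hfin
  haveI : IsNoetherianRing (K ⊗[p.ResidueField] (p.Fiber (EGA4.Cpl A))) :=
    Groth.Agent.H29.HomComp.isNoetherianRing_tensor_finite _ _ K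
  exact regular_tensor_of_finite_domains A h p K

open TensorProduct in
/-- For the property 'geometrically regular', case of a local ring: let A be a Noetherian local ring
with completion Â. Then the formal fibres of A are geometrically regular (the completion map A → Â
is a regular homomorphism) if and only if, for every finite A-algebra B which is a domain and every
prime ideal q of B ⊗_A Â whose contraction to B is zero, the local ring of B ⊗_A Â at q is regular.
(The published statement is for semi-local rings; this row takes A local.) -/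
theorem result (A : Type u) [CommRing A] [IsNoetherianRing A] [IsLocalRing A] :
    CAlg.IsRegularHom A (EGA4.Cpl A) ↔
      ∀ (B : Type u) [CommRing B] [IsDomain B] [Algebra A B] [Module.Finite A B]
        (q : Ideal (B ⊗[A] EGA4.Cpl A)) [q.IsPrime],
        q.comap (algebraMap B (B ⊗[A] EGA4.Cpl A)) = ⊥ → IsRegularLocalRing (Localization.AtPrime q) := by
  constructor
  · intro hreg B _ _ _ _ q _ hq0
    haveI : Algebra.QuasiFinite A (FractionRing B) :=
      Algebra.QuasiFinite.trans A B (FractionRing B)
    have hK : IsRegularRing (FractionRing B ⊗[A] EGA4.Cpl A) :=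
      Groth.Agent.H29.HomComp.isRegularRing_tensor_field (B := A) (EGA4.Cpl A)
        (fun p _ => (hreg.2 p).2) (FractionRing B)
    have hT' : IsRegularRing ((B ⊗[A] EGA4.Cpl A) ⊗[B] FractionRing B) :=
      @IsRegularRing.of_ringEquiv _ _ _ _
        (Groth.Agent.H29.FinDomain.tensorFracEquiv A B (EGA4.Cpl A) (FractionRing B)).symm hK
    exact Groth.Agent.H29.FinDomain.loc_of_forall_fraction
      (fun X _ => IsRegularLocalRing X)
      (fun X Y _ _ e h => @IsRegularLocalRing.of_ringEquiv X _ h Y _ e)
      A B (EGA4.Cpl A) (FractionRing B)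
      (fun q' _ => hT'.isRegularLocalRing_localization q') q hq0
  · intro h
    exact regularHom_of_finite_domains A h

end Groth.Agent.S4703
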