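import Groth.Statements.S4704
import Groth.Agent.H29.HomComp
import Groth.Agent.S4705
import Groth.Agent.S9295

set_option maxHeartbeats 400000
set_option linter.style.haveILetI false

set_option autoImplicit false
universe u
open EGA4

namespace Groth.Agent.S4704

/-- Let A → A' be a local homomorphism of Noetherian local rings which is regular (flat, with
geometrically regular fibres). If the completion map of A' is regular (the formal fibres of A' are
geometrically regular), then the completion map of A is regular. -/
theorem result (A A' : Type u) [CommRing A] [CommRing A'] [IsNoetherianRing A]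
    [IsNoetherianRing A'] [IsLocalRing A] [IsLocalRing A'] [Algebra A A'] [IsLocalHom (algebraMap A A')]
    (hf : CAlg.IsRegularHom A A') (hA' : CAlg.IsRegularHom A' (EGA4.Cpl A')) :
    CAlg.IsRegularHom A (EGA4.Cpl A) := by
  haveI : Module.Flat A A' := hf.1
  obtain ⟨alg, htower, hff⟩ := Groth.Agent.S4705.exists_cplAlgebra A A'
  letI := alg
  haveI := htower
  haveI := hff
  haveI : IsNoetherianRing (EGA4.Cpl A) :=
    Groth.Agent.Lead.isNoetherianRing_adicCompletion (IsLocalRing.maximalIdeal A)
      (IsLocalRing.maximalIdeal A).fg_of_isNoetherianRing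
  haveI : IsNoetherianRing (EGA4.Cpl A') :=
    Groth.Agent.Lead.isNoetherianRing_adicCompletion (IsLocalRing.maximalIdeal A')
      (IsLocalRing.maximalIdeal A').fg_of_isNoetherianRing
  haveI : IsScalarTower A A' (EGA4.Cpl A') := IsScalarTower.of_algebraMap_eq (fun _ => rfl)
  have hAC : CAlg.IsRegularHom A (EGA4.Cpl A') :=
    Groth.Agent.H29.HomComp.isRegularHom_comp A A' (EGA4.Cpl A') hf hA'
      (fun p _ => Groth.Agent.H34.FibLoc.isNoetherianRing_fiber A (EGA4.Cpl A') p)
  exact Groth.Agent.S9295.result A (EGA4.Cpl A) (EGA4.Cpl A') hAC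
    PrimeSpectrum.comap_surjective_of_faithfullyFlat

end Groth.Agent.S4704
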