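import Groth.Statements.S4707
import Mathlib
import Groth.Agent.H20.IntClTensor
-- import your own Groth.Agent.* helpers here

set_option autoImplicit false
universe u
open EGA4

set_option linter.style.haveILetI false
set_option linter.unusedSectionVars false
set_option linter.unusedVariables false

namespace Groth.Agent.S4707


open TensorProduct in
/-- Let A be a Noetherian ring and A' a Noetherian A-algebra such that A → A' is a normal homomorphism
(flat, with geometrically normal fibres). Let B → C be a homomorphism of A-algebras and D the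
integral closure of B in C. Then the integral closure in A' ⊗_A C of the image of A' ⊗_A B is the
image of A' ⊗_A D. (No finiteness is assumed on B or C.) -/
theorem result (A A' : Type u) [CommRing A] [CommRing A']
    [IsNoetherianRing A] [IsNoetherianRing A'] [Algebra A A'] (h : EGA4.IsNormalHom A A')
    (B C : Type u) [CommRing B] [CommRing C] [Algebra A B] [Algebra A C] [Algebra B C] [IsScalarTower A B C] :
    (integralClosure
          ↥(Algebra.TensorProduct.map (AlgHom.id A' A') (IsScalarTower.toAlgHom A B C)).range (A' ⊗[A] C) :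
        Set (A' ⊗[A] C)) =
      Set.range (Algebra.TensorProduct.map (AlgHom.id A' A')
        ((integralClosure B C).val.restrictScalars A)) := by
  classical
  set M : A' ⊗[A] B →ₐ[A'] A' ⊗[A] C :=
    Algebra.TensorProduct.map (AlgHom.id A' A') (IsScalarTower.toAlgHom A B C) with hMdef
  let D : Subalgebra A C := (integralClosure B C).restrictScalars A
  have hD : ∀ x : C, IsIntegral D x → x ∈ D := by
    intro x hx
    let φ : D →+* integralClosure B C :=
      { toFun := fun y => ⟨y.1, y.2⟩
        map_one' := rfl
        map_mul' := fun _ _ => rfl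
        map_zero' := rfl
        map_add' := fun _ _ => rfl }
    have h1 : IsIntegral (integralClosure B C) x :=
      IsIntegral.map_of_comp_eq (R := D) (S := C) (T := integralClosure B C) (U := C) φ
        (RingHom.id C) (RingHom.ext fun y => rfl) hx
    exact isIntegral_trans (R := B) (A := integralClosure B C) x h1
  have hict := Groth.Agent.H20.IntClTensor.ict_general A A' h C D hD
  let eD : integralClosure B C →ₐ[A] D :=
    AlgHom.codRestrict ((integralClosure B C).val.restrictScalars A) D (fun x => x.2)
  have heD : Function.Surjective eD := fun y => ⟨⟨y.1, y.2⟩, rfl⟩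
  have hTeD : Function.Surjective (Groth.Agent.H20.IntClTensor.tmap A A' eD) := by
    intro y
    obtain ⟨w, hw⟩ := LinearMap.lTensor_surjective A' (g := eD.toLinearMap) heD y
    exact ⟨w, by rw [Groth.Agent.H20.IntClTensor.tmap_eq_lTensor]; exact hw⟩
  have hval : ∀ x, Algebra.TensorProduct.map (AlgHom.id A' A')
      ((integralClosure B C).val.restrictScalars A) x =
      Groth.Agent.H20.IntClTensor.tmap A A' D.val
        (Groth.Agent.H20.IntClTensor.tmap A A' eD x) := by
    intro x
    induction x using TensorProduct.induction_on with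
    | zero => simp
    | tmul a c =>
      rw [Algebra.TensorProduct.map_tmul, Groth.Agent.H20.IntClTensor.tmap_tmul,
        Groth.Agent.H20.IntClTensor.tmap_tmul]
      rfl
    | add x y hx hy => rw [map_add, map_add, map_add, hx, hy]
  let βB : B →ₐ[A] D :=
    AlgHom.codRestrict (IsScalarTower.toAlgHom A B C) D (fun b => isIntegral_algebraMap)
  have hM : ∀ t : A' ⊗[A] B, M t =
      Groth.Agent.H20.IntClTensor.tmap A A' D.val
        (Groth.Agent.H20.IntClTensor.tmap A A' βB t) := by
    intro t
    induction t using TensorProduct.induction_on with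
    | zero => simp
    | tmul a b =>
      rw [hMdef, Algebra.TensorProduct.map_tmul, Groth.Agent.H20.IntClTensor.tmap_tmul,
        Groth.Agent.H20.IntClTensor.tmap_tmul]
      rfl
    | add x y hx hy => rw [map_add, map_add, map_add, hx, hy]
  have hback : ∀ y : A' ⊗[A] D, Groth.Agent.H20.IntClTensor.tmap A A' D.val y ∈
      integralClosure (↥M.range) (A' ⊗[A] C) := by
    intro y
    induction y using TensorProduct.induction_on with
    | zero => rw [map_zero]; exact Subalgebra.zero_mem _
    | tmul a d =>
      rw [Groth.Agent.H20.IntClTensor.tmap_tmul]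
      have hsplit : a ⊗ₜ[A] (D.val d) = (a ⊗ₜ[A] (1 : C)) * ((1 : A') ⊗ₜ[A] (d : C)) := by
        rw [Algebra.TensorProduct.tmul_mul_tmul, mul_one, one_mul]
        rfl
      rw [hsplit]
      refine Subalgebra.mul_mem _ ?_ ?_
      · have hmemr : a ⊗ₜ[A] (1 : C) ∈ M.range :=
          ⟨a ⊗ₜ[A] (1 : B), by
            change (Algebra.TensorProduct.map (AlgHom.id A' A') (IsScalarTower.toAlgHom A B C))
              (a ⊗ₜ[A] (1 : B)) = _
            rw [Algebra.TensorProduct.map_tmul, map_one]; rfl⟩
        exact isIntegral_algebraMap (R := ↥M.range) (x := ⟨_, hmemr⟩)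
      · have hd : IsIntegral B (d : C) := d.2
        let φ : B →+* ↥M.range := M.rangeRestrict.toRingHom.comp
          (Algebra.TensorProduct.includeRight : B →ₐ[A] A' ⊗[A] B).toRingHom
        have hcomp : (algebraMap (↥M.range) (A' ⊗[A] C)).comp φ =
            (Algebra.TensorProduct.includeRight : C →ₐ[A] A' ⊗[A] C).toRingHom.comp
              (algebraMap B C) := by
          refine RingHom.ext fun b => ?_
          change M ((1 : A') ⊗ₜ[A] b) = (1 : A') ⊗ₜ[A] (algebraMap B C b)
          rw [hMdef, Algebra.TensorProduct.map_tmul, map_one]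
          rfl
        exact IsIntegral.map_of_comp_eq (R := B) (S := C) (T := ↥M.range) (U := A' ⊗[A] C) φ
          (Algebra.TensorProduct.includeRight : C →ₐ[A] A' ⊗[A] C).toRingHom hcomp hd
    | add x y hx hy => rw [map_add]; exact Subalgebra.add_mem _ hx hy
  ext z
  constructor
  · intro hz
    have hz1 : IsIntegral (↥M.range) z := hz
    obtain ⟨p, hp, hpz⟩ := hz1
    have hl : p ∈ Polynomial.lifts M.rangeRestrict.toRingHom := by
      rw [Polynomial.lifts_iff_coeff_lifts]
      intro n
      obtain ⟨t, ht⟩ := (p.coeff n).2
      exact ⟨t, Subtype.ext ht⟩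
    obtain ⟨q, hq, -, hqm⟩ := Polynomial.lifts_and_natDegree_eq_and_monic hl hp
    have hz' : (Groth.Agent.H20.IntClTensor.tmap A A' D.val).toRingHom.IsIntegralElem z := by
      refine ⟨q.map (Groth.Agent.H20.IntClTensor.tmap A A' βB).toRingHom, hqm.map _, ?_⟩
      rw [Polynomial.eval₂_map]
      have hc : (Groth.Agent.H20.IntClTensor.tmap A A' D.val).toRingHom.comp
          (Groth.Agent.H20.IntClTensor.tmap A A' βB).toRingHom =
          (algebraMap (↥M.range) (A' ⊗[A] C)).comp M.rangeRestrict.toRingHom := by
        refine RingHom.ext fun t => ?_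
        change Groth.Agent.H20.IntClTensor.tmap A A' D.val
          (Groth.Agent.H20.IntClTensor.tmap A A' βB t) = M t
        exact (hM t).symm
      rw [hc, ← Polynomial.eval₂_map, hq]
      exact hpz
    obtain ⟨w, hw⟩ := hict z hz'
    obtain ⟨x, hx⟩ := hTeD w
    exact ⟨x, by rw [hval, hx, hw]⟩
  · rintro ⟨x, rfl⟩
    rw [hval]
    exact hback _

end Groth.Agent.S4707
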