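import Groth.Statements.S4709
import Groth.Agent.H11.NagataFT
import Groth.Agent.H11.QuasiExcellentNagata
import Groth.Agent.S0567

set_option autoImplicit false
universe u
open EGA4

namespace Groth.Agent.S4709

/-- Let A be a Noetherian ring such that (i) for every maximal ideal m the formal fibres of A_m are
geometrically reduced, and (ii) the regular locus of every A-algebra of finite type is open (A is
J-2). Then A is universally Japanese. -/
theorem result (A : Type u) [CommRing A] [IsNoetherianRing A]
    (h1 : ∀ (m : Ideal A) [m.IsMaximal], EGA4.HasGeomReducedFormalFibres (Localization.AtPrime m))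
    (h2 : EGA4.IsJ2 A) : CAlg.IsUniversallyJapanese A := by
  have hNag : CAlg.IsNagata A := by
    refine ⟨inferInstance, fun p _ => ?_⟩
    refine Groth.Agent.H11.LocalGlobalN2.isN2_of_local_of_generic (A ⧸ p) ?_ ?_
    · intro mb _
      refine Groth.Agent.H11.LocalGlobalN2.isN2_localization_quotient p mb fun P _ => ?_
      haveI : (mb.comap (Ideal.Quotient.mk p)).IsMaximal :=
        Ideal.comap_isMaximal_of_surjective (Ideal.Quotient.mk p) Ideal.Quotient.mk_surjective
      have hfib := h1 (mb.comap (Ideal.Quotient.mk p))
      exact (Groth.Agent.H11.FormalFibreNagata.isNagata_of_geomReducedFormalFibres _ hfib).2 P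
    · intro K' _ _ _ _ _ _ B' hfin hfrac
      haveI := hfin
      haveI : IsNoetherianRing B' := IsNoetherianRing.of_finite (A ⧸ p) B'
      letI : Algebra A B' := ((algebraMap (A ⧸ p) B').comp (Ideal.Quotient.mk p)).toAlgebra
      haveI : IsScalarTower A (A ⧸ p) B' := IsScalarTower.of_algebraMap_eq fun _ => rfl
      have hft : Algebra.FiniteType A B' :=
        Algebra.FiniteType.trans (S := A ⧸ p) inferInstance inferInstance
      exact Groth.Agent.H11.QENagata.exists_isIntegrallyClosed_away B' (h2 B' hft)
  exact ((Groth.Agent.S0567.result A).mp hNag).2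

end Groth.Agent.S4709
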