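import Groth.Statements.S4710
import Mathlib
import Groth.Agent.S9392

set_option autoImplicit false
universe u
open EGA4

namespace Groth.Agent.S4710

theorem aux (A : Type u) [CommRing A] (hA : CAlg.IsNagata A) (S : Submonoid A)
    (p : Ideal A) [p.IsPrime] (q : Ideal (Localization S)) [hq : q.IsPrime]
    (h : q = p.map (algebraMap A (Localization S))) : CAlg.IsN2 (Localization S ⧸ q) := by
  subst h
  exact Groth.Agent.S9392.result (A ⧸ p) (Algebra.algebraMapSubmonoid (A ⧸ p) S)
    (Localization S ⧸ p.map (algebraMap A (Localization S))) (hA.2 p)

/-- Last assertion, case of rings of fractions: if A is a Noetherian ring all of whose quotient domains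
are Japanese (a Nagata ring), then so is every ring of fractions S⁻¹A. -/
theorem result (A : Type u) [CommRing A] (hA : CAlg.IsNagata A) (S : Submonoid A) :
    CAlg.IsNagata (Localization S) := by
  haveI := hA.1
  refine ⟨IsLocalization.isNoetherianRing S (Localization S) inferInstance, ?_⟩
  intro q hq
  haveI : (q.comap (algebraMap A (Localization S))).IsPrime := Ideal.comap_isPrime _ q
  exact aux A hA S (q.comap (algebraMap A (Localization S))) q
    (IsLocalization.map_comap S (Localization S) q).symm

end Groth.Agent.S4710
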