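import Groth.Statements.S4711
import Mathlib
import Groth.Agent.H24.LocClosedPt

set_option autoImplicit false
universe u
open EGA4

namespace Groth.Agent.S4711

open AlgebraicGeometry Topology in
/-- In any scheme X, every nonempty locally constructible subset E contains a point x such that the
one-point set {x} is locally closed in X (equivalently x is isolated in its closure). -/
theorem result (X : Scheme.{u}) (E : Set X)
    (hE : Topology.IsLocallyConstructible E) (hne : E.Nonempty) :
    ∃ x ∈ E, IsLocallyClosed ({x} : Set X) := by
  obtain ⟨e, he⟩ := hne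
  obtain ⟨_, ⟨U, hU : IsAffineOpen U, rfl⟩, heU, -⟩ :=
    X.isBasis_affineOpens.exists_subset_of_mem_open (Set.mem_univ e) isOpen_univ
  let S : Set X := (U : Set X)
  have hSo : IsOpen S := U.2
  have hemb : IsOpenEmbedding (Subtype.val : ↥S → X) := hSo.isOpenEmbedding_subtypeVal
  have hE' : IsLocallyConstructible ((Subtype.val : ↥S → X) ⁻¹' E) :=
    hE.preimage_of_isOpenEmbedding hemb
  have : CompactSpace ↥S := isCompact_iff_compactSpace.mp hU.isCompact
  have : PrespectralSpace ↥S := hemb.prespectralSpace
  have : QuasiSeparatedSpace ↥S :=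
    (isQuasiSeparated_iff_quasiSeparatedSpace S hSo).mp hU.isQuasiSeparated
  obtain ⟨x, hx, hxl⟩ := H24.exists_isLocallyClosed_singleton_of_isConstructible hE'.isConstructible
    ⟨⟨e, heU⟩, he⟩
  refine ⟨x, hx, ?_⟩
  have := hxl.image IsInducing.subtypeVal
    (by rw [Subtype.range_coe]; exact hSo.isLocallyClosed)
  simpa using this

end Groth.Agent.S4711
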