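import Groth.Statements.S4714
import Groth.Agent.H17.DimHyp

set_option autoImplicit false
universe u
open EGA4

namespace Groth.Agent.S4714

open Groth.Agent.H54 Groth.Agent.H17.DimHyp Groth.Agent.H17.IM in
theorem exists_nat_of_ne {x : WithBot ℕ∞} (h0 : x ≠ ⊥) (h1 : x ≠ ⊤) : ∃ n : ℕ, x = n := by
  induction x using WithBot.recBotCoe with
  | bot => exact absurd rfl h0
  | coe y =>
    induction y using ENat.recTopCoe with
    | top => exact absurd rfl h1
    | coe n => exact ⟨n, rfl⟩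

open AlgebraicGeometry CategoryTheory Groth.Agent.H54 Groth.Agent.H17.DimHyp Groth.Agent.H17.IM in
/-- For a section of the structure sheaf: let X be a scheme locally of finite type over a field k and f
a global section of O_X whose zero locus Y is nowhere dense in X. Then dim Y + 1 ≤ dim X. If
moreover some irreducible component of X has dimension equal to dim X and Y meets every such
component, then dim Y + 1 = dim X. (The published statement is for a section of an invertible sheaf;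
the existence of a component of maximal dimension, implicit in the published wording, is made a
hypothesis of the equality clause.) -/
theorem result (k : Type u) [Field k] (X : Scheme.{u}) (p : X ⟶ Spec (CommRingCat.of k))
    [LocallyOfFiniteType p] (f : Γ(X, ⊤)) (hY : interior (X.zeroLocus (U := ⊤) {f}) = ∅) :
    topologicalKrullDim (X.zeroLocus (U := ⊤) {f}) + 1 ≤ topologicalKrullDim X ∧
      ((∃ Z ∈ irreducibleComponents (X : Type u), topologicalKrullDim Z = topologicalKrullDim X) →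
        (∀ Z ∈ irreducibleComponents (X : Type u), topologicalKrullDim Z = topologicalKrullDim X →
          (Z ∩ X.zeroLocus (U := ⊤) {f}).Nonempty) →
        topologicalKrullDim (X.zeroLocus (U := ⊤) {f}) + 1 = topologicalKrullDim X) := by
  classical
  have : IsLocallyNoetherian X := LocallyOfFiniteType.isLocallyNoetherian p
  have hYc : IsClosed (X.zeroLocus (U := ⊤) {f}) := X.zeroLocus_isClosed _
  generalize hYdef : X.zeroLocus (U := ⊤) {f} = Y at hY hYc ⊢
  have hkey : ∀ y ∈ Y, ((tdeg p y : ℕ) : WithBot ℕ∞) + 1 ≤ topologicalKrullDim X := by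
    intro y hy
    obtain ⟨η, hsp, hη⟩ := exists_generic_specializes y
    have hηY : η ∉ Y := generic_not_mem η hη Y hYc hY
    have hne : η ≠ y := fun h => hηY (h ▸ hy)
    have hlt := tdeg_lt_of_specializes p hsp hne
    have hle : ((tdeg p η : ℕ) : WithBot ℕ∞) ≤ topologicalKrullDim X :=
      (tdeg_le_topologicalKrullDim p η ⊤ trivial).trans (topologicalKrullDim_subspace_le X _)
    refine le_trans ?_ hle
    have h2 : tdeg p y + 1 ≤ tdeg p η := hlt
    exact_mod_cast h2
  have part1 : topologicalKrullDim Y + 1 ≤ topologicalKrullDim X := by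
    by_cases hne : Y.Nonempty
    · obtain ⟨y0, hy0⟩ := hne
      by_cases htop : topologicalKrullDim X = ⊤
      · rw [htop]; exact le_top
      · have h0 := hkey y0 hy0
        have hbot : topologicalKrullDim X ≠ ⊥ := by
          intro h
          rw [h] at h0
          have h3 : ((tdeg p y0 + 1 : ℕ) : WithBot ℕ∞) ≤ ⊥ := by exact_mod_cast h0
          exact absurd (le_bot_iff.mp h3) (WithBot.coe_ne_bot)
        obtain ⟨N, hN⟩ := exists_nat_of_ne hbot htop
        rw [hN] at hkey ⊢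
        have hN1 : 1 ≤ N := by
          have h3 := hkey y0 hy0
          have h4 : tdeg p y0 + 1 ≤ N := by exact_mod_cast h3
          omega
        have h5 : topologicalKrullDim ↥Y ≤ ((N - 1 : ℕ) : WithBot ℕ∞) := by
          apply topologicalKrullDim_closed_le_of_forall_tdeg_le p Y hYc
          intro y hy
          have h3 := hkey y hy
          have h4 : tdeg p y + 1 ≤ N := by exact_mod_cast h3
          omega
        refine (add_le_add h5 le_rfl).trans ?_
        have h6 : N - 1 + 1 ≤ N := by omega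
        exact_mod_cast h6
    · have hE : IsEmpty (TopologicalSpace.IrreducibleCloseds ↥Y) :=
        ⟨fun T => by
          obtain ⟨⟨y, hy⟩, -⟩ := T.isIrreducible.nonempty
          exact hne ⟨y, hy⟩⟩
      have h1 : topologicalKrullDim ↥Y = ⊥ := by
        unfold topologicalKrullDim
        exact Order.krullDim_eq_bot
      rw [h1, WithBot.bot_add]
      exact bot_le
  refine ⟨part1, fun ⟨Z, hZ, hdimZ⟩ hmeet => le_antisymm part1 ?_⟩
  obtain ⟨y0, hy0Z, hy0Y⟩ := hmeet Z hZ hdimZ
  have hZc : IsClosed Z := isClosed_of_mem_irreducibleComponents Z hZ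
  obtain ⟨η, hcl⟩ : ∃ η : X, closure ({η} : Set X) = Z :=
    ⟨hZ.1.genericPoint, hZ.1.closure_genericPoint hZc⟩
  have hη : closure ({η} : Set X) ∈ irreducibleComponents (X : Type u) := by rw [hcl]; exact hZ
  have hηY : η ∉ Y := generic_not_mem η hη Y hYc hY
  have hspec : ∀ x ∈ Z, η ⤳ x := fun x hx =>
    specializes_iff_mem_closure.mpr (by rw [hcl]; exact hx)
  have hsp0 : η ⤳ y0 := hspec y0 hy0Z
  have hdimle : topologicalKrullDim X ≤ ((tdeg p η : ℕ) : WithBot ℕ∞) := by
    rw [← hdimZ]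
    apply topologicalKrullDim_closed_le_of_forall_tdeg_le p Z hZc
    intro x hx
    exact tdeg_le_of_specializes p (hspec x hx)
  obtain ⟨_, ⟨U, hU, rfl⟩, hy0U, -⟩ :=
    X.isBasis_affineOpens.exists_subset_of_mem_open (Set.mem_univ y0) isOpen_univ
  replace hU : IsAffineOpen U := hU
  have hηU : η ∈ U := hsp0.mem_open U.2 hy0U
  obtain ⟨ψ, hψ, hft⟩ := exists_chart_data p U hU
  letI := ψ.hom.toAlgebra
  haveI : Algebra.FiniteType k Γ(X, U) := hft
  haveI : IsNoetherianRing Γ(X, U) := Algebra.FiniteType.isNoetherianRing k Γ(X, U)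
  obtain ⟨Pη, hPη⟩ : ∃ P : PrimeSpectrum Γ(X, U), hU.fromSpec P = η :=
    ⟨hU.primeIdealOf ⟨η, hηU⟩, hU.fromSpec_primeIdealOf ⟨η, hηU⟩⟩
  obtain ⟨p0, hp0⟩ : ∃ P : PrimeSpectrum Γ(X, U), hU.fromSpec P = y0 :=
    ⟨hU.primeIdealOf ⟨y0, hy0U⟩, hU.fromSpec_primeIdealOf ⟨y0, hy0U⟩⟩
  have hle : Pη.asIdeal ≤ p0.asIdeal := by
    have h1 : (Pη : Spec Γ(X, U)) ⤳ p0 :=
      hU.fromSpec.isOpenEmbedding.isInducing.specializes_iff.mp (by rw [hPη, hp0]; exact hsp0)
    exact (PrimeSpectrum.le_iff_specializes Pη p0).mpr h1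
  have ha0 : (X.presheaf.map (homOfLE (le_top : U ≤ ⊤)).op).hom f ∈ p0.asIdeal :=
    (fromSpec_mem_zeroLocus_top_iff f U hU p0).mp (by rw [hp0, hYdef]; exact hy0Y)
  have haη : (X.presheaf.map (homOfLE (le_top : U ≤ ⊤)).op).hom f ∉ Pη.asIdeal := fun h =>
    hηY (by
      rw [← hPη, ← hYdef]
      exact (fromSpec_mem_zeroLocus_top_iff f U hU Pη).mpr h)
  obtain ⟨a, ha⟩ : ∃ a, a = (X.presheaf.map (homOfLE (le_top : U ≤ ⊤)).op).hom f := ⟨_, rfl⟩
  rw [← ha] at ha0 haη
  have hsurj : Function.Surjective (Ideal.Quotient.mk Pη.asIdeal) := Ideal.Quotient.mk_surjective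
  haveI hp0' : (p0.asIdeal.map (Ideal.Quotient.mk Pη.asIdeal)).IsPrime :=
    Ideal.map_isPrime_of_surjective hsurj (by rw [Ideal.mk_ker]; exact hle)
  have hspan : Ideal.span {Ideal.Quotient.mk Pη.asIdeal a} ≤
      p0.asIdeal.map (Ideal.Quotient.mk Pη.asIdeal) := by
    rw [Ideal.span_singleton_le_iff_mem]
    exact Ideal.mem_map_of_mem _ ha0
  obtain ⟨Q', hQ'min, hQ'le⟩ := Ideal.exists_minimalPrimes_le hspan
  haveI hQ'prime : Q'.IsPrime := hQ'min.1.1
  have haQ' : Ideal.Quotient.mk Pη.asIdeal a ∈ Q' := hQ'min.1.2 (Ideal.subset_span rfl)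
  have hht1 : Q'.height ≤ 1 :=
    Ideal.height_le_one_of_isPrincipal_of_mem_minimalPrimes _ _ hQ'min
  have hQ'ne : Q' ≠ ⊥ := by
    intro h
    rw [h, Ideal.mem_bot] at haQ'
    exact haη (Ideal.Quotient.eq_zero_iff_mem.mp haQ')
  have hht : Q'.height = 1 := by
    apply le_antisymm hht1
    rw [Order.one_le_iff_pos, pos_iff_ne_zero, Ne, Ideal.height_eq_zero_iff_eq_bot]
    exact hQ'ne
  have hdimD := ringKrullDim_quotient_add_one_of_height_eq_one k (Γ(X, U) ⧸ Pη.asIdeal) Q' hht
  obtain ⟨Q, hQ⟩ : ∃ Q : PrimeSpectrum Γ(X, U),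
      Q.asIdeal = Q'.comap (Ideal.Quotient.mk Pη.asIdeal) := ⟨⟨Q'.comap (Ideal.Quotient.mk Pη.asIdeal), Ideal.comap_isPrime _ _⟩, rfl⟩
  have hequiv : ringKrullDim (Γ(X, U) ⧸ Q.asIdeal) =
      ringKrullDim ((Γ(X, U) ⧸ Pη.asIdeal) ⧸ Q') := by
    have hinj : Function.Injective
        (Ideal.quotientMap Q' (Ideal.Quotient.mk Pη.asIdeal) hQ.le) := by
      apply Ideal.quotientMap_injective'
      exact hQ.ge
    have hsur : Function.Surjective
        (Ideal.quotientMap Q' (Ideal.Quotient.mk Pη.asIdeal) hQ.le) :=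
      Ideal.quotientMap_surjective hsurj
    exact ringKrullDim_eq_of_ringEquiv (RingEquiv.ofBijective _ ⟨hinj, hsur⟩)
  have hchartQ := ringKrullDim_quotient_chart p hU.fromSpec ψ hψ hft Q
  have hchartη := ringKrullDim_quotient_chart p hU.fromSpec ψ hψ hft Pη
  rw [hPη] at hchartη
  have hwY : hU.fromSpec Q ∈ Y := by
    rw [← hYdef]
    refine (fromSpec_mem_zeroLocus_top_iff f U hU Q).mpr ?_
    rw [← ha, hQ]
    exact haQ'
  have hwle := tdeg_le_topologicalKrullDim_closed p Y hYc _ hwY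
  calc topologicalKrullDim X ≤ ((tdeg p η : ℕ) : WithBot ℕ∞) := hdimle
    _ = ringKrullDim (Γ(X, U) ⧸ Pη.asIdeal) := hchartη.symm
    _ = ringKrullDim ((Γ(X, U) ⧸ Pη.asIdeal) ⧸ Q') + 1 := hdimD.symm
    _ = ringKrullDim (Γ(X, U) ⧸ Q.asIdeal) + 1 := by rw [hequiv]
    _ = ((tdeg p (hU.fromSpec Q) : ℕ) : WithBot ℕ∞) + 1 := by rw [hchartQ]
    _ ≤ topologicalKrullDim ↥Y + 1 := add_le_add hwle le_rfl

end Groth.Agent.S4714
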