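import Groth.Statements.S4716
import Mathlib
import Groth.Agent.H24.DimLift

set_option autoImplicit false
universe u
open EGA4

namespace Groth.Agent.S4716

open AlgebraicGeometry CategoryTheory in
/-- Consider locally Noetherian schemes X and Y and a morphism f : X → Y that is surjective and whose
underlying map is either open or closed. Then dim X ≥ dim Y. -/
theorem result {X Y : Scheme.{u}} (f : X ⟶ Y) [IsLocallyNoetherian X]
    [IsLocallyNoetherian Y] (hs : Function.Surjective f.base) (h : IsOpenMap f.base ∨ IsClosedMap f.base) :
    topologicalKrullDim Y ≤ topologicalKrullDim X := by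
  have hc : Continuous f.base := f.continuous
  rcases h with ho | hcl
  · apply H24.topologicalKrullDim_le_of_generalizingMap f.base hc _ hs
    intro x y' hy'
    obtain ⟨_, ⟨U, hU : IsAffineOpen U, rfl⟩, hxU, -⟩ :=
      X.isBasis_affineOpens.exists_subset_of_mem_open (Set.mem_univ x) isOpen_univ
    have : IsNoetherianRing Γ(X, U) := IsLocallyNoetherian.component_noetherian ⟨U, hU⟩
    have hN : TopologicalSpace.NoetherianSpace ↥(U : Set X) := noetherianSpace_of_isAffineOpen U hU
    have hQ : QuasiSober ↥(U : Set X) := U.isOpenEmbedding'.quasiSober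
    have hgc : Continuous (f.base ∘ (Subtype.val : ↥(U : Set X) → X)) := hc.comp continuous_subtype_val
    have hgo : IsOpenMap (f.base ∘ (Subtype.val : ↥(U : Set X) → X)) := ho.comp U.2.isOpenMap_subtype_val
    have hG := H24.generalizingMap_of_isOpenMap_of_noetherianSpace
      (f.base ∘ (Subtype.val : ↥(U : Set X) → X)) hgc hgo
    obtain ⟨x'', hx'', hfx''⟩ := @hG ⟨x, hxU⟩ y' hy'
    exact ⟨x''.1, hx''.map continuous_subtype_val, hfx''⟩
  · exact H24.topologicalKrullDim_le_of_specializingMap f.base hc hcl.specializingMap hs

end Groth.Agent.S4716
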