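import Groth.Statements.S4719
import Groth.Agent.S2669
import Groth.Agent.H29.LocQuot

set_option autoImplicit false
universe u
open EGA4

namespace Groth.Agent.S4719

theorem le_coe_iInf₂ {α : Type*} {x : WithBot ℕ∞} {S : Set α} {d : α → ℕ∞}
    (h : ∀ q ∈ S, x ≤ ((d q : ℕ∞) : WithBot ℕ∞)) :
    x ≤ (((⨅ q ∈ S, d q : ℕ∞)) : WithBot ℕ∞) := by
  induction x using WithBot.recBotCoe with
  | bot => exact bot_le
  | coe y =>
    exact WithBot.coe_le_coe.mpr (le_iInf₂ (fun q hq => WithBot.coe_le_coe.mp (h q hq)))

end Groth.Agent.S4719

namespace Groth.Agent.S4719

/-- Let A → B be a homomorphism of Noetherian rings and M a B-module which is finite as an A-module. (i)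
If M satisfies (S_k) as an A-module, it satisfies (S_k) as a B-module. (ii) If for every two primes
q, q' of B in the support of M having the same contraction to A the modules M_q and M_{q'} have the
same dimension, then (S_k) for M as a B-module implies (S_k) for M as an A-module. (The published
statement asks the equal-dimension condition for all pairs of primes of B with the same contraction;
this row asks it only for primes in the support of M, which is all its proof uses.) -/
theorem result (k : ℕ) (A B : Type u) [CommRing A] [CommRing B] [IsNoetherianRing A]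
    [IsNoetherianRing B] [Algebra A B] (M : Type u) [AddCommGroup M] [Module B M] [Module A M]
    [IsScalarTower A B M] [Module.Finite A M] :
    (LocCoh.HasSk k A M → LocCoh.HasSk k B M) ∧
      ((∀ q ∈ Module.support B M, ∀ q' ∈ Module.support B M,
          q.asIdeal.comap (algebraMap A B) = q'.asIdeal.comap (algebraMap A B) →
            Module.supportDim (Localization.AtPrime q.asIdeal) (LocalizedModule q.asIdeal.primeCompl M) =
              Module.supportDim (Localization.AtPrime q'.asIdeal) (LocalizedModule q'.asIdeal.primeCompl M)) →
        LocCoh.HasSk k B M → LocCoh.HasSk k A M) := by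
  classical
  haveI : Module.Finite B M := Module.Finite.of_restrictScalars_finite A B M
  refine ⟨fun hA => ?_, fun heq hB => ?_⟩
  · intro q hqp
    by_cases hq : (⟨q, hqp⟩ : PrimeSpectrum B) ∈ Module.support B M
    · obtain ⟨h1, h2⟩ := Groth.Agent.S2669.result A B M (q.comap (algebraMap A B))
      have hA' := hA (q.comap (algebraMap A B))
      have hd : Module.supportDim (Localization.AtPrime q) (LocalizedModule q.primeCompl M) ≤
          Module.supportDim (Localization.AtPrime (q.comap (algebraMap A B)))
            (LocalizedModule (q.comap (algebraMap A B)).primeCompl M) := by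
        rw [h1]
        exact le_iSup₂ (f := fun (q' : PrimeSpectrum B) (_ : q' ∈ {q' : PrimeSpectrum B |
          q'.asIdeal.comap (algebraMap A B) = q.comap (algebraMap A B) ∧
          q' ∈ Module.support B M}) => Module.supportDim (Localization.AtPrime q'.asIdeal)
          (LocalizedModule q'.asIdeal.primeCompl M)) (⟨q, hqp⟩ : PrimeSpectrum B) ⟨rfl, hq⟩
      have he : LocCoh.depth (Localization.AtPrime (q.comap (algebraMap A B)))
            (LocalizedModule (q.comap (algebraMap A B)).primeCompl M) ≤
          LocCoh.depth (Localization.AtPrime q) (LocalizedModule q.primeCompl M) := by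
        rw [h2]
        exact iInf₂_le (⟨q, hqp⟩ : PrimeSpectrum B) ⟨rfl, hq⟩
      exact (min_le_min le_rfl hd).trans (hA'.trans (WithBot.coe_le_coe.mpr he))
    · haveI : Subsingleton (LocalizedModule q.primeCompl M) :=
        not_nontrivial_iff_subsingleton.mp (fun h => hq (Module.mem_support_iff.mpr h))
      rw [Groth.Agent.H29.LocQuot.depth_eq_top_of_subsingleton q M]
      exact le_of_le_of_eq le_top WithBot.coe_top.symm
  · intro p hpp
    obtain ⟨h1, h2⟩ := Groth.Agent.S2669.result A B M p
    have key : ∀ q ∈ {q : PrimeSpectrum B | q.asIdeal.comap (algebraMap A B) = p ∧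
        q ∈ Module.support B M},
        min (k : WithBot ℕ∞) (Module.supportDim (Localization.AtPrime p)
          (LocalizedModule p.primeCompl M)) ≤
        ((LocCoh.depth (Localization.AtPrime q.asIdeal)
          (LocalizedModule q.asIdeal.primeCompl M) : ℕ∞) : WithBot ℕ∞) := by
      intro q hq
      have hdq : Module.supportDim (Localization.AtPrime p) (LocalizedModule p.primeCompl M) =
          Module.supportDim (Localization.AtPrime q.asIdeal)
            (LocalizedModule q.asIdeal.primeCompl M) := by
        rw [h1]
        refine le_antisymm (iSup₂_le (fun q' hq' =>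
          (heq q' hq'.2 q hq.2 (hq'.1.trans hq.1.symm)).le)) ?_
        exact le_iSup₂ (f := fun (q' : PrimeSpectrum B) (_ : q' ∈ {q' : PrimeSpectrum B |
          q'.asIdeal.comap (algebraMap A B) = p ∧
          q' ∈ Module.support B M}) => Module.supportDim (Localization.AtPrime q'.asIdeal)
          (LocalizedModule q'.asIdeal.primeCompl M)) q hq
      rw [hdq]
      exact hB q.asIdeal
    rw [h2]
    exact le_coe_iInf₂ key

end Groth.Agent.S4719
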