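import Groth.Statements.S4720
import Groth.Agent.H71.ZClosed

set_option autoImplicit false
universe u
open EGA4

namespace Groth.Agent.S4720

/-- Let A be a Noetherian ring, Z a subset of Spec A stable under specialization, M an A-module and N a
submodule of M. If M is Z-pure, so is N; conversely, if N and M/N are Z-pure, so is M. -/
theorem result (A : Type u) [CommRing A] [IsNoetherianRing A]
    (Z : Set (PrimeSpectrum A)) (hZ : StableUnderSpecialization Z) (M : Type u) [AddCommGroup M] [Module A M]
    (N : Submodule A M) :
    (EGA4.IsPureAlong Z M → EGA4.IsPureAlong Z ↥N) ∧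
      (EGA4.IsPureAlong Z ↥N → EGA4.IsPureAlong Z (M ⧸ N) → EGA4.IsPureAlong Z M) := by
  rw [Groth.Agent.H71.ZC.isPureAlong_iff_ass M Z hZ, Groth.Agent.H71.ZC.isPureAlong_iff_ass (↥N) Z hZ,
    Groth.Agent.H71.ZC.isPureAlong_iff_ass (M ⧸ N) Z hZ]
  constructor
  · intro h p hp
    exact h p (associatedPrimes.subset_of_injective N.injective_subtype hp)
  · intro h1 h2 p hp
    have hex : Function.Exact N.subtype N.mkQ := LinearMap.exact_subtype_mkQ N
    rcases associatedPrimes.subset_union_of_exact N.injective_subtype hex hp with h | h
    · exact h1 p h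
    · exact h2 p h

end Groth.Agent.S4720
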