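import Groth.Statements.S4723
import Groth.Agent.H58.SecFin


set_option autoImplicit false
universe u
open EGA4

namespace Groth.Agent.S4723

/-- Let A be a Noetherian ring which is either a quotient of a regular Noetherian ring or universally
catenary and universally Japanese. Then for every prime q of A, writing B = A/q with fraction field
K, and every ideal J of B of height at least 2, the subring of K consisting of the elements lying in
B_p for every prime p of B not containing J (the ring of sections of the structure sheaf of Spec B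
over the open complement of V(J)) is a finite B-algebra (some B-subalgebra of K with exactly this
underlying set is a finitely generated B-module). -/
theorem result (A : Type u) [CommRing A] [IsNoetherianRing A]
    (hA : (∃ (R : Type u) (_ : CommRing R), IsNoetherianRing R ∧ IsRegularRing R ∧
        ∃ f : R →+* A, Function.Surjective f) ∨
      (CAlg.IsUniversallyCatenary A ∧ CAlg.IsUniversallyJapanese A))
    (q : Ideal A) [q.IsPrime] (J : Ideal (A ⧸ q)) (hJ2 : (2 : ℕ∞) ≤ J.height) :
    ∃ B' : Subalgebra (A ⧸ q) (FractionRing (A ⧸ q)),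
      (B' : Set (FractionRing (A ⧸ q))) =
          {x | ∀ (p : Ideal (A ⧸ q)) [p.IsPrime], ¬ J ≤ p →
            ∃ s : A ⧸ q, s ∉ p ∧ ∃ a : A ⧸ q,
              algebraMap (A ⧸ q) (FractionRing (A ⧸ q)) a = algebraMap (A ⧸ q) (FractionRing (A ⧸ q)) s * x} ∧
        Module.Finite (A ⧸ q) B' := by
  refine ⟨Groth.Agent.H58.SecFin.Dalg J, rfl, ?_⟩
  rcases hA with ⟨R, instR, hnoeth, hreg, f, hf⟩ | ⟨hUC, hUJ⟩
  · haveI := hreg
    obtain ⟨F, hF, hDF⟩ := Groth.Agent.H58.SecFin.exists_fg_case1 R (A ⧸ q)
      ((Ideal.Quotient.mk q).comp f)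
      (fun y => by
        obtain ⟨a, rfl⟩ := Ideal.Quotient.mk_surjective y
        obtain ⟨r, rfl⟩ := hf a
        exact ⟨r, rfl⟩) J hJ2
    exact Groth.Agent.H58.SecFin.finite_Dalg_of_fg J F hF hDF
  · obtain ⟨F, hF, hDF⟩ := Groth.Agent.H58.SecFin.exists_fg_case2 (A ⧸ q)
      (Groth.Agent.H58.SecFin.isUniversallyCatenary_quotient A hUC q)
      (hUJ (A ⧸ q) inferInstance) J hJ2
    exact Groth.Agent.H58.SecFin.finite_Dalg_of_fg J F hF hDF

end Groth.Agent.S4723
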