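import Groth.Statements.S4726
import Mathlib
import Groth.Agent.H24.BaseChangeCoker

set_option autoImplicit false
universe u
open EGA4

namespace Groth.Agent.S4726

open TensorProduct in
/-- Let (A_i) be a directed system of commutative rings with direct limit A and M a finitely presented
A-module. Then there exist an index i and a finitely presented A_i-module M_i such that M is
isomorphic, as an A-module, to A ⊗_{A_i} M_i (A being an A_i-algebra through the canonical map). -/
theorem result (ι : Type u) [Preorder ι] [Nonempty ι] [IsDirectedOrder ι]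
    (G : ι → Type u) [∀ i, CommRing (G i)] (f : ∀ i j, i ≤ j → G i →+* G j)
    [DirectedSystem G (fun i j h ↦ f i j h)] (M : Type u) [AddCommGroup M]
    [Module (Ring.DirectLimit G (fun i j h ↦ f i j h)) M]
    [Module.FinitePresentation (Ring.DirectLimit G (fun i j h ↦ f i j h)) M] :
    ∃ (i : ι) (Mi : Type u) (_ : AddCommGroup Mi) (_ : Module (G i) Mi), Module.FinitePresentation (G i) Mi ∧
      letI : Algebra (G i) (Ring.DirectLimit G (fun i j h ↦ f i j h)) :=
        (Ring.DirectLimit.of G (fun i j h ↦ f i j h) i).toAlgebra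
      Nonempty (M ≃ₗ[Ring.DirectLimit G (fun i j h ↦ f i j h)] (Ring.DirectLimit G (fun i j h ↦ f i j h)) ⊗[G i] Mi) := by
  classical
  obtain ⟨n, K, e, hK⟩ := Module.FinitePresentation.exists_fin
    (Ring.DirectLimit G (fun i j h ↦ f i j h)) M
  obtain ⟨m, v, hv⟩ := Submodule.fg_iff_exists_fin_generating_family.mp hK
  -- lift the entries
  choose idx x hx using fun p : Fin m × Fin n =>
    Ring.DirectLimit.exists_of (G := G) (f := fun i j h ↦ f i j h) (v p.1 p.2)
  obtain ⟨i, hi⟩ := Finite.exists_le idx
  let w : Fin m → (Fin n → G i) := fun k l => f (idx (k, l)) i (hi (k, l)) (x (k, l))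
  have hw : ∀ k l, Ring.DirectLimit.of G (fun i j h ↦ f i j h) i (w k l) = v k l := by
    intro k l
    simp only [w]
    rw [Ring.DirectLimit.of_f, hx]
  refine ⟨i, (Fin n → G i) ⧸ Submodule.span (G i) (Set.range w), inferInstance, inferInstance, ?_, ?_⟩
  · exact Module.finitePresentation_of_free_of_surjective
      (Submodule.span (G i) (Set.range w)).mkQ (Submodule.mkQ_surjective _)
      (by rw [Submodule.ker_mkQ]; exact Submodule.fg_span (Set.finite_range w))
  · letI : Algebra (G i) (Ring.DirectLimit G (fun i j h ↦ f i j h)) :=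
        (Ring.DirectLimit.of G (fun i j h ↦ f i j h) i).toAlgebra
    obtain ⟨e'⟩ := H24.nonempty_baseChange_quotient_span_equiv (G i)
      (Ring.DirectLimit G (fun i j h ↦ f i j h)) w
    have hvw : (fun k => fun l => algebraMap (G i) (Ring.DirectLimit G (fun i j h ↦ f i j h))
        (w k l)) = v := by
      ext k l
      exact hw k l
    rw [hvw, hv] at e'
    exact ⟨e.trans e'.symm⟩

end Groth.Agent.S4726
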