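import Groth.Statements.S4728
import Groth.Agent.H29.DimOneN2
import Groth.Agent.H34.FibLoc
set_option maxHeartbeats 400000
set_option linter.style.haveILetI false

set_option autoImplicit false
universe u
open EGA4

namespace Groth.Agent.S4728

open TensorProduct

theorem isDomain_of_isNormalRing_local (X : Type u) [CommRing X] [IsLocalRing X]
    (h : EGA4.IsNormalRing X) : IsDomain X := by
  haveI := (h (IsLocalRing.maximalIdeal X)).1
  have hinj : Function.Injective
      (algebraMap X (Localization.AtPrime (IsLocalRing.maximalIdeal X))) := by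
    refine IsLocalization.injective (M := (IsLocalRing.maximalIdeal X).primeCompl) _ ?_
    intro x hx
    have hu : IsUnit x := by
      by_contra hnu
      exact hx ((IsLocalRing.mem_maximalIdeal x).mpr hnu)
    exact hu.mem_nonZeroDivisors
  exact hinj.isDomain _

theorem closedFibre_quot_isNormalRing (A A' : Type u) [CommRing A] [CommRing A']
    [IsLocalRing A] [Algebra A A'] (h : EGA4.IsNormalHom A A') :
    EGA4.IsNormalRing (A' ⧸ (IsLocalRing.maximalIdeal A).map (algebraMap A A')) := by
  have h1 := h.2 (IsLocalRing.maximalIdeal A) (IsLocalRing.maximalIdeal A).ResidueField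
    inferInstance
  let e1 : (A' ⧸ (IsLocalRing.maximalIdeal A).map (algebraMap A A')) ≃ₐ[A ⧸ IsLocalRing.maximalIdeal A]
      (A ⧸ IsLocalRing.maximalIdeal A) ⊗[A] A' :=
    Algebra.TensorProduct.quotIdealMapEquivQuotTensor A' (IsLocalRing.maximalIdeal A)
  let e0 : (A ⧸ IsLocalRing.maximalIdeal A) ≃ₐ[A] (IsLocalRing.maximalIdeal A).ResidueField :=
    AlgEquiv.ofBijective
      (IsScalarTower.toAlgHom A (A ⧸ IsLocalRing.maximalIdeal A)
        (IsLocalRing.maximalIdeal A).ResidueField)
      (IsLocalRing.maximalIdeal A).bijective_algebraMap_quotient_residueField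
  let e2 : (A ⧸ IsLocalRing.maximalIdeal A) ⊗[A] A' ≃ₐ[A]
      (IsLocalRing.maximalIdeal A).ResidueField ⊗[A] A' :=
    Algebra.TensorProduct.congr e0 AlgEquiv.refl
  let e3 := Algebra.TensorProduct.lid (IsLocalRing.maximalIdeal A).ResidueField
    ((IsLocalRing.maximalIdeal A).Fiber A')
  let e : (IsLocalRing.maximalIdeal A).ResidueField ⊗[(IsLocalRing.maximalIdeal A).ResidueField]
      ((IsLocalRing.maximalIdeal A).Fiber A') ≃+*
      (A' ⧸ (IsLocalRing.maximalIdeal A).map (algebraMap A A')) :=
    e3.toRingEquiv.trans (e2.symm.toRingEquiv.trans e1.symm.toRingEquiv)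
  exact Groth.Agent.H34.FibLoc.isNormalRing_of_ringEquiv e h1

/-- Let A be a Noetherian local domain of dimension 1 with maximal ideal m, A' a Noetherian local ring
and A → A' a local homomorphism which is normal (flat, with geometrically normal fibres). Then the
ideal m A' of A' is prime and the local ring of A' at m A' has dimension 1. (The remaining clauses
of the published item, describing A' inside its total ring of fractions, are not restated.) -/
theorem result (A A' : Type u) [CommRing A] [CommRing A']
    [IsNoetherianRing A] [IsNoetherianRing A'] [IsLocalRing A] [IsLocalRing A'] [IsDomain A]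
    (hA : ringKrullDim A = 1) [Algebra A A'] [IsLocalHom (algebraMap A A')] (h : EGA4.IsNormalHom A A') :
    ((IsLocalRing.maximalIdeal A).map (algebraMap A A')).IsPrime ∧
      ((IsLocalRing.maximalIdeal A).map (algebraMap A A')).height = 1 := by
  have hle : (IsLocalRing.maximalIdeal A).map (algebraMap A A') ≤ IsLocalRing.maximalIdeal A' :=
    IsLocalRing.map_maximalIdeal_le (algebraMap A A')
  have hne : (IsLocalRing.maximalIdeal A).map (algebraMap A A') ≠ ⊤ := fun htop =>
    (IsLocalRing.maximalIdeal.isMaximal A').ne_top (top_le_iff.mp (htop ▸ hle))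
  haveI : Nontrivial (A' ⧸ (IsLocalRing.maximalIdeal A).map (algebraMap A A')) :=
    Ideal.Quotient.nontrivial_iff.mpr hne
  haveI hdom : IsDomain (A' ⧸ (IsLocalRing.maximalIdeal A).map (algebraMap A A')) :=
    isDomain_of_isNormalRing_local _ (closedFibre_quot_isNormalRing A A' h)
  have hprime : ((IsLocalRing.maximalIdeal A).map (algebraMap A A')).IsPrime :=
    (Ideal.Quotient.isDomain_iff_prime _).mp hdom
  refine ⟨hprime, ?_⟩
  haveI := hprime
  haveI hflat : Module.Flat A A' := h.1
  -- a nonzero element of the maximal ideal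
  have hm0 : IsLocalRing.maximalIdeal A ≠ ⊥ := by
    intro h0
    have hfield : IsField A := IsLocalRing.isField_iff_maximalIdeal_eq.mpr h0
    have := ringKrullDim_eq_zero_of_isField hfield
    rw [hA] at this
    exact one_ne_zero this
  obtain ⟨a, ham, ha0⟩ := Submodule.exists_mem_ne_zero_of_ne_bot hm0
  have hamap : algebraMap A A' a ∈ (IsLocalRing.maximalIdeal A).map (algebraMap A A') :=
    Ideal.mem_map_of_mem _ ham
  apply le_antisymm
  · have hmin : (IsLocalRing.maximalIdeal A).map (algebraMap A A') ∈
        (Ideal.span {algebraMap A A' a}).minimalPrimes := by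
      refine ⟨⟨hprime, (Ideal.span_singleton_le_iff_mem _).mpr hamap⟩, ?_⟩
      rintro Q ⟨hQ, haQ⟩ hQP
      haveI := hQ
      have haQ' : a ∈ Q.comap (algebraMap A A') :=
        Ideal.mem_comap.mpr ((Ideal.span_singleton_le_iff_mem _).mp haQ)
      rcases Groth.Agent.H29.DimOneN2.eq_bot_or_eq_maximalIdeal A hA (Q.comap (algebraMap A A'))
        with h0 | hm
      · rw [h0, Ideal.mem_bot] at haQ'
        exact absurd haQ' ha0
      · rw [Ideal.map_le_iff_le_comap, hm]
    exact Ideal.height_le_one_of_isPrincipal_of_mem_minimalPrimes _ _ hmin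
  · rw [Order.one_le_iff_pos, pos_iff_ne_zero, Ne, Ideal.height_eq_zero_iff]
    intro hmin
    have hnzd : algebraMap A A' a ∈ nonZeroDivisors A' :=
      Groth.Agent.H29.DimOneN2.algebraMap_mem_nonZeroDivisors_of_flat A A' a
        (mem_nonZeroDivisors_of_ne_zero ha0)
    exact Set.disjoint_left.mp (Ideal.disjoint_nonZeroDivisors_of_mem_minimalPrimes hmin)
      hamap hnzd

end Groth.Agent.S4728
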