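import Groth.Statements.S4729
import Mathlib

set_option autoImplicit false
universe u
open EGA4

namespace Groth.Agent.S4729

/-- Let A be a commutative ring, M a finite A-module and p ⊆ q prime ideals of A (so that p is a
generization of q). Then the dimension of the A_p-module M_p is at most the dimension of the
A_q-module M_q. -/
theorem result (A : Type u) [CommRing A] (M : Type u) [AddCommGroup M] [Module A M]
    [Module.Finite A M] (p q : Ideal A) [p.IsPrime] [q.IsPrime] (hpq : p ≤ q) :
    Module.supportDim (Localization.AtPrime p) (LocalizedModule p.primeCompl M) ≤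
      Module.supportDim (Localization.AtPrime q) (LocalizedModule q.primeCompl M) := by
  have hle : q.primeCompl ≤ p.primeCompl := fun x hx h => hx (hpq h)
  have hunit : ∀ y : q.primeCompl, IsUnit (algebraMap A (Localization.AtPrime p) y) :=
    fun y => IsLocalization.map_units (Localization.AtPrime p) (⟨y.1, hle y.2⟩ : p.primeCompl)
  let g : Localization.AtPrime q →+* Localization.AtPrime p := IsLocalization.lift hunit
  have hg : ∀ a, g (algebraMap A (Localization.AtPrime q) a) = algebraMap A (Localization.AtPrime p) a :=
    IsLocalization.lift_eq hunit
  have hgmk : ∀ (a : A) (t : q.primeCompl),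
      g (Localization.mk a t) = Localization.mk a (⟨t.1, hle t.2⟩ : p.primeCompl) := by
    intro a t
    rw [Localization.mk_eq_mk', IsLocalization.lift_mk'_spec, Localization.mk_eq_mk']
    exact (IsLocalization.mk'_spec' (Localization.AtPrime p) a (⟨t.1, hle t.2⟩ : p.primeCompl)).symm
  have key : ∀ P : PrimeSpectrum (Localization.AtPrime p),
      P ∈ Module.support (Localization.AtPrime p) (LocalizedModule p.primeCompl M) →
      PrimeSpectrum.comap g P ∈
        Module.support (Localization.AtPrime q) (LocalizedModule q.primeCompl M) := by
    intro P hP
    rw [Module.mem_support_iff'] at hP ⊢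
    obtain ⟨x, hx⟩ := hP
    induction x using LocalizedModule.induction_on with
    | h m s =>
      refine ⟨LocalizedModule.mk m 1, fun r' hr' hzero => ?_⟩
      induction r' using Localization.induction_on with
      | H y =>
        obtain ⟨a, t⟩ := y
        simp only at hr' hzero
        rw [LocalizedModule.mk_smul_mk, ← LocalizedModule.zero_mk (1 : q.primeCompl),
          LocalizedModule.mk_eq] at hzero
        obtain ⟨u, hu⟩ := hzero
        simp only [one_smul, smul_zero] at hu
        apply hx (g (Localization.mk a t)) hr'
        rw [hgmk, LocalizedModule.mk_smul_mk, ← LocalizedModule.zero_mk (1 : p.primeCompl),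
          LocalizedModule.mk_eq]
        refine ⟨⟨u.1, hle u.2⟩, ?_⟩
        simp only [one_smul, smul_zero]
        exact hu
  have hinj : ∀ P P' : PrimeSpectrum (Localization.AtPrime p),
      PrimeSpectrum.comap g P = PrimeSpectrum.comap g P' → P = P' := by
    intro P P' h
    apply (PrimeSpectrum.localization_comap_injective (Localization.AtPrime p) p.primeCompl)
    have h2 := congrArg (PrimeSpectrum.comap (algebraMap A (Localization.AtPrime q))) h
    have hcomp : g.comp (algebraMap A (Localization.AtPrime q)) =
        algebraMap A (Localization.AtPrime p) := RingHom.ext hg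
    rw [← PrimeSpectrum.comap_comp_apply, ← PrimeSpectrum.comap_comp_apply, hcomp] at h2
    exact h2
  apply Order.krullDim_le_of_strictMono
    (fun P : ↥(Module.support (Localization.AtPrime p) (LocalizedModule p.primeCompl M)) =>
      (⟨PrimeSpectrum.comap g P.1, key P.1 P.2⟩ :
        ↥(Module.support (Localization.AtPrime q) (LocalizedModule q.primeCompl M))))
  intro P P' hlt
  have hmono : PrimeSpectrum.comap g P.1 ≤ PrimeSpectrum.comap g P'.1 :=
    Ideal.comap_mono (show P.1.asIdeal ≤ P'.1.asIdeal from hlt.le)
  refine lt_of_le_of_ne hmono ?_
  intro heq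
  have : P.1 = P'.1 := hinj _ _ (congrArg Subtype.val heq)
  exact hlt.ne (Subtype.ext this)

end Groth.Agent.S4729
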