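import Groth.Statements.S4730
import Mathlib
import Groth.Agent.H24.PolyHeight

set_option autoImplicit false
universe u
open EGA4

namespace Groth.Agent.S4730

open Polynomial in
/-- Let A be a Noetherian ring, p a prime ideal of A and q a prime ideal of the polynomial ring A[T]
lying over p. Then ht(p) + 1 = ht(q) + deg.tr_{κ(p)} κ(q), the transcendence degree being that of
the domain A[T]/q over the domain A/p. -/
theorem result (A : Type u) [CommRing A] [IsNoetherianRing A]
    (p : Ideal A) [p.IsPrime] (q : Ideal A[X]) [q.IsPrime] [q.LiesOver p] :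
    (p.height : Cardinal.{u}) + 1 = (q.height : Cardinal.{u}) + Algebra.trdeg (A ⧸ p) (A[X] ⧸ q) := by
  have hle : p.map C ≤ q := by
    rw [Ideal.map_le_iff_le_comap]
    have := (‹q.LiesOver p›).over
    rw [Ideal.under, Polynomial.algebraMap_eq] at this
    exact this.le
  by_cases hq : q = p.map C
  · subst hq
    rw [H24.height_map_C' p]
    congr 1
    let e : (A ⧸ p)[X] ≃ₐ[A ⧸ p] (A[X] ⧸ (p.map C)) :=
      AlgEquiv.ofRingEquiv (f := p.polynomialQuotientEquivQuotientPolynomial) (by
        intro x
        obtain ⟨a, rfl⟩ := Ideal.Quotient.mk_surjective x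
        rw [Polynomial.algebraMap_apply, Algebra.algebraMap_self_apply,
          Ideal.Quotient.algebraMap_mk_of_liesOver, Polynomial.algebraMap_eq]
        have := Ideal.polynomialQuotientEquivQuotientPolynomial_map_mk p (C a)
        rw [Polynomial.map_C] at this
        exact this)
    rw [← e.trdeg_eq, Polynomial.trdeg_of_isDomain]
  · rw [H24.height_eq_height_add_one' p q hq]
    have hnotle : ¬ q ≤ p.map C := fun h => hq (le_antisymm h hle)
    obtain ⟨f, hfq, hfp⟩ := Set.not_subset.mp hnotle
    have hf0 : f.map (Ideal.Quotient.mk p) ≠ 0 := by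
      intro h0
      apply hfp
      rw [SetLike.mem_coe, Ideal.mem_map_C_iff]
      intro n
      have := congrArg (fun g => Polynomial.coeff g n) h0
      simp only [Polynomial.coeff_map, Polynomial.coeff_zero] at this
      exact Ideal.Quotient.eq_zero_iff_mem.mp this
    have haeval : ∀ g : A[X], Polynomial.aeval (Ideal.Quotient.mk q X) (g.map (Ideal.Quotient.mk p)) =
        Ideal.Quotient.mk q g := by
      intro g
      induction g using Polynomial.induction_on' with
      | add g₁ g₂ h₁ h₂ => rw [Polynomial.map_add, map_add, h₁, h₂, map_add]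
      | monomial n a =>
        rw [Polynomial.map_monomial, Polynomial.aeval_monomial,
          Ideal.Quotient.algebraMap_mk_of_liesOver, Polynomial.algebraMap_eq, ← map_pow, ← map_mul,
          Polynomial.C_mul_X_pow_eq_monomial]
    have hX : IsAlgebraic (A ⧸ p) (Ideal.Quotient.mk q X) :=
      ⟨f.map (Ideal.Quotient.mk p), hf0, by rw [haeval, Ideal.Quotient.eq_zero_iff_mem.mpr hfq]⟩
    have halg : Algebra.IsAlgebraic (A ⧸ p) (A[X] ⧸ q) := by
      refine ⟨fun x => ?_⟩
      obtain ⟨g, rfl⟩ := Ideal.Quotient.mk_surjective x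
      rw [← haeval]
      apply Algebra.isAlgebraic_adjoin_singleton_iff.mpr hX
      rw [Algebra.adjoin_singleton_eq_range_aeval]
      exact ⟨_, rfl⟩
    rw [trdeg_eq_zero, add_zero, Cardinal.ofENat_add, Cardinal.ofENat_one]

end Groth.Agent.S4730
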