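import Groth.Statements.S4732
import Mathlib

set_option autoImplicit false
universe u
open EGA4

namespace Groth.Agent.S4732

open AlgebraicGeometry CategoryTheory


set_option backward.isDefEq.respectTransparency.types false in
theorem regular_stalk_Spec (P : Type u) [CommRing P] [IsRegularRing P] (y : Spec (CommRingCat.of P)) :
    IsRegularLocalRing ((Spec (CommRingCat.of P)).presheaf.stalk y) := by
  let k : Algebra P ((Spec (CommRingCat.of P)).presheaf.stalk y) :=
    StructureSheaf.stalkAlgebra P y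
  have : IsLocalization.AtPrime ((Spec (CommRingCat.of P)).presheaf.stalk y) y.asIdeal :=
    StructureSheaf.IsLocalization.to_stalk P y
  have e : Localization.AtPrime y.asIdeal ≃ₐ[P] ((Spec (CommRingCat.of P)).presheaf.stalk y) :=
    IsLocalization.algEquiv y.asIdeal.primeCompl _ _
  exact IsRegularLocalRing.of_ringEquiv e.toRingEquiv

theorem main (k : Type u) [Field k] {X : Scheme.{u}}
    (f : X ⟶ Spec (CommRingCat.of k)) [LocallyOfFiniteType f] (x : X) :
    ∃ (U : X.Opens) (_ : x ∈ U) (Y : Scheme.{u}) (g : Y ⟶ Spec (CommRingCat.of k)) (i : (U : Scheme.{u}) ⟶ Y),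
      IsImmersion i ∧ i ≫ g = U.ι ≫ f ∧ ∀ y : Y, IsRegularLocalRing (Y.presheaf.stalk y) := by
  obtain ⟨U, hU, hxU, -⟩ := exists_isAffineOpen_mem_and_subset (x := x) (U := ⊤) trivial
  let e := hU.isoSpec
  let h : Spec Γ(X, U) ⟶ Spec (CommRingCat.of k) := e.inv ≫ U.ι ≫ f
  have hlft : LocallyOfFiniteType h := by dsimp only [h]; infer_instance
  obtain ⟨ψ, hψ⟩ : ∃ ψ : CommRingCat.of k ⟶ Γ(X, U), Spec.map ψ = h := ⟨Spec.preimage h, Spec.map_preimage h⟩
  have hft : ψ.hom.FiniteType := by
    rw [← hψ] at hlft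
    exact (HasRingHomProperty.Spec_iff (P := @LocallyOfFiniteType)).mp hlft
  letI : Algebra k Γ(X, U) := ψ.hom.toAlgebra
  have hft' : Algebra.FiniteType k Γ(X, U) := hft
  obtain ⟨n, φ, hφ⟩ := Algebra.FiniteType.iff_quotient_mvPolynomial''.mp hft'
  refine ⟨U, hxU, Spec (CommRingCat.of (MvPolynomial (Fin n) k)),
    Spec.map (CommRingCat.ofHom (algebraMap k (MvPolynomial (Fin n) k))),
    e.hom ≫ Spec.map (CommRingCat.ofHom φ.toRingHom), ?_, ?_, ?_⟩
  · have : IsClosedImmersion (Spec.map (CommRingCat.ofHom φ.toRingHom)) :=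
      IsClosedImmersion.spec_of_surjective _ hφ
    infer_instance
  · rw [Category.assoc, ← Spec.map_comp]
    have : CommRingCat.ofHom (algebraMap k (MvPolynomial (Fin n) k)) ≫ CommRingCat.ofHom φ.toRingHom = ψ := by
      ext a
      simp [RingHom.algebraMap_toAlgebra]
    rw [this, hψ]
    simp [h]
  · intro y
    exact regular_stalk_Spec _ y


open AlgebraicGeometry CategoryTheory in
/-- Let k be a field, X a scheme locally of finite type over k and x a point of X. Then there are an
open neighbourhood U of x, a k-scheme Y all of whose local rings are regular, and an immersion U → Y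
compatible with the structure morphisms to Spec k. -/
theorem result (k : Type u) [Field k] {X : Scheme.{u}}
    (f : X ⟶ Spec (CommRingCat.of k)) [LocallyOfFiniteType f] (x : X) :
    ∃ (U : X.Opens) (_ : x ∈ U) (Y : Scheme.{u}) (g : Y ⟶ Spec (CommRingCat.of k)) (i : (U : Scheme.{u}) ⟶ Y),
      IsImmersion i ∧ i ≫ g = U.ι ≫ f ∧ ∀ y : Y, IsRegularLocalRing (Y.presheaf.stalk y) := by
  exact main k f x

end Groth.Agent.S4732
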