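import Groth.Statements.S4733
import Mathlib
import Groth.Agent.Lead.GeomReg
import Groth.Agent.H71.RegularDescent
-- import your own Groth.Agent.* helpers here

set_option autoImplicit false
universe u
open EGA4

set_option linter.style.haveILetI false
set_option linter.unusedSectionVars false
set_option linter.unusedVariables false

namespace Groth.Agent.S4733

open IsLocalRing TensorProduct

/-- A Noetherian local algebra `R'` over a regular local ring `R` containing a field, with `R → R'`
local and formally smooth (for the discrete topologies), is regular. -/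
theorem regular_of_formallySmooth {k : Type u} [Field k] {R R' : Type u} [CommRing R] [CommRing R']
    [IsLocalRing R] [IsLocalRing R'] [IsNoetherianRing R] [IsNoetherianRing R']
    [Algebra k R] [Algebra k R'] [Algebra R R'] [IsScalarTower k R R']
    [IsLocalHom (algebraMap R R')] [Algebra.FormallySmooth R R'] (hR : IsRegularLocalRing R) :
    IsRegularLocalRing R' := by
  letI algPR : Algebra (⊥ : Subfield k) R := Groth.Agent.Lead.GeomReg.primeFieldAlgebra k R
  letI algPR' : Algebra (⊥ : Subfield k) R' := Groth.Agent.Lead.GeomReg.primeFieldAlgebra k R'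
  haveI hST := IsScalarTower.of_algebraMap_eq (R := (⊥ : Subfield k)) (S := R) (A := R')
    (fun x => IsScalarTower.algebraMap_apply k R R' (x : k))
  have hfsR : Algebra.FormallySmooth (⊥ : Subfield k) (ResidueField R) :=
    Groth.Agent.H44.CoeffField.formallySmooth_bot' k _
  haveI : Algebra.IsGeometricallyReduced (⊥ : Subfield k) (ResidueField R) :=
    Groth.Agent.S2451.result.1 hfsR
  have hfsR' : Algebra.FormallySmooth (⊥ : Subfield k) (ResidueField R') :=
    Groth.Agent.H44.CoeffField.formallySmooth_bot' k _
  haveI : Algebra.IsGeometricallyReduced (⊥ : Subfield k) (ResidueField R') :=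
    Groth.Agent.S2451.result.1 hfsR'
  have h1 : CAlgX.IsAdicFormallySmooth (⊥ : Subfield k) R (maximalIdeal R) :=
    ((Groth.Agent.S2453.result (k := (⊥ : Subfield k)) (A := R)).out 0 3).mpr hR
  have h2 : EGA41.IsFormallySmoothAdic (⊥ : Subfield k) ⊥ R (maximalIdeal R) :=
    (Groth.Agent.S4537.result _).mp h1
  have h3 : EGA41.IsFormallySmoothAdic R (maximalIdeal R) R' (maximalIdeal R') := by
    intro C _ _ J hJ _ u _
    exact Algebra.FormallySmooth.exists_lift J hJ u
  have hloc : (maximalIdeal R ^ 1).map (algebraMap R R') ≤ maximalIdeal R' := by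
    rw [pow_one]
    rw [Ideal.map_le_iff_le_comap]
    intro x hx
    rw [Ideal.mem_comap, mem_maximalIdeal, mem_nonunits_iff]
    intro hu
    exact hx ((isUnit_map_iff (algebraMap R R') x).mp hu)
  have h4 := Groth.Agent.S4534.result (⊥ : Ideal (⊥ : Subfield k)) (maximalIdeal R)
    (maximalIdeal R') ⟨1, by simp⟩ ⟨1, hloc⟩ h2 h3
  exact ((Groth.Agent.S2453.result (k := (⊥ : Subfield k)) (A := R')).out 0 3).mp
    ((Groth.Agent.S4537.result _).mpr h4)


open TensorProduct in
/-- For the property 'regular' (affine form): let k be a field, S a Noetherian k-algebra and k' an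
extension field of k such that S is of finite type over k or k' is essentially of finite type over
k; let q' be a prime of S ⊗_k k' and q its contraction to S. If (S ⊗_k k')_{q'} is a regular local
ring then so is S_q; conversely, if k' is separable over k (geometrically reduced) and S_q is
regular, then (S ⊗_k k')_{q'} is regular. -/
theorem result (k S k' : Type u) [Field k] [CommRing S] [Algebra k S]
    [IsNoetherianRing S] [Field k'] [Algebra k k'] (hft : Algebra.FiniteType k S ∨ Algebra.EssFiniteType k k')
    [IsNoetherianRing (S ⊗[k] k')] (q' : Ideal (S ⊗[k] k')) [q'.IsPrime] :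
    (IsRegularLocalRing (Localization.AtPrime q') →
        IsRegularLocalRing (Localization.AtPrime (q'.comap (algebraMap S (S ⊗[k] k'))))) ∧
      (Algebra.IsGeometricallyReduced k k' →
        IsRegularLocalRing (Localization.AtPrime (q'.comap (algebraMap S (S ⊗[k] k')))) →
          IsRegularLocalRing (Localization.AtPrime q')) := by
  haveI hLO : q'.LiesOver (q'.comap (algebraMap S (S ⊗[k] k'))) := ⟨rfl⟩
  constructor
  · intro hreg
    haveI := hreg
    exact Groth.Agent.H71.RD.regular_of_flat_liesOver S (S ⊗[k] k')
      (q'.comap (algebraMap S (S ⊗[k] k'))) q'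
  · intro hsep hreg
    letI algRR' := Localization.AtPrime.algebraOfLiesOver
      (q'.comap (algebraMap S (S ⊗[k] k'))) q'
    haveI : IsNoetherianRing (Localization.AtPrime (q'.comap (algebraMap S (S ⊗[k] k')))) :=
      IsLocalization.isNoetherianRing (q'.comap (algebraMap S (S ⊗[k] k'))).primeCompl _
        inferInstance
    haveI : IsNoetherianRing (Localization.AtPrime q') :=
      IsLocalization.isNoetherianRing q'.primeCompl _ inferInstance
    haveI : IsLocalHom (algebraMap (Localization.AtPrime (q'.comap (algebraMap S (S ⊗[k] k'))))
        (Localization.AtPrime q')) :=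
      Localization.isLocalHom_localRingHom _ _ _ _
    haveI hkk' : Algebra.FormallySmooth k k' := Groth.Agent.S2451.result.2 hsep
    haveI : Algebra.FormallySmooth S (Localization.AtPrime q') := inferInstance
    haveI : Algebra.FormallyEtale S
        (Localization.AtPrime (q'.comap (algebraMap S (S ⊗[k] k')))) :=
      Algebra.FormallyEtale.of_isLocalization (q'.comap (algebraMap S (S ⊗[k] k'))).primeCompl
    haveI hfs : Algebra.FormallySmooth
        (Localization.AtPrime (q'.comap (algebraMap S (S ⊗[k] k')))) (Localization.AtPrime q') :=
      (Algebra.FormallySmooth.iff_restrictScalars (R := S)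
        (A := Localization.AtPrime (q'.comap (algebraMap S (S ⊗[k] k'))))
        (B := Localization.AtPrime q')).mp inferInstance
    exact regular_of_formallySmooth (k := k) hreg

end Groth.Agent.S4733
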