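import Groth.Statements.S4734
import Groth.Agent.H29.NormFlatLoc
import Groth.Agent.H29.CodepthOpen
set_option maxHeartbeats 400000
set_option linter.style.haveILetI false

set_option autoImplicit false
universe u
open EGA4

namespace Groth.Agent.S4734

/-- Let A be a Noetherian ring, I a nilpotent ideal of A and M a finite A-module whose support is all of
Spec A and which is normally flat along I. Then for every prime p of A: M satisfies Serre's
condition (S_n) at p if and only if the A-module A/I does; and the codepth of M_p is at most n if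
and only if the codepth of the A_p-module (A/I)_p is at most n (codepth written additively as dim ≤
depth + n). -/
theorem result (n : ℕ) (A : Type u) [CommRing A] [IsNoetherianRing A]
    (I : Ideal A) (hI : IsNilpotent I) (M : Type u) [AddCommGroup M] [Module A M] [Module.Finite A M]
    (hsupp : Module.support A M = Set.univ) (hM : EGA4.IsNormallyFlat I M) (p : Ideal A) [p.IsPrime] :
    (EGA4.HasSkAt n A M p ↔ EGA4.HasSkAt n A (A ⧸ I) p) ∧
      (Module.supportDim (Localization.AtPrime p) (LocalizedModule p.primeCompl M) ≤
          ((LocCoh.depth (Localization.AtPrime p) (LocalizedModule p.primeCompl M) : ℕ∞) : WithBot ℕ∞) + n ↔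
        Module.supportDim (Localization.AtPrime p) (LocalizedModule p.primeCompl (A ⧸ I)) ≤
          ((LocCoh.depth (Localization.AtPrime p) (LocalizedModule p.primeCompl (A ⧸ I)) : ℕ∞) : WithBot ℕ∞) + n) := by
  have key := fun (q : Ideal A) (hq : q.IsPrime) =>
    @Groth.Agent.H29.NormFlatLoc.sdim_dep_eq A _ _ I hI M _ _ _ hsupp hM q hq
  constructor
  · rw [Groth.Agent.H29.CodepthOpen.hasSkAt_iff M n p,
      Groth.Agent.H29.CodepthOpen.hasSkAt_iff (A ⧸ I) n p]
    constructor
    · intro h p' hp' hle
      have := h p' hle
      rwa [(key p' hp').1, (key p' hp').2] at this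
    · intro h p' hp' hle
      have := h p' hle
      rwa [← (key p' hp').1, ← (key p' hp').2] at this
  · have h1 := (key p inferInstance).1
    have h2 := (key p inferInstance).2
    change Groth.Agent.H29.GenDepth.sdim p M = Groth.Agent.H29.GenDepth.sdim p (A ⧸ I) at h1
    change Groth.Agent.H29.GenDepth.dep p M = Groth.Agent.H29.GenDepth.dep p (A ⧸ I) at h2
    change Groth.Agent.H29.GenDepth.sdim p M ≤
        ((Groth.Agent.H29.GenDepth.dep p M : ℕ∞) : WithBot ℕ∞) + n ↔
      Groth.Agent.H29.GenDepth.sdim p (A ⧸ I) ≤
        ((Groth.Agent.H29.GenDepth.dep p (A ⧸ I) : ℕ∞) : WithBot ℕ∞) + n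
    rw [h1, h2]

end Groth.Agent.S4734
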