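import Groth.Statements.S4737
import Groth.Agent.H29.QuotFib
import Groth.Agent.S4744

set_option maxHeartbeats 400000
set_option linter.style.haveILetI false
open TensorProduct

set_option autoImplicit false
universe u
open EGA4

namespace Groth.Agent.S4737

/-- The property 'geometrically regular', case of a local ring: let A be a Noetherian local ring whose
completion map A → Â is regular (the formal fibres of A are geometrically regular). Then for every
proper ideal I of A, the completion map of the local ring A/I is regular. -/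
theorem result (A : Type u) [CommRing A] [IsNoetherianRing A] [IsLocalRing A]
    (hA : CAlg.IsRegularHom A (EGA4.Cpl A)) (I : Ideal A) [Nontrivial (A ⧸ I)] :
    CAlg.IsRegularHom (A ⧸ I) (EGA4.Cpl (A ⧸ I)) := by
  obtain ⟨-, hfib⟩ := hA
  haveI : IsNoetherianRing (EGA4.Cpl (A ⧸ I)) :=
    Groth.Agent.Lead.isNoetherianRing_adicCompletion (IsLocalRing.maximalIdeal (A ⧸ I))
      (IsLocalRing.maximalIdeal (A ⧸ I)).fg_of_isNoetherianRing
  refine ⟨AdicCompletion.flat_of_isNoetherian (IsLocalRing.maximalIdeal (A ⧸ I)), fun p' _ => ?_⟩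
  refine ⟨Groth.Agent.H34.FibLoc.isNoetherianRing_fiber (A ⧸ I) (EGA4.Cpl (A ⧸ I)) p', ?_⟩
  intro k' _ _ hfin
  obtain ⟨alg, hfin', ⟨e⟩⟩ := Groth.Agent.H29.QuotFib.exists_formalFibre_equiv A I p' k' hfin
  letI := alg
  have h3 : IsRegularRing (k' ⊗[(p'.comap (algebraMap A (A ⧸ I))).ResidueField]
      EGA4.formalFibre A (p'.comap (algebraMap A (A ⧸ I)))) :=
    (hfib (p'.comap (algebraMap A (A ⧸ I)))).2 k' hfin'
  exact @IsRegularRing.of_ringEquiv (k' ⊗[(p'.comap (algebraMap A (A ⧸ I))).ResidueField]
      EGA4.formalFibre A (p'.comap (algebraMap A (A ⧸ I)))) _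
    (k' ⊗[p'.ResidueField] EGA4.formalFibre (A ⧸ I) p') _ e h3

end Groth.Agent.S4737
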