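import Groth.Statements.S4738
import Groth.Agent.H29.QuotFib
import Groth.Agent.S4744

set_option maxHeartbeats 400000
set_option linter.style.haveILetI false
open TensorProduct

set_option autoImplicit false
universe u
open EGA4

namespace Groth.Agent.S4738

/-- For the property 'geometrically reduced', case of a local ring: if the formal fibres of a Noetherian
local ring A are geometrically reduced, then so are the formal fibres of A/I for every proper ideal
I of A. -/
theorem result (A : Type u) [CommRing A] [IsNoetherianRing A] [IsLocalRing A]
    (hA : EGA4.HasGeomReducedFormalFibres A) (I : Ideal A) [Nontrivial (A ⧸ I)] :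
    EGA4.HasGeomReducedFormalFibres (A ⧸ I) := by
  intro p' _
  rw [Algebra.isGeometricallyReduced_field_iff]
  obtain ⟨alg, halg, ⟨e⟩⟩ := Groth.Agent.H29.QuotFib.exists_formalFibre_equiv_algebraic A I p'
    (AlgebraicClosure p'.ResidueField)
  letI := alg
  haveI := halg
  haveI := hA (p'.comap (algebraMap A (A ⧸ I)))
  have h3 : IsReduced (AlgebraicClosure p'.ResidueField ⊗[(p'.comap (algebraMap A (A ⧸ I))).ResidueField]
      EGA4.formalFibre A (p'.comap (algebraMap A (A ⧸ I)))) := inferInstance
  refine ⟨fun x hx => ?_⟩
  have hx' : IsNilpotent (e.symm x) := hx.map e.symm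
  have h0 := h3.eq_zero _ hx'
  exact e.symm.injective (h0.trans (map_zero e.symm).symm)

end Groth.Agent.S4738
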