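import Groth.Statements.S4747
import Groth.Agent.H15.CMFibres
import Groth.Agent.S4744
import Groth.Agent.H87.ComplFlat
import Groth.Agent.Lead.CompleteNoetherian
import Mathlib.RingTheory.AdicCompletion.LocalRing
set_option maxHeartbeats 800000
set_option linter.style.haveILetI false

set_option autoImplicit false
universe u
open EGA4

namespace Groth.Agent.S4747

open IsLocalRing Groth.Agent.H15.FinFlatCM Groth.Agent.H15.CohenNorm2 in
theorem resFinite_algebraMap (A B : Type u) [CommRing A] [CommRing B] [IsLocalRing A]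
    [IsLocalRing B] [Algebra A B] [IsLocalHom (algebraMap A B)]
    [Module.Finite (ResidueField A) (ResidueField B)] : ResFinite (algebraMap A B) := by
  obtain ⟨n, s, hs⟩ := Module.Finite.exists_fin (R := ResidueField A) (M := ResidueField B)
  choose z hz using fun j => IsLocalRing.residue_surjective (s j)
  refine ⟨n, z, fun r => ?_⟩
  have hr : residue B r ∈ Submodule.span (ResidueField A) (Set.range s) := by
    rw [hs]; trivial
  obtain ⟨c, hc⟩ := (Submodule.mem_span_range_iff_exists_fun _).mp hr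
  choose a ha using fun j => IsLocalRing.residue_surjective (c j)
  refine ⟨a, ?_⟩
  rw [← IsLocalRing.residue_eq_zero_iff, map_sub, map_sum, ← hc, sub_eq_zero]
  refine Finset.sum_congr rfl fun j _ => ?_
  rw [map_mul, hz, ← ha j, Algebra.smul_def, IsLocalRing.ResidueField.algebraMap_residue]

open IsLocalRing Groth.Agent.H15.FinFlatCM Groth.Agent.H15.CohenNorm2 in
theorem resFinite_compl (A B : Type u) [CommRing A] [CommRing B] [IsLocalRing A]
    [IsLocalRing B] [IsNoetherianRing A] [IsNoetherianRing B] [Algebra A B]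
    (ψ : EGA4.Cpl A →+* EGA4.Cpl B)
    (hψ : ∀ a, ψ (algebraMap A (EGA4.Cpl A) a) = algebraMap B (EGA4.Cpl B) (algebraMap A B a))
    (h : ResFinite (algebraMap A B)) : ResFinite ψ := by
  obtain ⟨t, z, hz⟩ := h
  refine ⟨t, fun j => algebraMap B (EGA4.Cpl B) (z j), fun r => ?_⟩
  obtain ⟨b, hb⟩ := Groth.Agent.H87.ComplFlat.exists_sub_mem_map_pow (maximalIdeal B)
    (maximalIdeal B).fg_of_isNoetherianRing 1 r
  rw [pow_one, ← AdicCompletion.maximalIdeal_eq_map] at hb
  obtain ⟨a, ha⟩ := hz b
  refine ⟨fun j => algebraMap A (EGA4.Cpl A) (a j), ?_⟩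
  have h1 : r - ∑ j, ψ (algebraMap A (EGA4.Cpl A) (a j)) * algebraMap B (EGA4.Cpl B) (z j) =
      (r - algebraMap B (EGA4.Cpl B) b) +
        algebraMap B (EGA4.Cpl B) (b - ∑ j, algebraMap A B (a j) * z j) := by
    simp only [hψ, map_sub, map_sum, map_mul]
    ring
  rw [h1]
  exact Ideal.add_mem _ hb (map_nonunit (algebraMap B (EGA4.Cpl B)) _ ha)


open TensorProduct in
/-- For the property 'Cohen–Macaulay': let A → B be a local homomorphism of Noetherian local rings
making B a flat A-module, such that the residue field of B is a finite extension of the residue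
field k of A, and such that the formal fibres of A are Cohen–Macaulay. If for every finite extension
k' of k the ring k' ⊗_k (k ⊗_A B̂) is Cohen–Macaulay (B̂ the completion of B), then for every prime
p of A and every finite extension K of k(p) the ring K ⊗_{k(p)} (k(p) ⊗_A B) is Cohen–Macaulay; in
particular all fibres of A → B are Cohen–Macaulay. -/
theorem result (A B : Type u) [CommRing A] [CommRing B]
    [IsNoetherianRing A] [IsNoetherianRing B] [IsLocalRing A] [IsLocalRing B] [Algebra A B]
    [IsLocalHom (algebraMap A B)] [Module.Flat A B]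
    [Module.Finite (IsLocalRing.ResidueField A) (IsLocalRing.ResidueField B)]
    (hA : EGA4.HasCMFormalFibres A)
    (h : ∀ (k' : Type u) [Field k'] [Algebra (IsLocalRing.maximalIdeal A).ResidueField k'],
      Module.Finite (IsLocalRing.maximalIdeal A).ResidueField k' →
        LocCoh.IsCohenMacaulayRing (k' ⊗[(IsLocalRing.maximalIdeal A).ResidueField]
          ((IsLocalRing.maximalIdeal A).Fiber (EGA4.Cpl B)))) :
    ∀ (p : Ideal A) [p.IsPrime] (K : Type u) [Field K] [Algebra p.ResidueField K],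
      Module.Finite p.ResidueField K → LocCoh.IsCohenMacaulayRing (K ⊗[p.ResidueField] (p.Fiber B)) := by
  classical
  have hle : (IsLocalRing.maximalIdeal A).map (algebraMap A B) ≤ IsLocalRing.maximalIdeal B :=
    IsLocalRing.map_maximalIdeal_le (algebraMap A B)
  haveI : IsNoetherianRing (EGA4.Cpl A) :=
    Groth.Agent.Lead.isNoetherianRing_adicCompletion (IsLocalRing.maximalIdeal A)
      (IsLocalRing.maximalIdeal A).fg_of_isNoetherianRing
  haveI : IsNoetherianRing (EGA4.Cpl B) :=
    Groth.Agent.Lead.isNoetherianRing_adicCompletion (IsLocalRing.maximalIdeal B)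
      (IsLocalRing.maximalIdeal B).fg_of_isNoetherianRing
  have hg : ∀ a : A, FSch.complMap (IsLocalRing.maximalIdeal A) (IsLocalRing.maximalIdeal B)
      (algebraMap A B) hle (algebraMap A (EGA4.Cpl A) a) =
      algebraMap B (EGA4.Cpl B) (algebraMap A B a) :=
    fun a => Groth.Agent.H87.ComplFlat.complMap_algebraMap _ _ _ hle a
  have hgflat : (FSch.complMap (IsLocalRing.maximalIdeal A) (IsLocalRing.maximalIdeal B)
      (algebraMap A B) hle).Flat :=
    Groth.Agent.H87.ComplFlat.complMap_flat (IsLocalRing.maximalIdeal A)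
      (IsLocalRing.maximalIdeal B) (algebraMap A B)
      (RingHom.flat_algebraMap_iff.mpr inferInstance) hle
  have hcomp : (FSch.complMap (IsLocalRing.maximalIdeal A) (IsLocalRing.maximalIdeal B)
      (algebraMap A B) hle).comp (algebraMap A (EGA4.Cpl A)) =
      (algebraMap B (EGA4.Cpl B)).comp (algebraMap A B) := RingHom.ext hg
  haveI hloc : IsLocalHom (FSch.complMap (IsLocalRing.maximalIdeal A)
      (IsLocalRing.maximalIdeal B) (algebraMap A B) hle) := by
    apply ((IsLocalRing.local_hom_TFAE _).out 0 2 rfl rfl).mpr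
    rw [AdicCompletion.maximalIdeal_eq_map (R := A), Ideal.map_map, hcomp, ← Ideal.map_map,
      AdicCompletion.maximalIdeal_eq_map (R := B)]
    exact Ideal.map_mono hle
  have hresψ := resFinite_compl A B _ hg (resFinite_algebraMap A B)
  letI : Algebra (EGA4.Cpl A) (EGA4.Cpl B) :=
    (FSch.complMap (IsLocalRing.maximalIdeal A) (IsLocalRing.maximalIdeal B)
      (algebraMap A B) hle).toAlgebra
  haveI : IsScalarTower A B (EGA4.Cpl B) := IsScalarTower.of_algebraMap_eq (fun _ => rfl)
  haveI : IsScalarTower A (EGA4.Cpl A) (EGA4.Cpl B) :=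
    IsScalarTower.of_algebraMap_eq (fun a => (hg a).symm)
  haveI : Module.Flat (EGA4.Cpl A) (EGA4.Cpl B) := hgflat
  haveI : IsLocalHom (algebraMap (EGA4.Cpl A) (EGA4.Cpl B)) := hloc
  haveI : Module.FaithfullyFlat B (EGA4.Cpl B) := Module.FaithfullyFlat.of_flat_of_isLocalHom
  -- the closed fibre of `Â → B̂`
  have hclA : LocCoh.IsCohenMacaulayRing ((IsLocalRing.maximalIdeal A).Fiber (EGA4.Cpl B)) :=
    Groth.Agent.S4744.isCMRing_of_ringEquiv
      (Algebra.TensorProduct.lid (IsLocalRing.maximalIdeal A).ResidueField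
        ((IsLocalRing.maximalIdeal A).Fiber (EGA4.Cpl B))).toRingEquiv
      (h (IsLocalRing.maximalIdeal A).ResidueField (Module.Finite.self _))
  have hclA' := (Groth.Agent.H15.FibreCM.isCM_fiber_iff A (EGA4.Cpl B)
    (IsLocalRing.maximalIdeal A)).mp hclA
  have hmA : (IsLocalRing.maximalIdeal (EGA4.Cpl A)).comap (algebraMap A (EGA4.Cpl A)) =
      IsLocalRing.maximalIdeal A :=
    ((IsLocalRing.local_hom_TFAE (algebraMap A (EGA4.Cpl A))).out 0 4 rfl rfl).mp inferInstance
  have hcl : ∀ (r : Ideal (EGA4.Cpl B)) [r.IsPrime],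
      r.comap (algebraMap (EGA4.Cpl A) (EGA4.Cpl B)) = IsLocalRing.maximalIdeal (EGA4.Cpl A) →
      LocCoh.IsCohenMacaulayLocalRing (EGA4.FibLocRing (EGA4.Cpl A) (EGA4.Cpl B) r) := by
    intro r _ hr
    haveI := Groth.Agent.H15.FlatLoc.isLocalRing_fibLocRing (EGA4.Cpl A) (EGA4.Cpl B) r
    haveI := Groth.Agent.H15.FlatLoc.isLocalRing_fibLocRing A (EGA4.Cpl B) r
    have hrA : r.comap (algebraMap A (EGA4.Cpl B)) = IsLocalRing.maximalIdeal A := by
      rw [IsScalarTower.algebraMap_eq A (EGA4.Cpl A) (EGA4.Cpl B), ← Ideal.comap_comap, hr, hmA]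
    have h1 := hclA' r hrA
    have e1 : algebraMap A (Localization.AtPrime r) =
        (algebraMap (EGA4.Cpl A) (Localization.AtPrime r)).comp (algebraMap A (EGA4.Cpl A)) := by
      ext a
      rw [RingHom.comp_apply, IsScalarTower.algebraMap_apply A (EGA4.Cpl B) (Localization.AtPrime r),
        IsScalarTower.algebraMap_apply (EGA4.Cpl A) (EGA4.Cpl B) (Localization.AtPrime r),
        IsScalarTower.algebraMap_apply A (EGA4.Cpl A) (EGA4.Cpl B)]
    have hideal : (r.comap (algebraMap A (EGA4.Cpl B))).map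
        (algebraMap A (Localization.AtPrime r)) =
        (r.comap (algebraMap (EGA4.Cpl A) (EGA4.Cpl B))).map
          (algebraMap (EGA4.Cpl A) (Localization.AtPrime r)) := by
      rw [hr, hrA, AdicCompletion.maximalIdeal_eq_map (R := A), Ideal.map_map, ← e1]
    exact Groth.Agent.H29.FlatCM.isCM_ringEquiv (Ideal.quotEquivOfEq hideal) h1
  have h2 := Groth.Agent.H15.CMFibres.cm_fibres_of_complete (EGA4.Cpl A) (EGA4.Cpl B) hresψ hcl
  have h2' : ∀ (Q : Ideal (EGA4.Cpl A)) [Q.IsPrime],
      LocCoh.IsCohenMacaulayRing (Q.Fiber (EGA4.Cpl B)) := fun Q _ =>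
    (Groth.Agent.H15.FibreCM.isCM_fiber_iff (EGA4.Cpl A) (EGA4.Cpl B) Q).mpr
      (fun r _ _ => h2 r)
  have h1' : ∀ (p : Ideal A) [p.IsPrime], LocCoh.IsCohenMacaulayRing (p.Fiber (EGA4.Cpl A)) :=
    fun p _ => hA p
  have hfib := Groth.Agent.S4744.aux A (EGA4.Cpl A) B (EGA4.Cpl B) h1' h2'
  intro p _ K _ _ hK
  haveI := hK
  exact Groth.Agent.H15.FinFlatCM.isCMRing_tensor_of_finite p.ResidueField K (p.Fiber B) (hfib p)

end Groth.Agent.S4747
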