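import Groth.Statements.S4748
import Mathlib
import Groth.Agent.H25.NormalSep

set_option autoImplicit false
universe u
open EGA4

namespace Groth.Agent.S4748

set_option linter.style.haveILetI false
set_option linter.unusedVariables false
open TensorProduct
open Groth.Agent.H25.NormalElem Groth.Agent.H25.NormalSep


open TensorProduct in
/-- For the property 'normal' (affine form): let k be a field, S a Noetherian k-algebra and k' an
extension field of k such that S is of finite type over k or k' is essentially of finite type over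
k; let q' be a prime of S ⊗_k k' and q its contraction to S. If (S ⊗_k k')_{q'} is an integrally
closed domain then so is S_q; conversely, if k' is separable over k (geometrically reduced) and S_q
is an integrally closed domain, then so is (S ⊗_k k')_{q'}. -/
theorem result (k S k' : Type u) [Field k] [CommRing S] [Algebra k S]
    [IsNoetherianRing S] [Field k'] [Algebra k k'] (hft : Algebra.FiniteType k S ∨ Algebra.EssFiniteType k k')
    [IsNoetherianRing (S ⊗[k] k')] (q' : Ideal (S ⊗[k] k')) [q'.IsPrime] :
    ((IsDomain (Localization.AtPrime q') ∧ IsIntegrallyClosed (Localization.AtPrime q')) →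
        (IsDomain (Localization.AtPrime (q'.comap (algebraMap S (S ⊗[k] k')))) ∧
          IsIntegrallyClosed (Localization.AtPrime (q'.comap (algebraMap S (S ⊗[k] k')))))) ∧
      (Algebra.IsGeometricallyReduced k k' →
        (IsDomain (Localization.AtPrime (q'.comap (algebraMap S (S ⊗[k] k')))) ∧
          IsIntegrallyClosed (Localization.AtPrime (q'.comap (algebraMap S (S ⊗[k] k'))))) →
          (IsDomain (Localization.AtPrime q') ∧ IsIntegrallyClosed (Localization.AtPrime q'))) := by
  refine ⟨fun h => Groth.Agent.H25.NormalElem.isDomain_isIntegrallyClosed_comap_of_flat S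
    (S ⊗[k] k') q' h, fun hgr h => ?_⟩
  haveI := hgr
  obtain ⟨hd, hic⟩ := h
  haveI := hd
  haveI := hic
  have hN0 : EGA4.IsNormalRing (Localization.AtPrime (q'.comap (algebraMap S (S ⊗[k] k')))) :=
    Groth.Agent.H25.NormalElem.isNormalRing_of_isIntegrallyClosed _
  have hN1 : EGA4.IsNormalRing
      (k' ⊗[k] Localization.AtPrime (q'.comap (algebraMap S (S ⊗[k] k')))) :=
    Groth.Agent.H25.NormalSep.isNormalRing_tensor_of_geomReduced k k' _ hN0
  have hN2 : EGA4.IsNormalRing
      (Localization.AtPrime (q'.comap (algebraMap S (S ⊗[k] k'))) ⊗[k] k') :=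
    Groth.Agent.H25.NormalElem.isNormalRing_of_ringEquiv
      (Algebra.TensorProduct.comm k k' _).toRingEquiv hN1
  letI : Algebra (S ⊗[k] k')
      (Localization.AtPrime (q'.comap (algebraMap S (S ⊗[k] k'))) ⊗[k] k') :=
    (Algebra.TensorProduct.map (IsScalarTower.toAlgHom k S
      (Localization.AtPrime (q'.comap (algebraMap S (S ⊗[k] k'))))) (AlgHom.id k k')).toRingHom.toAlgebra
  haveI : IsScalarTower S (S ⊗[k] k')
      (Localization.AtPrime (q'.comap (algebraMap S (S ⊗[k] k'))) ⊗[k] k') := by
    refine IsScalarTower.of_algebraMap_eq' ?_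
    ext x
    simp [RingHom.algebraMap_toAlgebra, Algebra.TensorProduct.algebraMap_apply]
  haveI hloc : IsLocalization (Algebra.algebraMapSubmonoid (S ⊗[k] k')
      (q'.comap (algebraMap S (S ⊗[k] k'))).primeCompl)
      (Localization.AtPrime (q'.comap (algebraMap S (S ⊗[k] k'))) ⊗[k] k') := by
    refine IsLocalization.tensorProduct_tensorProduct k k'
      (q'.comap (algebraMap S (S ⊗[k] k'))).primeCompl
      (Localization.AtPrime (q'.comap (algebraMap S (S ⊗[k] k')))) ?_
    ext a
    simp [RingHom.algebraMap_toAlgebra]
  have hM : Algebra.algebraMapSubmonoid (S ⊗[k] k')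
      (q'.comap (algebraMap S (S ⊗[k] k'))).primeCompl ≤ q'.primeCompl := by
    rintro _ ⟨s, hs, rfl⟩
    exact hs
  have hunits : ∀ y : Algebra.algebraMapSubmonoid (S ⊗[k] k')
      (q'.comap (algebraMap S (S ⊗[k] k'))).primeCompl,
      IsUnit (algebraMap (S ⊗[k] k') (Localization.AtPrime q') y) := fun y =>
    IsLocalization.map_units (Localization.AtPrime q') (⟨y, hM y.2⟩ : q'.primeCompl)
  letI : Algebra (Localization.AtPrime (q'.comap (algebraMap S (S ⊗[k] k'))) ⊗[k] k')
      (Localization.AtPrime q') :=
    (IsLocalization.lift (M := Algebra.algebraMapSubmonoid (S ⊗[k] k')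
      (q'.comap (algebraMap S (S ⊗[k] k'))).primeCompl) hunits).toAlgebra
  haveI : IsScalarTower (S ⊗[k] k')
      (Localization.AtPrime (q'.comap (algebraMap S (S ⊗[k] k'))) ⊗[k] k')
      (Localization.AtPrime q') :=
    IsScalarTower.of_algebraMap_eq (fun x => (IsLocalization.lift_eq hunits x).symm)
  haveI := IsLocalization.isLocalization_of_submonoid_le
    (Localization.AtPrime (q'.comap (algebraMap S (S ⊗[k] k'))) ⊗[k] k')
    (Localization.AtPrime q') _ q'.primeCompl hM
  have hN3 : EGA4.IsNormalRing (Localization.AtPrime q') :=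
    Groth.Agent.S9412.isNormalRing_of_isLocalization
      (q'.primeCompl.map (algebraMap (S ⊗[k] k')
        (Localization.AtPrime (q'.comap (algebraMap S (S ⊗[k] k'))) ⊗[k] k'))) _ hN2
  exact Groth.Agent.H25.NormalElem.isDomain_isIntegrallyClosed_of_isLocalRing _ hN3

end Groth.Agent.S4748
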