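import Groth.Statements.S4750
import Groth.Agent.H15.FibreSk

set_option autoImplicit false
universe u
open EGA4

namespace Groth.Agent.S4750

/-- Let A → B → C be homomorphisms of Noetherian rings, both flat and with (S_n) fibres. Then the
composite A → C is flat with (S_n) fibres. -/
theorem result (n : ℕ) (A B C : Type u) [CommRing A] [CommRing B] [CommRing C] [IsNoetherianRing A]
    [IsNoetherianRing B] [IsNoetherianRing C] [Algebra A B] [Algebra B C] [Algebra A C] [IsScalarTower A B C]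
    [Module.Flat A B] [Module.Flat B C]
    (hAB : ∀ (p : Ideal A) [p.IsPrime], LocCoh.HasSk n (p.Fiber B) (p.Fiber B))
    (hBC : ∀ (q : Ideal B) [q.IsPrime], LocCoh.HasSk n (q.Fiber C) (q.Fiber C)) :
    Module.Flat A C ∧ ∀ (p : Ideal A) [p.IsPrime], LocCoh.HasSk n (p.Fiber C) (p.Fiber C) := by
  refine ⟨Module.Flat.trans A B C, fun p _ => ?_⟩
  rw [Groth.Agent.H15.FibreSk.hasSk_fiber_iff A C n p]
  intro r _ hr
  obtain ⟨hht, hdp⟩ := Groth.Agent.H15.FibreSk.fib_comp A B C r
  have h1 : Groth.Agent.H15.FibreSk.SkFib A B n (r.comap (algebraMap B C)) :=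
    (Groth.Agent.H15.FibreSk.hasSk_fiber_iff A B n
      ((r.comap (algebraMap B C)).comap (algebraMap A B))).mp (hAB _) _ rfl
  have h2 : Groth.Agent.H15.FibreSk.SkFib B C n r :=
    (Groth.Agent.H15.FibreSk.hasSk_fiber_iff B C n (r.comap (algebraMap B C))).mp (hBC _) r rfl
  unfold Groth.Agent.H15.FibreSk.SkFib at h1 h2 ⊢
  rw [hht, hdp]
  exact le_trans (Groth.Agent.H15.FlatLoc.min_add_le _ _ _) (add_le_add h1 h2)

end Groth.Agent.S4750
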