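import Groth.Statements.S4751
import Groth.Agent.H15.FibreSk

set_option autoImplicit false
universe u
open EGA4

namespace Groth.Agent.S4751

/-- Let A → B → C be homomorphisms of Noetherian rings such that B → C is faithfully flat with (S_n)
fibres and the composite A → C is flat with (S_n) fibres. Then A → B is flat with (S_n) fibres. -/
theorem result (n : ℕ) (A B C : Type u) [CommRing A] [CommRing B] [CommRing C]
    [IsNoetherianRing A] [IsNoetherianRing B] [IsNoetherianRing C] [Algebra A B] [Algebra B C] [Algebra A C]
    [IsScalarTower A B C] [Module.FaithfullyFlat B C] [Module.Flat A C]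
    (hBC : ∀ (q : Ideal B) [q.IsPrime], LocCoh.HasSk n (q.Fiber C) (q.Fiber C))
    (hAC : ∀ (p : Ideal A) [p.IsPrime], LocCoh.HasSk n (p.Fiber C) (p.Fiber C)) :
    Module.Flat A B ∧ ∀ (p : Ideal A) [p.IsPrime], LocCoh.HasSk n (p.Fiber B) (p.Fiber B) := by
  have hflatAB : Module.Flat A B := by
    open TensorProduct TensorProduct.AlgebraTensorModule in
    rw [Module.Flat.iff_lTensor_preserves_injective_linearMap]
    intro N N' _ _ _ _ f hf
    have h1 : Function.Injective (lTensor C C f) :=
      Module.Flat.lTensor_preserves_injective_linearMap (M := C) f hf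
    have h2 := lTensor_comp_cancelBaseChange (R := A) (A := B) (B := C) (M := C) f
    have h3 : Function.Injective (lTensor C C (lTensor B B f)) := by
      have h4 : Function.Injective
          ((cancelBaseChange A B C C N').toLinearMap ∘ₗ lTensor C C (lTensor B B f)) := by
        rw [← h2]
        exact h1.comp (cancelBaseChange A B C C N).injective
      rw [LinearMap.coe_comp] at h4
      exact Function.Injective.of_comp h4
    have h5 : Function.Injective ((lTensor B B f).lTensor C) := h3
    exact (Module.FaithfullyFlat.lTensor_injective_iff_injective B C (lTensor B B f)).1 h5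
  refine ⟨hflatAB, fun p _ => ?_⟩
  rw [Groth.Agent.H15.FibreSk.hasSk_fiber_iff A B n p]
  intro q _ hq
  obtain ⟨P, hPprime, hPover⟩ := Ideal.exists_isPrime_liesOver_of_faithfullyFlat (B := C) q
  have hle : q.map (algebraMap B C) ≤ P := by
    rw [Ideal.map_le_iff_le_comap]
    exact le_of_eq hPover.over
  obtain ⟨r, hrmin, hrP⟩ := Ideal.exists_minimalPrimes_le hle
  have hrprime : r.IsPrime := hrmin.1.1
  have hrover : q = r.comap (algebraMap B C) := by
    apply le_antisymm
    · exact Ideal.map_le_iff_le_comap.mp hrmin.1.2
    · calc r.comap (algebraMap B C) ≤ P.comap (algebraMap B C) := Ideal.comap_mono hrP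
        _ = q := hPover.over.symm
  have : r.LiesOver q := ⟨hrover⟩
  have hheight : r.height = q.height := by
    rw [Ideal.height_eq_height_add_of_liesOver_of_hasGoingDown q r]
    have h0 : (r.map (Ideal.Quotient.mk (q.map (algebraMap B C)))).height = 0 := by
      have : (r.map (Ideal.Quotient.mk (q.map (algebraMap B C)))).IsPrime :=
        Ideal.map_isPrime_of_surjective Ideal.Quotient.mk_surjective
          (by rw [Ideal.mk_ker]; exact hrmin.1.2)
      rw [Ideal.height_eq_zero_iff]
      have h1 : r ∈ (q.map (algebraMap B C)).minimalPrimes := hrmin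
      rw [Ideal.minimalPrimes_eq_comap] at h1
      obtain ⟨q', hq', hq'eq⟩ := h1
      rw [← hq'eq, Ideal.map_comap_of_surjective _ Ideal.Quotient.mk_surjective]
      exact hq'
    rw [h0, add_zero]
  subst hrover
  have := Groth.Agent.H15.FlatLoc.isLocalRing_fibLocRing B C r
  -- the closed fibre of `B_q → C_r` has dimension zero
  obtain ⟨hdim, -, -⟩ := Groth.Agent.H15.FlatLoc.flat_data B C r
  rw [← IsLocalRing.maximalIdeal_height_eq_ringKrullDim] at hdim
  have hdim' : r.height = (r.comap (algebraMap B C)).height +
      (IsLocalRing.maximalIdeal (EGA4.FibLocRing B C r)).height := by exact_mod_cast hdim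
  have hne : (r.comap (algebraMap B C)).height ≠ ⊤ :=
    Ideal.height_ne_top (Ideal.IsPrime.ne_top inferInstance)
  have hzero : (IsLocalRing.maximalIdeal (EGA4.FibLocRing B C r)).height = 0 := by
    apply ENat.add_right_injective_of_ne_top hne
    show (r.comap (algebraMap B C)).height +
      (IsLocalRing.maximalIdeal (EGA4.FibLocRing B C r)).height =
      (r.comap (algebraMap B C)).height + 0
    rw [← hdim', hheight, add_zero]
  have hdepth0 : LocCoh.depth (EGA4.FibLocRing B C r) (EGA4.FibLocRing B C r) = 0 := by
    have h1 := Groth.Agent.H29.CM.depth_le_supportDim (A := EGA4.FibLocRing B C r)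
      (M := EGA4.FibLocRing B C r)
    rw [Module.supportDim_self_eq_ringKrullDim,
      ← IsLocalRing.maximalIdeal_height_eq_ringKrullDim, hzero] at h1
    have h2 : LocCoh.depth (EGA4.FibLocRing B C r) (EGA4.FibLocRing B C r) ≤ 0 := by
      exact_mod_cast h1
    exact le_antisymm h2 zero_le
  obtain ⟨hht, hdp⟩ := Groth.Agent.H15.FibreSk.fib_comp A B C r
  have h3 : Groth.Agent.H15.FibreSk.SkFib A C n r :=
    (Groth.Agent.H15.FibreSk.hasSk_fiber_iff A C n (r.comap (algebraMap A C))).mp (hAC _) r rfl
  unfold Groth.Agent.H15.FibreSk.SkFib at h3 ⊢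
  rw [hht, hdp, hzero, hdepth0, add_zero, add_zero] at h3
  exact h3

end Groth.Agent.S4751
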