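import Groth.Statements.S4759
import Mathlib
import Groth.Agent.H24.LimConn
import Groth.Agent.H24.ConsLim

set_option autoImplicit false
universe u
open CategoryTheory AlgebraicGeometry
open Lim8

namespace Groth.Agent.S4759

/-- Let S = lim S_i be a cofiltered limit of schemes with affine transition maps, some stage S_{i₀}
being quasi-compact and quasi-separated. Then every constructible subset Z of S is the preimage
under the projection S ⟶ S_i of a constructible subset of S_i, for some index i over i₀. -/
theorem result {I : Type u} [SmallCategory I] [IsCofiltered I]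
    (D : I ⥤ Scheme.{u}) (c : Limits.Cone D) (hc : Limits.IsLimit c)
    [∀ (i j : I) (f : i ⟶ j), IsAffineHom (D.map f)] (i₀ : I) [CompactSpace (D.obj i₀)]
    [QuasiSeparatedSpace (D.obj i₀)] (Z : Set c.pt) (hZ : Topology.IsConstructible Z) :
    ∃ (i : I) (_ : i ⟶ i₀) (Zi : Set (D.obj i)),
      Topology.IsConstructible Zi ∧ (⇑(c.π.app i) ⁻¹' Zi : Set c.pt) = Z := by
  have hAff : ∀ {i j : I} (f : i ⟶ j), IsAffineHom (D.map f) := fun f => inferInstance
  have hπ := isAffineHom_π_app D c hc
  have hqs : ∀ (i : I) (_ : i ⟶ i₀), QuasiSeparatedSpace (D.obj i) := fun i f =>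
    quasiSeparatedSpace_of_quasiSeparated (D.map f)
  have : CompactSpace c.pt := QuasiCompact.compactSpace_of_compactSpace (c.π.app i₀)
  induction hZ using Topology.IsConstructible.empty_union_induction with
  | open_retrocompact U hUo hUc =>
    obtain ⟨i, a, V, hVc, hV⟩ := H24.exists_preimage_eq_over D c hc ⟨U, hUo⟩ hUc.isCompact i₀
    have := hqs i a
    exact ⟨i, a, V, hVc.isConstructible V.2, congrArg (fun W : c.pt.Opens => (W : Set c.pt)) hV⟩
  | union s hs t ht ihs iht =>
    obtain ⟨i, a, Zi, hZi, rfl⟩ := ihs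
    obtain ⟨i', a', Zi', hZi', rfl⟩ := iht
    refine ⟨IsCofiltered.min i i', IsCofiltered.minToLeft i i' ≫ a,
      D.map (IsCofiltered.minToLeft i i') ⁻¹' Zi ∪ D.map (IsCofiltered.minToRight i i') ⁻¹' Zi',
      ((D.map _).isConstructible_preimage hZi).union ((D.map _).isConstructible_preimage hZi'), ?_⟩
    ext x
    simp only [Set.mem_preimage, Set.mem_union]
    rw [← Scheme.Hom.comp_apply, ← Scheme.Hom.comp_apply, c.w, c.w]
  | compl s hs ihs =>
    obtain ⟨i, a, Zi, hZi, rfl⟩ := ihs
    exact ⟨i, a, Ziᶜ, hZi.compl, rfl⟩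

end Groth.Agent.S4759
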