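import Groth.Statements.S4760
import Mathlib
import Groth.Agent.H24.LimConn
import Groth.Agent.H24.ConsLim

set_option autoImplicit false
universe u
open CategoryTheory AlgebraicGeometry
open Lim8

namespace Groth.Agent.S4760

/-- Let S = lim S_i be a cofiltered limit of schemes with affine transition maps, some stage S_{i₀}
being quasi-compact and quasi-separated. Then every subset Z of S that is both locally closed and
constructible is the preimage under the projection S ⟶ S_i of a locally closed constructible subset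
of S_i, for some index i over i₀. -/
theorem result {I : Type u} [SmallCategory I] [IsCofiltered I]
    (D : I ⥤ Scheme.{u}) (c : Limits.Cone D) (hc : Limits.IsLimit c)
    [∀ (i j : I) (f : i ⟶ j), IsAffineHom (D.map f)] (i₀ : I)
    [CompactSpace (D.obj i₀)] [QuasiSeparatedSpace (D.obj i₀)] (Z : Set c.pt)
    (hZ : Topology.IsConstructible Z) (hZ' : IsLocallyClosed Z) :
    ∃ (i : I) (_ : i ⟶ i₀) (Zi : Set (D.obj i)),
      Topology.IsConstructible Zi ∧ IsLocallyClosed Zi ∧ (⇑(c.π.app i) ⁻¹' Zi : Set c.pt) = Z := by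
  have hAff : ∀ {i j : I} (f : i ⟶ j), IsAffineHom (D.map f) := fun f => inferInstance
  have hπ := isAffineHom_π_app D c hc
  have hqs : ∀ (i : I) (_ : i ⟶ i₀), QuasiSeparatedSpace (D.obj i) := fun i f =>
    quasiSeparatedSpace_of_quasiSeparated (D.map f)
  have : CompactSpace c.pt := QuasiCompact.compactSpace_of_compactSpace (c.π.app i₀)
  have : QuasiSeparatedSpace c.pt := quasiSeparatedSpace_of_quasiSeparated (c.π.app i₀)
  obtain ⟨U, V, hUo, hUc, hVo, hVc, rfl⟩ := H24.exists_compact_opens_diff_of_isLocallyClosed hZ hZ'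
  obtain ⟨i, a, U', V', hU'c, hV'c, hU', hV'⟩ :=
    H24.exists_preimage_eq_over₂ D c hc ⟨U, hUo⟩ ⟨V, hVo⟩ hUc hVc i₀
  have := hqs i a
  refine ⟨i, a, (U' : Set (D.obj i)) \ (V' : Set (D.obj i)),
    (hU'c.isConstructible U'.2).sdiff (hV'c.isConstructible V'.2),
    U'.2.isLocallyClosed.inter V'.2.isClosed_compl.isLocallyClosed, ?_⟩
  rw [Set.preimage_sdiff]
  have h1 := congrArg (fun W : c.pt.Opens => (W : Set c.pt)) hU'
  have h2 := congrArg (fun W : c.pt.Opens => (W : Set c.pt)) hV'
  simp only [Scheme.Hom.coe_preimage, TopologicalSpace.Opens.coe_mk] at h1 h2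
  rw [h1, h2]

end Groth.Agent.S4760
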