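import Groth.Statements.S4763
import Mathlib

set_option autoImplicit false
universe u
open CategoryTheory AlgebraicGeometry
open Lim8

namespace Groth.Agent.S4763

/-- Let S = lim S_i be a cofiltered limit of schemes with affine transition maps and let i be an index.
The canonical projection S ⟶ S_i is dominant if and only if every transition map S_j ⟶ S_i is
dominant. -/
theorem result {I : Type u} [SmallCategory I] [IsCofiltered I]
    (D : I ⥤ Scheme.{u}) (c : Limits.Cone D) (hc : Limits.IsLimit c)
    [∀ (i j : I) (f : i ⟶ j), IsAffineHom (D.map f)] (i : I) :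
    IsDominant (c.π.app i) ↔ ∀ (j : I) (φ : j ⟶ i), IsDominant (D.map φ) := by
  haveI : ∀ {i j : I} (f : i ⟶ j), IsAffineHom (D.map f) := fun f => inferInstance
  constructor
  · intro h j φ
    have : IsDominant (c.π.app j ≫ D.map φ) := by
      rw [c.w φ]
      exact h
    exact IsDominant.of_comp (f := c.π.app j) (g := D.map φ)
  · intro h
    refine ⟨?_⟩
    rw [DenseRange, dense_iff_inter_open]
    intro U hU hne
    obtain ⟨x, hx⟩ := hne
    obtain ⟨_, ⟨V, hV : IsAffineOpen V, rfl⟩, hxV, hVU⟩ :=
      (D.obj i).isBasis_affineOpens.exists_subset_of_mem_open hx hU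
    by_contra hemp
    rw [Set.not_nonempty_iff_eq_empty] at hemp
    have H : c.π.app i ⁻¹ᵁ V = c.π.app i ⁻¹ᵁ ⊥ := by
      ext s
      simp only [TopologicalSpace.Opens.map_coe, Set.mem_preimage, SetLike.mem_coe,
        TopologicalSpace.Opens.coe_bot, Set.mem_empty_iff_false, iff_false]
      intro hs
      have : c.π.app i s ∈ U ∩ Set.range (c.π.app i) := ⟨hVU hs, s, rfl⟩
      rw [hemp] at this
      exact this
    obtain ⟨j, φ, hj⟩ := exists_map_preimage_eq_map_preimage D c hc hV.isCompact
      (by simp) H
    have hd : DenseRange (D.map φ) := (h j φ).denseRange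
    obtain ⟨y, hyV, z, rfl⟩ := (dense_iff_inter_open.mp hd) V V.2 ⟨x, hxV⟩
    have hz : z ∈ D.map φ ⁻¹ᵁ V := hyV
    rw [hj] at hz
    exact hz

end Groth.Agent.S4763
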