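import Groth.Statements.S4765
import Mathlib

set_option autoImplicit false
universe u
open CategoryTheory AlgebraicGeometry
open Lim8

namespace Groth.Agent.S4765

/-- Let S = lim S_i be a cofiltered limit of schemes with affine transition maps and let i be an index
such that the projection S ⟶ S_j is surjective for every j over i. Then the projection S ⟶ S_i is an
open map if and only if every transition map S_j ⟶ S_i is an open map. This is the case of open
morphisms. -/
theorem result {I : Type u} [SmallCategory I] [IsCofiltered I]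
    (D : I ⥤ Scheme.{u}) (c : Limits.Cone D) (hc : Limits.IsLimit c)
    [∀ (i j : I) (f : i ⟶ j), IsAffineHom (D.map f)] (i : I)
    (hs : ∀ (j : I) (φ : j ⟶ i), Surjective (c.π.app j)) :
    IsOpenMap ⇑(c.π.app i) ↔ ∀ (j : I) (φ : j ⟶ i), IsOpenMap ⇑(D.map φ) := by
  have hAff : ∀ {i j : I} (f : i ⟶ j), IsAffineHom (D.map f) := fun f => inferInstance
  constructor
  · intro h j φ U hU
    have : ⇑(D.map φ) '' U = ⇑(c.π.app i) '' (⇑(c.π.app j) ⁻¹' U) := by
      ext y
      constructor
      · rintro ⟨x, hx, rfl⟩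
        obtain ⟨z, rfl⟩ := (hs j φ).surj x
        exact ⟨z, hx, by rw [← Scheme.Hom.comp_apply, c.w]⟩
      · rintro ⟨z, hz, rfl⟩
        exact ⟨c.π.app j z, hz, by rw [← Scheme.Hom.comp_apply, c.w]⟩
    rw [this]
    exact h _ (hU.preimage (c.π.app j).continuous)
  · intro h
    rw [(isBasis_preimage_isAffineOpen D c hc).isOpenMap_iff]
    rintro _ ⟨_, ⟨j, V, -, rfl⟩, rfl⟩
    let j' := IsCofiltered.min j i
    let a : j' ⟶ j := IsCofiltered.minToLeft j i
    let b : j' ⟶ i := IsCofiltered.minToRight j i
    have : ⇑(c.π.app i) '' ((c.π.app j ⁻¹ᵁ V : c.pt.Opens) : Set c.pt) =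
        ⇑(D.map b) '' (⇑(D.map a) ⁻¹' (V : Set (D.obj j))) := by
      ext y
      constructor
      · rintro ⟨z, hz, rfl⟩
        refine ⟨c.π.app j' z, ?_, by rw [← Scheme.Hom.comp_apply, c.w]⟩
        change D.map a (c.π.app j' z) ∈ V
        rw [← Scheme.Hom.comp_apply, c.w]
        exact hz
      · rintro ⟨x, hx, rfl⟩
        obtain ⟨z, rfl⟩ := (hs j' b).surj x
        refine ⟨z, ?_, by rw [← Scheme.Hom.comp_apply, c.w]⟩
        change c.π.app j z ∈ V
        rw [← c.w a, Scheme.Hom.comp_apply]
        exact hx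
    rw [this]
    exact h j' b _ (V.2.preimage (D.map a).continuous)

end Groth.Agent.S4765
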