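import Groth.Statements.S4766
import Mathlib
import Groth.Agent.S4765
import Groth.Agent.H24.LimPullback

set_option autoImplicit false
universe u
open CategoryTheory AlgebraicGeometry
open Lim8

namespace Groth.Agent.S4766

/-- Let S = lim S_i be a cofiltered limit of schemes with affine transition maps and let i be an index
such that the projection S ⟶ S_j is surjective for every j over i. Then the projection S ⟶ S_i is
universally open if and only if every transition map S_j ⟶ S_i is universally open. This is the case
of universally open morphisms. -/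
theorem result {I : Type u} [SmallCategory I] [IsCofiltered I]
    (D : I ⥤ Scheme.{u}) (c : Limits.Cone D) (hc : Limits.IsLimit c)
    [∀ (i j : I) (f : i ⟶ j), IsAffineHom (D.map f)] (i : I)
    (hs : ∀ (j : I) (φ : j ⟶ i), Surjective (c.π.app j)) :
    UniversallyOpen (c.π.app i) ↔ ∀ (j : I) (φ : j ⟶ i), UniversallyOpen (D.map φ) := by
  have hAff : ∀ {a b : I} (f : a ⟶ b), IsAffineHom (D.map f) := fun f => inferInstance
  constructor
  · intro h j φ
    rw [UniversallyOpen.eq]
    apply MorphismProperty.universally_mk'
    intro T f _
    let e : Limits.pullback f (c.π.app i) ⟶ Limits.pullback f (D.map φ) :=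
      Limits.pullback.lift (Limits.pullback.fst _ _) (Limits.pullback.snd _ _ ≫ c.π.app j)
        (by rw [Category.assoc, c.w, Limits.pullback.condition])
    have e1 : e ≫ Limits.pullback.fst f (D.map φ) = Limits.pullback.fst f (c.π.app i) :=
      Limits.pullback.lift_fst _ _ _
    have e2 : e ≫ Limits.pullback.snd f (D.map φ) = Limits.pullback.snd f (c.π.app i) ≫ c.π.app j :=
      Limits.pullback.lift_snd _ _ _
    have he : IsPullback e (Limits.pullback.snd f (c.π.app i)) (Limits.pullback.snd f (D.map φ))
        (c.π.app j) := by
      have big : IsPullback (e ≫ Limits.pullback.fst f (D.map φ))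
          (Limits.pullback.snd f (c.π.app i)) f (c.π.app j ≫ D.map φ) := by
        rw [e1, c.w]
        exact IsPullback.of_hasPullback _ _
      exact IsPullback.of_right big e2 (IsPullback.of_hasPullback _ _)
    have hsurj : Surjective e :=
      MorphismProperty.of_isPullback (P := @Surjective) he.flip (hs j φ)
    have hopen : IsOpenMap (Limits.pullback.fst f (c.π.app i)) :=
      (Limits.pullback.fst f (c.π.app i)).isOpenMap
    show IsOpenMap (Limits.pullback.fst f (D.map φ))
    intro V hV
    have hV' : IsOpen (e ⁻¹' V) := hV.preimage e.continuous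
    have := hopen _ hV'
    rw [← e1, Scheme.Hom.comp_base, TopCat.coe_comp, Set.image_comp,
      Set.image_preimage_eq V hsurj.surj] at this
    exact this
  · intro h
    rw [UniversallyOpen.eq]
    apply MorphismProperty.universally_mk'
    intro T f _
    show IsOpenMap (Limits.pullback.fst f (c.π.app i))
    have hc' := H24.isLimitPbCone D (𝟙 i) f c hc (Limits.pullback.fst f (c.π.app i))
      (Limits.pullback.snd f (c.π.app i)) (IsPullback.of_hasPullback _ _)
    have key := (Groth.Agent.S4765.result (H24.pbDiagram D (𝟙 i) f) _ hc' (Over.mk (𝟙 i))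
      (by
        intro j φ
        rw [H24.pbCone_π_app]
        exact MorphismProperty.of_isPullback (P := @Surjective)
          (H24.isPullback_pbLift D (𝟙 i) f c _ _ (IsPullback.of_hasPullback _ _) j).flip
          (hs j.left j.hom))).mpr
      (by
        intro j φ
        have : UniversallyOpen ((H24.pbDiagram D (𝟙 i) f).map φ) := by
          rw [H24.pbDiagram_map]
          exact MorphismProperty.of_isPullback (P := @UniversallyOpen)
            (H24.isPullback_pbMap D (𝟙 i) f φ).flip (h j.left φ.left)
        exact ((H24.pbDiagram D (𝟙 i) f).map φ).isOpenMap)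
    rw [H24.pbCone_π_app] at key
    have e1 := H24.pbLift_fst D (𝟙 i) f c (Limits.pullback.fst f (c.π.app i))
      (Limits.pullback.snd f (c.π.app i)) Limits.pullback.condition (Over.mk (𝟙 i))
    rw [← e1]
    have hiso : IsIso (D.map ((Over.mk (𝟙 i)).hom ≫ 𝟙 i)) := by
      have : (Over.mk (𝟙 i)).hom ≫ 𝟙 i = 𝟙 i := Category.comp_id _
      rw [this]
      exact Functor.map_isIso D (𝟙 i)
    have hiso2 : IsIso (Limits.pullback.fst f (D.map ((Over.mk (𝟙 i)).hom ≫ 𝟙 i))) :=
      inferInstance
    rw [Scheme.Hom.comp_base, TopCat.coe_comp]
    exact (Limits.pullback.fst f (D.map ((Over.mk (𝟙 i)).hom ≫ 𝟙 i))).homeomorph.isOpenMap.comp key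

end Groth.Agent.S4766
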