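import Groth.Statements.S4767
import Mathlib
import Groth.Agent.H24.LimConn
import Groth.Agent.H24.LimDominant
import Groth.Agent.H24.IrredLemmas

set_option autoImplicit false
universe u
open CategoryTheory AlgebraicGeometry
open Lim8

namespace Groth.Agent.S4767

/-- Let S = lim S_i be a cofiltered limit of schemes with affine transition maps, some stage S_{i₀}
being quasi-compact and quasi-separated, and assume that the underlying topological space of S is
Noetherian. If S is not irreducible, then there is an index i over i₀ such that S_j is not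
irreducible for every index j over i. -/
theorem result {I : Type u} [SmallCategory I] [IsCofiltered I]
    (D : I ⥤ Scheme.{u}) (c : Limits.Cone D) (hc : Limits.IsLimit c)
    [∀ (i j : I) (f : i ⟶ j), IsAffineHom (D.map f)] (i₀ : I)
    [CompactSpace (D.obj i₀)] [QuasiSeparatedSpace (D.obj i₀)]
    [TopologicalSpace.NoetherianSpace c.pt] (h : ¬ IrreducibleSpace c.pt) :
    ∃ (i : I) (_ : i ⟶ i₀), ∀ (j : I) (_ : j ⟶ i), ¬ IrreducibleSpace (D.obj j) := by
  classical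
  have hAff : ∀ {i j : I} (f : i ⟶ j), IsAffineHom (D.map f) := fun f => inferInstance
  have hπ := isAffineHom_π_app D c hc
  have hcomp : ∀ (i : I) (_ : i ⟶ i₀), CompactSpace (D.obj i) := fun i f =>
    QuasiCompact.compactSpace_of_compactSpace (D.map f)
  have hqs : ∀ (i : I) (_ : i ⟶ i₀), QuasiSeparatedSpace (D.obj i) := fun i f =>
    quasiSeparatedSpace_of_quasiSeparated (D.map f)
  by_cases hne : Nonempty c.pt
  · obtain ⟨U, V, hUc, hVc, hUne, hVne, hUV⟩ :=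
      H24.exists_disjoint_compact_opens_of_not_irreducibleSpace c.pt h
    obtain ⟨i₁, a₁, U₁, hU₁c, hU₁⟩ := H24.exists_preimage_eq_over D c hc U hUc i₀
    obtain ⟨i₂, a₂, V₂, hV₂c, hV₂⟩ := H24.exists_preimage_eq_over D c hc V hVc i₁
    let U₂ : (D.obj i₂).Opens := D.map a₂ ⁻¹ᵁ U₁
    have hU₂c : IsCompact (U₂ : Set (D.obj i₂)) := (D.map a₂).isCompact_preimage hU₁c
    have hU₂ : c.π.app i₂ ⁻¹ᵁ U₂ = U := by
      rw [← hU₁, ← Scheme.Hom.comp_preimage, c.w]
    have := hcomp i₂ (a₂ ≫ a₁)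
    have := hqs i₂ (a₂ ≫ a₁)
    have hinter : IsCompact ((U₂ ⊓ V₂ : (D.obj i₂).Opens) : Set (D.obj i₂)) :=
      QuasiSeparatedSpace.inter_isCompact _ _ U₂.2 hU₂c V₂.2 hV₂c
    obtain ⟨j₁, f₁, e₁⟩ := exists_map_preimage_eq_map_preimage D c hc (U := U₂ ⊓ V₂) (V := ⊥)
      hinter (by simp) (by
        rw [Scheme.Hom.preimage_inf, hU₂, hV₂, hUV]; simp)
    refine ⟨j₁, f₁ ≫ a₂ ≫ a₁, fun j f => ?_⟩
    have hUj : c.π.app j ⁻¹ᵁ (D.map (f ≫ f₁) ⁻¹ᵁ U₂) = U := by
      rw [← hU₂, ← Scheme.Hom.comp_preimage, c.w]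
    have hVj : c.π.app j ⁻¹ᵁ (D.map (f ≫ f₁) ⁻¹ᵁ V₂) = V := by
      rw [← hV₂, ← Scheme.Hom.comp_preimage, c.w]
    refine H24.not_irreducibleSpace_of_opens
      ((D.map (f ≫ f₁) ⁻¹ᵁ U₂ : (D.obj j).Opens) : Set (D.obj j))
      ((D.map (f ≫ f₁) ⁻¹ᵁ V₂ : (D.obj j).Opens) : Set (D.obj j))
      (TopologicalSpace.Opens.isOpen _) (TopologicalSpace.Opens.isOpen _) ?_ ?_ ?_
    · obtain ⟨x, hx⟩ := hUne
      refine ⟨c.π.app j x, ?_⟩
      have : x ∈ c.π.app j ⁻¹ᵁ (D.map (f ≫ f₁) ⁻¹ᵁ U₂) := by rw [hUj]; exact hx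
      exact this
    · obtain ⟨x, hx⟩ := hVne
      refine ⟨c.π.app j x, ?_⟩
      have : x ∈ c.π.app j ⁻¹ᵁ (D.map (f ≫ f₁) ⁻¹ᵁ V₂) := by rw [hVj]; exact hx
      exact this
    · rw [← TopologicalSpace.Opens.coe_inf, ← Scheme.Hom.preimage_inf, D.map_comp, Scheme.Hom.comp_preimage, e₁]
      simp
  · have hex : ∃ (j : I) (_ : j ⟶ i₀), ¬ Nonempty (D.obj j) := by
      by_contra hcon
      push Not at hcon
      exact hne (H24.nonempty_of_isLimit_over D c hc i₀ hcon)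
    obtain ⟨j, a, hj⟩ := hex
    refine ⟨j, a, fun k f hk => ?_⟩
    exact hj ⟨D.map f (Classical.arbitrary _)⟩

end Groth.Agent.S4767
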