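import Groth.Statements.S4768
import Mathlib
import Groth.Agent.H24.LimConn

set_option autoImplicit false
universe u
open CategoryTheory AlgebraicGeometry
open Lim8

namespace Groth.Agent.S4768

/-- Let S = lim S_i be a cofiltered limit of schemes with affine transition maps, some stage S_{i₀}
being quasi-compact and quasi-separated. If S is not preconnected (that is, S is the disjoint union
of two nonempty open subsets), then there is an index i over i₀ such that S_j is not preconnected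
for every index j over i. (The published statement assumes the stage only quasi-compact, which is
not enough: over the affine space in infinitely many variables with a doubled origin, the closed
subschemes cut out by the first n coordinates form a system with affine transition maps in which
every stage is connected while the limit consists of two disjoint points. The published proof
descends the two pieces of S to quasi-compact open subsets of a stage and needs their intersection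
to become empty at a later stage, which uses that quasi-compact open subsets of the stage are
constructible; so the stage is taken quasi-separated here, as in part (i).) -/
theorem result {I : Type u} [SmallCategory I] [IsCofiltered I]
    (D : I ⥤ Scheme.{u}) (c : Limits.Cone D) (hc : Limits.IsLimit c)
    [∀ (i j : I) (f : i ⟶ j), IsAffineHom (D.map f)] (i₀ : I)
    [CompactSpace (D.obj i₀)] [QuasiSeparatedSpace (D.obj i₀)] (h : ¬ PreconnectedSpace c.pt) :
    ∃ (i : I) (_ : i ⟶ i₀), ∀ (j : I) (_ : j ⟶ i), ¬ PreconnectedSpace (D.obj j) := by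
  classical
  have hAff : ∀ {i j : I} (f : i ⟶ j), IsAffineHom (D.map f) := fun f => inferInstance
  have hπ := isAffineHom_π_app D c hc
  have hcomp : ∀ (i : I) (_ : i ⟶ i₀), CompactSpace (D.obj i) := fun i f =>
    QuasiCompact.compactSpace_of_compactSpace (D.map f)
  have hqs : ∀ (i : I) (_ : i ⟶ i₀), QuasiSeparatedSpace (D.obj i) := fun i f =>
    quasiSeparatedSpace_of_quasiSeparated (D.map f)
  have : CompactSpace c.pt := QuasiCompact.compactSpace_of_compactSpace (c.π.app i₀)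
  obtain ⟨U, V, hUo, hVo, hUV, hcov, hUne, hVne⟩ := H24.exists_opens_of_not_preconnectedSpace h
  have hUcl : IsClosed U := by
    have : U = Vᶜ := by
      ext x
      have h1 : x ∈ U ∪ V := hcov ▸ Set.mem_univ x
      have h2 : x ∉ U ∩ V := hUV ▸ Set.notMem_empty x
      simp only [Set.mem_union, Set.mem_inter_iff, Set.mem_compl_iff] at *
      tauto
    rw [this]; exact hVo.isClosed_compl
  have hVcl : IsClosed V := by
    have : V = Uᶜ := by
      ext x
      have h1 : x ∈ U ∪ V := hcov ▸ Set.mem_univ x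
      have h2 : x ∉ U ∩ V := hUV ▸ Set.notMem_empty x
      simp only [Set.mem_union, Set.mem_inter_iff, Set.mem_compl_iff] at *
      tauto
    rw [this]; exact hUo.isClosed_compl
  obtain ⟨i₁, a₁, U₁, hU₁c, hU₁⟩ := H24.exists_preimage_eq_over D c hc ⟨U, hUo⟩ hUcl.isCompact i₀
  obtain ⟨i₂, a₂, V₂, hV₂c, hV₂⟩ := H24.exists_preimage_eq_over D c hc ⟨V, hVo⟩ hVcl.isCompact i₁
  let U₂ : (D.obj i₂).Opens := D.map a₂ ⁻¹ᵁ U₁
  have hU₂c : IsCompact (U₂ : Set (D.obj i₂)) := (D.map a₂).isCompact_preimage hU₁c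
  have hU₂ : c.π.app i₂ ⁻¹ᵁ U₂ = ⟨U, hUo⟩ := by
    rw [← hU₁, ← Scheme.Hom.comp_preimage, c.w]
  have := hcomp i₂ (a₂ ≫ a₁)
  have := hqs i₂ (a₂ ≫ a₁)
  -- disjointness
  have hinter : IsCompact ((U₂ ⊓ V₂ : (D.obj i₂).Opens) : Set (D.obj i₂)) :=
    QuasiSeparatedSpace.inter_isCompact _ _ U₂.2 hU₂c V₂.2 hV₂c
  obtain ⟨j₁, f₁, e₁⟩ := exists_map_preimage_eq_map_preimage D c hc (U := U₂ ⊓ V₂) (V := ⊥)
    hinter (by simp) (by
      rw [Scheme.Hom.preimage_inf, hU₂, hV₂]
      ext x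
      simp only [TopologicalSpace.Opens.coe_inf, TopologicalSpace.Opens.coe_mk, hUV]
      simp)
  let U₃ : (D.obj j₁).Opens := D.map f₁ ⁻¹ᵁ U₂
  let V₃ : (D.obj j₁).Opens := D.map f₁ ⁻¹ᵁ V₂
  have hU₃c : IsCompact (U₃ : Set (D.obj j₁)) := (D.map f₁).isCompact_preimage hU₂c
  have hV₃c : IsCompact (V₃ : Set (D.obj j₁)) := (D.map f₁).isCompact_preimage hV₂c
  have hU₃ : c.π.app j₁ ⁻¹ᵁ U₃ = ⟨U, hUo⟩ := by
    rw [← hU₂, ← Scheme.Hom.comp_preimage, c.w]
  have hV₃ : c.π.app j₁ ⁻¹ᵁ V₃ = ⟨V, hVo⟩ := by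
    rw [← hV₂, ← Scheme.Hom.comp_preimage, c.w]
  have hdisj : U₃ ⊓ V₃ = ⊥ := by
    rw [← Scheme.Hom.preimage_inf, e₁]; simp
  have := hcomp j₁ (f₁ ≫ a₂ ≫ a₁)
  obtain ⟨j₂, f₂, e₂⟩ := exists_map_preimage_eq_map_preimage D c hc (U := U₃ ⊔ V₃) (V := ⊤)
    (hU₃c.union hV₃c) (by simpa using CompactSpace.isCompact_univ) (by
      rw [Scheme.Hom.preimage_sup, hU₃, hV₃]
      ext x
      simp only [TopologicalSpace.Opens.coe_sup, TopologicalSpace.Opens.coe_mk, hcov]
      simp)
  refine ⟨j₂, f₂ ≫ f₁ ≫ a₂ ≫ a₁, fun j f => ?_⟩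
  have hUj : c.π.app j ⁻¹ᵁ (D.map (f ≫ f₂) ⁻¹ᵁ U₃) = ⟨U, hUo⟩ := by
    rw [← hU₃, ← Scheme.Hom.comp_preimage, c.w]
  have hVj : c.π.app j ⁻¹ᵁ (D.map (f ≫ f₂) ⁻¹ᵁ V₃) = ⟨V, hVo⟩ := by
    rw [← hV₃, ← Scheme.Hom.comp_preimage, c.w]
  refine H24.not_preconnectedSpace_of_opens
    ((D.map (f ≫ f₂) ⁻¹ᵁ U₃ : (D.obj j).Opens) : Set (D.obj j))
    ((D.map (f ≫ f₂) ⁻¹ᵁ V₃ : (D.obj j).Opens) : Set (D.obj j))
    (TopologicalSpace.Opens.isOpen _) (TopologicalSpace.Opens.isOpen _) ?_ ?_ ?_ ?_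
  · rw [← TopologicalSpace.Opens.coe_inf, ← Scheme.Hom.preimage_inf, hdisj]; simp
  · rw [← TopologicalSpace.Opens.coe_sup, ← Scheme.Hom.preimage_sup, D.map_comp, Scheme.Hom.comp_preimage, e₂]
    simp
  · obtain ⟨x, hx⟩ := hUne
    refine ⟨c.π.app j x, ?_⟩
    have : x ∈ c.π.app j ⁻¹ᵁ (D.map (f ≫ f₂) ⁻¹ᵁ U₃) := by rw [hUj]; exact hx
    exact this
  · obtain ⟨x, hx⟩ := hVne
    refine ⟨c.π.app j x, ?_⟩
    have : x ∈ c.π.app j ⁻¹ᵁ (D.map (f ≫ f₂) ⁻¹ᵁ V₃) := by rw [hVj]; exact hx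
    exact this

end Groth.Agent.S4768
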