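import Groth.Statements.S4770
import Mathlib
import Groth.Agent.H24.LimConn
import Groth.Agent.H24.LimDominant
import Groth.Agent.H24.IrredComp
import Groth.Agent.H24.ConnComp

set_option autoImplicit false
universe u
open CategoryTheory AlgebraicGeometry
open Lim8

namespace Groth.Agent.S4770

/-- Let S = lim S_i be a cofiltered limit of schemes whose transition maps are affine and dominant, some
stage S_{i₀} being quasi-compact, and assume that the underlying topological space of S is
Noetherian. Then there is an index i over i₀ such that, for every j over i, the map sending a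
connected component C of S to the closure of its image under S ⟶ S_j is a bijection from the set of
connected components of S onto the set of connected components of S_j. -/
theorem result {I : Type u} [SmallCategory I] [IsCofiltered I]
    (D : I ⥤ Scheme.{u}) (c : Limits.Cone D) (hc : Limits.IsLimit c)
    [∀ (i j : I) (f : i ⟶ j), IsAffineHom (D.map f)] (i₀ : I)
    [CompactSpace (D.obj i₀)] [TopologicalSpace.NoetherianSpace c.pt]
    (hd : ∀ (i j : I) (φ : i ⟶ j), IsDominant (D.map φ)) :
    ∃ (i : I) (_ : i ⟶ i₀), ∀ (j : I) (_ : j ⟶ i),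
      Set.BijOn (fun C : Set c.pt => closure (⇑(c.π.app j) '' (C : Set c.pt) : Set (D.obj j)))
        (Set.range (connectedComponent : c.pt → Set c.pt))
        (Set.range (connectedComponent : D.obj j → Set (D.obj j))) := by
  classical
  have hAff : ∀ {i j : I} (f : i ⟶ j), IsAffineHom (D.map f) := fun f => inferInstance
  have hdom := H24.isDominant_π_app D c hc hd
  have hcomp : ∀ (i : I) (_ : i ⟶ i₀), CompactSpace (D.obj i) := fun i f =>
    QuasiCompact.compactSpace_of_compactSpace (D.map f)
  have hfin : (Set.range (connectedComponent : c.pt → Set c.pt)).Finite :=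
    H24.finite_range_connectedComponent_of_noetherianSpace
  let P : I → Set c.pt → Prop := fun j C =>
    ∃ U : (D.obj j).Opens, IsCompact (U : Set (D.obj j)) ∧ c.π.app j ⁻¹' (U : Set (D.obj j)) = C
  have hP : ∀ C ∈ Set.range (connectedComponent : c.pt → Set c.pt), ∀ i₁ : I,
      ∃ (i : I) (_ : i ⟶ i₁), ∀ (j : I) (_ : j ⟶ i), P j C := by
    rintro _ ⟨x, rfl⟩ i₁
    have hO := H24.isOpen_connectedComponent_of_noetherianSpace x
    obtain ⟨i, a, O, hOc, hOeq⟩ := H24.exists_preimage_eq_over D c hc ⟨connectedComponent x, hO⟩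
      (TopologicalSpace.NoetherianSpace.isCompact _) i₁
    refine ⟨i, a, fun j φ => ⟨D.map φ ⁻¹ᵁ O, (D.map φ).isCompact_preimage hOc, ?_⟩⟩
    have hj : c.π.app j ⁻¹ᵁ (D.map φ ⁻¹ᵁ O) = ⟨connectedComponent x, hO⟩ := by
      rw [← hOeq, ← Scheme.Hom.comp_preimage, c.w]
    exact congrArg (fun U : c.pt.Opens => (U : Set c.pt)) hj
  obtain ⟨i₁, a₁, h₁⟩ := H24.exists_index_forall_finite _ hfin P hP i₀
  choose! U hUc hUpre using h₁ i₁ (𝟙 _)
  let Utot : (D.obj i₁).Opens :=
    ⟨⋃ C ∈ Set.range (connectedComponent : c.pt → Set c.pt), (U C : Set (D.obj i₁)),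
      isOpen_biUnion fun C _ => (U C).2⟩
  have hUtotc : IsCompact (Utot : Set (D.obj i₁)) := hfin.isCompact_biUnion fun C hC => hUc C hC
  have := hcomp i₁ a₁
  have hUtot : c.π.app i₁ ⁻¹ᵁ Utot = c.π.app i₁ ⁻¹ᵁ ⊤ := by
    ext x
    simp only [Scheme.Hom.coe_preimage, Set.mem_preimage, SetLike.mem_coe, TopologicalSpace.Opens.coe_top,
      Set.mem_univ, iff_true]
    change c.π.app i₁ x ∈ ⋃ C ∈ Set.range (connectedComponent : c.pt → Set c.pt),
      (U C : Set (D.obj i₁))
    simp only [Set.mem_iUnion, exists_prop]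
    refine ⟨connectedComponent x, ⟨x, rfl⟩, ?_⟩
    have : x ∈ c.π.app i₁ ⁻¹' (U (connectedComponent x) : Set (D.obj i₁)) := by
      rw [hUpre _ ⟨x, rfl⟩]; exact mem_connectedComponent
    exact this
  obtain ⟨i₂, f₂, e₂⟩ := exists_map_preimage_eq_map_preimage D c hc (U := Utot) (V := ⊤)
    hUtotc (by simpa using CompactSpace.isCompact_univ) hUtot
  refine ⟨i₂, f₂ ≫ a₁, fun j φ => ?_⟩
  refine H24.bijOn_connectedComponent_of_denseRange (c.π.app j).continuous (c.π.app j).denseRange
    (fun C => D.map (φ ≫ f₂) ⁻¹' (U C : Set (D.obj i₁))) ?_ ?_ ?_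
  · intro C _
    exact (U C).2.preimage (D.map (φ ≫ f₂)).continuous
  · intro C hC
    ext x
    simp only [Set.mem_preimage]
    rw [← Scheme.Hom.comp_apply, c.w]
    have := hUpre C hC
    conv_rhs => rw [← this]
    rfl
  · apply Set.eq_univ_of_forall
    intro y
    have hy : D.map φ y ∈ D.map f₂ ⁻¹ᵁ Utot := by rw [e₂]; trivial
    change D.map f₂ (D.map φ y) ∈ ⋃ C ∈ Set.range (connectedComponent : c.pt → Set c.pt),
      (U C : Set (D.obj i₁)) at hy
    simp only [Set.mem_iUnion, exists_prop] at hy ⊢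
    obtain ⟨C, hC, hyC⟩ := hy
    refine ⟨C, hC, ?_⟩
    simp only [Set.mem_preimage]
    rw [D.map_comp, Scheme.Hom.comp_apply]
    exact hyC

end Groth.Agent.S4770
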