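import Groth.Statements.S4771
import Mathlib
import Groth.Agent.H24.LimConn
import Groth.Agent.H24.LimDominant
import Groth.Agent.H24.IrredLemmas

set_option autoImplicit false
universe u
open CategoryTheory AlgebraicGeometry
open Lim8

namespace Groth.Agent.S4771

/-- Let S = lim S_i be a cofiltered limit of schemes whose transition maps are affine and dominant, some
stage S_{i₀} being quasi-compact, and assume that the underlying topological space of S is
Noetherian. Then S is irreducible if and only if there is an index i over i₀ such that S_j is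
irreducible for every j over i. -/
theorem result {I : Type u} [SmallCategory I] [IsCofiltered I]
    (D : I ⥤ Scheme.{u}) (c : Limits.Cone D) (hc : Limits.IsLimit c)
    [∀ (i j : I) (f : i ⟶ j), IsAffineHom (D.map f)] (i₀ : I)
    [CompactSpace (D.obj i₀)] [TopologicalSpace.NoetherianSpace c.pt]
    (hd : ∀ (i j : I) (φ : i ⟶ j), IsDominant (D.map φ)) :
    IrreducibleSpace c.pt ↔ ∃ (i : I) (_ : i ⟶ i₀), ∀ (j : I) (_ : j ⟶ i), IrreducibleSpace (D.obj j) := by
  classical
  have hAff : ∀ {i j : I} (f : i ⟶ j), IsAffineHom (D.map f) := fun f => inferInstance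
  have hπ := isAffineHom_π_app D c hc
  have hdom := H24.isDominant_π_app D c hc hd
  have hcomp : ∀ (i : I) (_ : i ⟶ i₀), CompactSpace (D.obj i) := fun i f =>
    QuasiCompact.compactSpace_of_compactSpace (D.map f)
  constructor
  · intro hirr
    refine ⟨i₀, 𝟙 _, fun j _ => ?_⟩
    exact @H24.irreducibleSpace_of_denseRange c.pt (D.obj j) _ _ hirr _
      (c.π.app j).continuous (c.π.app j).denseRange
  · rintro ⟨i, a, hi⟩
    have : CompactSpace (D.obj i) := hcomp i a
    have hne : Nonempty c.pt := H24.nonempty_of_isLimit_over D c hc i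
      (fun j f => (hi j f).toNonempty)
    by_contra h
    obtain ⟨U, V, hUc, hVc, hUne, hVne, hUV⟩ :=
      H24.exists_disjoint_compact_opens_of_not_irreducibleSpace c.pt h
    obtain ⟨i₁, a₁, U₁, hU₁c, hU₁⟩ := H24.exists_preimage_eq_over D c hc U hUc i
    obtain ⟨i₂, a₂, V₂, hV₂c, hV₂⟩ := H24.exists_preimage_eq_over D c hc V hVc i₁
    let U₂ : (D.obj i₂).Opens := D.map a₂ ⁻¹ᵁ U₁
    have hU₂ : c.π.app i₂ ⁻¹ᵁ U₂ = U := by
      rw [← hU₁, ← Scheme.Hom.comp_preimage, c.w]
    have hdisj : U₂ ⊓ V₂ = ⊥ := by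
      apply H24.opens_eq_bot_of_preimage_eq_bot (c.π.app i₂)
      rw [Scheme.Hom.preimage_inf, hU₂, hV₂, hUV]
    refine H24.not_irreducibleSpace_of_opens (U₂ : Set (D.obj i₂)) (V₂ : Set (D.obj i₂))
      U₂.2 V₂.2 ?_ ?_ ?_ (hi i₂ (a₂ ≫ a₁))
    · obtain ⟨x, hx⟩ := hUne
      refine ⟨c.π.app i₂ x, ?_⟩
      have : x ∈ c.π.app i₂ ⁻¹ᵁ U₂ := by rw [hU₂]; exact hx
      exact this
    · obtain ⟨x, hx⟩ := hVne
      refine ⟨c.π.app i₂ x, ?_⟩
      have : x ∈ c.π.app i₂ ⁻¹ᵁ V₂ := by rw [hV₂]; exact hx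
      exact this
    · rw [← TopologicalSpace.Opens.coe_inf, hdisj]; simp

end Groth.Agent.S4771
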