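import Groth.Statements.S4772
import Mathlib
import Groth.Agent.H24.LimConn
import Groth.Agent.H24.LimDominant

set_option autoImplicit false
universe u
open CategoryTheory AlgebraicGeometry
open Lim8

namespace Groth.Agent.S4772

/-- Let S = lim S_i be a cofiltered limit of schemes whose transition maps are affine and dominant, some
stage S_{i₀} being quasi-compact. Then S is connected (in particular nonempty) if and only if there
is an index i over i₀ such that S_j is connected for every j over i. -/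
theorem result {I : Type u} [SmallCategory I] [IsCofiltered I]
    (D : I ⥤ Scheme.{u}) (c : Limits.Cone D) (hc : Limits.IsLimit c)
    [∀ (i j : I) (f : i ⟶ j), IsAffineHom (D.map f)] (i₀ : I)
    [CompactSpace (D.obj i₀)] (hd : ∀ (i j : I) (φ : i ⟶ j), IsDominant (D.map φ)) :
    ConnectedSpace c.pt ↔ ∃ (i : I) (_ : i ⟶ i₀), ∀ (j : I) (_ : j ⟶ i), ConnectedSpace (D.obj j) := by
  classical
  have hAff : ∀ {i j : I} (f : i ⟶ j), IsAffineHom (D.map f) := fun f => inferInstance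
  have hπ := isAffineHom_π_app D c hc
  have hdom := H24.isDominant_π_app D c hc hd
  have hcomp : ∀ (i : I) (_ : i ⟶ i₀), CompactSpace (D.obj i) := fun i f =>
    QuasiCompact.compactSpace_of_compactSpace (D.map f)
  have : CompactSpace c.pt := QuasiCompact.compactSpace_of_compactSpace (c.π.app i₀)
  constructor
  · intro hconn
    refine ⟨i₀, 𝟙 _, fun j _ => ?_⟩
    have : PreconnectedSpace (D.obj j) :=
      @DenseRange.preconnectedSpace c.pt (D.obj j) _ _ hconn.toPreconnectedSpace _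
        (c.π.app j).denseRange (c.π.app j).continuous
    exact ⟨⟨c.π.app j (Classical.arbitrary c.pt)⟩⟩
  · rintro ⟨i, a, hi⟩
    have : CompactSpace (D.obj i) := hcomp i a
    have hne : Nonempty c.pt := H24.nonempty_of_isLimit_over D c hc i
      (fun j f => (hi j f).toNonempty)
    suffices hpre : PreconnectedSpace c.pt from ⟨hne⟩
    by_contra h
    obtain ⟨U, V, hUo, hVo, hUV, hcov, hUne, hVne⟩ := H24.exists_opens_of_not_preconnectedSpace h
    have hUcl : IsClosed U := by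
      have : U = Vᶜ := by
        ext x
        have h1 : x ∈ U ∪ V := hcov ▸ Set.mem_univ x
        have h2 : x ∉ U ∩ V := hUV ▸ Set.notMem_empty x
        simp only [Set.mem_union, Set.mem_inter_iff, Set.mem_compl_iff] at *
        tauto
      rw [this]; exact hVo.isClosed_compl
    have hVcl : IsClosed V := by
      have : V = Uᶜ := by
        ext x
        have h1 : x ∈ U ∪ V := hcov ▸ Set.mem_univ x
        have h2 : x ∉ U ∩ V := hUV ▸ Set.notMem_empty x
        simp only [Set.mem_union, Set.mem_inter_iff, Set.mem_compl_iff] at *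
        tauto
      rw [this]; exact hUo.isClosed_compl
    obtain ⟨i₁, a₁, U₁, hU₁c, hU₁⟩ := H24.exists_preimage_eq_over D c hc ⟨U, hUo⟩ hUcl.isCompact i
    obtain ⟨i₂, a₂, V₂, hV₂c, hV₂⟩ := H24.exists_preimage_eq_over D c hc ⟨V, hVo⟩ hVcl.isCompact i₁
    let U₂ : (D.obj i₂).Opens := D.map a₂ ⁻¹ᵁ U₁
    have hU₂c : IsCompact (U₂ : Set (D.obj i₂)) := (D.map a₂).isCompact_preimage hU₁c
    have hU₂ : c.π.app i₂ ⁻¹ᵁ U₂ = ⟨U, hUo⟩ := by
      rw [← hU₁, ← Scheme.Hom.comp_preimage, c.w]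
    have := hcomp i₂ (a₂ ≫ a₁ ≫ a)
    have hdisj : U₂ ⊓ V₂ = ⊥ := by
      apply H24.opens_eq_bot_of_preimage_eq_bot (c.π.app i₂)
      rw [Scheme.Hom.preimage_inf, hU₂, hV₂]
      ext x
      simp only [TopologicalSpace.Opens.coe_inf, TopologicalSpace.Opens.coe_mk, hUV]
      simp
    obtain ⟨j₂, f₂, e₂⟩ := exists_map_preimage_eq_map_preimage D c hc (U := U₂ ⊔ V₂) (V := ⊤)
      (hU₂c.union hV₂c) (by simpa using CompactSpace.isCompact_univ) (by
        rw [Scheme.Hom.preimage_sup, hU₂, hV₂]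
        ext x
        simp only [TopologicalSpace.Opens.coe_sup, TopologicalSpace.Opens.coe_mk, hcov]
        simp)
    have hUj : c.π.app j₂ ⁻¹ᵁ (D.map f₂ ⁻¹ᵁ U₂) = ⟨U, hUo⟩ := by
      rw [← hU₂, ← Scheme.Hom.comp_preimage, c.w]
    have hVj : c.π.app j₂ ⁻¹ᵁ (D.map f₂ ⁻¹ᵁ V₂) = ⟨V, hVo⟩ := by
      rw [← hV₂, ← Scheme.Hom.comp_preimage, c.w]
    refine H24.not_preconnectedSpace_of_opens
      ((D.map f₂ ⁻¹ᵁ U₂ : (D.obj j₂).Opens) : Set (D.obj j₂))
      ((D.map f₂ ⁻¹ᵁ V₂ : (D.obj j₂).Opens) : Set (D.obj j₂))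
      (TopologicalSpace.Opens.isOpen _) (TopologicalSpace.Opens.isOpen _) ?_ ?_ ?_ ?_
      (hi j₂ (f₂ ≫ a₂ ≫ a₁)).toPreconnectedSpace
    · rw [← TopologicalSpace.Opens.coe_inf, ← Scheme.Hom.preimage_inf, hdisj]; simp
    · rw [← TopologicalSpace.Opens.coe_sup, ← Scheme.Hom.preimage_sup, e₂]
      simp
    · obtain ⟨x, hx⟩ := hUne
      refine ⟨c.π.app j₂ x, ?_⟩
      have : x ∈ c.π.app j₂ ⁻¹ᵁ (D.map f₂ ⁻¹ᵁ U₂) := by rw [hUj]; exact hx
      exact this
    · obtain ⟨x, hx⟩ := hVne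
      refine ⟨c.π.app j₂ x, ?_⟩
      have : x ∈ c.π.app j₂ ⁻¹ᵁ (D.map f₂ ⁻¹ᵁ V₂) := by rw [hVj]; exact hx
      exact this

end Groth.Agent.S4772
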