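import Groth.Statements.S4773
import Groth.Agent.H37.ConnLimit2
import Groth.Agent.S4625

set_option autoImplicit false
universe u
open CategoryTheory AlgebraicGeometry
open Lim8

namespace Groth.Agent.S4773

/-- Let k be a field and X a quasi-compact scheme over k. Then X is geometrically connected over k if
and only if, for every finite separable field extension K of k, the base change X ⊗_k K is
connected. Connectedness includes being nonempty on both sides. -/
theorem result {k : Type u} [Field k]
    {X : Scheme.{u}} (f : X ⟶ Spec (CommRingCat.of k)) [CompactSpace X] :
    GeometricallyConnected f ↔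
      ∀ (K : Type u) [Field K] [Algebra k K] [Module.Finite k K] [Algebra.IsSeparable k K],
        ConnectedSpace ↑(Limits.pullback f (Spec.map (CommRingCat.ofHom (algebraMap k K)))) := by
  constructor
  · intro hg K _ _ _ _
    haveI := hg
    haveI : Subsingleton ↥(Spec (CommRingCat.of K)) :=
      (inferInstance : Subsingleton (PrimeSpectrum K))
    haveI : Nonempty ↥(Spec (CommRingCat.of K)) :=
      (inferInstance : Nonempty (PrimeSpectrum K))
    exact GeometricallyConnected.connectedSpace_of_subsingleton
      (f := Limits.pullback.snd f (Spec.map (CommRingCat.ofHom (algebraMap k K))))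
  · intro h
    haveI : ConnectedSpace ↥(Limits.pullback f
        (Spec.map (CommRingCat.ofHom (algebraMap k (SeparableClosure k))))) := by
      refine Groth.Agent.H37.connectedSpace_of_forall_finSub (SeparableClosure k) f ?_
      intro E
      haveI := E.2
      haveI : Algebra.IsSeparable k ↥E.1 :=
        Algebra.isSeparable_tower_bot_of_isSeparable k ↥E.1 (SeparableClosure k)
      exact h ↥E.1
    have h1 : GeometricallyConnected (Limits.pullback.snd f
        (Spec.map (CommRingCat.ofHom (algebraMap k (SeparableClosure k))))) :=
      Groth.Agent.H37.geomConn_of_isSepClosed _
    exact (Groth.Agent.S4625.result (K := SeparableClosure k) f).mpr h1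

end Groth.Agent.S4773
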