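import Groth.Statements.S4775
import Mathlib
import Groth.Agent.H24.FlatSurj
import Groth.Agent.H24.LimReduced

set_option autoImplicit false
universe u
open CategoryTheory AlgebraicGeometry
open Lim8

namespace Groth.Agent.S4775

/-- Let S = lim S_i be a cofiltered limit of schemes whose transition maps are affine, flat and
surjective. Then S is reduced if and only if every S_i is reduced. -/
theorem result {I : Type u} [SmallCategory I] [IsCofiltered I]
    (D : I ⥤ Scheme.{u}) (c : Limits.Cone D) (hc : Limits.IsLimit c)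
    [∀ (i j : I) (f : i ⟶ j), IsAffineHom (D.map f)]
    (hf : ∀ (i j : I) (φ : i ⟶ j), Flat (D.map φ) ∧ Surjective (D.map φ)) :
    IsReduced c.pt ↔ ∀ (i : I), IsReduced (D.obj i) := by
  have hAff : ∀ {i j : I} (f : i ⟶ j), IsAffineHom (D.map f) := fun f => inferInstance
  constructor
  · intro hred i
    refine ⟨fun U => ⟨fun t ht => ?_⟩⟩
    apply TopCat.Presheaf.section_ext (D.obj i).sheaf U t 0
    intro x hx
    change ((D.obj i).presheaf.germ U x hx) t = ((D.obj i).presheaf.germ U x hx) 0
    rw [map_zero]
    obtain ⟨_, ⟨V, hV : IsAffineOpen V, rfl⟩, hxV, hVU⟩ :=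
      (D.obj i).isBasis_affineOpens.exists_subset_of_mem_open hx U.2
    have hVU' : V ≤ U := hVU
    rw [← (D.obj i).presheaf.germ_res (homOfLE hVU') x hxV, CommRingCat.comp_apply]
    have hnil : IsNilpotent (((D.obj i).presheaf.map (homOfLE hVU').op) t) := ht.map _
    have hredV : _root_.IsReduced Γ(c.pt, c.π.app i ⁻¹ᵁ V) := inferInstance
    have h0 : (c.π.app i).app V (((D.obj i).presheaf.map (homOfLE hVU').op) t) = 0 :=
      hredV.eq_zero _ (hnil.map ((c.π.app i).app V).hom)
    obtain ⟨j, f, hj⟩ := exists_app_map_eq_zero_of_isLimit D c hc hV.isCompact _ h0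
    have := (hf j i f).1
    have := (hf j i f).2
    have hinj := H24.app_injective_of_flat_of_surjective (D.map f) V
    have : ((D.obj i).presheaf.map (homOfLE hVU').op) t = 0 := by
      apply hinj
      rw [map_zero]
      exact hj
    rw [this, map_zero]
  · intro h
    exact H24.isReduced_of_isLimit D c hc (fun i => ⟨i, 𝟙 i, h i⟩)

end Groth.Agent.S4775
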