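import Groth.Statements.S4780
import Groth.Agent.H7.UnivOpenPoly

set_option autoImplicit false
set_option linter.style.haveILetI false
universe u
open CategoryTheory AlgebraicGeometry
open Lim8

namespace Groth.Agent.S4780

/-- Let f : X ⟶ Y be a morphism of schemes. If, for every integer n > 0, the base change of f to affine
n-space over Y, X ×_Y 𝔸ⁿ_Y ⟶ 𝔸ⁿ_Y, is an open map of topological spaces, then f is universally open. -/
theorem result {X Y : Scheme.{u}} (f : X ⟶ Y)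
    (h : ∀ n : ℕ, 0 < n →
      IsOpenMap ⇑(Limits.pullback.snd f (AffineSpace (ULift.{u} (Fin n)) Y ↘ Y))) :
    UniversallyOpen f := by
  have hmap : ∀ n : ℕ, 0 < n → IsOpenMap ⇑(AffineSpace.map (ULift.{u} (Fin n)) f) := by
    intro n hn
    have hpb := (AffineSpace.isPullback_map (n := ULift.{u} (Fin n)) f).flip
    have e := hpb.isoPullback_hom_snd
    rw [← e]
    exact (h n hn).comp hpb.isoPullback.hom.homeomorph.isOpenMap
  refine Groth.Agent.H7.universallyOpen_of_isOpenMap_affineSpace_map f fun n => ?_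
  rcases Nat.eq_zero_or_pos n with rfl | hn
  · -- n = 0: deduce from n = 1
    have h1 := hmap 1 Nat.one_pos
    have hf : IsOpenMap ⇑f := by
      intro U hU
      have hcomm : AffineSpace.map (ULift.{u} (Fin 1)) f ≫ (AffineSpace (ULift.{u} (Fin 1)) Y ↘ Y) =
          (AffineSpace (ULift.{u} (Fin 1)) X ↘ X) ≫ f := AffineSpace.map_over f
      have hpt : ∀ p, (AffineSpace (ULift.{u} (Fin 1)) Y ↘ Y)
          (AffineSpace.map (ULift.{u} (Fin 1)) f p) =
          f ((AffineSpace (ULift.{u} (Fin 1)) X ↘ X) p) := fun p =>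
        congrArg (fun φ : AffineSpace (ULift.{u} (Fin 1)) X ⟶ Y => φ p) hcomm
      have hsurj : Function.Surjective ⇑(AffineSpace (ULift.{u} (Fin 1)) X ↘ X) :=
        (inferInstance : Surjective (AffineSpace (ULift.{u} (Fin 1)) X ↘ X)).surj
      have hEq : ⇑f '' U = ⇑(AffineSpace (ULift.{u} (Fin 1)) Y ↘ Y) ''
          (⇑(AffineSpace.map (ULift.{u} (Fin 1)) f) ''
            (⇑(AffineSpace (ULift.{u} (Fin 1)) X ↘ X) ⁻¹' U)) := by
        ext y
        constructor
        · rintro ⟨x, hx, rfl⟩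
          obtain ⟨p, rfl⟩ := hsurj x
          exact ⟨_, ⟨p, hx, rfl⟩, hpt p⟩
        · rintro ⟨_, ⟨p, hp, rfl⟩, rfl⟩
          exact ⟨_, hp, (hpt p).symm⟩
      rw [hEq]
      exact (AffineSpace.isOpenMap_over Y) _
        (h1 _ (hU.preimage (AffineSpace (ULift.{u} (Fin 1)) X ↘ X).continuous))
    -- transfer along the isomorphisms `𝔸⁰_X ≅ X`, `𝔸⁰_Y ≅ Y`
    have hcomm : AffineSpace.map (ULift.{u} (Fin 0)) f ≫ (AffineSpace (ULift.{u} (Fin 0)) Y ↘ Y) =
        (AffineSpace (ULift.{u} (Fin 0)) X ↘ X) ≫ f := AffineSpace.map_over f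
    have hpt : ∀ p, (AffineSpace (ULift.{u} (Fin 0)) Y ↘ Y)
        (AffineSpace.map (ULift.{u} (Fin 0)) f p) =
        f ((AffineSpace (ULift.{u} (Fin 0)) X ↘ X) p) := fun p =>
      congrArg (fun φ : AffineSpace (ULift.{u} (Fin 0)) X ⟶ Y => φ p) hcomm
    have hX : IsOpenMap ⇑(AffineSpace (ULift.{u} (Fin 0)) X ↘ X) := AffineSpace.isOpenMap_over X
    have hYinj : Function.Injective ⇑(AffineSpace (ULift.{u} (Fin 0)) Y ↘ Y) :=
      (AffineSpace (ULift.{u} (Fin 0)) Y ↘ Y).homeomorph.injective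
    intro O hO
    have h2 : ⇑(AffineSpace.map (ULift.{u} (Fin 0)) f) '' O =
        ⇑(AffineSpace (ULift.{u} (Fin 0)) Y ↘ Y) ⁻¹'
          (⇑f '' (⇑(AffineSpace (ULift.{u} (Fin 0)) X ↘ X) '' O)) := by
      ext z
      constructor
      · rintro ⟨p, hp, rfl⟩
        exact ⟨_, ⟨p, hp, rfl⟩, (hpt p).symm⟩
      · rintro ⟨_, ⟨p, hp, rfl⟩, hz⟩
        exact ⟨p, hp, hYinj ((hpt p).trans hz)⟩
    rw [h2]
    exact (hf _ (hX _ hO)).preimage (AffineSpace (ULift.{u} (Fin 0)) Y ↘ Y).continuous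
  · exact hmap n hn

end Groth.Agent.S4780
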