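import Groth.Statements.S4781
import Groth.Agent.H38.GenericConstr
import Groth.Agent.H9.FibDimGeneric
import Groth.Agent.H9.FibDimTarget
import Groth.Agent.H9.Equidim
import Groth.Agent.H54.FibreDimTdeg

set_option autoImplicit false
universe u
open CategoryTheory AlgebraicGeometry
open Cons9

namespace Groth.Agent.S4781

/-- Let S be a Noetherian irreducible scheme with generic point η, let X be an irreducible scheme and f
: X ⟶ S a dominant morphism of finite type. Then there is an open neighbourhood U of η in S such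
that, for every s ∈ U, all irreducible components of the fibre f⁻¹(s) have dimension equal to dim
f⁻¹(η). Fibres are taken as subspaces of X and dimensions are topological Krull dimensions. -/
theorem result {X S : Scheme.{u}} (f : X ⟶ S)
    [IsNoetherian S] [IrreducibleSpace S] [IrreducibleSpace X] [IsDominant f]
    [LocallyOfFiniteType f] [QuasiCompact f] :
    ∃ U : S.Opens, genericPoint S ∈ U ∧ ∀ s ∈ U, ∀ T ∈ irreducibleComponents ↥(⇑f ⁻¹' {s}),
      topologicalKrullDim ↥T = topologicalKrullDim ↥(⇑f ⁻¹' {genericPoint S}) := by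
  classical
  have hgen : f.base (genericPoint X) = genericPoint S := by
    have h1 : IsGenericPoint (f.base (genericPoint X)) (closure (f.base '' Set.univ)) :=
      (genericPoint_spec X).image f.continuous
    rw [Set.image_univ, f.denseRange.closure_range] at h1
    exact h1.eq (genericPoint_spec S)
  -- the generic fibre dimension as a natural number
  obtain ⟨b, hb⟩ : ∃ b : ℕ, Order.coheight (f.asFiber (genericPoint X)) = b :=
    ⟨_, (ENat.natCast_toNat (Groth.Agent.H54.coheight_ne_top
      (Groth.Agent.H54.fiberQ f (f.base (genericPoint X))) (f.asFiber (genericPoint X)))).symm⟩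
  have hn := Groth.Agent.H54.fibreDimAt_eq f (genericPoint X) b hb
  generalize Groth.Agent.H54.tdeg (Groth.Agent.H54.fiberQ f (f.base (genericPoint X)))
    (f.asFiber (genericPoint X)) + b = n at hn
  -- lower bound everywhere
  have hlow : ∀ x : X, (n : WithBot ℕ∞) ≤ FlatMor.fibreDimAt f x := by
    intro x
    have hcl := Groth.Agent.H9.FibDim.isClosed_setOf_natCast_le_fibreDimAt f n
    have hξ : genericPoint X ∈ {x : X | (n : WithBot ℕ∞) ≤ FlatMor.fibreDimAt f x} := by
      show (n : WithBot ℕ∞) ≤ FlatMor.fibreDimAt f (genericPoint X)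
      rw [hn]
    have h1 : closure ({genericPoint X} : Set X) ⊆
        {x : X | (n : WithBot ℕ∞) ≤ FlatMor.fibreDimAt f x} :=
      hcl.closure_subset_iff.mpr (Set.singleton_subset_iff.mpr hξ)
    have h2 : closure ({genericPoint X} : Set X) = Set.univ := (genericPoint_spec X).def
    rw [h2] at h1
    exact h1 (Set.mem_univ x)
  -- the bad closed set
  have hE : IsClosed {x : X | ((n + 1 : ℕ) : WithBot ℕ∞) ≤ FlatMor.fibreDimAt f x} :=
    Groth.Agent.H9.FibDim.isClosed_setOf_natCast_le_fibreDimAt f (n + 1)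
  haveI : IsLocallyNoetherian X := LocallyOfFiniteType.isLocallyNoetherian f
  haveI : CompactSpace X := QuasiCompact.compactSpace_of_compactSpace f
  haveI : IsNoetherian X := ⟨⟩
  have hEc := Groth.Agent.H38.GenericConstr.isConstructible_of_isClosed hE
  have hfE := f.isConstructible_image hEc
  have hηE : genericPoint S ∉
      f.base '' {x : X | ((n + 1 : ℕ) : WithBot ℕ∞) ≤ FlatMor.fibreDimAt f x} := by
    rintro ⟨x, hx, hfx⟩
    have hx' : ((n + 1 : ℕ) : WithBot ℕ∞) ≤ FlatMor.fibreDimAt f x := hx
    rw [Groth.Agent.H9.FibDim.fibreDimAt_eq_of_generic f x (by rw [hfx, hgen]), hn] at hx'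
    have : n + 1 ≤ n := by exact_mod_cast hx'
    omega
  obtain ⟨U, hU, hηU, hUE⟩ :=
    Groth.Agent.H38.GenericConstr.exists_open_disjoint_of_isConstructible
      (genericPoint_spec S) hfE hηE
  -- fibre dimension is `n` over `U`
  have hfd : ∀ x : X, f.base x ∈ U → FlatMor.fibreDimAt f x = (n : WithBot ℕ∞) := by
    intro x hx
    refine le_antisymm ?_ (hlow x)
    by_contra hcon
    exact hUE _ hx ⟨x, (Groth.Agent.H9.FibDim.natCast_le_iff_not_le _ n).mpr hcon, rfl⟩
  have hloc : ∀ s ∈ U, ∀ a : f.fiber s, FlatMor.localDim (f.fiber s) a = (n : WithBot ℕ∞) := by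
    intro s hs a
    rw [Groth.Agent.H9.FibDim.localDim_fiber]
    apply hfd
    rw [Groth.Agent.H54.fiberι_mem]
    exact hs
  have hcomp : ∀ s ∈ U, ∀ T ∈ irreducibleComponents ↥(f.fiber s),
      topologicalKrullDim ↥T = (n : WithBot ℕ∞) := fun s hs T hT =>
    Groth.Agent.H9.Equidim.dim_component_eq_of_localDim (Groth.Agent.H54.fiberQ f s) n
      (hloc s hs) T hT
  -- the generic fibre has dimension `n`
  have hη : topologicalKrullDim ↥(⇑f ⁻¹' {genericPoint S}) = (n : WithBot ℕ∞) := by
    rw [← IsHomeomorph.topologicalKrullDim_eq _ (f.fiberHomeo (genericPoint S)).isHomeomorph,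
      Groth.Agent.H9.FibDim.dim_fiber_eq_iSup]
    apply le_antisymm
    · refine iSup_le fun x' => ?_
      rw [← Groth.Agent.H9.FibDim.localDim_fiber, hloc _ hηU]
    · refine le_iSup_of_le ((f.fiberHomeo (genericPoint S)).symm ⟨genericPoint X, hgen⟩) ?_
      rw [← Groth.Agent.H9.FibDim.localDim_fiber, hloc _ hηU]
  refine ⟨⟨U, hU⟩, hηU, fun s hs T hT => ?_⟩
  rw [hη]
  have h1 : topologicalKrullDim ↥T ∈
      (fun Z : Set ↥(⇑f ⁻¹' {s}) => topologicalKrullDim ↥Z) '' irreducibleComponents ↥(⇑f ⁻¹' {s}) :=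
    ⟨T, hT, rfl⟩
  rw [← Groth.Agent.H38.GenericConstr.image_dim_irreducibleComponents_homeomorph
    (f.fiberHomeo s)] at h1
  obtain ⟨T', hT', hTT'⟩ := h1
  rw [← hTT']
  exact hcomp s hs T' hT'

end Groth.Agent.S4781
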