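import Groth.Statements.S4801
import Groth.Agent.H11.FibreExact

set_option autoImplicit false
universe u
open TensorProduct
open Cons9

namespace Groth.Agent.S4801

/-- Let R be an integral domain with fraction field K, B an R-algebra of finite presentation, F, G, H
three B-modules of finite presentation and u : F → G, v : G → H homomorphisms of B-modules such that
the generic fibre sequence K ⊗_R F → K ⊗_R G → K ⊗_R H is exact. Then there is a nonzero f ∈ R such
that, for every prime ideal p of R with f ∉ p, the fibre sequence κ(p) ⊗_R F → κ(p) ⊗_R G → κ(p) ⊗_R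
H is exact. Affine form: S = Spec R, X = Spec B with B a finitely presented R-algebra, the modules
finitely presented B-modules, and the fibre of a module M at a prime p taken as κ(p) ⊗_R M; the
published statement, for a morphism of finite presentation and quasi-coherent modules of finite
presentation, is local on S and on X and reduces to this one. -/
theorem result {R B : Type u} [CommRing R] [IsDomain R]
    [CommRing B] [Algebra R B] [Algebra.FinitePresentation R B]
    {F G H : Type u} [AddCommGroup F] [Module B F] [Module R F] [IsScalarTower R B F] [Module.FinitePresentation B F]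
    [AddCommGroup G] [Module B G] [Module R G] [IsScalarTower R B G] [Module.FinitePresentation B G]
    [AddCommGroup H] [Module B H] [Module R H] [IsScalarTower R B H] [Module.FinitePresentation B H]
    (u : F →ₗ[B] G) (v : G →ₗ[B] H)
    (hgen : Function.Exact ((u.restrictScalars R).baseChange (FractionRing R)) ((v.restrictScalars R).baseChange (FractionRing R))) :
    ∃ f : R, f ≠ 0 ∧ ∀ p : PrimeSpectrum R, f ∉ p.asIdeal →
      Function.Exact ((u.restrictScalars R).baseChange p.asIdeal.ResidueField) ((v.restrictScalars R).baseChange p.asIdeal.ResidueField) := by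
  classical
  have hA : ∃ f₁ : R, f₁ ≠ 0 ∧ ∀ x : F, f₁ • v (u x) = 0 := by
    have h1 : ∀ x : F, ∃ r : R, r ≠ 0 ∧ r • v (u x) = 0 := by
      intro x
      apply Groth.Agent.H11.exists_smul_eq_zero_of_tmul_eq_zero
      have := hgen.apply_apply_eq_zero ((1 : FractionRing R) ⊗ₜ[R] x)
      rwa [LinearMap.baseChange_tmul, LinearMap.baseChange_tmul] at this
    obtain ⟨m, x, hx⟩ := Module.Finite.exists_fin (R := B) (M := F)
    choose r hr0 hr using fun i => h1 (x i)
    refine ⟨∏ i, r i, Finset.prod_ne_zero_iff.mpr (fun i _ => hr0 i), fun y => ?_⟩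
    have hy : y ∈ Submodule.span B (Set.range x) := by rw [hx]; trivial
    induction hy using Submodule.span_induction with
    | mem y hy =>
      obtain ⟨i, rfl⟩ := hy
      obtain ⟨k, hk⟩ := Finset.dvd_prod_of_mem r (Finset.mem_univ i)
      rw [hk, mul_comm, mul_smul, hr i, smul_zero]
    | zero => simp
    | add a b _ _ ha hb => rw [map_add, map_add, smul_add, ha, hb, add_zero]
    | smul c a _ ha => rw [map_smul, map_smul, smul_comm, ha, smul_zero]
  obtain ⟨f₁, hf₁, hA⟩ := hA
  obtain ⟨f₂, hf₂, hC₁⟩ := Groth.Agent.H11.exists_gfree (R := R) (S := B)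
    (M := H ⧸ LinearMap.range v)
  obtain ⟨f₃, hf₃, hC₃⟩ := Groth.Agent.H11.exists_gfree (R := R) (S := B)
    (M := G ⧸ LinearMap.range u)
  have hrel : Groth.Agent.H11.GFRel R (LinearMap.range (v.restrictScalars R)) ⊤ f₂ :=
    Groth.Agent.H11.GFRel.of_gfree (X₀ := H) (X := H ⧸ LinearMap.range v) LinearMap.id
      ((LinearMap.range v).mkQ.restrictScalars R)
      (Submodule.mkQ_surjective (LinearMap.range v)) (fun _ => Submodule.mem_top)
      (fun x => by
        show x ∈ LinearMap.range (v.restrictScalars R) ↔ (LinearMap.range v).mkQ x = 0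
        rw [Submodule.mkQ_apply, Submodule.Quotient.mk_eq_zero]
        exact Iff.rfl)
      (fun z _ => ⟨z, by simp⟩) hC₁
  have hker : ∀ x : G, v x = 0 → ∃ k : ℕ, ∃ y : F, f₃ ^ k • x = u y := by
    intro x hx
    have h1 : (1 : FractionRing R) ⊗ₜ[R] x ∈
        Set.range ((u.restrictScalars R).baseChange (FractionRing R)) := by
      apply (hgen _).mp
      rw [LinearMap.baseChange_tmul]
      show (1 : FractionRing R) ⊗ₜ[R] (v x) = 0
      rw [hx, TensorProduct.tmul_zero]
    obtain ⟨z, hz⟩ := h1
    obtain ⟨s, y, hs0, hsy⟩ := Groth.Agent.H11.exists_smul_eq_tmul z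
    have h2 : (1 : FractionRing R) ⊗ₜ[R] (s • x - u y) = 0 := by
      rw [TensorProduct.tmul_sub, TensorProduct.tmul_smul, ← hz, ← LinearMap.map_smul_of_tower,
        hsy, LinearMap.baseChange_tmul]
      exact sub_self _
    obtain ⟨r', hr'0, hr'⟩ := Groth.Agent.H11.exists_smul_eq_zero_of_tmul_eq_zero _ h2
    have h3 : (r' * s) • x = u (r' • y) := by
      rw [smul_sub, sub_eq_zero] at hr'
      rw [mul_smul, hr', LinearMap.map_smul_of_tower]
    obtain ⟨k, hk⟩ := hC₃.torsion_killed (Submodule.Quotient.mk x) (r' * s)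
      (mul_ne_zero hr'0 hs0) (by
        rw [← Submodule.Quotient.mk_smul, Submodule.Quotient.mk_eq_zero, h3]
        exact ⟨_, rfl⟩)
    rw [← Submodule.Quotient.mk_smul, Submodule.Quotient.mk_eq_zero] at hk
    obtain ⟨y', hy'⟩ := hk
    exact ⟨k, y', hy'.symm⟩
  refine ⟨f₁ * f₂ * f₃, mul_ne_zero (mul_ne_zero hf₁ hf₂) hf₃, fun p hp => ?_⟩
  have hne : algebraMap R p.asIdeal.ResidueField (f₁ * f₂ * f₃) ≠ 0 :=
    fun h => hp (Ideal.algebraMap_residueField_eq_zero.mp h)
  rw [map_mul, map_mul] at hne
  have hu₁ : IsUnit (algebraMap R p.asIdeal.ResidueField f₁) :=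
    isUnit_iff_ne_zero.mpr (fun h => hne (by rw [h, zero_mul, zero_mul]))
  have hu₂ : IsUnit (algebraMap R p.asIdeal.ResidueField f₂) :=
    isUnit_iff_ne_zero.mpr (fun h => hne (by rw [h, mul_zero, zero_mul]))
  have hu₃ : IsUnit (algebraMap R p.asIdeal.ResidueField f₃) :=
    isUnit_iff_ne_zero.mpr (fun h => hne (by rw [h, mul_zero]))
  obtain ⟨φ₁, hφ₁⟩ : ∃ φ : p.asIdeal.ResidueField,
      φ * algebraMap R p.asIdeal.ResidueField f₁ = 1 := ⟨↑hu₁.unit⁻¹, IsUnit.val_inv_mul hu₁⟩
  obtain ⟨φ₃, hφ₃⟩ : ∃ φ : p.asIdeal.ResidueField,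
      φ * algebraMap R p.asIdeal.ResidueField f₃ = 1 := ⟨↑hu₃.unit⁻¹, IsUnit.val_inv_mul hu₃⟩
  intro z
  constructor
  · intro hz
    have hinj := Groth.Agent.H11.lTensor_subtype_injective_of_gfrel
      (LinearMap.range (v.restrictScalars R)) hrel p.asIdeal.ResidueField hu₂
    have hv' : (LinearMap.range (v.restrictScalars R)).subtype.comp
        (v.restrictScalars R).rangeRestrict = v.restrictScalars R := LinearMap.ext fun _ => rfl
    have hz' : ((v.restrictScalars R).rangeRestrict.lTensor p.asIdeal.ResidueField) z = 0 := by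
      apply hinj
      rw [map_zero, ← LinearMap.comp_apply, ← LinearMap.lTensor_comp, hv']
      exact hz
    have hexact : Function.Exact (LinearMap.ker (v.restrictScalars R)).subtype
        (v.restrictScalars R).rangeRestrict := by
      intro y
      constructor
      · intro h
        exact ⟨⟨y, by rw [LinearMap.mem_ker]; exact congrArg Subtype.val h⟩, rfl⟩
      · rintro ⟨w, rfl⟩
        exact Subtype.ext w.2
    have hex := lTensor_exact p.asIdeal.ResidueField hexact
      (LinearMap.surjective_rangeRestrict (v.restrictScalars R))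
    obtain ⟨t, rfl⟩ := (hex z).mp hz'
    have hall : ∀ t : p.asIdeal.ResidueField ⊗[R] (LinearMap.ker (v.restrictScalars R)),
        ((LinearMap.ker (v.restrictScalars R)).subtype.lTensor p.asIdeal.ResidueField) t ∈
          LinearMap.range ((u.restrictScalars R).baseChange p.asIdeal.ResidueField) := by
      intro t
      induction t using TensorProduct.induction_on with
      | zero => rw [map_zero]; exact zero_mem _
      | tmul c x =>
        obtain ⟨k, y, hky⟩ := hker x.1 x.2
        rw [LinearMap.lTensor_tmul]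
        refine ⟨(c * φ₃ ^ k) ⊗ₜ[R] y, ?_⟩
        rw [LinearMap.baseChange_tmul]
        show (c * φ₃ ^ k) ⊗ₜ[R] (u y) = c ⊗ₜ[R] (x : G)
        rw [← hky]
        exact Groth.Agent.H11.tmul_pow_smul f₃ φ₃ hφ₃ c k _
      | add a b ha hb => rw [map_add]; exact add_mem ha hb
    exact LinearMap.mem_range.mp (hall t)
  · rintro ⟨t, rfl⟩
    induction t using TensorProduct.induction_on with
    | zero => simp
    | tmul c x =>
      rw [LinearMap.baseChange_tmul, LinearMap.baseChange_tmul]
      show c ⊗ₜ[R] (v (u x)) = 0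
      rw [← Groth.Agent.H11.tmul_pow_smul f₁ φ₁ hφ₁ c 1 (v (u x))]
      simp only [pow_one]
      rw [hA x, TensorProduct.tmul_zero]
    | add a b ha hb => rw [map_add, map_add, ha, hb, add_zero]

end Groth.Agent.S4801
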