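import Groth.Statements.S4806
import Groth.Agent.H54.FibreImm

set_option autoImplicit false
universe u
open CategoryTheory AlgebraicGeometry
open Lim8

namespace Groth.Agent.S4806

/-- Let f : X ⟶ Y be a proper morphism of finite presentation. Then f is a closed immersion if and only
if, for every point y of Y, the scheme-theoretic fibre of f at y is empty or its structure morphism
to Spec κ(y) is an isomorphism. -/
theorem result {X Y : Scheme.{u}} (f : X ⟶ Y) [IsProper f]
    [LocallyOfFinitePresentation f] :
    IsClosedImmersion f ↔ ∀ y : Y, IsEmpty (f.fiber y) ∨ IsIso (f.fiberToSpecResidueField y) := by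

  constructor
  · intro h y
    haveI : IsClosedImmersion (f ∣_ (⊤ : Y.Opens)) := inferInstance
    exact Groth.Agent.H54.fibCond_of_isClosedImmersion f y ⊤ trivial
  · intro h
    haveI : LocallyOfFiniteType f := inferInstance
    haveI : UniversallyClosed (f ∣_ (⊤ : Y.Opens)) :=
      IsZariskiLocalAtTarget.restrict (P := @UniversallyClosed) (inferInstance : UniversallyClosed f) _
    choose U hyU hU using fun y =>
      Groth.Agent.H54.exists_isClosedImmersion_of_fibCond f y (h y) ⊤ trivial
    rw [IsZariskiLocalAtTarget.iff_of_iSup_eq_top (P := @IsClosedImmersion) U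
      (top_le_iff.mp fun y _ => TopologicalSpace.Opens.mem_iSup.mpr ⟨y, hyU y⟩)]
    exact hU

end Groth.Agent.S4806
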