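import Groth.Statements.S4807
import Groth.Agent.H73.FiniteApprox5

set_option autoImplicit false
universe u
open CategoryTheory AlgebraicGeometry
open Lim8

namespace Groth.Agent.S4807

/-- Let Y be a quasi-compact quasi-separated scheme and f : X ⟶ Y a separated morphism of finite type.
Let X' be the relative normalization of Y in X, the spectrum of the integral closure of O_Y in
f_*O_X, with its canonical morphism g : X ⟶ X'. Then f admits a factorization X ⟶ Y' ⟶ Y into an
immersion followed by a finite morphism if and only if g is an immersion. -/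
theorem result {X Y : Scheme.{u}} (f : X ⟶ Y)
    [CompactSpace Y] [QuasiSeparatedSpace Y] [IsSeparated f] [LocallyOfFiniteType f] [QuasiCompact f] :
    (∃ (Y' : Scheme.{u}) (f' : X ⟶ Y') (u : Y' ⟶ Y), IsImmersion f' ∧ IsFinite u ∧ f' ≫ u = f) ↔
      IsImmersion f.toNormalization := by
  constructor
  · rintro ⟨Y', f', u, hf', hu, hfac⟩
    have h1 : f.toNormalization ≫ f.normalizationDesc f' u hfac.symm = f' :=
      f.toNormalization_normalizationDesc f' u hfac.symm
    have : IsImmersion (f.toNormalization ≫ f.normalizationDesc f' u hfac.symm) := by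
      rw [h1]; exact hf'
    exact IsImmersion.of_comp f.toNormalization (f.normalizationDesc f' u hfac.symm)
  · intro himm
    let tn := f.toNormalization
    let fn := f.fromNormalization
    have hfac : tn ≫ fn = f := f.toNormalization_fromNormalization
    have hqc : QuasiCompact tn := by
      have : QuasiCompact (tn ≫ fn) := by rw [hfac]; infer_instance
      exact QuasiCompact.of_comp tn fn
    let o : X ⟶ tn.image := tn.toImage
    let c : tn.image ⟶ f.normalization := tn.imageι
    have hoc : o ≫ c = tn := tn.toImage_imageι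
    have hfac' : o ≫ (c ≫ fn) = f := by rw [← Category.assoc, hoc, hfac]
    let W : tn.image.Opens := o.opensRange
    have hWc : ∀ U : Y.affineOpens,
        IsCompact ((W ⊓ (c ≫ fn) ⁻¹ᵁ U.1 : tn.image.Opens) : Set tn.image) := by
      intro U
      have h1 : W ⊓ (c ≫ fn) ⁻¹ᵁ U.1 = o ''ᵁ (f ⁻¹ᵁ U.1) := by
        have h0 : f ⁻¹ᵁ U.1 = o ⁻¹ᵁ ((c ≫ fn) ⁻¹ᵁ U.1) :=
          (congrArg (fun g : X ⟶ Y => g ⁻¹ᵁ U.1) hfac'.symm).trans
            (Scheme.Hom.comp_preimage o (c ≫ fn) U.1)
        rw [h0, Scheme.Hom.image_preimage_eq_opensRange_inf]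
      rw [h1]
      have hc : IsCompact ((f ⁻¹ᵁ U.1 : X.Opens) : Set X) :=
        f.isCompact_preimage U.2.isCompact
      exact hc.image o.continuous
    have e : o.isoOpensRange.hom ≫ W.ι ≫ (c ≫ fn) = f := by
      rw [← Category.assoc, Scheme.Hom.isoOpensRange_hom_ι, hfac']
    have hlft : LocallyOfFiniteType (W.ι ≫ (c ≫ fn)) := by
      have h2 : LocallyOfFiniteType (o.isoOpensRange.hom ≫ W.ι ≫ (c ≫ fn)) := by
        rw [e]; infer_instance
      exact (MorphismProperty.cancel_left_of_respectsIso @LocallyOfFiniteType _ _).mp h2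
    obtain ⟨T, π, m, hπ, hm, hopen⟩ :=
      Groth.Agent.H73.FiniteApprox.exists_finite_openImmersion (c ≫ fn) W hWc
    have hj : o ≫ m = o.isoOpensRange.hom ≫ W.ι ≫ m := by
      rw [← Category.assoc, Scheme.Hom.isoOpensRange_hom_ι]
    have hcomp : (o ≫ m) ≫ π = f := by rw [Category.assoc, hm, hfac']
    have hopen' : IsOpenImmersion (o ≫ m) := by rw [hj]; infer_instance
    exact ⟨T, o ≫ m, π, inferInstance, hπ, hcomp⟩

end Groth.Agent.S4807
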