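import Groth.Statements.S4809
import Groth.Agent.H54.ZMT

set_option autoImplicit false
universe u
open CategoryTheory AlgebraicGeometry
open Lim8

namespace Groth.Agent.S4809

/-- Let Y be an integral normal scheme (every local ring integrally closed), X an integral scheme, and f
: X ⟶ Y a locally quasi-finite morphism (locally of finite type with discrete fibres) which is
birational: f maps the generic point of X to that of Y and its stalk map at the generic point of X,
the induced homomorphism of function fields, is an isomorphism. Then f is a local isomorphism, and f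
is an open immersion as soon as it is separated. -/
theorem result {X Y : Scheme.{u}} [IsIntegral X] [IsIntegral Y]
    (hN : ∀ y : Y, IsIntegrallyClosed (Y.presheaf.stalk y)) (f : X ⟶ Y) [LocallyQuasiFinite f]
    [LocallyOfFiniteType f] (hgen : f (genericPoint X) = genericPoint Y)
    (hbir : IsIso (f.stalkMap (genericPoint X))) :
    IsLocalIso f ∧ (IsSeparated f → IsOpenImmersion f) := by
  have hloc : IsLocalIso f := by
    refine ⟨fun x => ?_⟩
    obtain ⟨_, ⟨V, hV, rfl⟩, hxV, -⟩ :=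
      Y.isBasis_affineOpens.exists_subset_of_mem_open (Set.mem_univ (f x)) isOpen_univ
    obtain ⟨_, ⟨U, hU, rfl⟩, hxU, hUV⟩ :=
      X.isBasis_affineOpens.exists_subset_of_mem_open hxV (f ⁻¹ᵁ V).2
    haveI : IsAffine (U : Scheme.{u}) := hU
    haveI : IsAffine (V : Scheme.{u}) := hV
    haveI : IsOpenImmersion (f.resLE V U hUV) :=
      Groth.Agent.H54.isOpenImmersion_resLE_of_birational hN f hgen hbir U V hUV x hxU
    refine ⟨U, hxU, ?_⟩
    rw [← Scheme.Hom.resLE_comp_ι f hUV]; infer_instance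
  refine ⟨hloc, fun hsep => ?_⟩
  haveI := hsep
  haveI hst : ∀ x, IsIso (f.stalkMap x) := fun x => by
    obtain ⟨U, hxU, hU⟩ := hloc.exists_isOpenImmersion x
    haveI := hU
    have h1 : IsIso ((U.ι ≫ f).stalkMap (⟨x, hxU⟩ : (U : Scheme.{u}))) := inferInstance
    rw [Scheme.Hom.stalkMap_comp] at h1
    exact @IsIso.of_isIso_comp_right _ _ _ _ _ (f.stalkMap (U.ι ⟨x, hxU⟩))
      (U.ι.stalkMap ⟨x, hxU⟩) inferInstance h1
  have hinj : Function.Injective f := by
    intro x₁ x₂ h12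
    obtain ⟨_, ⟨V, hV, rfl⟩, hxV, -⟩ :=
      Y.isBasis_affineOpens.exists_subset_of_mem_open (Set.mem_univ (f x₁)) isOpen_univ
    have hxV₂ : f x₂ ∈ V := h12 ▸ hxV
    obtain ⟨_, ⟨U₁, hU₁, rfl⟩, hxU₁, hU₁V⟩ :=
      X.isBasis_affineOpens.exists_subset_of_mem_open hxV (f ⁻¹ᵁ V).2
    obtain ⟨_, ⟨U₂, hU₂, rfl⟩, hxU₂, hU₂V⟩ :=
      X.isBasis_affineOpens.exists_subset_of_mem_open hxV₂ (f ⁻¹ᵁ V).2
    have hUV : U₁ ⊔ U₂ ≤ f ⁻¹ᵁ V := sup_le hU₁V hU₂V
    haveI : IsAffine (V : Scheme.{u}) := hV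
    haveI : CompactSpace ↥((U₁ ⊔ U₂ : X.Opens) : Scheme.{u}) :=
      isCompact_iff_compactSpace.mp (by
        show IsCompact ((U₁ ⊔ U₂ : X.Opens) : Set X)
        rw [TopologicalSpace.Opens.coe_sup]; exact hU₁.isCompact.union hU₂.isCompact)
    haveI : IsOpenImmersion (f.resLE V (U₁ ⊔ U₂) hUV) :=
      Groth.Agent.H54.isOpenImmersion_resLE_of_birational hN f hgen hbir (U₁ ⊔ U₂) V hUV x₁
        (Or.inl hxU₁)
    have h3 : f.resLE V (U₁ ⊔ U₂) hUV (⟨x₁, Or.inl hxU₁⟩ : ((U₁ ⊔ U₂ : X.Opens) : Scheme.{u})) =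
        f.resLE V (U₁ ⊔ U₂) hUV (⟨x₂, Or.inr hxU₂⟩ : ((U₁ ⊔ U₂ : X.Opens) : Scheme.{u})) := by
      apply (Scheme.Opens.ι V).isOpenEmbedding.injective
      rw [← Scheme.Hom.comp_apply, ← Scheme.Hom.comp_apply, Scheme.Hom.resLE_comp_ι,
        Scheme.Hom.comp_apply, Scheme.Hom.comp_apply]
      exact h12
    exact congrArg Subtype.val ((f.resLE V (U₁ ⊔ U₂) hUV).isOpenEmbedding.injective h3)
  haveI : UniversallyOpen f := IsLocalIso.le_of_isZariskiLocalAtSource @UniversallyOpen _ _ f hloc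
  exact IsOpenImmersion.of_isIso_stalkMap f
    (.of_continuous_injective_isOpenMap f.continuous hinj f.isOpenMap)

end Groth.Agent.S4809
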