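import Groth.Statements.S4810
import Groth.Agent.S4809
import Groth.Agent.H73.NormzBir
import Groth.Agent.H73.NormalNormz
import Groth.Agent.H73.NormalFib

set_option autoImplicit false
universe u
open CategoryTheory AlgebraicGeometry
open Lim8

namespace Groth.Agent.S4810

/-- Let Y be an integral scheme, X an integral normal scheme (every local ring integrally closed) and f
: X ⟶ Y a dominant locally quasi-finite morphism (locally of finite type with discrete fibres). Let
Y' be the relative normalization of Y in X (here the normalization of Y in the function field of X)
and f' : X ⟶ Y' the canonical morphism, so that f is f' followed by the canonical morphism Y' ⟶ Y.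
Then f' is a local isomorphism, and f' is an open immersion if and only if f is separated. (The
published statement assumes f only locally quasi-finite; this row takes f moreover quasi-compact and
quasi-separated, the setting in which the relative normalization is built chart by chart from
integral closures.) -/
theorem result {X Y : Scheme.{u}} [IsIntegral X] [IsIntegral Y]
    (hN : ∀ x : X, IsIntegrallyClosed (X.presheaf.stalk x)) (f : X ⟶ Y) [IsDominant f]
    [LocallyQuasiFinite f] [LocallyOfFiniteType f] [QuasiCompact f] [QuasiSeparated f] :
    IsLocalIso f.toNormalization ∧ (IsOpenImmersion f.toNormalization ↔ IsSeparated f) := by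
  have hbij := Groth.Agent.H73.NormzBir.stalkMap_toNormalization_bijective hN f
  have hgen : f.toNormalization (genericPoint X) = genericPoint f.normalization :=
    Groth.Agent.H73.NormzBir.map_genericPoint_of_isDominant _
  have hbir : IsIso (f.toNormalization.stalkMap (genericPoint X)) :=
    (ConcreteCategory.isIso_iff_bijective _).mpr hbij
  have hX : Pi1.IsNormalScheme X := fun x => ⟨inferInstance, hN x⟩
  have hY' : Pi1.IsNormalScheme f.normalization :=
    Groth.Agent.H73.NormalNormz.isNormalScheme_normalization f hX
      Groth.Agent.H73.NormalFib.isOpen_components_of_irreducibleSpace
  haveI : LocallyQuasiFinite (f.toNormalization ≫ f.fromNormalization) := by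
    rw [f.toNormalization_fromNormalization]; infer_instance
  haveI : LocallyOfFiniteType (f.toNormalization ≫ f.fromNormalization) := by
    rw [f.toNormalization_fromNormalization]; infer_instance
  haveI : LocallyQuasiFinite f.toNormalization :=
    LocallyQuasiFinite.of_comp f.toNormalization f.fromNormalization
  haveI : LocallyOfFiniteType f.toNormalization :=
    locallyOfFiniteType_of_comp f.toNormalization f.fromNormalization
  obtain ⟨h1, -⟩ := Groth.Agent.S4809.result (fun y => (hY' y).2) f.toNormalization hgen hbir
  refine ⟨h1, ⟨fun h => ?_, fun h => ?_⟩⟩
  · haveI := h
    rw [← f.toNormalization_fromNormalization]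
    infer_instance
  · haveI := h
    infer_instance

end Groth.Agent.S4810
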