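import Groth.Statements.S4815
import Mathlib
import Groth.Agent.H68.FGSubZ
import Groth.Agent.S0591
import Groth.Agent.S9193

set_option autoImplicit false
universe u
open CategoryTheory AlgebraicGeometry
open Lim8

namespace Groth.Agent.S4815

open H68.FGSubZ


/-- Let S = lim S_i be a cofiltered limit of schemes with affine transition maps and S_{i₀} a
quasi-compact quasi-separated stage. Then every subscheme of finite presentation of S, that is every
immersion ι : Z ⟶ S which is locally of finite presentation and quasi-compact, is the base change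
along S ⟶ S_j of an immersion of finite presentation Z_j ⟶ S_j, for some index j over i₀ (the base
change is expressed by a pullback square). -/
theorem result {I : Type u} [SmallCategory I] [IsCofiltered I]
    (D : I ⥤ Scheme.{u}) (c : Limits.Cone D) (hc : Limits.IsLimit c)
    [∀ (i j : I) (f : i ⟶ j), IsAffineHom (D.map f)] (i₀ : I)
    [CompactSpace (D.obj i₀)] [QuasiSeparatedSpace (D.obj i₀)]
    {Z : Scheme.{u}} (ι : Z ⟶ c.pt) [IsImmersion ι] [LocallyOfFinitePresentation ι] [QuasiCompact ι] :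
    ∃ (j : I) (_ : j ⟶ i₀) (Zj : Scheme.{u}) (ιj : Zj ⟶ D.obj j) (q : Z ⟶ Zj),
      IsImmersion ιj ∧ LocallyOfFinitePresentation ιj ∧ QuasiCompact ιj ∧ IsPullback q ι ιj (c.π.app j) := by
  obtain ⟨D', hD'⟩ : ∃ D' : Over i₀ ⥤ Scheme.{u}, D' = Over.forget i₀ ⋙ D := ⟨_, rfl⟩
  obtain ⟨c', hc'⟩ : ∃ c' : Limits.Cone (Over.forget i₀ ⋙ D), c' = c.whisker (Over.forget i₀) :=
    ⟨_, rfl⟩
  have hlim : Limits.IsLimit (c.whisker (Over.forget i₀)) :=
    (Functor.Initial.isLimitWhiskerEquiv (Over.forget i₀) c).symm hc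
  haveI : ∀ (i j : Over i₀) (f : i ⟶ j), IsAffineHom ((Over.forget i₀ ⋙ D).map f) :=
    fun i j f => inferInstanceAs (IsAffineHom (D.map f.left))
  haveI : ∀ i : Over i₀, CompactSpace ((Over.forget i₀ ⋙ D).obj i) :=
    fun i => QuasiCompact.compactSpace_of_compactSpace (D.map i.hom)
  haveI : ∀ i : Over i₀, QuasiSeparatedSpace ((Over.forget i₀ ⋙ D).obj i) :=
    fun i => quasiSeparatedSpace_of_quasiSeparated (D.map i.hom)
  obtain ⟨j, Zj, ιj, q, h1, h2, h3, hX⟩ :=
    S0591.result (Over.forget i₀ ⋙ D) (c.whisker (Over.forget i₀)) hlim Z ι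
  haveI := h1; haveI := h2; haveI := h3
  haveI : CompactSpace Zj := QuasiCompact.compactSpace_of_compactSpace ιj
  haveI : QuasiSeparatedSpace Zj := quasiSeparatedSpace_of_quasiSeparated ιj
  obtain ⟨k, φ, Xk, Yk, fk, gk, pY, pX, hY', hX', hP⟩ :=
    S9193.result (Over.forget i₀ ⋙ D) (c.whisker (Over.forget i₀)) hlim j ιj (𝟙 _) ι (𝟙 _)
      ((c.whisker (Over.forget i₀)).π.app j) q (IsPullback.id_vert _) hX
  obtain ⟨hiso, q', hq'⟩ :=
    post (Over.forget i₀ ⋙ D) (c.whisker (Over.forget i₀)) φ ι ιj q hX fk gk pY pX hY' hX'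
  haveI := hiso; haveI := hP
  haveI : QuasiCompact fk := MorphismProperty.of_isPullback (P := @QuasiCompact) hX' h2
  haveI : LocallyOfFinitePresentation fk :=
    MorphismProperty.of_isPullback (P := @LocallyOfFinitePresentation) hX' h1
  have e1 : IsImmersion (fk ≫ gk) := inferInstance
  have e2 : LocallyOfFinitePresentation (fk ≫ gk) := inferInstance
  have e3 : QuasiCompact (fk ≫ gk) := inferInstance
  exact ⟨k.left, k.hom, Xk, fk ≫ gk, q', e1, e2, e3, hq'⟩

end Groth.Agent.S4815
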