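import Groth.Statements.S4823
import Mathlib
import Groth.Agent.S4790
import Groth.Agent.H24.FGSubLimit
import Groth.Agent.H24.LimPullback
import Groth.Agent.H24.ModLimIso
import Groth.Agent.H8.PullbackStalk

set_option linter.style.haveILetI false

set_option autoImplicit false
open CategoryTheory AlgebraicGeometry
universe u
open Cons9

namespace Groth.Agent.S4823


section helpers
open Groth.Agent.H24 Limits Opposite

/-- pullback of modules along a composite -/
noncomputable def pullIso {X Y Z : Scheme.{u}} (f : Z ⟶ Y) (g : Y ⟶ X) (k : Z ⟶ X)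
    (hk : f ≫ g = k) (F : X.Modules) :
    (Scheme.Modules.pullback f).obj ((Scheme.Modules.pullback g).obj F) ≅
      (Scheme.Modules.pullback k).obj F := by
  subst hk
  exact (Scheme.Modules.pullbackComp f g).app F

theorem result' {k : Type u} [Field k] {X : Scheme.{u}}
    (p : X ⟶ Spec (CommRingCat.of k)) [LocallyOfFiniteType p] [QuasiCompact p]
    (F G : X.Modules) [Coh.IsQCoh F] [Coh.IsQCoh G] (hF : CohB1.IsFP F) (hG : CohB1.IsFP G)
    (Ω : Type u) [Field Ω] [Algebra k Ω]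
    (e : (Scheme.Modules.pullback
        (pullback.fst p (Spec.map (CommRingCat.ofHom (algebraMap k Ω))))).obj F ≅
      (Scheme.Modules.pullback
        (pullback.fst p (Spec.map (CommRingCat.ofHom (algebraMap k Ω))))).obj G) :
    ∃ (k' : Type u) (_ : Field k') (_ : Algebra k k') (_ : Module.Finite k k'),
      Nonempty ((Scheme.Modules.pullback
          (pullback.fst p (Spec.map (CommRingCat.ofHom (algebraMap k k'))))).obj F ≅
        (Scheme.Modules.pullback
          (pullback.fst p (Spec.map (CommRingCat.ofHom (algebraMap k k'))))).obj G) := by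
  haveI : F.IsQuasicoherent := ‹Coh.IsQCoh F›
  haveI : G.IsQuasicoherent := ‹Coh.IsQCoh G›
  haveI : SheafOfModules.IsFinitePresentation (R := X.ringCatSheaf) F := hF
  haveI : SheafOfModules.IsFinitePresentation (R := X.ringCatSheaf) G := hG
  haveI hXloc : IsLocallyNoetherian X := LocallyOfFiniteType.isLocallyNoetherian p
  haveI hXc : CompactSpace X := QuasiCompact.compactSpace_of_compactSpace p
  haveI hAffD : ∀ (i j : (FGSub k Ω)ᵒᵖ) (f : i ⟶ j),
      IsAffineHom ((fgSpecDiagram k Ω).map f) := fun _ _ f => inferInstance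
  haveI hAffD' : ∀ {i j : (FGSub k Ω)ᵒᵖ} (f : i ⟶ j),
      IsAffineHom ((fgSpecDiagram k Ω).map f) := fun f => inferInstance
  obtain ⟨i₀, hi₀⟩ : ∃ i₀ : (FGSub k Ω)ᵒᵖ, i₀ = op ⟨⊥, Subalgebra.fg_bot⟩ := ⟨_, rfl⟩
  have ht : ∀ i, (fgSpecCone k Ω).π.app i ≫ (fgSpecDiagramβ k Ω).app i =
      Spec.map (CommRingCat.ofHom (algebraMap k Ω)) := fgSpecCone_π_β k Ω
  obtain ⟨β₀, hβ₀⟩ : ∃ β₀ : (fgSpecDiagram k Ω).obj i₀ ⟶ Spec (CommRingCat.of k),
      β₀ = (fgSpecDiagramβ k Ω).app i₀ := ⟨_, rfl⟩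
  obtain ⟨π₀, hπ₀⟩ : ∃ π₀ : Spec (CommRingCat.of Ω) ⟶ (fgSpecDiagram k Ω).obj i₀,
      π₀ = (fgSpecCone k Ω).π.app i₀ := ⟨_, rfl⟩
  have ht₀ : π₀ ≫ β₀ = Spec.map (CommRingCat.ofHom (algebraMap k Ω)) := by
    rw [hπ₀, hβ₀]; exact ht i₀
  have wX : pullback.fst p (Spec.map (CommRingCat.ofHom (algebraMap k Ω))) ≫ p =
      (pullback.snd p (Spec.map (CommRingCat.ofHom (algebraMap k Ω))) ≫ π₀) ≫ β₀ := by
    rw [Category.assoc, ht₀, pullback.condition]
  have hX₀ : IsPullback (pullback.lift _ _ wX)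
      (pullback.snd p (Spec.map (CommRingCat.ofHom (algebraMap k Ω))))
      (pullback.snd p β₀) π₀ := by
    refine IsPullback.of_right ?_ (pullback.lift_snd _ _ _) (IsPullback.of_hasPullback p β₀)
    rw [pullback.lift_fst, ht₀]
    exact IsPullback.of_hasPullback _ _
  subst hβ₀ hπ₀
  -- the limit system
  have hcE := isLimitPbCone (fgSpecDiagram k Ω) (𝟙 i₀)
    (pullback.snd p ((fgSpecDiagramβ k Ω).app i₀)) (fgSpecCone k Ω) (fgSpecConeIsLimit k Ω)
    (pullback.lift _ _ wX) (pullback.snd p (Spec.map (CommRingCat.ofHom (algebraMap k Ω)))) hX₀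
  haveI hAffE : ∀ (a b : Over i₀) (f : a ⟶ b), IsAffineHom ((pbDiagram (fgSpecDiagram k Ω) (𝟙 i₀)
      (pullback.snd p ((fgSpecDiagramβ k Ω).app i₀))).map f) := fun _ _ f => inferInstance
  -- the map from the initial stage to `X`
  obtain ⟨a, ha⟩ : ∃ a : (pbDiagram (fgSpecDiagram k Ω) (𝟙 i₀)
      (pullback.snd p ((fgSpecDiagramβ k Ω).app i₀))).obj (Over.mk (𝟙 i₀)) ⟶ X,
      a = pullback.fst (pullback.snd p ((fgSpecDiagramβ k Ω).app i₀)) _ ≫
        pullback.fst p ((fgSpecDiagramβ k Ω).app i₀) := ⟨_, rfl⟩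
  haveI : IsAffineHom ((fgSpecDiagramβ k Ω).app i₀) := by
    show IsAffineHom (Spec.map _)
    infer_instance
  haveI h1 : IsAffineHom (pullback.fst p ((fgSpecDiagramβ k Ω).app i₀)) :=
    MorphismProperty.pullback_fst (P := @IsAffineHom) _ _ inferInstance
  haveI h2 : IsAffineHom (pullback.fst (pullback.snd p ((fgSpecDiagramβ k Ω).app i₀))
      ((fgSpecDiagram k Ω).map ((Over.mk (𝟙 i₀)).hom ≫ 𝟙 i₀))) :=
    MorphismProperty.pullback_fst (P := @IsAffineHom) _ _ inferInstance
  haveI haff : IsAffineHom a := by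
    rw [ha]
    exact MorphismProperty.comp_mem (W := @IsAffineHom) _ _ h2 h1
  haveI : CompactSpace ↥((pbDiagram (fgSpecDiagram k Ω) (𝟙 i₀)
      (pullback.snd p ((fgSpecDiagramβ k Ω).app i₀))).obj (Over.mk (𝟙 i₀))) :=
    QuasiCompact.compactSpace_of_compactSpace a
  haveI : QuasiSeparatedSpace ↥((pbDiagram (fgSpecDiagram k Ω) (𝟙 i₀)
      (pullback.snd p ((fgSpecDiagramβ k Ω).app i₀))).obj (Over.mk (𝟙 i₀))) :=
    quasiSeparatedSpace_of_quasiSeparated a
  haveI : ((Scheme.Modules.pullback a).obj F).IsQuasicoherent :=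
    Groth.Agent.H8.isQuasicoherent_pullback a F
  haveI : ((Scheme.Modules.pullback a).obj G).IsQuasicoherent :=
    Groth.Agent.H8.isQuasicoherent_pullback a G
  have hF₀ : CohB1.IsFP ((Scheme.Modules.pullback a).obj F) :=
    Groth.Agent.H24.ModLimIso.isFinitePresentation_pullback a F
  have hG₀ : CohB1.IsFP ((Scheme.Modules.pullback a).obj G) :=
    Groth.Agent.H24.ModLimIso.isFinitePresentation_pullback a G
  have hπa : (pbCone (fgSpecDiagram k Ω) (𝟙 i₀) (pullback.snd p ((fgSpecDiagramβ k Ω).app i₀))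
      (fgSpecCone k Ω) (pullback.lift _ _ wX)
      (pullback.snd p (Spec.map (CommRingCat.ofHom (algebraMap k Ω)))) hX₀.w).π.app
        (Over.mk (𝟙 i₀)) ≫ a =
      pullback.fst p (Spec.map (CommRingCat.ofHom (algebraMap k Ω))) := by
    rw [ha, pbCone_π_app]
    have h3 := pbLift_fst (fgSpecDiagram k Ω) (𝟙 i₀) (pullback.snd p ((fgSpecDiagramβ k Ω).app i₀))
      (fgSpecCone k Ω) (pullback.lift _ _ wX)
      (pullback.snd p (Spec.map (CommRingCat.ofHom (algebraMap k Ω)))) hX₀.w (Over.mk (𝟙 i₀))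
    exact (Category.assoc _ _ _).symm.trans
      ((congrArg (· ≫ pullback.fst p ((fgSpecDiagramβ k Ω).app i₀)) h3).trans
        (pullback.lift_fst _ _ _))
  have iso1 : Nonempty ((Scheme.Modules.pullback ((pbCone (fgSpecDiagram k Ω) (𝟙 i₀)
      (pullback.snd p ((fgSpecDiagramβ k Ω).app i₀)) (fgSpecCone k Ω) (pullback.lift _ _ wX)
      (pullback.snd p (Spec.map (CommRingCat.ofHom (algebraMap k Ω)))) hX₀.w).π.app
        (Over.mk (𝟙 i₀)))).obj ((Scheme.Modules.pullback a).obj F) ≅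
      (Scheme.Modules.pullback ((pbCone (fgSpecDiagram k Ω) (𝟙 i₀)
      (pullback.snd p ((fgSpecDiagramβ k Ω).app i₀)) (fgSpecCone k Ω) (pullback.lift _ _ wX)
      (pullback.snd p (Spec.map (CommRingCat.ofHom (algebraMap k Ω)))) hX₀.w).π.app
        (Over.mk (𝟙 i₀)))).obj ((Scheme.Modules.pullback a).obj G)) :=
    ⟨pullIso _ a _ hπa F ≪≫ e ≪≫ (pullIso _ a _ hπa G).symm⟩
  obtain ⟨j, φ, ⟨iso2⟩⟩ := (Groth.Agent.S4790.result _ _ hcE (Over.mk (𝟙 i₀)) _ _ hF₀ hG₀).mp iso1
  -- a closed point of the stage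
  obtain ⟨m, hm⟩ := Ideal.exists_maximal j.left.unop.1
  let k' := j.left.unop.1 ⧸ m
  letI : Field k' := Ideal.Quotient.field m
  haveI : Algebra.FiniteType k j.left.unop.1 := (Subalgebra.fg_iff_finiteType _).mp j.left.unop.2
  haveI : Algebra.FiniteType k k' :=
    Algebra.FiniteType.of_surjective (Ideal.Quotient.mkₐ k m) Ideal.Quotient.mk_surjective
  have hfin : Module.Finite k k' := finite_of_finite_type_of_isJacobsonRing k k'
  refine ⟨k', inferInstance, inferInstance, hfin, ?_⟩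
  have hw' : Spec.map (CommRingCat.ofHom (algebraMap j.left.unop.1 k')) ≫
      (fgSpecDiagramβ k Ω).app j.left = Spec.map (CommRingCat.ofHom (algebraMap k k')) := by
    show Spec.map _ ≫ Spec.map _ = _
    rw [← Spec.map_comp]
    rfl
  obtain ⟨w'', hw''⟩ : ∃ w'' : Spec (CommRingCat.of k') ⟶ (fgSpecDiagram k Ω).obj j.left,
      w'' ≫ (fgSpecDiagramβ k Ω).app j.left = Spec.map (CommRingCat.ofHom (algebraMap k k')) :=
    ⟨_, hw'⟩
  have nat : (fgSpecDiagram k Ω).map (j.hom ≫ 𝟙 i₀) ≫ (fgSpecDiagramβ k Ω).app i₀ =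
      (fgSpecDiagramβ k Ω).app j.left := fgSpecDiagramβ_map k Ω _
  have cond₁ : pullback.fst p (Spec.map (CommRingCat.ofHom (algebraMap k k'))) ≫ p =
      (pullback.snd p (Spec.map (CommRingCat.ofHom (algebraMap k k'))) ≫ w'' ≫
        (fgSpecDiagram k Ω).map (j.hom ≫ 𝟙 i₀)) ≫ (fgSpecDiagramβ k Ω).app i₀ := by
    rw [Category.assoc, Category.assoc, nat, hw'', pullback.condition]
  have cond : pullback.lift _ _ cond₁ ≫ pullback.snd p ((fgSpecDiagramβ k Ω).app i₀) =
      (pullback.snd p (Spec.map (CommRingCat.ofHom (algebraMap k k'))) ≫ w'') ≫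
        (fgSpecDiagram k Ω).map (j.hom ≫ 𝟙 i₀) := by
    rw [pullback.lift_snd, Category.assoc]
  obtain ⟨r, hr⟩ : ∃ r : pullback p (Spec.map (CommRingCat.ofHom (algebraMap k k'))) ⟶
      (pbDiagram (fgSpecDiagram k Ω) (𝟙 i₀)
        (pullback.snd p ((fgSpecDiagramβ k Ω).app i₀))).obj j,
      r ≫ pullback.fst (pullback.snd p ((fgSpecDiagramβ k Ω).app i₀)) _ =
        pullback.lift _ _ cond₁ := ⟨pullback.lift _ _ cond, pullback.lift_fst _ _ _⟩
  have hra : r ≫ (pbDiagram (fgSpecDiagram k Ω) (𝟙 i₀)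
      (pullback.snd p ((fgSpecDiagramβ k Ω).app i₀))).map φ ≫ a =
      pullback.fst p (Spec.map (CommRingCat.ofHom (algebraMap k k'))) := by
    subst ha
    have e1 := pbMap_fst (fgSpecDiagram k Ω) (𝟙 i₀) (pullback.snd p ((fgSpecDiagramβ k Ω).app i₀)) φ
    exact (congrArg (r ≫ ·) ((Category.assoc _ _ _).symm.trans
      (congrArg (· ≫ pullback.fst p ((fgSpecDiagramβ k Ω).app i₀)) e1))).trans
      ((Category.assoc _ _ _).symm.trans
        ((congrArg (· ≫ pullback.fst p ((fgSpecDiagramβ k Ω).app i₀)) hr).trans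
          (pullback.lift_fst _ _ _)))
  have BF : ∀ H : X.Modules, (Scheme.Modules.pullback r).obj
      ((Scheme.Modules.pullback ((pbDiagram (fgSpecDiagram k Ω) (𝟙 i₀)
        (pullback.snd p ((fgSpecDiagramβ k Ω).app i₀))).map φ)).obj
          ((Scheme.Modules.pullback a).obj H)) ≅
      (Scheme.Modules.pullback
        (pullback.fst p (Spec.map (CommRingCat.ofHom (algebraMap k k'))))).obj H := fun H =>
    (Scheme.Modules.pullback r).mapIso (pullIso _ a _ rfl H) ≪≫ pullIso r _ _ hra H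
  exact ⟨(BF F).symm ≪≫ (Scheme.Modules.pullback r).mapIso iso2 ≪≫ BF G⟩

end helpers


open CategoryTheory.Limits in
/-- Let k be a field, Ω an algebraically closed extension field of k, X a scheme of finite type over k
and F, G two coherent O_X-modules (quasi-coherent of finite presentation). If the pullbacks of F and
G to X ⊗_k Ω are isomorphic, then there is a finite extension k' of k such that the pullbacks of F
and G to X ⊗_k k' are already isomorphic (base changes are the chosen fibre products with Spec of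
the extension, and the modules are pulled back along the first projection). -/
theorem result {k : Type u} [Field k] {X : Scheme.{u}}
    (p : X ⟶ Spec (CommRingCat.of k)) [LocallyOfFiniteType p] [QuasiCompact p]
    (F G : X.Modules) [Coh.IsQCoh F] [Coh.IsQCoh G] (hF : CohB1.IsFP F) (hG : CohB1.IsFP G)
    (Ω : Type u) [Field Ω] [Algebra k Ω] [IsAlgClosed Ω]
    (e : (Scheme.Modules.pullback (pullback.fst p (Spec.map (CommRingCat.ofHom (algebraMap k Ω))))).obj F ≅
      (Scheme.Modules.pullback (pullback.fst p (Spec.map (CommRingCat.ofHom (algebraMap k Ω))))).obj G) :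
    ∃ (k' : Type u) (_ : Field k') (_ : Algebra k k') (_ : Module.Finite k k'),
      Nonempty ((Scheme.Modules.pullback (pullback.fst p (Spec.map (CommRingCat.ofHom (algebraMap k k'))))).obj F ≅
        (Scheme.Modules.pullback (pullback.fst p (Spec.map (CommRingCat.ofHom (algebraMap k k'))))).obj G) := by
  exact result' p F G hF hG Ω e

end Groth.Agent.S4823
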