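import Groth.Statements.S4826
import Groth.Agent.H23.GUCons3

set_option autoImplicit false
open CategoryTheory AlgebraicGeometry
universe u
open Cons9

namespace Groth.Agent.S4826


/-- Let X be a locally Noetherian scheme whose reduction has a normalization finite over X: for every
affine open U of X, the integral closure of Γ(U)_red in its total ring of fractions is a finite
module over Γ(U)_red. Then the set of points x of X at which X is geometrically unibranch (the local
ring O_{X,x} is geometrically unibranch) is locally constructible in X. -/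
theorem result (X : Scheme.{u}) [IsLocallyNoetherian X]
    (hfin : ∀ U : X.affineOpens, Module.Finite (CAlg2.red Γ(X, U.1)) (CAlg2.normRed Γ(X, U.1))) :
    Topology.IsLocallyConstructible {x : X | CAlg2.IsGeomUnibranch (X.presheaf.stalk x)} := by
  classical
  intro x
  obtain ⟨U, hU, hxU, -⟩ :=
    exists_isAffineOpen_mem_and_subset (X := X) (x := x) (U := ⊤) trivial
  refine ⟨U, U.isOpen.mem_nhds hxU, U.isOpen, ?_⟩
  haveI : IsNoetherianRing Γ(X, U) := IsLocallyNoetherian.component_noetherian ⟨U, hU⟩
  have hcons := Groth.Agent.H23.GUCons3.isConstructible_setOf_RE Γ(X, U) (hfin ⟨U, hU⟩)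
  have hemb : Topology.IsOpenEmbedding (fun y : U => hU.primeIdealOf y) :=
    (hU.isoSpec.hom.homeomorph).isOpenEmbedding
  have hpre := hcons.preimage_of_isOpenEmbedding hemb
  have hset : (Subtype.val ⁻¹' {x : X | CAlg2.IsGeomUnibranch (X.presheaf.stalk x)} : Set U) =
      (fun y : U => hU.primeIdealOf y) ⁻¹'
        {p : PrimeSpectrum Γ(X, U) | Groth.Agent.H23.GUCons2.RE Γ(X, U) p.asIdeal} := by
    ext y
    letI := X.presheaf.algebra_section_stalk y
    haveI := hU.isLocalization_stalk y
    show CAlg2.IsGeomUnibranch (X.presheaf.stalk y.1) ↔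
      Groth.Agent.H23.GUCons2.RE Γ(X, U) (hU.primeIdealOf y).asIdeal
    exact Groth.Agent.H23.GUCons2.isGeomUnibranch_iff_RE_of_isLocalization Γ(X, U)
      (hU.primeIdealOf y).asIdeal (X.presheaf.stalk y.1)
  rw [← hset] at hpre
  exact hpre

end Groth.Agent.S4826
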