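import Groth.Statements.S6285
import Mathlib.LinearAlgebra.Matrix.NonsingularInverse
import Mathlib.LinearAlgebra.Matrix.Adjugate
import Mathlib.RingTheory.LocalRing.ResidueField.Ideal
import Mathlib.LinearAlgebra.Dimension.StrongRankCondition
import Mathlib.LinearAlgebra.StdBasis

set_option autoImplicit false
universe u
open CAlg

namespace Groth.Agent.S6285

/-- `g` applied to a vector is the combination of the images of the standard basis. -/
lemma apply_eq_sum {R : Type u} [CommRing R] {n m : ℕ}
    (g : (Fin m → R) →ₗ[R] (Fin n → R)) (w : Fin m → R) :
    g w = ∑ j, w j • g (Pi.single j 1) := by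
  conv_lhs => rw [← (Pi.basisFun R (Fin m)).sum_repr w]
  simp [map_sum]

/-- For a ring R and an R-module M of finite presentation, the support Supp(M) is closed in Spec(R), and
its complement in Spec(R) is quasi-compact. -/
theorem result (R : Type u) [CommRing R] (M : Type u) [AddCommGroup M] [Module R M] [Module.FinitePresentation R M] : IsClosed (Module.support R M) ∧ IsCompact (Module.support R M)ᶜ := by
  classical
  have hfin : Module.Finite R M := inferInstance
  refine ⟨?_, ?_⟩
  · rw [Module.support_eq_zeroLocus]
    exact PrimeSpectrum.isClosed_zeroLocus _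
  · obtain ⟨n, m, f, g, hf, hfg⟩ := Module.FinitePresentation.exists_fin' R M
    let k : Fin m → (Fin n → R) := fun j => g (Pi.single j 1)
    let B : (Fin n → Fin m) → Matrix (Fin n) (Fin n) R := fun σ => Matrix.of (fun l i => k (σ i) l)
    have hcover : (Module.support R M)ᶜ =
        ⋃ σ : Fin n → Fin m, (PrimeSpectrum.basicOpen ((B σ).det) : Set (PrimeSpectrum R)) := by
      ext p
      simp only [Set.mem_compl_iff, Set.mem_iUnion, SetLike.mem_coe,
        PrimeSpectrum.mem_basicOpen, Module.mem_support_iff_of_finite]
      constructor
      · intro hp
        obtain ⟨s, hs, hsp⟩ := SetLike.not_le_iff_exists.mp hp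
        let L := p.asIdeal.ResidueField
        let φ : R →+* L := algebraMap R L
        have hφs : φ s ≠ 0 := by
          rw [Ne, Ideal.algebraMap_residueField_eq_zero]
          exact hsp
        let kb : Fin m → (Fin n → L) := fun j => φ ∘ k j
        have hspan : Submodule.span L (Set.range kb) = ⊤ := by
          rw [eq_top_iff, ← (Pi.basisFun L (Fin n)).span_eq, Submodule.span_le]
          rintro _ ⟨i, rfl⟩
          have h1 : f (s • Pi.single i 1) = 0 := by
            rw [map_smul]
            exact Module.mem_annihilator.mp hs _
          obtain ⟨w, hw⟩ := (hfg _).mp h1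
          have h2 : φ s • (Pi.basisFun L (Fin n) i) = ∑ j, φ (w j) • kb j := by
            rw [apply_eq_sum] at hw
            ext l
            have h3 := congrArg φ (congrFun hw l)
            simp only [Finset.sum_apply, Pi.smul_apply, smul_eq_mul, map_sum, map_mul] at h3
            simp only [Pi.basisFun_apply, Pi.smul_apply, smul_eq_mul, Finset.sum_apply, kb,
              Function.comp_apply, k]
            rw [h3]
            by_cases hil : l = i
            · subst hil; simp
            · simp [Pi.single_apply, hil]
          have h3 : Pi.basisFun L (Fin n) i = (φ s)⁻¹ • ∑ j, φ (w j) • kb j := by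
            rw [← h2, smul_smul, inv_mul_cancel₀ hφs, one_smul]
          rw [h3]
          exact Submodule.smul_mem _ _ (Submodule.sum_mem _ fun j _ =>
            Submodule.smul_mem _ _ (Submodule.subset_span ⟨j, rfl⟩))
        obtain ⟨b, hb1, hb2, hb3⟩ := exists_linearIndependent L (Set.range kb)
        let bas : Module.Basis b L (Fin n → L) :=
          Module.Basis.mk hb3 (by rw [Subtype.range_coe, hb2, hspan])
        let e : Fin n ≃ b := (Pi.basisFun L (Fin n)).indexEquiv bas
        have hσ : ∀ i : Fin n, ∃ j : Fin m, kb j = (e i : Fin n → L) := fun i => hb1 (e i).2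
        choose σ hσ' using hσ
        refine ⟨σ, ?_⟩
        have hli : LinearIndependent L (fun i => kb (σ i)) := by
          have h4 := hb3.comp e e.injective
          rw [show (fun i => kb (σ i)) = Subtype.val ∘ e from funext hσ']
          exact h4
        let A : Matrix (Fin n) (Fin n) L := Matrix.of (fun i => kb (σ i))
        have hA : IsUnit A := Matrix.linearIndependent_rows_iff_isUnit.mp hli
        have hdet : A.det ≠ 0 := ((Matrix.isUnit_iff_isUnit_det A).mp hA).ne_zero
        have hAB : A = Matrix.transpose ((B σ).map φ) := by
          ext i l
          rfl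
        rw [hAB, Matrix.det_transpose, ← RingHom.mapMatrix_apply, ← RingHom.map_det] at hdet
        intro hmem
        exact hdet ((Ideal.algebraMap_residueField_eq_zero).mpr hmem)
      · rintro ⟨σ, hσ⟩ hle
        apply hσ
        apply hle
        rw [Module.mem_annihilator]
        intro x
        obtain ⟨v, rfl⟩ := hf x
        rw [← map_smul]
        set c := (B σ).adjugate.mulVec v with hc
        refine (hfg _).mpr ⟨∑ i, c i • Pi.single (σ i) 1, ?_⟩
        have h1 : (B σ).mulVec c = (B σ).det • v := by
          rw [hc, Matrix.mulVec_mulVec, Matrix.mul_adjugate, Matrix.smul_mulVec,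
            Matrix.one_mulVec]
        rw [← h1, map_sum]
        ext l
        simp only [map_smul, Finset.sum_apply, Pi.smul_apply, smul_eq_mul, Matrix.mulVec,
          dotProduct, B, Matrix.of_apply, k]
        apply Finset.sum_congr rfl
        intro i _
        ring
    rw [hcover]
    exact isCompact_iUnion (fun σ => PrimeSpectrum.isCompact_basicOpen _)

end Groth.Agent.S6285
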