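import Groth.Statements.S5875
import Mathlib
import Groth.Agent.H9.CompDims
import Groth.Agent.S4357
import Groth.Agent.H8.SchSupport
import Groth.Agent.H8.FPAffine
import Groth.Agent.S6285
import Groth.Agent.H8.SuppClosed

set_option linter.style.haveILetI false

set_option autoImplicit false
universe u
open CategoryTheory AlgebraicGeometry
open Cons9

namespace Groth.Agent.S5875


section helpers
open Groth.Agent.H8 Topology TopologicalSpace Groth.Agent.H54

theorem isConstructible_moduleSupport (R : Type u) [CommRing R] (M : Type u) [AddCommGroup M]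
    [Module R M] [Module.FinitePresentation R M] : IsConstructible (Module.support R M) := by
  obtain ⟨h1, h2⟩ := Groth.Agent.S6285.result R M
  have : IsConstructible (Module.support R M)ᶜ := h2.isConstructible h1.isOpen_compl
  exact isConstructible_compl.mp this

theorem isLocallyConstructible_support {X : Scheme.{u}} (F : X.Modules) [F.IsQuasicoherent]
    [SheafOfModules.IsFinitePresentation (R := X.ringCatSheaf) F] :
    IsLocallyConstructible (CohB1.support F) := by
  intro x
  obtain ⟨U, hU, hxU, -⟩ :=
    exists_isAffineOpen_mem_and_subset (x := x) (U := (⊤ : X.Opens)) trivial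
  refine ⟨U, U.isOpen.mem_nhds hxU, U.isOpen, ?_⟩
  haveI : Module.FinitePresentation Γ(X, U) Γ(F, U) :=
    finitePresentation_sections_of_isAffineOpen F hU
  have hφ : IsOpenEmbedding (fun y : ↥U => hU.primeIdealOf y) :=
    (Scheme.homeoOfIso hU.isoSpec).isOpenEmbedding
  have e : (Subtype.val ⁻¹' CohB1.support F : Set ↥U) =
      (fun y : ↥U => hU.primeIdealOf y) ⁻¹' Module.support Γ(X, U) Γ(F, U) := by
    ext ⟨y, hyU⟩
    letI := moduleSectionStalk F y hyU
    haveI := isLocalizedModule_germₗ F hU y hyU
    let p := hU.primeIdealOf ⟨y, hyU⟩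
    show ¬ Subsingleton (F.presheaf.stalk y) ↔ p ∈ Module.support Γ(X, U) Γ(F, U)
    rw [Module.mem_support_iff]
    let e : LocalizedModule p.asIdeal.primeCompl Γ(F, U) ≃ₗ[Γ(X, U)] F.presheaf.stalk y :=
      IsLocalizedModule.iso p.asIdeal.primeCompl (germₗ F y hyU)
    rw [← not_subsingleton_iff_nontrivial, not_iff_not]
    exact e.toEquiv.subsingleton_congr.symm
  have key : ∀ (A B : Set ↥U), A = B → IsConstructible B → IsConstructible A :=
    fun A B h hB => h ▸ hB
  exact key _ _ e ((isConstructible_moduleSupport _ _).preimage_of_isOpenEmbedding hφ)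


/-- the support of the pullback to a fibre is homeomorphic to the trace of the support -/
theorem dims_support_fibre {X S : Scheme.{u}} (f : X ⟶ S) (F : X.Modules) [Coh.IsQCoh F]
    (hF : CohB1.IsFT F) (s : S) :
    (fun Z : Set ↥(CohB1.support ((Scheme.Modules.pullback (f.fiberι s)).obj F)) =>
        topologicalKrullDim ↥Z) ''
      irreducibleComponents ↥(CohB1.support ((Scheme.Modules.pullback (f.fiberι s)).obj F)) =
    Groth.Agent.H9.CompDims.dims f (CohB1.support F) s := by
  have hsupp := Groth.Agent.S4357.result (f.fiberι s) F hF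
  have hmem : ∀ a : ↥(CohB1.support ((Scheme.Modules.pullback (f.fiberι s)).obj F)),
      (f.fiberι s).base a.1 ∈ CohB1.support F ∩ ⇑f ⁻¹' {s} := by
    intro a
    refine ⟨?_, fiberι_mem f s a.1⟩
    exact (Set.ext_iff.mp hsupp a.1).mp a.2
  let r : ↥(CohB1.support ((Scheme.Modules.pullback (f.fiberι s)).obj F)) →
      ↥(CohB1.support F ∩ ⇑f ⁻¹' {s}) := fun a => ⟨_, hmem a⟩
  have hemb : IsEmbedding r := by
    have h1 : IsEmbedding
        (fun a : ↥(CohB1.support ((Scheme.Modules.pullback (f.fiberι s)).obj F)) =>
          (f.fiberι s).base a.1) :=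
      (f.fiberι s).isEmbedding.comp IsEmbedding.subtypeVal
    exact h1.codRestrict _ hmem
  have hsurj : Function.Surjective r := by
    rintro ⟨x, hxZ, hxs⟩
    obtain ⟨z, rfl⟩ := Groth.Agent.S3425.exists_fiberι_eq f s x hxs
    have hz : z ∈ CohB1.support ((Scheme.Modules.pullback (f.fiberι s)).obj F) := by
      rw [hsupp]; exact hxZ
    exact ⟨⟨z, hz⟩, rfl⟩
  unfold Groth.Agent.H9.CompDims.dims
  exact Groth.Agent.H38.GenericConstr.image_dim_irreducibleComponents_homeomorph
    (hemb.toHomeomorphOfSurjective hsurj)

theorem result' {X S : Scheme.{u}} (f : X ⟶ S)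
    [LocallyOfFinitePresentation f] [QuasiCompact f] [QuasiSeparated f]
    (F : X.Modules) [Coh.IsQCoh F] (hF : CohB1.IsFP F) (Φ : Finset ℕ) :
    Topology.IsLocallyConstructible {s : S |
      (fun Z : Set ↥(CohB1.support ((Scheme.Modules.pullback (f.fiberι s)).obj F)) =>
          topologicalKrullDim ↥Z) ''
          irreducibleComponents ↥(CohB1.support ((Scheme.Modules.pullback (f.fiberι s)).obj F)) =
        (fun n : ℕ => (n : WithBot ℕ∞)) '' (Φ : Set ℕ)} := by
  haveI : F.IsQuasicoherent := ‹Coh.IsQCoh F›
  haveI : SheafOfModules.IsFinitePresentation (R := X.ringCatSheaf) F := hF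
  have hFT : CohB1.IsFT F := inferInstance
  haveI : SheafOfModules.IsFiniteType (R := X.ringCatSheaf) F := hFT
  have hZ : IsLocallyConstructible (CohB1.support F) := isLocallyConstructible_support F
  have hcl : IsClosed (CohB1.support F) := isClosed_support_of_isFiniteType F
  have hZs : ∀ s : S, IsLocallyClosed
      (Subtype.val ⁻¹' CohB1.support F : Set ↥(⇑f ⁻¹' {s})) := fun s =>
    (hcl.preimage continuous_subtype_val).isLocallyClosed
  have main := Groth.Agent.H9.CompDims.result' f (CohB1.support F) hZ hZs
    ((fun n : ℕ => (n : WithBot ℕ∞)) '' (Φ : Set ℕ))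
  convert main using 1
  ext s
  simp only [Set.mem_ofPred_eq]
  rw [dims_support_fibre f F hFT s]

end helpers


/-- Let f : X ⟶ S be a morphism of finite presentation (locally of finite presentation, quasi-compact
and quasi-separated) and F a quasi-coherent O_X-module of finite presentation; for s in S let F_s be
the pullback of F to the scheme-theoretic fibre X_s and E'(s) the finite set of dimensions of the
irreducible components of the support of F_s (the points of X_s where the stalk of F_s is nonzero),
i.e. of the maximal associated prime cycles of F_s. Then s ↦ E'(s) is a locally constructible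
function on S: for every finite set Φ of natural numbers, the set of s with E'(s) = Φ is locally
constructible. -/
theorem result {X S : Scheme.{u}} (f : X ⟶ S)
    [LocallyOfFinitePresentation f] [QuasiCompact f] [QuasiSeparated f]
    (F : X.Modules) [Coh.IsQCoh F] (hF : CohB1.IsFP F) (Φ : Finset ℕ) :
    Topology.IsLocallyConstructible {s : S |
      (fun Z : Set ↥(CohB1.support ((Scheme.Modules.pullback (f.fiberι s)).obj F)) => topologicalKrullDim ↥Z) ''
          irreducibleComponents ↥(CohB1.support ((Scheme.Modules.pullback (f.fiberι s)).obj F)) =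
        (fun n : ℕ => (n : WithBot ℕ∞)) '' (Φ : Set ℕ)} := by
  exact result' f F hF Φ

end Groth.Agent.S5875
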