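import Groth.Statements.S4831
import Groth.Agent.S5875
import Groth.Agent.S3427
import Groth.Agent.S4357
import Groth.Agent.H8.QCohStalk
import Groth.Agent.H8.PullbackStalk
import Groth.Agent.H11.ClosureSpecializes
import Groth.Agent.H24.FlatClosure

set_option linter.style.haveILetI false

set_option autoImplicit false
open CategoryTheory AlgebraicGeometry
universe u
open Cons9

namespace Groth.Agent.S4831


section helpers
open Groth.Agent.H8 Topology TopologicalSpace

/-- In a scheme all of whose local rings are domains, every point has a generization whose local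
ring is a field. -/
theorem exists_specializes_isField {Y : Scheme.{u}}
    (hint : ∀ y : Y, IsDomain (Y.presheaf.stalk y)) (x : Y) :
    ∃ η : Y, η ⤳ x ∧ IsField (Y.presheaf.stalk η) := by
  obtain ⟨U, hU, hxU, -⟩ :=
    exists_isAffineOpen_mem_and_subset (x := x) (U := (⊤ : Y.Opens)) trivial
  let p := hU.primeIdealOf ⟨x, hxU⟩
  obtain ⟨P, hP, hPp⟩ := Ideal.exists_minimalPrimes_le (I := ⊥) (J := p.asIdeal) bot_le
  haveI hPprime : P.IsPrime := hP.1.1
  let P' : PrimeSpectrum Γ(Y, U) := ⟨P, hPprime⟩
  have hηU : hU.fromSpec P' ∈ U := by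
    have : hU.fromSpec P' ∈ Set.range hU.fromSpec := Set.mem_range_self _
    rw [hU.range_fromSpec] at this
    exact this
  refine ⟨hU.fromSpec P', ?_, ?_⟩
  · have h1 : P' ⤳ p := (PrimeSpectrum.le_iff_specializes P' p).mp hPp
    have h2 := h1.map hU.fromSpec.continuous
    rw [hU.fromSpec_primeIdealOf ⟨x, hxU⟩] at h2
    exact h2
  · letI := TopCat.Presheaf.algebra_section_stalk Y.presheaf ⟨hU.fromSpec P', hηU⟩
    haveI hloc : IsLocalization.AtPrime (Y.presheaf.stalk (hU.fromSpec P')) P :=
      hU.isLocalization_stalk' P' hηU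
    haveI := hint (hU.fromSpec P')
    rw [IsLocalRing.isField_iff_maximalIdeal_eq]
    have hQ : (Ideal.comap (algebraMap Γ(Y, U) (Y.presheaf.stalk (hU.fromSpec P'))) ⊥).IsPrime :=
      Ideal.comap_isPrime _ _
    have hQP : Ideal.comap (algebraMap Γ(Y, U) (Y.presheaf.stalk (hU.fromSpec P'))) ⊥ ≤ P := by
      rw [← IsLocalization.AtPrime.under_maximalIdeal (Y.presheaf.stalk (hU.fromSpec P')) P]
      exact Ideal.comap_mono bot_le
    have hPQ : P ≤ Ideal.comap (algebraMap Γ(Y, U) (Y.presheaf.stalk (hU.fromSpec P'))) ⊥ :=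
      hP.2 ⟨hQ, bot_le⟩ hQP
    rw [← IsLocalization.AtPrime.map_eq_maximalIdeal P (Y.presheaf.stalk (hU.fromSpec P'))]
    exact le_bot_iff.mp ((Ideal.map_mono hPQ).trans Ideal.map_comap_le)

/-- In a locally Noetherian scheme, the closure of an open subset consists of specializations of
its points. -/
theorem exists_specializes_of_mem_closure_opens {Y : Scheme.{u}} [IsLocallyNoetherian Y]
    (W : Y.Opens) (x : Y) (hx : x ∈ closure (W : Set Y)) : ∃ η ∈ W, η ⤳ x := by
  have hx' : x ∈ closure (Set.range W.ι) := by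
    rw [Scheme.Opens.range_ι]; exact hx
  obtain ⟨w, hw⟩ := Groth.Agent.H11.exists_specializes_of_mem_closure_range W.ι x hx'
  exact ⟨W.ι w, w.2, hw⟩

/-- Torsion modules over a field are trivial. -/
theorem subsingleton_of_torsion_eq_top {R M : Type*} [CommRing R] [IsDomain R] [AddCommGroup M]
    [Module R M] (hR : IsField R) (h : Submodule.torsion R M = ⊤) : Subsingleton M := by
  refine ⟨fun a b => ?_⟩
  have key : ∀ m : M, m = 0 := by
    intro m
    have hm : m ∈ Submodule.torsion R M := h ▸ Submodule.mem_top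
    rw [Submodule.mem_torsion_iff] at hm
    obtain ⟨c, hc⟩ := hm
    have hc0 : (c : R) ≠ 0 := nonZeroDivisors.coe_ne_zero c
    obtain ⟨d, hd⟩ := hR.mul_inv_cancel hc0
    have : m = (d * (c : R)) • m := by rw [mul_comm, hd, one_smul]
    rw [this, mul_smul]
    have hc' : (c : R) • m = 0 := hc
    rw [hc', smul_zero]
  rw [key a, key b]

/-- If a quasi-coherent module vanishes at a generization `η` of `x` and the local ring at `x`
is a domain, then the stalk at `x` is torsion. -/
theorem torsion_eq_top_of_specializes {Y : Scheme.{u}} (G : Y.Modules) [G.IsQuasicoherent]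
    (x η : Y) [IsDomain (Y.presheaf.stalk x)] (hηx : η ⤳ x)
    (hη : Subsingleton (G.presheaf.stalk η)) :
    Submodule.torsion (Y.presheaf.stalk x) (G.presheaf.stalk x) = ⊤ := by
  obtain ⟨U, hU, hxU, -⟩ :=
    exists_isAffineOpen_mem_and_subset (x := x) (U := (⊤ : Y.Opens)) trivial
  have hηU : η ∈ U := hηx.mem_open U.isOpen hxU
  rw [eq_top_iff]
  intro t _
  rw [Submodule.mem_torsion_iff]
  obtain ⟨a, hxa, m, hm⟩ := exists_germ_smul_eq_germ G hU x hxU t
  obtain ⟨b, hηb, hb⟩ := exists_smul_eq_zero_of_germ_eq_zero G hU η hηU m (Subsingleton.elim _ _)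
  have hbx : Y.presheaf.germ U x hxU b ≠ 0 := by
    intro h0
    have h1 : Y.presheaf.germ U η hηU b = 0 := by
      have := TopCat.Presheaf.germ_stalkSpecializes Y.presheaf hxU hηx
      rw [← this]
      simp only [CommRingCat.comp_apply]
      rw [h0, map_zero]
    have h2 : IsUnit (Y.presheaf.germ U η hηU b) := (Scheme.mem_basicOpen _ _ _ hηU).mp hηb
    rw [h1] at h2
    exact not_isUnit_zero h2
  have hax : Y.presheaf.germ U x hxU a ≠ 0 :=
    ((Scheme.mem_basicOpen _ _ _ hxU).mp hxa).ne_zero
  refine ⟨⟨Y.presheaf.germ U x hxU b * Y.presheaf.germ U x hxU a,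
    mem_nonZeroDivisors_of_ne_zero (mul_ne_zero hbx hax)⟩, ?_⟩
  show (Y.presheaf.germ U x hxU b * Y.presheaf.germ U x hxU a) • t = 0
  rw [mul_smul, hm, ← germ_smul, hb, map_zero]

theorem result' {X S : Scheme.{u}} (f : X ⟶ S) [IsLocallyNoetherian S]
    [LocallyOfFiniteType f] [QuasiCompact f] (F : X.Modules) [Coh.IsQCoh F] (hF : CohB1.IsFP F)
    (hint : ∀ (s : S) (x : ↥(f.fiber s)), IsDomain ((f.fiber s).presheaf.stalk x)) :
    Topology.IsLocallyConstructible {s : S | ∀ x : ↥(f.fiber s),
      Submodule.torsion ((f.fiber s).presheaf.stalk x)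
        (((Scheme.Modules.pullback (f.fiberι s)).obj F).presheaf.stalk x) = ⊤} := by
  haveI : F.IsQuasicoherent := ‹Coh.IsQCoh F›
  haveI : SheafOfModules.IsFinitePresentation (R := X.ringCatSheaf) F := hF
  have hFT : CohB1.IsFT F := inferInstance
  haveI : SheafOfModules.IsFiniteType (R := X.ringCatSheaf) F := hFT
  haveI : IsLocallyNoetherian X := LocallyOfFiniteType.isLocallyNoetherian f
  haveI : QuasiSeparated f := inferInstance
  have hZ : IsLocallyConstructible (CohB1.support F)ᶜ :=
    Groth.Agent.H24.isLocallyConstructible_compl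
      (Groth.Agent.S5875.isLocallyConstructible_support F)
  have hcl : IsClosed (CohB1.support F) := isClosed_support_of_isFiniteType F
  have main := Groth.Agent.S3427.result f (CohB1.support F)ᶜ Set.univ hZ
    IsLocallyConstructible.univ (Set.subset_univ _)
  convert main using 1
  ext s
  simp only [Set.mem_ofPred_eq, Set.univ_inter]
  haveI : IsLocallyNoetherian (f.fiber s) := by
    unfold Scheme.Hom.fiber
    infer_instance
  haveI : ((Scheme.Modules.pullback (f.fiberι s)).obj F).IsQuasicoherent :=
    isQuasicoherent_pullback (f.fiberι s) F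
  have hsupp : CohB1.support ((Scheme.Modules.pullback (f.fiberι s)).obj F) =
      (f.fiberι s).base ⁻¹' CohB1.support F := Groth.Agent.S4357.result (f.fiberι s) F hFT
  constructor
  · intro h x hx
    obtain ⟨z, rfl⟩ := Groth.Agent.S3425.exists_fiberι_eq f s x hx
    obtain ⟨η, hηz, hfield⟩ := exists_specializes_isField (hint s) z
    haveI := hint s η
    have hsub : Subsingleton (((Scheme.Modules.pullback (f.fiberι s)).obj F).presheaf.stalk η) :=
      subsingleton_of_torsion_eq_top hfield (h η)
    have hη : (f.fiberι s).base η ∈ (CohB1.support F)ᶜ ∩ f.base ⁻¹' {s} := by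
      refine ⟨fun hmem => ?_, Groth.Agent.S3425.fiberι_mem f s η⟩
      have : η ∈ CohB1.support ((Scheme.Modules.pullback (f.fiberι s)).obj F) := by
        rw [hsupp]; exact hmem
      exact this hsub
    have hsp : (f.fiberι s).base η ⤳ (f.fiberι s).base z := hηz.map (f.fiberι s).continuous
    exact closure_mono (Set.singleton_subset_iff.mpr hη) (specializes_iff_mem_closure.mp hsp)
  · intro h x
    haveI := hint s x
    have hx : (f.fiberι s).base x ∈ closure ((CohB1.support F)ᶜ ∩ f.base ⁻¹' {s}) :=
      h (Groth.Agent.S3425.fiberι_mem f s x)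
    have hWo : IsOpen (CohB1.support ((Scheme.Modules.pullback (f.fiberι s)).obj F))ᶜ := by
      rw [hsupp]
      exact (hcl.preimage (f.fiberι s).continuous).isOpen_compl
    let W : (f.fiber s).Opens :=
      ⟨(CohB1.support ((Scheme.Modules.pullback (f.fiberι s)).obj F))ᶜ, hWo⟩
    have hxW : x ∈ closure (W : Set ↥(f.fiber s)) := by
      rw [(f.fiberι s).isEmbedding.isInducing.closure_eq_preimage_closure_image]
      refine closure_mono ?_ hx
      rintro y ⟨hy1, hy2⟩
      obtain ⟨z, rfl⟩ := Groth.Agent.S3425.exists_fiberι_eq f s y hy2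
      refine ⟨z, ?_, rfl⟩
      show z ∉ CohB1.support ((Scheme.Modules.pullback (f.fiberι s)).obj F)
      rw [hsupp]
      exact hy1
    obtain ⟨η, hηW, hηx⟩ := exists_specializes_of_mem_closure_opens W x hxW
    exact torsion_eq_top_of_specializes _ x η hηx (not_not.mp hηW)

end helpers


/-- Let S be a locally Noetherian scheme, f : X ⟶ S a morphism of finite type and F a coherent
O_X-module; suppose that every fibre X_s is locally integral (all its local rings are integral
domains). For s in S let F_s be the pullback of F to the fibre X_s. Then the set of s such that F_s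
is a torsion module over O_{X_s} (each stalk of F_s is its own torsion submodule over the local ring
of X_s, an integral domain) is locally constructible in S. -/
theorem result {X S : Scheme.{u}} (f : X ⟶ S) [IsLocallyNoetherian S]
    [LocallyOfFiniteType f] [QuasiCompact f] (F : X.Modules) [Coh.IsQCoh F] (hF : CohB1.IsFP F)
    (hint : ∀ (s : S) (x : ↥(f.fiber s)), IsDomain ((f.fiber s).presheaf.stalk x)) :
    Topology.IsLocallyConstructible {s : S | ∀ x : ↥(f.fiber s),
      Submodule.torsion ((f.fiber s).presheaf.stalk x) (((Scheme.Modules.pullback (f.fiberι s)).obj F).presheaf.stalk x) = ⊤} := by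
  exact result' f F hF hint

end Groth.Agent.S4831
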