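import Groth.Statements.S4833
import Groth.Agent.H57.FibCmp
import Groth.Agent.H57.GenFlatSch
import Groth.Agent.H49.FibreCritCore
import Groth.Agent.S4863
import Groth.Agent.H24.ConsPropRows
import Groth.Agent.H8.FPAffine

set_option linter.style.haveILetI false
open Topology

set_option autoImplicit false
open CategoryTheory AlgebraicGeometry
universe u
open Cons9

namespace Groth.Agent.S4833

open CategoryTheory.Limits in
set_option maxHeartbeats 3200000 in
/-- Let S be an integral Noetherian scheme with generic point η, let g : X ⟶ Y be an S-morphism between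
schemes of finite type over S (structure morphisms h : Y ⟶ S and g ≫ h), and let F be a coherent
O_X-module. For s in S write g_s : X_s ⟶ Y_s for the morphism induced on the fibres over s and F_s
for the pullback of F to X_s. If F_η is not flat relative to g_η (not flat over O_{Y_η, g_η(x)} at
some point x of X_η), then there is an open neighbourhood U of η such that for every s in U the
module F_s is not flat relative to g_s. -/
theorem result {X Y S : Scheme.{u}} [IsIntegral S] [IsNoetherian S]
    (g : X ⟶ Y) (h : Y ⟶ S) [LocallyOfFiniteType h] [QuasiCompact h]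
    [LocallyOfFiniteType (g ≫ h)] [QuasiCompact (g ≫ h)]
    (F : X.Modules) [Coh.IsQCoh F] (hF : CohB1.IsFP F)
    (hη : ¬ FlatMod.IsFlatOver
      (pullback.lift (pullback.fst (g ≫ h) (S.fromSpecResidueField (genericPoint S)) ≫ g)
          (pullback.snd (g ≫ h) (S.fromSpecResidueField (genericPoint S)))
          ((Category.assoc _ _ _).trans pullback.condition) :
        pullback (g ≫ h) (S.fromSpecResidueField (genericPoint S)) ⟶ pullback h (S.fromSpecResidueField (genericPoint S)))
      ((Scheme.Modules.pullback (pullback.fst (g ≫ h) (S.fromSpecResidueField (genericPoint S)))).obj F)) :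
    ∃ U : S.Opens, genericPoint S ∈ U ∧ ∀ s ∈ U, ¬ FlatMod.IsFlatOver
      (pullback.lift (pullback.fst (g ≫ h) (S.fromSpecResidueField s) ≫ g) (pullback.snd (g ≫ h) (S.fromSpecResidueField s))
          ((Category.assoc _ _ _).trans pullback.condition) :
        pullback (g ≫ h) (S.fromSpecResidueField s) ⟶ pullback h (S.fromSpecResidueField s))
      ((Scheme.Modules.pullback (pullback.fst (g ≫ h) (S.fromSpecResidueField s))).obj F) := by
  classical
  haveI hqc : F.IsQuasicoherent := ‹Coh.IsQCoh F›
  haveI : LocallyOfFinitePresentation (g ≫ h) := Groth.Agent.H24.lfp_of_lft_noetherian (g ≫ h)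
  haveI : LocallyOfFinitePresentation g :=
    Groth.Agent.H49.SmoothFibreMap.lfp_of_comp_of_lft g h inferInstance inferInstance
  -- (A): flatness over `Y` at `x` gives flatness of the fibre module over the fibre of `Y`
  have keyA : ∀ (s : S) (y' : ((g ≫ h).fiber s : Scheme.{u})),
      FlatMod.IsFlatOverAt g F ((g ≫ h).fiberι s y') →
      FlatMod.IsFlatOverAt (MoreMor.fiberMap g h s)
        ((Scheme.Modules.pullback ((g ≫ h).fiberι s)).obj F) y' := by
    intro s y' h1
    rw [Groth.Agent.H57.FibCmp.isFlatOverAt_fiberMap_iff g h F s y' _ rfl]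
    letI := FlatMod.moduleStalkOver g F ((g ≫ h).fiberι s y')
    haveI : Module.Flat (Y.presheaf.stalk (g ((g ≫ h).fiberι s y')))
        (F.presheaf.stalk ((g ≫ h).fiberι s y')) := h1
    exact Module.Flat.of_linearEquiv
      (Groth.Agent.H49.FibreCrit.quotEquiv (F.presheaf.stalk ((g ≫ h).fiberι s y')) _).symm
  -- (B): the fibre criterion
  have keyB : ∀ (s : S) (y' : ((g ≫ h).fiber s : Scheme.{u})),
      FlatMod.IsFlatOverAt (g ≫ h) F ((g ≫ h).fiberι s y') →
      FlatMod.IsFlatOverAt (MoreMor.fiberMap g h s)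
        ((Scheme.Modules.pullback ((g ≫ h).fiberι s)).obj F) y' →
      FlatMod.IsFlatOverAt g F ((g ≫ h).fiberι s y') := by
    intro s y' h1 h2
    by_cases hnt : Nontrivial ↑(F.presheaf.stalk ((g ≫ h).fiberι s y'))
    · have hQ := (Groth.Agent.H57.FibCmp.isFlatOverAt_fiberMap_iff g h F s y' _ rfl).mp h2
      exact ((Groth.Agent.H49.FibreCrit.critere_module Groth.Agent.H49.FibreCrit.core g h F
        ‹Coh.IsQCoh F› hF _ hnt).mp ⟨h1, hQ⟩).2
    · rw [not_nontrivial_iff_subsingleton] at hnt
      letI := FlatMod.moduleStalkOver g F ((g ≫ h).fiberι s y')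
      change Module.Flat (Y.presheaf.stalk (g ((g ≫ h).fiberι s y')))
        (F.presheaf.stalk ((g ≫ h).fiberι s y'))
      infer_instance
  -- generic flatness of `F` over `S`
  have hfin : ∀ W : X.Opens, IsAffineOpen W → Module.Finite Γ(X, W) Γ(F, W) := by
    intro W hW
    haveI : SheafOfModules.IsFinitePresentation (R := X.ringCatSheaf) F := hF
    haveI : Module.FinitePresentation Γ(X, W) Γ(F, W) :=
      Groth.Agent.H8.finitePresentation_sections_of_isAffineOpen F hW
    infer_instance
  obtain ⟨U₁, hU₁ne, hU₁⟩ := Groth.Agent.H57.exists_open_isFlatOverAt (g ≫ h) F hfin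
  have hηU₁ : genericPoint S ∈ U₁ := by
    obtain ⟨a, ha⟩ := hU₁ne
    exact ((genericPoint_spec S).mem_open_set_iff U₁.2).mpr ⟨a, trivial, ha⟩
  -- the non-flat locus
  have hopen : IsOpen {x : X | FlatMod.IsFlatOverAt g F x} := Groth.Agent.S4863.result g F hF
  haveI : IsLocallyNoetherian X := LocallyOfFiniteType.isLocallyNoetherian (g ≫ h)
  haveI : CompactSpace X := QuasiCompact.compactSpace_of_compactSpace (g ≫ h)
  haveI : IsNoetherian X := {}
  have hZc : IsConstructible {x : X | FlatMod.IsFlatOverAt g F x}ᶜ := by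
    have h1 : IsConstructible {x : X | FlatMod.IsFlatOverAt g F x} :=
      IsRetrocompact.isConstructible hopen
        (fun V _ _ => TopologicalSpace.NoetherianSpace.isCompact _)
    exact h1.compl
  have hT : IsConstructible ((g ≫ h) '' {x : X | FlatMod.IsFlatOverAt g F x}ᶜ) :=
    (g ≫ h).isConstructible_image hZc
  -- a point of the non-flat locus over the generic point
  have hη' : ¬ FlatMod.IsFlatOver (MoreMor.fiberMap g h (genericPoint S))
      ((Scheme.Modules.pullback ((g ≫ h).fiberι (genericPoint S))).obj F) := hη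
  obtain ⟨y₀, hy₀⟩ := not_forall.mp hη'
  have hηT : genericPoint S ∈ (g ≫ h) '' {x : X | FlatMod.IsFlatOverAt g F x}ᶜ := by
    refine ⟨(g ≫ h).fiberι (genericPoint S) y₀, fun hfl => hy₀ (keyA _ y₀ hfl), ?_⟩
    have h1 : (g ≫ h).fiberι (genericPoint S) y₀ ∈ Set.range ((g ≫ h).fiberι (genericPoint S)) :=
      Set.mem_range_self y₀
    rw [Scheme.Hom.range_fiberι] at h1
    exact h1
  obtain ⟨V, hVo, hηV, hVT⟩ := Groth.Agent.H24.exists_isOpen_subset_of_isConstructible
    (genericPoint_spec S) _ hT hηT
  refine ⟨U₁ ⊓ ⟨V, hVo⟩, ⟨hηU₁, hηV⟩, ?_⟩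
  rintro s ⟨hsU₁, hsV⟩ hflat
  obtain ⟨z, hzZ, rfl⟩ := hVT hsV
  have hflat' : FlatMod.IsFlatOver (MoreMor.fiberMap g h ((g ≫ h) z))
      ((Scheme.Modules.pullback ((g ≫ h).fiberι ((g ≫ h) z))).obj F) := hflat
  have h2 := hflat' ((g ≫ h).asFiber z)
  have h1 : FlatMod.IsFlatOverAt (g ≫ h) F z := hU₁ z hsU₁
  have h3 := keyB _ ((g ≫ h).asFiber z) (by rw [Scheme.Hom.fiberι_asFiber]; exact h1) h2
  rw [Scheme.Hom.fiberι_asFiber] at h3
  exact hzZ h3

end Groth.Agent.S4833
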