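import Groth.Statements.S4837
import Groth.Agent.H73.RelSpecImm
import Groth.Agent.H41.AffAlgPushout

set_option autoImplicit false
open CategoryTheory AlgebraicGeometry
universe u
open Lim8

namespace Groth.Agent.S4837

/-- Let f : X ⟶ Y be a quasi-compact quasi-separated morphism, C a quasi-coherent O_Y-algebra with
relative spectrum Z = Spec(C) over Y, g : X ⟶ Z a Y-morphism which is an immersion, and φ : C ⟶
f_*O_X the homomorphism of O_Y-algebras corresponding to g (the canonical identification of C with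
the direct image of O_Z followed by the map induced by g). Then the scheme-theoretic image of g is
the whole of Z, i.e. the kernel ideal of g vanishes, if and only if φ is injective; and when this
holds g is an open immersion. -/
theorem result {X Y : Scheme.{u}} (f : X ⟶ Y)
    [QuasiCompact f] [QuasiSeparated f] (C : RelSpec.QCAlg Y) (g : X ⟶ C.spec) (w : g ≫ C.π = f)
    [IsImmersion g] (φ : C ⟶ RelSpec.QCAlg.directImage f)
    (hφ : C.gammaMap ≫ φ.hom = AffAlg.algHom C.π f g w) :
    (g.ker = ⊥ ↔ ∀ U : Y.Opens, Function.Injective (φ.hom.app (Opposite.op U)).hom) ∧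
      (g.ker = ⊥ → IsOpenImmersion g) := by
  subst w
  have hqc : QuasiCompact g := QuasiCompact.of_comp g C.π
  have hiso : IsIso C.gammaMap := Groth.Agent.S8255.result C
  have happ : ∀ U : Y.Opens,
      C.gammaMap.app (Opposite.op U) ≫ φ.hom.app (Opposite.op U) = g.app (C.π ⁻¹ᵁ U) := by
    intro U
    rw [← NatTrans.comp_app, hφ,
      Groth.Agent.H41.AffAlgLib.algHom_app C.π (g ≫ C.π) g rfl U le_rfl]
    exact g.appLE_eq_app (U := C.π ⁻¹ᵁ U)
  have hbij : ∀ U : Y.Opens, Function.Bijective (C.gammaMap.app (Opposite.op U)).hom := by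
    intro U
    haveI : IsIso (C.gammaMap.app (Opposite.op U)) := inferInstance
    exact ConcreteCategory.bijective_of_isIso _
  have hequiv : ∀ U : Y.Opens, Function.Injective (φ.hom.app (Opposite.op U)).hom ↔
      Function.Injective (g.app (C.π ⁻¹ᵁ U)).hom := by
    intro U
    have happ' : ∀ z : Γ(C.spec, C.π ⁻¹ᵁ U), (g.app (C.π ⁻¹ᵁ U)).hom z =
        (φ.hom.app (Opposite.op U)).hom ((C.gammaMap.app (Opposite.op U)).hom z) :=
      fun z => (congr($(happ U).hom z)).symm
    constructor
    · intro h z1 z2 hz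
      apply (hbij U).1
      apply h
      rw [← happ', ← happ', hz]
    · intro h c1 c2 hc
      obtain ⟨z1, rfl⟩ := (hbij U).2 c1
      obtain ⟨z2, rfl⟩ := (hbij U).2 c2
      rw [← happ', ← happ'] at hc
      rw [h hc]
  refine ⟨⟨fun hker U => (hequiv U).mpr
    (Groth.Agent.H73.RelSpecImm.app_injective_of_ker_eq_bot g hker _), fun hinj => ?_⟩,
    fun hker => Groth.Agent.H73.RelSpecImm.isOpenImmersion_of_ker_eq_bot g hker⟩
  refine Groth.Agent.H73.RelSpecImm.ker_eq_bot_of_injective g
    (fun U : Y.affineOpens => (⟨C.π ⁻¹ᵁ U.1, U.2.preimage C.π⟩ : C.spec.affineOpens)) ?_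
    (fun U => (hequiv U.1).mp (hinj U.1))
  show ⨆ U : Y.affineOpens, C.π ⁻¹ᵁ U.1 = ⊤
  rw [← Scheme.Hom.preimage_iSup, iSup_affineOpens_eq_top, Scheme.Hom.preimage_top]

end Groth.Agent.S4837
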