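import Groth.Statements.S4842
import Mathlib
import Groth.Agent.H24.LimEmbedding
import Groth.Agent.S4770

set_option autoImplicit false
universe u
open CategoryTheory AlgebraicGeometry
open Lim8

namespace Groth.Agent.S4842

/-- Let S = lim S_i be a cofiltered limit of schemes whose transition maps are affine and topological
embeddings (homeomorphisms onto subspaces), some stage S_{i₀} having Noetherian underlying space,
and assume that the underlying space of S is Noetherian. Then there is an index i over i₀ such that,
for every j over i, the map sending a connected component C of S to the closure of its image under S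
⟶ S_j is a bijection from the set of connected components of S onto the set of connected components
of S_j. -/
theorem result {I : Type u} [SmallCategory I] [IsCofiltered I]
    (D : I ⥤ Scheme.{u}) (c : Limits.Cone D) (hc : Limits.IsLimit c)
    [∀ (i j : I) (f : i ⟶ j), IsAffineHom (D.map f)] (i₀ : I)
    [TopologicalSpace.NoetherianSpace (D.obj i₀)] [TopologicalSpace.NoetherianSpace c.pt]
    (he : ∀ (i j : I) (φ : i ⟶ j), Topology.IsEmbedding ⇑(D.map φ)) :
    ∃ (i : I) (_ : i ⟶ i₀), ∀ (j : I) (_ : j ⟶ i),
      Set.BijOn (fun C : Set c.pt => closure (⇑(c.π.app j) '' (C : Set c.pt) : Set (D.obj j)))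
        (Set.range (connectedComponent : c.pt → Set c.pt)) (Set.range (connectedComponent : D.obj j → Set (D.obj j))) := by
  have hAff : ∀ {i j : I} (f : i ⟶ j), IsAffineHom (D.map f) := fun f => inferInstance
  obtain ⟨j₀, a, hstab⟩ := H24.exists_closure_range_stable D i₀
  have hdom : ∀ (k : I) (b : k ⟶ j₀), IsDominant (c.π.app k) :=
    H24.isDominant_π_app_of_closure_range_stable D c hc i₀ he j₀ a hstab
  -- the restricted system
  let D' : Over j₀ ⥤ Scheme.{u} := Over.forget j₀ ⋙ D
  let c' : Limits.Cone D' := c.whisker (Over.forget j₀)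
  have hc' : Limits.IsLimit c' := (Functor.Initial.isLimitWhiskerEquiv (Over.forget j₀) c).symm hc
  have hAff' : ∀ (i j : Over j₀) (f : i ⟶ j), IsAffineHom (D'.map f) := by
    intro i j f; dsimp [D']; infer_instance
  have hd' : ∀ (i j : Over j₀) (φ : i ⟶ j), IsDominant (D'.map φ) := by
    intro i j φ
    have h1 : c.π.app i.left ≫ D.map φ.left = c.π.app j.left := c.w φ.left
    have h2 : IsDominant (c.π.app i.left ≫ D.map φ.left) := by
      rw [h1]; exact hdom j.left j.hom
    exact IsDominant.of_comp (f := c.π.app i.left) (g := D.map φ.left)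
  have hnoeth : TopologicalSpace.NoetherianSpace (D.obj j₀) := (he _ _ a).isInducing.noetherianSpace
  have hcomp : CompactSpace (D'.obj (Over.mk (𝟙 j₀))) := by
    change CompactSpace (D.obj j₀)
    infer_instance
  have hnoeth' : TopologicalSpace.NoetherianSpace c'.pt := by
    change TopologicalSpace.NoetherianSpace c.pt
    infer_instance
  obtain ⟨i, _, hi⟩ := Groth.Agent.S4770.result D' c' hc' (Over.mk (𝟙 j₀)) hd'
  refine ⟨i.left, i.hom ≫ a, fun j ψ => ?_⟩
  exact hi (Over.mk (ψ ≫ i.hom)) (Over.homMk ψ)

end Groth.Agent.S4842
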