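import Groth.Statements.S4847
import Groth.Agent.S0392
import Groth.Agent.H8.Coh
import Groth.Agent.H29.FiberStalkAt

set_option autoImplicit false
universe u
open EGA43

namespace Groth.Agent.S4847

open TensorProduct in
/-- The `A ⧸ J`-linear identification `(A ⧸ J) ⊗ M ≃ M ⧸ J M`. -/
noncomputable def quotEquiv {A : Type u} [CommRing A] (M : Type u) [AddCommGroup M] [Module A M]
    (J : Ideal A) : ((A ⧸ J) ⊗[A] M) ≃ₗ[A ⧸ J] (M ⧸ (J • (⊤ : Submodule A M))) :=
  haveI : IsScalarTower A (A ⧸ J) (M ⧸ (J • (⊤ : Submodule A M))) :=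
    (Module.isTorsionBySet_quotient_ideal_smul M J).isScalarTower
  (TensorProduct.quotTensorEquivQuotSMul M J).extendScalarsOfSurjective
    Ideal.Quotient.mk_surjective

open TensorProduct in
theorem ring_core {A B C M : Type u} [CommRing A] [CommRing B] [CommRing C]
    [IsLocalRing A] [IsLocalRing B] [IsLocalRing C]
    [IsNoetherianRing A] [IsNoetherianRing B] [IsNoetherianRing C]
    (φ : A →+* B) (ψ : B →+* C) (χ : A →+* C) (hχ : χ = ψ.comp φ)
    [IsLocalHom φ] [IsLocalHom ψ]
    [AddCommGroup M] [instCM : Module C M] [Module.Finite C M] [Nontrivial M] :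
    letI : Module B M := Module.compHom M ψ
    ((letI : Module A M := Module.compHom M χ; Module.Flat A M) ∧
      Module.Flat (B ⧸ Ideal.map φ (IsLocalRing.maximalIdeal A))
        (M ⧸ (Ideal.map φ (IsLocalRing.maximalIdeal A) • (⊤ : Submodule B M)))) ↔
    (φ.Flat ∧ Module.Flat B M) := by
  letI : Algebra A B := φ.toAlgebra
  letI : Algebra B C := ψ.toAlgebra
  letI : Algebra A C := χ.toAlgebra
  haveI : IsScalarTower A B C := IsScalarTower.of_algebraMap_eq (fun a => by
    change χ a = ψ (φ a)
    rw [hχ]; rfl)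
  haveI : IsLocalHom (algebraMap A B) := ‹IsLocalHom φ›
  haveI : IsLocalHom (algebraMap B C) := ‹IsLocalHom ψ›
  letI : Module B M := Module.compHom M ψ
  letI : Module A M := Module.compHom M χ
  haveI : IsScalarTower B C M := ⟨fun b c m => by
    change (ψ b * c) • m = ψ b • (c • m)
    rw [mul_smul]⟩
  haveI : IsScalarTower A B M := ⟨fun a b m => by
    change ψ (φ a * b) • m = χ a • (ψ b • m)
    rw [map_mul, mul_smul, hχ]; rfl⟩
  have hI : Ideal.map φ (IsLocalRing.maximalIdeal A) =
      (IsLocalRing.maximalIdeal A).map (algebraMap A B) := rfl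
  let e := quotEquiv (A := B) M ((IsLocalRing.maximalIdeal A).map (algebraMap A B))
  constructor
  · rintro ⟨h1, h2⟩
    haveI : Module.Flat A M := h1
    have h2' : Module.Flat (B ⧸ ((IsLocalRing.maximalIdeal A).map (algebraMap A B)))
        ((B ⧸ ((IsLocalRing.maximalIdeal A).map (algebraMap A B))) ⊗[B] M) :=
      Module.Flat.of_linearEquiv e
    exact Groth.Agent.S0392.result (R := A) (S := B) (S' := C) (M := M) h2'
  · rintro ⟨h1, h2⟩
    haveI : Module.Flat A B := h1
    haveI : Module.Flat B M := h2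
    refine ⟨Module.Flat.trans A B M, ?_⟩
    haveI : Module.Flat (B ⧸ ((IsLocalRing.maximalIdeal A).map (algebraMap A B)))
        ((B ⧸ ((IsLocalRing.maximalIdeal A).map (algebraMap A B))) ⊗[B] M) := inferInstance
    exact Module.Flat.of_linearEquiv e.symm

open AlgebraicGeometry CategoryTheory Limits in
/-- Case 1° (fibrewise flatness criterion for locally Noetherian schemes): let S, X and Y be locally
Noetherian schemes, f : X ⟶ Y and h : Y ⟶ S arbitrary morphisms, F a coherent O_X-module and x a
point of X with images y in Y and s in S, such that the stalk F_x is nonzero. Then F is flat over S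
at x and F_x / m_s F_x is flat over O_{Y,y} / m_s O_{Y,y} (that is, the fibre module F_s is flat
over the fibre Y_s at x) if and only if h is flat at y and F is flat over Y at x. No finiteness
hypothesis on f or h is required in this case. -/
theorem result {X Y S : Scheme.{u}}
    [IsLocallyNoetherian X] [IsLocallyNoetherian Y] [IsLocallyNoetherian S]
    (f : X ⟶ Y) (h : Y ⟶ S) (F : X.Modules) (hF : Coh.IsCoh F) (x : X)
    (hx : Nontrivial ↑(F.presheaf.stalk x)) :
    letI := FlatMod.moduleStalkOver f F x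
    (FlatMod.IsFlatOverAt (f ≫ h) F x ∧
      Module.Flat (↑(Y.presheaf.stalk (f x)) ⧸ Ideal.map (h.stalkMap (f x)).hom (IsLocalRing.maximalIdeal ↑(S.presheaf.stalk (h (f x)))))
        (↑(F.presheaf.stalk x) ⧸ (Ideal.map (h.stalkMap (f x)).hom (IsLocalRing.maximalIdeal ↑(S.presheaf.stalk (h (f x)))) •
          (⊤ : Submodule ↑(Y.presheaf.stalk (f x)) ↑(F.presheaf.stalk x))))) ↔
    ((h.stalkMap (f x)).hom.Flat ∧ FlatMod.IsFlatOverAt f F x) := by
  haveI := Groth.Agent.H8.finite_stalk_of_isCoh F hF x
  have key := ring_core (M := ↑(F.presheaf.stalk x)) (h.stalkMap (f x)).hom (f.stalkMap x).hom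
    ((f ≫ h).stalkMap x).hom (Groth.Agent.H29.FiberStalkAt.stalkMap_comp_hom f h x)
  exact key

end Groth.Agent.S4847
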