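import Groth.Statements.S4849
import Groth.Agent.H57.LimFlatMod
import Groth.Agent.H57.FlatModIso
import Groth.Agent.H24.LimFlat2
import Groth.Agent.H24.ModLimIso

set_option autoImplicit false
set_option linter.style.haveILetI false
universe u
open CategoryTheory AlgebraicGeometry
open EGA43

namespace Groth.Agent.S4849

open CategoryTheory.Limits in
set_option maxHeartbeats 3200000 in
/-- Let S be the limit of a cofiltered system (S_i) of schemes with affine transition morphisms, S_{i₀}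
a quasi-compact stage, f₀ : X₀ ⟶ Y₀ an S_{i₀}-morphism between schemes of finite presentation over
S_{i₀}, and F₀ a quasi-coherent O_{X₀}-module of finite presentation. Let f : X ⟶ Y and F be
obtained by base change to S. Then F is f-flat if and only if there are an index i over i₀ and base
changes f_i : X_i ⟶ Y_i, F_i of f₀, F₀ to S_i with F_i f_i-flat. (Base changes are expressed by
pullback squares; the stage S_{i₀} is only assumed quasi-compact.) -/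
theorem result {I : Type u} [SmallCategory I] [IsCofiltered I]
    (D : I ⥤ Scheme.{u}) (c : Limits.Cone D) (hc : Limits.IsLimit c)
    [∀ (i j : I) (φ : i ⟶ j), IsAffineHom (D.map φ)] (i₀ : I) [CompactSpace (D.obj i₀)]
    {X₀ Y₀ : Scheme.{u}} (f₀ : X₀ ⟶ Y₀) (g₀ : Y₀ ⟶ D.obj i₀)
    [LocallyOfFinitePresentation g₀] [QuasiCompact g₀] [QuasiSeparated g₀]
    [LocallyOfFinitePresentation (f₀ ≫ g₀)] [QuasiCompact (f₀ ≫ g₀)] [QuasiSeparated (f₀ ≫ g₀)]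
    (F₀ : X₀.Modules) [Coh.IsQCoh F₀] (hF₀ : CohB1.IsFP F₀)
    {X Y : Scheme.{u}} (f : X ⟶ Y) (g : Y ⟶ c.pt) (qY : Y ⟶ Y₀) (qX : X ⟶ X₀)
    (hY : IsPullback qY g g₀ (c.π.app i₀)) (hX : IsPullback qX f f₀ qY) :
    FlatMod.IsFlatOver f ((Scheme.Modules.pullback qX).obj F₀) ↔
      ∃ (i : I) (φ : i ⟶ i₀) (Xi Yi : Scheme.{u}) (fi : Xi ⟶ Yi) (gi : Yi ⟶ D.obj i)
        (pY : Yi ⟶ Y₀) (pX : Xi ⟶ X₀),
        IsPullback pY gi g₀ (D.map φ) ∧ IsPullback pX fi f₀ pY ∧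
          FlatMod.IsFlatOver fi ((Scheme.Modules.pullback pX).obj F₀) := by
  classical
  haveI hqc : F₀.IsQuasicoherent := ‹Coh.IsQCoh F₀›
  haveI hfp : SheafOfModules.IsFinitePresentation (R := X₀.ringCatSheaf) F₀ := hF₀
  have hAff : ∀ {i j : I} (f : i ⟶ j), IsAffineHom (D.map f) := fun f => inferInstance
  constructor
  · intro hfl
    have hf₀ : LocallyOfFinitePresentation f₀ :=
      Groth.Agent.H24.locallyOfFinitePresentation_of_comp f₀ g₀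
    haveI hX₀ : CompactSpace X₀ := QuasiCompact.compactSpace_of_compactSpace (f₀ ≫ g₀)
    have hcomp : CompactSpace ↥(pullback (f₀ ≫ g₀) (D.map ((Over.mk (𝟙 i₀)).hom ≫ 𝟙 i₀))) :=
      Groth.Agent.H24.compactSpace_pbDiagram_obj D i₀ f₀ g₀ (Over.mk (𝟙 i₀))
    have hlfp : LocallyOfFinitePresentation
        (Groth.Agent.H24.pbRel D (𝟙 i₀) f₀ g₀ (Over.mk (𝟙 i₀))) :=
      MorphismProperty.of_isPullback (P := @LocallyOfFinitePresentation)
        (Groth.Agent.H24.isPullback_pbRel D (𝟙 i₀) f₀ g₀ (Over.mk (𝟙 i₀))) hf₀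
    haveI hG₀qc : ((Scheme.Modules.pullback (pullback.fst (f₀ ≫ g₀)
        (D.map ((Over.mk (𝟙 i₀)).hom ≫ 𝟙 i₀)))).obj F₀).IsQuasicoherent :=
      Groth.Agent.H8.isQuasicoherent_pullback _ F₀
    haveI hG₀fp : SheafOfModules.IsFinitePresentation
        (R := (pullback (f₀ ≫ g₀) (D.map ((Over.mk (𝟙 i₀)).hom ≫ 𝟙 i₀))).ringCatSheaf)
        ((Scheme.Modules.pullback (pullback.fst (f₀ ≫ g₀)
          (D.map ((Over.mk (𝟙 i₀)).hom ≫ 𝟙 i₀)))).obj F₀) :=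
      Groth.Agent.H24.ModLimIso.isFinitePresentation_pullback _ F₀
    have sq := Groth.Agent.H24.isPullback_pbLift_pbRel D (𝟙 i₀) f₀ g₀ c f g qY qX hY hX
      (Over.mk (𝟙 i₀))
    -- flatness over the limit, in the form needed for the stage lemma
    have hsqiso : IsPullback sq.isoPullback.inv
        (pullback.snd (Groth.Agent.H24.pbRel D (𝟙 i₀) f₀ g₀ (Over.mk (𝟙 i₀)))
          (Groth.Agent.H24.pbLift D (𝟙 i₀) g₀ c qY g hY.w (Over.mk (𝟙 i₀)))) f (𝟙 Y) :=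
      IsPullback.of_horiz_isIso ⟨sq.isoPullback_inv_snd.trans (Category.comp_id _).symm⟩
    have hcompat : sq.isoPullback.inv ≫ qX =
        pullback.fst (Groth.Agent.H24.pbRel D (𝟙 i₀) f₀ g₀ (Over.mk (𝟙 i₀)))
          (Groth.Agent.H24.pbLift D (𝟙 i₀) g₀ c qY g hY.w (Over.mk (𝟙 i₀))) ≫
        pullback.fst (f₀ ≫ g₀) (D.map ((Over.mk (𝟙 i₀)).hom ≫ 𝟙 i₀)) := by
      rw [← sq.isoPullback_inv_fst, Category.assoc, Groth.Agent.H24.pbLift_fst]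
    haveI := Groth.Agent.H8.isQuasicoherent_pullback qX F₀
    haveI := Groth.Agent.H8.isQuasicoherent_pullback
      (pullback.fst (Groth.Agent.H24.pbRel D (𝟙 i₀) f₀ g₀ (Over.mk (𝟙 i₀)))
        (Groth.Agent.H24.pbLift D (𝟙 i₀) g₀ c qY g hY.w (Over.mk (𝟙 i₀))))
      ((Scheme.Modules.pullback (pullback.fst (f₀ ≫ g₀)
        (D.map ((Over.mk (𝟙 i₀)).hom ≫ 𝟙 i₀)))).obj F₀)
    have hlim : FlatMod.IsFlatOver
        (pullback.snd (Groth.Agent.H24.pbRel D (𝟙 i₀) f₀ g₀ (Over.mk (𝟙 i₀)))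
          (Groth.Agent.H24.pbLift D (𝟙 i₀) g₀ c qY g hY.w (Over.mk (𝟙 i₀))))
        ((Scheme.Modules.pullback
          (pullback.fst (Groth.Agent.H24.pbRel D (𝟙 i₀) f₀ g₀ (Over.mk (𝟙 i₀)))
            (Groth.Agent.H24.pbLift D (𝟙 i₀) g₀ c qY g hY.w (Over.mk (𝟙 i₀))))).obj
          ((Scheme.Modules.pullback (pullback.fst (f₀ ≫ g₀)
            (D.map ((Over.mk (𝟙 i₀)).hom ≫ 𝟙 i₀)))).obj F₀)) :=
      Groth.Agent.H57.isFlatOver_of_isPullback_of_iso f _ sq.isoPullback.inv (𝟙 Y) hsqiso _ _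
        (Groth.Agent.H57.pullbackPullbackIso₂ sq.isoPullback.inv qX _ _ hcompat F₀) hfl
    obtain ⟨l, hl⟩ := @Groth.Agent.H57.LimFlatMod.exists_isFlatOver_stage (Over i₀) _ _
      (Groth.Agent.H24.pbDiagram D (𝟙 i₀) g₀) (Groth.Agent.H24.pbCone D (𝟙 i₀) g₀ c qY g hY.w)
      (Groth.Agent.H24.isLimitPbCone D (𝟙 i₀) g₀ c hc qY g hY) _ (Over.mk (𝟙 i₀)) _ hcomp
      (Groth.Agent.H24.pbRel D (𝟙 i₀) f₀ g₀ (Over.mk (𝟙 i₀))) hlfp
      ((Scheme.Modules.pullback (pullback.fst (f₀ ≫ g₀)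
        (D.map ((Over.mk (𝟙 i₀)).hom ≫ 𝟙 i₀)))).obj F₀) hG₀qc hG₀fp hlim
    -- the stage
    have sq' := Groth.Agent.H24.isPullback_pbMap_pbRel D (𝟙 i₀) f₀ g₀ l.hom
    have hl' : FlatMod.IsFlatOver
        (pullback.snd (Groth.Agent.H24.pbRel D (𝟙 i₀) f₀ g₀ (Over.mk (𝟙 i₀)))
          (Groth.Agent.H24.pbMap D (𝟙 i₀) g₀ l.hom))
        ((Scheme.Modules.pullback
          (pullback.fst (Groth.Agent.H24.pbRel D (𝟙 i₀) f₀ g₀ (Over.mk (𝟙 i₀)))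
            (Groth.Agent.H24.pbMap D (𝟙 i₀) g₀ l.hom))).obj
          ((Scheme.Modules.pullback (pullback.fst (f₀ ≫ g₀)
            (D.map ((Over.mk (𝟙 i₀)).hom ≫ 𝟙 i₀)))).obj F₀)) := hl
    have hsqiso' : IsPullback sq'.isoPullback.hom (Groth.Agent.H24.pbRel D (𝟙 i₀) f₀ g₀ l.left)
        (pullback.snd (Groth.Agent.H24.pbRel D (𝟙 i₀) f₀ g₀ (Over.mk (𝟙 i₀)))
          (Groth.Agent.H24.pbMap D (𝟙 i₀) g₀ l.hom)) (𝟙 _) :=
      IsPullback.of_horiz_isIso ⟨sq'.isoPullback_hom_snd.trans (Category.comp_id _).symm⟩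
    haveI := Groth.Agent.H8.isQuasicoherent_pullback
      (pullback.fst (Groth.Agent.H24.pbRel D (𝟙 i₀) f₀ g₀ (Over.mk (𝟙 i₀)))
        (Groth.Agent.H24.pbMap D (𝟙 i₀) g₀ l.hom))
      ((Scheme.Modules.pullback (pullback.fst (f₀ ≫ g₀)
        (D.map ((Over.mk (𝟙 i₀)).hom ≫ 𝟙 i₀)))).obj F₀)
    haveI := Groth.Agent.H8.isQuasicoherent_pullback
      (pullback.fst (f₀ ≫ g₀) (D.map (l.left.hom ≫ 𝟙 i₀))) F₀
    have hfin : FlatMod.IsFlatOver (Groth.Agent.H24.pbRel D (𝟙 i₀) f₀ g₀ l.left)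
        ((Scheme.Modules.pullback (pullback.fst (f₀ ≫ g₀) (D.map (l.left.hom ≫ 𝟙 i₀)))).obj F₀) :=
      Groth.Agent.H57.isFlatOver_of_isPullback_of_iso _ _ sq'.isoPullback.hom (𝟙 _) hsqiso' _ _
        (Groth.Agent.H57.pullbackPullbackIso sq'.isoPullback.hom _
            (Groth.Agent.H24.pbMap D (𝟙 i₀) (f₀ ≫ g₀) l.hom) sq'.isoPullback_hom_fst _ ≪≫
          Groth.Agent.H57.pullbackPullbackIso (Groth.Agent.H24.pbMap D (𝟙 i₀) (f₀ ≫ g₀) l.hom) _ _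
            (Groth.Agent.H24.pbMap_fst D (𝟙 i₀) (f₀ ≫ g₀) l.hom) F₀) hl'
    exact ⟨l.left.left, l.left.hom ≫ 𝟙 i₀, _, _, Groth.Agent.H24.pbRel D (𝟙 i₀) f₀ g₀ l.left,
      pullback.snd g₀ _, pullback.fst g₀ _, pullback.fst (f₀ ≫ g₀) _,
      IsPullback.of_hasPullback _ _, Groth.Agent.H24.isPullback_pbRel D (𝟙 i₀) f₀ g₀ l.left, hfin⟩
  · rintro ⟨i, φ, Xi, Yi, fi, gi, pY, pX, hYi, hXi, hfl⟩
    obtain ⟨rX, rY, hsq, hrX, -, -⟩ := Groth.Agent.H24.exists_isPullback_of_stage D c i₀ f₀ g₀ f g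
      qY qX hY hX φ fi gi pY pX hYi hXi
    exact Groth.Agent.H57.isFlatOver_pullback_of_isPullback fi f rX rY hsq F₀ pX qX hrX hfl

end Groth.Agent.S4849
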