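import Groth.Statements.S4856
import Groth.Agent.H57.ArtFam
import Groth.Agent.H57.ArtFamSch
import Groth.Agent.H8.Coh

set_option autoImplicit false
set_option linter.style.haveILetI false
universe u
open CategoryTheory AlgebraicGeometry
open EGA43

namespace Groth.Agent.S4856

open CategoryTheory.Limits TensorProduct in
set_option maxHeartbeats 3200000 in
/-- Let A be an Artinian local ring, f : X ⟶ Spec A locally of finite type, F a coherent O_X-module and
x a point of X. Let (u_i : A → A_i) be a family of ring homomorphisms into local rings such that an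
element of A killed by every u_i is zero. If, for every i, the pullback of F to X_i = X ×_{Spec A}
Spec A_i is flat over Spec A_i at every point of X_i whose images are x in X and the closed point in
Spec A_i, then F is f-flat at x. -/
theorem result {A : Type u} [CommRing A]
    [IsArtinianRing A] [IsLocalRing A] {X : Scheme.{u}} (f : X ⟶ Spec (CommRingCat.of A))
    [LocallyOfFiniteType f] (F : X.Modules) (hF : Coh.IsCoh F) (x : X)
    {ι : Type u} (A' : ι → Type u) [∀ i, CommRing (A' i)] [∀ i, IsLocalRing (A' i)] (u : ∀ i, A →+* A' i)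
    (hu : ∀ a : A, (∀ i, u i a = 0) → a = 0)
    (hflat : ∀ (i : ι) (x' : ↥(pullback f (Spec.map (CommRingCat.ofHom (u i))))),
      pullback.fst f (Spec.map (CommRingCat.ofHom (u i))) x' = x →
      pullback.snd f (Spec.map (CommRingCat.ofHom (u i))) x' = IsLocalRing.closedPoint (A' i) →
      FlatMod.IsFlatOverAt (pullback.snd f (Spec.map (CommRingCat.ofHom (u i))))
        ((Scheme.Modules.pullback (pullback.fst f (Spec.map (CommRingCat.ofHom (u i))))).obj F) x') :
    FlatMod.IsFlatOverAt f F x := by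
  classical
  haveI hqc : F.IsQuasicoherent := hF.1
  have hV : IsAffineOpen (⊤ : (Spec (CommRingCat.of A)).Opens) := isAffineOpen_top _
  obtain ⟨W, hW, hxW, hWV⟩ := exists_isAffineOpen_mem_and_subset (x := x)
    (U := f ⁻¹ᵁ (⊤ : (Spec (CommRingCat.of A)).Opens)) trivial
  let eA : Γ(Spec (CommRingCat.of A), ⊤) ≃+* A :=
    (Scheme.ΓSpecIso (CommRingCat.of A)).commRingCatIsoToRingEquiv
  haveI : IsLocalRing Γ(Spec (CommRingCat.of A), ⊤) := eA.symm.isLocalRing
  haveI : IsArtinianRing Γ(Spec (CommRingCat.of A), ⊤) := eA.symm.isArtinianRing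
  haveI : IsNoetherianRing Γ(Spec (CommRingCat.of A), ⊤) := inferInstance
  have hnil : IsNilpotent (IsLocalRing.maximalIdeal Γ(Spec (CommRingCat.of A), ⊤)) := by
    have h := IsArtinianRing.isNilpotent_jacobson_bot (R := Γ(Spec (CommRingCat.of A), ⊤))
    rwa [IsLocalRing.jacobson_eq_maximalIdeal ⊥ bot_ne_top] at h
  letI aRC : Algebra Γ(Spec (CommRingCat.of A), ⊤) Γ(X, W) := (f.appLE ⊤ W hWV).hom.toAlgebra
  haveI : Algebra.FiniteType Γ(Spec (CommRingCat.of A), ⊤) Γ(X, W) := Scheme.Hom.finiteType_appLE f hV hW hWV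
  haveI : IsNoetherianRing Γ(X, W) := Algebra.FiniteType.isNoetherianRing Γ(Spec (CommRingCat.of A), ⊤) Γ(X, W)
  haveI : Module.Finite Γ(X, W) Γ(F, W) := Groth.Agent.H8.finite_sections_of_isCoh F hF hW
  letI mCM := Groth.Agent.H8.moduleSectionStalk F x hxW
  haveI := Groth.Agent.H8.isLocalizedModule_germₗ F hW x hxW
  letI mRM : Module Γ(Spec (CommRingCat.of A), ⊤) (F.presheaf.stalk x) := Module.compHom _ (algebraMap Γ(Spec (CommRingCat.of A), ⊤) Γ(X, W))
  haveI : IsScalarTower Γ(Spec (CommRingCat.of A), ⊤) Γ(X, W) (F.presheaf.stalk x) := IsScalarTower.of_algebraMap_smul fun _ _ => rfl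
  letI mRP : Module Γ(Spec (CommRingCat.of A), ⊤) Γ(F, W) := Module.compHom _ (algebraMap Γ(Spec (CommRingCat.of A), ⊤) Γ(X, W))
  haveI : IsScalarTower Γ(Spec (CommRingCat.of A), ⊤) Γ(X, W) Γ(F, W) := IsScalarTower.of_algebraMap_smul fun _ _ => rfl
  have hsV : f x ∈ (⊤ : (Spec (CommRingCat.of A)).Opens) := trivial
  suffices hflatR : Module.Flat Γ(Spec (CommRingCat.of A), ⊤) (F.presheaf.stalk x) by
    letI : Algebra Γ(Spec (CommRingCat.of A), ⊤) ((Spec (CommRingCat.of A)).presheaf.stalk (f x)) :=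
      (Spec (CommRingCat.of A)).presheaf.algebra_section_stalk ⟨f x, hsV⟩
    haveI := hV.isLocalization_stalk ⟨f x, hsV⟩
    letI : Module ((Spec (CommRingCat.of A)).presheaf.stalk (f x)) (F.presheaf.stalk x) := FlatMod.moduleStalkOver f F x
    haveI : IsScalarTower Γ(Spec (CommRingCat.of A), ⊤) ((Spec (CommRingCat.of A)).presheaf.stalk (f x)) (F.presheaf.stalk x) :=
      IsScalarTower.of_algebraMap_smul fun r m => by
        change (f.stalkMap x).hom ((Spec (CommRingCat.of A)).presheaf.germ ⊤ (f x) hsV r) • m =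
          X.presheaf.germ W x hxW ((f.appLE ⊤ W hWV).hom r) • m
        rw [Groth.Agent.H57.stalkMap_germ_appLE f hWV x hxW r]
    exact (Module.flat_iff_of_isLocalization ((Spec (CommRingCat.of A)).presheaf.stalk (f x))
      (hV.primeIdealOf ⟨f x, hsV⟩).asIdeal.primeCompl _).mpr hflatR
  apply Groth.Agent.H57.ArtFam.flat_of_forall_relation hnil
  intro ι₀ _ v hv s c hc i hi
  by_contra hne
  have hinjA : Function.Injective (Scheme.ΓSpecIso (CommRingCat.of A)).hom.hom := eA.injective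
  have hne' : (Scheme.ΓSpecIso (CommRingCat.of A)).hom.hom (c i) ≠ 0 := fun h =>
    hne (hinjA (by rw [h, map_zero]))
  obtain ⟨j, hj⟩ : ∃ j, u j ((Scheme.ΓSpecIso (CommRingCat.of A)).hom.hom (c i)) ≠ 0 := by
    by_contra hall
    push Not at hall
    exact hne' (hu _ hall)
  -- the chart for `j`
  let gj : Spec (CommRingCat.of (A' j)) ⟶ Spec (CommRingCat.of A) :=
    Spec.map (CommRingCat.ofHom (u j))
  have hV' : IsAffineOpen (⊤ : (Spec (CommRingCat.of (A' j))).Opens) := isAffineOpen_top _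
  let W' : (pullback f gj).Opens := pullback.fst f gj ⁻¹ᵁ W ⊓ pullback.snd f gj ⁻¹ᵁ ⊤
  have HP := IsPullback.of_hasPullback f gj
  have hV'V : (⊤ : (Spec (CommRingCat.of (A' j))).Opens) ≤ gj ⁻¹ᵁ ⊤ := le_top
  have hW'W : W' ≤ pullback.fst f gj ⁻¹ᵁ W := inf_le_left
  have hW'V' : W' ≤ pullback.snd f gj ⁻¹ᵁ ⊤ := inf_le_right
  have hW' : IsAffineOpen W' := by
    have : IsAffine (⊤ : (Spec (CommRingCat.of A)).Opens).toScheme := hV
    have : IsAffine (⊤ : (Spec (CommRingCat.of (A' j))).Opens).toScheme := hV'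
    have : IsAffine W.toScheme := hW
    exact .of_isIso (Scheme.Hom.isPullback_resLE HP hV'V hWV (rfl : W' = _)).isoPullback.hom
  have hpo := (isIso_pushoutSection_iff HP hV'V hWV (rfl : W' = _)).mp
    (isIso_pushoutSection_of_isAffineOpen HP hV'V hWV rfl hV hV' hW)
  letI aRB : Algebra Γ(Spec (CommRingCat.of A), ⊤) Γ(Spec (CommRingCat.of (A' j)), ⊤) := (gj.appLE ⊤ ⊤ hV'V).hom.toAlgebra
  letI aCE : Algebra Γ(X, W) Γ(pullback f gj, W') := ((pullback.fst f gj).appLE W W' hW'W).hom.toAlgebra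
  letI aBE : Algebra Γ(Spec (CommRingCat.of (A' j)), ⊤) Γ(pullback f gj, W') := ((pullback.snd f gj).appLE ⊤ W' hW'V').hom.toAlgebra
  letI aRE : Algebra Γ(Spec (CommRingCat.of A), ⊤) Γ(pullback f gj, W') :=
    (((pullback.fst f gj).appLE W W' hW'W).hom.comp (f.appLE ⊤ W hWV).hom).toAlgebra
  haveI t1 : IsScalarTower Γ(Spec (CommRingCat.of A), ⊤) Γ(X, W) Γ(pullback f gj, W') := .of_algebraMap_eq' rfl
  haveI t2 : IsScalarTower Γ(Spec (CommRingCat.of A), ⊤) Γ(Spec (CommRingCat.of (A' j)), ⊤) Γ(pullback f gj, W') := .of_algebraMap_eq' (by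
    change (((pullback.fst f gj).appLE W W' hW'W).hom.comp (f.appLE ⊤ W hWV).hom) =
      (((pullback.snd f gj).appLE ⊤ W' hW'V').hom.comp (gj.appLE ⊤ ⊤ hV'V).hom)
    rw [← CommRingCat.hom_comp, ← CommRingCat.hom_comp, hpo.w])
  haveI po1 : Algebra.IsPushout Γ(Spec (CommRingCat.of A), ⊤) Γ(X, W) Γ(Spec (CommRingCat.of (A' j)), ⊤) Γ(pullback f gj, W') := CommRingCat.isPushout_iff_isPushout.mp hpo
  let eB : Γ(Spec (CommRingCat.of (A' j)), ⊤) ≃+* A' j :=
    (Scheme.ΓSpecIso (CommRingCat.of (A' j))).commRingCatIsoToRingEquiv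
  haveI : IsLocalRing Γ(Spec (CommRingCat.of (A' j)), ⊤) := eB.symm.isLocalRing
  haveI : IsLocalHom (algebraMap Γ(Spec (CommRingCat.of A), ⊤) Γ(Spec (CommRingCat.of (A' j)), ⊤)) :=
    Groth.Agent.H57.ArtFam.isLocalHom_of_isNilpotent _ hnil
  have hgj : gj.appLE ⊤ ⊤ hV'V = (Scheme.ΓSpecIso (CommRingCat.of A)).hom ≫
      CommRingCat.ofHom (u j) ≫ (Scheme.ΓSpecIso (CommRingCat.of (A' j))).inv := by
    have h1 : gj.appLE ⊤ ⊤ hV'V = gj.appTop := by
      rw [Scheme.Hom.appTop, Scheme.Hom.app_eq_appLE]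
      rfl
    rw [h1, ← Category.assoc, ← Scheme.ΓSpecIso_naturality, Category.assoc, Iso.hom_inv_id,
      Category.comp_id]
  have hRB : ∀ a, algebraMap Γ(Spec (CommRingCat.of A), ⊤) Γ(Spec (CommRingCat.of (A' j)), ⊤) a =
      (Scheme.ΓSpecIso (CommRingCat.of (A' j))).inv.hom
        (u j ((Scheme.ΓSpecIso (CommRingCat.of A)).hom.hom a)) := by
    intro a
    change (gj.appLE ⊤ ⊤ hV'V).hom a = _
    rw [hgj]
    rfl
  have hinvinj : Function.Injective (Scheme.ΓSpecIso (CommRingCat.of (A' j))).inv.hom :=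
    (Scheme.ΓSpecIso (CommRingCat.of (A' j))).symm.commRingCatIsoToRingEquiv.injective
  letI hcomm : SMulCommClass Γ(X, W) Γ(Spec (CommRingCat.of (A' j)), ⊤) Γ(pullback f gj, W') := ⟨fun c b e => by
    simp only [Algebra.smul_def]; ring⟩
  letI hcommR : SMulCommClass Γ(X, W) Γ(Spec (CommRingCat.of A), ⊤) Γ(pullback f gj, W') := ⟨fun c b e => by
    simp only [Algebra.smul_def]; ring⟩
  let p : Ideal Γ(X, W) := (hW.primeIdealOf ⟨x, hxW⟩).asIdeal
  have key : ∀ N : PrimeSpectrum Γ(pullback f gj, W'), N.asIdeal.comap (algebraMap Γ(X, W) Γ(pullback f gj, W')) = p →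
      N.asIdeal.comap (algebraMap Γ(Spec (CommRingCat.of (A' j)), ⊤) Γ(pullback f gj, W')) = IsLocalRing.maximalIdeal Γ(Spec (CommRingCat.of (A' j)), ⊤) →
      Module.Flat Γ(Spec (CommRingCat.of (A' j)), ⊤) (LocalizedModule N.asIdeal.primeCompl (Γ(pullback f gj, W') ⊗[Γ(X, W)] Γ(F, W))) := by
    intro N h1 h2
    obtain ⟨x', hx', rfl⟩ := Groth.Agent.H57.ArtFamSch.exists_mem_primeIdealOf_eq hW' N
    have e1 : pullback.fst f gj x' = x :=
      Groth.Agent.H57.ArtFamSch.map_eq_of_comap_eq (pullback.fst f gj) hW hW' hW'W hx' hxW h1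
    have e2 : pullback.snd f gj x' = IsLocalRing.closedPoint (A' j) := by
      apply Groth.Agent.H57.ArtFamSch.eq_closedPoint_of_primeIdealOf hV'
      rw [← h2]
      exact congrArg PrimeSpectrum.asIdeal
        (IsAffineOpen.comap_primeIdealOf_appLE ⊤ hV' W' hW' hW'V' hx').symm
    exact Groth.Agent.H57.ArtFamSch.flat_localizedModule_chart F (pullback.snd f gj)
      (pullback.fst f gj) hW hV' hW' hW'W hW'V' x' hx' (hflat j x' e1 e2)
  have hcore := Groth.Agent.H57.ArtFam.stalk_core (A := Γ(Spec (CommRingCat.of A), ⊤)) (C := Γ(X, W)) (B := Γ(Spec (CommRingCat.of (A' j)), ⊤)) (E := Γ(pullback f gj, W'))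
    (P := Γ(F, W)) (P' := Γ(pullback f gj, W') ⊗[Γ(X, W)] Γ(F, W)) (TensorProduct.mk Γ(X, W) Γ(pullback f gj, W') Γ(F, W) 1)
    (TensorProduct.isBaseChange Γ(X, W) Γ(F, W) Γ(pullback f gj, W')) p (Groth.Agent.H8.germₗ F x hxW)
    (fun n hn h1 h2 => key ⟨n, hn⟩ h1 h2) v hv ⊥ bot_ne_top s c
    (by rw [hc]; exact zero_mem _) i hi
  rw [Ideal.mem_bot, hRB] at hcore
  exact hj (hinvinj (by rw [hcore, map_zero]))

end Groth.Agent.S4856
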