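import Groth.Statements.S4859
import Mathlib

set_option autoImplicit false
universe u
open EGA43

namespace Groth.Agent.S4859

/-- Conditions a), a′), b) (quasi-homeomorphisms): for a continuous map f : X₀ → X the following are
equivalent: taking preimages is a bijection from the open subsets of X onto the open subsets of X₀;
taking preimages is a bijection from the closed subsets of X onto the closed subsets of X₀; the
topology of X₀ is induced from X through f and the image f(X₀) is very dense in X, in the sense that
two open subsets of X with the same trace on f(X₀) coincide. -/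
theorem result {X₀ X : Type u} [TopologicalSpace X₀] [TopologicalSpace X]
    (f : X₀ → X) (hf : Continuous f) :
    [Function.Bijective (fun U : TopologicalSpace.Opens X =>
        (⟨f ⁻¹' (U : Set X), U.isOpen.preimage hf⟩ : TopologicalSpace.Opens X₀)),
      Function.Bijective (fun F : TopologicalSpace.Closeds X =>
        (⟨f ⁻¹' (F : Set X), F.isClosed.preimage hf⟩ : TopologicalSpace.Closeds X₀)),
      Topology.IsInducing f ∧
        ∀ U V : Set X, IsOpen U → IsOpen V → U ∩ Set.range f = V ∩ Set.range f → U = V].TFAE := by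
  tfae_have 1 → 2 := by
    rintro ⟨hinj, hsurj⟩
    constructor
    · intro F F' hFF'
      have h1 : f ⁻¹' (F : Set X) = f ⁻¹' (F' : Set X) := congrArg (fun G : TopologicalSpace.Closeds X₀ => (G : Set X₀)) hFF'
      have h2 : (⟨(F : Set X)ᶜ, F.isClosed.isOpen_compl⟩ : TopologicalSpace.Opens X) =
          ⟨(F' : Set X)ᶜ, F'.isClosed.isOpen_compl⟩ := by
        apply hinj
        ext x
        simp only [TopologicalSpace.Opens.coe_mk, Set.preimage_compl, Set.mem_compl_iff]
        rw [h1]
      have h3 : (F : Set X)ᶜ = (F' : Set X)ᶜ := congrArg (fun G : TopologicalSpace.Opens X => (G : Set X)) h2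
      ext x
      have := Set.ext_iff.mp h3 x
      simp only [Set.mem_compl_iff, not_iff_not] at this
      exact this
    · intro G
      obtain ⟨U, hU⟩ := hsurj ⟨(G : Set X₀)ᶜ, G.isClosed.isOpen_compl⟩
      have h1 : f ⁻¹' (U : Set X) = (G : Set X₀)ᶜ := congrArg (fun G : TopologicalSpace.Opens X₀ => (G : Set X₀)) hU
      refine ⟨⟨(U : Set X)ᶜ, U.isOpen.isClosed_compl⟩, ?_⟩
      ext x
      simp only [TopologicalSpace.Closeds.coe_mk, Set.preimage_compl, Set.mem_compl_iff]
      rw [h1]
      simp
  tfae_have 2 → 1 := by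
    rintro ⟨hinj, hsurj⟩
    constructor
    · intro F F' hFF'
      have h1 : f ⁻¹' (F : Set X) = f ⁻¹' (F' : Set X) := congrArg (fun G : TopologicalSpace.Opens X₀ => (G : Set X₀)) hFF'
      have h2 : (⟨(F : Set X)ᶜ, F.isOpen.isClosed_compl⟩ : TopologicalSpace.Closeds X) =
          ⟨(F' : Set X)ᶜ, F'.isOpen.isClosed_compl⟩ := by
        apply hinj
        ext x
        simp only [TopologicalSpace.Closeds.coe_mk, Set.preimage_compl, Set.mem_compl_iff]
        rw [h1]
      have h3 : (F : Set X)ᶜ = (F' : Set X)ᶜ := congrArg (fun G : TopologicalSpace.Closeds X => (G : Set X)) h2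
      ext x
      have := Set.ext_iff.mp h3 x
      simp only [Set.mem_compl_iff, not_iff_not] at this
      exact this
    · intro G
      obtain ⟨U, hU⟩ := hsurj ⟨(G : Set X₀)ᶜ, G.isOpen.isClosed_compl⟩
      have h1 : f ⁻¹' (U : Set X) = (G : Set X₀)ᶜ := congrArg (fun G : TopologicalSpace.Closeds X₀ => (G : Set X₀)) hU
      refine ⟨⟨(U : Set X)ᶜ, U.isClosed.isOpen_compl⟩, ?_⟩
      ext x
      simp only [TopologicalSpace.Opens.coe_mk, Set.preimage_compl, Set.mem_compl_iff]
      rw [h1]
      simp
  tfae_have 1 → 3 := by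
    rintro ⟨hinj, hsurj⟩
    constructor
    · rw [Topology.isInducing_iff]
      apply le_antisymm
      · exact hf.le_induced
      · intro U₀ hU₀
        obtain ⟨U, hU⟩ := hsurj ⟨U₀, hU₀⟩
        have h1 : f ⁻¹' (U : Set X) = U₀ := congrArg (fun G : TopologicalSpace.Opens X₀ => (G : Set X₀)) hU
        rw [isOpen_induced_iff]
        exact ⟨U, U.isOpen, h1⟩
    · intro U V hU hV hUV
      have : (⟨U, hU⟩ : TopologicalSpace.Opens X) = ⟨V, hV⟩ := by
        apply hinj
        ext x
        simp only [TopologicalSpace.Opens.coe_mk, Set.mem_preimage]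
        have := Set.ext_iff.mp hUV (f x)
        simp only [Set.mem_inter_iff, Set.mem_range, exists_apply_eq_apply, and_true] at this
        exact this
      exact congrArg (fun G : TopologicalSpace.Opens X => (G : Set X)) this
  tfae_have 3 → 1 := by
    rintro ⟨hind, hvd⟩
    constructor
    · intro U V hUV
      have h1 : f ⁻¹' (U : Set X) = f ⁻¹' (V : Set X) := congrArg (fun G : TopologicalSpace.Opens X₀ => (G : Set X₀)) hUV
      have : (U : Set X) = (V : Set X) := by
        apply hvd _ _ U.isOpen V.isOpen
        ext x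
        simp only [Set.mem_inter_iff, Set.mem_range]
        constructor
        · rintro ⟨hx, y, rfl⟩
          exact ⟨(Set.ext_iff.mp h1 y).mp hx, y, rfl⟩
        · rintro ⟨hx, y, rfl⟩
          exact ⟨(Set.ext_iff.mp h1 y).mpr hx, y, rfl⟩
      exact SetLike.coe_injective this
    · intro U₀
      obtain ⟨U, hU, hU'⟩ := hind.isOpen_iff.mp U₀.isOpen
      refine ⟨⟨U, hU⟩, ?_⟩
      ext x
      simp only [TopologicalSpace.Opens.coe_mk]
      rw [hU']
  tfae_finish

end Groth.Agent.S4859
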