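import Groth.Statements.S4861
import Mathlib
import Groth.Agent.H24.AwayField

set_option autoImplicit false
universe u
open EGA43

namespace Groth.Agent.S4861

/-- For a Noetherian integral domain B the following are equivalent (and hence equivalent to: the
fraction field of B is a finitely generated B-algebra; the generic point of Spec B is open): a) the
localization B_f is a field for some nonzero f; e) Spec B is finite; f) B is semi-local (finitely
many maximal ideals) of Krull dimension at most 1. -/
theorem result (B : Type u) [CommRing B] [IsDomain B]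
    [IsNoetherianRing B] :
    [∃ f : B, f ≠ 0 ∧ IsField (Localization.Away f),
      Finite (PrimeSpectrum B),
      Finite (MaximalSpectrum B) ∧ ringKrullDim B ≤ 1].TFAE := by
  classical
  -- auxiliary: from an `f` contained in all nonzero primes, finiteness of the spectrum
  have aux : ∀ f : B, f ≠ 0 → (∀ p : Ideal B, p.IsPrime → p ≠ ⊥ → f ∈ p) →
      Finite (PrimeSpectrum B) := by
    intro f hf0 hf
    have hfin : (insert ⊥ (Ideal.span {f}).minimalPrimes : Set (Ideal B)).Finite :=
      (Ideal.finite_minimalPrimes_of_isNoetherianRing B _).insert _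
    have : Finite ↥(insert ⊥ (Ideal.span {f}).minimalPrimes : Set (Ideal B)) := hfin.to_subtype
    let g : PrimeSpectrum B → ↥(insert ⊥ (Ideal.span {f}).minimalPrimes : Set (Ideal B)) :=
      fun p => ⟨p.asIdeal, by
        by_cases h : p.asIdeal = ⊥
        · exact Or.inl h
        · exact Or.inr (H24.mem_minimalPrimes_span_of_forall_mem hf0 hf p.asIdeal h)⟩
    refine Finite.of_injective g ?_
    intro p q hpq
    ext1
    exact congrArg Subtype.val hpq
  tfae_have 1 → 2 := by
    rintro ⟨f, hf0, hf⟩
    exact aux f hf0 (fun p hp hp0 => H24.mem_of_isField_away hf p hp0)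
  tfae_have 2 → 1 := by
    intro hfin
    have : Fintype (PrimeSpectrum B) := Fintype.ofFinite _
    have hex : ∀ p : PrimeSpectrum B, ∃ x : B, x ≠ 0 ∧ (p.asIdeal ≠ ⊥ → x ∈ p.asIdeal) := by
      intro p
      by_cases h : p.asIdeal = ⊥
      · exact ⟨1, one_ne_zero, fun h' => (h' h).elim⟩
      · obtain ⟨x, hx, hx0⟩ := Submodule.exists_mem_ne_zero_of_ne_bot h
        exact ⟨x, hx0, fun _ => hx⟩
    choose x hx0 hx using hex
    let f : B := ∏ p : PrimeSpectrum B, x p
    have hf0 : f ≠ 0 := Finset.prod_ne_zero_iff.mpr (fun p _ => hx0 p)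
    have hf : ∀ p : Ideal B, p.IsPrime → p ≠ ⊥ → f ∈ p := by
      intro p hp hp0
      have hdvd : x ⟨p, hp⟩ ∣ f := Finset.dvd_prod_of_mem _ (Finset.mem_univ _)
      exact Ideal.mem_of_dvd _ hdvd (hx ⟨p, hp⟩ hp0)
    refine ⟨f, hf0, ?_⟩
    have hdom : IsDomain (Localization.Away f) :=
      IsLocalization.isDomain_localization
        (powers_le_nonZeroDivisors_of_noZeroDivisors hf0)
    by_contra hnf
    obtain ⟨P, hP0, hP⟩ := Ring.not_isField_iff_exists_prime.mp hnf
    have hcomap : (P.comap (algebraMap B (Localization.Away f))).IsPrime := Ideal.comap_isPrime _ _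
    have hbot : P.comap (algebraMap B (Localization.Away f)) = ⊥ := by
      by_contra hne
      have hfmem := hf _ hcomap hne
      rw [Ideal.mem_comap] at hfmem
      apply hP.ne_top
      exact Ideal.eq_top_of_isUnit_mem _ hfmem
        (IsLocalization.map_units (Localization.Away f) ⟨f, Submonoid.mem_powers f⟩)
    apply hP0
    rw [← IsLocalization.map_under (Submonoid.powers f) (Localization.Away f) P, Ideal.under, hbot,
      Ideal.map_bot]
  tfae_have 1 → 3 := by
    rintro ⟨f, hf0, hf⟩
    have hf' : ∀ p : Ideal B, p.IsPrime → p ≠ ⊥ → f ∈ p :=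
      fun p hp hp0 => H24.mem_of_isField_away hf p hp0
    have hfin := aux f hf0 hf'
    refine ⟨Finite.of_injective _ MaximalSpectrum.toPrimeSpectrum_injective, ?_⟩
    rw [← Nat.cast_one, ← Ring.krullDimLE_iff, Ring.krullDimLE_one_iff_of_noZeroDivisors]
    intro p hp0 hp
    obtain ⟨m, hm, hpm⟩ := Ideal.exists_le_maximal p hp.ne_top
    have hm0 : m ≠ ⊥ := fun h => hp0 (le_bot_iff.mp (h ▸ hpm))
    have hmQ := H24.mem_minimalPrimes_span_of_forall_mem (hp := hm.isPrime) hf0 hf' m hm0
    have hpQ := H24.mem_minimalPrimes_span_of_forall_mem hf0 hf' p hp0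
    have : m ≤ p := hmQ.2 hpQ.1 hpm
    rw [le_antisymm hpm this]
    exact hm
  tfae_have 3 → 2 := by
    rintro ⟨hfin, hdim⟩
    rw [← Nat.cast_one, ← Ring.krullDimLE_iff, Ring.krullDimLE_one_iff_of_noZeroDivisors] at hdim
    let g : PrimeSpectrum B → Option (MaximalSpectrum B) := fun p =>
      if h : p.asIdeal = ⊥ then none else some ⟨p.asIdeal, hdim p.asIdeal h p.isPrime⟩
    refine Finite.of_injective g ?_
    intro p q hpq
    ext1
    by_cases hp : p.asIdeal = ⊥ <;> by_cases hq : q.asIdeal = ⊥
    · rw [hp, hq]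
    · simp [g, hp, hq] at hpq
    · simp [g, hp, hq] at hpq
    · simp only [g, hp, hq, dite_false, Option.some.injEq] at hpq
      exact congrArg MaximalSpectrum.asIdeal hpq
  tfae_finish

end Groth.Agent.S4861
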