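import Groth.Statements.S4862
import Mathlib
import Groth.Agent.H24.AwayField2

set_option autoImplicit false
universe u
open EGA43

namespace Groth.Agent.S4862

/-- For a commutative ring A the following are equivalent: a) A is a Jacobson ring; b) for every prime
ideal p of A which is not maximal and every nonzero f of B = A/p, the localization B_f is not a
field; b′) every finitely generated A-algebra which is a field is a finite A-module. -/
theorem result (A : Type u) [CommRing A] :
    [IsJacobsonRing A,
      ∀ (p : Ideal A) [p.IsPrime], ¬ p.IsMaximal → ∀ f : A ⧸ p, f ≠ 0 → ¬ IsField (Localization.Away f),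
      ∀ (K : Type u) [Field K] [Algebra A K], Algebra.FiniteType A K → Module.Finite A K].TFAE := by
  classical
  tfae_have 1 → 3 := by
    intro h K _ _ hft
    exact finite_of_finite_type_of_isJacobsonRing A K
  tfae_have 3 → 2 := by
    intro h p hp hpmax f hf0 hfield
    let _ : Field (Localization.Away f) := hfield.toField
    have hft1 : Algebra.FiniteType A (A ⧸ p) :=
      Algebra.FiniteType.of_surjective (Ideal.Quotient.mkₐ A p) (Ideal.Quotient.mkₐ_surjective A p)
    have hft2 : Algebra.FiniteType (A ⧸ p) (Localization.Away f) :=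
      IsLocalization.finiteType_of_monoid_fg (Submonoid.powers f) (Localization.Away f)
    have hft : Algebra.FiniteType A (Localization.Away f) := Algebra.FiniteType.trans hft1 hft2
    have hfin : Module.Finite A (Localization.Away f) := h (Localization.Away f) hft
    have hfin' : Module.Finite (A ⧸ p) (Localization.Away f) :=
      Module.Finite.of_restrictScalars_finite A (A ⧸ p) (Localization.Away f)
    have hint : Algebra.IsIntegral (A ⧸ p) (Localization.Away f) := Algebra.IsIntegral.of_finite _ _
    have hinj : Function.Injective (algebraMap (A ⧸ p) (Localization.Away f)) :=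
      IsLocalization.injective (Localization.Away f)
        (powers_le_nonZeroDivisors_of_noZeroDivisors hf0)
    have : IsField (A ⧸ p) := isField_of_isIntegral_of_isField hinj hfield
    exact hpmax (Ideal.Quotient.maximal_of_isField p this)
  tfae_have 2 → 1 := by
    intro h
    rw [isJacobsonRing_iff_prime_eq]
    intro p hp
    apply le_antisymm _ Ideal.le_jacobson
    intro a ha
    by_contra hap
    have disjoint : Disjoint (p : Set A) (Submonoid.powers a) := by
      rw [Set.disjoint_right]
      rintro _ ⟨n, rfl⟩ hn
      exact hap (hp.mem_of_pow_mem n hn)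
    have ⟨q, hpq, hq⟩ := zorn_le_nonempty₀ {q : Ideal A | Disjoint (q : Set A) (Submonoid.powers a)}
      (fun c hc hc' x hx ↦ by
        cases isEmpty_or_nonempty c
        · exact ⟨x, hc hx, fun J hJ ↦ isEmptyElim (⟨J, hJ⟩ : c)⟩
        refine ⟨sSup c, Set.disjoint_left.mpr fun x hx ↦ ?_, fun _ ↦ le_sSup⟩
        have ⟨p, hp⟩ := (Submodule.mem_iSup_of_directed _ hc'.directed).mp (sSup_eq_iSup' c ▸ hx)
        exact Set.disjoint_left.mp (hc p.2) hp) p disjoint
    have hqprime : q.IsPrime :=
      Ideal.isPrime_of_maximally_disjoint _ _ hq.1 (fun _ ↦ hq.not_prop_of_gt)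
    have haq : a ∉ q := fun haq => Set.disjoint_left.mp hq.1 haq (Submonoid.mem_powers a)
    have hqmax : ¬ q.IsMaximal := by
      intro hmax
      apply haq
      rw [Ideal.jacobson, Ideal.mem_sInf] at ha
      exact ha ⟨hpq, hmax⟩
    have hg0 : Ideal.Quotient.mk q a ≠ 0 := by
      rwa [Ne, Ideal.Quotient.eq_zero_iff_mem]
    apply h q hqmax (Ideal.Quotient.mk q a) hg0
    apply H24.isField_away_of_forall_mem hg0
    intro P hP hP0
    have hcomap : (P.comap (Ideal.Quotient.mk q)).IsPrime := Ideal.comap_isPrime _ _
    have hle : q ≤ P.comap (Ideal.Quotient.mk q) := by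
      intro x hx
      rw [Ideal.mem_comap, Ideal.Quotient.eq_zero_iff_mem.mpr hx]
      exact P.zero_mem
    have hne : q ≠ P.comap (Ideal.Quotient.mk q) := by
      intro heq
      apply hP0
      rw [← Ideal.map_comap_of_surjective _ Ideal.Quotient.mk_surjective P, ← heq,
        Ideal.map_quotient_self]
    have hnd := hq.not_prop_of_gt (lt_of_le_of_ne hle hne)
    simp only [Set.mem_ofPred_eq, Set.not_disjoint_iff] at hnd
    obtain ⟨_, hx, ⟨n, rfl⟩⟩ := hnd
    exact hcomap.mem_of_pow_mem n hx
  tfae_finish

end Groth.Agent.S4862
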