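import Groth.Statements.S4869
-- import your own Groth.Agent.* helpers here
import Groth.Agent.H48.GrLimMain

set_option autoImplicit false
universe u
open TensorProduct
open EGA43

namespace Groth.Agent.S4869

/-- Let A₀ be a commutative ring, (A_i) a directed system of A₀-algebras with colimit A, B₀ a finitely
presented A₀-algebra, J₀ a finitely generated ideal of B₀ and M₀ a finitely presented B₀-module; put
M = A ⊗_{A₀} M₀ and J = J₀B, and likewise M_i, J_i over each A_i. Then the associated graded module
gr_J(M) = ⊕_k J^k M / J^{k+1} M is flat over A if and only if, for some index i, gr_{J_i}(M_i) is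
flat over A_i. Flatness of the graded module is expressed through the equivalent condition that
every truncation M / J^k M (k ≥ 0) is flat (the pieces J^k M / J^{k+1} M are the kernels of the
surjections M / J^{k+1} M → M / J^k M), and J^k M is realised as the image of A ⊗_{A₀} J₀^k M₀ in A
⊗_{A₀} M₀. (The published statement also asserts that the canonical maps from gr_{J_i}(M_i) ⊗_{A_i}
A to gr_J(M) are then bijective; this row states only the equivalence.) -/
theorem result {A₀ : Type u} [CommRing A₀]
    {ι : Type u} [Preorder ι] (G : ι → Type u) [∀ i, CommRing (G i)] [∀ i, Algebra A₀ (G i)]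
    (g : ∀ i j, i ≤ j → G i →ₐ[A₀] G j)
    (A : Type u) [CommRing A] [Algebra A₀ A] [∀ i, Algebra (G i) A] [∀ i, IsScalarTower A₀ (G i) A]
    (hcolim : FlatCA.IsDirectedColimitRing G (fun i j h => (g i j h).toRingHom) A)
    {B₀ : Type u} [CommRing B₀] [Algebra A₀ B₀] [Algebra.FinitePresentation A₀ B₀]
    (J₀ : Ideal B₀) (hJ₀ : J₀.FG)
    (M₀ : Type u) [AddCommGroup M₀] [Module B₀ M₀] [Module A₀ M₀] [IsScalarTower A₀ B₀ M₀]
    [Module.FinitePresentation B₀ M₀] :
    (∀ k : ℕ, Module.Flat A ((A ⊗[A₀] M₀) ⧸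
        LinearMap.range (((J₀ ^ k • (⊤ : Submodule B₀ M₀)).restrictScalars A₀).subtype.baseChange A))) ↔
      ∃ i : ι, ∀ k : ℕ, Module.Flat (G i) ((G i ⊗[A₀] M₀) ⧸
        LinearMap.range (((J₀ ^ k • (⊤ : Submodule B₀ M₀)).restrictScalars A₀).subtype.baseChange (G i))) := by
  classical
  obtain ⟨r, a, ha⟩ := (Submodule.fg_iff_exists_fin_generating_family).mp hJ₀
  subst ha
  obtain ⟨C, _, _, _, Q', _, _, h1, h2⟩ := Groth.Agent.H48.GrLimMain.exists_model_trunc (A₀ := A₀) a M₀
  letI algCA : Algebra C A := ((algebraMap A₀ A).comp (algebraMap C A₀)).toAlgebra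
  haveI : IsScalarTower C A₀ A := IsScalarTower.of_algebraMap_eq (fun _ => rfl)
  letI algCG : ∀ i, Algebra C (G i) := fun i =>
    ((algebraMap A₀ (G i)).comp (algebraMap C A₀)).toAlgebra
  haveI : ∀ i, IsScalarTower C A₀ (G i) := fun i => IsScalarTower.of_algebraMap_eq (fun _ => rfl)
  haveI : ∀ i, IsScalarTower C (G i) A := fun i => IsScalarTower.of_algebraMap_eq (fun c => by
    change algebraMap A₀ A (algebraMap C A₀ c) = algebraMap (G i) A (algebraMap A₀ (G i) _)
    rw [← IsScalarTower.algebraMap_apply A₀ (G i) A])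
  constructor
  · intro hflat
    have hA : ∀ k, Module.Flat A (A ⊗[C] Q' k) := fun k => (h1 A k).mp (hflat k)
    obtain ⟨R, _, _, hft, ⟨φ⟩, hR⟩ := h2 A hA
    haveI : Algebra.FinitePresentation C R := Algebra.FinitePresentation.of_finiteType.mp hft
    obtain ⟨j, ⟨ψ⟩⟩ := Groth.Agent.H48.FlatLimit.exists_algHom_stage G
      (fun i j h => (g i j h).toRingHom) A hcolim C
      (fun i j h => by
        ext c
        change g i j h (algebraMap A₀ (G i) (algebraMap C A₀ c)) = algebraMap A₀ (G j) _
        rw [AlgHom.commutes]) R φ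
    refine ⟨j, fun k => (h1 (G j) k).mpr ?_⟩
    letI algRG : Algebra R (G j) := ψ.toRingHom.toAlgebra
    haveI : IsScalarTower C R (G j) := IsScalarTower.of_algebraMap_eq (fun c => (ψ.commutes c).symm)
    haveI := hR k
    exact Module.Flat.of_linearEquiv
      (TensorProduct.AlgebraTensorModule.cancelBaseChange C R (G j) (G j) (Q' k)).symm
  · rintro ⟨i, hi⟩ k
    refine (h1 A k).mpr ?_
    haveI := (h1 (G i) k).mp (hi k)
    exact Module.Flat.of_linearEquiv
      (TensorProduct.AlgebraTensorModule.cancelBaseChange C (G i) A A (Q' k)).symm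

end Groth.Agent.S4869
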