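import Groth.Statements.S4870
-- import your own Groth.Agent.* helpers here
import Groth.Agent.H48.GrLimLoc
import Groth.Agent.H48.GrFlatMain

set_option autoImplicit false
universe u
open EGA43

namespace Groth.Agent.S4870

/-- Let A be a commutative ring, B a finitely presented A-algebra, J a finitely generated ideal of B and
M a finitely presented B-module. If the associated graded module gr_J(M) is flat over A, that is
every J^k M / J^{k+1} M is a flat A-module, then M is flat over A at every point of V(J): for every
prime ideal q of B containing J, the localization M_q is a flat A-module. -/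
theorem result {A B : Type u} [CommRing A] [CommRing B] [Algebra A B]
    [Algebra.FinitePresentation A B] (J : Ideal B) (hJ : J.FG)
    (M : Type u) [AddCommGroup M] [Module B M] [Module A M] [IsScalarTower A B M] [Module.FinitePresentation B M]
    (hgr : ∀ k : ℕ, Module.Flat A
      (↥(J ^ k • (⊤ : Submodule B M)) ⧸ Submodule.comap (J ^ k • (⊤ : Submodule B M)).subtype (J ^ (k + 1) • ⊤)))
    (q : Ideal B) [q.IsPrime] (hq : J ≤ q) :
    Module.Flat A (LocalizedModule q.primeCompl M) := by
  classical
  obtain ⟨r, a, ha⟩ := (Submodule.fg_iff_exists_fin_generating_family).mp hJ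
  subst ha
  have hflat : ∀ k : ℕ, Module.Flat A
      (M ⧸ ((Groth.Agent.H48.GrLimConc.J a) ^ k • ⊤ : Submodule B M)) := by
    refine Groth.Agent.H48.GrFlatMain.flat_quot_of_flat_gr (Groth.Agent.H48.GrLimConc.J a) M
      (fun n => ?_)
    set K : Submodule B M := (Groth.Agent.H48.GrLimConc.J a) ^ n • ⊤ with hK
    set K₁ : Submodule B M := (Groth.Agent.H48.GrLimConc.J a) ^ (n + 1) • ⊤ with hK₁
    have hmap : Submodule.map K.subtype
        ((Groth.Agent.H48.GrLimConc.J a) • (⊤ : Submodule B ↥K)) = K₁ := by
      rw [Submodule.map_smul'', Submodule.map_top, Submodule.range_subtype, hK, hK₁,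
        ← Submodule.mul_smul, ← pow_succ']
    have heq : ((Groth.Agent.H48.GrLimConc.J a) • (⊤ : Submodule B ↥K)) =
        Submodule.comap K.subtype K₁ := by
      rw [← hmap, Submodule.comap_map_eq_of_injective (Submodule.injective_subtype _)]
    haveI : Module.Flat A (↥K ⧸ Submodule.comap K.subtype K₁) := hgr n
    exact Module.Flat.of_linearEquiv ((Submodule.quotEquivOfEq _ _ heq).restrictScalars A)
  exact Groth.Agent.H48.GrLimLoc.flat_localized_of_flat_trunc a M hflat q hq

end Groth.Agent.S4870
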