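import Groth.Statements.S4872
import Mathlib

set_option autoImplicit false
universe u
open CategoryTheory AlgebraicGeometry
open EGA43

namespace Groth.Agent.S4872

/-- Conditions b), c), d) (schematically dominant families): let p : X ⟶ S be a morphism and (f_i : Z_i
⟶ X) a family of morphisms. The following are equivalent: b) for every open V of X, a section of O_X
over V whose images in all the Γ(f_i⁻¹(V), O_{Z_i}) are zero is zero; c) for every open U of X, a
closed immersion j : Y ⟶ U through which each restriction f_i⁻¹(U) ⟶ U factors is an isomorphism; d)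
for every separated S-scheme X', every open U of X and every pair of S-morphisms u, v : U ⟶ X'
having the same composite with each f_i⁻¹(U) ⟶ U, one has u = v. -/
theorem result {X S : Scheme.{u}} (p : X ⟶ S) {ι : Type u} (Z : ι → Scheme.{u})
    (f : ∀ i, Z i ⟶ X) :
    [(∀ (V : (X).Opens) (t : Γ(X, V)), (∀ i, (f i).app V t = 0) → t = 0),
      ∀ (U : X.Opens) (Y : Scheme.{u}) (j : Y ⟶ (U : Scheme.{u})), IsClosedImmersion j →
        (∀ i, ∃ g : ((f i) ⁻¹ᵁ U : Scheme.{u}) ⟶ Y, g ≫ j = (f i) ∣_ U) → IsIso j,
      ∀ (X' : Scheme.{u}) (q : X' ⟶ S), IsSeparated q → ∀ (U : X.Opens) (u v : (U : Scheme.{u}) ⟶ X'),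
        u ≫ q = U.ι ≫ p → v ≫ q = U.ι ≫ p → (∀ i, ((f i) ∣_ U) ≫ u = ((f i) ∣_ U) ≫ v) → u = v].TFAE := by
  tfae_have 1 → 2 := by
    intro h1 U Y j hj hg
    have := hj
    rw [IsClosedImmersion.isIso_iff_ker_eq_bot]
    refine le_antisymm ?_ bot_le
    rw [Scheme.IdealSheafData.le_def]
    intro W
    rw [Scheme.Hom.ker_apply]
    intro t ht
    rw [RingHom.mem_ker] at ht
    have ht0 : t = 0 := by
      apply h1 (U.ι ''ᵁ W.1) t
      intro i
      obtain ⟨g, hgj⟩ := hg i
      have h2 : ((f i) ∣_ U).app W.1 t = 0 := by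
        rw [← hgj, Scheme.Hom.comp_app]
        erw [CommRingCat.comp_apply, ht, map_zero]
      rw [morphismRestrict_app] at h2
      erw [CommRingCat.comp_apply] at h2
      have hinj : Function.Injective ((Z i).presheaf.map
          (eqToHom (image_morphismRestrict_preimage (f i) U W.1)).op) :=
        (ConcreteCategory.bijective_of_isIso _).1
      exact hinj (h2.trans (map_zero _).symm)
    rw [ht0]
    exact Submodule.zero_mem _
  tfae_have 2 → 3 := by
    intro h2 X' q hq U u v hu hv huv
    have := hq
    let Uo : Over S := Over.mk (U.ι ≫ p)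
    let Xo : Over S := Over.mk q
    let uo : Uo ⟶ Xo := Over.homMk u hu
    let vo : Uo ⟶ Xo := Over.homMk v hv
    have : IsSeparated Xo.hom := hq
    have hci : IsClosedImmersion (Limits.equalizer.ι uo vo).left := inferInstance
    have hiso : IsIso (Limits.equalizer.ι uo vo).left := by
      apply h2 U _ _ hci
      intro i
      let Zo : Over S := Over.mk (((f i) ∣_ U) ≫ U.ι ≫ p)
      let fo : Zo ⟶ Uo := Over.homMk ((f i) ∣_ U) rfl
      have hfo : fo ≫ uo = fo ≫ vo := by
        ext
        exact huv i
      exact ⟨(Limits.equalizer.lift fo hfo).left, by rw [← Over.comp_left, Limits.equalizer.lift_ι]; rfl⟩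
    have hcond := congrArg (fun m => m.left) (Limits.equalizer.condition uo vo)
    simp only [Over.comp_left] at hcond
    exact (cancel_epi (Limits.equalizer.ι uo vo).left).mp hcond
  tfae_have 3 → 1 := by
    intro h3 V t ht
    have hle : V.ι ''ᵁ ⊤ ≤ V := by simp
    have hle' : V ≤ V.ι ''ᵁ ⊤ := by simp
    let t' : Γ((V : Scheme.{u}), ⊤) := X.presheaf.map (homOfLE hle).op t
    let u : (V : Scheme.{u}) ⟶ 𝔸(PUnit.{u+1}; S) :=
      AffineSpace.homOfVector (V.ι ≫ p) (fun _ => t')
    let v : (V : Scheme.{u}) ⟶ 𝔸(PUnit.{u+1}; S) :=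
      AffineSpace.homOfVector (V.ι ≫ p) (fun _ => 0)
    have huv : u = v := by
      apply h3 𝔸(PUnit.{u+1}; S) (𝔸(PUnit.{u+1}; S) ↘ S) inferInstance V u v
        (AffineSpace.homOfVector_over _ _) (AffineSpace.homOfVector_over _ _)
      intro i
      apply AffineSpace.hom_ext
      · simp [u, v]
      · intro _
        rw [Scheme.Hom.comp_appTop, Scheme.Hom.comp_appTop, CommRingCat.comp_apply,
          CommRingCat.comp_apply, AffineSpace.homOfVector_appTop_coord,
          AffineSpace.homOfVector_appTop_coord, map_zero]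
        show ((f i) ∣_ V).app ⊤ t' = 0
        rw [morphismRestrict_app]
        erw [CommRingCat.comp_apply]
        have hnat := ConcreteCategory.congr_hom ((f i).naturality (homOfLE hle).op) t
        simp only [CommRingCat.comp_apply] at hnat
        show (Z i).presheaf.map _ ((f i).app (V.ι ''ᵁ ⊤) (X.presheaf.map (homOfLE hle).op t)) = 0
        rw [hnat, ht i, map_zero, map_zero]
    have h5 := congrArg (fun w => w.appTop (AffineSpace.coord S PUnit.unit)) huv
    simp only [u, v, AffineSpace.homOfVector_appTop_coord] at h5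
    have h6 : X.presheaf.map (homOfLE hle').op t' = t := by
      show X.presheaf.map (homOfLE hle').op (X.presheaf.map (homOfLE hle).op t) = t
      rw [← CommRingCat.comp_apply, ← Functor.map_comp]
      have : (homOfLE hle).op ≫ (homOfLE hle').op = 𝟙 _ := Subsingleton.elim _ _
      rw [this]
      simp
    rw [← h6, h5]
    exact map_zero (X.presheaf.map (homOfLE hle').op).hom
  tfae_finish

end Groth.Agent.S4872
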