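import Groth.Statements.S4878
import Mathlib

set_option autoImplicit false
universe u
open EGA43

namespace Groth.Agent.S4878

open TensorProduct in
/-- Let A be a commutative ring, (u_i : M → M_i) a family of A-linear maps whose kernels have zero
intersection, and N a projective A-module. Then the kernels of the maps u_i ⊗ 1 : M ⊗_A N → M_i ⊗_A
N have zero intersection. -/
theorem result {A : Type u} [CommRing A]
    {M : Type u} [AddCommGroup M] [Module A M] {ι : Type u} (M' : ι → Type u)
    [∀ i, AddCommGroup (M' i)] [∀ i, Module A (M' i)] (u : ∀ i, M →ₗ[A] M' i)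
    (hu : ⨅ i, LinearMap.ker (u i) = ⊥)
    (N : Type u) [AddCommGroup N] [Module A N] [Module.Projective A N] :
    ⨅ i, LinearMap.ker ((u i).rTensor N) = ⊥ := by
  classical
  obtain ⟨s, hs⟩ := Module.projective_def'.mp (inferInstance : Module.Projective A N)
  rw [eq_bot_iff]
  intro x hx
  rw [Submodule.mem_iInf] at hx
  rw [Submodule.mem_bot]
  -- injectivity of lTensor M s
  have hinj : Function.Injective (LinearMap.lTensor M s) := by
    have : (LinearMap.lTensor M (Finsupp.linearCombination A id)) ∘ₗ (LinearMap.lTensor M s) = LinearMap.id := by
      rw [← LinearMap.lTensor_comp, hs, LinearMap.lTensor_id]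
    exact Function.LeftInverse.injective (g := LinearMap.lTensor M (Finsupp.linearCombination A id))
      (fun y => by simpa using LinearMap.congr_fun this y)
  apply hinj
  rw [map_zero]
  apply (TensorProduct.finsuppScalarRight A A M N).injective
  ext n
  rw [map_zero, Finsupp.zero_apply]
  -- show the n-th coordinate lies in all kernels
  have key : ∀ i, (u i) ((TensorProduct.finsuppScalarRight A A M N) ((LinearMap.lTensor M s) x) n) = 0 := by
    intro i
    have h1 : ∀ y : M ⊗[A] N, (u i) ((TensorProduct.finsuppScalarRight A A M N) ((LinearMap.lTensor M s) y) n)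
        = (TensorProduct.finsuppScalarRight A A (M' i) N) ((LinearMap.lTensor (M' i) s) ((u i).rTensor N y)) n := by
      intro y
      induction y using TensorProduct.induction_on with
      | zero => simp
      | tmul m y => simp [TensorProduct.finsuppScalarRight_apply_tmul_apply]
      | add a b ha hb => simp only [map_add, Finsupp.add_apply, ha, hb]
    rw [h1, LinearMap.mem_ker.mp (hx i)]
    simp
  have : (TensorProduct.finsuppScalarRight A A M N) ((LinearMap.lTensor M s) x) n ∈ ⨅ i, LinearMap.ker (u i) := by
    rw [Submodule.mem_iInf]
    intro i
    exact LinearMap.mem_ker.mpr (key i)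
  rw [hu] at this
  exact (Submodule.mem_bot A).mp this

end Groth.Agent.S4878
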