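import Groth.Statements.S4880
import Groth.Agent.H38.FiniteClosure
import Groth.Agent.H38.DimOne

set_option autoImplicit false
universe u
open CategoryTheory AlgebraicGeometry
open EGA43

namespace Groth.Agent.S4880

/-- For a Noetherian irreducible scheme X the following are equivalent: a) the generic point of X is an
isolated point; b) the underlying set of X is finite; c) X has dimension at most 1 and finitely many
closed points. -/
theorem result (X : Scheme.{u}) [IsNoetherian X]
    [IrreducibleSpace X] :
    [IsOpen ({genericPoint X} : Set X),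
      Finite X,
      topologicalKrullDim X ≤ 1 ∧ {x : X | IsClosed ({x} : Set X)}.Finite].TFAE := by
  have hη : ∀ y : X, genericPoint X ⤳ y := fun y => (genericPoint_spec X).specializes trivial
  tfae_have 1 → 2 := by
    intro h1
    have hfin := Groth.Agent.H38.FiniteClosure.finite_closure_of_isOpen_singleton X
      (genericPoint X) {genericPoint X} h1 (by
        ext z
        constructor
        · rintro ⟨hz, -⟩
          exact hz
        · rintro rfl
          exact ⟨rfl, subset_closure rfl⟩)
    have hcl : closure ({genericPoint X} : Set X) = Set.univ := (genericPoint_spec X).def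
    rw [hcl] at hfin
    exact Set.finite_univ_iff.mp hfin
  tfae_have 2 → 3 := by
    intro h2
    haveI := h2
    refine ⟨?_, Set.toFinite _⟩
    exact Groth.Agent.H38.FiniteClosure.topologicalKrullDim_le_one_of_no_chain3
      (fun a b c h1 h2 hne1 hne2 =>
        Groth.Agent.H38.FiniteClosure.not_chain3_of_finite X h1 h2 hne1 hne2)
  tfae_have 3 → 1 := by
    rintro ⟨hdim, hfin⟩
    have hcl : ∀ y : X, y ≠ genericPoint X → IsClosed ({y} : Set X) := by
      intro y hy
      by_contra hnc
      obtain ⟨y₀, hy₀, hy₀c⟩ := (isClosed_closure (s := ({y} : Set X))).exists_closed_singleton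
        ⟨y, subset_closure rfl⟩
      have hyy₀ : y ⤳ y₀ := specializes_iff_mem_closure.mpr hy₀
      have hne : y ≠ y₀ := by
        rintro rfl
        exact hnc hy₀c
      exact Groth.Agent.H38.DimOne.no_chain3 hdim (hη y) hyy₀ (Ne.symm hy) hne
    have hcompl : ({genericPoint X} : Set X)ᶜ =
        ⋃ y ∈ {x : X | IsClosed ({x} : Set X) ∧ x ≠ genericPoint X}, {y} := by
      ext z
      simp only [Set.mem_compl_iff, Set.mem_singleton_iff, Set.mem_iUnion, Set.mem_setOf_eq,
        exists_prop]
      constructor
      · intro hz
        exact ⟨z, ⟨hcl z hz, hz⟩, rfl⟩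
      · rintro ⟨y, ⟨-, hy⟩, rfl⟩
        exact hy
    have hclosed : IsClosed (({genericPoint X} : Set X)ᶜ) := by
      rw [hcompl]
      exact Set.Finite.isClosed_biUnion (hfin.subset (fun x hx => hx.1)) (fun y hy => hy.1)
    exact isClosed_compl_iff.mp hclosed
  tfae_finish

end Groth.Agent.S4880
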