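import Groth.Statements.S4951
import Mathlib

set_option autoImplicit false
universe u
open EGA43

namespace Groth.Agent.S4951

set_option linter.style.haveILetI false
open Topology TopologicalSpace

/-- In a locally Noetherian quasi-sober space, a point in the closure of an open set is a
specialization of a point of that open set. -/
theorem exists_specializes_of_mem_closure {X : Type u} [TopologicalSpace X] [QuasiSober X] [T0Space X]
    (hloc : ∀ x : X, ∃ U ∈ nhds x, NoetherianSpace ↥U) {U : Set X} (hU : IsOpen U) {x : X}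
    (hx : x ∈ closure U) : ∃ u ∈ U, u ⤳ x := by
  classical
  obtain ⟨W₀, hW₀, hW₀n⟩ := hloc x
  obtain ⟨W, hWW₀, hWo, hxW⟩ := mem_nhds_iff.mp hW₀
  -- V = U ∩ W is open, Noetherian, quasi-sober
  set V : Set X := U ∩ W with hV
  have hVo : IsOpen V := hU.inter hWo
  haveI : NoetherianSpace ↥V := by
    have hVW₀ : V ⊆ W₀ := fun y hy => hWW₀ hy.2
    exact (Topology.IsEmbedding.inclusion hVW₀).isInducing.noetherianSpace
  haveI : QuasiSober ↥V := hVo.isOpenEmbedding_subtypeVal.quasiSober
  have hfin : (genericPoints ↥V).Finite :=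
    genericPoints.finite NoetherianSpace.finite_irreducibleComponents
  -- the closed set K
  set K : Set X := ⋃ g ∈ genericPoints ↥V, closure ({(g : X)} : Set X) with hK
  have hKc : IsClosed K := hfin.isClosed_biUnion (fun _ _ => isClosed_closure)
  have hVK : V ⊆ K := by
    intro v hv
    let c : irreducibleComponents ↥V :=
      ⟨irreducibleComponent (⟨v, hv⟩ : ↥V), irreducibleComponent_mem_irreducibleComponents _⟩
    have hg := genericPoints.isGenericPoint_ofComponent c
    have hspec : ((genericPoints.ofComponent c : genericPoints ↥V) : ↥V) ⤳ (⟨v, hv⟩ : ↥V) :=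
      hg.specializes mem_irreducibleComponent
    have hspec' : (((genericPoints.ofComponent c : genericPoints ↥V) : ↥V) : X) ⤳ v :=
      hspec.map continuous_subtype_val
    refine Set.mem_biUnion (genericPoints.ofComponent c).2 ?_
    exact hspec'.mem_closure
  have hxV : x ∈ closure V := by
    rw [mem_closure_iff_nhds]
    intro t ht
    have h1 : t ∩ W ∈ nhds x := Filter.inter_mem ht (hWo.mem_nhds hxW)
    obtain ⟨y, hy1, hy2⟩ := mem_closure_iff_nhds.mp hx _ h1
    exact ⟨y, hy1.1, hy2, hy1.2⟩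
  have hxK : x ∈ K := hKc.closure_subset_iff.mpr hVK hxV
  obtain ⟨g, hg, hxg⟩ := Set.mem_iUnion₂.mp hxK
  exact ⟨(g : X), (g.2).1, specializes_iff_mem_closure.mpr hxg⟩

/-- In a quasi-sober T0 space, every nonempty closed set contains a point none of whose proper
generizations lies in the set. -/
theorem exists_maximal_point {X : Type u} [TopologicalSpace X] [QuasiSober X] [T0Space X]
    {F : Set X} (hF : IsClosed F) (hne : F.Nonempty) :
    ∃ x ∈ F, ∀ x' ∈ F, x' ⤳ x → x' = x := by
  obtain ⟨x₀, hx₀⟩ := hne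
  haveI : QuasiSober ↥F := hF.isClosedEmbedding_subtypeVal.quasiSober
  set C : Set ↥F := irreducibleComponent (⟨x₀, hx₀⟩ : ↥F) with hC
  obtain ⟨c, hc⟩ := QuasiSober.sober (isIrreducible_irreducibleComponent (x := (⟨x₀, hx₀⟩ : ↥F)))
    isClosed_irreducibleComponent
  refine ⟨c.1, c.2, fun x' hx'F hx' => ?_⟩
  have h1 : (⟨x', hx'F⟩ : ↥F) ⤳ c := Topology.IsInducing.subtypeVal.specializes_iff.mp hx'
  have hirr : IsIrreducible (closure ({(⟨x', hx'F⟩ : ↥F)} : Set ↥F)) :=
    isIrreducible_singleton.closure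
  have hsub : C ⊆ closure ({(⟨x', hx'F⟩ : ↥F)} : Set ↥F) := by
    rw [hC, ← hc.def]
    exact closure_minimal (Set.singleton_subset_iff.mpr h1.mem_closure) isClosed_closure
  have heq : closure ({(⟨x', hx'F⟩ : ↥F)} : Set ↥F) = C := eq_irreducibleComponent hirr.2 hsub
  have h2 : (⟨x', hx'F⟩ : ↥F) ∈ C := by
    rw [← heq]; exact subset_closure rfl
  have h3 : c ⤳ (⟨x', hx'F⟩ : ↥F) := hc.specializes h2
  have h4 : (⟨x', hx'F⟩ : ↥F) = c := (h1.antisymm h3).eq
  exact congrArg Subtype.val h4


/-- Let X be a locally Noetherian topological space in which every irreducible closed subset has a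
unique generic point (X quasi-sober and T₀), and Z a closed nowhere dense subset of X such that for
every point x of Z the set of generizations of x distinct from x is connected (possibly empty). If X
is connected, then X − Z is connected. (Uniqueness of generic points, automatic for the underlying
space of a scheme, is needed: in the four-point space {u, v, z₁, z₂} whose open sets are ∅, {u},
{v}, {u, v} and the whole space, the closed nowhere dense set Z = {z₁, z₂} satisfies the hypothesis,
since z₂ is a generization of z₁ and conversely, yet X − Z = {u, v} is not connected.) -/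
theorem result {X : Type u} [TopologicalSpace X]
    [QuasiSober X] [T0Space X] (hloc : ∀ x : X, ∃ U ∈ nhds x, TopologicalSpace.NoetherianSpace ↥U) [ConnectedSpace X]
    (Z : Set X) (hZ : IsClosed Z) (hZn : IsNowhereDense Z)
    (hgen : ∀ x ∈ Z, IsPreconnected ({x' : X | x' ⤳ x} \ {x})) :
    IsConnected Zᶜ := by
  classical
  have hdense : Dense Zᶜ := by
    rw [← interior_eq_empty_iff_dense_compl]
    have := hZn
    unfold IsNowhereDense at this
    rwa [hZ.closure_eq] at this
  have hZo : IsOpen Zᶜ := hZ.isOpen_compl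
  refine ⟨hdense.nonempty, ?_⟩
  intro u v hu hv huv hnu hnv
  by_contra hcon
  rw [Set.not_nonempty_iff_eq_empty] at hcon
  set U₁ : Set X := Zᶜ ∩ u with hU₁
  set U₂ : Set X := Zᶜ ∩ v with hU₂
  have hU₁o : IsOpen U₁ := hZo.inter hu
  have hU₂o : IsOpen U₂ := hZo.inter hv
  have hdisj : U₁ ∩ U₂ = ∅ := by
    rw [← hcon]; ext y; simp only [hU₁, hU₂, Set.mem_inter_iff]; tauto
  have hcover : closure U₁ ∪ closure U₂ = Set.univ := by
    rw [← closure_union]
    have : U₁ ∪ U₂ = Zᶜ := by
      ext y; simp only [hU₁, hU₂, Set.mem_union, Set.mem_inter_iff]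
      constructor
      · rintro (h | h) <;> exact h.1
      · intro h; rcases huv h with h' | h'
        · exact Or.inl ⟨h, h'⟩
        · exact Or.inr ⟨h, h'⟩
    rw [this]; exact hdense.closure_eq
  -- F nonempty by connectedness of X
  have hpre : IsPreconnected (Set.univ : Set X) := isPreconnected_univ
  obtain ⟨y₀, -, hy₀⟩ := isPreconnected_closed_iff.mp hpre (closure U₁) (closure U₂) isClosed_closure
    isClosed_closure hcover.ge
    (by obtain ⟨a, ha⟩ := hnu; exact ⟨a, Set.mem_univ _, subset_closure ha⟩)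
    (by obtain ⟨a, ha⟩ := hnv; exact ⟨a, Set.mem_univ _, subset_closure ha⟩)
  set F : Set X := closure U₁ ∩ closure U₂ with hF
  have hFc : IsClosed F := isClosed_closure.inter isClosed_closure
  have hFZ : F ⊆ Z := by
    intro y hy
    by_contra hyZ
    rcases huv hyZ with h | h
    · -- y ∈ U₁, open, so meets U₂
      have hy1 : y ∈ U₁ := ⟨hyZ, h⟩
      obtain ⟨w, hw1, hw2⟩ := mem_closure_iff.mp hy.2 U₁ hU₁o hy1
      have : w ∈ U₁ ∩ U₂ := ⟨hw1, hw2⟩
      rw [hdisj] at this; exact this
    · have hy2 : y ∈ U₂ := ⟨hyZ, h⟩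
      obtain ⟨w, hw1, hw2⟩ := mem_closure_iff.mp hy.1 U₂ hU₂o hy2
      have : w ∈ U₁ ∩ U₂ := ⟨hw2, hw1⟩
      rw [hdisj] at this; exact this
  obtain ⟨x, hxF, hxmax⟩ := exists_maximal_point hFc ⟨y₀, hy₀⟩
  have hxZ : x ∈ Z := hFZ hxF
  obtain ⟨u₁, hu₁, hu₁x⟩ := exists_specializes_of_mem_closure hloc hU₁o hxF.1
  obtain ⟨u₂, hu₂, hu₂x⟩ := exists_specializes_of_mem_closure hloc hU₂o hxF.2
  have hne₁ : u₁ ≠ x := fun h => hu₁.1 (h ▸ hxZ)
  have hne₂ : u₂ ≠ x := fun h => hu₂.1 (h ▸ hxZ)
  obtain ⟨x', hx'G, hx'F⟩ := isPreconnected_closed_iff.mp (hgen x hxZ) (closure U₁) (closure U₂)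
    isClosed_closure isClosed_closure (by rw [hcover]; exact Set.subset_univ _)
    ⟨u₁, ⟨hu₁x, hne₁⟩, subset_closure hu₁⟩ ⟨u₂, ⟨hu₂x, hne₂⟩, subset_closure hu₂⟩
  exact hx'G.2 (hxmax x' hx'F hx'G.1)

end Groth.Agent.S4951
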