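import Groth.Statements.S4881
import Mathlib
import Groth.Agent.S4951

set_option autoImplicit false
universe u
open CategoryTheory AlgebraicGeometry
open EGA43

namespace Groth.Agent.S4881

set_option linter.style.haveILetI false
open TopologicalSpace

theorem isIrreducible_preimage_val {X : Type u} [TopologicalSpace X] {S Z : Set X} (hZS : Z ⊆ S)
    (hZ : IsIrreducible Z) : IsIrreducible (Subtype.val ⁻¹' Z : Set ↥S) := by
  refine ⟨?_, ?_⟩
  · obtain ⟨z, hz⟩ := hZ.nonempty
    exact ⟨⟨z, hZS hz⟩, hz⟩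
  · intro u v hu hv hau hbv
    obtain ⟨a, ha, hau⟩ := hau
    obtain ⟨b, hb, hbv⟩ := hbv
    obtain ⟨u', hu', rfl⟩ := isOpen_induced_iff.mp hu
    obtain ⟨v', hv', rfl⟩ := isOpen_induced_iff.mp hv
    obtain ⟨c, hc, hcu, hcv⟩ := hZ.isPreirreducible u' v' hu' hv' ⟨a.1, ha, hau⟩ ⟨b.1, hb, hbv⟩
    exact ⟨⟨c, hZS hc⟩, hc, hcu, hcv⟩

theorem dim_dense_open {X : Type u} [TopologicalSpace X] [QuasiSober X] [T0Space X]
    [JacobsonSpace X]
    (hloc : ∀ x : X, ∃ U ∈ nhds x, NoetherianSpace ↥U)
    (h3 : ∀ X' ∈ irreducibleComponents X, ∀ x ∈ X', IsClosed ({x} : Set X) →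
      topologicalKrullDim ↥X' = topologicalKrullDim ↥{t : X | t ∈ X' ∧ t ⤳ x})
    (U : Set X) (hU : IsOpen U) (hd : Dense U) :
    topologicalKrullDim ↥U = topologicalKrullDim X := by
  apply le_antisymm (topologicalKrullDim_subspace_le X U)
  refine iSup_le fun p => ?_
  obtain ⟨X', hX', hlast⟩ := exists_mem_irreducibleComponents_subset_of_isIrreducible
    (p.last : Set X) p.last.isIrreducible
  have hX'cl : IsClosed X' := isClosed_of_mem_irreducibleComponents X' hX'
  have hX'irr : IsIrreducible X' := hX'.1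
  have hsub : ∀ i, (p i : Set X) ⊆ X' := fun i =>
    (SetLike.coe_subset_coe.mpr (p.monotone (Fin.le_last i))).trans hlast
  let q : LTSeries (IrreducibleCloseds ↥X') := LTSeries.mk p.length
    (fun i => ⟨Subtype.val ⁻¹' (p i : Set X), isIrreducible_preimage_val (hsub i) (p i).isIrreducible,
      (p i).isClosed.preimage continuous_subtype_val⟩)
    (by
      intro i j hij
      have hlt : p i < p j := p.strictMono hij
      rw [← SetLike.coe_ssubset_coe] at hlt ⊢
      show (Subtype.val ⁻¹' (p i : Set X) : Set ↥X') ⊂ Subtype.val ⁻¹' (p j : Set X)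
      constructor
      · exact Set.preimage_mono hlt.1
      · intro hrev
        apply hlt.2
        intro z hz
        have : (⟨z, hsub j hz⟩ : ↥X') ∈ (Subtype.val ⁻¹' (p i : Set X) : Set ↥X') := hrev hz
        exact this)
  have h1 : (p.length : WithBot ℕ∞) ≤ topologicalKrullDim ↥X' :=
    Order.LTSeries.length_le_krullDim q
  obtain ⟨ξ, hξ⟩ := QuasiSober.sober hX'irr hX'cl
  obtain ⟨u, huU, huξ⟩ := Groth.Agent.S4951.exists_specializes_of_mem_closure hloc hU (hd ξ)
  have huX' : u ∈ X' := by
    have hirr : IsIrreducible (closure ({u} : Set X)) := isIrreducible_singleton.closure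
    have hsub' : X' ⊆ closure {u} := by
      rw [← hξ.def]
      exact closure_minimal (Set.singleton_subset_iff.mpr huξ.mem_closure) isClosed_closure
    have : closure {u} ≤ X' := hX'.2 hirr hsub'
    exact this (subset_closure rfl)
  have hlc : IsLocallyClosed (U ∩ X') := hU.isLocallyClosed.inter hX'cl.isLocallyClosed
  obtain ⟨x, ⟨hxU, hxX'⟩, hxcl⟩ :=
    jacobsonSpace_iff_locallyClosed.mp ‹_› (U ∩ X') ⟨u, huU, huX'⟩ hlc
  have h2 := h3 X' hX' x hxX' hxcl
  have hGU : {t : X | t ∈ X' ∧ t ⤳ x} ⊆ U := fun t ht => ht.2.mem_open hU hxU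
  have h4 : topologicalKrullDim ↥{t : X | t ∈ X' ∧ t ⤳ x} ≤ topologicalKrullDim ↥U :=
    (Topology.IsEmbedding.inclusion hGU).isInducing.topologicalKrullDim_le
  calc (p.length : WithBot ℕ∞) ≤ topologicalKrullDim ↥X' := h1
    _ = _ := h2
    _ ≤ _ := h4

theorem scheme_hloc (X : Scheme.{u}) [IsLocallyNoetherian X] :
    ∀ x : X, ∃ U ∈ nhds x, NoetherianSpace ↥U := by
  intro x
  obtain ⟨_, ⟨V, hV, rfl⟩, hxV, -⟩ :=
    X.isBasis_affineOpens.exists_subset_of_mem_open (Set.mem_univ x) isOpen_univ
  haveI : IsNoetherianRing Γ(X, V) := IsLocallyNoetherian.component_noetherian ⟨V, hV⟩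
  exact ⟨(V : Set X), V.isOpen.mem_nhds hxV, noetherianSpace_of_isAffineOpen V hV⟩


/-- Let X be a locally Noetherian scheme which is Jacobson, whose local rings are universally catenary,
and whose irreducible components X' are equidimensional in the sense that for every closed point x
of X' the dimension of X' equals the dimension of the set of generizations of x in X'. Then for
every dense open subset U of X, dim U = dim X. -/
theorem result (X : Scheme.{u}) [IsLocallyNoetherian X] [JacobsonSpace X]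
    (h2 : ∀ x : X, CAlg.IsUniversallyCatenary (X.presheaf.stalk x))
    (h3 : ∀ X' ∈ irreducibleComponents (X : Type u), ∀ x ∈ X', IsClosed ({x} : Set X) →
      topologicalKrullDim (↥X' : Type u) = topologicalKrullDim ↥{t : X | t ∈ X' ∧ t ⤳ x})
    (U : Set X) (hU : IsOpen U) (hd : Dense U) :
    topologicalKrullDim ↥U = topologicalKrullDim X := by
  exact dim_dense_open (scheme_hloc X) h3 U hU hd

end Groth.Agent.S4881
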