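import Groth.Statements.S4882
import Groth.Agent.H25.QuasiHomeo

set_option autoImplicit false
universe u
open EGA43

namespace Groth.Agent.S4882

/-- Let X be a Jacobson space and Z a locally quasi-constructible subset of X, i.e. every point of X has
an open neighbourhood U such that U ∩ Z is a finite union of locally closed subsets of X. Then the
subspace Z is a Jacobson space, and a point of Z is closed in Z if and only if it is closed in X. -/
theorem result {X : Type u} [TopologicalSpace X] [JacobsonSpace X]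
    (Z : Set X)
    (hZ : ∀ x : X, ∃ U : Set X, IsOpen U ∧ x ∈ U ∧
      ∃ T : Set (Set X), T.Finite ∧ (∀ t ∈ T, IsLocallyClosed t) ∧ U ∩ Z = ⋃₀ T) :
    JacobsonSpace ↥Z ∧ ∀ z : ↥Z, IsClosed ({z} : Set ↥Z) ↔ IsClosed ({(z : X)} : Set X) := by
  have hlqc : Groth.Agent.H25.LQC Z := hZ
  have hvd : Groth.Agent.H25.VeryDense (closedPoints X) := fun S hS hne =>
    jacobsonSpace_iff_locallyClosed.mp inferInstance S hne hS
  have part2 : ∀ z : ↥Z, IsClosed ({z} : Set ↥Z) ↔ IsClosed ({(z : X)} : Set X) := by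
    intro z
    constructor
    · intro hz
      apply isClosed_singleton_of_isLocallyClosed_singleton
      obtain ⟨S, ⟨O, C, hO, hC, rfl⟩, hzS, hSZ⟩ := hlqc.exists_isLocallyClosed_subset z.2
      obtain ⟨D, hD, hDz⟩ := isClosed_induced_iff.mp hz
      refine ⟨O, C ∩ D, hO, hC.inter hD, ?_⟩
      ext y
      simp only [Set.mem_singleton_iff, Set.mem_inter_iff]
      constructor
      · rintro rfl
        have : z ∈ Subtype.val ⁻¹' D := by rw [hDz]; rfl
        exact ⟨hzS.1, hzS.2, this⟩
      · rintro ⟨hyO, hyC, hyD⟩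
        have hyZ : y ∈ Z := hSZ ⟨hyO, hyC⟩
        have : (⟨y, hyZ⟩ : Z) ∈ Subtype.val ⁻¹' D := hyD
        rw [hDz] at this
        exact congrArg Subtype.val this
    · intro hz
      have : ({z} : Set ↥Z) = Subtype.val ⁻¹' {(z : X)} := by
        ext w
        simp only [Set.mem_singleton_iff, Set.mem_preimage]
        exact Subtype.ext_iff
      rw [this]
      exact hz.preimage continuous_subtype_val
  refine ⟨?_, part2⟩
  rw [jacobsonSpace_iff_locallyClosed]
  intro S hne hS
  obtain ⟨S', hS', rfl⟩ := Topology.IsInducing.subtypeVal.isLocallyClosed_iff.mp hS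
  obtain ⟨s, hs⟩ := hne
  obtain ⟨w, ⟨hwS', hwZ⟩, hwc⟩ := hvd.lqc_nonempty (hlqc.inter_isLocallyClosed hS') ⟨s.1, hs, s.2⟩
  exact ⟨⟨w, hwZ⟩, hwS', (part2 ⟨w, hwZ⟩).mpr hwc⟩

end Groth.Agent.S4882
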