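import Groth.Statements.S4883
import Groth.Agent.H38.FiniteClosure

set_option autoImplicit false
universe u
open CategoryTheory AlgebraicGeometry
open EGA43

namespace Groth.Agent.S4883

/-- Let X be a Noetherian scheme. Then the set of points x of X whose closure is finite is very dense in
X: every nonempty locally closed subset of X contains a point with finite closure. -/
theorem result (X : Scheme.{u}) [IsNoetherian X]
    (Z : Set X) (hZ : IsLocallyClosed Z) (hne : Z.Nonempty) :
    ∃ x ∈ Z, (closure ({x} : Set X)).Finite := by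
  obtain ⟨U, C, hU, hC, rfl⟩ := hZ
  let S : Set (TopologicalSpace.Closeds X) := {T | ∃ z ∈ U ∩ C, (T : Set X) = closure {z}}
  have hS : S.Nonempty := by
    obtain ⟨z, hz⟩ := hne
    exact ⟨⟨closure {z}, isClosed_closure⟩, z, hz, rfl⟩
  obtain ⟨T, ⟨x, hxZ, hTx⟩, hmin⟩ := wellFounded_lt.has_min S hS
  refine ⟨x, hxZ, ?_⟩
  apply Groth.Agent.H38.FiniteClosure.finite_closure_of_isOpen_singleton X x U hU
  ext z
  constructor
  · rintro ⟨hzU, hzc⟩
    have hzC : z ∈ C := (closure_minimal (Set.singleton_subset_iff.mpr hxZ.2) hC) hzc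
    have hle : closure {z} ⊆ closure {x} :=
      closure_minimal (Set.singleton_subset_iff.mpr hzc) isClosed_closure
    have hnlt : ¬ (⟨closure {z}, isClosed_closure⟩ : TopologicalSpace.Closeds X) < T :=
      hmin _ ⟨z, ⟨hzU, hzC⟩, rfl⟩
    have hge : closure {x} ⊆ closure {z} := by
      by_contra hng
      apply hnlt
      rw [lt_iff_le_not_ge]
      refine ⟨?_, ?_⟩
      · show closure {z} ⊆ (T : Set X)
        rw [hTx]
        exact hle
      · intro h
        apply hng
        have h3 : (T : Set X) ⊆ closure {z} := h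
        rwa [hTx] at h3
    have h1 : x ⤳ z := specializes_iff_closure_subset.mpr hle
    have h2 : z ⤳ x := specializes_iff_closure_subset.mpr hge
    exact (h2.antisymm h1).eq
  · rintro rfl
    exact ⟨hxZ.1, subset_closure rfl⟩

end Groth.Agent.S4883
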