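import Groth.Statements.S4884
import Groth.Agent.H47.GU10Ring
import Groth.Agent.H22.GU10_SA
import Groth.Agent.H22.GU10_SC
import Groth.Agent.H68.GU10_SB
import Groth.Agent.H47.FieldBC

set_option autoImplicit false
universe u
open CategoryTheory AlgebraicGeometry
open EGA43

namespace Groth.Agent.S4884

/-- Let f : X ⟶ Y be locally of finite presentation and x a point of X with y = f x. If O_{Y,y} is
geometrically unibranch and f is normal at x — that is, f is flat at x and the fibre X_y is
geometrically normal at x: for every finite field extension K of k(y), the local rings of X_y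
⊗_{k(y)} K at the points above x are integrally closed domains — then O_{X,x} is geometrically
unibranch. -/
theorem result {X Y : Scheme.{u}} (f : X ⟶ Y) [LocallyOfFinitePresentation f]
    (x : X) (hY : CAlg2.IsGeomUnibranch ↑(Y.presheaf.stalk (f x))) (hflat : (f.stalkMap x).hom.Flat)
    (hnorm : ∀ (K : Type u) [Field K] [Algebra (IsLocalRing.ResidueField ↑(Y.presheaf.stalk (f x))) K],
      Module.Finite (IsLocalRing.ResidueField ↑(Y.presheaf.stalk (f x))) K →
      ∀ x' : ↥(FBase.bc (f.fiberToSpecResidueField (f x)) K),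
        FBase.bcπ (f.fiberToSpecResidueField (f x)) K x' = f.asFiber x →
        IsDomain ↑((FBase.bc (f.fiberToSpecResidueField (f x)) K).presheaf.stalk x') ∧
          IsIntegrallyClosed ↑((FBase.bc (f.fiberToSpecResidueField (f x)) K).presheaf.stalk x')) :
    CAlg2.IsGeomUnibranch ↑(X.presheaf.stalk x) := by
  obtain ⟨W, V, hW, hV, hWV, hxW, hfl, hfp⟩ := Groth.Agent.H22.GU10SA.exists_flat_chart f x hflat
  letI algVW : Algebra Γ(Y, V) Γ(X, W) := (f.appLE V W hWV).hom.toAlgebra
  have halg : algebraMap Γ(Y, V) Γ(X, W) = (f.appLE V W hWV).hom := rfl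
  haveI : Module.Flat Γ(Y, V) Γ(X, W) := hfl
  haveI : Algebra.FinitePresentation Γ(Y, V) Γ(X, W) := hfp
  have hGN := Groth.Agent.H68.GU10_SB.gnAt_chart f x hV hW hxW hWV halg hnorm
  obtain ⟨⟨e1⟩, ⟨e2⟩⟩ := Groth.Agent.H22.GU10SC.exists_stalk_equivs f x hV hW hxW hWV halg
  have hR : CAlg2.IsGeomUnibranch (Localization.AtPrime
      ((hW.primeIdealOf ⟨x, hxW⟩).asIdeal.comap (algebraMap Γ(Y, V) Γ(X, W)))) :=
    Groth.Agent.H47.FieldBC.isGeomUnibranch_of_ringEquiv e2.symm hY
  have h := Groth.Agent.H47.GU10.isGeomUnibranch_of_flat_of_gnAt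
    (hW.primeIdealOf ⟨x, hxW⟩).asIdeal hR hGN
  exact Groth.Agent.H47.FieldBC.isGeomUnibranch_of_ringEquiv e1 h

end Groth.Agent.S4884
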