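import Groth.Statements.S4885
-- import your own Groth.Agent.* helpers here

set_option autoImplicit false
universe u
open EGA43

namespace Groth.Agent.S4885

section aux

variable {A A' : Type u} [CommRing A] [CommRing A'] [Algebra A A'] {n : ℕ}
  (f : MvPolynomial (Fin n) A →ₐ[A] A') (P : Fin n → MvPolynomial (Fin n) A)

/-- finite sets of relations containing the integrality relations. -/
def Idx : Type u :=
  {S : Finset (MvPolynomial (Fin n) A) // (∀ i, P i ∈ S) ∧ ∀ x ∈ S, f x = 0}

instance : Preorder (Idx f P) := Subtype.preorder _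

/-- the finitely presented quotient. -/
abbrev G (S : Idx f P) : Type u :=
  MvPolynomial (Fin n) A ⧸ Ideal.span (S.1 : Set (MvPolynomial (Fin n) A))

lemma span_le_ker (S : Idx f P) :
    ∀ a ∈ Ideal.span (S.1 : Set (MvPolynomial (Fin n) A)),
      (f : MvPolynomial (Fin n) A →+* A') a = 0 := by
  intro a ha
  have h : Ideal.span (S.1 : Set (MvPolynomial (Fin n) A)) ≤
      RingHom.ker (f : MvPolynomial (Fin n) A →+* A') := by
    rw [Ideal.span_le]
    intro x hx
    exact S.2.2 x hx
  exact h ha

/-- the map to `A'`. -/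
noncomputable def toA' (S : Idx f P) : G f P S →+* A' :=
  Ideal.Quotient.lift _ (f : MvPolynomial (Fin n) A →+* A') (span_le_ker f P S)

/-- transition maps. -/
noncomputable def trans {S T : Idx f P} (h : S ≤ T) : G f P S →ₐ[A] G f P T :=
  Ideal.Quotient.factorₐ A (Ideal.span_mono (Finset.coe_subset.mpr h))

lemma finite_G (p : Fin n → Polynomial A) (hpm : ∀ i, (p i).Monic)
    (hP : ∀ i, P i = Polynomial.aeval (MvPolynomial.X i : MvPolynomial (Fin n) A) (p i))
    (S : Idx f P) : Module.Finite A (G f P S) := by
  let I : Ideal (MvPolynomial (Fin n) A) := Ideal.span (S.1 : Set (MvPolynomial (Fin n) A))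
  let q : MvPolynomial (Fin n) A →ₐ[A] G f P S := Ideal.Quotient.mkₐ A I
  have hq : Function.Surjective q := Ideal.Quotient.mkₐ_surjective A I
  have hint : ∀ i, IsIntegral A (q (MvPolynomial.X i)) := by
    intro i
    refine ⟨p i, hpm i, ?_⟩
    rw [← Polynomial.aeval_def, Polynomial.aeval_algHom_apply, ← hP]
    exact Ideal.Quotient.eq_zero_iff_mem.mpr (Ideal.subset_span (Finset.mem_coe.mpr (S.2.1 i)))
  have hadj : Algebra.adjoin A (Set.range fun i => q (MvPolynomial.X i)) = ⊤ := by
    have h1 : (Set.range fun i => q (MvPolynomial.X i)) =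
        q '' Set.range (MvPolynomial.X : Fin n → MvPolynomial (Fin n) A) := by
      rw [← Set.range_comp]
      rfl
    rw [h1, ← AlgHom.map_adjoin, MvPolynomial.adjoin_range_X, Algebra.map_top]
    exact (AlgHom.range_eq_top q).mpr hq
  have hfg := fg_adjoin_of_finite (R := A) (Set.finite_range fun i => q (MvPolynomial.X i))
    (by rintro _ ⟨i, rfl⟩; exact hint i)
  rw [hadj, Algebra.top_toSubmodule] at hfg
  exact Module.finite_def.mpr hfg

end aux


/-- Every finite algebra A' over a commutative ring A is a directed colimit (filtered inductive limit)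
of A-algebras which are finite and of finite presentation over A. -/
theorem result (A A' : Type u) [CommRing A] [CommRing A']
    [Algebra A A'] [Module.Finite A A'] :
    ∃ (ι : Type u) (_ : Preorder ι) (G : ι → Type u) (_ : ∀ i, CommRing (G i)) (_ : ∀ i, Algebra A (G i))
      (g : ∀ i j, i ≤ j → G i →ₐ[A] G j) (_ : ∀ i, Algebra (G i) A') (_ : ∀ i, IsScalarTower A (G i) A'),
      FlatCA.IsDirectedColimitRing G (fun i j h => (g i j h).toRingHom) A' ∧
        ∀ i, Module.Finite A (G i) ∧ Algebra.FinitePresentation A (G i) := by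
  classical
  obtain ⟨n, f, hf⟩ := Algebra.FiniteType.iff_quotient_mvPolynomial''.mp
    (inferInstance : Algebra.FiniteType A A')
  have hint : ∀ i : Fin n, IsIntegral A (f (MvPolynomial.X i)) :=
    fun i => Algebra.IsIntegral.isIntegral _
  choose p hpm hp0 using hint
  let P : Fin n → MvPolynomial (Fin n) A := fun i => Polynomial.aeval (MvPolynomial.X i) (p i)
  have hPker : ∀ i, f (P i) = 0 := by
    intro i
    change f (Polynomial.aeval (MvPolynomial.X i) (p i)) = 0
    rw [← Polynomial.aeval_algHom_apply, Polynomial.aeval_def]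
    exact hp0 i
  have S₀ : Idx f P := ⟨Finset.univ.image P, fun i => Finset.mem_image_of_mem _ (Finset.mem_univ i),
    fun x hx => by
      obtain ⟨i, -, rfl⟩ := Finset.mem_image.mp hx
      exact hPker i⟩
  refine ⟨Idx f P, inferInstance, G f P, fun _ => inferInstance, fun _ => inferInstance,
    fun S T h => trans f P h, fun S => (toA' f P S).toAlgebra, fun S => ?_, ?_, ?_⟩
  · letI : Algebra (G f P S) A' := (toA' f P S).toAlgebra
    exact IsScalarTower.of_algebraMap_eq (fun a => (f.commutes a).symm)
  · refine ⟨⟨fun S T => ⟨⟨S.1 ∪ T.1, fun i => Finset.mem_union_left _ (S.2.1 i), fun x hx => ?_⟩,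
      Finset.subset_union_left, Finset.subset_union_right⟩⟩, ⟨S₀⟩, ?_, ?_, ?_, ?_, ?_⟩
    · rcases Finset.mem_union.mp hx with h | h
      · exact S.2.2 x h
      · exact T.2.2 x h
    · intro S
      exact Ideal.Quotient.ringHom_ext (RingHom.ext fun x => rfl)
    · intro S T U hST hTU
      exact Ideal.Quotient.ringHom_ext (RingHom.ext fun x => rfl)
    · intro S T h
      exact Ideal.Quotient.ringHom_ext (RingHom.ext fun x => rfl)
    · intro a
      obtain ⟨r, rfl⟩ := hf a
      exact ⟨S₀, Ideal.Quotient.mk _ r, rfl⟩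
    · intro S x hx
      obtain ⟨r, rfl⟩ := Ideal.Quotient.mk_surjective x
      have hr : f r = 0 := hx
      refine ⟨⟨insert r S.1, fun i => Finset.mem_insert_of_mem (S.2.1 i), fun y hy => ?_⟩,
        Finset.subset_insert _ _, ?_⟩
      · rcases Finset.mem_insert.mp hy with rfl | h
        · exact hr
        · exact S.2.2 y h
      · exact Ideal.Quotient.eq_zero_iff_mem.mpr
          (Ideal.subset_span (Finset.mem_coe.mpr (Finset.mem_insert_self r _)))
  · intro S
    exact ⟨finite_G f P p hpm (fun i => rfl) S, Algebra.FinitePresentation.quotient ⟨S.1, rfl⟩⟩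

end Groth.Agent.S4885
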