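import Groth.Statements.S4886
import Mathlib

set_option autoImplicit false
universe u
open CategoryTheory AlgebraicGeometry
open EGA43

namespace Groth.Agent.S4886

set_option linter.style.haveILetI false

theorem int_isJacobsonRing : IsJacobsonRing ℤ := by
  rw [isJacobsonRing_iff_prime_eq]
  intro P hP
  by_cases h0 : P = ⊥
  · subst h0
    refine le_antisymm ?_ Ideal.le_jacobson
    intro x hx
    rw [Ideal.mem_jacobson_bot] at hx
    have h := hx x
    rw [Int.isUnit_iff] at h
    have hx0 : x = 0 := by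
      rcases h with h | h
      · have : x * x = 0 := by linarith
        simpa using this
      · nlinarith [mul_self_nonneg x]
    simp [hx0]
  · haveI := hP.isMaximal h0
    exact Ideal.jacobson_eq_self_of_isMaximal

/-- A field of finite type over `ℤ` is finite. -/
theorem finite_of_field_finiteType_int (K : Type u) [Field K] [Algebra.FiniteType ℤ K] :
    Finite K := by
  haveI := int_isJacobsonRing
  haveI : Module.Finite ℤ K := finite_of_finite_type_of_isJacobsonRing ℤ K
  obtain ⟨p, hp⟩ := CharP.exists K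
  rcases CharP.char_is_prime_or_zero K p with hpp | hp0
  · haveI := Fact.mk hpp
    letI : Algebra (ZMod p) K := ZMod.algebra K p
    haveI : Module.Finite (ZMod p) K := Module.Finite.of_restrictScalars_finite ℤ (ZMod p) K
    exact Module.finite_of_finite (ZMod p)
  · subst hp0
    haveI : CharZero K := CharP.charP_to_charZero K
    exfalso
    have hinj : Function.Injective (algebraMap ℤ K) := by
      rw [algebraMap_int_eq]; exact Int.cast_injective
    have := isField_of_isIntegral_of_isField hinj (Field.toIsField K)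
    exact Int.not_isField this

theorem finite_of_surjective_of_finiteType_int {B K : Type u} [CommRing B] [Field K]
    [Algebra.FiniteType ℤ B] (f : B →+* K) (hf : Function.Surjective f) : Finite K := by
  haveI : Algebra.FiniteType ℤ K := by
    rw [← RingHom.finiteType_algebraMap]
    have h1 : (algebraMap ℤ B).FiniteType := RingHom.finiteType_algebraMap.mpr inferInstance
    have h2 : f.FiniteType := RingHom.FiniteType.of_surjective f hf
    have h3 := h2.comp h1
    have : algebraMap ℤ K = f.comp (algebraMap ℤ B) := Subsingleton.elim _ _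
    rw [this]; exact h3
  exact finite_of_field_finiteType_int K

theorem finite_ringHom_of_finiteType_int (B F : Type*) [CommRing B] [CommRing F] [Finite F]
    [Algebra.FiniteType ℤ B] : Finite (B →+* F) := by
  obtain ⟨s, hs⟩ := (Algebra.FiniteType.out : (⊤ : Subalgebra ℤ B).FG)
  apply Finite.of_injective (fun φ : B →+* F => fun x : (s : Set B) => φ x)
  intro φ ψ h
  have h' : (φ.toIntAlgHom) = ψ.toIntAlgHom :=
    AlgHom.ext_of_adjoin_eq_top hs (fun x hx => congrFun h ⟨x, hx⟩)
  ext b
  exact DFunLike.congr_fun h' b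

theorem finiteType_int_of_isAffineOpen (Y : Scheme.{u})
    [LocallyOfFiniteType (Limits.IsTerminal.from specULiftZIsTerminal Y)] {V : Y.Opens}
    (hV : IsAffineOpen V) : Algebra.FiniteType ℤ Γ(Y, V) := by
  have e : V ≤ (Limits.IsTerminal.from specULiftZIsTerminal Y) ⁻¹ᵁ ⊤ := fun _ _ => trivial
  have h1 : ((Limits.IsTerminal.from specULiftZIsTerminal Y).appLE ⊤ V e).hom.FiniteType :=
    (Limits.IsTerminal.from specULiftZIsTerminal Y).finiteType_appLE (isAffineOpen_top _) hV e
  have hsurj : Function.Surjective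
      (Int.castRingHom Γ(Spec (CommRingCat.of (ULift.{u} ℤ)), ⊤)) := by
    intro x
    have hbij := ConcreteCategory.bijective_of_isIso
      (Scheme.ΓSpecIso (CommRingCat.of (ULift.{u} ℤ))).hom
    refine ⟨((Scheme.ΓSpecIso (CommRingCat.of (ULift.{u} ℤ))).hom x).down, ?_⟩
    apply hbij.1
    rw [eq_intCast, map_intCast]
    rfl
  have h2 : (Int.castRingHom Γ(Spec (CommRingCat.of (ULift.{u} ℤ)), ⊤)).FiniteType :=
    RingHom.FiniteType.of_surjective _ hsurj
  have h3 := h1.comp h2
  rw [← RingHom.finiteType_algebraMap]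
  have : algebraMap ℤ Γ(Y, V) = ((Limits.IsTerminal.from specULiftZIsTerminal Y).appLE ⊤ V e).hom.comp
      (Int.castRingHom Γ(Spec (CommRingCat.of (ULift.{u} ℤ)), ⊤)) := Subsingleton.elim _ _
  rw [this]; exact h3

section
variable (Y : Scheme.{u})

/-- the kernel of evaluation is the prime ideal of the point -/
theorem primeIdealOf_asIdeal {V : Y.Opens} (hV : IsAffineOpen V) (y : Y) (hy : y ∈ V) :
    (hV.primeIdealOf ⟨y, hy⟩).asIdeal = RingHom.ker (Y.evaluation V y hy).hom := by
  ext f
  rw [RingHom.mem_ker]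
  have h1 := hV.fromSpec_preimage_basicOpen f
  have h2 : hV.fromSpec (hV.primeIdealOf ⟨y, hy⟩) = y := hV.fromSpec_primeIdealOf ⟨y, hy⟩
  have h3 : (Y.evaluation V y hy).hom f = 0 ↔ y ∉ Y.basicOpen f :=
    Y.evaluation_eq_zero_iff_notMem_basicOpen y hy f
  rw [h3]
  have h4 : hV.primeIdealOf ⟨y, hy⟩ ∈ hV.fromSpec ⁻¹ᵁ Y.basicOpen f ↔ y ∈ Y.basicOpen f := by
    show hV.fromSpec (hV.primeIdealOf ⟨y, hy⟩) ∈ Y.basicOpen f ↔ _
    rw [h2]
  rw [h1] at h4
  rw [← h4]
  show f ∈ (hV.primeIdealOf ⟨y, hy⟩).asIdeal ↔ ¬ (f ∉ (hV.primeIdealOf ⟨y, hy⟩).asIdeal)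
  exact not_not.symm

theorem eq_of_ker_evaluation_eq {V : Y.Opens} (hV : IsAffineOpen V) (y y' : Y) (hy : y ∈ V)
    (hy' : y' ∈ V)
    (h : RingHom.ker (Y.evaluation V y hy).hom = RingHom.ker (Y.evaluation V y' hy').hom) :
    y = y' := by
  have h1 : hV.primeIdealOf ⟨y, hy⟩ = hV.primeIdealOf ⟨y', hy'⟩ := by
    apply PrimeSpectrum.ext
    rw [primeIdealOf_asIdeal, primeIdealOf_asIdeal, h]
  have h2 := hV.fromSpec_primeIdealOf ⟨y, hy⟩
  have h3 := hV.fromSpec_primeIdealOf ⟨y', hy'⟩
  rw [h1] at h2
  exact h2.symm.trans h3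

theorem evaluation_surjective_of_isMaximal {V : Y.Opens} (hV : IsAffineOpen V) (y : Y) (hy : y ∈ V)
    (hmax : (RingHom.ker (Y.evaluation V y hy).hom).IsMaximal) :
    Function.Surjective (Y.evaluation V y hy).hom := by
  intro z
  obtain ⟨s, rfl⟩ : ∃ s, (Y.residue y).hom s = z := IsLocalRing.residue_surjective z
  letI : Algebra Γ(Y, V) (Y.presheaf.stalk y) :=
    TopCat.Presheaf.algebra_section_stalk Y.presheaf ⟨y, hy⟩
  haveI : IsLocalization.AtPrime (Y.presheaf.stalk y) (hV.primeIdealOf ⟨y, hy⟩).asIdeal :=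
    hV.isLocalization_stalk ⟨y, hy⟩
  obtain ⟨a, t, hat⟩ := IsLocalization.exists_mk'_eq
    (hV.primeIdealOf ⟨y, hy⟩).asIdeal.primeCompl s
  have hspec : s * algebraMap Γ(Y, V) (Y.presheaf.stalk y) (t : Γ(Y, V)) =
      algebraMap Γ(Y, V) (Y.presheaf.stalk y) a := by
    rw [← hat]; exact IsLocalization.mk'_spec _ a t
  have halg : ∀ b : Γ(Y, V), (Y.residue y).hom (algebraMap Γ(Y, V) (Y.presheaf.stalk y) b) =
      (Y.evaluation V y hy).hom b := fun b => rfl
  have htq : (t : Γ(Y, V)) ∉ RingHom.ker (Y.evaluation V y hy).hom := by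
    rw [← primeIdealOf_asIdeal]; exact t.2
  obtain ⟨t', i, hi, hsum⟩ := hmax.exists_inv htq
  refine ⟨a * t', ?_⟩
  have e1 : (Y.residue y).hom s * (Y.evaluation V y hy).hom t = (Y.evaluation V y hy).hom a := by
    rw [← halg, ← halg, ← map_mul, hspec]
  have e2 : (Y.evaluation V y hy).hom t' * (Y.evaluation V y hy).hom t = 1 := by
    have := congrArg (Y.evaluation V y hy).hom hsum
    rw [map_add, map_mul, (RingHom.mem_ker).mp hi, add_zero, map_one] at this
    exact this
  calc (Y.evaluation V y hy).hom (a * t')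
      = (Y.evaluation V y hy).hom a * (Y.evaluation V y hy).hom t' := map_mul _ _ _
    _ = (Y.residue y).hom s * (Y.evaluation V y hy).hom t * (Y.evaluation V y hy).hom t' := by
        rw [e1]
    _ = (Y.residue y).hom s * ((Y.evaluation V y hy).hom t' * (Y.evaluation V y hy).hom t) := by
        ring
    _ = (Y.residue y).hom s := by rw [e2, mul_one]

theorem exists_affineOpen_mem (y : Y) : ∃ V : Y.Opens, IsAffineOpen V ∧ y ∈ V := by
  obtain ⟨_, ⟨V, hV, rfl⟩, hyV, -⟩ :=
    Y.isBasis_affineOpens.exists_subset_of_mem_open (Set.mem_univ y) isOpen_univ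
  exact ⟨V, hV, hyV⟩

end


/-- Let Y be a scheme of finite type over ℤ. (i) A point y of Y is closed if and only if the residue
field k(y) is finite. (ii) For every prime number p and every integer d ≥ 1, the set of points y of
Y such that k(y) is an extension of 𝔽_p of degree dividing d, i.e. admits a ring homomorphism into
the field with p^d elements, is finite. -/
theorem result (Y : Scheme.{u}) [CompactSpace Y]
    [LocallyOfFiniteType (Limits.IsTerminal.from specULiftZIsTerminal Y)] :
    (∀ y : Y, IsClosed ({y} : Set Y) ↔ Finite ↑(Y.residueField y)) ∧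
    ∀ (p d : ℕ) [Fact p.Prime], 0 < d →
      {y : Y | Nonempty (↑(Y.residueField y) →+* GaloisField p d)}.Finite := by
  have hFT : ∀ {V : Y.Opens}, IsAffineOpen V → Algebra.FiniteType ℤ Γ(Y, V) :=
    fun hV => finiteType_int_of_isAffineOpen Y hV
  refine ⟨fun y => ⟨fun hcl => ?_, fun hfin => ?_⟩, ?_⟩
  · -- closed ⇒ finite
    obtain ⟨V, hV, hyV⟩ := exists_affineOpen_mem Y y
    have hmax : (RingHom.ker (Y.evaluation V y hyV).hom).IsMaximal := by
      rw [← primeIdealOf_asIdeal Y hV y hyV]
      exact hV.primeIdealOf_isMaximal_of_isClosed ⟨y, hyV⟩ hcl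
    haveI := hFT hV
    exact finite_of_surjective_of_finiteType_int (Y.evaluation V y hyV).hom
      (evaluation_surjective_of_isMaximal Y hV y hyV hmax)
  · -- finite residue field ⇒ closed
    have hqmax : ∀ (V : Y.Opens) (hyV : y ∈ V),
        (RingHom.ker (Y.evaluation V y hyV).hom).IsMaximal := by
      intro V hyV
      haveI : Finite (Γ(Y, V) ⧸ RingHom.ker (Y.evaluation V y hyV).hom) :=
        Finite.of_injective _ (RingHom.kerLift_injective (Y.evaluation V y hyV).hom)
      haveI : (RingHom.ker (Y.evaluation V y hyV).hom).IsPrime := RingHom.ker_isPrime _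
      exact Ideal.Quotient.maximal_of_isField _ (Finite.isField_of_domain _)
    apply isClosed_of_closure_subset
    intro y' hy'
    have hspec : y ⤳ y' := specializes_iff_mem_closure.mpr hy'
    obtain ⟨V, hV, hy'V⟩ := exists_affineOpen_mem Y y'
    have hyV : y ∈ V := hspec.mem_open V.isOpen hy'V
    have hle : RingHom.ker (Y.evaluation V y hyV).hom ≤
        RingHom.ker (Y.evaluation V y' hy'V).hom := by
      intro f hf
      rw [RingHom.mem_ker] at hf ⊢
      have h1 : (Y.evaluation V y hyV).hom f = 0 ↔ y ∉ Y.basicOpen f :=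
        Y.evaluation_eq_zero_iff_notMem_basicOpen y hyV f
      have h2 : (Y.evaluation V y' hy'V).hom f = 0 ↔ y' ∉ Y.basicOpen f :=
        Y.evaluation_eq_zero_iff_notMem_basicOpen y' hy'V f
      rw [h2]
      rw [h1] at hf
      intro h; exact hf (hspec.mem_open (Y.basicOpen f).isOpen h)
    have hne : RingHom.ker (Y.evaluation V y' hy'V).hom ≠ ⊤ := (RingHom.ker_isPrime _).ne_top
    have heq := (hqmax V hyV).eq_of_le hne hle
    have := eq_of_ker_evaluation_eq Y hV y y' hyV hy'V heq
    exact this ▸ Set.mem_singleton y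
  · intro p d _ hd
    let 𝒰 := Y.affineCover.finiteSubcover
    have hsub : {y : Y | Nonempty (↑(Y.residueField y) →+* GaloisField p d)} ⊆
        ⋃ i : 𝒰.I₀, ({y : Y | Nonempty (↑(Y.residueField y) →+* GaloisField p d)} ∩
          ((𝒰.f i).opensRange : Set Y)) := by
      intro y hy
      obtain ⟨i, x, rfl⟩ := 𝒰.exists_eq y
      exact Set.mem_iUnion.mpr ⟨i, hy, ⟨x, rfl⟩⟩
    refine (Set.finite_iUnion fun i => ?_).subset hsub
    have hV : IsAffineOpen (𝒰.f i).opensRange := isAffineOpen_opensRange _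
    haveI := hFT hV
    haveI : Finite (Γ(Y, (𝒰.f i).opensRange) →+* GaloisField p d) :=
      finite_ringHom_of_finiteType_int _ _
    rw [← Set.finite_coe_iff]
    let g : ↥({y : Y | Nonempty (↑(Y.residueField y) →+* GaloisField p d)} ∩
          ((𝒰.f i).opensRange : Set Y)) → (Γ(Y, (𝒰.f i).opensRange) →+* GaloisField p d) :=
      fun y => (Classical.choice y.2.1).comp (Y.evaluation (𝒰.f i).opensRange y.1 y.2.2).hom
    apply Finite.of_injective g
    intro y₁ y₂ h
    apply Subtype.ext
    apply eq_of_ker_evaluation_eq Y hV _ _ y₁.2.2 y₂.2.2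
    have hk : ∀ y : ↥({y : Y | Nonempty (↑(Y.residueField y) →+* GaloisField p d)} ∩
          ((𝒰.f i).opensRange : Set Y)), RingHom.ker (g y) =
          RingHom.ker (Y.evaluation (𝒰.f i).opensRange y.1 y.2.2).hom := by
      intro y
      ext f
      simp only [RingHom.mem_ker]
      show (Classical.choice y.2.1) ((Y.evaluation (𝒰.f i).opensRange y.1 y.2.2).hom f) = 0 ↔ _
      exact map_eq_zero_iff _ (RingHom.injective _)
    rw [← hk y₁, ← hk y₂, h]

end Groth.Agent.S4886
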