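import Groth.Statements.S4887
import Groth.Agent.H57.FlatSchKey
import Groth.Agent.H57.FPKer2
import Groth.Agent.H8.FPAffine
import Groth.Agent.H8.FinType
import Groth.Agent.H8.SectionsExact
import Groth.Agent.H22.QCohH1
import Groth.Agent.H22.QCohLimits

set_option autoImplicit false
universe u
open EGA43

namespace Groth.Agent.S4887

open AlgebraicGeometry CategoryTheory Limits in
/-- Let f : X ⟶ Y be locally of finite presentation, G and H quasi-coherent O_X-modules of finite
presentation with H f-flat, and p : G ⟶ H an epimorphism. Then Ker p is an O_X-module of finite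
presentation. -/
theorem result {X Y : Scheme.{u}} (f : X ⟶ Y) [LocallyOfFinitePresentation f]
    (G H : X.Modules) [Coh.IsQCoh G] [Coh.IsQCoh H] (hG : CohB1.IsFP G) (hH : CohB1.IsFP H)
    (hflat : FlatMod.IsFlatOver f H) (p : G ⟶ H) [Epi p] :
    CohB1.IsFP (kernel p) := by
  haveI : G.IsQuasicoherent := ‹Coh.IsQCoh G›
  haveI : H.IsQuasicoherent := ‹Coh.IsQCoh H›
  haveI : SheafOfModules.IsFinitePresentation (R := X.ringCatSheaf) G := hG
  haveI : SheafOfModules.IsFinitePresentation (R := X.ringCatSheaf) H := hH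
  haveI hq : (kernel p).IsQuasicoherent :=
    Groth.Agent.H22.QCohLimits.isQuasicoherent_kernel p
  let S : ShortComplex X.Modules := ShortComplex.mk (kernel.ι p) p (kernel.condition p)
  have hSex : S.Exact := ShortComplex.exact_of_f_is_kernel S (kernelIsKernel p)
  haveI hmono : Mono S.f := inferInstanceAs (Mono (kernel.ι p))
  haveI hepi : Epi S.g := inferInstanceAs (Epi p)
  have hS : S.ShortExact := { exact := hSex }
  haveI : S.X₁.IsQuasicoherent := hq
  have hcov : TopologicalSpace.IsOpenCover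
      (fun i : {W : X.affineOpens // ∃ V : Y.affineOpens, (W : X.Opens) ≤ f ⁻¹ᵁ (V : Y.Opens)} =>
        ((i.1 : X.affineOpens) : X.Opens)) := by
    apply TopologicalSpace.IsOpenCover.mk
    rw [eq_top_iff]
    intro x _
    obtain ⟨V, hV, hxV, -⟩ :=
      exists_isAffineOpen_mem_and_subset (x := f x) (U := (⊤ : Y.Opens)) trivial
    obtain ⟨W, hW, hxW, hWV⟩ :=
      exists_isAffineOpen_mem_and_subset (x := x) (U := f ⁻¹ᵁ V) hxV
    exact TopologicalSpace.Opens.mem_iSup.mpr ⟨⟨⟨W, hW⟩, ⟨V, hV⟩, hWV⟩, hxW⟩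
  refine Groth.Agent.H8.isFinitePresentation_of_finitePresentation_sections (kernel p)
    (fun i : {W : X.affineOpens // ∃ V : Y.affineOpens, (W : X.Opens) ≤ f ⁻¹ᵁ (V : Y.Opens)} =>
      ((i.1 : X.affineOpens) : X.Opens)) hcov (fun i => i.1.2) ?_
  rintro ⟨⟨W, hW⟩, ⟨V, hV⟩, hWV⟩
  show Module.FinitePresentation Γ(X, W) Γ(kernel p, W)
  have hWV' : W ≤ f ⁻¹ᵁ V := hWV
  have hfp := f.finitePresentation_appLE hV hW hWV'
  letI : Algebra Γ(Y, V) Γ(X, W) := (f.appLE V W hWV').hom.toAlgebra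
  haveI : Algebra.FinitePresentation Γ(Y, V) Γ(X, W) := hfp
  letI : Module Γ(Y, V) Γ(H, W) := Module.compHom _ (f.appLE V W hWV').hom
  haveI : IsScalarTower Γ(Y, V) Γ(X, W) Γ(H, W) :=
    IsScalarTower.of_algebraMap_smul fun r m => rfl
  haveI : Module.Flat Γ(Y, V) Γ(H, W) :=
    Groth.Agent.H57.flat_sections_of_isFlatOverAt f H hV hW hWV' (fun y _ => hflat y)
  haveI : Module.FinitePresentation Γ(X, W) Γ(G, W) :=
    Groth.Agent.H8.finitePresentation_sections_of_isAffineOpen G hW
  haveI : Module.FinitePresentation Γ(X, W) Γ(H, W) :=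
    Groth.Agent.H8.finitePresentation_sections_of_isAffineOpen H hW
  have hsurj : Function.Surjective (Groth.Agent.H8.appₗ p W) :=
    Groth.Agent.H22.QCohH1.app_surjective S hS hW
  haveI : Module.FinitePresentation Γ(X, W) (LinearMap.ker (Groth.Agent.H8.appₗ p W)) :=
    Groth.Agent.H57.FPKer.fp_ker_of_flat Γ(Y, V) Γ(X, W) Γ(G, W) Γ(H, W)
      (Groth.Agent.H8.appₗ p W) hsurj
  have hinj : Function.Injective (Groth.Agent.H8.appₗ (kernel.ι p) W) :=
    Groth.Agent.H8.appₗ_injective_of_mono (kernel.ι p) W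
  have hex : Function.Exact (Groth.Agent.H8.appₗ (kernel.ι p) W) (Groth.Agent.H8.appₗ p W) :=
    Groth.Agent.H8.appₗ_exact S hSex W
  have hEq : LinearMap.ker (Groth.Agent.H8.appₗ p W) =
      LinearMap.range (Groth.Agent.H8.appₗ (kernel.ι p) W) := LinearMap.exact_iff.mp hex
  exact Module.FinitePresentation.of_equiv
    ((LinearEquiv.ofEq _ _ hEq).trans
      (LinearEquiv.ofInjective (Groth.Agent.H8.appₗ (kernel.ι p) W) hinj).symm)

end Groth.Agent.S4887
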