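import Groth.Statements.S6382
import Groth.Agent.H57.LocalCrit
import Mathlib.RingTheory.LocalRing.RingHom.Basic
import Mathlib.RingTheory.Jacobson.Ideal
import Mathlib.RingTheory.Flat.Stability
import Mathlib.LinearAlgebra.TensorProduct.Tower
import Mathlib.LinearAlgebra.Basis.VectorSpace
import Mathlib.RingTheory.TensorProduct.Finite
import Mathlib.RingTheory.IsTensorProduct
import Mathlib.RingTheory.Ideal.Quotient.Basic

set_option autoImplicit false
universe u
open CAlg

namespace Groth.Agent.S6382

open TensorProduct

/-- Injectivity of `I ⊗ N → N` over `R` implies injectivity of `I R' ⊗ N → N` over `R'`. -/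
theorem rTensor_map_subtype_injective {R R' N : Type*} [CommRing R] [CommRing R'] [Algebra R R']
    [AddCommGroup N] [Module R N] [Module R' N] [IsScalarTower R R' N]
    (I : Ideal R) (h : Function.Injective (LinearMap.rTensor N I.subtype)) :
    Function.Injective (LinearMap.rTensor N (I.map (algebraMap R R')).subtype) := by
  obtain ⟨I', hI'⟩ : ∃ I' : Ideal R', I' = I.map (algebraMap R R') := ⟨_, rfl⟩
  rw [← hI']
  have hmem : ∀ i : I, algebraMap R R' i.1 ∈ I' := fun i => hI' ▸ Ideal.mem_map_of_mem _ i.2
  obtain ⟨g, hg⟩ : ∃ g : I → N → ↥I' ⊗[R'] N,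
      g = fun i n => (⟨algebraMap R R' i.1, hmem i⟩ : ↥I') ⊗ₜ[R'] n := ⟨_, rfl⟩
  have g_add_left : ∀ i j n, g (i + j) n = g i n + g j n := by
    intro i j n
    rw [hg]
    simp only
    rw [← TensorProduct.add_tmul]
    congr 1
    exact Subtype.ext (map_add _ _ _)
  have g_add_right : ∀ i n n', g i (n + n') = g i n + g i n' := by
    intro i n n'
    rw [hg]
    exact TensorProduct.tmul_add _ _ _
  have g_smul : ∀ (r : R) i n, g (r • i) n = g i (r • n) := by
    intro r i n
    rw [hg]
    simp only
    have e1 : (⟨algebraMap R R' (r • i).1, hmem (r • i)⟩ : ↥I') =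
        (algebraMap R R' r) • (⟨algebraMap R R' i.1, hmem i⟩ : ↥I') := by
      apply Subtype.ext
      change algebraMap R R' (r • i.1) = algebraMap R R' r • algebraMap R R' i.1
      rw [smul_eq_mul, smul_eq_mul, map_mul]
    rw [e1, TensorProduct.smul_tmul, algebraMap_smul]
  obtain ⟨ψ, hψ⟩ : ∃ ψ : ↥I ⊗[R] N →+ ↥I' ⊗[R'] N, ∀ i n, ψ (i ⊗ₜ n) = g i n :=
    ⟨TensorProduct.liftAddHom
      (AddMonoidHom.mk' (fun i => AddMonoidHom.mk' (g i) (g_add_right i))
        (fun i j => AddMonoidHom.ext (g_add_left i j)))
      (fun r i n => g_smul r i n), fun i n => rfl⟩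
  -- surjectivity of ψ
  have hsurj : ∀ z' : ↥I' ⊗[R'] N, ∃ z, ψ z = z' := by
    intro z'
    induction z' using TensorProduct.induction_on with
    | zero => exact ⟨0, map_zero ψ⟩
    | add a b ha hb =>
      obtain ⟨za, rfl⟩ := ha
      obtain ⟨zb, rfl⟩ := hb
      exact ⟨za + zb, map_add ψ za zb⟩
    | tmul i' n =>
      obtain ⟨x, hx⟩ := i'
      have hx' : x ∈ Submodule.span R' (algebraMap R R' '' (I : Set R)) := by
        rw [hI'] at hx
        exact hx
      have key : ∀ (hx'' : x ∈ I') (n : N), ∃ z, ψ z = (⟨x, hx''⟩ : ↥I') ⊗ₜ[R'] n := by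
        refine Submodule.span_induction
          (p := fun x _ => ∀ (hx'' : x ∈ I') (n : N), ∃ z, ψ z = (⟨x, hx''⟩ : ↥I') ⊗ₜ[R'] n)
          ?_ ?_ ?_ ?_ hx'
        · rintro _ ⟨i, hi, rfl⟩ hx'' n
          refine ⟨(⟨i, hi⟩ : ↥I) ⊗ₜ[R] n, ?_⟩
          rw [hψ, hg]
        · intro hx'' n
          refine ⟨0, ?_⟩
          rw [map_zero]
          have : (⟨0, hx''⟩ : ↥I') = 0 := rfl
          rw [this, TensorProduct.zero_tmul]
        · intro x y hx hy ihx ihy hxy n
          have hxI : x ∈ I' := by rw [hI']; exact hx
          have hyI : y ∈ I' := by rw [hI']; exact hy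
          obtain ⟨z₁, h₁⟩ := ihx hxI n
          obtain ⟨z₂, h₂⟩ := ihy hyI n
          refine ⟨z₁ + z₂, ?_⟩
          rw [map_add, h₁, h₂, ← TensorProduct.add_tmul]
          rfl
        · intro c x hx ihx hcx n
          have hxI : x ∈ I' := by rw [hI']; exact hx
          obtain ⟨z, hz⟩ := ihx hxI (c • n)
          refine ⟨z, ?_⟩
          rw [hz, ← TensorProduct.smul_tmul]
          rfl
      exact key hx n
  -- compatibility with the multiplication maps
  have hcomp : ∀ z : ↥I ⊗[R] N,
      TensorProduct.lid R' N (LinearMap.rTensor N I'.subtype (ψ z)) =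
        TensorProduct.lid R N (LinearMap.rTensor N I.subtype z) := by
    intro z
    induction z using TensorProduct.induction_on with
    | zero => simp
    | add a b ha hb => simp only [map_add, ha, hb]
    | tmul i n =>
      rw [hψ, hg]
      simp only [LinearMap.rTensor_tmul, Submodule.subtype_apply, TensorProduct.lid_tmul]
      exact algebraMap_smul R' _ _
  rw [injective_iff_map_eq_zero]
  intro z' hz'
  obtain ⟨z, rfl⟩ := hsurj z'
  have h1 : TensorProduct.lid R N (LinearMap.rTensor N I.subtype z) = 0 := by
    rw [← hcomp, hz', map_zero]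
  have h2 : LinearMap.rTensor N I.subtype z = 0 :=
    (TensorProduct.lid R N).injective (by rw [h1, map_zero])
  have h3 : z = 0 := h (by rw [h2, map_zero])
  rw [h3, map_zero]

/-- Flat base change on the left factor preserves injectivity of `M ⊗ P → M ⊗ Q`. -/
theorem lTensor_baseChange_injective {R S S' M P Q : Type*} [CommRing R] [CommRing S]
    [CommRing S'] [Algebra R S] [Algebra S S'] [Algebra R S'] [IsScalarTower R S S']
    [Module.Flat S S'] [AddCommGroup M] [Module R M] [Module S M] [IsScalarTower R S M]
    [AddCommGroup P] [Module R P] [AddCommGroup Q] [Module R Q] (ι : P →ₗ[R] Q)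
    (h : Function.Injective (LinearMap.lTensor M ι)) :
    Function.Injective (LinearMap.lTensor (S' ⊗[S] M) ι) := by
  have h1 : Function.Injective (AlgebraTensorModule.lTensor S M ι) := h
  have h2 := Module.Flat.lTensor_preserves_injective_linearMap (M := S')
    (AlgebraTensorModule.lTensor S M ι) h1
  have hnat : ∀ x, AlgebraTensorModule.assoc R S S' S' M Q (LinearMap.lTensor (S' ⊗[S] M) ι x) =
      LinearMap.lTensor S' (AlgebraTensorModule.lTensor S M ι)
        (AlgebraTensorModule.assoc R S S' S' M P x) := by
    intro x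
    induction x using TensorProduct.induction_on with
    | zero => simp
    | add x y hx hy => simp only [map_add, hx, hy]
    | tmul y p =>
      induction y using TensorProduct.induction_on with
      | zero => simp
      | add y z hy hz => simp only [TensorProduct.add_tmul, map_add, hy, hz]
      | tmul s' m => simp
  intro x y hxy
  apply (AlgebraTensorModule.assoc R S S' S' M P).injective
  apply h2
  rw [← hnat, ← hnat, hxy]

/-- Consider a commutative square of local rings and local homomorphisms R → S, R → R', S → S', R' → S',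
and a finite S-module M. Assume the maps R → R' and S → S' are flat, M is flat over R, the maximal
ideal of R generates the maximal ideal of R', and R', S' are Noetherian. Then M' = M ⊗_S S' (any
base change of M along S → S') is flat over R'. -/
theorem result (R S R' S' : Type u) [CommRing R] [CommRing S]
    [CommRing R'] [CommRing S'] [IsLocalRing R] [IsLocalRing S] [IsLocalRing R'] [IsLocalRing S']
    [Algebra R S] [Algebra R R'] [Algebra S S'] [Algebra R' S'] [Algebra R S']
    [IsScalarTower R S S'] [IsScalarTower R R' S']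
    [IsLocalHom (algebraMap R S)] [IsLocalHom (algebraMap R R')] [IsLocalHom (algebraMap S S')]
    [IsLocalHom (algebraMap R' S')] [Module.Flat R R'] [Module.Flat S S']
    [IsNoetherianRing R'] [IsNoetherianRing S']
    (hm : (IsLocalRing.maximalIdeal R).map (algebraMap R R') = IsLocalRing.maximalIdeal R')
    (M : Type u) [AddCommGroup M] [Module S M] [Module R M] [IsScalarTower R S M] [Module.Finite S M]
    [Module.Flat R M]
    (M' : Type u) [AddCommGroup M'] [Module S' M'] [Module S M'] [IsScalarTower S S' M'] [Module R' M']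
    [IsScalarTower R' S' M'] (j : M →ₗ[S] M') (hj : IsBaseChange S' j) :
    Module.Flat R' M' := by
  haveI : SMulCommClass S R' S' := ⟨fun s r x => by
    rw [Algebra.smul_def, Algebra.smul_def, Algebra.smul_def, Algebra.smul_def]
    exact mul_left_comm _ _ _⟩
  -- step 1: injectivity over `R`
  have h1 : Function.Injective
      (LinearMap.lTensor (S' ⊗[S] M) (IsLocalRing.maximalIdeal R).subtype) :=
    lTensor_baseChange_injective (IsLocalRing.maximalIdeal R).subtype
      (Module.Flat.iff_lTensor_injective'.mp inferInstance (IsLocalRing.maximalIdeal R))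
  have h2 : Function.Injective
      (LinearMap.rTensor (S' ⊗[S] M) (IsLocalRing.maximalIdeal R).subtype) :=
    (LinearMap.lTensor_inj_iff_rTensor_inj _ _).mp h1
  -- step 2: injectivity over `R'`
  have h3 := rTensor_map_subtype_injective (R := R) (R' := R') (N := S' ⊗[S] M)
    (IsLocalRing.maximalIdeal R) h2
  rw [hm] at h3
  -- step 3: the local criterion
  have hflat : Module.Flat R' (S' ⊗[S] M) := by
    refine Groth.Agent.H57.flat_of_localCriterion (S := S') (IsLocalRing.maximalIdeal R') ?_ h3 ?_
    · rw [IsLocalRing.jacobson_eq_maximalIdeal ⊥ bot_ne_top]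
      exact ((IsLocalRing.local_hom_TFAE (algebraMap R' S')).out 0 2).mp
        ‹IsLocalHom (algebraMap R' S')›
    · letI : Field (R' ⧸ IsLocalRing.maximalIdeal R') :=
        Ideal.Quotient.field (IsLocalRing.maximalIdeal R')
      haveI : Module.Free (R' ⧸ IsLocalRing.maximalIdeal R')
          ((R' ⧸ IsLocalRing.maximalIdeal R') ⊗[R'] (S' ⊗[S] M)) :=
        Module.Free.of_divisionRing _ _
      infer_instance
  exact Module.Flat.of_linearEquiv (hj.equiv.restrictScalars R').symm

end Groth.Agent.S6382
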