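import Groth.Statements.S4891
import Groth.Agent.S6382
import Groth.Agent.H30.NilFlat2
import Mathlib.RingTheory.Flat.FaithfullyFlat.Basic

set_option autoImplicit false
open TensorProduct
universe u
open EGA43

namespace Groth.Agent.S4891

/-- fibrewise criterion, nilpotent form. -/
theorem flat_of_flat_mod_nilpotent {R S M : Type u} [CommRing R] [CommRing S] [Algebra R S]
    (I : Ideal R) (hI : IsNilpotent I)
    [AddCommGroup M] [Module S M] [Module R M] [IsScalarTower R S M] [Module.Flat R M]
    (h : Module.Flat (S ⧸ I.map (algebraMap R S)) ((S ⧸ I.map (algebraMap R S)) ⊗[S] M)) :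
    Module.Flat S M := by
  have h1 : Function.Injective (LinearMap.rTensor M I.subtype) :=
    Module.Flat.iff_rTensor_injective'.mp inferInstance I
  have h2 := Groth.Agent.S6382.rTensor_map_subtype_injective (R := R) (R' := S) (N := M) I h1
  have hnil : IsNilpotent (I.map (algebraMap R S)) := by
    obtain ⟨n, hn⟩ := hI
    refine ⟨n, ?_⟩
    rw [← Ideal.map_pow, hn, Ideal.zero_eq_bot, Ideal.map_bot, Ideal.zero_eq_bot]
  exact Groth.Agent.H30.NilFlat.flat_of_nilpotent (I.map (algebraMap R S)) hnil h h2

/-- Let A be a commutative ring, J a nilpotent ideal of A, B a commutative A-algebra and M a B-module.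
If M is flat over A, M/JM is flat over B/JB, B/JB is flat over A/J and mM ≠ M for every maximal
ideal m of B containing JB, then B is flat over A. (Under the first two hypotheses M is also flat
over B; that implication is stated elsewhere and not repeated here.) -/
theorem result {A B : Type u} [CommRing A] [CommRing B] [Algebra A B]
    (J : Ideal A) (hJ : IsNilpotent J) (M : Type u) [AddCommGroup M] [Module B M] [Module A M] [IsScalarTower A B M]
    (hc1 : Module.Flat A M)
    (hc2 : Module.Flat (B ⧸ J.map (algebraMap A B)) ((B ⧸ J.map (algebraMap A B)) ⊗[B] M))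
    (hd1 : Module.Flat (A ⧸ J) ((A ⧸ J) ⊗[A] B))
    (hd2 : ∀ m : Ideal B, m.IsMaximal → J.map (algebraMap A B) ≤ m → (m • (⊤ : Submodule B M)) ≠ ⊤) :
    Module.Flat A B := by
  haveI hMB : Module.Flat B M := flat_of_flat_mod_nilpotent J hJ hc2
  have hnilB : IsNilpotent (J.map (algebraMap A B)) := by
    obtain ⟨n, hn⟩ := hJ
    refine ⟨n, ?_⟩
    rw [← Ideal.map_pow, hn, Ideal.zero_eq_bot, Ideal.map_bot, Ideal.zero_eq_bot]
  haveI : Module.FaithfullyFlat B M := by
    refine ⟨fun m hm => hd2 m hm ?_⟩
    obtain ⟨n, hn⟩ := hnilB
    intro x hx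
    have h1 : x ^ n ∈ (J.map (algebraMap A B)) ^ n := Ideal.pow_mem_pow hx n
    rw [hn, Ideal.zero_eq_bot, Ideal.mem_bot] at h1
    exact hm.isPrime.mem_of_pow_mem n (h1 ▸ m.zero_mem)
  have key : Function.Injective (LinearMap.lTensor M (J.subtype.baseChange B)) := by
    have hnat : ∀ x : M ⊗[B] (B ⊗[A] J),
        AlgebraTensorModule.cancelBaseChange A B B M A
            (LinearMap.lTensor M (J.subtype.baseChange B) x) =
          LinearMap.lTensor M J.subtype (AlgebraTensorModule.cancelBaseChange A B B M J x) := by
      intro x
      induction x using TensorProduct.induction_on with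
      | zero => simp
      | add x y hx hy => simp only [map_add, hx, hy]
      | tmul m y =>
        induction y using TensorProduct.induction_on with
        | zero => simp
        | add y z hy hz => simp only [TensorProduct.tmul_add, map_add, hy, hz]
        | tmul b j => simp
    have hflat := Module.Flat.iff_lTensor_injective'.mp hc1 J
    intro x y hxy
    apply (AlgebraTensorModule.cancelBaseChange A B B M J).injective
    apply hflat
    rw [← hnat, ← hnat, hxy]
  have h3 : Function.Injective (J.subtype.baseChange B) :=
    (Module.FaithfullyFlat.lTensor_injective_iff_injective B M _).mp key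
  have h4 : Function.Injective (LinearMap.lTensor B J.subtype) := h3
  exact Groth.Agent.H30.NilFlat.flat_of_nilpotent J hJ hd1
    ((LinearMap.lTensor_inj_iff_rTensor_inj _ _).mp h4)

end Groth.Agent.S4891
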