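import Groth.Statements.S4897
import Groth.Agent.H25.QuasiHomeo3

set_option autoImplicit false
universe u
open EGA43

namespace Groth.Agent.S4897

/-- Let f : X → Y be a quasi-homeomorphism, i.e. a continuous map such that U ↦ f⁻¹(U) is a bijection
from the open subsets of Y onto the open subsets of X. Then Z ↦ f⁻¹(Z) induces bijections from the
locally closed (resp. constructible, resp. locally constructible) subsets of Y onto those of X. -/
theorem result {X Y : Type u}
    [TopologicalSpace X] [TopologicalSpace Y] (f : X → Y) (hf : Continuous f)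
    (hq : Function.Bijective (fun U : TopologicalSpace.Opens Y =>
      (⟨f ⁻¹' (U : Set Y), U.isOpen.preimage hf⟩ : TopologicalSpace.Opens X))) :
    Function.Bijective (fun Z : {Z : Set Y // IsLocallyClosed Z} =>
        (⟨f ⁻¹' Z.1, Z.2.preimage hf⟩ : {Z : Set X // IsLocallyClosed Z})) ∧
      Set.BijOn (fun Z : Set Y => f ⁻¹' Z) {Z | Topology.IsConstructible Z} {Z | Topology.IsConstructible Z} ∧
      Set.BijOn (fun Z : Set Y => f ⁻¹' Z) {Z | Topology.IsLocallyConstructible Z}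
        {Z | Topology.IsLocallyConstructible Z} := by
  have h : Groth.Agent.H25.QH f := (Groth.Agent.H25.qh_iff_bijective f hf).mpr hq
  refine ⟨⟨?_, ?_⟩, ⟨?_, ?_, ?_⟩, ⟨?_, ?_, ?_⟩⟩
  · rintro ⟨Z, hZ⟩ ⟨Z', hZ'⟩ he
    have he' : f ⁻¹' Z = f ⁻¹' Z' := congrArg Subtype.val he
    exact Subtype.ext (h.lqc_ext (Groth.Agent.H25.lqc_of_isLocallyClosed hZ)
      (Groth.Agent.H25.lqc_of_isLocallyClosed hZ') he')
  · rintro ⟨S, O, C, hO, hC, rfl⟩
    obtain ⟨O', hO', rfl⟩ := h.2 O hO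
    obtain ⟨D', hD', hD'C⟩ := h.2 Cᶜ hC.isOpen_compl
    refine ⟨⟨O' ∩ D'ᶜ, O', D'ᶜ, hO', hD'.isClosed_compl, rfl⟩, Subtype.ext ?_⟩
    show f ⁻¹' (O' ∩ D'ᶜ) = f ⁻¹' O' ∩ C
    rw [Set.preimage_inter, Set.preimage_compl, hD'C, compl_compl]
  · intro Z hZ
    exact h.isConstructible_preimage hf hZ
  · intro Z hZ Z' hZ' he
    exact h.lqc_ext (Groth.Agent.H25.qc_of_isConstructible hZ).lqc
      (Groth.Agent.H25.qc_of_isConstructible hZ').lqc he
  · intro W hW
    obtain ⟨Z, hZ, hZW⟩ := h.exists_isConstructible_preimage_eq hf hW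
    exact ⟨Z, hZ, hZW⟩
  · intro Z hZ
    exact h.isLocallyConstructible_preimage hf hZ
  · intro Z hZ Z' hZ' he
    exact h.lqc_ext (Groth.Agent.H25.lqc_of_isLocallyConstructible hZ)
      (Groth.Agent.H25.lqc_of_isLocallyConstructible hZ') he
  · intro W hW
    obtain ⟨Z, hZ, hZW⟩ := h.exists_isLocallyConstructible_preimage_eq hf hW
    exact ⟨Z, hZ, hZW⟩

end Groth.Agent.S4897
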