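import Groth.Statements.S4898
import Groth.Agent.H57.GenFlatten
import Groth.Agent.H57.GenFlattenSch
import Groth.Agent.H8.FPAffine
import Groth.Agent.H8.Coh

set_option autoImplicit false
set_option linter.style.haveILetI false
universe u
open CategoryTheory AlgebraicGeometry
open EGA43

namespace Groth.Agent.S4898

open CategoryTheory.Limits TensorProduct in
set_option maxHeartbeats 3200000 in
/-- Over an affine irreducible base, tested on affine base changes, to which the general statement
reduces: let A be a commutative ring whose spectrum is irreducible, f : X ⟶ Spec A a morphism of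
finite presentation and F a quasi-coherent O_X-module of finite presentation. Then there are an
element h of A which is not nilpotent (so that U = Spec A_h is a nonempty open subset of Spec A) and
a finitely generated ideal J of A_h contained in the nilradical (so that the closed subscheme Z =
V(J) of U, of finite presentation over U, has the same underlying space as U) such that for every
A_h-algebra A' the pullback of F to X ×_{Spec A} Spec A' is flat over Spec A' if and only if J
generates the zero ideal of A', i.e. if and only if Spec A' ⟶ U factors through Z. (The published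
statement also asserts that, for a finite affine open cover (W_i) of X, U can be chosen so that the
sections of the pullback of F over each W_i ×_{Spec A} Spec A' form a free A'-module whenever Spec
A' ⟶ U factors through Z; this row omits that assertion.) -/
theorem result {A : Type u} [CommRing A] [IrreducibleSpace (PrimeSpectrum A)]
    {X : Scheme.{u}} (f : X ⟶ Spec (CommRingCat.of A))
    [LocallyOfFinitePresentation f] [QuasiCompact f] [QuasiSeparated f]
    (F : X.Modules) [Coh.IsQCoh F] (hF : CohB1.IsFP F) :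
    ∃ (h : A) (_ : ¬ IsNilpotent h) (J : Ideal (Localization.Away h)) (_ : J.FG)
      (_ : J ≤ nilradical (Localization.Away h)),
      ∀ (A' : Type u) [CommRing A'] [Algebra (Localization.Away h) A'],
        letI g : Spec (CommRingCat.of A') ⟶ Spec (CommRingCat.of A) :=
          Spec.map (CommRingCat.ofHom ((algebraMap (Localization.Away h) A').comp (algebraMap A (Localization.Away h))))
        (FlatMod.IsFlatOver (pullback.snd f g) ((Scheme.Modules.pullback (pullback.fst f g)).obj F) ↔
          Ideal.map (algebraMap (Localization.Away h) A') J = ⊥) := by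
  classical
  haveI hqc : F.IsQuasicoherent := ‹Coh.IsQCoh F›
  haveI hfp : SheafOfModules.IsFinitePresentation (R := X.ringCatSheaf) F := hF
  have hV : IsAffineOpen (⊤ : (Spec (CommRingCat.of A)).Opens) := isAffineOpen_top _
  let eA : Γ(Spec (CommRingCat.of A), ⊤) ≃+* A :=
    (Scheme.ΓSpecIso (CommRingCat.of A)).commRingCatIsoToRingEquiv
  have hAprime : (nilradical A).IsPrime :=
    PrimeSpectrum.irreducibleSpace_iff_isPrime_nilradical.mp inferInstance
  have hRprime : (nilradical Γ(Spec (CommRingCat.of A), ⊤)).IsPrime := by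
    have hcm : nilradical Γ(Spec (CommRingCat.of A), ⊤) = (nilradical A).comap eA.toRingHom := by
      ext x
      rw [Ideal.mem_comap, mem_nilradical, mem_nilradical]
      exact (IsNilpotent.map_iff eA.injective).symm
    rw [hcm]
    exact Ideal.comap_isPrime _ _
  have hle : ∀ W : X.Opens, W ≤ f ⁻¹ᵁ (⊤ : (Spec (CommRingCat.of A)).Opens) :=
    fun W x _ => trivial
  -- a finite affine cover of `X`
  have hcpt : IsCompact ((f ⁻¹ᵁ (⊤ : (Spec (CommRingCat.of A)).Opens) : X.Opens) : Set X) :=
    f.isCompact_preimage hV.isCompact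
  obtain ⟨s, hsfin, hs⟩ := isCompact_iff_finite_and_eq_biUnion_affineOpens.mp hcpt
  haveI : Finite s := hsfin.to_subtype
  have hcov : ∀ x : X, ∃ i : s, x ∈ (i.1 : X.Opens) := by
    intro x
    have hx : x ∈ f ⁻¹ᵁ (⊤ : (Spec (CommRingCat.of A)).Opens) := trivial
    rw [hs, TopologicalSpace.Opens.mem_iSup] at hx
    obtain ⟨i, hx⟩ := hx
    rw [TopologicalSpace.Opens.mem_iSup] at hx
    obtain ⟨hi, hx⟩ := hx
    exact ⟨⟨i, hi⟩, hx⟩
  letI alg : ∀ i : s, Algebra Γ(Spec (CommRingCat.of A), ⊤) Γ(X, (i.1 : X.Opens)) :=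
    fun i => (f.appLE ⊤ (i.1 : X.Opens) (hle _)).hom.toAlgebra
  haveI algfp : ∀ i : s, Algebra.FinitePresentation Γ(Spec (CommRingCat.of A), ⊤)
      Γ(X, (i.1 : X.Opens)) := fun i => f.finitePresentation_appLE hV i.1.2 (hle _)
  letI mod : ∀ i : s, Module Γ(Spec (CommRingCat.of A), ⊤) Γ(F, (i.1 : X.Opens)) :=
    fun i => Module.compHom _ (f.appLE ⊤ (i.1 : X.Opens) (hle _)).hom
  haveI tow : ∀ i : s, IsScalarTower Γ(Spec (CommRingCat.of A), ⊤) Γ(X, (i.1 : X.Opens))
      Γ(F, (i.1 : X.Opens)) := fun i => IsScalarTower.of_algebraMap_smul fun _ _ => rfl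
  haveI modfp : ∀ i : s, Module.FinitePresentation Γ(X, (i.1 : X.Opens)) Γ(F, (i.1 : X.Opens)) :=
    fun i => Groth.Agent.H8.finitePresentation_sections_of_isAffineOpen F i.1.2
  obtain ⟨hR, hnn, hcore⟩ := Groth.Agent.H57.GenFlatten.multi_core
    Γ(Spec (CommRingCat.of A), ⊤) (ι := s) (fun i => Γ(X, (i.1 : X.Opens)))
    (fun i => Γ(F, (i.1 : X.Opens))) hRprime
  -- transport to `A`
  have hnn' : ¬ IsNilpotent (eA hR) := fun hn => hnn ((IsNilpotent.map_iff eA.injective).mp hn)
  letI aRAh : Algebra Γ(Spec (CommRingCat.of A), ⊤) (Localization.Away (eA hR)) :=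
    ((algebraMap A (Localization.Away (eA hR))).comp eA.symm.symm.toRingHom).toAlgebra
  haveI locR : IsLocalization.Away hR (Localization.Away (eA hR)) := by
    have h1 := IsLocalization.isLocalization_of_base_ringEquiv (Submonoid.powers (eA hR))
      (Localization.Away (eA hR)) eA.symm
    have h2 : (Submonoid.powers (eA hR)).map eA.symm = Submonoid.powers hR := by
      rw [Submonoid.map_powers]
      congr 1
      exact eA.symm_apply_apply hR
    rw [h2] at h1
    exact h1
  obtain ⟨J, hJfg, hJnil, hJ⟩ := hcore (Localization.Away (eA hR))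
  refine ⟨eA hR, hnn', J, hJfg, hJnil, fun A' _ _ => ?_⟩
  have hV' : IsAffineOpen (⊤ : (Spec (CommRingCat.of A')).Opens) := isAffineOpen_top _
  let u : A →+* A' := (algebraMap (Localization.Away (eA hR)) A').comp
    (algebraMap A (Localization.Away (eA hR)))
  let g : Spec (CommRingCat.of A') ⟶ Spec (CommRingCat.of A) := Spec.map (CommRingCat.ofHom u)
  change FlatMod.IsFlatOver (pullback.snd f g)
    ((Scheme.Modules.pullback (pullback.fst f g)).obj F) ↔ _
  have hV'V : (⊤ : (Spec (CommRingCat.of A')).Opens) ≤ g ⁻¹ᵁ ⊤ := le_top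
  let eA' : Γ(Spec (CommRingCat.of A'), ⊤) ≃+* A' :=
    (Scheme.ΓSpecIso (CommRingCat.of A')).commRingCatIsoToRingEquiv
  letI aRR' : Algebra Γ(Spec (CommRingCat.of A), ⊤) Γ(Spec (CommRingCat.of A'), ⊤) :=
    (g.appLE ⊤ ⊤ hV'V).hom.toAlgebra
  letI aAhR' : Algebra (Localization.Away (eA hR)) Γ(Spec (CommRingCat.of A'), ⊤) :=
    (eA'.symm.toRingHom.comp (algebraMap (Localization.Away (eA hR)) A')).toAlgebra
  have hgj : g.appLE ⊤ ⊤ hV'V = (Scheme.ΓSpecIso (CommRingCat.of A)).hom ≫
      CommRingCat.ofHom u ≫ (Scheme.ΓSpecIso (CommRingCat.of A')).inv := by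
    have h1 : g.appLE ⊤ ⊤ hV'V = g.appTop := by
      rw [Scheme.Hom.appTop, Scheme.Hom.app_eq_appLE]
      rfl
    rw [h1, ← Category.assoc, ← Scheme.ΓSpecIso_naturality, Category.assoc, Iso.hom_inv_id,
      Category.comp_id]
  have hcomp : algebraMap Γ(Spec (CommRingCat.of A), ⊤) Γ(Spec (CommRingCat.of A'), ⊤) =
      (algebraMap (Localization.Away (eA hR)) Γ(Spec (CommRingCat.of A'), ⊤)).comp
        (algebraMap Γ(Spec (CommRingCat.of A), ⊤) (Localization.Away (eA hR))) := by
    change (g.appLE ⊤ ⊤ hV'V).hom = _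
    rw [hgj]
    rfl
  haveI tow' : IsScalarTower Γ(Spec (CommRingCat.of A), ⊤) (Localization.Away (eA hR))
      Γ(Spec (CommRingCat.of A'), ⊤) := .of_algebraMap_eq' hcomp
  have hchart : ∀ i : s,
      (∀ x' : ↥(pullback f g),
        x' ∈ pullback.fst f g ⁻¹ᵁ (i.1 : X.Opens) ⊓ pullback.snd f g ⁻¹ᵁ ⊤ →
        FlatMod.IsFlatOverAt (pullback.snd f g)
          ((Scheme.Modules.pullback (pullback.fst f g)).obj F) x') ↔
      Module.Flat Γ(Spec (CommRingCat.of A'), ⊤)
        (Γ(Spec (CommRingCat.of A'), ⊤) ⊗[Γ(Spec (CommRingCat.of A), ⊤)] Γ(F, (i.1 : X.Opens))) :=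
    fun i => Groth.Agent.H57.GenFlatten.pullback_chart_flat_iff f g F hV hV' i.1.2 hV'V (hle _)
  have hglob : FlatMod.IsFlatOver (pullback.snd f g)
      ((Scheme.Modules.pullback (pullback.fst f g)).obj F) ↔
      ∀ i : s, ∀ x' : ↥(pullback f g),
        x' ∈ pullback.fst f g ⁻¹ᵁ (i.1 : X.Opens) ⊓ pullback.snd f g ⁻¹ᵁ ⊤ →
        FlatMod.IsFlatOverAt (pullback.snd f g)
          ((Scheme.Modules.pullback (pullback.fst f g)).obj F) x' := by
    constructor
    · intro hall i x' _
      exact hall x'
    · intro hall x'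
      obtain ⟨i, hi⟩ := hcov (pullback.fst f g x')
      exact hall i x' ⟨hi, trivial⟩
  rw [hglob, forall_congr' hchart, hJ Γ(Spec (CommRingCat.of A'), ⊤)]
  have h2 : J.map (algebraMap (Localization.Away (eA hR)) Γ(Spec (CommRingCat.of A'), ⊤)) =
      (J.map (algebraMap (Localization.Away (eA hR)) A')).map eA'.symm.toRingHom :=
    (Ideal.map_map _ _).symm
  rw [h2]
  exact Ideal.map_eq_bot_iff_of_injective eA'.symm.injective

end Groth.Agent.S4898
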