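import Groth.Statements.S4899
import Groth.Agent.H57.ArtFam
import Groth.Agent.H57.ArtFamSch
import Groth.Agent.H57.ArtFamPrim
import Groth.Agent.H57.TensorNZD
import Groth.Agent.H8.Coh
import Groth.Agent.S2150

set_option autoImplicit false
set_option linter.style.haveILetI false
universe u
open CategoryTheory AlgebraicGeometry
open EGA43

namespace Groth.Agent.S4899

theorem primeIdealOf_congr {X : Scheme.{u}} {U : X.Opens} (hU : IsAffineOpen U) {x y : X}
    (hx : x ∈ U) (hy : y ∈ U) (h : x = y) :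
    hU.primeIdealOf ⟨x, hx⟩ = hU.primeIdealOf ⟨y, hy⟩ := by
  subst h; rfl


open CategoryTheory.Limits TensorProduct in
set_option maxHeartbeats 3200000 in
/-- Let A be an Artinian local ring, f : X ⟶ Spec A locally of finite type, F a coherent O_X-module and
x a point of X; let (u_i : A → A_i) be a family of ring homomorphisms into local rings such that an
element of A killed by every u_i is zero. Assume (ii) that the residue field k(x) is a primary
extension of the residue field of the base (every element of k(x) which is separable algebraic over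
it already lies in it; automatic when that field is separably closed), and (iii) that for every i
there is a point x' of X_i = X ×_{Spec A} Spec A_i above x and above the closed point of Spec A_i at
which the pullback of F is flat over Spec A_i. Then F is f-flat at x. -/
theorem result {A : Type u} [CommRing A]
    [IsArtinianRing A] [IsLocalRing A] {X : Scheme.{u}} (f : X ⟶ Spec (CommRingCat.of A))
    [LocallyOfFiniteType f] (F : X.Modules) (hF : Coh.IsCoh F) (x : X)
    {ι : Type u} (A' : ι → Type u) [∀ i, CommRing (A' i)] [∀ i, IsLocalRing (A' i)] (u : ∀ i, A →+* A' i)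
    (hu : ∀ a : A, (∀ i, u i a = 0) → a = 0)
    (hprim : letI := (f.residueFieldMap x).hom.toAlgebra
      ∀ a : ↑(X.residueField x), IsSeparable ↑((Spec (CommRingCat.of A)).residueField (f x)) a →
        a ∈ (f.residueFieldMap x).hom.range)
    (hflat : ∀ i : ι, ∃ x' : ↥(pullback f (Spec.map (CommRingCat.ofHom (u i)))),
      pullback.fst f (Spec.map (CommRingCat.ofHom (u i))) x' = x ∧
      pullback.snd f (Spec.map (CommRingCat.ofHom (u i))) x' = IsLocalRing.closedPoint (A' i) ∧
      FlatMod.IsFlatOverAt (pullback.snd f (Spec.map (CommRingCat.ofHom (u i))))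
        ((Scheme.Modules.pullback (pullback.fst f (Spec.map (CommRingCat.ofHom (u i))))).obj F) x') :
    FlatMod.IsFlatOverAt f F x := by
  classical
  haveI hqc : F.IsQuasicoherent := hF.1
  have hV : IsAffineOpen (⊤ : (Spec (CommRingCat.of A)).Opens) := isAffineOpen_top _
  obtain ⟨W, hW, hxW, hWV⟩ := exists_isAffineOpen_mem_and_subset (x := x)
    (U := f ⁻¹ᵁ (⊤ : (Spec (CommRingCat.of A)).Opens)) trivial
  let eA : Γ(Spec (CommRingCat.of A), ⊤) ≃+* A :=
    (Scheme.ΓSpecIso (CommRingCat.of A)).commRingCatIsoToRingEquiv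
  haveI : IsLocalRing Γ(Spec (CommRingCat.of A), ⊤) := eA.symm.isLocalRing
  haveI : IsArtinianRing Γ(Spec (CommRingCat.of A), ⊤) := eA.symm.isArtinianRing
  haveI : IsNoetherianRing Γ(Spec (CommRingCat.of A), ⊤) := inferInstance
  have hnil : IsNilpotent (IsLocalRing.maximalIdeal Γ(Spec (CommRingCat.of A), ⊤)) := by
    have h := IsArtinianRing.isNilpotent_jacobson_bot (R := Γ(Spec (CommRingCat.of A), ⊤))
    rwa [IsLocalRing.jacobson_eq_maximalIdeal ⊥ bot_ne_top] at h
  letI aRC : Algebra Γ(Spec (CommRingCat.of A), ⊤) Γ(X, W) := (f.appLE ⊤ W hWV).hom.toAlgebra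
  haveI : Algebra.FiniteType Γ(Spec (CommRingCat.of A), ⊤) Γ(X, W) := Scheme.Hom.finiteType_appLE f hV hW hWV
  haveI : IsNoetherianRing Γ(X, W) := Algebra.FiniteType.isNoetherianRing Γ(Spec (CommRingCat.of A), ⊤) Γ(X, W)
  haveI : Module.Finite Γ(X, W) Γ(F, W) := Groth.Agent.H8.finite_sections_of_isCoh F hF hW
  letI mCM := Groth.Agent.H8.moduleSectionStalk F x hxW
  haveI := Groth.Agent.H8.isLocalizedModule_germₗ F hW x hxW
  letI mRM : Module Γ(Spec (CommRingCat.of A), ⊤) (F.presheaf.stalk x) := Module.compHom _ (algebraMap Γ(Spec (CommRingCat.of A), ⊤) Γ(X, W))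
  haveI : IsScalarTower Γ(Spec (CommRingCat.of A), ⊤) Γ(X, W) (F.presheaf.stalk x) := IsScalarTower.of_algebraMap_smul fun _ _ => rfl
  letI mRP : Module Γ(Spec (CommRingCat.of A), ⊤) Γ(F, W) := Module.compHom _ (algebraMap Γ(Spec (CommRingCat.of A), ⊤) Γ(X, W))
  haveI : IsScalarTower Γ(Spec (CommRingCat.of A), ⊤) Γ(X, W) Γ(F, W) := IsScalarTower.of_algebraMap_smul fun _ _ => rfl
  have hsV : f x ∈ (⊤ : (Spec (CommRingCat.of A)).Opens) := trivial
  suffices hflatR : Module.Flat Γ(Spec (CommRingCat.of A), ⊤) (F.presheaf.stalk x) by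
    letI : Algebra Γ(Spec (CommRingCat.of A), ⊤) ((Spec (CommRingCat.of A)).presheaf.stalk (f x)) :=
      (Spec (CommRingCat.of A)).presheaf.algebra_section_stalk ⟨f x, hsV⟩
    haveI := hV.isLocalization_stalk ⟨f x, hsV⟩
    letI : Module ((Spec (CommRingCat.of A)).presheaf.stalk (f x)) (F.presheaf.stalk x) := FlatMod.moduleStalkOver f F x
    haveI : IsScalarTower Γ(Spec (CommRingCat.of A), ⊤) ((Spec (CommRingCat.of A)).presheaf.stalk (f x)) (F.presheaf.stalk x) :=
      IsScalarTower.of_algebraMap_smul fun r m => by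
        change (f.stalkMap x).hom ((Spec (CommRingCat.of A)).presheaf.germ ⊤ (f x) hsV r) • m =
          X.presheaf.germ W x hxW ((f.appLE ⊤ W hWV).hom r) • m
        rw [Groth.Agent.H57.stalkMap_germ_appLE f hWV x hxW r]
    exact (Module.flat_iff_of_isLocalization ((Spec (CommRingCat.of A)).presheaf.stalk (f x))
      (hV.primeIdealOf ⟨f x, hsV⟩).asIdeal.primeCompl _).mpr hflatR
  apply Groth.Agent.H57.ArtFam.flat_of_forall_relation hnil
  intro ι₀ _ v hv s c hc i hi
  by_contra hne
  have hinjA : Function.Injective (Scheme.ΓSpecIso (CommRingCat.of A)).hom.hom := eA.injective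
  have hne' : (Scheme.ΓSpecIso (CommRingCat.of A)).hom.hom (c i) ≠ 0 := fun h =>
    hne (hinjA (by rw [h, map_zero]))
  obtain ⟨j, hj⟩ : ∃ j, u j ((Scheme.ΓSpecIso (CommRingCat.of A)).hom.hom (c i)) ≠ 0 := by
    by_contra hall
    push Not at hall
    exact hne' (hu _ hall)
  -- the chart for `j`
  let gj : Spec (CommRingCat.of (A' j)) ⟶ Spec (CommRingCat.of A) :=
    Spec.map (CommRingCat.ofHom (u j))
  have hV' : IsAffineOpen (⊤ : (Spec (CommRingCat.of (A' j))).Opens) := isAffineOpen_top _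
  let W' : (pullback f gj).Opens := pullback.fst f gj ⁻¹ᵁ W ⊓ pullback.snd f gj ⁻¹ᵁ ⊤
  have HP := IsPullback.of_hasPullback f gj
  have hV'V : (⊤ : (Spec (CommRingCat.of (A' j))).Opens) ≤ gj ⁻¹ᵁ ⊤ := le_top
  have hW'W : W' ≤ pullback.fst f gj ⁻¹ᵁ W := inf_le_left
  have hW'V' : W' ≤ pullback.snd f gj ⁻¹ᵁ ⊤ := inf_le_right
  have hW' : IsAffineOpen W' := by
    have : IsAffine (⊤ : (Spec (CommRingCat.of A)).Opens).toScheme := hV
    have : IsAffine (⊤ : (Spec (CommRingCat.of (A' j))).Opens).toScheme := hV'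
    have : IsAffine W.toScheme := hW
    exact .of_isIso (Scheme.Hom.isPullback_resLE HP hV'V hWV (rfl : W' = _)).isoPullback.hom
  have hpo := (isIso_pushoutSection_iff HP hV'V hWV (rfl : W' = _)).mp
    (isIso_pushoutSection_of_isAffineOpen HP hV'V hWV rfl hV hV' hW)
  letI aRB : Algebra Γ(Spec (CommRingCat.of A), ⊤) Γ(Spec (CommRingCat.of (A' j)), ⊤) := (gj.appLE ⊤ ⊤ hV'V).hom.toAlgebra
  letI aCE : Algebra Γ(X, W) Γ(pullback f gj, W') := ((pullback.fst f gj).appLE W W' hW'W).hom.toAlgebra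
  letI aBE : Algebra Γ(Spec (CommRingCat.of (A' j)), ⊤) Γ(pullback f gj, W') := ((pullback.snd f gj).appLE ⊤ W' hW'V').hom.toAlgebra
  letI aRE : Algebra Γ(Spec (CommRingCat.of A), ⊤) Γ(pullback f gj, W') :=
    (((pullback.fst f gj).appLE W W' hW'W).hom.comp (f.appLE ⊤ W hWV).hom).toAlgebra
  haveI t1 : IsScalarTower Γ(Spec (CommRingCat.of A), ⊤) Γ(X, W) Γ(pullback f gj, W') := .of_algebraMap_eq' rfl
  haveI t2 : IsScalarTower Γ(Spec (CommRingCat.of A), ⊤) Γ(Spec (CommRingCat.of (A' j)), ⊤) Γ(pullback f gj, W') := .of_algebraMap_eq' (by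
    change (((pullback.fst f gj).appLE W W' hW'W).hom.comp (f.appLE ⊤ W hWV).hom) =
      (((pullback.snd f gj).appLE ⊤ W' hW'V').hom.comp (gj.appLE ⊤ ⊤ hV'V).hom)
    rw [← CommRingCat.hom_comp, ← CommRingCat.hom_comp, hpo.w])
  haveI po1 : Algebra.IsPushout Γ(Spec (CommRingCat.of A), ⊤) Γ(X, W) Γ(Spec (CommRingCat.of (A' j)), ⊤) Γ(pullback f gj, W') := CommRingCat.isPushout_iff_isPushout.mp hpo
  let eB : Γ(Spec (CommRingCat.of (A' j)), ⊤) ≃+* A' j :=
    (Scheme.ΓSpecIso (CommRingCat.of (A' j))).commRingCatIsoToRingEquiv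
  haveI : IsLocalRing Γ(Spec (CommRingCat.of (A' j)), ⊤) := eB.symm.isLocalRing
  haveI : IsLocalHom (algebraMap Γ(Spec (CommRingCat.of A), ⊤) Γ(Spec (CommRingCat.of (A' j)), ⊤)) :=
    Groth.Agent.H57.ArtFam.isLocalHom_of_isNilpotent _ hnil
  have hgj : gj.appLE ⊤ ⊤ hV'V = (Scheme.ΓSpecIso (CommRingCat.of A)).hom ≫
      CommRingCat.ofHom (u j) ≫ (Scheme.ΓSpecIso (CommRingCat.of (A' j))).inv := by
    have h1 : gj.appLE ⊤ ⊤ hV'V = gj.appTop := by
      rw [Scheme.Hom.appTop, Scheme.Hom.app_eq_appLE]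
      rfl
    rw [h1, ← Category.assoc, ← Scheme.ΓSpecIso_naturality, Category.assoc, Iso.hom_inv_id,
      Category.comp_id]
  have hRB : ∀ a, algebraMap Γ(Spec (CommRingCat.of A), ⊤) Γ(Spec (CommRingCat.of (A' j)), ⊤) a =
      (Scheme.ΓSpecIso (CommRingCat.of (A' j))).inv.hom
        (u j ((Scheme.ΓSpecIso (CommRingCat.of A)).hom.hom a)) := by
    intro a
    change (gj.appLE ⊤ ⊤ hV'V).hom a = _
    rw [hgj]
    rfl
  have hinvinj : Function.Injective (Scheme.ΓSpecIso (CommRingCat.of (A' j))).inv.hom :=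
    (Scheme.ΓSpecIso (CommRingCat.of (A' j))).symm.commRingCatIsoToRingEquiv.injective
  letI hcomm : SMulCommClass Γ(X, W) Γ(Spec (CommRingCat.of (A' j)), ⊤) Γ(pullback f gj, W') := ⟨fun c b e => by
    simp only [Algebra.smul_def]; ring⟩
  letI hcommR : SMulCommClass Γ(X, W) Γ(Spec (CommRingCat.of A), ⊤) Γ(pullback f gj, W') := ⟨fun c b e => by
    simp only [Algebra.smul_def]; ring⟩
  let p : Ideal Γ(X, W) := (hW.primeIdealOf ⟨x, hxW⟩).asIdeal
  -- the point `x'` above `x` and the closed point at which the pullback is flat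
  obtain ⟨x', e1, e2, hfl'⟩ := hflat j
  have hx' : x' ∈ W' :=
    ⟨show pullback.fst f gj x' ∈ W by rw [e1]; exact hxW, trivial⟩
  have hNC : (hW'.primeIdealOf ⟨x', hx'⟩).asIdeal.comap
      (algebraMap Γ(X, W) Γ(pullback f gj, W')) = p := by
    have h := IsAffineOpen.comap_primeIdealOf_appLE W hW W' hW' hW'W hx'
    have h' := congrArg PrimeSpectrum.asIdeal h
    rw [primeIdealOf_congr hW (hW'W hx') hxW e1] at h'
    exact h'
  have hNB : (hW'.primeIdealOf ⟨x', hx'⟩).asIdeal.comap
      (algebraMap Γ(Spec (CommRingCat.of (A' j)), ⊤) Γ(pullback f gj, W')) =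
        IsLocalRing.maximalIdeal Γ(Spec (CommRingCat.of (A' j)), ⊤) := by
    have h := IsAffineOpen.comap_primeIdealOf_appLE ⊤ hV' W' hW' hW'V' hx'
    have h' := congrArg PrimeSpectrum.asIdeal h
    rw [primeIdealOf_congr hV' (hW'V' hx') trivial e2] at h'
    have hmax : (hV'.primeIdealOf ⟨IsLocalRing.closedPoint (A' j), trivial⟩).asIdeal.IsMaximal :=
      hV'.primeIdealOf_isMaximal_of_isClosed ⟨IsLocalRing.closedPoint (A' j), trivial⟩
        (IsLocalRing.isClosed_singleton_closedPoint (A' j))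
    rw [← IsLocalRing.eq_maximalIdeal hmax]
    exact h'
  have hflN := Groth.Agent.H57.ArtFamSch.flat_localizedModule_chart F (pullback.snd f gj)
      (pullback.fst f gj) hW hV' hW' hW'W hW'V' x' hx' hfl'
  -- the residue field `L₀ = κ(x)`
  letI aCL : Algebra Γ(X, W) (X.residueField x) :=
    ((X.presheaf.germ W x hxW) ≫ X.residue x).hom.toAlgebra
  have hγ : ∀ c : Γ(X, W), algebraMap Γ(X, W) (X.residueField x) c = 0 ↔ c ∈ p := by
    intro c
    letI := X.presheaf.algebra_section_stalk ⟨x, hxW⟩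
    haveI := hW.isLocalization_stalk ⟨x, hxW⟩
    change IsLocalRing.residue (X.presheaf.stalk x) (X.presheaf.germ W x hxW c) = 0 ↔ _
    rw [IsLocalRing.residue_eq_zero_iff]
    exact IsLocalization.AtPrime.to_map_mem_maximal_iff (X.presheaf.stalk x) p c
  let fRL : Γ(Spec (CommRingCat.of A), ⊤) →+* X.residueField x :=
    (algebraMap Γ(X, W) (X.residueField x)).comp
      (algebraMap Γ(Spec (CommRingCat.of A), ⊤) Γ(X, W))
  haveI : IsLocalHom fRL := Groth.Agent.H57.ArtFam.isLocalHom_of_isNilpotent _ hnil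
  letI aRL : Algebra Γ(Spec (CommRingCat.of A), ⊤) (X.residueField x) := fRL.toAlgebra
  letI akL : Algebra (IsLocalRing.ResidueField Γ(Spec (CommRingCat.of A), ⊤)) (X.residueField x) :=
    (IsLocalRing.ResidueField.lift fRL).toAlgebra
  haveI tRCL : IsScalarTower Γ(Spec (CommRingCat.of A), ⊤) Γ(X, W) (X.residueField x) :=
    .of_algebraMap_eq' rfl
  haveI tRkL : IsScalarTower Γ(Spec (CommRingCat.of A), ⊤)
      (IsLocalRing.ResidueField Γ(Spec (CommRingCat.of A), ⊤)) (X.residueField x) :=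
    .of_algebraMap_eq' (IsLocalRing.ResidueField.lift_comp_residue fRL).symm
  -- transfer of the primary hypothesis
  have hprim' : ∀ α : X.residueField x,
      IsSeparable (IsLocalRing.ResidueField Γ(Spec (CommRingCat.of A), ⊤)) α →
        α ∈ Set.range (algebraMap (IsLocalRing.ResidueField Γ(Spec (CommRingCat.of A), ⊤))
          (X.residueField x)) := by
    let ι₀ : Γ(Spec (CommRingCat.of A), ⊤) →+* (Spec (CommRingCat.of A)).residueField (f x) :=
      ((Spec (CommRingCat.of A)).presheaf.germ ⊤ (f x) hsV ≫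
        (Spec (CommRingCat.of A)).residue (f x)).hom
    haveI : IsLocalHom ι₀ := Groth.Agent.H57.ArtFam.isLocalHom_of_isNilpotent _ hnil
    let ι : IsLocalRing.ResidueField Γ(Spec (CommRingCat.of A), ⊤) →+*
        (Spec (CommRingCat.of A)).residueField (f x) := IsLocalRing.ResidueField.lift ι₀
    have hcomp : (f.residueFieldMap x).hom.comp ι =
        algebraMap (IsLocalRing.ResidueField Γ(Spec (CommRingCat.of A), ⊤))
          (X.residueField x) := by
      ext r
      obtain ⟨a, rfl⟩ := IsLocalRing.residue_surjective r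
      change (f.residueFieldMap x).hom (IsLocalRing.ResidueField.lift ι₀ (IsLocalRing.residue _ a)) =
        IsLocalRing.ResidueField.lift fRL (IsLocalRing.residue _ a)
      rw [IsLocalRing.ResidueField.lift_residue_apply, IsLocalRing.ResidueField.lift_residue_apply]
      change ((Spec (CommRingCat.of A)).residue (f x) ≫ f.residueFieldMap x).hom
        ((Spec (CommRingCat.of A)).presheaf.germ ⊤ (f x) hsV a) = _
      rw [Scheme.residue_residueFieldMap]
      change (X.residue x).hom ((f.stalkMap x).hom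
        ((Spec (CommRingCat.of A)).presheaf.germ ⊤ (f x) hsV a)) = _
      rw [Groth.Agent.H57.stalkMap_germ_appLE f hWV x hxW a]
      rfl
    have hιsurj : Function.Surjective ι := by
      letI := (Spec (CommRingCat.of A)).presheaf.algebra_section_stalk ⟨f x, hsV⟩
      haveI := hV.isLocalization_stalk ⟨f x, hsV⟩
      have hunits : (hV.primeIdealOf ⟨f x, hsV⟩).asIdeal.primeCompl ≤
          IsUnit.submonoid Γ(Spec (CommRingCat.of A), ⊤) := by
        intro y hy
        haveI : (hV.primeIdealOf ⟨f x, hsV⟩).asIdeal.IsMaximal :=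
          IsArtinianRing.isMaximal_of_isPrime _
        have hq := IsLocalRing.eq_maximalIdeal (inferInstance :
          (hV.primeIdealOf ⟨f x, hsV⟩).asIdeal.IsMaximal)
        by_contra hnu
        apply hy
        change y ∈ (hV.primeIdealOf ⟨f x, hsV⟩).asIdeal
        rw [hq]
        exact (IsLocalRing.mem_maximalIdeal y).mpr hnu
      let eU := IsLocalization.atUnits Γ(Spec (CommRingCat.of A), ⊤)
        (hV.primeIdealOf ⟨f x, hsV⟩).asIdeal.primeCompl
        (S := (Spec (CommRingCat.of A)).presheaf.stalk (f x)) hunits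
      intro β
      obtain ⟨σ, rfl⟩ := IsLocalRing.residue_surjective (R := (Spec (CommRingCat.of A)).presheaf.stalk (f x)) β
      obtain ⟨a, rfl⟩ := eU.surjective σ
      refine ⟨IsLocalRing.residue _ a, ?_⟩
      change IsLocalRing.ResidueField.lift ι₀ (IsLocalRing.residue _ a) = _
      rw [IsLocalRing.ResidueField.lift_residue_apply]
      have : eU a = (Spec (CommRingCat.of A)).presheaf.germ ⊤ (f x) hsV a := by
        have := eU.commutes a
        rw [Algebra.algebraMap_self, RingHom.id_apply] at this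
        exact this
      rw [this]
      rfl
    intro α hα
    letI aKS : Algebra ((Spec (CommRingCat.of A)).residueField (f x)) (X.residueField x) :=
      (f.residueFieldMap x).hom.toAlgebra
    letI akkS : Algebra (IsLocalRing.ResidueField Γ(Spec (CommRingCat.of A), ⊤))
      ((Spec (CommRingCat.of A)).residueField (f x)) := ι.toAlgebra
    haveI : IsScalarTower (IsLocalRing.ResidueField Γ(Spec (CommRingCat.of A), ⊤))
        ((Spec (CommRingCat.of A)).residueField (f x)) (X.residueField x) :=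
      .of_algebraMap_eq' hcomp.symm
    have hα' : IsSeparable ((Spec (CommRingCat.of A)).residueField (f x)) α :=
      IsSeparable.tower_top _ hα
    obtain ⟨β, hβ⟩ := hprim α hα'
    obtain ⟨β₀, rfl⟩ := hιsurj β
    refine ⟨β₀, ?_⟩
    rw [← hβ, ← hcomp]
    rfl
  have hirr := Groth.Agent.S2150.result.mpr hprim'
    (IsLocalRing.ResidueField Γ(Spec (CommRingCat.of (A' j)), ⊤))
  have hNil : ∀ τ y : IsLocalRing.ResidueField Γ(Spec (CommRingCat.of (A' j)), ⊤)
      ⊗[IsLocalRing.ResidueField Γ(Spec (CommRingCat.of A), ⊤)] (X.residueField x),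
      τ * y = 0 → y ≠ 0 → IsNilpotent τ :=
    fun τ y h hy => Groth.Agent.H57.TensorNZD.isNilpotent_of_mul_eq_zero hirr τ y h hy
  have hcore := Groth.Agent.H57.ArtFamPrim.stalk_core_prim (A := Γ(Spec (CommRingCat.of A), ⊤)) (C := Γ(X, W)) (B := Γ(Spec (CommRingCat.of (A' j)), ⊤)) (E := Γ(pullback f gj, W'))
    (P := Γ(F, W)) (P' := Γ(pullback f gj, W') ⊗[Γ(X, W)] Γ(F, W)) (L₀ := X.residueField x)
    (TensorProduct.mk Γ(X, W) Γ(pullback f gj, W') Γ(F, W) 1)
    (TensorProduct.isBaseChange Γ(X, W) Γ(F, W) Γ(pullback f gj, W')) p (Groth.Agent.H8.germₗ F x hxW)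
    hγ hNil (hW'.primeIdealOf ⟨x', hx'⟩).asIdeal hNC hNB hflN v hv ⊥ bot_ne_top s c
    (by rw [hc]; exact zero_mem _) i hi
  rw [Ideal.mem_bot, hRB] at hcore
  exact hj (hinvinj (by rw [hcore, map_zero]))

end Groth.Agent.S4899
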