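import Groth.Statements.S4901
import Groth.Agent.H57.LimInjCoker

set_option autoImplicit false
set_option linter.style.haveILetI false
universe u
open CategoryTheory AlgebraicGeometry
open EGA43

namespace Groth.Agent.S4901

open CategoryTheory.Limits in
set_option maxHeartbeats 3200000 in
/-- Let S be the limit of a cofiltered system (S_i) of schemes with affine transition morphisms, i₀ an
index, f₀ : X₀ ⟶ Y₀ a morphism locally of finite presentation of S_{i₀}-schemes, F₀ and G₀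
quasi-coherent O_{X₀}-modules of finite presentation and h₀ : F₀ ⟶ G₀ a homomorphism; let f : X ⟶ Y
and h = q^*h₀ be the base changes to S and x a point of X. Then the stalk map h_x is injective and
Coker h is f-flat at x if and only if there are an index i over i₀ and base changes f_i : X_i ⟶ Y_i,
h_i = p^*h₀ to S_i (pullback squares with the compatible morphisms X ⟶ X_i, Y ⟶ Y_i) such that
(h_i)_{x_i} is injective and Coker h_i is f_i-flat at the image x_i of x. -/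
theorem result {I : Type u} [SmallCategory I] [IsCofiltered I]
    (D : I ⥤ Scheme.{u}) (c : Limits.Cone D) (hc : Limits.IsLimit c)
    [∀ (i j : I) (φ : i ⟶ j), IsAffineHom (D.map φ)] (i₀ : I)
    {X₀ Y₀ : Scheme.{u}} (f₀ : X₀ ⟶ Y₀) (g₀ : Y₀ ⟶ D.obj i₀) [LocallyOfFinitePresentation f₀]
    (F₀ G₀ : X₀.Modules) [Coh.IsQCoh F₀] [Coh.IsQCoh G₀] (hF₀ : CohB1.IsFP F₀) (hG₀ : CohB1.IsFP G₀)
    (h₀ : F₀ ⟶ G₀)
    {X Y : Scheme.{u}} (f : X ⟶ Y) (g : Y ⟶ c.pt) (qY : Y ⟶ Y₀) (qX : X ⟶ X₀)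
    (hY : IsPullback qY g g₀ (c.π.app i₀)) (hX : IsPullback qX f f₀ qY) (x : X) :
    (Function.Injective ((TopCat.Presheaf.stalkFunctor Ab x).map
        (Scheme.Modules.Hom.mapPresheaf ((Scheme.Modules.pullback qX).map h₀))) ∧
      FlatMod.IsFlatOverAt f (cokernel ((Scheme.Modules.pullback qX).map h₀)) x) ↔
      ∃ (i : I) (φ : i ⟶ i₀) (Xi Yi : Scheme.{u}) (fi : Xi ⟶ Yi) (gi : Yi ⟶ D.obj i)
        (pY : Yi ⟶ Y₀) (pX : Xi ⟶ X₀) (vY : Y ⟶ Yi) (vX : X ⟶ Xi),
        IsPullback pY gi g₀ (D.map φ) ∧ IsPullback pX fi f₀ pY ∧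
          vY ≫ pY = qY ∧ vY ≫ gi = g ≫ c.π.app i ∧ vX ≫ pX = qX ∧ vX ≫ fi = f ≫ vY ∧
          Function.Injective ((TopCat.Presheaf.stalkFunctor Ab (vX x)).map
            (Scheme.Modules.Hom.mapPresheaf ((Scheme.Modules.pullback pX).map h₀))) ∧
          FlatMod.IsFlatOverAt fi (cokernel ((Scheme.Modules.pullback pX).map h₀)) (vX x) := by
  classical
  haveI hqcF : F₀.IsQuasicoherent := ‹Coh.IsQCoh F₀›
  haveI hqcG : G₀.IsQuasicoherent := ‹Coh.IsQCoh G₀›
  haveI hfpF : SheafOfModules.IsFinitePresentation (R := X₀.ringCatSheaf) F₀ := hF₀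
  haveI hfpG : SheafOfModules.IsFinitePresentation (R := X₀.ringCatSheaf) G₀ := hG₀
  haveI hCfp : SheafOfModules.IsFinitePresentation (R := X₀.ringCatSheaf) (cokernel h₀) :=
    Groth.Agent.H49.InjCoker.isFP_cokernel h₀ hG₀ hF₀
  constructor
  · rintro ⟨hinj, hfl⟩
    obtain ⟨k, hk1, hk2⟩ := Groth.Agent.H57.LimInjCoker.exists_inj_cokerFlat_stage D c hc i₀ f₀ g₀
      f g qY qX hY hX hF₀ hG₀ h₀ x hinj hfl
    exact ⟨k.left, k.hom ≫ 𝟙 i₀, _, _, Groth.Agent.H24.pbRel D (𝟙 i₀) f₀ g₀ k,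
      pullback.snd g₀ _, pullback.fst g₀ _, pullback.fst (f₀ ≫ g₀) _,
      Groth.Agent.H24.pbLift D (𝟙 i₀) g₀ c qY g hY.w k,
      Groth.Agent.H24.pbLift D (𝟙 i₀) (f₀ ≫ g₀) c qX (f ≫ g) (hX.paste_vert hY).w k,
      IsPullback.of_hasPullback _ _, Groth.Agent.H24.isPullback_pbRel D (𝟙 i₀) f₀ g₀ k,
      Groth.Agent.H24.pbLift_fst D (𝟙 i₀) g₀ c qY g hY.w k,
      Groth.Agent.H24.pbLift_snd D (𝟙 i₀) g₀ c qY g hY.w k,
      Groth.Agent.H24.pbLift_fst D (𝟙 i₀) (f₀ ≫ g₀) c qX (f ≫ g) (hX.paste_vert hY).w k,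
      Groth.Agent.H24.pbLift_pbRel D (𝟙 i₀) f₀ g₀ c f g qY qX hY hX k, hk1, hk2⟩
  · rintro ⟨i, φ, Xi, Yi, fi, gi, pY, pX, vY, vX, hYi, hXi, h1, h2, h3, h4, hinj, hfl⟩
    obtain ⟨rX, rY, hsq, hrX, hrY, hrY2⟩ := Groth.Agent.H24.exists_isPullback_of_stage D c i₀ f₀
      g₀ f g qY qX hY hX φ fi gi pY pX hYi hXi
    have eY : vY = rY := hYi.hom_ext (h1.trans hrY.symm) (h2.trans hrY2.symm)
    have eX : vX = rX := hXi.hom_ext (h3.trans hrX.symm) (by rw [h4, eY, hsq.w])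
    subst eY eX
    haveI : LocallyOfFinitePresentation fi :=
      MorphismProperty.of_isPullback (P := @LocallyOfFinitePresentation) hXi inferInstance
    haveI := Groth.Agent.H8.isQuasicoherent_pullback pX F₀
    haveI := Groth.Agent.H8.isQuasicoherent_pullback pX G₀
    haveI := Groth.Agent.H8.isQuasicoherent_pullback pX (cokernel h₀)
    haveI := Groth.Agent.H8.isQuasicoherent_pullback qX F₀
    haveI := Groth.Agent.H8.isQuasicoherent_pullback qX G₀
    haveI := Groth.Agent.H8.isQuasicoherent_pullback qX (cokernel h₀)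
    have pFi : CohB1.IsFP ((Scheme.Modules.pullback pX).obj F₀) :=
      Groth.Agent.H24.ModLimIso.isFinitePresentation_pullback pX F₀
    have pGi : CohB1.IsFP ((Scheme.Modules.pullback pX).obj G₀) :=
      Groth.Agent.H24.ModLimIso.isFinitePresentation_pullback pX G₀
    constructor
    · have h5 := Groth.Agent.H57.LimInjCoker.stalkMap_injective_pullback_of_isPullback fi f vX vY
        hsq pFi pGi ((Scheme.Modules.pullback pX).map h₀) x hinj hfl
      exact (Groth.Agent.H57.LimInjCoker.stalkMap_injective_pullback_comp_iff vX pX qX h3 h₀ x).mp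
        h5
    · have h6 : FlatMod.IsFlatOverAt fi ((Scheme.Modules.pullback pX).obj (cokernel h₀)) (vX x) :=
        Groth.Agent.H57.isFlatOverAt_of_iso fi
          (Groth.Agent.H57.LimInjCoker.cokerPullbackIso pX h₀).symm _ hfl
      have h7 := Groth.Agent.H57.isFlatOverAt_pullback_of_isPullback fi f vX vY hsq (cokernel h₀)
        pX qX h3 x h6
      exact Groth.Agent.H57.isFlatOverAt_of_iso f
        (Groth.Agent.H57.LimInjCoker.cokerPullbackIso qX h₀) x h7

end Groth.Agent.S4901
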