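import Groth.Statements.S4902
import Groth.Agent.H57.ArtFam
import Groth.Agent.H57.ArtFamLocA
import Groth.Agent.H57.ArtFamSch
import Groth.Agent.H57.ArtFamPrim
import Groth.Agent.H57.ArtFamPrimA
import Groth.Agent.H57.TensorNZD
import Groth.Agent.H8.Coh
import Groth.Agent.S2150

set_option autoImplicit false
set_option linter.style.haveILetI false
universe u
open CategoryTheory AlgebraicGeometry
open EGA43

namespace Groth.Agent.S4902

theorem primeIdealOf_congr {X : Scheme.{u}} {U : X.Opens} (hU : IsAffineOpen U) {x y : X}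
    (hx : x ∈ U) (hy : y ∈ U) (h : x = y) :
    hU.primeIdealOf ⟨x, hx⟩ = hU.primeIdealOf ⟨y, hy⟩ := by
  subst h; rfl

open CategoryTheory.Limits TensorProduct in
set_option maxHeartbeats 3200000 in
/-- The scheme-level relation lemma: a relation in the stalk `F_x` with coefficients in
`φ⁻¹(𝔟)·F_x` has coefficients in `φ⁻¹(𝔟)`. -/
theorem rel_of_flat_prim {X Y : Scheme.{u}} [IsLocallyNoetherian Y] (f : X ⟶ Y) [LocallyOfFiniteType f]
    (F : X.Modules) (hF : Coh.IsCoh F) (x : X) (A' : Type u) [CommRing A'] [IsLocalRing A']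
    (φ : (Y.presheaf.stalk (f x) : Type u) →+* A') [IsLocalHom φ]
    (hprim : letI := (f.residueFieldMap x).hom.toAlgebra
      ∀ a : ↑(X.residueField x), IsSeparable ↑(Y.residueField (f x)) a → a ∈ (f.residueFieldMap x).hom.range)
    (hflat : ∃ (x' : ↥(pullback f (Spec.map (CommRingCat.ofHom φ) ≫ Y.fromSpecStalk (f x)))),
      pullback.fst f (Spec.map (CommRingCat.ofHom φ) ≫ Y.fromSpecStalk (f x)) x' = x ∧
      pullback.snd f (Spec.map (CommRingCat.ofHom φ) ≫ Y.fromSpecStalk (f x)) x' = IsLocalRing.closedPoint A' ∧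
      FlatMod.IsFlatOverAt (pullback.snd f (Spec.map (CommRingCat.ofHom φ) ≫ Y.fromSpecStalk (f x)))
        ((Scheme.Modules.pullback (pullback.fst f (Spec.map (CommRingCat.ofHom φ) ≫ Y.fromSpecStalk (f x)))).obj F) x')
    {ι₀ : Type u} [Finite ι₀] (v : ι₀ → F.presheaf.stalk x)
    (hv : letI := FlatMod.moduleStalkOver f F x
      ∀ (s : Finset ι₀) (a : ι₀ → Y.presheaf.stalk (f x)),
      ∑ i ∈ s, a i • v i ∈ (IsLocalRing.maximalIdeal (Y.presheaf.stalk (f x)) • ⊤ :
        Submodule (Y.presheaf.stalk (f x)) (F.presheaf.stalk x)) →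
        ∀ i ∈ s, a i ∈ IsLocalRing.maximalIdeal (Y.presheaf.stalk (f x)))
    (𝔟 : Ideal A') (h𝔟 : 𝔟 ≠ ⊤) (s : Finset ι₀) (c : ι₀ → Y.presheaf.stalk (f x))
    (hc : letI := FlatMod.moduleStalkOver f F x
      ∑ i ∈ s, c i • v i ∈ ((𝔟.comap φ) • ⊤ :
        Submodule (Y.presheaf.stalk (f x)) (F.presheaf.stalk x))) :
    ∀ i ∈ s, φ (c i) ∈ 𝔟 := by
  classical
  haveI hqc : F.IsQuasicoherent := hF.1
  obtain ⟨V, hV, hyV, -⟩ := exists_isAffineOpen_mem_and_subset (x := f x)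
    (U := (⊤ : Y.Opens)) trivial
  obtain ⟨W, hW, hxW, hWV⟩ := exists_isAffineOpen_mem_and_subset (x := x)
    (U := f ⁻¹ᵁ V) hyV
  have hV' : IsAffineOpen (⊤ : (Spec (CommRingCat.of A')).Opens) := isAffineOpen_top _
  have hV'V : (⊤ : (Spec (CommRingCat.of A')).Opens) ≤ (Spec.map (CommRingCat.ofHom φ) ≫ Y.fromSpecStalk (f x)) ⁻¹ᵁ V := by
    intro z _
    show (Spec.map (CommRingCat.ofHom φ) ≫ Y.fromSpecStalk (f x)) z ∈ V
    have hz : (Spec.map (CommRingCat.ofHom φ) ≫ Y.fromSpecStalk (f x)) z ⤳ f x := by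
      have hmem : (Spec.map (CommRingCat.ofHom φ) ≫ Y.fromSpecStalk (f x)) z ∈ Set.range (Y.fromSpecStalk (f x)) :=
        ⟨Spec.map (CommRingCat.ofHom φ) z, rfl⟩
      rwa [Scheme.range_fromSpecStalk] at hmem
    exact hz.mem_open V.isOpen hyV
  let W' : (pullback f (Spec.map (CommRingCat.ofHom φ) ≫ Y.fromSpecStalk (f x))).Opens :=
    pullback.fst f (Spec.map (CommRingCat.ofHom φ) ≫ Y.fromSpecStalk (f x)) ⁻¹ᵁ W ⊓ pullback.snd f (Spec.map (CommRingCat.ofHom φ) ≫ Y.fromSpecStalk (f x)) ⁻¹ᵁ ⊤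
  have HP := IsPullback.of_hasPullback f (Spec.map (CommRingCat.ofHom φ) ≫ Y.fromSpecStalk (f x))
  have hW'W : W' ≤ pullback.fst f (Spec.map (CommRingCat.ofHom φ) ≫ Y.fromSpecStalk (f x)) ⁻¹ᵁ W := inf_le_left
  have hW'V' : W' ≤ pullback.snd f (Spec.map (CommRingCat.ofHom φ) ≫ Y.fromSpecStalk (f x)) ⁻¹ᵁ ⊤ := inf_le_right
  have hW' : IsAffineOpen W' := by
    have : IsAffine V.toScheme := hV
    have : IsAffine (⊤ : (Spec (CommRingCat.of A')).Opens).toScheme := hV'
    have : IsAffine W.toScheme := hW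
    exact .of_isIso (Scheme.Hom.isPullback_resLE HP hV'V hWV (rfl : W' = _)).isoPullback.hom
  have hpo := (isIso_pushoutSection_iff HP hV'V hWV (rfl : W' = _)).mp
    (isIso_pushoutSection_of_isAffineOpen HP hV'V hWV rfl hV hV' hW)
  haveI : IsNoetherianRing Γ(Y, V) := IsLocallyNoetherian.component_noetherian ⟨V, hV⟩
  letI aRC : Algebra Γ(Y, V) Γ(X, W) := (f.appLE V W hWV).hom.toAlgebra
  haveI : Algebra.FiniteType Γ(Y, V) Γ(X, W) := Scheme.Hom.finiteType_appLE f hV hW hWV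
  haveI : IsNoetherianRing Γ(X, W) := Algebra.FiniteType.isNoetherianRing Γ(Y, V) Γ(X, W)
  haveI : Module.Finite Γ(X, W) Γ(F, W) := Groth.Agent.H8.finite_sections_of_isCoh F hF hW
  letI aRB : Algebra Γ(Y, V) Γ(Spec (CommRingCat.of A'), ⊤) := ((Spec.map (CommRingCat.ofHom φ) ≫ Y.fromSpecStalk (f x)).appLE V ⊤ hV'V).hom.toAlgebra
  letI aCE : Algebra Γ(X, W) Γ(pullback f (Spec.map (CommRingCat.ofHom φ) ≫ Y.fromSpecStalk (f x)), W') := ((pullback.fst f (Spec.map (CommRingCat.ofHom φ) ≫ Y.fromSpecStalk (f x))).appLE W W' hW'W).hom.toAlgebra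
  letI aBE : Algebra Γ(Spec (CommRingCat.of A'), ⊤) Γ(pullback f (Spec.map (CommRingCat.ofHom φ) ≫ Y.fromSpecStalk (f x)), W') := ((pullback.snd f (Spec.map (CommRingCat.ofHom φ) ≫ Y.fromSpecStalk (f x))).appLE ⊤ W' hW'V').hom.toAlgebra
  letI aRE : Algebra Γ(Y, V) Γ(pullback f (Spec.map (CommRingCat.ofHom φ) ≫ Y.fromSpecStalk (f x)), W') :=
    (((pullback.fst f (Spec.map (CommRingCat.ofHom φ) ≫ Y.fromSpecStalk (f x))).appLE W W' hW'W).hom.comp (f.appLE V W hWV).hom).toAlgebra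
  haveI t1 : IsScalarTower Γ(Y, V) Γ(X, W) Γ(pullback f (Spec.map (CommRingCat.ofHom φ) ≫ Y.fromSpecStalk (f x)), W') := .of_algebraMap_eq' rfl
  haveI t2 : IsScalarTower Γ(Y, V) Γ(Spec (CommRingCat.of A'), ⊤) Γ(pullback f (Spec.map (CommRingCat.ofHom φ) ≫ Y.fromSpecStalk (f x)), W') := .of_algebraMap_eq' (by
    change (((pullback.fst f (Spec.map (CommRingCat.ofHom φ) ≫ Y.fromSpecStalk (f x))).appLE W W' hW'W).hom.comp (f.appLE V W hWV).hom) =
      (((pullback.snd f (Spec.map (CommRingCat.ofHom φ) ≫ Y.fromSpecStalk (f x))).appLE ⊤ W' hW'V').hom.comp ((Spec.map (CommRingCat.ofHom φ) ≫ Y.fromSpecStalk (f x)).appLE V ⊤ hV'V).hom)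
    rw [← CommRingCat.hom_comp, ← CommRingCat.hom_comp, hpo.w])
  haveI po1 : Algebra.IsPushout Γ(Y, V) Γ(X, W) Γ(Spec (CommRingCat.of A'), ⊤) Γ(pullback f (Spec.map (CommRingCat.ofHom φ) ≫ Y.fromSpecStalk (f x)), W') := CommRingCat.isPushout_iff_isPushout.mp hpo
  let eB : Γ(Spec (CommRingCat.of A'), ⊤) ≃+* A' := (Scheme.ΓSpecIso (CommRingCat.of A')).commRingCatIsoToRingEquiv
  haveI : IsLocalRing Γ(Spec (CommRingCat.of A'), ⊤) := eB.symm.isLocalRing
  -- stalks
  letI aRA₀ : Algebra Γ(Y, V) (Y.presheaf.stalk (f x)) := Y.presheaf.algebra_section_stalk ⟨f x, hyV⟩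
  haveI locA₀ := hV.isLocalization_stalk ⟨f x, hyV⟩
  letI aCSx : Algebra Γ(X, W) (X.presheaf.stalk x) := X.presheaf.algebra_section_stalk ⟨x, hxW⟩
  haveI locSx := hW.isLocalization_stalk ⟨x, hxW⟩
  letI aA₀Sx : Algebra (Y.presheaf.stalk (f x)) (X.presheaf.stalk x) := (f.stalkMap x).hom.toAlgebra
  letI aRSx : Algebra Γ(Y, V) (X.presheaf.stalk x) := ((algebraMap Γ(X, W) (X.presheaf.stalk x)).comp (algebraMap Γ(Y, V) Γ(X, W))).toAlgebra
  haveI tRCSx : IsScalarTower Γ(Y, V) Γ(X, W) (X.presheaf.stalk x) := .of_algebraMap_eq' rfl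
  haveI tRA₀Sx : IsScalarTower Γ(Y, V) (Y.presheaf.stalk (f x)) (X.presheaf.stalk x) := .of_algebraMap_eq (fun r =>
    (Groth.Agent.H57.stalkMap_germ_appLE f hWV x hxW r).symm)
  -- `A₀ → B`
  letI aA₀B : Algebra (Y.presheaf.stalk (f x)) Γ(Spec (CommRingCat.of A'), ⊤) :=
    ((Scheme.ΓSpecIso (CommRingCat.of A')).inv.hom.comp φ).toAlgebra
  have hstar : (Spec.map (CommRingCat.ofHom φ) ≫ Y.fromSpecStalk (f x)).appLE V ⊤ hV'V = Y.presheaf.germ V (f x) hyV ≫ CommRingCat.ofHom φ ≫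
      (Scheme.ΓSpecIso (CommRingCat.of A')).inv := by
    rw [Scheme.Hom.comp_appLE, Scheme.fromSpecStalk_app hyV, Category.assoc, Category.assoc]
    erw [Scheme.Hom.map_appLE]
    have h1 : (Spec.map (CommRingCat.ofHom φ)).appLE ⊤ ⊤ le_top =
        (Spec.map (CommRingCat.ofHom φ)).appTop := by
      rw [Scheme.Hom.appTop, Scheme.Hom.app_eq_appLE]
      rfl
    have h2 := Scheme.ΓSpecIso_inv_naturality (CommRingCat.ofHom φ)
    congr 1
    rw [h1]
    exact h2.symm
  haveI tRA₀B : IsScalarTower Γ(Y, V) (Y.presheaf.stalk (f x)) Γ(Spec (CommRingCat.of A'), ⊤) := .of_algebraMap_eq (fun r => by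
    change ((Spec.map (CommRingCat.ofHom φ) ≫ Y.fromSpecStalk (f x)).appLE V ⊤ hV'V).hom r = _
    rw [hstar]
    rfl)
  haveI hlocB : IsLocalHom (algebraMap (Y.presheaf.stalk (f x)) Γ(Spec (CommRingCat.of A'), ⊤)) := by
    refine ⟨fun a ha => ?_⟩
    have h1 : IsUnit (eB ((Scheme.ΓSpecIso (CommRingCat.of A')).inv.hom (φ a))) := ha.map eB
    have h2 : eB ((Scheme.ΓSpecIso (CommRingCat.of A')).inv.hom (φ a)) = φ a :=
      eB.apply_symm_apply (φ a)
    rw [h2] at h1
    exact isUnit_of_map_unit φ a h1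
  -- modules
  letI mCM := Groth.Agent.H8.moduleSectionStalk F x hxW
  haveI tCSxM := Groth.Agent.H8.isScalarTower_sectionStalk F x hxW
  haveI := Groth.Agent.H8.isLocalizedModule_germₗ F hW x hxW
  letI mA₀M : Module (Y.presheaf.stalk (f x)) (F.presheaf.stalk x) := FlatMod.moduleStalkOver f F x
  haveI tA₀SxM : IsScalarTower (Y.presheaf.stalk (f x)) (X.presheaf.stalk x) (F.presheaf.stalk x) := IsScalarTower.of_algebraMap_smul fun _ _ => rfl
  let p : Ideal Γ(X, W) := (hW.primeIdealOf ⟨x, hxW⟩).asIdeal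
  let 𝔭 : Ideal Γ(Y, V) := (hV.primeIdealOf ⟨f x, hyV⟩).asIdeal
  have hp𝔭 : p.comap (algebraMap Γ(Y, V) Γ(X, W)) = 𝔭 :=
    congrArg PrimeSpectrum.asIdeal (IsAffineOpen.comap_primeIdealOf_appLE V hV W hW hWV hxW)
  letI hcomm : SMulCommClass Γ(X, W) Γ(Spec (CommRingCat.of A'), ⊤) Γ(pullback f (Spec.map (CommRingCat.ofHom φ) ≫ Y.fromSpecStalk (f x)), W') := ⟨fun c b e => by
    simp only [Algebra.smul_def]; ring⟩
  -- the point `x'` above `x` and the closed point at which the pullback is flat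
  obtain ⟨x', e1, e2, hfl'⟩ := hflat
  have hx' : x' ∈ W' :=
    ⟨show pullback.fst f (Spec.map (CommRingCat.ofHom φ) ≫ Y.fromSpecStalk (f x)) x' ∈ W by rw [e1]; exact hxW, trivial⟩
  have hNC : (hW'.primeIdealOf ⟨x', hx'⟩).asIdeal.comap
      (algebraMap Γ(X, W) Γ(pullback f (Spec.map (CommRingCat.ofHom φ) ≫ Y.fromSpecStalk (f x)), W')) = p := by
    have h := IsAffineOpen.comap_primeIdealOf_appLE W hW W' hW' hW'W hx'
    have h' := congrArg PrimeSpectrum.asIdeal h
    rw [primeIdealOf_congr hW (hW'W hx') hxW e1] at h'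
    exact h'
  have hNB : (hW'.primeIdealOf ⟨x', hx'⟩).asIdeal.comap
      (algebraMap Γ(Spec (CommRingCat.of A'), ⊤) Γ(pullback f (Spec.map (CommRingCat.ofHom φ) ≫ Y.fromSpecStalk (f x)), W')) =
        IsLocalRing.maximalIdeal Γ(Spec (CommRingCat.of A'), ⊤) := by
    have h := IsAffineOpen.comap_primeIdealOf_appLE ⊤ hV' W' hW' hW'V' hx'
    have h' := congrArg PrimeSpectrum.asIdeal h
    rw [primeIdealOf_congr hV' (hW'V' hx') trivial e2] at h'
    have hmax : (hV'.primeIdealOf ⟨IsLocalRing.closedPoint A', trivial⟩).asIdeal.IsMaximal :=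
      hV'.primeIdealOf_isMaximal_of_isClosed ⟨IsLocalRing.closedPoint A', trivial⟩
        (IsLocalRing.isClosed_singleton_closedPoint A')
    rw [← IsLocalRing.eq_maximalIdeal hmax]
    exact h'
  have hflN := Groth.Agent.H57.ArtFamSch.flat_localizedModule_chart F (pullback.snd f (Spec.map (CommRingCat.ofHom φ) ≫ Y.fromSpecStalk (f x)))
      (pullback.fst f (Spec.map (CommRingCat.ofHom φ) ≫ Y.fromSpecStalk (f x))) hW hV' hW' hW'W hW'V' x' hx' hfl'
  -- the residue field `L₀ = κ(x)`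
  letI aCL : Algebra Γ(X, W) (X.residueField x) :=
    ((X.presheaf.germ W x hxW) ≫ X.residue x).hom.toAlgebra
  have hγ : ∀ c : Γ(X, W), algebraMap Γ(X, W) (X.residueField x) c = 0 ↔ c ∈ p := by
    intro c
    change IsLocalRing.residue (X.presheaf.stalk x) (X.presheaf.germ W x hxW c) = 0 ↔ _
    rw [IsLocalRing.residue_eq_zero_iff]
    exact IsLocalization.AtPrime.to_map_mem_maximal_iff (X.presheaf.stalk x) p c
  letI akL : Algebra (IsLocalRing.ResidueField (Y.presheaf.stalk (f x))) (X.residueField x) :=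
    (f.residueFieldMap x).hom.toAlgebra
  letI aA₀L : Algebra (Y.presheaf.stalk (f x)) (X.residueField x) :=
    ((f.residueFieldMap x).hom.comp (IsLocalRing.residue (Y.presheaf.stalk (f x)))).toAlgebra
  haveI tA₀kL : IsScalarTower (Y.presheaf.stalk (f x))
      (IsLocalRing.ResidueField (Y.presheaf.stalk (f x))) (X.residueField x) :=
    .of_algebraMap_eq' rfl
  letI aRL : Algebra Γ(Y, V) (X.residueField x) :=
    ((algebraMap Γ(X, W) (X.residueField x)).comp (algebraMap Γ(Y, V) Γ(X, W))).toAlgebra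
  haveI tRCL : IsScalarTower Γ(Y, V) Γ(X, W) (X.residueField x) := .of_algebraMap_eq' rfl
  haveI tRA₀L : IsScalarTower Γ(Y, V) (Y.presheaf.stalk (f x)) (X.residueField x) :=
    .of_algebraMap_eq (fun r => by
      change (X.residue x).hom (X.presheaf.germ W x hxW ((f.appLE V W hWV).hom r)) =
        (Y.residue (f x) ≫ f.residueFieldMap x).hom (Y.presheaf.germ V (f x) hyV r)
      rw [Scheme.residue_residueFieldMap]
      change _ = (X.residue x).hom ((f.stalkMap x).hom (Y.presheaf.germ V (f x) hyV r))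
      rw [Groth.Agent.H57.stalkMap_germ_appLE f hWV x hxW r])
  have hprim' : ∀ α : X.residueField x,
      IsSeparable (IsLocalRing.ResidueField (Y.presheaf.stalk (f x))) α →
        α ∈ Set.range (algebraMap (IsLocalRing.ResidueField (Y.presheaf.stalk (f x)))
          (X.residueField x)) := by
    intro α hα
    obtain ⟨β, hβ⟩ := hprim α hα
    exact ⟨β, hβ⟩
  have hirr := Groth.Agent.S2150.result.mpr hprim'
    (IsLocalRing.ResidueField Γ(Spec (CommRingCat.of A'), ⊤))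
  have hNil : ∀ τ y : IsLocalRing.ResidueField Γ(Spec (CommRingCat.of A'), ⊤)
      ⊗[IsLocalRing.ResidueField (Y.presheaf.stalk (f x))] (X.residueField x),
      τ * y = 0 → y ≠ 0 → IsNilpotent τ :=
    fun τ y h hy => Groth.Agent.H57.TensorNZD.isNilpotent_of_mul_eq_zero hirr τ y h hy
  have h𝔟' : 𝔟.comap (Scheme.ΓSpecIso (CommRingCat.of A')).hom.hom ≠ ⊤ :=
    Ideal.comap_ne_top _ h𝔟
  have hcomap : (𝔟.comap (Scheme.ΓSpecIso (CommRingCat.of A')).hom.hom).comap
      (algebraMap (Y.presheaf.stalk (f x)) Γ(Spec (CommRingCat.of A'), ⊤)) = 𝔟.comap φ := by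
    ext a
    simp only [Ideal.mem_comap]
    have h2 : (Scheme.ΓSpecIso (CommRingCat.of A')).hom.hom (algebraMap (Y.presheaf.stalk (f x)) Γ(Spec (CommRingCat.of A'), ⊤) a) = φ a :=
      eB.apply_symm_apply (φ a)
    rw [h2]
  have hcore := Groth.Agent.H57.ArtFamPrimA.stalk_core_primeA_prim (R := Γ(Y, V)) (C := Γ(X, W)) (B := Γ(Spec (CommRingCat.of A'), ⊤))
    (E := Γ(pullback f (Spec.map (CommRingCat.ofHom φ) ≫ Y.fromSpecStalk (f x)), W')) (A₀ := (Y.presheaf.stalk (f x))) 𝔭 p (P := Γ(F, W)) (L₀ := X.residueField x) (X.presheaf.stalk x) (M := (F.presheaf.stalk x)) hp𝔭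
    (Groth.Agent.H8.germₗ F x hxW) hγ hNil (hW'.primeIdealOf ⟨x', hx'⟩).asIdeal hNC hNB hflN v hv
    (𝔟.comap (Scheme.ΓSpecIso (CommRingCat.of A')).hom.hom) h𝔟' s c
    (by rw [hcomap]; exact hc)
  intro i hi
  have h := hcore i hi
  rw [Ideal.mem_comap] at h
  have h2 : (Scheme.ΓSpecIso (CommRingCat.of A')).hom.hom (algebraMap (Y.presheaf.stalk (f x)) Γ(Spec (CommRingCat.of A'), ⊤) (c i)) =
      φ (c i) := eB.apply_symm_apply (φ (c i))
  rwa [h2] at h


open CategoryTheory.Limits TensorProduct in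
set_option maxHeartbeats 3200000 in
/-- Let Y be a locally Noetherian scheme, f : X ⟶ Y locally of finite type, F a coherent O_X-module and
x a point of X with y = f x, such that k(x) is a primary extension of k(y) (every element of k(x)
separable algebraic over k(y) lies in k(y)). Let (φ_i : O_{Y,y} → A_i) be a family of local
homomorphisms into local rings such that, for every N, some finite intersection of the ideals
φ_i⁻¹(m_{A_i}^n) is contained in m_y^N; let Y_i = Spec A_i ⟶ Y be the induced Y-schemes and X_i = X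
×_Y Y_i. If for every i there is a point of X_i above x and above the closed point of Y_i at which
the pullback of F is flat over Y_i, then F is f-flat at x. -/
theorem result {X Y : Scheme.{u}} [IsLocallyNoetherian Y]
    (f : X ⟶ Y) [LocallyOfFiniteType f] (F : X.Modules) (hF : Coh.IsCoh F) (x : X)
    (hprim : letI := (f.residueFieldMap x).hom.toAlgebra
      ∀ a : ↑(X.residueField x), IsSeparable ↑(Y.residueField (f x)) a → a ∈ (f.residueFieldMap x).hom.range)
    {ι : Type u} (A : ι → Type u) [∀ i, CommRing (A i)] [∀ i, IsLocalRing (A i)]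
    (φ : ∀ i, (Y.presheaf.stalk (f x) : Type u) →+* A i) [∀ i, IsLocalHom (φ i)]
    (htop : ∀ N : ℕ, ∃ s : Finset (ι × ℕ),
      ⨅ p ∈ s, Ideal.comap (φ p.1) (IsLocalRing.maximalIdeal (A p.1) ^ p.2) ≤
        IsLocalRing.maximalIdeal ↑(Y.presheaf.stalk (f x)) ^ N) :
    letI g : ∀ i, Spec (CommRingCat.of (A i)) ⟶ Y :=
      fun i => Spec.map (CommRingCat.ofHom (φ i)) ≫ Y.fromSpecStalk (f x)
    (∀ i : ι, ∃ x' : ↥(pullback f (g i)), pullback.fst f (g i) x' = x ∧
      pullback.snd f (g i) x' = IsLocalRing.closedPoint (A i) ∧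
      FlatMod.IsFlatOverAt (pullback.snd f (g i)) ((Scheme.Modules.pullback (pullback.fst f (g i))).obj F) x') →
    FlatMod.IsFlatOverAt f F x := by
  intro hflat
  classical
  haveI hqc : F.IsQuasicoherent := hF.1
  obtain ⟨V, hV, hyV, -⟩ := exists_isAffineOpen_mem_and_subset (x := f x)
    (U := (⊤ : Y.Opens)) trivial
  obtain ⟨W, hW, hxW, hWV⟩ := exists_isAffineOpen_mem_and_subset (x := x)
    (U := f ⁻¹ᵁ V) hyV
  haveI : IsNoetherianRing Γ(Y, V) := IsLocallyNoetherian.component_noetherian ⟨V, hV⟩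
  letI aRC : Algebra Γ(Y, V) Γ(X, W) := (f.appLE V W hWV).hom.toAlgebra
  haveI : Algebra.FiniteType Γ(Y, V) Γ(X, W) := Scheme.Hom.finiteType_appLE f hV hW hWV
  haveI : IsNoetherianRing Γ(X, W) := Algebra.FiniteType.isNoetherianRing Γ(Y, V) Γ(X, W)
  haveI : Module.Finite Γ(X, W) Γ(F, W) := Groth.Agent.H8.finite_sections_of_isCoh F hF hW
  letI aCSx : Algebra Γ(X, W) (X.presheaf.stalk x) := X.presheaf.algebra_section_stalk ⟨x, hxW⟩
  haveI locSx := hW.isLocalization_stalk ⟨x, hxW⟩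
  haveI : IsNoetherianRing (X.presheaf.stalk x) :=
    IsLocalization.isNoetherianRing (hW.primeIdealOf ⟨x, hxW⟩).asIdeal.primeCompl (X.presheaf.stalk x)
      inferInstance
  letI mCM := Groth.Agent.H8.moduleSectionStalk F x hxW
  haveI tCSxM := Groth.Agent.H8.isScalarTower_sectionStalk F x hxW
  haveI := Groth.Agent.H8.isLocalizedModule_germₗ F hW x hxW
  haveI : Module.Finite (X.presheaf.stalk x) (F.presheaf.stalk x) :=
    Module.Finite.of_isLocalizedModule (hW.primeIdealOf ⟨x, hxW⟩).asIdeal.primeCompl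
      (Groth.Agent.H8.germₗ F x hxW)
  letI aA₀Sx : Algebra (Y.presheaf.stalk (f x)) (X.presheaf.stalk x) := (f.stalkMap x).hom.toAlgebra
  letI mA₀M : Module (Y.presheaf.stalk (f x)) (F.presheaf.stalk x) := FlatMod.moduleStalkOver f F x
  haveI tA₀SxM : IsScalarTower (Y.presheaf.stalk (f x)) (X.presheaf.stalk x) (F.presheaf.stalk x) := IsScalarTower.of_algebraMap_smul fun _ _ => rfl
  haveI hlocst : IsLocalHom (algebraMap (Y.presheaf.stalk (f x)) (X.presheaf.stalk x)) := by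
    rw [RingHom.algebraMap_toAlgebra]; infer_instance
  have hI : (IsLocalRing.maximalIdeal (Y.presheaf.stalk (f x))).map (algebraMap (Y.presheaf.stalk (f x)) (X.presheaf.stalk x)) ≤ Ideal.jacobson ⊥ := by
    rw [IsLocalRing.jacobson_eq_maximalIdeal ⊥ bot_ne_top]
    exact ((IsLocalRing.local_hom_TFAE (algebraMap (Y.presheaf.stalk (f x)) (X.presheaf.stalk x))).out 0 2).mp hlocst
  show Module.Flat (Y.presheaf.stalk (f x)) (F.presheaf.stalk x)
  refine Groth.Agent.H57.ArtFamLocA.flat_of_forall_exists_ideal (S := (X.presheaf.stalk x)) hI (fun k => ?_)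
  obtain ⟨s, hs⟩ := htop k
  refine ⟨⨅ p ∈ s, Ideal.comap (φ p.1) (IsLocalRing.maximalIdeal (A p.1) ^ p.2),
    s.sup Prod.snd, hs, ?_, ?_⟩
  · refine le_iInf₂ fun p hp => ?_
    have h1 : IsLocalRing.maximalIdeal (Y.presheaf.stalk (f x)) ^ (s.sup Prod.snd) ≤
        IsLocalRing.maximalIdeal (Y.presheaf.stalk (f x)) ^ p.2 :=
      Ideal.pow_le_pow_right (Finset.le_sup (f := Prod.snd) hp)
    refine h1.trans ?_
    have h2 : IsLocalRing.maximalIdeal (Y.presheaf.stalk (f x)) ≤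
        (IsLocalRing.maximalIdeal (A p.1)).comap (φ p.1) :=
      ((IsLocalRing.local_hom_TFAE (φ p.1)).out 0 3).mp (inferInstance : IsLocalHom (φ p.1))
    calc IsLocalRing.maximalIdeal (Y.presheaf.stalk (f x)) ^ p.2
        ≤ ((IsLocalRing.maximalIdeal (A p.1)).comap (φ p.1)) ^ p.2 := Ideal.pow_right_mono h2 _
      _ ≤ (IsLocalRing.maximalIdeal (A p.1) ^ p.2).comap (φ p.1) := Ideal.le_comap_pow _ _
  · intro ι₀ _ v hv s' c hc i hi
    rw [Submodule.mem_iInf]
    intro p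
    rw [Submodule.mem_iInf]
    intro hp
    rw [Ideal.mem_comap]
    by_cases hn : p.2 = 0
    · rw [hn, pow_zero, Ideal.one_eq_top]
      trivial
    · refine rel_of_flat_prim f F hF x (A p.1) (φ p.1) hprim (hflat p.1) v hv
        (IsLocalRing.maximalIdeal (A p.1) ^ p.2) ?_ s' c ?_ i hi
      · intro htop'
        have h3 : IsLocalRing.maximalIdeal (A p.1) ^ p.2 ≤ IsLocalRing.maximalIdeal (A p.1) :=
          Ideal.pow_le_self hn
        rw [htop'] at h3
        exact (IsLocalRing.maximalIdeal.isMaximal _).ne_top (top_le_iff.mp h3)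
      · refine Submodule.smul_mono_left ?_ hc
        exact iInf₂_le p hp

end Groth.Agent.S4902
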