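import Groth.Statements.S4906
import Groth.Agent.H17.RegBiequi
import Groth.Agent.H8.Coh
import Groth.Agent.H23.RegularLocal
import Groth.Agent.H54.AffineDim2
import Groth.Agent.S0563
import Groth.Agent.S0604
import Groth.Agent.S0341
import Groth.Agent.S0342

set_option autoImplicit false
universe u
open CategoryTheory AlgebraicGeometry
open EGA43

namespace Groth.Agent.S4906

/-- Let X be a regular biequidimensional scheme — Noetherian, with regular local rings, of finite
dimension, with all irreducible components of dimension dim X and with dim T = dim cl{y} +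
codim(cl{y}, T) for every closed irreducible T and point y of T — and F a coherent O_X-module. Then
for every point x of the support of F one has prof(F_x) + dim cl{x} + proj.dim(F_x) = dim X, that
is, the rectified depth prof*_x(F) equals dim X − proj.dim_{O_{X,x}}(F_x). -/
theorem result (X : Scheme.{u}) [IsNoetherian X]
    (hreg : ∀ x : X, IsRegularLocalRing ↑(X.presheaf.stalk x))
    (hfin : topologicalKrullDim X < ⊤)
    (hcomp : ∀ C ∈ irreducibleComponents (X : Type u), topologicalKrullDim ↥C = topologicalKrullDim X)
    (hchain : ∀ (y : X) (T : Set X), IsClosed T → IsIrreducible T → y ∈ T →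
      topologicalKrullDim ↥T = topologicalKrullDim ↥(closure ({y} : Set X)) + topologicalKrullDim ↥{t : X | t ∈ T ∧ t ⤳ y})
    (F : X.Modules) (hF : Coh.IsCoh F) (x : X) (hx : x ∈ CohB1.support F) :
    ((LocCoh.depth ↑(X.presheaf.stalk x) ↑(F.presheaf.stalk x) : ℕ∞) : WithBot ℕ∞) +
        topologicalKrullDim ↥(closure ({x} : Set X)) +
        projectiveDimension (ModuleCat.of ↑(X.presheaf.stalk x) ↑(F.presheaf.stalk x)) =
      topologicalKrullDim X := by
  haveI := hreg x
  haveI : IsDomain (X.presheaf.stalk x) :=
    Groth.Agent.H23.isDomain_of_isRegularLocalRing (X.presheaf.stalk x)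
  haveI : Module.Finite (X.presheaf.stalk x) (F.presheaf.stalk x) :=
    Groth.Agent.H8.finite_stalk_of_isCoh F hF x
  haveI : Nontrivial (F.presheaf.stalk x) := not_subsingleton_iff_nontrivial.mp hx
  obtain ⟨T, hT, hxT, hset⟩ := Groth.Agent.H17.RegBiequi.exists_component_generizations X x
  have h1 := hchain x T (isClosed_of_mem_irreducibleComponents T hT) hT.1 hxT
  rw [hset, Groth.Agent.H17.RegBiequi.topologicalKrullDim_generizations, hcomp T hT] at h1
  have hd : ringKrullDim (X.presheaf.stalk x) =
      ((IsLocalRing.maximalIdeal (X.presheaf.stalk x)).spanFinrank : WithBot ℕ∞) :=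
    (IsRegularLocalRing.spanFinrank_maximalIdeal (R := X.presheaf.stalk x)).symm
  have hpd := Groth.Agent.S0563.result (X.presheaf.stalk x) _ hd (F.presheaf.stalk x)
  have hpdlt := projectiveDimension_lt_iff.mpr hpd
  have hpdbot : projectiveDimension
      (ModuleCat.of (X.presheaf.stalk x) (F.presheaf.stalk x)) ≠ ⊥ := by
    rw [Ne, projectiveDimension_eq_bot_iff]
    intro hz
    exact not_subsingleton (F.presheaf.stalk x) (ModuleCat.isZero_iff_subsingleton.mp hz)
  obtain ⟨e, he⟩ := Groth.Agent.H54.exists_nat_eq_of_le hpdbot hpdlt.le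
  have hAB := Groth.Agent.S0604.result (X.presheaf.stalk x) (F.presheaf.stalk x) e he
  haveI : LocCoh.IsGorensteinLocalRing (X.presheaf.stalk x) :=
    Groth.Agent.S0342.result (X.presheaf.stalk x)
  have hCM := (Groth.Agent.S0341.result (X.presheaf.stalk x)).supportDim_eq_depth
  rw [Module.supportDim_self_eq_ringKrullDim] at hCM
  rw [he, h1, hCM, hAB]
  push_cast
  ac_rfl

end Groth.Agent.S4906
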