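import Groth.Statements.S4907
import Groth.Agent.H17.PdLocus
import Groth.Agent.S4906

set_option autoImplicit false
universe u
open CategoryTheory AlgebraicGeometry
open EGA43

namespace Groth.Agent.S4907

/-- Let X be a regular biequidimensional scheme (Noetherian, regular local rings, finite dimension, all
irreducible components of dimension dim X, and dim T = dim cl{y} + codim(cl{y}, T) for every closed
irreducible T and point y of T) and F a coherent O_X-module. Then the rectified depth x ↦ prof(F_x)
+ dim cl{x} is lower semicontinuous: for every integer n the set of x with prof(F_x) + dim cl{x} ≥ n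
is open. -/
theorem result (X : Scheme.{u}) [IsNoetherian X]
    (hreg : ∀ x : X, IsRegularLocalRing ↑(X.presheaf.stalk x))
    (hfin : topologicalKrullDim X < ⊤)
    (hcomp : ∀ C ∈ irreducibleComponents (X : Type u), topologicalKrullDim ↥C = topologicalKrullDim X)
    (hchain : ∀ (y : X) (T : Set X), IsClosed T → IsIrreducible T → y ∈ T →
      topologicalKrullDim ↥T = topologicalKrullDim ↥(closure ({y} : Set X)) + topologicalKrullDim ↥{t : X | t ∈ T ∧ t ⤳ y})
    (F : X.Modules) (hF : Coh.IsCoh F) (n : ℕ) :
    IsOpen {x : X | (n : WithBot ℕ∞) ≤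
      ((LocCoh.depth ↑(X.presheaf.stalk x) ↑(F.presheaf.stalk x) : ℕ∞) : WithBot ℕ∞) +
        topologicalKrullDim ↥(closure ({x} : Set X))} := by
  classical
  rcases isEmpty_or_nonempty X with hX | hX
  · have h : ∀ s : Set X, IsOpen s := fun s => by
      rw [Set.eq_empty_of_isEmpty s]; exact isOpen_empty
    exact h _
  have hne : topologicalKrullDim X ≠ ⊥ := by
    intro h
    have h0 := Groth.Agent.H17.PdLocus.topologicalKrullDim_nonneg X
    rw [h] at h0
    exact absurd h0 (by simp)
  obtain ⟨D, hD⟩ := Groth.Agent.H17.PdLocus.exists_nat_of_ne hne hfin.ne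
  have hset : {x : X | (n : WithBot ℕ∞) ≤
      ((LocCoh.depth ↑(X.presheaf.stalk x) ↑(F.presheaf.stalk x) : ℕ∞) : WithBot ℕ∞) +
        topologicalKrullDim ↥(closure ({x} : Set X))} =
      {x : X | HasProjectiveDimensionLT
        (ModuleCat.of (X.presheaf.stalk x) (F.presheaf.stalk x)) (D + 1 - n)} := by
    ext x
    simp only [Set.mem_ofPred_eq]
    by_cases hs : Subsingleton (F.presheaf.stalk x)
    · constructor
      · intro _
        have hz : Limits.IsZero (ModuleCat.of (X.presheaf.stalk x) (F.presheaf.stalk x)) :=
          ModuleCat.isZero_of_subsingleton _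
        haveI := hz.hasProjectiveDimensionLT_zero
        exact hasProjectiveDimensionLT_of_ge _ 0 _ (Nat.zero_le _)
      · intro _
        have hdepth : LocCoh.depth (X.presheaf.stalk x) (F.presheaf.stalk x) = ⊤ := by
          unfold LocCoh.depth LocCoh.idealDepth
          rw [if_pos (Subsingleton.elim _ _)]
        rw [hdepth]
        haveI : Nonempty ↥(closure ({x} : Set X)) := ⟨⟨x, subset_closure rfl⟩⟩
        exact Groth.Agent.H17.PdLocus.natCast_le_top_add
          (Groth.Agent.H17.PdLocus.topologicalKrullDim_nonneg _) n
    · have h := Groth.Agent.S4906.result X hreg hfin hcomp hchain F hF x hs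
      rw [hD] at h
      obtain ⟨c, e, hc, he, hce⟩ := Groth.Agent.H17.PdLocus.exists_nat_of_add_eq_nat h
      rw [hc, ← projectiveDimension_lt_iff, he]
      constructor
      · intro h1
        have h2 : n ≤ c := by exact_mod_cast h1
        have h3 : e < D + 1 - n := by omega
        exact_mod_cast h3
      · intro h1
        have h2 : e < D + 1 - n := by exact_mod_cast h1
        have h3 : n ≤ c := by omega
        exact_mod_cast h3
  rw [hset]
  exact Groth.Agent.H17.PdLocus.isOpen_setOf_pdLT' F hF _

end Groth.Agent.S4907
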