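import Groth.Statements.S4912
import Groth.Agent.H21.SepMod2

set_option autoImplicit false
universe u
open CategoryTheory AlgebraicGeometry
open EGA43

namespace Groth.Agent.S4912

/-- Case Z_λ = X: let X be an Artinian scheme (Noetherian of dimension ≤ 0), u_i : F ⟶ G_i a separating
family of homomorphisms of quasi-coherent O_X-modules (a section of F over an open subset killed by
every u_i is zero) and g : X' ⟶ X a flat morphism; for instance X the spectrum of a field and g
arbitrary. Then the family (g^*u_i) on X' is separating. (The published statement allows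
homomorphisms into direct images (f_λ)_*G_λ; this row is the case Z_λ = X, to which the general case
reduces.) -/
theorem result {X X' : Scheme.{u}} [IsNoetherian X]
    (hX : topologicalKrullDim X ≤ 0) (F : X.Modules) [Coh.IsQCoh F] {ι : Type u}
    (G : ι → X.Modules) [∀ i, Coh.IsQCoh (G i)] (u : ∀ i, F ⟶ G i) (g : X' ⟶ X) [Flat g]
    (h : (∀ (V : (X).Opens) (t : ↑((F).presheaf.obj (Opposite.op V))), (∀ i, (Scheme.Modules.Hom.mapPresheaf (u i)).app (Opposite.op V) t = 0) → t = 0)) :
    (∀ (V : (X').Opens) (t : ↑(((Scheme.Modules.pullback g).obj F).presheaf.obj (Opposite.op V))), (∀ i, (Scheme.Modules.Hom.mapPresheaf ((Scheme.Modules.pullback g).map (u i))).app (Opposite.op V) t = 0) → t = 0) := by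
  intro V t ht
  refine Groth.Agent.H21.SepModSch.separating_pullback_of_ring F G u g ?_ V t ht
  intro U hU V' hV' e
  letI : Algebra Γ(X, U) Γ(X', V') := (g.appLE U V' e).hom.toAlgebra
  haveI : Module.Flat Γ(X, U) Γ(X', V') :=
    HasRingHomProperty.appLE (P := @Flat) g inferInstance ⟨U, hU⟩ ⟨V', hV'⟩ e
  haveI : IsNoetherianRing Γ(X, U) := IsLocallyNoetherian.component_noetherian ⟨U, hU⟩
  haveI : Ring.KrullDimLE 0 Γ(X, U) := Groth.Agent.H49.krullDimLE_zero_of_isAffineOpen hX hU
  intro z hz
  refine Groth.Agent.H21.SepModSch.lTensor_of_rTensor (fun i => Γ(G i, U))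
    (fun i => Groth.Agent.H21.SepModSch.appₗ (u i) U) ?_ z hz
  intro z' hz'
  refine Groth.Agent.H21.SepMod2.eq_zero_of_artinian (fun i => Γ(G i, U))
    (fun i => Groth.Agent.H21.SepModSch.appₗ (u i) U) ?_ z' hz'
  intro m hm
  exact h U m hm

end Groth.Agent.S4912
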