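import Groth.Statements.S4914
-- import your own Groth.Agent.* helpers here

set_option autoImplicit false
open CategoryTheory AlgebraicGeometry
universe u v w
open EGA43

namespace Groth.Agent.S4914

/-- Let ψ : X → Y be a continuous map, x a point of X, and (Y_i) a locally finite covering of Y by
closed subsets. If for every index i with ψ x ∈ Y_i the restriction ψ⁻¹(Y_i) → Y_i of ψ is open at
x, then ψ is open at x. -/
theorem result {α : Type u} {β : Type v} {ι : Type w} [TopologicalSpace α]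
    [TopologicalSpace β] (ψ : α → β) (hψ : Continuous ψ) (x : α) (Y : ι → Set β) (hY : LocallyFinite Y)
    (hcl : ∀ i, IsClosed (Y i)) (hcov : ⋃ i, Y i = Set.univ)
    (h : ∀ i, ∀ hi : ψ x ∈ Y i, EGA43.IsOpenAt ((Y i).restrictPreimage ψ) ⟨x, hi⟩) :
    EGA43.IsOpenAt ψ x := by
  intro U hU
  obtain ⟨N, hN, hfin⟩ := hY (ψ x)
  have key : ∀ i, ∃ W : Set β, W ∈ nhds (ψ x) ∧ W ∩ Y i ⊆ ψ '' U := by
    intro i
    by_cases hi : ψ x ∈ Y i
    · have hnb : (Subtype.val ⁻¹' U : Set (ψ ⁻¹' Y i)) ∈ nhds (⟨x, hi⟩ : ψ ⁻¹' Y i) :=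
        continuous_subtype_val.continuousAt hU
      have h2 := h i hi _ hnb
      rw [mem_nhds_subtype] at h2
      obtain ⟨W, hW, hWsub⟩ := h2
      refine ⟨W, hW, ?_⟩
      rintro y ⟨hyW, hyY⟩
      obtain ⟨⟨u, hu⟩, huU, huy⟩ := hWsub (show (⟨y, hyY⟩ : Y i) ∈ Subtype.val ⁻¹' W from hyW)
      exact ⟨u, huU, congrArg Subtype.val huy⟩
    · refine ⟨(Y i)ᶜ, (hcl i).isOpen_compl.mem_nhds hi, ?_⟩
      rintro y ⟨hy1, hy2⟩
      exact absurd hy2 hy1
  choose W hW hWsub using key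
  have hmem : N ∩ ⋂ i ∈ {i | (Y i ∩ N).Nonempty}, W i ∈ nhds (ψ x) :=
    Filter.inter_mem hN ((Filter.biInter_mem hfin).mpr fun i _ => hW i)
  refine Filter.mem_of_superset hmem ?_
  rintro y ⟨hyN, hyW⟩
  have : y ∈ ⋃ i, Y i := by rw [hcov]; trivial
  obtain ⟨i, hi⟩ := Set.mem_iUnion.mp this
  have hiF : i ∈ {i | (Y i ∩ N).Nonempty} := ⟨y, hi, hyN⟩
  exact hWsub i ⟨Set.mem_iInter₂.mp hyW i hiF, hi⟩

end Groth.Agent.S4914
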