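import Groth.Statements.S4916
-- import your own Groth.Agent.* helpers here

set_option autoImplicit false
open CategoryTheory AlgebraicGeometry
universe u v w
open EGA43

namespace Groth.Agent.S4916

/-- Let ψ : X → Y be a continuous map of topological spaces and y a point of Y. The set of points x of
the fibre ψ⁻¹(y) at which ψ is open is a closed subset of ψ⁻¹(y). -/
theorem result {α : Type u} {β : Type v} [TopologicalSpace α] [TopologicalSpace β]
    (ψ : α → β) (hψ : Continuous ψ) (y : β) :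
    IsClosed {x : ↥(ψ ⁻¹' {y}) | EGA43.IsOpenAt ψ x.1} := by
  rw [← isOpen_compl_iff, isOpen_iff_mem_nhds]
  rintro ⟨x, hx⟩ hnot
  simp only [Set.mem_compl_iff, Set.mem_setOf_eq, EGA43.IsOpenAt] at hnot
  push_neg at hnot
  obtain ⟨U, hU, hUn⟩ := hnot
  obtain ⟨U', hU'sub, hU'open, hxU'⟩ := mem_nhds_iff.mp hU
  have hmem : (Subtype.val ⁻¹' U' : Set (ψ ⁻¹' {y})) ∈ nhds (⟨x, hx⟩ : ψ ⁻¹' {y}) :=
    continuous_subtype_val.continuousAt (hU'open.mem_nhds hxU')
  refine Filter.mem_of_superset hmem ?_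
  rintro ⟨x₁, hx₁⟩ hx₁U
  simp only [Set.mem_compl_iff, Set.mem_setOf_eq, EGA43.IsOpenAt]
  push_neg
  refine ⟨U', hU'open.mem_nhds hx₁U, ?_⟩
  have e1 : ψ x₁ = y := hx₁
  have e2 : ψ x = y := hx
  rw [e1]
  rw [e2] at hUn
  intro hc
  exact hUn (Filter.mem_of_superset hc (Set.image_mono hU'sub))

end Groth.Agent.S4916
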