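import Groth.Statements.S4928
import Groth.Agent.H25.UnivOpenAt
import Groth.Agent.S3404

set_option autoImplicit false
open CategoryTheory AlgebraicGeometry
universe u v w
open EGA43

namespace Groth.Agent.S4928

open CategoryTheory.Limits in
/-- Let f : X ⟶ Y be locally of finite presentation, x a point of X, y = f x, and f₁ : X ×_Y Spec
O_{Y,y} ⟶ Spec O_{Y,y} the base change of f to the local scheme of Y at y. Then for every point x₁
of X ×_Y Spec O_{Y,y} projecting to x, f is universally open at x if and only if f₁ is universally
open at x₁. -/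
theorem result {X Y : Scheme.{u}} (f : X ⟶ Y) [LocallyOfFinitePresentation f]
    (x : X) (x₁ : ↥(pullback f (Y.fromSpecStalk (f.base x))))
    (hx₁ : (pullback.fst f (Y.fromSpecStalk (f.base x))).base x₁ = x) :
    EGA43.IsUnivOpenAt f x ↔ EGA43.IsUnivOpenAt (pullback.snd f (Y.fromSpecStalk (f.base x))) x₁ := by
  constructor
  · intro h
    exact Groth.Agent.H25.isUnivOpenAt_of_isPullback
      (IsPullback.of_hasPullback f (Y.fromSpecStalk (f.base x))) x h x₁ hx₁
  · intro h Y' g x' hx'
    have : LocallyOfFinitePresentation (pullback.snd f g) := inferInstance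
    refine ((Groth.Agent.S3404.result (pullback.snd f g) x').2 inferInstance).mpr ?_
    intro y'' hy''
    have hcond : f ((pullback.fst f g) x') = g ((pullback.snd f g) x') := by
      have := congrArg (fun φ : pullback f g ⟶ Y => φ x') (pullback.condition (f := f) (g := g))
      simpa only [Scheme.Hom.comp_apply] using this
    have hgx' : g ((pullback.snd f g) x') = f x := by
      rw [← hcond]
      exact congrArg (fun t => f t) hx'
    have hrange : ∀ t : Y', g t ⤳ f x →
        t ∈ Set.range (pullback.fst g (Y.fromSpecStalk (f.base x))) := by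
      intro t ht
      rw [Scheme.Pullback.range_fst, Set.mem_preimage, Scheme.range_fromSpecStalk]
      exact ht
    obtain ⟨y'₁, hy'₁⟩ := hrange ((pullback.snd f g) x') (by rw [hgx'])
    obtain ⟨y''₁, hy''₁⟩ := hrange y'' (by
      have := hy''.map g.continuous
      exact this.trans (specializes_of_eq hgx'))
    have hsp₁ : y''₁ ⤳ y'₁ := by
      rw [← (pullback.fst g (Y.fromSpecStalk (f.base x))).isEmbedding.isInducing.specializes_iff,
        hy'₁, hy''₁]
      exact hy''
    have sqA := IsPullback.of_hasPullback (pullback.snd f g)
      (pullback.fst g (Y.fromSpecStalk (f.base x)))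
    have sqB := IsPullback.of_hasPullback f g
    have sqC := IsPullback.of_hasPullback f (Y.fromSpecStalk (f.base x))
    have hkg : pullback.fst g (Y.fromSpecStalk (f.base x)) ≫ g =
        pullback.snd g (Y.fromSpecStalk (f.base x)) ≫ Y.fromSpecStalk (f.base x) :=
      pullback.condition
    have sqAB : IsPullback
        (pullback.fst (pullback.snd f g) (pullback.fst g (Y.fromSpecStalk (f.base x))) ≫
          pullback.fst f g)
        (pullback.snd (pullback.snd f g) (pullback.fst g (Y.fromSpecStalk (f.base x)))) f
        (pullback.snd g (Y.fromSpecStalk (f.base x)) ≫ Y.fromSpecStalk (f.base x)) := by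
      rw [← hkg]
      exact sqA.paste_horiz sqB
    let τ : pullback (pullback.snd f g) (pullback.fst g (Y.fromSpecStalk (f.base x))) ⟶
        pullback f (Y.fromSpecStalk (f.base x)) :=
      sqC.lift
        (pullback.fst (pullback.snd f g) (pullback.fst g (Y.fromSpecStalk (f.base x))) ≫
          pullback.fst f g)
        (pullback.snd (pullback.snd f g) (pullback.fst g (Y.fromSpecStalk (f.base x))) ≫
          pullback.snd g (Y.fromSpecStalk (f.base x)))
        (by rw [Category.assoc]; exact sqAB.w)
    have hτ1 : τ ≫ pullback.fst f (Y.fromSpecStalk (f.base x)) =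
        pullback.fst (pullback.snd f g) (pullback.fst g (Y.fromSpecStalk (f.base x))) ≫
          pullback.fst f g := sqC.lift_fst _ _ _
    have hτ2 : τ ≫ pullback.snd f (Y.fromSpecStalk (f.base x)) =
        pullback.snd (pullback.snd f g) (pullback.fst g (Y.fromSpecStalk (f.base x))) ≫
          pullback.snd g (Y.fromSpecStalk (f.base x)) := sqC.lift_snd _ _ _
    have sqD : IsPullback τ
        (pullback.snd (pullback.snd f g) (pullback.fst g (Y.fromSpecStalk (f.base x))))
        (pullback.snd f (Y.fromSpecStalk (f.base x)))
        (pullback.snd g (Y.fromSpecStalk (f.base x))) := by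
      refine IsPullback.of_right ?_ hτ2 sqC
      rw [hτ1]
      exact sqAB
    obtain ⟨w, hw1, hw2⟩ := Scheme.exists_preimage_of_isPullback sqA x' y'₁ hy'₁.symm
    have hτw : τ w = x₁ := by
      apply (pullback.fst f (Y.fromSpecStalk (f.base x))).isEmbedding.injective
      have := congrArg (fun φ : pullback (pullback.snd f g)
        (pullback.fst g (Y.fromSpecStalk (f.base x))) ⟶ X => φ w) hτ1
      simp only [Scheme.Hom.comp_apply] at this
      refine this.trans ?_
      refine (congrArg (fun t => (pullback.fst f g) t) hw1).trans ?_
      exact hx'.trans hx₁.symm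
    have hopen := Groth.Agent.H25.isOpenAt_of_isPullback sqD x₁ h w hτw
    obtain ⟨w'', hw''1, hw''2⟩ := (Groth.Agent.S3404.result
      (pullback.snd (pullback.snd f g) (pullback.fst g (Y.fromSpecStalk (f.base x)))) w).1 hopen
      y''₁ (hsp₁.trans (specializes_of_eq hw2.symm))
    refine ⟨(pullback.fst (pullback.snd f g) (pullback.fst g (Y.fromSpecStalk (f.base x)))) w'',
      ?_, ?_⟩
    · have := hw''1.map
        (pullback.fst (pullback.snd f g) (pullback.fst g (Y.fromSpecStalk (f.base x)))).continuous
      exact this.trans (specializes_of_eq hw1)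
    · have := congrArg (fun φ : pullback (pullback.snd f g)
        (pullback.fst g (Y.fromSpecStalk (f.base x))) ⟶ Y' => φ w'') sqA.w
      simp only [Scheme.Hom.comp_apply] at this
      refine this.trans ?_
      refine (congrArg (fun t => (pullback.fst g (Y.fromSpecStalk (f.base x))) t) hw''2).trans ?_
      exact hy''₁

end Groth.Agent.S4928
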