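import Groth.Statements.S4929
import Groth.Agent.H25.UnivOpenAt2
import Mathlib.AlgebraicGeometry.Morphisms.ClosedImmersion

set_option autoImplicit false
open CategoryTheory AlgebraicGeometry
universe u v w
open EGA43

namespace Groth.Agent.S4929

open CategoryTheory.Limits in
/-- Let f : X ⟶ Y be a morphism of schemes, x a point of X, and (Y_i ⟶ Y) a finite family of closed
immersions whose images cover Y. If for every i the base change X ×_Y Y_i ⟶ Y_i is universally open
at every point lying over x, then f is universally open at x. -/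
theorem result {X Y : Scheme.{u}} (f : X ⟶ Y) (x : X) {ι : Type w}
    [Finite ι] (T : ι → Scheme.{u}) (g : ∀ i, T i ⟶ Y) [∀ i, IsClosedImmersion (g i)]
    (hcov : ⋃ i, Set.range (g i).base = Set.univ)
    (h : ∀ i, ∀ x' : ↥(pullback f (g i)), (pullback.fst f (g i)).base x' = x →
      EGA43.IsUnivOpenAt (pullback.snd f (g i)) x') :
    EGA43.IsUnivOpenAt f x := by
  intro Y' k x' hx' U hU
  -- the closed cover of Y'
  have hclosedEmb : ∀ i, Topology.IsClosedEmbedding (pullback.snd (g i) k).base :=
    fun i => (pullback.snd (g i) k).isClosedEmbedding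
  have hcov' : ∀ y' : Y', ∃ i, y' ∈ Set.range (pullback.snd (g i) k).base := by
    intro y'
    have : k.base y' ∈ ⋃ i, Set.range (g i).base := by rw [hcov]; trivial
    obtain ⟨i, τ, hτ⟩ := Set.mem_iUnion.mp this
    obtain ⟨z, -, hz⟩ := AlgebraicGeometry.Scheme.Pullback.exists_preimage_pullback
      (f := g i) (g := k) τ y' hτ
    exact ⟨i, z, hz⟩
  have key : ∀ i, ∃ W : Set Y', IsOpen W ∧ (pullback.snd f k).base x' ∈ W ∧
      W ∩ Set.range (pullback.snd (g i) k).base ⊆ (pullback.snd f k).base '' U := by
    intro i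
    by_cases hi : (pullback.snd f k).base x' ∈ Set.range (pullback.snd (g i) k).base
    · obtain ⟨τ, hτ⟩ := hi
      obtain ⟨z, hz1, hz2⟩ := AlgebraicGeometry.Scheme.Pullback.exists_preimage_pullback
        (f := pullback.snd f k) (g := pullback.snd (g i) k) x' τ hτ.symm
      have hop := Groth.Agent.H25.isOpenAt_double_baseChange (g i) f x (h i) k x' hx' z hz1
      have hnb : (pullback.fst (pullback.snd f k) (pullback.snd (g i) k)).base ⁻¹' U ∈ nhds z := by
        apply (pullback.fst (pullback.snd f k) (pullback.snd (g i) k)).continuous.continuousAt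
        rw [hz1]; exact hU
      have h2 := hop _ hnb
      rw [hz2] at h2
      obtain ⟨V, hVsub, hVopen, hτV⟩ := mem_nhds_iff.mp h2
      obtain ⟨W, hWopen, hWV⟩ := (hclosedEmb i).isInducing.isOpen_iff.mp hVopen
      refine ⟨W, hWopen, ?_, ?_⟩
      · rw [← hτ]
        have : τ ∈ (pullback.snd (g i) k).base ⁻¹' W := by rw [hWV]; exact hτV
        exact this
      · rintro y ⟨hyW, τ', rfl⟩
        have hτ'V : τ' ∈ V := by rw [← hWV]; exact hyW
        obtain ⟨z', hz'U, hz'⟩ := hVsub hτ'V
        refine ⟨(pullback.fst (pullback.snd f k) (pullback.snd (g i) k)).base z', hz'U, ?_⟩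
        rw [← hz']
        have := congrArg (fun φ : pullback (pullback.snd f k) (pullback.snd (g i) k) ⟶ Y' => φ.base z')
          (pullback.condition (f := pullback.snd f k) (g := pullback.snd (g i) k))
        simpa using this
    · refine ⟨(Set.range (pullback.snd (g i) k).base)ᶜ, (hclosedEmb i).isClosed_range.isOpen_compl, hi, ?_⟩
      rintro y ⟨hy1, hy2⟩
      exact absurd hy2 hy1
  choose W hWopen hWmem hWsub using key
  have hopen : IsOpen (⋂ i, W i) := isOpen_iInter_of_finite hWopen
  refine Filter.mem_of_superset (hopen.mem_nhds (Set.mem_iInter.mpr hWmem)) ?_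
  intro y hy
  obtain ⟨i, hi⟩ := hcov' y
  exact hWsub i ⟨Set.mem_iInter.mp hy i, hi⟩

end Groth.Agent.S4929
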