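import Groth.Statements.S4930
import Groth.Agent.H7.UnivOpenAtDVR
import Groth.Agent.S2587

set_option autoImplicit false
open CategoryTheory AlgebraicGeometry
universe u v w
open EGA43

namespace Groth.Agent.S4930

open CategoryTheory.Limits in
/-- Let Y be a locally Noetherian scheme, f : X ⟶ Y a morphism locally of finite type and y a point of
Y. Then f is universally open at all points of the fibre over y if and only if, for every discrete
valuation ring A and every morphism g : Spec A ⟶ Y mapping the closed point to y, every irreducible
component of X ×_Y Spec A dominates Spec A. -/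
theorem result {X Y : Scheme.{u}} [IsLocallyNoetherian Y] (f : X ⟶ Y)
    [LocallyOfFiniteType f] (y : Y) :
    (∀ x : X, f.base x = y → EGA43.IsUnivOpenAt f x) ↔
      ∀ (A : Type u) [CommRing A] [IsDomain A] [IsDiscreteValuationRing A] (g : Spec (CommRingCat.of A) ⟶ Y),
        g.base (IsLocalRing.closedPoint A) = y →
        ∀ Z ∈ irreducibleComponents (↥(pullback f g) : Type u), Dense ((pullback.snd f g).base '' Z) := by
  constructor
  · intro hU A _ _ _ g hg Z hZ
    obtain ⟨ζ, hζ⟩ := QuasiSober.sober hZ.1 (isClosed_of_mem_irreducibleComponents Z hZ)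
    have key : ∃ z' ∈ Z, ((pullback.snd f g).base z').asIdeal = ⊥ := by
      by_cases hc : (pullback.snd f g).base ζ = IsLocalRing.closedPoint A
      · have hcond : f.base ((pullback.fst f g).base ζ) = g.base ((pullback.snd f g).base ζ) := by
          have := congrArg (fun φ : pullback f g ⟶ Y => φ.base ζ)
            (pullback.condition (f := f) (g := g))
          simpa only [Scheme.Hom.comp_base, TopCat.comp_app] using this
        have hfx : f.base ((pullback.fst f g).base ζ) = y := by
          rw [hcond, hc]
          exact hg
        have hUx := hU _ hfx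
        obtain ⟨z', hz', hz'ne⟩ := (Groth.Agent.S2587.result f _).mp hUx A g
          (hg.trans hfx.symm) ζ rfl hc
        have hsub : Z ≤ closure {z'} := by
          rw [← hζ.def]
          exact closure_minimal (Set.singleton_subset_iff.mpr hz'.mem_closure) isClosed_closure
        have hle : closure {z'} ≤ Z := hZ.2 isIrreducible_singleton.closure hsub
        exact ⟨z', hle (subset_closure rfl), Groth.Agent.H7.dvr_asIdeal_eq_bot _ hz'ne⟩
      · exact ⟨ζ, hζ.mem, Groth.Agent.H7.dvr_asIdeal_eq_bot _ hc⟩
    obtain ⟨z', hz'Z, hz'⟩ := key
    rw [dense_iff_closure_eq, Set.eq_univ_iff_forall]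
    intro w
    have h1 : w ∈ closure {(pullback.snd f g).base z'} := by
      have h2 : closure {(pullback.snd f g).base z'} = Set.univ := by
        refine (PrimeSpectrum.closure_singleton _).trans ?_
        rw [hz', PrimeSpectrum.zeroLocus_bot]
        rfl
      rw [h2]
      trivial
    refine closure_mono ?_ h1
    rw [Set.singleton_subset_iff]
    exact ⟨z', hz'Z, rfl⟩
  · intro h x hx
    rw [Groth.Agent.S2587.result f x]
    intro A _ _ _ g hg x' hx' hsx'
    have hZc := irreducibleComponent_mem_irreducibleComponents x'
    obtain ⟨ζ, hζ⟩ := QuasiSober.sober (isIrreducible_irreducibleComponent (x := x'))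
      (isClosed_irreducibleComponent (x := x'))
    have hdense := h A g (hg.trans hx) (irreducibleComponent x') hZc
    have hgen2 : IsGenericPoint ((pullback.snd f g).base ζ)
        (Set.univ : Set ↥(Spec (CommRingCat.of A))) := by
      have := hζ.image (pullback.snd f g).continuous
      rwa [hdense.closure_eq] at this
    refine ⟨ζ, hζ.specializes mem_irreducibleComponent, ?_⟩
    intro hc
    have hη : (show ↥(Spec (CommRingCat.of A)) from (⟨⊥, Ideal.isPrime_bot⟩ : PrimeSpectrum A)) ∈
        closure {(pullback.snd f g).base ζ} := by
      rw [hgen2.def]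
      trivial
    rw [hc] at hη
    have hle := (PrimeSpectrum.le_iff_specializes (IsLocalRing.closedPoint A)
      (⟨⊥, Ideal.isPrime_bot⟩ : PrimeSpectrum A)).mpr (specializes_iff_mem_closure.mpr hη)
    have hle' : IsLocalRing.maximalIdeal A ≤ ⊥ := hle
    exact IsDiscreteValuationRing.not_a_field A (le_bot_iff.mp hle')

end Groth.Agent.S4930
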