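import Groth.Statements.S4932
import Groth.Agent.H38.ValFibreDim2
import Groth.Agent.H9.Equidim
import Groth.Agent.H9.FibDimTarget

set_option autoImplicit false
open CategoryTheory AlgebraicGeometry
universe u v w
open EGA43

namespace Groth.Agent.S4932

/-- Let A be a valuation ring (not necessarily discrete), X an irreducible scheme and f : X ⟶ Spec A a
dominant morphism of finite type. If the fibre X_0 of f over the closed point is nonempty, then dim
X_0 = dim X_1, where X_1 is the fibre over the generic point. -/
theorem result {A : Type u} [CommRing A] [IsDomain A]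
    [ValuationRing A] {X : Scheme.{u}} [IrreducibleSpace X] (f : X ⟶ Spec (CommRingCat.of A))
    [LocallyOfFiniteType f] [QuasiCompact f] [IsDominant f]
    (h0 : Nonempty ↥(f.fiber (IsLocalRing.closedPoint A))) :
    topologicalKrullDim ↥(f.fiber (IsLocalRing.closedPoint A)) =
      topologicalKrullDim ↥(f.fiber (genericPoint (Spec (CommRingCat.of A)))) := by
  haveI : IrreducibleSpace (Spec (CommRingCat.of A)) :=
    inferInstanceAs (IrreducibleSpace (PrimeSpectrum A))
  have hgenA : genericPoint (Spec (CommRingCat.of A)) = (⊥ : PrimeSpectrum A) :=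
    genericPoint_eq_bot_of_affine (CommRingCat.of A)
  apply le_antisymm
  · refine (Groth.Agent.H9.FibDim.dim_fiber_le_iff f _ _).mpr ?_
    intro x hx
    obtain ⟨W, hW, hxW, -⟩ :=
      exists_isAffineOpen_mem_and_subset (X := X) (x := x) (U := ⊤) trivial
    have hx' : x ∈ Set.range hW.fromSpec.base := by rw [hW.range_fromSpec]; exact hxW
    obtain ⟨q, rfl⟩ := hx'
    let ψ : CommRingCat.of A ⟶ Γ(X, W) := Spec.preimage (hW.fromSpec ≫ f)
    have hψ : Spec.map ψ = hW.fromSpec ≫ f := Spec.map_preimage _
    letI : Algebra A Γ(X, W) := ψ.hom.toAlgebra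
    haveI : LocallyOfFiniteType (Spec.map ψ) := by rw [hψ]; infer_instance
    have hft : ψ.hom.FiniteType :=
      (HasRingHomProperty.Spec_iff (P := @LocallyOfFiniteType) (φ := ψ)).mp inferInstance
    haveI : Algebra.FiniteType A Γ(X, W) := hft
    -- irreducibility of the chart
    haveI : Nonempty (Spec Γ(X, W)) := ⟨q⟩
    haveI : IrreducibleSpace (Spec Γ(X, W)) := by
      haveI : PreirreducibleSpace (Spec Γ(X, W)) := by
        constructor
        have := (IrreducibleSpace.isIrreducible_univ X).isPreirreducible.preimage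
          hW.fromSpec.isOpenEmbedding
        rwa [Set.preimage_univ] at this
      exact ⟨inferInstance⟩
    have hN : (nilradical Γ(X, W)).IsPrime :=
      PrimeSpectrum.irreducibleSpace_iff_isPrime_nilradical.mp
        (inferInstanceAs (IrreducibleSpace (Spec Γ(X, W))))
    -- dominance
    have hdense : DenseRange (PrimeSpectrum.comap ψ.hom) := by
      have h0 : DenseRange hW.fromSpec.base := by
        rw [DenseRange, hW.range_fromSpec]
        exact (W.2.dense ⟨_, hxW⟩)
      have h1 : DenseRange (f.base ∘ hW.fromSpec.base) :=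
        DenseRange.comp f.denseRange h0 f.continuous
      have h2 : (f.base ∘ hW.fromSpec.base : Spec Γ(X, W) → Spec (CommRingCat.of A)) =
          (Spec.map ψ).base := by
        rw [hψ]; rfl
      rw [h2] at h1
      exact h1
    have hker := (PrimeSpectrum.denseRange_comap_iff_ker_le_nilRadical ψ.hom).mp hdense
    have hinj : ∀ r : A, algebraMap A Γ(X, W) r ∈ nilradical Γ(X, W) → r = 0 := by
      intro r hr
      obtain ⟨n, hn⟩ := hr
      have h2 : r ^ n ∈ RingHom.ker ψ.hom := by
        rw [RingHom.mem_ker, map_pow]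
        exact hn
      have h3 := hker h2
      rw [nilradical_eq_zero, Ideal.zero_eq_bot, Ideal.mem_bot] at h3
      exact IsNilpotent.eq_zero ⟨n, h3⟩
    have hfd : ∀ q' : Spec Γ(X, W), FlatMor.fibreDimAt f (hW.fromSpec.base q') =
        Groth.Agent.H9.FibDim.tfd (PrimeSpectrum.comap (algebraMap A Γ(X, W))) q' := by
      intro q'
      rw [← Groth.Agent.H9.Equidim.fibreDimAt_comp_of_isOpenImmersion,
        Groth.Agent.H9.FibDim.fibreDimAt_eq_tfd, ← hψ]
      rfl
    have hq : q.asIdeal.under A = IsLocalRing.maximalIdeal A := by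
      have h1 : (Spec.map ψ).base q = IsLocalRing.closedPoint A := by rw [hψ]; exact hx
      have h2 := congrArg PrimeSpectrum.asIdeal h1
      exact h2
    rw [hfd q]
    refine (Groth.Agent.H38.ValFibreDim.tfd_le_tfd_nilradical hN hinj q hq).trans ?_
    refine le_of_eq_of_le (hfd ⟨nilradical Γ(X, W), hN⟩).symm ?_
    have hgen : f.base (hW.fromSpec.base ⟨nilradical Γ(X, W), hN⟩) =
        genericPoint (Spec (CommRingCat.of A)) := by
      rw [hgenA]
      have h1 : (Spec.map ψ).base ⟨nilradical Γ(X, W), hN⟩ = (⊥ : PrimeSpectrum A) := by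
        apply PrimeSpectrum.ext
        show Ideal.comap ψ.hom (nilradical Γ(X, W)) = ⊥
        ext r
        rw [Ideal.mem_comap, Ideal.mem_bot]
        exact ⟨hinj r, fun h => by rw [h, map_zero]; exact zero_mem _⟩
      rw [hψ] at h1
      exact h1
    exact (Groth.Agent.H9.FibDim.dim_fiber_le_iff f _ _).mp le_rfl _ hgen
  · obtain ⟨x0⟩ := h0
    refine (Groth.Agent.H9.FibDim.dim_generic_fiber_le_fibreDimAt f
      ((f.fiberι _).base x0)).trans ?_
    refine le_of_eq_of_le (Groth.Agent.H9.FibDim.localDim_fiber f _ x0).symm ?_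
    exact Groth.Agent.H9.FibDim.localDim_le_dim _ x0
end Groth.Agent.S4932
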