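import Groth.Statements.S4935
import Mathlib

set_option autoImplicit false
universe u
open EGA43

namespace Groth.Agent.S4935

set_option linter.style.haveILetI false
set_option linter.unusedSectionVars false

section core
variable {R K L B : Type u} [CommRing R] [IsDomain R] [IsLocalRing R] [Field K] [Algebra R K]
  [IsFractionRing R K]
  [CommRing B] [IsDomain B] [Algebra R B] [Algebra.IsIntegral R B] [Field L] [Algebra B L]
  [Algebra R L] [IsScalarTower R B L] [Algebra K L] [IsScalarTower R K L]

instance towerRNL : IsScalarTower R (integralClosure R K) L :=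
  IsScalarTower.of_algebraMap_eq (fun r => by
    show algebraMap R L r = algebraMap K L (algebraMap R K r)
    exact IsScalarTower.algebraMap_apply R K L r)

theorem goingDown_core (hBL : Function.Injective (algebraMap B L))
    (hinj : Function.Injective (algebraMap R B))
    (hN : IsLocalRing (integralClosure R K))
    (n : Ideal B) [n.IsPrime] (hn : n.comap (algebraMap R B) = IsLocalRing.maximalIdeal R)
    (p : Ideal R) [p.IsPrime] :
    ∃ q : Ideal B, q.IsPrime ∧ q ≤ n ∧ q.comap (algebraMap R B) = p := by
  classical
  haveI : IsIntegrallyClosed (integralClosure R K) :=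
    integralClosure.isIntegrallyClosedOfFiniteExtension K
  haveI : FaithfulSMul (integralClosure R K) (integralClosure (integralClosure R K) L) := by
    rw [faithfulSMul_iff_algebraMap_injective]
    intro x y hxy
    have h1 : algebraMap K L (x : K) = algebraMap K L (y : K) := congrArg Subtype.val hxy
    exact Subtype.ext ((algebraMap K L).injective h1)
  haveI : Algebra.HasGoingDown (integralClosure R K) (integralClosure (integralClosure R K) L) :=
    inferInstance
  -- the map j : B → C
  have hjmem : ∀ b : B, algebraMap B L b ∈ integralClosure (integralClosure R K) L := by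
    intro b
    have h1 : IsIntegral R b := Algebra.IsIntegral.isIntegral b
    have h2 : IsIntegral R (algebraMap B L b) := h1.map (IsScalarTower.toAlgHom R B L)
    exact h2.tower_top
  let j : B →+* integralClosure (integralClosure R K) L :=
    (algebraMap B L).codRestrict (integralClosure (integralClosure R K) L) hjmem
  have hjinj : Function.Injective j := by
    intro x y hxy
    exact hBL (congrArg Subtype.val hxy)
  have hcomp : j.comp (algebraMap R B) =
      algebraMap R (integralClosure (integralClosure R K) L) := by
    ext r
    show algebraMap B L (algebraMap R B r) = algebraMap R L r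
    exact (IsScalarTower.algebraMap_apply R B L r).symm
  have hcomp2 : (algebraMap (integralClosure R K) (integralClosure (integralClosure R K) L)).comp
      (algebraMap R (integralClosure R K)) =
      algebraMap R (integralClosure (integralClosure R K) L) :=
    (IsScalarTower.algebraMap_eq R (integralClosure R K) _).symm
  haveI : Algebra.IsIntegral R (integralClosure (integralClosure R K) L) :=
    Algebra.IsIntegral.trans (integralClosure R K)
  have hjint : j.IsIntegral := by
    apply RingHom.IsIntegral.tower_top (algebraMap R B) j
    rw [hcomp]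
    exact algebraMap_isIntegral_iff.mpr inferInstance
  -- lying over for j
  obtain ⟨⟨n', hn'prime⟩, hn'⟩ := hjint.comap_surjective hjinj ⟨n, inferInstance⟩
  have hn'eq : n'.comap j = n := congrArg PrimeSpectrum.asIdeal hn'
  haveI := hn'prime
  -- the prime of N under n'
  let m' : Ideal (integralClosure R K) := n'.under (integralClosure R K)
  haveI : m'.IsPrime := inferInstance
  have hm'R : m'.comap (algebraMap R (integralClosure R K)) = IsLocalRing.maximalIdeal R := by
    show (n'.comap (algebraMap (integralClosure R K) _)).comap (algebraMap R (integralClosure R K)) = _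
    rw [Ideal.comap_comap, hcomp2, ← hcomp, ← Ideal.comap_comap, hn'eq, hn]
  have hm'max : m'.IsMaximal :=
    Ideal.isMaximal_of_isIntegral_of_isMaximal_comap m' (by rw [hm'R]; infer_instance)
  have hm'eq : m' = IsLocalRing.maximalIdeal (integralClosure R K) :=
    IsLocalRing.eq_maximalIdeal hm'max
  -- a prime of N over p
  have hRN : Function.Injective (algebraMap R (integralClosure R K)) := by
    intro x y hxy
    exact IsFractionRing.injective R K (congrArg Subtype.val hxy)
  obtain ⟨p', hp'prime, hp'⟩ := Ideal.exists_ideal_over_prime_of_isIntegral_of_isDomain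
    (S := integralClosure R K) p (by
      rw [(RingHom.injective_iff_ker_eq_bot _).mp hRN]; exact bot_le)
  haveI := hp'prime
  have hle : p' ≤ m' := by
    rw [hm'eq]; exact IsLocalRing.le_maximalIdeal hp'prime.ne_top
  haveI : n'.LiesOver m' := ⟨rfl⟩
  obtain ⟨q', hq'le, hq'prime, hq'over⟩ :=
    Ideal.exists_ideal_le_liesOver_of_le (p := p') (q := m') n' hle
  haveI := hq'prime
  refine ⟨q'.comap j, inferInstance, ?_, ?_⟩
  · rw [← hn'eq]; exact Ideal.comap_mono hq'le
  · rw [Ideal.comap_comap, hcomp, ← hcomp2, ← Ideal.comap_comap]
    have : q'.comap (algebraMap (integralClosure R K) _) = p' := (hq'over.over).symm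
    rw [this, hp']

end core

/-- Let A be a unibranch local domain, B a domain containing A and integral over A, and 𝔫 a prime ideal
of B lying over the maximal ideal of A. Then Spec B_𝔫 → Spec A is surjective: for every prime ideal
𝔭 of A there is a prime ideal 𝔮 ⊆ 𝔫 of B with 𝔮 ∩ A = 𝔭. -/
theorem result {A B : Type u} [CommRing A] [IsDomain A]
    [IsLocalRing A] (hA : CAlg2.IsUnibranch A) [CommRing B] [IsDomain B] [Algebra A B]
    (hinj : Function.Injective (algebraMap A B)) [Algebra.IsIntegral A B] (n : Ideal B) [n.IsPrime]
    (hn : n.comap (algebraMap A B) = IsLocalRing.maximalIdeal A) (p : Ideal A) [p.IsPrime] :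
    ∃ q : Ideal B, q.IsPrime ∧ q ≤ n ∧ q.comap (algebraMap A B) = p := by
  classical
  haveI hdom : IsDomain (CAlg2.red A) := hA.1
  have hloc : IsLocalRing (integralClosure (CAlg2.red A) (FractionRing (CAlg2.red A))) := hA.2
  have hnil : nilradical A = ⊥ := nilradical_eq_zero A
  have hπinj : Function.Injective (Ideal.Quotient.mk (nilradical A)) := by
    rw [RingHom.injective_iff_ker_eq_bot, Ideal.mk_ker, hnil]
  let e : A ≃+* CAlg2.red A :=
    RingEquiv.ofBijective (Ideal.Quotient.mk (nilradical A)) ⟨hπinj, Ideal.Quotient.mk_surjective⟩
  haveI : IsLocalRing (CAlg2.red A) :=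
    IsLocalRing.of_surjective' (Ideal.Quotient.mk (nilradical A)) Ideal.Quotient.mk_surjective
  letI algRB : Algebra (CAlg2.red A) B := ((algebraMap A B).comp e.symm.toRingHom).toAlgebra
  have halg : ∀ r : CAlg2.red A, algebraMap (CAlg2.red A) B r = algebraMap A B (e.symm r) :=
    fun r => rfl
  have hinjR : Function.Injective (algebraMap (CAlg2.red A) B) := by
    intro x y hxy
    rw [halg, halg] at hxy
    exact e.symm.injective (hinj hxy)
  haveI : Algebra.IsIntegral (CAlg2.red A) B := by
    rw [← algebraMap_isIntegral_iff]
    show ((algebraMap A B).comp e.symm.toRingHom).IsIntegral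
    exact RingHom.IsIntegral.trans _ _ (RingHom.isIntegral_of_surjective _ e.symm.surjective)
      (algebraMap_isIntegral_iff.mpr inferInstance)
  have hn' : n.comap (algebraMap (CAlg2.red A) B) = IsLocalRing.maximalIdeal (CAlg2.red A) := by
    have h1 : n.comap (algebraMap (CAlg2.red A) B) =
        (IsLocalRing.maximalIdeal A).comap e.symm.toRingHom := by
      rw [← hn, Ideal.comap_comap]; rfl
    have h2 : ((IsLocalRing.maximalIdeal A).comap e.symm.toRingHom).IsMaximal :=
      Ideal.comap_isMaximal_of_surjective _ e.symm.surjective
    rw [h1]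
    exact IsLocalRing.eq_maximalIdeal h2
  haveI : (p.comap e.symm.toRingHom).IsPrime := Ideal.comap_isPrime _ _
  haveI : FaithfulSMul (CAlg2.red A) (FractionRing B) := by
    rw [faithfulSMul_iff_algebraMap_injective,
      IsScalarTower.algebraMap_eq (CAlg2.red A) B (FractionRing B)]
    exact (IsFractionRing.injective B (FractionRing B)).comp hinjR
  letI : Algebra (FractionRing (CAlg2.red A)) (FractionRing B) :=
    FractionRing.liftAlgebra (CAlg2.red A) (FractionRing B)
  haveI : IsScalarTower (CAlg2.red A) (FractionRing (CAlg2.red A)) (FractionRing B) :=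
    FractionRing.isScalarTower_liftAlgebra (CAlg2.red A) (FractionRing B)
  obtain ⟨q, hq, hqn, hqp⟩ := goingDown_core (R := CAlg2.red A) (K := FractionRing (CAlg2.red A))
    (L := FractionRing B) (B := B) (IsFractionRing.injective B (FractionRing B)) hinjR hloc n hn'
    (p.comap e.symm.toRingHom)
  refine ⟨q, hq, hqn, ?_⟩
  ext a
  have h1 : e a ∈ q.comap (algebraMap (CAlg2.red A) B) ↔ e a ∈ p.comap e.symm.toRingHom := by
    rw [hqp]
  simp only [Ideal.mem_comap] at h1 ⊢
  have h2 : algebraMap (CAlg2.red A) B (e a) = algebraMap A B a := by
    rw [halg, e.symm_apply_apply]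
  have h3 : e.symm.toRingHom (e a) = a := e.symm_apply_apply a
  rw [h2, h3] at h1
  exact h1

end Groth.Agent.S4935
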