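import Groth.Statements.S4941
import Groth.Agent.H25.UnivOpenAt

set_option autoImplicit false
open CategoryTheory AlgebraicGeometry
universe u v w
open EGA43

namespace Groth.Agent.S4941

open CategoryTheory.Limits in
/-- Let v : Y₁ ⟶ Y be a surjective morphism of schemes whose underlying map is closed, f : X ⟶ Y a
morphism and x a point of X. If the base change f₁ : X ×_Y Y₁ ⟶ Y₁ is open at every point of X ×_Y
Y₁ lying over x, then f is open at x. -/
theorem result {X Y Y₁ : Scheme.{u}} (v : Y₁ ⟶ Y)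
    (hv : IsClosedMap v.base) [Surjective v] (f : X ⟶ Y) (x : X)
    (h : ∀ x₁ : ↥(pullback f v), (pullback.fst f v).base x₁ = x → EGA43.IsOpenAt (pullback.snd f v).base x₁) :
    EGA43.IsOpenAt f.base x := by
  intro U hU
  -- the key set equality
  have hset : v.base ⁻¹' (f.base '' U) =
      (pullback.snd f v).base '' ((pullback.fst f v).base ⁻¹' U) := by
    ext y₁
    constructor
    · rintro ⟨u, hu, huy⟩
      obtain ⟨x₁, hx₁1, hx₁2⟩ := AlgebraicGeometry.Scheme.Pullback.exists_preimage_pullback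
        (f := f) (g := v) u y₁ huy
      exact ⟨x₁, by simpa [hx₁1] using hu, hx₁2⟩
    · rintro ⟨x₁, hx₁, rfl⟩
      refine ⟨(pullback.fst f v).base x₁, hx₁, ?_⟩
      have := congrArg (fun φ : pullback f v ⟶ Y => φ.base x₁) (pullback.condition (f := f) (g := v))
      simpa using this
  -- W := interior of the preimage contains the fibre
  have hfib : v.base ⁻¹' {f.base x} ⊆ interior (v.base ⁻¹' (f.base '' U)) := by
    intro y₁ hy₁
    rw [mem_interior_iff_mem_nhds]
    obtain ⟨x₁, hx₁1, hx₁2⟩ := AlgebraicGeometry.Scheme.Pullback.exists_preimage_pullback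
      (f := f) (g := v) x y₁ (hy₁ : v.base y₁ = f.base x).symm
    have hnb : (pullback.fst f v).base ⁻¹' U ∈ nhds x₁ := by
      apply (pullback.fst f v).continuous.continuousAt
      rw [hx₁1]; exact hU
    have := h x₁ hx₁1 _ hnb
    rw [hx₁2] at this
    rw [hset]
    exact this
  set W := interior (v.base ⁻¹' (f.base '' U)) with hW
  have hcl : IsClosed (v.base '' Wᶜ) := hv _ (isOpen_interior.isClosed_compl)
  have hmem : f.base x ∈ (v.base '' Wᶜ)ᶜ := by
    rintro ⟨y₁, hy₁, hy₁x⟩
    exact hy₁ (hfib hy₁x)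
  refine Filter.mem_of_superset (hcl.isOpen_compl.mem_nhds hmem) ?_
  intro y hy
  obtain ⟨y₁, rfl⟩ := v.surjective y
  have hy₁W : y₁ ∈ W := by
    by_contra hc
    exact hy ⟨y₁, hc, rfl⟩
  have h5 : y₁ ∈ v.base ⁻¹' (f.base '' U) := interior_subset hy₁W
  exact h5

end Groth.Agent.S4941
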