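import Groth.Statements.S4942
import Groth.Agent.H25.UnivOpenAt
import Groth.Agent.S4941
import Mathlib.AlgebraicGeometry.Morphisms.UniversallyClosed

set_option autoImplicit false
open CategoryTheory AlgebraicGeometry
universe u v w
open EGA43

namespace Groth.Agent.S4942

open CategoryTheory.Limits in
/-- Let v : Y₁ ⟶ Y be a universally closed surjective morphism of schemes, f : X ⟶ Y a morphism and x a
point of X. If the base change f₁ : X ×_Y Y₁ ⟶ Y₁ is universally open at every point of X ×_Y Y₁
lying over x, then f is universally open at x. -/
theorem result {X Y Y₁ : Scheme.{u}} (v : Y₁ ⟶ Y)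
    [UniversallyClosed v] [Surjective v] (f : X ⟶ Y) (x : X)
    (h : ∀ x₁ : ↥(pullback f v), (pullback.fst f v).base x₁ = x → EGA43.IsUnivOpenAt (pullback.snd f v) x₁) :
    EGA43.IsUnivOpenAt f x := by
  intro Y' g x' hx'
  have hcl : IsClosedMap (pullback.snd v g).base := (pullback.snd v g).isClosedMap
  refine Groth.Agent.S4941.result (pullback.snd v g) hcl (pullback.snd f g) x' ?_
  intro q hq
  -- notation
  have sqT : IsPullback (pullback.fst (pullback.snd f g) (pullback.snd v g))
      (pullback.snd (pullback.snd f g) (pullback.snd v g)) (pullback.snd f g) (pullback.snd v g) :=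
    IsPullback.of_hasPullback _ _
  have sqB : IsPullback (pullback.fst f g) (pullback.snd f g) f g := IsPullback.of_hasPullback _ _
  have sqBig := sqT.flip.paste_vert sqB.flip
  have hcond : (pullback.fst (pullback.snd f g) (pullback.snd v g) ≫ pullback.fst f g) ≫ f =
      (pullback.snd (pullback.snd f g) (pullback.snd v g) ≫ pullback.fst v g) ≫ v := by
    rw [Category.assoc, Category.assoc, pullback.condition, pullback.condition (f := v),
      ← Category.assoc, pullback.condition, Category.assoc]
  set m : pullback (pullback.snd f g) (pullback.snd v g) ⟶ pullback f v :=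
    pullback.lift (pullback.fst (pullback.snd f g) (pullback.snd v g) ≫ pullback.fst f g)
      (pullback.snd (pullback.snd f g) (pullback.snd v g) ≫ pullback.fst v g) hcond with hm
  have hm1 : m ≫ pullback.fst f v =
      pullback.fst (pullback.snd f g) (pullback.snd v g) ≫ pullback.fst f g := pullback.lift_fst _ _ _
  have hm2 : m ≫ pullback.snd f v =
      pullback.snd (pullback.snd f g) (pullback.snd v g) ≫ pullback.fst v g := pullback.lift_snd _ _ _
  have s : IsPullback (pullback.snd (pullback.snd f g) (pullback.snd v g)) (m ≫ pullback.fst f v)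
      (pullback.fst v g ≫ v) f := by
    rw [hm1, pullback.condition (f := v)]
    exact sqBig
  have t : IsPullback (pullback.snd f v) (pullback.fst f v) v f := (IsPullback.of_hasPullback f v).flip
  have sq := (IsPullback.of_bot s hm2.symm t).flip
  have hx₁ : (pullback.fst f v).base (m.base q) = x := by
    rw [← Scheme.Hom.comp_apply, hm1, Scheme.Hom.comp_apply, hq, hx']
  exact Groth.Agent.H25.isOpenAt_of_isPullback sq (m.base q) (h _ hx₁) q rfl

end Groth.Agent.S4942
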