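import Groth.Statements.S4947
import Groth.Agent.H17.RegHilb
import Groth.Agent.H23.RegularLocal
import Mathlib

set_option autoImplicit false
universe u
open EGA43

namespace Groth.Agent.S4947

open IsLocalRing MvPolynomial

section ord
variable {A : Type u} [CommRing A] [IsLocalRing A]

/-- `a` has order exactly `k` for the maximal-ideal filtration. -/
def Ord (a : A) (k : ℕ) : Prop := a ∈ maximalIdeal A ^ k ∧ a ∉ maximalIdeal A ^ (k + 1)

lemma Ord.unique {a : A} {i j : ℕ} (hi : Ord a i) (hj : Ord a j) : i = j := by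
  by_contra hne
  rcases Nat.lt_or_gt_of_ne hne with h | h
  · exact hi.2 (Ideal.pow_le_pow_right (by omega) hj.1)
  · exact hj.2 (Ideal.pow_le_pow_right (by omega) hi.1)

lemma Ord.le_of_mem {a : A} {i j : ℕ} (hi : Ord a i) (hj : a ∈ maximalIdeal A ^ j) : j ≤ i := by
  by_contra h
  exact hi.2 (Ideal.pow_le_pow_right (by omega) hj)

lemma Ord.ne_zero {a : A} {i : ℕ} (hi : Ord a i) : a ≠ 0 := by
  rintro rfl; exact hi.2 (Ideal.zero_mem _)

lemma ord_one : Ord (1 : A) 0 := by
  refine ⟨by rw [pow_zero, Ideal.one_eq_top]; exact Submodule.mem_top, ?_⟩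
  rw [zero_add, pow_one]
  exact fun h => (maximalIdeal.isMaximal A).ne_top ((Ideal.eq_top_iff_one _).2 h)

lemma exists_ord [IsNoetherianRing A] {a : A} (ha : a ≠ 0) : ∃ k, Ord a k := by
  classical
  have hK : ⨅ i : ℕ, maximalIdeal A ^ i = ⊥ :=
    Ideal.iInf_pow_eq_bot_of_isLocalRing _ (maximalIdeal.isMaximal A).ne_top
  have h1 : ∃ k, a ∉ maximalIdeal A ^ k := by
    by_contra hcon
    push_neg at hcon
    have h2 : a ∈ ⨅ i : ℕ, maximalIdeal A ^ i := (Submodule.mem_iInf _).2 hcon
    rw [hK] at h2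
    exact ha ((Submodule.mem_bot A).1 h2)
  have hk := Nat.find_spec h1
  have hpos : Nat.find h1 ≠ 0 := by
    intro h0
    rw [h0, pow_zero, Ideal.one_eq_top] at hk
    exact hk Submodule.mem_top
  obtain ⟨k, hk'⟩ := Nat.exists_eq_succ_of_ne_zero hpos
  refine ⟨k, ?_, ?_⟩
  · by_contra hnot
    exact Nat.find_min h1 (m := k) (by omega) hnot
  · rw [← Nat.succ_eq_add_one, ← hk']; exact hk

variable {n : ℕ} {x : Fin n → A}

lemma eval_mem_pow_succ {k : ℕ} {P : MvPolynomial (Fin n) A} (hP : P.IsHomogeneous k)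
    (hx : Ideal.span (Set.range x) = maximalIdeal A)
    (hc : ∀ α, coeff α P ∈ maximalIdeal A) : eval x P ∈ maximalIdeal A ^ (k + 1) := by
  rw [Groth.Agent.H17.RegHilb.eval_eq_sum_of_isHomogeneous x hP]
  refine Ideal.sum_mem _ (fun α _ => ?_)
  rw [pow_succ']
  refine Ideal.mul_mem_mul (hc _) ?_
  rw [← hx]
  exact Groth.Agent.H17.RegHilb.mon_mem_pow x α.2

lemma map_residue_ne_zero {k : ℕ} {P : MvPolynomial (Fin n) A} (hP : P.IsHomogeneous k)
    (hx : Ideal.span (Set.range x) = maximalIdeal A)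
    (h : eval x P ∉ maximalIdeal A ^ (k + 1)) : MvPolynomial.map (residue A) P ≠ 0 := by
  intro h0
  apply h
  apply eval_mem_pow_succ hP hx
  intro α
  have h1 := congrArg (coeff α) h0
  rw [coeff_map, coeff_zero] at h1
  exact (residue_eq_zero_iff _).1 h1

lemma ord_mul (hx : Ideal.span (Set.range x) = maximalIdeal A) (hqr : CAlgX.IsQuasiRegular x)
    {a b : A} {i j : ℕ} (ha : Ord a i) (hb : Ord b j) : Ord (a * b) (i + j) := by
  refine ⟨by rw [pow_add]; exact Ideal.mul_mem_mul ha.1 hb.1, ?_⟩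
  intro hab
  obtain ⟨P, hP, rfl⟩ := (Ideal.mem_span_pow_iff_exists_isHomogeneous x _).1
    (show a ∈ Ideal.span (Set.range x) ^ i by rw [hx]; exact ha.1)
  obtain ⟨Q, hQ, rfl⟩ := (Ideal.mem_span_pow_iff_exists_isHomogeneous x _).1
    (show b ∈ Ideal.span (Set.range x) ^ j by rw [hx]; exact hb.1)
  have hP' := map_residue_ne_zero hP hx ha.2
  have hQ' := map_residue_ne_zero hQ hx hb.2
  have hPQ : MvPolynomial.map (residue A) (P * Q) ≠ 0 := by
    rw [map_mul]; exact mul_ne_zero hP' hQ'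
  apply hPQ
  ext α
  rw [coeff_map, coeff_zero, residue_eq_zero_iff]
  have h1 := hqr (i + j) (P * Q) (hP.mul hQ) (by rw [map_mul, hx]; exact hab) α
  rw [hx] at h1
  exact h1

end ord

section V
variable {A : Type u} [CommRing A] [IsLocalRing A] [IsNoetherianRing A] [IsDomain A]

local notation "𝔸" => algebraMap A (FractionRing A)

lemma algMap_ne_zero {c : A} (hc : c ≠ 0) : 𝔸 c ≠ 0 :=
  (map_ne_zero_iff _ (IsFractionRing.injective A (FractionRing A))).2 hc

/-- Membership in the order-valuation ring. -/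
def MemV (z : FractionRing A) : Prop :=
  ∃ (a b : A) (k : ℕ), Ord b k ∧ a ∈ maximalIdeal A ^ k ∧ z * 𝔸 b = 𝔸 a

lemma memV_algebraMap (a : A) : MemV (𝔸 a) :=
  ⟨a, 1, 0, ord_one, by rw [pow_zero, Ideal.one_eq_top]; exact Submodule.mem_top,
    by rw [map_one, mul_one]⟩

lemma memV_div {c c' : A} {k : ℕ} (hc : c ∈ maximalIdeal A ^ k) (hc' : Ord c' k) :
    MemV (𝔸 c / 𝔸 c') :=
  ⟨c, c', k, hc', hc, div_mul_cancel₀ _ (algMap_ne_zero hc'.ne_zero)⟩

variable {n : ℕ} {x : Fin (n + 1) → A}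

lemma memV_mul (hx : Ideal.span (Set.range x) = maximalIdeal A) (hqr : CAlgX.IsQuasiRegular x)
    {z w : FractionRing A} (hz : MemV z) (hw : MemV w) : MemV (z * w) := by
  obtain ⟨a, b, k, hb, ha, h1⟩ := hz
  obtain ⟨a', b', k', hb', ha', h2⟩ := hw
  refine ⟨a * a', b * b', k + k', ord_mul hx hqr hb hb',
    by rw [pow_add]; exact Ideal.mul_mem_mul ha ha', ?_⟩
  rw [map_mul, map_mul, ← h1, ← h2]; ring

lemma memV_add (hx : Ideal.span (Set.range x) = maximalIdeal A) (hqr : CAlgX.IsQuasiRegular x)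
    {z w : FractionRing A} (hz : MemV z) (hw : MemV w) : MemV (z + w) := by
  obtain ⟨a, b, k, hb, ha, h1⟩ := hz
  obtain ⟨a', b', k', hb', ha', h2⟩ := hw
  refine ⟨a * b' + a' * b, b * b', k + k', ord_mul hx hqr hb hb', ?_, ?_⟩
  · rw [pow_add]
    refine Ideal.add_mem _ (Ideal.mul_mem_mul ha hb'.1) ?_
    rw [mul_comm (maximalIdeal A ^ k)]
    exact Ideal.mul_mem_mul ha' hb.1
  · rw [map_add, map_mul, map_mul, map_mul, ← h1, ← h2]; ring

/-- The order-valuation ring of a regular local ring. -/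
def V (hx : Ideal.span (Set.range x) = maximalIdeal A) (hqr : CAlgX.IsQuasiRegular x) :
    Subalgebra A (FractionRing A) where
  carrier := {z | MemV z}
  mul_mem' := fun hz hw => memV_mul hx hqr hz hw
  one_mem' := by
    have h := memV_algebraMap (A := A) 1
    rwa [map_one] at h
  add_mem' := fun hz hw => memV_add hx hqr hz hw
  zero_mem' := by
    have h := memV_algebraMap (A := A) 0
    rwa [map_zero] at h
  algebraMap_mem' := memV_algebraMap

variable (hx : Ideal.span (Set.range x) = maximalIdeal A) (hqr : CAlgX.IsQuasiRegular x)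

include hx hqr in
lemma ord_pi : Ord (x 0) 1 := by
  have hmem : x 0 ∈ maximalIdeal A := by rw [← hx]; exact Ideal.subset_span ⟨0, rfl⟩
  refine ⟨by rw [pow_one]; exact hmem, ?_⟩
  intro h2
  have h1 := hqr 1 (X 0) (isHomogeneous_X _ _) (by rw [eval_X, hx]; exact h2)
    (Finsupp.single 0 1)
  rw [hx] at h1
  have h1' : (1 : A) ∈ maximalIdeal A := by simpa using h1
  exact (maximalIdeal.isMaximal A).ne_top ((Ideal.eq_top_iff_one _).2 h1')

include hx hqr in
lemma ord_pi_pow (k : ℕ) : Ord (x 0 ^ k) k := by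
  induction k with
  | zero => rw [pow_zero]; exact ord_one
  | succ k ih => rw [pow_succ]; exact ord_mul hx hqr ih (ord_pi hx hqr)

lemma isUnit_of_ord (z : V hx hqr) {c c' : A} {k : ℕ} (hc : Ord c k) (hc' : Ord c' k)
    (hz : (z : FractionRing A) * 𝔸 c' = 𝔸 c) : IsUnit z := by
  have h1 : 𝔸 c ≠ 0 := algMap_ne_zero hc.ne_zero
  refine isUnit_iff_exists_inv.2 ⟨⟨𝔸 c' / 𝔸 c, memV_div hc'.1 hc⟩, ?_⟩
  apply Subtype.ext
  show (z : FractionRing A) * (𝔸 c' / 𝔸 c) = 1
  rw [← mul_div_assoc, hz, div_self h1]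

lemma not_isUnit_of_mem (z : V hx hqr) {a b : A} {k : ℕ} (hb : Ord b k)
    (ha : a ∈ maximalIdeal A ^ (k + 1)) (hz : (z : FractionRing A) * 𝔸 b = 𝔸 a) : ¬ IsUnit z := by
  intro hu
  obtain ⟨w, hw⟩ := isUnit_iff_exists_inv.1 hu
  obtain ⟨a', b', k', hb', ha', h2⟩ := w.2
  have h3 : 𝔸 (a * a') = 𝔸 (b * b') := by
    have h4 : (z : FractionRing A) * (w : FractionRing A) = 1 := congrArg Subtype.val hw
    rw [map_mul, map_mul, ← hz, ← h2]
    calc (z : FractionRing A) * 𝔸 b * ((w : FractionRing A) * 𝔸 b')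
        = ((z : FractionRing A) * (w : FractionRing A)) * (𝔸 b * 𝔸 b') := by ring
      _ = 𝔸 b * 𝔸 b' := by rw [h4, one_mul]
  have h5 : a * a' = b * b' := IsFractionRing.injective A (FractionRing A) h3
  have h6 := (ord_mul hx hqr hb hb').2
  apply h6
  rw [← h5, show k + k' + 1 = (k + 1) + k' by omega, pow_add]
  exact Ideal.mul_mem_mul ha ha'

/-- Any nonunit `w` with `w π^e = c ∈ A` forces `c ∈ m^{e+1}`. -/
lemma mem_pow_of_not_isUnit (w : V hx hqr) (hw : ¬ IsUnit w) (c : A) (e : ℕ)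
    (h : (w : FractionRing A) * 𝔸 (x 0) ^ e = 𝔸 c) : c ∈ maximalIdeal A ^ (e + 1) := by
  obtain ⟨a, b, k, hb, ha, h1⟩ := w.2
  have ha' : a ∈ maximalIdeal A ^ (k + 1) := by
    by_contra hna
    exact hw (isUnit_of_ord hx hqr w ⟨ha, hna⟩ hb h1)
  have h3 : 𝔸 (c * b) = 𝔸 (x 0 ^ e * a) := by
    rw [map_mul, map_mul, map_pow, ← h, ← h1]; ring
  have h5 : c * b = x 0 ^ e * a := IsFractionRing.injective A (FractionRing A) h3
  by_contra hc
  have hc0 : c ≠ 0 := by rintro rfl; exact hc (Ideal.zero_mem _)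
  obtain ⟨e', he'⟩ := exists_ord hc0
  have hle : e' ≤ e := by
    by_contra hlt
    exact hc (Ideal.pow_le_pow_right (by omega) he'.1)
  have h6 := (ord_mul hx hqr he' hb).2
  apply h6
  rw [h5]
  have h7 : x 0 ^ e * a ∈ maximalIdeal A ^ (e + (k + 1)) := by
    rw [pow_add]; exact Ideal.mul_mem_mul (ord_pi_pow hx hqr e).1 ha'
  exact Ideal.pow_le_pow_right (by omega) h7

/-- the uniformizer -/
def varpi : V hx hqr := algebraMap A (V hx hqr) (x 0)

lemma varpi_val : ((varpi hx hqr : V hx hqr) : FractionRing A) = 𝔸 (x 0) := rfl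

lemma varpi_ne_zero : varpi hx hqr ≠ 0 := by
  intro h
  have h1 := congrArg Subtype.val h
  rw [varpi_val] at h1
  exact algMap_ne_zero (ord_pi hx hqr).ne_zero h1

lemma not_isUnit_varpi : ¬ IsUnit (varpi hx hqr) := by
  refine not_isUnit_of_mem hx hqr _ (a := x 0) (b := 1) ord_one ?_ ?_
  · rw [zero_add]; exact (ord_pi hx hqr).1
  · rw [map_one, mul_one]; rfl

lemma associated_pow (z : V hx hqr) (hz : z ≠ 0) : ∃ j : ℕ, Associated (varpi hx hqr ^ j) z := by
  obtain ⟨a, b, k, hb, ha, h1⟩ := z.2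
  have hb0 : 𝔸 b ≠ 0 := algMap_ne_zero hb.ne_zero
  have ha0 : a ≠ 0 := by
    rintro rfl
    rw [map_zero] at h1
    rcases mul_eq_zero.1 h1 with h | h
    · exact hz (Subtype.ext h)
    · exact hb0 h
  obtain ⟨k', hk'⟩ := exists_ord ha0
  have hle : k ≤ k' := hk'.le_of_mem ha
  have hbπ : Ord (b * x 0 ^ (k' - k)) k' := by
    have := ord_mul hx hqr hb (ord_pi_pow hx hqr (k' - k))
    rwa [show k + (k' - k) = k' by omega] at this
  have hbπ0 : 𝔸 (b * x 0 ^ (k' - k)) ≠ 0 := algMap_ne_zero hbπ.ne_zero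
  let u : V hx hqr := ⟨𝔸 a / 𝔸 (b * x 0 ^ (k' - k)), memV_div hk'.1 hbπ⟩
  have hu : IsUnit u := isUnit_of_ord hx hqr u hk' hbπ (div_mul_cancel₀ _ hbπ0)
  refine ⟨k' - k, ?_⟩
  have hprod : varpi hx hqr ^ (k' - k) * u = z := by
    apply Subtype.ext
    show ((varpi hx hqr : V hx hqr) : FractionRing A) ^ (k' - k) *
      (𝔸 a / 𝔸 (b * x 0 ^ (k' - k))) = (z : FractionRing A)
    rw [varpi_val, ← h1, map_mul, map_pow]
    have hπ0 : 𝔸 (x 0) ^ (k' - k) ≠ 0 := pow_ne_zero _ (algMap_ne_zero (ord_pi hx hqr).ne_zero)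
    field_simp
  have h2 : Associated (varpi hx hqr ^ (k' - k)) (varpi hx hqr ^ (k' - k) * u) :=
    associated_mul_unit_right _ _ hu
  rw [hprod] at h2
  exact h2

lemma irreducible_varpi : Irreducible (varpi hx hqr) := by
  rw [irreducible_iff]
  refine ⟨not_isUnit_varpi hx hqr, fun z w hzw => ?_⟩
  have hϖ0 := varpi_ne_zero hx hqr
  have hz0 : z ≠ 0 := by rintro rfl; rw [zero_mul] at hzw; exact hϖ0 hzw
  have hw0 : w ≠ 0 := by rintro rfl; rw [mul_zero] at hzw; exact hϖ0 hzw
  obtain ⟨i, hi⟩ := associated_pow hx hqr z hz0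
  obtain ⟨j, hj⟩ := associated_pow hx hqr w hw0
  rcases Nat.eq_zero_or_pos i with rfl | hipos
  · left; rw [pow_zero] at hi; exact associated_one_iff_isUnit.1 hi.symm
  rcases Nat.eq_zero_or_pos j with rfl | hjpos
  · right; rw [pow_zero] at hj; exact associated_one_iff_isUnit.1 hj.symm
  exfalso
  have h1 : Associated (varpi hx hqr ^ (i + j)) (varpi hx hqr) := by
    have h0 := hi.mul_mul hj
    rw [← pow_add, ← hzw] at h0
    exact h0
  obtain ⟨u, hu⟩ := h1
  have h2 : varpi hx hqr * (varpi hx hqr ^ (i + j - 1) * u) = varpi hx hqr * 1 := by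
    rw [mul_one, ← mul_assoc, ← pow_succ', show i + j - 1 + 1 = i + j by omega]; exact hu
  have h3 := mul_left_cancel₀ hϖ0 h2
  apply not_isUnit_varpi hx hqr
  apply IsUnit.of_mul_eq_one (varpi hx hqr ^ (i + j - 2) * u)
  rw [← mul_assoc, ← pow_succ', show i + j - 2 + 1 = i + j - 1 by omega]; exact h3

lemma isDVR : IsDiscreteValuationRing (V hx hqr) :=
  IsDiscreteValuationRing.ofHasUnitMulPowIrreducibleFactorization
    ⟨varpi hx hqr, irreducible_varpi hx hqr, fun {z} hz => associated_pow hx hqr z hz⟩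

lemma isFractionRing_V : IsFractionRing (V hx hqr) (FractionRing A) where
  map_units := fun ⟨y, hy⟩ =>
    (Units.mk0 (y : FractionRing A) fun c => nonZeroDivisors.ne_zero hy (Subtype.ext c)).isUnit
  surj z := by
    obtain ⟨a, s, rfl⟩ := IsLocalization.exists_mk'_eq (nonZeroDivisors A) z
    have hs0 : (s : A) ≠ 0 := nonZeroDivisors.ne_zero s.2
    refine ⟨(algebraMap A (V hx hqr) a, ⟨algebraMap A (V hx hqr) s, ?_⟩), ?_⟩
    · rw [mem_nonZeroDivisors_iff_ne_zero]
      intro h
      have h1 := congrArg Subtype.val h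
      exact algMap_ne_zero hs0 h1
    · exact IsLocalization.mk'_spec (FractionRing A) a s
  exists_of_eq {a b} h := ⟨1, by ext; simpa using h⟩

lemma not_isUnit_algebraMap {a : A} (ha : a ∈ maximalIdeal A) :
    ¬ IsUnit (algebraMap A (V hx hqr) a) := by
  refine not_isUnit_of_mem hx hqr _ (a := a) (b := 1) ord_one ?_ ?_
  · rw [zero_add, pow_one]; exact ha
  · rw [map_one, mul_one]; rfl

lemma isLocalHom_V : IsLocalHom (algebraMap A (V hx hqr)) where
  map_nonunit a ha := by
    by_contra hna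
    exact not_isUnit_algebraMap hx hqr ((mem_maximalIdeal a).2 hna) ha

end V

section gen
variable {A : Type u} [CommRing A] [IsDomain A]
local notation "𝔸" => algebraMap A (FractionRing A)

lemma eval₂_div_mul_pow {m : ℕ} (g : Fin m → A) (v : FractionRing A) (hv : v ≠ 0) {k : ℕ}
    {P : MvPolynomial (Fin m) A} (hP : P.IsHomogeneous k) :
    eval₂ 𝔸 (fun i => 𝔸 (g i) / v) P * v ^ k = 𝔸 (eval g P) := by
  rw [eval₂_eq', eval_eq', map_sum, Finset.sum_mul]
  refine Finset.sum_congr rfl (fun α hα => ?_)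
  have hdeg : α.degree = k := by
    by_contra h
    exact (mem_support_iff.1 hα) (hP.coeff_eq_zero h)
  rw [Finsupp.degree_eq_sum] at hdeg
  rw [map_mul, map_prod]
  simp only [map_pow, div_pow]
  rw [Finset.prod_div_distrib, Finset.prod_pow_eq_pow_sum, hdeg, mul_assoc,
    div_mul_cancel₀ _ (pow_ne_zero _ hv)]

end gen

section residue
variable {A : Type u} [CommRing A] [IsLocalRing A] [IsNoetherianRing A] [IsDomain A]
variable {n : ℕ} {x : Fin (n + 1) → A}
variable (hx : Ideal.span (Set.range x) = maximalIdeal A) (hqr : CAlgX.IsQuasiRegular x)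

local notation "𝔸" => algebraMap A (FractionRing A)

include hx hqr in
lemma pi_ne_zero : 𝔸 (x 0) ≠ 0 := algMap_ne_zero (ord_pi hx hqr).ne_zero

/-- `x_i / x_0` as an element of `V`. -/
noncomputable def yV (i : Fin (n + 1)) : V hx hqr :=
  ⟨𝔸 (x i) / 𝔸 (x 0), memV_div (c := x i) (by
    rw [pow_one, ← hx]; exact Ideal.subset_span ⟨i, rfl⟩) (ord_pi hx hqr)⟩

lemma yV_zero : yV hx hqr 0 = 1 := by
  apply Subtype.ext
  show 𝔸 (x 0) / 𝔸 (x 0) = 1
  exact div_self (pi_ne_zero hx hqr)

/-- `c / x_0^k` as an element of `V` for `c ∈ m^k`. -/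
noncomputable def qV (k : ℕ) (c : A) (hc : c ∈ maximalIdeal A ^ k) : V hx hqr :=
  ⟨𝔸 c / 𝔸 (x 0 ^ k), memV_div hc (ord_pi_pow hx hqr k)⟩

lemma val_eval₂ {m : ℕ} (g : Fin m → V hx hqr) (P : MvPolynomial (Fin m) A) :
    ((eval₂ (algebraMap A (V hx hqr)) g P : V hx hqr) : FractionRing A) =
      eval₂ 𝔸 (fun i => (g i : FractionRing A)) P := by
  have h := eval₂_comp_left ((V hx hqr).val : V hx hqr →+* FractionRing A)
    (algebraMap A (V hx hqr)) g P
  exact h

lemma qV_eq_eval₂ {k : ℕ} {P : MvPolynomial (Fin (n + 1)) A} (hP : P.IsHomogeneous k)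
    (hc : eval x P ∈ maximalIdeal A ^ k) :
    qV hx hqr k (eval x P) hc = eval₂ (algebraMap A (V hx hqr)) (yV hx hqr) P := by
  apply Subtype.ext
  rw [val_eval₂]
  show 𝔸 (eval x P) / 𝔸 (x 0 ^ k) = eval₂ 𝔸 (fun i => 𝔸 (x i) / 𝔸 (x 0)) P
  rw [← eval₂_div_mul_pow x (𝔸 (x 0)) (pi_ne_zero hx hqr) hP, map_pow,
    mul_div_assoc, div_self (pow_ne_zero _ (pi_ne_zero hx hqr)), mul_one]

end residue

section homg
variable {A : Type u} [CommRing A]
variable {n : ℕ} {x : Fin (n + 1) → A}

local notation "𝔸" => algebraMap A (FractionRing A)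

/-- homogenization of exponents -/
noncomputable def hom (e : ℕ) (α : Fin n →₀ ℕ) : Fin (n + 1) →₀ ℕ :=
  Finsupp.cons (e - α.degree) α

lemma hom_injective (e : ℕ) : Function.Injective (hom (n := n) e) := by
  intro α β h
  have h1 := congrArg Finsupp.tail h
  simpa [hom, Finsupp.tail_cons] using h1

lemma degree_hom {e : ℕ} {α : Fin n →₀ ℕ} (h : α.degree ≤ e) : (hom e α).degree = e := by
  rw [Finsupp.degree_eq_sum, Fin.sum_univ_succ]
  simp only [hom, Finsupp.cons_zero, Finsupp.cons_succ]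
  rw [← Finsupp.degree_eq_sum]
  omega

/-- homogenization of a polynomial in `n` variables to degree `e` in `n+1` variables -/
noncomputable def homog (e : ℕ) (P : MvPolynomial (Fin n) A) : MvPolynomial (Fin (n + 1)) A :=
  ∑ α ∈ P.support, monomial (hom e α) (coeff α P)

lemma homog_isHomogeneous {e : ℕ} {P : MvPolynomial (Fin n) A}
    (he : ∀ α ∈ P.support, α.degree ≤ e) : (homog e P).IsHomogeneous e :=
  IsHomogeneous.sum _ _ _ (fun α hα => isHomogeneous_monomial _ (degree_hom (he α hα)))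

lemma coeff_homog {e : ℕ} {P : MvPolynomial (Fin n) A} {α : Fin n →₀ ℕ} (hα : α ∈ P.support) :
    coeff (hom e α) (homog e P) = coeff α P := by
  classical
  unfold homog
  rw [coeff_sum, Finset.sum_eq_single α]
  · rw [coeff_monomial, if_pos rfl]
  · intro β _ hβα
    rw [coeff_monomial, if_neg]
    exact fun h => hβα (hom_injective e h)
  · intro h; exact absurd hα h

lemma eval_homog [IsDomain A] {e : ℕ} {P : MvPolynomial (Fin n) A} (he : ∀ α ∈ P.support, α.degree ≤ e)
    (hv : 𝔸 (x 0) ≠ 0) :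
    eval₂ 𝔸 (fun j : Fin n => 𝔸 (x j.succ) / 𝔸 (x 0)) P * 𝔸 (x 0) ^ e =
      𝔸 (eval x (homog e P)) := by
  unfold homog
  rw [eval₂_eq', map_sum, map_sum, Finset.sum_mul]
  refine Finset.sum_congr rfl (fun α hα => ?_)
  have hdeg := he α hα
  rw [Finsupp.degree_eq_sum] at hdeg
  rw [eval_monomial, map_mul, Finsupp.prod_fintype _ _ (fun i => pow_zero _),
    Fin.prod_univ_succ, map_mul, map_prod]
  simp only [hom, Finsupp.cons_zero, Finsupp.cons_succ, map_pow, div_pow]
  rw [Finset.prod_div_distrib, Finset.prod_pow_eq_pow_sum, Finsupp.degree_eq_sum]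
  have h1 : 𝔸 (x 0) ^ e = 𝔸 (x 0) ^ (e - ∑ i, α i) * 𝔸 (x 0) ^ (∑ i, α i) := by
    rw [← pow_add]; congr 1; omega
  rw [h1]
  have h2 : 𝔸 (x 0) ^ (∑ i, α i) ≠ 0 := pow_ne_zero _ hv
  field_simp

end homg

section residue2
variable {A : Type u} [CommRing A] [IsLocalRing A] [IsNoetherianRing A] [IsDomain A]
variable {n : ℕ} {x : Fin (n + 1) → A}

local notation "𝔸" => algebraMap A (FractionRing A)

variable (hx : Ideal.span (Set.range x) = maximalIdeal A) (hqr : CAlgX.IsQuasiRegular x)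

lemma indep [IsLocalRing (V hx hqr)] (φ : ResidueField A →+* ResidueField (V hx hqr))
    (hφ : φ.comp (residue A) = (residue (V hx hqr)).comp (algebraMap A (V hx hqr)))
    (p : MvPolynomial (Fin n) (ResidueField A))
    (hp : eval₂ φ (fun j : Fin n => residue (V hx hqr) (yV hx hqr j.succ)) p = 0) : p = 0 := by
  classical
  obtain ⟨P, rfl⟩ := MvPolynomial.map_surjective (residue A) residue_surjective p
  have he : ∀ α ∈ P.support, α.degree ≤ P.support.sup (fun α => α.degree) :=
    fun α hα => Finset.le_sup (f := fun α : Fin n →₀ ℕ => α.degree) hα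
  generalize P.support.sup (fun α => α.degree) = e at he
  have hres : residue (V hx hqr)
      (eval₂ (algebraMap A (V hx hqr)) (fun j : Fin n => yV hx hqr j.succ) P) = 0 := by
    rw [eval₂_comp_left (residue (V hx hqr)), ← hφ, ← eval₂_map]
    exact hp
  have hnu : ¬ IsUnit (eval₂ (algebraMap A (V hx hqr)) (fun j : Fin n => yV hx hqr j.succ) P) :=
    mem_nonunits_iff.1 ((mem_maximalIdeal _).1 ((residue_eq_zero_iff _).1 hres))
  have hval : ((eval₂ (algebraMap A (V hx hqr)) (fun j : Fin n => yV hx hqr j.succ) P :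
      V hx hqr) : FractionRing A) * 𝔸 (x 0) ^ e = 𝔸 (eval x (homog e P)) := by
    rw [val_eval₂]
    exact eval_homog he (pi_ne_zero hx hqr)
  have hmem := mem_pow_of_not_isUnit hx hqr _ hnu _ e hval
  have hco := hqr e (homog e P) (homog_isHomogeneous he) (by rw [hx]; exact hmem)
  ext α
  rw [coeff_map, coeff_zero, residue_eq_zero_iff]
  by_cases hα : α ∈ P.support
  · have h1 := hco (hom e α)
    rw [coeff_homog hα, hx] at h1
    exact h1
  · rw [notMem_support_iff.1 hα]; exact Ideal.zero_mem _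

lemma gen_aux [IsLocalRing (V hx hqr)] (φ : ResidueField A →+* ResidueField (V hx hqr))
    (hφ : φ.comp (residue A) = (residue (V hx hqr)).comp (algebraMap A (V hx hqr)))
    (L : Subfield (ResidueField (V hx hqr))) (hL1 : ∀ c, φ c ∈ L)
    (hL2 : ∀ j : Fin n, residue (V hx hqr) (yV hx hqr j.succ) ∈ L) :
    ∀ r : ResidueField (V hx hqr), r ∈ L := by
  intro r
  obtain ⟨z, rfl⟩ := residue_surjective r
  have key : ∀ (k : ℕ) (c : A) (hc : c ∈ maximalIdeal A ^ k),
      residue (V hx hqr) (qV hx hqr k c hc) ∈ L := by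
    intro k c hc
    obtain ⟨P, hP, rfl⟩ := (Ideal.mem_span_pow_iff_exists_isHomogeneous x _).1
      (show c ∈ Ideal.span (Set.range x) ^ k by rw [hx]; exact hc)
    rw [qV_eq_eval₂ hx hqr hP hc, eval₂_comp_left (residue (V hx hqr)), ← hφ, eval₂_eq']
    refine Subfield.sum_mem _ (fun α _ => ?_)
    simp only [RingHom.comp_apply, Function.comp_apply]
    refine L.mul_mem (hL1 _) (Subfield.prod_mem _ (fun i _ => L.pow_mem ?_ _))
    refine Fin.cases ?_ (fun j => ?_) i
    · rw [yV_zero, map_one]; exact L.one_mem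
    · exact hL2 j
  by_cases hz0 : z = 0
  · rw [hz0, map_zero]; exact L.zero_mem
  obtain ⟨a, b, k, hb, ha, h1⟩ := z.2
  have hqb : IsUnit (qV hx hqr k b hb.1) :=
    isUnit_of_ord hx hqr _ hb (ord_pi_pow hx hqr k)
      (div_mul_cancel₀ _ (algMap_ne_zero (ord_pi_pow hx hqr k).ne_zero))
  have hmul : z * qV hx hqr k b hb.1 = qV hx hqr k a ha := by
    apply Subtype.ext
    show (z : FractionRing A) * (𝔸 b / 𝔸 (x 0 ^ k)) = 𝔸 a / 𝔸 (x 0 ^ k)
    rw [← mul_div_assoc, h1]
  have hres : residue (V hx hqr) z * residue (V hx hqr) (qV hx hqr k b hb.1) =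
      residue (V hx hqr) (qV hx hqr k a ha) := by rw [← map_mul, hmul]
  have hne : residue (V hx hqr) (qV hx hqr k b hb.1) ≠ 0 := by
    intro h0
    exact (mem_nonunits_iff.1 ((mem_maximalIdeal _).1 ((residue_eq_zero_iff _).1 h0))) hqb
  rw [eq_div_of_mul_eq hne hres]
  exact L.div_mem (key k a ha) (key k b hb.1)

end residue2

lemma qr_cast {R : Type u} [CommRing R] {c c' : ℕ} (h : c = c') (f : Fin c → R)
    (hf : CAlgX.IsQuasiRegular f) :
    CAlgX.IsQuasiRegular (fun i : Fin c' => f (Fin.cast h.symm i)) := by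
  subst h
  simpa using hf


/-- Let A be a regular local ring which is not a field, K its fraction field and k its residue field.
Then there is a discrete valuation ring V between A and K, with fraction field K, dominating A,
whose residue field is a purely transcendental extension of k: for some ring map from k compatible
with A → V there is an algebraically independent family generating the residue field of V as a field
over k. -/
theorem result (A : Type u) [CommRing A] [IsRegularLocalRing A]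
    (hA : ¬ IsField A) :
    ∃ (V : Subalgebra A (FractionRing A)) (_ : IsDomain V) (_ : IsDiscreteValuationRing V), IsFractionRing V (FractionRing A) ∧
      (IsLocalRing.maximalIdeal V).comap (algebraMap A V) = IsLocalRing.maximalIdeal A ∧
      ∃ (φ : IsLocalRing.ResidueField A →+* IsLocalRing.ResidueField V),
        φ.comp (IsLocalRing.residue A) = (IsLocalRing.residue V).comp (algebraMap A V) ∧
        letI := φ.toAlgebra
        ∃ (ι : Type u) (t : ι → IsLocalRing.ResidueField V), AlgebraicIndependent (IsLocalRing.ResidueField A) t ∧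
          IntermediateField.adjoin (IsLocalRing.ResidueField A) (Set.range t) = ⊤ := by
  haveI : IsDomain A := Groth.Agent.H23.isDomain_of_isRegularLocalRing A
  obtain ⟨c, x, hc, hx⟩ := Groth.Agent.H17.RegHilb.exists_generators (maximalIdeal A)
    (IsNoetherian.noetherian _)
  have hd : ringKrullDim A = c := by
    have h1 : ((maximalIdeal A).spanFinrank : WithBot ℕ∞) = ringKrullDim A :=
      IsRegularLocalRing.spanFinrank_maximalIdeal
    rw [← h1, hc]
  have hW := Groth.Agent.H23.weaklyRegular_generators c A hd x hx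
  have hK := (Groth.Agent.S15821.result A (List.ofFn x) hW).1
  have hH1 := Groth.Agent.H59.Kosz.isH1Regular_of_isKoszulRegularSeq (List.ofFn x) hK
  have hQR := Groth.Agent.S2103.result _ hH1
  have hlen : (List.ofFn x).length = c := List.length_ofFn
  have hqr : CAlgX.IsQuasiRegular x := by
    have h2 := qr_cast hlen _ hQR
    have h3 : (fun i : Fin c => (List.ofFn x).get (Fin.cast hlen.symm i)) = x := by
      funext i; simp
    rwa [h3] at h2
  have hc0 : c ≠ 0 := by
    rintro rfl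
    apply hA
    rw [IsLocalRing.isField_iff_maximalIdeal_eq, ← hx]
    simp
  obtain ⟨n, rfl⟩ := Nat.exists_eq_succ_of_ne_zero hc0
  haveI hdvr := isDVR hx hqr
  haveI hloc := isLocalHom_V hx hqr
  refine ⟨V hx hqr, inferInstance, hdvr, isFractionRing_V hx hqr, ?_,
    ResidueField.map (algebraMap A (V hx hqr)), rfl, ?_⟩
  · ext a
    rw [Ideal.mem_comap, mem_maximalIdeal, mem_nonunits_iff]
    constructor
    · intro h
      by_contra hna
      exact h ((IsLocalRing.notMem_maximalIdeal.1 hna).map _)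
    · intro ha
      exact not_isUnit_algebraMap hx hqr ha
  · letI := (ResidueField.map (algebraMap A (V hx hqr))).toAlgebra
    refine ⟨ULift.{u} (Fin n), fun j => residue _ (yV hx hqr j.down.succ), ?_, ?_⟩
    · have h1 : AlgebraicIndependent (ResidueField A)
          (fun j : Fin n => residue (V hx hqr) (yV hx hqr j.succ)) := by
        rw [algebraicIndependent_iff]
        intro p hp
        rw [aeval_def] at hp
        exact indep hx hqr _ rfl p hp
      exact h1.comp ULift.down ULift.down_injective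
    · rw [eq_top_iff]
      intro r _
      exact gen_aux hx hqr (ResidueField.map (algebraMap A (V hx hqr))) rfl
        (IntermediateField.adjoin (ResidueField A)
          (Set.range fun j : ULift.{u} (Fin n) => residue _ (yV hx hqr j.down.succ))).toSubfield
        (fun c => IntermediateField.algebraMap_mem _ c)
        (fun j => IntermediateField.subset_adjoin _ _ ⟨⟨j⟩, rfl⟩) r

end Groth.Agent.S4947
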