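import Groth.Statements.S4959
import Mathlib

set_option autoImplicit false
open CategoryTheory AlgebraicGeometry
universe u v w
open EGA43

namespace Groth.Agent.S4959

section Aux
open CategoryTheory.Limits MorphismProperty

theorem aux2 {X Y Y' T XT YT W : Scheme.{u}} {f : X ⟶ Y} {g : Y' ⟶ Y} {i₁ : XT ⟶ X} {i₂ : T ⟶ Y}
    {fT : XT ⟶ T} {p1 : YT ⟶ T} {p2 : YT ⟶ Y'} {q1 : W ⟶ XT} {q2 : W ⟶ YT}
    (hA : IsPullback fT i₁ i₂ f) (hB : IsPullback p1 p2 i₂ g) (hC : IsPullback q1 q2 fT p1)
    (h : MorphismProperty.universally (topologically @Topology.IsQuotientMap) (pullback.snd f g))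
    (hp1 : Topology.IsQuotientMap p1) : Topology.IsQuotientMap fT := by
  have hD : IsPullback (pullback.fst f g) (pullback.snd f g) f g := IsPullback.of_hasPullback f g
  have hF : IsPullback (q1 ≫ i₁) q2 f (p1 ≫ i₂) := hC.paste_horiz hA.flip
  have hw : (q1 ≫ i₁) ≫ f = (q2 ≫ p2) ≫ g := by
    rw [hF.w, Category.assoc, hB.w]
  have hl1 : pullback.lift (q1 ≫ i₁) (q2 ≫ p2) hw ≫ pullback.fst f g = q1 ≫ i₁ :=
    pullback.lift_fst _ _ _
  have hl2 : pullback.lift (q1 ≫ i₁) (q2 ≫ p2) hw ≫ pullback.snd f g = q2 ≫ p2 :=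
    pullback.lift_snd _ _ _
  have hF' : IsPullback (pullback.lift (q1 ≫ i₁) (q2 ≫ p2) hw ≫ pullback.fst f g) q2 f
      (p2 ≫ g) := by
    rw [hl1, ← hB.w]; exact hF
  have hE : IsPullback (pullback.lift (q1 ≫ i₁) (q2 ≫ p2) hw) q2 (pullback.snd f g) p2 :=
    IsPullback.of_right hF' hl2 hD
  have hq2 : Topology.IsQuotientMap q2 := h _ p2 q2 hE.flip
  have hcomp : Topology.IsQuotientMap (q2 ≫ p1) := hp1.comp hq2
  rw [← hC.w] at hcomp
  exact Topology.IsQuotientMap.of_comp q1.continuous fT.continuous hcomp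

theorem aux {X Y Y' : Scheme.{u}} (f : X ⟶ Y) (g : Y' ⟶ Y) [Surjective g]
    (hg : IsProper g ∨ (Flat g ∧ QuasiCompact g))
    (h : MorphismProperty.universally (topologically @Topology.IsQuotientMap) (pullback.snd f g)) :
    MorphismProperty.universally (topologically @Topology.IsQuotientMap) f := by
  intro XT T i₁ i₂ fT hA
  refine aux2 hA (IsPullback.of_hasPullback i₂ g)
    (IsPullback.of_hasPullback fT (pullback.fst i₂ g)) h ?_
  rcases hg with hg | ⟨hg1, hg2⟩
  · exact ((pullback.fst i₂ g).isClosedMap).isQuotientMap (pullback.fst i₂ g).continuous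
      (pullback.fst i₂ g).surjective
  · exact Flat.isQuotientMap_of_surjective (pullback.fst i₂ g)

end Aux

open CategoryTheory.Limits in
/-- Let f : X ⟶ Y be a morphism of schemes and g : Y' ⟶ Y a surjective morphism which is either proper,
or flat and quasi-compact. If the base change f' : X ×_Y Y' ⟶ Y' is universally submersive (all of
its base changes are topological quotient maps), then f is universally submersive. -/
theorem result {X Y Y' : Scheme.{u}} (f : X ⟶ Y) (g : Y' ⟶ Y) [Surjective g]
    (hg : IsProper g ∨ (Flat g ∧ QuasiCompact g))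
    (h : MorphismProperty.universally (topologically @Topology.IsQuotientMap) (pullback.snd f g)) :
    MorphismProperty.universally (topologically @Topology.IsQuotientMap) f := by
  exact aux f g hg h

end Groth.Agent.S4959
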