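import Groth.Statements.S4972
import Groth.Agent.H38.UnivOpenFibreDim
import Groth.Agent.H32.ValWit

set_option autoImplicit false
open CategoryTheory AlgebraicGeometry
universe u v w
open EGA43

namespace Groth.Agent.S4972

/-- Let f : X ⟶ S be a morphism of finite type, (g_i : Y_i ⟶ S) a family of universally open morphisms
and (u_i : Y_i ⟶ X) a family of S-morphisms. For s in S let Z(s) be the closure, in the fibre f⁻¹(s)
(with the topology induced from X), of the union of the sets u_i(Y_i) ∩ f⁻¹(s) (the images of the
fibres of the Y_i over s), and let d(s) = dim Z(s). Then for every point s of S and every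
generization s' of s one has d(s) ≤ d(s'). -/
theorem result {X S : Scheme.{u}} (f : X ⟶ S) [LocallyOfFiniteType f]
    [QuasiCompact f] {ι : Type u} (Y : ι → Scheme.{u}) (g : ∀ i, Y i ⟶ S) [∀ i, UniversallyOpen (g i)]
    (v : ∀ i, Y i ⟶ X) (hv : ∀ i, v i ≫ f = g i) (s s' : S) (hs : s' ⤳ s) :
    letI d : S → WithBot ℕ∞ := fun t =>
      topologicalKrullDim ↥(f.base ⁻¹' {t} ∩ closure ((⋃ i, Set.range (v i).base) ∩ f.base ⁻¹' {t}))
    d s ≤ d s' := by
  obtain ⟨A, γ, hw, hγc⟩ := Groth.Agent.H32.ValWit.exists_valuationSubring_of_specializes
    (𝟙 S) s' s (by simpa using hs)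
  have hγη : γ.base (genericPoint (Spec (CommRingCat.of A))) = s' := by
    have h1 := congrArg (fun q => q.base (IsLocalRing.closedPoint (S.residueField s'))) hw
    simp only [Category.comp_id] at h1
    have h2 : (S.fromSpecResidueField s').base (IsLocalRing.closedPoint (S.residueField s')) = s' :=
      Scheme.fromSpecResidueField_apply _ _
    have h3 : (Spec.map (CommRingCat.ofHom (algebraMap A (S.residueField s')))).base
        (IsLocalRing.closedPoint (S.residueField s')) = genericPoint (Spec (CommRingCat.of A)) := by
      rw [genericPoint_eq_bot_of_affine]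
      apply PrimeSpectrum.ext
      show Ideal.comap (algebraMap A (S.residueField s'))
        (IsLocalRing.closedPoint (S.residueField s')).asIdeal = ⊥
      have h0 : (IsLocalRing.closedPoint (S.residueField s')).asIdeal = ⊥ :=
        IsLocalRing.maximalIdeal_eq_bot
      rw [h0, ← RingHom.ker_eq_comap_bot, RingHom.ker_eq_bot_iff_eq_zero]
      intro a ha
      exact Subtype.ext ha
    rw [← h3]
    have h4 : (S.fromSpecResidueField s').base (IsLocalRing.closedPoint (S.residueField s')) =
      γ.base ((Spec.map (CommRingCat.ofHom (algebraMap A (S.residueField s')))).base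
        (IsLocalRing.closedPoint (S.residueField s'))) := h1
    rw [← h4, h2]
  have key := Groth.Agent.H38.UnivOpenFibreDim.dim_le_of_valuationRing f γ Y g v hv
    (IsLocalRing.closedPoint A) rfl
  have hγc' : γ.base (IsLocalRing.closedPoint A) = s := hγc
  rw [hγc', hγη] at key
  exact key

end Groth.Agent.S4972
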