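import Groth.Statements.S4980
import Groth.Agent.H7.DvrLenSkel
import Groth.Agent.H1.DvrLen_M2
import Groth.Agent.H66.DvrLen_M3

set_option autoImplicit false
open CategoryTheory AlgebraicGeometry
universe u v w
open EGA43

namespace Groth.Agent.S4980

/-- Let A be a discrete valuation ring, Y = Spec A with closed point y and generic point y', f : X ⟶ Y a
proper morphism and F a coherent O_X-module which is f-flat; write F_y, F_{y'} for the restrictions
of F to the two fibres and suppose F_y has no embedded associated point. Then the sum, over the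
maximal points z' of Supp(F_{y'}), of the lengths of the stalks (F_{y'})_{z'} is at most the sum,
over the maximal points z of Supp(F_y), of the lengths of the stalks (F_y)_z (lengths over the local
rings of the fibres). -/
theorem result {A : Type u} [CommRing A] [IsDomain A]
    [IsDiscreteValuationRing A] {X : Scheme.{u}} (f : X ⟶ Spec (CommRingCat.of A)) [IsProper f] (F : X.Modules)
    (hF : Coh.IsCoh F) (hflat : FlatMod.IsFlatOver f F)
    (hemb : AssSch.NoEmbedded ((Scheme.Modules.pullback (f.fiberι (IsLocalRing.closedPoint A))).obj F)) :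
    letI y : ↥(Spec (CommRingCat.of A)) := IsLocalRing.closedPoint A
    letI y' : ↥(Spec (CommRingCat.of A)) := genericPoint (Spec (CommRingCat.of A))
    ∑ᶠ z' : {v : ↥(f.fiber y') // Nontrivial (((Scheme.Modules.pullback (f.fiberι y')).obj F).presheaf.stalk v) ∧
        ∀ w : ↥(f.fiber y'), Nontrivial (((Scheme.Modules.pullback (f.fiberι y')).obj F).presheaf.stalk w) → v ∈ closure {w} → w = v},
        Module.length ((f.fiber y').presheaf.stalk z'.1) (((Scheme.Modules.pullback (f.fiberι y')).obj F).presheaf.stalk z'.1) ≤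
      ∑ᶠ z : {v : ↥(f.fiber y) // Nontrivial (((Scheme.Modules.pullback (f.fiberι y)).obj F).presheaf.stalk v) ∧
        ∀ w : ↥(f.fiber y), Nontrivial (((Scheme.Modules.pullback (f.fiberι y)).obj F).presheaf.stalk w) → v ∈ closure {w} → w = v},
        Module.length ((f.fiber y).presheaf.stalk z.1) (((Scheme.Modules.pullback (f.fiberι y)).obj F).presheaf.stalk z.1) := by
  classical
  show (∑ᶠ z' : {v : ↥(f.fiber (genericPoint ↥(Spec (CommRingCat.of A)))) // Groth.Agent.H7.DvrLen.MaxSupp
      ((Scheme.Modules.pullback (f.fiberι (genericPoint ↥(Spec (CommRingCat.of A))))).obj F) v},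
      Module.length ((f.fiber (genericPoint ↥(Spec (CommRingCat.of A)))).presheaf.stalk z'.1)
        (((Scheme.Modules.pullback (f.fiberι (genericPoint ↥(Spec (CommRingCat.of A))))).obj F).presheaf.stalk z'.1)) ≤
    ∑ᶠ z : {v : ↥(f.fiber (IsLocalRing.closedPoint A)) // Groth.Agent.H7.DvrLen.MaxSupp
      ((Scheme.Modules.pullback (f.fiberι (IsLocalRing.closedPoint A))).obj F) v},
      Module.length ((f.fiber (IsLocalRing.closedPoint A)).presheaf.stalk z.1)
        (((Scheme.Modules.pullback (f.fiberι (IsLocalRing.closedPoint A))).obj F).presheaf.stalk z.1)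
  haveI finη := Groth.Agent.H7.DvrLenSkel.finite_maxSupp_fibre f F hF (genericPoint ↥(Spec (CommRingCat.of A)))
  haveI finy := Groth.Agent.H7.DvrLenSkel.finite_maxSupp_fibre f F hF (IsLocalRing.closedPoint A)
  haveI := Fintype.ofFinite {v : ↥(f.fiber (genericPoint ↥(Spec (CommRingCat.of A)))) // Groth.Agent.H7.DvrLen.MaxSupp
      ((Scheme.Modules.pullback (f.fiberι (genericPoint ↥(Spec (CommRingCat.of A))))).obj F) v}
  haveI := Fintype.ofFinite {v : ↥(f.fiber (IsLocalRing.closedPoint A)) // Groth.Agent.H7.DvrLen.MaxSupp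
      ((Scheme.Modules.pullback (f.fiberι (IsLocalRing.closedPoint A))).obj F) v}
  rw [finsum_eq_sum_of_fintype, finsum_eq_sum_of_fintype]
  choose φ hφ1 hφ2 using fun z' : {v : ↥(f.fiber (genericPoint ↥(Spec (CommRingCat.of A)))) // Groth.Agent.H7.DvrLen.MaxSupp
      ((Scheme.Modules.pullback (f.fiberι (genericPoint ↥(Spec (CommRingCat.of A))))).obj F) v} =>
    Groth.Agent.H1.DvrLen_M2.exists_maxSupp_specialization f F hF hflat hemb z'.1 z'.2
  let Φ : {v : ↥(f.fiber (genericPoint ↥(Spec (CommRingCat.of A)))) // Groth.Agent.H7.DvrLen.MaxSupp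
      ((Scheme.Modules.pullback (f.fiberι (genericPoint ↥(Spec (CommRingCat.of A))))).obj F) v} →
      {v : ↥(f.fiber (IsLocalRing.closedPoint A)) // Groth.Agent.H7.DvrLen.MaxSupp
      ((Scheme.Modules.pullback (f.fiberι (IsLocalRing.closedPoint A))).obj F) v} := fun z' => ⟨φ z', hφ1 z'⟩
  rw [← Finset.sum_fiberwise Finset.univ Φ]
  apply Finset.sum_le_sum
  intro z _
  apply Groth.Agent.H66.DvrLen_M3.sum_length_le f F hF hflat z.1
  intro z' hz'
  have h1 : Φ z' = z := (Finset.mem_filter.mp hz').2
  have h2 : φ z' = z.1 := congrArg Subtype.val h1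
  rw [← h2]
  exact hφ2 z'

end Groth.Agent.S4980
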