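import Groth.Statements.S4985
import Mathlib
import Groth.Agent.H9.SubschemeDim
import Groth.Agent.S1554

set_option linter.style.haveILetI false

set_option autoImplicit false
open CategoryTheory AlgebraicGeometry
universe u v w
open EGA43

namespace Groth.Agent.S4985

open Groth.Agent.H54 Groth.Agent.H9.DimFormulaGen Groth.Agent.H9.DimFormulaApp
  Groth.Agent.H9.DimFormulaEq Groth.Agent.H9.FibreGeneric Groth.Agent.H71.DimFun
  Groth.Agent.H9.DimFormulaScheme Groth.Agent.H9.SubschemeDim Groth.Agent.H9.FibreFormula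

/-- transport version of `coheight_eq_of_isEmbedding`. -/
theorem coheight_eq_of_isEmbedding' {Y' Y : Scheme.{u}} (i : Y' ⟶ Y)
    (hi : Topology.IsEmbedding i.base) (η' : Y) (hr : Set.range i.base = closure {η'}) (v : Y')
    (y : Y) (hy : i.base v = y) (w' : PrimeSpectrum (Y.presheaf.stalk y))
    (hw' : Y.fromSpecStalk y w' = η') : Order.coheight v = Order.coheight w' := by
  subst hy
  exact coheight_eq_of_isEmbedding i hi η' hr v w' hw'

theorem key {Z X Y Y' : Scheme.{u}} [IsLocallyNoetherian Y] (f : X ⟶ Y) [LocallyOfFiniteType f]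
    (j : Z ⟶ X) [IsClosedImmersion j] (X' : Set X) (hX' : Set.range j.base = X')
    (hirr : IsIrreducible X') (hcl : IsClosed X') (w : Z)
    (i : Y' ⟶ Y) [IsClosedImmersion i] (η' : Y)
    (hη' : closure ({η'} : Set Y) = closure (f.base '' X'))
    (hi : Set.range i.base = closure (f.base '' X'))
    (v : Y') (hv : i.base v = f.base (j.base w)) :
    (ringKrullDim (Z.presheaf.stalk w) =
        ringKrullDim (Y.presheaf.stalk (f.base (j.base w))) +
          ringKrullDim ((f.fiber (f.base (j.base w))).presheaf.stalk (f.asFiber (j.base w))) ↔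
      (ringKrullDim (Y'.presheaf.stalk v) = ringKrullDim (Y.presheaf.stalk (f.base (j.base w))) ∧
        ringKrullDim (((j ≫ f).fiber ((j ≫ f).base w)).presheaf.stalk ((j ≫ f).asFiber w)) =
          ringKrullDim ((f.fiber (f.base (j.base w))).presheaf.stalk (f.asFiber (j.base w))) ∧
        FlatMor.fibreDimAt (j ≫ f) w = topologicalKrullDim ↥(X' ∩ f.base ⁻¹' {η'}) ∧
        ringKrullDim (Z.presheaf.stalk w) = ringKrullDim (Y'.presheaf.stalk v) +
          ringKrullDim (((j ≫ f).fiber ((j ≫ f).base w)).presheaf.stalk ((j ≫ f).asFiber w)))) := by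
  haveI : LocallyOfFiniteType (j ≫ f) := inferInstance
  haveI : IsLocallyNoetherian Z := LocallyOfFiniteType.isLocallyNoetherian (j ≫ f)
  haveI : IsLocallyNoetherian X := LocallyOfFiniteType.isLocallyNoetherian f
  have hjemb : Topology.IsEmbedding j.base := j.isEmbedding
  -- the generic point of `Z`
  obtain ⟨ξX, hgenX⟩ : ∃ ξX : X, closure {ξX} = X' :=
    ⟨hirr.genericPoint, hirr.closure_genericPoint hcl⟩
  obtain ⟨ξ', hξ'⟩ : ∃ ξ' : Z, j.base ξ' = ξX := by
    have : ξX ∈ X' := by
      rw [← hgenX]; exact subset_closure rfl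
    rw [← hX'] at this
    exact this
  have hξall : ∀ a : Z, ξ' ⤳ a := by
    intro a
    rw [← hjemb.isInducing.specializes_iff, hξ', specializes_iff_mem_closure, hgenX, ← hX']
    exact ⟨a, rfl⟩
  have hξmax : ∀ t : Z, t ⤳ ξ' → t = ξ' := fun t ht => (ht.antisymm (hξall t)).eq
  -- its image is `η'`
  have hgξ : (j ≫ f).base ξ' = η' := by
    have h1 : closure ({(j ≫ f).base ξ'} : Set Y) = closure (f.base '' X') := by
      apply le_antisymm
      · apply closure_mono
        rw [Set.singleton_subset_iff]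
        exact ⟨j.base ξ', hX' ▸ ⟨ξ', rfl⟩, rfl⟩
      · apply closure_minimal _ isClosed_closure
        rintro _ ⟨a, ha, rfl⟩
        rw [← hgenX, ← hξ'] at ha
        have : j.base ξ' ⤳ a := specializes_iff_mem_closure.mpr ha
        exact (this.map f.continuous).mem_closure
    have h2 : closure ({(j ≫ f).base ξ'} : Set Y) = closure {η'} := h1.trans hη'.symm
    exact (isGenericPoint_def.mpr h2).eq isGenericPoint_closure
  -- transcendence degrees
  obtain ⟨E, hE⟩ := exists_trdeg_eq_nat (j ≫ f) ξ'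
  obtain ⟨n, b, hn, hb, hfd⟩ := fibre_formula (j ≫ f) w
  -- the primes of `ξ'` and of its image
  obtain ⟨vξ, hvξ⟩ := exists_of_specializes Z (hξall w)
  obtain ⟨w', hw'⟩ := exists_of_specializes Y ((hξall w).map (j ≫ f).continuous)
  have hG := (coheight_add_trdeg_aux (j ≫ f) w ξ' (hξall w) n E hn hE vξ hvξ w' hw').1
  have hvd : ((Order.coheight vξ : ℕ∞) : WithBot ℕ∞) = ringKrullDim (Z.presheaf.stalk w) := by
    apply coheight_eq_ringKrullDim_of_forall_le
    intro p
    rw [← fromSpecStalk_specializes_iff, hvξ]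
    exact hξall _
  -- Chevalley
  have hfξ := fibreDimAt_eq_trdeg_of_forall (j ≫ f) ξ' hξmax E hE
  have hC := Groth.Agent.S1554.fibreDimAt_le_of_specializes (j ≫ f) (hξall w)
  rw [hfξ, hfd] at hC
  -- the local ring of `Y'`
  have h4 : Order.coheight v = Order.coheight w' :=
    coheight_eq_of_isEmbedding' i i.isEmbedding η' (hi.trans hη'.symm) v _ hv w' (hw'.trans hgξ)
  have hA' : ringKrullDim (Y'.presheaf.stalk v) = ((Order.coheight w' : ℕ∞) : WithBot ℕ∞) := by
    rw [ringKrullDim_stalk_eq_coheight, h4]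
  have hwle : ((Order.coheight w' : ℕ∞) : WithBot ℕ∞) ≤
      ringKrullDim (Y.presheaf.stalk (f.base (j.base w))) := Order.coheight_le_krullDim w'
  -- fibres
  have h5 := stalk_fibre_dim_le_of_isEmbedding j hjemb f w
  -- the generic fibre
  have h6 : topologicalKrullDim ↥(X' ∩ f.base ⁻¹' {η'}) = (E : WithBot ℕ∞) := by
    rw [← dim_closure_inter_fibre (j ≫ f) ξ' hξmax E hE]
    symm
    have hmem : ∀ a : ↥(closure ({ξ'} : Set Z) ∩ (j ≫ f).base ⁻¹' {(j ≫ f).base ξ'}),
        j.base a.1 ∈ X' ∩ f.base ⁻¹' {η'} := by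
      intro a
      refine ⟨hX' ▸ ⟨a.1, rfl⟩, ?_⟩
      have h1 : (j ≫ f).base a.1 = (j ≫ f).base ξ' := a.2.2
      exact h1.trans hgξ
    let ψ : ↥(closure ({ξ'} : Set Z) ∩ (j ≫ f).base ⁻¹' {(j ≫ f).base ξ'}) →
        ↥(X' ∩ f.base ⁻¹' {η'}) := fun a => ⟨_, hmem a⟩
    have hemb : Topology.IsEmbedding ψ := by
      have h1 : Topology.IsEmbedding
          (fun a : ↥(closure ({ξ'} : Set Z) ∩ (j ≫ f).base ⁻¹' {(j ≫ f).base ξ'}) =>
            j.base a.1) := hjemb.comp Topology.IsEmbedding.subtypeVal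
      exact h1.codRestrict _ hmem
    have hsurj : Function.Surjective ψ := by
      rintro ⟨t, ht1, ht2⟩
      rw [← hX'] at ht1
      obtain ⟨a, rfl⟩ := ht1
      have h2 : (j ≫ f).base a = (j ≫ f).base ξ' := (show (j ≫ f).base a = η' from ht2).trans hgξ.symm
      exact ⟨⟨a, (hξall a).mem_closure, h2⟩, rfl⟩
    exact IsHomeomorph.topologicalKrullDim_eq ψ
      (hemb.toHomeomorphOfSurjective hsurj).isHomeomorph
  -- everything is a natural number
  obtain ⟨dA, hdA⟩ := exists_ringKrullDim_eq_nat (Y.presheaf.stalk (f.base (j.base w)))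
  obtain ⟨dB', hdB'⟩ := exists_ringKrullDim_eq_nat (Z.presheaf.stalk w)
  obtain ⟨n', dBk, -, hdBk, -⟩ := fibre_formula f (j.base w)
  obtain ⟨cw, hcw⟩ := exists_coheight_eq_nat w'
  rw [hvd, hdB', hcw] at hG
  rw [hcw] at hA' hwle
  rw [hdA] at hwle
  rw [hb, hdBk] at h5
  rw [hdB', hdA, hdBk, hA', hb, hfd, h6]
  have e1 : dB' + n ≤ cw + E := by exact_mod_cast hG
  have e2 : E ≤ n + b := by exact_mod_cast hC
  have e3 : cw ≤ dA := by exact_mod_cast hwle
  have e4 : b ≤ dBk := by exact_mod_cast h5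
  have g1 : ((dB' : ℕ) : WithBot ℕ∞) = (dA : WithBot ℕ∞) + (dBk : WithBot ℕ∞) ↔ dB' = dA + dBk := by
    norm_cast
  have g2 : (((cw : ℕ) : ℕ∞) : WithBot ℕ∞) = ((dA : ℕ) : WithBot ℕ∞) ↔ cw = dA := by norm_cast
  have g3 : ((b : ℕ) : WithBot ℕ∞) = ((dBk : ℕ) : WithBot ℕ∞) ↔ b = dBk := by norm_cast
  have g4 : (((n + b : ℕ)) : WithBot ℕ∞) = ((E : ℕ) : WithBot ℕ∞) ↔ n + b = E := by norm_cast
  have g5 : ((dB' : ℕ) : WithBot ℕ∞) = (((cw : ℕ) : ℕ∞) : WithBot ℕ∞) + ((b : ℕ) : WithBot ℕ∞) ↔
      dB' = cw + b := by norm_cast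
  rw [g1, g2, g3, g4, g5]
  omega

theorem result' {X Y : Scheme.{u}} [IsLocallyNoetherian Y] (f : X ⟶ Y)
    [LocallyOfFiniteType f] [QuasiCompact f] (x : X) (X' : TopologicalSpace.Closeds X) (hirr : IsIrreducible (X' : Set X))
    (hx : x ∈ X') (w : ↥(Scheme.IdealSheafData.vanishingIdeal X').subscheme)
    (hw : (Scheme.IdealSheafData.vanishingIdeal X').subschemeι.base w = x)
    (v : ↥(Scheme.IdealSheafData.vanishingIdeal
      (⟨closure (f.base '' (X' : Set X)), isClosed_closure⟩ : TopologicalSpace.Closeds Y)).subscheme)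
    (hv : (Scheme.IdealSheafData.vanishingIdeal
      (⟨closure (f.base '' (X' : Set X)), isClosed_closure⟩ : TopologicalSpace.Closeds Y)).subschemeι.base v = f.base x)
    (η' : Y) (hη' : closure ({η'} : Set Y) = closure (f.base '' (X' : Set X))) :
    letI ιX := (Scheme.IdealSheafData.vanishingIdeal X').subschemeι
    letI dA := ringKrullDim (Y.presheaf.stalk (f.base x))
    letI dB := ringKrullDim (X.presheaf.stalk x)
    letI dA' := ringKrullDim ((Scheme.IdealSheafData.vanishingIdeal
      (⟨closure (f.base '' (X' : Set X)), isClosed_closure⟩ : TopologicalSpace.Closeds Y)).subscheme.presheaf.stalk v)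
    letI dB' := ringKrullDim ((Scheme.IdealSheafData.vanishingIdeal X').subscheme.presheaf.stalk w)
    letI dBk := ringKrullDim ((f.fiber (f.base x)).presheaf.stalk (f.asFiber x))
    letI dB'k := ringKrullDim (((ιX ≫ f).fiber ((ιX ≫ f).base w)).presheaf.stalk ((ιX ≫ f).asFiber w))
    letI e' := topologicalKrullDim ↥((X' : Set X) ∩ f.base ⁻¹' {η'})
    (dB' = dA + dBk ↔
      (dA' = dA ∧ dB'k = dBk ∧ FlatMor.fibreDimAt (ιX ≫ f) w = e' ∧ dB' = dA' + dB'k)) := by
  subst hw
  have hr1 : Set.range (Scheme.IdealSheafData.vanishingIdeal X').subschemeι.base = (X' : Set X) := by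
    rw [Scheme.IdealSheafData.range_subschemeι, Scheme.IdealSheafData.coe_support_vanishingIdeal]
  have hr2 : Set.range (Scheme.IdealSheafData.vanishingIdeal
      (⟨closure (f.base '' (X' : Set X)), isClosed_closure⟩ : TopologicalSpace.Closeds Y)).subschemeι.base =
      closure (f.base '' (X' : Set X)) := by
    rw [Scheme.IdealSheafData.range_subschemeι, Scheme.IdealSheafData.coe_support_vanishingIdeal]
    rfl
  exact key f (Scheme.IdealSheafData.vanishingIdeal X').subschemeι (X' : Set X) hr1 hirr X'.isClosed w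
    (Scheme.IdealSheafData.vanishingIdeal
      (⟨closure (f.base '' (X' : Set X)), isClosed_closure⟩ : TopologicalSpace.Closeds Y)).subschemeι
    η' hη' hr2 v hv


/-- Let Y be a locally Noetherian scheme, f : X ⟶ Y a morphism of finite type, x a point of X with y = f
x, X' an irreducible closed subset of X containing x, regarded as a reduced closed subscheme, and Y'
the closure of f(X') regarded as a reduced closed subscheme of Y, with generic point η'. Write A, B,
A', B' for the local rings of Y at y, of X at x, of Y' at y and of X' at x, and B ⊗ κ(y), B' ⊗ κ(y)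
for the local rings at x of the fibres over y of X and of X'. Then dim B' = dim A + dim(B ⊗ κ(y)) if
and only if all of the following hold: (i) dim A' = dim A; (ii) dim(B' ⊗ κ(y)) = dim(B ⊗ κ(y));
(iii) X' is equidimensional over Y' at x, i.e. the local dimension at x of the fibre of X' over y
equals dim(X' ∩ f⁻¹(η')); (iv) dim B' = dim A' + dim(B' ⊗ κ(y)) (the published (iv) carries the
correction term dim_x − dim of (iii), which vanishes under (iii)). -/
theorem result {X Y : Scheme.{u}} [IsLocallyNoetherian Y] (f : X ⟶ Y)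
    [LocallyOfFiniteType f] [QuasiCompact f] (x : X) (X' : TopologicalSpace.Closeds X) (hirr : IsIrreducible (X' : Set X))
    (hx : x ∈ X') (w : ↥(Scheme.IdealSheafData.vanishingIdeal X').subscheme)
    (hw : (Scheme.IdealSheafData.vanishingIdeal X').subschemeι.base w = x)
    (v : ↥(Scheme.IdealSheafData.vanishingIdeal
      (⟨closure (f.base '' (X' : Set X)), isClosed_closure⟩ : TopologicalSpace.Closeds Y)).subscheme)
    (hv : (Scheme.IdealSheafData.vanishingIdeal
      (⟨closure (f.base '' (X' : Set X)), isClosed_closure⟩ : TopologicalSpace.Closeds Y)).subschemeι.base v = f.base x)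
    (η' : Y) (hη' : closure ({η'} : Set Y) = closure (f.base '' (X' : Set X))) :
    letI ιX := (Scheme.IdealSheafData.vanishingIdeal X').subschemeι
    letI dA := ringKrullDim (Y.presheaf.stalk (f.base x))
    letI dB := ringKrullDim (X.presheaf.stalk x)
    letI dA' := ringKrullDim ((Scheme.IdealSheafData.vanishingIdeal
      (⟨closure (f.base '' (X' : Set X)), isClosed_closure⟩ : TopologicalSpace.Closeds Y)).subscheme.presheaf.stalk v)
    letI dB' := ringKrullDim ((Scheme.IdealSheafData.vanishingIdeal X').subscheme.presheaf.stalk w)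
    letI dBk := ringKrullDim ((f.fiber (f.base x)).presheaf.stalk (f.asFiber x))
    letI dB'k := ringKrullDim (((ιX ≫ f).fiber ((ιX ≫ f).base w)).presheaf.stalk ((ιX ≫ f).asFiber w))
    letI e' := topologicalKrullDim ↥((X' : Set X) ∩ f.base ⁻¹' {η'})
    (dB' = dA + dBk ↔
      (dA' = dA ∧ dB'k = dBk ∧ FlatMor.fibreDimAt (ιX ≫ f) w = e' ∧ dB' = dA' + dB'k)) := by
  exact result' f x X' hirr hx w hw v hv η' hη'

end Groth.Agent.S4985
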