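import Groth.Statements.S4986
import Mathlib
import Groth.Agent.S4985
import Groth.Agent.H9.Equidim

set_option linter.style.haveILetI false

set_option autoImplicit false
open CategoryTheory AlgebraicGeometry
universe u v w
open EGA43

namespace Groth.Agent.S4986


open Groth.Agent.H9.Equidim Groth.Agent.H9.FibreFormula

theorem result' {X Y : Scheme.{u}} [IsLocallyNoetherian Y] (f : X ⟶ Y)
    [LocallyOfFiniteType f] [QuasiCompact f] (x : X) (X' : TopologicalSpace.Closeds X) (hirr : IsIrreducible (X' : Set X))
    (hx : x ∈ X') (w : ↥(Scheme.IdealSheafData.vanishingIdeal X').subscheme)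
    (hw : (Scheme.IdealSheafData.vanishingIdeal X').subschemeι.base w = x)
    (v : ↥(Scheme.IdealSheafData.vanishingIdeal
      (⟨closure (f.base '' (X' : Set X)), isClosed_closure⟩ : TopologicalSpace.Closeds Y)).subscheme)
    (hv : (Scheme.IdealSheafData.vanishingIdeal
      (⟨closure (f.base '' (X' : Set X)), isClosed_closure⟩ : TopologicalSpace.Closeds Y)).subschemeι.base v = f.base x)
    (η' : Y) (hη' : closure ({η'} : Set Y) = closure (f.base '' (X' : Set X))) :
    letI ιX := (Scheme.IdealSheafData.vanishingIdeal X').subschemeι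
    letI dA := ringKrullDim (Y.presheaf.stalk (f.base x))
    letI dB := ringKrullDim (X.presheaf.stalk x)
    letI dA' := ringKrullDim ((Scheme.IdealSheafData.vanishingIdeal
      (⟨closure (f.base '' (X' : Set X)), isClosed_closure⟩ : TopologicalSpace.Closeds Y)).subscheme.presheaf.stalk v)
    letI dB' := ringKrullDim ((Scheme.IdealSheafData.vanishingIdeal X').subscheme.presheaf.stalk w)
    letI dBk := ringKrullDim ((f.fiber (f.base x)).presheaf.stalk (f.asFiber x))
    letI dB'k := ringKrullDim (((ιX ≫ f).fiber ((ιX ≫ f).base w)).presheaf.stalk ((ιX ≫ f).asFiber w))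
    letI e' := topologicalKrullDim ↥((X' : Set X) ∩ f.base ⁻¹' {η'})
    dB = dA + dBk →
      ((dA' = dA ∧ FlatMor.localDim ↥((X' : Set X) ∩ f.base ⁻¹' {f.base x}) ⟨x, ⟨hx, rfl⟩⟩ = FlatMor.fibreDimAt f x ∧
        FlatMor.fibreDimAt (ιX ≫ f) w = e' ∧ dB' = dA' + dB'k) ↔ dB' = dB) := by
  intro hform
  have h85 := Groth.Agent.S4985.result' f x X' hirr hx w hw v hv η' hη'
  have hr1 : Set.range (Scheme.IdealSheafData.vanishingIdeal X').subschemeι.base = (X' : Set X) := by
    rw [Scheme.IdealSheafData.range_subschemeι, Scheme.IdealSheafData.coe_support_vanishingIdeal]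
  have hloc := localDim_inter_fibre_eq (Scheme.IdealSheafData.vanishingIdeal X').subschemeι
    (Scheme.IdealSheafData.vanishingIdeal X').subschemeι.isEmbedding (X' : Set X) hr1 f w x hw hx
  subst hw
  obtain ⟨n, b, hn, hb, hfd⟩ := fibre_formula ((Scheme.IdealSheafData.vanishingIdeal X').subschemeι ≫ f) w
  obtain ⟨n', b', hn', hb', hfd'⟩ :=
    fibre_formula f ((Scheme.IdealSheafData.vanishingIdeal X').subschemeι.base w)
  have htr := trdeg_comp_of_surjectiveOnStalks (Scheme.IdealSheafData.vanishingIdeal X').subschemeι f w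
  have hnn : n = n' := by
    have : (n : Cardinal.{u}) = (n' : Cardinal.{u}) := by
      rw [← hn, ← hn']
      exact htr
    exact_mod_cast this
  subst hnn
  have hii : FlatMor.localDim ↥((X' : Set X) ∩ f.base ⁻¹'
        {f.base ((Scheme.IdealSheafData.vanishingIdeal X').subschemeι.base w)})
        ⟨(Scheme.IdealSheafData.vanishingIdeal X').subschemeι.base w, ⟨hx, rfl⟩⟩ =
      FlatMor.fibreDimAt f ((Scheme.IdealSheafData.vanishingIdeal X').subschemeι.base w) ↔
      ringKrullDim ((((Scheme.IdealSheafData.vanishingIdeal X').subschemeι ≫ f).fiber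
        (((Scheme.IdealSheafData.vanishingIdeal X').subschemeι ≫ f).base w)).presheaf.stalk
          (((Scheme.IdealSheafData.vanishingIdeal X').subschemeι ≫ f).asFiber w)) =
      ringKrullDim ((f.fiber (f.base ((Scheme.IdealSheafData.vanishingIdeal X').subschemeι.base w))).presheaf.stalk
        (f.asFiber ((Scheme.IdealSheafData.vanishingIdeal X').subschemeι.base w))) := by
    rw [hloc, hfd, hfd', hb, hb']
    norm_cast
    omega
  rw [hii, hform]
  exact h85.symm


/-- Let Y be locally Noetherian, f : X ⟶ Y of finite type, x ∈ X, y = f x, X' an irreducible closed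
subset containing x with its reduced structure, Y' the closure of f(X') with its reduced structure
and generic point η', and A, B, A', B' the local rings of Y at y, of X at x, of Y' at y and of X' at
x. Suppose dim B = dim A + dim(B ⊗ κ(y)). Then X' satisfies the four conditions (i) dim A' = dim A,
(ii) dim_x(X' ∩ X_y) = dim_x(X_y), (iii) X' equidimensional over Y' at x, (iv) dim B' = dim A' +
dim(B' ⊗ κ(y)), if and only if dim B' = dim B. -/
theorem result {X Y : Scheme.{u}} [IsLocallyNoetherian Y] (f : X ⟶ Y)
    [LocallyOfFiniteType f] [QuasiCompact f] (x : X) (X' : TopologicalSpace.Closeds X) (hirr : IsIrreducible (X' : Set X))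
    (hx : x ∈ X') (w : ↥(Scheme.IdealSheafData.vanishingIdeal X').subscheme)
    (hw : (Scheme.IdealSheafData.vanishingIdeal X').subschemeι.base w = x)
    (v : ↥(Scheme.IdealSheafData.vanishingIdeal
      (⟨closure (f.base '' (X' : Set X)), isClosed_closure⟩ : TopologicalSpace.Closeds Y)).subscheme)
    (hv : (Scheme.IdealSheafData.vanishingIdeal
      (⟨closure (f.base '' (X' : Set X)), isClosed_closure⟩ : TopologicalSpace.Closeds Y)).subschemeι.base v = f.base x)
    (η' : Y) (hη' : closure ({η'} : Set Y) = closure (f.base '' (X' : Set X))) :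
    letI ιX := (Scheme.IdealSheafData.vanishingIdeal X').subschemeι
    letI dA := ringKrullDim (Y.presheaf.stalk (f.base x))
    letI dB := ringKrullDim (X.presheaf.stalk x)
    letI dA' := ringKrullDim ((Scheme.IdealSheafData.vanishingIdeal
      (⟨closure (f.base '' (X' : Set X)), isClosed_closure⟩ : TopologicalSpace.Closeds Y)).subscheme.presheaf.stalk v)
    letI dB' := ringKrullDim ((Scheme.IdealSheafData.vanishingIdeal X').subscheme.presheaf.stalk w)
    letI dBk := ringKrullDim ((f.fiber (f.base x)).presheaf.stalk (f.asFiber x))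
    letI dB'k := ringKrullDim (((ιX ≫ f).fiber ((ιX ≫ f).base w)).presheaf.stalk ((ιX ≫ f).asFiber w))
    letI e' := topologicalKrullDim ↥((X' : Set X) ∩ f.base ⁻¹' {η'})
    dB = dA + dBk →
      ((dA' = dA ∧ FlatMor.localDim ↥((X' : Set X) ∩ f.base ⁻¹' {f.base x}) ⟨x, ⟨hx, rfl⟩⟩ = FlatMor.fibreDimAt f x ∧
        FlatMor.fibreDimAt (ιX ≫ f) w = e' ∧ dB' = dA' + dB'k) ↔ dB' = dB) := by
  exact result' f x X' hirr hx w hw v hv η' hη'

end Groth.Agent.S4986
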