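import Groth.Statements.S4988
import Mathlib

set_option autoImplicit false
universe u
open CategoryTheory CategoryTheory.Limits AlgebraicGeometry TopologicalSpace
open Unram17

namespace Groth.Agent.S4988

/-- Let h : Y ⟶ S be formally unramified, locally of finite type and separated, let f, g : X ⟶ Y be
morphisms over S whose common composite X ⟶ S is both open and closed as a map of topological
spaces, and let s be a point of S. If f and g have the same restriction to the scheme-theoretic
fibre of X over s, then there is an open and closed subset V of S containing s such that f and g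
agree on the preimage of V; in particular f = g when S is connected. -/
theorem result {X Y S : Scheme.{u}} (h : Y ⟶ S)
    [FormallyUnramified h] [LocallyOfFiniteType h] [IsSeparated h]
    (f g : X ⟶ Y) (w : g ≫ h = f ≫ h)
    (ho : IsOpenMap (f ≫ h).base) (hc : IsClosedMap (f ≫ h).base) (s : ↥S)
    (hs : (f ≫ h).fiberι s ≫ f = (f ≫ h).fiberι s ≫ g) :
    ∃ V : S.Opens, IsClosed (V : Set ↥S) ∧ s ∈ V ∧
      ((f ≫ h) ⁻¹ᵁ V).ι ≫ f = ((f ≫ h) ⁻¹ᵁ V).ι ≫ g := by
  have hΔ : IsOpenImmersion (pullback.diagonal h) := inferInstance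
  obtain ⟨φ, hφ1, hφ2⟩ : ∃ φ : X ⟶ pullback h h, φ ≫ pullback.fst h h = f ∧ φ ≫ pullback.snd h h = g :=
    ⟨pullback.lift f g w.symm, pullback.lift_fst _ _ _, pullback.lift_snd _ _ _⟩
  have hΔ' : IsClosedImmersion (pullback.diagonal h) := inferInstance
  obtain ⟨E, e, e', he, hecl, hcond, hlift⟩ : ∃ (E : Scheme.{u}) (e : E ⟶ X) (e' : E ⟶ Y), IsOpenImmersion e ∧
      IsClosedImmersion e ∧
      e ≫ φ = e' ≫ pullback.diagonal h ∧
      ∀ (T : Scheme.{u}) (a : T ⟶ X) (b : T ⟶ Y), a ≫ φ = b ≫ pullback.diagonal h → ∃ l : T ⟶ E, l ≫ e = a :=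
    ⟨pullback φ (pullback.diagonal h), pullback.fst _ _, pullback.snd _ _, inferInstance, inferInstance,
      pullback.condition,
      fun T a b hab => ⟨pullback.lift a b hab, pullback.lift_fst _ _ _⟩⟩
  have heq : e ≫ f = e ≫ g := by
    have h1 : e ≫ f = e' := by
      have := congrArg (· ≫ pullback.fst h h) hcond
      simpa [hφ1] using this
    have h2 : e ≫ g = e' := by
      have := congrArg (· ≫ pullback.snd h h) hcond
      simpa [hφ2] using this
    rw [h1, h2]
  have hfib : (f ≫ h).base ⁻¹' {s} ⊆ Set.range e.base := by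
    rw [← Scheme.Hom.range_fiberι]
    obtain ⟨l, hl⟩ := hlift _ ((f ≫ h).fiberι s) ((f ≫ h).fiberι s ≫ f) (by
      apply pullback.hom_ext
      · simp [hφ1]
      · simp [hφ2, hs])
    rw [← hl]
    exact Set.range_comp_subset_range l.base e.base
  have hCclosed : IsClosed (Set.range e.base)ᶜ := e.isOpenEmbedding.isOpen_range.isClosed_compl
  have hVopen : IsOpen ((f ≫ h).base '' (Set.range e.base)ᶜ)ᶜ := (hc _ hCclosed).isOpen_compl
  have hCopen : IsOpen (Set.range e.base)ᶜ := e.isClosedEmbedding.isClosed_range.isOpen_compl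
  refine ⟨⟨_, hVopen⟩, ?_, ?_, ?_⟩
  · rw [← isOpen_compl_iff]
    show IsOpen ((f ≫ h).base '' (Set.range e.base)ᶜ)ᶜᶜ
    rw [compl_compl]
    exact ho _ hCopen
  · rintro ⟨x, hxC, hxs⟩
    exact hxC (hfib hxs)
  · have hW : Set.range ((f ≫ h) ⁻¹ᵁ ⟨_, hVopen⟩).ι.base ⊆ Set.range e.base := by
      rw [Scheme.Opens.range_ι]
      intro x hx
      by_contra hxe
      exact hx ⟨x, hxe, rfl⟩
    rw [← IsOpenImmersion.lift_fac e _ hW, Category.assoc, Category.assoc, heq]

end Groth.Agent.S4988
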