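import Groth.Statements.S4990
import Mathlib
import Groth.Agent.H25.DimLocal

set_option autoImplicit false
universe u
open CategoryTheory CategoryTheory.Limits AlgebraicGeometry TopologicalSpace
open Unram17

namespace Groth.Agent.S4990

open Groth.Agent.H25.DimLocal

theorem flat_of_comp_bijective {A B C : Type*} [CommRing A] [CommRing B] [CommRing C]
    (φ : A →+* B) (ψ : B →+* C) (hψ : Function.Bijective ψ) (h : (ψ.comp φ).Flat) : φ.Flat := by
  have : φ = ((RingEquiv.ofBijective ψ hψ).symm : C →+* B).comp (ψ.comp φ) := by
    ext a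
    exact ((RingEquiv.ofBijective ψ hψ).symm_apply_apply (φ a)).symm
  rw [this]
  exact RingHom.Flat.comp h (RingHom.Flat.of_bijective (RingEquiv.bijective _))


/-- Let Y be locally Noetherian and f : X ⟶ Y locally of finite type, smooth on an open neighbourhood of
a point x with image y. Then the Krull dimension of the local ring of X at x is the sum of the Krull
dimension of the local ring of Y at y and of the Krull dimension of the local ring of the fibre, the
quotient of the local ring at x by the extension of the maximal ideal at y. -/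
theorem result {X Y : Scheme.{u}} (f : X ⟶ Y)
    [IsLocallyNoetherian Y] [LocallyOfFiniteType f] (x : ↥X)
    (hx : ∃ U : X.Opens, x ∈ U ∧ Smooth (U.ι ≫ f)) :
    ringKrullDim ↑(X.presheaf.stalk x) =
      ringKrullDim ↑(Y.presheaf.stalk (f.base x)) +
        ringKrullDim (↑(X.presheaf.stalk x) ⧸
          (IsLocalRing.maximalIdeal ↑(Y.presheaf.stalk (f.base x))).map (f.stalkMap x).hom) := by
  haveI : IsLocallyNoetherian X := LocallyOfFiniteType.isLocallyNoetherian f
  obtain ⟨U, hxU, hsm⟩ := hx
  have hflat : (f.stalkMap x).hom.Flat := by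
    let x' : U.toScheme := ⟨x, hxU⟩
    have h1 := Flat.stalkMap (U.ι ≫ f) x'
    have e : (U.ι ≫ f).stalkMap x' = f.stalkMap (U.ι x') ≫ U.ι.stalkMap x' :=
      Scheme.Hom.stalkMap_comp U.ι f x'
    have hψ : Function.Bijective (U.ι.stalkMap x').hom :=
      ConcreteCategory.bijective_of_isIso (U.ι.stalkMap x')
    have h3 : (f.stalkMap (U.ι x')).hom.Flat := by
      refine flat_of_comp_bijective _ (U.ι.stalkMap x').hom hψ ?_
      rw [e] at h1
      exact h1
    exact h3
  exact ringKrullDim_eq_add_of_flat (f.stalkMap x).hom hflat

end Groth.Agent.S4990
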