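import Groth.Statements.S4997
import Groth.Agent.S3830

set_option autoImplicit false
universe u
open CategoryTheory CategoryTheory.Limits AlgebraicGeometry TopologicalSpace
open Unram17

namespace Groth.Agent.S4997


theorem ring_key {R S : Type u} [CommRing R] [CommRing S] (φ : R →+* S) :
    φ.Etale ↔ φ.Smooth ∧ φ.QuasiFinite := by
  letI := φ.toAlgebra
  constructor
  · intro h
    have hE : Algebra.Etale R S := h
    refine ⟨?_, ?_⟩
    · rw [RingHom.etale_iff_formallyUnramified_and_smooth] at h; exact h.2
    · show Algebra.QuasiFinite R S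
      infer_instance
  · rintro ⟨hs, hq⟩
    have hS : Algebra.Smooth R S := hs
    have hQ : Algebra.QuasiFinite R S := hq
    show Algebra.Etale R S
    rw [← Algebra.etaleLocus_eq_univ_iff_etale]
    ext p
    simp only [Set.mem_univ, iff_true]
    haveI : Algebra.QuasiFiniteAt R p.asIdeal := inferInstance
    exact Groth.Agent.S3830.result R S p.asIdeal
      (inferInstance : Algebra.FormallySmooth R (Localization.AtPrime p.asIdeal))


/-- A morphism of schemes is etale if and only if it is smooth and locally quasi-finite. -/
theorem result {X Y : Scheme.{u}} (f : X ⟶ Y) :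
    Etale f ↔ Smooth f ∧ LocallyQuasiFinite f := by
  rw [HasRingHomProperty.iff_appLE (P := @Etale), HasRingHomProperty.iff_appLE (P := @Smooth),
    HasRingHomProperty.iff_appLE (P := @LocallyQuasiFinite)]
  simp only [ring_key]
  exact ⟨fun h => ⟨fun U V e => (h U V e).1, fun U V e => (h U V e).2⟩,
    fun h U V e => ⟨h.1 U V e, h.2 U V e⟩⟩

end Groth.Agent.S4997
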