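import Groth.Statements.S4998
import Mathlib

set_option autoImplicit false
set_option linter.style.haveILetI false
universe u
open Unram17

namespace Groth.Agent.S4998

/-- Let A be an algebra of finite type over a field k. Then A is formally unramified over k if and only
if A is finite over k and every element of A has separable minimal polynomial over k (equivalently,
A is a finite product of finite separable extensions of k). -/
theorem result (k A : Type u) [Field k] [CommRing A]
    [Algebra k A] [Algebra.FiniteType k A] :
    Algebra.FormallyUnramified k A ↔ Module.Finite k A ∧ Algebra.IsSeparable k A := by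
  classical
  constructor
  · intro hU
    haveI : Algebra.FormallyEtale k A := Algebra.FormallyEtale.of_formallyUnramified_of_field k A
    haveI hfin : Module.Finite k A := Algebra.FormallyUnramified.finite_of_free k A
    refine ⟨hfin, ?_⟩
    obtain ⟨I, hI, Ai, instF, instA, e, hsep⟩ :=
      (Algebra.FormallyEtale.iff_exists_algEquiv_prod k A).mp inferInstance
    cases nonempty_fintype I
    rw [Algebra.isSeparable_def]
    intro x
    show (minpoly k x).Separable
    rw [← minpoly.algEquiv_eq e x]
    set y := e x with hy
    let S : Finset (Polynomial k) := Finset.univ.image (fun i => minpoly k (y i))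
    have hint : ∀ i, IsIntegral k (y i) := fun i => ((hsep i).isSeparable' (y i)).isIntegral
    have hqsep : (∏ r ∈ S, r).Separable := by
      refine Polynomial.separable_prod' (f := fun r : Polynomial k => r) ?_ ?_
      · intro r hr r' hr' hne
        obtain ⟨i, -, rfl⟩ := Finset.mem_image.mp hr
        obtain ⟨i', -, rfl⟩ := Finset.mem_image.mp hr'
        have hirr := minpoly.irreducible (hint i)
        have hirr' := minpoly.irreducible (hint i')
        refine (Irreducible.coprime_iff_not_dvd hirr).mpr fun hdvd => hne ?_
        exact Polynomial.eq_of_monic_of_associated (minpoly.monic (hint i))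
          (minpoly.monic (hint i')) (hirr.associated_of_dvd hirr' hdvd)
      · intro r hr
        obtain ⟨i, -, rfl⟩ := Finset.mem_image.mp hr
        exact (hsep i).isSeparable' (y i)
    refine hqsep.of_dvd (minpoly.dvd k y ?_)
    funext i
    have h1 : (Polynomial.aeval y (∏ r ∈ S, r)) i = Polynomial.aeval (y i) (∏ r ∈ S, r) := by
      have := Polynomial.aeval_algHom_apply (Pi.evalAlgHom k Ai i) y (∏ r ∈ S, r)
      exact this.symm
    rw [h1, Pi.zero_apply]
    refine Polynomial.aeval_eq_zero_of_dvd_aeval_eq_zero ?_ (minpoly.aeval k (y i))
    exact Finset.dvd_prod_of_mem (fun r : Polynomial k => r)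
      (Finset.mem_image.mpr ⟨i, Finset.mem_univ _, rfl⟩)
  · rintro ⟨hfin, hsep⟩
    haveI : IsArtinianRing A := isArtinian_of_tower k inferInstance
    haveI : IsReduced A := by
      refine ⟨fun x hx => ?_⟩
      obtain ⟨n, hn⟩ := hx
      rcases Nat.eq_zero_or_pos n with rfl | hnpos
      · rw [pow_zero] at hn
        have : Subsingleton A := subsingleton_of_zero_eq_one hn.symm
        exact Subsingleton.elim _ _
      · have hsq : Squarefree (minpoly k x) := (hsep.isSeparable' x).squarefree
        have hdvd : minpoly k x ∣ (Polynomial.X : Polynomial k) ^ n := by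
          refine minpoly.dvd k x ?_
          rw [map_pow, Polynomial.aeval_X, hn]
        have hdvd' : minpoly k x ∣ (Polynomial.X : Polynomial k) :=
          (hsq.dvd_pow_iff_dvd hnpos.ne').mp hdvd
        have := Polynomial.aeval_eq_zero_of_dvd_aeval_eq_zero hdvd' (minpoly.aeval k x)
        rwa [Polynomial.aeval_X] at this
    rw [← Algebra.FormallyEtale.iff_formallyUnramified_of_field,
      Algebra.FormallyEtale.iff_exists_algEquiv_prod]
    refine ⟨MaximalSpectrum A, inferInstance, fun m => A ⧸ m.asIdeal,
      fun m => Ideal.Quotient.field m.asIdeal, inferInstance,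
      (IsArtinianRing.equivPi A).restrictScalars k, fun m => ?_⟩
    rw [Algebra.isSeparable_def]
    intro z
    obtain ⟨x, rfl⟩ := Ideal.Quotient.mk_surjective z
    refine (hsep.isSeparable' x).of_dvd (minpoly.dvd k _ ?_)
    have := Polynomial.aeval_algHom_apply (Ideal.Quotient.mkₐ k m.asIdeal) x (minpoly k x)
    rw [minpoly.aeval, map_zero] at this
    exact this

end Groth.Agent.S4998
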