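import Groth.Statements.S4999
import Groth.Agent.S2063
import Groth.Agent.S2451
import Groth.Agent.H14.JacCrit
import Groth.Agent.H14.SepField

set_option autoImplicit false
universe u
open Unram17

namespace Groth.Agent.S4999

open IsLocalRing KaehlerDifferential TensorProduct
open Groth.Agent.H14.LocalKaehler

/-- A reduced zero-dimensional local ring has zero maximal ideal. -/
theorem maximalIdeal_eq_bot (T : Type*) [CommRing T] [IsLocalRing T] [IsReduced T]
    (h0 : ringKrullDim T ≤ 0) : maximalIdeal T = ⊥ := by
  haveI : Ring.KrullDimLE 0 T := Ring.krullDimLE_iff.mpr (by simpa using h0)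
  rw [← Ring.KrullDimLE.nilradical_eq_maximalIdeal, nilradical_eq_zero]
  rfl

theorem residue_bijective (T : Type*) [CommRing T] [IsLocalRing T] (hm : maximalIdeal T = ⊥) :
    Function.Bijective (residue T) := by
  refine ⟨?_, residue_surjective⟩
  rw [injective_iff_map_eq_zero]
  intro x hx
  have : x ∈ maximalIdeal T := (residue_eq_zero_iff x).mp hx
  rw [hm] at this
  exact this

theorem dim_localization_minimal (A : Type*) [CommRing A] (p : Ideal A) [p.IsPrime]
    (hp : p ∈ minimalPrimes A) : ringKrullDim (Localization.AtPrime p) ≤ 0 := by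
  rw [IsLocalization.AtPrime.ringKrullDim_eq_height p (Localization.AtPrime p),
    Ideal.height_eq_zero_iff.mpr hp]
  rfl

/-- If `m = 0`, then `κ ⊗ Ω[T/k] ≃ Ω[κ/k]`. -/
theorem mapBaseChange_bijective (k T : Type*) [CommRing k] [CommRing T] [IsLocalRing T]
    [Algebra k T] (hm : maximalIdeal T = ⊥) :
    Function.Bijective (mapBaseChange k T (ResidueField T)) := by
  refine ⟨?_, mapBaseChange_surjective k T (ResidueField T) (residue_surjective (R := T))⟩
  rw [injective_iff_map_eq_zero]
  intro v hv
  obtain ⟨x, hx, rfl⟩ := exists_of_mapBaseChange_eq_zero k v hv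
  rw [hm] at hx
  rw [(Submodule.mem_bot T).mp hx, Φ_zero]

/-- At a minimal prime with geometrically reduced local ring, the fibre of the differentials has
dimension the transcendence degree of the residue field. -/
theorem finrank_fibre_of_minimal (k A : Type u) [Field k] [CommRing A] [Algebra k A]
    [Algebra.FiniteType k A] (p : Ideal A) [p.IsPrime] (hp : p ∈ minimalPrimes A)
    [Algebra.IsGeometricallyReduced k (Localization.AtPrime p)] (t : ℕ)
    (ht : Algebra.trdeg k p.ResidueField = t) :
    Module.finrank p.ResidueField (p.ResidueField ⊗[A] Ω[A⁄k]) = t := by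
  haveI : IsReduced (Localization.AtPrime p) := Algebra.isReduced_of_isGeometricallyReduced k
  have hm := maximalIdeal_eq_bot (Localization.AtPrime p) (dim_localization_minimal A p hp)
  rw [(Groth.Agent.H14.JacCrit.fibreEquiv k A p).finrank_eq,
    (LinearEquiv.ofBijective _ (mapBaseChange_bijective k (Localization.AtPrime p) hm)).finrank_eq]
  haveI : Algebra.EssFiniteType k p.ResidueField := Algebra.EssFiniteType.comp k A _
  obtain ⟨-, -, hiff⟩ := Groth.Agent.H14.SepField.field_lemma k p.ResidueField t ht
  rw [← hiff]
  let e : Localization.AtPrime p ≃ₐ[k] p.ResidueField :=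
    AlgEquiv.ofBijective (IsScalarTower.toAlgHom k (Localization.AtPrime p) p.ResidueField)
      (residue_bijective _ hm)
  exact Algebra.IsGeometricallyReduced.of_injective e.symm.toAlgHom e.symm.injective


/-- Let A be an algebra of finite type over a field k. Then A is smooth over k if and only if the module
of differentials of A over k is projective (locally free) and, at every minimal prime p of A, the
local ring A_p is geometrically reduced over k, which for this Artinian local ring says that A_p is
a field and a separable (not necessarily algebraic) extension of k. -/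
theorem result (k A : Type u) [Field k] [CommRing A]
    [Algebra k A] [Algebra.FiniteType k A] :
    Algebra.Smooth k A ↔
      Module.Projective A (KaehlerDifferential k A) ∧
        ∀ (p : Ideal A) [p.IsPrime], p ∈ minimalPrimes A →
          Algebra.IsGeometricallyReduced k (Localization.AtPrime p) := by
  haveI : IsNoetherianRing A := Algebra.FiniteType.isNoetherianRing k A
  haveI : Algebra.FinitePresentation k A := Algebra.FinitePresentation.of_finiteType.mp inferInstance
  constructor
  · intro hsm
    refine ⟨inferInstance, fun p _ hp => ?_⟩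
    haveI : Algebra.FormallySmooth A (Localization.AtPrime p) :=
      Algebra.FormallySmooth.of_isLocalization p.primeCompl
    haveI : Algebra.FormallySmooth k (Localization.AtPrime p) :=
      Algebra.FormallySmooth.comp k A _
    haveI : IsRegularLocalRing (Localization.AtPrime p) :=
      Groth.Agent.H14.LocalKaehler.isRegularLocalRing_of_formallySmooth k _
    haveI : IsDomain (Localization.AtPrime p) := Groth.Agent.S0558.result _
    have hm := maximalIdeal_eq_bot (Localization.AtPrime p) (dim_localization_minimal A p hp)
    let e : Localization.AtPrime p ≃ₐ[k] p.ResidueField :=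
      AlgEquiv.ofBijective (IsScalarTower.toAlgHom k (Localization.AtPrime p) p.ResidueField)
        (residue_bijective _ hm)
    haveI : Algebra.FormallySmooth k p.ResidueField := Algebra.FormallySmooth.of_equiv e
    haveI : Algebra.IsGeometricallyReduced k p.ResidueField :=
      (Groth.Agent.S2451.result (k := k) (K := p.ResidueField)).mp inferInstance
    exact Algebra.IsGeometricallyReduced.of_injective e.toAlgHom e.injective
  · rintro ⟨hproj, hmin⟩
    have hsm : ∀ q : PrimeSpectrum A, q ∈ Algebra.smoothLocus k A := by
      rintro ⟨q, hq⟩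
      obtain ⟨p, hp, hpq⟩ := Ideal.exists_minimalPrimes_le (bot_le : (⊥ : Ideal A) ≤ q)
      haveI : p.IsPrime := hp.1.1
      haveI := hmin p hp
      obtain ⟨t, ht⟩ := Groth.Agent.H14.EtaleDim.exists_trdeg_eq k A p
      have h1 := finrank_fibre_of_minimal k A p hp t ht
      have h2 : Module.finrank q.ResidueField (q.ResidueField ⊗[A] Ω[A⁄k]) = t := by
        have h3 := Module.rankAtStalk_eq_of_le_of_finite_of_flat' (Ω[A⁄k]) hpq
        rw [Module.rankAtStalk_eq, Module.rankAtStalk_eq] at h3
        rw [← h1]
        exact h3.symm
      show Algebra.IsSmoothAt k q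
      rw [Groth.Agent.S2063.result q, h2, Groth.Agent.H9.LocalDimField.localDim_eq_iSup k A]
      have h4 := Groth.Agent.S2141.dim_quot_eq_trdeg k A p t ht
      rw [show ((t : ℕ∞) : WithBot ℕ∞) = ((t : ℕ) : WithBot ℕ∞) from rfl, ← h4]
      exact le_iSup (fun q0 : {q0 : PrimeSpectrum A // q0.asIdeal ∈ minimalPrimes A ∧
        q0 ≤ ⟨q, hq⟩} => ringKrullDim (A ⧸ q0.1.asIdeal)) ⟨⟨p, inferInstance⟩, hp, hpq⟩
    haveI : Algebra.FormallySmooth k A :=
      Algebra.smoothLocus_eq_univ_iff.mp (Set.eq_univ_iff_forall.mpr hsm)
    exact ⟨inferInstance, inferInstance⟩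

end Groth.Agent.S4999
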