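import Groth.Statements.S5000
import Mathlib
import Groth.Agent.S2063
import Groth.Agent.S2451
import Groth.Agent.H14.JacCrit
import Groth.Agent.H14.SepField
import Groth.Agent.S4999

set_option autoImplicit false
universe u
open Unram17

namespace Groth.Agent.S5000

open IsLocalRing KaehlerDifferential TensorProduct
open Groth.Agent.H14.LocalKaehler

/-- In characteristic zero, if `Ω[B/k]` is free then `1 ⊗ dx = 0` for nilpotent `x`. -/
theorem Φ_eq_zero_of_isNilpotent (k B : Type u) [Field k] [CharZero k] [CommRing B]
    [IsLocalRing B] [Algebra k B] [Module.Free B Ω[B⁄k]] [Module.Finite B Ω[B⁄k]] (x : B)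
    (hx : IsNilpotent x) : Φ k x = 0 := by
  classical
  have hN : x ^ (Nat.find hx) = 0 := Nat.find_spec hx
  have hN1 : Nat.find hx ≠ 0 := by
    intro h
    rw [h, pow_zero] at hN
    exact one_ne_zero hN
  obtain ⟨M, hM1⟩ : ∃ M, Nat.find hx = M + 1 := Nat.exists_eq_succ_of_ne_zero hN1
  have hM : x ^ M ≠ 0 := Nat.find_min hx (by rw [hM1]; exact Nat.lt_succ_self M)
  rw [hM1] at hN
  have hD : (M + 1 : ℕ) • x ^ M • D k B x = 0 := by
    have := Derivation.leibniz_pow (D k B) x (M + 1)
    rw [hN, map_zero] at this
    simpa using this.symm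
  have hu : IsUnit ((M + 1 : ℕ) : B) := by
    have h1 : ((M + 1 : ℕ) : B) = algebraMap k B ((M + 1 : ℕ) : k) := by simp
    rw [h1]
    exact (IsUnit.mk0 _ (Nat.cast_ne_zero.mpr (Nat.succ_ne_zero M))).map _
  have hD' : x ^ M • D k B x = 0 := by
    rw [← Nat.cast_smul_eq_nsmul B] at hD
    exact (hu.smul_eq_zero).mp hD
  let b := Module.Free.chooseBasis B Ω[B⁄k]
  have hc : ∀ i, b.repr (D k B x) i ∈ maximalIdeal B := by
    intro i
    by_contra hni
    have hunit : IsUnit (b.repr (D k B x) i) := by
      rwa [mem_maximalIdeal, mem_nonunits_iff, not_not] at hni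
    have h2 : x ^ M * b.repr (D k B x) i = 0 := by
      have := congrArg (fun v => b.repr v i) hD'
      simpa using this
    exact hM (hunit.mul_left_eq_zero.mp h2)
  rw [Φ, ← b.sum_repr (D k B x), tmul_sum]
  refine Finset.sum_eq_zero fun i _ => ?_
  rw [one_tmul_smul, (residue_eq_zero_iff _).mpr (hc i), zero_smul]

theorem rankAtStalk_eq_of_mem_freeLocus {R M : Type u} [CommRing R] [AddCommGroup M] [Module R M]
    (p : PrimeSpectrum R) (hp : p ∈ Module.freeLocus R M) :
    Module.rankAtStalk M p =
      Module.finrank p.asIdeal.ResidueField (p.asIdeal.ResidueField ⊗[R] M) := by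
  haveI : Module.Free (Localization.AtPrime p.asIdeal) (Localization.AtPrime p.asIdeal ⊗[R] M) :=
    (Module.mem_freeLocus_iff_tensor p _).mp hp
  let e : p.asIdeal.ResidueField ⊗[Localization.AtPrime p.asIdeal]
      (Localization.AtPrime p.asIdeal ⊗[R] M) ≃ₗ[p.asIdeal.ResidueField]
      p.asIdeal.ResidueField ⊗[R] M := AlgebraTensorModule.cancelBaseChange _ _ _ _ _
  rw [← e.finrank_eq, Module.finrank_baseChange, Module.rankAtStalk_eq_finrank_tensorProduct]



/-- Let k be a field of characteristic zero, A a k-algebra of finite type and q a prime of A. Then A is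
smooth over k at q if and only if the module of differentials of the local ring A_q over k is free. -/
theorem result (k A : Type u) [Field k] [CharZero k] [CommRing A]
    [Algebra k A] [Algebra.FiniteType k A] (q : Ideal A) [q.IsPrime] :
    Algebra.IsSmoothAt k q ↔
      Module.Free (Localization.AtPrime q) (KaehlerDifferential k (Localization.AtPrime q)) := by
  haveI : IsNoetherianRing A := Algebra.FiniteType.isNoetherianRing k A
  haveI : Algebra.EssFiniteType k (Localization.AtPrime q) := Algebra.EssFiniteType.comp k A _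
  constructor
  · intro hsm
    haveI : Algebra.FormallySmooth k (Localization.AtPrime q) := hsm
    exact Module.free_of_flat_of_isLocalRing
  · intro hfree
    haveI : Module.FinitePresentation A Ω[A⁄k] := Module.finitePresentation_of_finite A _
    -- `q` lies in the free locus
    have hqfree : (⟨q, inferInstance⟩ : PrimeSpectrum A) ∈ Module.freeLocus A Ω[A⁄k] :=
      (Module.mem_freeLocus_of_isLocalization ⟨q, inferInstance⟩ (Localization.AtPrime q)
        Ω[Localization.AtPrime q⁄k] (KaehlerDifferential.map k k A (Localization.AtPrime q))).mpr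
        hfree
    obtain ⟨p, hp, hpq⟩ := Ideal.exists_minimalPrimes_le (bot_le : (⊥ : Ideal A) ≤ q)
    haveI : p.IsPrime := hp.1.1
    have hspec : (⟨p, inferInstance⟩ : PrimeSpectrum A) ⤳ ⟨q, inferInstance⟩ :=
      (PrimeSpectrum.le_iff_specializes _ _).mp hpq
    have hpfree : (⟨p, inferInstance⟩ : PrimeSpectrum A) ∈ Module.freeLocus A Ω[A⁄k] :=
      Module.isOpen_freeLocus.stableUnderGeneralization hspec hqfree
    -- equal ranks
    have hrk : Module.rankAtStalk Ω[A⁄k] (⟨p, inferInstance⟩ : PrimeSpectrum A) =
        Module.rankAtStalk Ω[A⁄k] (⟨q, inferInstance⟩ : PrimeSpectrum A) := by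
      have hlc := Module.isLocallyConstant_rankAtStalk_freeLocus (R := A) (M := Ω[A⁄k])
      have hs : (⟨⟨p, inferInstance⟩, hpfree⟩ : Module.freeLocus A Ω[A⁄k]) ⤳
          ⟨⟨q, inferInstance⟩, hqfree⟩ := (subtype_specializes_iff _ _).mpr hspec
      exact (hs.map hlc.continuous).eq
    -- the local ring at the minimal prime
    haveI : Algebra.EssFiniteType k (Localization.AtPrime p) := Algebra.EssFiniteType.comp k A _
    haveI : Module.Free (Localization.AtPrime p) Ω[Localization.AtPrime p⁄k] :=
      (Module.mem_freeLocus_of_isLocalization ⟨p, inferInstance⟩ (Localization.AtPrime p)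
        Ω[Localization.AtPrime p⁄k] (KaehlerDifferential.map k k A (Localization.AtPrime p))).mp
        hpfree
    have hnil : ∀ x ∈ maximalIdeal (Localization.AtPrime p), IsNilpotent x := by
      intro x hx
      haveI : Ring.KrullDimLE 0 (Localization.AtPrime p) :=
        Ring.krullDimLE_iff.mpr (by
          simpa using Groth.Agent.S4999.dim_localization_minimal A p hp)
      rw [← Ring.KrullDimLE.nilradical_eq_maximalIdeal] at hx
      exact mem_nilradical.mp hx
    have hbij : Function.Bijective (mapBaseChange k (Localization.AtPrime p) p.ResidueField) := by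
      refine ⟨?_, mapBaseChange_surjective k (Localization.AtPrime p) p.ResidueField
        (residue_surjective (R := Localization.AtPrime p))⟩
      rw [injective_iff_map_eq_zero]
      intro v hv
      obtain ⟨x, hx, rfl⟩ := exists_of_mapBaseChange_eq_zero k v hv
      exact Φ_eq_zero_of_isNilpotent k (Localization.AtPrime p) x (hnil x hx)
    obtain ⟨t, ht⟩ := Groth.Agent.H14.EtaleDim.exists_trdeg_eq k A p
    haveI : Algebra.EssFiniteType k p.ResidueField := Algebra.EssFiniteType.comp k A _
    haveI : Algebra.FormallySmooth k p.ResidueField := inferInstance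
    haveI : Algebra.IsGeometricallyReduced k p.ResidueField :=
      (Groth.Agent.S2451.result (k := k) (K := p.ResidueField)).mp inferInstance
    obtain ⟨-, -, hiff⟩ := Groth.Agent.H14.SepField.field_lemma k p.ResidueField t ht
    have ht' : Module.finrank p.ResidueField Ω[p.ResidueField⁄k] = t := hiff.mp inferInstance
    have h1 : Module.finrank p.ResidueField (p.ResidueField ⊗[A] Ω[A⁄k]) = t := by
      rw [(Groth.Agent.H14.JacCrit.fibreEquiv k A p).finrank_eq,
        (LinearEquiv.ofBijective _ hbij).finrank_eq, ht']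
    have h2 : Module.finrank q.ResidueField (q.ResidueField ⊗[A] Ω[A⁄k]) = t := by
      have e1 := rankAtStalk_eq_of_mem_freeLocus (⟨p, inferInstance⟩ : PrimeSpectrum A) hpfree
      have e2 := rankAtStalk_eq_of_mem_freeLocus (⟨q, inferInstance⟩ : PrimeSpectrum A) hqfree
      rw [← h1]
      exact e2.symm.trans (hrk.symm.trans e1)
    show Algebra.IsSmoothAt k q
    rw [Groth.Agent.S2063.result q, h2, Groth.Agent.H9.LocalDimField.localDim_eq_iSup k A]
    have h4 := Groth.Agent.S2141.dim_quot_eq_trdeg k A p t ht
    rw [show ((t : ℕ∞) : WithBot ℕ∞) = ((t : ℕ) : WithBot ℕ∞) from rfl, ← h4]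
    exact le_iSup (fun q0 : {q0 : PrimeSpectrum A // q0.asIdeal ∈ minimalPrimes A ∧
      q0 ≤ ⟨q, inferInstance⟩} => ringKrullDim (A ⧸ q0.1.asIdeal)) ⟨⟨p, inferInstance⟩, hp, hpq⟩

end Groth.Agent.S5000
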