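import Groth.Statements.S5001
import Groth.Agent.S7771
import Groth.Agent.H79.RegCM
import Groth.Agent.H9.LocalDimField

set_option autoImplicit false
universe u
open Unram17

namespace Groth.Agent.S5001

open MvPolynomial in
theorem eq_span_X {k : Type u} [Field k] (n : ℕ) (Q : Ideal (MvPolynomial (Fin n) k)) (hQ : Q ≠ ⊤)
    (hX : ∀ i, (X i : MvPolynomial (Fin n) k) ∈ Q) :
    Q = Ideal.span (Set.range (X : Fin n → MvPolynomial (Fin n) k)) := by
  have hle : Ideal.span (Set.range (X : Fin n → MvPolynomial (Fin n) k)) ≤ Q := by
    rw [Ideal.span_le]; rintro _ ⟨i, rfl⟩; exact hX i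
  refine le_antisymm (fun f hf => ?_) hle
  have h1 : f - C (coeff 0 f) ∈ Ideal.span (Set.range (X : Fin n → MvPolynomial (Fin n) k)) := by
    rw [← Set.image_univ, MvPolynomial.mem_ideal_span_X_image]
    intro m hm
    have hm0 : m ≠ 0 := by
      rintro rfl
      rw [MvPolynomial.mem_support_iff] at hm
      apply hm
      simp
    obtain ⟨i, hi⟩ := DFunLike.ne_iff.mp hm0
    exact ⟨i, Set.mem_univ _, by simpa using hi⟩
  have h2 : C (coeff 0 f) ∈ Q := by
    have := Q.sub_mem hf (hle h1)
    simpa using this
  by_cases hc : coeff 0 f = 0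
  · simpa [hc] using h1
  · exfalso; apply hQ
    rw [Ideal.eq_top_iff_one]
    have : (1 : MvPolynomial (Fin n) k) = C ((coeff 0 f)⁻¹) * C (coeff 0 f) := by
      rw [← C_mul, inv_mul_cancel₀ hc, C_1]
    rw [this]; exact Q.mul_mem_left _ h2

theorem isMaximal_of_finite_residueField (k : Type u) {B : Type u} [Field k] [CommRing B]
    [Algebra k B] (q : Ideal B) [q.IsPrime] [Module.Finite k q.ResidueField] : q.IsMaximal := by
  have hinj : Function.Injective (IsScalarTower.toAlgHom k (B ⧸ q) q.ResidueField).toLinearMap :=
    IsFractionRing.injective (B ⧸ q) q.ResidueField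
  haveI : Module.Finite k (B ⧸ q) := Module.Finite.of_injective _ hinj
  haveI : IsArtinianRing (B ⧸ q) := IsArtinianRing.of_finite k (B ⧸ q)
  haveI : (⊥ : Ideal (B ⧸ q)).IsMaximal := IsArtinianRing.isMaximal_of_isPrime ⊥
  have := Ideal.comap_isMaximal_of_surjective (Ideal.Quotient.mk q) Ideal.Quotient.mk_surjective
    (K := ⊥)
  rwa [← RingHom.ker_eq_comap_bot, Ideal.mk_ker] at this

/-- Let k be a field, A a k-algebra of finite type equipped with a k-algebra map from the polynomial
ring in n variables, with images g_i of the variables, and p a prime of A such that Spec A has local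
dimension n at p, the residue field of p is a finite separable extension of k, and every g_i lies in
p. Then A is etale over the polynomial ring at p if and only if the images of the g_i generate the
maximal ideal of the local ring A_p. -/
theorem result (k A : Type u) [Field k] [CommRing A] [Algebra k A]
    [Algebra.FiniteType k A] (n : ℕ) [Algebra (MvPolynomial (Fin n) k) A]
    [IsScalarTower k (MvPolynomial (Fin n) k) A] (p : Ideal A) [p.IsPrime]
    (hn : FlatMor.localDim (PrimeSpectrum A) ⟨p, inferInstance⟩ = (n : WithBot ℕ∞))
    [Module.Finite k p.ResidueField] [Algebra.IsSeparable k p.ResidueField]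
    (hg : ∀ i : Fin n, algebraMap (MvPolynomial (Fin n) k) A (MvPolynomial.X i) ∈ p) :
    Algebra.IsEtaleAt (MvPolynomial (Fin n) k) p ↔
      Ideal.span (Set.range fun i : Fin n =>
        algebraMap A (Localization.AtPrime p) (algebraMap (MvPolynomial (Fin n) k) A (MvPolynomial.X i))) =
        IsLocalRing.maximalIdeal (Localization.AtPrime p) := by
  classical
  haveI : IsNoetherianRing A := Algebra.FiniteType.isNoetherianRing k A
  haveI : Algebra.FiniteType (MvPolynomial (Fin n) k) A :=
    Algebra.FiniteType.of_restrictScalars_finiteType k (MvPolynomial (Fin n) k) A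
  letI := Localization.AtPrime.algebraOfLiesOver (p.under (MvPolynomial (Fin n) k)) p
  have hXmem : ∀ i : Fin n,
      (MvPolynomial.X i : MvPolynomial (Fin n) k) ∈ p.under (MvPolynomial (Fin n) k) :=
    fun i => Ideal.mem_comap.mpr (hg i)
  have hP0 : p.under (MvPolynomial (Fin n) k) =
      Ideal.span (Set.range (MvPolynomial.X : Fin n → MvPolynomial (Fin n) k)) :=
    eq_span_X n _ Ideal.IsPrime.ne_top' hXmem
  have hfun : (algebraMap (MvPolynomial (Fin n) k) (Localization.AtPrime p)) ∘
      (MvPolynomial.X : Fin n → MvPolynomial (Fin n) k) =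
      fun i : Fin n => algebraMap A (Localization.AtPrime p)
        (algebraMap (MvPolynomial (Fin n) k) A (MvPolynomial.X i)) := by
    funext i
    exact IsScalarTower.algebraMap_apply (MvPolynomial (Fin n) k) A (Localization.AtPrime p) _
  have hmapspan : (p.under (MvPolynomial (Fin n) k)).map
      (algebraMap (MvPolynomial (Fin n) k) (Localization.AtPrime p)) =
      Ideal.span (Set.range fun i : Fin n => algebraMap A (Localization.AtPrime p)
        (algebraMap (MvPolynomial (Fin n) k) A (MvPolynomial.X i))) := by
    rw [hP0, Ideal.map_span, ← Set.range_comp, hfun]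
  constructor
  · intro hEt
    haveI : Algebra.FormallyEtale (MvPolynomial (Fin n) k) (Localization.AtPrime p) := hEt
    haveI : Algebra.IsUnramifiedAt (MvPolynomial (Fin n) k) p :=
      (inferInstance : Algebra.FormallyUnramified (MvPolynomial (Fin n) k)
        (Localization.AtPrime p))
    have h := (Algebra.isUnramifiedAt_iff_map_eq (MvPolynomial (Fin n) k)
      (p.under (MvPolynomial (Fin n) k)) p).mp inferInstance
    rw [← hmapspan]; exact h.2
  · intro hspan
    have hmap : (p.under (MvPolynomial (Fin n) k)).map
        (algebraMap (MvPolynomial (Fin n) k) (Localization.AtPrime p)) =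
        IsLocalRing.maximalIdeal (Localization.AtPrime p) := hmapspan.trans hspan
    haveI hpmax : p.IsMaximal := isMaximal_of_finite_residueField k p
    haveI : Module.Finite k (p.under (MvPolynomial (Fin n) k)).ResidueField := by
      refine Module.Finite.of_injective (IsScalarTower.toAlgHom k
        (p.under (MvPolynomial (Fin n) k)).ResidueField p.ResidueField).toLinearMap ?_
      exact (algebraMap (p.under (MvPolynomial (Fin n) k)).ResidueField p.ResidueField).injective
    haveI hP0max : (p.under (MvPolynomial (Fin n) k)).IsMaximal :=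
      isMaximal_of_finite_residueField k _
    haveI : Algebra.IsSeparable (p.under (MvPolynomial (Fin n) k)).ResidueField p.ResidueField :=
      Algebra.isSeparable_tower_top_of_isSeparable k _ _
    haveI : Algebra.IsUnramifiedAt (MvPolynomial (Fin n) k) p :=
      (Algebra.isUnramifiedAt_iff_map_eq (MvPolynomial (Fin n) k)
        (p.under (MvPolynomial (Fin n) k)) p).mpr ⟨inferInstance, hmap⟩
    have hcard : (Set.range fun i : Fin n => algebraMap A (Localization.AtPrime p)
        (algebraMap (MvPolynomial (Fin n) k) A (MvPolynomial.X i))).ncard ≤ n := by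
      rw [← Set.image_univ]
      refine (Set.ncard_image_le Set.finite_univ).trans ?_
      simp [Set.ncard_univ]
    have hfr : (IsLocalRing.maximalIdeal (Localization.AtPrime p)).spanFinrank ≤ n := by
      rw [← hspan]
      exact (Submodule.spanFinrank_span_le_ncard_of_finite (Set.finite_range _)).trans hcard
    have hdimA_le : ringKrullDim (Localization.AtPrime p) ≤ (n : WithBot ℕ∞) :=
      (ringKrullDim_le_spanFinrank_maximalIdeal (Localization.AtPrime p)).trans
        (by exact_mod_cast hfr)
    have hht : (n : WithBot ℕ∞) ≤ (p.height : WithBot ℕ∞) := by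
      rw [← hn, Groth.Agent.H9.LocalDimField.localDim_eq_iSup k A]
      exact iSup_le fun q0 =>
        Groth.Agent.H9.LocalDimField.ringKrullDim_quotient_le_height k A q0.1.asIdeal p
          ((PrimeSpectrum.asIdeal_le_asIdeal _ _).mpr q0.2.2)
    have hdimA : ringKrullDim (Localization.AtPrime p) = (n : WithBot ℕ∞) :=
      le_antisymm hdimA_le (by
        rw [IsLocalization.AtPrime.ringKrullDim_eq_height p (Localization.AtPrime p)]
        exact hht)
    haveI : IsRegularLocalRing (Localization.AtPrime p) :=
      IsRegularLocalRing.of_spanFinrank_maximalIdeal_le _ (by rw [hdimA]; exact_mod_cast hfr)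
    haveI : LocCoh.IsCohenMacaulayLocalRing (Localization.AtPrime p) :=
      { supportDim_eq_depth :=
          Groth.Agent.H79.RegCM.isCM_of_sop (Localization.AtPrime p) n hdimA _ hspan }
    have hdP : ringKrullDim (MvPolynomial (Fin n) k) = (n : WithBot ℕ∞) := by
      rw [MvPolynomial.ringKrullDim_of_isNoetherianRing, ringKrullDim_eq_zero_of_field, zero_add]
      simp [Nat.card_eq_fintype_card]
    have hdimP : ringKrullDim (Localization.AtPrime (p.under (MvPolynomial (Fin n) k))) =
        (n : WithBot ℕ∞) := by
      rw [IsLocalization.AtPrime.ringKrullDim_eq_height (p.under (MvPolynomial (Fin n) k))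
        (Localization.AtPrime (p.under (MvPolynomial (Fin n) k)))]
      apply le_antisymm
      · rw [← hdP]; exact Ideal.height_le_ringKrullDim_of_ne_top Ideal.IsPrime.ne_top'
      · rw [← hdP, ← ringKrullDim_eq_of_ringEquiv
          (RingEquiv.quotientBot (MvPolynomial (Fin n) k))]
        exact Groth.Agent.H9.LocalDimField.ringKrullDim_quotient_le_height k
          (MvPolynomial (Fin n) k) ⊥ _ bot_le
    exact Groth.Agent.S7771.result (MvPolynomial (Fin n) k) A p (hdimP.trans hdimA.symm)

end Groth.Agent.S5001
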