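import Groth.Statements.S5006
import Mathlib

set_option autoImplicit false
universe u
open Nrm16

namespace Groth.Agent.S5006

/-- Let A be a commutative ring, I a finitely generated ideal and p a prime ideal containing I. Then
some basic open neighbourhood of p in Spec A is contained in the closed set V(I) (so that V(I) ⟶
Spec A is a local homeomorphism onto an open set near p) if and only if there is an integer n > 0
with I^n A_p = I^(n+1) A_p in the local ring at p. Affine form. -/
theorem result (A : Type u) [CommRing A] (I : Ideal A) (hI : I.FG)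
    (p : Ideal A) [p.IsPrime] (hp : I ≤ p) :
    (∃ f : A, f ∉ p ∧ ∀ q : Ideal A, q.IsPrime → f ∉ q → I ≤ q) ↔
      ∃ n : ℕ, 0 < n ∧
        (I ^ n).map (algebraMap A (Localization.AtPrime p)) =
          (I ^ (n + 1)).map (algebraMap A (Localization.AtPrime p)) := by
  constructor
  · rintro ⟨f, hfp, hf⟩
    let Af := Localization.Away f
    set J := I.map (algebraMap A Af) with hJ
    have hJfg : J.FG := hI.map _
    have hJle : J ≤ nilradical Af := by
      rw [nilradical_eq_sInf]
      refine le_sInf ?_
      intro Q hQ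
      have hQp : Q.IsPrime := hQ
      rw [hJ, Ideal.map_le_iff_le_comap]
      apply hf (Q.comap (algebraMap A Af)) (Ideal.comap_isPrime _ _)
      intro hfQ
      have hu : IsUnit (algebraMap A Af f) := IsLocalization.Away.algebraMap_isUnit f
      exact hQp.ne_top (Ideal.eq_top_of_isUnit_mem _ hfQ hu)
    obtain ⟨n, hn⟩ := (Ideal.FG.isNilpotent_iff_le_nilradical hJfg).mpr hJle
    have hunit : IsUnit (algebraMap A (Localization.AtPrime p) f) :=
      IsLocalization.map_units (Localization.AtPrime p) (⟨f, hfp⟩ : p.primeCompl)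
    let φ : Af →+* Localization.AtPrime p := IsLocalization.Away.lift f hunit
    have hφ : φ.comp (algebraMap A Af) = algebraMap A (Localization.AtPrime p) :=
      IsLocalization.Away.lift_comp f hunit
    have hzero : ∀ k, n ≤ k → (I ^ k).map (algebraMap A (Localization.AtPrime p)) = ⊥ := by
      intro k hk
      rw [← hφ, ← Ideal.map_map, Ideal.map_pow, ← hJ]
      have : J ^ k = ⊥ := by
        rw [← Nat.sub_add_cancel hk, pow_add, hn]
        exact mul_zero _
      rw [this, Ideal.map_bot]
    refine ⟨n + 1, Nat.succ_pos _, ?_⟩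
    rw [hzero (n + 1) (by omega), hzero (n + 1 + 1) (by omega)]
  · rintro ⟨n, hn0, hn⟩
    set Ap := Localization.AtPrime p
    set J := I.map (algebraMap A Ap) with hJ
    have hJn : J ^ n = ⊥ := by
      have hfg : (J ^ n).FG := (hI.map _).pow
      have hle : J ^ n ≤ J • J ^ n := by
        rw [smul_eq_mul, ← pow_succ', hJ, ← Ideal.map_pow, ← Ideal.map_pow, ← hn]
      have hjac : J ≤ Ideal.jacobson (⊥ : Ideal Ap) := by
        rw [IsLocalRing.jacobson_eq_maximalIdeal ⊥ bot_ne_top, ← Localization.AtPrime.map_eq_maximalIdeal]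
        exact Ideal.map_mono hp
      exact Submodule.eq_bot_of_le_smul_of_le_jacobson_bot J (J ^ n) hfg hle hjac
    have hzero : ∀ b ∈ I ^ n, algebraMap A Ap b = 0 := by
      intro b hb
      have : algebraMap A Ap b ∈ J ^ n := by
        rw [hJ, ← Ideal.map_pow]
        exact Ideal.mem_map_of_mem _ hb
      rw [hJn] at this
      exact (Ideal.mem_bot).mp this
    have hex : ∀ b : A, ∃ s : A, s ∉ p ∧ (b ∈ I ^ n → s * b = 0) := by
      intro b
      by_cases hb : b ∈ I ^ n
      · obtain ⟨⟨s, hs⟩, hsb⟩ := (IsLocalization.map_eq_zero_iff p.primeCompl Ap b).mp (hzero b hb)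
        exact ⟨s, hs, fun _ => hsb⟩
      · exact ⟨1, fun h1 => (Ideal.IsPrime.ne_top inferInstance) ((Ideal.eq_top_iff_one p).mpr h1), fun h => absurd h hb⟩
    choose s hsp hsb using hex
    obtain ⟨S, hS⟩ : (I ^ n).FG := hI.pow
    refine ⟨∏ b ∈ S, s b, ?_, ?_⟩
    · intro hmem
      obtain ⟨b, -, hb⟩ := Ideal.IsPrime.prod_mem_iff.mp hmem
      exact hsp b hb
    · intro q hq hfq a ha
      have han : a ^ n ∈ I ^ n := Ideal.pow_mem_pow ha n
      have hkill : ∀ x ∈ I ^ n, (∏ b ∈ S, s b) * x = 0 := by
        intro x hx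
        rw [← hS] at hx
        refine Submodule.span_induction ?_ ?_ ?_ ?_ hx
        · intro b hb
          have hbI : b ∈ I ^ n := by rw [← hS]; exact Submodule.subset_span hb
          obtain ⟨c, hc⟩ := Finset.dvd_prod_of_mem s hb
          rw [hc, mul_comm (s b) c, mul_assoc, hsb b hbI, mul_zero]
        · exact mul_zero _
        · intro x y _ _ hx hy
          rw [mul_add, hx, hy, add_zero]
        · intro r x _ hx
          rw [smul_eq_mul, mul_left_comm, hx, mul_zero]
      have h0 : (∏ b ∈ S, s b) * a ^ n ∈ q := by rw [hkill _ han]; exact q.zero_mem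
      rcases hq.mem_or_mem h0 with h1 | h1
      · exact absurd h1 hfq
      · exact hq.mem_of_pow_mem n h1

end Groth.Agent.S5006
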