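import Groth.Statements.S5007
import Groth.Agent.H49.UnramFibre

set_option autoImplicit false
universe u
open CategoryTheory CategoryTheory.Limits AlgebraicGeometry TopologicalSpace
open Unram17

namespace Groth.Agent.S5007

theorem snd_of_comp {X Y Z W : Scheme.{u}} (f : X ⟶ Y) (b : Z ⟶ Y) (a : W ⟶ Z) (c : W ⟶ Y)
    (hc : a ≫ b = c) (hP : FormallyUnramified (pullback.snd f b)) :
    FormallyUnramified (pullback.snd f c) := by
  subst hc
  have t : IsPullback (pullback.fst f b) (pullback.snd f b) f b := IsPullback.of_hasPullback f b
  have s : IsPullback (pullback.lift (pullback.fst f (a ≫ b)) (pullback.snd f (a ≫ b) ≫ a)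
      (by rw [Category.assoc, pullback.condition]) ≫ pullback.fst f b)
      (pullback.snd f (a ≫ b)) f (a ≫ b) := by
    rw [pullback.lift_fst]
    exact IsPullback.of_hasPullback f (a ≫ b)
  have key := IsPullback.of_right s (pullback.lift_snd _ _ _) t
  exact MorphismProperty.of_isPullback (P := @FormallyUnramified) key hP

/-- Let g : Y ⟶ S and h : X ⟶ S be locally of finite presentation and f : X ⟶ Y a morphism over S. Then
f is (formally) unramified if and only if for every point s of S the base change of f along the
fibre Y_s ⟶ Y, which is the fibre map X_s ⟶ Y_s, is (formally) unramified. -/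
theorem result {X Y S : Scheme.{u}} (g : Y ⟶ S) (h : X ⟶ S)
    [LocallyOfFinitePresentation g] [LocallyOfFinitePresentation h] (f : X ⟶ Y) (w : f ≫ g = h) :
    FormallyUnramified f ↔ ∀ s : ↥S, FormallyUnramified (pullback.snd f (g.fiberι s)) := by
  subst w
  constructor
  · intro hf s
    exact MorphismProperty.pullback_snd (P := @FormallyUnramified) _ _ hf
  · intro H
    have hft : LocallyOfFiniteType f := locallyOfFiniteType_of_comp f g
    apply Groth.Agent.H49.UnramFibre.formallyUnramified_of_fiberToSpecResidueField
    intro y
    exact snd_of_comp f (g.fiberι (g y)) (g.asFiberHom y) (Y.fromSpecResidueField y)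
      (g.asFiberHom_fiberι y) (H (g y))

end Groth.Agent.S5007
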