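import Groth.Statements.S5009
import Groth.Agent.H14.LocalUnram
import Groth.Agent.H14.LocalChart
import Mathlib

set_option autoImplicit false
universe u
open CategoryTheory CategoryTheory.Limits AlgebraicGeometry TopologicalSpace
open Unram17

namespace Groth.Agent.S5009


open IsLocalRing Groth.Agent.H14

set_option backward.isDefEq.respectTransparency false in
theorem formallyUnramified_appLE_basicOpen {X Y : Scheme.{u}} (f : X ⟶ Y) {U : Y.Opens}
    {V : X.Opens} (hV : IsAffineOpen V) (hVU : V ≤ f ⁻¹ᵁ U) (g : Γ(X, V))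
    (hg : letI := (f.appLE U V hVU).hom.toAlgebra
      Algebra.FormallyUnramified Γ(Y, U) (Localization.Away g)) :
    (f.appLE U (X.basicOpen g) ((X.basicOpen_le g).trans hVU)).hom.FormallyUnramified := by
  letI := (f.appLE U V hVU).hom.toAlgebra
  have := hV.isLocalization_basicOpen g
  rw [← RingHom.formallyUnramified_algebraMap] at hg
  convert!
    RingHom.FormallyUnramified.respectsIso.1 _
      (IsLocalization.algEquiv (.powers g) _ Γ(X, X.basicOpen g)).toRingEquiv hg
  ext x
  dsimp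
  erw [AlgEquiv.commutes]
  simp only [RingHom.algebraMap_toAlgebra]
  rw [← f.appLE_map hVU (homOfLE (X.basicOpen_le g)).op]
  rfl


/-- Let f : X ⟶ Y be locally of finite presentation and x a point of X. Then f is (formally) unramified
on an open neighbourhood of x if and only if for every surjection of local rings B' → B with
square-zero kernel, every morphism Spec B ⟶ X sending the closed point to x and every morphism Spec
B' ⟶ Y making the square commute, any two lifts Spec B' ⟶ X compatible with both are equal. -/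
theorem result {X Y : Scheme.{u}} (f : X ⟶ Y)
    [LocallyOfFinitePresentation f] (x : ↥X) :
    (∃ U : X.Opens, x ∈ U ∧ FormallyUnramified (U.ι ≫ f)) ↔
      ∀ (B B' : Type u) [CommRing B] [CommRing B'] [IsLocalRing B] [IsLocalRing B'] (φ : B' →+* B),
      Function.Surjective φ → RingHom.ker φ ^ 2 = ⊥ →
      ∀ (α : Spec (CommRingCat.of B) ⟶ X) (β : Spec (CommRingCat.of B') ⟶ Y),
        α.base (IsLocalRing.closedPoint B) = x → Spec.map (CommRingCat.ofHom φ) ≫ β = α ≫ f →
        ∀ γ₁ γ₂ : Spec (CommRingCat.of B') ⟶ X,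
          Spec.map (CommRingCat.ofHom φ) ≫ γ₁ = α → γ₁ ≫ f = β →
          Spec.map (CommRingCat.ofHom φ) ≫ γ₂ = α → γ₂ ≫ f = β → γ₁ = γ₂ := by
  obtain ⟨_, ⟨U, hU, rfl⟩, hxU, -⟩ :=
    Y.isBasis_affineOpens.exists_subset_of_mem_open (Set.mem_univ (f x)) isOpen_univ
  constructor
  · rintro ⟨W, hxW, hFU⟩ B B' _ _ _ _ φ hφ hker α β hα hcomm γ₁ γ₂ h1 h1' h2 h2'
    obtain ⟨_, ⟨V, hV, rfl⟩, hxV, hVWU⟩ :=
      X.isBasis_affineOpens.exists_subset_of_mem_open
        (show x ∈ (W ⊓ f ⁻¹ᵁ U : X.Opens) from ⟨hxW, hxU⟩) (W ⊓ f ⁻¹ᵁ U).2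
    have hVW : V ≤ W := fun y hy => (hVWU hy).1
    have hVU : V ≤ f ⁻¹ᵁ U := fun y hy => (hVWU hy).2
    have hsq := IsAffineOpen.SpecMap_appLE_fromSpec f hU hV hVU
    haveI := formallyUnramified_ι_comp_of_le f hVW
    have hψ := (formallyUnramified_ι_comp_iff f hU hV hVU).mp inferInstance
    letI := (f.appLE U V hVU).hom.toAlgebra
    haveI : Algebra.FormallyUnramified Γ(Y, U) Γ(X, V) := hψ
    haveI : Algebra.FormallyUnramified Γ(X, V)
        (Localization.AtPrime (hV.primeIdealOf ⟨x, hxV⟩).asIdeal) :=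
      Algebra.FormallyUnramified.of_isLocalization (hV.primeIdealOf ⟨x, hxV⟩).asIdeal.primeCompl
    haveI : Algebra.FormallyUnramified Γ(Y, U)
        (Localization.AtPrime (hV.primeIdealOf ⟨x, hxV⟩).asIdeal) :=
      Algebra.FormallyUnramified.comp Γ(Y, U) Γ(X, V) _
    have hγ : ∀ γ : Spec (CommRingCat.of B') ⟶ X, Spec.map (CommRingCat.ofHom φ) ≫ γ = α →
        γ.base (closedPoint B') ∈ V := by
      intro γ hγ
      rw [← closedPoint_of_surjective φ hφ]
      change (Spec.map (CommRingCat.ofHom φ) ≫ γ).base (closedPoint B) ∈ V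
      rw [hγ, hα]
      exact hxV
    obtain ⟨c₁, hc₁⟩ := exists_chart hV γ₁ (hγ γ₁ h1)
    obtain ⟨c₂, hc₂⟩ := exists_chart hV γ₂ (hγ γ₂ h2)
    have e1 : c₁ ≫ CommRingCat.ofHom φ = c₂ ≫ CommRingCat.ofHom φ := by
      apply Spec.map_injective
      rw [← cancel_mono hV.fromSpec, Spec.map_comp, Spec.map_comp, Category.assoc, Category.assoc,
        hc₁, hc₂, h1, h2]
    have e2 : f.appLE U V hVU ≫ c₁ = f.appLE U V hVU ≫ c₂ := by
      apply Spec.map_injective
      rw [← cancel_mono hU.fromSpec, Spec.map_comp, Spec.map_comp, Category.assoc, Category.assoc,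
        hsq, ← Category.assoc, ← Category.assoc, hc₁, hc₂, h1', h2']
    have e3 : (maximalIdeal B).comap (φ.comp c₁.hom) = (hV.primeIdealOf ⟨x, hxV⟩).asIdeal := by
      refine comap_chart hV (c₁ ≫ CommRingCat.ofHom φ) x hxV ?_
      rw [Spec.map_comp, Category.assoc, hc₁, h1]
      exact hα
    have key := lift_unique_of_formallyUnramified_localization
      (hV.primeIdealOf ⟨x, hxV⟩).asIdeal φ hφ hker c₁.hom c₂.hom
      (congrArg CommRingCat.Hom.hom e1) e3 (congrArg CommRingCat.Hom.hom e2)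
    have : c₁ = c₂ := CommRingCat.hom_ext key
    rw [← hc₁, ← hc₂, this]
  · intro H
    obtain ⟨_, ⟨V, hV, rfl⟩, hxV, hVU⟩ :=
      X.isBasis_affineOpens.exists_subset_of_mem_open hxU (U.2.preimage f.continuous)
    have hsq := IsAffineOpen.SpecMap_appLE_fromSpec f hU hV hVU
    have hfp := f.finitePresentation_appLE hU hV hVU
    letI := (f.appLE U V hVU).hom.toAlgebra
    haveI : Algebra.FinitePresentation Γ(Y, U) Γ(X, V) := hfp
    haveI : Algebra.IsUnramifiedAt Γ(Y, U) (hV.primeIdealOf ⟨x, hxV⟩).asIdeal := by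
      apply formallyUnramified_localization_of_lift_unique
      intro B B' _ _ _ _ φ hφ hker c₁ c₂ h12 hq hR
      have hα : (Spec.map (CommRingCat.ofHom (φ.comp c₁)) ≫ hV.fromSpec).base (closedPoint B)
          = x := by
        change hV.fromSpec.base
          ((Spec.map (CommRingCat.ofHom (φ.comp c₁))).base (closedPoint B)) = x
        have : (Spec.map (CommRingCat.ofHom (φ.comp c₁))).base (closedPoint B) =
            hV.primeIdealOf ⟨x, hxV⟩ := by
          apply PrimeSpectrum.ext
          exact hq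
        rw [this]
        exact hV.fromSpec_primeIdealOf ⟨x, hxV⟩
      have hcomm : Spec.map (CommRingCat.ofHom φ) ≫
          (Spec.map (CommRingCat.ofHom (c₁.comp (algebraMap Γ(Y, U) Γ(X, V)))) ≫ hU.fromSpec) =
          (Spec.map (CommRingCat.ofHom (φ.comp c₁)) ≫ hV.fromSpec) ≫ f := by
        rw [Category.assoc, ← hsq, ← Category.assoc, ← Category.assoc, ← Spec.map_comp,
          ← Spec.map_comp]
        rfl
      have g1 : Spec.map (CommRingCat.ofHom φ) ≫ (Spec.map (CommRingCat.ofHom c₁) ≫ hV.fromSpec)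
          = Spec.map (CommRingCat.ofHom (φ.comp c₁)) ≫ hV.fromSpec := by
        rw [← Category.assoc, ← Spec.map_comp]
        rfl
      have g1' : (Spec.map (CommRingCat.ofHom c₁) ≫ hV.fromSpec) ≫ f =
          Spec.map (CommRingCat.ofHom (c₁.comp (algebraMap Γ(Y, U) Γ(X, V)))) ≫ hU.fromSpec := by
        rw [Category.assoc, ← hsq, ← Category.assoc, ← Spec.map_comp]
        rfl
      have g2 : Spec.map (CommRingCat.ofHom φ) ≫ (Spec.map (CommRingCat.ofHom c₂) ≫ hV.fromSpec)
          = Spec.map (CommRingCat.ofHom (φ.comp c₁)) ≫ hV.fromSpec := by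
        rw [← Category.assoc, ← Spec.map_comp, h12]
        rfl
      have g2' : (Spec.map (CommRingCat.ofHom c₂) ≫ hV.fromSpec) ≫ f =
          Spec.map (CommRingCat.ofHom (c₁.comp (algebraMap Γ(Y, U) Γ(X, V)))) ≫ hU.fromSpec := by
        rw [Category.assoc, ← hsq, ← Category.assoc, ← Spec.map_comp, hR]
        rfl
      have := H B B' φ hφ hker _ _ hα hcomm _ _ g1 g1' g2 g2'
      rw [cancel_mono] at this
      have := Spec.map_injective this
      exact congrArg CommRingCat.Hom.hom this
    obtain ⟨g, hgq, hFUg⟩ := Algebra.exists_formallyUnramified_of_isUnramifiedAt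
      (R := Γ(Y, U)) (hV.primeIdealOf ⟨x, hxV⟩).asIdeal
    refine ⟨X.basicOpen g, ?_, ?_⟩
    · have h3 : hV.fromSpec (hV.primeIdealOf ⟨x, hxV⟩) ∈ X.basicOpen g := by
        rw [← Scheme.Hom.mem_preimage, IsAffineOpen.fromSpec_preimage_basicOpen hV]
        exact (PrimeSpectrum.mem_basicOpen g _).mpr hgq
      rwa [IsAffineOpen.fromSpec_primeIdealOf hV ⟨x, hxV⟩] at h3
    · exact (formallyUnramified_ι_comp_iff f hU (hV.basicOpen g)
        ((X.basicOpen_le g).trans hVU)).mpr (formallyUnramified_appLE_basicOpen f hV hVU g hFUg)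

end Groth.Agent.S5009
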