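import Groth.Statements.S5010
import Mathlib
import Groth.Agent.H46.PPFrac
set_option autoImplicit false
set_option linter.style.haveILetI false
universe u
open PP16

namespace Groth.Agent.S5010

/-- Let k be a field and K the field of fractions of the polynomial ring k[T_1, ..., T_r]. For every n,
the K-algebra map from the polynomial ring K[U_1, ..., U_r] to the ring of principal parts of order
n of K over k (a K-algebra through the first factor) that sends U_i to d^n(T_i) − T_i · 1 is
surjective, and its kernel is the (n+1)-st power of the ideal generated by the U_i. -/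
theorem result (k : Type u) [Field k] (r n : ℕ) :
    Function.Surjective
        (MvPolynomial.aeval (R := FractionRing (MvPolynomial (Fin r) k))
          (S₁ := PP16.P n k (FractionRing (MvPolynomial (Fin r) k)))
          (fun i : Fin r =>
            PP16.dn n k (FractionRing (MvPolynomial (Fin r) k))
                (algebraMap (MvPolynomial (Fin r) k) (FractionRing (MvPolynomial (Fin r) k)) (MvPolynomial.X i)) -
              algebraMap (FractionRing (MvPolynomial (Fin r) k)) (PP16.P n k (FractionRing (MvPolynomial (Fin r) k)))
                (algebraMap (MvPolynomial (Fin r) k) (FractionRing (MvPolynomial (Fin r) k)) (MvPolynomial.X i)))) ∧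
      RingHom.ker
          (MvPolynomial.aeval (R := FractionRing (MvPolynomial (Fin r) k))
            (S₁ := PP16.P n k (FractionRing (MvPolynomial (Fin r) k)))
            (fun i : Fin r =>
              PP16.dn n k (FractionRing (MvPolynomial (Fin r) k))
                  (algebraMap (MvPolynomial (Fin r) k) (FractionRing (MvPolynomial (Fin r) k)) (MvPolynomial.X i)) -
                algebraMap (FractionRing (MvPolynomial (Fin r) k)) (PP16.P n k (FractionRing (MvPolynomial (Fin r) k)))
                  (algebraMap (MvPolynomial (Fin r) k) (FractionRing (MvPolynomial (Fin r) k)) (MvPolynomial.X i)))).toRingHom =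
        (Ideal.span (Set.range (MvPolynomial.X : Fin r → MvPolynomial (Fin r) (FractionRing (MvPolynomial (Fin r) k))))) ^ (n + 1) := by
  have hB : PP16.IsDiffSmooth k (FractionRing (MvPolynomial (Fin r) k)) :=
    Groth.Agent.S3820.result k (FractionRing (MvPolynomial (Fin r) k))
  exact ⟨Groth.Agent.H46.PPFrac.tay_surjective k (FractionRing (MvPolynomial (Fin r) k))
      (fun i => algebraMap (MvPolynomial (Fin r) k) (FractionRing (MvPolynomial (Fin r) k))
        (MvPolynomial.X i))
      (Groth.Agent.H46.PPFrac.fracBasis k r) (Groth.Agent.H46.PPFrac.fracBasis_apply k r) n,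
    Groth.Agent.H46.PPFrac.ker_tay k (FractionRing (MvPolynomial (Fin r) k))
      (fun i => algebraMap (MvPolynomial (Fin r) k) (FractionRing (MvPolynomial (Fin r) k))
        (MvPolynomial.X i)) hB
      (Groth.Agent.H46.PPFrac.fracBasis k r) (Groth.Agent.H46.PPFrac.fracBasis_apply k r) n⟩
end Groth.Agent.S5010
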