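import Groth.Statements.S5011
-- import your own Groth.Agent.* helpers here
import Groth.Agent.H48.StalkLocal2

set_option autoImplicit false
universe u
open CategoryTheory CategoryTheory.Limits AlgebraicGeometry TopologicalSpace
open Unram17

namespace Groth.Agent.S5011

open IsLocalRing in
/-- Ring level: for a local algebra essentially of finite type, being unramified is equivalent to the
fibre ring being a finite separable field extension of the residue field. -/
theorem ringHom_formallyUnramified_iff_fiber {R S : Type u} [CommRing R] [CommRing S]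
    [IsLocalRing R] [IsLocalRing S] (φ : R →+* S) [IsLocalHom φ] (hφ : φ.EssFiniteType) :
    φ.FormallyUnramified ↔
      (letI := (Ideal.quotientMap ((maximalIdeal R).map φ) φ Ideal.le_comap_map).toAlgebra
      IsField (S ⧸ (maximalIdeal R).map φ) ∧
        Module.Finite (R ⧸ maximalIdeal R) (S ⧸ (maximalIdeal R).map φ) ∧
        Algebra.IsSeparable (R ⧸ maximalIdeal R) (S ⧸ (maximalIdeal R).map φ)) := by
  algebraize [φ]
  have hloc : IsLocalHom (algebraMap R S) := ‹IsLocalHom φ›
  have key : ∀ (hI : maximalIdeal R ≤ (maximalIdeal S).comap φ),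
      (Ideal.quotientMap (maximalIdeal S) φ hI).toAlgebra =
        (inferInstance : Algebra (ResidueField R) (ResidueField S)) := by
    intro hI
    refine Algebra.algebra_ext _ _ fun r ↦ ?_
    obtain ⟨r, rfl⟩ := IsLocalRing.residue_surjective r
    rfl
  constructor
  · intro h
    have hFU : Algebra.FormallyUnramified R S := h
    have hmap : (maximalIdeal R).map φ = maximalIdeal S :=
      Algebra.FormallyUnramified.map_maximalIdeal (R := R) (S := S)
    suffices H : ∀ (I : Ideal S) (hI : maximalIdeal R ≤ I.comap φ), I = maximalIdeal S →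
        (letI := (Ideal.quotientMap I φ hI).toAlgebra
        IsField (S ⧸ I) ∧ Module.Finite (R ⧸ maximalIdeal R) (S ⧸ I) ∧
          Algebra.IsSeparable (R ⧸ maximalIdeal R) (S ⧸ I)) from H _ _ hmap
    intro I hI hIm
    subst hIm
    rw [key hI]
    refine ⟨?_, ?_, ?_⟩
    · exact (Ideal.Quotient.maximal_ideal_iff_isField_quotient _).mp (maximalIdeal.isMaximal S)
    · exact (inferInstance : Module.Finite (ResidueField R) (ResidueField S))
    · exact (inferInstance : Algebra.IsSeparable (ResidueField R) (ResidueField S))
  · rintro ⟨hfield, -, hsep⟩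
    have hmax : ((maximalIdeal R).map φ).IsMaximal :=
      (Ideal.Quotient.maximal_ideal_iff_isField_quotient _).mpr hfield
    have hmap : (maximalIdeal R).map φ = maximalIdeal S := IsLocalRing.eq_maximalIdeal hmax
    have hsep' : Algebra.IsSeparable (ResidueField R) (ResidueField S) := by
      revert hsep
      suffices H : ∀ (I : Ideal S) (hI : maximalIdeal R ≤ I.comap φ), I = maximalIdeal S →
          (letI := (Ideal.quotientMap I φ hI).toAlgebra
          Algebra.IsSeparable (R ⧸ maximalIdeal R) (S ⧸ I)) →
          Algebra.IsSeparable (ResidueField R) (ResidueField S) from H _ _ hmap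
      intro I hI hIm hsep
      subst hIm
      rw [key hI] at hsep
      exact hsep
    exact Algebra.FormallyUnramified.of_map_maximalIdeal (R := R) (S := S) hmap


/-- Let f : X ⟶ Y be locally of finite presentation. Then f is etale if and only if f is flat and, for
every point x of X with image y, the quotient of the local ring of X at x by the extension of the
maximal ideal of the local ring of Y at y is a field, finite and separable over the residue field
κ(y); that is, every fibre of f is a sum of spectra of finite separable extensions of the residue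
field. -/
theorem result {X Y : Scheme.{u}} (f : X ⟶ Y)
    [LocallyOfFinitePresentation f] :
    Etale f ↔ Flat f ∧ ∀ x : ↥X,
      letI φ := (f.stalkMap x).hom
      letI 𝔪 := IsLocalRing.maximalIdeal ↑(Y.presheaf.stalk (f.base x))
      letI := (Ideal.quotientMap (𝔪.map φ) φ Ideal.le_comap_map).toAlgebra
      IsField (↑(X.presheaf.stalk x) ⧸ 𝔪.map φ) ∧
        Module.Finite (↑(Y.presheaf.stalk (f.base x)) ⧸ 𝔪) (↑(X.presheaf.stalk x) ⧸ 𝔪.map φ) ∧
        Algebra.IsSeparable (↑(Y.presheaf.stalk (f.base x)) ⧸ 𝔪) (↑(X.presheaf.stalk x) ⧸ 𝔪.map φ) := by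
  constructor
  · intro hE
    refine ⟨inferInstance, fun x ↦ ?_⟩
    have : IsLocalHom (f.stalkMap x).hom := inferInstance
    exact (ringHom_formallyUnramified_iff_fiber (f.stalkMap x).hom
      (LocallyOfFiniteType.stalkMap f x)).mp (FormallyUnramified.stalkMap f x)
  · rintro ⟨hflat, h⟩
    have hx : ∀ x : X, ∃ U : X.Opens, x ∈ U ∧ Etale (U.ι ≫ f) := fun x ↦ by
      have : IsLocalHom (f.stalkMap x).hom := inferInstance
      exact (H48.etale_nhd_iff_flat_unramified f x).mpr
        ⟨(ringHom_formallyUnramified_iff_fiber (f.stalkMap x).hom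
          (LocallyOfFiniteType.stalkMap f x)).mpr (h x), Flat.stalkMap f x⟩
    choose U hxU hU using hx
    have hsup : iSup U = ⊤ := top_le_iff.mp fun x _ ↦ Opens.mem_iSup.mpr ⟨x, hxU x⟩
    exact (IsZariskiLocalAtSource.iff_of_iSup_eq_top (P := @Etale) U hsup).mpr hU

end Groth.Agent.S5011
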