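import Groth.Statements.S5012
import Mathlib
import Groth.Agent.H79.SmoothReg3
import Groth.Agent.H44.MacLaneAll

set_option autoImplicit false
universe u
open Unram17

namespace Groth.Agent.S5012

/-- A dense open subset of the spectrum of a Noetherian ring contains every minimal prime. -/
theorem mem_of_dense_open {A : Type u} [CommRing A] [IsNoetherianRing A]
    (U : Set (PrimeSpectrum A)) (hU : IsOpen U) (hd : Dense U) (p : Ideal A)
    (hp : p ∈ minimalPrimes A) : (⟨p, hp.1.1⟩ : PrimeSpectrum A) ∈ U := by
  classical
  have hfin : (minimalPrimes A).Finite := minimalPrimes.finite_of_isNoetherianRing A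
  have hFfin : (minimalPrimes A \ {p}).Finite := hfin.subset Set.diff_subset
  have hCclosed : IsClosed (⋃ p' ∈ (minimalPrimes A \ {p}),
      PrimeSpectrum.zeroLocus ((p' : Ideal A) : Set A)) :=
    hFfin.isClosed_biUnion fun p' _ => PrimeSpectrum.isClosed_zeroLocus _
  have hpC : (⟨p, hp.1.1⟩ : PrimeSpectrum A) ∉ (⋃ p' ∈ (minimalPrimes A \ {p}),
      PrimeSpectrum.zeroLocus ((p' : Ideal A) : Set A)) := by
    intro h
    simp only [Set.mem_iUnion, exists_prop] at h
    obtain ⟨p', hp'F, hp'⟩ := h
    rw [PrimeSpectrum.mem_zeroLocus] at hp'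
    have hle : p' ≤ p := hp'
    have hge : p ≤ p' := hp.2 hp'F.1.1 hle
    exact hp'F.2 (le_antisymm hle hge)
  obtain ⟨P, hPW, hPU⟩ := hd.inter_open_nonempty _ hCclosed.isOpen_compl ⟨_, hpC⟩
  obtain ⟨p'', hp''min, hp''le⟩ :=
    Ideal.exists_minimalPrimes_le (I := ⊥) (J := P.asIdeal) bot_le
  have hpp : p'' = p := by
    by_contra hne
    apply hPW
    simp only [Set.mem_iUnion, exists_prop]
    refine ⟨p'', ⟨hp''min, hne⟩, ?_⟩
    rw [PrimeSpectrum.mem_zeroLocus]
    exact hp''le
  rw [hpp] at hp''le
  exact ((PrimeSpectrum.le_iff_specializes ⟨p, hp.1.1⟩ P).mp hp''le).mem_open hU hPU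


/-- Let A be an algebra of finite type over a field k. Then Spec A has a dense open subset consisting of
points at which A is smooth over k if and only if, for every minimal prime p of A, the local ring
A_p is geometrically reduced over k (that is, A_p is a field and a separable extension of k). -/
theorem result (k A : Type u) [Field k] [CommRing A] [Algebra k A]
    [Algebra.FiniteType k A] :
    (∃ U : TopologicalSpace.Opens (PrimeSpectrum A), Dense (U : Set (PrimeSpectrum A)) ∧
        ∀ p ∈ U, Algebra.IsSmoothAt k p.asIdeal) ↔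
      ∀ (p : Ideal A) [p.IsPrime], p ∈ minimalPrimes A →
        Algebra.IsGeometricallyReduced k (Localization.AtPrime p) := by
  haveI : IsNoetherianRing A := Algebra.FiniteType.isNoetherianRing k A
  haveI : Algebra.FinitePresentation k A :=
    Algebra.FinitePresentation.of_finiteType.mp inferInstance
  have hdim : ∀ (p : Ideal A) [p.IsPrime], p ∈ minimalPrimes A →
      ringKrullDim (Localization.AtPrime p) = 0 := by
    intro p _ hp
    rw [IsLocalization.AtPrime.ringKrullDim_eq_height p, Ideal.height_eq_zero_iff.mpr hp]
    rfl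
  have hess : ∀ (p : Ideal A) [p.IsPrime],
      Algebra.EssFiniteType k (Localization.AtPrime p) := by
    intro p _
    haveI : Algebra.EssFiniteType A (Localization.AtPrime p) :=
      Algebra.EssFiniteType.of_isLocalization _ p.primeCompl
    exact Algebra.EssFiniteType.comp k A (Localization.AtPrime p)
  constructor
  · rintro ⟨U, hUd, hUs⟩ p hpp hp
    have hpU : (⟨p, hp.1.1⟩ : PrimeSpectrum A) ∈ (U : Set (PrimeSpectrum A)) :=
      mem_of_dense_open _ U.isOpen hUd p hp
    haveI hsm : Algebra.FormallySmooth k (Localization.AtPrime p) := hUs _ hpU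
    haveI := hess p
    haveI hreg : IsRegularLocalRing (Localization.AtPrime p) :=
      Groth.Agent.H79.SmoothReg.isRegularLocalRing_of_formallySmooth k _
    have hm : IsLocalRing.maximalIdeal (Localization.AtPrime p) = ⊥ := by
      have h1 := hreg.spanFinrank_maximalIdeal
      rw [hdim p hp] at h1
      have h2 : (IsLocalRing.maximalIdeal (Localization.AtPrime p)).spanFinrank = 0 := by
        exact_mod_cast h1
      exact (Submodule.spanFinrank_eq_zero_iff_eq_bot (IsNoetherian.noetherian _)).mp h2
    have hfield : IsField (Localization.AtPrime p) :=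
      IsLocalRing.isField_iff_maximalIdeal_eq.mpr hm
    letI := hfield.toField
    exact Groth.Agent.H44.MacLane.formallySmooth_iff_isGeometricallyReduced.mp hsm
  · intro h
    refine ⟨⟨Algebra.smoothLocus k A, Algebra.isOpen_smoothLocus⟩, ?_, fun p hp => hp⟩
    have hmin : ∀ (p : Ideal A) (hp : p ∈ minimalPrimes A),
        (⟨p, hp.1.1⟩ : PrimeSpectrum A) ∈ Algebra.smoothLocus k A := by
      intro p hp
      haveI := hp.1.1
      haveI := h p hp
      haveI : IsReduced (Localization.AtPrime p) :=
        Algebra.isReduced_of_isGeometricallyReduced k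
      haveI : IsNoetherianRing (Localization.AtPrime p) :=
        IsLocalization.isNoetherianRing p.primeCompl _ inferInstance
      haveI : Ring.KrullDimLE 0 (Localization.AtPrime p) :=
        Ring.krullDimLE_iff.mpr (hdim p hp).le
      haveI : IsArtinianRing (Localization.AtPrime p) :=
        isArtinianRing_iff_krullDimLE_zero.mpr inferInstance
      have hfield : IsField (Localization.AtPrime p) :=
        IsArtinianRing.isField_of_isReduced_of_isLocalRing _
      letI := hfield.toField
      exact Groth.Agent.H44.MacLane.formallySmooth_iff_isGeometricallyReduced.mpr inferInstance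
    intro P
    obtain ⟨q, hq, hqle⟩ := Ideal.exists_minimalPrimes_le (I := ⊥) (J := P.asIdeal) bot_le
    exact ((PrimeSpectrum.le_iff_specializes ⟨q, hq.1.1⟩ P).mp hqle).mem_closed isClosed_closure
      (subset_closure (hmin q hq))

end Groth.Agent.S5012
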