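import Groth.Statements.S5017
import Mathlib.AlgebraicGeometry.Morphisms.UniversallyInjective
import Mathlib.AlgebraicGeometry.Morphisms.FormallyUnramified
import Mathlib.AlgebraicGeometry.Morphisms.IsIso
import Mathlib.RingTheory.Unramified.LocalRing

set_option autoImplicit false
universe u
open CategoryTheory CategoryTheory.Limits AlgebraicGeometry TopologicalSpace
open Unram17

namespace Groth.Agent.S5017

section RingLevel

open IsLocalRing

variable {A B : Type u} [CommRing A] [CommRing B] [IsLocalRing A] [IsLocalRing B]

lemma map_le (φ : A →+* B) [IsLocalHom φ] : (maximalIdeal A).map φ ≤ maximalIdeal B := by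
  rw [Ideal.map_le_iff_le_comap]
  intro a ha
  rw [Ideal.mem_comap, mem_maximalIdeal, map_mem_nonunits_iff, ← mem_maximalIdeal]
  exact ha

lemma mem_of_map_mem (φ : A →+* B) [IsLocalHom φ] {a : A} (h : φ a ∈ maximalIdeal B) :
    a ∈ maximalIdeal A := by
  rwa [mem_maximalIdeal, map_mem_nonunits_iff, ← mem_maximalIdeal] at h

theorem bij_of_map_eq (φ : A →+* B) [IsLocalHom φ]
    (H : (maximalIdeal A).map φ = maximalIdeal B)
    (hsurj : Function.Surjective (ResidueField.map φ)) :
    Function.Bijective (Ideal.quotientMap ((maximalIdeal A).map φ) φ Ideal.le_comap_map) := by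
  constructor
  · rw [injective_iff_map_eq_zero]
    intro y hy
    obtain ⟨a, rfl⟩ := Ideal.Quotient.mk_surjective y
    rw [Ideal.quotientMap_mk, Ideal.Quotient.eq_zero_iff_mem] at hy
    rw [Ideal.Quotient.eq_zero_iff_mem]
    exact mem_of_map_mem φ (map_le φ hy)
  · intro y
    obtain ⟨b, rfl⟩ := Ideal.Quotient.mk_surjective y
    obtain ⟨z, hz⟩ := hsurj (residue B b)
    obtain ⟨a, rfl⟩ := residue_surjective z
    rw [ResidueField.map_residue] at hz
    refine ⟨Ideal.Quotient.mk _ a, ?_⟩
    rw [Ideal.quotientMap_mk, Ideal.Quotient.eq, H, ← residue_eq_zero_iff, map_sub, hz, sub_self]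

theorem map_eq_of_bij (φ : A →+* B) [IsLocalHom φ]
    (hb : Function.Bijective
      (Ideal.quotientMap ((maximalIdeal A).map φ) φ Ideal.le_comap_map)) :
    (maximalIdeal A).map φ = maximalIdeal B ∧ Function.Surjective (ResidueField.map φ) := by
  have key : ∀ b : B, ∃ a : A, b - φ a ∈ (maximalIdeal A).map φ := by
    intro b
    obtain ⟨y, hy⟩ := hb.2 (Ideal.Quotient.mk _ b)
    obtain ⟨a, rfl⟩ := Ideal.Quotient.mk_surjective y
    rw [Ideal.quotientMap_mk] at hy
    exact ⟨a, Ideal.Quotient.eq.mp hy.symm⟩
  have H : (maximalIdeal A).map φ = maximalIdeal B := by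
    refine le_antisymm (map_le φ) ?_
    intro b hb'
    obtain ⟨a, ha⟩ := key b
    have h1 : φ a ∈ maximalIdeal B := by
      have := (maximalIdeal B).sub_mem hb' (map_le φ ha)
      simpa using this
    have h2 : a ∈ maximalIdeal A := mem_of_map_mem φ h1
    have h3 : φ a ∈ (maximalIdeal A).map φ := Ideal.mem_map_of_mem φ h2
    have := ((maximalIdeal A).map φ).add_mem ha h3
    simpa using this
  refine ⟨H, ?_⟩
  intro y
  obtain ⟨b, rfl⟩ := residue_surjective y
  obtain ⟨a, ha⟩ := key b
  refine ⟨residue A a, ?_⟩
  rw [ResidueField.map_residue]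
  symm
  rw [← sub_eq_zero, ← map_sub, residue_eq_zero_iff, ← H]
  exact ha

theorem ring_L1 (φ : A →+* B) [IsLocalHom φ]
    (hunr : φ.FormallyUnramified) (hess : φ.EssFiniteType)
    (hsurj : Function.Surjective (ResidueField.map φ)) :
    Function.Bijective (Ideal.quotientMap ((maximalIdeal A).map φ) φ Ideal.le_comap_map) := by
  letI : Algebra A B := φ.toAlgebra
  haveI : IsLocalHom (algebraMap A B) := ‹IsLocalHom φ›
  haveI : Algebra.EssFiniteType A B := hess
  haveI : Algebra.FormallyUnramified A B := hunr
  have H : (maximalIdeal A).map φ = maximalIdeal B :=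
    Algebra.FormallyUnramified.map_maximalIdeal (R := A) (S := B)
  exact bij_of_map_eq φ H hsurj

theorem ring_L2 (φ : A →+* B) [IsLocalHom φ] (hess : φ.EssFiniteType)
    (hb : Function.Bijective
      (Ideal.quotientMap ((maximalIdeal A).map φ) φ Ideal.le_comap_map)) :
    φ.FormallyUnramified ∧ Function.Surjective (ResidueField.map φ) := by
  obtain ⟨H, hsurj⟩ := map_eq_of_bij φ hb
  refine ⟨?_, hsurj⟩
  letI : Algebra A B := φ.toAlgebra
  haveI : IsLocalHom (algebraMap A B) := ‹IsLocalHom φ›
  haveI : Algebra.EssFiniteType A B := hess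
  haveI : Algebra.IsSeparable (ResidueField A) (ResidueField B) := ⟨fun y => by
    obtain ⟨z, rfl⟩ := hsurj y
    obtain ⟨a, rfl⟩ := residue_surjective z
    rw [ResidueField.map_residue]
    exact isSeparable_algebraMap (F := ResidueField A) (K := ResidueField B) (residue A a)⟩
  have : Algebra.FormallyUnramified A B := Algebra.FormallyUnramified.of_map_maximalIdeal H
  exact this

theorem purelyInsep_of_surjective {F E : Type u} [CommRing F] [CommRing E] (ψ : F →+* E)
    (h : Function.Surjective ψ) : ψ.IsPurelyInseparable := by
  letI : Algebra F E := ψ.toAlgebra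
  show IsPurelyInseparable F E
  refine ⟨⟨fun x => ?_⟩, fun x _ => RingHom.mem_range.mpr (h x)⟩
  obtain ⟨y, rfl⟩ := h x
  exact isIntegral_algebraMap (R := F) (A := E) (x := y)

end RingLevel

/-- Let f : X ⟶ Y be locally of finite type. Then f is a monomorphism if and only if, for every point x
of X with image y, x is the only point of its fibre and the canonical map from the residue field
κ(y) to the quotient of the local ring of X at x by the extension of the maximal ideal at y is
bijective (each nonempty fibre is Spec κ(y)). -/
theorem result {X Y : Scheme.{u}} (f : X ⟶ Y) [LocallyOfFiniteType f] :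
    Mono f ↔ ∀ x : ↥X,
      (∀ x' : ↥X, f.base x' = f.base x → x' = x) ∧
        Function.Bijective
          (Ideal.quotientMap
            ((IsLocalRing.maximalIdeal ↑(Y.presheaf.stalk (f.base x))).map (f.stalkMap x).hom)
            (f.stalkMap x).hom Ideal.le_comap_map) := by
  constructor
  · intro hmono x
    haveI : Mono f := hmono
    refine ⟨fun x' h => (Scheme.Hom.injective f) h, ?_⟩
    haveI : IsIso (pullback.diagonal f) := (pullback.isIso_diagonal_iff f).mpr inferInstance
    haveI : FormallyUnramified f := inferInstance
    have hunr := FormallyUnramified.stalkMap f x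
    have hess := LocallyOfFiniteType.stalkMap f x
    have h13 : UniversallyInjective f ↔ (Function.Injective f ∧
        ∀ x, (f.residueFieldMap x).hom.IsPurelyInseparable) :=
      (tfae_universallyInjective f).out 0 2
    have hpi : (f.residueFieldMap x).hom.IsPurelyInseparable := (h13.mp inferInstance).2 x
    have hsurj : Function.Surjective (f.residueFieldMap x).hom := by
      letI : Algebra (Y.residueField (f.base x)) (X.residueField x) :=
        (f.residueFieldMap x).hom.toAlgebra
      haveI : IsPurelyInseparable (Y.residueField (f.base x)) (X.residueField x) := hpi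
      haveI : Algebra.IsSeparable (Y.residueField (f.base x)) (X.residueField x) := inferInstance
      exact IsPurelyInseparable.surjective_algebraMap_of_isSeparable
        (Y.residueField (f.base x)) (X.residueField x)
    exact ring_L1 (f.stalkMap x).hom hunr hess hsurj
  · intro H
    have hinj : Function.Injective f := fun x' x h => (H x).1 x' h
    have hloc : ∀ x, (f.stalkMap x).hom.FormallyUnramified ∧
        Function.Surjective (IsLocalRing.ResidueField.map (f.stalkMap x).hom) := fun x =>
      ring_L2 (f.stalkMap x).hom (LocallyOfFiniteType.stalkMap f x) (H x).2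
    haveI : FormallyUnramified f :=
      HasRingHomProperty.of_stalkMap (P := @FormallyUnramified)
        RingHom.FormallyUnramified.ofLocalizationPrime (fun x => (hloc x).1)
    have h13 : UniversallyInjective f ↔ (Function.Injective f ∧
        ∀ x, (f.residueFieldMap x).hom.IsPurelyInseparable) :=
      (tfae_universallyInjective f).out 0 2
    haveI : UniversallyInjective f :=
      h13.mpr ⟨hinj, fun x => purelyInsep_of_surjective (f.residueFieldMap x).hom (hloc x).2⟩
    haveI : Surjective (pullback.diagonal f) :=
      (UniversallyInjective.iff_diagonal f).mp inferInstance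
    haveI : IsIso (pullback.diagonal f) :=
      (isIso_iff_isOpenImmersion_and_surjective _).mpr ⟨inferInstance, inferInstance⟩
    exact (pullback.isIso_diagonal_iff f).mp inferInstance

end Groth.Agent.S5017
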