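import Groth.Statements.S5018
-- import your own Groth.Agent.* helpers here
import Groth.Agent.H39.DerFin
import Groth.Agent.H39.FSmooth
import Groth.Agent.H8.LocFree

set_option autoImplicit false
universe u
open CategoryTheory CategoryTheory.Limits AlgebraicGeometry TopologicalSpace
open Unram17

namespace Groth.Agent.S5018



/-- Let f : X ⟶ Y be formally smooth and locally of finite type, and let (Ω', d) be a sheaf of
differentials of X over Y, i.e. d a universal Y-derivation of O_X into Ω'. Then Ω' is finite locally
free. (The published statement also shows that the sheaf of differentials is locally projective for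
every formally smooth f; this row states only the case of f locally of finite type.) -/
theorem result {X Y : Scheme.{u}} (f : X ⟶ Y)
    (hf : MoreMor.IsFormallySmoothHom f) [LocallyOfFiniteType f]
    (Ω' : X.Modules) (d : OmegaSh.Der f Ω') (hd : OmegaSh.IsUniversal d) :
    FlatMod.IsFinLocFree Ω' := by
  haveI := Groth.Agent.H39.DerFin.isQuasicoherent_of_isUniversal f hd
  apply Groth.Agent.H8.isFinLocFree_of_projective_sections Ω'
  intro x
  obtain ⟨V, ⟨hV, U, hU, e⟩, hxV, -⟩ :=
    (TopologicalSpace.Opens.isBasis_iff_nbhd.mp (Groth.Agent.H39.DerUniv.isBasis_small f))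
      (TopologicalSpace.Opens.mem_top x)
  letI : Algebra Γ(Y, U) Γ(X, V) := (f.appLE U V e).hom.toAlgebra
  obtain ⟨ψ⟩ := Groth.Agent.H39.DerFin.nonempty_sections_linearEquiv_kaehler f hd hU hV e
  have hfs : Algebra.FormallySmooth Γ(Y, U) Γ(X, V) :=
    Groth.Agent.H39.FSmooth.formallySmooth_appLE_of_isFormallySmoothHom f hf hV hU e
  have hft : Algebra.FiniteType Γ(Y, U) Γ(X, V) :=
    HasRingHomProperty.appLE @LocallyOfFiniteType f ‹_› ⟨_, hU⟩ ⟨_, hV⟩ e
  exact ⟨V, hV, hxV, Module.Finite.equiv ψ.symm, Module.Projective.of_equiv ψ.symm⟩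

end Groth.Agent.S5018
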