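import Groth.Statements.S5021
import Groth.Agent.S12423
import Groth.Agent.S5019
import Groth.Agent.S9370
import Groth.Agent.H8.OmegaUniv
import Groth.Agent.H8.ConormalDiffEx
import Groth.Agent.H9.Equidim
import Groth.Agent.H70.ConormalRestrict

set_option autoImplicit false
universe u
open CategoryTheory CategoryTheory.Limits AlgebraicGeometry TopologicalSpace
open Unram17

namespace Groth.Agent.S5021

open OmegaSh TopologicalSpace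
open scoped TensorProduct
open Groth.Agent.H39 Groth.Agent.H8 Groth.Agent.H39.ConormalLocal Groth.Agent.H39.ConormalSect
  Groth.Agent.H39.ConormalMono Groth.Agent.S12423

set_option linter.style.haveILetI false

section DirC

variable {X' X Y : Scheme.{u}} (j : X' ⟶ X) [IsImmersion j] [QuasiCompact j]
  (f : X ⟶ Y)
  {ΩX : X.Modules} {dX : Der f ΩX} (hX : IsUniversal dX)
  {ΩX' : X'.Modules} {dX' : Der (j ≫ f) ΩX'} (hX' : IsUniversal dX')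
  {φ : Omega.conormal j ⟶ (Scheme.Modules.pullback j).obj ΩX} (hφ : IsConormalDiff j dX φ)

include hX hX' hφ in
set_option maxHeartbeats 1000000 in
/-- Pointwise version of `S12423.conormal_rank`. -/
theorem conormal_rank_at (hmono : Mono φ) (hfX : FlatMod.IsFinLocFree ΩX)
    (hfX' : FlatMod.IsFinLocFree ΩX') (x : X') (n q : ℕ)
    (Wn : X.Opens) (hWn : j x ∈ Wn) (en : ΩX.restrict Wn.ι ≅ FlatMod.freeMod (↑Wn) n)
    (Wq : X'.Opens) (hWq : x ∈ Wq) (eq : ΩX'.restrict Wq.ι ≅ FlatMod.freeMod (↑Wq) q) :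
    ∃ (U : X'.Opens) (m : ℕ), x ∈ U ∧
      Nonempty ((Omega.conormal j).restrict U.ι ≅ FlatMod.freeMod (↑U) m) ∧ n = m + q := by
  haveI : ΩX.IsQuasicoherent := DerFin.isQuasicoherent_of_isUniversal f hX
  haveI : ΩX'.IsQuasicoherent := DerFin.isQuasicoherent_of_isUniversal (j ≫ f) hX'
  haveI : ((Scheme.Modules.pullback j).obj ΩX).IsQuasicoherent :=
    Groth.Agent.H8.isQuasicoherent_pullback j ΩX
  haveI : (ClSub.idealMod j.ker).IsQuasicoherent :=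
    inferInstanceAs (kernel (ClSub.toSubscheme j.ker)).IsQuasicoherent
  haveI : (Omega.conormal j).IsQuasicoherent :=
    Groth.Agent.H8.isQuasicoherent_pullback j (ClSub.idealMod j.ker)
  obtain ⟨U, V₁, hU, hV₁, e₁, hW, hsurj, hxW⟩ := exists_small j f x
  obtain ⟨c, hc, -⟩ := Groth.Agent.S9370.result f (j ≫ f) j (𝟙 Y) (by rw [Category.comp_id])
    ΩX dX hX ΩX' dX' hX'
  obtain ⟨hcsurj, hcker⟩ := local_exact f j hX hX' hφ hc hU hV₁ e₁ hW hsurj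
  have hcomp := conormalDiff_comp f j hφ hc
  have e : j ⁻¹ᵁ V₁ ≤ j ⁻¹ᵁ V₁ := le_rfl
  letI a3 : Algebra Γ(X, V₁) Γ(X', j ⁻¹ᵁ V₁) := (j.appLE V₁ (j ⁻¹ᵁ V₁) e).hom.toAlgebra
  obtain ⟨hfpQ, hprojQ⟩ := finitePresentation_projective_sections_of_isFinLocFree ΩX' hfX' hW
  obtain ⟨hfpX, hprojX⟩ := finitePresentation_projective_sections_of_isFinLocFree ΩX hfX hV₁
  haveI := hprojQ
  haveI := hprojX
  haveI : Module.Finite Γ(X', j ⁻¹ᵁ V₁) Γ(ΩX', j ⁻¹ᵁ V₁) := inferInstance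
  haveI : Module.Finite Γ(X, V₁) Γ(ΩX, V₁) := inferInstance
  obtain ⟨E, -⟩ := PullTrack.exists_sectionsPullbackEquiv j ΩX hV₁ hW e
  haveI : Module.Finite Γ(X', j ⁻¹ᵁ V₁) Γ((Scheme.Modules.pullback j).obj ΩX, j ⁻¹ᵁ V₁) :=
    Module.Finite.equiv E.symm
  haveI : Module.Projective Γ(X', j ⁻¹ᵁ V₁)
      Γ((Scheme.Modules.pullback j).obj ΩX, j ⁻¹ᵁ V₁) :=
    Module.Projective.of_equiv E.symm
  obtain ⟨p, hp⟩ : ∃ p, p = hW.primeIdealOf ⟨x, hxW⟩ := ⟨_, rfl⟩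
  have hex : Function.Exact (appₗ φ (j ⁻¹ᵁ V₁)) (appₗ c (j ⁻¹ᵁ V₁)) := by
    intro t
    constructor
    · intro ht
      obtain ⟨s, hs⟩ := hcker t ht
      exact ⟨_, hs⟩
    · rintro ⟨s, rfl⟩
      exact congrArg (fun ψ : Omega.conormal j ⟶ ΩX' => ψ.app (j ⁻¹ᵁ V₁) s) hcomp
  obtain ⟨hfinC, hprojC, hrank⟩ := rank_of_exact (appₗ φ (j ⁻¹ᵁ V₁)) (appₗ c (j ⁻¹ᵁ V₁))
    (app_injective_of_mono φ (j ⁻¹ᵁ V₁)) hcsurj hex p
  have hpx : hW.fromSpec p = x := by rw [hp]; exact hW.fromSpec_primeIdealOf ⟨x, hxW⟩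
  have hrQ := rankAtStalk_sections_of_restrict_iso ΩX' q hW p Wq (by rw [hpx]; exact hWq) eq
  have hcomap : p.comap (algebraMap Γ(X, V₁) Γ(X', j ⁻¹ᵁ V₁)) =
      hV₁.primeIdealOf ⟨j x, hxW⟩ := by
    rw [hp]
    exact IsAffineOpen.comap_primeIdealOf_appLE (f := j) V₁ hV₁ (j ⁻¹ᵁ V₁) hW e hxW
  have hrX := rankAtStalk_sections_of_restrict_iso ΩX n hV₁
    (p.comap (algebraMap Γ(X, V₁) Γ(X', j ⁻¹ᵁ V₁))) Wn (by
      rw [hcomap, hV₁.fromSpec_primeIdealOf]; exact hWn) en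
  have hrP : Module.rankAtStalk (R := Γ(X', j ⁻¹ᵁ V₁))
      Γ((Scheme.Modules.pullback j).obj ΩX, j ⁻¹ᵁ V₁) p = n := by
    rw [Module.rankAtStalk_eq_of_equiv E, Module.rankAtStalk_baseChange, hrX]
  have hfinal : Module.rankAtStalk (R := Γ(X', j ⁻¹ᵁ V₁)) Γ(Omega.conormal j, j ⁻¹ᵁ V₁) p + q = n := by
    rw [← hrQ, ← hrP]
    exact hrank
  haveI := hfinC
  haveI := hprojC
  obtain ⟨U', hxU', hU'⟩ := exists_restrict_iso_freeMod_of_rank (Omega.conormal j) hW x hxW _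
    (by rw [← hp])
  exact ⟨U', _, hxU', hU', hfinal.symm⟩

end DirC


section QS

open Groth.Agent.S12423

theorem main_qs {X' X Y : Scheme.{u}} (f : X ⟶ Y) [Smooth f]
    (j : X' ⟶ X) [IsImmersion j] [QuasiCompact j] [Smooth (j ≫ f)] [QuasiSeparated f] [QuasiSeparated (j ≫ f)] (x : ↥X') :
    ∃ (U : X'.Opens) (n : ℕ), x ∈ U ∧ Nonempty ((Omega.conormal j).restrict U.ι ≅ FlatMod.freeMod (↑U) n) ∧
      FlatMor.fibreDimAt f (j.base x) = FlatMor.fibreDimAt (j ≫ f) x + (n : WithBot ℕ∞) := by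
  haveI : LocallyOfFinitePresentation f := inferInstance
  have huX := Groth.Agent.H8.OmegaUniv.isUniversal_dOmega f
  have huX' := Groth.Agent.H8.OmegaUniv.isUniversal_dOmega (j ≫ f)
  obtain ⟨φ, hφ⟩ := Groth.Agent.H8.ConormalDiffEx.exists_isConormalDiff j (OmegaSh.dOmega f)
  have hmono : Mono φ := mono_of_smooth j f huX hφ
  obtain ⟨Wn, n, hWn, ⟨en⟩, hn⟩ := Groth.Agent.S5019.result f _ _ huX (j.base x)
  obtain ⟨Wq, q, hWq, ⟨eq⟩, hq⟩ := Groth.Agent.S5019.result (j ≫ f) _ _ huX' x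
  have hfX : FlatMod.IsFinLocFree (Omega.sheaf f) := fun z => by
    obtain ⟨W, m, hW, hm, -⟩ := Groth.Agent.S5019.result f _ _ huX z
    exact ⟨W, m, hW, hm⟩
  have hfX' : FlatMod.IsFinLocFree (Omega.sheaf (j ≫ f)) := fun z => by
    obtain ⟨W, m, hW, hm, -⟩ := Groth.Agent.S5019.result (j ≫ f) _ _ huX' z
    exact ⟨W, m, hW, hm⟩
  obtain ⟨U, m, hxU, hU, hnm⟩ := conormal_rank_at j f huX huX' hφ hmono hfX hfX' x n q Wn hWn en
    Wq hWq eq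
  refine ⟨U, m, hxU, hU, ?_⟩
  rw [hn, hq, hnm]
  push_cast
  rw [add_comm]


end QS

theorem result {X' X Y : Scheme.{u}} (f : X ⟶ Y) [Smooth f]
    (j : X' ⟶ X) [IsImmersion j] [QuasiCompact j] [Smooth (j ≫ f)] (x : ↥X') :
    ∃ (U : X'.Opens) (n : ℕ), x ∈ U ∧ Nonempty ((Omega.conormal j).restrict U.ι ≅ FlatMod.freeMod (↑U) n) ∧
      FlatMor.fibreDimAt f (j.base x) = FlatMor.fibreDimAt (j ≫ f) x + (n : WithBot ℕ∞) := by
  obtain ⟨X₀, hX₀aff, hxX₀⟩ : ∃ X₀ : X.Opens, IsAffineOpen X₀ ∧ j.base x ∈ X₀ := by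
    obtain ⟨_, ⟨X₀, hX₀aff, rfl⟩, hxX₀, -⟩ :=
      X.isBasis_affineOpens.exists_subset_of_mem_open (Set.mem_univ (j.base x)) isOpen_univ
    exact ⟨X₀, hX₀aff, hxX₀⟩
  haveI : IsAffine (↑X₀ : Scheme.{u}) := hX₀aff
  haveI : QuasiSeparatedSpace (↑X₀ : Scheme.{u}) := inferInstance
  haveI : Smooth (X₀.ι ≫ f) := inferInstance
  have hcomp : (j ∣_ X₀) ≫ (X₀.ι ≫ f) = (j ⁻¹ᵁ X₀).ι ≫ (j ≫ f) := by
    rw [← Category.assoc, morphismRestrict_ι, Category.assoc]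
  haveI : Smooth ((j ∣_ X₀) ≫ (X₀.ι ≫ f)) := by rw [hcomp]; infer_instance
  haveI : QuasiSeparated (X₀.ι ≫ f) := inferInstance
  haveI : IsImmersion (j ∣_ X₀) := inferInstance
  haveI : QuasiCompact (j ∣_ X₀) := inferInstance
  haveI : QuasiSeparated (j ∣_ X₀) := inferInstance
  haveI : QuasiSeparated ((j ∣_ X₀) ≫ (X₀.ι ≫ f)) := inferInstance
  let x₀ : ↥(j ⁻¹ᵁ X₀) := ⟨x, hxX₀⟩
  obtain ⟨U₀, n, hxU₀, hfree, hdim⟩ := main_qs (X₀.ι ≫ f) (j ∣_ X₀) x₀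
  refine ⟨(j ⁻¹ᵁ X₀).ι ''ᵁ U₀, n, ⟨x₀, hxU₀, rfl⟩,
    Groth.Agent.H70.ConormalRestrict.conormal_free_of_restrict j X₀ U₀ n hfree, ?_⟩
  have h1 : FlatMor.fibreDimAt (X₀.ι ≫ f) ((j ∣_ X₀).base x₀) = FlatMor.fibreDimAt f (j.base x) := by
    rw [Groth.Agent.H9.Equidim.fibreDimAt_comp_of_isOpenImmersion X₀.ι f ((j ∣_ X₀).base x₀)]
    congr 1
    have h : ((j ∣_ X₀) ≫ X₀.ι).base x₀ = ((j ⁻¹ᵁ X₀).ι ≫ j).base x₀ := by
      rw [morphismRestrict_ι]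
    exact h
  have h2 : FlatMor.fibreDimAt ((j ∣_ X₀) ≫ (X₀.ι ≫ f)) x₀ = FlatMor.fibreDimAt (j ≫ f) x := by
    rw [hcomp]
    exact Groth.Agent.H9.Equidim.fibreDimAt_comp_of_isOpenImmersion (j ⁻¹ᵁ X₀).ι (j ≫ f) x₀
  rw [← h1, ← h2]
  exact hdim

end Groth.Agent.S5021
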