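import Groth.Statements.S5026
import Groth.Agent.H14.EtaleDim
import Groth.Agent.H14.EtaleSpan
import Groth.Agent.H14.LocalKaehler2

set_option autoImplicit false
universe u
open Unram17

namespace Groth.Agent.S5026

/-- Let k be a field, A a k-algebra of finite type equipped with a k-algebra map from the polynomial
ring in n variables (images g_i of the variables), p a prime of A such that Spec A has local
dimension n at p, r the Krull dimension of the local ring A_p, and suppose g_i ∈ p for the indices i
< r. Then A is etale at p over the polynomial ring if and only if the images of the g_i with i < r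
generate the maximal ideal of A_p and the differentials of the residue classes of the g_i with i ≥ r
generate the module of differentials of the residue field κ(p) over k. (The published statement adds
that these conditions imply that A is smooth at p over k and that κ(p) is separable over k; this row
does not state that consequence.) -/
theorem result (k A : Type u) [Field k]
    [CommRing A] [Algebra k A] [Algebra.FiniteType k A] (n r : ℕ) [Algebra (MvPolynomial (Fin n) k) A]
    [IsScalarTower k (MvPolynomial (Fin n) k) A] (p : Ideal A) [p.IsPrime]
    (hn : FlatMor.localDim (PrimeSpectrum A) ⟨p, inferInstance⟩ = (n : WithBot ℕ∞))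
    (hr : ringKrullDim (Localization.AtPrime p) = (r : WithBot ℕ∞))
    (hg : ∀ i : Fin n, (i : ℕ) < r → algebraMap (MvPolynomial (Fin n) k) A (MvPolynomial.X i) ∈ p) :
    Algebra.IsEtaleAt (MvPolynomial (Fin n) k) p ↔
      Ideal.span ((fun i : Fin n =>
          algebraMap A (Localization.AtPrime p) (algebraMap (MvPolynomial (Fin n) k) A (MvPolynomial.X i))) ''
            {i : Fin n | (i : ℕ) < r}) = IsLocalRing.maximalIdeal (Localization.AtPrime p) ∧
        Submodule.span p.ResidueField ((fun i : Fin n =>
          KaehlerDifferential.D k p.ResidueField
            (IsLocalRing.residue (Localization.AtPrime p)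
              (algebraMap A (Localization.AtPrime p) (algebraMap (MvPolynomial (Fin n) k) A (MvPolynomial.X i))))) ''
            {i : Fin n | r ≤ (i : ℕ)}) = ⊤ := by
  haveI : IsNoetherianRing A := Algebra.FiniteType.isNoetherianRing k A
  haveI : Algebra.EssFiniteType k (Localization.AtPrime p) :=
    Algebra.EssFiniteType.comp k A (Localization.AtPrime p)
  -- r ≤ n
  obtain ⟨t, ht⟩ := Groth.Agent.H14.EtaleDim.exists_trdeg_eq k A p
  have hrn : r ≤ n := by
    have h := Groth.Agent.S2141.result p t ht
    rw [hn, hr] at h
    have : (n : WithBot ℕ∞) = ((r + t : ℕ) : WithBot ℕ∞) := by rw [h]; push_cast; rfl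
    have : n = r + t := by exact_mod_cast this
    omega
  -- étale at p iff the differentials span
  have hspan := Groth.Agent.H14.EtaleSpan.formallyUnramified_iff_span k (Fin n)
    (Localization.AtPrime p)
  have hX : ∀ i : Fin n, algebraMap (MvPolynomial (Fin n) k) (Localization.AtPrime p)
      (MvPolynomial.X i) = algebraMap A (Localization.AtPrime p)
        (algebraMap (MvPolynomial (Fin n) k) A (MvPolynomial.X i)) := fun i =>
    IsScalarTower.algebraMap_apply _ A _ _
  constructor
  · intro h
    haveI : Algebra.FormallyEtale (MvPolynomial (Fin n) k) (Localization.AtPrime p) := h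
    obtain ⟨hli, hsp⟩ := Groth.Agent.H14.LocalKaehler.basis_of_formallyEtale k (Fin n)
      (Localization.AtPrime p)
    simp only [hX] at hli hsp
    haveI : Algebra.FormallySmooth k (Localization.AtPrime p) :=
      Algebra.FormallySmooth.comp k (MvPolynomial (Fin n) k) _
    haveI : IsRegularLocalRing (Localization.AtPrime p) :=
      Groth.Agent.H14.LocalKaehler.isRegularLocalRing_of_formallySmooth k _
    have hreg : Module.finrank (IsLocalRing.ResidueField (Localization.AtPrime p))
        (IsLocalRing.CotangentSpace (Localization.AtPrime p)) = r := by
      have := (IsRegularLocalRing.iff_finrank_cotangentSpace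
        (R := Localization.AtPrime p)).mp inferInstance
      rw [hr] at this
      exact_mod_cast this
    have hg' : ∀ i : Fin n, (i : ℕ) < r →
        algebraMap A (Localization.AtPrime p)
          (algebraMap (MvPolynomial (Fin n) k) A (MvPolynomial.X i)) ∈
          IsLocalRing.maximalIdeal (Localization.AtPrime p) := fun i hi =>
      (IsLocalization.AtPrime.to_map_mem_maximal_iff _ p _).mpr (hg i hi)
    exact Groth.Agent.H14.LocalKaehler.conditions_of_basis (k := k) n r hrn _ hg' hsp hli hreg
  · rintro ⟨h1, h2⟩
    have h3 := Groth.Agent.H14.LocalKaehler.span_Φ_eq_top (k := k) n r _ h1 h2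
    rw [Groth.Agent.H14.LocalKaehler.span_Φ_eq_top_iff] at h3
    simp only [hX] at hspan
    haveI : Algebra.IsUnramifiedAt (MvPolynomial (Fin n) k) p := hspan.mpr h3
    exact Groth.Agent.H14.EtaleDim.isEtaleAt_of_isUnramifiedAt k n A p hn.ge

end Groth.Agent.S5026
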