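import Groth.Statements.S5027
import Groth.Agent.H14.EtaleDim
import Groth.Agent.H14.SepField

set_option autoImplicit false
universe u
open Unram17

namespace Groth.Agent.S5027

open KaehlerDifferential in
theorem encard_range_le {α : Type*} (r : ℕ) (f : Fin r → α) : (Set.range f).encard ≤ r := by
  classical
  have : Set.range f = ((Finset.univ.image f : Finset α) : Set α) := by simp
  rw [this, Set.encard_coe_eq_coe_finsetCard]
  exact_mod_cast (Finset.card_image_le.trans (by simp))


/-- Let A be an algebra of finite type over a field k, p a prime of A such that Spec A has local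
dimension n at p, and r the Krull dimension of the local ring A_p. Then A_p is regular and the
residue field κ(p) is a separable extension of k (geometrically reduced over k) if and only if there
exist n elements of the local ring A_p (germs at p in place of sections over an open neighbourhood
of p, which is equivalent) of which those with index < r generate the maximal ideal and the residue
classes of the remaining ones have differentials generating the module of differentials of κ(p) over
k. -/
theorem result (k A : Type u) [Field k]
    [CommRing A] [Algebra k A] [Algebra.FiniteType k A] (n r : ℕ) (p : Ideal A) [p.IsPrime]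
    (hn : FlatMor.localDim (PrimeSpectrum A) ⟨p, inferInstance⟩ = (n : WithBot ℕ∞))
    (hr : ringKrullDim (Localization.AtPrime p) = (r : WithBot ℕ∞)) :
    (IsRegularLocalRing (Localization.AtPrime p) ∧ Algebra.IsGeometricallyReduced k p.ResidueField) ↔
      ∃ g : Fin n → Localization.AtPrime p,
        Ideal.span (g '' {i : Fin n | (i : ℕ) < r}) = IsLocalRing.maximalIdeal (Localization.AtPrime p) ∧
          Submodule.span p.ResidueField ((fun i : Fin n =>
            KaehlerDifferential.D k p.ResidueField (IsLocalRing.residue (Localization.AtPrime p) (g i))) ''
              {i : Fin n | r ≤ (i : ℕ)}) = ⊤ := by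
  haveI : IsNoetherianRing A := Algebra.FiniteType.isNoetherianRing k A
  obtain ⟨t, ht⟩ := Groth.Agent.H14.EtaleDim.exists_trdeg_eq k A p
  have hnrt : n = r + t := by
    have h := Groth.Agent.S2141.result p t ht
    rw [hn, hr] at h
    have : (n : WithBot ℕ∞) = ((r + t : ℕ) : WithBot ℕ∞) := by rw [h]; push_cast; rfl
    exact_mod_cast this
  subst hnrt
  haveI : Algebra.EssFiniteType k p.ResidueField := Algebra.EssFiniteType.comp k A _
  obtain ⟨hfin, hle, hiff⟩ := Groth.Agent.H14.SepField.field_lemma k p.ResidueField t ht
  constructor
  · rintro ⟨hreg, hsep⟩
    -- generators of the maximal ideal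
    have hm : (IsLocalRing.maximalIdeal (Localization.AtPrime p)).spanFinrank = r := by
      have := (isRegularLocalRing_iff (Localization.AtPrime p)).mp hreg
      rw [hr] at this
      exact_mod_cast this
    obtain ⟨s, hs1, hs2⟩ := Submodule.FG.exists_span_finset_card_eq_spanFinrank
      (p := IsLocalRing.maximalIdeal (Localization.AtPrime p)) (IsNoetherian.noetherian _)
    rw [hm] at hs1
    let f₁ : Fin r → Localization.AtPrime p := fun j => (s.equivFin.symm (Fin.cast hs1.symm j) : _)
    have hf₁ : Set.range f₁ = (s : Set (Localization.AtPrime p)) := by
      ext x
      constructor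
      · rintro ⟨j, rfl⟩
        exact (s.equivFin.symm (Fin.cast hs1.symm j)).2
      · intro hx
        refine ⟨Fin.cast hs1 (s.equivFin ⟨x, hx⟩), ?_⟩
        simp [f₁]
    -- differentials of the residue field
    have hdim := hiff.mp hsep
    obtain ⟨κ', a, -, hsp, hli⟩ := exists_linearIndependent' p.ResidueField
      (fun x : p.ResidueField => KaehlerDifferential.D k p.ResidueField x)
    rw [KaehlerDifferential.span_range_derivation] at hsp
    let b := Module.Basis.mk hli hsp.ge
    haveI : Finite κ' := Module.Finite.finite_basis b
    have hcard : Nat.card κ' = t := by rw [← Module.finrank_eq_nat_card_basis b, hdim]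
    let e := Finite.equivFinOfCardEq hcard
    let f₂ : Fin t → Localization.AtPrime p := fun j =>
      Function.surjInv (IsLocalRing.residue_surjective (R := Localization.AtPrime p)) (a (e.symm j))
    have hf₂ : ∀ j, IsLocalRing.residue (Localization.AtPrime p) (f₂ j) = a (e.symm j) := fun j =>
      Function.surjInv_eq _ _
    refine ⟨Fin.append f₁ f₂, ?_, ?_⟩
    · rw [Groth.Agent.H14.SepField.image_lt]
      simp only [Fin.append_left]
      rw [show (fun j => f₁ j) = f₁ from rfl, hf₁]
      exact hs2
    · rw [Groth.Agent.H14.SepField.image_ge r t (fun i => KaehlerDifferential.D k p.ResidueField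
        (IsLocalRing.residue (Localization.AtPrime p) (Fin.append f₁ f₂ i)))]
      simp only [Fin.append_right, hf₂]
      rw [← hsp]
      congr 1
      exact e.symm.surjective.range_comp (fun x => KaehlerDifferential.D k p.ResidueField (a x))
  · rintro ⟨g, h1, h2⟩
    rw [Groth.Agent.H14.SepField.image_lt] at h1
    rw [Groth.Agent.H14.SepField.image_ge r t (fun i => KaehlerDifferential.D k p.ResidueField
        (IsLocalRing.residue (Localization.AtPrime p) (g i)))] at h2
    constructor
    · apply IsRegularLocalRing.of_spanFinrank_maximalIdeal_le
      rw [hr, ← h1]
      have h3 := Submodule.spanFinrank_span_le_encard (R := Localization.AtPrime p)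
        (Set.range fun j : Fin r => g (Fin.castAdd t j))
      have h4 := encard_range_le r (fun j : Fin r => g (Fin.castAdd t j))
      have h5 : ((Submodule.span (Localization.AtPrime p)
          (Set.range fun j : Fin r => g (Fin.castAdd t j))).spanFinrank : ℕ∞) ≤ r := h3.trans h4
      exact_mod_cast h5
    · rw [hiff]
      apply le_antisymm _ hle
      have := finrank_range_le_card (R := p.ResidueField)
        (fun j : Fin t => KaehlerDifferential.D k p.ResidueField
          (IsLocalRing.residue (Localization.AtPrime p) (g (Fin.natAdd r j))))
      rw [Set.finrank, h2, finrank_top] at this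
      simpa using this

end Groth.Agent.S5027
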