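import Groth.Statements.S5029
import Groth.Agent.H22.SymConstr
import Groth.Agent.H82.LocHomGlue

set_option autoImplicit false
universe u
open CategoryTheory CategoryTheory.Limits AlgebraicGeometry TopologicalSpace
open Unram17

namespace Groth.Agent.S5029

/-- Let S be a scheme and E a quasi-coherent O_S-module that is finite locally free. If A is a
quasi-coherent O_S-algebra which is the symmetric algebra of E (through j : E ⟶ A), then the
structure morphism of the relative spectrum of A, i.e. of the vector bundle V(E), is smooth. -/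
theorem result {S : Scheme.{u}} (E : S.Modules) (hE : Coh.IsQCoh E)
    (hlf : FlatMod.IsFinLocFree E) (A : RelSpec.QCAlg S) (j : E ⟶ A.toModule) (hA : RelSpec.IsSymAlg E A j) :
    Smooth A.π := by
  classical
  haveI : E.IsQuasicoherent := hE
  -- the key local statement
  have key : ∀ s : S, ∃ (V : S.Opens) (hV : IsAffineOpen V), s ∈ V ∧
      (A.str.app (Opposite.op V)).hom.Smooth := by
    intro s
    obtain ⟨U, n, hsU, ⟨e⟩⟩ := hlf s
    obtain ⟨sec, hsec⟩ := Groth.Agent.H82.LFG.exists_isBasisOn E e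
    obtain ⟨_, ⟨V, hV, rfl⟩, hsV, hVU⟩ :=
      S.isBasis_affineOpens.exists_subset_of_mem_open hsU U.2
    refine ⟨V, hV, hsV, ?_⟩
    have hb := hsec V hVU
    let φ : (Fin n → Γ(S, V)) →ₗ[Γ(S, V)] Γ(E, V) :=
      { toFun := fun c => ∑ l, c l • E.presheaf.map (homOfLE hVU).op (sec l)
        map_add' := fun c d => by
          simp only [Pi.add_apply, add_smul, Finset.sum_add_distrib]
        map_smul' := fun r c => by
          simp only [Pi.smul_apply, smul_eq_mul, mul_smul, RingHom.id_apply, Finset.smul_sum] }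
    let eqv : (Fin n → Γ(S, V)) ≃ₗ[Γ(S, V)] Γ(E, V) := LinearEquiv.ofBijective φ hb
    let b : Module.Basis (Fin n) Γ(S, V) Γ(E, V) := Module.Basis.ofEquivFun eqv.symm
    let e1 : SymmetricAlgebra Γ(S, V) Γ(E, V) ≃ₐ[Γ(S, V)] MvPolynomial (Fin n) Γ(S, V) :=
      SymmetricAlgebra.equivMvPolynomial b
    have hθ := Groth.Agent.H22.SymConstr.theta_bijective E A j hA V hV
    letI : Algebra Γ(S, V) (A.presheaf.obj (Opposite.op V)) := (A.str.app (Opposite.op V)).hom.toAlgebra
    let e2 : SymmetricAlgebra Γ(S, V) Γ(E, V) ≃ₐ[Γ(S, V)] A.presheaf.obj (Opposite.op V) :=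
      { RingEquiv.ofBijective (Groth.Agent.H22.SymConstr.theta A j V) hθ with
        commutes' := fun r => Groth.Agent.H22.SymConstr.theta_algebraMap A j V r }
    haveI : Algebra.Smooth Γ(S, V) (MvPolynomial (Fin n) Γ(S, V)) := {}
    haveI : Algebra.Smooth Γ(S, V) (SymmetricAlgebra Γ(S, V) Γ(E, V)) :=
      Algebra.Smooth.of_equiv e1.symm
    exact Algebra.Smooth.of_equiv e2
  choose V hV hsV hsm using key
  -- an open cover of the relative spectrum
  let 𝒰 : A.spec.OpenCover :=
    { I₀ := S
      X := fun s => Spec (A.presheaf.obj (Opposite.op (V s)))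
      f := fun s => A.ι (V s) (hV s)
      mem₀ := by
        rw [Scheme.presieve₀_mem_precoverage_iff]
        refine ⟨fun x => ?_, fun s => inferInstanceAs (IsOpenImmersion (A.ι (V s) (hV s)))⟩
        refine ⟨A.π.base x, ?_⟩
        have hx : x ∈ A.π ⁻¹ᵁ (V (A.π.base x)) := hsV (A.π.base x)
        rw [A.π_preimage (V (A.π.base x)) (hV (A.π.base x))] at hx
        exact hx }
  apply IsZariskiLocalAtSource.of_openCover (P := @Smooth) 𝒰
  intro s
  show Smooth (A.ι (V s) (hV s) ≫ A.π)
  rw [A.ι_π (V s) (hV s)]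
  haveI : Smooth (Spec.map (A.str.app (Opposite.op (V s)))) :=
    (HasRingHomProperty.Spec_iff (P := @Smooth)).2 (hsm s)
  infer_instance

end Groth.Agent.S5029
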