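import Groth.Statements.S5032
import Mathlib
import Groth.Agent.H68.FGSubZ
import Groth.Agent.S0591
import Groth.Agent.S9188

set_option autoImplicit false
universe u
open CategoryTheory CategoryTheory.Limits AlgebraicGeometry TopologicalSpace
open Unram17

namespace Groth.Agent.S5032

open H68.FGSubZ


/-- Let A be a commutative ring and f : X ⟶ Spec A an unramified morphism that is quasi-compact and
quasi-separated (hence of finite presentation). Then there exist a finitely generated ℤ-subalgebra
A₀ of A, a scheme X₀ with an unramified morphism of finite type f₀ : X₀ ⟶ Spec A₀, and a morphism X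
⟶ X₀ making X the base change of X₀ along Spec A ⟶ Spec A₀. This is the case of unramified morphisms
(the converse is stability under base change). -/
theorem result (A : Type u) [CommRing A] {X : Scheme.{u}}
    (f : X ⟶ Spec (CommRingCat.of A)) [FormallyUnramified f] [LocallyOfFinitePresentation f] [QuasiCompact f] [QuasiSeparated f] :
    ∃ A₀ : Subalgebra ℤ A, A₀.FG ∧
      ∃ (X₀ : Scheme.{u}) (f₀ : X₀ ⟶ Spec (CommRingCat.of ↥A₀)) (g : X ⟶ X₀),
        FormallyUnramified f₀ ∧ LocallyOfFinitePresentation f₀ ∧ QuasiCompact f₀ ∧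
          IsPullback g f f₀ (Spec.map (CommRingCat.ofHom (algebraMap (↥A₀) A))) := by
  obtain ⟨E, Xi, fi, g, h1, h2, h3, hX⟩ :=
    @S0591.result _ _ _ (fgSpecDiagram A) (fgSpecCone A) (fgSpecConeIsLimit A) _ _ _ X f
      (inferInstanceAs (LocallyOfFinitePresentation f)) ‹QuasiCompact f› ‹QuasiSeparated f›
  haveI := h1; haveI := h2; haveI := h3
  haveI : CompactSpace Xi := QuasiCompact.compactSpace_of_compactSpace fi
  haveI : QuasiSeparatedSpace Xi := quasiSeparatedSpace_of_quasiSeparated fi
  obtain ⟨j, φ, Xj, Yj, fj, gj, pY, pX, hY', hX', hP⟩ :=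
    S9188.result (fgSpecDiagram A) (fgSpecCone A) (fgSpecConeIsLimit A) E fi (𝟙 _) f (𝟙 _)
      ((fgSpecCone A).π.app E) g (IsPullback.id_vert _) hX
  obtain ⟨hiso, g', hg'⟩ :=
    post (fgSpecDiagram A) (fgSpecCone A) φ f fi g hX fj gj pY pX hY' hX'
  haveI := hiso; haveI := hP
  haveI : QuasiCompact fj := MorphismProperty.of_isPullback (P := @QuasiCompact) hX' h2
  haveI : LocallyOfFinitePresentation fj :=
    MorphismProperty.of_isPullback (P := @LocallyOfFinitePresentation) hX' h1
  have e1 : FormallyUnramified (fj ≫ gj) :=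
    (MorphismProperty.cancel_right_of_respectsIso @FormallyUnramified fj gj).mpr hP
  have e2 : LocallyOfFinitePresentation (fj ≫ gj) := inferInstance
  have e3 : QuasiCompact (fj ≫ gj) := inferInstance
  exact ⟨j.unop.1, j.unop.2, Xj, fj ≫ gj, g', e1, e2, e3, hg'⟩

end Groth.Agent.S5032
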