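import Groth.Statements.S5035
import Mathlib
import Groth.Agent.H3.HenselSplit
import Groth.Agent.H3.HenselEtale3

set_option autoImplicit false
universe u
open Hensel

namespace Groth.Agent.S5035

open IsLocalRing in
theorem forward_aux {R : Type u} [CommRing R] [HenselianLocalRing R]
    (S : Type u) [CommRing S] [Algebra R S] [Algebra.FiniteType R S] (q : Ideal S) [q.IsPrime]
    [q.LiesOver (maximalIdeal R)] [Algebra.QuasiFiniteAt R q] :
    Module.Finite R (Localization.AtPrime q) := by
  classical
  obtain ⟨e, he, heq, hfin, huniq⟩ :=
    Groth.Agent.H3.exists_idempotent_finite_of_quasiFiniteAt (R := R) q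
  have hzero : e * (1 - e) = 0 := by rw [mul_sub, mul_one, he.eq, sub_self]
  have h1e : 1 - e ∈ q :=
    ((‹q.IsPrime›).mem_or_mem (hzero ▸ q.zero_mem)).resolve_left heq
  -- elements outside `q` are units in the quotient
  have hunit : ∀ s : S, s ∉ q → IsUnit (Ideal.Quotient.mk (Ideal.span {1 - e}) s) := by
    intro s hs
    by_contra hnu
    obtain ⟨M, hM, hsM⟩ := exists_max_ideal_of_mem_nonunits hnu
    haveI := hM
    haveI : Algebra.IsIntegral R (S ⧸ Ideal.span {1 - e}) := Algebra.IsIntegral.of_finite R _
    have hMR : (M.comap (algebraMap R (S ⧸ Ideal.span {1 - e}))).IsMaximal :=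
      Ideal.isMaximal_comap_of_isIntegral_of_isMaximal M
    have hMR' : M.comap (algebraMap R (S ⧸ Ideal.span {1 - e})) = maximalIdeal R :=
      IsLocalRing.eq_maximalIdeal hMR
    set M' : Ideal S := M.comap (Ideal.Quotient.mk (Ideal.span {1 - e})) with hM'
    haveI : M'.IsPrime := Ideal.comap_isPrime _ M
    have hover : M'.LiesOver (maximalIdeal R) := by
      constructor
      rw [Ideal.under_def, hM', Ideal.comap_comap, ← hMR']
      rfl
    have heM : e ∉ M' := by
      intro heM
      have h1 : (1 - e) ∈ M' := by
        rw [hM', Ideal.mem_comap]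
        have : Ideal.Quotient.mk (Ideal.span {1 - e}) (1 - e) = 0 :=
          Ideal.Quotient.eq_zero_iff_mem.mpr (Ideal.mem_span_singleton_self _)
        rw [this]; exact M.zero_mem
      have : (1 : S) ∈ M' := by
        have := M'.add_mem h1 heM
        rwa [sub_add_cancel] at this
      exact (‹M'.IsPrime›).ne_top ((Ideal.eq_top_iff_one _).mpr this)
    have hMq : M' = q := huniq M' inferInstance hover heM
    exact hs (hMq ▸ (show s ∈ M' from hsM))
  -- the map `S ⧸ (1 - e) → S_q`
  have he_unit : IsUnit (algebraMap S (Localization.AtPrime q) e) :=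
    IsLocalization.map_units (Localization.AtPrime q) (⟨e, heq⟩ : q.primeCompl)
  have h1e0 : algebraMap S (Localization.AtPrime q) (1 - e) = 0 := by
    have := congrArg (algebraMap S (Localization.AtPrime q)) hzero
    rw [map_mul, map_zero] at this
    exact (he_unit.mul_right_eq_zero).mp this
  let φ : S ⧸ Ideal.span {1 - e} →ₐ[R] Localization.AtPrime q :=
    Ideal.Quotient.liftₐ (Ideal.span {1 - e}) (IsScalarTower.toAlgHom R S (Localization.AtPrime q))
      (by
        intro a ha
        obtain ⟨c, rfl⟩ := Ideal.mem_span_singleton'.mp ha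
        show algebraMap S (Localization.AtPrime q) (c * (1 - e)) = 0
        rw [map_mul, h1e0, mul_zero])
  have hφ : ∀ a : S, φ (Ideal.Quotient.mk _ a) = algebraMap S (Localization.AtPrime q) a :=
    fun a => rfl
  have hsurj : Function.Surjective φ := by
    intro x
    obtain ⟨a, s, rfl⟩ := IsLocalization.exists_mk'_eq q.primeCompl x
    obtain ⟨t', ht'⟩ := (hunit s.1 s.2).exists_right_inv
    obtain ⟨t, rfl⟩ := Ideal.Quotient.mk_surjective t'
    refine ⟨Ideal.Quotient.mk _ (a * t), ?_⟩
    rw [hφ, IsLocalization.eq_mk'_iff_mul_eq, ← map_mul]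
    have h1 : Ideal.Quotient.mk (Ideal.span {1 - e}) (s.1 * t) = Ideal.Quotient.mk _ 1 := by
      rw [map_mul, ht', map_one]
    have h2 : φ (Ideal.Quotient.mk _ (s.1 * t)) = φ (Ideal.Quotient.mk _ 1) := by rw [h1]
    rw [hφ, hφ, map_one] at h2
    have : a * t * s.1 = a * (s.1 * t) := by ring
    rw [this, map_mul, h2, mul_one]
  exact Module.Finite.of_surjective φ.toLinearMap hsurj

open IsLocalRing in
theorem backward_aux (R : Type u) [CommRing R] [IsLocalRing R]
    (H : ∀ (S : Type u) [CommRing S] [Algebra R S] [Algebra.FiniteType R S] (q : Ideal S)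
      [q.IsPrime], q.LiesOver (maximalIdeal R) → Algebra.QuasiFiniteAt R q →
        Module.Finite R (Localization.AtPrime q)) : HenselianLocalRing R := by
  apply Groth.Agent.H3.henselianLocalRing_of_etale_retraction
  intro S _ _ _ q hqprime hqm hres
  haveI := hqm
  haveI : Algebra.FiniteType R S := inferInstance
  have hqf : Algebra.QuasiFiniteAt R q := inferInstance
  haveI hfin : Module.Finite R (Localization.AtPrime q) := H S q hqm hqf
  haveI hloc : IsLocalHom (algebraMap R (Localization.AtPrime q)) := by
    constructor
    intro r hr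
    by_contra hnu
    have hrm : r ∈ maximalIdeal R := hnu
    have : algebraMap R S r ∈ q := by
      have h1 : r ∈ q.under R := by rw [← hqm.over]; exact hrm
      exact h1
    have h2 : algebraMap S (Localization.AtPrime q) (algebraMap R S r) ∈
        maximalIdeal (Localization.AtPrime q) := by
      rw [← IsLocalization.AtPrime.map_eq_maximalIdeal q (Localization.AtPrime q)]
      exact Ideal.mem_map_of_mem _ this
    rw [← IsScalarTower.algebraMap_apply] at h2
    exact h2 hr
  haveI : Module.Flat R S := inferInstance
  haveI : Module.Flat R (Localization.AtPrime q) := Module.Flat.trans R S (Localization.AtPrime q)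
  haveI : Module.FaithfullyFlat R (Localization.AtPrime q) :=
    Module.FaithfullyFlat.of_flat_of_isLocalHom
  have hinj : Function.Injective (algebraMap R (Localization.AtPrime q)) :=
    FaithfulSMul.algebraMap_injective R (Localization.AtPrime q)
  have hmax : (maximalIdeal R).map (algebraMap R (Localization.AtPrime q)) =
      maximalIdeal (Localization.AtPrime q) :=
    Algebra.FormallyUnramified.map_maximalIdeal
  have hsurj : Function.Surjective (algebraMap R (Localization.AtPrime q)) := by
    have hle : (⊤ : Submodule R (Localization.AtPrime q)) ≤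
        LinearMap.range (Algebra.linearMap R (Localization.AtPrime q)) := by
      apply Submodule.le_of_le_smul_of_le_jacobson_bot (I := maximalIdeal R) Module.Finite.fg_top
        (IsLocalRing.jacobson_eq_maximalIdeal ⊥ bot_ne_top).ge
      intro x _
      obtain ⟨r, hr⟩ := hres (algebraMap (Localization.AtPrime q) q.ResidueField x)
      rw [IsScalarTower.algebraMap_apply R (Localization.AtPrime q) q.ResidueField] at hr
      have hmem : x - algebraMap R (Localization.AtPrime q) r ∈
          maximalIdeal (Localization.AtPrime q) := by
        rw [← IsLocalRing.residue_eq_zero_iff, map_sub, sub_eq_zero]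
        exact hr.symm
      rw [← hmax] at hmem
      have hx : x = algebraMap R (Localization.AtPrime q) r +
          (x - algebraMap R (Localization.AtPrime q) r) := by ring
      rw [hx]
      refine Submodule.add_mem_sup ⟨r, rfl⟩ ?_
      rw [Ideal.smul_top_eq_map]
      exact hmem
    intro x
    obtain ⟨r, hr⟩ := hle (Submodule.mem_top : x ∈ ⊤)
    exact ⟨r, hr⟩
  let ε : R ≃ₐ[R] Localization.AtPrime q :=
    AlgEquiv.ofBijective (Algebra.ofId R (Localization.AtPrime q)) ⟨hinj, hsurj⟩
  exact ⟨(ε.symm : Localization.AtPrime q →ₐ[R] R).comp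
    (IsScalarTower.toAlgHom R S (Localization.AtPrime q))⟩


/-- a) iff c') (affine form): a local ring R is henselian if and only if, for every R-algebra S of
finite type and every prime q of S lying over the maximal ideal of R such that S is quasi-finite
over R at q, the local ring S_q is a finitely generated R-module. -/
theorem result (R : Type u) [CommRing R] [IsLocalRing R] :
    HenselianLocalRing R ↔
      ∀ (S : Type u) [CommRing S] [Algebra R S] [Algebra.FiniteType R S] (q : Ideal S) [q.IsPrime],
        q.LiesOver (IsLocalRing.maximalIdeal R) → Algebra.QuasiFiniteAt R q →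
          Module.Finite R (Localization.AtPrime q) := by
  constructor
  · intro hH S _ _ _ q _ hq hqf
    haveI := hH
    haveI := hq
    haveI := hqf
    exact forward_aux S q
  · intro H
    exact backward_aux R H

end Groth.Agent.S5035
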