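import Groth.Statements.S5038
import Groth.Agent.S0536
import Mathlib

set_option autoImplicit false
open CategoryTheory AlgebraicGeometry
universe u
open Hensel

namespace Groth.Agent.S5038

/-- Let A be a henselian local ring with residue field k, S = Spec A, and f : X ⟶ S a smooth morphism.
Then the map from sections of f to k-points of the closed fibre is surjective: every u₀ : Spec k ⟶ X
lying over the closed point extends to a section u of f. -/
theorem result (A : Type u) [CommRing A] [HenselianLocalRing A]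
    {X : Scheme.{u}} (f : X ⟶ Spec (CommRingCat.of A)) [Smooth f]
    (u₀ : Spec (CommRingCat.of (IsLocalRing.ResidueField A)) ⟶ X)
    (h₀ : u₀ ≫ f = Spec.map (CommRingCat.ofHom (IsLocalRing.residue A))) :
    ∃ u : Spec (CommRingCat.of A) ⟶ X, u ≫ f = 𝟙 _ ∧
      Spec.map (CommRingCat.ofHom (IsLocalRing.residue A)) ≫ u = u₀ := by
  classical
  open AlgebraicGeometry CategoryTheory in
  -- the image point and an affine neighbourhood
  let y₀ : Spec (CommRingCat.of (IsLocalRing.ResidueField A)) :=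
    IsLocalRing.closedPoint (IsLocalRing.ResidueField A)
  obtain ⟨V, hV, hxV, -⟩ :=
    exists_isAffineOpen_mem_and_subset (X := X) (x := u₀ y₀) (U := ⊤) trivial
  have hrange : Set.range u₀ ⊆ Set.range hV.fromSpec := by
    rw [hV.range_fromSpec]
    rintro _ ⟨y, rfl⟩
    have : y = y₀ := Subsingleton.elim _ _
    rw [this]
    exact hxV
  let u₀' : Spec (CommRingCat.of (IsLocalRing.ResidueField A)) ⟶ Spec Γ(X, V) :=
    IsOpenImmersion.lift hV.fromSpec u₀ hrange
  have hu₀' : u₀' ≫ hV.fromSpec = u₀ := IsOpenImmersion.lift_fac _ _ _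
  let g : Spec Γ(X, V) ⟶ Spec (CommRingCat.of A) := hV.fromSpec ≫ f
  have hg : Smooth g := inferInstance
  let φ : CommRingCat.of A ⟶ Γ(X, V) := Spec.preimage g
  have hφ : Spec.map φ = g := Spec.map_preimage g
  have hφs : φ.hom.Smooth := by
    rw [← HasRingHomProperty.Spec_iff (P := @Smooth), hφ]
    exact hg
  let ψ₀ : Γ(X, V) ⟶ CommRingCat.of (IsLocalRing.ResidueField A) := Spec.preimage u₀'
  have hψ₀ : Spec.map ψ₀ = u₀' := Spec.map_preimage u₀'
  have hcomp : φ ≫ ψ₀ = CommRingCat.ofHom (IsLocalRing.residue A) := by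
    apply Spec.map_injective
    rw [Spec.map_comp, hψ₀, hφ, ← h₀, ← hu₀', Category.assoc]
  -- algebra structures
  let _ : Algebra A Γ(X, V) := φ.hom.toAlgebra
  have : Algebra.Smooth A Γ(X, V) := hφs
  let σ : Γ(X, V) →ₐ[A] A ⧸ IsLocalRing.maximalIdeal A :=
    { ψ₀.hom with
      commutes' := fun a => by
        show (φ ≫ ψ₀).hom a = _
        rw [hcomp]
        rfl }
  obtain ⟨τ, hτ⟩ := Groth.Agent.S0536.result A Γ(X, V) A (IsLocalRing.maximalIdeal A) σ
  let t : Γ(X, V) ⟶ CommRingCat.of A := CommRingCat.ofHom τ.toRingHom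
  have ht1 : φ ≫ t = 𝟙 _ := by
    ext a
    show τ (algebraMap A Γ(X, V) a) = a
    rw [τ.commutes]
    rfl
  have ht2 : t ≫ CommRingCat.ofHom (IsLocalRing.residue A) = ψ₀ := by
    ext b
    have := congrArg (fun h => h b) hτ
    exact this
  refine ⟨Spec.map t ≫ hV.fromSpec, ?_, ?_⟩
  · rw [Category.assoc]
    show Spec.map t ≫ g = _
    rw [← hφ, ← Spec.map_comp, ht1, Spec.map_id]
  · rw [← Category.assoc, ← Spec.map_comp, ht2, hψ₀, hu₀']

end Groth.Agent.S5038
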