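import Groth.Statements.S5042
import Mathlib
import Groth.Agent.H20.LocalGRingJ2
import Groth.Agent.H20.NormalFF
import Groth.Agent.H34.HensGRing
import Groth.Agent.S0511
import Groth.Agent.S2045
import Groth.Agent.S9230
-- import your own Groth.Agent.* helpers here

set_option autoImplicit false
universe u
open Hensel

set_option linter.style.haveILetI false
set_option linter.unusedSectionVars false
set_option linter.unusedVariables false

namespace Groth.Agent.S5042


/-- The henselization S of an excellent local ring R is excellent. -/
theorem result (R S : Type u) [CommRing R] [IsLocalRing R]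
    [CommRing S] [IsLocalRing S] [Algebra R S] [IsLocalHom (algebraMap R S)] [Hensel.IsHenselization R S]
    (h : EGA4.IsExcellent R) : EGA4.IsExcellent S := by
  obtain ⟨hN, hUC, hG, hJ2⟩ := h
  haveI := hN
  have hNS : IsNoetherianRing S := (Groth.Agent.S0511.result R S).mp hN
  have hGS : CAlg.IsGRing S := Groth.Agent.S2045.result hG
  have hff : EGA4.HasGeomNormalFormalFibres R := fun p _ =>
    (Groth.Agent.H20.NormalFF.isNormalHom_of_isRegularHom
      (Groth.Agent.H34.HensGRing.isRegularHom_cpl_of_isGRing R hG)).2 p
  exact ⟨hNS, Groth.Agent.S9230.result R S hff, hGS,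
    Groth.Agent.H20.LocalGRingJ2.isJ2_of_isLocalRing_of_isGRing S hGS⟩

end Groth.Agent.S5042
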