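import Groth.Statements.S5050
import Mathlib

set_option autoImplicit false
universe u v
open CInt

namespace Groth.Agent.S5050

/-- Let A be a Noetherian ring, N a finitely generated A-module, E and F submodules of N and Q an ideal
of A. For every natural number k there is h > 0 with E ⊓ (F ⊔ Q^h N) ≤ (E ⊓ F) ⊔ Q^k N. -/
theorem result {A : Type u} [CommRing A] [IsNoetherianRing A] {N : Type v} [AddCommGroup N]
    [Module A N] [Module.Finite A N] (E F : Submodule A N) (Q : Ideal A) (k : ℕ) :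
    ∃ h : ℕ, 0 < h ∧ E ⊓ (F ⊔ Q ^ h • (⊤ : Submodule A N)) ≤ (E ⊓ F) ⊔ Q ^ k • (⊤ : Submodule A N) := by
  obtain ⟨c, hc⟩ := Ideal.exists_pow_inf_eq_pow_smul Q (E.map F.mkQ)
  refine ⟨k + c + 1, Nat.succ_pos _, ?_⟩
  rintro x ⟨hxE, hxF⟩
  obtain ⟨f, hf, y, hy, rfl⟩ := Submodule.mem_sup.mp hxF
  set h := k + c + 1 with hh
  have hπ : F.mkQ (f + y) ∈ Q ^ h • (⊤ : Submodule A (N ⧸ F)) ⊓ E.map F.mkQ := by
    refine ⟨?_, Submodule.mem_map_of_mem hxE⟩
    have h0 : F.mkQ f = 0 := (Submodule.Quotient.mk_eq_zero F).mpr hf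
    rw [map_add, h0, zero_add]
    have : F.mkQ y ∈ (Q ^ h • (⊤ : Submodule A N)).map F.mkQ := Submodule.mem_map_of_mem hy
    rw [Submodule.map_smul''] at this
    exact Submodule.smul_mono le_rfl le_top this
  rw [hc h (by omega)] at hπ
  have hπ2 : F.mkQ (f + y) ∈ (Q ^ (h - c) • E).map F.mkQ := by
    rw [Submodule.map_smul'']
    exact Submodule.smul_mono le_rfl inf_le_right hπ
  obtain ⟨e', he', hee⟩ := hπ2
  have he'E : e' ∈ E := Submodule.smul_le_right he'
  have hdiff : (f + y) - e' ∈ F := by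
    rw [← Submodule.Quotient.mk_eq_zero F, Submodule.Quotient.mk_sub]
    exact sub_eq_zero.mpr hee.symm
  have hxe : f + y = ((f + y) - e') + e' := by abel
  rw [hxe]
  refine Submodule.add_mem _ (Submodule.mem_sup_left ⟨Submodule.sub_mem _ hxE he'E, hdiff⟩)
    (Submodule.mem_sup_right ?_)
  have hle : Q ^ (h - c) ≤ Q ^ k := Ideal.pow_le_pow_right (by omega)
  exact Submodule.smul_mono hle le_top he'

end Groth.Agent.S5050
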