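import Groth.Statements.S5051
import Groth.Agent.H7.GeomCountLSC

set_option autoImplicit false
open CategoryTheory AlgebraicGeometry
universe u
open Unram

namespace Groth.Agent.S5051

/-- Let f : X ⟶ Y be étale, separated and of finite type. Then y ↦ (number of points of the geometric
fibre of f at y) is lower semicontinuous on Y. -/
theorem result {X Y : Scheme.{u}} (f : X ⟶ Y) [Etale f] [IsSeparated f]
    [LocallyOfFiniteType f] [QuasiCompact f] :
    LowerSemicontinuous (fun y : Y => ENat.card ↥(MoreMor.geomFiber f y)) := by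
  have : LocallyQuasiFinite f := Groth.Agent.H7.locallyQuasiFinite_of_etale f
  have hfin : ∀ z : Y, (f ⁻¹' {z}).Finite := fun z => f.finite_preimage_singleton z
  have hopen : ∀ (y : Y) (x : X), f x = y → EGA43.IsUnivOpenAt f x := fun y x _ =>
    Groth.Agent.H7.isUnivOpenAt_of_universallyOpen f x
  intro y a ha
  have ha' : a < MoreMor.nGeomConnComp f y := by
    rw [Groth.Agent.H7.nGeomConnComp_eq_card]
    exact ha
  obtain ⟨O, hyO, hO⟩ := Groth.Agent.H7.nGeomConnComp_le_nhds f hfin y (hopen y)
  filter_upwards [O.isOpen.mem_nhds hyO] with z hz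
  show a < ENat.card ↥(MoreMor.geomFiber f z)
  rw [← Groth.Agent.H7.nGeomConnComp_eq_card f z]
  exact lt_of_lt_of_le ha' (hO z hz)

end Groth.Agent.S5051
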