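import Groth.Statements.S5053
import Groth.Agent.H7.FiniteEtaleCount

set_option autoImplicit false
open CategoryTheory AlgebraicGeometry
universe u
open Unram

namespace Groth.Agent.S5053

/-- Let Y be a connected scheme and f : X ⟶ Y étale, separated and of finite type. Then f is finite if
and only if all geometric fibres of f have the same number of points. -/
theorem result {X Y : Scheme.{u}} [ConnectedSpace ↥Y] (f : X ⟶ Y)
    [Etale f] [IsSeparated f] [LocallyOfFiniteType f] [QuasiCompact f] :
    IsFinite f ↔ ∃ n : ℕ∞, ∀ y : Y, ENat.card ↥(MoreMor.geomFiber f y) = n := by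
  have hLQF : LocallyQuasiFinite f := Groth.Agent.H7.locallyQuasiFinite_of_etale f
  constructor
  · intro hfin
    have hlc := Groth.Agent.H7.isLocallyConstant_fibreIntegral_one_of_finite_etale f
    refine ⟨ENat.card ↥(MoreMor.geomFiber f (Classical.arbitrary Y)), fun y => ?_⟩
    rw [Groth.Agent.H7.card_geomFiber_eq_fibreIntegral_one,
      Groth.Agent.H7.card_geomFiber_eq_fibreIntegral_one,
      hlc.apply_eq_of_preconnectedSpace y (Classical.arbitrary Y)]
  · rintro ⟨n, hn⟩
    exact IsZariskiLocalAtTarget.of_forall_exists_morphismRestrict (P := @IsFinite)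
      (fun y => Groth.Agent.H7.exists_isFinite_restrict_of_card_const f y
        ⟨⊤, trivial, fun y' _ => (hn y').trans (hn y).symm⟩)

end Groth.Agent.S5053
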