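import Groth.Statements.S5056
import Groth.Agent.H23.HensFib2
import Groth.Agent.H25.GeomRed

set_option autoImplicit false
universe u
open Hensel

namespace Groth.Agent.S5056


/-- Let A be a Noetherian henselian local domain whose formal fibres are geometrically normal, Â its
completion (an integral domain), K and L fraction fields of A and Â with L a K-algebra compatibly.
Then L is geometrically reduced over K (a separable extension) and every element of L algebraic over
K lies in K. -/
theorem result (A : Type u) [CommRing A] [IsNoetherianRing A]
    [HenselianLocalRing A] [IsDomain A] (h : EGA4.HasGeomNormalFormalFibres A) [IsDomain (EGA4.Cpl A)]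
    (K L : Type u) [Field K] [Field L] [Algebra A K] [IsFractionRing A K]
    [Algebra (EGA4.Cpl A) L] [IsFractionRing (EGA4.Cpl A) L] [Algebra K L] [Algebra A L]
    [IsScalarTower A K L] [IsScalarTower A (EGA4.Cpl A) L] :
    Algebra.IsGeometricallyReduced K L ∧ ∀ x : L, IsAlgebraic K x → x ∈ Set.range (algebraMap K L) := by
  refine ⟨?_, ?_⟩
  · have h2 := (Groth.Agent.H25.GeomRed.tfae_geometricallyReduced (k := K) (S := L)).out 0 1
    apply h2.mp
    intro k' _ _ _ _
    haveI := Groth.Agent.H23.HensFib2.isDomain_fraction_tensor A h K L k'
    haveI : IsDomain (TensorProduct K k' L) :=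
      (Algebra.TensorProduct.comm K k' L).toRingEquiv.toMulEquiv.isDomain _
    infer_instance
  · intro x hx
    have hint : IsIntegral K x := hx.isIntegral
    haveI : FiniteDimensional K (IntermediateField.adjoin K {x}) :=
      IntermediateField.adjoin.finiteDimensional hint
    haveI hd := Groth.Agent.H23.HensFib2.isDomain_fraction_tensor A h K L
      (IntermediateField.adjoin K {x})
    let m : TensorProduct K L (IntermediateField.adjoin K {x}) →ₐ[L] L :=
      Algebra.TensorProduct.productLeftAlgHom (AlgHom.id L L)
        (IntermediateField.adjoin K {x}).val
    haveI : Algebra.IsIntegral L (TensorProduct K L (IntermediateField.adjoin K {x})) :=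
      Algebra.IsIntegral.of_finite L _
    have hF := isField_of_isIntegral_of_isField' (R := L)
      (S := TensorProduct K L (IntermediateField.adjoin K {x})) (Field.toIsField L)
    have hminj : Function.Injective m := by
      rw [injective_iff_map_eq_zero]
      intro z hz
      by_contra hz0
      obtain ⟨w, hw0⟩ := hF.mul_inv_cancel hz0
      have hw : z * w = 1 := hw0
      have h1 : m z * m w = 1 := by
        rw [← map_mul, hw]
        exact m.toRingHom.map_one
      rw [hz, zero_mul] at h1
      exact zero_ne_one h1
    have hle := LinearMap.finrank_le_finrank_of_injective (f := m.toLinearMap) hminj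
    rw [Module.finrank_baseChange, Module.finrank_self] at hle
    have hpos : 0 < Module.finrank K (IntermediateField.adjoin K {x}) := Module.finrank_pos
    have h1 : Module.finrank K (IntermediateField.adjoin K {x}) = 1 := by omega
    have hbot : IntermediateField.adjoin K {x} = ⊥ := IntermediateField.finrank_eq_one_iff.mp h1
    have hxbot : x ∈ (⊥ : IntermediateField K L) := by
      rw [← hbot]
      exact IntermediateField.mem_adjoin_simple_self K x
    exact IntermediateField.mem_bot.mp hxbot

end Groth.Agent.S5056
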