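import Groth.Statements.S5057
import Mathlib

set_option autoImplicit false
open CategoryTheory CategoryTheory.Limits AlgebraicGeometry
universe u
open Hensel

namespace Groth.Agent.S5057

/-- Let i : S₀ ⟶ S be a closed immersion such that for every finite morphism g : S' ⟶ S every
open-closed subset of S' ×_S S₀ is the inverse image under the first projection of exactly one
open-closed subset of S'. Then for every finite morphism g : S' ⟶ S, every open subset of S'
containing the image of S' ×_S S₀ is all of S'. -/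
theorem result {S S₀ : Scheme.{u}} (i : S₀ ⟶ S) [IsClosedImmersion i]
    (ha : ∀ (S' : Scheme.{u}) (g : S' ⟶ S), IsFinite g →
      ∀ V : Set ↥(pullback g i), IsClopen V → ∃! U : Set ↥S', IsClopen U ∧ (pullback.fst g i).base ⁻¹' U = V)
    {S' : Scheme.{u}} (g : S' ⟶ S) [IsFinite g] (U : Set ↥S') (hU : IsOpen U)
    (hU₀ : Set.range (pullback.fst g i).base ⊆ U) : U = Set.univ := by
  classical
  have hZ : IsClosed (Uᶜ) := hU.isClosed_compl
  let I := Scheme.IdealSheafData.vanishingIdeal (X := S') ⟨Uᶜ, hZ⟩
  let ι : I.subscheme ⟶ S' := I.subschemeι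
  have hrange : Set.range ι = Uᶜ := by
    have h1 : Set.range ι = I.support := Scheme.IdealSheafData.range_subschemeι I
    rw [h1]
    exact Scheme.IdealSheafData.coe_support_vanishingIdeal _
  have hfin : IsFinite (ι ≫ g) := inferInstance
  -- the pullback of `ι ≫ g` along `i` is empty
  have hempty : IsEmpty ↥(pullback (ι ≫ g) i) := by
    refine ⟨fun w => ?_⟩
    let z := (pullback.fst (ι ≫ g) i) w
    let s0 := (pullback.snd (ι ≫ g) i) w
    have hcond : g (ι z) = i s0 := by
      have h := congrArg (fun f => f w) (congrArg (fun f : _ ⟶ S => (f : _ → _)) (pullback.condition (f := ι ≫ g) (g := i)))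
      simpa [Scheme.Hom.comp_apply] using h
    obtain ⟨p, hp1, -⟩ := Scheme.Pullback.exists_preimage_pullback (f := g) (g := i) (ι z) s0 hcond
    have hzU : ι z ∈ U := hU₀ ⟨p, hp1⟩
    have hzZ : ι z ∈ Uᶜ := by
      rw [← hrange]; exact ⟨z, rfl⟩
    exact hzZ hzU
  obtain ⟨U', -, huniq⟩ := ha I.subscheme (ι ≫ g) hfin ∅ isClopen_empty
  have h1 : (∅ : Set ↥I.subscheme) = U' :=
    huniq ∅ ⟨isClopen_empty, by ext w; exact (hempty.false w).elim⟩
  have h2 : (Set.univ : Set ↥I.subscheme) = U' :=
    huniq Set.univ ⟨isClopen_univ, by ext w; exact (hempty.false w).elim⟩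
  have h3 : (Set.univ : Set ↥I.subscheme) = ∅ := h2.trans h1.symm
  have h4 : IsEmpty ↥I.subscheme := by
    refine ⟨fun z => ?_⟩
    have : z ∈ (Set.univ : Set ↥I.subscheme) := Set.mem_univ z
    rw [h3] at this
    exact this
  have h5 : Uᶜ = (∅ : Set ↥S') := by
    rw [← hrange]
    exact Set.range_eq_empty _
  exact Set.compl_empty_iff.mp h5

end Groth.Agent.S5057
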