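import Groth.Statements.S5058
import Mathlib
import Groth.Agent.H68.FGSubZ
import Groth.Agent.S0591
import Groth.Agent.S0506
import Groth.Agent.H47.HensNoeth2

set_option autoImplicit false
open CategoryTheory CategoryTheory.Limits AlgebraicGeometry
universe u
open Hensel

namespace Groth.Agent.S5058

open Groth.Agent.H68.FGSubZ


/-- Let A be a henselian local ring and f : X ⟶ Spec A a morphism of finite presentation. Then there
exist a Noetherian henselian local ring A₀, a local ring homomorphism φ : A₀ → A, a morphism of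
finite type f₀ : X₀ ⟶ Spec A₀ and a cartesian square exhibiting X as the base change of X₀ along
Spec φ. -/
theorem result (A : Type u) [CommRing A] [HenselianLocalRing A]
    {X : Scheme.{u}} (f : X ⟶ Spec (CommRingCat.of A)) [LocallyOfFinitePresentation f] [QuasiCompact f] [QuasiSeparated f] :
    ∃ (A₀ : Type u) (_ : CommRing A₀) (_ : HenselianLocalRing A₀) (_ : IsNoetherianRing A₀) (φ : A₀ →+* A) (_ : IsLocalHom φ)
      (X₀ : Scheme.{u}) (f₀ : X₀ ⟶ Spec (CommRingCat.of A₀)) (g : X ⟶ X₀),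
      LocallyOfFiniteType f₀ ∧ QuasiCompact f₀ ∧ IsPullback g f f₀ (Spec.map (CommRingCat.ofHom φ)) := by
  obtain ⟨E, Xi, fi, g, h1, h2, h3, hX⟩ :=
    @S0591.result _ _ _ (fgSpecDiagram A) (fgSpecCone A) (fgSpecConeIsLimit A) _ _ _ X f
      (inferInstanceAs (LocallyOfFinitePresentation f)) ‹QuasiCompact f› ‹QuasiSeparated f›
  haveI := h1; haveI := h2; haveI := h3
  let E₀ : Subalgebra ℤ A := E.unop.1
  have hfg : E₀.FG := E.unop.2
  haveI : Algebra.FiniteType ℤ E₀ := ⟨(Subalgebra.fg_top E₀).mpr hfg⟩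
  haveI : IsNoetherianRing E₀ := Algebra.FiniteType.isNoetherianRing ℤ E₀
  let p : Ideal E₀ := (IsLocalRing.maximalIdeal A).comap (algebraMap E₀ A)
  haveI hp : p.IsPrime := Ideal.comap_isPrime _ _
  let R := Localization.AtPrime p
  haveI : IsNoetherianRing R := IsLocalization.isNoetherianRing p.primeCompl R inferInstance
  have hg : ∀ y : p.primeCompl, IsUnit (algebraMap E₀ A (y : E₀)) := by
    intro y
    by_contra hy
    exact y.2 ((IsLocalRing.mem_maximalIdeal _).mpr hy)
  let ψ : R →+* A := IsLocalization.lift (M := p.primeCompl) (g := algebraMap E₀ A) hg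
  have hψcomp : ψ.comp (algebraMap E₀ R) = algebraMap E₀ A := IsLocalization.lift_comp hg
  haveI hψloc : IsLocalHom ψ := by
    refine ⟨fun x hx => ?_⟩
    obtain ⟨a, s, rfl⟩ := IsLocalization.exists_mk'_eq p.primeCompl x
    have h1 : ψ (IsLocalization.mk' R a s) * algebraMap E₀ A (s : E₀) = algebraMap E₀ A a := by
      have e1 : ψ (algebraMap E₀ R (s : E₀)) = algebraMap E₀ A (s : E₀) :=
        IsLocalization.lift_eq hg _
      have e2 : ψ (algebraMap E₀ R a) = algebraMap E₀ A a := IsLocalization.lift_eq hg _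
      rw [← e1, ← map_mul, IsLocalization.mk'_spec, e2]
    have h2 : IsUnit (algebraMap E₀ A a) := h1 ▸ hx.mul (hg s)
    have h3 : a ∈ p.primeCompl := by
      intro ha
      exact (IsLocalRing.mem_maximalIdeal _).mp ha h2
    exact (IsLocalization.AtPrime.isUnit_mk'_iff R p a s).mpr h3
  obtain ⟨A₀, i1, i2, i3, i4, hH⟩ := S0506.result R
  haveI hhens : HenselianLocalRing A₀ := hH.henselian
  have hI := H47.HensNoeth.isIndEtaleLocal_of_isHenselization R A₀
  haveI hnoeth : IsNoetherianRing A₀ := hI.isNoetherianRing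
  obtain ⟨φ, hφ, -⟩ := hH.universal A ψ hψloc
  have hφloc : IsLocalHom φ := by
    refine ⟨fun x hx => ?_⟩
    by_contra hxu
    have hxm : x ∈ IsLocalRing.maximalIdeal A₀ := (IsLocalRing.mem_maximalIdeal x).mpr hxu
    rw [← hI.map_max] at hxm
    have h1 : φ x ∈ Ideal.map φ (Ideal.map (algebraMap R A₀) (IsLocalRing.maximalIdeal R)) :=
      Ideal.mem_map_of_mem φ hxm
    rw [Ideal.map_map, hφ] at h1
    have h2 : Ideal.map ψ (IsLocalRing.maximalIdeal R) ≤ IsLocalRing.maximalIdeal A := by
      rw [Ideal.map_le_iff_le_comap]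
      intro r hr
      rw [Ideal.mem_comap, IsLocalRing.mem_maximalIdeal]
      exact fun hu => ((IsLocalRing.mem_maximalIdeal r).mp hr) (hψloc.map_nonunit r hu)
    exact (IsLocalRing.mem_maximalIdeal _).mp (h2 h1) hx
  -- the scheme part
  let sE : Spec (CommRingCat.of A₀) ⟶ Spec (CommRingCat.of E₀) :=
    Spec.map (CommRingCat.ofHom ((algebraMap R A₀).comp (algebraMap E₀ R)))
  have hring : φ.comp ((algebraMap R A₀).comp (algebraMap E₀ R)) = algebraMap E₀ A := by
    rw [← RingHom.comp_assoc, hφ]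
    exact hψcomp
  have hcomp : Spec.map (CommRingCat.ofHom φ) ≫ sE =
      Spec.map (CommRingCat.ofHom (algebraMap E₀ A)) := by
    show Spec.map (CommRingCat.ofHom φ) ≫
      Spec.map (CommRingCat.ofHom ((algebraMap R A₀).comp (algebraMap E₀ R))) = _
    rw [← Spec.map_comp, ← CommRingCat.ofHom_comp, hring]
  have hX' : IsPullback g f fi (Spec.map (CommRingCat.ofHom (algebraMap E₀ A))) := hX
  have hw : g ≫ fi = (f ≫ Spec.map (CommRingCat.ofHom φ)) ≫ sE := by
    rw [Category.assoc, hcomp]
    exact hX'.w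
  let fi' : Xi ⟶ Spec (CommRingCat.of E₀) := fi
  haveI : LocallyOfFinitePresentation fi' := h1
  haveI : QuasiCompact fi' := h2
  let g' : X ⟶ pullback fi' sE := pullback.lift g (f ≫ Spec.map (CommRingCat.ofHom φ)) hw
  refine ⟨A₀, i1, hhens, hnoeth, φ, hφloc, pullback fi' sE, pullback.snd fi' sE, g',
    inferInstance, inferInstance, ?_⟩
  refine IsPullback.of_right (h₁₂ := pullback.fst fi' sE) (v₁₃ := fi') (h₂₂ := sE) ?_
    (pullback.lift_snd _ _ _) (IsPullback.of_hasPullback fi' sE)
  rw [pullback.lift_fst, hcomp]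
  exact hX'

end Groth.Agent.S5058
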