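import Groth.Statements.S5062
import Mathlib
import Groth.Agent.H68.StrictHens
import Groth.Agent.H68.EtLocRing

set_option autoImplicit false
open CategoryTheory AlgebraicGeometry
universe u
open Hensel

namespace Groth.Agent.S5062

open Polynomial IsLocalRing

theorem key (A : Type u) [CommRing A] [IsLocalRing A]
    (H : ∀ (X : Scheme.{u}) (f : X ⟶ Spec (CommRingCat.of A)), Etale f →
        ∀ x : X, f.base x = IsLocalRing.closedPoint A →
          ∃ u : Spec (CommRingCat.of A) ⟶ X, u ≫ f = 𝟙 _ ∧ u.base (IsLocalRing.closedPoint A) = x) :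
    ∃ _ : HenselianLocalRing A, IsSepClosed (IsLocalRing.ResidueField A) := by
  let Ω := SeparableClosure (ResidueField A)
  let ev : A →+* Ω := (algebraMap (ResidueField A) Ω).comp (residue A)
  have hev0 : ∀ r : A, ev r = 0 ↔ r ∈ maximalIdeal A := by
    intro r
    show algebraMap (ResidueField A) Ω (residue A r) = 0 ↔ _
    rw [map_eq_zero, residue_eq_zero_iff]
  refine H68.EtLocRing.strictlyHenselian_of_key (R := A) (Ω := Ω) ev ?_ ?_
  · intro r hr
    by_contra hu
    exact hr ((hev0 r).mpr ((mem_maximalIdeal r).mpr hu))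
  · intro f hf x₀ h0 hd
    letI : Algebra A Ω := ev.toAlgebra
    let P : StandardEtalePair A := ⟨f, hf, derivative f, ⟨1, 0, 1, by simp⟩⟩
    have hmap : P.HasMap x₀ := by
      refine ⟨?_, ?_⟩
      · show aeval x₀ f = 0
        rw [aeval_def, eval₂_eq_eval_map]; exact h0
      · show IsUnit (aeval x₀ (derivative f))
        rw [aeval_def, eval₂_eq_eval_map, ← derivative_map]
        exact Ne.isUnit hd
    let lam : P.Ring →ₐ[A] Ω := P.lift x₀ hmap
    have hlamX : lam P.X = x₀ := P.lift_X x₀ hmap
    let θ : CommRingCat.of A ⟶ CommRingCat.of P.Ring := CommRingCat.ofHom (algebraMap A P.Ring)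
    have het : Etale (Spec.map θ) := by
      rw [HasRingHomProperty.Spec_iff (P := @Etale)]
      exact RingHom.etale_algebraMap.mpr inferInstance
    let x : Spec (CommRingCat.of P.Ring) := ⟨RingHom.ker lam.toRingHom, RingHom.ker_isPrime _⟩
    have hx : (Spec.map θ).base x = closedPoint A := by
      apply PrimeSpectrum.ext
      ext r
      show lam (algebraMap A P.Ring r) = 0 ↔ r ∈ maximalIdeal A
      rw [lam.commutes]
      exact hev0 r
    obtain ⟨u, hu1, hu2⟩ := H _ (Spec.map θ) het x hx
    obtain ⟨σ, hσ⟩ : ∃ σ : CommRingCat.of P.Ring ⟶ CommRingCat.of A, Spec.map σ = u :=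
      ⟨Spec.preimage u, Spec.map_preimage u⟩
    have hσθ : θ ≫ σ = 𝟙 _ := by
      apply Spec.map_injective
      rw [Spec.map_comp, hσ, hu1, Spec.map_id]
    have hσalg : ∀ r : A, σ.hom (algebraMap A P.Ring r) = r := by
      intro r
      have := congrArg (fun g => g.hom r) hσθ
      exact this
    have hker : ∀ t : P.Ring, σ.hom t ∈ maximalIdeal A ↔ lam t = 0 := by
      intro t
      have h1 : (Spec.map σ).base (closedPoint A) = x := by rw [hσ]; exact hu2
      have h2 := congrArg (fun p : PrimeSpectrum P.Ring => t ∈ p.asIdeal) h1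
      exact iff_of_eq h2
    refine ⟨σ.hom P.X, ?_, ?_⟩
    · have h1 : aeval P.X f = 0 := (P.hasMap_X).1
      have h2 := congrArg σ.hom h1
      rw [aeval_def, hom_eval₂, map_zero] at h2
      have h3 : σ.hom.comp (algebraMap A P.Ring) = RingHom.id A := RingHom.ext hσalg
      rw [h3] at h2
      simpa using h2
    · have h1 : σ.hom (P.X - algebraMap A P.Ring (σ.hom P.X)) ∈ maximalIdeal A := by
        rw [map_sub, hσalg, sub_self]; exact zero_mem _
      have h2 := (hker _).mp h1
      rw [map_sub, hlamX, lam.commutes, sub_eq_zero] at h2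
      exact h2.symm


/-- a) iff c): a local ring A is henselian with separably closed residue field if and only if, for every
étale morphism f : X ⟶ Spec A and every point x of X lying over the closed point s, there is a
section u of f with u s = x. -/
theorem result (A : Type u) [CommRing A] [IsLocalRing A] :
    (HenselianLocalRing A ∧ IsSepClosed (IsLocalRing.ResidueField A)) ↔
      ∀ (X : Scheme.{u}) (f : X ⟶ Spec (CommRingCat.of A)), Etale f →
        ∀ x : X, f.base x = IsLocalRing.closedPoint A →
          ∃ u : Spec (CommRingCat.of A) ⟶ X, u ≫ f = 𝟙 _ ∧ u.base (IsLocalRing.closedPoint A) = x := by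
  constructor
  · rintro ⟨hH, hS⟩ X f hf x hx
    haveI := hf
    exact H68.StrictHens.exists_section_through (CommRingCat.of A) f x hx
  · intro H
    obtain ⟨h1, h2⟩ := key A H
    exact ⟨h1, h2⟩

end Groth.Agent.S5062
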