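import Groth.Statements.S5065
import Mathlib
import Groth.Agent.H68.NormalEtaleAlg

set_option autoImplicit false
universe u
open Unram

namespace Groth.Agent.S5065

open TensorProduct


/-- Let A ⊆ A' be integrally closed domains, L a field algebraic over the fraction field of A in which A
embeds and whose integral closure C over A is an étale A-algebra, and L₁ a field in which A' and L
both embed, compatibly over A, and which is generated as a field by the images of A' and L (a
compositum of L with the fraction field of A'; the map A' → L₁ is injective, so that the fraction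
field of A' is a subfield of L₁). Then the integral closure of A' in L₁ is an étale A'-algebra and
coincides with the A'-subalgebra generated by the image of C. -/
theorem result (A A' L L₁ : Type u) [CommRing A] [IsDomain A]
    [IsIntegrallyClosed A] [CommRing A'] [IsDomain A'] [IsIntegrallyClosed A'] [Algebra A A']
    [Field L] [Algebra A L] [Algebra.IsAlgebraic A L] (hinj : Function.Injective (algebraMap A L))
    [Algebra.Etale A ↥(integralClosure A L)]
    [Field L₁] [Algebra A' L₁] [Algebra L L₁] [Algebra A L₁] [IsScalarTower A A' L₁] [IsScalarTower A L L₁]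
    (hinj' : Function.Injective (algebraMap A' L₁))
    (hgen : Subfield.closure (Set.range (algebraMap A' L₁) ∪ Set.range (algebraMap L L₁)) = ⊤) :
    Algebra.Etale A' ↥(integralClosure A' L₁) ∧
      integralClosure A' L₁ = Algebra.adjoin A' ((algebraMap L L₁) '' {x : L | IsIntegral A x}) := by
  classical
  haveI : Algebra.IsIntegral A ↥(integralClosure A L) := inferInstance
  haveI : Algebra.FiniteType A ↥(integralClosure A L) := inferInstance
  haveI : Module.Finite A ↥(integralClosure A L) := Algebra.IsIntegral.finite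
  haveI : Module.Finite A' (A' ⊗[A] ↥(integralClosure A L)) := inferInstance
  haveI : Algebra.Etale A' (A' ⊗[A] ↥(integralClosure A L)) := inferInstance
  -- the comparison map
  obtain ⟨ψ, hψ⟩ : ∃ ψ : A' ⊗[A] ↥(integralClosure A L) →ₐ[A'] L₁,
      ∀ (a : A') (c : ↥(integralClosure A L)), ψ (a ⊗ₜ c) = algebraMap A' L₁ a * algebraMap L L₁ c := by
    refine ⟨Algebra.TensorProduct.lift (Algebra.ofId A' L₁)
      ((IsScalarTower.toAlgHom A L L₁).comp (integralClosure A L).val)
      (fun _ _ => Commute.all _ _), fun a c => ?_⟩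
    simp [Algebra.ofId_apply]
  haveI : (RingHom.ker ψ).IsPrime := RingHom.ker_isPrime ψ
  have hP : (RingHom.ker ψ).comap (algebraMap A' (A' ⊗[A] ↥(integralClosure A L))) = ⊥ := by
    ext a
    rw [Ideal.mem_comap, RingHom.mem_ker, Ideal.mem_bot, AlgHom.commutes]
    exact ⟨fun h => hinj' (by rw [h, map_zero]), fun h => by rw [h, map_zero]⟩
  obtain ⟨e, he, hPe⟩ := H68.NormalEtaleAlg.exists_idempotent_of_prime_over_bot A'
    (A' ⊗[A] ↥(integralClosure A L)) (RingHom.ker ψ) hP
  -- `D ⧸ ker ψ` is étale over `A'`
  haveI : Algebra.Etale (A' ⊗[A] ↥(integralClosure A L))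
      ((A' ⊗[A] ↥(integralClosure A L)) ⧸ RingHom.ker ψ) := by
    rw [hPe]
    haveI := IsLocalization.Away.quotient_of_isIdempotentElem he
    exact Algebra.Etale.of_isLocalizationAway e
  haveI : Algebra.Etale A' ((A' ⊗[A] ↥(integralClosure A L)) ⧸ RingHom.ker ψ) :=
    Algebra.Etale.comp A' (A' ⊗[A] ↥(integralClosure A L)) _
  haveI : Algebra.Etale A' ↥ψ.range := by
    let eq : ((A' ⊗[A] ↥(integralClosure A L)) ⧸ RingHom.ker ψ) ≃ₐ[A'] ↥ψ.range :=
      Ideal.quotientKerEquivRange ψ
    exact Algebra.Etale.of_equiv (A := (A' ⊗[A] ↥(integralClosure A L)) ⧸ RingHom.ker ψ)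
      (B := ↥ψ.range) eq
  -- `ψ.range` is integrally closed
  haveI : IsIntegrallyClosed ↥ψ.range := by
    refine IsIntegrallyClosed.of_localization_maximal (fun q _ _ => ?_)
    exact (Groth.Agent.H47.EtaleNormal.isDomain_isIntegrallyClosed_atPrime A' ↥ψ.range q
      (Localization.AtPrime q)).2
  -- the range is the adjoin
  have hrange : ψ.range =
      Algebra.adjoin A' ((algebraMap L L₁) '' {x : L | IsIntegral A x}) := by
    apply le_antisymm
    · rintro _ ⟨d, rfl⟩
      induction d using TensorProduct.induction_on with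
      | zero => rw [map_zero]; exact zero_mem _
      | tmul a c =>
        show ψ (a ⊗ₜ c) ∈ _
        rw [hψ, ← Algebra.smul_def]
        exact Subalgebra.smul_mem _ (Algebra.subset_adjoin (Set.mem_image_of_mem _ c.2)) a
      | add x y hx hy => rw [map_add]; exact add_mem hx hy
    · apply Algebra.adjoin_le
      rintro _ ⟨x, hx, rfl⟩
      refine ⟨(1 : A') ⊗ₜ (⟨x, hx⟩ : ↥(integralClosure A L)), ?_⟩
      show ψ _ = _
      rw [hψ, map_one, one_mul]
  -- fraction field
  have hmemA' : ∀ a : A', algebraMap A' L₁ a ∈ ψ.range := fun a => ⟨algebraMap A' _ a, ψ.commutes a⟩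
  have hmemC : ∀ x : L, IsIntegral A x → algebraMap L L₁ x ∈ ψ.range := by
    intro x hx
    rw [hrange]
    exact Algebra.subset_adjoin ⟨x, hx, rfl⟩
  have hclosure : Subfield.closure ((ψ.range : Subalgebra A' L₁) : Set L₁) = ⊤ := by
    rw [eq_top_iff, ← hgen]
    apply Subfield.closure_le.mpr
    rintro z (⟨a, rfl⟩ | ⟨l, rfl⟩)
    · exact Subfield.subset_closure (hmemA' a)
    · obtain ⟨y, hy0, hy⟩ := (Algebra.IsAlgebraic.isAlgebraic (R := A) l).exists_integral_multiple
      have h1 : algebraMap L L₁ (y • l) ∈ Subfield.closure ((ψ.range : Subalgebra A' L₁) : Set L₁) :=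
        Subfield.subset_closure (hmemC _ hy)
      have h2 : algebraMap L L₁ (algebraMap A L y) ∈
          Subfield.closure ((ψ.range : Subalgebra A' L₁) : Set L₁) :=
        Subfield.subset_closure (hmemC _ isIntegral_algebraMap)
      have h3 : algebraMap L L₁ l =
          algebraMap L L₁ (y • l) / algebraMap L L₁ (algebraMap A L y) := by
        have hne : algebraMap L L₁ (algebraMap A L y) ≠ 0 := by
          rw [Ne, map_eq_zero, map_eq_zero_iff _ hinj]
          exact hy0
        rw [eq_div_iff hne, ← map_mul, Algebra.smul_def, mul_comm]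
      rw [h3]
      exact div_mem h1 h2
  haveI : FaithfulSMul ↥ψ.range L₁ :=
    (faithfulSMul_iff_algebraMap_injective ↥ψ.range L₁).mpr Subtype.val_injective
  haveI : IsFractionRing ↥ψ.range L₁ := by
    refine IsFractionRing.of_field (R := ↥ψ.range) (K := L₁) (fun z => ?_)
    have hz : z ∈ Subfield.closure ((ψ.range : Subalgebra A' L₁) : Set L₁) := by
      rw [hclosure]; trivial
    rw [Subfield.mem_closure_iff] at hz
    obtain ⟨y, hy, w, hw, rfl⟩ := hz
    have hsub : Subring.closure ((ψ.range : Subalgebra A' L₁) : Set L₁) = ψ.range.toSubring :=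
      Subring.closure_eq ψ.range.toSubring
    rw [hsub] at hy hw
    exact ⟨⟨y, hy⟩, ⟨w, hw⟩, rfl⟩
  have hmain : integralClosure A' L₁ = ψ.range := by
    apply le_antisymm
    · intro x hx
      have hx' : IsIntegral ↥ψ.range x := IsIntegral.tower_top (R := A') hx
      obtain ⟨y, hy⟩ := IsIntegrallyClosed.isIntegral_iff.mp hx'
      rw [← hy]
      exact y.2
    · rw [hrange]
      apply Algebra.adjoin_le
      rintro _ ⟨x, hx, rfl⟩
      have h1 : IsIntegral A (algebraMap L L₁ x) := hx.map (IsScalarTower.toAlgHom A L L₁)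
      exact IsIntegral.tower_top (R := A) h1
  refine ⟨?_, hmain.trans hrange⟩
  rw [hmain]
  infer_instance

end Groth.Agent.S5065
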