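import Groth.Statements.S5066
import Groth.Agent.H3.PH2
import Groth.Agent.H3.HPair9
import Groth.Agent.H3.HInt

set_option autoImplicit false
universe u
open Hensel

namespace Groth.Agent.S5066

/-- Case of a local ring, affine étale schemes: a local ring A with maximal ideal m is henselian if and
only if, for every finite A-algebra C and every étale A-algebra E, composing with the projection C →
C/mC is a bijection from the set of A-algebra homomorphisms E → C onto the set of A-algebra
homomorphisms E → C/mC. -/
theorem result (A : Type u) [CommRing A] [IsLocalRing A] :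
    HenselianLocalRing A ↔
      ∀ (C : Type u) [CommRing C] [Algebra A C] [Module.Finite A C] (E : Type u) [CommRing E] [Algebra A E] [Algebra.Etale A E],
        Function.Bijective (fun φ : E →ₐ[A] C =>
          (Ideal.Quotient.mkₐ A (Ideal.map (algebraMap A C) (IsLocalRing.maximalIdeal A))).comp φ) := by
  constructor
  · intro hA C _ _ _ E _ _ _
    haveI : HenselianRing C ((IsLocalRing.maximalIdeal A).map (algebraMap A C)) :=
      Groth.Agent.H3.henselianRing_map_of_isIntegral (IsLocalRing.maximalIdeal A) C
    constructor
    · intro φ ψ h
      apply Groth.Agent.H3.PH.algHom_eq_of_sub_mem'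
        ((IsLocalRing.maximalIdeal A).map (algebraMap A C)) HenselianRing.jac
      intro s
      have h1 := AlgHom.congr_fun h s
      have h2 : Ideal.Quotient.mk ((IsLocalRing.maximalIdeal A).map (algebraMap A C)) (φ s) =
          Ideal.Quotient.mk _ (ψ s) := h1
      rw [← Ideal.Quotient.eq]
      exact h2.symm
    · intro σ
      obtain ⟨τ, hτ⟩ := Groth.Agent.H3.PH.exists_algHom_lift_of_etale C
        ((IsLocalRing.maximalIdeal A).map (algebraMap A C)) E σ
      exact ⟨τ, AlgHom.ext hτ⟩
  · intro h
    have hid : (IsLocalRing.maximalIdeal A).map (algebraMap A A) = IsLocalRing.maximalIdeal A := by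
      rw [Algebra.algebraMap_self]
      exact Ideal.map_id _
    haveI : HenselianRing A (IsLocalRing.maximalIdeal A) := by
      apply Groth.Agent.H3.henselianRing_of_etale_lift
      intro A' _ _ _ σ
      let e := Ideal.quotientEquivAlgOfEq A hid
      obtain ⟨τ, hτ⟩ := (h A A').2 (e.symm.toAlgHom.comp σ)
      refine ⟨τ, ?_⟩
      apply AlgHom.ext
      intro x
      have h1 := AlgHom.congr_fun hτ x
      have h2 : Ideal.Quotient.mk ((IsLocalRing.maximalIdeal A).map (algebraMap A A)) (τ x) =
          e.symm (σ x) := h1
      have h3 : e (Ideal.Quotient.mk _ (τ x)) = σ x := by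
        rw [h2, e.apply_symm_apply]
      rw [← h3]
      rfl
    exact Groth.Agent.H3.henselianLocalRing_of_henselianRing_maximalIdeal A

end Groth.Agent.S5066
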