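import Groth.Statements.S5069
import Mathlib

set_option autoImplicit false
universe u v
open Hensel

namespace Groth.Agent.S5069

/-- First assertion, phrased for the images of the inductive system: let B be a Noetherian commutative
ring and (C_i) a family of Artinian subrings of B, directed under inclusion, whose union is B. Then
B is an Artinian ring. -/
theorem result (B : Type u) [CommRing B] [IsNoetherianRing B]
    {ι : Type v} [Nonempty ι] (C : ι → Subring B) (hdir : Directed (fun a b => a ≤ b) C)
    (hart : ∀ i, IsArtinianRing ↥(C i)) (hcov : ∀ b : B, ∃ i, b ∈ C i) : IsArtinianRing B := by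
  rw [isArtinianRing_iff_krullDimLE_zero, Ring.krullDimLE_zero_iff]
  intro p hp
  rw [Ideal.isMaximal_iff]
  refine ⟨hp.one_notMem, ?_⟩
  intro J x hpJ hxp hxJ
  obtain ⟨i, hi⟩ := hcov x
  haveI := hart i
  have hq : (p.comap (C i).subtype).IsPrime := Ideal.comap_isPrime _ _
  have hqmax : (p.comap (C i).subtype).IsMaximal := IsArtinianRing.isMaximal_of_isPrime _
  have hxq : (⟨x, hi⟩ : C i) ∉ p.comap (C i).subtype := fun h => hxp h
  obtain ⟨y, j, hj, hyj⟩ := hqmax.exists_inv hxq
  have h1 : (y : B) * x + (j : B) = 1 := by
    have := congrArg (C i).subtype hyj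
    simpa using this
  rw [← h1]
  exact J.add_mem (J.mul_mem_left _ hxJ) (hpJ hj)

end Groth.Agent.S5069
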