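import Groth.Statements.S5070
import Groth.Agent.H29.NFConst
import Groth.Agent.H9.ClosedImmStalk
import Groth.Agent.H8.Coh
import Groth.Agent.H8.QCohStalk
set_option maxHeartbeats 400000
set_option linter.style.haveILetI false

set_option autoImplicit false
open CategoryTheory AlgebraicGeometry
universe u
open CInt

namespace Groth.Agent.S5070

open Groth.Agent.H8 Groth.Agent.H29.NFConst Groth.Agent.H29.HilbNF Groth.Agent.H29.GrStep IsLocalRing in
/-- chart-level local constancy of the numerical characters `ν_k` -/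
theorem exists_open_nu_const {X : Scheme.{u}} [IsLocallyNoetherian X] (𝓘 : X.IdealSheafData)
    (F : X.Modules) (hF : Coh.IsCoh F) (k : ℕ) (y₀ : ↥𝓘.subscheme)
    (hflat : Module.Flat (↑(X.presheaf.stalk (𝓘.subschemeι y₀)) ⧸
        RingHom.ker (𝓘.subschemeι.stalkMap y₀).hom)
      (Gr (RingHom.ker (𝓘.subschemeι.stalkMap y₀).hom)
        ↑(F.presheaf.stalk (𝓘.subschemeι y₀)) k)) :
    ∃ V : Set ↥𝓘.subscheme, IsOpen V ∧ y₀ ∈ V ∧ ∀ y ∈ V,
      nu ↑(X.presheaf.stalk (𝓘.subschemeι y))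
        (Gr (RingHom.ker (𝓘.subschemeι.stalkMap y).hom)
          ↑(F.presheaf.stalk (𝓘.subschemeι y)) k) =
      nu ↑(X.presheaf.stalk (𝓘.subschemeι y₀))
        (Gr (RingHom.ker (𝓘.subschemeι.stalkMap y₀).hom)
          ↑(F.presheaf.stalk (𝓘.subschemeι y₀)) k) := by
  haveI : F.IsQuasicoherent := hF.1
  obtain ⟨_, ⟨U, hU, rfl⟩, hx₀U, -⟩ :=
    X.isBasis_affineOpens.exists_subset_of_mem_open (Set.mem_univ (𝓘.subschemeι y₀)) isOpen_univ
  replace hU : IsAffineOpen U := hU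
  haveI : IsNoetherianRing Γ(X, U) := IsLocallyNoetherian.component_noetherian ⟨U, hU⟩
  haveI := finite_sections_of_isCoh F hF hU
  letI := X.presheaf.algebra_section_stalk ⟨𝓘.subschemeι y₀, hx₀U⟩
  haveI := hU.isLocalization_stalk ⟨𝓘.subschemeι y₀, hx₀U⟩
  letI := moduleSectionStalk F (𝓘.subschemeι y₀) hx₀U
  haveI := isScalarTower_sectionStalk F (𝓘.subschemeι y₀) hx₀U
  haveI := isLocalizedModule_germₗ F hU (𝓘.subschemeι y₀) hx₀U
  have hker₀ := Groth.Agent.H9.ker_stalkMap_of_isClosedImmersion 𝓘.subschemeι ⟨U, hU⟩ y₀ hx₀U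
  rw [Scheme.IdealSheafData.ker_subschemeι] at hker₀
  have hle₀ := Groth.Agent.H9.ker_ideal_le_primeIdealOf 𝓘.subschemeι ⟨U, hU⟩ y₀ hx₀U
  rw [Scheme.IdealSheafData.ker_subschemeι] at hle₀
  obtain ⟨g, hg, hspread⟩ := nu_locally_constant (𝓘.ideal ⟨U, hU⟩) Γ(F, U) k
    (hU.primeIdealOf ⟨_, hx₀U⟩).asIdeal hle₀ (X.presheaf.stalk (𝓘.subschemeι y₀))
    (F.presheaf.stalk (𝓘.subschemeι y₀)) (germₗ F _ hx₀U) _ hker₀ hflat
  refine ⟨𝓘.subschemeι ⁻¹' (X.basicOpen g : Set X), ?_, ?_, ?_⟩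
  · exact (X.basicOpen g).2.preimage 𝓘.subschemeι.continuous
  · exact (mem_basicOpen_iff_notMem_primeIdealOf hU _ hx₀U g).mpr hg
  · intro y hy
    have hxU : 𝓘.subschemeι y ∈ U := X.basicOpen_le g hy
    letI := X.presheaf.algebra_section_stalk ⟨𝓘.subschemeι y, hxU⟩
    haveI := hU.isLocalization_stalk ⟨𝓘.subschemeι y, hxU⟩
    letI := moduleSectionStalk F (𝓘.subschemeι y) hxU
    haveI := isScalarTower_sectionStalk F (𝓘.subschemeι y) hxU
    haveI := isLocalizedModule_germₗ F hU (𝓘.subschemeι y) hxU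
    have hker := Groth.Agent.H9.ker_stalkMap_of_isClosedImmersion 𝓘.subschemeι ⟨U, hU⟩ y hxU
    rw [Scheme.IdealSheafData.ker_subschemeι] at hker
    have hle := Groth.Agent.H9.ker_ideal_le_primeIdealOf 𝓘.subschemeι ⟨U, hU⟩ y hxU
    rw [Scheme.IdealSheafData.ker_subschemeι] at hle
    exact hspread (hU.primeIdealOf ⟨_, hxU⟩).asIdeal hle
      ((mem_basicOpen_iff_notMem_primeIdealOf hU _ hxU g).mp hy)
      (X.presheaf.stalk (𝓘.subschemeι y)) (F.presheaf.stalk (𝓘.subschemeι y))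
      (germₗ F _ hxU) _ hker

/-- Let X be a locally Noetherian scheme, Y the closed subscheme defined by an ideal sheaf, assumed
regular and connected, and F a coherent O_X-module which is normally flat along Y (at every point y
of Y, every I_y^h F_y / I_y^(h+1) F_y is flat over O_{Y,y}). Then there is a single sequence of
natural numbers R such that for every y in Y, if n is the dimension of O_{Y,y}, then for all h the
length of m^h F_y / m^(h+1) F_y over the residue field (m the maximal ideal of O_{X,y}) equals the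
sum over r ≤ h of C(r+n-1, r) R(h-r): the Poincaré series of gr_m(F_y) is R(T)(1-T)^(-n). -/
theorem result {X : Scheme.{u}} [IsLocallyNoetherian X]
    (𝓘 : X.IdealSheafData) [ConnectedSpace ↥𝓘.subscheme]
    (hreg : ∀ y : ↥𝓘.subscheme, IsRegularLocalRing ↑(𝓘.subscheme.presheaf.stalk y))
    (F : X.Modules) (hF : Coh.IsCoh F)
    (hnf : ∀ y : ↥𝓘.subscheme, EGA4.IsNormallyFlat (RingHom.ker (𝓘.subschemeι.stalkMap y).hom) ↑(F.presheaf.stalk (𝓘.subschemeι y))) :
    ∃ R : ℕ → ℕ, ∀ (y : ↥𝓘.subscheme) (n : ℕ), ringKrullDim ↑(𝓘.subscheme.presheaf.stalk y) = n →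
      ∀ h : ℕ, Module.finrank (↑(X.presheaf.stalk (𝓘.subschemeι y)) ⧸ IsLocalRing.maximalIdeal ↑(X.presheaf.stalk (𝓘.subschemeι y)))
          (↥(IsLocalRing.maximalIdeal ↑(X.presheaf.stalk (𝓘.subschemeι y)) ^ h • (⊤ : Submodule ↑(X.presheaf.stalk (𝓘.subschemeι y)) ↑(F.presheaf.stalk (𝓘.subschemeι y)))) ⧸
            (IsLocalRing.maximalIdeal ↑(X.presheaf.stalk (𝓘.subschemeι y)) • (⊤ : Submodule ↑(X.presheaf.stalk (𝓘.subschemeι y)) ↥(IsLocalRing.maximalIdeal ↑(X.presheaf.stalk (𝓘.subschemeι y)) ^ h • (⊤ : Submodule ↑(X.presheaf.stalk (𝓘.subschemeι y)) ↑(F.presheaf.stalk (𝓘.subschemeι y))))))) =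
        ∑ r ∈ Finset.range (h + 1), Nat.choose (r + n - 1) r * R (h - r) := by
  classical
  have hconst : ∀ k, ∀ y y' : ↥𝓘.subscheme,
      Groth.Agent.H29.HilbNF.nu ↑(X.presheaf.stalk (𝓘.subschemeι y))
        (Groth.Agent.H29.GrStep.Gr (RingHom.ker (𝓘.subschemeι.stalkMap y).hom)
          ↑(F.presheaf.stalk (𝓘.subschemeι y)) k) =
      Groth.Agent.H29.HilbNF.nu ↑(X.presheaf.stalk (𝓘.subschemeι y'))
        (Groth.Agent.H29.GrStep.Gr (RingHom.ker (𝓘.subschemeι.stalkMap y').hom)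
          ↑(F.presheaf.stalk (𝓘.subschemeι y')) k) := by
    intro k
    have hlc : IsLocallyConstant (fun y : ↥𝓘.subscheme =>
        Groth.Agent.H29.HilbNF.nu ↑(X.presheaf.stalk (𝓘.subschemeι y))
        (Groth.Agent.H29.GrStep.Gr (RingHom.ker (𝓘.subschemeι.stalkMap y).hom)
          ↑(F.presheaf.stalk (𝓘.subschemeι y)) k)) := by
      rw [IsLocallyConstant.iff_exists_open]
      intro y
      obtain ⟨V, hV, hyV, hVc⟩ := exists_open_nu_const 𝓘 F hF k y (hnf y k)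
      exact ⟨V, hV, hyV, fun y' hy' => hVc y' hy'⟩
    intro y y'
    exact hlc.apply_eq_of_preconnectedSpace y y'
  obtain ⟨y₀⟩ : Nonempty ↥𝓘.subscheme := inferInstance
  refine ⟨fun k => Groth.Agent.H29.HilbNF.nu ↑(X.presheaf.stalk (𝓘.subschemeι y₀))
        (Groth.Agent.H29.GrStep.Gr (RingHom.ker (𝓘.subschemeι.stalkMap y₀).hom)
          ↑(F.presheaf.stalk (𝓘.subschemeι y₀)) k), ?_⟩
  intro y n hn h
  haveI : Module.Finite ↑(X.presheaf.stalk (𝓘.subschemeι y))
      ↑(F.presheaf.stalk (𝓘.subschemeι y)) :=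
    Groth.Agent.H8.finite_stalk_of_isCoh F hF (𝓘.subschemeι y)
  have hsurj : Function.Surjective (𝓘.subschemeι.stalkMap y).hom :=
    𝓘.subschemeι.stalkMap_surjective y
  let e := RingHom.quotientKerEquivOfSurjective hsurj
  haveI : IsRegularLocalRing ↑(𝓘.subscheme.presheaf.stalk y) := hreg y
  haveI : IsRegularLocalRing (↑(X.presheaf.stalk (𝓘.subschemeι y)) ⧸
      RingHom.ker (𝓘.subschemeι.stalkMap y).hom) := IsRegularLocalRing.of_ringEquiv e.symm
  have hn' : ringKrullDim (↑(X.presheaf.stalk (𝓘.subschemeι y)) ⧸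
      RingHom.ker (𝓘.subschemeι.stalkMap y).hom) = n :=
    (ringKrullDim_eq_of_ringEquiv e).trans hn
  have hmain := (Groth.Agent.H29.HilbNF.main ↑(F.presheaf.stalk (𝓘.subschemeι y))
    (RingHom.ker (𝓘.subschemeι.stalkMap y).hom) n hn').mp (hnf y) h
  refine hmain.trans ?_
  refine Finset.sum_congr rfl fun r _ => ?_
  congr 1
  exact hconst (h - r) y y₀

end Groth.Agent.S5070
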