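import Groth.Statements.S5071
import Groth.Agent.H19.QReg
import Groth.Agent.H19.QRegBC
import Groth.Agent.H29.KollarFlat2
import Groth.Agent.H61.DefFlat

set_option autoImplicit false
universe u
open CInt

namespace Groth.Agent.S5071

/-- `RestrictScalars A B M ≃ₗ[A] M` when `M` already carries a compatible `A`-module structure. -/
noncomputable def rsEquiv (A B M : Type*) [CommRing A] [CommRing B] [Algebra A B] [AddCommGroup M]
    [Module B M] [Module A M] [IsScalarTower A B M] : RestrictScalars A B M ≃ₗ[A] M :=
  (RestrictScalars.addEquiv A B M).toLinearEquiv (by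
    intro a x
    rw [RestrictScalars.addEquiv_map_smul, algebraMap_smul])

theorem flat_restrictScalars (A B M : Type*) [CommRing A] [CommRing B] [Algebra A B]
    [AddCommGroup M] [Module B M] [Module A M] [IsScalarTower A B M] [Module.Flat A M] :
    Module.Flat A (RestrictScalars A B M) :=
  Module.Flat.of_linearEquiv (rsEquiv A B M)

theorem flat_sub_quot {A B : Type u} [CommRing A] [CommRing B] [Algebra A B] (Jn Jm : Ideal B)
    (hle : Jm ≤ Jn) [Module.Flat A (B ⧸ Jn)] [Module.Flat A (B ⧸ Jm)] :
    Module.Flat A (↥Jn ⧸ (Submodule.comap Jn.subtype Jm)) := by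
  let ι : (↥Jn ⧸ (Submodule.comap Jn.subtype Jm)) →ₗ[B] B ⧸ Jm :=
    Submodule.mapQ (Submodule.comap Jn.subtype Jm) Jm Jn.subtype le_rfl
  let π : (B ⧸ Jm) →ₗ[B] B ⧸ Jn :=
    Submodule.liftQ Jm (Submodule.mkQ Jn) (by rw [Submodule.ker_mkQ]; exact hle)
  have hι : Function.Injective ι := by
    rw [injective_iff_map_eq_zero]
    intro x hx
    obtain ⟨y, rfl⟩ := Submodule.Quotient.mk_surjective _ x
    rw [Submodule.mapQ_apply, Submodule.Quotient.mk_eq_zero] at hx
    rw [Submodule.Quotient.mk_eq_zero]
    exact hx
  have hπ : Function.Surjective π := by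
    intro y
    obtain ⟨b, rfl⟩ := Submodule.Quotient.mk_surjective _ y
    exact ⟨Submodule.Quotient.mk b, rfl⟩
  have hex : Function.Exact ι π := by
    intro y
    constructor
    · intro hy
      obtain ⟨b, rfl⟩ := Submodule.Quotient.mk_surjective _ y
      have hb : b ∈ Jn := (Submodule.Quotient.mk_eq_zero Jn).1 hy
      exact ⟨Submodule.Quotient.mk ⟨b, hb⟩, rfl⟩
    · rintro ⟨x, rfl⟩
      obtain ⟨⟨c, hc⟩, rfl⟩ := Submodule.Quotient.mk_surjective _ x
      exact (Submodule.Quotient.mk_eq_zero Jn).2 hc
  exact Groth.Agent.H61.DefFlat.flat_ker (ι.restrictScalars A) (π.restrictScalars A) hι hex hπ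

theorem flat_ideal {A B : Type u} [CommRing A] [CommRing B] [Algebra A B] (Jn : Ideal B)
    [Module.Flat A B] [Module.Flat A (B ⧸ Jn)] : Module.Flat A ↥Jn :=
  Groth.Agent.H61.DefFlat.flat_ker ((Submodule.subtype Jn).restrictScalars A)
    ((Submodule.mkQ Jn).restrictScalars A) (Submodule.injective_subtype Jn)
    (LinearMap.exact_subtype_mkQ Jn) (Submodule.mkQ_surjective Jn)

/-- Let B be an A-algebra and J an ideal of B generated by a sequence which is transversally regular
relative to A. Then for n < m the module J^n/J^m is flat over A, and for every prime q of B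
containing J the localisation (J^n)_q is flat over A (modules regarded as A-modules by restriction
of scalars). -/
theorem result (A B : Type u) [CommRing A] [CommRing B] [Algebra A B]
    (rs : List B) (hrs : RegImm.IsTransRegularSeq A B rs) (n m : ℕ) (hnm : n < m) :
    Module.Flat A (RestrictScalars A B
      (↥(Ideal.ofList rs ^ n) ⧸ (Submodule.comap (Ideal.ofList rs ^ n).subtype (Ideal.ofList rs ^ m)))) ∧
      ∀ (q : Ideal B) [q.IsPrime], Ideal.ofList rs ≤ q →
        Module.Flat A (RestrictScalars A B (LocalizedModule q.primeCompl ↥(Ideal.ofList rs ^ n))) := by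
  classical
  obtain ⟨hreg, hflat⟩ := hrs
  let f : Fin rs.length → B := rs.get
  have hof : List.ofFn f = rs := List.ofFn_get rs
  have hspan : Ideal.span (Set.range f) = Ideal.ofList rs := by
    unfold Ideal.ofList
    congr 1
    ext x
    simp [f, List.mem_iff_get]
  have hq : CAlgX.IsQuasiRegular f :=
    Groth.Agent.H19.QReg.isQuasiRegular_of_isWeaklyRegular _ f (by rw [hof]; exact hreg)
  have hBJ : Module.Flat A (B ⧸ Ideal.span (Set.range f)) := by
    have h1 := hflat rs.length le_rfl
    rw [List.take_length] at h1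
    rw [hspan]; exact h1
  have hpow : ∀ k, Module.Flat A (B ⧸ Ideal.ofList rs ^ k) := by
    intro k
    have h1 := Groth.Agent.H19.QRegBC.flat_quot_pow A f hq k
    rwa [hspan] at h1
  have hB : Module.Flat A B := by
    have h0 := hflat 0 (Nat.zero_le _)
    rw [List.take_zero, Ideal.ofList_nil] at h0
    exact Module.Flat.of_linearEquiv
      ((Submodule.quotEquivOfEqBot (⊥ : Ideal B) rfl).restrictScalars A).symm
  have hn := hpow n
  have hm := hpow m
  refine ⟨?_, ?_⟩
  · have h1 := flat_sub_quot (A := A) (Ideal.ofList rs ^ n) (Ideal.ofList rs ^ m)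
      (Ideal.pow_le_pow_right hnm.le)
    exact flat_restrictScalars A B _
  · intro q _ _
    have h1 : Module.Flat A ↥(Ideal.ofList rs ^ n) := flat_ideal (A := A) (Ideal.ofList rs ^ n)
    have h2 := Groth.Agent.H29.KollarFlat.flat_localizedModule (A := A) q.primeCompl
      ↥(Ideal.ofList rs ^ n)
    exact flat_restrictScalars A B _

end Groth.Agent.S5071
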