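import Groth.Statements.S5073
import Mathlib

set_option autoImplicit false
universe u
open EGA418

namespace Groth.Agent.S5073

theorem ker_not_le_minimal (A : Type u) [CommRing A] (p : Ideal A) [p.IsPrime] (q : Ideal A)
    (hq : q ∈ minimalPrimes A) (hqp : ¬ q ≤ p) :
    ¬ RingHom.ker (algebraMap A (Localization.AtPrime p)) ≤ q := by
  intro hKq
  haveI : q.IsPrime := hq.1.1
  have h0 : (0 : A) ∈ p.primeCompl ⊔ q.primeCompl := by
    by_contra h0
    have hdisj : Disjoint ((⊥ : Ideal A) : Set A) (p.primeCompl ⊔ q.primeCompl : Submonoid A) := by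
      rw [Set.disjoint_left]
      intro a ha
      have : a = 0 := ha
      rw [this]; exact h0
    obtain ⟨P, hP, -, hPdisj⟩ := Ideal.exists_le_prime_disjoint ⊥ _ hdisj
    have hPp : P ≤ p := by
      intro a ha
      by_contra hap
      exact Set.disjoint_left.mp hPdisj ha
        ((le_sup_left : p.primeCompl ≤ p.primeCompl ⊔ q.primeCompl) hap)
    have hPq : P ≤ q := by
      intro a ha
      by_contra haq
      exact Set.disjoint_left.mp hPdisj ha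
        ((le_sup_right : q.primeCompl ≤ p.primeCompl ⊔ q.primeCompl) haq)
    have := hq.2 ⟨hP, bot_le⟩ hPq
    exact hqp (this.trans hPp)
  obtain ⟨s, hs, u, hu, hsu⟩ := Submonoid.mem_sup.mp h0
  have huK : u ∈ RingHom.ker (algebraMap A (Localization.AtPrime p)) := by
    rw [RingHom.mem_ker, IsLocalization.map_eq_zero_iff p.primeCompl]
    exact ⟨⟨s, hs⟩, hsu⟩
  exact hu (hKq huK)

theorem coset_avoid (A : Type u) [CommRing A] (K : Ideal A) (T : Finset (Ideal A))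
    (hprime : ∀ q ∈ T, q.IsPrime) (hK : ∀ q ∈ T, ¬ K ≤ q)
    (hinc : ∀ q ∈ T, ∀ q' ∈ T, q ≤ q' → q' ≤ q) (x : A) :
    ∃ a ∈ K, ∀ q ∈ T, x + a ∉ q := by
  classical
  obtain ⟨S₁, hS₁⟩ : ∃ S₁ : Finset (Ideal A), ∀ q, q ∈ S₁ ↔ q ∈ T ∧ x ∈ q :=
    ⟨T.filter (fun q => x ∈ q), fun q => Finset.mem_filter⟩
  obtain ⟨S₂, hS₂⟩ : ∃ S₂ : Finset (Ideal A), ∀ q, q ∈ S₂ ↔ q ∈ T ∧ x ∉ q :=
    ⟨T.filter (fun q => x ∉ q), fun q => Finset.mem_filter⟩
  obtain ⟨P, hPle, hPprime⟩ : ∃ P : Ideal A, (∀ q ∈ S₂, P ≤ q) ∧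
      (∀ q₁ : Ideal A, q₁.IsPrime → P ≤ q₁ → ∃ q ∈ S₂, q ≤ q₁) :=
    ⟨∏ q ∈ S₂, q, fun q hq => Ideal.prod_le_inf.trans (Finset.inf_le hq),
      fun q₁ hq₁ h => (hq₁.prod_le).mp h⟩
  obtain ⟨L, hLK, hLP, hLprime⟩ : ∃ L : Ideal A, L ≤ K ∧ L ≤ P ∧
      (∀ q₁ : Ideal A, q₁.IsPrime → L ≤ q₁ → K ≤ q₁ ∨ P ≤ q₁) :=
    ⟨K * P, Ideal.mul_le_left, Ideal.mul_le_right, fun q₁ hq₁ h => (hq₁.mul_le).mp h⟩
  have key := Ideal.subset_union_prime (s := S₁) (f := fun q : Ideal A => q) ⊥ ⊥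
    (fun q hq _ _ => hprime q ((hS₁ q).mp hq).1) (I := L)
  have hnot : ¬ ∃ q₁ ∈ S₁, L ≤ q₁ := by
    rintro ⟨q₁, hq₁, hLq₁⟩
    obtain ⟨hq₁T, hxq₁⟩ := (hS₁ q₁).mp hq₁
    have hq₁prime : q₁.IsPrime := hprime q₁ hq₁T
    rcases hLprime q₁ hq₁prime hLq₁ with h1 | h1
    · exact hK q₁ hq₁T h1
    · obtain ⟨q, hqS₂, hqq₁⟩ := hPprime q₁ hq₁prime h1
      obtain ⟨hqT, hxq⟩ := (hS₂ q).mp hqS₂
      exact hxq (hinc q hqT q₁ hq₁T hqq₁ hxq₁)
  have hnot2 := mt key.mp hnot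
  obtain ⟨a, haL, hanot⟩ := Set.not_subset.mp hnot2
  have haL' : a ∈ L := haL
  refine ⟨a, hLK haL', ?_⟩
  intro q hqT hmem
  by_cases hxq : x ∈ q
  · have hqS₁ : q ∈ S₁ := (hS₁ q).mpr ⟨hqT, hxq⟩
    have haq : a ∈ q := by
      have := q.sub_mem hmem hxq
      simpa using this
    exact hanot (Set.mem_biUnion (Finset.mem_coe.mpr hqS₁) haq)
  · have hqS₂ : q ∈ S₂ := (hS₂ q).mpr ⟨hqT, hxq⟩
    have haq : a ∈ q := hPle q hqS₂ (hLP haL')
    have := q.sub_mem hmem haq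
    exact hxq (by simpa using this)

/-- Let A be a Noetherian local ring, p a prime ideal and x an element of A. Then there is an element x'
of A whose image in A_p equals that of x and which belongs to no minimal prime ideal of A not
contained in p. -/
theorem result (A : Type u) [CommRing A] [IsNoetherianRing A] [IsLocalRing A]
    (p : Ideal A) [p.IsPrime] (x : A) :
    ∃ x' : A, algebraMap A (Localization.AtPrime p) x' = algebraMap A (Localization.AtPrime p) x ∧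
      ∀ q ∈ minimalPrimes A, ¬ q ≤ p → x' ∉ q := by
  classical
  have hfin : (minimalPrimes A).Finite := minimalPrimes.finite_of_isNoetherianRing A
  have hTmem : ∀ q, q ∈ hfin.toFinset.filter (fun q => ¬ q ≤ p) ↔ q ∈ minimalPrimes A ∧ ¬ q ≤ p := by
    intro q
    rw [Finset.mem_filter, Set.Finite.mem_toFinset]
  obtain ⟨a, haK, ha⟩ := coset_avoid A (RingHom.ker (algebraMap A (Localization.AtPrime p)))
    (hfin.toFinset.filter (fun q => ¬ q ≤ p))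
    (fun q hq => ((hTmem q).mp hq).1.1.1)
    (fun q hq => ker_not_le_minimal A p q ((hTmem q).mp hq).1 ((hTmem q).mp hq).2)
    (fun q hq q' hq' hle => ((hTmem q').mp hq').1.2 ⟨((hTmem q).mp hq).1.1.1, bot_le⟩ hle) x
  refine ⟨x + a, ?_, ?_⟩
  · rw [map_add, (RingHom.mem_ker).mp haK, add_zero]
  · intro q hqmin hqp
    exact ha q ((hTmem q).mpr ⟨hqmin, hqp⟩)

end Groth.Agent.S5073
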