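import Groth.Statements.S5076
import Mathlib
-- import your own Groth.Agent.* helpers here

set_option autoImplicit false
universe u
open Unram

namespace Groth.Agent.S5076

set_option maxHeartbeats 1600000 in
theorem conductor_not_le (A C : Type u) [CommRing A] [IsLocalRing A]
    [CommRing C] [Algebra A C] [Module.Finite A C] (r : Ideal C) [r.IsMaximal] (u : C)
    (hu₁ : ∀ r' : Ideal C, r'.IsMaximal → r' ≠ r → u ∈ r') (hu₂ : u ∉ r)
    (hu₃ : Subalgebra.toSubmodule (Algebra.adjoin A {algebraMap C (Localization.AtPrime r) u}) ⊔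
        Submodule.restrictScalars A (Ideal.map (algebraMap A (Localization.AtPrime r)) (IsLocalRing.maximalIdeal A)) = ⊤) :
    ∃ a : C, a ∉ r ∧ ∀ c : C, a * c ∈ Algebra.adjoin A ({u} : Set C) := by
  classical
  obtain ⟨B, hBdef⟩ : ∃ B : Subalgebra A C, B = Algebra.adjoin A ({u} : Set C) := ⟨_, rfl⟩
  rw [← hBdef]
  have huB : u ∈ B := by rw [hBdef]; exact Algebra.subset_adjoin (Set.mem_singleton u)
  haveI : Algebra.IsIntegral A C := Algebra.IsIntegral.of_finite A C
  haveI : Algebra.IsIntegral ↥B C := Algebra.IsIntegral.tower_top (R := A)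
  obtain ⟨n, hn⟩ : ∃ n : Ideal ↥B, n = Ideal.comap (algebraMap ↥B C) r := ⟨_, rfl⟩
  have hnmax : n.IsMaximal := by
    rw [hn]; exact Ideal.isMaximal_comap_of_isIntegral_of_isMaximal r
  have := hnmax
  have hmem_n : ∀ b : ↥B, b ∈ n ↔ (b : C) ∈ r := fun b => by rw [hn]; rfl
  have claim1 : ∀ q : Ideal C, q.IsPrime → q.comap (algebraMap ↥B C) = n → q = r := by
    intro q hq hqn
    haveI := hq
    have hqmax : q.IsMaximal := by
      have : (q.comap (algebraMap ↥B C)).IsMaximal := hqn ▸ hnmax
      exact Ideal.isMaximal_of_isIntegral_of_isMaximal_comap q this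
    by_contra hne
    have huq : u ∈ q := hu₁ q hqmax hne
    have : (⟨u, huB⟩ : ↥B) ∈ n := by rw [← hqn]; exact huq
    exact hu₂ ((hmem_n _).mp this)
  have G1 : ∀ s : C, s ∉ r → ∃ c : C, s * c ∈ B ∧ s * c ∉ r := by
    intro s hs
    by_contra hcon
    push Not at hcon
    have hdisj : Disjoint ((Ideal.span {s} : Ideal C) : Set C)
        ((n.primeCompl.map (algebraMap ↥B C : ↥B →* C) : Submonoid C) : Set C) := by
      rw [Set.disjoint_left]
      rintro x hxJ ⟨b, hb, rfl⟩
      obtain ⟨c, hc⟩ := Ideal.mem_span_singleton'.mp hxJ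
      have h1 : s * c ∈ B := by
        rw [mul_comm, hc]; exact b.2
      have h2 := hcon c h1
      apply hb
      rw [SetLike.mem_coe, hmem_n]
      have : (b : C) = s * c := by rw [mul_comm]; exact hc.symm
      rw [this]; exact h2
    obtain ⟨q, hqprime, hJq, hqS⟩ := Ideal.exists_le_prime_disjoint (Ideal.span {s}) _ hdisj
    haveI := hqprime
    have hqn : q.comap (algebraMap ↥B C) ≤ n := by
      intro b hb
      by_contra hbn
      exact Set.disjoint_left.mp hqS hb ⟨b, hbn, rfl⟩
    obtain ⟨Q, hqQ, hQprime, hQn⟩ := Ideal.exists_ideal_over_prime_of_isIntegral n q hqn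
    have := claim1 Q hQprime hQn
    apply hs; rw [← this]; exact hqQ (hJq (Ideal.subset_span rfl))
  obtain ⟨J, hJdef⟩ : ∃ J : Ideal C, J = Ideal.map (algebraMap A C) (IsLocalRing.maximalIdeal A) :=
    ⟨_, rfl⟩
  have stepA1 : ∀ c : C, ∃ s : C, s ∉ r ∧ ∃ b ∈ B, s * (c - b) ∈ J := by
    intro c
    have hc : algebraMap C (Localization.AtPrime r) c ∈
        (⊤ : Submodule A (Localization.AtPrime r)) := trivial
    rw [← hu₃, Submodule.mem_sup] at hc
    obtain ⟨y, hy, z, hz, hyz⟩ := hc
    have hy' : y ∈ (Algebra.adjoin A ({u} : Set C)).map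
        (IsScalarTower.toAlgHom A C (Localization.AtPrime r)) := by
      rw [AlgHom.map_adjoin, Set.image_singleton]; exact hy
    obtain ⟨b, hbB, rfl⟩ := hy'
    have hz' : z ∈ Ideal.map (algebraMap C (Localization.AtPrime r)) J := by
      rw [hJdef, Ideal.map_map, ← IsScalarTower.algebraMap_eq]; exact hz
    obtain ⟨⟨j, s⟩, hjs⟩ := (IsLocalization.mem_map_algebraMap_iff r.primeCompl _).mp hz'
    have e : algebraMap C (Localization.AtPrime r) ((c - b) * s) =
        algebraMap C (Localization.AtPrime r) (j : C) := by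
      have hb' : (IsScalarTower.toAlgHom A C (Localization.AtPrime r)) b =
          algebraMap C (Localization.AtPrime r) b := rfl
      rw [map_mul, map_sub, ← hyz]
      show (algebraMap C (Localization.AtPrime r) b + z - algebraMap C (Localization.AtPrime r) b) *
        algebraMap C (Localization.AtPrime r) (s : C) = algebraMap C (Localization.AtPrime r) (j : C)
      rw [add_sub_cancel_left]
      exact hjs
    obtain ⟨s', hs'⟩ := (IsLocalization.eq_iff_exists r.primeCompl _).mp e
    refine ⟨s' * s, r.primeCompl.mul_mem s'.2 s.2, b, hBdef ▸ hbB, ?_⟩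
    have : ((s' : C) * (s : C)) * (c - b) = s' * j := by rw [← hs']; ring
    rw [this]; exact J.mul_mem_left _ j.2
  have stepA2 : ∀ c : C, ∃ t ∈ B, t ∉ r ∧ ∃ b ∈ B, t * c - b ∈ J := by
    intro c
    obtain ⟨s, hs, b, hb, hJ⟩ := stepA1 c
    obtain ⟨c', hB', hr'⟩ := G1 s hs
    refine ⟨s * c', hB', hr', (s * c') * b, B.mul_mem hB' hb, ?_⟩
    have : s * c' * c - s * c' * b = c' * (s * (c - b)) := by ring
    rw [this]; exact J.mul_mem_left _ hJ
  obtain ⟨G, hG⟩ := (Module.Finite.fg_top : (⊤ : Submodule A C).FG)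
  have stepA3 : ∀ (F : Finset C), ∃ t ∈ B, t ∉ r ∧ ∀ c ∈ F, ∃ b ∈ B, t * c - b ∈ J := by
    intro F
    induction F using Finset.induction_on with
    | empty => exact ⟨1, B.one_mem, (Ideal.ne_top_iff_one r).mp Ideal.IsPrime.ne_top', by simp⟩
    | insert c F hc ih =>
      obtain ⟨t₁, ht₁B, ht₁r, h₁⟩ := ih
      obtain ⟨t₂, ht₂B, ht₂r, b₂, hb₂, hj₂⟩ := stepA2 c
      refine ⟨t₁ * t₂, B.mul_mem ht₁B ht₂B, ?_, ?_⟩
      · exact fun h => (Ideal.IsPrime.mem_or_mem inferInstance h).elim ht₁r ht₂r
      · intro c' hc'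
        rw [Finset.mem_insert] at hc'
        rcases hc' with rfl | hc'
        · refine ⟨t₁ * b₂, B.mul_mem ht₁B hb₂, ?_⟩
          have : t₁ * t₂ * c' - t₁ * b₂ = t₁ * (t₂ * c' - b₂) := by ring
          rw [this]; exact J.mul_mem_left _ hj₂
        · obtain ⟨b, hb, hj⟩ := h₁ c' hc'
          refine ⟨t₂ * b, B.mul_mem ht₂B hb, ?_⟩
          have : t₁ * t₂ * c' - t₂ * b = t₂ * (t₁ * c' - b) := by ring
          rw [this]; exact J.mul_mem_left _ hj
  obtain ⟨t, htB, htr, ht⟩ := stepA3 G
  have stepA4 : ∀ c : C, ∃ b ∈ B, t * c - b ∈ J := by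
    have hT : (Subalgebra.toSubmodule B ⊔ J.restrictScalars A).comap (LinearMap.mulLeft A t) = ⊤ := by
      rw [eq_top_iff, ← hG, Submodule.span_le]
      intro c hc
      obtain ⟨b, hb, hj⟩ := ht c hc
      show t * c ∈ Subalgebra.toSubmodule B ⊔ J.restrictScalars A
      have : t * c = b + (t * c - b) := by ring
      rw [this]; exact Submodule.add_mem_sup hb hj
    intro c
    have hcT : c ∈ (Subalgebra.toSubmodule B ⊔ J.restrictScalars A).comap (LinearMap.mulLeft A t) :=
      hT ▸ Submodule.mem_top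
    obtain ⟨b, hb, j, hj, hbj⟩ := Submodule.mem_sup.mp hcT
    refine ⟨b, hb, ?_⟩
    have : t * c - b = j := by
      have h' : b + j = t * c := hbj
      rw [← h']; ring
    rw [this]; exact hj
  -- Step B
  obtain ⟨t', ht'⟩ : ∃ t' : ↥B, (t' : C) = t := ⟨⟨t, htB⟩, rfl⟩
  obtain ⟨I, hIdef⟩ : ∃ I : Ideal ↥B, I = Ideal.map (algebraMap A ↥B) (IsLocalRing.maximalIdeal A) :=
    ⟨_, rfl⟩
  obtain ⟨P, hPdef⟩ : ∃ P : Submodule ↥B C, P = LinearMap.range (Algebra.linearMap ↥B C) := ⟨_, rfl⟩
  have hPmem : ∀ x : C, x ∈ P ↔ x ∈ B := by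
    intro x; rw [hPdef]
    constructor
    · rintro ⟨b, rfl⟩; exact b.2
    · intro hx; exact ⟨⟨x, hx⟩, rfl⟩
  haveI : Module.Finite ↥B C := Module.Finite.of_restrictScalars_finite A ↥B C
  have hsmul : ∀ (b : ↥B) (c : C), b • c = (b : C) * c := fun b c => rfl
  have hf : LinearMap.range (algebraMap ↥B (Module.End ↥B (C ⧸ P)) t') ≤
      I • (⊤ : Submodule ↥B (C ⧸ P)) := by
    rintro _ ⟨x, rfl⟩
    obtain ⟨c, rfl⟩ := P.mkQ_surjective x
    obtain ⟨b, hb, hj⟩ := stepA4 c
    have h1 : (algebraMap ↥B (Module.End ↥B (C ⧸ P)) t') (P.mkQ c) = P.mkQ (t * c - b) := by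
      rw [map_sub]
      have : P.mkQ b = 0 := by
        rw [Submodule.mkQ_apply, Submodule.Quotient.mk_eq_zero, hPmem]; exact hb
      rw [this, sub_zero, Module.algebraMap_end_apply, ← map_smul, hsmul, ht']
    rw [h1]
    have hJ' : ∀ j ∈ (IsLocalRing.maximalIdeal A • ⊤ : Submodule A C),
        P.mkQ j ∈ I • (⊤ : Submodule ↥B (C ⧸ P)) := by
      intro j hj
      refine Submodule.smul_induction_on hj ?_ ?_
      · intro μ hμ c _
        have : P.mkQ (μ • c) = (algebraMap A ↥B μ) • P.mkQ c := by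
          rw [← map_smul, algebraMap_smul]
        rw [this, hIdef]
        exact Submodule.smul_mem_smul (Ideal.mem_map_of_mem _ hμ) Submodule.mem_top
      · intro x y hx hy
        rw [map_add]; exact Submodule.add_mem _ hx hy
    apply hJ'
    rw [Ideal.smul_top_eq_map, ← hJdef]; exact hj
  obtain ⟨p, hmonic, -, hcoeff, hp0⟩ :=
    LinearMap.exists_monic_and_natDegree_eq_and_coeff_mem_pow_and_aeval_eq_zero
      (R := ↥B) (f := algebraMap ↥B (Module.End ↥B (C ⧸ P)) t') (I := I) hf
  obtain ⟨a, hadef⟩ : ∃ a : ↥B, a = Polynomial.eval t' p := ⟨_, rfl⟩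
  have ha0 : ∀ c : C, (a : C) * c ∈ B := by
    intro c
    have h2 : algebraMap ↥B (Module.End ↥B (C ⧸ P)) a = 0 := by
      have : algebraMap ↥B (Module.End ↥B (C ⧸ P)) a =
          Polynomial.aeval (algebraMap ↥B (Module.End ↥B (C ⧸ P)) t') p := by
        rw [hadef]; exact (Polynomial.aeval_algebraMap_apply_eq_algebraMap_eval t' p).symm
      exact this.trans hp0
    have h1 : a • P.mkQ c = 0 := by
      have h3 := LinearMap.congr_fun h2 (P.mkQ c)
      rwa [Module.algebraMap_end_apply, LinearMap.zero_apply] at h3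
    rw [← map_smul, Submodule.mkQ_apply,
      Submodule.Quotient.mk_eq_zero, hPmem, hsmul] at h1
    exact h1
  have hI_le : I ≤ n := by
    rw [hIdef, Ideal.map_le_iff_le_comap]
    intro μ hμ
    have hcomax : (r.comap (algebraMap A C)).IsMaximal :=
      Ideal.isMaximal_comap_of_isIntegral_of_isMaximal r
    have h3 := IsLocalRing.eq_maximalIdeal hcomax
    rw [Ideal.mem_comap, hmem_n]
    have h2 : μ ∈ r.comap (algebraMap A C) := h3 ▸ hμ
    exact h2
  have han : (a : C) ∉ r := by
    intro har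
    have han : a ∈ n := (hmem_n a).mpr har
    have hsum : a = ∑ i ∈ Finset.range p.natDegree, p.coeff i * t' ^ i + t' ^ p.natDegree := by
      rw [hadef, Polynomial.eval_eq_sum_range, Finset.sum_range_succ, hmonic.coeff_natDegree,
        one_mul]
    have hlow : ∑ i ∈ Finset.range p.natDegree, p.coeff i * t' ^ i ∈ n := by
      refine Ideal.sum_mem _ fun i hi => ?_
      apply Ideal.mul_mem_right
      apply hI_le
      have hk := hcoeff i
      have : 1 ≤ p.natDegree - i := by have := Finset.mem_range.mp hi; omega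
      exact Ideal.pow_le_self (by omega) hk
    have hpow : t' ^ p.natDegree ∈ n := by
      have := n.sub_mem han hlow
      rwa [hsum, add_sub_cancel_left] at this
    have := hnmax.isPrime.mem_of_pow_mem _ hpow
    rw [hmem_n, ht'] at this
    exact htr this
  exact ⟨a, han, ha0⟩

/-- Let A be a local ring with maximal ideal m, C a finite A-algebra, r a maximal ideal of C, and u an
element of C which lies in every maximal ideal of C other than r, does not lie in r, and whose image
generates C_r modulo m C_r as an A-algebra. Let B = A[u] be the A-subalgebra of C generated by u and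
n the inverse image of r in B. Then the canonical homomorphism B_n → C_r is bijective. -/
theorem result (A C : Type u) [CommRing A] [IsLocalRing A]
    [CommRing C] [Algebra A C] [Module.Finite A C] (r : Ideal C) [r.IsMaximal] (u : C)
    (hu₁ : ∀ r' : Ideal C, r'.IsMaximal → r' ≠ r → u ∈ r') (hu₂ : u ∉ r)
    (hu₃ : Subalgebra.toSubmodule (Algebra.adjoin A {algebraMap C (Localization.AtPrime r) u}) ⊔
        Submodule.restrictScalars A (Ideal.map (algebraMap A (Localization.AtPrime r)) (IsLocalRing.maximalIdeal A)) = ⊤) :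
    Function.Bijective (Localization.localRingHom (Ideal.comap (Algebra.adjoin A ({u} : Set C)).val.toRingHom r) r
      (Algebra.adjoin A ({u} : Set C)).val.toRingHom rfl) := by
  obtain ⟨a, har, ha⟩ := conductor_not_le A C r u hu₁ hu₂ hu₃
  have hx : ¬ conductor A u ≤ r := fun h => har (h ((mem_conductor_iff).mpr ha))
  have : (Ideal.comap (Algebra.adjoin A ({u} : Set C)).val.toRingHom r).IsPrime :=
    Ideal.comap_isPrime _ _
  have : r.LiesOver (Ideal.comap (Algebra.adjoin A ({u} : Set C)).val.toRingHom r) := ⟨rfl⟩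
  exact Localization.localRingHom_bijective_of_not_conductor_le hx rfl _

end Groth.Agent.S5076
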