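import Groth.Statements.S5077
import Mathlib
-- import your own Groth.Agent.* helpers here

set_option autoImplicit false
universe u
open Unram

namespace Groth.Agent.S5077

/-- span of `1, u, …, u^(j-1)` -/
def Pspan {A B : Type*} [CommRing A] [CommRing B] [Algebra A B] (u : B) (j : ℕ) : Submodule A B :=
  Submodule.span A (Set.range (fun i : Fin j => u ^ (i : ℕ)))

theorem pow_mem_Pspan {A B : Type*} [CommRing A] [CommRing B] [Algebra A B] (u : B) {i j : ℕ}
    (h : i < j) : u ^ i ∈ Pspan (A := A) u j :=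
  Submodule.subset_span ⟨⟨i, h⟩, rfl⟩

/-- Let A be a local ring and B a finite A-algebra generated by a single element u. Then there is a
monic polynomial F with coefficients in A such that F(u) = 0 and F'(u) does not belong to any
maximal ideal n of B at which B is unramified over A. -/
theorem result (A B : Type u) [CommRing A] [IsLocalRing A]
    [CommRing B] [Algebra A B] [Module.Finite A B] (u : B) (hu : Algebra.adjoin A ({u} : Set B) = ⊤) :
    ∃ F : Polynomial A, F.Monic ∧ Polynomial.aeval u F = 0 ∧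
      ∀ (n : Ideal B) [n.IsMaximal], Algebra.IsUnramifiedAt A n → Polynomial.aeval u (Polynomial.derivative F) ∉ n := by
  classical
  obtain ⟨m, hm⟩ : ∃ m : Ideal A, m = IsLocalRing.maximalIdeal A := ⟨_, rfl⟩
  have hmjac : m ≤ Ideal.jacobson ⊥ := hm ▸ IsLocalRing.maximalIdeal_le_jacobson _
  have hunit_of : ∀ a : A, a ∉ m → IsUnit a := by
    intro a ha
    by_contra h
    exact ha (hm ▸ (IsLocalRing.mem_maximalIdeal _).mpr h)
  -- powers of u span B
  have hπsurj : Function.Surjective (Polynomial.aeval u : Polynomial A →ₐ[A] B) := by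
    intro b
    have hb : b ∈ Algebra.adjoin A ({u} : Set B) := by rw [hu]; trivial
    rw [Algebra.adjoin_singleton_eq_range_aeval] at hb
    exact (AlgHom.mem_range _).mp hb
  have hpowtop : ∀ Q : Submodule A B, (∀ i, u ^ i ∈ Q) → Q = ⊤ := by
    intro Q hQ
    rw [eq_top_iff]
    intro b hb0
    clear hb0
    obtain ⟨p, rfl⟩ := hπsurj b
    rw [Polynomial.aeval_eq_sum_range]
    exact Submodule.sum_mem _ (fun i _ => Submodule.smul_mem _ _ (hQ i))
  have claim1 : ∀ j : ℕ, u ^ j ∈ Pspan (A := A) u j ⊔ m • (⊤ : Submodule A B) →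
      Pspan (A := A) u j = ⊤ := by
    intro j hj
    have hstable : ∀ b ∈ Pspan (A := A) u j ⊔ m • (⊤ : Submodule A B),
        u * b ∈ Pspan (A := A) u j ⊔ m • (⊤ : Submodule A B) := by
      intro b hb
      obtain ⟨p, hp, q, hq, rfl⟩ := Submodule.mem_sup.mp hb
      clear hb
      rw [mul_add]
      refine add_mem ?_ ?_
      · unfold Pspan at hp
        induction hp using Submodule.span_induction with
        | mem x hx =>
          obtain ⟨i, rfl⟩ := hx
          rw [← pow_succ']
          by_cases hi : (i : ℕ) + 1 < j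
          · exact Submodule.mem_sup_left (pow_mem_Pspan u hi)
          · have h0 : (i : ℕ) + 1 = j := by have := i.2; omega
            rw [h0]; exact hj
        | zero => rw [mul_zero]; exact zero_mem _
        | add x y _ _ hx hy => rw [mul_add]; exact add_mem hx hy
        | smul a x _ hx => rw [mul_smul_comm]; exact Submodule.smul_mem _ a hx
      · refine Submodule.mem_sup_right ?_
        refine Submodule.smul_induction_on hq (fun a ha b' _ => ?_) (fun x y hx hy => ?_)
        · rw [mul_smul_comm]; exact Submodule.smul_mem_smul ha Submodule.mem_top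
        · rw [mul_add]; exact add_mem hx hy
    have hpow' : ∀ t, u ^ (j + t) ∈ Pspan (A := A) u j ⊔ m • (⊤ : Submodule A B) := by
      intro t
      induction t with
      | zero => simpa using hj
      | succ t ih => rw [← add_assoc, pow_succ']; exact hstable _ ih
    have hpow : ∀ i, u ^ i ∈ Pspan (A := A) u j ⊔ m • (⊤ : Submodule A B) := by
      intro i
      by_cases hi : i < j
      · exact Submodule.mem_sup_left (pow_mem_Pspan u hi)
      · obtain ⟨t, rfl⟩ := Nat.exists_eq_add_of_le (not_lt.mp hi)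
        exact hpow' t
    have htop := hpowtop _ hpow
    have h0 : (⊤ : Submodule A B) ≤ Pspan (A := A) u j := by
      apply Submodule.le_of_le_smul_of_le_jacobson_bot (I := m) Module.Finite.fg_top hmjac
      rw [htop]
    exact eq_top_iff.mpr h0
  have hex : ∃ j, u ^ j ∈ Pspan (A := A) u j := by
    obtain ⟨p, hpm, hp⟩ := IsIntegral.of_finite A u
    refine ⟨p.natDegree, ?_⟩
    have h1 : Polynomial.aeval u p = 0 := hp
    rw [Polynomial.aeval_eq_sum_range, Finset.sum_range_succ, hpm.coeff_natDegree, one_smul] at h1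
    have h2 : u ^ p.natDegree = - ∑ i ∈ Finset.range p.natDegree, p.coeff i • u ^ i :=
      eq_neg_of_add_eq_zero_right h1
    rw [h2]
    exact neg_mem (Submodule.sum_mem _ (fun i hi => Submodule.smul_mem _ _
      (pow_mem_Pspan u (Finset.mem_range.mp hi))))
  obtain ⟨n, hn, hmin⟩ : ∃ n, u ^ n ∈ Pspan (A := A) u n ∧
      ∀ j < n, u ^ j ∉ Pspan (A := A) u j :=
    ⟨Nat.find hex, Nat.find_spec hex, fun j hj => Nat.find_min hex hj⟩
  obtain ⟨c, hc⟩ := (Submodule.mem_span_range_iff_exists_fun A).mp hn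
  obtain ⟨F, hFdef⟩ : ∃ F : Polynomial A, F = Polynomial.X ^ n +
      ∑ i : Fin n, Polynomial.C (- c i) * Polynomial.X ^ (i : ℕ) := ⟨_, rfl⟩
  have hFm : F.Monic := hFdef ▸ Polynomial.monic_X_pow_add (Polynomial.degree_sum_fin_lt _)
  have hFnat : F.natDegree = n := by
    rw [hFdef]
    apply Polynomial.natDegree_eq_of_degree_eq_some
    rw [Polynomial.degree_add_eq_left_of_degree_lt, Polynomial.degree_X_pow]
    rw [Polynomial.degree_X_pow]; exact Polynomial.degree_sum_fin_lt _
  have hFu : Polynomial.aeval u F = 0 := by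
    rw [hFdef]
    simp only [map_add, map_pow, Polynomial.aeval_X, map_sum, map_mul, Polynomial.aeval_C, map_neg]
    rw [← hc]
    simp [Algebra.smul_def]
  refine ⟨F, hFm, hFu, ?_⟩
  intro 𝔫 h𝔫 hun hF'
  haveI : Nontrivial B :=
    ⟨⟨0, 1, fun h => h𝔫.ne_top ((Ideal.eq_top_iff_one _).mpr (h ▸ zero_mem _))⟩⟩
  have hcomap : 𝔫.comap (algebraMap A B) = m := by
    haveI : Algebra.IsIntegral A B := Algebra.IsIntegral.of_finite A B
    have h0 := Ideal.isMaximal_comap_of_isIntegral_of_isMaximal (R := A) 𝔫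
    rw [hm]
    exact IsLocalRing.eq_maximalIdeal h0
  have hm𝔫 : ∀ a ∈ m, algebraMap A B a ∈ 𝔫 := fun a ha => by
    have h0 : a ∈ 𝔫.comap (algebraMap A B) := hcomap ▸ ha
    exact h0
  have hcoef𝔫 : ∀ P : Polynomial A, (∀ i, P.coeff i ∈ m) → Polynomial.aeval u P ∈ 𝔫 := by
    intro P hP
    rw [Polynomial.aeval_eq_sum_range]
    refine Ideal.sum_mem _ (fun i _ => ?_)
    rw [Algebra.smul_def]
    exact Ideal.mul_mem_right _ _ (hm𝔫 _ (hP i))
  have L : ∀ j ≤ n, ∀ e : ℕ → A, (∑ i ∈ Finset.range j, e i • u ^ i) ∈ m • (⊤ : Submodule A B) →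
      ∀ i < j, e i ∈ m := by
    intro j
    induction j with
    | zero => intro _ e _ i hi; exact absurd hi (Nat.not_lt_zero i)
    | succ j ih =>
      intro hj e he i hi
      rw [Finset.sum_range_succ] at he
      have hsum : ∑ i ∈ Finset.range j, e i • u ^ i ∈ Pspan (A := A) u j :=
        Submodule.sum_mem _ (fun i hi => Submodule.smul_mem _ _
          (pow_mem_Pspan u (Finset.mem_range.mp hi)))
      have hej : e j ∈ m := by
        by_contra hnot
        obtain ⟨v, hv⟩ := hunit_of _ hnot
        have h1 : e j • u ^ j ∈ Pspan (A := A) u j ⊔ m • (⊤ : Submodule A B) := by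
          have h0 : e j • u ^ j = (∑ i ∈ Finset.range j, e i • u ^ i + e j • u ^ j) -
              ∑ i ∈ Finset.range j, e i • u ^ i := by abel
          rw [h0]
          exact sub_mem (Submodule.mem_sup_right he) (Submodule.mem_sup_left hsum)
        have h2 : u ^ j ∈ Pspan (A := A) u j ⊔ m • (⊤ : Submodule A B) := by
          have h0 : u ^ j = (↑v⁻¹ : A) • (e j • u ^ j) := by
            rw [smul_smul, ← hv, Units.inv_mul, one_smul]
          rw [h0]; exact Submodule.smul_mem _ _ h1
        have h3 := claim1 j h2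
        exact hmin j (by omega) (h3 ▸ Submodule.mem_top)
      rcases Nat.lt_succ_iff_lt_or_eq.mp hi with hlt | hij
      · refine ih (by omega) e ?_ i hlt
        have h0 : ∑ i ∈ Finset.range j, e i • u ^ i =
            (∑ i ∈ Finset.range j, e i • u ^ i + e j • u ^ j) - e j • u ^ j := by abel
        rw [h0]
        exact sub_mem he (Submodule.smul_mem_smul hej Submodule.mem_top)
      · rw [hij]; exact hej
  have hn1 : F ≠ 1 := by
    intro h
    rw [h, Polynomial.natDegree_one] at hFnat
    have h0 : u ^ n ∈ Pspan (A := A) u n := hn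
    rw [← hFnat] at h0
    have hP0 : Pspan (A := A) u 0 = ⊥ := by simp [Pspan]
    rw [hP0, pow_zero] at h0
    exact one_ne_zero ((Submodule.mem_bot A).mp h0)
  have claim3 : ∀ G : Polynomial A, Polynomial.aeval u G = 0 →
      Polynomial.aeval u (Polynomial.derivative G) ∈ 𝔫 := by
    intro G hG
    have hdiv := Polynomial.modByMonic_add_div G F
    obtain ⟨E, hE⟩ : ∃ E, E = G %ₘ F := ⟨_, rfl⟩
    obtain ⟨H, hH⟩ : ∃ H, H = G /ₘ F := ⟨_, rfl⟩
    rw [← hE, ← hH] at hdiv
    have hEu : Polynomial.aeval u E = 0 := by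
      have h0 := congrArg (Polynomial.aeval u) hdiv
      rw [map_add, map_mul, hFu, zero_mul, add_zero, hG] at h0
      exact h0
    have hEdeg : E.natDegree < n := by
      have h0 := Polynomial.natDegree_modByMonic_lt G hFm hn1
      rwa [hFnat, ← hE] at h0
    have hEcoef : ∀ i, E.coeff i ∈ m := by
      intro i
      by_cases hi : i < n
      · refine L n le_rfl (fun i => E.coeff i) ?_ i hi
        rw [← Polynomial.aeval_eq_sum_range' hEdeg, hEu]; exact zero_mem _
      · rw [Polynomial.coeff_eq_zero_of_natDegree_lt (by omega)]; exact zero_mem _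
    have hE' : Polynomial.aeval u (Polynomial.derivative E) ∈ 𝔫 := by
      apply hcoef𝔫
      intro i
      rw [Polynomial.coeff_derivative]
      exact Ideal.mul_mem_right _ _ (hEcoef _)
    rw [← hdiv, Polynomial.derivative_add, Polynomial.derivative_mul, map_add, map_add, map_mul,
      map_mul, hFu, zero_mul, add_zero]
    exact Ideal.add_mem _ hE' (Ideal.mul_mem_right _ _ hF')
  -- the derivation
  obtain ⟨D₀, hD₀⟩ : ∃ D₀ : B →ₗ[A] B ⧸ 𝔫, ∀ p : Polynomial A,
      D₀ (Polynomial.aeval u p) =
        Ideal.Quotient.mk 𝔫 (Polynomial.aeval u (Polynomial.derivative p)) := by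
    let π : Polynomial A →ₗ[A] B := (Polynomial.aeval u : Polynomial A →ₐ[A] B).toLinearMap
    have hπ : Function.Surjective π := hπsurj
    let φ : Polynomial A →ₗ[A] B ⧸ 𝔫 := (Ideal.Quotient.mkₐ A 𝔫).toLinearMap ∘ₗ
      (Polynomial.aeval u : Polynomial A →ₐ[A] B).toLinearMap ∘ₗ
      (Polynomial.derivative : Polynomial A →ₗ[A] Polynomial A)
    have hker : LinearMap.ker π ≤ LinearMap.ker φ := by
      intro G hG
      rw [LinearMap.mem_ker] at hG ⊢
      change Ideal.Quotient.mk 𝔫 (Polynomial.aeval u (Polynomial.derivative G)) = 0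
      rw [Ideal.Quotient.eq_zero_iff_mem]
      exact claim3 G hG
    refine ⟨((LinearMap.ker π).liftQ φ hker) ∘ₗ
      (π.quotKerEquivOfSurjective hπ).symm.toLinearMap, fun p => ?_⟩
    have h1 : (π.quotKerEquivOfSurjective hπ).symm (Polynomial.aeval u p) =
        Submodule.Quotient.mk p := by
      rw [LinearEquiv.symm_apply_eq]
      exact (LinearMap.quotKerEquivOfSurjective_apply_mk π hπ p).symm
    rw [LinearMap.comp_apply, LinearEquiv.coe_coe, h1, Submodule.liftQ_apply]
    rfl
  have hleib : ∀ b c : B, D₀ (b * c) = b • D₀ c + c • D₀ b := by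
    intro b c
    obtain ⟨p, rfl⟩ := hπsurj b
    obtain ⟨q, rfl⟩ := hπsurj c
    rw [← map_mul, hD₀, hD₀, hD₀, Polynomial.derivative_mul]
    simp only [map_add, map_mul, Algebra.smul_def, Ideal.Quotient.algebraMap_eq]
    ring
  obtain ⟨D, hD⟩ : ∃ D : Derivation A B (B ⧸ 𝔫), ∀ b, D b = D₀ b :=
    ⟨Derivation.mk' D₀ hleib, fun b => rfl⟩
  have hDu : D u = 1 := by
    have h0 := hD₀ Polynomial.X
    rw [Polynomial.aeval_X, Polynomial.derivative_X, map_one, map_one] at h0
    rw [hD]; exact h0
  have hsupp : (⟨𝔫, h𝔫.isPrime⟩ : PrimeSpectrum B) ∉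
      Module.support B (KaehlerDifferential A B) := by
    have hmem : (⟨𝔫, h𝔫.isPrime⟩ : PrimeSpectrum B) ∈ Algebra.unramifiedLocus A B := hun
    rw [Algebra.unramifiedLocus_eq_compl_support] at hmem
    exact hmem
  obtain ⟨r, hr, hr0⟩ := Module.notMem_support_iff'.mp hsupp (KaehlerDifferential.D A B u)
  have h1 : D.liftKaehlerDifferential (r • KaehlerDifferential.D A B u) = 0 := by
    rw [hr0, map_zero]
  rw [map_smul, Derivation.liftKaehlerDifferential_comp_D, hDu, Algebra.smul_def, mul_one,
    Ideal.Quotient.algebraMap_eq, Ideal.Quotient.eq_zero_iff_mem] at h1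
  exact hr h1

end Groth.Agent.S5077
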