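import Groth.Statements.S5078
import Mathlib.RingTheory.Finiteness.Projective
import Mathlib.LinearAlgebra.SModEq.Basic
import Mathlib.LinearAlgebra.Pi

set_option autoImplicit false
universe u v
open Hensel

namespace Groth.Agent.S5078

theorem map_pow_smul_top_le {A : Type*} [CommRing A] (I : Ideal A) {M N : Type*}
    [AddCommGroup M] [Module A M] [AddCommGroup N] [Module A N] (g : M →ₗ[A] N) (n : ℕ) :
    (I ^ n • (⊤ : Submodule A M)).map g ≤ I ^ n • (⊤ : Submodule A N) := by
  rw [Submodule.map_smul'']
  exact Submodule.smul_mono le_rfl le_top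

theorem map_smodEq {A : Type*} [CommRing A] (I : Ideal A) {M N : Type*}
    [AddCommGroup M] [Module A M] [AddCommGroup N] [Module A N] (g : M →ₗ[A] N) (n : ℕ)
    (x y : M) (h : x ≡ y [SMOD (I ^ n • ⊤ : Submodule A M)]) :
    g x ≡ g y [SMOD (I ^ n • ⊤ : Submodule A N)] := by
  have h1 := h.map g
  have h2 := map_pow_smul_top_le I g n
  exact h1.mono h2

theorem of_retract {A : Type*} [CommRing A] (I : Ideal A) {M N : Type*}
    [AddCommGroup M] [Module A M] [AddCommGroup N] [Module A N] [IsAdicComplete I N]
    (i : M →ₗ[A] N) (p : N →ₗ[A] M) (hpi : p ∘ₗ i = LinearMap.id) : IsAdicComplete I M where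
  haus' x hx := by
    have h0 : i x = 0 := by
      apply IsHausdorff.haus' (I := I) (i x)
      intro n
      have := map_smodEq I i n x 0 (hx n)
      rwa [map_zero] at this
    have : p (i x) = x := LinearMap.congr_fun hpi x
    rw [← this, h0, map_zero]
  prec' f hf := by
    obtain ⟨L, hL⟩ := IsPrecomplete.prec' (I := I) (fun n => i (f n))
      (fun {m n} hmn => map_smodEq I i m _ _ (hf hmn))
    refine ⟨p L, fun n => ?_⟩
    have := map_smodEq I p n _ _ (hL n)
    have h2 : p (i (f n)) = f n := LinearMap.congr_fun hpi (f n)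
    rwa [h2] at this

theorem mem_pow_smul_top_pi {A : Type*} [CommRing A] (I : Ideal A) {ι : Type*} [Fintype ι]
    [DecidableEq ι] (n : ℕ) (y : ι → A) (hy : ∀ j, y j ∈ I ^ n) :
    y ∈ I ^ n • (⊤ : Submodule A (ι → A)) := by
  have : y = ∑ j, (y j) • (Pi.single j (1 : A) : ι → A) := by
    ext k
    simp [Finset.sum_apply, Pi.single_apply]
  rw [this]
  exact Submodule.sum_mem _ fun j _ => Submodule.smul_mem_smul (hy j) Submodule.mem_top

theorem pow_smul_top_ring {A : Type*} [CommRing A] (I : Ideal A) (n : ℕ) :
    (I ^ n • (⊤ : Submodule A A)) = I ^ n := by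
  simp

theorem proj_smodEq {A : Type*} [CommRing A] (I : Ideal A) {ι : Type*} (n : ℕ) (x y : ι → A)
    (h : x ≡ y [SMOD (I ^ n • ⊤ : Submodule A (ι → A))]) (j : ι) :
    x j ≡ y j [SMOD (I ^ n • ⊤ : Submodule A A)] :=
  map_smodEq I (LinearMap.proj j : (ι → A) →ₗ[A] A) n x y h

theorem pi_complete {A : Type*} [CommRing A] (I : Ideal A) [IsAdicComplete I A]
    {ι : Type*} [Fintype ι] [DecidableEq ι] : IsAdicComplete I (ι → A) where
  haus' x hx := by
    funext j
    apply IsHausdorff.haus' (I := I) (x j)
    intro n
    exact proj_smodEq I n x 0 (hx n) j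
  prec' f hf := by
    have hex : ∀ j, ∃ L : A, ∀ n, f n j ≡ L [SMOD (I ^ n • ⊤ : Submodule A A)] := by
      intro j
      apply IsPrecomplete.prec' (I := I) (fun n => f n j)
      intro m n hmn
      exact proj_smodEq I m _ _ (hf hmn) j
    choose L hL using hex
    refine ⟨L, fun n => ?_⟩
    rw [SModEq.sub_mem]
    apply mem_pow_smul_top_pi
    intro j
    have := hL j n
    rw [SModEq.sub_mem, pow_smul_top_ring] at this
    simpa using this

/-- Let A be a ring, I an ideal such that A is I-adically separated and complete, and M a finitely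
generated projective A-module. Then M is I-adically separated and complete. -/
theorem result {A : Type u} [CommRing A] (I : Ideal A) [IsAdicComplete I A]
    (M : Type v) [AddCommGroup M] [Module A M] [Module.Finite A M] [Module.Projective A M] :
    IsAdicComplete I M := by
  classical
  obtain ⟨n, f, g, -, -, hfg⟩ := Module.Finite.exists_comp_eq_id_of_projective A M
  have : IsAdicComplete I (Fin n → A) := pi_complete I
  exact of_retract I g f hfg

end Groth.Agent.S5078
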