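import Groth.Statements.S5081
import Mathlib.RingTheory.Kaehler.Basic
import Mathlib.RingTheory.Adjoin.Polynomial.Basic
import Mathlib.LinearAlgebra.Isomorphisms
import Mathlib.Algebra.Polynomial.Derivation

set_option autoImplicit false
universe u
open Unram

namespace Groth.Agent.S5081

open Polynomial

theorem aeval_surj (A B : Type u) [CommRing A] [CommRing B] [Algebra A B] (u : B)
    (hu : Algebra.adjoin A ({u} : Set B) = ⊤) :
    Function.Surjective (Polynomial.aeval u : Polynomial A →ₐ[A] B) := by
  rw [← AlgHom.range_eq_top, ← Algebra.adjoin_singleton_eq_range_aeval, hu]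

theorem part1 (A B : Type u) [CommRing A] [CommRing B] [Algebra A B] (u : B)
    (hu : Algebra.adjoin A ({u} : Set B) = ⊤) (F : Polynomial A) (hF : Polynomial.aeval u F = 0) :
    Ideal.span {Polynomial.aeval u (Polynomial.derivative F)} ≤
      Module.annihilator B (KaehlerDifferential A B) := by
  rw [Ideal.span_le, Set.singleton_subset_iff]
  show _ ∈ Module.annihilator B (KaehlerDifferential A B)
  rw [Module.mem_annihilator]
  intro ω
  have hω : ω ∈ Submodule.span B (Set.range (KaehlerDifferential.D A B)) := by
    rw [KaehlerDifferential.span_range_derivation]; trivial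
  induction hω using Submodule.span_induction with
  | mem x hx =>
    obtain ⟨b, rfl⟩ := hx
    obtain ⟨G, rfl⟩ := aeval_surj A B u hu b
    rw [Derivation.map_aeval, smul_smul, mul_comm, ← smul_smul, ← Derivation.map_aeval, hF,
      map_zero, smul_zero]
  | zero => simp
  | add x y _ _ hx hy => rw [smul_add, hx, hy, add_zero]
  | smul a x _ hx => rw [smul_comm, hx, smul_zero]



section
variable (A B : Type u) [CommRing A] [CommRing B] [Algebra A B] (u : B) (F : Polynomial A)

/-- the `A`-linear map `G ↦ G'(u) mod F'(u)`. -/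
noncomputable def L0 : A[X] →ₗ[A] (B ⧸ Ideal.span {aeval u (derivative F)}) :=
  ((Ideal.Quotient.mkₐ A (Ideal.span {aeval u (derivative F)})).toLinearMap ∘ₗ
    (aeval u : A[X] →ₐ[A] B).toLinearMap) ∘ₗ (derivative : A[X] →ₗ[A] A[X])

theorem L0_apply (G : A[X]) :
    L0 A B u F G = Ideal.Quotient.mk (Ideal.span {aeval u (derivative F)})
      (aeval u (derivative G)) := rfl

theorem L0_ker (hF : aeval u F = 0)
    (hker : RingHom.ker (aeval u : A[X] →ₐ[A] B) = Ideal.span {F}) :
    LinearMap.ker (aeval u : A[X] →ₐ[A] B).toLinearMap ≤ LinearMap.ker (L0 A B u F) := by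
  intro G hG
  have hG' : G ∈ RingHom.ker (aeval u : A[X] →ₐ[A] B) := hG
  rw [hker, Ideal.mem_span_singleton] at hG'
  obtain ⟨H, rfl⟩ := hG'
  rw [LinearMap.mem_ker, L0_apply, Ideal.Quotient.eq_zero_iff_mem, derivative_mul, map_add,
    map_mul, map_mul, hF, zero_mul, add_zero]
  exact Ideal.mul_mem_right _ _ (Ideal.subset_span rfl)

end

section
variable (A B : Type u) [CommRing A] [CommRing B] [Algebra A B] (u : B) (F : Polynomial A)

noncomputable def L1 (hsurj : Function.Surjective (aeval u : A[X] →ₐ[A] B)) (hF : aeval u F = 0)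
    (hker : RingHom.ker (aeval u : A[X] →ₐ[A] B) = Ideal.span {F}) :
    B →ₗ[A] (B ⧸ Ideal.span {aeval u (derivative F)}) :=
  (Submodule.liftQ _ (L0 A B u F) (L0_ker A B u F hF hker)) ∘ₗ
    ((aeval u : A[X] →ₐ[A] B).toLinearMap.quotKerEquivOfSurjective hsurj).symm.toLinearMap

theorem L1_apply (hsurj : Function.Surjective (aeval u : A[X] →ₐ[A] B)) (hF : aeval u F = 0)
    (hker : RingHom.ker (aeval u : A[X] →ₐ[A] B) = Ideal.span {F}) (G : A[X]) :
    L1 A B u F hsurj hF hker (aeval u G) =
      Ideal.Quotient.mk (Ideal.span {aeval u (derivative F)}) (aeval u (derivative G)) := by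
  unfold L1
  rw [LinearMap.comp_apply]
  have : ((aeval u : A[X] →ₐ[A] B).toLinearMap.quotKerEquivOfSurjective hsurj).symm.toLinearMap
      (aeval u G) = Submodule.Quotient.mk G :=
    LinearMap.quotKerEquivOfSurjective_symm_apply _ hsurj G
  rw [this, Submodule.liftQ_apply, L0_apply]

noncomputable def Dv (hsurj : Function.Surjective (aeval u : A[X] →ₐ[A] B)) (hF : aeval u F = 0)
    (hker : RingHom.ker (aeval u : A[X] →ₐ[A] B) = Ideal.span {F}) :
    Derivation A B (B ⧸ Ideal.span {aeval u (derivative F)}) where
  toLinearMap := L1 A B u F hsurj hF hker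
  map_one_eq_zero' := by
    have : (1 : B) = aeval u (1 : A[X]) := by simp
    rw [this, L1_apply]
    simp
  leibniz' a b := by
    obtain ⟨G, rfl⟩ := hsurj a
    obtain ⟨H, rfl⟩ := hsurj b
    rw [← map_mul, L1_apply, L1_apply, L1_apply, derivative_mul, map_add, map_mul, map_mul,
      map_add, map_mul, map_mul]
    simp only [Algebra.smul_def, Ideal.Quotient.algebraMap_eq]
    ring

end


theorem part2 (A B : Type u) [CommRing A] [CommRing B] [Algebra A B] (u : B)
    (hu : Algebra.adjoin A ({u} : Set B) = ⊤) (F : Polynomial A) (hF : Polynomial.aeval u F = 0)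
    (hker : RingHom.ker (Polynomial.aeval u : Polynomial A →ₐ[A] B) = Ideal.span {F}) :
    Module.annihilator B (KaehlerDifferential A B) ≤
      Ideal.span {Polynomial.aeval u (Polynomial.derivative F)} := by
  intro b hb
  rw [Module.mem_annihilator] at hb
  have hsurj := aeval_surj A B u hu
  have h1 := hb (KaehlerDifferential.D A B u)
  have h2 := congrArg (Dv A B u F hsurj hF hker).liftKaehlerDifferential h1
  rw [map_smul, Derivation.liftKaehlerDifferential_comp_D, map_zero] at h2
  have h3 : Dv A B u F hsurj hF hker u = 1 := by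
    have h4 := L1_apply A B u F hsurj hF hker X
    rw [aeval_X] at h4
    show L1 A B u F hsurj hF hker u = 1
    rw [h4]
    simp
  rw [h3, Algebra.smul_def, mul_one, Ideal.Quotient.algebraMap_eq,
    Ideal.Quotient.eq_zero_iff_mem] at h2
  exact h2

/-- Let B be a finite A-algebra generated by a single element u and F a polynomial with coefficients in
A such that F(u) = 0. Then the ideal generated by F'(u) is contained in the annihilator of the
module of differentials of B over A, and equals it when the kernel of the surjection A[T] → B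
sending T to u is generated by F. -/
theorem result (A B : Type u) [CommRing A] [CommRing B] [Algebra A B]
    [Module.Finite A B] (u : B) (hu : Algebra.adjoin A ({u} : Set B) = ⊤) (F : Polynomial A) (hF : Polynomial.aeval u F = 0) :
    Ideal.span {Polynomial.aeval u (Polynomial.derivative F)} ≤ Module.annihilator B (KaehlerDifferential A B) ∧
      (RingHom.ker (Polynomial.aeval u : Polynomial A →ₐ[A] B) = Ideal.span {F} →
        Module.annihilator B (KaehlerDifferential A B) = Ideal.span {Polynomial.aeval u (Polynomial.derivative F)}) := by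
  exact ⟨part1 A B u hu F hF, fun hker =>
    le_antisymm (part2 A B u hu F hF hker) (part1 A B u hu F hF)⟩

end Groth.Agent.S5081
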