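import Groth.Statements.S5752
import Groth.Agent.H29.Depth

set_option autoImplicit false
universe u
open EGA41

namespace Groth.Agent.S5752

/-- Let A be a Noetherian local ring with maximal ideal m and M a finitely generated A-module. Then M
has depth 0 if and only if m is an associated prime of M, i.e. if and only if M contains a copy of
the residue field. (For M = 0 the depth is ⊤ and there are no associated primes.) -/
theorem result (A : Type u) [CommRing A] [IsLocalRing A]
    [IsNoetherianRing A] (M : Type u) [AddCommGroup M] [Module A M] [Module.Finite A M] :
    LocCoh.depth A M = 0 ↔ IsLocalRing.maximalIdeal A ∈ associatedPrimes A M := by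
  rw [Groth.Agent.H29.depth_eq_zero_iff,
    Groth.Agent.H29.forall_not_isSMulRegular_iff_mem_associatedPrimes]
  constructor
  · exact fun h => h.2
  · intro h
    refine ⟨?_, h⟩
    have : Nontrivial M := by
      by_contra hM
      rw [not_nontrivial_iff_subsingleton] at hM
      have := associatedPrimes.eq_empty_of_subsingleton (R := A) (M := M)
      rw [this] at h
      exact h
    exact Groth.Agent.H29.maximalIdeal_smul_top_ne_top A M

end Groth.Agent.S5752
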