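import Groth.Statements.S5082
import Groth.Agent.H95.DivMod
import Groth.Agent.S5752
import Groth.Agent.S12513

set_option autoImplicit false
universe u
open CategoryTheory CategoryTheory.Limits AlgebraicGeometry TopologicalSpace
open Mero

namespace Groth.Agent.S5082

open CategoryTheory AlgebraicGeometry TopologicalSpace Opposite in
lemma eq_top_of_mem (A : Type u) [CommRing A] [IsLocalRing A]
    (W : (Spec (CommRingCat.of A)).Opens)
    (h : (IsLocalRing.closedPoint A : ↥(Spec (CommRingCat.of A))) ∈ W) : W = ⊤ := by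
  refine top_le_iff.mp ?_
  intro y _
  have hy : (y : PrimeSpectrum A) ⤳ IsLocalRing.closedPoint A :=
    (PrimeSpectrum.le_iff_specializes _ _).mp (IsLocalRing.le_maximalIdeal y.2.ne_top)
  exact hy.mem_open W.2 h

open CategoryTheory AlgebraicGeometry TopologicalSpace Opposite in
lemma isUnit_of_mem_nonZeroDivisors (A : Type u) [CommRing A] [IsNoetherianRing A]
    [IsLocalRing A] (h𝔪 : IsLocalRing.maximalIdeal A ∈ associatedPrimes A A)
    (b : Γ(Spec (CommRingCat.of A), ⊤))
    (hb : b ∈ nonZeroDivisors Γ(Spec (CommRingCat.of A), ⊤)) : IsUnit b := by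
  obtain ⟨e⟩ : Nonempty (Γ(Spec (CommRingCat.of A), ⊤) ≃+* A) :=
    ⟨(Scheme.ΓSpecIso (CommRingCat.of A)).commRingCatIsoToRingEquiv⟩
  have h1 : e b ∈ nonZeroDivisors A := by
    rw [mem_nonZeroDivisors_iff_right]
    intro a ha
    have h2 : e.symm a * b = 0 := by
      apply e.injective
      rw [map_mul, e.apply_symm_apply, ha, map_zero]
    have h3 := (mem_nonZeroDivisors_iff_right.mp hb) _ h2
    have h4 := congrArg e h3
    rwa [e.apply_symm_apply, map_zero] at h4
  have h2 : e b ∉ IsLocalRing.maximalIdeal A := by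
    intro hmem
    have h3 : e b ∈ ⋃ p ∈ associatedPrimes A A, (p : Set A) :=
      Set.mem_iUnion₂.mpr ⟨_, h𝔪, hmem⟩
    rw [biUnion_associatedPrimes_eq_compl_nonZeroDivisors] at h3
    exact h3 h1
  have h3 : IsUnit (e b) := IsLocalRing.notMem_maximalIdeal.mp h2
  have h4 := h3.map e.symm
  rwa [e.symm_apply_apply] at h4

open CategoryTheory AlgebraicGeometry TopologicalSpace Opposite in
open Groth.Agent.H95.MeroDepth Groth.Agent.H95.MeroDense Groth.Agent.H95.DivMod in
lemma germOf_eq_one_of_mem_range {X : Scheme.{u}} {U : X.Opens} (f : (Γ(Mero.kmod X, U))ˣ)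
    (y : U)
    (h1 : (f : Γ(Mero.kmod X, U)).1 y ∈
      (algebraMap (X.presheaf.stalk y.1) (Mero.KStalk X y.1)).range)
    (h2 : ((f⁻¹ : (Γ(Mero.kmod X, U))ˣ) : Γ(Mero.kmod X, U)).1 y ∈
      (algebraMap (X.presheaf.stalk y.1) (Mero.KStalk X y.1)).range) :
    Mero.germOf f y = 1 := by
  obtain ⟨r, hr⟩ := h1
  obtain ⟨r', hr'⟩ := h2
  have hrr' : r * r' = 1 := by
    apply Mero.algebraMap_KStalk_injective y.1
    rw [map_mul, hr, hr', map_one]
    exact mul_inv_apply f y
  rw [germOf_eq, QuotientGroup.eq_one_iff]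
  refine ⟨Units.mkOfMulEqOne r r' hrr', Units.ext ?_⟩
  show algebraMap (X.presheaf.stalk y.1) (Mero.KStalk X y.1) r = (f : Γ(Mero.kmod X, U)).1 y
  exact hr

lemma exists_mem_nonZeroDivisors (A : Type u) [CommRing A] [IsNoetherianRing A] [IsLocalRing A]
    (h𝔪 : IsLocalRing.maximalIdeal A ∉ associatedPrimes A A) :
    ∃ t ∈ IsLocalRing.maximalIdeal A, t ∈ nonZeroDivisors A := by
  by_contra hcon
  push Not at hcon
  have hsub : ((IsLocalRing.maximalIdeal A : Ideal A) : Set A) ⊆
      ⋃ p ∈ associatedPrimes A A, ((fun q : Ideal A => q) p : Set A) := by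
    have h1 := biUnion_associatedPrimes_eq_compl_nonZeroDivisors (R := A)
    intro t ht
    have h2 : t ∈ (⋃ p ∈ associatedPrimes A A, (p : Set A)) := by
      rw [h1]
      exact hcon t ht
    exact h2
  have hfin : (associatedPrimes A A).Finite := associatedPrimes.finite A A
  obtain ⟨p, hp, hle⟩ := (Ideal.subset_union_prime_finite hfin (f := fun q : Ideal A => q) ⊥ ⊥
    (fun q hq _ _ => IsAssociatedPrime.isPrime hq)).mp hsub
  have hpprime : p.IsPrime := IsAssociatedPrime.isPrime hp
  have hpm : p = IsLocalRing.maximalIdeal A :=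
    le_antisymm (IsLocalRing.le_maximalIdeal hpprime.ne_top) hle
  rw [hpm] at hp
  exact h𝔪 hp

/-- Let A be a Noetherian local ring. Then the group of divisors of Spec A is trivial (every divisor
equals the unit divisor, divisors being written multiplicatively) if and only if A has depth 0, that
is, if and only if every element of the maximal ideal of A is a zero-divisor. -/
theorem result (A : Type u) [CommRing A] [IsNoetherianRing A] [IsLocalRing A] :
    (∀ D : Mero.Divisor (Spec (CommRingCat.of A)), D = 1) ↔ LocCoh.depth A A = 0 := by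
  rw [Groth.Agent.S5752.result A A]
  constructor
  · intro hD
    by_contra h𝔪
    obtain ⟨t, ht𝔪, htreg⟩ := exists_mem_nonZeroDivisors A h𝔪
    obtain ⟨e⟩ : Nonempty (Γ(Spec (CommRingCat.of A), ⊤) ≃+* A) :=
      ⟨(AlgebraicGeometry.Scheme.ΓSpecIso (CommRingCat.of A)).commRingCatIsoToRingEquiv⟩
    obtain ⟨τ, hτ⟩ : ∃ τ : Γ(Spec (CommRingCat.of A), ⊤), τ = e.symm t := ⟨_, rfl⟩
    have heτ : e τ = t := by rw [hτ, e.apply_symm_apply]
    have hτnzd : τ ∈ nonZeroDivisors Γ(Spec (CommRingCat.of A), ⊤) := by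
      rw [mem_nonZeroDivisors_iff_right]
      intro a ha
      have h2 : e a * t = 0 := by
        rw [← heτ, ← map_mul, ha, map_zero]
      have h3 := (mem_nonZeroDivisors_iff_right.mp htreg) _ h2
      exact e.injective (h3.trans (map_zero e).symm)
    have hτreg : τ ∈ Mero.regSub (Spec (CommRingCat.of A)) ⊤ := by
      rw [Groth.Agent.S12513.result _ ⊤ (AlgebraicGeometry.isAffineOpen_top _)]
      exact hτnzd
    obtain ⟨f₂, hf₂⟩ : ∃ f₂ : Γ(Mero.kmod (Spec (CommRingCat.of A)), ⊤),
        ∀ z : (⊤ : (Spec (CommRingCat.of A)).Opens), f₂.1 z =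
          LocalizedModule.mk (1 : (Spec (CommRingCat.of A)).presheaf.stalk z.1)
            (Mero.regGerm z ⟨τ, hτreg⟩) :=
      ⟨⟨fun z => LocalizedModule.mk (1 : (Spec (CommRingCat.of A)).presheaf.stalk z.1)
          (Mero.regGerm z ⟨τ, hτreg⟩),
        fun z => ⟨⊤, z.2, 𝟙 _, 1, ⟨τ, hτreg⟩, fun y => Mero.mk_congr (map_one _).symm rfl⟩⟩,
        fun z => rfl⟩
    have h12 : Mero.toK (Spec (CommRingCat.of A)) ⊤ τ * f₂ = 1 := by
      refine Subtype.ext (funext fun z => ?_)
      show (Mero.toK (Spec (CommRingCat.of A)) ⊤ τ).1 z * f₂.1 z = 1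
      rw [Mero.toK_apply, hf₂]
      have e1 : (Spec (CommRingCat.of A)).presheaf.germ ⊤ z.1 z.2 τ * 1 =
          (((1 : Mero.regStalk (Spec (CommRingCat.of A)) z.1) * Mero.regGerm z ⟨τ, hτreg⟩ :
            Mero.regStalk (Spec (CommRingCat.of A)) z.1) :
            (Spec (CommRingCat.of A)).presheaf.stalk z.1) := by
        rw [mul_one]
        show _ = (1 : (Spec (CommRingCat.of A)).presheaf.stalk z.1) *
          (Spec (CommRingCat.of A)).presheaf.germ ⊤ z.1 z.2 τ
        rw [one_mul]
      exact LocalizedModule.mk_mul_mk.trans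
        ((Mero.mk_congr e1 rfl).trans (Mero.mk_self_eq_one _))
    obtain ⟨f, hfdef⟩ : ∃ f : (Γ(Mero.kmod (Spec (CommRingCat.of A)), ⊤))ˣ,
        (f : Γ(Mero.kmod (Spec (CommRingCat.of A)), ⊤)) =
          Mero.toK (Spec (CommRingCat.of A)) ⊤ τ := ⟨Units.mkOfMulEqOne _ _ h12, rfl⟩
    have h1 := hD (Mero.div f)
    have h2 : (Mero.div f).1 (IsLocalRing.closedPoint A : ↥(Spec (CommRingCat.of A))) = 1 := by
      rw [h1]
      rfl
    have h3 : Mero.germOf f ⟨(IsLocalRing.closedPoint A : ↥(Spec (CommRingCat.of A))),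
        TopologicalSpace.Opens.mem_top _⟩ = 1 := h2
    rw [Groth.Agent.H95.DivMod.germOf_eq, QuotientGroup.eq_one_iff] at h3
    obtain ⟨u, hu⟩ := h3
    have hu' := congrArg Units.val hu
    have hu'' : algebraMap _ (Mero.KStalk (Spec (CommRingCat.of A))
        (IsLocalRing.closedPoint A : ↥(Spec (CommRingCat.of A))))
        (u : (Spec (CommRingCat.of A)).presheaf.stalk
          (IsLocalRing.closedPoint A : ↥(Spec (CommRingCat.of A)))) =
        (f : Γ(Mero.kmod (Spec (CommRingCat.of A)), ⊤)).1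
          ⟨(IsLocalRing.closedPoint A : ↥(Spec (CommRingCat.of A))),
            TopologicalSpace.Opens.mem_top _⟩ := hu'
    rw [hfdef, Mero.toK_apply, Groth.Agent.H95.DivMod.kmk_one] at hu''
    have hgu : (Spec (CommRingCat.of A)).presheaf.germ ⊤
        (IsLocalRing.closedPoint A : ↥(Spec (CommRingCat.of A))) trivial τ =
        (u : (Spec (CommRingCat.of A)).presheaf.stalk
          (IsLocalRing.closedPoint A : ↥(Spec (CommRingCat.of A)))) :=
      (Mero.algebraMap_KStalk_injective _ hu'').symm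
    have hx₀ : (IsLocalRing.closedPoint A : ↥(Spec (CommRingCat.of A))) ∈
        (Spec (CommRingCat.of A)).basicOpen τ :=
      (AlgebraicGeometry.Scheme.mem_basicOpen (Spec (CommRingCat.of A)) τ
        (IsLocalRing.closedPoint A : ↥(Spec (CommRingCat.of A))) trivial).mpr
        (by rw [hgu]; exact u.isUnit)
    have htop := eq_top_of_mem A _ hx₀
    have hτunit : IsUnit τ := by
      refine (Spec (CommRingCat.of A)).toRingedSpace.isUnit_of_isUnit_germ ⊤ τ (fun y hy => ?_)
      have hy' : y ∈ (Spec (CommRingCat.of A)).basicOpen τ := by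
        rw [htop]
        trivial
      exact (AlgebraicGeometry.Scheme.mem_basicOpen _ τ y hy).mp hy'
    have htunit : IsUnit t := by
      rw [← heτ]
      exact hτunit.map e
    exact (IsLocalRing.mem_maximalIdeal t).mp ht𝔪 htunit
  · intro h𝔪 D
    have key : ∀ (g : Γ(Mero.kmod (Spec (CommRingCat.of A)), ⊤))
        (y : (⊤ : (Spec (CommRingCat.of A)).Opens)), g.1 y ∈
          (algebraMap ((Spec (CommRingCat.of A)).presheaf.stalk y.1)
            (Mero.KStalk (Spec (CommRingCat.of A)) y.1)).range := by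
      intro g y
      obtain ⟨W, hxW, i, a, b, w⟩ := g.2
        ⟨(IsLocalRing.closedPoint A : ↥(Spec (CommRingCat.of A))), trivial⟩
      have hW := eq_top_of_mem A W hxW
      subst hW
      have hb : b.1 ∈ nonZeroDivisors Γ(Spec (CommRingCat.of A), ⊤) := by
        rw [← Groth.Agent.S12513.result _ ⊤ (AlgebraicGeometry.isAffineOpen_top _)]
        exact b.2
      have hbu : IsUnit b.1 := isUnit_of_mem_nonZeroDivisors A h𝔪 b.1 hb
      have e1 : g.1 y = LocalizedModule.mk
          ((Spec (CommRingCat.of A)).presheaf.germ ⊤ y.1 y.2 a) (Mero.regGerm y b) := w y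
      rw [e1]
      exact Groth.Agent.H95.MeroDense.mem_range_of_isUnit_germ _ _
        (hbu.map ((Spec (CommRingCat.of A)).presheaf.germ ⊤ y.1 y.2).hom)
    refine Subtype.ext (funext fun y => ?_)
    show D.1 y = 1
    obtain ⟨U, hxU, f, hf⟩ := D.2 (IsLocalRing.closedPoint A : ↥(Spec (CommRingCat.of A)))
    have hU := eq_top_of_mem A U hxU
    subst hU
    have hfy : D.1 y = Mero.germOf f ⟨y, trivial⟩ := hf ⟨y, trivial⟩
    rw [hfy]
    exact germOf_eq_one_of_mem_range f ⟨y, trivial⟩ (key _ _) (key _ _)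

end Groth.Agent.S5082
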