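import Groth.Statements.S5083


set_option autoImplicit false
universe u
open CategoryTheory CategoryTheory.Limits AlgebraicGeometry TopologicalSpace
open Mero

namespace Groth.Agent.S5083

open CategoryTheory AlgebraicGeometry TopologicalSpace Opposite

/-- multiplication by a global section of `K_X`, `O_X(D) ⟶ O_X(D')`. -/
noncomputable def mulHom {X : Scheme.{u}} (D D' : Mero.Divisor X) (f : Γ(Mero.kmod X, ⊤))
    (hf : ∀ (x : X) (t : Mero.KStalk X x), Mero.DivCond D x t →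
      Mero.DivCond D' x (t * f.1 ⟨x, Opens.mem_top _⟩)) :
    Mero.divMod D ⟶ Mero.divMod D' :=
  ⟨PresheafOfModules.homMk (M₁ := (Mero.divMod D).val) (M₂ := (Mero.divMod D').val)
    { app := fun U => AddCommGrpCat.ofHom
        { toFun := fun (t : Γ(Mero.divMod D, U.unop)) =>
            (⟨fun x => t.1 x * f.1 ⟨x.1, Opens.mem_top _⟩,
              ⟨Mero.kLoc_mul X U.unop t.1 (fun x => f.1 ⟨x.1, Opens.mem_top _⟩) t.2.1
                ((Mero.kLoc X).res (homOfLE le_top) f.1 f.2),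
               fun x => hf x.1 (t.1 x) (t.2.2 x)⟩⟩ : Γ(Mero.divMod D', U.unop))
          map_zero' := Subtype.ext (funext fun x => zero_mul _)
          map_add' := fun _ _ => Subtype.ext (funext fun x => add_mul _ _ _) }
      naturality := by intros; rfl }
    (fun U r m => Subtype.ext (funext fun x => smul_mul_assoc _ _ _))⟩

theorem mulHom_comp {X : Scheme.{u}} (D D' : Mero.Divisor X) (f g : Γ(Mero.kmod X, ⊤))
    (hf : ∀ (x : X) (t : Mero.KStalk X x), Mero.DivCond D x t →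
      Mero.DivCond D' x (t * f.1 ⟨x, Opens.mem_top _⟩))
    (hg : ∀ (x : X) (t : Mero.KStalk X x), Mero.DivCond D' x t →
      Mero.DivCond D x (t * g.1 ⟨x, Opens.mem_top _⟩))
    (hfg : ∀ y : (⊤ : X.Opens), f.1 y * g.1 y = 1) :
    mulHom D D' f hf ≫ mulHom D' D g hg = 𝟙 _ := by
  apply Scheme.Modules.hom_ext
  intro U
  refine ConcreteCategory.hom_ext _ _ fun t => ?_
  apply Subtype.ext
  funext x
  show t.1 x * f.1 ⟨x.1, Opens.mem_top _⟩ * g.1 ⟨x.1, Opens.mem_top _⟩ = t.1 x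
  rw [mul_assoc, hfg, mul_one]

theorem divCond_mul {X : Scheme.{u}} (D D' : Mero.Divisor X) (f : (Γ(Mero.kmod X, ⊤))ˣ)
    (hgerm : ∀ x : X, D.1 x = Mero.germOf f ⟨x, Opens.mem_top _⟩ * D'.1 x) (x : X)
    (t : Mero.KStalk X x) (ht : Mero.DivCond D x t) :
    Mero.DivCond D' x (t * (f : Γ(Mero.kmod X, ⊤)).1 ⟨x, Opens.mem_top _⟩) := by
  intro g' hg'
  have h1 : D.1 x = QuotientGroup.mk
      (Units.map (Mero.evalK X ⊤ ⟨x, Opens.mem_top _⟩).toMonoidHom f * g') := by
    rw [hgerm x, hg']; rfl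
  have h2 := ht _ h1
  rw [Units.val_mul, ← mul_assoc] at h2
  exact h2

theorem unit_mul_apply {X : Scheme.{u}} (f : (Γ(Mero.kmod X, ⊤))ˣ) (y : (⊤ : X.Opens)) :
    (f : Γ(Mero.kmod X, ⊤)).1 y * ((f⁻¹ : (Γ(Mero.kmod X, ⊤))ˣ) : Γ(Mero.kmod X, ⊤)).1 y = 1 := by
  have h := congrArg (fun e : Γ(Mero.kmod X, ⊤) => e.1 y) (Units.mul_inv f)
  exact h

theorem unit_inv_mul_apply {X : Scheme.{u}} (f : (Γ(Mero.kmod X, ⊤))ˣ) (y : (⊤ : X.Opens)) :
    ((f⁻¹ : (Γ(Mero.kmod X, ⊤))ˣ) : Γ(Mero.kmod X, ⊤)).1 y * (f : Γ(Mero.kmod X, ⊤)).1 y = 1 := by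
  have h := congrArg (fun e : Γ(Mero.kmod X, ⊤) => e.1 y) (Units.inv_mul f)
  exact h

/-- Let X be a scheme and D, D' divisors on X (global sections of the sheaf of units of K_X modulo units
of O_X, written multiplicatively). If D and D' are linearly equivalent, i.e. D · D'⁻¹ is the divisor
of a unit of the ring of global sections of K_X, then the O_X-modules O_X(D) and O_X(D') are
isomorphic. (The published statement is an equivalence: O_X(D) and O_X(D') are isomorphic if and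
only if D and D' are linearly equivalent; this row states only that linearly equivalent divisors
have isomorphic modules.) -/
theorem result (X : Scheme.{u}) (D D' : Mero.Divisor X) (h : Mero.LinEquiv D D') :
    Nonempty (Mero.divMod D ≅ Mero.divMod D') := by
  obtain ⟨f, hf⟩ := h
  have hgerm : ∀ x : X, D.1 x = Mero.germOf f ⟨x, Opens.mem_top _⟩ * D'.1 x := by
    intro x
    have h1 : D.1 x * (D'.1 x)⁻¹ = Mero.germOf f ⟨x, Opens.mem_top _⟩ :=
      congrArg (fun E : Mero.Divisor X => E.1 x) hf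
    exact mul_inv_eq_iff_eq_mul.1 h1
  have hgerm' : ∀ x : X, D'.1 x = Mero.germOf f⁻¹ ⟨x, Opens.mem_top _⟩ * D.1 x := by
    intro x
    rw [hgerm x, ← mul_assoc]
    have h2 : Mero.germOf f⁻¹ ⟨x, Opens.mem_top _⟩ * Mero.germOf f ⟨x, Opens.mem_top _⟩ = 1 := by
      rw [Mero.germOf, Mero.germOf, map_inv, QuotientGroup.mk_inv, inv_mul_cancel]
    rw [h2]; exact (one_mul (D'.1 x)).symm
  exact ⟨{ hom := mulHom D D' f.1 (divCond_mul D D' f hgerm)
           inv := mulHom D' D (f⁻¹).1 (divCond_mul D' D f⁻¹ hgerm')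
           hom_inv_id := mulHom_comp D D' f.1 (f⁻¹).1 _ _ (unit_mul_apply f)
           inv_hom_id := mulHom_comp D' D (f⁻¹).1 f.1 _ _ (unit_inv_mul_apply f) }⟩

end Groth.Agent.S5083
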