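import Groth.Statements.S8863
import Mathlib.RingTheory.Support
import Mathlib.AlgebraicGeometry.Stalk
import Mathlib.RingTheory.Localization.AtPrime.Basic

set_option autoImplicit false
universe u
open CategoryTheory CategoryTheory.Limits AlgebraicGeometry TopologicalSpace
open SDiv

namespace Groth.Agent.S8863

lemma exists_annihilating {R S : Type*} [CommRing R] [IsNoetherianRing R] [CommRing S]
    [Algebra R S] (Q : Ideal R) [hQ : Q.IsPrime] [IsLocalization.AtPrime S Q] (r : R)
    (hr : algebraMap R S r ∈ nonZeroDivisors S) :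
    ∃ g : R, g ∉ Q ∧ ∀ k : R, r * k = 0 → g * k = 0 := by
  let K : Ideal R := LinearMap.ker (LinearMap.toSpanSingleton R R r)
  have hKmem : ∀ k : R, k ∈ K ↔ k * r = 0 := fun k => by
    rw [LinearMap.mem_ker, LinearMap.toSpanSingleton_apply, smul_eq_mul]
  have hnot : ¬ Module.annihilator R K ≤ Q := by
    intro hle
    have hsupp : (⟨Q, hQ⟩ : PrimeSpectrum R) ∈ Module.support R K :=
      Module.mem_support_iff_of_finite.mpr hle
    obtain ⟨m, hm⟩ := Module.mem_support_iff_exists_annihilator.mp hsupp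
    have hm0 : algebraMap R S (m : R) = 0 := by
      have h1 : algebraMap R S (m : R) * algebraMap R S r = 0 := by
        rw [← map_mul, (hKmem _).mp m.2, map_zero]
      exact (mem_nonZeroDivisors_iff_right.mp hr) _ h1
    obtain ⟨v, hv⟩ := (IsLocalization.map_eq_zero_iff Q.primeCompl S _).mp hm0
    apply v.2
    apply hm
    rw [Submodule.mem_annihilator_span_singleton]
    apply Subtype.ext
    simpa using hv
  obtain ⟨g, hgK, hgQ⟩ := SetLike.not_le_iff_exists.mp hnot
  refine ⟨g, hgQ, fun k hk => ?_⟩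
  have hkK : k ∈ K := (hKmem k).mpr (by rw [mul_comm]; exact hk)
  have h0 := Module.mem_annihilator.mp hgK ⟨k, hkK⟩
  exact congrArg Subtype.val h0

lemma algebraMap_mem_nonZeroDivisors {R S : Type*} [CommRing R] [CommRing S] [Algebra R S]
    (P : Ideal R) [P.IsPrime] [IsLocalization.AtPrime S P] (r g : R) (hg : g ∉ P)
    (h : ∀ k : R, r * k = 0 → g * k = 0) : algebraMap R S r ∈ nonZeroDivisors S := by
  rw [mem_nonZeroDivisors_iff_right]
  intro w hw
  obtain ⟨b, u, rfl⟩ := IsLocalization.exists_mk'_eq P.primeCompl w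
  have h1 : algebraMap R S (b * r) = 0 := by
    rw [map_mul, ← IsLocalization.mk'_spec S b u, mul_right_comm, hw, zero_mul]
  obtain ⟨v, hv⟩ := (IsLocalization.map_eq_zero_iff P.primeCompl S _).mp h1
  rw [IsLocalization.mk'_eq_zero_iff]
  have h2 : g * ((v : R) * b) = 0 := h _ (by linear_combination hv)
  exact ⟨⟨g, hg⟩ * v, by rw [Submonoid.coe_mul, mul_assoc]; exact h2⟩


/-- Let X be a locally Noetherian scheme and x a point of X. Then the monoid S_x of germs at x of
regular sections of O_X (sections whose germ at every point of their open of definition is a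
nonzerodivisor) is the whole monoid of nonzerodivisors of O_{X,x}; consequently K_{X,x} is the total
ring of fractions of O_{X,x}. -/
theorem result (X : Scheme.{u}) [IsLocallyNoetherian X] (x : ↥X) :
    Mero.regStalk X x = nonZeroDivisors ↑(X.presheaf.stalk x) := by
  apply le_antisymm (Mero.regStalk_le_nonZeroDivisors x)
  intro a ha
  obtain ⟨V, hxV, r₀, rfl⟩ := TopCat.Presheaf.exists_germ_eq X.presheaf a
  obtain ⟨_, ⟨W, hW, rfl⟩, hxW, hWV⟩ :=
    X.isBasis_affineOpens.exists_subset_of_mem_open hxV V.2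
  have hgr : X.presheaf.germ W x hxW (X.presheaf.map (homOfLE hWV).op r₀) =
      X.presheaf.germ V x hxV r₀ :=
    TopCat.Presheaf.germ_res_apply X.presheaf (homOfLE hWV) x hxW r₀
  rw [← hgr] at ha ⊢
  have hnoeth : IsNoetherianRing Γ(X, W) := IsLocallyNoetherian.component_noetherian ⟨W, hW⟩
  let alg : Algebra Γ(X, W) (X.presheaf.stalk x) :=
    TopCat.Presheaf.algebra_section_stalk X.presheaf ⟨x, hxW⟩
  have hloc : IsLocalization.AtPrime (X.presheaf.stalk x) (hW.primeIdealOf ⟨x, hxW⟩).asIdeal :=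
    hW.isLocalization_stalk ⟨x, hxW⟩
  obtain ⟨g, hgQ, hg⟩ := exists_annihilating (S := X.presheaf.stalk x)
    (hW.primeIdealOf ⟨x, hxW⟩).asIdeal (X.presheaf.map (homOfLE hWV).op r₀) ha
  have hxg : x ∈ X.basicOpen g := by
    rw [X.mem_basicOpen g x hxW]
    exact (IsLocalization.AtPrime.isUnit_to_map_iff (X.presheaf.stalk x)
      (hW.primeIdealOf ⟨x, hxW⟩).asIdeal g).mpr hgQ
  have hle : X.basicOpen g ≤ W := X.basicOpen_le g
  have hreg : X.presheaf.map (homOfLE hle).op (X.presheaf.map (homOfLE hWV).op r₀) ∈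
      Mero.regSub X (X.basicOpen g) := by
    rintro ⟨x', hx'⟩
    change X.presheaf.germ (X.basicOpen g) x' hx'
      (X.presheaf.map (homOfLE hle).op (X.presheaf.map (homOfLE hWV).op r₀)) ∈ _
    rw [TopCat.Presheaf.germ_res_apply X.presheaf (homOfLE hle) x' hx' _]
    have hx'W : x' ∈ W := hle hx'
    let alg' : Algebra Γ(X, W) (X.presheaf.stalk x') :=
      TopCat.Presheaf.algebra_section_stalk X.presheaf ⟨x', hx'W⟩
    have hloc' : IsLocalization.AtPrime (X.presheaf.stalk x')
        (hW.primeIdealOf ⟨x', hx'W⟩).asIdeal := hW.isLocalization_stalk ⟨x', hx'W⟩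
    have hgP : g ∉ (hW.primeIdealOf ⟨x', hx'W⟩).asIdeal := by
      have hu : IsUnit (X.presheaf.germ W x' hx'W g) := (X.mem_basicOpen g x' hx'W).mp hx'
      exact (IsLocalization.AtPrime.isUnit_to_map_iff (X.presheaf.stalk x')
        (hW.primeIdealOf ⟨x', hx'W⟩).asIdeal g).mp hu
    exact algebraMap_mem_nonZeroDivisors (S := X.presheaf.stalk x')
      (hW.primeIdealOf ⟨x', hx'W⟩).asIdeal _ g hgP hg
  have hfin := Mero.germ_mem_regStalk (⟨x, hxg⟩ : (X.basicOpen g : X.Opens)) hreg
  rw [TopCat.Presheaf.germ_res_apply X.presheaf (homOfLE hle) x hxg _] at hfin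
  exact hfin

end Groth.Agent.S8863
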