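import Groth.Statements.S5084
import Groth.Agent.H95.ZClos
import Groth.Agent.H8.AssPoints2
import Groth.Agent.S8863

set_option autoImplicit false
universe u
open CategoryTheory CategoryTheory.Limits AlgebraicGeometry TopologicalSpace
open Mero

namespace Groth.Agent.S5084

variable {X : Scheme.{u}}

/-- stalkwise torsion-freeness with respect to germs of regular sections -/
def TF (F : X.Modules) (x : X) : Prop :=
  ∀ (m : F.presheaf.stalk x) (s : X.presheaf.stalk x),
    s ∈ Mero.regStalk X x → s • m = 0 → m = 0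

lemma mk_one_eq_zero_iff (F : X.Modules) (x : X) (m : F.presheaf.stalk x) :
    (LocalizedModule.mk m (1 : Mero.regStalk X x) : Mero.MStalk F x) = 0 ↔
      ∃ s : X.presheaf.stalk x, s ∈ Mero.regStalk X x ∧ s • m = 0 := by
  constructor
  · intro h
    obtain ⟨w, hw⟩ := LocalizedModule.mk_eq.mp
      (h.trans (LocalizedModule.zero_mk (1 : Mero.regStalk X x)).symm)
    refine ⟨w.1, w.2, ?_⟩
    simp only [one_smul, smul_zero] at hw
    exact hw
  · rintro ⟨s, hs, h⟩
    refine (LocalizedModule.mk_eq.mpr ⟨⟨s, hs⟩, ?_⟩).trans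
      (LocalizedModule.zero_mk (1 : Mero.regStalk X x))
    simp only [one_smul, smul_zero]
    exact h

lemma toMer_app_apply (F : X.Modules) (V : X.Opens) (m : Γ(F, V)) :
    (Mero.toMer F).app V m = Mero.toMerFun F V m := rfl

lemma exists_mem_nonZeroDivisors (A : Type u) [CommRing A] [IsNoetherianRing A] [IsLocalRing A]
    (h𝔪 : IsLocalRing.maximalIdeal A ∉ associatedPrimes A A) :
    ∃ t ∈ IsLocalRing.maximalIdeal A, t ∈ nonZeroDivisors A := by
  by_contra hcon
  push Not at hcon
  have hsub : ((IsLocalRing.maximalIdeal A : Ideal A) : Set A) ⊆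
      ⋃ p ∈ associatedPrimes A A, ((fun q : Ideal A => q) p : Set A) := by
    have h1 := biUnion_associatedPrimes_eq_compl_nonZeroDivisors (R := A)
    intro t ht
    have h2 : t ∈ (⋃ p ∈ associatedPrimes A A, (p : Set A)) := by
      rw [h1]
      exact hcon t ht
    exact h2
  have hfin : (associatedPrimes A A).Finite := associatedPrimes.finite A A
  obtain ⟨p, hp, hle⟩ := (Ideal.subset_union_prime_finite hfin (f := fun q : Ideal A => q) ⊥ ⊥
    (fun q hq _ _ => IsAssociatedPrime.isPrime hq)).mp hsub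
  have hpprime : p.IsPrime := IsAssociatedPrime.isPrime hp
  have hpm : p = IsLocalRing.maximalIdeal A :=
    le_antisymm (IsLocalRing.le_maximalIdeal hpprime.ne_top) hle
  rw [hpm] at hp
  exact h𝔪 hp

/-- local data: a section killed by a regular section near `x`. -/
lemma exists_local_killed (F : X.Modules) (x : X) (m₀ : F.presheaf.stalk x)
    (s : X.presheaf.stalk x) (hs : s ∈ Mero.regStalk X x) (hsm : s • m₀ = 0) :
    ∃ (W : X.Opens) (hxW : x ∈ W) (_ : IsAffineOpen W) (g : Γ(X, W)) (ν : Γ(F, W)),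
      g ∈ Mero.regSub X W ∧ g • ν = 0 ∧ F.presheaf.germ W x hxW ν = m₀ := by
  obtain ⟨U, hxU, f, hf, rfl⟩ := hs
  obtain ⟨V, hxV, μ, rfl⟩ := TopCat.Presheaf.exists_germ_eq F.presheaf m₀
  have hxW : x ∈ U ⊓ V := ⟨hxU, hxV⟩
  obtain ⟨f', hf'⟩ : ∃ f' : Γ(X, U ⊓ V),
      f' = X.presheaf.map (homOfLE (inf_le_left : U ⊓ V ≤ U)).op f := ⟨_, rfl⟩
  obtain ⟨μ', hμ'⟩ : ∃ μ' : Γ(F, U ⊓ V),
      μ' = F.presheaf.map (homOfLE (inf_le_right : U ⊓ V ≤ V)).op μ := ⟨_, rfl⟩
  have hf'reg : f' ∈ Mero.regSub X (U ⊓ V) := by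
    rw [hf']
    exact Mero.regSub_res _ hf
  have hgf : X.presheaf.germ (U ⊓ V) x hxW f' = X.presheaf.germ U x hxU f := by
    rw [hf']
    exact TopCat.Presheaf.germ_res_apply X.presheaf (homOfLE inf_le_left) x hxW f
  have hgμ : F.presheaf.germ (U ⊓ V) x hxW μ' = F.presheaf.germ V x hxV μ := by
    rw [hμ']
    exact TopCat.Presheaf.germ_res_apply F.presheaf (homOfLE inf_le_right) x hxW μ
  have h0 : F.presheaf.germ (U ⊓ V) x hxW (f' • μ') = F.presheaf.germ (U ⊓ V) x hxW 0 := by
    rw [Mero.germ_smul, hgf, hgμ, hsm, map_zero]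
  obtain ⟨W, hxW', hWaff, hWU, hWV, hres⟩ :=
    TopCat.Presheaf.germ_eq_of_isBasis X.isBasis_affineOpens F.presheaf x hxW hxW h0
  refine ⟨W, hxW', hWaff, X.presheaf.map (homOfLE hWU).op f', F.presheaf.map (homOfLE hWU).op μ',
    Mero.regSub_res _ hf'reg, ?_, ?_⟩
  · rw [← Scheme.Modules.map_smul, hres, map_zero]
  · rw [TopCat.Presheaf.germ_res_apply F.presheaf (homOfLE hWU) x hxW' μ', hgμ]

lemma mono_toMer_iff (F : X.Modules) : Mono (Mero.toMer F) ↔ ∀ x, TF F x := by
  rw [Groth.Agent.H95.ZClos.mono_iff_app]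
  constructor
  · intro h x m₀ s hs hsm
    obtain ⟨W, hxW, -, g, ν, hgreg, hgν, rfl⟩ := exists_local_killed F x m₀ s hs hsm
    have e : (Mero.toMer F).app W ν = (Mero.toMer F).app W 0 := by
      rw [toMer_app_apply, toMer_app_apply, map_zero]
      refine Subtype.ext (funext fun y => ?_)
      show (LocalizedModule.mk (F.presheaf.germ W y.1 y.2 ν) (1 : Mero.regStalk X y.1) :
        Mero.MStalk F y.1) = 0
      rw [mk_one_eq_zero_iff]
      exact ⟨X.presheaf.germ W y.1 y.2 g, Mero.germ_mem_regStalk y hgreg, by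
        rw [← Mero.germ_smul, hgν, map_zero]⟩
    rw [h W e, map_zero]
  · intro hTF V m m' hmm
    refine TopCat.Presheaf.section_ext ⟨F.presheaf, F.isSheaf⟩ V m m' (fun x hx => ?_)
    rw [toMer_app_apply, toMer_app_apply] at hmm
    have h0 : Mero.toMerFun F V (m - m') = 0 := by rw [map_sub, hmm, sub_self]
    have h1 : (Mero.toMerFun F V (m - m')).1 ⟨x, hx⟩ = (0 : Mero.MStalk F x) :=
      congrArg (fun t : Γ(Mero.merMod F, V) => t.1 ⟨x, hx⟩) h0
    have h2 : (LocalizedModule.mk (F.presheaf.germ V x hx (m - m')) (1 : Mero.regStalk X x) :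
        Mero.MStalk F x) = 0 := h1
    obtain ⟨s, hs, hsm⟩ := (mk_one_eq_zero_iff F x _).mp h2
    have h3 := hTF x _ s hs hsm
    rw [map_sub, sub_eq_zero] at h3
    exact h3

lemma tf_iff [IsLocallyNoetherian X] (F : X.Modules) (hF : Coh.IsQCoh F) :
    (∀ x, TF F x) ↔ ∀ x : X, Curv2.IsAssPoint F x →
      IsAssociatedPrime (IsLocalRing.maximalIdeal (X.presheaf.stalk x)) (X.presheaf.stalk x) := by
  constructor
  · intro hTF x hx
    by_contra h𝔪
    obtain ⟨t, ht𝔪, htreg⟩ := exists_mem_nonZeroDivisors (X.presheaf.stalk x) h𝔪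
    have htS : t ∈ Mero.regStalk X x := by
      rw [Groth.Agent.S8863.result X x]
      exact htreg
    obtain ⟨hprime, m, hm⟩ := (isAssociatedPrime_iff (R := X.presheaf.stalk x)).mp hx
    have htm : t • m = 0 := by
      have h1 : t ∈ Submodule.colon (⊥ : Submodule (X.presheaf.stalk x) (F.presheaf.stalk x)) {m} := by
        rw [← hm]
        exact ht𝔪
      rw [Submodule.mem_colon_singleton] at h1
      exact (Submodule.mem_bot _).mp h1
    have hm0 : m = 0 := hTF x m t htS htm
    apply hprime.ne_top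
    rw [hm, hm0]
    exact Submodule.colon_singleton_zero
  · intro hAss x m₀ s hs hsm
    by_contra hm₀
    obtain ⟨W, hxW, hW, g, ν, hgreg, hgν, rfl⟩ := exists_local_killed F x m₀ s hs hsm
    haveI : IsNoetherianRing Γ(X, W) := IsLocallyNoetherian.component_noetherian ⟨W, hW⟩
    haveI : F.IsQuasicoherent := hF
    have hνne : ν ≠ 0 := by
      intro h0
      apply hm₀
      rw [h0, map_zero]
    obtain ⟨y, hyW, hyAss, hyne⟩ := Groth.Agent.H8.exists_isAssPoint_germ_ne_zero hW F ν hνne
    have hAy := hAss y hyAss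
    have h5 : X.presheaf.germ W y hyW g • F.presheaf.germ W y hyW ν = 0 := by
      rw [← Mero.germ_smul, hgν, map_zero]
    have hgy : X.presheaf.germ W y hyW g ∈ IsLocalRing.maximalIdeal (X.presheaf.stalk y) :=
      (IsLocalRing.mem_maximalIdeal _).mpr (fun hu => hyne (hu.smul_eq_zero.mp h5))
    have h6 : X.presheaf.germ W y hyW g ∈
        (⋃ p ∈ associatedPrimes (X.presheaf.stalk y) (X.presheaf.stalk y),
          (p : Set (X.presheaf.stalk y))) :=
      Set.mem_iUnion₂.mpr ⟨_, hAy, hgy⟩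
    rw [biUnion_associatedPrimes_eq_compl_nonZeroDivisors] at h6
    exact h6 (hgreg ⟨y, hyW⟩)

/-- Let X be a locally Noetherian scheme and F a quasi-coherent O_X-module. Then F is torsion-free — the
canonical map from F to its sheaf of meromorphic sections K_X(F), m ↦ m/1, is a monomorphism, i.e.
at every point no germ of a regular function kills a nonzero element of the stalk of F — if and only
if every associated point of F is an associated point of the structure sheaf (a point x such that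
the maximal ideal of O_{X,x} is an associated prime of O_{X,x}). -/
theorem result (X : Scheme.{u}) [IsLocallyNoetherian X]
    (F : X.Modules) (hF : Coh.IsQCoh F) :
    Mono (Mero.toMer F) ↔
      ∀ x : ↥X, Curv2.IsAssPoint F x →
        IsAssociatedPrime (IsLocalRing.maximalIdeal ↑(X.presheaf.stalk x)) ↑(X.presheaf.stalk x) := by
  rw [mono_toMer_iff F]
  exact tf_iff F hF

end Groth.Agent.S5084
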