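import Groth.Statements.S5085


set_option autoImplicit false
universe u
open CategoryTheory CategoryTheory.Limits AlgebraicGeometry TopologicalSpace
open Mero

namespace Groth.Agent.S5085

theorem germ_eq_zero_of_mk_eq_zero (X : Scheme.{u}) (x : X) (m : X.presheaf.stalk x)
    (s : Mero.regStalk X x) (h : (LocalizedModule.mk m s : Mero.KStalk X x) = 0) : m = 0 := by
  have h0 : (LocalizedModule.mk m s : Mero.KStalk X x) = LocalizedModule.mk 0 1 := by
    rw [LocalizedModule.zero_mk]; exact h
  obtain ⟨u, hu⟩ := LocalizedModule.mk_eq.1 h0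
  rw [one_smul, smul_zero, smul_zero, Submonoid.smul_def, smul_eq_mul] at hu
  exact (mul_left_mem_nonZeroDivisors_eq_zero_iff (Mero.regStalk_le_nonZeroDivisors x u.2)).1 hu

theorem key (X : Scheme.{u}) (U V : X.Opens) (hVU : V ≤ U)
    (hV : ∀ W : X.Opens, W ≤ U →
      Function.Injective ⇑(X.presheaf.map (homOfLE (inf_le_left : W ⊓ V ≤ W)).op))
    (d : Γ(Mero.kmod X, U)) (hd : (Mero.kmod X).presheaf.map (homOfLE hVU).op d = 0) : d = 0 := by
  apply Subtype.ext
  funext x
  obtain ⟨W, hxW, i, a, b, w⟩ := d.2 x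
  have hzero : ∀ (y : X) (hyV : y ∈ V), d.1 ⟨y, hVU hyV⟩ = 0 := fun y hyV =>
    congrArg (fun e : Γ(Mero.kmod X, V) => e.1 ⟨y, hyV⟩) hd
  have hgerm : ∀ (y : X) (hy : y ∈ W ⊓ V), X.presheaf.germ W y hy.1 a = 0 := by
    intro y hy
    have h1 := w ⟨y, hy.1⟩
    have h2 : d.1 (i ⟨y, hy.1⟩) = 0 := hzero y hy.2
    exact germ_eq_zero_of_mk_eq_zero X y _ _ (h1.symm.trans h2)
  have hres : X.presheaf.map (homOfLE (inf_le_left : W ⊓ V ≤ W)).op a = 0 := by
    refine TopCat.Presheaf.section_ext X.sheaf (W ⊓ V) _ _ (fun y hy => ?_)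
    show X.presheaf.germ (W ⊓ V) y hy (X.presheaf.map (homOfLE (inf_le_left : W ⊓ V ≤ W)).op a)
      = X.presheaf.germ (W ⊓ V) y hy 0
    rw [TopCat.Presheaf.germ_res_apply, map_zero]
    exact hgerm y hy
  have ha : a = 0 := hV W i.le (hres.trans (map_zero _).symm)
  have h3 : d.1 (i ⟨x.1, hxW⟩) = LocalizedModule.mk (X.presheaf.germ W x.1 hxW a) _ :=
    w ⟨x.1, hxW⟩
  have h5 : d.1 (i ⟨x.1, hxW⟩) = 0 := by
    rw [h3, ha, map_zero, LocalizedModule.zero_mk]
  exact h5

/-- Let X be a scheme, U an open subset and V an open subset of U which is schematically dense in U (for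
every open W ⊆ U, restriction of functions from W to W ∩ V is injective). Then restriction of
sections of the sheaf of meromorphic functions K_X from U to V is injective: the canonical map from
meromorphic functions to pseudo-functions is injective. -/
theorem result (X : Scheme.{u}) (U V : X.Opens) (hVU : V ≤ U)
    (hV : ∀ W : X.Opens, W ≤ U →
      Function.Injective ⇑(X.presheaf.map (homOfLE (inf_le_left : W ⊓ V ≤ W)).op)) :
    Function.Injective ⇑((Mero.kmod X).presheaf.map (homOfLE hVU).op) := by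
  intro s t hst
  have h := key X U V hVU hV (s - t) (by rw [map_sub, hst]; exact sub_self _)
  exact sub_eq_zero.1 h

end Groth.Agent.S5085
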