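import Groth.Statements.S5087
import Groth.Agent.H95.MeroData
import Groth.Agent.H8.IsoCover

set_option autoImplicit false
universe u
open CategoryTheory CategoryTheory.Limits AlgebraicGeometry TopologicalSpace
open Mero

namespace Groth.Agent.S5087

open Groth.Agent.H8 (res_res res_smul ringRes_res app_res)
open Groth.Agent.H18.TensorGen (IsGen exists_isGen)
open Groth.Agent.H95.MeroDepth Groth.Agent.H95.MeroDense
open Groth.Agent.H95.DivMod Groth.Agent.H95.DivOfData Groth.Agent.H95.MeroData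

variable {X : Scheme.{u}}

lemma isGen_of_iso {M N : X.Modules} (φ : N ⟶ M) [IsIso φ] {V : X.Opens} {ν : Γ(N, V)}
    (hν : IsGen N V ν) : IsGen M V (φ.app V ν) := by
  intro V' h
  have hb := (Groth.Agent.H95.ZClos.isIso_iff_app φ).mp inferInstance V'
  have he : (fun r : Γ(X, V') => r • M.presheaf.map (homOfLE h).op (φ.app V ν)) =
      (fun n => φ.app V' n) ∘ (fun r : Γ(X, V') => r • N.presheaf.map (homOfLE h).op ν) := by
    funext r
    show r • M.presheaf.map (homOfLE h).op (φ.app V ν) =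
      φ.app V' (r • N.presheaf.map (homOfLE h).op ν)
    rw [Scheme.Modules.Hom.app_smul, app_res φ h ν]
  rw [he]
  exact hb.comp (hν V' h)

lemma exists_data_of_iso (L : X.Modules) (D : Mero.Divisor X) (e : L ≅ Mero.divMod D) :
    ∃ (V : X → X.Opens) (τ : ∀ x, Γ(L, V x)) (f : ∀ x, (Γ(Mero.kmod X, V x))ˣ),
      (∀ x, x ∈ V x) ∧ (∀ x, IsGen L (V x) (τ x)) ∧ Compat L V τ f := by
  choose V hxV f hf using fun x : X => D.2 x
  have hinv : ∀ (W' : X.Opens) (g : Γ(Mero.divMod D, W')),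
      e.hom.app W' (e.inv.app W' g) = g := by
    intro W' g
    have h := congrArg (fun φ : Mero.divMod D ⟶ Mero.divMod D => φ.app W' g) e.inv_hom_id
    exact h
  refine ⟨V, fun x => e.inv.app (V x) (gen D (f x) (hf x)), f, hxV,
    fun x => isGen_of_iso e.inv (isGen_gen D (f x) (hf x)), ?_⟩
  intro x y W hi hj u hu z
  have h1 := congrArg (fun t => e.hom.app W t) hu
  simp only [] at h1
  rw [Scheme.Modules.Hom.app_smul, app_res e.hom hj, app_res e.hom hi, hinv, hinv] at h1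
  have h2 := congrArg (fun t : Γ(Mero.divMod D, W) => t.1 z) h1
  have h3 : (((f y)⁻¹ : (Γ(Mero.kmod X, V y))ˣ) : Γ(Mero.kmod X, V y)).1 ⟨z.1, hj z.2⟩ =
      (u • (Mero.divMod D).presheaf.map (homOfLE hi).op (gen D (f x) (hf x))).1 z := h2
  rw [smul_res_gen_apply D (f x) (hf x) hi u z] at h3
  have a2 : (((f y)⁻¹ : (Γ(Mero.kmod X, V y))ˣ) : Γ(Mero.kmod X, V y)).1 ⟨z.1, hj z.2⟩ *
      (f y : Γ(Mero.kmod X, V y)).1 ⟨z.1, hj z.2⟩ = 1 := inv_mul_apply (f y) ⟨z.1, hj z.2⟩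
  have a3 : (f x : Γ(Mero.kmod X, V x)).1 ⟨z.1, hi z.2⟩ *
      (((f x)⁻¹ : (Γ(Mero.kmod X, V x))ˣ) : Γ(Mero.kmod X, V x)).1 ⟨z.1, hi z.2⟩ = 1 :=
    mul_inv_apply (f x) ⟨z.1, hi z.2⟩
  calc (f x : Γ(Mero.kmod X, V x)).1 ⟨z.1, hi z.2⟩
      = (f x : Γ(Mero.kmod X, V x)).1 ⟨z.1, hi z.2⟩ *
          ((((f y)⁻¹ : (Γ(Mero.kmod X, V y))ˣ) : Γ(Mero.kmod X, V y)).1 ⟨z.1, hj z.2⟩ *
            (f y : Γ(Mero.kmod X, V y)).1 ⟨z.1, hj z.2⟩) := by rw [a2, mul_one]
    _ = (f x : Γ(Mero.kmod X, V x)).1 ⟨z.1, hi z.2⟩ *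
          ((algebraMap (X.presheaf.stalk z.1) (Mero.KStalk X z.1)
              (X.presheaf.germ W z.1 z.2 u) *
            (((f x)⁻¹ : (Γ(Mero.kmod X, V x))ˣ) : Γ(Mero.kmod X, V x)).1 ⟨z.1, hi z.2⟩) *
            (f y : Γ(Mero.kmod X, V y)).1 ⟨z.1, hj z.2⟩) := by rw [h3]
    _ = algebraMap (X.presheaf.stalk z.1) (Mero.KStalk X z.1) (X.presheaf.germ W z.1 z.2 u) *
          (f y : Γ(Mero.kmod X, V y)).1 ⟨z.1, hj z.2⟩ *
          ((f x : Γ(Mero.kmod X, V x)).1 ⟨z.1, hi z.2⟩ *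
            (((f x)⁻¹ : (Γ(Mero.kmod X, V x))ˣ) : Γ(Mero.kmod X, V x)).1 ⟨z.1, hi z.2⟩) := by
          ring
    _ = _ := by rw [a3, mul_one]

lemma stalk_compare {L : X.Modules} (z : X) (t : L.presheaf.stalk z)
    (ht : ∀ r : X.presheaf.stalk z, r • t = 0 → r = 0)
    (A A' U : X.presheaf.stalk z) (B B' : Mero.regStalk X z)
    (h : (LocalizedModule.mk (A • t) B : Mero.MStalk L z) = LocalizedModule.mk (A' • U • t) B') :
    (LocalizedModule.mk A B : Mero.KStalk X z) =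
      algebraMap (X.presheaf.stalk z) (Mero.KStalk X z) U * LocalizedModule.mk A' B' := by
  obtain ⟨c, hc⟩ := LocalizedModule.mk_eq.mp h
  have hc' : ((c : X.presheaf.stalk z) * ((B' : X.presheaf.stalk z) * A)) • t =
      ((c : X.presheaf.stalk z) * ((B : X.presheaf.stalk z) * (A' * U))) • t := by
    simp only [mul_smul]
    exact hc
  have h6 : ((c : X.presheaf.stalk z) * ((B' : X.presheaf.stalk z) * A) -
      (c : X.presheaf.stalk z) * ((B : X.presheaf.stalk z) * (A' * U))) • t = 0 := by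
    rw [sub_smul, hc', sub_self]
  have h5 := sub_eq_zero.mp (ht _ h6)
  have hcreg := Mero.regStalk_le_nonZeroDivisors z c.2
  have h7 : (B' : X.presheaf.stalk z) * A - (B : X.presheaf.stalk z) * (A' * U) = 0 :=
    (mem_nonZeroDivisors_iff_right.mp hcreg) _ (by linear_combination h5)
  have hmul : (LocalizedModule.mk U 1 : Mero.KStalk X z) * LocalizedModule.mk A' B' =
      LocalizedModule.mk (U * A') (1 * B') := LocalizedModule.mk_mul_mk
  rw [← kmk_one, hmul]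
  apply kmk_eq_kmk
  rw [Submonoid.coe_mul, OneMemClass.coe_one, one_mul]
  linear_combination h7

lemma exists_data_of_regularMero (L : X.Modules) (hL : PicF.IsInvertible L)
    (s : Γ(Mero.merMod L, ⊤)) (hs : Mero.IsRegularMero L s) :
    ∃ (V : X → X.Opens) (τ : ∀ x, Γ(L, V x)) (f : ∀ x, (Γ(Mero.kmod X, V x))ˣ),
      (∀ x, x ∈ V x) ∧ (∀ x, IsGen L (V x) (τ x)) ∧ Compat L V τ f := by
  have hloc : ∀ x : X, ∃ (V : X.Opens) (_ : x ∈ V) (τ : Γ(L, V)) (_ : IsGen L V τ)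
      (a : Γ(X, V)) (b : Mero.regSub X V),
      ∀ y : V, s.1 ⟨y.1, Opens.mem_top y.1⟩ = LocalizedModule.mk
        (X.presheaf.germ V y.1 y.2 a • L.presheaf.germ V y.1 y.2 τ) (Mero.regGerm y b) := by
    intro x
    obtain ⟨V₀, τ₀, hxV₀, hτ₀⟩ := exists_isGen hL x
    obtain ⟨W, hxW, i, m, b, w⟩ := s.2 ⟨x, Opens.mem_top x⟩
    have hxV : x ∈ W ⊓ V₀ := Opens.mem_inf.mpr ⟨hxW, hxV₀⟩
    obtain ⟨a, ha⟩ := (hτ₀ (W ⊓ V₀) inf_le_right).2
      (L.presheaf.map (homOfLE (inf_le_left : W ⊓ V₀ ≤ W)).op m)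
    have ha' : a • L.presheaf.map (homOfLE (inf_le_right : W ⊓ V₀ ≤ V₀)).op τ₀ =
      L.presheaf.map (homOfLE (inf_le_left : W ⊓ V₀ ≤ W)).op m := ha
    refine ⟨W ⊓ V₀, hxV, L.presheaf.map (homOfLE inf_le_right).op τ₀, hτ₀.res inf_le_right, a,
      ⟨X.presheaf.map (homOfLE (inf_le_left : W ⊓ V₀ ≤ W)).op b.1, Mero.regSub_res _ b.2⟩,
      fun y => ?_⟩
    have hyW : y.1 ∈ W := (Opens.mem_inf.mp y.2).1
    have w' : s.1 ⟨y.1, Opens.mem_top y.1⟩ = LocalizedModule.mk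
        (L.presheaf.germ W y.1 hyW m) (Mero.regGerm ⟨y.1, hyW⟩ b) := w ⟨y.1, hyW⟩
    rw [w']
    refine Mero.mk_congr ?_ ?_
    · rw [← Mero.germ_smul, ha',
        TopCat.Presheaf.germ_res_apply L.presheaf (homOfLE inf_le_left) y.1 y.2 m]
    · exact (TopCat.Presheaf.germ_res_apply X.presheaf (homOfLE inf_le_left) y.1 y.2 b.1).symm
  choose V hxV τ hτ a b hs' using hloc
  have hareg : ∀ x, a x ∈ Mero.regSub X (V x) := by
    intro x y
    show X.presheaf.germ (V x) y.1 y.2 (a x) ∈ nonZeroDivisors (X.presheaf.stalk y.1)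
    rw [mem_nonZeroDivisors_iff_right]
    intro c hc
    apply Mero.algebraMap_KStalk_injective y.1
    rw [map_zero]
    apply hs y.1
    show algebraMap (X.presheaf.stalk y.1) (Mero.KStalk X y.1) c •
      s.1 ⟨y.1, Opens.mem_top y.1⟩ = 0
    rw [hs' x y, algebraMap_smul_mk, ← mul_smul, hc, zero_smul]
    exact LocalizedModule.zero_mk _
  have hfex : ∀ x, ∃ f : (Γ(Mero.kmod X, V x))ˣ, ∀ y : V x,
      (f : Γ(Mero.kmod X, V x)).1 y = LocalizedModule.mk
        (X.presheaf.germ (V x) y.1 y.2 (a x)) (Mero.regGerm y (b x)) := by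
    intro x
    obtain ⟨f₁, hf₁⟩ : ∃ f₁ : Γ(Mero.kmod X, V x), ∀ y : V x, f₁.1 y = LocalizedModule.mk
        (X.presheaf.germ (V x) y.1 y.2 (a x)) (Mero.regGerm y (b x)) :=
      ⟨⟨fun y => LocalizedModule.mk (X.presheaf.germ (V x) y.1 y.2 (a x))
          (Mero.regGerm y (b x)),
        fun y => ⟨V x, y.2, 𝟙 _, a x, b x, fun _ => rfl⟩⟩, fun _ => rfl⟩
    obtain ⟨f₂, hf₂⟩ : ∃ f₂ : Γ(Mero.kmod X, V x), ∀ y : V x, f₂.1 y = LocalizedModule.mk
        (X.presheaf.germ (V x) y.1 y.2 (b x).1) (Mero.regGerm y ⟨a x, hareg x⟩) :=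
      ⟨⟨fun y => LocalizedModule.mk (X.presheaf.germ (V x) y.1 y.2 (b x).1)
          (Mero.regGerm y ⟨a x, hareg x⟩),
        fun y => ⟨V x, y.2, 𝟙 _, (b x).1, ⟨a x, hareg x⟩, fun _ => rfl⟩⟩, fun _ => rfl⟩
    have h12 : f₁ * f₂ = 1 := by
      refine Subtype.ext (funext fun y => ?_)
      show f₁.1 y * f₂.1 y = 1
      rw [hf₁, hf₂]
      refine LocalizedModule.mk_mul_mk.trans
        ((Mero.mk_congr ?_ rfl).trans (Mero.mk_self_eq_one _))
      show _ = X.presheaf.germ (V x) y.1 y.2 (b x).1 * X.presheaf.germ (V x) y.1 y.2 (a x)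
      exact mul_comm _ _
    exact ⟨Units.mkOfMulEqOne f₁ f₂ h12, hf₁⟩
  choose f hf using hfex
  refine ⟨V, τ, f, hxV, hτ, ?_⟩
  intro x y W hi hj u hu z
  rw [hf x ⟨z.1, hi z.2⟩, hf y ⟨z.1, hj z.2⟩]
  have e1 : s.1 ⟨z.1, Opens.mem_top z.1⟩ = LocalizedModule.mk
      (X.presheaf.germ (V x) z.1 (hi z.2) (a x) • L.presheaf.germ (V x) z.1 (hi z.2) (τ x))
      (Mero.regGerm ⟨z.1, hi z.2⟩ (b x)) := hs' x ⟨z.1, hi z.2⟩
  have e2 : s.1 ⟨z.1, Opens.mem_top z.1⟩ = LocalizedModule.mk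
      (X.presheaf.germ (V y) z.1 (hj z.2) (a y) • L.presheaf.germ (V y) z.1 (hj z.2) (τ y))
      (Mero.regGerm ⟨z.1, hj z.2⟩ (b y)) := hs' y ⟨z.1, hj z.2⟩
  have e3 : L.presheaf.germ (V y) z.1 (hj z.2) (τ y) =
      X.presheaf.germ W z.1 z.2 u • L.presheaf.germ (V x) z.1 (hi z.2) (τ x) := by
    rw [← TopCat.Presheaf.germ_res_apply L.presheaf (homOfLE hj) z.1 z.2 (τ y), hu,
      Mero.germ_smul, TopCat.Presheaf.germ_res_apply L.presheaf (homOfLE hi) z.1 z.2 (τ x)]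
  rw [e3] at e2
  exact stalk_compare z.1 _ (fun r hr => germ_smul_eq_zero (hτ x) z.1 (hi z.2) r hr) _ _ _ _ _
    (e1.symm.trans e2)

/-- For a locally Noetherian scheme X (so that at every point the germs of regular functions are all the
non-zero-divisors of the local ring, and a regular meromorphic section of an invertible module is
locally a unit of K_X times a generator): an invertible O_X-module L is isomorphic to O_X(D) for
some divisor D on X if and only if L has a regular meromorphic section. (The published statement is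
for an arbitrary scheme, with regular meromorphic sections defined through local trivialisations;
this row assumes X locally Noetherian, where that notion agrees with the stalkwise one used here.) -/
theorem result (X : Scheme.{u}) [IsLocallyNoetherian X] (L : X.Modules)
    (hL : PicF.IsInvertible L) :
    (∃ D : Mero.Divisor X, Nonempty (L ≅ Mero.divMod D)) ↔ Mero.HasRegularMero L := by
  constructor
  · rintro ⟨D, ⟨e⟩⟩
    obtain ⟨V, τ, f, hxV, hτ, hc⟩ := exists_data_of_iso L D e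
    exact hasRegularMero_of_data L V (fun x => ⟨x, hxV x⟩) τ hτ f hc
  · rintro ⟨s, hs⟩
    obtain ⟨V, τ, f, hxV, hτ, hc⟩ := exists_data_of_regularMero L hL s hs
    exact exists_divisor_iso L V (fun x => ⟨x, hxV x⟩) τ hτ f hc

end Groth.Agent.S5087
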