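import Groth.Statements.S5089
import Groth.Agent.H95.DivOfData
import Groth.Agent.H95.LocFinGeneric

set_option autoImplicit false
universe u
open CategoryTheory CategoryTheory.Limits AlgebraicGeometry TopologicalSpace
open Mero

namespace Groth.Agent.S5089

open Groth.Agent.H8 (res_res res_smul ringRes_res)
open Groth.Agent.H18.TensorGen (IsGen exists_isGen)
open Groth.Agent.H95.DivMod Groth.Agent.H95.ReducedGeneric Groth.Agent.H95.LocFinGeneric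
open Groth.Agent.H95.DivOfData

lemma isUnit_of_gens {X : Scheme.{u}} {L : X.Modules} {W : X.Opens} {α β : Γ(L, W)}
    (hα : IsGen L W α) (hβ : IsGen L W β) (u : Γ(X, W)) (h : β = u • α) : IsUnit u := by
  obtain ⟨u', hu'⟩ := hβ.self.2 α
  have hu1 : u' • β = α := hu'
  have huu : u' * u = 1 := by
    apply hα.self.1
    show (u' * u) • α = (1 : Γ(X, W)) • α
    rw [mul_smul, ← h, hu1, one_smul]
  exact ⟨⟨u, u', by rw [mul_comm]; exact huu, huu⟩, rfl⟩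

lemma germ_transition {X : Scheme.{u}} (L : X.Modules) {V₁ V₂ V₃ : X.Opens} (τ₁ : Γ(L, V₁))
    (hτ₁ : IsGen L V₁ τ₁) (τ₂ : Γ(L, V₂)) (τ₃ : Γ(L, V₃))
    (u₁ : Γ(X, V₁ ⊓ V₃))
    (hu₁ : L.presheaf.map (homOfLE (inf_le_right : V₁ ⊓ V₃ ≤ V₃)).op τ₃ =
      u₁ • L.presheaf.map (homOfLE (inf_le_left : V₁ ⊓ V₃ ≤ V₁)).op τ₁)
    (u₂ : Γ(X, V₂ ⊓ V₃))
    (hu₂ : L.presheaf.map (homOfLE (inf_le_right : V₂ ⊓ V₃ ≤ V₃)).op τ₃ =
      u₂ • L.presheaf.map (homOfLE (inf_le_left : V₂ ⊓ V₃ ≤ V₂)).op τ₂)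
    (W : X.Opens) (h1 : W ≤ V₁) (h2 : W ≤ V₂) (w : Γ(X, W))
    (hw : L.presheaf.map (homOfLE h2).op τ₂ = w • L.presheaf.map (homOfLE h1).op τ₁)
    (ξ : X) (hξW : ξ ∈ W) (hξ3 : ξ ∈ V₃) (hξ13 : ξ ∈ V₁ ⊓ V₃) (hξ23 : ξ ∈ V₂ ⊓ V₃) :
    X.presheaf.germ (V₁ ⊓ V₃) ξ hξ13 u₁ =
      X.presheaf.germ W ξ hξW w * X.presheaf.germ (V₂ ⊓ V₃) ξ hξ23 u₂ := by
  have k1 : W ⊓ V₃ ≤ V₁ ⊓ V₃ := inf_le_inf_right V₃ h1
  have k2 : W ⊓ V₃ ≤ V₂ ⊓ V₃ := inf_le_inf_right V₃ h2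
  have k3 : W ⊓ V₃ ≤ W := inf_le_left
  have hξ' : ξ ∈ W ⊓ V₃ := Opens.mem_inf.mpr ⟨hξW, hξ3⟩
  have e1 := congrArg (fun q => L.presheaf.map (homOfLE k1).op q) hu₁
  have e2 := congrArg (fun q => L.presheaf.map (homOfLE k2).op q) hu₂
  have e3 := congrArg (fun q => L.presheaf.map (homOfLE k3).op q) hw
  simp only [] at e1 e2 e3
  rw [res_res L, res_smul L, res_res L] at e1 e2 e3
  have e4 : X.presheaf.map (homOfLE k1).op u₁ =
      X.presheaf.map (homOfLE k2).op u₂ * X.presheaf.map (homOfLE k3).op w := by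
    apply (hτ₁ (W ⊓ V₃) (k1.trans inf_le_left)).1
    show X.presheaf.map (homOfLE k1).op u₁ •
        L.presheaf.map (homOfLE (k1.trans inf_le_left)).op τ₁ =
      (X.presheaf.map (homOfLE k2).op u₂ * X.presheaf.map (homOfLE k3).op w) •
        L.presheaf.map (homOfLE (k1.trans inf_le_left)).op τ₁
    rw [mul_smul]
    exact e1.symm.trans (e2.trans (congrArg (fun q => X.presheaf.map (homOfLE k2).op u₂ • q) e3))
  have e5 := congrArg (fun q => X.presheaf.germ (W ⊓ V₃) ξ hξ' q) e4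
  simp only [map_mul] at e5
  rw [TopCat.Presheaf.germ_res_apply X.presheaf (homOfLE k1) ξ hξ' u₁,
    TopCat.Presheaf.germ_res_apply X.presheaf (homOfLE k2) ξ hξ' u₂,
    TopCat.Presheaf.germ_res_apply X.presheaf (homOfLE k3) ξ hξ' w] at e5
  rw [e5, mul_comm]

/-- Case b): let X be a reduced scheme whose set of irreducible components is locally finite (every
point has an open neighbourhood meeting only finitely many irreducible components). Then every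
invertible O_X-module is isomorphic to O_X(D) for some divisor D on X; in other words the canonical
homomorphism Div(X) → Pic(X) is surjective. -/
theorem result (X : Scheme.{u}) [IsReduced X]
    (hX : ∀ x : ↥X, ∃ W : X.Opens, x ∈ W ∧
      {Z : Set ↥X | Z ∈ irreducibleComponents ↥X ∧ (Z ∩ (W : Set ↥X)).Nonempty}.Finite)
    (L : X.Modules) (hL : PicF.IsInvertible L) :
    ∃ D : Mero.Divisor X, Nonempty (L ≅ Mero.divMod D) := by
  classical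
  have hlf : LocFin X := locFin_of_components hX
  choose V τ hxV hτ using fun x : X => exists_isGen hL x
  have hu : ∀ x ξ : X, ∃ u : Γ(X, V x ⊓ V ξ),
      L.presheaf.map (homOfLE (inf_le_right : V x ⊓ V ξ ≤ V ξ)).op (τ ξ) =
        u • L.presheaf.map (homOfLE (inf_le_left : V x ⊓ V ξ ≤ V x)).op (τ x) := by
    intro x ξ
    obtain ⟨u, hu⟩ := ((hτ x) (V x ⊓ V ξ) inf_le_left).2
      (L.presheaf.map (homOfLE (inf_le_right : V x ⊓ V ξ ≤ V ξ)).op (τ ξ))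
    exact ⟨u, hu.symm⟩
  choose u hu using hu
  have huunit : ∀ x ξ : X, IsUnit (u x ξ) := fun x ξ =>
    isUnit_of_gens ((hτ x).res inf_le_left) ((hτ ξ).res inf_le_right) (u x ξ) (hu x ξ)
  have hmem : ∀ (x ξ : X), ξ ∈ V x → ξ ∈ V x ⊓ V ξ := fun x ξ hξ =>
    Opens.mem_inf.mpr ⟨hξ, hxV ξ⟩
  have hgu : ∀ (x ξ : X) (hξ : ξ ∈ V x),
      IsUnit (X.presheaf.germ (V x ⊓ V ξ) ξ (hmem x ξ hξ) (u x ξ)) := fun x ξ hξ =>
    (huunit x ξ).map (X.presheaf.germ (V x ⊓ V ξ) ξ (hmem x ξ hξ)).hom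
  obtain ⟨k, hk⟩ : ∃ k : ∀ x ξ : X, (Mero.KStalk X ξ)ˣ, ∀ (x ξ : X) (hξ : ξ ∈ V x),
      ((k x ξ : (Mero.KStalk X ξ)ˣ) : Mero.KStalk X ξ) =
        algebraMap (X.presheaf.stalk ξ) (Mero.KStalk X ξ)
          (X.presheaf.germ (V x ⊓ V ξ) ξ (hmem x ξ hξ) (u x ξ)) := by
    refine ⟨fun x ξ => if hξ : ξ ∈ V x then
      Units.map (algebraMap (X.presheaf.stalk ξ) (Mero.KStalk X ξ)).toMonoidHom (hgu x ξ hξ).unit
      else 1, fun x ξ hξ => ?_⟩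
    beta_reduce
    rw [dif_pos hξ]
    rfl
  choose f hf using fun x : X => exists_unit_of_generic hlf (V x) (k x)
  refine exists_divisor_iso L V (fun x => ⟨x, hxV x⟩) τ hτ f ?_
  intro x y W hi hj w hw z
  have h12 : ((Mero.kmod X).presheaf.map (homOfLE hi).op (f x : Γ(Mero.kmod X, V x)) :
      Γ(Mero.kmod X, W)) = Mero.toK X W w *
      ((Mero.kmod X).presheaf.map (homOfLE hj).op (f y : Γ(Mero.kmod X, V y)) :
        Γ(Mero.kmod X, W)) := by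
    apply kmod_ext_of_generic
    intro ξ hξ hgen
    show (f x : Γ(Mero.kmod X, V x)).1 ⟨ξ, hi hξ⟩ =
      (Mero.toK X W w).1 ⟨ξ, hξ⟩ * (f y : Γ(Mero.kmod X, V y)).1 ⟨ξ, hj hξ⟩
    rw [hf x ξ (hi hξ) hgen, hf y ξ (hj hξ) hgen, hk x ξ (hi hξ), hk y ξ (hj hξ)]
    show algebraMap (X.presheaf.stalk ξ) (Mero.KStalk X ξ)
        (X.presheaf.germ (V x ⊓ V ξ) ξ (hmem x ξ (hi hξ)) (u x ξ)) =
      (LocalizedModule.mk (X.presheaf.germ W ξ hξ w) 1 : Mero.KStalk X ξ) *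
        algebraMap (X.presheaf.stalk ξ) (Mero.KStalk X ξ)
          (X.presheaf.germ (V y ⊓ V ξ) ξ (hmem y ξ (hj hξ)) (u y ξ))
    rw [kmk_one, ← map_mul,
      germ_transition L (τ x) (hτ x) (τ y) (τ ξ) (u x ξ) (hu x ξ) (u y ξ) (hu y ξ) W hi hj w hw
        ξ hξ (hxV ξ) (hmem x ξ (hi hξ)) (hmem y ξ (hj hξ))]
  have h3 := congrArg (fun t : Γ(Mero.kmod X, W) => t.1 z) h12
  have h4 : (f x : Γ(Mero.kmod X, V x)).1 ⟨z.1, hi z.2⟩ =
      (Mero.toK X W w).1 z * (f y : Γ(Mero.kmod X, V y)).1 ⟨z.1, hj z.2⟩ := h3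
  rw [h4, Mero.toK_apply, kmk_one]

end Groth.Agent.S5089
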