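import Groth.Statements.S5090
import Groth.Agent.H95.StalkPrimes

set_option autoImplicit false
universe u
open CategoryTheory CategoryTheory.Limits AlgebraicGeometry TopologicalSpace
open Div21

namespace Groth.Agent.S5090

open CategoryTheory AlgebraicGeometry TopologicalSpace IsLocalRing
open Groth.Agent.H95.StalkPrimes

set_option linter.style.haveILetI false

/-- Equivalence of conditions a'') and c): let X be a locally Noetherian scheme which is reduced at each
of its isolated points (for every point x such that {x} is open, the local ring O_{X,x} is reduced).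
Then the following are equivalent. (a'') Every integral closed subscheme of X of codimension 1 is
regularly immersed in X: for every point ζ whose local ring has dimension 1 and every specialization
x of ζ, the ideal of O_{X,x} defining the closure of ζ with its reduced structure (the preimage of
the maximal ideal of O_{X,ζ} under the specialization map) is generated by one non-zero-divisor of
O_{X,x}. (c) X is locally factorial: every local ring of X is a unique factorisation domain. -/
theorem result (X : Scheme.{u}) [IsLocallyNoetherian X]
    (hred : ∀ x : ↥X, IsOpen ({x} : Set ↥X) → IsReduced ↑(X.presheaf.stalk x)) :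
    (∀ ζ : ↥X, ringKrullDim ↑(X.presheaf.stalk ζ) = 1 → ∀ (x : ↥X) (h : ζ ⤳ x),
        ∃ t : ↑(X.presheaf.stalk x), t ∈ nonZeroDivisors ↑(X.presheaf.stalk x) ∧
          (IsLocalRing.maximalIdeal ↑(X.presheaf.stalk ζ)).comap (X.presheaf.stalkSpecializes h).hom =
            Ideal.span {t}) ↔
      ∀ x : ↥X, ∃ _ : IsDomain ↑(X.presheaf.stalk x), UniqueFactorizationMonoid ↑(X.presheaf.stalk x) := by
  classical
  constructor
  · intro H
    -- height-one primes are generated by a nonzerodivisor
    have hprin : ∀ (y : X) (P : Ideal (X.presheaf.stalk y)) [P.IsPrime], P.height = 1 →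
        ∃ t : X.presheaf.stalk y, t ∈ nonZeroDivisors (X.presheaf.stalk y) ∧
          P = Ideal.span {t} := by
      intro y P hP hPh
      obtain ⟨ζ, h, hd, hζ⟩ := exists_generization_of_height_one y P hPh
      obtain ⟨t, ht, hPt⟩ := H ζ hd y h
      exact ⟨t, ht, hζ.symm.trans hPt⟩
    have hdom : ∀ y : X, (1 : WithBot ℕ∞) ≤ ringKrullDim (X.presheaf.stalk y) →
        IsDomain (X.presheaf.stalk y) := by
      intro y hy
      obtain ⟨P, hPprime, hPht⟩ := exists_height_one_prime (X.presheaf.stalk y) hy
      haveI := hPprime
      obtain ⟨t, ht, hPt⟩ := hprin y P hPht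
      exact isDomain_of_principal (X.presheaf.stalk y) P t ht hPt
    intro x
    have hdomx : IsDomain (X.presheaf.stalk x) := by
      by_cases h1 : (1 : WithBot ℕ∞) ≤ ringKrullDim (X.presheaf.stalk x)
      · exact hdom x h1
      · by_cases hopen : IsOpen ({x} : Set X)
        · haveI := hred x hopen
          have h0 : ringKrullDim (X.presheaf.stalk x) ≤ ((0 : ℕ) : WithBot ℕ∞) := by
            have h2 : ringKrullDim (X.presheaf.stalk x) < ((0 : ℕ) : WithBot ℕ∞) + 1 := by
              have h3 := not_le.mp h1
              simpa using h3
            exact ENat.WithBot.lt_add_one_iff.mp h2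
          haveI : Ring.KrullDimLE 0 (X.presheaf.stalk x) := Ring.krullDimLE_iff.mpr h0
          haveI : IsArtinianRing (X.presheaf.stalk x) :=
            IsNoetherianRing.isArtinianRing_of_krullDimLE_zero
          exact (IsArtinianRing.isField_of_isReduced_of_isLocalRing (X.presheaf.stalk x)).isDomain
        · obtain ⟨y, hxy, hne⟩ := exists_specializes_ne x h1 hopen
          haveI := hdom y (one_le_dim_of_specializes_ne hxy hne)
          exact isDomain_of_specializes hxy
    refine ⟨hdomx, ?_⟩
    haveI := hdomx
    apply UniqueFactorizationMonoid.of_forall_isPrincipal_of_height_eq_one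
    intro P hP hPht
    obtain ⟨t, -, hPt⟩ := hprin x P hPht
    exact ⟨⟨t, hPt⟩⟩
  · intro H ζ hd x h
    obtain ⟨hdomx, hufd⟩ := H x
    haveI := hdomx
    haveI := hufd
    haveI : ((IsLocalRing.maximalIdeal (X.presheaf.stalk ζ)).comap
        (X.presheaf.stalkSpecializes h).hom).IsPrime := Ideal.comap_isPrime _ _
    have hPh := height_eq_one_of_dim_eq_one h hd
    obtain ⟨t, ht⟩ := (UniqueFactorizationMonoid.isPrincipal_of_height_eq_one hPh).principal
    have ht' : (IsLocalRing.maximalIdeal (X.presheaf.stalk ζ)).comap
        (X.presheaf.stalkSpecializes h).hom = Ideal.span {t} := ht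
    refine ⟨t, ?_, ht'⟩
    apply mem_nonZeroDivisors_of_ne_zero
    intro h0
    have hbot := Ideal.ne_bot_of_height_eq_one hPh
    apply hbot
    rw [ht', h0]
    exact Ideal.span_singleton_eq_bot.mpr rfl

end Groth.Agent.S5090
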