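import Groth.Statements.S5092
import Groth.Agent.H95.IdealSheafLocal
import Groth.Agent.H8.AssPoints
import Mathlib.RingTheory.Ideal.AssociatedPrime.Localization

set_option autoImplicit false
universe u
open CategoryTheory CategoryTheory.Limits AlgebraicGeometry TopologicalSpace
open Mero

namespace Groth.Agent.S5092

/-- Suppose X and Y are schemes, both locally Noetherian, and f : X → Y is a morphism carrying each
associated point of O_X (that is, a point whose local ring has its maximal ideal among its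
associated primes) to an associated point of O_Y. Then, given any open subset U of Y and any regular
function s on U (one whose germ at each point of U is a non-zero-divisor), the function on f⁻¹(U)
obtained by pulling s back along f is again regular; as a result, every meromorphic function and
every divisor on Y admits a well-defined pullback along f. -/
theorem result {X Y : Scheme.{u}} [IsLocallyNoetherian X] [IsLocallyNoetherian Y]
    (f : X ⟶ Y)
    (hf : ∀ x : ↥X, IsAssociatedPrime (IsLocalRing.maximalIdeal ↑(X.presheaf.stalk x)) ↑(X.presheaf.stalk x) →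
      IsAssociatedPrime (IsLocalRing.maximalIdeal ↑(Y.presheaf.stalk (f x))) ↑(Y.presheaf.stalk (f x))) :
    ∀ (U : Y.Opens) (s : Γ(Y, U)), s ∈ Mero.regSub Y U → f.app U s ∈ Mero.regSub X (f ⁻¹ᵁ U) := by
  intro U s hs x
  show X.presheaf.germ (f ⁻¹ᵁ U) x.1 x.2 (f.app U s) ∈ nonZeroDivisors (X.presheaf.stalk x.1)
  obtain ⟨W, hW0, hxW, hWU⟩ := Opens.isBasis_iff_nbhd.mp X.isBasis_affineOpens
    (show x.1 ∈ f ⁻¹ᵁ U from x.2)
  have hW : IsAffineOpen W := hW0
  obtain ⟨t, ht⟩ : ∃ t : Γ(X, W), t = X.presheaf.map (homOfLE hWU).op (f.app U s) := ⟨_, rfl⟩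
  have hgerm : ∀ (y : X) (hy : y ∈ W), X.presheaf.germ W y hy t =
      X.presheaf.germ (f ⁻¹ᵁ U) y (hWU hy) (f.app U s) := by
    intro y hy
    rw [ht, TopCat.Presheaf.germ_res_apply]
  haveI : IsNoetherianRing Γ(X, W) := IsLocallyNoetherian.component_noetherian ⟨W, hW⟩
  have htreg : t ∈ nonZeroDivisors Γ(X, W) := by
    by_contra hcon
    have h1 : t ∈ ((nonZeroDivisors Γ(X, W) : Set Γ(X, W)))ᶜ := hcon
    rw [← biUnion_associatedPrimes_eq_compl_nonZeroDivisors] at h1
    obtain ⟨𝔭, h𝔭ass, ht𝔭⟩ := Set.mem_iUnion₂.mp h1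
    have h𝔭ass' : IsAssociatedPrime 𝔭 Γ(X, W) := h𝔭ass
    haveI h𝔭prime : 𝔭.IsPrime := h𝔭ass'.isPrime
    obtain ⟨x', hx'⟩ : ∃ x' : X, x' = Groth.Agent.H8.pointOfPrime hW 𝔭 := ⟨_, rfl⟩
    have hx'W : x' ∈ W := by
      rw [hx']
      exact Groth.Agent.H8.pointOfPrime_mem hW 𝔭
    have hprime : (hW.primeIdealOf ⟨x', hx'W⟩).asIdeal = 𝔭 := by
      subst hx'
      exact congrArg PrimeSpectrum.asIdeal (Groth.Agent.H8.primeIdealOf_pointOfPrime hW 𝔭)
    subst hprime
    letI := X.presheaf.algebra_section_stalk ⟨x', hx'W⟩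
    haveI hloc := hW.isLocalization_stalk ⟨x', hx'W⟩
    have hcomap : (IsLocalRing.maximalIdeal (X.presheaf.stalk x')).comap
        (algebraMap Γ(X, W) (X.presheaf.stalk x')) = (hW.primeIdealOf ⟨x', hx'W⟩).asIdeal :=
      IsLocalization.AtPrime.under_maximalIdeal (X.presheaf.stalk x') _
    have hass : IsAssociatedPrime (IsLocalRing.maximalIdeal (X.presheaf.stalk x'))
        (X.presheaf.stalk x') := by
      refine Module.associatedPrimes.mem_associatedPrimes_of_comap_mem_associatedPrimes_of_isLocalizedModule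
        (hW.primeIdealOf ⟨x', hx'W⟩).asIdeal.primeCompl
        (Algebra.linearMap Γ(X, W) (X.presheaf.stalk x'))
        (IsLocalRing.maximalIdeal (X.presheaf.stalk x')) ?_
      rw [hcomap]
      exact h𝔭ass
    have hassY := hf x' hass
    have hfx'U : f x' ∈ U := hWU hx'W
    have hσ : Y.presheaf.germ U (f x') hfx'U s ∈ nonZeroDivisors (Y.presheaf.stalk (f x')) :=
      hs ⟨f x', hfx'U⟩
    have hσunit : IsUnit (Y.presheaf.germ U (f x') hfx'U s) := by
      by_contra hnu
      have hmem : Y.presheaf.germ U (f x') hfx'U s ∈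
          IsLocalRing.maximalIdeal (Y.presheaf.stalk (f x')) :=
        (IsLocalRing.mem_maximalIdeal _).mpr hnu
      have h2 : Y.presheaf.germ U (f x') hfx'U s ∈
          ⋃ p ∈ associatedPrimes (Y.presheaf.stalk (f x')) (Y.presheaf.stalk (f x')), (p : Set _) :=
        Set.mem_iUnion₂.mpr ⟨_, hassY, hmem⟩
      rw [biUnion_associatedPrimes_eq_compl_nonZeroDivisors] at h2
      exact h2 hσ
    have hunit2 : IsUnit (X.presheaf.germ W x' hx'W t) := by
      rw [hgerm x' hx'W, ← f.germ_stalkMap_apply U x' hfx'U s]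
      exact hσunit.map _
    have h3 : x' ∈ X.basicOpen t := (Scheme.mem_basicOpen X t x' hx'W).mpr hunit2
    exact (Groth.Agent.H8.mem_basicOpen_iff_notMem_primeIdealOf hW x' hx'W t).mp h3 ht𝔭
  have hfin := Groth.Agent.H95.IdealSheafLocal.germ_mem_nonZeroDivisors (U := ⟨W, hW⟩) x.1 hxW t
    htreg
  have hfin' : X.presheaf.germ W x.1 hxW t ∈ nonZeroDivisors (X.presheaf.stalk x.1) := hfin
  rw [hgerm x.1 hxW] at hfin'
  exact hfin'

end Groth.Agent.S5092
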