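import Groth.Statements.S5093
import Groth.Agent.H95.MeroDense
import Groth.Agent.H95.StalkPrimes

set_option autoImplicit false
universe u
open CategoryTheory CategoryTheory.Limits AlgebraicGeometry TopologicalSpace
open Mero

namespace Groth.Agent.S5093

open IsLocalRing in
lemma exists_maximal_generization {X : Scheme.{u}} (ζ : X) :
    ∃ ξ : X, ξ ⤳ ζ ∧ ∀ z : X, z ⤳ ξ → z = ξ := by
  have hirr : IsIrreducible (irreducibleComponent ζ) := isIrreducible_irreducibleComponent
  have hcl : IsClosed (irreducibleComponent ζ) := isClosed_irreducibleComponent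
  obtain ⟨ξ, hξ⟩ := QuasiSober.sober hirr hcl
  refine ⟨ξ, ?_, ?_⟩
  · rw [specializes_iff_mem_closure, hξ.def]
    exact mem_irreducibleComponent
  · intro z hz
    have h1 : closure {ξ} ⊆ closure {z} :=
      closure_minimal (Set.singleton_subset_iff.mpr (specializes_iff_mem_closure.mp hz))
        isClosed_closure
    have hmem : irreducibleComponent ζ ∈ irreducibleComponents X :=
      irreducibleComponent_mem_irreducibleComponents ζ
    have h1' : irreducibleComponent ζ ⊆ closure {z} := by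
      rw [← hξ.def]
      exact h1
    have h2 : closure {z} ⊆ irreducibleComponent ζ :=
      hmem.2 (isIrreducible_singleton.closure) h1'
    have h3 : ξ ⤳ z := by
      rw [specializes_iff_mem_closure, hξ.def]
      exact h2 (subset_closure rfl)
    exact (hz.antisymm h3).eq

lemma isUnit_of_maximal_point {Y : Scheme.{u}} (y : Y) (hy : ∀ z : Y, z ⤳ y → z = y)
    (σ : Y.presheaf.stalk y) (hσ : σ ∈ nonZeroDivisors (Y.presheaf.stalk y)) : IsUnit σ := by
  by_contra hnu
  have hmem : σ ∈ IsLocalRing.maximalIdeal (Y.presheaf.stalk y) :=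
    (IsLocalRing.mem_maximalIdeal _).mpr hnu
  have hnil : IsNilpotent σ := by
    rw [nilpotent_iff_mem_prime]
    intro Q hQ
    haveI := hQ
    obtain ⟨z, hz, hzQ⟩ := Groth.Agent.H95.StalkPrimes.exists_generization y Q
    have hzy := hy z hz
    subst hzy
    have hrefl : Y.presheaf.stalkSpecializes hz = 𝟙 _ := Y.presheaf.stalkSpecializes_refl z
    rw [hrefl] at hzQ
    rw [← hzQ]
    exact hmem
  obtain ⟨n, hn⟩ := hnil
  exact nonZeroDivisors.ne_zero (pow_mem hσ n) hn

/-- Let f : X → Y be a morphism of schemes such that the set of irreducible components of Y is locally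
finite, X is reduced, and every irreducible component of X dominates an irreducible component of Y
(f sends every maximal point of X, i.e. every point with no proper generization, to a maximal point
of Y). Then for every open subset U of Y and every regular function s on U (germ a non-zero-divisor
at every point of U), the pulled-back function on f⁻¹(U) is regular; consequently the pullback along
f of every meromorphic function and of every divisor on Y is defined. -/
theorem result {X Y : Scheme.{u}} [IsReduced X] (f : X ⟶ Y)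
    (hY : ∀ y : ↥Y, ∃ W : Y.Opens, y ∈ W ∧
      {Z : Set ↥Y | Z ∈ irreducibleComponents ↥Y ∧ (Z ∩ (W : Set ↥Y)).Nonempty}.Finite)
    (hf : ∀ ξ : ↥X, (∀ z : ↥X, z ⤳ ξ → z = ξ) → ∀ z : ↥Y, z ⤳ f ξ → z = f ξ) :
    ∀ (U : Y.Opens) (s : Γ(Y, U)), s ∈ Mero.regSub Y U → f.app U s ∈ Mero.regSub X (f ⁻¹ᵁ U) := by
  intro U s hs x
  show X.presheaf.germ (f ⁻¹ᵁ U) x.1 x.2 (f.app U s) ∈ nonZeroDivisors (X.presheaf.stalk x.1)
  rw [mem_nonZeroDivisors_iff_right]
  intro c hc
  apply Groth.Agent.H95.MeroDense.eq_zero_of_mem_sInf_minimalPrimes c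
  intro P hP
  haveI hPprime : P.IsPrime := hP.1.1
  obtain ⟨ζ, hζx, hζP⟩ := Groth.Agent.H95.StalkPrimes.exists_generization x.1 P
  obtain ⟨ξ, hξζ, hξmax⟩ := exists_maximal_generization ζ
  have hξx : ξ ⤳ x.1 := hξζ.trans hζx
  have hle : (IsLocalRing.maximalIdeal (X.presheaf.stalk ξ)).comap
      (X.presheaf.stalkSpecializes hξx).hom ≤ P := by
    rw [← hζP]
    intro a ha
    obtain ⟨V, hxV, α, rfl⟩ := X.presheaf.exists_germ_eq a
    have ha' : (X.presheaf.stalkSpecializes hξx).hom (X.presheaf.germ V x.1 hxV α) ∈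
        IsLocalRing.maximalIdeal (X.presheaf.stalk ξ) := ha
    have e1 : (X.presheaf.stalkSpecializes hξx).hom (X.presheaf.germ V x.1 hxV α) =
        X.presheaf.germ V ξ (hξx.mem_open V.2 hxV) α :=
      TopCat.Presheaf.germ_stalkSpecializes_apply X.presheaf hxV hξx α
    rw [e1] at ha'
    show (X.presheaf.stalkSpecializes hζx).hom (X.presheaf.germ V x.1 hxV α) ∈
        IsLocalRing.maximalIdeal (X.presheaf.stalk ζ)
    have e2 : (X.presheaf.stalkSpecializes hζx).hom (X.presheaf.germ V x.1 hxV α) =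
        X.presheaf.germ V ζ (hζx.mem_open V.2 hxV) α :=
      TopCat.Presheaf.germ_stalkSpecializes_apply X.presheaf hxV hζx α
    rw [e2]
    by_contra hnot
    have hu : IsUnit (X.presheaf.germ V ζ (hζx.mem_open V.2 hxV) α) :=
      IsLocalRing.notMem_maximalIdeal.mp hnot
    have hu2 := hu.map (X.presheaf.stalkSpecializes hξζ).hom
    have e3 : (X.presheaf.stalkSpecializes hξζ).hom
        (X.presheaf.germ V ζ (hζx.mem_open V.2 hxV) α) =
        X.presheaf.germ V ξ (hξx.mem_open V.2 hxV) α :=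
      TopCat.Presheaf.germ_stalkSpecializes_apply X.presheaf (hζx.mem_open V.2 hxV) hξζ α
    rw [e3] at hu2
    exact (IsLocalRing.mem_maximalIdeal _).mp ha' hu2
  have hPle : P ≤ (IsLocalRing.maximalIdeal (X.presheaf.stalk ξ)).comap
      (X.presheaf.stalkSpecializes hξx).hom :=
    hP.2 ⟨Ideal.comap_isPrime _ _, bot_le⟩ hle
  have hξU : ξ ∈ f ⁻¹ᵁ U := hξx.mem_open (f ⁻¹ᵁ U).2 x.2
  have hfξU : f ξ ∈ U := hξU
  have hσunit : IsUnit (Y.presheaf.germ U (f ξ) hfξU s) :=
    isUnit_of_maximal_point (f ξ) (hf ξ hξmax) _ (hs ⟨f ξ, hfξU⟩)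
  have hunit2 : IsUnit (X.presheaf.germ (f ⁻¹ᵁ U) ξ hξU (f.app U s)) := by
    rw [← f.germ_stalkMap_apply U ξ hfξU s]
    exact hσunit.map _
  have hnotP : X.presheaf.germ (f ⁻¹ᵁ U) x.1 x.2 (f.app U s) ∉ P := by
    intro hmem
    have h1 := hPle hmem
    have h2 : (X.presheaf.stalkSpecializes hξx).hom
        (X.presheaf.germ (f ⁻¹ᵁ U) x.1 x.2 (f.app U s)) ∈
        IsLocalRing.maximalIdeal (X.presheaf.stalk ξ) := h1
    have e1 : (X.presheaf.stalkSpecializes hξx).hom
        (X.presheaf.germ (f ⁻¹ᵁ U) x.1 x.2 (f.app U s)) =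
        X.presheaf.germ (f ⁻¹ᵁ U) ξ hξU (f.app U s) :=
      TopCat.Presheaf.germ_stalkSpecializes_apply X.presheaf x.2 hξx (f.app U s)
    rw [e1] at h2
    exact (IsLocalRing.mem_maximalIdeal _).mp h2 hunit2
  have hcP : c * X.presheaf.germ (f ⁻¹ᵁ U) x.1 x.2 (f.app U s) ∈ P := by
    rw [hc]
    exact P.zero_mem
  exact (hPprime.mem_or_mem hcP).resolve_right hnotP

end Groth.Agent.S5093
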