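import Groth.Statements.S5097


set_option autoImplicit false
universe u
open CategoryTheory CategoryTheory.Limits AlgebraicGeometry TopologicalSpace
open Mero

namespace Groth.Agent.S5097

open CategoryTheory AlgebraicGeometry TopologicalSpace Opposite

theorem half {X : Scheme.{u}} (D D' : Mero.Divisor X) (U U' : X.Opens)
    (f : (Γ(Mero.kmod X, U))ˣ) (f' : (Γ(Mero.kmod X, U'))ˣ)
    (hf : ∀ y : U, D.1 y.1 = Mero.germOf f y) (hf' : ∀ y : U', D'.1 y.1 = Mero.germOf f' y)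
    (h : ∀ (W : X.Opens) (t : Γ(Mero.kmod X, W)),
      (∀ x : W, Mero.DivCond D x.1 (t.1 x)) → (∀ x : W, Mero.DivCond D' x.1 (t.1 x)))
    (y : X) (hyU : y ∈ U) (hyU' : y ∈ U') :
    ∃ r : X.presheaf.stalk y, algebraMap (X.presheaf.stalk y) (Mero.KStalk X y) r =
      (((Units.map (Mero.evalK X U ⟨y, hyU⟩).toMonoidHom f)⁻¹ *
        Units.map (Mero.evalK X U' ⟨y, hyU'⟩).toMonoidHom f' : (Mero.KStalk X y)ˣ) :
          Mero.KStalk X y) := by
  let t : Γ(Mero.kmod X, U ⊓ U') :=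
    (Mero.kmod X).presheaf.map (homOfLE (inf_le_left : U ⊓ U' ≤ U)).op
      ((f⁻¹ : (Γ(Mero.kmod X, U))ˣ) : Γ(Mero.kmod X, U))
  have ht : ∀ z : (U ⊓ U' : X.Opens), Mero.DivCond D z.1 (t.1 z) := by
    intro z g hg
    have hz : D.1 z.1 = Mero.germOf f ⟨z.1, z.2.1⟩ := hf ⟨z.1, z.2.1⟩
    rw [hg] at hz
    have h1 : (Units.map (Mero.evalK X U ⟨z.1, z.2.1⟩).toMonoidHom f)⁻¹ * g ∈
        Mero.stalkUnits X z.1 := QuotientGroup.eq.1 hz.symm
    obtain ⟨v, hv⟩ := h1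
    refine ⟨(v : X.presheaf.stalk z.1), ?_⟩
    have h2 := congrArg (fun u : (Mero.KStalk X z.1)ˣ => (u : Mero.KStalk X z.1)) hv
    rw [Units.val_mul] at h2
    exact h2
  have ht' := h (U ⊓ U') t ht ⟨y, hyU, hyU'⟩
    (Units.map (Mero.evalK X U' ⟨y, hyU'⟩).toMonoidHom f') (hf' ⟨y, hyU'⟩)
  obtain ⟨r, hr⟩ := ht'
  refine ⟨r, hr.trans ?_⟩
  rw [Units.val_mul]
  rfl

/-- Injectivity of the canonical homomorphism from divisors to invertible fractional ideals: let X be a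
scheme and D, D' two divisors on X such that, over every open subset U, a section t of the sheaf of
meromorphic functions lies in O_X(D) (t_x · g ∈ O_{X,x} for a representative g of the germ of D at
x, for all x in U) if and only if it lies in O_X(D'). Then D = D'. -/
theorem result (X : Scheme.{u}) (D D' : Mero.Divisor X)
    (h : ∀ (U : X.Opens) (t : Γ(Mero.kmod X, U)),
      (∀ x : ↥U, Mero.DivCond D x.1 (t.1 x)) ↔ (∀ x : ↥U, Mero.DivCond D' x.1 (t.1 x))) :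
    D = D' := by
  apply Subtype.ext
  funext x
  obtain ⟨U, hxU, f, hf⟩ := D.2 x
  obtain ⟨U', hxU', f', hf'⟩ := D'.2 x
  obtain ⟨r, hr⟩ := half D D' U U' f f' hf hf' (fun W t => (h W t).1) x hxU hxU'
  obtain ⟨r', hr'⟩ := half D' D U' U f' f hf' hf (fun W t => (h W t).2) x hxU' hxU
  have e1 : D.1 x = Mero.germOf f ⟨x, hxU⟩ := hf ⟨x, hxU⟩
  have e2 : D'.1 x = Mero.germOf f' ⟨x, hxU'⟩ := hf' ⟨x, hxU'⟩
  rw [e1, e2]
  apply QuotientGroup.eq.2
  have hrr' : r * r' = 1 := by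
    apply Mero.algebraMap_KStalk_injective x
    rw [map_mul, hr, hr', map_one, ← Units.val_mul]
    simp
  have hr'r : r' * r = 1 := by rw [mul_comm]; exact hrr'
  refine ⟨⟨r, r', hrr', hr'r⟩, Units.ext ?_⟩
  exact hr

end Groth.Agent.S5097
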