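import Groth.Statements.S5105
import Groth.Agent.H95.WeilFactorial

set_option autoImplicit false
universe u
open CategoryTheory CategoryTheory.Limits AlgebraicGeometry TopologicalSpace
open Div21

namespace Groth.Agent.S5105

open Groth.Agent.H95.WeilSheaf Groth.Agent.H95.WeilFactorial Groth.Agent.H95.RefGroup
open Groth.Agent.H95.SecOrd Groth.Agent.H95.RefIso
open Groth.Agent.H18.TensorGen (exists_isGen)

/-- For an integral scheme (X is locally factorial exactly when the canonical map Pic(X) → Cl(X) is a
bijection; in the presence of (i), being bijective means that each codimension-1 cycle arises as the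
Weil divisor of some rational section of an invertible module): suppose X is an integral scheme that
is normal and locally Noetherian. Then these two conditions are equivalent: (1) whenever Z is a
function from the points of X to the integers that is zero away from the points of codimension 1
(coheight 1) and whose support is locally finite, one can find an invertible O_X-module L together
with a nonzero rational section s of L (a nonzero element of the generic fibre of L) such that, at
each point of codimension 1, the order of s equals the value Z takes there; (2) each local ring of X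
is a unique factorisation domain. -/
theorem result (X : Scheme.{u}) [IsIntegral X]
    [IsLocallyNoetherian X] (hX : Pi1.IsNormalScheme X) :
    (∀ Z : ↥X → ℤ, (∀ x : ↥X, Order.coheight x ≠ 1 → Z x = 0) →
        (∀ x : ↥X, ∃ W : X.Opens, x ∈ W ∧ {z : ↥X | z ∈ W ∧ Z z ≠ 0}.Finite) →
        ∃ (L : X.Modules) (_ : PicF.IsInvertible L) (s : Cyc.secFibre L (genericPoint ↥X)), s ≠ 0 ∧
          ∀ x : ↥X, Order.coheight x = 1 →
            Cyc.secOrdAt L (genericPoint ↥X) x (genericPoint_specializes x) s = Z x) ↔
      ∀ x : ↥X, UniqueFactorizationMonoid ↑(X.presheaf.stalk x) := by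
  have hη : ∀ x : X, genericPoint X ⤳ x :=
    fun x => (genericPoint_spec X).specializes (Set.mem_univ x)
  constructor
  · intro H1 x
    refine ufm_of_local_functions hX (fun x ζ hζx hζ1 => ?_) x
    classical
    obtain ⟨L, hL, s, hs, hord⟩ := H1 (fun z => if z = ζ then 1 else 0)
      (fun z hz => by
        have hne : z ≠ ζ := fun e => hz (e ▸ hζ1)
        simp only [if_neg hne])
      (fun z => ⟨⊤, trivial, (Set.finite_singleton ζ).subset (fun w hw => by
        by_contra hne
        have hne' : w ≠ ζ := hne
        exact hw.2 (by simp only [if_neg hne']))⟩)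
    obtain ⟨V, τ, hxV, hτ⟩ := exists_isGen hL x
    have hηV : genericPoint X ∈ V := (hη x).mem_open V.2 hxV
    obtain ⟨ψ, hsψ⟩ := exists_eq_smul_mk hτ (genericPoint X) hηV s
    have hψu : IsUnit ψ := isUnit_of_mk_ne_zero (genericPoint X) hηV s hs ψ hsψ
    have hψ0 : (ψ : X.functionField) ≠ 0 := hψu.ne_zero
    refine ⟨Units.mk0 ψ hψ0, fun z hzx hz1 => ?_⟩
    have hzV : z ∈ V := hzx.mem_open V.2 hxV
    have h1 := secOrdAt_eq_of_isGen hτ (hη z) hzV hηV s ψ hsψ
    rw [ordAt_residue_eq_ord z hz1 (hη z) ψ hψ0] at h1
    have h2 := hord z hz1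
    rw [Units.val_mk0]
    constructor
    · intro e
      rw [← h1]
      rw [if_pos e] at h2
      exact h2
    · intro e
      rw [← h1]
      rw [if_neg e] at h2
      exact h2
  · intro hUF Z hZ1 hZfin
    have hfinp : LocFin (fun x : X => (Z x).toNat) := by
      intro x
      obtain ⟨W, hxW, hWf⟩ := hZfin x
      refine ⟨W, hxW, hWf.subset ?_⟩
      rintro z ⟨hzW, hz⟩
      refine ⟨hzW, fun h0 => hz ?_⟩
      simp only [h0]
      rfl
    have hfinn : LocFin (fun x : X => (-Z x).toNat) := by
      intro x
      obtain ⟨W, hxW, hWf⟩ := hZfin x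
      refine ⟨W, hxW, hWf.subset ?_⟩
      rintro z ⟨hzW, hz⟩
      refine ⟨hzW, fun h0 => hz ?_⟩
      simp only [h0]
      rfl
    have hEp1 : ∀ x : X, Order.coheight x ≠ 1 → (fun x : X => (Z x).toNat) x = 0 := by
      intro x hx
      simp only [hZ1 x hx]
      rfl
    have hEn1 : ∀ x : X, Order.coheight x ≠ 1 → (fun x : X => (-Z x).toNat) x = 0 := by
      intro x hx
      simp only [hZ1 x hx]
      rfl
    obtain ⟨G₁, hG₁, hG₁i, s₁, hs₁, hord₁⟩ := exists_invertible_of_eff hX hUF hfinp hEp1
    obtain ⟨G₂, hG₂, hG₂i, s₂, hs₂, hord₂⟩ := exists_invertible_of_eff hX hUF hfinn hEn1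
    obtain ⟨s₁', hs₁', hord₁'⟩ := exists_dual_section hX hG₁ s₁ hs₁
    have hD₁i : PicF.IsInvertible (RefHull.dual G₁) :=
      Groth.Agent.H95.DualInv.isInvertible_dual hG₁i
    obtain ⟨w, hw, hordw⟩ := Groth.Agent.S16092.result X (RefHull.dual G₁) G₂ hD₁i hG₂i
      s₁' hs₁' s₂ hs₂
    refine ⟨CohB1.tensorMod (RefHull.dual G₁) G₂,
      Groth.Agent.H18.TensorGen.isInvertible_tensorMod hD₁i hG₂i, w, hw, fun x hx => ?_⟩
    have hdim : ringKrullDim (X.presheaf.stalk x) = 1 := by
      rw [AlgebraicGeometry.ringKrullDim_stalk_eq_coheight, hx]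
      rfl
    have h3 := hordw x hdim
    rw [hord₁' x hx, hord₁ x hx, hord₂ x hx] at h3
    refine h3.trans ?_
    have h := Int.toNat_sub_toNat_neg (Z x)
    omega

end Groth.Agent.S5105
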