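import Groth.Statements.S5110
import Mathlib
import Groth.Agent.H24.MaxPoints
import Groth.Agent.S5106

set_option autoImplicit false
universe u
open CategoryTheory CategoryTheory.Limits AlgebraicGeometry TopologicalSpace
open Lim8

namespace Groth.Agent.S5110

/-- Let (S_i) be a cofiltered system of schemes with affine transition morphisms and S its limit, such
that every S_i has finitely many maximal points and the transition morphisms send maximal points to
maximal points; let S_{i₀} be quasi-compact and V₀ an open subset of S_{i₀}, with inverse images V_i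
in the S_i over i₀ and V in S. If V₀ is dense in S_{i₀} then every V_i and V are dense. Conversely,
if V is dense in S and S has only finitely many maximal points, then V_i is dense in S_i for some i
over i₀. -/
theorem result {I : Type u} [SmallCategory I] [IsCofiltered I]
    (D : I ⥤ Scheme.{u}) (c : Limits.Cone D) (hc : Limits.IsLimit c)
    [∀ (i j : I) (g : i ⟶ j), IsAffineHom (D.map g)]
    (hfin : ∀ i : I, {s : ↥(D.obj i) | ∀ z : ↥(D.obj i), z ⤳ s → z = s}.Finite)
    (hsys : ∀ (i j : I) (g : i ⟶ j) (s : ↥(D.obj i)), (∀ z : ↥(D.obj i), z ⤳ s → z = s) →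
      ∀ z : ↥(D.obj j), z ⤳ D.map g s → z = D.map g s)
    (i₀ : I) [CompactSpace ↥(D.obj i₀)] (V₀ : (D.obj i₀).Opens) :
    (Dense (V₀ : Set ↥(D.obj i₀)) →
        (∀ (i : I) (g : i ⟶ i₀), Dense (((D.map g) ⁻¹ᵁ V₀ : (D.obj i).Opens) : Set ↥(D.obj i))) ∧
          Dense (((c.π.app i₀) ⁻¹ᵁ V₀ : c.pt.Opens) : Set ↥c.pt)) ∧
      (Dense (((c.π.app i₀) ⁻¹ᵁ V₀ : c.pt.Opens) : Set ↥c.pt) →
        {s : ↥c.pt | ∀ z : ↥c.pt, z ⤳ s → z = s}.Finite →
          ∃ (i : I) (g : i ⟶ i₀), Dense (((D.map g) ⁻¹ᵁ V₀ : (D.obj i).Opens) : Set ↥(D.obj i))) := by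
  have hAff : ∀ {a b : I} (f : a ⟶ b), IsAffineHom (D.map f) := fun f => inferInstance
  refine ⟨fun hd => ⟨fun i g => ?_, ?_⟩, fun hd hfinS => ?_⟩
  · apply H24.dense_of_maximal_mem _ ((D.map g) ⁻¹ᵁ V₀).2
    intro m hm
    have hm' := hsys i i₀ g m hm
    exact H24.maximal_mem_of_dense (hfin i₀) _ V₀.2 hd _ hm'
  · apply H24.dense_of_maximal_mem _ ((c.π.app i₀) ⁻¹ᵁ V₀).2
    intro m hm
    have hm' := (Groth.Agent.S5106.result D c hc hfin hsys m).mp hm i₀
    exact H24.maximal_mem_of_dense (hfin i₀) _ V₀.2 hd _ hm'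
  · by_contra hcon
    push_neg at hcon
    have hAff' : ∀ {a b : Over i₀} (f : a ⟶ b), IsAffineHom ((Over.forget i₀ ⋙ D).map f) :=
      fun f => by dsimp; infer_instance
    obtain ⟨z, hz⟩ := H24.exists_point_mem_of_finite_system (Over.forget i₀ ⋙ D)
      (c.whisker (Over.forget i₀))
      ((Functor.Initial.isLimitWhiskerEquiv (Over.forget i₀) c).symm hc)
      (fun j => {m : ↥(D.obj j.left) | (∀ z : ↥(D.obj j.left), z ⤳ m → z = m) ∧
        m ∉ ((D.map j.hom) ⁻¹ᵁ V₀ : (D.obj j.left).Opens)})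
      (fun j => (hfin j.left).subset (fun m hm => hm.1))
      (fun j => by
        by_contra hempty
        rw [Set.not_nonempty_iff_eq_empty] at hempty
        apply hcon j.left j.hom
        apply H24.dense_of_maximal_mem _ ((D.map j.hom) ⁻¹ᵁ V₀).2
        intro m hm
        by_contra hmV
        have : m ∈ (∅ : Set ↥(D.obj j.left)) := hempty ▸ ⟨hm, hmV⟩
        exact this)
      (fun {j k} a x hx => ⟨hsys _ _ a.left x hx.1, fun hmem => hx.2 (by
          change D.map j.hom x ∈ V₀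
          rw [← Over.w a, D.map_comp]
          exact hmem)⟩)
    obtain ⟨s, hs, hsz⟩ := H24.exists_maximal_generization z
    have hsV : s ∈ ((c.π.app i₀) ⁻¹ᵁ V₀ : c.pt.Opens) :=
      H24.maximal_mem_of_dense hfinS _ ((c.π.app i₀) ⁻¹ᵁ V₀).2 hd s hs
    have h0 := hz (Over.mk (𝟙 i₀))
    have h1 : c.π.app i₀ s = c.π.app i₀ z := h0.1 _ (hsz.map (c.π.app i₀).continuous)
    apply h0.2
    change D.map (𝟙 i₀) (c.π.app i₀ z) ∈ V₀
    rw [D.map_id, ← h1]
    exact hsV

end Groth.Agent.S5110
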