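import Groth.Statements.S5113
import Mathlib.AlgebraicGeometry.PullbackCarrier

set_option autoImplicit false
universe u
open SGA1

namespace Groth.Agent.S5113

open AlgebraicGeometry CategoryTheory CategoryTheory.Limits in
/-- Let g : S' ⟶ S be submersive, i.e. surjective and making S a topological quotient of S'. Then the
sequence of sets of open subsets Ouv(S) → Ouv(S') ⇉ Ouv(S' ×_S S') (inverse images along g and along
the two projections) is exact: an open subset U' of S' whose inverse images under the two
projections of S' ×_S S' agree is the inverse image of one and only one open subset of S. -/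
theorem result {S' S : Scheme.{u}} (g : S' ⟶ S)
    (hg : Topology.IsQuotientMap g.base) (U' : S'.Opens)
    (h : (pullback.fst g g) ⁻¹ᵁ U' = (pullback.snd g g) ⁻¹ᵁ U') :
    ∃! U : S.Opens, g ⁻¹ᵁ U = U' := by
  have hsat : ∀ a b : S', g a = g b → a ∈ U' → b ∈ U' := by
    intro a b hab ha
    obtain ⟨z, hz1, hz2⟩ := Scheme.Pullback.exists_preimage_pullback (f := g) (g := g) a b hab
    have h1 : z ∈ (pullback.fst g g) ⁻¹ᵁ U' := by
      show pullback.fst g g z ∈ U'
      rw [hz1]; exact ha
    rw [h] at h1
    have h2 : pullback.snd g g z ∈ U' := h1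
    rwa [hz2] at h2
  have hpre : g.base ⁻¹' (g.base '' (U' : Set S')) = (U' : Set S') := by
    ext b
    constructor
    · rintro ⟨a, ha, hab⟩
      exact hsat a b hab ha
    · intro hb
      exact ⟨b, hb, rfl⟩
  have hopen : IsOpen (g.base '' (U' : Set S')) := by
    rw [← hg.isOpen_preimage, hpre]
    exact U'.2
  refine ⟨⟨g.base '' (U' : Set S'), hopen⟩, ?_, ?_⟩
  · ext b
    show b ∈ g.base ⁻¹' (g.base '' (U' : Set S')) ↔ b ∈ (U' : Set S')
    rw [hpre]
  · intro V hV
    ext s
    obtain ⟨b, rfl⟩ := hg.surjective s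
    have : b ∈ g ⁻¹ᵁ V ↔ b ∈ U' := by rw [hV]
    constructor
    · intro hs
      exact ⟨b, this.mp hs, rfl⟩
    · rintro ⟨a, ha, hab⟩
      have : a ∈ g ⁻¹ᵁ V := by rw [hV]; exact ha
      have h3 : g a ∈ V := this
      rw [hab] at h3
      exact h3

end Groth.Agent.S5113
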