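import Groth.Statements.S5115
import Mathlib
import Groth.Agent.H68.RadEt
import Groth.Agent.H68.TopInv

set_option autoImplicit false
universe u
open EtBase

open CategoryTheory CategoryTheory.Limits AlgebraicGeometry Opposite

namespace Groth.Agent.S5115


open AlgebraicGeometry CategoryTheory CategoryTheory.Limits in
/-- Let g : S' ⟶ S be faithfully flat (flat and surjective), quasi-compact and radicial (universally
injective). Then base change along g is an equivalence from the category of schemes etale over S to
the category of schemes etale over S'. -/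
theorem result {S S' : Scheme.{u}} (g : S' ⟶ S)
    [Flat g] [Surjective g] [QuasiCompact g] [UniversallyInjective g] :
    (EtCoh.bc g).IsEquivalence := by
  haveI hint : IsIntegralHom g := Groth.Agent.H68.RadEt.isIntegralHom g
  have key1 : ∀ {A B : S.Etale} (φ : A ⟶ B),
      ((EtCoh.bc g).map φ).left ≫ pullback.fst B.hom g = pullback.fst A.hom g ≫ φ.left :=
    fun φ => pullback.lift_fst _ _ _
  have key2 : ∀ {A B : S.Etale} (φ : A ⟶ B),
      ((EtCoh.bc g).map φ).left ≫ pullback.snd B.hom g = pullback.snd A.hom g :=
    fun φ => pullback.lift_snd _ _ _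
  haveI hfaith : (EtCoh.bc g).Faithful := by
    refine ⟨fun {A B} φ ψ h => ?_⟩
    have h1 : ((EtCoh.bc g).map φ).left = ((EtCoh.bc g).map ψ).left := congrArg (fun t => t.left) h
    have h2 : pullback.fst A.hom g ≫ φ.left = pullback.fst A.hom g ≫ ψ.left :=
      (key1 φ).symm.trans ((congrArg (fun t => t ≫ pullback.fst B.hom g) h1).trans (key1 ψ))
    haveI : Surjective (pullback.fst A.hom g) := inferInstance
    have h3 : φ.left = ψ.left :=
      Groth.Agent.H68.TopInv.inj B.hom (pullback.fst A.hom g) φ.left ψ.left
        ((MorphismProperty.Over.w φ).trans (MorphismProperty.Over.w ψ).symm) h2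
    exact MorphismProperty.Over.Hom.ext h3
  haveI hfull : (EtCoh.bc g).Full := by
    refine ⟨fun {A B} f => ?_⟩
    have hg : f.left ≫ pullback.snd B.hom g = pullback.snd A.hom g := MorphismProperty.Over.w f
    have c1 : pullback.fst B.hom g ≫ B.hom = pullback.snd B.hom g ≫ g := pullback.condition
    have c2 : pullback.fst A.hom g ≫ A.hom = pullback.snd A.hom g ≫ g := pullback.condition
    have hψ : (f.left ≫ pullback.fst B.hom g) ≫ B.hom = pullback.fst A.hom g ≫ A.hom :=
      (Category.assoc _ _ _).trans ((congrArg (f.left ≫ ·) c1).trans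
        ((Category.assoc _ _ _).symm.trans ((congrArg (· ≫ g) hg).trans c2.symm)))
    haveI : UniversallyInjective (pullback.fst A.hom g) :=
      MorphismProperty.pullback_fst (P := @UniversallyInjective) _ _ inferInstance
    haveI : IsIntegralHom (pullback.fst A.hom g) :=
      MorphismProperty.pullback_fst (P := @IsIntegralHom) _ _ inferInstance
    haveI : Surjective (pullback.fst A.hom g) :=
      MorphismProperty.pullback_fst (P := @Surjective) _ _ inferInstance
    obtain ⟨φ, hφ1, hφ2⟩ := Groth.Agent.H68.TopInv.surj B.hom A.hom (pullback.fst A.hom g)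
      (f.left ≫ pullback.fst B.hom g) hψ
    refine ⟨MorphismProperty.Over.homMk φ hφ1 trivial, ?_⟩
    apply MorphismProperty.Over.Hom.ext
    apply pullback.hom_ext
    · exact (key1 (MorphismProperty.Over.homMk φ hφ1 trivial)).trans hφ2
    · exact (key2 (MorphismProperty.Over.homMk φ hφ1 trivial)).trans hg.symm
  haveI hess : (EtCoh.bc g).EssSurj := by
    refine ⟨fun Y₀ => ?_⟩
    haveI : Etale (Over.mk Y₀.hom).hom := Y₀.prop
    obtain ⟨U, hU, ⟨e⟩⟩ := Groth.Agent.H68.RadEt.exists_descent g (Over.mk Y₀.hom)
    refine ⟨MorphismProperty.Over.mk ⊤ U.hom hU, ⟨MorphismProperty.Over.isoMk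
      ((Over.forget _).mapIso e) ?_⟩⟩
    exact Over.w e.hom
  exact {}

end Groth.Agent.S5115
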