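import Groth.Statements.S5118
-- import your own Groth.Agent.* helpers here
import Mathlib

set_option autoImplicit false
universe u
open SGA1t

namespace Groth.Agent.S5118

open Polynomial in
/-- The etaleness criterion for the Kummer group scheme: Let A be a commutative ring and n ≥ 1. The
group scheme μ_n over Spec A is the spectrum of A[t]/(t^n − 1), a free A-module of rank n; it is
etale over A if and only if n is a unit of A (equivalently, n is prime to the characteristic of the
residue field at every point of Spec A). -/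
theorem result (A : Type u) [CommRing A] (n : ℕ) (hn : 1 ≤ n) :
    Algebra.Etale A (AdjoinRoot ((X : A[X]) ^ n - 1)) ↔ IsUnit ((n : ℕ) : A) := by
  constructor
  · intro hE
    by_contra hnu
    obtain ⟨m, hm, hnm⟩ := exists_max_ideal_of_mem_nonunits (mem_nonunits_iff.2 hnu)
    let _ : Field (A ⧸ m) := Ideal.Quotient.field m
    have hn0 : ((n : ℕ) : A ⧸ m) = 0 := by
      have h1 : Ideal.Quotient.mk m ((n : ℕ) : A) = 0 := Ideal.Quotient.eq_zero_iff_mem.2 hnm
      simpa using h1
    have heps : (DualNumber.eps : DualNumber (A ⧸ m)) * DualNumber.eps = 0 := DualNumber.eps_mul_eps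
    have hpow : ∀ k : ℕ, (1 + (DualNumber.eps : DualNumber (A ⧸ m))) ^ k =
        1 + (k : DualNumber (A ⧸ m)) * DualNumber.eps := by
      intro k
      induction k with
      | zero => simp
      | succ k ih =>
        rw [pow_succ, ih]
        push_cast
        linear_combination (k : DualNumber (A ⧸ m)) * heps
    have hnB : ((n : ℕ) : DualNumber (A ⧸ m)) = 0 := by
      rw [← map_natCast (algebraMap (A ⧸ m) (DualNumber (A ⧸ m))), hn0, map_zero]
    let g₁ : AdjoinRoot ((X : A[X]) ^ n - 1) →ₐ[A] DualNumber (A ⧸ m) :=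
      AdjoinRoot.liftAlgHom _ (Algebra.ofId A _) (1 : DualNumber (A ⧸ m)) (by simp)
    let g₂ : AdjoinRoot ((X : A[X]) ^ n - 1) →ₐ[A] DualNumber (A ⧸ m) :=
      AdjoinRoot.liftAlgHom _ (Algebra.ofId A _) (1 + DualNumber.eps : DualNumber (A ⧸ m))
        (by simp [hpow, hnB])
    let I : Ideal (DualNumber (A ⧸ m)) := Ideal.span {DualNumber.eps}
    have hI : I ^ 2 = ⊥ := by
      rw [pow_two, Ideal.span_singleton_mul_span_singleton, heps]
      simp
    have hcomp : (Ideal.Quotient.mkₐ A I).comp g₁ = (Ideal.Quotient.mkₐ A I).comp g₂ := by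
      apply AdjoinRoot.algHom_ext
      simp only [AlgHom.comp_apply, g₁, g₂, AdjoinRoot.liftAlgHom_root, Ideal.Quotient.mkₐ_eq_mk]
      rw [Ideal.Quotient.eq]
      have : (1 : DualNumber (A ⧸ m)) - (1 + DualNumber.eps) = -DualNumber.eps := by ring
      rw [this]
      exact neg_mem (Ideal.subset_span rfl)
    have h12 : g₁ = g₂ := Algebra.FormallyUnramified.comp_injective I hI hcomp
    have h3 := congrArg (fun g => g (AdjoinRoot.root _)) h12
    simp only [g₁, g₂, AdjoinRoot.liftAlgHom_root] at h3
    have h4 := congrArg TrivSqZeroExt.snd h3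
    simp at h4
  · rintro ⟨u, hu⟩
    obtain ⟨k, rfl⟩ : ∃ k, n = k + 1 := ⟨n - 1, by omega⟩
    obtain ⟨P, hPf, hPg⟩ : ∃ P : StandardEtalePair A, P.f = (X : A[X]) ^ (k + 1) - 1 ∧ P.g = 1 :=
      ⟨{ f := (X : A[X]) ^ (k + 1) - 1
         monic_f := by
          simpa using monic_X_pow_sub_C (1 : A) (Nat.succ_ne_zero k)
         g := 1
         cond := by
          refine ⟨C ((u⁻¹ : Aˣ) : A) * X, -1, 0, ?_⟩
          have hC : (C ((k + 1 : ℕ) : A) : A[X]) * C ((u⁻¹ : Aˣ) : A) = 1 := by
            rw [← C_mul, ← hu, Units.mul_inv, C_1]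
          simp only [derivative_sub, derivative_X_pow, derivative_one, sub_zero, pow_zero,
            Nat.add_sub_cancel]
          linear_combination (X : A[X]) ^ (k + 1) * hC }, rfl, rfl⟩
    have hmap : P.HasMap (AdjoinRoot.root P.f) :=
      ⟨by rw [AdjoinRoot.aeval_eq, AdjoinRoot.mk_self], by rw [hPg]; simp⟩
    have hX : P.f.eval₂ ((Algebra.ofId A P.Ring : A →ₐ[A] P.Ring) : A →+* P.Ring) P.X = 0 :=
      P.hasMap_X.1
    let e : P.Ring ≃ₐ[A] AdjoinRoot P.f :=
      AlgEquiv.ofAlgHom
        (P.lift (AdjoinRoot.root P.f) hmap)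
        (AdjoinRoot.liftAlgHom P.f (Algebra.ofId A P.Ring) P.X hX)
        (by
          apply AdjoinRoot.algHom_ext
          rw [AlgHom.comp_apply, AdjoinRoot.liftAlgHom_root, StandardEtalePair.lift_X]
          rfl)
        (by
          apply StandardEtalePair.hom_ext
          rw [AlgHom.comp_apply, StandardEtalePair.lift_X, AdjoinRoot.liftAlgHom_root]
          rfl)
    rw [← hPf]
    exact Algebra.Etale.of_equiv e

end Groth.Agent.S5118
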