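import Groth.Statements.S5119


set_option autoImplicit false
universe u
open scoped LaurentPolynomial
open SGA1t

namespace Groth.Agent.S5119

open scoped LaurentPolynomial in
theorem key (A : Type u) [CommRing A] (n : ℕ) (hn : 1 ≤ n) (c : Fin n → A[T;T⁻¹]) (k : ℤ)
    (i : Fin n) :
    (∑ j : Fin n, (AddMonoidAlgebra.mapDomainRingHom A (AddMonoidHom.mulLeft (n : ℤ)) :
        A[T;T⁻¹] →+* A[T;T⁻¹]) (c j) * LaurentPolynomial.T (j : ℤ)).coeff
      ((n : ℤ) * k + (i : ℤ)) = (c i).coeff k := by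
  have hn0 : (n : ℤ) ≠ 0 := by
    have : n ≠ 0 := by omega
    exact_mod_cast this
  have hinj : Function.Injective (⇑(AddMonoidHom.mulLeft (n : ℤ))) := by
    intro a b hab
    exact mul_left_cancel₀ hn0 hab
  rw [AddMonoidAlgebra.coeff_sum, Finsupp.finsetSum_apply, Finset.sum_eq_single i]
  · show ((AddMonoidAlgebra.mapDomain (AddMonoidHom.mulLeft (n : ℤ)) (c i)) *
      AddMonoidAlgebra.single ((i : ℕ) : ℤ) (1 : A)).coeff _ = _
    rw [AddMonoidAlgebra.coeff_mul_single_apply, mul_one]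
    have h1 : (n : ℤ) * k + ((i : ℕ) : ℤ) + -((i : ℕ) : ℤ) = AddMonoidHom.mulLeft (n : ℤ) k := by
      rw [add_neg_cancel_right]; rfl
    rw [h1]
    exact Finsupp.mapDomain_apply hinj _ _
  · intro j _ hji
    show ((AddMonoidAlgebra.mapDomain (AddMonoidHom.mulLeft (n : ℤ)) (c j)) *
      AddMonoidAlgebra.single ((j : ℕ) : ℤ) (1 : A)).coeff _ = 0
    rw [AddMonoidAlgebra.coeff_mul_single_apply, mul_one]
    apply Finsupp.mapDomain_of_notMem_range
    rintro ⟨k', hk'⟩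
    have hk2 : (n : ℤ) * k' = (n : ℤ) * k + ((i : ℕ) : ℤ) + -((j : ℕ) : ℤ) := hk'
    have h2 : ((i : ℕ) : ℤ) - ((j : ℕ) : ℤ) = (n : ℤ) * (k' - k) := by
      rw [mul_sub]; linarith
    have h3 : (n : ℤ) ∣ ((i : ℕ) : ℤ) - ((j : ℕ) : ℤ) := ⟨k' - k, h2⟩
    have hi := i.2
    have hj := j.2
    have h4 : ((i : ℕ) : ℤ) - ((j : ℕ) : ℤ) = 0 :=
      Int.eq_zero_of_abs_lt_dvd h3 (abs_lt.2 ⟨by omega, by omega⟩)
    exact hji (Fin.ext (by omega))
  · intro h; exact absurd (Finset.mem_univ i) h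

/-- The computation behind the exactness of the Kummer sequence 0 → μ_n → G_m → G_m → 0, i.e. faithful
flatness of the n-th power map u_n of G_m: Let A be a commutative ring and n ≥ 1, and let u_n be the
ring endomorphism of A[t, t⁻¹] with u_n(t) = t^n (on monomials, t^k ↦ t^{nk}). Then A[t, t⁻¹] is
free of rank n over itself via u_n, with basis 1, t, …, t^{n−1}: every Laurent polynomial q can be
written in exactly one way as Σ_{i<n} u_n(c_i) t^i. -/
theorem result (A : Type u) [CommRing A] (n : ℕ) (hn : 1 ≤ n) (q : A[T;T⁻¹]) :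
    ∃! c : Fin n → A[T;T⁻¹],
      q = ∑ i : Fin n, (AddMonoidAlgebra.mapDomainRingHom A (AddMonoidHom.mulLeft (n : ℤ)) : A[T;T⁻¹] →+* A[T;T⁻¹]) (c i) *
        LaurentPolynomial.T (i : ℤ) := by
  have hn0 : (n : ℤ) ≠ 0 := by
    have : n ≠ 0 := by omega
    exact_mod_cast this
  have hpos : (0 : ℤ) < n := by exact_mod_cast hn
  have hinj' : ∀ i : Fin n, Function.Injective (fun k : ℤ => (n : ℤ) * k + ((i : ℕ) : ℤ)) :=
    fun i a b hab => mul_left_cancel₀ hn0 (add_right_cancel hab)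
  let c : Fin n → A[T;T⁻¹] := fun i => AddMonoidAlgebra.ofCoeff
    (Finsupp.comapDomain (fun k : ℤ => (n : ℤ) * k + ((i : ℕ) : ℤ)) q.coeff ((hinj' i).injOn))
  have hc : ∀ (i : Fin n) (k : ℤ), (c i).coeff k = q.coeff ((n : ℤ) * k + ((i : ℕ) : ℤ)) :=
    fun i k => rfl
  refine ⟨c, ?_, ?_⟩
  · apply AddMonoidAlgebra.coeff_injective
    ext m
    have h0 : 0 ≤ m % (n : ℤ) := Int.emod_nonneg m hn0
    have hlt : m % (n : ℤ) < n := Int.emod_lt_of_pos m hpos
    have hi : (m % (n : ℤ)).toNat < n := by omega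
    have him : (((⟨(m % (n : ℤ)).toNat, hi⟩ : Fin n) : ℕ) : ℤ) = m % n := Int.toNat_of_nonneg h0
    have hm : (n : ℤ) * (m / n) + (((⟨(m % (n : ℤ)).toNat, hi⟩ : Fin n) : ℕ) : ℤ) = m := by
      rw [him]; exact Int.mul_ediv_add_emod m n
    have h1 := key A n hn c (m / n) ⟨(m % (n : ℤ)).toNat, hi⟩
    rw [hm, hc, hm] at h1
    exact h1.symm
  · intro c' hc'
    funext i
    apply AddMonoidAlgebra.coeff_injective
    ext k
    have h1 := key A n hn c' k i
    rw [← hc'] at h1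
    rw [hc, h1]

end Groth.Agent.S5119
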