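import Groth.Statements.S5128
import Groth.Agent.H68.TopInv

set_option autoImplicit false
universe u
open SGA1

namespace Groth.Agent.S5128

open AlgebraicGeometry CategoryTheory CategoryTheory.Limits

lemma graph_eq_of_range_eq {P X : Scheme.{u}} (π : P ⟶ X) (σ σ' : X ⟶ P) [IsOpenImmersion σ]
    [IsOpenImmersion σ'] (h : σ ≫ π = 𝟙 X) (h' : σ' ≫ π = 𝟙 X)
    (hr : Set.range σ = Set.range σ') : σ = σ' := by
  have e := IsOpenImmersion.isoOfRangeEq_hom_fac σ σ' hr
  have h1 : (IsOpenImmersion.isoOfRangeEq σ σ' hr).hom = 𝟙 X := by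
    have := congrArg (· ≫ π) e
    simp only [Category.assoc, h, h', Category.comp_id] at this
    exact this
  rw [h1, Category.id_comp] at e
  exact e.symm


open AlgebraicGeometry CategoryTheory CategoryTheory.Limits in
/-- Let X and Y be S-schemes with Y etale over S. The map f ↦ Γ_f sending an S-morphism f : X ⟶ Y to the
subset of X ×_S Y underlying its graph is a bijection from Hom_S(X, Y) onto the set of open subsets
Γ of X ×_S Y for which the restriction Γ → X of the first projection is radicial (universally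
injective) and surjective. Stated as: the graph of every S-morphism is an open immersion, and every
such open Γ is the image of the graph of exactly one S-morphism. -/
theorem result {S X Y : Scheme.{u}} (p : X ⟶ S)
    (q : Y ⟶ S) [Etale q] :
    (∀ f : {f : X ⟶ Y // f ≫ q = p},
      IsOpenImmersion (pullback.lift (𝟙 X) f.1 ((Category.id_comp p).trans f.2.symm) : X ⟶ pullback p q)) ∧
    ∀ Γ : (pullback p q).Opens, UniversallyInjective (Γ.ι ≫ pullback.fst p q) → Surjective (Γ.ι ≫ pullback.fst p q) →
      ∃! f : {f : X ⟶ Y // f ≫ q = p},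
        Set.range (pullback.lift (𝟙 X) f.1 ((Category.id_comp p).trans f.2.symm) : X ⟶ pullback p q).base =
          (Γ : Set ↥(pullback p q)) := by
  have hπ : Etale (pullback.fst p q) := MorphismProperty.pullback_fst (P := @Etale) _ _ inferInstance
  have hopen : ∀ f : {f : X ⟶ Y // f ≫ q = p},
      IsOpenImmersion (pullback.lift (𝟙 X) f.1 ((Category.id_comp p).trans f.2.symm) :
        X ⟶ pullback p q) := fun f =>
    Groth.Agent.H68.TopInv.isOpenImmersion_of_section (pullback.fst p q) _ (pullback.lift_fst _ _ _)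
  refine ⟨hopen, ?_⟩
  intro Γ huinj hsurj
  let r : (Γ : Scheme) ⟶ X := Γ.ι ≫ pullback.fst p q
  have hr : Etale r := inferInstance
  have hdiag : IsIso (pullback.diagonal r) := by
    rw [isIso_iff_isOpenImmersion_and_surjective]
    exact ⟨inferInstance, (UniversallyInjective.iff_diagonal r).mp huinj⟩
  have hmono : Mono r := (pullback.isIso_diagonal_iff r).mp hdiag
  have hopenr : IsOpenImmersion r := IsOpenImmersion.of_flat_of_mono r
  have hiso : IsIso r := (isIso_iff_isOpenImmersion_and_surjective r).mpr ⟨hopenr, hsurj⟩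
  let f₀ : X ⟶ Y := inv r ≫ Γ.ι ≫ pullback.snd p q
  have hf₀ : f₀ ≫ q = p := by
    simp only [f₀, Category.assoc, ← pullback.condition]
    show inv r ≫ r ≫ p = p
    simp
  have hgraph : (pullback.lift (𝟙 X) f₀ ((Category.id_comp p).trans hf₀.symm) : X ⟶ pullback p q) =
      inv r ≫ Γ.ι := by
    apply pullback.hom_ext
    · rw [pullback.lift_fst, Category.assoc]
      show 𝟙 X = inv r ≫ r
      simp
    · rw [pullback.lift_snd, Category.assoc]
  have hrange : Set.range (pullback.lift (𝟙 X) f₀ ((Category.id_comp p).trans hf₀.symm) :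
      X ⟶ pullback p q).base = (Γ : Set ↥(pullback p q)) := by
    rw [hgraph]
    have : Set.range (inv r ≫ Γ.ι) = Set.range Γ.ι := by
      apply Set.Subset.antisymm
      · rintro _ ⟨x, rfl⟩
        exact ⟨inv r x, by rw [Scheme.Hom.comp_apply]⟩
      · rintro _ ⟨z, rfl⟩
        refine ⟨r z, ?_⟩
        rw [← Scheme.Hom.comp_apply]
        simp
    exact this.trans Γ.range_ι
  refine ⟨⟨f₀, hf₀⟩, hrange, ?_⟩
  rintro ⟨f', hf'⟩ hf'range
  apply Subtype.ext
  show f' = f₀
  have i1 := hopen ⟨f', hf'⟩
  have i2 := hopen ⟨f₀, hf₀⟩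
  have := graph_eq_of_range_eq (pullback.fst p q)
    (pullback.lift (𝟙 X) f' ((Category.id_comp p).trans hf'.symm))
    (pullback.lift (𝟙 X) f₀ ((Category.id_comp p).trans hf₀.symm))
    (pullback.lift_fst _ _ _) (pullback.lift_fst _ _ _) (hf'range.trans hrange.symm)
  have h2 := congrArg (· ≫ pullback.snd p q) this
  simp only [pullback.lift_snd] at h2
  exact h2

end Groth.Agent.S5128
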