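import Groth.Statements.S5133
import Groth.Agent.S2488

set_option autoImplicit false
open CategoryTheory CategoryTheory.Limits AlgebraicGeometry
universe u
open SGA1

namespace Groth.Agent.S5133

section aux
open TopologicalSpace

lemma main {A X' Y X : Scheme.{u}} {fst : A ⟶ X'} {snd : A ⟶ Y} {f : X' ⟶ X} {g : Y ⟶ X}
    (hpb : IsPullback fst snd f g) [Surjective f] [Flat f] [QuasiCompact g]
    (hfstemb : Topology.IsEmbedding fst) : Topology.IsEmbedding g := by
  have hginj : Function.Injective g := by
    intro y₁ y₂ hy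
    obtain ⟨x, hx⟩ := f.surjective (g y₁)
    obtain ⟨a₁, ha₁, hb₁⟩ := Scheme.exists_preimage_of_isPullback hpb x y₁ hx
    obtain ⟨a₂, ha₂, hb₂⟩ := Scheme.exists_preimage_of_isPullback hpb x y₂ (hx.trans hy)
    have : a₁ = a₂ := hfstemb.injective (ha₁.trans ha₂.symm)
    rw [← hb₁, ← hb₂, this]
  have hgind : Topology.IsInducing g := by
    refine ⟨TopologicalSpace.ext_iff_isClosed.mpr fun C => ?_⟩
    rw [isClosed_induced_iff]
    refine ⟨fun hC => ⟨closure (g '' C), isClosed_closure, ?_⟩,
      fun ⟨t, ht, hts⟩ => hts ▸ ht.preimage g.continuous⟩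
    refine Set.Subset.antisymm ?_ (fun y hy => subset_closure ⟨y, hy, rfl⟩)
    intro y hy
    obtain ⟨c, hcC, hcy⟩ :=
      Groth.Agent.S2488.exists_specializes_of_mem_closure_image g C hC (g y) hy
    obtain ⟨x, hx⟩ := f.surjective (g y)
    obtain ⟨x', hx'x, hfx'⟩ := (Flat.generalizingMap f) (a := x) (b := g c)
      (by rw [hx]; exact hcy)
    obtain ⟨a', ha'1, ha'2⟩ := Scheme.exists_preimage_of_isPullback hpb x' c hfx'
    obtain ⟨a, ha1, ha2⟩ := Scheme.exists_preimage_of_isPullback hpb x y hx
    have h1 : a' ⤳ a := hfstemb.isInducing.specializes_iff.mp (by rw [ha'1, ha1]; exact hx'x)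
    have h2 : c ⤳ y := by
      rw [← ha'2, ← ha2]
      exact h1.map snd.continuous
    exact h2.mem_closed hC hcC
  exact ⟨hgind, hginj⟩

end aux

/-- For a quasi-compact morphism f : X ⟶ Y and a flat surjective base change g : Y' ⟶ Y, with no
quasi-compactness asked of g, if the base change of f along g is a homeomorphism onto its image then
f is a homeomorphism onto its image. -/
theorem result {X Y Y' : Scheme.{u}} (f : X ⟶ Y)
    (g : Y' ⟶ Y) [QuasiCompact f] [Flat g] [Surjective g]
    (h : Topology.IsEmbedding (pullback.snd f g).base) : Topology.IsEmbedding f.base := by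
  exact main (IsPullback.of_hasPullback f g).flip h

end Groth.Agent.S5133
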