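import Groth.Statements.S5135


set_option autoImplicit false
universe u
open scoped TensorProduct
open SGA1

namespace Groth.Agent.S5135

/-- The affine case, in submodule form (descent of submodules, equivalently of quotient modules): for A
⟶ A' faithfully flat, M an A-module and N' an A'-submodule of A' ⊗ M whose two extensions to (A' ⊗
A') ⊗ M, along a ↦ a ⊗ 1 and a ↦ 1 ⊗ a, generate the same submodule, N' is the base change of the
submodule of M formed by the elements m with 1 ⊗ m in N'. -/
theorem result (A A' : Type u) [CommRing A] [CommRing A'] [Algebra A A']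
    [Module.FaithfullyFlat A A'] (M : Type u) [AddCommGroup M] [Module A M] (N' : Submodule A' (A' ⊗[A] M))
    (h : Submodule.span (A' ⊗[A] A')
          ((N'.restrictScalars A).map
            ((Algebra.TensorProduct.includeLeft : A' →ₐ[A] A' ⊗[A] A').toLinearMap.rTensor M) : Set ((A' ⊗[A] A') ⊗[A] M)) =
        Submodule.span (A' ⊗[A] A')
          ((N'.restrictScalars A).map
            ((Algebra.TensorProduct.includeRight : A' →ₐ[A] A' ⊗[A] A').toLinearMap.rTensor M) : Set ((A' ⊗[A] A') ⊗[A] M))) :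
    ((N'.restrictScalars A).comap (TensorProduct.mk A A' M 1)).baseChange A' = N' := by
  classical
  set K : Submodule A M := (N'.restrictScalars A).comap (TensorProduct.mk A A' M 1) with hK
  -- the easy inclusion
  have hle : K.baseChange A' ≤ N' := by
    rw [Submodule.baseChange_eq_span, Submodule.span_le]
    rintro _ ⟨m, hm, rfl⟩
    exact hm
  refine le_antisymm hle ?_
  -- the map `m ↦ [1 ⊗ m]`
  let qA : A' ⊗[A] M →ₗ[A] (A' ⊗[A] M) ⧸ N' := N'.mkQ.restrictScalars A
  let φ : M →ₗ[A] (A' ⊗[A] M) ⧸ N' := qA ∘ₗ (TensorProduct.mk A A' M 1)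
  have hker : LinearMap.ker φ = K := by
    ext m
    simp only [LinearMap.mem_ker, φ, qA, LinearMap.coe_comp, Function.comp_apply,
      LinearMap.coe_restrictScalars, Submodule.mkQ_apply, Submodule.Quotient.mk_eq_zero, hK,
      Submodule.mem_comap, Submodule.restrictScalars_mem]
  let incL : A' ⊗[A] M →ₗ[A] (A' ⊗[A] A') ⊗[A] M :=
    (Algebra.TensorProduct.includeLeft : A' →ₐ[A] A' ⊗[A] A').toLinearMap.rTensor M
  let incR : A' ⊗[A] M →ₗ[A] (A' ⊗[A] A') ⊗[A] M :=
    (Algebra.TensorProduct.includeRight : A' →ₐ[A] A' ⊗[A] A').toLinearMap.rTensor M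
  let Θ : (A' ⊗[A] A') ⊗[A] M →ₗ[A] A' ⊗[A] ((A' ⊗[A] M) ⧸ N') :=
    (LinearMap.lTensor A' qA) ∘ₗ (TensorProduct.assoc A A' A' M).toLinearMap
  have hΘ : ∀ (a b : A') (m : M), Θ ((a ⊗ₜ[A] b) ⊗ₜ[A] m) = a ⊗ₜ[A] N'.mkQ (b ⊗ₜ[A] m) := by
    intro a b m
    simp only [Θ, qA, LinearMap.coe_comp, LinearEquiv.coe_coe, Function.comp_apply,
      TensorProduct.assoc_tmul, LinearMap.lTensor_tmul, LinearMap.coe_restrictScalars]
  have claim1 : ∀ (a b : A') (y : A' ⊗[A] M),
      Θ ((a ⊗ₜ[A] b) • incR y) = a ⊗ₜ[A] N'.mkQ (b • y) := by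
    intro a b y
    induction y using TensorProduct.induction_on with
    | zero => simp
    | tmul b' m =>
      have e1 : incR (b' ⊗ₜ[A] m) = ((1 : A') ⊗ₜ[A] b') ⊗ₜ[A] m := by
        simp only [incR, LinearMap.rTensor_tmul, AlgHom.toLinearMap_apply,
          Algebra.TensorProduct.includeRight_apply]
      rw [e1, TensorProduct.smul_tmul', smul_eq_mul, Algebra.TensorProduct.tmul_mul_tmul, mul_one,
        hΘ, TensorProduct.smul_tmul', smul_eq_mul]
    | add y₁ y₂ h₁ h₂ =>
      rw [map_add, smul_add, map_add, h₁, h₂, smul_add, map_add, TensorProduct.tmul_add]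
  have claim2 : ∀ z ∈ Submodule.span (A' ⊗[A] A')
      ((N'.restrictScalars A).map incR : Set ((A' ⊗[A] A') ⊗[A] M)),
      ∀ s : A' ⊗[A] A', Θ (s • z) = 0 := by
    intro z hz
    refine Submodule.span_induction (p := fun z _ => ∀ s : A' ⊗[A] A', Θ (s • z) = 0)
      ?_ ?_ ?_ ?_ hz
    · rintro _ ⟨y, hy, rfl⟩ s
      induction s using TensorProduct.induction_on with
      | zero => rw [zero_smul, map_zero]
      | tmul a b =>
        rw [claim1]
        have : N'.mkQ (b • y) = 0 := by
          rw [Submodule.mkQ_apply, Submodule.Quotient.mk_eq_zero]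
          exact N'.smul_mem b hy
        rw [this, TensorProduct.tmul_zero]
      | add s₁ s₂ h₁ h₂ => rw [add_smul, map_add, h₁, h₂, add_zero]
    · intro s
      rw [smul_zero, map_zero]
    · intro x y _ _ hx hy s
      rw [smul_add, map_add, hx s, hy s, add_zero]
    · intro t x _ hx s
      rw [smul_smul]
      exact hx (s * t)
  have claim3 : Θ ∘ₗ incL = LinearMap.lTensor A' φ := by
    refine TensorProduct.ext' ?_
    intro a m
    have e1 : incL (a ⊗ₜ[A] m) = (a ⊗ₜ[A] (1 : A')) ⊗ₜ[A] m := by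
      simp only [incL, LinearMap.rTensor_tmul, AlgHom.toLinearMap_apply,
        Algebra.TensorProduct.includeLeft_apply]
    rw [LinearMap.comp_apply, e1, hΘ, LinearMap.lTensor_tmul]
    rfl
  intro x hx
  have h1 : incL x ∈ Submodule.span (A' ⊗[A] A')
      ((N'.restrictScalars A).map incR : Set ((A' ⊗[A] A') ⊗[A] M)) := by
    rw [← h]
    exact Submodule.subset_span ⟨x, hx, rfl⟩
  have h2 : LinearMap.lTensor A' φ x = 0 := by
    have := claim2 _ h1 1
    rw [one_smul] at this
    rw [← claim3]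
    exact this
  have hex : Function.Exact (LinearMap.lTensor A' (LinearMap.ker φ).subtype)
      (LinearMap.lTensor A' φ) :=
    Module.Flat.lTensor_exact A' (LinearMap.exact_subtype_ker_map φ)
  obtain ⟨w, hw⟩ := (hex x).1 h2
  rw [← hker]
  exact ⟨w, hw⟩

end Groth.Agent.S5135
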