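import Groth.Statements.S5138
import Mathlib
import Groth.Agent.H49.FppfSource

set_option autoImplicit false
open CategoryTheory AlgebraicGeometry
universe u
open SGA1

namespace Groth.Agent.S5138

/-- For X ⟶ X' ⟶ Y locally of finite type over a locally Noetherian Y and a point x of X, if X ⟶ X' and
the composite X ⟶ Y are both etale near x then X' ⟶ Y is etale near the image of x; 'etale near a
point' is membership in the etale locus, the union of the opens on which the morphism is etale. (The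
published statement takes the morphisms of finite type; quasi-compactness plays no role in this
assertion about single points, so only local finiteness is assumed.) -/
theorem result {X X' Y : Scheme.{u}} (f : X ⟶ X') (g : X' ⟶ Y)
    [IsLocallyNoetherian Y] [LocallyOfFiniteType f] [LocallyOfFiniteType g] (x : X)
    (hf : x ∈ Pi1X.etaleLocus f) (hfg : x ∈ Pi1X.etaleLocus (f ≫ g)) : f.base x ∈ Pi1X.etaleLocus g := by
  simp only [Pi1X.etaleLocus] at hf hfg ⊢
  rw [TopologicalSpace.Opens.mem_sSup] at hf hfg ⊢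
  obtain ⟨U₁', hU₁, hx₁⟩ := hf
  obtain ⟨U₂', hU₂, hx₂⟩ := hfg
  let U₁ : X.Opens := U₁'
  let U₂ : X.Opens := U₂'
  have hU₁' : Etale (U₁.ι ≫ f) := hU₁
  have hU₂' : Etale (U₂.ι ≫ f ≫ g) := hU₂
  let U : X.Opens := U₁ ⊓ U₂
  have hU1 : Etale (U.ι ≫ f) := by
    have : U.ι ≫ f = X.homOfLE (inf_le_left : U ≤ U₁) ≫ U₁.ι ≫ f := by rw [← Category.assoc, Scheme.homOfLE_ι]
    rw [this]; infer_instance
  have hU2 : Etale (U.ι ≫ f ≫ g) := by
    have : U.ι ≫ f ≫ g = X.homOfLE (inf_le_right : U ≤ U₂) ≫ U₂.ι ≫ f ≫ g := by rw [Scheme.homOfLE_ι_assoc]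
    rw [this]; infer_instance
  let j := U.ι ≫ f
  let V : X'.Opens := ⟨Set.range j.base, j.isOpenMap.isOpen_range⟩
  let e : (U : Scheme.{u}) ⟶ V := IsOpenImmersion.lift V.ι j (by simp [V])
  have he : e ≫ V.ι = j := IsOpenImmersion.lift_fac _ _ _
  have hee : Etale e :=
    MorphismProperty.of_postcomp (W := @Etale) (W' := @Etale) e V.ι inferInstance (by rw [he]; exact hU1)
  refine ⟨V, ?_, ⟨⟨x, hx₁, hx₂⟩, rfl⟩⟩
  show Etale (V.ι ≫ g)
  apply Groth.Agent.H49.FppfSource.etale_of_comp_of_fppf_family (ι := PUnit.{1}) (X := fun _ => (U : Scheme.{u}))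
    (fun _ => e) (V.ι ≫ g)
  · intro _; infer_instance
  · intro _; infer_instance
  · intro y
    refine ⟨⟨⟩, ?_⟩
    obtain ⟨u, hu⟩ := y.2
    refine ⟨u, ?_⟩
    apply V.ι.injective
    rw [← Scheme.Hom.comp_apply, he]
    exact hu
  · intro _
    rw [← Category.assoc, he]
    simpa [j] using hU2

end Groth.Agent.S5138
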