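import Groth.Statements.S5141
import Groth.Agent.S5139

set_option autoImplicit false
open CategoryTheory
universe u v u₂ v₂
open FibCat

namespace Groth.Agent.S5141

/-- In the sharper form given by its proof: for an equivalence F : 𝒳 ⟶ 𝒴 over C, a morphism φ of 𝒳 is
cartesian (over its image in C) if and only if F φ is; in particular an equivalence over C is a
cartesian functor. -/
theorem result {C : Type u} [Category.{v} C]
    {𝒳 𝒴 : BasedCategory.{v₂, u₂} C} (F : 𝒳 ⥤ᵇ 𝒴) (hF : FibCat.IsEquivOver F) {a b : 𝒳.obj} (φ : a ⟶ b) :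
    𝒴.p.IsCartesian (𝒳.p.map φ) (F.toFunctor.map φ) ↔ 𝒳.p.IsCartesian (𝒳.p.map φ) φ := by
  obtain ⟨⟨hfull, hfaith⟩, hess⟩ := (Groth.Agent.S5139.result F).1 hF
  constructor
  · intro h
    refine ⟨?_⟩
    intro a' φ' hφ'
    haveI : 𝒴.p.IsHomLift (𝒳.p.map φ) (F.toFunctor.map φ') := F.preserves_isHomLift _ _
    obtain ⟨χ, ⟨hχl, hχf⟩, hχu⟩ := h.universal_property (φ' := F.toFunctor.map φ')
    refine ⟨F.toFunctor.preimage χ, ⟨?_, ?_⟩, ?_⟩
    · haveI : 𝒴.p.IsHomLift (𝟙 (𝒳.p.obj a)) (F.toFunctor.map (F.toFunctor.preimage χ)) := by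
        rw [Functor.map_preimage]; exact hχl
      exact F.isHomLift_map _ _
    · apply F.toFunctor.map_injective
      rw [Functor.map_comp, Functor.map_preimage, hχf]
    · rintro y ⟨hyl, hyf⟩
      apply F.toFunctor.map_injective
      rw [Functor.map_preimage]
      apply hχu
      refine ⟨F.preserves_isHomLift _ _, ?_⟩
      rw [← Functor.map_comp, hyf]
  · intro h
    haveI : 𝒴.p.IsHomLift (𝒳.p.map φ) (F.toFunctor.map φ) := F.preserves_isHomLift _ _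
    refine ⟨?_⟩
    intro η' ψ hψ
    obtain ⟨ξ', e, he⟩ := hess η'
    have hη' : 𝒴.p.obj η' = 𝒳.p.obj a := IsHomLift.domain_eq 𝒴.p (𝒳.p.map φ) ψ
    haveI he' : 𝒴.p.IsHomLift (𝟙 (𝒳.p.obj a)) e.hom :=
      Groth.Agent.S5139.isHomLift_id_of_eq hη' _ he
    haveI hei : 𝒴.p.IsHomLift (𝟙 (𝒳.p.obj a)) e.inv := IsHomLift.lift_id_inv 𝒴.p _ e
    haveI h1 : 𝒴.p.IsHomLift (𝒳.p.map φ) (e.hom ≫ ψ) := inferInstance
    haveI h2 : 𝒴.p.IsHomLift (𝒳.p.map φ)
        (F.toFunctor.map (F.toFunctor.preimage (e.hom ≫ ψ))) := by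
      rw [Functor.map_preimage]; exact h1
    haveI h3 : 𝒳.p.IsHomLift (𝒳.p.map φ) (F.toFunctor.preimage (e.hom ≫ ψ)) :=
      F.isHomLift_map _ _
    obtain ⟨χ₀, ⟨hχl, hχf⟩, hχu⟩ :=
      h.universal_property (φ' := F.toFunctor.preimage (e.hom ≫ ψ))
    haveI h4 : 𝒴.p.IsHomLift (𝟙 (𝒳.p.obj a)) (F.toFunctor.map χ₀) := F.preserves_isHomLift _ _
    refine ⟨e.inv ≫ F.toFunctor.map χ₀, ⟨inferInstance, ?_⟩, ?_⟩
    · rw [Category.assoc, ← Functor.map_comp, hχf, Functor.map_preimage, Iso.inv_hom_id_assoc]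
    · rintro y ⟨hyl, hyf⟩
      haveI h5 : 𝒴.p.IsHomLift (𝟙 (𝒳.p.obj a)) (e.hom ≫ y) := inferInstance
      haveI h6 : 𝒴.p.IsHomLift (𝟙 (𝒳.p.obj a))
          (F.toFunctor.map (F.toFunctor.preimage (e.hom ≫ y))) := by
        rw [Functor.map_preimage]; exact h5
      haveI h7 : 𝒳.p.IsHomLift (𝟙 (𝒳.p.obj a)) (F.toFunctor.preimage (e.hom ≫ y)) :=
        F.isHomLift_map _ _
      have h8 : F.toFunctor.preimage (e.hom ≫ y) = χ₀ := by
        apply hχu
        refine ⟨h7, ?_⟩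
        apply F.toFunctor.map_injective
        rw [Functor.map_comp, Functor.map_preimage, Functor.map_preimage, Category.assoc, hyf]
      have h9 : e.hom ≫ y = F.toFunctor.map χ₀ := by
        rw [← h8, Functor.map_preimage]
      rw [← h9, Iso.inv_hom_id_assoc]

end Groth.Agent.S5141
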