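import Groth.Statements.S5142
import Groth.Agent.H26.FibProd

set_option autoImplicit false
open CategoryTheory
universe u v u₂ v₂
open FibCat

namespace Groth.Agent.S5142

open Groth.Agent.H26.FibProd in
theorem aux {C : Type u} [Category.{v} C] {𝒳 𝒴 : BasedCategory.{v₂, u₂} C}
    {x y : (P 𝒳 𝒴).obj} (φ : x ⟶ y) :
    (P 𝒳 𝒴).p.IsCartesian (𝒳.p.map φ.hom.fst) φ ↔
      𝒳.p.IsCartesian (𝒳.p.map φ.hom.fst) φ.hom.fst ∧
        𝒴.p.IsCartesian (𝒴.p.map φ.hom.snd) φ.hom.snd := by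
  haveI hl : 𝒴.p.IsHomLift (𝒳.p.map φ.hom.fst) φ.hom.snd :=
    FibCat.fp_isHomLift_snd (FibCat.toSelf 𝒳) (FibCat.toSelf 𝒴) φ
  constructor
  · intro h
    haveI := h
    have h1 := isCartesian_fst (𝒳.p.map φ.hom.fst) φ
    haveI h2 := isCartesian_snd (𝒳.p.map φ.hom.fst) φ
    exact ⟨h1, isCartesian_of_isHomLift 𝒴.p (𝒳.p.map φ.hom.fst) (𝒴.p.map φ.hom.snd) φ.hom.snd⟩
  · rintro ⟨h1, h2⟩
    haveI := h1
    haveI := h2
    haveI h2' : 𝒴.p.IsCartesian (𝒳.p.map φ.hom.fst) φ.hom.snd :=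
      isCartesian_of_isHomLift 𝒴.p (𝒴.p.map φ.hom.snd) (𝒳.p.map φ.hom.fst) φ.hom.snd
    exact isCartesian_of_components (𝒳.p.map φ.hom.fst) φ

/-- A morphism of the fibre product 𝒳 ×_C 𝒴 of two categories over C is cartesian if and only if its two
components are cartesian (each over its image in C). The fibre product is taken as the 2-fibre
product over C of the two structure functors, whose objects are pairs over one object of C together
with an isomorphism of C lying over an identity. -/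
theorem result {C : Type u} [Category.{v} C] {𝒳 𝒴 : BasedCategory.{v₂, u₂} C}
    {x y : (FibCat.fp (FibCat.toSelf 𝒳) (FibCat.toSelf 𝒴)).obj} (φ : x ⟶ y) :
    (FibCat.fp (FibCat.toSelf 𝒳) (FibCat.toSelf 𝒴)).p.IsCartesian
        ((FibCat.fp (FibCat.toSelf 𝒳) (FibCat.toSelf 𝒴)).p.map φ) φ ↔
      𝒳.p.IsCartesian (𝒳.p.map φ.hom.fst) φ.hom.fst ∧ 𝒴.p.IsCartesian (𝒴.p.map φ.hom.snd) φ.hom.snd := by
  exact aux φ

end Groth.Agent.S5142
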