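import Groth.Statements.S5144


set_option autoImplicit false
open CategoryTheory
universe u v u₂ v₂
open FibCat

namespace Groth.Agent.S5144

open Opposite

section helpers
variable {C : Type u} [Category.{v} C] {𝒳 : Type u₂} [Category.{v₂} 𝒳]

theorem isHomLift_op_of (p : 𝒳 ⥤ C) {R S : C} {a b : 𝒳} (f : R ⟶ S) (φ : a ⟶ b)
    (h : p.IsHomLift f φ) : p.op.IsHomLift f.op φ.op := by
  cases h
  exact inferInstanceAs (p.op.IsHomLift (p.op.map φ.op) φ.op)

theorem isHomLift_unop_of (p : 𝒳 ⥤ C) {R S : Cᵒᵖ} {a b : 𝒳ᵒᵖ} (f : R ⟶ S) (φ : a ⟶ b)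
    (h : p.op.IsHomLift f φ) : p.IsHomLift f.unop φ.unop := by
  cases h
  exact inferInstanceAs (p.IsHomLift (p.map φ.unop) φ.unop)

theorem isCartesian_op_comp (p : 𝒳 ⥤ C) [p.IsFibered] {R S T : Cᵒᵖ} (f : R ⟶ S) (g : S ⟶ T)
    {a b c : 𝒳ᵒᵖ} (φ : a ⟶ b) (ψ : b ⟶ c) [hφ : p.op.IsCartesian f φ]
    [hψ : p.op.IsCartesian g ψ] : p.op.IsCartesian (f ≫ g) (φ ≫ ψ) where
  universal_property := by
    intro a' φ' hφ'
    have hφ'u : p.IsHomLift (g.unop ≫ f.unop) φ'.unop := isHomLift_unop_of p (f ≫ g) φ' hφ'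
    have ha' : p.obj a'.unop = R.unop := IsHomLift.codomain_eq p (g.unop ≫ f.unop) φ'.unop
    obtain ⟨d, κ, hκ⟩ := CategoryTheory.IsPreFibered.exists_isCartesian p ha' f.unop
    haveI hκs : p.IsStronglyCartesian f.unop κ := inferInstance
    obtain ⟨χ', ⟨hχ'l, hχ'f⟩, hχ'u⟩ :=
      Functor.IsStronglyCartesian.universal_property p f.unop κ g.unop (g.unop ≫ f.unop) rfl φ'.unop
    have hψl : p.op.IsHomLift g ψ := inferInstance
    have hφl : p.op.IsHomLift f φ := inferInstance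
    have hψu : p.IsHomLift g.unop ψ.unop := isHomLift_unop_of p g ψ hψl
    have hφu : p.IsHomLift f.unop φ.unop := isHomLift_unop_of p f φ hφl
    haveI hχ'o : p.op.IsHomLift g χ'.op := isHomLift_op_of p g.unop χ' hχ'l
    obtain ⟨σ, ⟨hσl, hσf⟩, hσu⟩ := hψ.universal_property (φ' := χ'.op)
    have hκl : p.IsHomLift f.unop κ := inferInstance
    haveI hκo : p.op.IsHomLift f κ.op := isHomLift_op_of p f.unop κ hκl
    haveI hκσ : p.op.IsHomLift f (κ.op ≫ σ) := inferInstance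
    obtain ⟨τ, ⟨hτl, hτf⟩, hτu⟩ := hφ.universal_property (φ' := κ.op ≫ σ)
    refine ⟨τ, ⟨hτl, ?_⟩, ?_⟩
    · rw [← Category.assoc, hτf, Category.assoc, hσf]
      exact congrArg Quiver.Hom.op hχ'f
    · rintro τ' ⟨hτ'l, hτ'f⟩
      apply hτu
      refine ⟨hτ'l, ?_⟩
      haveI h1 : p.op.IsHomLift f (τ' ≫ φ) := inferInstance
      haveI h1u : p.IsHomLift f.unop (φ.unop ≫ τ'.unop) := isHomLift_unop_of p f (τ' ≫ φ) h1
      obtain ⟨σ', ⟨hσ'l, hσ'f⟩, -⟩ := hκ.universal_property (φ' := φ.unop ≫ τ'.unop)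
      have hσ'o : p.op.IsHomLift (𝟙 S) σ'.op := isHomLift_op_of p (𝟙 S.unop) σ' hσ'l
      have h2 : ψ.unop ≫ σ' = χ' := by
        apply hχ'u
        refine ⟨inferInstance, ?_⟩
        rw [Category.assoc, hσ'f, ← hτ'f]
        simp
      have e1 : σ'.op = σ := by
        apply hσu
        exact ⟨hσ'o, congrArg Quiver.Hom.op h2⟩
      rw [← e1]
      exact (congrArg Quiver.Hom.op hσ'f).symm

theorem isFibered_op (p : 𝒳 ⥤ C) [p.IsFibered] [p.op.IsPreFibered] : p.op.IsFibered :=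
  { (inferInstance : p.op.IsPreFibered) with
    comp := by
      intro R S T f g a b c φ ψ hφ hψ
      exact isCartesian_op_comp p f g φ ψ }

theorem isCartesian_opop_iff (p : 𝒳 ⥤ C) {R S : C} {a b : 𝒳} (f : R ⟶ S) (φ : a ⟶ b) :
    p.op.op.IsCartesian f.op.op φ.op.op ↔ p.IsCartesian f φ := by
  constructor
  · intro h
    haveI : p.IsHomLift f φ :=
      isHomLift_unop_of p _ _ (isHomLift_unop_of p.op f.op.op φ.op.op h.toIsHomLift)
    refine ⟨?_⟩
    intro a' φ' hφ'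
    haveI : p.op.op.IsHomLift f.op.op φ'.op.op :=
      isHomLift_op_of p.op _ _ (isHomLift_op_of p f φ' hφ')
    obtain ⟨χ, ⟨hχl, hχf⟩, hχu⟩ := h.universal_property (φ' := φ'.op.op)
    refine ⟨χ.unop.unop,
      ⟨isHomLift_unop_of p _ _ (isHomLift_unop_of p.op (𝟙 (op (op R))) χ hχl),
        congrArg (fun m => m.unop.unop) hχf⟩, ?_⟩
    rintro y ⟨hyl, hyf⟩
    have := hχu y.op.op
      ⟨isHomLift_op_of p.op _ _ (isHomLift_op_of p (𝟙 R) y hyl), congrArg (fun m => m.op.op) hyf⟩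
    exact congrArg (fun m => m.unop.unop) this
  · intro h
    haveI : p.op.op.IsHomLift f.op.op φ.op.op :=
      isHomLift_op_of p.op _ _ (isHomLift_op_of p f φ h.toIsHomLift)
    refine ⟨?_⟩
    intro a' φ' hφ'
    haveI hl : p.IsHomLift f φ'.unop.unop :=
      isHomLift_unop_of p _ _ (isHomLift_unop_of p.op f.op.op φ' hφ')
    obtain ⟨χ, ⟨hχl, hχf⟩, hχu⟩ := h.universal_property (φ' := φ'.unop.unop)
    refine ⟨χ.op.op,
      ⟨isHomLift_op_of p.op _ _ (isHomLift_op_of p (𝟙 R) χ hχl),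
        congrArg (fun m => m.op.op) hχf⟩, ?_⟩
    rintro y ⟨hyl, hyf⟩
    have := hχu y.unop.unop
      ⟨isHomLift_unop_of p _ _ (isHomLift_unop_of p.op (𝟙 (op (op R))) y hyl),
        congrArg (fun m => m.unop.unop) hyf⟩
    exact congrArg (fun m => m.op.op) this

theorem isPreFibered_opop (p : 𝒳 ⥤ C) [p.IsPreFibered] : p.op.op.IsPreFibered where
  exists_isCartesian' := by
    intro a R f
    obtain ⟨b, φ, hφ⟩ := Functor.IsPreFibered.exists_isCartesian' (p := p)
      (a := a.unop.unop) (R := R.unop.unop) f.unop.unop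
    exact ⟨op (op b), φ.op.op, (isCartesian_opop_iff p f.unop.unop φ).2 hφ⟩

theorem isFibered_of_opop (p : 𝒳 ⥤ C) [p.IsPreFibered] [h : p.op.op.IsFibered] : p.IsFibered :=
  { (inferInstance : p.IsPreFibered) with
    comp := by
      intro R S T f g a b c φ ψ hφ hψ
      haveI h1 : p.op.op.IsCartesian f.op.op φ.op.op := (isCartesian_opop_iff p f φ).2 hφ
      haveI h2 : p.op.op.IsCartesian g.op.op ψ.op.op := (isCartesian_opop_iff p g ψ).2 hψ
      have h3 : p.op.op.IsCartesian (f.op.op ≫ g.op.op) (φ.op.op ≫ ψ.op.op) := inferInstance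
      exact (isCartesian_opop_iff p (f ≫ g) (φ ≫ ψ)).1 h3 }

end helpers

/-- If p : 𝒳 ⥤ C is both prefibred and co-prefibred (its opposite functor is prefibred), then p is
fibred if and only if it is co-fibred (its opposite functor is fibred). Prefibred and fibred are
Mathlib's notions, which are the source's. -/
theorem result {C : Type u} [Category.{v} C] {𝒳 : Type u₂} [Category.{v₂} 𝒳]
    (p : 𝒳 ⥤ C) [p.IsPreFibered] [p.op.IsPreFibered] : p.IsFibered ↔ p.op.IsFibered := by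
  constructor
  · intro h
    exact isFibered_op p
  · intro h
    haveI := isPreFibered_opop p
    haveI : p.op.op.IsFibered := isFibered_op p.op
    exact isFibered_of_opop p

end Groth.Agent.S5144
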