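import Groth.Statements.S5147
import Mathlib.CategoryTheory.Galois.Prorepresentability
import Mathlib.CategoryTheory.Galois.Decomposition

set_option autoImplicit false
universe u v w
open CategoryTheory PreGaloisCategory
open Pi1

namespace Groth.Agent.S5147

open CategoryTheory.Limits in
theorem unique_fiber_terminal {C' : Type u} [Category.{v} C'] [GaloisCategory C']
    (F' : C' ⥤ FintypeCat.{w}) [FiberFunctor F'] : Nonempty (Unique (F'.obj (⊤_ C'))) :=
  ⟨(Types.isTerminalEquivUnique _)
    ((terminalIsTerminal (C := C')).isTerminalObj (F' ⋙ FintypeCat.incl) _)⟩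

open CategoryTheory.Limits in
theorem isIso_terminal_of_fixed {C' : Type u} [Category.{v} C'] [GaloisCategory C']
    (F' : C' ⥤ FintypeCat.{w}) [FiberFunctor F'] (Y : C') [IsConnected Y] (Z : C') (i : Y ⟶ Z)
    [Mono i]
    (hfix : ∀ (σ : Aut F') (y : F'.obj Y), σ.hom.app Z (F'.map i y) = F'.map i y) :
    IsIso (terminal.from Y) := by
  obtain ⟨huniq⟩ := unique_fiber_terminal F'
  have hinj : Function.Injective (F'.map i) :=
    ConcreteCategory.injective_of_mono_of_preservesPullback (F'.map i)
  obtain ⟨y⟩ := nonempty_fiber_of_isConnected F' Y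
  have hone : ∀ y' : F'.obj Y, y' = y := by
    intro y'
    obtain ⟨σ, hσ⟩ := MulAction.exists_smul_eq (Aut F') y y'
    apply hinj
    rw [← hσ, ← mulAction_naturality]
    exact hfix σ y
  have h1 : IsIso (F'.map (terminal.from Y)) := by
    apply (ConcreteCategory.isIso_iff_bijective (F'.map (terminal.from Y))).mpr
    constructor
    · intro y1 y2 _
      rw [hone y1, hone y2]
    · intro t
      exact ⟨y, Subsingleton.elim _ _⟩
  exact isIso_of_reflects_iso _ F'

open CategoryTheory.Limits in
/-- In the situation of the first assertion, the stabilizer U of a contains the normal subgroup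
generated by the image of u (hence also its closure, U being open) if and only if H(X) is isomorphic
to a finite coproduct of copies of the final object of C'. -/
theorem result {C C' : Type u} [Category.{v} C] [Category.{v} C']
    [GaloisCategory C] [GaloisCategory C'] (H : C ⥤ C') [PreservesFiniteLimits H] [PreservesFiniteColimits H]
    (F' : C' ⥤ FintypeCat.{w}) [FiberFunctor F'] [FiberFunctor (H ⋙ F')] (X : C) [IsConnected X]
    (a : (H ⋙ F').obj X) :
    Subgroup.normalClosure ((Pi1X.autWhisker H F').range : Set (Aut (H ⋙ F'))) ≤ MulAction.stabilizer (Aut (H ⋙ F')) a ↔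
      ∃ n : ℕ, Nonempty (H.obj X ≅ ∐ fun _ : Fin n => ⊤_ C') := by
  constructor
  · intro hN
    have hfixall : ∀ (σ : Aut F') (b : F'.obj (H.obj X)), σ.hom.app (H.obj X) b = b := by
      intro σ b
      obtain ⟨τ, hτ⟩ := MulAction.exists_smul_eq (Aut (H ⋙ F')) a b
      have hg : Pi1X.autWhisker H F' σ ∈
          Subgroup.normalClosure ((Pi1X.autWhisker H F').range : Set (Aut (H ⋙ F'))) :=
        Subgroup.subset_normalClosure ⟨σ, rfl⟩
      have h1 := hN (Subgroup.normalClosure_normal.conj_mem _ hg τ⁻¹)
      rw [MulAction.mem_stabilizer_iff, inv_inv, mul_smul, mul_smul, inv_smul_eq_iff, hτ] at h1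
      exact h1
    obtain ⟨ι, hfin, f, e, hc⟩ := has_decomp_connected_components' (H.obj X)
    haveI := hfin
    have hterm : ∀ j, IsIso (terminal.from (f j)) := by
      intro j
      haveI := hc j
      haveI : Mono (Sigma.ι f j ≫ e.hom) := mono_comp _ _
      exact isIso_terminal_of_fixed F' (f j) (H.obj X) (Sigma.ι f j ≫ e.hom)
        (fun σ y => hfixall σ _)
    let ε : Fin (Nat.card ι) ≃ ι := (Finite.equivFin ι).symm
    refine ⟨Nat.card ι, ⟨e.symm ≪≫ Sigma.mapIso (fun j => @asIso _ _ _ _ _ (hterm j)) ≪≫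
      (Sigma.reindex ε (fun _ : ι => ⊤_ C')).symm⟩⟩
  · rintro ⟨n, ⟨e⟩⟩
    obtain ⟨huniq⟩ := unique_fiber_terminal F'
    have hfixall : ∀ (σ : Aut F') (b : F'.obj (H.obj X)), σ.hom.app (H.obj X) b = b := by
      intro σ b
      let g : Fin n → C' := fun _ => ⊤_ C'
      let s : Cocone (Discrete.functor g ⋙ F') := F'.mapCocone (colimit.cocone _)
      have s' : IsColimit s := isColimitOfPreserves F' (colimit.isColimit _)
      obtain ⟨⟨j⟩, z, h⟩ := Concrete.isColimit_exists_rep _ s' (F'.map e.hom b)
      have hb : b = F'.map (Sigma.ι g j ≫ e.inv) z := by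
        have h2 : F'.map (Sigma.ι g j) z = F'.map e.hom b := h
        rw [Functor.map_comp, FintypeCat.comp_apply, h2, ← FintypeCat.comp_apply,
          ← CategoryTheory.Functor.map_comp, e.hom_inv_id, CategoryTheory.Functor.map_id, FintypeCat.id_apply]
      rw [hb]
      have h3 := NatTrans.naturality_apply σ.hom (Sigma.ι g j ≫ e.inv) z
      rw [h3]
      congr 1
      exact Subsingleton.elim _ _
    have hker : ((Pi1X.autWhisker H F').range : Set (Aut (H ⋙ F'))) ⊆
        ((MulAction.toPermHom (Aut (H ⋙ F')) ((H ⋙ F').obj X)).ker : Set (Aut (H ⋙ F'))) := by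
      rintro _ ⟨σ, rfl⟩
      exact MonoidHom.mem_ker.2 (Equiv.ext fun b => hfixall σ b)
    refine (Subgroup.normalClosure_le_normal hker).trans ?_
    intro g hg
    rw [MulAction.mem_stabilizer_iff]
    exact congrArg (fun p : Equiv.Perm ((H ⋙ F').obj X) => p a) (MonoidHom.mem_ker.1 hg)

end Groth.Agent.S5147
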