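import Groth.Statements.S5149
import Groth.Agent.S5146
import Groth.Agent.S5148
import Groth.Agent.H92.GalCat

set_option autoImplicit false
universe u v w
open CategoryTheory PreGaloisCategory
open Pi1

namespace Groth.Agent.S5149

open CategoryTheory.Limits in
/-- For exact functors H : C ⥤ C', H' : C' ⥤ C'' of Galois categories with compatible fibre functors and
induced homomorphisms u' and u of fundamental groups, the kernel of u is contained in the image of
u' if and only if every pointed connected object (X', a') of C' for which H'(X') has a section from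
the final object through a' admits a morphism from a connected subobject of some H(X). (The
published statement writes this inclusion as Ker u ⊇ Im u', which is the condition that u ∘ u' be
trivial; this row states Ker u ⊆ Im u', which is what the published argument establishes.) -/
theorem result {C C' C'' : Type u} [Category.{v} C] [Category.{v} C'] [Category.{v} C'']
    [GaloisCategory C] [GaloisCategory C'] [GaloisCategory C'']
    (H : C ⥤ C') [PreservesFiniteLimits H] [PreservesFiniteColimits H]
    (H' : C' ⥤ C'') [PreservesFiniteLimits H'] [PreservesFiniteColimits H']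
    (F'' : C'' ⥤ FintypeCat.{w}) [FiberFunctor F''] [FiberFunctor (H' ⋙ F'')] [FiberFunctor (H ⋙ (H' ⋙ F''))] :
    (Pi1X.autWhisker H (H' ⋙ F'')).ker ≤ (Pi1X.autWhisker H' F'').range ↔
      ∀ (X' : C') (a' : (H' ⋙ F'').obj X'), IsConnected X' →
        (∃ s : ⊤_ C'' ⟶ H'.obj X', ∀ t : F''.obj (⊤_ C''), F''.map s t = a') →
          ∃ (X : C) (Y' : C') (i : Y' ⟶ H.obj X) (q : Y' ⟶ X'), Mono i ∧ IsConnected Y' := by
  constructor
  · intro h X' a' hX' hs
    have := hX'
    apply (Groth.Agent.S5148.result H (H' ⋙ F'') X' a').1
    exact le_trans h ((Groth.Agent.S5146.result H' F'' X' a').2 hs)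
  · intro h σ hσ
    by_contra hσK
    obtain ⟨U, hUo, hKU, hσU⟩ := Groth.Agent.H92.GalCat.exists_open_of_closed (H' ⋙ F'') _
      (Groth.Agent.H92.GalCat.isClosed_range_autWhisker' H' F'') σ hσK
    obtain ⟨X', a', hX'c, hstab⟩ :=
      Groth.Agent.H92.GalCat.exists_connected_stabilizer_eq (H' ⋙ F'') U hUo
    have hle : (Pi1X.autWhisker H' F'').range ≤ MulAction.stabilizer (Aut (H' ⋙ F'')) a' := by
      rw [hstab]
      exact hKU
    have hs := (Groth.Agent.S5146.result H' F'' X' a').1 hle
    have hrhs := h X' a' hX'c hs
    have hker := (Groth.Agent.S5148.result H (H' ⋙ F'') X' a').2 hrhs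
    apply hσU
    rw [← hstab]
    exact hker hσ

end Groth.Agent.S5149
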