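import Groth.Statements.S5151
import Mathlib.RingTheory.Depth.Rees
import Groth.Agent.S5150

set_option autoImplicit false
universe u
open LocCoh

namespace Groth.Agent.S5151

open CategoryTheory Abelian RingTheory.Sequence ModuleCat Limits in
lemma extend_of_ext {A : Type u} [CommRing A] [IsNoetherianRing A] (I : Ideal A)
    (rs : List A) : ∀ (M : ModuleCat.{u} A) (_ : Module.Finite A M),
    IsWeaklyRegular M rs →
    (∀ i ≤ rs.length, Subsingleton (Ext (ModuleCat.of A (A ⧸ I)) M i)) →
    ∃ r ∈ I, IsWeaklyRegular M (rs ++ [r]) := by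
  induction rs with
  | nil =>
    intro M hfin _ hext
    haveI := hfin
    have h0 : Subsingleton ((ModuleCat.of A (A ⧸ I)) ⟶ M) :=
      Ext.addEquiv₀.subsingleton_congr.mp (hext 0 le_rfl)
    have h1' : Subsingleton ((ModuleCat.of A (A ⧸ I) : ModuleCat.{u} A) →ₗ[A] M) :=
      ModuleCat.homAddEquiv.symm.subsingleton
    have h1 : Subsingleton ((A ⧸ I) →ₗ[A] M) := h1'
    obtain ⟨r, hr, hreg⟩ := IsSMulRegular.subsingleton_linearMap_iff.mp h1
    rw [Ideal.annihilator_quotient] at hr
    refine ⟨r, hr, ?_⟩
    rw [List.nil_append, isWeaklyRegular_singleton_iff]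
    exact hreg
  | cons a rs' ih =>
    intro M hfin hreg hext
    haveI := hfin
    rw [isWeaklyRegular_cons_iff] at hreg
    have h_ext' : ∀ i ≤ rs'.length, Subsingleton
        (Ext (ModuleCat.of A (A ⧸ I)) (ModuleCat.of A (QuotSMulTop a M)) i) := by
      intro i hi
      have zero1 := AddCommGrpCat.isZero_of_iff_subsingleton.mpr
        (hext i (by simp only [List.length_cons]; omega))
      have zero2 := AddCommGrpCat.isZero_of_iff_subsingleton.mpr
        (hext (i + 1) (by simp only [List.length_cons]; omega))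
      exact AddCommGrpCat.subsingleton_of_isZero <| ShortComplex.Exact.isZero_of_both_zeros
        ((Ext.covariant_sequence_exact₃' _ hreg.1.smulShortComplex_shortExact) i (i + 1) rfl)
        (zero1.eq_zero_of_src _) (zero2.eq_zero_of_tgt _)
    obtain ⟨r, hr, hr'⟩ := ih (ModuleCat.of A (QuotSMulTop a M))
      (inferInstanceAs (Module.Finite A (QuotSMulTop a M))) hreg.2 h_ext'
    refine ⟨r, hr, ?_⟩
    rw [List.cons_append, isWeaklyRegular_cons_iff]
    exact ⟨hreg.1, hr'⟩

/-- Let A be a Noetherian ring, I an ideal and M a finite A-module with IM ≠ M. Every weakly M-regular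
sequence of elements of I can be extended to a maximal one (one after which no element of I is
M-regular on the quotient), and any maximal weakly M-regular sequence of elements of I has length
equal to the I-depth of M. (The published statement does not assume IM ≠ M; without it the first
assertion fails: over ℤ with I = (2) and M = ℤ/3 the element 2 is M-regular with M/2M = 0, after
which every element of I is regular on the zero module, so no weakly M-regular sequence of elements
of I is maximal, while the I-depth is infinite. With IM ≠ M every weakly M-regular sequence in I is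
M-regular and the I-depth is finite.) -/
theorem result (A : Type u) [CommRing A] [IsNoetherianRing A] (I : Ideal A) (M : Type u) [AddCommGroup M] [Module A M] [Module.Finite A M] (hIM : I • (⊤ : Submodule A M) ≠ ⊤) : (∀ rs : List A, RingTheory.Sequence.IsWeaklyRegular M rs → (∀ r ∈ rs, r ∈ I) → ∃ rs' : List A, rs <+: rs' ∧ RingTheory.Sequence.IsWeaklyRegular M rs' ∧ (∀ r ∈ rs', r ∈ I) ∧ ∀ r ∈ I, ¬ RingTheory.Sequence.IsWeaklyRegular M (rs' ++ [r])) ∧ (∀ rs : List A, RingTheory.Sequence.IsWeaklyRegular M rs → (∀ r ∈ rs, r ∈ I) → (∀ r ∈ I, ¬ RingTheory.Sequence.IsWeaklyRegular M (rs ++ [r])) → (rs.length : ℕ∞) = LocCoh.idealDepth I M) := by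
  classical
  have hofList_le : ∀ rs : List A, (∀ r ∈ rs, r ∈ I) → Ideal.ofList rs ≤ I := by
    intro rs h
    show Ideal.span {r | r ∈ rs} ≤ I
    exact Ideal.span_le.2 (fun r hr => h r hr)
  have hstrict : ∀ (rs : List A) (r : A), (∀ x ∈ rs, x ∈ I) →
      RingTheory.Sequence.IsWeaklyRegular M (rs ++ [r]) →
      Ideal.ofList rs < Ideal.ofList (rs ++ [r]) := by
    intro rs r hmem hreg
    rw [RingTheory.Sequence.isWeaklyRegular_append_iff,
      RingTheory.Sequence.isWeaklyRegular_singleton_iff] at hreg
    refine lt_of_le_of_ne ?_ ?_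
    · rw [Ideal.ofList_append]
      exact le_sup_left
    · intro heq
      have hr : r ∈ Ideal.ofList rs := by
        rw [heq, Ideal.ofList_append, Ideal.ofList_singleton]
        exact Ideal.mem_sup_right (Ideal.mem_span_singleton_self r)
      apply hIM
      rw [eq_top_iff]
      refine le_trans ?_ (Submodule.smul_mono_left (hofList_le rs hmem))
      intro x _
      have h0 : r • (Submodule.Quotient.mk x : M ⧸ (Ideal.ofList rs • ⊤ : Submodule A M))
          = r • 0 := by
        rw [smul_zero, ← Submodule.Quotient.mk_smul, Submodule.Quotient.mk_eq_zero]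
        exact Submodule.smul_mem_smul hr Submodule.mem_top
      have h1 := hreg.2 h0
      exact (Submodule.Quotient.mk_eq_zero _).1 h1
  have key : ∀ J : Ideal A, ∀ rs : List A, Ideal.ofList rs = J →
      RingTheory.Sequence.IsWeaklyRegular M rs → (∀ r ∈ rs, r ∈ I) →
      ∃ rs' : List A, rs <+: rs' ∧ RingTheory.Sequence.IsWeaklyRegular M rs' ∧
        (∀ r ∈ rs', r ∈ I) ∧ ∀ r ∈ I, ¬ RingTheory.Sequence.IsWeaklyRegular M (rs' ++ [r]) := by
    intro J
    refine WellFoundedGT.induction (motive := fun J => ∀ rs : List A, Ideal.ofList rs = J →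
      RingTheory.Sequence.IsWeaklyRegular M rs → (∀ r ∈ rs, r ∈ I) →
      ∃ rs' : List A, rs <+: rs' ∧ RingTheory.Sequence.IsWeaklyRegular M rs' ∧
        (∀ r ∈ rs', r ∈ I) ∧ ∀ r ∈ I, ¬ RingTheory.Sequence.IsWeaklyRegular M (rs' ++ [r])) J ?_
    intro J ih rs hJ hreg hmem
    by_cases hmax : ∀ r ∈ I, ¬ RingTheory.Sequence.IsWeaklyRegular M (rs ++ [r])
    · exact ⟨rs, List.prefix_refl _, hreg, hmem, hmax⟩
    · push Not at hmax
      obtain ⟨r, hrI, hr⟩ := hmax
      have hmem' : ∀ x ∈ rs ++ [r], x ∈ I := by
        intro x hx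
        rcases List.mem_append.1 hx with h | h
        · exact hmem x h
        · rw [List.mem_singleton] at h
          rw [h]
          exact hrI
      have hlt : J < Ideal.ofList (rs ++ [r]) := by
        rw [← hJ]
        exact hstrict rs r hmem hr
      obtain ⟨rs', hpre, h1, h2, h3⟩ := ih (Ideal.ofList (rs ++ [r])) hlt (rs ++ [r]) rfl hr hmem'
      exact ⟨rs', (List.prefix_append rs [r]).trans hpre, h1, h2, h3⟩
  refine ⟨fun rs hreg hmem => key _ rs rfl hreg hmem, ?_⟩
  intro rs hreg hmem hmax
  unfold LocCoh.idealDepth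
  rw [if_neg hIM]
  apply le_antisymm
  · exact le_iSup₂_of_le rs ⟨hreg, hmem⟩ le_rfl
  · refine iSup₂_le ?_
    rintro rs₂ ⟨hreg₂, hmem₂⟩
    by_contra hlt
    rw [not_le] at hlt
    have hlt' : rs.length < rs₂.length := by exact_mod_cast hlt
    have hext : ∀ i ≤ rs.length, Subsingleton
        (CategoryTheory.Abelian.Ext (ModuleCat.of A (A ⧸ I)) (ModuleCat.of A M) i) := by
      intro i hi
      refine Groth.Agent.S5150.main I 1 (ModuleCat.of A (A ⧸ I)) ?_ (ModuleCat.of A M) rs₂
        hmem₂ hreg₂ i (by omega)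
      intro a ha
      rw [pow_one]
      show a ∈ Module.annihilator A (A ⧸ I)
      rw [Ideal.annihilator_quotient]
      exact ha
    obtain ⟨r, hr, hr'⟩ := extend_of_ext I rs (ModuleCat.of A M) ‹Module.Finite A M› hreg hext
    exact hmax r hr hr'

end Groth.Agent.S5151
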