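import Groth.Statements.S5153
import Groth.Agent.H2.ConnComp
import Groth.Agent.S6039

set_option autoImplicit false
universe u
open AlgebraicGeometry
open LocCoh

open CategoryTheory Opposite

namespace Groth.Agent.S5153

/-- Let X be a locally Noetherian scheme and Y = X − U a closed subset such that depth O_{X,x} ≥ 2 for
every x ∈ Y. Then the inclusion U → X induces a bijection on sets of connected components. -/
theorem result (X : Scheme.{u}) [IsLocallyNoetherian X] (U : X.Opens) (h : ∀ x : X, x ∉ (U : Set X) → (2 : ℕ∞) ≤ LocCoh.depth (X.presheaf.stalk x) (X.presheaf.stalk x)) : Function.Bijective (Continuous.connectedComponentsMap (continuous_subtype_val : Continuous (fun x : U => (x : X)))) := by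
  have hO := Groth.Agent.H8.isCoh_structureModule X
  have key := (Groth.Agent.S6039.result X U (Coh.structureModule X) hO).1
    (fun x hx => by
      rw [Groth.Agent.H2.ConnComp.depth_structureModule_stalk]
      exact h x hx)
  have H : ∀ V : X.Opens, Function.Bijective
      (X.presheaf.map (homOfLE (inf_le_left : V ⊓ U ≤ V)).op).hom := fun V => key V
  haveI := Groth.Agent.H2.ConnComp.locallyConnectedSpace_of_isLocallyNoetherian X
  constructor
  · intro a b hab
    obtain ⟨u1, rfl⟩ := ConnectedComponents.surjective_coe a
    obtain ⟨u2, rfl⟩ := ConnectedComponents.surjective_coe b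
    rw [Continuous.connectedComponentsMap_mk, Continuous.connectedComponentsMap_mk,
      ConnectedComponents.coe_eq_coe'] at hab
    let C : X.Opens := ⟨connectedComponent (u2 : X), isOpen_connectedComponent⟩
    have hpre := Groth.Agent.H2.ConnComp.isPreconnected_inf U H C
      isPreconnected_connectedComponent
    have hS : _root_.IsPreconnected
        ((Subtype.val : U → X) ⁻¹' ((C ⊓ U : X.Opens) : Set X)) := by
      have himg : (Subtype.val : U → X) '' ((Subtype.val : U → X) ⁻¹'
          ((C ⊓ U : X.Opens) : Set X)) = ((C ⊓ U : X.Opens) : Set X) :=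
        Set.image_preimage_eq_of_subset (fun z hz => ⟨⟨z, hz.2⟩, rfl⟩)
      exact (Topology.IsInducing.subtypeVal.isPreconnected_image).1
        (Eq.mpr (congrArg _root_.IsPreconnected himg) hpre)
    rw [ConnectedComponents.coe_eq_coe']
    exact hS.subset_connectedComponent (x := u2) ⟨mem_connectedComponent, u2.2⟩ ⟨hab, u1.2⟩
  · intro c
    obtain ⟨x, rfl⟩ := ConnectedComponents.surjective_coe c
    let C : X.Opens := ⟨connectedComponent x, isOpen_connectedComponent⟩
    have hne : C ⊓ U ≠ ⊥ := Groth.Agent.H2.ConnComp.inf_ne_bot U H C (by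
      intro hC
      have hx : x ∈ C := mem_connectedComponent
      rw [hC] at hx
      exact hx)
    obtain ⟨y, hyC, hyU⟩ : ∃ y, y ∈ C ∧ y ∈ U := by
      by_contra hcon
      push Not at hcon
      apply hne
      apply TopologicalSpace.Opens.ext
      ext z
      simp only [TopologicalSpace.Opens.coe_inf, Set.mem_inter_iff, SetLike.mem_coe,
        TopologicalSpace.Opens.coe_bot, Set.mem_empty_iff_false, iff_false, not_and]
      exact hcon z
    refine ⟨_root_.ConnectedComponents.mk (⟨y, hyU⟩ : U), ?_⟩
    rw [Continuous.connectedComponentsMap_mk, ConnectedComponents.coe_eq_coe']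
    exact hyC

end Groth.Agent.S5153
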