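import Groth.Statements.S5158
import Mathlib.RingTheory.AdicCompletion.LocalRing
import Mathlib.RingTheory.AdicCompletion.Completeness
import Mathlib.RingTheory.AdicCompletion.AsTensorProduct
import Mathlib.RingTheory.Flat.FaithfullyFlat.Algebra

set_option autoImplicit false
universe u
open scoped TensorProduct
open Matlis

namespace Groth.Agent.S5158

/-- Let A be a Noetherian local ring, Â its m-adic completion and I an m-power torsion A-module (a union
of submodules of finite length). Then x ↦ 1 ⊗ x is a bijection I → Â ⊗_A I. -/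
theorem result (A : Type u) [CommRing A] [IsLocalRing A] [IsNoetherianRing A] (I : Type u) [AddCommGroup I] [Module A I] (hI : LocCoh.IsPowerTorsion (IsLocalRing.maximalIdeal A) I) : Function.Bijective (TensorProduct.mk A (AdicCompletion (IsLocalRing.maximalIdeal A) A) I 1) := by
  classical
  haveI : Module.FaithfullyFlat A (AdicCompletion (IsLocalRing.maximalIdeal A) A) :=
    Module.FaithfullyFlat.of_flat_of_isLocalHom
  refine ⟨Module.FaithfullyFlat.tensorProduct_mk_injective (A := A)
    (B := AdicCompletion (IsLocalRing.maximalIdeal A) A) I, ?_⟩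
  intro t
  induction t using TensorProduct.induction_on with
  | zero => exact ⟨0, map_zero _⟩
  | add x y hx hy =>
    obtain ⟨x', hx'⟩ := hx
    obtain ⟨y', hy'⟩ := hy
    exact ⟨x' + y', by rw [map_add, hx', hy']⟩
  | tmul r x =>
    obtain ⟨n, hn⟩ := hI x
    obtain ⟨a, ha⟩ := Submodule.mkQ_surjective _
      (AdicCompletion.eval (IsLocalRing.maximalIdeal A) A n r)
    have hz : r - AdicCompletion.of (IsLocalRing.maximalIdeal A) A a ∈
        LinearMap.ker (AdicCompletion.eval (IsLocalRing.maximalIdeal A) A n) := by
      rw [LinearMap.mem_ker, map_sub, AdicCompletion.eval_of, ha, sub_self]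
    rw [← AdicCompletion.pow_smul_top_eq_ker_eval
      (Ideal.fg_of_isNoetherianRing (IsLocalRing.maximalIdeal A))] at hz
    have hkill : ∀ z ∈ ((IsLocalRing.maximalIdeal A) ^ n • ⊤ :
        Submodule A (AdicCompletion (IsLocalRing.maximalIdeal A) A)), z ⊗ₜ[A] x = 0 := by
      intro z hz
      refine Submodule.smul_induction_on hz ?_ ?_
      · intro c hc w _
        rw [TensorProduct.smul_tmul, hn c hc, TensorProduct.tmul_zero]
      · intro z₁ z₂ h₁ h₂
        rw [TensorProduct.add_tmul, h₁, h₂, add_zero]
    refine ⟨a • x, ?_⟩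
    have h1 := hkill _ hz
    rw [TensorProduct.sub_tmul, sub_eq_zero] at h1
    have h2 : AdicCompletion.of (IsLocalRing.maximalIdeal A) A a
        = a • (1 : AdicCompletion (IsLocalRing.maximalIdeal A) A) := by
      rw [← Algebra.algebraMap_eq_smul_one, AdicCompletion.algebraMap_apply]
      rfl
    rw [h1, h2, TensorProduct.mk_apply, TensorProduct.smul_tmul]

end Groth.Agent.S5158
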