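import Groth.Statements.S5159
import Groth.Agent.H72.ExtType
import Groth.Agent.H58.LCBridge

set_option autoImplicit false
universe u
open CategoryTheory Opposite
open Dual

namespace Groth.Agent.S5159

open Groth.Agent.H72.ExtType

/-- Let A be a regular local ring of dimension n and M an A-module of finite length. Then Ext^i_A(M, A)
= 0 for i ≠ n and length Ext^n_A(M, A) = length M (the functor Ext^n_A(−, A) is dualizing). -/
theorem result (A : Type u) [CommRing A] [IsRegularLocalRing A] (n : ℕ) (hn : ringKrullDim A = n) (M : Type u) [AddCommGroup M] [Module A M] (hM : IsFiniteLength A M) : (∀ i : ℕ, i ≠ n → Subsingleton (((Ext A (ModuleCat.{u} A) i).obj (op (ModuleCat.of A M))).obj (ModuleCat.of A A))) ∧ Module.length A (((Ext A (ModuleCat.{u} A) n).obj (op (ModuleCat.of A M))).obj (ModuleCat.of A A)) = Module.length A M := by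
  classical
  obtain ⟨hv, hl⟩ := ext_kk_self_of_isRegularLocalRing A n hn
  have hs : ∀ (S : Type u) [AddCommGroup S] [Module A S] [IsSimpleModule A S],
      (∀ i, i ≠ n → Subsingleton (Abelian.Ext.{u} (ModuleCat.of A S) (ModuleCat.of A A) i)) ∧
        Module.length A (Abelian.Ext.{u} (ModuleCat.of A S) (ModuleCat.of A A) n) = 1 := by
    intro S _ _ hS
    obtain ⟨I, hI, ⟨e⟩⟩ := isSimpleModule_iff_quot_maximal.mp hS
    obtain rfl : I = IsLocalRing.maximalIdeal A := IsLocalRing.eq_maximalIdeal hI
    have eE : ∀ i, Abelian.Ext.{u} (ModuleCat.of A S) (ModuleCat.of A A) i ≃ₗ[A]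
        Groth.Agent.H72.AB.E A i A := fun i => extIsoLeft e.toModuleIso (ModuleCat.of A A) i
    refine ⟨fun i hi => ?_, ?_⟩
    · have hsub := hv i hi
      exact (eE i).toEquiv.subsingleton
    · rw [(eE n).length_eq]
      exact hl
  obtain ⟨h1, h2⟩ := ext_length_of_isFiniteLength (ModuleCat.of A A) n hs M hM
  constructor
  · intro i hi
    have hsub := h1 i hi
    exact (Groth.Agent.H58.LCBridge.bridge (ModuleCat.of A M) (ModuleCat.of A A) i).toEquiv.subsingleton
  · rw [(Groth.Agent.H58.LCBridge.bridge (ModuleCat.of A M) (ModuleCat.of A A) n).length_eq]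
    exact h2

end Groth.Agent.S5159
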