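import Groth.Statements.S5161
import Groth.Agent.H2.AffPunct
import Groth.Agent.S11630

set_option autoImplicit false
universe u
open AlgebraicGeometry
open LocCoh

namespace Groth.Agent.S5161

/-- Let A be a Noetherian ring, X = Spec A and Y ⊆ X a closed subset whose complement U is an affine
open. Then every irreducible component of Y has codimension ≤ 1 in X, i.e. the generic point of each
irreducible component of Y is a prime of height at most 1. -/
theorem result (A : Type u) [CommRing A] [IsNoetherianRing A] (U : (Spec (CommRingCat.of A)).Opens) (hU : IsAffineOpen U) (p : PrimeSpectrum A) (hpU : (p : (Spec (CommRingCat.of A) : Type u)) ∉ (U : Set (Spec (CommRingCat.of A) : Type u))) (hmin : ∀ q : PrimeSpectrum A, q.asIdeal ≤ p.asIdeal → (q : (Spec (CommRingCat.of A) : Type u)) ∉ (U : Set (Spec (CommRingCat.of A) : Type u)) → q = p) : p.asIdeal.height ≤ 1 := by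
  obtain ⟨I, hI⟩ : ∃ I : Ideal A, ((U.carrier : Set (PrimeSpectrum A))ᶜ) = PrimeSpectrum.zeroLocus (I : Set A) :=
    (PrimeSpectrum.isClosed_iff_zeroLocus_ideal _).1 U.2.isClosed_compl
  have hUeq : U = LocCoh.puncturedOpen A I := by
    apply TopologicalSpace.Opens.ext
    have : (U.carrier : Set (PrimeSpectrum A)) = (PrimeSpectrum.zeroLocus (I : Set A))ᶜ := by
      rw [← hI]
      exact (compl_compl _).symm
    exact this
  have hmem : ∀ q : PrimeSpectrum A, (q : (Spec (CommRingCat.of A) : Type u)) ∉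
      (U : Set (Spec (CommRingCat.of A) : Type u)) ↔ I ≤ q.asIdeal := by
    intro q
    have h1 : q ∈ ((U.carrier : Set (PrimeSpectrum A))ᶜ) ↔
        q ∈ PrimeSpectrum.zeroLocus (I : Set A) := by rw [hI]; exact Iff.rfl
    exact h1.trans (by rw [PrimeSpectrum.mem_zeroLocus, SetLike.coe_subset_coe])
  rw [hUeq] at hU
  have hcd := (Groth.Agent.H2.AffPunct.isAffineOpen_punctured_iff_cdLE_one A I).1 hU
  have hex := (Groth.Agent.S11628.result A I).2 hcd
  refine Groth.Agent.S11630.result A I hex p.asIdeal ⟨⟨p.2, (hmem p).1 hpU⟩, ?_⟩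
  rintro q ⟨hq, hIq⟩ hqp
  have := hmin ⟨q, hq⟩ hqp ((hmem ⟨q, hq⟩).2 hIq)
  rw [← this]

end Groth.Agent.S5161
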