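import Groth.Statements.S5163
import Mathlib.LinearAlgebra.Dual.Lemmas
import Mathlib.RingTheory.LocalRing.Module
import Mathlib.RingTheory.LocalRing.ResidueField.Ideal
import Mathlib.RingTheory.Ideal.AssociatedPrime.Basic
import Mathlib.RingTheory.Localization.Integer

set_option autoImplicit false
universe u
open LocCoh

namespace Groth.Agent.S5163

open TensorProduct in
theorem key (A : Type u) [CommRing A] (P H : Type u) [AddCommGroup P] [Module A P]
    [Module.Finite A P] [AddCommGroup H] [Module A H] (𝔭 : Ideal A) [𝔭.IsPrime] (h : H)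
    (hann : ∀ a : A, a ∈ 𝔭 ↔ a • h = 0) (hhom : Subsingleton (P →ₗ[A] H))
    (hnt : Nontrivial (𝔭.ResidueField ⊗[A] P)) : False := by
  classical
  obtain ⟨v, hv⟩ := exists_ne (0 : 𝔭.ResidueField ⊗[A] P)
  obtain ⟨φ, hφ⟩ : ∃ φ : Module.Dual 𝔭.ResidueField (𝔭.ResidueField ⊗[A] P), φ v ≠ 0 :=
    Module.Projective.exists_dual_ne_zero 𝔭.ResidueField hv
  let ψ : P →ₗ[A] 𝔭.ResidueField :=
    (φ.restrictScalars A) ∘ₗ (TensorProduct.mk A 𝔭.ResidueField P 1)
  have hψ : ∀ (k : 𝔭.ResidueField) (x : P), φ (k ⊗ₜ[A] x) = k * ψ x := by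
    intro k x
    have h1 : k ⊗ₜ[A] x = k • ((1 : 𝔭.ResidueField) ⊗ₜ[A] x) := by
      rw [TensorProduct.smul_tmul', smul_eq_mul, mul_one]
    rw [h1, map_smul, smul_eq_mul]; rfl
  obtain ⟨p0, hp0⟩ : ∃ p0 : P, ψ p0 ≠ 0 := by
    by_contra hcon
    push Not at hcon
    have hφ0 : ∀ w : 𝔭.ResidueField ⊗[A] P, φ w = 0 := by
      intro w
      induction w using TensorProduct.induction_on with
      | zero => exact map_zero _
      | tmul k x => rw [hψ, hcon, mul_zero]
      | add a b ha hb => rw [map_add, ha, hb, add_zero]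
    exact hφ (hφ0 v)
  obtain ⟨S, hS⟩ := (Module.Finite.fg_top : (⊤ : Submodule A P).FG)
  obtain ⟨b, hb⟩ := IsLocalization.exist_integer_multiples_of_finset
    (nonZeroDivisors (A ⧸ 𝔭)) (S.image ψ)
  obtain ⟨s, hs⟩ := Ideal.Quotient.mk_surjective (b : A ⧸ 𝔭)
  have hsκ : algebraMap A 𝔭.ResidueField s ≠ 0 := by
    rw [Ne, Ideal.algebraMap_residueField_eq_zero, ← Ideal.Quotient.eq_zero_iff_mem, hs]
    exact nonZeroDivisors.coe_ne_zero b
  let ι : (A ⧸ 𝔭) →ₗ[A] 𝔭.ResidueField :=
    (IsScalarTower.toAlgHom A (A ⧸ 𝔭) 𝔭.ResidueField).toLinearMap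
  have hιinj : Function.Injective ι := Ideal.injective_algebraMap_quotient_residueField 𝔭
  let ψ' : P →ₗ[A] 𝔭.ResidueField := s • ψ
  have hmem : ∀ x : P, ψ' x ∈ LinearMap.range ι := by
    intro x
    have hx : x ∈ Submodule.span A (S : Set P) := by rw [hS]; trivial
    induction hx using Submodule.span_induction with
    | mem y hy =>
      obtain ⟨c, hc⟩ := hb (ψ y) (Finset.mem_image_of_mem ψ hy)
      refine ⟨c, ?_⟩
      show algebraMap (A ⧸ 𝔭) 𝔭.ResidueField c = s • ψ y
      rw [hc, ← hs, Algebra.smul_def, Algebra.smul_def]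
      rfl
    | zero => rw [map_zero]; exact Submodule.zero_mem _
    | add y z _ _ hy hz => rw [map_add]; exact Submodule.add_mem _ hy hz
    | smul a y _ hy => rw [map_smul]; exact Submodule.smul_mem _ a hy
  let χ : P →ₗ[A] (A ⧸ 𝔭) :=
    (LinearEquiv.ofInjective ι hιinj).symm.toLinearMap ∘ₗ
      (ψ'.codRestrict (LinearMap.range ι) hmem)
  have hχ : ∀ x, ι (χ x) = ψ' x := by
    intro x
    have h1 := (LinearEquiv.ofInjective ι hιinj).apply_symm_apply
      (ψ'.codRestrict (LinearMap.range ι) hmem x)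
    exact congrArg Subtype.val h1
  let j : (A ⧸ 𝔭) →ₗ[A] H := Submodule.liftQ 𝔭 (LinearMap.toSpanSingleton A H h) (by
    intro a ha
    rw [LinearMap.mem_ker, LinearMap.toSpanSingleton_apply]
    exact (hann a).1 ha)
  have hj : ∀ a : A, j (Ideal.Quotient.mk 𝔭 a) = a • h := fun a => rfl
  have hjinj : ∀ c : A ⧸ 𝔭, j c = 0 → c = 0 := by
    intro c hc
    obtain ⟨a, rfl⟩ := Ideal.Quotient.mk_surjective c
    rw [hj] at hc
    exact Ideal.Quotient.eq_zero_iff_mem.2 ((hann a).2 hc)
  have hzero : j ∘ₗ χ = 0 := Subsingleton.elim _ _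
  have h1 : j (χ p0) = 0 := LinearMap.congr_fun hzero p0
  have h2 : χ p0 = 0 := hjinj _ h1
  have h3 : ψ' p0 = 0 := by rw [← hχ, h2, map_zero]
  have h4 : ψ' p0 = algebraMap A 𝔭.ResidueField s * ψ p0 := by
    show s • ψ p0 = _
    rw [Algebra.smul_def]
  rw [h4] at h3
  exact (mul_ne_zero hsκ hp0) h3

/-- For modules over a Noetherian ring. Let P be a finite A-module and H any A-module with Supp H ⊆ Supp
P. If Hom_A(P, H) = 0 then H = 0. (The published lemma is stated over an arbitrary prescheme; its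
proof uses that a nonzero module has an associated prime, so the ring is taken Noetherian here.) -/
theorem result (A : Type u) [CommRing A] [IsNoetherianRing A] (P H : Type u) [AddCommGroup P] [Module A P] [Module.Finite A P] [AddCommGroup H] [Module A H] (hsupp : Module.support A H ⊆ Module.support A P) (hhom : Subsingleton (P →ₗ[A] H)) : Subsingleton H := by
  by_contra hne
  rw [not_subsingleton_iff_nontrivial] at hne
  obtain ⟨𝔭, h𝔭⟩ := associatedPrimes.nonempty A H
  rw [AssociatedPrimes.mem_iff, isAssociatedPrime_iff] at h𝔭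
  obtain ⟨hprime, h, hh⟩ := h𝔭
  have hann : ∀ a : A, a ∈ 𝔭 ↔ a • h = 0 := by
    intro a; rw [hh, Submodule.mem_colon_singleton, Submodule.mem_bot]
  have hpH : (⟨𝔭, hprime⟩ : PrimeSpectrum A) ∈ Module.support A H := by
    rw [Module.mem_support_iff']
    exact ⟨h, fun r hr hrh => hr ((hann r).2 hrh)⟩
  have hpP : (⟨𝔭, hprime⟩ : PrimeSpectrum A) ∈ Module.support A P := hsupp hpH
  rw [Module.mem_support_iff_nontrivial_residueField_tensorProduct] at hpP
  exact key A P H 𝔭 h hann hhom hpP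

end Groth.Agent.S5163
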