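import Groth.Statements.S5164
import Groth.Agent.H72.LDLoc
import Groth.Agent.H58.LCRelCodim
import Groth.Agent.H34.CMChain
import Groth.Agent.H15.CMCat
import Groth.Agent.S0342
import Groth.Agent.S11625

set_option autoImplicit false
universe u
open LocCoh

open CategoryTheory Groth.Agent.H71.CAT Groth.Agent.H58.LC

namespace Groth.Agent.S5164

/-- In a regular ring, `P ⋖ P'` implies `ht P' = ht P + 1`. -/
lemma height_eq_succ (R : Type u) [CommRing R] [IsRegularRing R] (P P' : Ideal R)
    [hP : P.IsPrime] [hP' : P'.IsPrime] (hlt : P < P')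
    (hcov : ∀ c : Ideal R, c.IsPrime → P < c → c ≤ P' → c = P') :
    P'.height = P.height + 1 := by
  haveI : IsRegularLocalRing (Localization.AtPrime P') :=
    IsRegularRing.isRegularLocalRing_localization P'
  apply le_antisymm
  · have hdisj : Disjoint (P'.primeCompl : Set R) (P : Set R) := by
      rw [Set.disjoint_left]
      intro x hx hxp
      exact hx (hlt.le hxp)
    have hPprime : (P.map (algebraMap R (Localization.AtPrime P'))).IsPrime :=
      IsLocalization.isPrime_of_isPrime_disjoint P'.primeCompl _ P hP hdisj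
    have h1 := Groth.Agent.H34.CMChain.height_add_dim
      (Groth.Agent.H72.RegLoc.isCM_of_isRegularLocalRing (Localization.AtPrime P'))
      (Groth.Agent.H15.CMCat.support_self _)
      (P.map (algebraMap R (Localization.AtPrime P')))
    rw [IsLocalization.height_map_of_disjoint P'.primeCompl P hdisj,
      IsLocalization.AtPrime.ringKrullDim_eq_height P' (Localization.AtPrime P')] at h1
    have h2 := Groth.Agent.H34.CMChain.dim_le_one_of_covBy P P' hlt hcov
    have h3 : (P'.height : WithBot ℕ∞) ≤ 1 + (P.height : WithBot ℕ∞) := by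
      rw [← h1]
      exact add_le_add_left h2 _
    have h4 : (P'.height : WithBot ℕ∞) ≤ ((1 + P.height : ℕ∞) : WithBot ℕ∞) := by
      rw [WithBot.coe_add]
      exact h3
    rw [WithBot.coe_le_coe] at h4
    rw [add_comm]
    exact h4
  · exact Ideal.height_add_one_le_of_lt_of_isPrime hlt

lemma loc_mono {R : Type u} [CommRing R] (X : Type u) [AddCommGroup X] [Module R X]
    (P P' : Ideal R) [P.IsPrime] [P'.IsPrime] (hle : P ≤ P')
    (h : Subsingleton (LocalizedModule P'.primeCompl X)) :
    Subsingleton (LocalizedModule P.primeCompl X) := by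
  rw [LocalizedModule.subsingleton_iff] at h ⊢
  intro m
  obtain ⟨r, hr, hrm⟩ := h m
  exact ⟨r, fun hrP => hr (hle hrP), hrm⟩

/-- Over a regular ring: if `P ⋖ P'` and `H^{j+1}(M_{P'}) = 0` then `H^j(M_P) = 0`. -/
theorem fact2R (R : Type u) [CommRing R] [IsRegularRing R] (M : Type u) [AddCommGroup M]
    [Module R M] [Module.Finite R M] (P P' : Ideal R) [hP : P.IsPrime] [hP' : P'.IsPrime]
    (hlt : P < P') (hcov : ∀ c : Ideal R, c.IsPrime → P < c → c ≤ P' → c = P') (j : ℕ)
    (h : Subsingleton (LocCoh.H (IsLocalRing.maximalIdeal (Localization.AtPrime P')) (j + 1)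
      (LocalizedModule P'.primeCompl M))) :
    Subsingleton (LocCoh.H (IsLocalRing.maximalIdeal (Localization.AtPrime P)) j
      (LocalizedModule P.primeCompl M)) := by
  haveI hrP : IsRegularLocalRing (Localization.AtPrime P) :=
    IsRegularRing.isRegularLocalRing_localization P
  haveI hrP' : IsRegularLocalRing (Localization.AtPrime P') :=
    IsRegularRing.isRegularLocalRing_localization P'
  haveI : LocCoh.IsGorensteinLocalRing (Localization.AtPrime P) := Groth.Agent.S0342.result _
  haveI : LocCoh.IsGorensteinLocalRing (Localization.AtPrime P') := Groth.Agent.S0342.result _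
  obtain ⟨d, hd⟩ : ∃ d : ℕ, P.height = d :=
    ⟨_, (ENat.coe_toNat (Ideal.height_ne_top_of_isPrime)).symm⟩
  have hd' : P'.height = ((d + 1 : ℕ) : ℕ∞) := by
    rw [height_eq_succ R P P' hlt hcov, hd]; rfl
  have dimP : ringKrullDim (Localization.AtPrime P) = ((d : ℕ) : WithBot ℕ∞) := by
    rw [IsLocalization.AtPrime.ringKrullDim_eq_height P (Localization.AtPrime P), hd]; rfl
  have dimP' : ringKrullDim (Localization.AtPrime P') = ((d + 1 : ℕ) : WithBot ℕ∞) := by
    rw [IsLocalization.AtPrime.ringKrullDim_eq_height P' (Localization.AtPrime P'), hd']; rfl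
  by_cases hj : j ≤ d
  · have e1 := Groth.Agent.H72.LDLoc.subsingleton_ext_iff_H (Localization.AtPrime P') (d + 1) dimP'
      (LocalizedModule P'.primeCompl M) (d - j) (by omega)
    have e2 := Groth.Agent.H72.LDLoc.subsingleton_ext_iff_H (Localization.AtPrime P) d dimP
      (LocalizedModule P.primeCompl M) (d - j) (by omega)
    have a1 : d + 1 - (d - j) = j + 1 := by omega
    have a2 : d - (d - j) = j := by omega
    rw [a1] at e1
    rw [a2] at e2
    apply e2.mp
    apply (Groth.Agent.H72.LDLoc.subsingleton_ext_loc_iff R P M (d - j)).mp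
    exact loc_mono _ P P' hlt.le
      ((Groth.Agent.H72.LDLoc.subsingleton_ext_loc_iff R P' M (d - j)).mpr (e1.mpr h))
  · apply Groth.Agent.S11625.result
    calc Module.supportDim _ _ ≤ ringKrullDim (Localization.AtPrime P) :=
          Module.supportDim_le_ringKrullDim _ _
      _ = ((d : ℕ) : WithBot ℕ∞) := dimP
      _ < (j : WithBot ℕ∞) := by exact_mod_cast (not_le.mp hj)

section comb
variable {A : Type u} [CommRing A] [IsNoetherianRing A]

/-- height of `z` above `x`. -/
noncomputable abbrev hh (x z : PrimeSpectrum A) (hxz : x ≤ z) : ℕ∞ :=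
  Order.height (⟨z, hxz⟩ : Set.Ici x)

lemma hh_eq_of_sat (hc : CAlg.IsCatenary A) {x z : PrimeSpectrum A} (hxz : x ≤ z) {L : ℕ}
    (h : Sat x z L) : hh x z hxz = L := by
  apply le_antisymm
  · rw [hh, Order.height_le_iff']
    intro s hs
    obtain ⟨L', h1, h2⟩ := exists_sat_ge hxz s hs
    have : L' = L := sat_unique hc h2 h
    subst this
    exact_mod_cast h1
  · exact sat_le_height h hxz

lemma hh_self (hc : CAlg.IsCatenary A) (x : PrimeSpectrum A) : hh x x le_rfl = 0 := by
  have := hh_eq_of_sat hc (le_refl x) (L := 0) ⟨RelSeries.singleton _ _, rfl, rfl, rfl⟩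
  simpa using this

lemma hh_cov (hc : CAlg.IsCatenary A) {x y z : PrimeSpectrum A} (hxy : x ⋖ y) (hyz : y ≤ z) :
    hh x z (hxy.le.trans hyz) = hh y z hyz + 1 := by
  obtain ⟨L, hL⟩ := exists_sat_of_le hyz
  rw [hh_eq_of_sat hc hyz hL, hh_eq_of_sat hc (hxy.le.trans hyz) (sat_cons hxy hL)]
  push_cast
  rfl

lemma relCodim_le (I : Ideal A) (p q : PrimeSpectrum A) (hpq : p ≤ q) (hIq : I ≤ q.asIdeal) :
    SGA2.relCodim I p ≤ hh p q hpq :=
  iInf_le (fun q : {q : PrimeSpectrum A // p ≤ q ∧ I ≤ q.asIdeal} =>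
    Order.height (⟨q.1, q.2.1⟩ : Set.Ici p)) ⟨q, hpq, hIq⟩

lemma exists_relCodim_eq (I : Ideal A) (p : PrimeSpectrum A) (h : SGA2.relCodim I p ≠ ⊤) :
    ∃ (q : PrimeSpectrum A) (hpq : p ≤ q), I ≤ q.asIdeal ∧ SGA2.relCodim I p = hh p q hpq := by
  by_cases hemp : IsEmpty {q : PrimeSpectrum A // p ≤ q ∧ I ≤ q.asIdeal}
  · exfalso
    apply h
    unfold SGA2.relCodim
    exact iInf_of_empty _
  · rw [not_isEmpty_iff] at hemp
    obtain ⟨q, hq⟩ := ENat.exists_eq_iInf
      (fun q : {q : PrimeSpectrum A // p ≤ q ∧ I ≤ q.asIdeal} =>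
        Order.height (⟨q.1, q.2.1⟩ : Set.Ici p))
    exact ⟨q.1, q.2.1, q.2.2, hq.symm⟩

lemma relCodim_ne_zero (hc : CAlg.IsCatenary A) (I : Ideal A) (p : PrimeSpectrum A)
    (hp : ¬ I ≤ p.asIdeal) : SGA2.relCodim I p ≠ 0 := by
  intro h0
  obtain ⟨q, hpq, hIq, hq⟩ := exists_relCodim_eq I p (by rw [h0]; exact ENat.zero_ne_top)
  rw [h0] at hq
  have hmin : IsMin (⟨q, hpq⟩ : Set.Ici p) := Order.height_eq_zero.mp hq.symm
  have hle : (⟨q, hpq⟩ : Set.Ici p) ≤ ⟨p, Set.self_mem_Ici⟩ :=
    hmin (show (⟨p, Set.self_mem_Ici⟩ : Set.Ici p) ≤ ⟨q, hpq⟩ from hpq)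
  have hle' : q.asIdeal ≤ p.asIdeal := hle
  exact hp (le_trans hIq hle')

/-- the combinatorial step: a prime of relative codimension `k + 2` is covered by one of
relative codimension `k + 1`. -/
lemma comb (hc : CAlg.IsCatenary A) (I : Ideal A) (p : PrimeSpectrum A) (k : ℕ)
    (hk : SGA2.relCodim I p = ((k + 2 : ℕ) : ℕ∞)) :
    ∃ r : PrimeSpectrum A, p ⋖ r ∧ ¬ I ≤ r.asIdeal ∧ SGA2.relCodim I r = ((k + 1 : ℕ) : ℕ∞) := by
  obtain ⟨q, hpq, hIq, hq⟩ := exists_relCodim_eq I p (by rw [hk]; exact ENat.natCast_ne_top _)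
  have hlt : p < q := by
    refine lt_of_le_of_ne hpq ?_
    rintro rfl
    rw [hh_self hc, hk] at hq
    have : (k + 2 : ℕ) = 0 := by exact_mod_cast hq
    omega
  obtain ⟨r, hpr, hrq⟩ := exists_covBy_le_of_lt hlt
  have e1 : hh p q hpq = hh r q hrq + 1 := hh_cov hc hpr hrq
  have hIr : ¬ I ≤ r.asIdeal := by
    intro hIr
    have h1 := relCodim_le I p r hpr.le hIr
    rw [hh_cov hc hpr le_rfl, hh_self hc, hk] at h1
    have : k + 2 ≤ 0 + 1 := by exact_mod_cast h1
    omega
  refine ⟨r, hpr, hIr, ?_⟩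
  apply le_antisymm
  · have h1 := relCodim_le I r q hrq hIq
    have h2 : hh r q hrq + 1 = ((k + 1 : ℕ) : ℕ∞) + 1 := by
      rw [← e1, ← hq, hk]; push_cast; ring
    have h3 : hh r q hrq = ((k + 1 : ℕ) : ℕ∞) :=
      (ENat.add_left_injective_of_ne_top ENat.one_ne_top) h2
    rw [← h3]; exact h1
  · by_cases htop : SGA2.relCodim I r = ⊤
    · rw [htop]; exact le_top
    · obtain ⟨q', hrq', hIq', hq'⟩ := exists_relCodim_eq I r htop
      have h1 := relCodim_le I p q' (hpr.le.trans hrq') hIq'
      rw [hh_cov hc hpr hrq', hk, ← hq'] at h1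
      have h2 : ((k + 1 : ℕ) : ℕ∞) + 1 ≤ SGA2.relCodim I r + 1 := by
        refine le_trans (le_of_eq ?_) h1
        push_cast; ring
      exact (ENat.add_le_add_iff_right ENat.one_ne_top).mp h2

end comb

/-- transfer of `fact2R` to a quotient `A` of the regular ring `R`. -/
theorem step (R : Type u) [CommRing R] [IsRegularRing R] (A : Type u) [CommRing A]
    [IsNoetherianRing A] (π : R →+* A) (hπ : Function.Surjective π) (M : Type u)
    [AddCommGroup M] [Module A M] [Module.Finite A M] (p r : PrimeSpectrum A) (hpr : p ⋖ r)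
    (j : ℕ)
    (h : Subsingleton (LocCoh.H (IsLocalRing.maximalIdeal (Localization.AtPrime r.asIdeal))
      (j + 1) (LocalizedModule r.asIdeal.primeCompl M))) :
    Subsingleton (LocCoh.H (IsLocalRing.maximalIdeal (Localization.AtPrime p.asIdeal)) j
      (LocalizedModule p.asIdeal.primeCompl M)) := by
  letI : Algebra R A := π.toAlgebra
  letI : Module R M := Module.compHom M π
  haveI : IsScalarTower R A M := IsScalarTower.of_algebraMap_smul (fun _ _ => rfl)
  have hπ' : Function.Surjective (algebraMap R A) := hπ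
  haveI : Module.Finite R A := Module.Finite.of_surjective (Algebra.linearMap R A) hπ'
  haveI : Module.Finite R M := Module.Finite.trans A M
  haveI := p.isPrime
  haveI := r.isPrime
  rw [← Groth.Agent.H72.LDLoc.subsingleton_H_loc_iff R A hπ' M p.asIdeal j]
  rw [← Groth.Agent.H72.LDLoc.subsingleton_H_loc_iff R A hπ' M r.asIdeal (j + 1)] at h
  have hlt0 : p.asIdeal < r.asIdeal := hpr.lt
  have hlt : p.asIdeal.comap (algebraMap R A) < r.asIdeal.comap (algebraMap R A) := by
    refine lt_of_le_of_ne (Ideal.comap_mono hlt0.le) (fun he => hlt0.ne ?_)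
    exact Ideal.comap_injective_of_surjective _ hπ' he
  refine fact2R R M (p.asIdeal.comap (algebraMap R A)) (r.asIdeal.comap (algebraMap R A)) hlt
    ?_ j h
  intro c hcp hpc hcr
  have hker : RingHom.ker (algebraMap R A) ≤ c := by
    refine le_trans ?_ hpc.le
    intro x hx
    rw [Ideal.mem_comap, (RingHom.mem_ker).mp hx]
    exact p.asIdeal.zero_mem
  have hcc : (c.map (algebraMap R A)).comap (algebraMap R A) = c := by
    rw [Ideal.comap_map_of_surjective _ hπ', ← RingHom.ker_eq_comap_bot, sup_eq_left.mpr hker]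
  haveI hcmp : (c.map (algebraMap R A)).IsPrime := Ideal.map_isPrime_of_surjective hπ' hker
  have h1 : p.asIdeal ≤ c.map (algebraMap R A) := by
    rw [← Ideal.map_comap_of_surjective _ hπ' p.asIdeal]
    exact Ideal.map_mono hpc.le
  have h2 : c.map (algebraMap R A) ≤ r.asIdeal := by
    rw [← Ideal.map_comap_of_surjective _ hπ' r.asIdeal]
    exact Ideal.map_mono hcr
  have h3 : p < (⟨c.map (algebraMap R A), hcmp⟩ : PrimeSpectrum A) := by
    refine lt_of_le_of_ne h1 (fun he => hpc.ne ?_)
    have he' : p.asIdeal = c.map (algebraMap R A) := congrArg PrimeSpectrum.asIdeal he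
    rw [he', hcc]
  have h4 : ¬ (⟨c.map (algebraMap R A), hcmp⟩ : PrimeSpectrum A) < r := hpr.2 h3
  have h5 : (⟨c.map (algebraMap R A), hcmp⟩ : PrimeSpectrum A) = r := by
    by_contra hne
    exact h4 (lt_of_le_of_ne h2 hne)
  have h5' : c.map (algebraMap R A) = r.asIdeal := congrArg PrimeSpectrum.asIdeal h5
  rw [← h5', hcc]

/-- Affine form. Let A be a Noetherian ring which is a quotient of a regular ring, I an ideal, M a
finite A-module and i ≥ 0; c(p) denotes the codimension of V(p) ∩ V(I) in V(p). Then the hypothesis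
of the finiteness criterion — H^{i−c(p)}_{pA_p}(M_p) = 0 for all primes p ⊉ I — is equivalent to its
codimension-one case: H^{i−1}_{pA_p}(M_p) = 0 for all primes p ⊉ I with c(p) = 1. -/
theorem result (R : Type u) [CommRing R] [IsRegularRing R] (A : Type u) [CommRing A] [IsNoetherianRing A] (π : R →+* A) (hπ : Function.Surjective π) (I : Ideal A) (M : Type u) [AddCommGroup M] [Module A M] [Module.Finite A M] (i : ℕ) : (∀ p : PrimeSpectrum A, ¬ I ≤ p.asIdeal → ∀ (c j : ℕ), SGA2.relCodim I p = c → j + c = i → Subsingleton (LocCoh.H (IsLocalRing.maximalIdeal (Localization.AtPrime p.asIdeal)) j (LocalizedModule p.asIdeal.primeCompl M))) ↔ (∀ p : PrimeSpectrum A, ¬ I ≤ p.asIdeal → SGA2.relCodim I p = 1 → ∀ j : ℕ, j + 1 = i → Subsingleton (LocCoh.H (IsLocalRing.maximalIdeal (Localization.AtPrime p.asIdeal)) j (LocalizedModule p.asIdeal.primeCompl M))) := by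
  have hc : CAlg.IsCatenary A := Groth.Agent.H58.LC.isCatenary_of_surjective R A π hπ
  constructor
  · intro h p hp h1 j hj
    exact h p hp 1 j (by rw [h1]; rfl) hj
  · intro h p hp c
    induction c generalizing p with
    | zero =>
      intro j h0 _
      exact absurd (by simpa using h0) (relCodim_ne_zero hc I p hp)
    | succ c ih =>
      intro j hcj hji
      rcases c with _ | k
      · exact h p hp (by simpa using hcj) j hji
      · obtain ⟨r, hpr, hIr, hr⟩ := comb hc I p k hcj
        exact step R A π hπ M p r hpr j (ih r hIr (j + 1) hr (by omega))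

end Groth.Agent.S5164
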