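import Groth.Statements.S5166
import Mathlib.RingTheory.Ideal.KrullsHeightTheorem
import Mathlib.RingTheory.LocalRing.Quotient

set_option autoImplicit false
universe u
open LocCoh

namespace Groth.Agent.S5166

/-- In its local form at a point y ∈ Y (A = O_{X,y}). Let A be a Noetherian local ring and I ≠ A an
ideal contained in no minimal prime of A. Then some prime p ⊉ I has dim A/p = 1. -/
theorem result (A : Type u) [CommRing A] [IsLocalRing A] [IsNoetherianRing A] (I : Ideal A) (hI : I ≠ ⊤) (hdense : ∀ q ∈ minimalPrimes A, ¬ I ≤ q) : ∃ p : PrimeSpectrum A, ¬ I ≤ p.asIdeal ∧ ringKrullDim (A ⧸ p.asIdeal) = 1 := by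
  classical
  have hne : {p : Ideal A | p.IsPrime ∧ ¬ I ≤ p}.Nonempty := by
    obtain ⟨⟨q, hq⟩⟩ := Ideal.nonempty_minimalPrimes (I := (⊥ : Ideal A)) bot_ne_top
    exact ⟨q, hq.1.1, hdense q hq⟩
  obtain ⟨p, ⟨hp, hIp⟩, hmax⟩ := (wellFounded_gt (α := Ideal A)).has_min _ hne
  haveI := hp
  refine ⟨⟨p, hp⟩, hIp, ?_⟩
  show ringKrullDim (A ⧸ p) = 1
  obtain ⟨f, hfI, hfp⟩ := SetLike.not_le_iff_exists.1 hIp
  have hI𝔪 : I ≤ IsLocalRing.maximalIdeal A := IsLocalRing.le_maximalIdeal hI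
  haveI : Nontrivial (A ⧸ p) := Ideal.Quotient.nontrivial_iff.mpr hp.ne_top
  haveI : IsLocalRing (A ⧸ p) :=
    IsLocalRing.of_surjective' (Ideal.Quotient.mk p) Ideal.Quotient.mk_surjective
  haveI : IsLocalHom (Ideal.Quotient.mk p) :=
    IsLocalHom.of_surjective (Ideal.Quotient.mk p) Ideal.Quotient.mk_surjective
  have hfb0 : Ideal.Quotient.mk p f ≠ 0 := fun h => hfp (Ideal.Quotient.eq_zero_iff_mem.1 h)
  have hfbm : Ideal.Quotient.mk p f ∈ IsLocalRing.maximalIdeal (A ⧸ p) := by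
    rw [IsLocalRing.mem_maximalIdeal, mem_nonunits_iff]
    intro hu
    have h1 : IsUnit f := isUnit_of_map_unit (Ideal.Quotient.mk p) f hu
    exact (IsLocalRing.mem_maximalIdeal f).1 (hI𝔪 hfI) h1
  -- key property
  have hkey : ∀ P : Ideal (A ⧸ p), P.IsPrime → P ≠ ⊥ → Ideal.Quotient.mk p f ∈ P := by
    intro P hP hP0
    haveI := hP
    have hcomap : (P.comap (Ideal.Quotient.mk p)).IsPrime := Ideal.comap_isPrime _ P
    have hle : p ≤ P.comap (Ideal.Quotient.mk p) := by
      intro x hx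
      rw [Ideal.mem_comap, Ideal.Quotient.eq_zero_iff_mem.2 hx]
      exact P.zero_mem
    have hne' : p ≠ P.comap (Ideal.Quotient.mk p) := by
      intro heq
      apply hP0
      rw [eq_bot_iff]
      intro y hy
      obtain ⟨x, rfl⟩ := Ideal.Quotient.mk_surjective y
      have h1 : x ∈ p := by
        rw [heq]
        exact hy
      rw [Ideal.mem_bot]
      exact Ideal.Quotient.eq_zero_iff_mem.2 h1
    have hlt : p < P.comap (Ideal.Quotient.mk p) := lt_of_le_of_ne hle hne'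
    have hIle : I ≤ P.comap (Ideal.Quotient.mk p) := by
      by_contra hcon
      exact hmax _ ⟨hcomap, hcon⟩ hlt
    exact hIle hfI
  have hfin : (Ideal.span {Ideal.Quotient.mk p f}).minimalPrimes.Finite :=
    Ideal.finite_minimalPrimes_of_isNoetherianRing _ _
  have hspanle : Ideal.span {Ideal.Quotient.mk p f} ≤ IsLocalRing.maximalIdeal (A ⧸ p) :=
    (Ideal.span_singleton_le_iff_mem _).2 hfbm
  have hspan_ne : Ideal.span {Ideal.Quotient.mk p f} ≠ ⊤ := by
    intro h
    rw [h] at hspanle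
    exact (IsLocalRing.maximalIdeal.isMaximal (A ⧸ p)).ne_top (top_le_iff.1 hspanle)
  have hcover : ((IsLocalRing.maximalIdeal (A ⧸ p) : Ideal (A ⧸ p)) : Set (A ⧸ p)) ⊆
      ⋃ Q ∈ (hfin.toFinset : Set (Ideal (A ⧸ p))), ((id Q : Ideal (A ⧸ p)) : Set (A ⧸ p)) := by
    intro x hx
    by_cases hx0 : x = 0
    · obtain ⟨⟨Q, hQ⟩⟩ := Ideal.nonempty_minimalPrimes hspan_ne
      rw [Set.mem_iUnion₂]
      refine ⟨Q, ?_, ?_⟩
      · rw [Finset.mem_coe, hfin.mem_toFinset]
        exact hQ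
      · rw [hx0]
        exact Q.zero_mem
    · have hxm : Ideal.span {x} ≤ IsLocalRing.maximalIdeal (A ⧸ p) :=
        (Ideal.span_singleton_le_iff_mem _).2 hx
      obtain ⟨P, hP, hPm⟩ := Ideal.exists_minimalPrimes_le hxm
      have hPprime : P.IsPrime := hP.1.1
      haveI := hPprime
      have hxP : x ∈ P := hP.1.2 (Ideal.mem_span_singleton_self x)
      have hP0 : P ≠ ⊥ := by
        intro h
        rw [h] at hxP
        exact hx0 ((Ideal.mem_bot).1 hxP)
      have hPh : P.height ≤ 1 :=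
        Ideal.height_le_one_of_isPrincipal_of_mem_minimalPrimes (Ideal.span {x}) P hP
      have hfP : Ideal.span {Ideal.Quotient.mk p f} ≤ P :=
        (Ideal.span_singleton_le_iff_mem _).2 (hkey P hPprime hP0)
      obtain ⟨Q, hQ, hQP⟩ := Ideal.exists_minimalPrimes_le hfP
      haveI : Q.IsPrime := hQ.1.1
      have hQ0 : Q ≠ ⊥ := by
        intro h
        have h1 : Ideal.Quotient.mk p f ∈ Q := hQ.1.2 (Ideal.mem_span_singleton_self _)
        rw [h] at h1
        exact hfb0 ((Ideal.mem_bot).1 h1)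
      have hQeq : Q = P := by
        by_contra hne
        have hlt : Q < P := lt_of_le_of_ne hQP hne
        have h1 : Q.height < P.height := Ideal.height_strict_mono_of_isPrime_of_isPrime hlt
        have h2 : Q.height = 0 := ENat.lt_one_iff_eq_zero.1 (lt_of_lt_of_le h1 hPh)
        exact hQ0 (Ideal.height_eq_zero_iff_eq_bot.1 h2)
      rw [Set.mem_iUnion₂]
      refine ⟨Q, ?_, ?_⟩
      · rw [Finset.mem_coe, hfin.mem_toFinset]
        exact hQ
      · rw [id, hQeq]
        exact hxP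
  obtain ⟨Q, hQmem, hmQ⟩ := (Ideal.subset_union_prime (R := A ⧸ p) (s := hfin.toFinset) (f := id)
    ⊥ ⊥ (fun Q hQ _ _ => ((hfin.mem_toFinset).1 hQ).1.1)).1 hcover
  have hQ : Q ∈ (Ideal.span {Ideal.Quotient.mk p f}).minimalPrimes := (hfin.mem_toFinset).1 hQmem
  have hle1 : (IsLocalRing.maximalIdeal (A ⧸ p)).height ≤ 1 :=
    le_trans (Ideal.height_mono hmQ)
      (Ideal.height_le_one_of_isPrincipal_of_mem_minimalPrimes
        (Ideal.span {Ideal.Quotient.mk p f}) Q hQ)
  have hne0 : (IsLocalRing.maximalIdeal (A ⧸ p)).height ≠ 0 := by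
    intro h
    rw [Ideal.height_eq_zero_iff_eq_bot] at h
    rw [h] at hfbm
    exact hfb0 ((Ideal.mem_bot).1 hfbm)
  have hh : (IsLocalRing.maximalIdeal (A ⧸ p)).height = 1 :=
    le_antisymm hle1 (ENat.one_le_iff_ne_zero.2 hne0)
  rw [← IsLocalRing.maximalIdeal_height_eq_ringKrullDim, hh]
  rfl

end Groth.Agent.S5166
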