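import Groth.Statements.S5167
import Groth.Agent.H58.LCFaltApp
import Groth.Agent.S0817
import Groth.Agent.S0564


set_option autoImplicit false
universe u
open LocCoh

namespace Groth.Agent.S5167

/-- Let A be a Noetherian local ring which is a quotient of a regular local ring, m its maximal ideal, M
a finite A-module and n ≥ 0. Then H^i_m(M) is of finite length for all i ≤ n if and only if
depth(M_p) > n − dim(A/p) for every prime p ≠ m. -/
theorem result (R : Type u) [CommRing R] [IsRegularLocalRing R] (A : Type u) [CommRing A] [IsLocalRing A] [IsNoetherianRing A] (π : R →+* A) (hπ : Function.Surjective π) (M : Type u) [AddCommGroup M] [Module A M] [Module.Finite A M] (n : ℕ) : (∀ i : ℕ, i ≤ n → IsFiniteLength A (LocCoh.H (IsLocalRing.maximalIdeal A) i M)) ↔ ∀ p : PrimeSpectrum A, p.asIdeal ≠ IsLocalRing.maximalIdeal A → ∀ e : ℕ, ringKrullDim (A ⧸ p.asIdeal) = e → (n : ℕ∞) < LocCoh.depth (Localization.AtPrime p.asIdeal) (LocalizedModule p.asIdeal.primeCompl M) + e := by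
  haveI : IsRegularRing R := isRegularRing_iff.2 (fun p _ => Groth.Agent.S0564.result R p)
  have hconv : ∀ i : ℕ, IsFiniteLength A (LocCoh.H (IsLocalRing.maximalIdeal A) i M) ↔
      Module.Finite A (LocCoh.H (IsLocalRing.maximalIdeal A) i M) := by
    intro i
    rw [isFiniteLength_iff_isNoetherian_isArtinian]
    constructor
    · rintro ⟨h1, _⟩
      exact inferInstance
    · intro h
      exact ⟨isNoetherian_of_isNoetherianRing_of_finite A _, Groth.Agent.S0817.result A M i⟩
  have h1 : (∀ i : ℕ, i ≤ n → IsFiniteLength A (LocCoh.H (IsLocalRing.maximalIdeal A) i M)) ↔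
      (∀ i : ℕ, i ≤ n → Module.Finite A (LocCoh.H (IsLocalRing.maximalIdeal A) i M)) :=
    forall_congr' (fun i => imp_congr_right (fun _ => hconv i))
  exact h1.trans ((Groth.Agent.H58.LC.finite_H_iff_lt_minAdjDepth R A π hπ
    (IsLocalRing.maximalIdeal A) M n).trans
    (Groth.Agent.H58.LC.lt_minAdjDepth_maximalIdeal_iff A M n))

end Groth.Agent.S5167
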