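import Groth.Statements.S5171
import Groth.Agent.S5162
import Groth.Agent.S5152
import Groth.Agent.H26.DepthExt

set_option autoImplicit false
universe u
open LocCoh

namespace Groth.Agent.S5171

/-- Let A be a Noetherian ring, J an ideal, n ≥ 0 and G a finite Cohen–Macaulay A-module (each
localization G_p is zero or Cohen–Macaulay). Then H^i_J(G) = 0 for i < n if and only if codim(V(J) ∩
Supp G, Supp G) ≥ n, i.e. dim Supp(G_p) ≥ n for every p ∈ V(J) ∩ Supp G. -/
theorem result (A : Type u) [CommRing A] [IsNoetherianRing A] (J : Ideal A) (G : Type u) [AddCommGroup G] [Module A G] [Module.Finite A G] (hCM : ∀ p : PrimeSpectrum A, Subsingleton (LocalizedModule p.asIdeal.primeCompl G) ∨ LocCoh.IsCohenMacaulayModule (Localization.AtPrime p.asIdeal) (LocalizedModule p.asIdeal.primeCompl G)) (n : ℕ) : (∀ i : ℕ, i < n → Subsingleton (LocCoh.H J i G)) ↔ ∀ p : PrimeSpectrum A, J ≤ p.asIdeal → p ∈ Module.support A G → (n : WithBot ℕ∞) ≤ Module.supportDim (Localization.AtPrime p.asIdeal) (LocalizedModule p.asIdeal.primeCompl G) := by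
  have hsupp : Module.support A (A ⧸ J) = PrimeSpectrum.zeroLocus (J : Set A) := by
    rw [Module.support_eq_zeroLocus, Ideal.annihilator_quotient]
  have h1 : (∀ i : ℕ, i < n → Subsingleton (LocCoh.H J i G)) ↔
      (n : ℕ∞) ≤ LocCoh.idealDepth J G := by
    rw [Groth.Agent.H26.DepthExt.le_idealDepth_iff_ext]
    constructor
    · intro hP i hi
      exact Groth.Agent.S5162.ML1 J n G hP (A ⧸ J) inferInstance hsupp.subset i hi
    · intro hE
      exact Groth.Agent.S5162.ML2 J (A ⧸ J) hsupp n G hE
  rw [h1, Groth.Agent.S5152.result A J G, le_iInf_iff]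
  constructor
  · intro h p hJp hpG
    have h2 := h p
    rw [le_iInf_iff] at h2
    have h3 := h2 hJp
    haveI : Nontrivial (LocalizedModule p.asIdeal.primeCompl G) :=
      (Module.mem_support_iff).1 hpG
    rcases hCM p with hsub | hcm
    · exact absurd hsub (not_subsingleton _)
    · have hcm' : Module.supportDim (Localization.AtPrime p.asIdeal)
          (LocalizedModule p.asIdeal.primeCompl G) =
          ((LocCoh.depth (Localization.AtPrime p.asIdeal)
            (LocalizedModule p.asIdeal.primeCompl G) : ℕ∞) : WithBot ℕ∞) := hcm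
      rw [hcm']
      exact_mod_cast h3
  · intro h p
    rw [le_iInf_iff]
    intro hJp
    by_cases hpG : p ∈ Module.support A G
    · haveI : Nontrivial (LocalizedModule p.asIdeal.primeCompl G) :=
        (Module.mem_support_iff).1 hpG
      rcases hCM p with hsub | hcm
      · exact absurd hsub (not_subsingleton _)
      · have h2 := h p hJp hpG
        have hcm' : Module.supportDim (Localization.AtPrime p.asIdeal)
            (LocalizedModule p.asIdeal.primeCompl G) =
            ((LocCoh.depth (Localization.AtPrime p.asIdeal)
              (LocalizedModule p.asIdeal.primeCompl G) : ℕ∞) : WithBot ℕ∞) := hcm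
        rw [hcm'] at h2
        exact_mod_cast h2
    · haveI : Subsingleton (LocalizedModule p.asIdeal.primeCompl G) := by
        rw [Module.mem_support_iff] at hpG
        exact not_nontrivial_iff_subsingleton.1 hpG
      unfold LocCoh.depth
      rw [Groth.Agent.H26.DepthLib.idealDepth_eq_top_of_subsingleton]
      exact le_top

end Groth.Agent.S5171
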