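import Groth.Statements.S5174
import Groth.Agent.H12.ExtRep

set_option autoImplicit false
universe u
open CategoryTheory Opposite
open LocCoh

namespace Groth.Agent.S5174

/-- Affine case with Z = X. Let A be a Noetherian ring, J an ideal, G any A-module and n ≥ 0 with
Ext^{n−1}_A(F', G) = 0 for all finite F' supported in V(J). Then for every finite A-module F with
Supp F ⊆ V(J) there is an A-linear isomorphism Ext^n_A(F, G) ≅ Hom_A(F, H^n_J(G)). (Existence of the
isomorphism is asserted; in the source it is the canonical one expressing that Ext^n_A(−, G), left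
exact on such F, is represented by H^n_J(G).) -/
theorem result (A : Type u) [CommRing A] [IsNoetherianRing A] (J : Ideal A) (G : Type u) [AddCommGroup G] [Module A G] (n : ℕ) (hvan : ∀ (F' : Type u) [AddCommGroup F'] [Module A F'], Module.Finite A F' → Module.support A F' ⊆ PrimeSpectrum.zeroLocus (J : Set A) → ∀ i : ℕ, i + 1 = n → Subsingleton (((Ext A (ModuleCat.{u} A) i).obj (op (ModuleCat.of A F'))).obj (ModuleCat.of A G))) (F : Type u) [AddCommGroup F] [Module A F] [Module.Finite A F] (hF : Module.support A F ⊆ PrimeSpectrum.zeroLocus (J : Set A)) : Nonempty ((((Ext A (ModuleCat.{u} A) n).obj (op (ModuleCat.of A F))).obj (ModuleCat.of A G)) ≃ₗ[A] (F →ₗ[A] LocCoh.H J n G)) := by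
  classical
  -- the vanishing hypothesis in terms of `Abelian.Ext`
  have hV : Groth.Agent.H12.ExtRep.Van J (ModuleCat.of A G) n := by
    intro k F' _ _ hF' i hi x
    haveI : Subsingleton (((Ext A (ModuleCat.{u} A) i).obj (op (ModuleCat.of A F'))).obj
        (ModuleCat.of A G)) := by
      refine hvan F' hF'.fin ?_ i hi
      intro p hp
      rw [PrimeSpectrum.mem_zeroLocus]
      have h1 : Module.annihilator A F' ≤ p.asIdeal := Module.annihilator_le_of_mem_support hp
      have h2 : J ^ k ≤ p.asIdeal := fun a ha =>
        h1 (Module.mem_annihilator.2 fun f => hF'.kill a ha f)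
      exact Ideal.IsPrime.le_of_pow_le h2
    have e := Groth.Agent.H58.LCBridge.bridge (ModuleCat.of A F') (ModuleCat.of A G) i
    rw [← e.apply_symm_apply x, Subsingleton.elim (e.symm x) 0, map_zero]
  -- `F` is killed by a power of `J`
  obtain ⟨k, hk⟩ : ∃ k : ℕ, J ^ k ≤ Module.annihilator A F := by
    rw [Module.support_eq_zeroLocus] at hF
    have h1 : J ≤ (Module.annihilator A F).radical :=
      (PrimeSpectrum.zeroLocus_subset_zeroLocus_iff _ _).1 hF
    exact Ideal.exists_pow_le_of_le_radical_of_fg h1 (IsNoetherian.noetherian J)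
  have hFk : Groth.Agent.H12.ExtRep.InC J k F :=
    ⟨inferInstance, fun a ha f => Module.mem_annihilator.1 (hk ha) f⟩
  let E := LinearEquiv.ofBijective (Groth.Agent.H12.ExtRep.Phi (ModuleCat.of A G) n hFk)
    (Groth.Agent.H12.ExtRep.phi_bijective hV hFk)
  exact ⟨(Groth.Agent.H58.LCBridge.bridge (ModuleCat.of A F) (ModuleCat.of A G) n).trans E⟩

end Groth.Agent.S5174
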