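import Groth.Statements.S5178
import Groth.Agent.H79.CIPres

set_option autoImplicit false
universe u
open CInt

namespace Groth.Agent.S5178

/-- Let A be a Noetherian local ring of dimension d, and let the completion of A be presented as B/I
with B a regular local ring of dimension e and I an ideal whose minimal number of generators is q,
so that e − q is the geometric depth of A (this number does not depend on the presentation). Then e
− q ≤ d, and equality holds if and only if A is a complete intersection, i.e. its completion is a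
regular local ring modulo an ideal generated by a regular sequence. -/
theorem result (A : Type u) [CommRing A] [IsLocalRing A] [IsNoetherianRing A] (B : Type u) [CommRing B] [IsRegularLocalRing B] (I : Ideal B) (hpres : Nonempty (AdicCompletion (IsLocalRing.maximalIdeal A) A ≃+* B ⧸ I)) (d e : ℕ) (hd : ringKrullDim A = (d : WithBot ℕ∞)) (he : ringKrullDim B = (e : WithBot ℕ∞)) : (e : ℤ) - (I.spanFinrank : ℤ) ≤ (d : ℤ) ∧ ((e : ℤ) - (I.spanFinrank : ℤ) = (d : ℤ) ↔ Pi1.IsCompleteIntersection A) := by
  obtain ⟨e0⟩ := hpres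
  haveI : IsNoetherianRing (AdicCompletion (IsLocalRing.maximalIdeal A) A) :=
    Groth.Agent.Lead.isNoetherianRing_adicCompletion (IsLocalRing.maximalIdeal A)
      (IsLocalRing.maximalIdeal A).fg_of_isNoetherianRing
  haveI : Nontrivial (B ⧸ I) := e0.injective.nontrivial
  have hI : I ≠ ⊤ := Ideal.Quotient.nontrivial_iff.mp inferInstance
  haveI : IsLocalRing (B ⧸ I) := inferInstance
  have hdimq : ringKrullDim (B ⧸ I) = (d : WithBot ℕ∞) := by
    rw [← ringKrullDim_eq_of_ringEquiv e0, Groth.Agent.S0547.result A, hd]
  have hkrull : ringKrullDim B ≤ ringKrullDim (B ⧸ I) + I.spanFinrank := by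
    apply ringKrullDim_le_ringKrullDim_quotient_add_spanFinrank
    rw [IsLocalRing.ringJacobson_eq_maximalIdeal]
    exact IsLocalRing.le_maximalIdeal hI
  rw [he, hdimq] at hkrull
  have hk : e ≤ d + I.spanFinrank := by exact_mod_cast hkrull
  have hcrit := Groth.Agent.H79.CIPres.regular_iff_dim I hI
  rw [he, hdimq] at hcrit
  have hcrit' : (∃ rs : List B, RingTheory.Sequence.IsRegular B rs ∧ Ideal.ofList rs = I) ↔
      I.spanFinrank + d ≤ e := by
    rw [hcrit]
    norm_cast
  refine ⟨by omega, ?_⟩
  have hCI : Pi1.IsCompleteIntersection A ↔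
      ∃ rs : List B, RingTheory.Sequence.IsRegular B rs ∧ Ideal.ofList rs = I := by
    constructor
    · rintro ⟨B', hB', hB'reg, rs', hm, hr, ⟨e'⟩⟩
      have hJ : Ideal.ofList rs' ≠ ⊤ := by
        have := hr.2
        simp only [smul_eq_mul, Ideal.mul_top] at this
        exact fun h => this h.symm
      haveI : Nontrivial (B' ⧸ Ideal.ofList rs') := Ideal.Quotient.nontrivial_iff.mpr hJ
      haveI : IsLocalRing (B' ⧸ Ideal.ofList rs') := inferInstance
      obtain ⟨e1⟩ := Groth.Agent.H15.FormEq.nonempty_cplEquiv (e0.symm.trans e')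
      exact (Groth.Agent.H79.CIPres.regular_iff_of_cplEquiv I (Ideal.ofList rs') hI hJ e1).mpr
        ⟨rs', hr, rfl⟩
    · rintro ⟨rs, hrs, hrsI⟩
      have hmem : ∀ r ∈ rs, r ∈ IsLocalRing.maximalIdeal B := by
        intro r hr
        apply IsLocalRing.le_maximalIdeal hI
        rw [← hrsI]
        exact Ideal.subset_span hr
      have hk : I = Ideal.span {r | r ∈ rs} := hrsI.symm
      exact ⟨B, inferInstance, inferInstance, rs, hmem, hrs, ⟨e0.trans (Ideal.quotEquivOfEq hk)⟩⟩
  rw [hCI, hcrit']
  omega

end Groth.Agent.S5178
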