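import Groth.Statements.S5182
import Mathlib

set_option autoImplicit false
universe u
open CInt

namespace Groth.Agent.S5182

open RingTheory.Sequence TensorProduct

section core
variable {A : Type u} [CommRing A]

lemma ofList_take_succ (fs : List A) (i : ℕ) (h : i < fs.length) :
    Ideal.ofList (fs.take (i+1)) = Ideal.ofList (fs.take i) ⊔ Ideal.span {fs[i]} := by
  rw [List.take_succ_eq_append_getElem h, Ideal.ofList_append, Ideal.ofList_singleton]

theorem core (J : Ideal A) (hK : ∀ (𝔞 : Ideal A) (x : A), (∀ m, x ∈ J ^ m ⊔ 𝔞) → x ∈ 𝔞)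
    (fs : List A)
    (E : ∀ (m i : ℕ) (h : i < fs.length), ∀ x ∈ J ^ m,
      fs[i] * x ∈ (J ⊔ Ideal.ofList (fs.take i)) * J ^ m →
        x ∈ (J ⊔ Ideal.ofList (fs.take i)) * J ^ m) :
    ∀ (k i : ℕ) (h : i < fs.length), ∀ x ∈ J ^ k,
      fs[i] * x ∈ Ideal.ofList (fs.take i) * J ^ k → x ∈ Ideal.ofList (fs.take i) * J ^ k := by
  have R_of_C : ∀ (i : ℕ) (h : i < fs.length),
      (∀ k m, k ≤ m →
        Ideal.ofList (fs.take i) * J ^ k ⊓ J ^ m ≤ Ideal.ofList (fs.take i) * J ^ m) →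
      ∀ k m, k ≤ m → ∀ v ∈ J ^ k, fs[i] * v ∈ J ^ m ⊔ Ideal.ofList (fs.take i) * J ^ k →
        v ∈ J ^ m ⊔ Ideal.ofList (fs.take i) * J ^ k := by
    intro i h hC k m hkm
    induction m, hkm using Nat.le_induction with
    | base => intro v hv _; exact Ideal.mem_sup_left hv
    | succ m hkm ih =>
      intro v hv hfv
      set I := Ideal.ofList (fs.take i) with hI
      have hle : J ^ (m + 1) ⊔ I * J ^ k ≤ J ^ m ⊔ I * J ^ k :=
        sup_le_sup_right (Ideal.pow_le_pow_right (Nat.le_succ m)) _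
      have hfv' : fs[i] * v ∈ J ^ m ⊔ I * J ^ k := hle hfv
      obtain ⟨y, hy, z, hz, rfl⟩ := Submodule.mem_sup.1 (ih v hv hfv')
      obtain ⟨a, ha, b, hb, hab⟩ := Submodule.mem_sup.1 hfv
      rw [mul_add] at hab
      have hbz : b - fs[i] * z ∈ I * J ^ m := by
        apply hC k m hkm
        refine Submodule.mem_inf.2 ⟨sub_mem hb (Ideal.mul_mem_left _ _ hz), ?_⟩
        have : b - fs[i] * z = fs[i] * y - a := by linear_combination hab
        rw [this]
        exact sub_mem (Ideal.mul_mem_left _ _ hy) (Ideal.pow_le_pow_right (Nat.le_succ m) ha)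
      have hfy : fs[i] * y ∈ (J ⊔ I) * J ^ m := by
        have : fs[i] * y = a + (b - fs[i] * z) := by linear_combination (-1 : A) * hab
        rw [this, Ideal.sup_mul, ← pow_succ']
        exact Submodule.add_mem_sup ha hbz
      have hy' := E m i h y hy hfy
      rw [Ideal.sup_mul, ← pow_succ'] at hy'
      obtain ⟨a', ha', b', hb', hab'⟩ := Submodule.mem_sup.1 hy'
      have hb'' : b' ∈ I * J ^ k := Ideal.mul_mono_right (Ideal.pow_le_pow_right hkm) hb'
      rw [← hab', add_assoc]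
      exact Submodule.add_mem_sup ha' (add_mem hb'' hz)
  have C : ∀ (i : ℕ), i ≤ fs.length → ∀ k m, k ≤ m →
      Ideal.ofList (fs.take i) * J ^ k ⊓ J ^ m ≤ Ideal.ofList (fs.take i) * J ^ m := by
    intro i
    induction i with
    | zero =>
      intro _ k m _
      simp [Ideal.ofList_nil]
    | succ i ih =>
      intro hi k m hkm w hw
      have h : i < fs.length := hi
      have hC := ih (le_of_lt h)
      rw [ofList_take_succ fs i h] at hw ⊢
      obtain ⟨hw1, hw2⟩ := Submodule.mem_inf.1 hw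
      rw [Ideal.sup_mul] at hw1
      obtain ⟨u, hu, t, ht, rfl⟩ := Submodule.mem_sup.1 hw1
      obtain ⟨v, hv, rfl⟩ := Ideal.mem_span_singleton_mul.1 ht
      have hfv : fs[i] * v ∈ J ^ m ⊔ Ideal.ofList (fs.take i) * J ^ k := by
        have : fs[i] * v = (u + fs[i] * v) + (-u) := by ring
        rw [this]
        exact Submodule.add_mem_sup hw2 (neg_mem hu)
      obtain ⟨v', hv', v'', hv'', rfl⟩ :=
        Submodule.mem_sup.1 (R_of_C i h hC k m hkm v hv hfv)
      have h1 : u + fs[i] * v'' ∈ Ideal.ofList (fs.take i) * J ^ m := by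
        apply hC k m hkm
        refine Submodule.mem_inf.2 ⟨add_mem hu (Ideal.mul_mem_left _ _ hv''), ?_⟩
        have : u + fs[i] * v'' = (u + fs[i] * (v' + v'')) - fs[i] * v' := by ring
        rw [this]
        exact sub_mem hw2 (Ideal.mul_mem_left _ _ hv')
      have : u + fs[i] * (v' + v'') = (u + fs[i] * v'') + fs[i] * v' := by ring
      rw [this, Ideal.sup_mul]
      exact Submodule.add_mem_sup h1 (Ideal.mem_span_singleton_mul.2 ⟨v', hv', rfl⟩)
  intro k i h x hx hfx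
  apply hK
  intro m
  rcases le_total m k with hmk | hkm
  · exact Ideal.mem_sup_left (Ideal.pow_le_pow_right hmk hx)
  · exact R_of_C i h (C i (le_of_lt h)) k m hkm x hx (Ideal.mem_sup_right hfx)

lemma mem_smul_top_subtype (I K : Ideal A) (x : K) :
    x ∈ I • (⊤ : Submodule A K) ↔ (x : A) ∈ I * K := by
  have h : (I • (⊤ : Submodule A K)).map K.subtype = I * K := by
    rw [Submodule.map_smul'', Submodule.map_top, Submodule.range_subtype]; rfl
  rw [← h]
  constructor
  · intro hx; exact ⟨x, hx, rfl⟩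
  · rintro ⟨y, hy, hyx⟩
    have : y = x := Subtype.ext hyx
    rwa [← this]

theorem regular_pow (J : Ideal A) (fs : List A) (k : ℕ)
    (G : ∀ (i : ℕ) (h : i < fs.length), ∀ x ∈ J ^ k,
      fs[i] * x ∈ Ideal.ofList (fs.take i) * J ^ k → x ∈ Ideal.ofList (fs.take i) * J ^ k) :
    IsWeaklyRegular ↥(J ^ k) fs := by
  rw [isWeaklyRegular_iff]
  intro i h
  rw [isSMulRegular_quotient_iff_mem_of_smul_mem]
  intro x hx
  rw [mem_smul_top_subtype] at hx ⊢
  exact G i h x x.2 (by simpa using hx)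

lemma mem_smul_top_quot (I J' K : Ideal A) (x : K) :
    (Submodule.Quotient.mk x : K ⧸ (J' • (⊤ : Submodule A K))) ∈
        I • (⊤ : Submodule A (K ⧸ (J' • (⊤ : Submodule A K)))) ↔
      (x : A) ∈ (J' ⊔ I) * K := by
  have h1 : (I • (⊤ : Submodule A (K ⧸ (J' • (⊤ : Submodule A K))))) =
      (I • (⊤ : Submodule A K)).map (J' • (⊤ : Submodule A K)).mkQ := by
    rw [Submodule.map_smul'', Submodule.map_top, Submodule.range_mkQ]
  rw [h1, ← Submodule.mkQ_apply, ← Submodule.mem_comap, Submodule.comap_map_mkQ,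
    ← Submodule.sup_smul, mem_smul_top_subtype]

theorem E_of_regular (J : Ideal A) (fs : List A) (m : ℕ)
    (hreg : IsWeaklyRegular (↥(J ^ m) ⧸ (J • (⊤ : Submodule A ↥(J ^ m)))) fs) :
    ∀ (i : ℕ) (h : i < fs.length), ∀ x ∈ J ^ m,
      fs[i] * x ∈ (J ⊔ Ideal.ofList (fs.take i)) * J ^ m →
        x ∈ (J ⊔ Ideal.ofList (fs.take i)) * J ^ m := by
  rw [isWeaklyRegular_iff] at hreg
  intro i h x hx hfx
  have h1 := hreg i h
  rw [isSMulRegular_quotient_iff_mem_of_smul_mem] at h1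
  have h2 := h1 (Submodule.Quotient.mk ⟨x, hx⟩)
  rw [← Submodule.Quotient.mk_smul, mem_smul_top_quot, mem_smul_top_quot] at h2
  exact h2 (by simpa using hfx)

lemma krull (J : Ideal A) [IsNoetherianRing A] [IsLocalRing A] (hJ : J ≠ ⊤) (𝔞 : Ideal A) (x : A)
    (hx : ∀ m, x ∈ J ^ m ⊔ 𝔞) : x ∈ 𝔞 := by
  have h := Ideal.iInf_pow_smul_eq_bot_of_isLocalRing (M := A ⧸ 𝔞) J hJ
  have hmem : (Ideal.Quotient.mk 𝔞 x : A ⧸ 𝔞) ∈
      (⨅ i : ℕ, J ^ i • ⊤ : Submodule A (A ⧸ 𝔞)) := by
    rw [Submodule.mem_iInf]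
    intro m
    obtain ⟨y, hy, z, hz, rfl⟩ := Submodule.mem_sup.1 (hx m)
    have : (Ideal.Quotient.mk 𝔞 (y + z) : A ⧸ 𝔞) = y • (1 : A ⧸ 𝔞) := by
      rw [Algebra.smul_def, mul_one, Ideal.Quotient.algebraMap_eq, map_add,
        Ideal.Quotient.eq_zero_iff_mem.2 hz, add_zero]
    rw [this]
    exact Submodule.smul_mem_smul hy Submodule.mem_top
  rw [h] at hmem
  exact Ideal.Quotient.eq_zero_iff_mem.1 ((Submodule.mem_bot _).1 hmem)

theorem regular_gr (J : Ideal A) (fs : List A) (hreg : IsWeaklyRegular (A ⧸ J) fs) (k : ℕ)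
    (hflat : Module.Flat (A ⧸ J) (↥(J ^ k) ⧸ (J • (⊤ : Submodule A ↥(J ^ k))))) :
    IsWeaklyRegular (↥(J ^ k) ⧸ (J • (⊤ : Submodule A ↥(J ^ k)))) fs := by
  have h1 : IsWeaklyRegular (A ⧸ J) (fs.map (algebraMap A (A ⧸ J))) :=
    (isWeaklyRegular_map_algebraMap_iff (A ⧸ J) (A ⧸ J) fs).2 hreg
  have h2 : IsWeaklyRegular ((↥(J ^ k) ⧸ (J • (⊤ : Submodule A ↥(J ^ k)))) ⊗[A ⧸ J] (A ⧸ J))
      (fs.map (algebraMap A (A ⧸ J))) :=
    h1.isWeaklyRegular_lTensor
  have h3 : IsWeaklyRegular (↥(J ^ k) ⧸ (J • (⊤ : Submodule A ↥(J ^ k))))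
      (fs.map (algebraMap A (A ⧸ J))) :=
    ((TensorProduct.rid (A ⧸ J) _).isWeaklyRegular_congr _).1 h2
  exact (isWeaklyRegular_map_algebraMap_iff (A ⧸ J) _ fs).1 h3

end core


/-- In the local algebraic form to which its proof reduces. Let A be a Noetherian local ring, J a proper
ideal such that A is normally flat along J, i.e. every J^k/J^{k+1} is a flat (equivalently free)
A/J-module, and f_1, …, f_r elements of A whose images form a weakly regular sequence on A/J (each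
f_i a non-zero-divisor on A/J modulo the preceding ones). Then for every k ≥ 0 the f_i form a weakly
regular sequence on the A-module J^k and on the A-module J^k/J^{k+1}; in particular (k = 0) on A
itself, so that they are regular on the Rees algebra ⊕ J^k and on the associated graded ring ⊕
J^k/J^{k+1}. -/
theorem result (A : Type u) [CommRing A] [IsLocalRing A] [IsNoetherianRing A] (J : Ideal A) (hJ : J ≠ ⊤) (hflat : ∀ k : ℕ, Module.Flat (A ⧸ J) (↥(J ^ k) ⧸ (J • (⊤ : Submodule A ↥(J ^ k))))) (fs : List A) (hreg : RingTheory.Sequence.IsWeaklyRegular (A ⧸ J) fs) (k : ℕ) : RingTheory.Sequence.IsWeaklyRegular (↥(J ^ k)) fs ∧ RingTheory.Sequence.IsWeaklyRegular (↥(J ^ k) ⧸ (J • (⊤ : Submodule A ↥(J ^ k)))) fs := by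
  have hgr : ∀ m, RingTheory.Sequence.IsWeaklyRegular
      (↥(J ^ m) ⧸ (J • (⊤ : Submodule A ↥(J ^ m)))) fs :=
    fun m => regular_gr J fs hreg m (hflat m)
  refine ⟨?_, hgr k⟩
  apply regular_pow J fs k
  exact core J (krull J hJ) fs (fun m => E_of_regular J fs m (hgr m)) k

end Groth.Agent.S5182
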