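import Groth.Statements.S5204


set_option autoImplicit false
open CategoryTheory CategoryTheory.Limits
universe w v₁ u₁
open DescCat

namespace Groth.Agent.S5204

theorem key {C : Type u₁} [Category.{v₁} C] [HasPullbacks C]
    {U T S : C} (v : U ⟶ T) (u : T ⟶ S)
    (hv : MorphismProperty.universally (MorphismProperty.epimorphisms C) v)
    {W : C} (e' : T ⟶ W)
    (he : ∀ {Z : C} (g₁ g₂ : Z ⟶ U), g₁ ≫ v ≫ u = g₂ ≫ v ≫ u → g₁ ≫ v ≫ e' = g₂ ≫ v ≫ e')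
    {Z : C} (h₁ h₂ : Z ⟶ T) (h : h₁ ≫ u = h₂ ≫ u) : h₁ ≫ e' = h₂ ≫ e' := by
  have hp₁ : Epi (pullback.fst h₁ v) :=
    hv (pullback.snd h₁ v) h₁ (pullback.fst h₁ v) (IsPullback.of_hasPullback h₁ v)
  have hp₂ : Epi (pullback.fst (pullback.fst h₁ v ≫ h₂) v) :=
    hv (pullback.snd _ v) _ (pullback.fst _ v) (IsPullback.of_hasPullback _ v)
  have hcomp : Epi (pullback.fst (pullback.fst h₁ v ≫ h₂) v ≫ pullback.fst h₁ v) := epi_comp _ _
  rw [← cancel_epi (pullback.fst (pullback.fst h₁ v ≫ h₂) v ≫ pullback.fst h₁ v)]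
  have c₁ : pullback.fst h₁ v ≫ h₁ = pullback.snd h₁ v ≫ v := pullback.condition
  have c₂ : pullback.fst (pullback.fst h₁ v ≫ h₂) v ≫ pullback.fst h₁ v ≫ h₂ =
      pullback.snd (pullback.fst h₁ v ≫ h₂) v ≫ v := pullback.condition
  have key := he (pullback.fst (pullback.fst h₁ v ≫ h₂) v ≫ pullback.snd h₁ v)
    (pullback.snd (pullback.fst h₁ v ≫ h₂) v) (by
      simp only [Category.assoc]
      rw [← reassoc_of% c₁, h, ← reassoc_of% c₂])
  simp only [Category.assoc] at key ⊢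
  rw [← reassoc_of% c₁] at key
  rw [key, ← reassoc_of% c₂]

/-- In a category with pullbacks: if `u` and `v` are effective epimorphisms and `v` is a universal
epimorphism (all its base changes are epimorphisms), then the composite `v ≫ u` is an effective
epimorphism. -/
theorem result {C : Type u₁} [Category.{v₁} C] [HasPullbacks C]
    {U T S : C} (v : U ⟶ T) (u : T ⟶ S) [EffectiveEpi u] [EffectiveEpi v]
    (hv : MorphismProperty.universally (MorphismProperty.epimorphisms C) v) :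
    EffectiveEpi (v ≫ u) := by
  have hv1 : ∀ {W : C} (e : U ⟶ W),
      (∀ {Z : C} (g₁ g₂ : Z ⟶ U), g₁ ≫ v ≫ u = g₂ ≫ v ≫ u → g₁ ≫ e = g₂ ≫ e) →
      ∀ {Z : C} (g₁ g₂ : Z ⟶ U), g₁ ≫ v = g₂ ≫ v → g₁ ≫ e = g₂ ≫ e := by
    intro W e he Z g₁ g₂ hg
    exact he g₁ g₂ (by rw [reassoc_of% hg])
  have hu1 : ∀ {W : C} (e : U ⟶ W)
      (he : ∀ {Z : C} (g₁ g₂ : Z ⟶ U), g₁ ≫ v ≫ u = g₂ ≫ v ≫ u → g₁ ≫ e = g₂ ≫ e),
      ∀ {Z : C} (h₁ h₂ : Z ⟶ T), h₁ ≫ u = h₂ ≫ u →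
        h₁ ≫ EffectiveEpi.desc v e (hv1 e he) = h₂ ≫ EffectiveEpi.desc v e (hv1 e he) := by
    intro W e he Z h₁ h₂ h
    apply key v u hv _ _ h₁ h₂ h
    intro Z' g₁ g₂ hg
    rw [EffectiveEpi.fac]
    exact he g₁ g₂ hg
  refine ⟨⟨{
    desc := fun {W} e he => EffectiveEpi.desc u (EffectiveEpi.desc v e (hv1 e he)) (hu1 e he)
    fac := ?_
    uniq := ?_ }⟩⟩
  · intro W e he
    rw [Category.assoc, EffectiveEpi.fac, EffectiveEpi.fac]
  · intro W e he m hm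
    apply EffectiveEpi.uniq
    apply EffectiveEpi.uniq
    rw [← Category.assoc, hm]

end Groth.Agent.S5204
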