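import Groth.Statements.S5207
import Groth.Agent.H26.DescCat

set_option autoImplicit false
open CategoryTheory CategoryTheory.Limits
universe w v₁ u₁
open DescCat

namespace Groth.Agent.S5207

/-- In a category with pullbacks: being a universal effective epimorphism can be checked after base
change along a universal effective epimorphism `g : S' ⟶ S`. -/
theorem result {C : Type u₁} [Category.{v₁} C] [HasPullbacks C]
    {S' S T : C} (g : S' ⟶ S) (hg : (MorphismProperty.universally (fun (A B : C) (p : A ⟶ B) => EffectiveEpi p)) g) (u : T ⟶ S) :
    (MorphismProperty.universally (fun (A B : C) (p : A ⟶ B) => EffectiveEpi p)) u ↔ (MorphismProperty.universally (fun (A B : C) (p : A ⟶ B) => EffectiveEpi p)) (pullback.snd u g) := by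
  have sq : IsPullback (pullback.fst u g) (pullback.snd u g) u g := IsPullback.of_hasPullback u g
  constructor
  · intro hu
    exact Groth.Agent.H26.UEE.of_isPullback sq hu
  · intro hu'
    have h1 : Groth.Agent.H26.UEE C (pullback.snd u g ≫ g) := Groth.Agent.H26.UEE.comp hu' hg
    rw [← sq.w] at h1
    exact Groth.Agent.H26.UEE.of_comp h1

end Groth.Agent.S5207
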