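import Groth.Statements.S5209
import Groth.Agent.H26.DescCat2

set_option autoImplicit false
open CategoryTheory CategoryTheory.Limits
universe w v₁ u₁
open DescCat

namespace Groth.Agent.S5209

/-- In a category with pullbacks, let `f : S' ⟶ S` be a universal effective epimorphism, that is, a
morphism all of whose base changes are effective epimorphisms. Then a morphism `g` over `S` is an
isomorphism (resp. a monomorphism) if and only if its base change along `f` is. -/
theorem result {C : Type u₁} [Category.{v₁} C] [HasPullbacks C]
    {S' S : C} (f : S' ⟶ S) (hf : (MorphismProperty.universally (fun (A B : C) (p : A ⟶ B) => EffectiveEpi p)) f) {X Y : Over S} (g : X ⟶ Y) :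
    (IsIso g ↔ IsIso ((Over.pullback f).map g)) ∧ (Mono g ↔ Mono ((Over.pullback f).map g)) := by
  refine ⟨⟨fun h => inferInstance, fun h => ?_⟩, ⟨fun h => inferInstance, fun h => ?_⟩⟩
  · exact Groth.Agent.H26.isIso_of_isIso_overPullback f hf g h
  · exact Groth.Agent.H26.mono_of_mono_overPullback f hf g h

end Groth.Agent.S5209
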