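import Groth.Statements.S5212


set_option autoImplicit false
universe u
open GrpQ

namespace Groth.Agent.S5212

/-- For `A'` finite and free as an `A`-module, a prime `p` of `A` and `a ∈ A'`, the element `a` belongs
to some prime of `A'` lying over `p` if and only if its norm belongs to `p`. (The published
statement allows `A'` projective of constant rank over `A`; this row takes `A'` free, where the norm
is the determinant of multiplication.) -/
theorem result {A A' : Type u} [CommRing A] [CommRing A'] [Algebra A A']
    [Module.Free A A'] [Module.Finite A A'] (p : Ideal A) [p.IsPrime] (a : A') :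
    (∃ q : Ideal A', q.IsPrime ∧ q.LiesOver p ∧ a ∈ q) ↔ Algebra.norm A a ∈ p := by
  classical
  haveI : Fintype (Module.Free.ChooseBasisIndex A A') := Module.Free.ChooseBasisIndex.fintype A A'
  let b : Module.Basis (Module.Free.ChooseBasisIndex A A') A A' := Module.Free.chooseBasis A A'
  let L : A' →ₐ[A] Matrix (Module.Free.ChooseBasisIndex A A') (Module.Free.ChooseBasisIndex A A') A :=
    Algebra.leftMulMatrix b
  have hnorm : ∀ x : A', Algebra.norm A x = (L x).det := fun x => Algebra.norm_eq_matrix_det b x
  constructor
  · rintro ⟨q, hq, hqp, haq⟩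
    have h0 : Polynomial.aeval a (L a).charpoly = 0 := by
      apply Algebra.leftMulMatrix_injective b
      rw [map_zero]
      have h := Matrix.aeval_self_charpoly (L a)
      rw [Polynomial.aeval_algHom_apply] at h
      exact h
    have h1 : algebraMap A A' ((L a).charpoly.coeff 0) ∈ q := by
      have h2 : Polynomial.aeval a (L a).charpoly
          = Polynomial.aeval a (L a).charpoly.divX * a
            + algebraMap A A' ((L a).charpoly.coeff 0) := by
        conv_lhs => rw [← Polynomial.divX_mul_X_add (L a).charpoly]
        rw [map_add, map_mul, Polynomial.aeval_X, Polynomial.aeval_C]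
      rw [h0] at h2
      have h3 : algebraMap A A' ((L a).charpoly.coeff 0)
          = -(Polynomial.aeval a (L a).charpoly.divX * a) := by
        rw [eq_neg_iff_add_eq_zero, add_comm]
        exact h2.symm
      rw [h3]
      exact q.neg_mem (q.mul_mem_left _ haq)
    have h3 : algebraMap A A' (Algebra.norm A a) ∈ q := by
      rw [hnorm, Matrix.det_eq_sign_charpoly_coeff, map_mul]
      exact q.mul_mem_left _ h1
    rw [hqp.over]
    exact h3
  · intro hN
    let f : A →+* A ⧸ p := Ideal.Quotient.mk p
    let Φ : A' →+* Matrix (Module.Free.ChooseBasisIndex A A') (Module.Free.ChooseBasisIndex A A')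
        (A ⧸ p) := f.mapMatrix.comp L.toRingHom
    have hΦ : ∀ x, Φ x = f.mapMatrix (L x) := fun x => rfl
    have hΦdet : ∀ x : A', (Φ x).det = f (Algebra.norm A x) := by
      intro x
      rw [hnorm, RingHom.map_det, hΦ]
    have hΦp : ∀ r ∈ p, Φ (algebraMap A A' r) = 0 := by
      intro r hr
      have h1 : L (algebraMap A A' r) = algebraMap A _ r := L.commutes r
      rw [hΦ, h1]
      ext i j
      rw [RingHom.mapMatrix_apply, Matrix.map_apply, Matrix.algebraMap_matrix_apply,
        Matrix.zero_apply]
      split_ifs
      · exact Ideal.Quotient.eq_zero_iff_mem.2 (by simpa using hr)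
      · exact map_zero f
    have hmap : p.map (algebraMap A A') ≤ RingHom.ker Φ := by
      rw [Ideal.map_le_iff_le_comap]
      intro r hr
      exact hΦp r hr
    have hI : (Ideal.span {a} ⊔ p.map (algebraMap A A')).comap (algebraMap A A') ≤ p := by
      intro s hs
      obtain ⟨y, hy, z, hz, hyz⟩ := Submodule.mem_sup.1 (Ideal.mem_comap.1 hs)
      obtain ⟨c, rfl⟩ := Ideal.mem_span_singleton'.1 hy
      have hz0 : Φ z = 0 := hmap hz
      have e : Φ (algebraMap A A' s) = Φ c * Φ a := by
        rw [← hyz, map_add, hz0, add_zero, map_mul]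
      have e2 := congrArg Matrix.det e
      have hNa : f (Algebra.norm A a) = 0 := Ideal.Quotient.eq_zero_iff_mem.2 hN
      rw [Matrix.det_mul, hΦdet, hΦdet, hΦdet, hNa, mul_zero,
        Algebra.norm_algebraMap_of_basis b] at e2
      exact Ideal.IsPrime.mem_of_pow_mem ‹p.IsPrime› _ (Ideal.Quotient.eq_zero_iff_mem.1 e2)
    obtain ⟨q, hIq, hq, hqp⟩ := Ideal.exists_ideal_comap_le_prime (f := algebraMap A A') p _ hI
    refine ⟨q, hq, ⟨?_⟩, hIq (le_sup_left (α := Ideal A') (Ideal.subset_span rfl))⟩
    apply le_antisymm
    · intro r hr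
      exact hIq (le_sup_right (α := Ideal A') (Ideal.mem_map_of_mem _ hr))
    · exact hqp

end Groth.Agent.S5212
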