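import Groth.Statements.S5213
import Mathlib
-- import your own Groth.Agent.* helpers here

set_option autoImplicit false
universe u
open GrpQ

namespace Groth.Agent.S5213

open Function in
theorem avoid {B N ι : Type*} [CommRing B] [IsLocalRing B]
    [Infinite (IsLocalRing.ResidueField B)] [AddCommGroup N] [Module B N]
    (W : ι → Submodule B N) (hW : ∀ j, W j ≠ ⊤) (S : Finset ι) :
    ∃ x : N, ∀ j ∈ S, x ∉ W j := by
  classical
  induction S using Finset.induction_on with
  | empty => exact ⟨0, fun j hj => absurd hj (Finset.notMem_empty j)⟩
  | insert j0 S hj0 ih =>
    obtain ⟨x, hx⟩ := ih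
    by_cases hxj0 : x ∈ W j0
    · obtain ⟨y, hy⟩ : ∃ y, y ∉ W j0 := by
        by_contra h
        push Not at h
        exact hW j0 (eq_top_iff.mpr fun y _ => h y)
      have hu : ∃ u : B, ∀ j ∈ S, y + u • x ∉ W j := by
        by_contra hcon
        push Not at hcon
        choose J hJS hJ using hcon
        let out : IsLocalRing.ResidueField B → B :=
          Function.surjInv IsLocalRing.residue_surjective
        have hout : ∀ c, IsLocalRing.residue B (out c) = c :=
          Function.surjInv_eq IsLocalRing.residue_surjective
        let g : IsLocalRing.ResidueField B → ↥S := fun c => ⟨J (out c), hJS (out c)⟩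
        obtain ⟨a, b, hab, hg⟩ := Finite.exists_ne_map_eq_of_infinite g
        have hj : J (out a) = J (out b) := congrArg Subtype.val hg
        have h1 := hJ (out a)
        have h2 := hJ (out b)
        rw [hj] at h1
        have hdiff : (out a - out b) • x ∈ W (J (out b)) := by
          have := (W (J (out b))).sub_mem h1 h2
          have e1 : y + out a • x - (y + out b • x) = (out a - out b) • x := by
            rw [sub_smul]; abel
          rwa [e1] at this
        have hunit : IsUnit (out a - out b) := by
          rw [← IsLocalRing.notMem_maximalIdeal]
          intro hmem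
          rw [← IsLocalRing.residue_eq_zero_iff, map_sub, hout, hout, sub_eq_zero] at hmem
          exact hab hmem
        obtain ⟨v, hv⟩ := hunit
        have hxW : x ∈ W (J (out b)) := by
          have := (W (J (out b))).smul_mem (↑v⁻¹ : B) hdiff
          rwa [← hv, smul_smul, Units.inv_mul, one_smul] at this
        exact hx _ (hJS (out b)) hxW
      obtain ⟨u, hu⟩ := hu
      refine ⟨y + u • x, fun j hj => ?_⟩
      rcases Finset.mem_insert.mp hj with rfl | hjS
      · intro h
        apply hy
        have := (W j).sub_mem h ((W j).smul_mem u hxj0)
        rwa [add_sub_cancel_right] at this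
      · exact hu j hjS
    · refine ⟨x, fun j hj => ?_⟩
      rcases Finset.mem_insert.mp hj with rfl | hjS
      · exact hxj0
      · exact hx j hjS


/-- Let `B` be a local ring with infinite residue field, `A` a semi-local ring, `B → A` a ring map
carrying the maximal ideal of `B` into the Jacobson radical of `A`, `M` a finite free `A`-module and
`N` a `B`-submodule of `M` generating `M` as an `A`-module. Then `N` contains a basis of `M` over
`A`. -/
theorem result {B A M : Type u} [CommRing B] [CommRing A]
    [IsLocalRing B] [Infinite (IsLocalRing.ResidueField B)] [Algebra B A]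
    [Finite (MaximalSpectrum A)]
    (hBA : (IsLocalRing.maximalIdeal B).map (algebraMap B A) ≤ (⊥ : Ideal A).jacobson)
    [AddCommGroup M] [Module A M] [Module B M] [IsScalarTower B A M]
    [Module.Free A M] [Module.Finite A M]
    (N : Submodule B M) (hN : Submodule.span A (N : Set M) = ⊤) :
    ∃ b : Module.Basis (Fin (Module.finrank A M)) A M, ∀ i, b i ∈ N := by
  classical
  rcases subsingleton_or_nontrivial A with hA | hA
  · -- degenerate case: A trivial
    haveI : Subsingleton M := Module.subsingleton A M
    let b : Module.Basis (Fin (Module.finrank A M)) A M :=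
      Module.Basis.ofRepr (LinearEquiv.ofSubsingleton M (Fin (Module.finrank A M) →₀ A))
    refine ⟨b, fun i => ?_⟩
    rw [Subsingleton.elim (b i) 0]
    exact N.zero_mem
  haveI : Fintype (MaximalSpectrum A) := Fintype.ofFinite _
  set r := Module.finrank A M with hr
  let e : Module.Basis (Fin r) A M := Module.finBasis A M
  -- initial claim
  have hinit : ∀ j : MaximalSpectrum A, ∃ x : Fin r → M, (∀ i, x i ∈ N) ∧
      e.det x ∉ j.asIdeal := by
    intro j
    by_contra hcon
    push Not at hcon
    have key : ∀ T : Finset (Fin r), ∀ v : Fin r → M, (∀ i, i ∉ T → v i ∈ N) →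
        e.det v ∈ j.asIdeal := by
      intro T
      induction T using Finset.induction_on with
      | empty =>
        intro v hv
        exact hcon v (fun i => hv i (Finset.notMem_empty i))
      | insert i0 T hi0 ih =>
        intro v hv
        have hv0 : v i0 ∈ Submodule.span A (N : Set M) := by rw [hN]; trivial
        have hclaim : ∀ z ∈ Submodule.span A (N : Set M),
            e.det (Function.update v i0 z) ∈ j.asIdeal := by
          intro z hz
          refine Submodule.span_induction ?_ ?_ ?_ ?_ hz
          · intro z hzN
            apply ih
            intro i hiT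
            by_cases hii : i = i0
            · subst hii
              rw [Function.update_self]
              exact hzN
            · rw [Function.update_of_ne hii]
              apply hv
              rw [Finset.mem_insert]
              push Not
              exact ⟨hii, hiT⟩
          · rw [AlternatingMap.map_update_zero]
            exact j.asIdeal.zero_mem
          · intro z1 z2 _ _ h1 h2
            rw [AlternatingMap.map_update_add]
            exact j.asIdeal.add_mem h1 h2
          · intro a z1 _ h1
            rw [AlternatingMap.map_update_smul]
            exact j.asIdeal.mul_mem_left a h1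
        have := hclaim (v i0) hv0
        rwa [Function.update_eq_self] at this
    have h1 := key Finset.univ e (fun i hi => absurd (Finset.mem_univ i) hi)
    rw [Module.Basis.det_self] at h1
    exact j.isMaximal.ne_top ((Ideal.eq_top_iff_one _).mpr h1)
  -- inductive choice
  have hchoice : ∀ T : Finset (Fin r), ∃ n : Fin r → M, (∀ i, n i ∈ N) ∧
      ∀ j : MaximalSpectrum A, ∃ x : Fin r → M, (∀ i, x i ∈ N) ∧ (∀ i ∈ T, x i = n i) ∧
        e.det x ∉ j.asIdeal := by
    intro T
    induction T using Finset.induction_on with
    | empty =>
      refine ⟨fun _ => 0, fun _ => N.zero_mem, fun j => ?_⟩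
      obtain ⟨x, hx1, hx2⟩ := hinit j
      exact ⟨x, hx1, fun i hi => absurd hi (Finset.notMem_empty i), hx2⟩
    | insert i0 T hi0 ih =>
      obtain ⟨n, hnN, hn⟩ := ih
      let W : MaximalSpectrum A → Submodule B N := fun j =>
        { carrier := {z : N | ∀ x : Fin r → M, (∀ i, x i ∈ N) → (∀ i ∈ T, x i = n i) →
            e.det (Function.update x i0 (z : M)) ∈ j.asIdeal}
          add_mem' := by
            intro z1 z2 h1 h2 x hx1 hx2
            rw [Submodule.coe_add, AlternatingMap.map_update_add]
            exact j.asIdeal.add_mem (h1 x hx1 hx2) (h2 x hx1 hx2)
          zero_mem' := by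
            intro x hx1 hx2
            rw [Submodule.coe_zero, AlternatingMap.map_update_zero]
            exact j.asIdeal.zero_mem
          smul_mem' := by
            intro c z hz x hx1 hx2
            rw [Submodule.coe_smul, ← algebraMap_smul A c (z : M),
              AlternatingMap.map_update_smul]
            exact j.asIdeal.mul_mem_left _ (hz x hx1 hx2) }
      have hW : ∀ j, W j ≠ ⊤ := by
        intro j hWj
        obtain ⟨x, hx1, hx2, hx3⟩ := hn j
        have hmem : (⟨x i0, hx1 i0⟩ : N) ∈ W j := by rw [hWj]; trivial
        have := hmem x hx1 hx2
        rw [Function.update_eq_self] at this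
        exact hx3 this
      obtain ⟨z, hz⟩ := avoid W hW Finset.univ
      refine ⟨Function.update n i0 (z : M), ?_, ?_⟩
      · intro i
        by_cases hii : i = i0
        · subst hii
          rw [Function.update_self]
          exact z.2
        · rw [Function.update_of_ne hii]
          exact hnN i
      · intro j
        have hzj := hz j (Finset.mem_univ j)
        have : ∃ x : Fin r → M, (∀ i, x i ∈ N) ∧ (∀ i ∈ T, x i = n i) ∧
            e.det (Function.update x i0 (z : M)) ∉ j.asIdeal := by
          by_contra hcon
          push Not at hcon
          exact hzj (fun x hx1 hx2 => hcon x hx1 hx2)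
        obtain ⟨x, hx1, hx2, hx3⟩ := this
        refine ⟨Function.update x i0 (z : M), ?_, ?_, hx3⟩
        · intro i
          by_cases hii : i = i0
          · subst hii
            rw [Function.update_self]
            exact z.2
          · rw [Function.update_of_ne hii]
            exact hx1 i
        · intro i hi
          by_cases hii : i = i0
          · subst hii
            rw [Function.update_self, Function.update_self]
          · rw [Function.update_of_ne hii, Function.update_of_ne hii]
            rcases Finset.mem_insert.mp hi with h | h
            · exact absurd h hii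
            · exact hx2 i h
  obtain ⟨n, hnN, hn⟩ := hchoice Finset.univ
  have hdet : ∀ j : MaximalSpectrum A, e.det n ∉ j.asIdeal := by
    intro j
    obtain ⟨x, _, hx2, hx3⟩ := hn j
    have : x = n := funext fun i => hx2 i (Finset.mem_univ i)
    rwa [this] at hx3
  have hunit : IsUnit (e.det n) := by
    by_contra hnu
    obtain ⟨m, hm, hmem⟩ := exists_max_ideal_of_mem_nonunits (mem_nonunits_iff.mpr hnu)
    exact hdet ⟨m, hm⟩ hmem
  obtain ⟨hli, hsp⟩ := (e.is_basis_iff_det).mpr hunit
  refine ⟨Module.Basis.mk hli hsp.ge, fun i => ?_⟩
  rw [Module.Basis.mk_apply]
  exact hnN i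


end Groth.Agent.S5213
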