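import Groth.Statements.S5214
import Groth.Agent.H26.DescCat

set_option autoImplicit false
open CategoryTheory CategoryTheory.Limits
universe w v₁ u₁
open DescCat

namespace Groth.Agent.S5214

theorem isPullback_prod_map_fst {C : Type u₁} [Category.{v₁} C] [HasBinaryProducts C]
    {X Y : C} (Z : C) (u : X ⟶ Y) :
    IsPullback (prod.map u (𝟙 Z)) prod.fst prod.fst u := by
  refine ⟨⟨prod.map_fst _ _⟩, ⟨PullbackCone.IsLimit.mk _
    (fun s => prod.lift s.snd (s.fst ≫ prod.snd)) ?_ ?_ ?_⟩⟩
  · intro s
    apply Limits.prod.hom_ext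
    · rw [Category.assoc, prod.map_fst, prod.lift_fst_assoc, s.condition]
    · rw [Category.assoc, prod.map_snd, prod.lift_snd_assoc, Category.comp_id]
  · intro s
    exact prod.lift_fst _ _
  · intro s m h1 h2
    apply Limits.prod.hom_ext
    · rw [prod.lift_fst]; exact h2
    · rw [prod.lift_snd, ← h1, Category.assoc, prod.map_snd, Category.comp_id]

theorem isPullback_prod_map_snd {C : Type u₁} [Category.{v₁} C] [HasBinaryProducts C]
    {X Y : C} (Z : C) (u : X ⟶ Y) :
    IsPullback (prod.map (𝟙 Z) u) prod.snd prod.snd u := by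
  refine ⟨⟨prod.map_snd _ _⟩, ⟨PullbackCone.IsLimit.mk _
    (fun s => prod.lift (s.fst ≫ prod.fst) s.snd) ?_ ?_ ?_⟩⟩
  · intro s
    apply Limits.prod.hom_ext
    · rw [Category.assoc, prod.map_fst, prod.lift_fst_assoc, Category.comp_id]
    · rw [Category.assoc, prod.map_snd, prod.lift_snd_assoc, s.condition]
  · intro s
    exact prod.lift_snd _ _
  · intro s m h1 h2
    apply Limits.prod.hom_ext
    · rw [prod.lift_fst, ← h1, Category.assoc, prod.map_fst, Category.comp_id]
    · rw [prod.lift_snd]; exact h2

/-- In a category with pullbacks and binary products: the product `u × u'` of two universal effective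
epimorphisms (morphisms all of whose base changes are effective epimorphisms) is a universal
effective epimorphism. -/
theorem result {C : Type u₁} [Category.{v₁} C] [HasPullbacks C] [HasBinaryProducts C]
    {X Y X' Y' : C} (u : X ⟶ Y) (u' : X' ⟶ Y')
    (hu : (MorphismProperty.universally (fun (A B : C) (p : A ⟶ B) => EffectiveEpi p)) u) (hu' : (MorphismProperty.universally (fun (A B : C) (p : A ⟶ B) => EffectiveEpi p)) u') :
    (MorphismProperty.universally (fun (A B : C) (p : A ⟶ B) => EffectiveEpi p)) (prod.map u u') := by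
  have h1 : Groth.Agent.H26.UEE C (prod.map u (𝟙 X')) :=
    Groth.Agent.H26.UEE.of_isPullback (isPullback_prod_map_fst X' u).flip hu
  have h2 : Groth.Agent.H26.UEE C (prod.map (𝟙 Y) u') :=
    Groth.Agent.H26.UEE.of_isPullback (isPullback_prod_map_snd Y u').flip hu'
  have h3 := Groth.Agent.H26.UEE.comp h1 h2
  have h4 : prod.map u (𝟙 X') ≫ prod.map (𝟙 Y) u' = prod.map u u' := by
    rw [prod.map_map, Category.comp_id, Category.id_comp]
  rw [h4] at h3
  exact h3

end Groth.Agent.S5214
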