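import Groth.Statements.S5222
import Mathlib.CategoryTheory.Monoidal.Cartesian.Grp

set_option autoImplicit false
open CategoryTheory CategoryTheory.Limits MonoidalCategory
universe v₁ u₁
open DescCat

namespace Groth.Agent.S5222

section
open MonObj CartesianMonoidalCategory

set_option linter.unusedSectionVars false
variable {C : Type u₁} [Category.{v₁} C] [CartesianMonoidalCategory C] [HasPullbacks C]
  {G G' : C} [GrpObj G] [GrpObj G'] (f : G ⟶ G') [IsMonHom f]

theorem whisker_mul :
    (G ◁ pullback.fst f η[G']) ≫ μ[G] =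
      fst G (pullback f η[G']) * (snd G (pullback f η[G']) ≫ pullback.fst f η[G']) := by
  rw [Hom.mul_def]
  congr 1
  apply CartesianMonoidalCategory.hom_ext
  · rw [whiskerLeft_fst, lift_fst]
  · rw [whiskerLeft_snd, lift_snd]

theorem ker_comp : pullback.fst f η[G'] ≫ f = (1 : pullback f η[G'] ⟶ G') := by
  rw [pullback.condition, Hom.one_def]
  congr 1
  exact toUnit_unique _ _

theorem lift_cond {W : C} (x y : W ⟶ G) (h : x ≫ f = y ≫ f) :
    (x⁻¹ * y) ≫ f = toUnit W ≫ η[G'] := by
  rw [MonObj.mul_comp, GrpObj.inv_comp, h, _root_.inv_mul_cancel, Hom.one_def]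
end

open MonObj CartesianMonoidalCategory SemiCartesianMonoidalCategory in
/-- In a cartesian monoidal category with pullbacks: for a homomorphism `f : G ⟶ G'` of group objects
with kernel `K = G ×_{G'} e`, the pair `G × K ⇉ G` given by the projection and by multiplication is
the kernel pair of `f`. -/
theorem result {C : Type u₁} [Category.{v₁} C]
    [CartesianMonoidalCategory C] [HasPullbacks C]
    {G G' : C} [GrpObj G] [GrpObj G'] (f : G ⟶ G') [IsMonHom f] :
    IsKernelPair f (fst G (pullback f η[G']))
      ((G ◁ pullback.fst f η[G']) ≫ μ[G]) := by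
  have hw := whisker_mul f
  have hk := ker_comp f
  refine ⟨⟨?_⟩, ⟨PullbackCone.IsLimit.mk _
    (fun s => lift s.fst (pullback.lift (s.fst⁻¹ * s.snd) (toUnit s.pt)
      (lift_cond f s.fst s.snd s.condition))) ?_ ?_ ?_⟩⟩
  · rw [hw, MonObj.mul_comp, Category.assoc, hk, MonObj.comp_one, _root_.mul_one]
  · intro s
    rw [lift_fst]
  · intro s
    rw [hw, MonObj.comp_mul, lift_fst, ← Category.assoc, lift_snd, pullback.lift_fst,
      _root_.mul_inv_cancel_left]
  · intro s m h1 h2
    apply CartesianMonoidalCategory.hom_ext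
    · rw [lift_fst]; exact h1
    · rw [lift_snd]
      apply pullback.hom_ext
      · rw [pullback.lift_fst, _root_.eq_inv_mul_iff_mul_eq, ← h1, ← h2, hw, MonObj.comp_mul,
          Category.assoc]
      · exact toUnit_unique _ _

end Groth.Agent.S5222
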