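import Groth.Statements.S5224
import Groth.Agent.H51.QuotKer
import Groth.Agent.H51.EpiBC
import Groth.Agent.H52.MonoField

set_option autoImplicit false
open CategoryTheory CategoryTheory.Limits AlgebraicGeometry
universe u
open GrpQ

namespace Groth.Agent.S5224

/-- For the fppf topology: let `s, t : R ⇉ U` be an equivalence relation of schemes over `S` with `s`
faithfully flat and locally of finite presentation. A morphism `q : U ⟶ Y` over `S` is a faithfully
flat, locally finitely presented quotient with kernel pair `R` if and only if `q` identifies `h_Y`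
with the fppf quotient sheaf `U/R`. -/
theorem result {S : Scheme.{u}} {R U Y : Over S} (s t : R ⟶ U)
    [IsEquivalenceRelation s t]
    [Flat s.left] [Surjective s.left] [LocallyOfFinitePresentation s.left]
    (q : U ⟶ Y) :
    (IsKernelPair q s t ∧ Flat q.left ∧ Surjective q.left ∧ LocallyOfFinitePresentation q.left) ↔
      QuotSh.IsQuotient Scheme.fppfPrecoverage s t q := by
  classical
  obtain ⟨E⟩ := (inferInstance : IsEquivalenceRelation s t).nonempty_equivalenceRelation
  -- the scheme-level equivalence relation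
  have hE : AlgSp.IsEqvRel s t := by
    refine ⟨fun T r r' h1 h2 => E.right_cancellation r r' h2 h1, fun T => ⟨?_, ?_, ?_⟩⟩
    · intro a
      exact ⟨a ≫ E.r, by rw [Category.assoc, E.reflexivity₂, Category.comp_id],
        by rw [Category.assoc, E.reflexivity₁, Category.comp_id]⟩
    · rintro a b ⟨r, h1, h2⟩
      exact ⟨r ≫ E.s, by rw [Category.assoc, E.symmetry₂, h2],
        by rw [Category.assoc, E.symmetry₁, h1]⟩
    · rintro a b c ⟨r1, h1, h2⟩ ⟨r2, h3, h4⟩
      have hw : r2 ≫ t = r1 ≫ s := by rw [h3, h2]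
      obtain ⟨l, hl1, hl2⟩ : ∃ l : T ⟶ E.c.pt, l ≫ E.c.fst = r2 ∧ l ≫ E.c.snd = r1 :=
        ⟨PullbackCone.IsLimit.lift E.isLimit r2 r1 hw,
          PullbackCone.IsLimit.lift_fst E.isLimit r2 r1 hw,
          PullbackCone.IsLimit.lift_snd E.isLimit r2 r1 hw⟩
      refine ⟨l ≫ E.t, ?_, ?_⟩
      · rw [Category.assoc, E.transitivity₂, ← Category.assoc, hl2, h1]
      · rw [Category.assoc, E.transitivity₁, ← Category.assoc, hl1, h4]
  have kerq := Groth.Agent.H51.QuotKer.isPullback_yon s t hE
  have hepiq : Epi (Groth.Agent.H51.QuotKer.qmap s t) := inferInstance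
  -- the key identity
  have key : ∀ w : s ≫ q = t ≫ q, Groth.Agent.H51.QuotKer.qmap s t ≫
      QuotSh.quotDesc Scheme.fppfPrecoverage q w ≫
        (QuotSh.repIsoUliftYoneda Scheme.fppfPrecoverage Y).hom = (AlgSp.yon S).map q := by
    intro w
    have h1 : QuotSh.quotπ Scheme.fppfPrecoverage s t ≫ QuotSh.quotDesc Scheme.fppfPrecoverage q w =
        QuotSh.repMap Scheme.fppfPrecoverage q := by
      unfold QuotSh.quotπ QuotSh.quotDesc
      exact coequalizer.π_desc _ _
    have h2 := Groth.Agent.H51.QuotKer.repIso_naturality (S := S) q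
    unfold Groth.Agent.H51.QuotKer.qmap
    rw [Category.assoc, ← Category.assoc (QuotSh.quotπ Scheme.fppfPrecoverage s t), h1, h2,
      ← Category.assoc, Iso.inv_hom_id, Category.id_comp]
  constructor
  · rintro ⟨hk, hfl, hsurj, hfp⟩
    refine ⟨hk.w, ?_⟩
    have ker : IsPullback ((AlgSp.yon S).map t) ((AlgSp.yon S).map s) ((AlgSp.yon S).map q)
        ((AlgSp.yon S).map q) := (IsPullback.map (AlgSp.yon S) hk).flip
    have hepi : Epi ((AlgSp.yon S).map q) := Groth.Agent.H52.epi_yon_map_of_fppf q
    have h1 : IsRegularEpi ((AlgSp.yon S).map q) := IsRegularEpiCategory.regularEpiOfEpi _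
    have h2 : EffectiveEpi ((AlgSp.yon S).map q) := (isRegularEpi_iff_effectiveEpi _).1 h1
    have hcol : IsColimit (Cofork.ofπ ((AlgSp.yon S).map q) ker.w) :=
      isColimitCoforkOfEffectiveEpi _ ker.cone ker.isLimit
    have h3 : IsRegularEpi (Groth.Agent.H51.QuotKer.qmap s t) :=
      IsRegularEpiCategory.regularEpiOfEpi _
    have h4 : EffectiveEpi (Groth.Agent.H51.QuotKer.qmap s t) :=
      (isRegularEpi_iff_effectiveEpi _).1 h3
    have hcolq : IsColimit (Cofork.ofπ (Groth.Agent.H51.QuotKer.qmap s t) kerq.w) :=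
      isColimitCoforkOfEffectiveEpi _ kerq.cone kerq.isLimit
    let e := hcolq.coconePointUniqueUpToIso hcol
    have he : Groth.Agent.H51.QuotKer.qmap s t ≫ e.hom = (AlgSp.yon S).map q :=
      IsColimit.comp_coconePointUniqueUpToIso_hom hcolq hcol WalkingParallelPair.one
    have heq : QuotSh.quotDesc Scheme.fppfPrecoverage q hk.w =
        e.hom ≫ (QuotSh.repIsoUliftYoneda Scheme.fppfPrecoverage Y).inv := by
      rw [Iso.eq_comp_inv, ← cancel_epi (Groth.Agent.H51.QuotKer.qmap s t), key hk.w, he]
    rw [heq]
    infer_instance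
  · rintro ⟨w, hiso⟩
    have hmono : Mono (QuotSh.quotDesc Scheme.fppfPrecoverage q w ≫
        (QuotSh.repIsoUliftYoneda Scheme.fppfPrecoverage Y).hom) := inferInstance
    have hepid : Epi (QuotSh.quotDesc Scheme.fppfPrecoverage q w ≫
        (QuotSh.repIsoUliftYoneda Scheme.fppfPrecoverage Y).hom) := inferInstance
    have ker : IsPullback ((AlgSp.yon S).map t) ((AlgSp.yon S).map s) ((AlgSp.yon S).map q)
        ((AlgSp.yon S).map q) := by
      have := IsKernelPair.comp_of_mono (f₂ := QuotSh.quotDesc Scheme.fppfPrecoverage q w ≫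
        (QuotSh.repIsoUliftYoneda Scheme.fppfPrecoverage Y).hom) kerq
      rw [key w] at this
      exact this
    have hepi : Epi ((AlgSp.yon S).map q) := by
      rw [← key w]
      exact epi_comp _ _
    have hk : IsKernelPair q s t := IsPullback.of_map (AlgSp.yon S) w ker.flip
    have hrep : AlgSp.Representable ((AlgSp.yon S).map q) := AlgSp.representable_yon_map q
    have hflat : Flat q.left := by
      have := Groth.Agent.H51.repWith_of_epi_baseChange' ((AlgSp.yon S).map q) hrep
        ((AlgSp.yon S).map q) ((AlgSp.yon S).map t) ((AlgSp.yon S).map s) ker @Flat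
        Groth.Agent.H50.goodProp_flat.desc ((AlgSp.repWith_yon_map_iff @Flat s).2 inferInstance)
      exact (AlgSp.repWith_yon_map_iff @Flat q).1 this
    have hlfp : LocallyOfFinitePresentation q.left := by
      have := Groth.Agent.H51.repWith_of_epi_baseChange' ((AlgSp.yon S).map q) hrep
        ((AlgSp.yon S).map q) ((AlgSp.yon S).map t) ((AlgSp.yon S).map s) ker
        @LocallyOfFinitePresentation
        Groth.Agent.H50.goodProp_lfp.desc
        ((AlgSp.repWith_yon_map_iff @LocallyOfFinitePresentation s).2 inferInstance)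
      exact (AlgSp.repWith_yon_map_iff @LocallyOfFinitePresentation q).1 this
    have hsurj : Surjective q.left := by
      have := Groth.Agent.H51.repWith_of_epi_baseChange' ((AlgSp.yon S).map q) hrep
        ((AlgSp.yon S).map q) ((AlgSp.yon S).map t) ((AlgSp.yon S).map s) ker
        @Surjective
        Groth.Agent.H51.surjective_descendsAlong_fppf
        ((AlgSp.repWith_yon_map_iff @Surjective s).2 inferInstance)
      exact (AlgSp.repWith_yon_map_iff @Surjective q).1 this
    exact ⟨hk, hflat, hsurj, hlfp⟩

end Groth.Agent.S5224
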