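import Groth.Statements.S5225
import Groth.Agent.H51.EtQuot
import Groth.Agent.H51.EpiBC

set_option autoImplicit false
open CategoryTheory CategoryTheory.Limits AlgebraicGeometry
universe u
open GrpQ

namespace Groth.Agent.S5225

/-- For the étale topology: let `s, t : R ⇉ U` be an equivalence relation of schemes over `S` with `s`
étale and surjective. A morphism `q : U ⟶ Y` over `S` is an étale surjective quotient with kernel
pair `R` if and only if `q` identifies `h_Y` with the étale quotient sheaf `U/R`. -/
theorem result {S : Scheme.{u}} {R U Y : Over S} (s t : R ⟶ U)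
    [IsEquivalenceRelation s t] [Etale s.left] [Surjective s.left]
    (q : U ⟶ Y) :
    (IsKernelPair q s t ∧ Etale q.left ∧ Surjective q.left) ↔
      QuotSh.IsQuotient Scheme.etalePrecoverage s t q := by
  classical
  obtain ⟨E⟩ := (inferInstance : IsEquivalenceRelation s t).nonempty_equivalenceRelation
  -- the scheme-level equivalence relation
  have hE : AlgSp.IsEqvRel s t := by
    refine ⟨fun T r r' h1 h2 => E.right_cancellation r r' h2 h1, fun T => ⟨?_, ?_, ?_⟩⟩
    · intro a
      exact ⟨a ≫ E.r, by rw [Category.assoc, E.reflexivity₂, Category.comp_id],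
        by rw [Category.assoc, E.reflexivity₁, Category.comp_id]⟩
    · rintro a b ⟨r, h1, h2⟩
      exact ⟨r ≫ E.s, by rw [Category.assoc, E.symmetry₂, h2],
        by rw [Category.assoc, E.symmetry₁, h1]⟩
    · rintro a b c ⟨r1, h1, h2⟩ ⟨r2, h3, h4⟩
      have hw : r2 ≫ t = r1 ≫ s := by rw [h3, h2]
      obtain ⟨l, hl1, hl2⟩ : ∃ l : T ⟶ E.c.pt, l ≫ E.c.fst = r2 ∧ l ≫ E.c.snd = r1 :=
        ⟨PullbackCone.IsLimit.lift E.isLimit r2 r1 hw,
          PullbackCone.IsLimit.lift_fst E.isLimit r2 r1 hw,
          PullbackCone.IsLimit.lift_snd E.isLimit r2 r1 hw⟩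
      refine ⟨l ≫ E.t, ?_, ?_⟩
      · rw [Category.assoc, E.transitivity₂, ← Category.assoc, hl2, h1]
      · rw [Category.assoc, E.transitivity₁, ← Category.assoc, hl1, h4]
  constructor
  · rintro ⟨hk, het, hsurj⟩
    refine ⟨hk.w, ?_⟩
    have hepi : Epi (QuotSh.repMap Scheme.etalePrecoverage q) := by
      apply Groth.Agent.H51.QuotGen.epi_repMap_of_local_lift
      intro T a
      have sqO := IsPullback.of_hasPullback q a
      have sqS : IsPullback (pullback.fst q a).left (pullback.snd q a).left q.left a.left :=
        sqO.map (Over.forget S)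
      have h1 : Etale (pullback.snd q a).left := MorphismProperty.of_isPullback (P := @Etale) sqS het
      have h2 : Surjective (pullback.snd q a).left :=
        MorphismProperty.of_isPullback (P := @Surjective) sqS hsurj
      refine ⟨Sieve.generate (Presieve.singleton (pullback.snd q a)),
        Groth.Agent.H51.EtQuot.mem_J_of_etale_family (fun _ : Unit => pullback q a)
          (fun _ => pullback.snd q a) (fun τ => ?_) (fun _ => h1) _
          (fun _ => Sieve.le_generate _ _ _ (Presieve.singleton.mk)), ?_⟩
      · obtain ⟨y, hy⟩ := h2.surj τ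
        exact ⟨(), y, hy⟩
      · rintro T' f ⟨Z, h, g, ⟨⟩, rfl⟩
        refine ⟨h ≫ pullback.fst q a, ?_⟩
        rw [Category.assoc, Category.assoc, sqO.w]
    unfold QuotSh.quotDesc
    exact Groth.Agent.H51.QuotGen.isIso_coequalizer_desc
      (QuotSh.repMap Scheme.etalePrecoverage s) (QuotSh.repMap Scheme.etalePrecoverage t)
      (QuotSh.repMap Scheme.etalePrecoverage q) (QuotSh.repMap Scheme.etalePrecoverage s)
      (QuotSh.repMap Scheme.etalePrecoverage t)
      (Groth.Agent.H51.QuotGen.isPullback_repMap Scheme.etalePrecoverage hk) (𝟙 _)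
      (Category.id_comp _) (Category.id_comp _) _
  · rintro ⟨w, hiso⟩
    have kerq := Groth.Agent.H51.QuotKer.isPullback_rep s t Scheme.etalePrecoverage hE
    have hπd : QuotSh.quotπ Scheme.etalePrecoverage s t ≫
        QuotSh.quotDesc Scheme.etalePrecoverage q w = QuotSh.repMap Scheme.etalePrecoverage q := by
      unfold QuotSh.quotπ QuotSh.quotDesc
      exact coequalizer.π_desc _ _
    have ker : IsPullback (QuotSh.repMap Scheme.etalePrecoverage t)
        (QuotSh.repMap Scheme.etalePrecoverage s) (QuotSh.repMap Scheme.etalePrecoverage q)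
        (QuotSh.repMap Scheme.etalePrecoverage q) := by
      have := IsKernelPair.comp_of_mono (f₂ := QuotSh.quotDesc Scheme.etalePrecoverage q w) kerq
      rw [hπd] at this
      exact this
    have hk : IsKernelPair q s t :=
      (Groth.Agent.H51.EtQuot.isPullback_of_isPullback_repMap Scheme.etalePrecoverage w.symm ker).flip
    have hepiπ : Epi (QuotSh.quotπ Scheme.etalePrecoverage s t) := by
      unfold QuotSh.quotπ; exact coequalizer.π_epi
    have hepi : Epi (QuotSh.repMap Scheme.etalePrecoverage q) := by
      rw [← hπd]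
      exact epi_comp _ _
    obtain ⟨Sg, hSg, hlift⟩ :=
      Groth.Agent.H51.QuotGen.exists_local_lift_of_epi_repMap Scheme.etalePrecoverage q (𝟙 Y)
    choose T' g hg het t' ht' using fun τ : Y.left =>
      Groth.Agent.H51.EtQuot.exists_etale_of_mem_J hSg τ
    have key : ∀ (P : MorphismProperty Scheme.{u}) [IsZariskiLocalAtTarget P]
        [P.IsStableUnderBaseChange], MorphismProperty.DescendsAlong P Groth.Agent.H50.fppfProp →
        P s.left → P q.left := by
      intro P _ _ hdesc hPs
      refine Groth.Agent.H50.of_fppf_family hdesc q.left (fun τ => (T' τ).left)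
        (fun τ => (g τ).left) (fun τ => ?_) (fun τ => ?_) (fun τ => ⟨τ, t' τ, ht' τ⟩) (fun τ => ?_)
      · have := het τ
        infer_instance
      · have := het τ
        infer_instance
      · obtain ⟨x, hx⟩ := hlift (g τ) (hg τ)
        rw [Category.comp_id] at hx
        have sq1 := IsPullback.of_hasPullback s x
        have sq2 := sq1.paste_horiz hk.flip
        rw [hx] at sq2
        exact ⟨_, _, _, sq2.map (Over.forget S),
          MorphismProperty.of_isPullback (P := P) (sq1.map (Over.forget S)) hPs⟩
    refine ⟨hk, key @Etale Groth.Agent.H50.goodProp_etale.desc inferInstance,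
      key @Surjective Groth.Agent.H51.surjective_descendsAlong_fppf inferInstance⟩

end Groth.Agent.S5225
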