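import Groth.Statements.S5228
import Groth.Agent.H96.GrComod
import Mathlib.LinearAlgebra.Projection

set_option autoImplicit false
universe w u
open HopfRep

namespace Groth.Agent.S5228

open Groth.Agent.H96 TensorProduct in
/-- Over an affine base, in comodule form: for a representation `V` of a diagonalizable group `D(M)`
over a commutative ring `k` (a `k[M]`-comodule), every sub-representation which is a direct summand
as a `k`-module is a direct summand as a representation. (The published statement: a short exact
sequence of quasi-coherent `D(M)`-modules that splits as a sequence of modules splits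
equivariantly.) -/
theorem result {k : Type u} [CommRing k] {M : Type u} [CommGroup M]
    (V : Type w) [AddCommGroup V] [Module k V] [HopfRep.Comod k (MonoidAlgebra k M) V]
    (W : Submodule k V) (hW : HopfRep.IsSubcomod (k := k) (A := MonoidAlgebra k M) W)
    (hsplit : ∃ W' : Submodule k V, IsCompl W W') :
    ∃ W'' : Submodule k V, HopfRep.IsSubcomod (k := k) (A := MonoidAlgebra k M) W'' ∧ IsCompl W W'' := by
  classical
  obtain ⟨W', hW'⟩ := hsplit
  have hb : ∀ m, IsGroupLikeElem k ((MonoidAlgebra.basis M k) m) := fun m => by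
    rw [MonoidAlgebra.basis_apply]
    exact MonoidAlgebra.isGroupLikeElem_single_one m
  have hπW : ∀ w ∈ W, (W.subtype ∘ₗ (Submodule.projectionOnto W W' hW')) w = w := by
    intro w hw
    have h1 := Submodule.projectionOnto_apply_left hW' ⟨w, hw⟩
    simp only [LinearMap.comp_apply, Submodule.subtype_apply]
    exact congrArg Subtype.val h1
  have hπmem : ∀ f, (W.subtype ∘ₗ (Submodule.projectionOnto W W' hW')) f ∈ W :=
    fun f => (Submodule.projectionOnto W W' hW' f).2
  generalize (W.subtype ∘ₗ (Submodule.projectionOnto W W' hW')) = π at hπW hπmem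
  have hpp : ∀ (a c : M) (f : V), GrComod.proj (MonoidAlgebra.basis M k) c
      (GrComod.proj (MonoidAlgebra.basis M k) a f) =
      if a = c then GrComod.proj (MonoidAlgebra.basis M k) a f else 0 :=
    fun a c f => GrComod.proj_proj (MonoidAlgebra.basis M k) hb c a f
  have hmemW'' : ∀ f, f ∈ (⨅ a : M, LinearMap.ker
      (GrComod.proj (MonoidAlgebra.basis M k) a ∘ₗ π ∘ₗ
        GrComod.proj (MonoidAlgebra.basis M k) a) : Submodule k V) ↔
      ∀ a, GrComod.proj (MonoidAlgebra.basis M k) a
        (π (GrComod.proj (MonoidAlgebra.basis M k) a f)) = 0 := by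
    intro f
    simp [Submodule.mem_iInf, LinearMap.mem_ker]
  refine ⟨⨅ a : M, LinearMap.ker (GrComod.proj (MonoidAlgebra.basis M k) a ∘ₗ π ∘ₗ
    GrComod.proj (MonoidAlgebra.basis M k) a), ?_, ?_⟩
  · intro f hf
    obtain ⟨s, hs⟩ := GrComod.expand_coact (MonoidAlgebra.basis M k) f
    have hsum := hs s (Finset.Subset.refl _)
    have hpa : ∀ a, GrComod.proj (MonoidAlgebra.basis M k) a f ∈
        (⨅ a : M, LinearMap.ker (GrComod.proj (MonoidAlgebra.basis M k) a ∘ₗ π ∘ₗ
          GrComod.proj (MonoidAlgebra.basis M k) a) : Submodule k V) := by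
      intro a
      rw [hmemW'']
      intro c
      rw [hpp a c f]
      split_ifs with h
      · subst h
        exact (hmemW'' f).mp hf a
      · simp
    refine ⟨∑ a ∈ s, (⟨GrComod.proj (MonoidAlgebra.basis M k) a f, hpa a⟩ :
      (⨅ a : M, LinearMap.ker (GrComod.proj (MonoidAlgebra.basis M k) a ∘ₗ π ∘ₗ
          GrComod.proj (MonoidAlgebra.basis M k) a) : Submodule k V)) ⊗ₜ[k]
        (MonoidAlgebra.basis M k) a, ?_⟩
    rw [map_sum]
    simp only [LinearMap.rTensor_tmul, Submodule.subtype_apply]
    exact hsum
  · constructor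
    · rw [Submodule.disjoint_def]
      intro f hfW hfW''
      obtain ⟨s, hs⟩ := GrComod.sum_proj (MonoidAlgebra.basis M k) hb f
      rw [← hs s (Finset.Subset.refl _)]
      refine Finset.sum_eq_zero fun a _ => ?_
      have h1 : GrComod.proj (MonoidAlgebra.basis M k) a f ∈ W :=
        GrComod.proj_mem_of_isSubcomod (MonoidAlgebra.basis M k) W hW a f hfW
      have h2 := (hmemW'' f).mp hfW'' a
      rw [hπW _ h1, hpp a a f, if_pos rfl] at h2
      exact h2
    · rw [codisjoint_iff, eq_top_iff]
      intro f _
      obtain ⟨s, hs⟩ := GrComod.sum_proj (MonoidAlgebra.basis M k) hb f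
      rw [← hs s (Finset.Subset.refl _)]
      refine Submodule.sum_mem _ fun a _ => ?_
      have hwW : GrComod.proj (MonoidAlgebra.basis M k) a
          (π (GrComod.proj (MonoidAlgebra.basis M k) a f)) ∈ W :=
        GrComod.proj_mem_of_isSubcomod (MonoidAlgebra.basis M k) W hW a _ (hπmem _)
      have huW'' : GrComod.proj (MonoidAlgebra.basis M k) a f -
          GrComod.proj (MonoidAlgebra.basis M k) a
            (π (GrComod.proj (MonoidAlgebra.basis M k) a f)) ∈
          (⨅ a : M, LinearMap.ker (GrComod.proj (MonoidAlgebra.basis M k) a ∘ₗ π ∘ₗ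
            GrComod.proj (MonoidAlgebra.basis M k) a) : Submodule k V) := by
        rw [hmemW'']
        intro c
        rw [map_sub, hpp a c f, hpp a c (π (GrComod.proj (MonoidAlgebra.basis M k) a f))]
        split_ifs with h
        · subst h
          rw [map_sub, map_sub, hπW _ hwW, hpp a a (π (GrComod.proj (MonoidAlgebra.basis M k) a f)),
            if_pos rfl, sub_self]
        · simp
      have hdecomp : GrComod.proj (MonoidAlgebra.basis M k) a f =
          GrComod.proj (MonoidAlgebra.basis M k) a
            (π (GrComod.proj (MonoidAlgebra.basis M k) a f)) +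
          (GrComod.proj (MonoidAlgebra.basis M k) a f -
            GrComod.proj (MonoidAlgebra.basis M k) a
              (π (GrComod.proj (MonoidAlgebra.basis M k) a f))) := by abel
      rw [hdecomp]
      exact Submodule.add_mem _ (Submodule.mem_sup_left hwW) (Submodule.mem_sup_right huW'')

end Groth.Agent.S5228
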