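import Groth.Statements.S5229
import Mathlib.CategoryTheory.Limits.Shapes.KernelPair

set_option autoImplicit false
open CategoryTheory CategoryTheory.Limits
universe v₁ u₁
open DescCat

namespace Groth.Agent.S5229

/-- For universal effective epimorphisms, in a category with pullbacks and binary products: for two
universally effective equivalence relations `R ⇉ X` and `R' ⇉ X'` with quotient maps `π` and `π'`,
the product relation `R × R' ⇉ X × X'` is the kernel pair of `π × π'`. (Together with the fact that
a product of two universal effective epimorphisms is again one, this says that `(X × X')/(R × R')`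
is `(X/R) × (X'/R')`; only the kernel-pair assertion is stated here.) -/
theorem result {C : Type u₁} [Category.{v₁} C]
    [HasPullbacks C] [HasBinaryProducts C]
    {R X R' X' : C} {p₁ p₂ : R ⟶ X} {p₁' p₂' : R' ⟶ X'}
    (e : UniversallyEffectiveEquivalenceRelation p₁ p₂)
    (e' : UniversallyEffectiveEquivalenceRelation p₁' p₂') :
    IsKernelPair (prod.map e.π e'.π) (prod.map p₁ p₁') (prod.map p₂ p₂') := by
  have k := e.isKernelPair
  have k' := e'.isKernelPair
  have c1 : ∀ s : PullbackCone (prod.map e.π e'.π) (prod.map e.π e'.π),
      (s.fst ≫ prod.fst) ≫ e.π = (s.snd ≫ prod.fst) ≫ e.π := by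
    intro s
    have := congrArg (fun t => t ≫ prod.fst) s.condition
    simp only [Category.assoc, prod.map_fst] at this
    simpa only [Category.assoc] using this
  have c2 : ∀ s : PullbackCone (prod.map e.π e'.π) (prod.map e.π e'.π),
      (s.fst ≫ prod.snd) ≫ e'.π = (s.snd ≫ prod.snd) ≫ e'.π := by
    intro s
    have := congrArg (fun t => t ≫ prod.snd) s.condition
    simp only [Category.assoc, prod.map_snd] at this
    simpa only [Category.assoc] using this
  refine ⟨⟨?_⟩, ⟨PullbackCone.IsLimit.mk _
    (fun s => prod.lift
      (k.lift (s.fst ≫ prod.fst) (s.snd ≫ prod.fst) (c1 s))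
      (k'.lift (s.fst ≫ prod.snd) (s.snd ≫ prod.snd) (c2 s)))
    ?_ ?_ ?_⟩⟩
  · rw [prod.map_map, prod.map_map, k.w, k'.w]
  · intro s
    apply Limits.prod.hom_ext
    · rw [Category.assoc, prod.map_fst, prod.lift_fst_assoc, IsKernelPair.lift_fst]
    · rw [Category.assoc, prod.map_snd, prod.lift_snd_assoc, IsKernelPair.lift_fst]
  · intro s
    apply Limits.prod.hom_ext
    · rw [Category.assoc, prod.map_fst, prod.lift_fst_assoc, IsKernelPair.lift_snd]
    · rw [Category.assoc, prod.map_snd, prod.lift_snd_assoc, IsKernelPair.lift_snd]
  · intro s m h1 h2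
    apply Limits.prod.hom_ext
    · rw [prod.lift_fst]
      apply k.hom_ext
      · rw [IsKernelPair.lift_fst, ← h1, Category.assoc, Category.assoc, prod.map_fst]
      · rw [IsKernelPair.lift_snd, ← h2, Category.assoc, Category.assoc, prod.map_fst]
    · rw [prod.lift_snd]
      apply k'.hom_ext
      · rw [IsKernelPair.lift_fst, ← h1, Category.assoc, Category.assoc, prod.map_snd]
      · rw [IsKernelPair.lift_snd, ← h2, Category.assoc, Category.assoc, prod.map_snd]

end Groth.Agent.S5229
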