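import Groth.Statements.S5231


set_option autoImplicit false
open CategoryTheory
universe w v₁ u₁
open ShfCat

namespace Groth.Agent.S5231

theorem hom_eq_of_locally_eq {C : Type u₁} [Category.{v₁} C] (J : GrothendieckTopology C)
    {A B : Sheaf J (Type w)} (a b : A ⟶ B)
    (h : ∀ S : C, ∃ R : Sieve S, R ∈ J S ∧ ∀ ⦃T : C⦄ (g : T ⟶ S), R g →
      (J.overPullback (Type w) T).map a = (J.overPullback (Type w) T).map b) : a = b := by
  ext X x
  obtain ⟨R, hR, hR'⟩ := h X.unop
  apply (((isSheaf_iff_isSheaf_of_type _ _).1 B.2).isSeparated _ hR).ext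
  intro T g hg
  have h1 := hR' g hg
  have h2 : a.hom.app (Opposite.op T) = b.hom.app (Opposite.op T) :=
    congrArg (fun m => m.hom.app (Opposite.op (Over.mk (𝟙 T)))) h1
  have h3 := NatTrans.naturality_apply a.hom g.op x
  have h4 := NatTrans.naturality_apply b.hom g.op x
  exact (h3.symm.trans (by rw [h2])).trans h4

/-- (iii) ⇒ (i): a morphism `f` of sheaves of sets on a site is a monomorphism (resp. an epimorphism) as
soon as, for every object `S`, the morphisms `T ⟶ S` over which the restriction of `f` to the
induced site `C/T` is a monomorphism (resp. an epimorphism) form a covering sieve. No sheafification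
is assumed. (The published statement also treats isomorphisms in the same way; that case is left out
here.) -/
theorem result {C : Type u₁} [Category.{v₁} C]
    (J : GrothendieckTopology C) {F G : Sheaf J (Type w)} (f : F ⟶ G) :
    ((∀ S : C, ∃ R : Sieve S, R ∈ J S ∧ ∀ ⦃T : C⦄ (g : T ⟶ S), R g →
        Mono ((J.overPullback (Type w) T).map f)) → Mono f) ∧
    ((∀ S : C, ∃ R : Sieve S, R ∈ J S ∧ ∀ ⦃T : C⦄ (g : T ⟶ S), R g →
        Epi ((J.overPullback (Type w) T).map f)) → Epi f) := by
  constructor
  · intro h
    constructor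
    intro Z a b hab
    apply hom_eq_of_locally_eq J a b
    intro S
    obtain ⟨R, hR, hR'⟩ := h S
    refine ⟨R, hR, fun T g hg => ?_⟩
    haveI := hR' g hg
    rw [← cancel_mono ((J.overPullback (Type w) T).map f), ← Functor.map_comp,
      ← Functor.map_comp, hab]
  · intro h
    constructor
    intro Z a b hab
    apply hom_eq_of_locally_eq J a b
    intro S
    obtain ⟨R, hR, hR'⟩ := h S
    refine ⟨R, hR, fun T g hg => ?_⟩
    haveI := hR' g hg
    rw [← cancel_epi ((J.overPullback (Type w) T).map f), ← Functor.map_comp,
      ← Functor.map_comp, hab]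

end Groth.Agent.S5231
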