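import Groth.Statements.S5232
import Groth.Agent.H51.AffDescFppf
import Groth.Agent.H51.QuotKer

set_option autoImplicit false
open CategoryTheory CategoryTheory.Limits AlgebraicGeometry
universe u
open GrpQ

namespace Groth.Agent.S5232

/-- On the big fppf site of a scheme `S`, in the case where the local representing objects are affine
over the cover (so that the canonical descent datum is effective): if `Z` is an fppf sheaf over `S`
and, for an fppf cover `S' ⟶ S`, the sheaf `Z ×_S S'` is represented over `S'` by a scheme affine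
over `S'`, then `Z` is represented by a scheme affine over `S`. -/
theorem result {S S' : Scheme.{u}} (f : S' ⟶ S)
    [Flat f] [Surjective f] [LocallyOfFinitePresentation f]
    (Z : QuotSh.Sh Scheme.fppfPrecoverage S)
    (T' : Over S) (a : T' ⟶ Over.mk f) [IsAffineHom a.left]
    (φ : QuotSh.rep Scheme.fppfPrecoverage T' ≅ Z ⨯ QuotSh.rep Scheme.fppfPrecoverage (Over.mk f))
    (hφ : φ.hom ≫ prod.snd = QuotSh.repMap Scheme.fppfPrecoverage a) :
    ∃ T : Over S, IsAffineHom T.hom ∧ Nonempty (QuotSh.rep Scheme.fppfPrecoverage T ≅ Z) := by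
  have i1 : Flat (Over.mk f).hom := inferInstanceAs (Flat f)
  have i2 : LocallyOfFinitePresentation (Over.mk f).hom :=
    inferInstanceAs (LocallyOfFinitePresentation f)
  have i3 : Surjective (Over.mk f).hom := inferInstanceAs (Surjective f)
  let φ' : (AlgSp.yon S).obj T' ≅ Z ⨯ (AlgSp.yon S).obj (Over.mk f) :=
    (QuotSh.repIsoUliftYoneda Scheme.fppfPrecoverage T').symm ≪≫ φ ≪≫
      prod.mapIso (Iso.refl Z) (QuotSh.repIsoUliftYoneda Scheme.fppfPrecoverage (Over.mk f))
  have hφ' : φ'.hom ≫ prod.snd = (AlgSp.yon S).map a := by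
    have h1 := Groth.Agent.H51.QuotKer.repIso_naturality (S := S) a
    change ((QuotSh.repIsoUliftYoneda Scheme.fppfPrecoverage T').inv ≫ φ.hom ≫
      prod.map (𝟙 Z) (QuotSh.repIsoUliftYoneda Scheme.fppfPrecoverage (Over.mk f)).hom) ≫ prod.snd = _
    rw [Category.assoc, Category.assoc, prod.map_snd, ← Category.assoc φ.hom, hφ, h1,
      Iso.inv_hom_id_assoc]
  obtain ⟨T, hT, ⟨e⟩⟩ := Groth.Agent.H51.AffDesc.exists_affine_rep_of_fppf Z a φ' hφ'
  exact ⟨T, hT, ⟨QuotSh.repIsoUliftYoneda Scheme.fppfPrecoverage T ≪≫ e⟩⟩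

end Groth.Agent.S5232
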