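import Groth.Statements.S5233
import Groth.Agent.H49.IdealDescent
import Mathlib.AlgebraicGeometry.Morphisms.ClosedImmersion
import Mathlib.CategoryTheory.Subobject.Basic

set_option autoImplicit false
open CategoryTheory CategoryTheory.Limits AlgebraicGeometry
universe u
open GrpQ

namespace Groth.Agent.S5233

open Groth.Agent.H49.IdealDescent

theorem eq_of_ker_eq {X : Scheme.{u}} (A B : Subobject X) [IsClosedImmersion A.arrow]
    [IsClosedImmersion B.arrow] (h : A.arrow.ker = B.arrow.ker) : A = B := by
  have := IsClosedImmersion.isIso_lift A.arrow B.arrow h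
  exact (Subobject.eq_of_comm (asIso (IsClosedImmersion.lift A.arrow B.arrow h.le))
    (IsClosedImmersion.lift_fac _ _ _)).symm

theorem pullback_closed {X X' : Scheme.{u}} (f : X ⟶ X') (Y' : Subobject X')
    [IsClosedImmersion Y'.arrow] : IsClosedImmersion ((Subobject.pullback f).obj Y').arrow :=
  MorphismProperty.of_isPullback (P := @IsClosedImmersion) (Subobject.isPullback f Y')
    inferInstance

theorem pullback_ker {X X' : Scheme.{u}} (f : X ⟶ X') (Y' : Subobject X')
    [IsClosedImmersion Y'.arrow] :
    ((Subobject.pullback f).obj Y').arrow.ker = Y'.arrow.ker.comap f := by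
  have hp := (Subobject.isPullback f Y').flip
  rw [← Scheme.IdealSheafData.ker_fst_of_isClosedImmersion, ← hp.isoPullback_hom_fst,
    Scheme.Hom.ker_comp_of_isIso]

theorem mk_closed {X : Scheme.{u}} (J : X.IdealSheafData) :
    IsClosedImmersion (Subobject.mk J.subschemeι).arrow := by
  rw [← Subobject.underlyingIso_hom_comp_eq_mk]
  infer_instance

theorem mk_ker {X : Scheme.{u}} (J : X.IdealSheafData) :
    (Subobject.mk J.subschemeι).arrow.ker = J := by
  rw [← Subobject.underlyingIso_hom_comp_eq_mk, Scheme.Hom.ker_comp_of_isIso,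
    Scheme.IdealSheafData.ker_subschemeι]


/-- For schemes, with (M) the faithfully flat quasi-compact morphisms and (N) the closed immersions: if
`π : X ⟶ X'` is flat, surjective and quasi-compact (so `X' = X/R` for its kernel pair `R ⇉ X`), then
`Y' ↦ π⁻¹(Y')` is a bijection from closed subschemes of `X'` onto the closed subschemes of `X`
stable under `R`. -/
theorem result {X X' : Scheme.{u}} (π : X ⟶ X')
    [Flat π] [Surjective π] [QuasiCompact π] :
    Set.BijOn (Subobject.pullback π).obj
      {Y' : Subobject X' | IsClosedImmersion Y'.arrow}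
      {Y : Subobject X | IsClosedImmersion Y.arrow ∧
        (Subobject.pullback (pullback.fst π π)).obj Y = (Subobject.pullback (pullback.snd π π)).obj Y} := by
  have hmem : Presieve.ofArrows (fun _ : PUnit.{u+1} => X) (fun _ => π) ∈
      Scheme.fpqcPrecoverage X' := by
    rw [Presieve.ofArrows_pUnit]
    exact Scheme.Hom.singleton_mem_fpqcPrecoverage π
  obtain ⟨hfin, hfl⟩ := finCov_of_fpqc hmem
  refine ⟨?_, ?_, ?_⟩
  · intro Y' hY'
    have : IsClosedImmersion Y'.arrow := hY'
    refine ⟨pullback_closed π Y', ?_⟩
    rw [← Subobject.pullback_comp, ← Subobject.pullback_comp, pullback.condition]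
  · intro Y₁ h₁ Y₂ h₂ heq
    have : IsClosedImmersion Y₁.arrow := h₁
    have : IsClosedImmersion Y₂.arrow := h₂
    apply eq_of_ker_eq
    have e : Y₁.arrow.ker.comap π = Y₂.arrow.ker.comap π := by
      rw [← pullback_ker, ← pullback_ker]
      exact congrArg (fun Z : Subobject X => Z.arrow.ker) heq
    have hc : Compat (fun _ : PUnit.{u+1} => π) (fun _ => Y₁.arrow.ker.comap π) := by
      intro _ _
      change (Y₁.arrow.ker.comap π).comap (pullback.fst π π) =
        (Y₁.arrow.ker.comap π).comap (pullback.snd π π)
      rw [← Scheme.IdealSheafData.comap_comp, ← Scheme.IdealSheafData.comap_comp,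
        pullback.condition]
    exact (existsUnique_comap_eq hfin hfl hc).unique (fun _ => rfl) (fun _ => e.symm)
  · rintro Y ⟨hY, hst⟩
    have : IsClosedImmersion Y.arrow := hY
    have hc : Compat (fun _ : PUnit.{u+1} => π) (fun _ => Y.arrow.ker) := by
      intro _ _
      change Y.arrow.ker.comap (pullback.fst π π) = Y.arrow.ker.comap (pullback.snd π π)
      rw [← pullback_ker, ← pullback_ker]
      exact congrArg (fun Z : Subobject (pullback π π) => Z.arrow.ker) hst
    obtain ⟨J, hJ, -⟩ := existsUnique_comap_eq hfin hfl hc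
    have := mk_closed J
    refine ⟨Subobject.mk J.subschemeι, mk_closed J, ?_⟩
    have := pullback_closed π (Subobject.mk J.subschemeι)
    apply eq_of_ker_eq
    rw [pullback_ker, mk_ker]
    exact hJ ⟨⟩

end Groth.Agent.S5233
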