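import Groth.Statements.S5234
import Groth.Agent.H40.FlatDesc2
import Groth.Agent.H40.TorsorSq

set_option autoImplicit false
open CategoryTheory CategoryTheory.Limits AlgebraicGeometry MonoidalCategory
universe u
open RedSub

namespace Groth.Agent.S5234

open CartesianMonoidalCategory SemiCartesianMonoidalCategory in
/-- (ii) ⇔ (iii), for schemes with the fppf topology: let `G` be an `S`-group scheme which is faithfully
flat and locally of finite presentation over `S`, acting on `X` so that `X` is formally principal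
homogeneous. Then `X` is a torsor (its structure map is faithfully flat and locally of finite
presentation) if and only if `X` has a point over some faithfully flat, locally finitely presented
`S' ⟶ S`. -/
theorem result {S : Scheme.{u}} {G X : Over S} [GrpObj G]
    (a : AlgGrp.Action G X)
    [Flat G.hom] [Surjective G.hom] [LocallyOfFinitePresentation G.hom]
    (hX : IsIso (lift a.act (snd G X))) :
    RedSub.IsTorsor a ↔
      ∃ S' : Over S, Surjective S'.hom ∧ Flat S'.hom ∧ LocallyOfFinitePresentation S'.hom ∧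
        Nonempty (S' ⟶ X) := by
  constructor
  · rintro ⟨hs, hf, hp, _⟩
    exact ⟨X, hs, hf, hp, ⟨𝟙 X⟩⟩
  · rintro ⟨S', hs, hf, hp, ⟨σ⟩⟩
    obtain ⟨Φ, hΦdef⟩ : ∃ Φ : G ⊗ X ⟶ X ⊗ X, Φ = lift a.act (snd G X) := ⟨_, rfl⟩
    have hΦiso : IsIso Φ := by rw [hΦdef]; exact hX
    have hΦ1 : Φ ≫ fst X X = a.act := by rw [hΦdef, lift_fst]
    have hΦ2 : Φ ≫ snd X X = snd G X := by rw [hΦdef, lift_snd]
    obtain ⟨m, hmdef⟩ : ∃ m : S' ⊗ G ⟶ X, m = lift (snd S' G) (fst S' G ≫ σ) ≫ a.act :=
      ⟨_, rfl⟩
    have SQ : IsPullback m (fst S' G) (toUnit X) (toUnit S') := by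
      refine Groth.Agent.H40.FpqcFam.isPullback_of_pts (toUnit_unique _ _) ?_
      intro T x s _
      obtain ⟨q, hqdef⟩ : ∃ q : T ⟶ G ⊗ X, q = lift x (s ≫ σ) ≫ inv Φ := ⟨_, rfl⟩
      have hqΦ : q ≫ Φ = lift x (s ≫ σ) := by
        rw [hqdef, Category.assoc, IsIso.inv_hom_id, Category.comp_id]
      have hq1 : q ≫ a.act = x := by
        rw [← hΦ1, ← Category.assoc, hqΦ, lift_fst]
      have hq2 : q ≫ snd G X = s ≫ σ := by
        rw [← hΦ2, ← Category.assoc, hqΦ, lift_snd]
      have hq : q = lift (q ≫ fst G X) (s ≫ σ) := by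
        apply CartesianMonoidalCategory.hom_ext
        · rw [lift_fst]
        · rw [lift_snd, hq2]
      refine ⟨lift s (q ≫ fst G X), ⟨?_, lift_fst _ _⟩, ?_⟩
      · rw [hmdef, ← Category.assoc, comp_lift, lift_snd, lift_fst_assoc, ← hq, hq1]
      · rintro p ⟨hp1, hp2⟩
        have hp : lift (p ≫ snd S' G) (s ≫ σ) ≫ a.act = x := by
          rw [← hp1, hmdef, ← Category.assoc, comp_lift, ← hp2, Category.assoc]
        have hpq : lift (p ≫ snd S' G) (s ≫ σ) = q := by
          rw [← cancel_mono Φ, hqΦ]
          apply CartesianMonoidalCategory.hom_ext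
          · rw [Category.assoc, hΦ1, hp, lift_fst]
          · rw [Category.assoc, hΦ2, lift_snd, lift_snd]
        apply CartesianMonoidalCategory.hom_ext
        · rw [lift_fst, hp2]
        · rw [lift_snd, ← hpq, lift_fst]
    have SQ' : IsPullback m.left (fst S' G).left X.hom S'.hom := SQ.map (Over.forget S)
    have hfst1 : Flat (fst S' G).left := by rw [Over.fst_left]; infer_instance
    have hfst2 : Surjective (fst S' G).left := by rw [Over.fst_left]; infer_instance
    have hfst3 : LocallyOfFinitePresentation (fst S' G).left := by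
      rw [Over.fst_left]; infer_instance
    have hQ : (@Surjective ⊓ @Flat ⊓ @LocallyOfFinitePresentation : MorphismProperty Scheme.{u})
        S'.hom := ⟨⟨hs, hf⟩, hp⟩
    have := Groth.Agent.H40.FlatDesc2.flat_descendsAlong.{u}
    refine ⟨?_, ?_, ?_, hX⟩
    · exact MorphismProperty.of_isPullback_of_descendsAlong (P := @Surjective)
        (Q := (@Surjective ⊓ @Flat ⊓ @LocallyOfFinitePresentation : MorphismProperty Scheme.{u}))
        SQ'.flip hQ hfst2
    · exact MorphismProperty.of_isPullback_of_descendsAlong (P := @Flat)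
        (Q := (@Surjective ⊓ @Flat ⊓ @LocallyOfFinitePresentation : MorphismProperty Scheme.{u}))
        SQ'.flip hQ hfst1
    · exact MorphismProperty.of_isPullback_of_descendsAlong (P := @LocallyOfFinitePresentation)
        (Q := (@Surjective ⊓ @Flat ⊓ @LocallyOfFinitePresentation : MorphismProperty Scheme.{u}))
        SQ'.flip hQ hfst3

end Groth.Agent.S5234
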