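import Groth.Statements.S5235
import Mathlib.AlgebraicGeometry.Morphisms.Flat
import Mathlib.AlgebraicGeometry.PullbackCarrier

set_option autoImplicit false
open CategoryTheory CategoryTheory.Limits AlgebraicGeometry
universe u
open GrpQ

namespace Groth.Agent.S5235

theorem range_pullback_arrow {X X' : Scheme.{u}} (π : X ⟶ X') (Y' : Subobject X') :
    Set.range ((Subobject.pullback π).obj Y').arrow = π ⁻¹' Set.range Y'.arrow := by
  have h := Scheme.image_preimage_eq_of_isPullback (Subobject.isPullback π Y') Set.univ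
  simpa [Set.image_univ] using h

theorem subobject_ext_of_range {X : Scheme.{u}} (Y₁ Y₂ : Subobject X) [IsOpenImmersion Y₁.arrow]
    [IsOpenImmersion Y₂.arrow] (h : Set.range Y₁.arrow = Set.range Y₂.arrow) : Y₁ = Y₂ :=
  Subobject.eq_of_comm (IsOpenImmersion.isoOfRangeEq Y₁.arrow Y₂.arrow h)
    (IsOpenImmersion.isoOfRangeEq_hom_fac _ _ h)

theorem isOpenImmersion_pullback_arrow {X X' : Scheme.{u}} (π : X ⟶ X') (Y' : Subobject X')
    [IsOpenImmersion Y'.arrow] : IsOpenImmersion ((Subobject.pullback π).obj Y').arrow :=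
  MorphismProperty.of_isPullback (P := @IsOpenImmersion) (Subobject.isPullback π Y') inferInstance

theorem range_mk_arrow {X Z : Scheme.{u}} (f : Z ⟶ X) [Mono f] :
    Set.range (Subobject.mk f).arrow = Set.range f := by
  apply Set.Subset.antisymm
  · rintro _ ⟨z, rfl⟩
    refine ⟨(Subobject.underlyingIso f).hom z, ?_⟩
    rw [← Scheme.Hom.comp_apply, Subobject.underlyingIso_hom_comp_eq_mk]
  · rintro _ ⟨z, rfl⟩
    refine ⟨(Subobject.underlyingIso f).inv z, ?_⟩
    rw [← Scheme.Hom.comp_apply, Subobject.underlyingIso_arrow]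

theorem isOpenImmersion_mk_arrow {X Z : Scheme.{u}} (f : Z ⟶ X) [IsOpenImmersion f] :
    IsOpenImmersion (Subobject.mk f).arrow := by
  rw [← Subobject.underlyingIso_hom_comp_eq_mk]
  infer_instance

/-- For schemes, with (M) the faithfully flat quasi-compact morphisms and (N) the open immersions: if `π
: X ⟶ X'` is flat, surjective and quasi-compact, then `Y' ↦ π⁻¹(Y')` is a bijection from open
subschemes of `X'` onto the open subschemes of `X` stable under the kernel pair of `π`. -/
theorem result {X X' : Scheme.{u}} (π : X ⟶ X')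
    [Flat π] [Surjective π] [QuasiCompact π] :
    Set.BijOn (Subobject.pullback π).obj
      {Y' : Subobject X' | IsOpenImmersion Y'.arrow}
      {Y : Subobject X | IsOpenImmersion Y.arrow ∧
        (Subobject.pullback (pullback.fst π π)).obj Y = (Subobject.pullback (pullback.snd π π)).obj Y} := by
  have hq : Topology.IsQuotientMap π := Flat.isQuotientMap_of_surjective π
  refine ⟨?_, ?_, ?_⟩
  · intro Y' hY'
    haveI : IsOpenImmersion Y'.arrow := hY'
    refine ⟨isOpenImmersion_pullback_arrow π Y', ?_⟩
    rw [← Subobject.pullback_comp, ← Subobject.pullback_comp, pullback.condition]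
  · intro Y₁ h₁ Y₂ h₂ h
    haveI : IsOpenImmersion Y₁.arrow := h₁
    haveI : IsOpenImmersion Y₂.arrow := h₂
    apply subobject_ext_of_range
    have e1 := range_pullback_arrow π Y₁
    have e2 := range_pullback_arrow π Y₂
    rw [h] at e1
    exact (Function.Surjective.preimage_injective π.surjective) (e1.symm.trans e2)
  · rintro Y ⟨hY, hst⟩
    haveI : IsOpenImmersion Y.arrow := hY
    obtain ⟨U, hU⟩ : ∃ U : Set X, U = Set.range Y.arrow := ⟨_, rfl⟩
    have hUo : IsOpen U := by rw [hU]; exact Y.arrow.isOpenEmbedding.isOpen_range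
    have hpre : (pullback.fst π π) ⁻¹' U = (pullback.snd π π) ⁻¹' U := by
      rw [hU, ← range_pullback_arrow, ← range_pullback_arrow, hst]
    have hsat : ∀ x x' : X, π x = π x' → (x ∈ U → x' ∈ U) := by
      intro x x' hxx' hx
      obtain ⟨z, hz1, hz2⟩ :=
        Scheme.Pullback.exists_preimage_pullback (f := π) (g := π) x x' hxx'
      have hz : z ∈ (pullback.fst π π) ⁻¹' U := by
        rw [Set.mem_preimage, hz1]; exact hx
      rw [hpre, Set.mem_preimage, hz2] at hz
      exact hz
    have hVpre : π ⁻¹' (π '' U) = U := by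
      apply Set.Subset.antisymm
      · rintro x ⟨u, hu, hux⟩
        exact hsat u x hux hu
      · exact Set.subset_preimage_image _ _
    have hVo : IsOpen (π '' U) := by
      rw [← hq.isOpen_preimage, hVpre]; exact hUo
    let V : X'.Opens := ⟨π '' U, hVo⟩
    haveI h1 : IsOpenImmersion (Subobject.mk V.ι).arrow := isOpenImmersion_mk_arrow V.ι
    refine ⟨Subobject.mk V.ι, h1, ?_⟩
    haveI h2 := isOpenImmersion_pullback_arrow π (Subobject.mk V.ι)
    apply subobject_ext_of_range
    rw [range_pullback_arrow, range_mk_arrow, Scheme.Opens.range_ι, ← hU]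
    exact hVpre

end Groth.Agent.S5235
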