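import Groth.Statements.S5242
import Mathlib
import Groth.Agent.H83.MultQuot

set_option autoImplicit false
universe u
open TensorProduct SGA3b
open SGA3b

namespace Groth.Agent.S5242


/-- Let G = Spec A be an R-group of multiplicative type and of finite type and n > 0 an integer. Then
the kernel ₙG = Spec (A/J) of the n-th power map of G, J being the ideal generated by the image of
the augmentation ideal under the n-th power endomorphism (a Hopf ideal; the instance hypothesis
holds automatically for this J), is an R-group of multiplicative type which is finite over R.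
(Affine group schemes over an affine base are taken in Hopf-algebra form; base change is the tensor
product; a homomorphism of groups Spec A ⟶ Spec C is a bialgebra map C → A.) -/
theorem result (R : Type u) [CommRing R] (A : Type u) [CommRing A] [HopfAlgebra R A]
    (hft : Algebra.FiniteType R A) (h : IsMultType R A) (n : ℕ) (hn : 0 < n)
    (J : Ideal A) [J.IsHopfIdeal R] (hJ : J = torsionIdeal R A n) :
    IsMultType R (A ⧸ J) ∧ Module.Finite R (A ⧸ J) := by
  classical
  have := hft
  obtain ⟨s, hs, hloc⟩ := h
  have hq : Algebra.FiniteType R (A ⧸ J) :=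
    Algebra.FiniteType.of_surjective (Ideal.Quotient.mkₐ R J) (Ideal.Quotient.mkₐ_surjective R J)
  have key : ∀ f ∈ s,
      IsMultTypeConst (Localization.Away f) (Localization.Away f ⊗[R] (A ⧸ J)) ∧
        Module.Finite (Localization.Away f) (Localization.Away f ⊗[R] (A ⧸ J)) := by
    intro f hf
    obtain ⟨R', _, _, hff, M, _, ⟨e⟩⟩ := hloc f hf
    have := hff
    obtain ⟨e'⟩ := Groth.Agent.H83.MultQuot.nonempty_equiv (R := R)
      (L := Localization.Away f) (R' := R') n J hJ e
    refine ⟨⟨R', inferInstance, inferInstance, hff, _, inferInstance, ⟨e'⟩⟩, ?_⟩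
    exact Groth.Agent.H83.MultTors.finite_of_triv e' hn
      (Groth.Agent.H83.MultTors.triv_baseChange _
        (Groth.Agent.H83.MultQuot.triv_quot n J hJ))
  refine ⟨⟨s, hs, fun f hf => (key f hf).1⟩, ?_⟩
  exact Module.Finite.of_localizationSpan' s hs (Rₚ := fun g => Localization.Away g.1)
    (Mₚ := fun g => Localization.Away g.1 ⊗[R] (A ⧸ J))
    (fun g => TensorProduct.mk R (Localization.Away g.1) (A ⧸ J) 1) (fun g => (key g.1 g.2).2)

end Groth.Agent.S5242
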