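import Groth.Statements.S5243
import Mathlib
import Groth.Agent.H83.DiagSub
import Groth.Agent.H83.TkGeneral

set_option autoImplicit false
universe u
open TensorProduct SGA3b
open SGA3b

namespace Groth.Agent.S5243

section Diag

variable {K : Type u} [CommRing K] {C : Type u} [CommRing C] [HopfAlgebra K C]
  {M : Type u} [CommGroup M]

theorem exists_map_eq_single (Φ : C →ₐc[K] MonoidAlgebra K M) (c : C) (m : M) :
    ∃ c' : C, Φ c' = MonoidAlgebra.single m ((Φ c).coeff m) := by
  classical
  let q : C →ₗ[K] K := (H83.DiagSub.lc m).comp (Φ : C →ₗ[K] MonoidAlgebra K M)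
  let p : C ⊗[K] C →ₗ[K] C := (TensorProduct.rid K C).toLinearMap.comp (LinearMap.lTensor C q)
  let p' : MonoidAlgebra K M ⊗[K] MonoidAlgebra K M →ₗ[K] MonoidAlgebra K M :=
    (TensorProduct.rid K (MonoidAlgebra K M)).toLinearMap.comp
      (LinearMap.lTensor (MonoidAlgebra K M) (H83.DiagSub.lc m))
  have hp : ∀ a b : C, p (a ⊗ₜ[K] b) = (Φ b).coeff m • a := by
    intro a b
    simp [p, q, H83.DiagSub.lc_apply]
  have hp' : ∀ a b : MonoidAlgebra K M, p' (a ⊗ₜ[K] b) = b.coeff m • a := by
    intro a b
    simp [p', H83.DiagSub.lc_apply]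
  have h1 : ∀ t : C ⊗[K] C, Φ (p t) =
      p' (TensorProduct.map (Φ : C →ₗ[K] MonoidAlgebra K M)
        (Φ : C →ₗ[K] MonoidAlgebra K M) t) := by
    intro t
    induction t using TensorProduct.induction_on with
    | zero => simp
    | tmul a b =>
      rw [hp, TensorProduct.map_tmul, map_smul]
      exact (hp' _ _).symm
    | add x y hx hy => rw [map_add, map_add, hx, hy, map_add, map_add]
  have h2 : ∀ z : MonoidAlgebra K M,
      p' (Coalgebra.comul (R := K) z) = MonoidAlgebra.single m (z.coeff m) := by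
    intro z
    induction z using MonoidAlgebra.induction_linear with
    | zero => simp
    | add f g hf hg =>
      rw [map_add, map_add, hf, hg, MonoidAlgebra.coeff_add, Finsupp.add_apply,
        MonoidAlgebra.single_add]
    | single n r =>
      rw [MonoidAlgebra.comul_single, CommSemiring.comul_apply, TensorProduct.map_tmul,
        MonoidAlgebra.lsingle_apply, MonoidAlgebra.lsingle_apply, hp',
        MonoidAlgebra.coeff_single, Finsupp.single_apply]
      split_ifs with h
      · subst h
        rw [MonoidAlgebra.smul_single, smul_eq_mul, mul_one]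
      · rw [zero_smul, MonoidAlgebra.single_zero]
  have h3 : TensorProduct.map (Φ : C →ₗ[K] MonoidAlgebra K M) (Φ : C →ₗ[K] MonoidAlgebra K M)
      (Coalgebra.comul (R := K) c) = Coalgebra.comul (R := K) (Φ c) :=
    CoalgHomClass.map_comp_comul_apply Φ c
  refine ⟨p (Coalgebra.comul (R := K) c), ?_⟩
  rw [h1, h3, h2]

theorem surjective_of_diag (Φ : C →ₐc[K] MonoidAlgebra K M)
    (hmono : ∀ (T : Type u) [CommRing T] [Algebra K T] (x y : MonoidAlgebra K M →ₐ[K] T),
      (∀ c, x (Φ c) = y (Φ c)) → x = y) : Function.Surjective Φ := by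
  classical
  have key : ∀ m : M, ∃ c : C, Φ c = MonoidAlgebra.single m (1 : K) := by
    intro m
    by_contra hne
    let I : Ideal K :=
      { carrier := {a | ∃ c, Φ c = MonoidAlgebra.single m a}
        zero_mem' := ⟨0, by rw [map_zero, MonoidAlgebra.single_zero]⟩
        add_mem' := by
          rintro a b ⟨c, hc⟩ ⟨c', hc'⟩
          exact ⟨c + c', by rw [map_add, hc, hc', MonoidAlgebra.single_add]⟩
        smul_mem' := by
          rintro r a ⟨c, hc⟩
          exact ⟨r • c, by rw [map_smul, hc, MonoidAlgebra.smul_single]⟩ }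
    have hImem : ∀ a, a ∈ I ↔ ∃ c, Φ c = MonoidAlgebra.single m a := fun a => Iff.rfl
    have hI : I ≠ ⊤ := by
      intro h
      apply hne
      have h1 : (1 : K) ∈ I := by rw [h]; exact Submodule.mem_top
      exact (hImem 1).1 h1
    obtain ⟨𝔪, h𝔪, hI𝔪⟩ := Ideal.exists_le_maximal I hI
    have h𝔪prime : 𝔪.IsPrime := h𝔪.isPrime
    let N : Subgroup M :=
      { carrier := {n | ∃ c a, Φ c = MonoidAlgebra.single n a ∧ a ∉ 𝔪}
        one_mem' := ⟨1, 1, by rw [map_one, MonoidAlgebra.one_def],
          (Ideal.ne_top_iff_one 𝔪).1 h𝔪.ne_top⟩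
        mul_mem' := by
          rintro n n' ⟨c, a, hc, ha⟩ ⟨c', a', hc', ha'⟩
          refine ⟨c * c', a * a', by rw [map_mul, hc, hc', MonoidAlgebra.single_mul_single], ?_⟩
          intro h
          rcases h𝔪prime.mem_or_mem h with h | h
          · exact ha h
          · exact ha' h
        inv_mem' := by
          rintro n ⟨c, a, hc, ha⟩
          refine ⟨HopfAlgebraStruct.antipode K c, a, ?_, ha⟩
          rw [← H83.Tk.bialgHom_antipode, hc, MonoidAlgebra.antipode_single]
          rfl }
    have hNmem : ∀ n, n ∈ N ↔ ∃ c a, Φ c = MonoidAlgebra.single n a ∧ a ∉ 𝔪 := fun n => Iff.rfl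
    have hcoeff : ∀ (c : C) (n : M), n ∉ N → (Φ c).coeff n ∈ 𝔪 := by
      intro c n hn
      by_contra h
      obtain ⟨c', hc'⟩ := exists_map_eq_single Φ c n
      exact hn ((hNmem n).2 ⟨c', _, hc', h⟩)
    have hmN : m ∉ N := by
      intro h
      obtain ⟨c, a, hc, ha⟩ := (hNmem m).1 h
      exact ha (hI𝔪 ((hImem a).2 ⟨c, hc⟩))
    have hk : (1 : K ⧸ 𝔪) ≠ 0 := by
      intro h
      have h' : (Ideal.Quotient.mk 𝔪 (1 : K)) = 0 := by rw [map_one]; exact h
      exact h𝔪.ne_top ((Ideal.eq_top_iff_one 𝔪).2 (Ideal.Quotient.eq_zero_iff_mem.1 h'))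
    have hsm : ∀ (r : K) (t : MonoidAlgebra (K ⧸ 𝔪) (M ⧸ N)), r ∈ 𝔪 → r • t = 0 := by
      intro r t hr
      apply MonoidAlgebra.coeff_injective
      ext q
      rw [MonoidAlgebra.coeff_smul, Finsupp.smul_apply, MonoidAlgebra.coeff_zero,
        Finsupp.zero_apply, Algebra.smul_def, Ideal.Quotient.algebraMap_eq,
        Ideal.Quotient.eq_zero_iff_mem.2 hr, zero_mul]
    let Fx : M →* MonoidAlgebra (K ⧸ 𝔪) (M ⧸ N) :=
      (MonoidAlgebra.of (K ⧸ 𝔪) (M ⧸ N)).comp (QuotientGroup.mk' N)
    have hFx : ∀ n, Fx n = MonoidAlgebra.single (QuotientGroup.mk' N n) 1 := fun n => rfl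
    have hxy : MonoidAlgebra.lift K (MonoidAlgebra (K ⧸ 𝔪) (M ⧸ N)) M Fx =
        MonoidAlgebra.lift K (MonoidAlgebra (K ⧸ 𝔪) (M ⧸ N)) M 1 := by
      apply hmono
      intro c
      have hz : ∀ z : MonoidAlgebra K M, (∀ n, n ∉ N → z.coeff n ∈ 𝔪) →
          MonoidAlgebra.lift K (MonoidAlgebra (K ⧸ 𝔪) (M ⧸ N)) M Fx z =
          MonoidAlgebra.lift K (MonoidAlgebra (K ⧸ 𝔪) (M ⧸ N)) M 1 z := by
        intro z hz
        have hsum : z = ∑ n ∈ z.coeff.support, MonoidAlgebra.single n (z.coeff n) := by
          conv_lhs => rw [← MonoidAlgebra.sum_coeff_single z]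
          rw [Finsupp.sum]
        rw [hsum, map_sum, map_sum]
        refine Finset.sum_congr rfl fun n _ => ?_
        rw [MonoidAlgebra.lift_single, MonoidAlgebra.lift_single]
        by_cases hn : n ∈ N
        · rw [hFx]
          have h1 : (QuotientGroup.mk' N n) = 1 := (QuotientGroup.eq_one_iff n).2 hn
          rw [h1, MonoidHom.one_apply, MonoidAlgebra.one_def]
        · rw [hsm _ _ (hz n hn), hsm _ _ (hz n hn)]
      exact hz (Φ c) (fun n hn => hcoeff c n hn)
    have h1 : Fx m = 1 := by
      have h0 := congrArg (fun f => f (MonoidAlgebra.single m (1 : K))) hxy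
      simp only [MonoidAlgebra.lift_single, one_smul, MonoidHom.one_apply] at h0
      exact h0
    rw [hFx, MonoidAlgebra.one_def] at h1
    have hm1 : QuotientGroup.mk' N m = 1 := by
      by_contra hne1
      have h2 : (MonoidAlgebra.single (QuotientGroup.mk' N m) (1 : K ⧸ 𝔪)).coeff
          (QuotientGroup.mk' N m) =
          (MonoidAlgebra.single (1 : M ⧸ N) (1 : K ⧸ 𝔪)).coeff (QuotientGroup.mk' N m) := by
        rw [h1]
      rw [MonoidAlgebra.coeff_single, MonoidAlgebra.coeff_single, Finsupp.single_eq_same,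
        Finsupp.single_apply, if_neg (fun h => hne1 h.symm)] at h2
      exact hk h2
    exact hmN ((QuotientGroup.eq_one_iff m).1 hm1)
  intro z
  induction z using MonoidAlgebra.induction_linear with
  | zero => exact ⟨0, map_zero _⟩
  | add f g hf hg =>
    obtain ⟨a, rfl⟩ := hf
    obtain ⟨b, rfl⟩ := hg
    exact ⟨a + b, map_add _ _ _⟩
  | single n r =>
    obtain ⟨c, hc⟩ := key n
    exact ⟨r • c, by rw [map_smul, hc, MonoidAlgebra.smul_single, smul_eq_mul, mul_one]⟩

end Diag

section Transfer

variable {R L R' : Type u} [CommRing R] [CommRing L] [CommRing R'] [Algebra R L] [Algebra L R']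
  {A : Type u} [CommRing A] [HopfAlgebra R A] {C : Type u} [CommRing C] [HopfAlgebra R C]
  {M : Type u} [CommGroup M]

theorem T_mul (e : (R' ⊗[L] (L ⊗[R] A)) ≃ₐc[R'] MonoidAlgebra R' M) (a a' : A) :
    H83.DiagSub.T e (a * a') = H83.DiagSub.T e a * H83.DiagSub.T e a' := by
  unfold H83.DiagSub.T
  rw [← map_mul, Algebra.TensorProduct.tmul_mul_tmul, Algebra.TensorProduct.tmul_mul_tmul,
    mul_one, mul_one]

theorem base_mono (e : (R' ⊗[L] (L ⊗[R] A)) ≃ₐc[R'] MonoidAlgebra R' M) (φ : C →ₐc[R] A)
    (hmono : ∀ (T : Type u) [CommRing T] [Algebra R T],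
      Function.Injective (fun x : A →ₐ[R] T => x.comp (φ : C →ₐ[R] A)))
    (T : Type u) [CommRing T] [Algebra R' T] (x y : MonoidAlgebra R' M →ₐ[R'] T)
    (hxy : ∀ c : C, x (H83.DiagSub.T e (φ c)) = y (H83.DiagSub.T e (φ c))) : x = y := by
  let algRT : Algebra R T :=
    ((algebraMap R' T).comp ((algebraMap L R').comp (algebraMap R L))).toAlgebra
  have halg : ∀ r : R, algebraMap R T r =
      algebraMap R' T (H83.DiagSub.rho (L := L) (R' := R') r) := fun r => rfl
  let mkHom : (MonoidAlgebra R' M →ₐ[R'] T) → (A →ₐ[R] T) := fun x =>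
    { toFun := fun a => x (H83.DiagSub.T e a)
      map_one' := by
        show x (H83.DiagSub.T e 1) = 1
        rw [H83.DiagSub.T_one, map_one]
      map_mul' := fun a a' => by
        show x (H83.DiagSub.T e (a * a')) = x (H83.DiagSub.T e a) * x (H83.DiagSub.T e a')
        rw [T_mul, map_mul]
      map_zero' := by
        show x (H83.DiagSub.T e 0) = 0
        rw [H83.DiagSub.T_zero, map_zero]
      map_add' := fun a a' => by
        show x (H83.DiagSub.T e (a + a')) = x (H83.DiagSub.T e a) + x (H83.DiagSub.T e a')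
        rw [H83.DiagSub.T_add, map_add]
      commutes' := fun r => by
        show x (H83.DiagSub.T e (algebraMap R A r)) = algebraMap R T r
        have h0 : algebraMap R A r = r • (1 : A) := Algebra.algebraMap_eq_smul_one r
        rw [h0, H83.DiagSub.T_smul, H83.DiagSub.T_one, map_smul, map_one, halg,
          Algebra.smul_def, mul_one] }
  have h1 : mkHom x = mkHom y := by
    apply hmono T
    apply AlgHom.ext
    intro c
    exact hxy c
  have h2 : ∀ a : A, x (H83.DiagSub.T e a) = y (H83.DiagSub.T e a) := fun a =>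
    DFunLike.congr_fun h1 a
  have h3 : ∀ w : R' ⊗[L] (L ⊗[R] A), x (e w) = y (e w) := by
    intro w
    induction w using TensorProduct.induction_on with
    | zero => rw [map_zero, map_zero, map_zero]
    | tmul r' v =>
      induction v using TensorProduct.induction_on with
      | zero => rw [TensorProduct.tmul_zero, map_zero, map_zero, map_zero]
      | tmul l a =>
        have h4 : r' ⊗ₜ[L] (l ⊗ₜ[R] a) =
            (r' * algebraMap L R' l) • ((1 : R') ⊗ₜ[L] ((1 : L) ⊗ₜ[R] a)) := by
          rw [TensorProduct.smul_tmul', smul_eq_mul, mul_one, mul_comm, ← Algebra.smul_def,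
            TensorProduct.smul_tmul, TensorProduct.smul_tmul', smul_eq_mul, mul_one]
        rw [h4, map_smul, map_smul, map_smul]
        exact congrArg _ (h2 a)
      | add v v' hv hv' =>
        rw [TensorProduct.tmul_add, map_add, map_add, map_add, hv, hv']
    | add w w' hw hw' => rw [map_add, map_add, map_add, hw, hw']
  apply AlgHom.ext
  intro z
  obtain ⟨w, rfl⟩ := e.surjective z
  exact h3 w

end Transfer


/-- Let G = Spec A be an R-group of multiplicative type, H = Spec C an affine R-group and u : G ⟶ H a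
homomorphism of R-groups, given by the bialgebra map φ : C → A, which is a monomorphism: for every
R-algebra T the induced map on T-valued points G(T) → H(T) is injective. Then u is a closed
immersion, i.e. φ is surjective. (The published statement also asserts that the quotient of H by G
exists and is affine over the base, and that H is a torsor over it; this row states only that u is a
closed immersion.) (Affine group schemes over an affine base are taken in Hopf-algebra form; base
change is the tensor product; a homomorphism of groups Spec A ⟶ Spec C is a bialgebra map C → A.) -/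
theorem result (R : Type u) [CommRing R] (A : Type u) [CommRing A] [HopfAlgebra R A]
    (h : IsMultType R A) (C : Type u) [CommRing C] [HopfAlgebra R C] (φ : C →ₐc[R] A)
    (hmono : ∀ (T : Type u) [CommRing T] [Algebra R T],
      Function.Injective (fun x : A →ₐ[R] T => x.comp (φ : C →ₐ[R] A))) :
    Function.Surjective φ := by
  obtain ⟨s, hs, hloc⟩ := h
  intro x
  have hx : x ∈ LinearMap.range (φ : C →ₗ[R] A) := by
    apply Submodule.mem_of_span_eq_top_of_smul_pow_mem _ s hs x
    intro f
    obtain ⟨R', _, _, hff, M, _, ⟨e⟩⟩ := hloc f.1 f.2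
    have := hff
    let φ₁ : Localization.Away f.1 ⊗[R] C →ₐc[Localization.Away f.1]
        Localization.Away f.1 ⊗[R] A :=
      Bialgebra.TensorProduct.map (BialgHom.id _ _) φ
    let φ₂ : R' ⊗[Localization.Away f.1] (Localization.Away f.1 ⊗[R] C) →ₐc[R']
        R' ⊗[Localization.Away f.1] (Localization.Away f.1 ⊗[R] A) :=
      Bialgebra.TensorProduct.map (BialgHom.id R' R') φ₁
    let Φ : R' ⊗[Localization.Away f.1] (Localization.Away f.1 ⊗[R] C) →ₐc[R']
        MonoidAlgebra R' M := e.toBialgHom.comp φ₂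
    have hΦsurj : Function.Surjective Φ := by
      refine @surjective_of_diag R' _
        (R' ⊗[Localization.Away f.1] (Localization.Away f.1 ⊗[R] C)) _ _ M _ Φ ?_
      intro T _ _ x y hxy
      exact base_mono e φ hmono T x y
        (fun c => hxy ((1 : R') ⊗ₜ[Localization.Away f.1] ((1 : Localization.Away f.1) ⊗ₜ[R] c)))
    have hφ₂surj : Function.Surjective φ₂ := by
      intro w
      obtain ⟨v, hv⟩ := hΦsurj (e w)
      exact ⟨v, EquivLike.injective e hv⟩
    have hφ₁surj : Function.Surjective φ₁ := by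
      have h0 : ∀ v, (LinearMap.lTensor R'
          (φ₁ : Localization.Away f.1 ⊗[R] C →ₗ[Localization.Away f.1]
            Localization.Away f.1 ⊗[R] A)) v = φ₂ v := by
        intro v
        induction v using TensorProduct.induction_on with
        | zero => rw [map_zero, map_zero]
        | tmul a b => rfl
        | add a b ha hb => rw [map_add, map_add, ha, hb]
      have h1 : Function.Surjective (LinearMap.lTensor R'
          (φ₁ : Localization.Away f.1 ⊗[R] C →ₗ[Localization.Away f.1]
            Localization.Away f.1 ⊗[R] A)) := by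
        intro w
        obtain ⟨v, hv⟩ := hφ₂surj w
        exact ⟨v, (h0 v).trans hv⟩
      exact (Module.FaithfullyFlat.lTensor_surjective_iff_surjective (Localization.Away f.1) R'
        (φ₁ : Localization.Away f.1 ⊗[R] C →ₗ[Localization.Away f.1]
            Localization.Away f.1 ⊗[R] A)).1 h1
    obtain ⟨z, hz⟩ := hφ₁surj ((1 : Localization.Away f.1) ⊗ₜ[R] x)
    obtain ⟨⟨c, t⟩, hct⟩ := IsLocalizedModule.surj (Submonoid.powers f.1)
      (TensorProduct.mk R (Localization.Away f.1) C 1) z
    obtain ⟨t, n, rfl⟩ := t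
    have hct' : (f.1 ^ n) • z = (1 : Localization.Away f.1) ⊗ₜ[R] c := hct
    have h2 : (TensorProduct.mk R (Localization.Away f.1) A 1) (f.1 ^ n • x - φ c) = 0 := by
      show (1 : Localization.Away f.1) ⊗ₜ[R] (f.1 ^ n • x - φ c) = 0
      have h3 : φ₁ ((f.1 ^ n) • z) = (f.1 ^ n) • φ₁ z := by
        rw [← algebraMap_smul (Localization.Away f.1) (f.1 ^ n) z, map_smul, algebraMap_smul]
      have h4 : φ₁ ((1 : Localization.Away f.1) ⊗ₜ[R] c) =
          (1 : Localization.Away f.1) ⊗ₜ[R] φ c := rfl
      rw [TensorProduct.tmul_sub, TensorProduct.tmul_smul, ← hz, ← h3, hct', h4, sub_self]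
    obtain ⟨⟨_, j, rfl⟩, hj⟩ := (IsLocalizedModule.eq_zero_iff (Submonoid.powers f.1)
      (TensorProduct.mk R (Localization.Away f.1) A 1)).1 h2
    have hj' : f.1 ^ j • (f.1 ^ n • x - φ c) = 0 := hj
    refine ⟨j + n, f.1 ^ j • c, ?_⟩
    rw [smul_sub, sub_eq_zero] at hj'
    rw [map_smul, pow_add, mul_smul, hj']
    rfl
  obtain ⟨c, hc⟩ := hx
  exact ⟨c, hc⟩

end Groth.Agent.S5243
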