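import Groth.Statements.S5270
import Groth.Agent.H26.MultNilMain
import Mathlib.RingTheory.AdicCompletion.Noetherian
import Mathlib.RingTheory.Filtration

set_option autoImplicit false
universe u
open TensorProduct SGA3b
open SGA3b

namespace Groth.Agent.S5270

/-- Injectivity of the map to formal homomorphisms. Let A be a Noetherian ring, separated and complete
for the I-adic topology, H = Spec B an isotrivial A-group of multiplicative type and G = Spec C an
affine A-group. If two homomorphisms H ⟶ G, given by bialgebra maps φ, ψ : C → B, have the same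
reduction modulo I^(n+1) for every n ≥ 0, then φ = ψ. (Affine group schemes over an affine base are
taken in Hopf-algebra form; base change is the tensor product; a homomorphism of groups Spec A ⟶
Spec C is a bialgebra map C → A.) -/
theorem result (A : Type u) [CommRing A] [IsNoetherianRing A] (I : Ideal A) [IsAdicComplete I A]
    (B : Type u) [CommRing B] [HopfAlgebra A B] (hH : IsIsotrivial A B)
    (C : Type u) [CommRing C] [HopfAlgebra A C] (φ ψ : C →ₐc[A] B)
    (h : ∀ (n : ℕ) (c : C), (1 : A ⧸ I ^ (n + 1)) ⊗ₜ[A] (φ c) = (1 : A ⧸ I ^ (n + 1)) ⊗ₜ[A] (ψ c)) :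
    φ = ψ := by
  obtain ⟨A', _, _, hét, hfin, hff, M, _, ⟨e⟩⟩ := hH
  haveI := hfin
  haveI := hff
  apply DFunLike.ext
  intro c
  rw [← sub_eq_zero]
  have hd : ∀ n, φ c - ψ c ∈ (I ^ (n + 1)) • (⊤ : Submodule A B) :=
    fun n => Groth.Agent.H26.MultNil.close_of_tmul_eq _ (h n c)
  apply Module.FaithfullyFlat.tensorProduct_mk_injective (A := A) (B := A') B
  rw [map_zero]
  show (1 : A') ⊗ₜ[A] (φ c - ψ c) = 0
  apply EquivLike.injective e
  rw [map_zero]
  refine MonoidAlgebra.ext (Finsupp.ext fun m => ?_)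
  have hm : ∀ n, (e ((1 : A') ⊗ₜ[A] (φ c - ψ c))).coeff m ∈
      (I ^ (n + 1)).map (algebraMap A A') := by
    intro n
    have h1 := Groth.Agent.H26.MultNil.tmul_mem A A' (I ^ (n + 1)) (1 : A') (hd n)
    have h2 := Groth.Agent.H26.MultNil.lin_map_mem _ (e.toCoalgEquiv.toLinearEquiv.toLinearMap) h1
    exact Groth.Agent.H26.MultNil.lin_mem _ (Groth.Agent.H26.MultNil.pr m) h2
  have hk := Ideal.iInf_pow_smul_eq_bot_of_le_jacobson (M := A') I
    (IsAdicComplete.le_jacobson_bot I)
  have hmem : (e ((1 : A') ⊗ₜ[A] (φ c - ψ c))).coeff m ∈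
      (⨅ i : ℕ, I ^ i • ⊤ : Submodule A A') := by
    rw [Submodule.mem_iInf]
    intro i
    rw [Ideal.smul_top_eq_map]
    exact Ideal.map_mono (Ideal.pow_le_pow_right (Nat.le_succ i)) (hm i)
  rw [hk] at hmem
  simpa using hmem

end Groth.Agent.S5270
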