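import Groth.Statements.S5275
import Groth.Agent.H43.MTInst
import Groth.Agent.H1.HomDiag.Crit
import Groth.Agent.H58.DSmapFF

set_option autoImplicit false
open CategoryTheory MonoidalCategory CartesianMonoidalCategory MonObj GrpObj AlgebraicGeometry
universe u
open SGA3x

namespace Groth.Agent.S5275

/-- Let u : G ⟶ H be a homomorphism of S-groups of multiplicative type and of finite type. Then the set
U of points s ∈ S such that u_s : G_s ⟶ H_s is an isomorphism is open and closed in S, and the
homomorphism G|_U ⟶ H|_U induced above U is an isomorphism. -/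
theorem result {S : Scheme.{u}} (G H : Over S) [GrpObj G] [GrpObj H]
    (hG : SGA3x.IsMultTypeFT G) (hH : SGA3x.IsMultTypeFT H) (u : G ⟶ H) [IsMonHom u] :
    ∃ U : S.Opens, IsClosed (U : Set S) ∧
      (∀ s : S, s ∈ U ↔ IsIso ((Over.pullback (S.fromSpecResidueField s)).map u).left) ∧
      IsIso ((Over.pullback U.ι).map u).left := by
  exact Groth.Agent.H43.MT.locus (MorphismProperty.isomorphisms Scheme.{u})
    (fun {N M} _ _ φ => Function.Bijective φ)
    (fun X {N M} _ _ φ h => Groth.Agent.H1.HomDiag.isIso_of_bijective X φ h)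
    (fun X _ {N M} _ _ φ h => Groth.Agent.H1.HomDiag.bijective_of_isIso X φ h)
    G H hG hH u

end Groth.Agent.S5275
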