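import Groth.Statements.S5278
import Mathlib

set_option autoImplicit false
open CategoryTheory AlgebraicGeometry
universe u
open SGA3x

namespace Groth.Agent.S5278



/-- purely topological core -/
theorem topo {α β : Type*} [TopologicalSpace α] [TopologicalSpace β] [ConnectedSpace β]
    (f : α → β) (hc : IsClosedMap f) (ho : IsOpenMap f) (x : β) (hfin : (f ⁻¹' {x}).Finite)
    (c : α) : ∃ y, f y = x ∧ y ∈ connectedComponent c := by
  classical
  -- Lemma A: nonempty clopen meets the fibre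
  have hA : ∀ U : Set α, IsClopen U → U.Nonempty → ∃ y ∈ U, f y = x := by
    intro U hU hne
    have h1 : IsClopen (f '' U) := ⟨hc _ hU.1, ho _ hU.2⟩
    have h2 : f '' U = Set.univ := h1.eq_univ (hne.image f)
    have : x ∈ f '' U := by rw [h2]; trivial
    obtain ⟨y, hy, rfl⟩ := this
    exact ⟨y, hy, rfl⟩
  -- choose clopen U₀ ∋ c with U₀ ∩ F minimal
  have hex : ∃ n : ℕ, ∃ U : Set α, IsClopen U ∧ c ∈ U ∧ (U ∩ f ⁻¹' {x}).ncard = n :=
    ⟨_, Set.univ, isClopen_univ, trivial, rfl⟩
  obtain ⟨U₀, hU₀, hcU₀, hmin⟩ : ∃ U₀ : Set α, IsClopen U₀ ∧ c ∈ U₀ ∧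
      ∀ U : Set α, IsClopen U → c ∈ U → (U₀ ∩ f ⁻¹' {x}).ncard ≤ (U ∩ f ⁻¹' {x}).ncard := by
    obtain ⟨U, ⟨hU, hcU, hn⟩⟩ := Nat.find_spec hex
    refine ⟨U, hU, hcU, fun V hV hcV => ?_⟩
    rw [hn]
    exact Nat.find_min' hex ⟨V, hV, hcV, rfl⟩
  -- U₀ ⊆ every clopen containing c
  have hsub : ∀ U : Set α, IsClopen U → c ∈ U → U₀ ⊆ U := by
    intro U hU hcU
    by_contra hns
    have hne : (U₀ \ U).Nonempty := by
      rw [Set.not_subset] at hns
      obtain ⟨a, ha, hna⟩ := hns
      exact ⟨a, ha, hna⟩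
    obtain ⟨y, hy, hfy⟩ := hA (U₀ \ U) (hU₀.diff hU) hne
    have hlt : ((U₀ ∩ U) ∩ f ⁻¹' {x}).ncard < (U₀ ∩ f ⁻¹' {x}).ncard := by
      apply Set.ncard_lt_ncard _ (hfin.subset Set.inter_subset_right)
      refine ⟨fun a ha => ⟨ha.1.1, ha.2⟩, fun hcon => ?_⟩
      have : y ∈ U₀ ∩ f ⁻¹' {x} := ⟨hy.1, hfy⟩
      exact hy.2 (hcon this).1.2
    have h3 := hmin (U₀ ∩ U) (hU₀.inter hU) ⟨hcU₀, hcU⟩
    omega
  -- U₀ is preconnected
  have hconn : IsPreconnected U₀ := by
    rw [isPreconnected_iff_subset_of_disjoint_closed]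
    intro u v hu hv huv hdisj
    -- u ∩ U₀ and v ∩ U₀ are closed, partition U₀
    by_cases hcu : c ∈ u
    · left
      -- U₀ ∩ u is clopen: closed clear; open since = U₀ \ v
      have heq : U₀ ∩ u = U₀ \ v := by
        ext a
        constructor
        · rintro ⟨ha, hau⟩
          refine ⟨ha, fun hav => ?_⟩
          have : a ∈ U₀ ∩ (u ∩ v) := ⟨ha, hau, hav⟩
          rw [hdisj] at this
          exact this
        · rintro ⟨ha, hav⟩
          rcases huv ha with h | h
          · exact ⟨ha, h⟩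
          · exact absurd h hav
      have hclopen : IsClopen (U₀ ∩ u) :=
        ⟨hU₀.1.inter hu, by rw [heq]; exact hU₀.2.sdiff hv⟩
      exact fun a ha => (hsub _ hclopen ⟨hcU₀, hcu⟩ ha).2
    · right
      have hcv : c ∈ v := (huv hcU₀).resolve_left hcu
      have heq : U₀ ∩ v = U₀ \ u := by
        ext a
        constructor
        · rintro ⟨ha, hav⟩
          refine ⟨ha, fun hau => ?_⟩
          have : a ∈ U₀ ∩ (u ∩ v) := ⟨ha, hau, hav⟩
          rw [hdisj] at this
          exact this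
        · rintro ⟨ha, hau⟩
          rcases huv ha with h | h
          · exact absurd h hau
          · exact ⟨ha, h⟩
      have hclopen : IsClopen (U₀ ∩ v) :=
        ⟨hU₀.1.inter hv, by rw [heq]; exact hU₀.2.sdiff hu⟩
      exact fun a ha => (hsub _ hclopen ⟨hcU₀, hcv⟩ ha).2
  have hU₀cc : U₀ ⊆ connectedComponent c := hconn.subset_connectedComponent hcU₀
  obtain ⟨y, hy, hfy⟩ := hA U₀ hU₀ ⟨c, hcU₀⟩
  exact ⟨y, hfy, hU₀cc hy⟩

theorem main {X X' : Scheme.{u}} [ConnectedSpace X] (f : X' ⟶ X)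
    [IsFinite f] [Etale f] (x : X) (c : X') :
    ∃ x' : X', f.base x' = x ∧ x' ∈ connectedComponent c := by
  have hc : IsClosedMap f.base := f.isClosedMap
  have ho : IsOpenMap f.base := f.isOpenMap
  exact topo f.base hc ho x (f.finite_preimage_singleton x) c


/-- Let X be a connected scheme, f : X' ⟶ X a finite etale morphism and x a point of X. Then every
connected component of X' meets the fibre of f over x; equivalently the map from the connected
components of the fibre (or of the geometric fibre) to those of X' is surjective. -/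
theorem result {X X' : Scheme.{u}} [ConnectedSpace X] (f : X' ⟶ X)
    [IsFinite f] [Etale f] (x : X) (c : X') :
    ∃ x' : X', f.base x' = x ∧ x' ∈ connectedComponent c := by
  exact main f x c

end Groth.Agent.S5278
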