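import Groth.Statements.S5280
import Groth.Agent.S5279

set_option autoImplicit false
open CategoryTheory MonoidalCategory CartesianMonoidalCategory MonObj GrpObj AlgebraicGeometry
universe u
open SGA3x

namespace Groth.Agent.S5280
theorem grp_conj {Γ : Type*} [Group Γ] (a b h : Γ) :
    ((a * b) * h) * (a * b)⁻¹ = (a * ((b * h) * b⁻¹)) * a⁻¹ := by group

section Conj
variable {S : Scheme.{u}} {G H : Over S} [GrpObj G] [GrpObj H] (u : G ⟶ H) [IsMonHom u]

/-- `(g, h) ↦ u(g) h u(g)⁻¹`. -/
noncomputable def conjMor : G ⊗ H ⟶ H := ((fst G H ≫ u) * snd G H) * (fst G H ≫ u)⁻¹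

theorem comp_conjMor {T : Over S} (f : T ⟶ G ⊗ H) :
    f ≫ conjMor u = (((f ≫ fst G H) ≫ u) * (f ≫ snd G H)) * ((f ≫ fst G H) ≫ u)⁻¹ := by
  simp only [conjMor, MonObj.comp_mul, GrpObj.comp_inv, Category.assoc]

theorem conjMor_one : (η[G] ▷ H) ≫ conjMor u = (λ_ H).hom := by
  rw [comp_conjMor, whiskerRight_fst, whiskerRight_snd, Category.assoc, IsMonHom.one_hom]
  have h1 : fst (𝟙_ (Over S)) H ≫ η[H] = 1 := by
    rw [Hom.one_def]
    congr 1
  rw [h1, inv_one, _root_.mul_one, _root_.one_mul, leftUnitor_hom]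

theorem conjMor_mul :
    (μ[G] ▷ H) ≫ conjMor u = (α_ G G H).hom ≫ (G ◁ conjMor u) ≫ conjMor u := by
  have hμ : μ[G] = fst G G * snd G G := by
    rw [Hom.mul_def, lift_fst_snd, Category.id_comp]
  have e1 : ((μ[G] ▷ H) ≫ fst G H) ≫ u =
      ((fst (G ⊗ G) H ≫ fst G G) ≫ u) * ((fst (G ⊗ G) H ≫ snd G G) ≫ u) := by
    rw [whiskerRight_fst, hμ, MonObj.comp_mul, MonObj.mul_comp]
  have e2 : (((α_ G G H).hom ≫ (G ◁ conjMor u)) ≫ fst G H) ≫ u =
      (fst (G ⊗ G) H ≫ fst G G) ≫ u := by
    simp only [Category.assoc, whiskerLeft_fst_assoc, associator_hom_fst_assoc]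
  have e3 : ((α_ G G H).hom ≫ (G ◁ conjMor u)) ≫ snd G H =
      ((((fst (G ⊗ G) H ≫ snd G G) ≫ u) * snd (G ⊗ G) H) *
        ((fst (G ⊗ G) H ≫ snd G G) ≫ u)⁻¹) := by
    rw [Category.assoc, whiskerLeft_snd, ← Category.assoc, comp_conjMor]
    simp only [Category.assoc, associator_hom_snd_fst, associator_hom_snd_snd]
  rw [comp_conjMor, e1, whiskerRight_snd, ← Category.assoc, comp_conjMor, e2, e3]
  exact grp_conj _ _ _

/-- the conjugation action of `G` on `H` through `u`. -/
noncomputable def conjAct : AlgGrp.Action G H where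
  act := conjMor u
  one_act := conjMor_one u
  mul_act := conjMor_mul u

end Conj


/-- Let i₀ : S₀ ⟶ S be a closed immersion whose ideal is locally nilpotent (nilpotent on each member of
an affine open cover of S; in particular S₀ and S have the same underlying space), u : G ⟶ H a
homomorphism of S-groups with G of multiplicative type (fpqc-locally on S isomorphic, as a group, to
diagonalisable groups D(M), M allowed to vary and taken in Type 0) and H locally of finite
presentation over S. If the restriction u₀ of u to S₀ is central (u(g) commutes with h for all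
points g of G and h of H defined over an S₀-scheme), then u is central. -/
theorem result {S S₀ : Scheme.{u}} (i₀ : S₀ ⟶ S) [IsClosedImmersion i₀]
    (hnil : ∀ x : S, ∃ U : S.affineOpens, x ∈ (U : S.Opens) ∧ IsNilpotent (i₀.ker.ideal U))
    (G H : Over S) [GrpObj G] [GrpObj H] (hG : TwC.Locally S TwC.Topology.fpqc (fun S' f => ∃ (M : Type) (_ : AddCommGroup M), Nonempty (Grp.mk (Red.bc f G) ≅ Grp.mk (Red.DS S' M))))
    [LocallyOfFinitePresentation H.hom] (u : G ⟶ H) [IsMonHom u]
    (h0 : ∀ (Y : Over S) (p : Y ⟶ Over.mk i₀) (g : Y ⟶ G) (h : Y ⟶ H), (g ≫ u) * h = h * (g ≫ u)) :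
    ∀ (Y : Over S) (g : Y ⟶ G) (h : Y ⟶ H), (g ≫ u) * h = h * (g ≫ u) := by
  have key := Groth.Agent.S5279.result i₀ hnil G H hG (conjAct u) (by
    intro Y p g h
    show lift g h ≫ conjMor u = h
    rw [comp_conjMor, lift_fst, lift_snd, h0 Y p g h]
    exact _root_.mul_inv_cancel_right _ _)
  intro Y g h
  have h1 := key Y g h
  change lift g h ≫ conjMor u = h at h1
  rw [comp_conjMor, lift_fst, lift_snd] at h1
  exact (mul_inv_eq_iff_eq_mul.mp h1)

end Groth.Agent.S5280
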