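import Groth.Statements.S5284
import Groth.Agent.H93.FreeCore
import Groth.Agent.H93.FreeD1
import Groth.Agent.H33.Free_D2
import Groth.Agent.H19.Free_O

set_option autoImplicit false
open CategoryTheory MonoidalCategory CartesianMonoidalCategory MonObj GrpObj AlgebraicGeometry
universe u
open SGA3x

namespace Groth.Agent.S5284

/-- Let G be an S-group of multiplicative type (fpqc-locally on S isomorphic, as a group, to
diagonalisable groups D(M), M allowed to vary and taken in Type 0) acting on an S-scheme X which is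
affine over S, the action being free (a point g of G fixing a point x of X is the unit). Then the
graph morphism G ×_S X ⟶ X ×_S X, (g, x) ↦ (g·x, x), is a closed immersion; and for every section σ
of X over S the orbit morphism G ⟶ X, g ↦ g·σ, is a closed immersion. -/
theorem result {S : Scheme.{u}} (G X : Over S) [GrpObj G]
    (hG : TwC.Locally S TwC.Topology.fpqc (fun S' f => ∃ (M : Type) (_ : AddCommGroup M), Nonempty (Grp.mk (Red.bc f G) ≅ Grp.mk (Red.DS S' M)))) (hX : IsAffineHom X.hom) (a : AlgGrp.Action G X)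
    (hfree : ∀ (Y : Over S) (g : Y ⟶ G) (x : Y ⟶ X), lift g x ≫ a.act = x → g = 1) :
    IsClosedImmersion (lift a.act (snd G X)).left ∧
      ∀ σ : 𝟙_ (Over S) ⟶ X, IsClosedImmersion (a.orbitMap σ).left := by
  have h1 : IsClosedImmersion (lift a.act (snd G X)).left := by
    obtain ⟨S', f, hflat, hsurj, hqc, hloc⟩ := hG
    choose W hW hP using hloc
    refine Groth.Agent.H93.FreeD1.closedImm_of_locally f hflat hsurj hqc W hW (lift a.act (snd G X)).left (X ⊗ X).hom
      (fun s' => ?_)
    obtain ⟨M, instM, ⟨E⟩⟩ := hP s'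
    let e : Red.bc ((W s').ι ≫ f) G ≅ Red.DS (W s') M := (Grp.forget _).mapIso E
    have : IsMonHom e.hom := (inferInstance : IsMonHom E.hom.hom.hom)
    apply Groth.Agent.H33.Free_D2.bc_graph ((W s').ι ≫ f) a
    refine Groth.Agent.H93.FreeCore.core e (a.bc ((W s').ι ≫ f)) ?aff ?free
    case aff =>
      exact (isAffineHom_isStableUnderBaseChange.{u}).of_isPullback
        (IsPullback.of_hasPullback X.hom ((W s').ι ≫ f)) hX
    case free =>
      intro Y' g' x' hgx
      obtain ⟨g, rfl⟩ := ((Over.mapPullbackAdj ((W s').ι ≫ f)).homEquiv Y' G).surjective g'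
      obtain ⟨x, rfl⟩ := ((Over.mapPullbackAdj ((W s').ι ≫ f)).homEquiv Y' X).surjective x'
      rw [AlgGrp.Action.lift_homEquiv_bc_act] at hgx
      have hg1 := hfree _ g x (((Over.mapPullbackAdj ((W s').ι ≫ f)).homEquiv Y' X).injective hgx)
      rw [hg1]
      have h := AlgGrp.Action.homEquiv_mul (f := (W s').ι ≫ f) (G := G) (T' := Y')
        (1 : (Over.map ((W s').ι ≫ f)).obj Y' ⟶ G) 1
      rw [_root_.mul_one] at h
      refine (mul_left_cancel (a := (Over.mapPullbackAdj ((W s').ι ≫ f)).homEquiv Y' G 1) ?_).symm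
      rw [_root_.mul_one]
      exact h
  exact ⟨h1, fun σ => Groth.Agent.H19.Free_O.orbit_of_graph a h1 σ⟩

end Groth.Agent.S5284
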