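import Groth.Statements.S5308
import Groth.Agent.H1.TwConst.Isotrivial

set_option autoImplicit false
open CategoryTheory MonoidalCategory CartesianMonoidalCategory MonObj GrpObj AlgebraicGeometry
universe u
open SGA3x

namespace Groth.Agent.S5308

/-- (i) ⇒ (ii). Let R be a commutative twisted constant S-group which is isotrivial (it becomes a
constant group over the open and closed pieces of one finite etale surjective S' ⟶ S). Then R is a
union of open and closed subschemes which are quasi-compact, indeed finite, over S: every point of R
has an open and closed neighbourhood U in R with U ⟶ S finite. -/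
theorem result {S : Scheme.{u}} (R : Over S) [GrpObj R]
    (hcomm : ∀ (X : Over S) (a b : X ⟶ R), a * b = b * a) (hR : TwC.IsTwConstGrp TwC.Topology.finiteEtale R) (x : R.left) :
    ∃ U : R.left.Opens, x ∈ U ∧ IsClosed (U : Set R.left) ∧ IsFinite (U.ι ≫ R.hom) := by
  have h : TwC.IsTwConst TwC.Topology.finiteEtale R := by
    obtain ⟨S', f, hfin, het, hsurj, hloc⟩ := hR
    refine ⟨S', f, hfin, het, hsurj, fun s' => ?_⟩
    obtain ⟨U, hU, hUcl, M, _, e, _⟩ := hloc s'
    exact ⟨U, hU, hUcl, M, ⟨e⟩⟩
  exact Groth.Agent.H1.TwConst.exists_clopen_finite R h x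

end Groth.Agent.S5308
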