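import Groth.Statements.S5310
import Groth.Agent.H40.SubgrpLocus

set_option autoImplicit false
universe u
open CategoryTheory CategoryTheory.Limits MonoidalCategory CartesianMonoidalCategory MonObj GrpObj AlgebraicGeometry
open SGA3

namespace Groth.Agent.S5310

/-- Let u : G → H be a homomorphism of S-group schemes, with G or H flat over S and G or H locally of
finite presentation over S. Let P be one of the properties 'flat and locally of finite
presentation', 'smooth', 'etale', and let V be the largest open subscheme of G on which the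
restriction of u has P. Then the image U of V in S is open and V is an open subgroup scheme of G
over U: V contains the unit point of every fibre of G that it meets, V is stable under the inversion
of G, and the product of a point of G ×_S G whose two projections lie in V lies in V. -/
theorem result (S : Scheme.{u}) (G H : Over S) [GrpObj G] [GrpObj H]
    (u : G ⟶ H) [IsMonHom u]
    (hfl : Flat G.hom ∨ Flat H.hom) (hfp : LocallyOfFinitePresentation G.hom ∨ LocallyOfFinitePresentation H.hom)
    (P : MorphismProperty Scheme.{u})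
    (hP : (∀ (X Y : Scheme.{u}) (f : X ⟶ Y), P f ↔ (Flat f ∧ LocallyOfFinitePresentation f)) ∨
      (∀ (X Y : Scheme.{u}) (f : X ⟶ Y), P f ↔ Smooth f) ∨ (∀ (X Y : Scheme.{u}) (f : X ⟶ Y), P f ↔ Etale f))
    (V : G.left.Opens) (hV : P (V.ι ≫ u.left)) (hmax : ∀ W : G.left.Opens, P (W.ι ≫ u.left) → W ≤ V) :
    IsOpen (G.hom.base '' (V : Set G.left)) ∧
    (∀ g ∈ V, ∀ p : ↥(𝟙_ (Over S)).left, (𝟙_ (Over S)).hom.base p = G.hom.base g → η[G].left.base p ∈ V) ∧
    (∀ g ∈ V, ι[G].left.base g ∈ V) ∧
    (∀ z : ↥(G ⊗ G).left, (fst G G).left.base z ∈ V → (snd G G).left.base z ∈ V → μ[G].left.base z ∈ V) := by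
  open Groth.Agent.H40.SubgrpLocus in
  have hVfl : Flat (V.ι ≫ u.left) ∧ LocallyOfFinitePresentation (V.ι ≫ u.left) := by
    rcases hP with h | h | h
    · exact (h _ _ _).mp hV
    · have : Smooth (V.ι ≫ u.left) := (h _ _ _).mp hV
      exact ⟨inferInstance, inferInstance⟩
    · have : Etale (V.ι ≫ u.left) := (h _ _ _).mp hV
      exact ⟨inferInstance, inferInstance⟩
  have hcomp : V.ι ≫ G.hom = (V.ι ≫ u.left) ≫ H.hom := by rw [Category.assoc, Over.w u]
  have hVS1 : Flat (V.ι ≫ G.hom) := by
    rcases hfl with h | h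
    · infer_instance
    · rw [hcomp]
      have := hVfl.1
      infer_instance
  have hVS2 : LocallyOfFinitePresentation (V.ι ≫ G.hom) := by
    rcases hfp with h | h
    · infer_instance
    · rw [hcomp]
      have := hVfl.2
      infer_instance
  have hb1 : Flat (snd (Over.mk (V.ι ≫ G.hom)) H).left := by
    rw [Over.snd_left]
    have : Flat (Over.mk (V.ι ≫ G.hom)).hom := hVS1
    infer_instance
  have hb2 : LocallyOfFinitePresentation (snd (Over.mk (V.ι ≫ G.hom)) H).left := by
    rw [Over.snd_left]
    have : LocallyOfFinitePresentation (Over.mk (V.ι ≫ G.hom)).hom := hVS2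
    infer_instance
  have H0 : IsPullback (snd (Over.mk (V.ι ≫ G.hom)) G).left ((Over.mk (V.ι ≫ G.hom)) ◁ u).left
      u.left (snd (Over.mk (V.ι ≫ G.hom)) H).left :=
    (Groth.Agent.H40.MaxOpen.sq_snd' (G := Over.mk (V.ι ≫ G.hom)) u).map (Over.forget S)
  refine subgrp_of_translate V inferInstance ?_
  rcases hP with h | h | h
  · have hPeq : P = (@Flat ⊓ @LocallyOfFinitePresentation : MorphismProperty Scheme.{u}) := by
      funext X Y f
      exact propext (h X Y f)
    subst hPeq
    refine translate_mem u _ V hV _ ?_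
    intro x' U' hx hU'
    obtain ⟨U, hxU, hU1, hU2⟩ := pd_P0 H0 x' U' hx hU'.1 hU'.2
    exact hmax U ⟨hU1, hU2⟩ hxU
  · have hPeq : P = @Smooth := by
      funext X Y f
      exact propext (h X Y f)
    subst hPeq
    refine translate_mem u _ V hV _ ?_
    intro x' U' hx hU'
    obtain ⟨U, hxU, hU1⟩ := pd_smooth H0 x' U' hx hU'
    exact hmax U hU1 hxU
  · have hPeq : P = @Etale := by
      funext X Y f
      exact propext (h X Y f)
    subst hPeq
    refine translate_mem u _ V hV _ ?_
    intro x' U' hx hU'
    obtain ⟨U, hxU, hU1⟩ := pd_etale H0 x' U' hx hU'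
    exact hmax U hU1 hxU

end Groth.Agent.S5310
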