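import Groth.Statements.S5311
import Groth.Agent.H40.SubgrpOpen

set_option autoImplicit false
universe u
open CategoryTheory CategoryTheory.Limits MonoidalCategory CartesianMonoidalCategory MonObj GrpObj AlgebraicGeometry
open SGA3

namespace Groth.Agent.S5311

/-- Let u : G → H be a homomorphism of S-group schemes with G or H universally open over S, and let V be
the largest open subscheme of G on which the restriction of u is universally open. Then the image U
of V in S is open and V is an open subgroup scheme of G over U: V contains the unit point of every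
fibre of G that it meets, V is stable under the inversion of G, and the product of a point of G ×_S
G whose two projections lie in V lies in V. -/
theorem result (S : Scheme.{u}) (G H : Over S) [GrpObj G] [GrpObj H]
    (u : G ⟶ H) [IsMonHom u] (hG : UniversallyOpen G.hom ∨ UniversallyOpen H.hom)
    (V : G.left.Opens) (hV : UniversallyOpen (V.ι ≫ u.left))
    (hmax : ∀ W : G.left.Opens, UniversallyOpen (W.ι ≫ u.left) → W ≤ V) :
    IsOpen (G.hom.base '' (V : Set G.left)) ∧
    (∀ g ∈ V, ∀ p : ↥(𝟙_ (Over S)).left, (𝟙_ (Over S)).hom.base p = G.hom.base g → η[G].left.base p ∈ V) ∧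
    (∀ g ∈ V, ι[G].left.base g ∈ V) ∧
    (∀ z : ↥(G ⊗ G).left, (fst G G).left.base z ∈ V → (snd G G).left.base z ∈ V → μ[G].left.base z ∈ V) := by
  open Groth.Agent.H40.SubgrpOpen in
  have pt : ∀ {A B C : Over S} (a : A ⟶ B) (b : B ⟶ C) (c : A ⟶ C) (_ : a ≫ b = c) (z : A.left),
      b.left.base (a.left.base z) = c.left.base z := by
    intro A B C a b c h z
    subst h
    rfl
  have hVS : UniversallyOpen (V.ι ≫ G.hom) := by
    rcases hG with hG | hH
    · infer_instance
    · have : V.ι ≫ G.hom = (V.ι ≫ u.left) ≫ H.hom := by rw [Category.assoc, Over.w u]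
      rw [this]
      infer_instance
  obtain ⟨j, hjdef⟩ : ∃ j : Over.mk (V.ι ≫ G.hom) ⟶ G, j = Over.homMk V.ι rfl := ⟨_, rfl⟩
  have hjl : j.left = V.ι := by rw [hjdef]; rfl
  have hj : UniversallyOpen j.left := by rw [hjl]; infer_instance
  have hju : UniversallyOpen (j ≫ u).left := by
    rw [Over.comp_left, hjl]
    exact hV
  have hιG : IsIso ι[G].left := inferInstanceAs (IsIso ((Over.forget S).map ι[G]))
  have hιH : IsIso ι[H].left := inferInstanceAs (IsIso ((Over.forget S).map ι[H]))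
  have hk : UniversallyOpen (j ≫ ι[G]).left := by
    rw [Over.comp_left]
    infer_instance
  have hku : UniversallyOpen ((j ≫ ι[G]) ≫ u).left := by
    rw [Category.assoc, GrpObj.inv_hom, ← Category.assoc, Over.comp_left]
    infer_instance
  -- products
  have hmul : ∀ z' : (Over.mk (V.ι ≫ G.hom) ⊗ Over.mk (V.ι ≫ G.hom)).left,
      ((j ⊗ₘ j) ≫ μ[G]).left.base z' ∈ V := by
    intro z'
    have := mul_mem u V hmax j j hVS hj hju z'
    rwa [← Category.assoc, ← tensorHom_def'] at this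
  have hdiv : ∀ z' : (Over.mk (V.ι ≫ G.hom) ⊗ Over.mk (V.ι ≫ G.hom)).left,
      ((j ⊗ₘ (j ≫ ι[G])) ≫ μ[G]).left.base z' ∈ V := by
    intro z'
    have := mul_mem u V hmax j (j ≫ ι[G]) hVS hk hku z'
    rwa [← Category.assoc, ← tensorHom_def'] at this
  have hunit : ∀ g ∈ V, η[G].left.base (G.hom.base g) ∈ V := by
    intro g hg
    have e : lift (𝟙 (Over.mk (V.ι ≫ G.hom))) (𝟙 _) ≫ (j ⊗ₘ (j ≫ ι[G])) ≫ μ[G] =
        toUnit _ ≫ η[G] := by
      rw [lift_map_assoc, Category.id_comp, Category.id_comp, ← Hom.mul_def]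
      have : ι[G] = (𝟙 G)⁻¹ := by rw [Hom.inv_def, Category.id_comp]
      rw [this, GrpObj.comp_inv, Category.comp_id, mul_inv_cancel]
      rfl
    have h1 := hdiv ((lift (𝟙 (Over.mk (V.ι ≫ G.hom))) (𝟙 _)).left.base ⟨g, hg⟩)
    rw [pt _ _ _ e] at h1
    have e2 : (toUnit (Over.mk (V.ι ≫ G.hom)) ≫ η[G]).left.base ⟨g, hg⟩ =
        η[G].left.base (G.hom.base g) := rfl
    rw [e2] at h1
    exact h1
  refine ⟨?_, ?_, ?_, ?_⟩
  · have : G.hom.base '' (V : Set G.left) = Set.range (V.ι ≫ G.hom).base := by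
      ext s
      constructor
      · rintro ⟨g, hg, rfl⟩
        exact ⟨⟨g, hg⟩, rfl⟩
      · rintro ⟨v, rfl⟩
        exact ⟨v.1, v.2, rfl⟩
    rw [this]
    exact (V.ι ≫ G.hom).isOpenMap.isOpen_range
  · intro g hg p hp
    have hp' : p = G.hom.base g := hp
    rw [hp']
    exact hunit g hg
  · intro g hg
    have he := hunit g hg
    obtain ⟨w₀, hw₀⟩ : ∃ w₀, w₀ = (lift (toUnit G ≫ η[G]) (𝟙 G)).left.base g := ⟨_, rfl⟩
    have e1 : lift (toUnit G ≫ η[G]) (𝟙 G) ≫ fst G G = toUnit G ≫ η[G] := lift_fst _ _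
    have e2 : lift (toUnit G ≫ η[G]) (𝟙 G) ≫ snd G G = 𝟙 G := lift_snd _ _
    have e3 : lift (toUnit G ≫ η[G]) (𝟙 G) ≫ (G ◁ ι[G]) ≫ μ[G] = ι[G] := by
      rw [lift_whiskerLeft_assoc, Category.id_comp, ← Hom.mul_def]
      have : toUnit G ≫ η[G] = (1 : G ⟶ G) := rfl
      rw [this]
      exact _root_.one_mul _
    have hz : w₀ ∈ Set.range (j ⊗ₘ j).left.base := by
      rw [Over.tensorHom_left, Scheme.Pullback.range_map]
      refine ⟨?_, ?_⟩
      · rw [hjl, Scheme.Opens.range_ι, hw₀]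
        change (fst G G).left.base _ ∈ V
        rw [pt _ _ _ e1]
        exact he
      · rw [hjl, Scheme.Opens.range_ι, hw₀]
        change (snd G G).left.base _ ∈ V
        rw [pt _ _ _ e2]
        exact hg
    obtain ⟨z', hz'⟩ := hz
    have h1 := hdiv z'
    have e4 : (j ⊗ₘ (j ≫ ι[G])) ≫ μ[G] = (j ⊗ₘ j) ≫ (G ◁ ι[G]) ≫ μ[G] := by
      rw [← Category.assoc, ← id_tensorHom, tensorHom_comp_tensorHom, Category.comp_id]
    have h2 : ((G ◁ ι[G]) ≫ μ[G]).left.base ((j ⊗ₘ j).left.base z') ∈ V := by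
      rw [e4] at h1
      exact h1
    rw [hz', hw₀, pt _ _ _ e3] at h2
    exact h2
  · intro z hz1 hz2
    have hz : z ∈ Set.range (j ⊗ₘ j).left.base := by
      rw [Over.tensorHom_left, Scheme.Pullback.range_map]
      refine ⟨?_, ?_⟩
      · rw [hjl, Scheme.Opens.range_ι]
        exact hz1
      · rw [hjl, Scheme.Opens.range_ι]
        exact hz2
    obtain ⟨z', rfl⟩ := hz
    exact hmul z'

end Groth.Agent.S5311
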