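import Groth.Statements.S5315
import Groth.Agent.H40.PtLocus

set_option autoImplicit false
universe u
open CategoryTheory CategoryTheory.Limits MonoidalCategory CartesianMonoidalCategory MonObj GrpObj AlgebraicGeometry
open SGA3

namespace Groth.Agent.S5315

/-- Let u : G → H be a homomorphism of S-group schemes which is locally of finite type, and suppose
every fibre G_s is locally of finite type over κ(s). Then the set U of points s of S such that u_s :
G_s → H_s is locally quasi-finite is open in S, and the set of points of G at which u is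
quasi-finite (u is locally quasi-finite on some open neighbourhood) is the inverse image of U in G.
(The published statement assumes u locally of finite type only near the unit section for the
openness of U; this row assumes it on all of G, the case in which the second assertion is stated.) -/
theorem result (S : Scheme.{u}) (G H : Over S) [GrpObj G] [GrpObj H] (u : G ⟶ H)
    [IsMonHom u] [LocallyOfFiniteType u.left] (hG : ∀ s : S, LocallyOfFiniteType (G.hom.fiberToSpecResidueField s)) :
    IsOpen {s : S | LocallyQuasiFinite ((Over.pullback (S.fromSpecResidueField s)).map u).left} ∧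
    {x : G.left | ∃ W : G.left.Opens, x ∈ W ∧ LocallyQuasiFinite (W.ι ≫ u.left)} =
      G.hom.base ⁻¹' {s : S | LocallyQuasiFinite ((Over.pullback (S.fromSpecResidueField s)).map u).left} := by
  open Groth.Agent.H40.UnramLocus Groth.Agent.H40.PtLocus in
  have hR : ∀ x : G.left, (∃ W : G.left.Opens, x ∈ W ∧ LocallyQuasiFinite (W.ι ≫ u.left)) ↔
      u.left.QuasiFiniteAt x := by
    intro x
    constructor
    · rintro ⟨W, hxW, hW⟩
      have h1 := (W.ι ≫ u.left).quasiFiniteAt ⟨x, hxW⟩
      exact Scheme.Hom.quasiFiniteAt_comp_iff_of_isOpenImmersion.mp h1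
    · intro h
      exact ⟨u.left.quasiFiniteLocus, h, inferInstance⟩
  have hfib : ∀ s : S, LocallyQuasiFinite ((Over.pullback (S.fromSpecResidueField s)).map u).left ↔
      u.left.QuasiFiniteAt (η[G].left.base s) := by
    intro s
    have Hsq := isPullback_pullback_map (S.fromSpecResidueField s) u
    have hlft : LocallyOfFiniteType ((Over.pullback (S.fromSpecResidueField s)).map u).left :=
      MorphismProperty.of_isPullback (P := @LocallyOfFiniteType) Hsq inferInstance
    rw [← Scheme.Hom.quasiFiniteLocus_eq_top_iff, ← pt_fibre_iff ptBC_qf u s, eq_top_iff]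
    exact ⟨fun h x' => h trivial, fun h x' _ => h x'⟩
  have hRopen : IsOpen {x : G.left | ∃ W : G.left.Opens, x ∈ W ∧
      LocallyQuasiFinite (W.ι ≫ u.left)} := by
    rw [isOpen_iff_forall_mem_open]
    rintro x ⟨W, hxW, hW⟩
    exact ⟨W, fun y hy => ⟨W, hy, hW⟩, W.isOpen, hxW⟩
  have hset : {s : S | LocallyQuasiFinite ((Over.pullback (S.fromSpecResidueField s)).map u).left}
      = η[G].left.base ⁻¹' {x : G.left | ∃ W : G.left.Opens, x ∈ W ∧
        LocallyQuasiFinite (W.ι ≫ u.left)} := by
    ext s
    show _ ↔ (∃ W : G.left.Opens, η[G].left.base s ∈ W ∧ LocallyQuasiFinite (W.ι ≫ u.left))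
    rw [hR]
    exact hfib s
  refine ⟨?_, ?_⟩
  · rw [hset]
    exact hRopen.preimage η[G].left.base.hom.continuous
  · ext x
    show (∃ W : G.left.Opens, x ∈ W ∧ LocallyQuasiFinite (W.ι ≫ u.left)) ↔
      LocallyQuasiFinite ((Over.pullback (S.fromSpecResidueField (G.hom.base x))).map u).left
    rw [hR, hfib]
    exact pt_iff_unit ptBC_qf u x

end Groth.Agent.S5315
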