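import Groth.Statements.S5316
import Groth.Agent.H40.UnramLocus

set_option autoImplicit false
universe u
open CategoryTheory CategoryTheory.Limits MonoidalCategory CartesianMonoidalCategory MonObj GrpObj AlgebraicGeometry
open SGA3

namespace Groth.Agent.S5316

/-- Let u : G → H be a homomorphism of S-group schemes which is locally of finite presentation, and
suppose every fibre G_s is locally of finite type over κ(s). Then the set U of points s of S such
that u_s : G_s → H_s is unramified (formally unramified; it is locally of finite presentation) is
open in S, and the set of points of G at which u is unramified (formally unramified on some open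
neighbourhood) is the inverse image of U in G. (The published statement assumes u locally of finite
presentation only near the unit section for the openness of U; this row assumes it on all of G, the
case in which the second assertion is stated.) -/
theorem result (S : Scheme.{u}) (G H : Over S) [GrpObj G] [GrpObj H] (u : G ⟶ H)
    [IsMonHom u] [LocallyOfFinitePresentation u.left] (hG : ∀ s : S, LocallyOfFiniteType (G.hom.fiberToSpecResidueField s)) :
    IsOpen {s : S | FormallyUnramified ((Over.pullback (S.fromSpecResidueField s)).map u).left} ∧
    {x : G.left | ∃ W : G.left.Opens, x ∈ W ∧ FormallyUnramified (W.ι ≫ u.left)} =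
      G.hom.base ⁻¹' {s : S | FormallyUnramified ((Over.pullback (S.fromSpecResidueField s)).map u).left} := by
  open Groth.Agent.H40.UnramLocus in
  have hlft : LocallyOfFiniteType u.left := inferInstance
  have hR : ∀ x : G.left, (∃ W : G.left.Opens, x ∈ W ∧ FormallyUnramified (W.ι ≫ u.left)) ↔
      (u.left.stalkMap x).hom.FormallyUnramified := fun x =>
    Groth.Agent.H48.unramified_nhd_iff u.left x
  have hRopen : IsOpen {x : G.left | ∃ W : G.left.Opens, x ∈ W ∧
      FormallyUnramified (W.ι ≫ u.left)} := by
    rw [isOpen_iff_forall_mem_open]
    rintro x ⟨W, hxW, hW⟩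
    exact ⟨W, fun y hy => ⟨W, hy, hW⟩, W.isOpen, hxW⟩
  have hset : {s : S | FormallyUnramified ((Over.pullback (S.fromSpecResidueField s)).map u).left}
      = η[G].left.base ⁻¹' {x : G.left | ∃ W : G.left.Opens, x ∈ W ∧
        FormallyUnramified (W.ι ≫ u.left)} := by
    ext s
    show _ ↔ (∃ W : G.left.Opens, η[G].left.base s ∈ W ∧ FormallyUnramified (W.ι ≫ u.left))
    rw [hR]
    exact fibre_unram_iff u s
  refine ⟨?_, ?_⟩
  · rw [hset]
    exact hRopen.preimage η[G].left.base.hom.continuous
  · ext x
    show (∃ W : G.left.Opens, x ∈ W ∧ FormallyUnramified (W.ι ≫ u.left)) ↔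
      FormallyUnramified ((Over.pullback (S.fromSpecResidueField (G.hom.base x))).map u).left
    rw [hR, fibre_unram_iff u, ← unram_iff_unit u]

end Groth.Agent.S5316
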