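import Groth.Statements.S5317
import Groth.Agent.H40.FibreLocus

set_option autoImplicit false
universe u
open CategoryTheory CategoryTheory.Limits MonoidalCategory CartesianMonoidalCategory MonObj GrpObj AlgebraicGeometry
open SGA3

namespace Groth.Agent.S5317

/-- Let u : G → H be a homomorphism of S-group schemes which is universally injective (for instance a
monomorphism), with G flat and locally of finite presentation over S and H locally of finite type
over S. Then the set U of points s of S such that u_s : G_s → H_s is an open immersion is open in S,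
and the restriction of u over every open of S contained in U is an open immersion. -/
theorem result (S : Scheme.{u}) (G H : Over S) [GrpObj G] [GrpObj H]
    (u : G ⟶ H) [IsMonHom u] [UniversallyInjective u.left]
    [Flat G.hom] [LocallyOfFinitePresentation G.hom] [LocallyOfFiniteType H.hom] :
    IsOpen {s : S | IsOpenImmersion ((Over.pullback (S.fromSpecResidueField s)).map u).left} ∧
    ∀ W : S.Opens, (W : Set S) ⊆ {s : S | IsOpenImmersion ((Over.pullback (S.fromSpecResidueField s)).map u).left} → IsOpenImmersion ((G.hom ⁻¹ᵁ W).ι ≫ u.left) := by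
  open Groth.Agent.H40.SubgrpLocus Groth.Agent.H40.LocusTop Groth.Agent.H40.FibreLocus in
  have hiff : ∀ {X Y : Scheme.{u}} (φ : X ⟶ Y),
      IsOpenImmersion φ ↔ Etale φ ∧ UniversallyInjective φ := by
    intro X Y φ
    constructor
    · intro h
      exact ⟨inferInstance, inferInstance⟩
    · rintro ⟨h1, h2⟩
      have : Surjective (pullback.diagonal φ) := (UniversallyInjective.iff_diagonal φ).mp h2
      have : IsOpenImmersion (pullback.diagonal φ) := inferInstance
      have : IsIso (pullback.diagonal φ) :=
        (isIso_iff_isOpenImmersion_and_surjective _).mpr ⟨inferInstance, inferInstance⟩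
      have : Mono φ := (pullback.isIso_diagonal_iff φ).mp inferInstance
      exact IsOpenImmersion.of_flat_of_mono φ
  have hUI : ∀ s : S, UniversallyInjective
      ((Over.pullback (S.fromSpecResidueField s)).map u).left := fun s =>
    MorphismProperty.of_isPullback (P := @UniversallyInjective)
      (Groth.Agent.H40.UnramLocus.isPullback_pullback_map (S.fromSpecResidueField s) u)
      inferInstance
  have hset : {s : S | IsOpenImmersion ((Over.pullback (S.fromSpecResidueField s)).map u).left} =
      {s : S | Etale ((Over.pullback (S.fromSpecResidueField s)).map u).left} := by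
    ext s
    exact (hiff _).trans ⟨fun h => h.1, fun h => ⟨h, hUI s⟩⟩
  have hE := fibre_locus u @Etale (fun x => ∃ W : G.left.Opens, x ∈ W ∧ Etale (W.ι ≫ u.left))
    (isOpen_nhd_locus @Etale u.left) (us_etale_iff u)
    (fun x x₁ ⟨W, hxW, hW⟩ hx => nhd_of_mem_fibre u @Etale
      (fun H _ _ x' U' hx' hU' => pd_etale H x' U' hx' hU') W hW x₁ x hxW hx)
  refine ⟨?_, ?_⟩
  · rw [hset]
    exact hE.1
  · intro W hW
    rw [hset] at hW
    refine (hiff _).mpr ⟨?_, MorphismProperty.comp_mem @UniversallyInjective _ _ inferInstance inferInstance⟩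
    refine of_forall_nhd @Etale _ fun z => ?_
    have hz : G.hom.base z.1 ∈ (W : Set S) := z.2
    obtain ⟨W₁, hzW₁, hW₁⟩ := (us_etale_iff u _).mp (hW hz) z.1 rfl
    exact ⟨(G.hom ⁻¹ᵁ W).ι ⁻¹ᵁ W₁, hzW₁,
      nhd_restrict (P := @Etale) (fun i _ => inferInstance) (G.hom ⁻¹ᵁ W) W₁ u.left hW₁⟩

end Groth.Agent.S5317
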