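import Groth.Statements.S5318
import Groth.Agent.H63.UnrSecMain
import Groth.Agent.H63.UnrSecB
import Groth.Agent.H37.UnrSec_U3c
import Groth.Agent.H3.UnrSec_U4

set_option autoImplicit false
universe u
open CategoryTheory CategoryTheory.Limits MonoidalCategory CartesianMonoidalCategory MonObj GrpObj AlgebraicGeometry
open SGA3

namespace Groth.Agent.S5318

/-- (ii) ⟺ (iii) and, for G locally of finite presentation over S, (ii) ⟺ (iv): let G be an S-group
scheme. The unit section of G is an open immersion if and only if G is locally of finite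
presentation over S on some open containing the unit section and every fibre G_s is unramified
(formally unramified and locally of finite presentation) over κ(s). If G is locally of finite
presentation over S, the unit section is an open immersion if and only if G is unramified over S. -/
theorem result (S : Scheme.{u}) (G : Over S) [GrpObj G] :
    (IsOpenImmersion η[G].left ↔
      ((∃ W : G.left.Opens, (∀ p : ↥(𝟙_ (Over S)).left, η[G].left.base p ∈ W) ∧ LocallyOfFinitePresentation (W.ι ≫ G.hom)) ∧
        ∀ s : S, FormallyUnramified (G.hom.fiberToSpecResidueField s) ∧ LocallyOfFinitePresentation (G.hom.fiberToSpecResidueField s))) ∧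
    (LocallyOfFinitePresentation G.hom → (IsOpenImmersion η[G].left ↔ FormallyUnramified G.hom)) := by
  have he : η[G].left ≫ G.hom = 𝟙 S := Groth.Agent.H37.GrpObjGrpd.η_hom G
  have key2 : IsOpenImmersion η[G].left → FormallyUnramified G.hom := by
    intro h
    haveI := Groth.Agent.H63.UnrSecMain.isOpenImmersion_diagonal_of_unit G h
    infer_instance
  refine ⟨⟨fun h => ⟨⟨η[G].left.opensRange, fun p => ⟨p, rfl⟩, ?_⟩, fun s => ?_⟩, ?_⟩, fun hlfp => ⟨key2, fun h => ?_⟩⟩
  · -- W ≅ S
    haveI := h
    have e := η[G].left.isoOpensRange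
    have h1 : η[G].left.opensRange.ι ≫ G.hom = (η[G].left.isoOpensRange).inv := by
      rw [← cancel_epi (η[G].left.isoOpensRange).hom, Iso.hom_inv_id,
        Scheme.Hom.isoOpensRange_hom_ι_assoc, he]
      rfl
    rw [h1]
    infer_instance
  · -- fibres
    haveI hd := Groth.Agent.H63.UnrSecMain.isOpenImmersion_diagonal_of_unit G h
    haveI hfu : FormallyUnramified G.hom := key2 h
    have hfu' : FormallyUnramified (G.hom.fiberToSpecResidueField s) :=
      MorphismProperty.of_isPullback (P := @FormallyUnramified)
        (IsPullback.of_hasPullback G.hom (S.fromSpecResidueField s)) inferInstance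
    have hd' : IsOpenImmersion (pullback.diagonal (G.hom.fiberToSpecResidueField s)) :=
      MorphismProperty.of_isPullback (P := (@IsOpenImmersion : MorphismProperty Scheme.{u}).diagonal)
        (IsPullback.of_hasPullback G.hom (S.fromSpecResidueField s)) hd
    haveI := hd'
    exact ⟨hfu', Groth.Agent.H37.UnrSec_U3c.lfp_of_isOpenImmersion_diagonal_field_of
      (fun h => Groth.Agent.H63.UnrSecB.finite_of_isOpenImmersion_lmul h)
      (K := ↑(S.residueField s)) (G.hom.fiberToSpecResidueField s)⟩
  · -- converse
    rintro ⟨⟨W, hW, hlfp⟩, hfib⟩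
    haveI := hlfp
    haveI : LocallyOfFiniteType (W.ι ≫ G.hom) := inferInstance
    have hfW : ∀ s : S, FormallyUnramified ((W.ι ≫ G.hom).fiberToSpecResidueField s) := fun s =>
      Groth.Agent.H75.ArtinResidueRU.bc G.hom (S.fromSpecResidueField s) W.ι (hfib s).1
    haveI := Groth.Agent.H3.UnrSec_U4.formallyUnramified_of_fibers (W.ι ≫ G.hom) hfW
    have hr : Set.range η[G].left ⊆ Set.range W.ι := by
      rw [Scheme.Opens.range_ι]
      rintro _ ⟨p, rfl⟩
      exact hW p
    have hfac := IsOpenImmersion.lift_fac W.ι η[G].left hr
    have hsec : IsOpenImmersion.lift W.ι η[G].left hr ≫ (W.ι ≫ G.hom) = 𝟙 S := by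
      rw [← Category.assoc, hfac, he]
    haveI := Groth.Agent.H63.UnrSecMain.isOpenImmersion_of_section (W.ι ≫ G.hom) _ hsec
    rw [← hfac]
    infer_instance
  · haveI := hlfp
    haveI := h
    haveI : LocallyOfFiniteType G.hom := inferInstance
    exact Groth.Agent.H63.UnrSecMain.isOpenImmersion_of_section G.hom _ he

end Groth.Agent.S5318
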