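import Groth.Statements.S5319
import Groth.Agent.H40.PtLocus

set_option autoImplicit false
universe u
open CategoryTheory CategoryTheory.Limits MonoidalCategory CartesianMonoidalCategory MonObj GrpObj AlgebraicGeometry
open SGA3

namespace Groth.Agent.S5319

/-- Let u : G → H be a homomorphism of S-group schemes which is locally of finite type, with every fibre
G_s locally of finite type over κ(s), and let i : K → G be the kernel of u (the square i, u, unit of
H is cartesian). The following are equivalent: u is locally quasi-finite; every fibre u_s : G_s →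
H_s is locally quasi-finite; K is locally quasi-finite over S; every fibre of K over S is a discrete
space. -/
theorem result (S : Scheme.{u}) (G H : Over S) [GrpObj G] [GrpObj H] (u : G ⟶ H) [IsMonHom u]
    [LocallyOfFiniteType u.left] (hG : ∀ s : S, LocallyOfFiniteType (G.hom.fiberToSpecResidueField s)) (K : Over S) [GrpObj K] (i : K ⟶ G) [IsMonHom i] (hK : AlgGrp.IsKernel i u) :
    (LocallyQuasiFinite u.left ↔ ∀ s : S, LocallyQuasiFinite ((Over.pullback (S.fromSpecResidueField s)).map u).left) ∧
    (LocallyQuasiFinite u.left ↔ LocallyQuasiFinite K.hom) ∧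
    (LocallyQuasiFinite u.left ↔ ∀ s : S, DiscreteTopology ↥(K.hom.base ⁻¹' {s})) := by
  open Groth.Agent.H40.UnramLocus Groth.Agent.H40.PtLocus in
  have hlft : LocallyOfFiniteType u.left := inferInstance
  have Hk : IsPullback i.left (toUnit K).left u.left η[H].left := hK.map (Over.forget S)
  have hKlft : LocallyOfFiniteType K.hom :=
    MorphismProperty.of_isPullback (P := @LocallyOfFiniteType) Hk hlft
  have hfib : ∀ s : S, LocallyQuasiFinite ((Over.pullback (S.fromSpecResidueField s)).map u).left ↔
      u.left.QuasiFiniteAt (η[G].left.base s) := by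
    intro s
    have Hsq := isPullback_pullback_map (S.fromSpecResidueField s) u
    have hlft : LocallyOfFiniteType ((Over.pullback (S.fromSpecResidueField s)).map u).left :=
      MorphismProperty.of_isPullback (P := @LocallyOfFiniteType) Hsq inferInstance
    rw [← Scheme.Hom.quasiFiniteLocus_eq_top_iff, ← pt_fibre_iff ptBC_qf u s, eq_top_iff]
    exact ⟨fun h x' => h trivial, fun h x' _ => h x'⟩
  have hA1 : LocallyQuasiFinite u.left ↔ ∀ s : S, u.left.QuasiFiniteAt (η[G].left.base s) := by
    constructor
    · intro h s
      exact u.left.quasiFiniteAt _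
    · intro hA
      refine u.left.quasiFiniteLocus_eq_top_iff.mp (eq_top_iff.mpr fun x _ => ?_)
      exact (pt_iff_unit ptBC_qf u x).mpr (hA _)
  have hA2 : (∀ s : S, LocallyQuasiFinite
      ((Over.pullback (S.fromSpecResidueField s)).map u).left) ↔
      ∀ s : S, u.left.QuasiFiniteAt (η[G].left.base s) := forall_congr' hfib
  have hA3 : LocallyQuasiFinite K.hom ↔ ∀ s : S, u.left.QuasiFiniteAt (η[G].left.base s) := by
    constructor
    · intro h s
      exact (pt_kernel_iff ptBC_qf u i hK s).mp (K.hom.quasiFiniteAt _)
    · intro hA
      have h1 : LocallyQuasiFinite u.left := hA1.mpr hA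
      exact MorphismProperty.of_isPullback (P := @LocallyQuasiFinite) Hk h1
  have hA4 : LocallyQuasiFinite K.hom ↔ ∀ s : S, DiscreteTopology ↥(K.hom.base ⁻¹' {s}) := by
    rw [locallyQuasiFinite_iff_isDiscrete_preimage_singleton]
    exact forall_congr' fun s => isDiscrete_iff_discreteTopology
  exact ⟨hA1.trans hA2.symm, hA1.trans hA3.symm, (hA1.trans hA3.symm).trans hA4⟩

end Groth.Agent.S5319
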