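import Groth.Statements.S5320
import Groth.Agent.H40.PtLocus

set_option autoImplicit false
universe u
open CategoryTheory CategoryTheory.Limits MonoidalCategory CartesianMonoidalCategory MonObj GrpObj AlgebraicGeometry
open SGA3

namespace Groth.Agent.S5320

/-- Let u : G → H be a homomorphism of S-group schemes which is locally of finite presentation, with
every fibre G_s locally of finite type over κ(s), and let i : K → G be the kernel of u (the square
i, u, unit of H is cartesian, K with the group structure making i a homomorphism). The following are
equivalent: u is unramified (formally unramified); every fibre u_s : G_s → H_s is unramified; K is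
unramified over S; the unit section of K is an open immersion. -/
theorem result (S : Scheme.{u}) (G H : Over S) [GrpObj G] [GrpObj H] (u : G ⟶ H) [IsMonHom u]
    [LocallyOfFinitePresentation u.left] (hG : ∀ s : S, LocallyOfFiniteType (G.hom.fiberToSpecResidueField s)) (K : Over S) [GrpObj K] (i : K ⟶ G) [IsMonHom i] (hK : AlgGrp.IsKernel i u) :
    (FormallyUnramified u.left ↔ ∀ s : S, FormallyUnramified ((Over.pullback (S.fromSpecResidueField s)).map u).left) ∧
    (FormallyUnramified u.left ↔ FormallyUnramified K.hom) ∧
    (FormallyUnramified u.left ↔ IsOpenImmersion η[K].left) := by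
  open Groth.Agent.H40.UnramLocus Groth.Agent.H40.PtLocus in
  have hlft : LocallyOfFiniteType u.left := inferInstance
  have Hk : IsPullback i.left (toUnit K).left u.left η[H].left := hK.map (Over.forget S)
  have hKlft : LocallyOfFiniteType K.hom :=
    MorphismProperty.of_isPullback (P := @LocallyOfFiniteType) Hk hlft
  have hA1 : FormallyUnramified u.left ↔
      ∀ s : S, (u.left.stalkMap (η[G].left.base s)).hom.FormallyUnramified := by
    constructor
    · intro h s
      exact FormallyUnramified.stalkMap u.left _
    · intro hA
      exact (formallyUnramified_iff_stalk u.left).mpr fun x => (unram_iff_unit u x).mpr (hA _)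
  have hA2 : (∀ s : S, FormallyUnramified
      ((Over.pullback (S.fromSpecResidueField s)).map u).left) ↔
      ∀ s : S, (u.left.stalkMap (η[G].left.base s)).hom.FormallyUnramified :=
    forall_congr' (fibre_unram_iff u)
  have hA3 : FormallyUnramified K.hom ↔
      ∀ s : S, (u.left.stalkMap (η[G].left.base s)).hom.FormallyUnramified := by
    constructor
    · intro h s
      exact (pt_kernel_iff ptBC_unram u i hK s).mp (FormallyUnramified.stalkMap K.hom _)
    · intro hA
      have h1 : FormallyUnramified u.left := hA1.mpr hA
      exact MorphismProperty.of_isPullback (P := @FormallyUnramified) Hk h1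
  have e : η[K].left ≫ K.hom = 𝟙 S := Over.w η[K]
  have hA4 : IsOpenImmersion η[K].left ↔
      ∀ s : S, (u.left.stalkMap (η[G].left.base s)).hom.FormallyUnramified := by
    constructor
    · intro h s
      have h1 : FormallyUnramified (η[K].left ≫ K.hom) := by
        rw [e]
        exact MorphismProperty.id_mem @FormallyUnramified S
      have h2 : ((η[K].left ≫ K.hom).stalkMap s).hom.FormallyUnramified :=
        FormallyUnramified.stalkMap _ s
      have h3 := (Groth.Agent.H49.SmoothFibre.stalkMap_prop_comp_left
        RingHom.FormallyUnramified.respectsIso η[K].left K.hom s).mp h2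
      exact (pt_kernel_iff ptBC_unram u i hK s).mp h3
    · intro hA
      have hKun : FormallyUnramified K.hom := hA3.mpr hA
      have hpost : MorphismProperty.HasOfPostcompProperty @IsOpenImmersion
          (@LocallyOfFiniteType ⊓ @FormallyUnramified) := by
        rw [MorphismProperty.hasOfPostcompProperty_iff_le_diagonal]
        intro X Y f ⟨hft, hfu⟩
        exact inferInstanceAs (IsOpenImmersion (pullback.diagonal f))
      have h1 : IsOpenImmersion (η[K].left ≫ K.hom) := by
        rw [e]
        exact MorphismProperty.id_mem @IsOpenImmersion S
      exact MorphismProperty.of_postcomp (W := @IsOpenImmersion)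
        (W' := @LocallyOfFiniteType ⊓ @FormallyUnramified) η[K].left K.hom ⟨hKlft, hKun⟩ h1
  exact ⟨hA1.trans hA2.symm, hA1.trans hA3.symm, hA1.trans hA4.symm⟩

end Groth.Agent.S5320
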