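import Groth.Statements.S5322
import Mathlib
import Groth.Agent.H78.GrpFibre
import Groth.Agent.H37.GrpIdComp
import Groth.Agent.S5342

set_option autoImplicit false
set_option maxHeartbeats 400000
set_option backward.isDefEq.respectTransparency.types false
universe u
open CategoryTheory CategoryTheory.Limits MonoidalCategory CartesianMonoidalCategory MonObj GrpObj AlgebraicGeometry
open SGA3

namespace Groth.Agent.S5322

open Groth.Agent.H78

set_option backward.isDefEq.respectTransparency.types false in
theorem bc_unit {S S' : Scheme.{u}} (f : S' ⟶ S) (G : Over S) [GrpObj G] (s' : S') :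
    (pullback.fst G.hom f).base (η[Red.bc f G].left.base s') = η[G].left.base (f.base s') := by
  have h := congrArg (fun m => m.left.base s')
    (Groth.Agent.H63.BCPoints.under_one f (G := G) (T := 𝟙_ (Over S')))
  have h2 : η[Red.bc f G] = (1 : 𝟙_ (Over S') ⟶ Red.bc f G) := MonObj.one_eq_one _
  rw [h2]
  exact h

set_option backward.isDefEq.respectTransparency.types false in
theorem sub1 {S S' : Scheme.{u}} (f : S' ⟶ S) (G : Over S) [GrpObj G] :
    SGA3x.neutralSet (Red.bc f G) ⊆ (pullback.fst G.hom f).base ⁻¹' SGA3x.neutralSet G := by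
  intro x' hx'
  obtain ⟨s', hx'⟩ := Set.mem_iUnion.mp hx'
  obtain ⟨C, hC⟩ : ∃ C, C = connectedComponentIn ((Red.bc f G).hom.base ⁻¹' {s'})
      (η[Red.bc f G].left.base s') := ⟨_, rfl⟩
  have hx'' : x' ∈ C := by rw [hC]; exact hx'
  have hCsub : C ⊆ (Red.bc f G).hom.base ⁻¹' {s'} := by
    rw [hC]; exact connectedComponentIn_subset _ _
  have heC : η[Red.bc f G].left.base s' ∈ C := by
    rw [hC]
    exact mem_connectedComponentIn (GrpFibre.unit_mem_fibre (Red.bc f G) s')
  have hCpre : _root_.IsPreconnected C := by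
    rw [hC]; exact isPreconnected_connectedComponentIn
  refine Set.mem_iUnion.mpr ⟨f.base s', ?_⟩
  show (pullback.fst G.hom f).base x' ∈ connectedComponentIn (G.hom.base ⁻¹' {f.base s'})
    (η[G].left.base (f.base s'))
  have hpre : _root_.IsPreconnected (⇑(pullback.fst G.hom f).base '' C) :=
    hCpre.image _ (pullback.fst G.hom f).continuous.continuousOn
  have hmem : η[G].left.base (f.base s') ∈ ⇑(pullback.fst G.hom f).base '' C :=
    ⟨_, heC, bc_unit f G s'⟩
  have hsub : ⇑(pullback.fst G.hom f).base '' C ⊆ G.hom.base ⁻¹' {f.base s'} := by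
    rintro _ ⟨y, hy, rfl⟩
    have hy' : (Red.bc f G).hom.base y = s' := hCsub hy
    show G.hom.base ((pullback.fst G.hom f).base y) = f.base s'
    have hc := congrArg (fun m : pullback G.hom f ⟶ S => m.base y)
      (pullback.condition (f := G.hom) (g := f))
    rw [← hy']
    exact hc
  exact hpre.subset_connectedComponentIn hmem hsub ⟨x', hx'', rfl⟩

set_option backward.isDefEq.respectTransparency.types false in
theorem sub2 {S S' : Scheme.{u}} (f : S' ⟶ S) (G : Over S) [GrpObj G] :
    (pullback.fst G.hom f).base ⁻¹' SGA3x.neutralSet G ⊆ SGA3x.neutralSet (Red.bc f G) := by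
  intro x' hx'
  have hx'2 : (pullback.fst G.hom f).base x' ∈ SGA3x.neutralSet G := hx'
  rw [GrpFibre.neutralSet_eq] at hx'2
  obtain ⟨s, hx'3⟩ := Set.mem_iUnion.mp hx'2
  obtain ⟨w, hw, hwx⟩ := hx'3
  obtain ⟨s', hs'⟩ : ∃ s' : S', s' = (pullback.snd G.hom f).base x' := ⟨_, rfl⟩
  have hfs : s = f.base s' := by
    have h1 : G.hom.base ((GrpFibre.π G s).base w) = s := by
      have : (GrpFibre.π G s).base w ∈ Set.range ⇑(GrpFibre.π G s) := ⟨w, rfl⟩
      rw [GrpFibre.range_π] at this
      exact this
    have hc := congrArg (fun m : pullback G.hom f ⟶ S => m.base x')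
      (pullback.condition (f := G.hom) (g := f))
    rw [← h1, hwx, hs']
    exact hc
  subst hfs
  obtain ⟨G₀, hgrp, incl, hmon, -, -, hrange, hirr, -⟩ :=
    Groth.Agent.H37.exists_identityComponent (S.residueField (f.base s'))
      (GrpFibre.fib G (f.base s'))
  haveI : Subsingleton ↥(Spec (CommRingCat.of ↑(S.residueField (f.base s')))) :=
    inferInstanceAs (Subsingleton (PrimeSpectrum (S.residueField (f.base s'))))
  haveI : Nonempty ↥(Spec (CommRingCat.of ↑(S.residueField (f.base s')))) :=
    inferInstanceAs (Nonempty (PrimeSpectrum (S.residueField (f.base s'))))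
  haveI : IrreducibleSpace ↥G₀.left :=
    GeometricallyIrreducible.irreducibleSpace_of_subsingleton G₀.hom
  haveI : ConnectedSpace ↥G₀.left := inferInstance
  obtain ⟨g, hg⟩ : ∃ g : Spec (S'.residueField s') ⟶ Spec (S.residueField (f.base s')),
      g ≫ S.fromSpecResidueField (f.base s') = S'.fromSpecResidueField s' ≫ f :=
    ⟨Spec.map (f.residueFieldMap s'), Scheme.Hom.SpecMap_residueFieldMap_fromSpecResidueField f s'⟩
  haveI : ConnectedSpace ↥(pullback G₀.hom g) :=
    Groth.Agent.S5342.result (S.residueField (f.base s')) G₀.left _ G₀.hom g η[G₀].left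
      (Over.w η[G₀])
  have h₁ : G₀.hom ≫ S.fromSpecResidueField (f.base s') =
      (incl.left ≫ GrpFibre.π G (f.base s')) ≫ G.hom := by
    rw [Category.assoc, pullback.condition, ← Category.assoc]
    congr 1
    exact (Over.w incl).symm
  obtain ⟨q, hq⟩ : ∃ q : pullback G₀.hom g ⟶ pullback G.hom f,
      q = pullback.map G₀.hom g G.hom f (incl.left ≫ GrpFibre.π G (f.base s'))
        (S'.fromSpecResidueField s') (S.fromSpecResidueField (f.base s')) h₁ hg := ⟨_, rfl⟩
  have hqr : Set.range ⇑q = ⇑(pullback.fst G.hom f) ⁻¹'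
      Set.range ⇑(incl.left ≫ GrpFibre.π G (f.base s')) ∩
        ⇑(pullback.snd G.hom f) ⁻¹' {s'} := by
    rw [hq, Scheme.Pullback.range_map, Scheme.range_fromSpecResidueField]
  -- the unit of the fibre lies in the image of G₀
  have hunit : η[G].left.base (f.base s') ∈
      Set.range ⇑(incl.left ≫ GrpFibre.π G (f.base s')) := by
    refine ⟨η[G₀].left.base (IsLocalRing.closedPoint (S.residueField (f.base s'))), ?_⟩
    show (GrpFibre.π G (f.base s')).base (incl.left.base (η[G₀].left.base _)) = _
    rw [GrpFibre.pt' _ _ _ (IsMonHom.one_hom (f := incl)) _, GrpFibre.π_unit]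
  have hxq : x' ∈ Set.range ⇑q := by
    rw [hqr]
    refine ⟨?_, hs'.symm⟩
    obtain ⟨x₀, hx₀⟩ : w ∈ Set.range ⇑incl.left := by rw [hrange]; exact hw
    refine ⟨x₀, ?_⟩
    show (GrpFibre.π G (f.base s')).base (incl.left.base x₀) = _
    rw [← hwx]
    exact congrArg (fun t => (GrpFibre.π G (f.base s')).base t) hx₀
  have heq : η[Red.bc f G].left.base s' ∈ Set.range ⇑q := by
    rw [hqr]
    refine ⟨?_, ?_⟩
    · show (pullback.fst G.hom f).base (η[Red.bc f G].left.base s') ∈
        Set.range ⇑(incl.left ≫ GrpFibre.π G (f.base s'))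
      rw [bc_unit]
      exact hunit
    · exact congrArg (fun m => m.base s') (Over.w η[Red.bc f G])
  have hpre : _root_.IsPreconnected (Set.range ⇑q) := isPreconnected_range q.continuous
  have hsubF : Set.range ⇑q ⊆ (Red.bc f G).hom.base ⁻¹' {s'} := by
    rw [hqr]
    exact Set.inter_subset_right
  refine Set.mem_iUnion.mpr ⟨s', ?_⟩
  exact hpre.subset_connectedComponentIn heq hsubF hxq


/-- Let G be an S-group scheme and f : S' → S a morphism. Then the subset of G ×_S S' formed by the
neutral components of its fibres over S' is the inverse image, under the first projection G ×_S S' →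
G, of the subset of G formed by the neutral components of the fibres G_s: the formation of the
neutral component commutes with base change. -/
theorem result (S S' : Scheme.{u}) (f : S' ⟶ S) (G : Over S) [GrpObj G] :
    SGA3x.neutralSet (Red.bc f G) = (pullback.fst G.hom f).base ⁻¹' SGA3x.neutralSet G := by
  exact Set.Subset.antisymm (sub1 f G) (sub2 f G)

end Groth.Agent.S5322
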