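import Groth.Statements.S5323
import Mathlib
import Groth.Agent.H78.GrpFibre
import Groth.Agent.H37.GrpIdComp
import Groth.Agent.S5354

set_option autoImplicit false
set_option maxHeartbeats 400000
set_option backward.isDefEq.respectTransparency.types false
universe u
open CategoryTheory CategoryTheory.Limits MonoidalCategory CartesianMonoidalCategory MonObj GrpObj AlgebraicGeometry
open SGA3

namespace Groth.Agent.S5323

open Groth.Agent.H78

set_option backward.isDefEq.respectTransparency.types false in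
theorem exists_compact_open_unit {S : Scheme.{u}} (G : Over S) [GrpObj G] (V : S.Opens)
    (hV : IsAffineOpen V) :
    ∃ U : G.left.Opens, IsCompact (U : Set G.left) ∧
      (∀ v ∈ V, η[G].left.base v ∈ U) ∧ U ≤ G.hom ⁻¹ᵁ V := by
  have hK : IsCompact (⇑η[G].left.base '' (V : Set S)) :=
    hV.isCompact.image η[G].left.continuous
  have hnb : ∀ x ∈ ⇑η[G].left.base '' (V : Set S), ∃ W : G.left.Opens,
      IsAffineOpen W ∧ x ∈ W ∧ W ≤ G.hom ⁻¹ᵁ V := by
    rintro x ⟨v, hv, rfl⟩
    have hmem : η[G].left.base v ∈ G.hom ⁻¹ᵁ V := by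
      show G.hom.base (η[G].left.base v) ∈ V
      rw [show G.hom.base (η[G].left.base v) = v from GrpFibre.unit_mem_fibre G v]
      exact hv
    obtain ⟨_, ⟨W, hW, rfl⟩, hxW, hWsub⟩ :=
      G.left.isBasis_affineOpens.exists_subset_of_mem_open hmem (G.hom ⁻¹ᵁ V).isOpen
    exact ⟨W, hW, hxW, hWsub⟩
  choose! W hWaff hxW hWsub using hnb
  obtain ⟨t, htK, hcov⟩ := hK.elim_nhds_subcover (fun x => (W x : Set G.left))
    (fun x hx => (W x).isOpen.mem_nhds (hxW x hx))
  refine ⟨⟨⋃ x ∈ t, (W x : Set G.left), isOpen_biUnion (fun x _ => (W x).isOpen)⟩, ?_, ?_, ?_⟩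
  · exact t.isCompact_biUnion (fun x hx => (hWaff x (htK x hx)).isCompact)
  · intro v hv
    exact hcov ⟨v, hv, rfl⟩
  · intro y hy
    obtain ⟨x, hx, hyx⟩ := Set.mem_iUnion₂.mp hy
    exact hWsub x (htK x hx) hyx

set_option backward.isDefEq.respectTransparency.types false in
theorem isCompact_pairs {S : Scheme.{u}} (G : Over S) [GrpObj G] (V : S.Opens)
    (hV : IsAffineOpen V) (U : G.left.Opens) (hUc : IsCompact (U : Set G.left))
    (hUV : U ≤ G.hom ⁻¹ᵁ V) :
    IsCompact (⇑(fst G G).left.base ⁻¹' (U : Set G.left) ∩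
      ⇑(snd G G).left.base ⁻¹' (U : Set G.left)) := by
  have hr : Set.range ⇑(U.ι ≫ G.hom) ⊆ Set.range ⇑V.ι := by
    rw [Scheme.Opens.range_ι]
    rintro _ ⟨y, rfl⟩
    exact hUV y.2
  obtain ⟨u', hu'⟩ : ∃ u' : (U : Scheme.{u}) ⟶ (V : Scheme.{u}), u' ≫ V.ι = U.ι ≫ G.hom :=
    ⟨IsOpenImmersion.lift V.ι (U.ι ≫ G.hom) hr, IsOpenImmersion.lift_fac _ _ _⟩
  haveI : IsAffine (V : Scheme.{u}) := hV
  have hUcs : CompactSpace (U : Scheme.{u}) := isCompact_iff_compactSpace.mp hUc
  haveI : QuasiCompact u' :=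
    (HasAffineProperty.iff_of_isAffine (P := @QuasiCompact)).mpr hUcs
  haveI : CompactSpace ↥(pullback u' u') := inferInstance
  have hr2 := Scheme.Pullback.range_map u' u' G.hom G.hom U.ι U.ι V.ι hu' hu'
  rw [Scheme.Opens.range_ι] at hr2
  show IsCompact (⇑(pullback.fst G.hom G.hom) ⁻¹' ↑U ∩ ⇑(pullback.snd G.hom G.hom) ⁻¹' ↑U)
  rw [← hr2]
  exact isCompact_range (Scheme.Hom.continuous _)

set_option backward.isDefEq.respectTransparency.types false in
theorem mem_mul_image {S : Scheme.{u}} (G : Over S) [GrpObj G] (s : S) (U : G.left.Opens)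
    (heU : η[G].left.base s ∈ U) (w : ↥(GrpFibre.fib G s).left)
    (hw : w ∈ connectedComponent (η[GrpFibre.fib G s].left.base
      (IsLocalRing.closedPoint (S.residueField s)))) :
    ∃ z' : ↥(G ⊗ G).left, (fst G G).left.base z' ∈ U ∧ (snd G G).left.base z' ∈ U ∧
      μ[G].left.base z' = (GrpFibre.π G s).base w := by
  obtain ⟨G₀, hgrp, incl, hmon, -, -, hrange, hirr, -⟩ :=
    Groth.Agent.H37.exists_identityComponent (S.residueField s) (GrpFibre.fib G s)
  haveI : Subsingleton ↥(Spec (CommRingCat.of ↑(S.residueField s))) :=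
    inferInstanceAs (Subsingleton (PrimeSpectrum (S.residueField s)))
  haveI : Nonempty ↥(Spec (CommRingCat.of ↑(S.residueField s))) :=
    inferInstanceAs (Nonempty (PrimeSpectrum (S.residueField s)))
  haveI : IrreducibleSpace ↥G₀.left :=
    GeometricallyIrreducible.irreducibleSpace_of_subsingleton G₀.hom
  obtain ⟨x₀, hx₀⟩ : w ∈ Set.range ⇑incl.left := by rw [hrange]; exact hw
  obtain ⟨z₀, hz1, hz2, hz3⟩ := Groth.Agent.S5354.result (S.residueField s) G₀ x₀
  have hW : ∀ y : ↥G₀.left, closure {y} ∈ irreducibleComponents ↥G₀.left →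
      (GrpFibre.π G s).base (incl.left.base y) ∈ U := by
    intro y hy
    rw [irreducibleComponents_eq_singleton, Set.mem_singleton_iff] at hy
    have hdense : Dense ({y} : Set ↥G₀.left) := dense_iff_closure_eq.mpr hy
    have hopen : IsOpen ((fun y : ↥G₀.left => (GrpFibre.π G s).base (incl.left.base y)) ⁻¹'
        (U : Set G.left)) :=
      U.isOpen.preimage ((GrpFibre.π G s).continuous.comp incl.left.continuous)
    have hne : ((fun y : ↥G₀.left => (GrpFibre.π G s).base (incl.left.base y)) ⁻¹'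
        (U : Set G.left)).Nonempty := by
      refine ⟨η[G₀].left.base (IsLocalRing.closedPoint (S.residueField s)), ?_⟩
      show (GrpFibre.π G s).base (incl.left.base (η[G₀].left.base _)) ∈ U
      rw [GrpFibre.pt' _ _ _ (IsMonHom.one_hom (f := incl)) _, GrpFibre.π_unit]
      exact heU
    obtain ⟨y', hy', hy'U⟩ := hdense.exists_mem_open hopen hne
    rw [Set.mem_singleton_iff] at hy'
    rw [hy'] at hy'U
    exact hy'U
  obtain ⟨z, hz⟩ : ∃ z, z = (incl ⊗ₘ incl).left.base z₀ := ⟨_, rfl⟩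
  have hzf : (fst (GrpFibre.fib G s) (GrpFibre.fib G s)).left.base z =
      incl.left.base ((fst G₀ G₀).left.base z₀) := by
    rw [hz]
    exact GrpFibre.pt' _ _ _ (tensorHom_fst incl incl) z₀
  have hzs : (snd (GrpFibre.fib G s) (GrpFibre.fib G s)).left.base z =
      incl.left.base ((snd G₀ G₀).left.base z₀) := by
    rw [hz]
    exact GrpFibre.pt' _ _ _ (tensorHom_snd incl incl) z₀
  have hzm : μ[GrpFibre.fib G s].left.base z = incl.left.base (μ[G₀].left.base z₀) := by
    rw [hz]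
    exact GrpFibre.pt' _ _ _ (IsMonHom.mul_hom (f := incl)).symm z₀
  obtain ⟨z', h1, h2, h3⟩ := GrpFibre.mul_compat G s z
  refine ⟨z', ?_, ?_, ?_⟩
  · rw [h1, hzf]
    exact hW _ hz2
  · rw [h2, hzs]
    exact hW _ hz3
  · rw [h3, hzm, hz1]
    exact congrArg (fun t => (GrpFibre.π G s).base t) hx₀


/-- Let S be a quasi-compact quasi-separated scheme and G an S-group scheme whose fibres G_s are locally
of finite type over κ(s). Then there is a quasi-compact open subset of G containing the union of the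
neutral components of the fibres G_s. -/
theorem result (S : Scheme.{u}) [CompactSpace S] [QuasiSeparatedSpace S]
    (G : Over S) [GrpObj G] (hG : ∀ s : S, LocallyOfFiniteType (G.hom.fiberToSpecResidueField s)) :
    ∃ U : G.left.Opens, IsCompact (U : Set G.left) ∧ SGA3x.neutralSet G ⊆ U := by
  have hnb : ∀ s : S, ∃ V : S.Opens, IsAffineOpen V ∧ s ∈ V := by
    intro s
    obtain ⟨_, ⟨V, hV, rfl⟩, hsV, -⟩ :=
      S.isBasis_affineOpens.exists_subset_of_mem_open (Set.mem_univ s) isOpen_univ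
    exact ⟨V, hV, hsV⟩
  choose V hVaff hsV using hnb
  obtain ⟨t, -, hcov⟩ := isCompact_univ.elim_nhds_subcover (fun s => (V s : Set S))
    (fun s _ => (V s).isOpen.mem_nhds (hsV s))
  have hU : ∀ s : S, ∃ U : G.left.Opens, IsCompact (U : Set G.left) ∧
      (∀ v ∈ V s, η[G].left.base v ∈ U) ∧ U ≤ G.hom ⁻¹ᵁ (V s) :=
    fun s => exists_compact_open_unit G (V s) (hVaff s)
  choose U hUc heU hUV using hU
  obtain ⟨K, hK⟩ : ∃ K : Set G.left, K = ⋃ s ∈ t, ⇑μ[G].left.base ''
      (⇑(fst G G).left.base ⁻¹' (U s : Set G.left) ∩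
        ⇑(snd G G).left.base ⁻¹' (U s : Set G.left)) := ⟨_, rfl⟩
  have hKc : IsCompact K := by
    rw [hK]
    exact t.isCompact_biUnion (fun s _ =>
      (isCompact_pairs G (V s) (hVaff s) (U s) (hUc s) (hUV s)).image μ[G].left.continuous)
  have hsub : SGA3x.neutralSet G ⊆ K := by
    rw [Groth.Agent.H78.GrpFibre.neutralSet_eq]
    intro x hx
    obtain ⟨s, hx⟩ := Set.mem_iUnion.mp hx
    obtain ⟨w, hw, rfl⟩ := hx
    obtain ⟨s', hs't, hss'⟩ := Set.mem_iUnion₂.mp (hcov (Set.mem_univ s))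
    obtain ⟨z', h1, h2, h3⟩ := mem_mul_image G s (U s') (heU s' s hss') w hw
    rw [hK]
    exact Set.mem_iUnion₂.mpr ⟨s', hs't, z', ⟨h1, h2⟩, h3⟩
  have hnb2 : ∀ x : G.left, ∃ W : G.left.Opens, IsAffineOpen W ∧ x ∈ W := by
    intro x
    obtain ⟨_, ⟨W, hW, rfl⟩, hxW, -⟩ :=
      G.left.isBasis_affineOpens.exists_subset_of_mem_open (Set.mem_univ x) isOpen_univ
    exact ⟨W, hW, hxW⟩
  choose W hWaff hxW using hnb2
  obtain ⟨t2, -, hcov2⟩ := hKc.elim_nhds_subcover (fun x => (W x : Set G.left))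
    (fun x _ => (W x).isOpen.mem_nhds (hxW x))
  refine ⟨⟨⋃ x ∈ t2, (W x : Set G.left), isOpen_biUnion (fun x _ => (W x).isOpen)⟩, ?_, ?_⟩
  · exact t2.isCompact_biUnion (fun x _ => (hWaff x).isCompact)
  · exact hsub.trans hcov2

end Groth.Agent.S5323
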