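import Groth.Statements.S5324
import Mathlib
import Groth.Agent.H78.GrpFibre
import Groth.Agent.S5354
import Groth.Agent.H37.GrpConn

set_option autoImplicit false
set_option maxHeartbeats 400000
set_option backward.isDefEq.respectTransparency.types false
universe u
open CategoryTheory CategoryTheory.Limits MonoidalCategory CartesianMonoidalCategory MonObj GrpObj AlgebraicGeometry
open SGA3

namespace Groth.Agent.S5324

open Groth.Agent.H78 in
set_option backward.isDefEq.respectTransparency.types false in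
/-- In a connected fibre, maximal points of the fibre group lie in every open containing the
unit. -/
theorem max_mem {S : Scheme.{u}} (G : Over S) [GrpObj G] (s : S)
    (hconn : _root_.IsConnected (G.hom.base ⁻¹' {s})) (U : G.left.Opens)
    (heU : η[G].left.base s ∈ U) (y : ↥(GrpFibre.fib G s).left)
    (hy : closure {y} ∈ irreducibleComponents ↥(GrpFibre.fib G s).left) :
    (GrpFibre.π G s).base y ∈ U := by
  haveI hconnF : ConnectedSpace ↥(GrpFibre.fib G s).left := by
    have h2 : ⇑(GrpFibre.π G s) '' Set.univ = ⇑G.hom.base ⁻¹' {s} := by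
      rw [Set.image_univ, GrpFibre.range_π]
    have h1 : _root_.IsConnected (Set.univ : Set ↥(GrpFibre.fib G s).left) :=
      ⟨⟨y, trivial⟩, (GrpFibre.isEmbedding_π G s).isInducing.isPreconnected_image.mp
        (h2 ▸ hconn.isPreconnected)⟩
    exact connectedSpace_iff_univ.mpr h1
  obtain ⟨hcc, -⟩ := Groth.Agent.H37.grp_connectedComponent_one (S.residueField s)
    (GrpFibre.fib G s)
  haveI : IrreducibleSpace ↥(GrpFibre.fib G s).left := by
    have h3 : (Set.univ : Set ↥(GrpFibre.fib G s).left) = irreducibleComponent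
        (η[GrpFibre.fib G s].left (IsLocalRing.closedPoint (S.residueField s))) := by
      rw [← hcc]
      exact (PreconnectedSpace.connectedComponent_eq_univ _).symm
    rw [irreducibleSpace_def]
    show IsIrreducible (Set.univ : Set ↥(GrpFibre.fib G s).left)
    rw [h3]
    exact isIrreducible_irreducibleComponent
  rw [irreducibleComponents_eq_singleton, Set.mem_singleton_iff] at hy
  have hdense : Dense ({y} : Set ↥(GrpFibre.fib G s).left) := dense_iff_closure_eq.mpr hy
  have hopen : IsOpen (⇑(GrpFibre.π G s) ⁻¹' (U : Set G.left)) :=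
    U.isOpen.preimage (GrpFibre.π G s).continuous
  have hne : (⇑(GrpFibre.π G s) ⁻¹' (U : Set G.left)).Nonempty :=
    ⟨η[GrpFibre.fib G s].left.base (IsLocalRing.closedPoint (S.residueField s)), by
      show (GrpFibre.π G s).base _ ∈ U
      rw [GrpFibre.π_unit]
      exact heU⟩
  obtain ⟨y', hy', hy'U⟩ := hdense.exists_mem_open hopen hne
  rw [Set.mem_singleton_iff] at hy'
  rw [hy'] at hy'U
  exact hy'U

/-- Let G be an S-group scheme whose fibres G_s are locally of finite type over κ(s) and connected. Then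
G is quasi-compact over S. -/
theorem result (S : Scheme.{u}) (G : Over S) [GrpObj G]
    (hG : ∀ s : S, LocallyOfFiniteType (G.hom.fiberToSpecResidueField s))
    (hconn : ∀ s : S, _root_.IsConnected (G.hom.base ⁻¹' {s})) : QuasiCompact G.hom := by
  open Groth.Agent.H78 in
  rw [quasiCompact_iff_forall_isAffineOpen]
  intro V hV
  -- a compact open containing the unit section over `V`
  obtain ⟨U, hUc, heU, hUV⟩ : ∃ U : G.left.Opens, IsCompact (U : Set G.left) ∧
      (∀ v ∈ V, η[G].left.base v ∈ U) ∧ U ≤ G.hom ⁻¹ᵁ V := by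
    have hK : IsCompact (⇑η[G].left.base '' (V : Set S)) :=
      hV.isCompact.image η[G].left.continuous
    have hnb : ∀ x ∈ ⇑η[G].left.base '' (V : Set S), ∃ W : G.left.Opens,
        IsAffineOpen W ∧ x ∈ W ∧ W ≤ G.hom ⁻¹ᵁ V := by
      rintro x ⟨v, hv, rfl⟩
      have hmem : η[G].left.base v ∈ G.hom ⁻¹ᵁ V := by
        show G.hom.base (η[G].left.base v) ∈ V
        rw [show G.hom.base (η[G].left.base v) = v from GrpFibre.unit_mem_fibre G v]
        exact hv
      obtain ⟨_, ⟨W, hW, rfl⟩, hxW, hWsub⟩ :=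
        G.left.isBasis_affineOpens.exists_subset_of_mem_open hmem (G.hom ⁻¹ᵁ V).isOpen
      exact ⟨W, hW, hxW, hWsub⟩
    choose! W hWaff hxW hWsub using hnb
    obtain ⟨t, htK, hcov⟩ := hK.elim_nhds_subcover (fun x => (W x : Set G.left))
      (fun x hx => (W x).isOpen.mem_nhds (hxW x hx))
    refine ⟨⟨⋃ x ∈ t, (W x : Set G.left), isOpen_biUnion (fun x _ => (W x).isOpen)⟩, ?_, ?_, ?_⟩
    · exact t.isCompact_biUnion (fun x hx => (hWaff x (htK x hx)).isCompact)
    · intro v hv
      exact hcov ⟨v, hv, rfl⟩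
    · intro y hy
      obtain ⟨x, hx, hyx⟩ := Set.mem_iUnion₂.mp hy
      exact hWsub x (htK x hx) hyx
  -- the compact set of pairs of points of `U`
  have hQ : IsCompact (⇑(fst G G).left.base ⁻¹' (U : Set G.left) ∩
      ⇑(snd G G).left.base ⁻¹' (U : Set G.left)) := by
    have hr : Set.range ⇑(U.ι ≫ G.hom) ⊆ Set.range ⇑V.ι := by
      rw [Scheme.Opens.range_ι]
      rintro _ ⟨y, rfl⟩
      exact hUV y.2
    obtain ⟨u', hu'⟩ : ∃ u' : (U : Scheme.{u}) ⟶ (V : Scheme.{u}), u' ≫ V.ι = U.ι ≫ G.hom :=
      ⟨IsOpenImmersion.lift V.ι (U.ι ≫ G.hom) hr, IsOpenImmersion.lift_fac _ _ _⟩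
    haveI : IsAffine (V : Scheme.{u}) := hV
    have hUcs : CompactSpace (U : Scheme.{u}) := isCompact_iff_compactSpace.mp hUc
    haveI : QuasiCompact u' :=
      (HasAffineProperty.iff_of_isAffine (P := @QuasiCompact)).mpr hUcs
    haveI : CompactSpace ↥(pullback u' u') := inferInstance
    have hr2 := Scheme.Pullback.range_map u' u' G.hom G.hom U.ι U.ι V.ι hu' hu'
    rw [Scheme.Opens.range_ι] at hr2
    show IsCompact (⇑(pullback.fst G.hom G.hom) ⁻¹' ↑U ∩ ⇑(pullback.snd G.hom G.hom) ⁻¹' ↑U)
    rw [← hr2]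
    exact isCompact_range (Scheme.Hom.continuous _)
  have hEq : ((G.hom ⁻¹ᵁ V : G.left.Opens) : Set G.left) = ⇑μ[G].left.base ''
      (⇑(fst G G).left.base ⁻¹' (U : Set G.left) ∩ ⇑(snd G G).left.base ⁻¹' (U : Set G.left)) := by
    apply Set.Subset.antisymm
    · intro x hx
      obtain ⟨s, hs⟩ : ∃ s, s = G.hom.base x := ⟨_, rfl⟩
      have hsV : s ∈ V := hs ▸ hx
      obtain ⟨xs, hxs⟩ : x ∈ Set.range ⇑(GrpFibre.π G s) := by
        rw [GrpFibre.range_π]
        exact hs.symm
      obtain ⟨z, hz1, hz2, hz3⟩ := Groth.Agent.S5354.result (S.residueField s)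
        (GrpFibre.fib G s) xs
      obtain ⟨z', h1, h2, h3⟩ := GrpFibre.mul_compat G s z
      refine ⟨z', ⟨?_, ?_⟩, ?_⟩
      · show (fst G G).left.base z' ∈ U
        rw [h1]
        exact max_mem G s (hconn s) U (heU s hsV) _ hz2
      · show (snd G G).left.base z' ∈ U
        rw [h2]
        exact max_mem G s (hconn s) U (heU s hsV) _ hz3
      · rw [h3, hz1]
        exact hxs
    · rintro _ ⟨z', ⟨h1, h2⟩, rfl⟩
      show G.hom.base (μ[G].left.base z') ∈ V
      have h4 : G.hom.base (μ[G].left.base z') = G.hom.base ((fst G G).left.base z') := by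
        have e1 := congrArg (fun m : (G ⊗ G).left ⟶ S => m.base z') (Over.w μ[G])
        have e2 := congrArg (fun m : (G ⊗ G).left ⟶ S => m.base z') (Over.w (fst G G))
        exact e1.trans e2.symm
      rw [h4]
      exact hUV h1
  rw [hEq]
  exact hQ.image μ[G].left.continuous

end Groth.Agent.S5324
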