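import Groth.Statements.S5327
import Mathlib
import Groth.Agent.H78.GrpFibre
import Groth.Agent.S8033

set_option autoImplicit false
set_option maxHeartbeats 400000
set_option backward.isDefEq.respectTransparency.types false
universe u
open CategoryTheory CategoryTheory.Limits MonoidalCategory CartesianMonoidalCategory MonObj GrpObj AlgebraicGeometry
open SGA3

namespace Groth.Agent.S5327

open Groth.Agent.H78

theorem image_cc_of_clopen_range {X Y : Type*} [TopologicalSpace X] [TopologicalSpace Y]
    (j : X → Y) (hj : Topology.IsEmbedding j) (hr : IsClopen (Set.range j)) (x : X) :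
    j '' connectedComponent x = connectedComponent (j x) := by
  apply Set.Subset.antisymm (hj.continuous.image_connectedComponent_subset x)
  have hsub : connectedComponent (j x) ⊆ Set.range j :=
    isPreconnected_connectedComponent.subset_isClopen hr
      ⟨j x, mem_connectedComponent, ⟨x, rfl⟩⟩
  intro y hy
  obtain ⟨w, rfl⟩ := hsub hy
  refine ⟨w, ?_, rfl⟩
  have hpre : _root_.IsPreconnected (j ⁻¹' connectedComponent (j x)) := by
    rw [← hj.isInducing.isPreconnected_image, Set.image_preimage_eq_of_subset hsub]
    exact isPreconnected_connectedComponent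
  exact hpre.subset_connectedComponent (show x ∈ j ⁻¹' _ from mem_connectedComponent) hy

set_option backward.isDefEq.respectTransparency.types false in
theorem fibre_facts {S : Scheme.{u}} (G H : Over S) [GrpObj G] [GrpObj H] (i : H ⟶ G)
    [IsMonHom i] [IsOpenImmersion i.left] (s : S) :
    ∃ j : ↥(GrpFibre.fib H s).left → ↥(GrpFibre.fib G s).left, Topology.IsEmbedding j ∧
      IsClopen (Set.range j) ∧
      (∀ v, (GrpFibre.π G s).base (j v) = i.left.base ((GrpFibre.π H s).base v)) ∧
      j (η[GrpFibre.fib H s].left.base (IsLocalRing.closedPoint (S.residueField s))) =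
        η[GrpFibre.fib G s].left.base (IsLocalRing.closedPoint (S.residueField s)) := by
  obtain ⟨j, hj⟩ : ∃ j : GrpFibre.fib H s ⟶ GrpFibre.fib G s,
      j = (Over.pullback (S.fromSpecResidueField s)).map i := ⟨_, rfl⟩
  haveI hjmon : IsMonHom j := by rw [hj]; infer_instance
  have hjl : j.left = pullback.map H.hom (S.fromSpecResidueField s) G.hom
      (S.fromSpecResidueField s) i.left (𝟙 _) (𝟙 _)
      (by rw [Category.comp_id, Over.w i]) (by rw [Category.comp_id, Category.id_comp]) := by
    rw [hj]
    apply pullback.hom_ext
    · exact (pullback.lift_fst _ _ _).trans (pullback.lift_fst _ _ _).symm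
    · exact (pullback.lift_snd _ _ _).trans
        ((pullback.lift_snd _ _ _).trans (Category.comp_id _)).symm
  haveI : IsOpenImmersion j.left := by rw [hjl]; infer_instance
  have hcl : IsClosed (Set.range ⇑j.left) :=
    Groth.Agent.S8033.isClosed_range_openSubgroup (S.residueField s) (GrpFibre.fib G s)
      (GrpFibre.fib H s) j
  refine ⟨⇑j.left, j.left.isOpenEmbedding.isEmbedding,
    ⟨hcl, j.left.isOpenEmbedding.isOpen_range⟩, ?_, ?_⟩
  · intro v
    have h1 : j.left ≫ GrpFibre.π G s = GrpFibre.π H s ≫ i.left := by
      rw [hjl]
      exact pullback.lift_fst _ _ _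
    exact congrArg (fun m : (GrpFibre.fib H s).left ⟶ G.left => m.base v) h1
  · exact GrpFibre.pt' _ _ _ (IsMonHom.one_hom (f := j)) _


/-- Let G be an S-group scheme whose fibres are locally of finite type over κ(s), and let i : H → G be a
homomorphism of S-group schemes which is an open immersion (an open subgroup scheme). Then the union
G⁰ of the neutral components of the fibres of G is contained in the image of i, and G⁰ is the image
under i of the union H⁰ of the neutral components of the fibres of H. -/
theorem result (S : Scheme.{u}) (G H : Over S) [GrpObj G] [GrpObj H]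
    (hG : ∀ s : S, LocallyOfFiniteType (G.hom.fiberToSpecResidueField s)) (i : H ⟶ G) [IsMonHom i]
    [IsOpenImmersion i.left] :
    SGA3x.neutralSet G ⊆ Set.range i.left.base ∧ i.left.base '' SGA3x.neutralSet H = SGA3x.neutralSet G := by
  constructor
  · rw [GrpFibre.neutralSet_eq]
    intro x hx
    obtain ⟨s, hx⟩ := Set.mem_iUnion.mp hx
    obtain ⟨w, hw, rfl⟩ := hx
    obtain ⟨j, hjemb, hjclopen, hjπ, hje⟩ := fibre_facts G H i s
    have hsub : connectedComponent (η[GrpFibre.fib G s].left.base
        (IsLocalRing.closedPoint (S.residueField s))) ⊆ Set.range j :=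
      isPreconnected_connectedComponent.subset_isClopen hjclopen
        ⟨_, mem_connectedComponent, ⟨_, hje⟩⟩
    obtain ⟨v, rfl⟩ := hsub hw
    exact ⟨(GrpFibre.π H s).base v, (hjπ v).symm⟩
  · rw [GrpFibre.neutralSet_eq G, GrpFibre.neutralSet_eq H, Set.image_iUnion]
    apply Set.iUnion_congr
    intro s
    obtain ⟨j, hjemb, hjclopen, hjπ, hje⟩ := fibre_facts G H i s
    rw [← hje, ← image_cc_of_clopen_range j hjemb hjclopen, Set.image_image, Set.image_image]
    apply Set.image_congr
    intro v _
    exact (hjπ v).symm

end Groth.Agent.S5327
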