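import Groth.Statements.S5333
import Groth.Agent.H49.SepCrit

set_option autoImplicit false
universe u
open CategoryTheory CategoryTheory.Limits MonoidalCategory CartesianMonoidalCategory MonObj GrpObj AlgebraicGeometry
open SGA3

namespace Groth.Agent.S5333


/-- (i) ⟺ (iii) ⟺ (iv'): let f : X → S be a morphism of schemes. Then X is separated over S if and only
if for every reduced scheme T and every two morphisms T → X with the same composite to S which agree
on a dense open subscheme of T are equal; and X is separated over S if and only if every two points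
of X in the same fibre over S lie in a common open subscheme of X which is separated over S. -/
theorem result (X S : Scheme.{u}) (f : X ⟶ S) :
    (IsSeparated f ↔ ∀ (T : Scheme.{u}) [IsReduced T] (g₁ g₂ : T ⟶ X) (U : T.Opens), g₁ ≫ f = g₂ ≫ f →
      Dense (U : Set T) → U.ι ≫ g₁ = U.ι ≫ g₂ → g₁ = g₂) ∧
    (IsSeparated f ↔ ∀ x₁ x₂ : X, f.base x₁ = f.base x₂ →
      ∃ V : X.Opens, x₁ ∈ V ∧ x₂ ∈ V ∧ IsSeparated (V.ι ≫ f)) := by
  refine ⟨⟨fun hsep T _ g₁ g₂ U h hd hU => ?_,
    fun H => Groth.Agent.H49.SepCrit.isSeparated_of_ext f H⟩,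
    ⟨fun hsep x₁ x₂ _ => ⟨⊤, trivial, trivial, inferInstance⟩,
    fun H => Groth.Agent.H49.SepCrit.isSeparated_of_ext f
      (fun T _ g₁ g₂ U h hd hU => Groth.Agent.H49.SepCrit.ext_of_local f H T g₁ g₂ U h hd hU)⟩⟩
  haveI : IsDominant U.ι := by
    constructor
    rw [DenseRange, Scheme.Opens.range_ι]
    exact hd
  exact ext_of_isDominant_of_isSeparated f h U.ι hU

end Groth.Agent.S5333
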