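import Groth.Statements.S5335
import Mathlib

set_option autoImplicit false
set_option maxHeartbeats 400000
universe u
open CategoryTheory CategoryTheory.Limits MonoidalCategory CartesianMonoidalCategory MonObj GrpObj AlgebraicGeometry
open SGA3

namespace Groth.Agent.S5335

set_option backward.isDefEq.respectTransparency.types false in
/-- Every morphism to the spectrum of a local Artinian ring is universally open. -/
theorem universallyOpen_of_artinian_local (A : Type u) [CommRing A] [IsArtinianRing A]
    [IsLocalRing A] {W : Scheme.{u}} (h : W ⟶ Spec (CommRingCat.of A)) : UniversallyOpen h := by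
  let i₀ : Spec (CommRingCat.of (IsLocalRing.ResidueField A)) ⟶ Spec (CommRingCat.of A) :=
    Spec.map (CommRingCat.ofHom (IsLocalRing.residue A))
  haveI : IsClosedImmersion i₀ :=
    IsClosedImmersion.spec_of_surjective _ IsLocalRing.residue_surjective
  have hpt : ∀ y : PrimeSpectrum A, y.asIdeal = IsLocalRing.maximalIdeal A := fun y =>
    IsLocalRing.eq_maximalIdeal (IsArtinianRing.isMaximal_of_isPrime y.asIdeal)
  haveI : Surjective i₀ := by
    constructor
    intro x
    refine ⟨IsLocalRing.closedPoint (IsLocalRing.ResidueField A), ?_⟩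
    apply PrimeSpectrum.ext
    rw [hpt x]
    exact hpt _
  haveI : Subsingleton ↥(Spec (CommRingCat.of (IsLocalRing.ResidueField A))) :=
    inferInstanceAs (Subsingleton (PrimeSpectrum (IsLocalRing.ResidueField A)))
  constructor
  intro W' T i₁ i₂ f' H
  have H' : IsPullback (pullback.fst f' (pullback.fst i₂ i₀)) (pullback.snd f' (pullback.fst i₂ i₀))
      f' (pullback.fst i₂ i₀) := IsPullback.of_hasPullback _ _
  have big := H'.paste_horiz H.flip
  rw [pullback.condition (f := i₂) (g := i₀)] at big
  have right : IsPullback (pullback.fst h i₀) (pullback.snd h i₀) h i₀ :=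
    IsPullback.of_hasPullback _ _
  obtain ⟨a, ha1, ha2⟩ : ∃ a : pullback f' (pullback.fst i₂ i₀) ⟶ pullback h i₀,
      a ≫ pullback.fst h i₀ = pullback.fst f' (pullback.fst i₂ i₀) ≫ i₁ ∧
      a ≫ pullback.snd h i₀ = pullback.snd f' (pullback.fst i₂ i₀) ≫ pullback.snd i₂ i₀ :=
    ⟨right.lift _ _ big.w, right.lift_fst _ _ _, right.lift_snd _ _ _⟩
  rw [← ha1] at big
  have left : IsPullback a (pullback.snd f' (pullback.fst i₂ i₀)) (pullback.snd h i₀)
      (pullback.snd i₂ i₀) := IsPullback.of_right big ha2 right
  haveI : UniversallyOpen (pullback.snd h i₀) := inferInstance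
  haveI : UniversallyOpen (pullback.snd f' (pullback.fst i₂ i₀)) :=
    MorphismProperty.of_isPullback (P := @UniversallyOpen) left inferInstance
  have hopen₀ : IsOpenMap (pullback.snd f' (pullback.fst i₂ i₀)) :=
    (pullback.snd f' (pullback.fst i₂ i₀)).isOpenMap
  have hbij : Function.Bijective (pullback.fst i₂ i₀) :=
    ⟨(pullback.fst i₂ i₀).isClosedEmbedding.injective, (pullback.fst i₂ i₀).surjective⟩
  have hjopen : IsOpenMap (pullback.fst i₂ i₀) := by
    intro O hO
    rw [← compl_compl O, Set.image_compl_eq hbij]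
    exact ((pullback.fst i₂ i₀).isClosedEmbedding.isClosedMap _ hO.isClosed_compl).isOpen_compl
  intro U hU
  have hU' : f' '' U = pullback.fst i₂ i₀ '' (pullback.snd f' (pullback.fst i₂ i₀) ''
      (pullback.fst f' (pullback.fst i₂ i₀) ⁻¹' U)) := by
    ext t
    constructor
    · rintro ⟨w, hw, rfl⟩
      obtain ⟨w₀, rfl⟩ := (pullback.fst f' (pullback.fst i₂ i₀)).surjective w
      refine ⟨pullback.snd f' (pullback.fst i₂ i₀) w₀, ⟨w₀, hw, rfl⟩, ?_⟩
      have := congrArg (fun m => m w₀) (pullback.condition (f := f') (g := pullback.fst i₂ i₀))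
      exact this.symm
    · rintro ⟨_, ⟨w₀, hw₀, rfl⟩, rfl⟩
      refine ⟨pullback.fst f' (pullback.fst i₂ i₀) w₀, hw₀, ?_⟩
      have := congrArg (fun m => m w₀) (pullback.condition (f := f') (g := pullback.fst i₂ i₀))
      exact this
  show IsOpen (f' '' U)
  rw [hU']
  exact hjopen _ (hopen₀ _ (hU.preimage (pullback.fst f' (pullback.fst i₂ i₀)).continuous))

set_option backward.isDefEq.respectTransparency.types false in
theorem range_id_eq_univ (T : Scheme.{u}) : Set.range (𝟙 T : T ⟶ T) = Set.univ :=
  Set.range_eq_univ.mpr (fun y => ⟨y, rfl⟩)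


/-- Let A be a local artinian ring and f : X' → X, g : Y' → Y two quasi-compact dominant morphisms of
schemes over A. Then the product morphism f ×_A g : X' ×_A Y' → X ×_A Y is dominant (and
quasi-compact). -/
theorem result (A : Type u) [CommRing A] [IsArtinianRing A] [IsLocalRing A] (X X' Y Y' : Over (Spec (CommRingCat.of A)))
    (f : X' ⟶ X) (g : Y' ⟶ Y) [QuasiCompact f.left] [QuasiCompact g.left]
    (hf : DenseRange f.left.base) (hg : DenseRange g.left.base) :
    DenseRange (f ⊗ₘ g).left.base ∧ QuasiCompact (f ⊗ₘ g).left := by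
  haveI : UniversallyOpen Y'.hom := universallyOpen_of_artinian_local A Y'.hom
  haveI : UniversallyOpen X.hom := universallyOpen_of_artinian_local A X.hom
  constructor
  · have e : (f ⊗ₘ g).left = (f ▷ Y').left ≫ (X ◁ g).left := by
      rw [← Over.comp_left, ← MonoidalCategory.tensorHom_def]
    have h1 : Dense (Set.range (f ▷ Y').left) := by
      rw [Over.whiskerRight_left, Scheme.Pullback.range_map, range_id_eq_univ, Set.preimage_univ,
        Set.inter_univ]
      exact hf.preimage (pullback.fst X.hom Y'.hom).isOpenMap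
    have h2 : Dense (Set.range (X ◁ g).left) := by
      rw [Over.whiskerLeft_left, Scheme.Pullback.range_map, range_id_eq_univ, Set.preimage_univ,
        Set.univ_inter]
      exact hg.preimage (pullback.snd X.hom Y.hom).isOpenMap
    have e' : (⇑(f ⊗ₘ g).left.base : _ → _) = ⇑(X ◁ g).left.base ∘ ⇑(f ▷ Y').left.base := by
      rw [e]
      rfl
    rw [e']
    exact DenseRange.comp h2 h1 (X ◁ g).left.continuous
  · rw [Over.tensorHom_left]
    exact MorphismProperty.pullbackMap (P := @QuasiCompact) inferInstance inferInstance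
      (Over.w f).symm (Over.w g).symm

end Groth.Agent.S5335
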