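import Groth.Statements.S5337
import Groth.Agent.H40.LocusTop

set_option autoImplicit false
universe u
open CategoryTheory CategoryTheory.Limits MonoidalCategory CartesianMonoidalCategory MonObj GrpObj AlgebraicGeometry
open SGA3

namespace Groth.Agent.S5337

/-- Quasi-finite, unramified, smooth and etale cases: let A be a local artinian ring, G an A-group
scheme which is flat and locally of finite type over A, and u : G → H a homomorphism of A-group
schemes. If u is locally quasi-finite (resp. unramified, that is formally unramified and locally of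
finite presentation, resp. smooth, resp. etale) on some nonempty open subscheme of G, then u is
locally quasi-finite (resp. unramified, resp. smooth, resp. etale). (Here u is automatically locally
of finite type.) -/
theorem result (A : Type u) [CommRing A] [IsArtinianRing A] [IsLocalRing A] (G H : Over (Spec (CommRingCat.of A))) [GrpObj G] [GrpObj H]
    [Flat G.hom] [LocallyOfFiniteType G.hom] (u : G ⟶ H) [IsMonHom u] (W : G.left.Opens) (hW : (W : Set G.left).Nonempty) :
    (LocallyQuasiFinite (W.ι ≫ u.left) → LocallyQuasiFinite u.left) ∧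
    (FormallyUnramified (W.ι ≫ u.left) → LocallyOfFinitePresentation (W.ι ≫ u.left) →
      FormallyUnramified u.left ∧ LocallyOfFinitePresentation u.left) ∧
    (Smooth (W.ι ≫ u.left) → Smooth u.left) ∧ (Etale (W.ι ≫ u.left) → Etale u.left) := by
  open Groth.Agent.H40.SubgrpLocus Groth.Agent.H40.UnramLocus Groth.Agent.H40.PtLocus
    Groth.Agent.H40.LocusTop in
  have hsub : Subsingleton (Spec (CommRingCat.of A)) := by
    refine ⟨fun p q => ?_⟩
    have hp : p.asIdeal = IsLocalRing.maximalIdeal A :=
      IsLocalRing.eq_maximalIdeal (IsArtinianRing.isPrime_iff_isMaximal _ |>.mp p.isPrime)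
    have hq : q.asIdeal = IsLocalRing.maximalIdeal A :=
      IsLocalRing.eq_maximalIdeal (IsArtinianRing.isPrime_iff_isMaximal _ |>.mp q.isPrime)
    exact PrimeSpectrum.ext (hp.trans hq.symm)
  have hnoeth : IsLocallyNoetherian (Spec (CommRingCat.of A)) := inferInstance
  have hGlfp : LocallyOfFinitePresentation G.hom := inferInstance
  have hulft : LocallyOfFiniteType u.left := by
    have : LocallyOfFiniteType (u.left ≫ H.hom) := by rw [Over.w u]; infer_instance
    exact locallyOfFiniteType_of_comp u.left H.hom
  obtain ⟨w, hw⟩ := hW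
  have hfib : ∀ x : G.left, G.hom.base x = G.hom.base w := fun x => Subsingleton.elim _ _
  have hη : ∀ x : G.left, η[G].left.base (G.hom.base x) = η[G].left.base (G.hom.base w) :=
    fun x => by rw [hfib x]
  refine ⟨?_, ?_, ?_, ?_⟩
  · intro h
    have h1 : u.left.QuasiFiniteAt w :=
      Scheme.Hom.quasiFiniteAt_comp_iff_of_isOpenImmersion.mp
        ((W.ι ≫ u.left).quasiFiniteAt ⟨w, hw⟩)
    have h2 := (pt_iff_unit ptBC_qf u w).mp h1
    refine u.left.quasiFiniteLocus_eq_top_iff.mp (eq_top_iff.mpr fun x _ => ?_)
    refine (pt_iff_unit ptBC_qf u x).mpr ?_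
    rw [hη x]
    exact h2
  · intro h h'
    constructor
    · have h0 : ((W.ι ≫ u.left).stalkMap ⟨w, hw⟩).hom.FormallyUnramified :=
        FormallyUnramified.stalkMap _ _
      have h1 : (u.left.stalkMap w).hom.FormallyUnramified :=
        (Groth.Agent.H49.SmoothFibre.stalkMap_prop_comp_left
          RingHom.FormallyUnramified.respectsIso W.ι u.left ⟨w, hw⟩).mp h0
      have h2 := (unram_iff_unit u w).mp h1
      refine (formallyUnramified_iff_stalk u.left).mpr fun x => ?_
      refine (unram_iff_unit u x).mpr ?_
      rw [hη x]
      exact h2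
    · refine of_forall_nhd @LocallyOfFinitePresentation u.left fun x => ?_
      exact nhd_of_mem_fibre u @LocallyOfFinitePresentation
        (fun H _ _ x' U' hx' hU' => pd_lfp H x' U' hx' hU') W h' x w hw (hfib x)
  · intro h
    refine of_forall_nhd @Smooth u.left fun x => ?_
    exact nhd_of_mem_fibre u @Smooth
      (fun H _ _ x' U' hx' hU' => pd_smooth H x' U' hx' hU') W h x w hw (hfib x)
  · intro h
    refine of_forall_nhd @Etale u.left fun x => ?_
    exact nhd_of_mem_fibre u @Etale
      (fun H _ _ x' U' hx' hU' => pd_etale H x' U' hx' hU') W h x w hw (hfib x)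

end Groth.Agent.S5337
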