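import Groth.Statements.S9166
import Mathlib

set_option autoImplicit false
universe u
open CAlg

namespace Groth.Agent.S9166


open TensorProduct in
theorem mem_smul_ker_of_flat {R M P : Type*} [CommRing R] [AddCommGroup M] [Module R M]
    [AddCommGroup P] [Module R P] [Module.Flat R P] (π : M →ₗ[R] P) (hπ : Function.Surjective π)
    (I : Ideal R) {x : M} (hx : x ∈ I • (⊤ : Submodule R M)) (hx0 : π x = 0) :
    x ∈ I • LinearMap.ker π := by
  let μM : (I ⊗[R] M) →ₗ[R] M :=
    (TensorProduct.lid R M).toLinearMap ∘ₗ LinearMap.rTensor M I.subtype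
  let μP : (I ⊗[R] P) →ₗ[R] P :=
    (TensorProduct.lid R P).toLinearMap ∘ₗ LinearMap.rTensor P I.subtype
  have hμM : ∀ (a : I) (m : M), μM (a ⊗ₜ m) = (a : R) • m := fun a m => by simp [μM]
  have hμP : ∀ (a : I) (p : P), μP (a ⊗ₜ p) = (a : R) • p := fun a p => by simp [μP]
  have hμPinj : Function.Injective μP :=
    (TensorProduct.lid R P).injective.comp
      (Module.Flat.rTensor_preserves_injective_linearMap I.subtype Subtype.val_injective)
  have hnat : ∀ t : I ⊗[R] M, μP (LinearMap.lTensor I π t) = π (μM t) := by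
    intro t
    induction t using TensorProduct.induction_on with
    | zero => simp
    | tmul a m => rw [LinearMap.lTensor_tmul, hμP, hμM, map_smul]
    | add t₁ t₂ h₁ h₂ => rw [map_add, map_add, h₁, h₂, map_add, map_add]
  have hmem : ∀ t' : I ⊗[R] LinearMap.ker π,
      μM (LinearMap.lTensor I (LinearMap.ker π).subtype t') ∈ I • LinearMap.ker π := by
    intro t'
    induction t' using TensorProduct.induction_on with
    | zero => simp
    | tmul a n =>
      rw [LinearMap.lTensor_tmul, hμM]
      exact Submodule.smul_mem_smul a.2 n.2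
    | add t₁ t₂ h₁ h₂ =>
      rw [map_add, map_add]
      exact add_mem h₁ h₂
  obtain ⟨t, rfl⟩ : ∃ t, μM t = x := by
    refine Submodule.smul_induction_on hx (fun a ha m _ => ⟨(⟨a, ha⟩ : I) ⊗ₜ m, hμM _ _⟩) ?_
    rintro _ _ ⟨t₁, rfl⟩ ⟨t₂, rfl⟩
    exact ⟨t₁ + t₂, map_add _ _ _⟩
  have ht0 : LinearMap.lTensor I π t = 0 := hμPinj (by rw [hnat, hx0, map_zero])
  have hex : Function.Exact (LinearMap.ker π).subtype π := LinearMap.exact_subtype_ker_map π
  obtain ⟨t', rfl⟩ := (lTensor_exact I hex hπ t).mp ht0
  exact hmem t'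

theorem ker_fg_of_finiteType {R S S' : Type u} [CommRing R] [CommRing S] [CommRing S']
    [Algebra R S] [Algebra R S'] [Algebra.FiniteType R S] [Algebra.FinitePresentation R S']
    (f : S →ₐ[R] S') (hf : Function.Surjective f) : (RingHom.ker f.toRingHom).FG := by
  obtain ⟨n, g, hg⟩ := Algebra.FiniteType.iff_quotient_mvPolynomial''.mp
    (inferInstance : Algebra.FiniteType R S)
  convert! (Algebra.FinitePresentation.ker_fg_of_mvPolynomial (f.comp g) (hf.comp hg)).map
    g.toRingHom
  simp_rw [RingHom.ker_eq_comap_bot, AlgHom.toRingHom_eq_coe, AlgHom.comp_toRingHom]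
  rw [← Ideal.comap_comap, Ideal.map_comap_of_surjective (g : MvPolynomial (Fin n) R →+* S) hg]

theorem exists_kill_of_fg {S : Type u} [CommRing S] (q : Ideal S) [q.IsPrime]
    (N : Ideal S) (hN : N.FG)
    (h0 : ∀ x ∈ N, algebraMap S (Localization.AtPrime q) x = 0) :
    ∃ g : S, g ∉ q ∧ ∀ x ∈ N, g * x = 0 := by
  revert h0
  refine Submodule.fg_induction (motive := fun N _ =>
    (∀ x ∈ N, algebraMap S (Localization.AtPrime q) x = 0) →
      ∃ g : S, g ∉ q ∧ ∀ x ∈ N, g * x = 0) ?_ ?_ N hN
  · intro x hx
    obtain ⟨u, hu⟩ := (IsLocalization.map_eq_zero_iff q.primeCompl (Localization.AtPrime q) x).mp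
      (hx x (Submodule.mem_span_singleton_self x))
    refine ⟨u, u.2, fun y hy => ?_⟩
    obtain ⟨c, rfl⟩ := Submodule.mem_span_singleton.mp hy
    rw [smul_eq_mul, mul_left_comm, hu, mul_zero]
  · intro N₁ N₂ _ _ h₁ h₂ h
    obtain ⟨g₁, hg₁, h₁⟩ := h₁ (fun x hx => h x (Submodule.mem_sup_left hx))
    obtain ⟨g₂, hg₂, h₂⟩ := h₂ (fun x hx => h x (Submodule.mem_sup_right hx))
    refine ⟨g₁ * g₂, fun hmem => (Ideal.IsPrime.mem_or_mem inferInstance hmem).elim hg₁ hg₂,
      fun x hx => ?_⟩
    obtain ⟨a, ha, b, hb, rfl⟩ := Submodule.mem_sup.mp hx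
    have : g₁ * g₂ * (a + b) = g₂ * (g₁ * a) + g₁ * (g₂ * b) := by ring
    rw [this, h₁ a ha, h₂ b hb, mul_zero, mul_zero, add_zero]

/-- Let I be an ideal of a ring R, S → S' a surjective homomorphism of R-algebras with S of finite type
and S' of finite presentation over R, and q a prime of S containing IS. Assume S'_q is flat over R
and that S_q/IS_q → S'_q/IS'_q is an isomorphism, which for a surjection says: every element of the
kernel of S → S' maps into I·S_q. Then for some g ∉ q the localized map S_g → S'_g is bijective. -/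
theorem result (R S S' : Type u) [CommRing R] [CommRing S]
    [CommRing S'] [Algebra R S] [Algebra R S'] [Algebra.FiniteType R S] [Algebra.FinitePresentation R S']
    (I : Ideal R) (f : S →ₐ[R] S') (hf : Function.Surjective f) (q : Ideal S) [q.IsPrime]
    (hq : I.map (algebraMap R S) ≤ q)
    (hker : ∀ j : S, f j = 0 →
      algebraMap S (Localization.AtPrime q) j ∈ I.map (algebraMap R (Localization.AtPrime q)))
    (hflat : letI : Module S S' := f.toRingHom.toModule
      Module.Flat R (LocalizedModule q.primeCompl S')) :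
    ∃ g : S, g ∉ q ∧ Function.Bijective (Localization.awayMap f.toRingHom g) := by
  classical
  let _ : Module S S' := f.toRingHom.toModule
  have hK : (RingHom.ker f.toRingHom).FG := ker_fg_of_finiteType f hf
  let e0 : LocalizedModule q.primeCompl S' := LocalizedModule.mk 1 1
  let π : Localization.AtPrime q →ₗ[R] LocalizedModule q.primeCompl S' :=
    (LinearMap.toSpanSingleton (Localization.AtPrime q)
      (LocalizedModule q.primeCompl S') e0).restrictScalars R
  have hπ_apply : ∀ x, π x = x • e0 := fun x => rfl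
  have hπmk : ∀ (a : S) (s : q.primeCompl),
      π (Localization.mk a s) = LocalizedModule.mk (f a) s := by
    intro a s
    rw [hπ_apply, LocalizedModule.mk_smul_mk, mul_one]
    congr 1
    show f a * 1 = f a
    exact mul_one _
  have hπsurj : Function.Surjective π := by
    intro y
    induction y using LocalizedModule.induction_on with
    | h m s =>
      obtain ⟨a, rfl⟩ := hf m
      exact ⟨Localization.mk a s, hπmk a s⟩
  have hker_le : ∀ x, π x = 0 → x ∈ Ideal.map (algebraMap S (Localization.AtPrime q))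
      (RingHom.ker f.toRingHom) := by
    intro x hx
    obtain ⟨a, s, rfl⟩ := IsLocalization.exists_mk'_eq q.primeCompl x
    rw [← Localization.mk_eq_mk'_apply, hπmk, ← LocalizedModule.zero_mk (1 : q.primeCompl),
      LocalizedModule.mk_eq] at hx
    obtain ⟨u, hu⟩ := hx
    rw [smul_zero, smul_zero, one_smul] at hu
    have hu' : f ((u : S) * a) = 0 := by
      rw [map_mul]; exact hu
    rw [IsLocalization.mk'_mem_iff]
    have h1 : algebraMap S (Localization.AtPrime q) ((u : S) * a) ∈
        Ideal.map (algebraMap S (Localization.AtPrime q)) (RingHom.ker f.toRingHom) :=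
      Ideal.mem_map_of_mem _ (RingHom.mem_ker.mpr hu')
    rw [map_mul] at h1
    exact (Ideal.unit_mul_mem_iff_mem _ (IsLocalization.map_units _ u)).mp h1
  have hmax : ∀ a ∈ I, algebraMap R (Localization.AtPrime q) a ∈
      IsLocalRing.maximalIdeal (Localization.AtPrime q) := by
    intro a ha
    rw [IsScalarTower.algebraMap_apply R S (Localization.AtPrime q),
      IsLocalization.AtPrime.to_map_mem_maximal_iff (Localization.AtPrime q) q]
    exact hq (Ideal.mem_map_of_mem _ ha)
  have hle : Ideal.map (algebraMap S (Localization.AtPrime q)) (RingHom.ker f.toRingHom) ≤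
      IsLocalRing.maximalIdeal (Localization.AtPrime q) •
        Ideal.map (algebraMap S (Localization.AtPrime q)) (RingHom.ker f.toRingHom) := by
    rw [Ideal.map_le_iff_le_comap]
    intro k hk
    rw [Ideal.mem_comap]
    have hk0 : f k = 0 := hk
    have h1 : algebraMap S (Localization.AtPrime q) k ∈
        I • (⊤ : Submodule R (Localization.AtPrime q)) := by
      rw [Ideal.smul_top_eq_map]
      exact (Submodule.restrictScalars_mem R _ _).mpr (hker k hk0)
    have h2 : π (algebraMap S (Localization.AtPrime q) k) = 0 := by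
      rw [← Localization.mk_one_eq_algebraMap, hπmk, hk0, LocalizedModule.zero_mk]
    have h3 := mem_smul_ker_of_flat π hπsurj I h1 h2
    refine Submodule.smul_induction_on h3 (fun a ha y hy => ?_) (fun x y hx hy => add_mem hx hy)
    rw [Algebra.smul_def]
    exact Submodule.smul_mem_smul (hmax a ha) (hker_le y hy)
  have hbot : Ideal.map (algebraMap S (Localization.AtPrime q)) (RingHom.ker f.toRingHom) = ⊥ := by
    refine Submodule.eq_bot_of_le_smul_of_le_jacobson_bot (IsLocalRing.maximalIdeal _) _
      (hK.map _) hle ?_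
    rw [IsLocalRing.jacobson_eq_maximalIdeal ⊥ bot_ne_top]
  obtain ⟨g, hgq, hgK⟩ := exists_kill_of_fg q _ hK (fun k hk => by
    have : algebraMap S (Localization.AtPrime q) k ∈
        Ideal.map (algebraMap S (Localization.AtPrime q)) (RingHom.ker f.toRingHom) :=
      Ideal.mem_map_of_mem _ hk
    rw [hbot] at this
    exact this)
  refine ⟨g, hgq, ?_, ?_⟩
  · rw [Localization.awayMap_injective_iff]
    intro a ha
    exact ⟨1, by rw [pow_one]; exact hgK a (RingHom.mem_ker.mpr ha)⟩
  · rw [Localization.awayMap_surjective_iff]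
    intro a
    obtain ⟨b, rfl⟩ := hf a
    exact ⟨b, 0, by rw [pow_zero, one_mul]; rfl⟩

end Groth.Agent.S9166
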