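import Groth.Statements.S5338
import Mathlib
import Groth.Agent.S9166

set_option autoImplicit false
universe u
open CategoryTheory CategoryTheory.Limits MonoidalCategory CartesianMonoidalCategory MonObj GrpObj AlgebraicGeometry
open SGA3

namespace Groth.Agent.S5338


theorem le_of_le_sup_smul {A M : Type*} [CommRing A] [AddCommGroup M] [Module A M]
    (n : Ideal A) (hn : IsNilpotent n) (N N' : Submodule A M) (h : N ≤ N' ⊔ n • N) : N ≤ N' := by
  obtain ⟨k, hk⟩ := hn
  have key : ∀ j : ℕ, N ≤ N' ⊔ n ^ j • N := by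
    intro j
    induction j with
    | zero =>
      rw [pow_zero, Ideal.one_eq_top, Submodule.top_smul]
      exact le_sup_right
    | succ j ih =>
      refine h.trans (sup_le le_sup_left ?_)
      refine (Submodule.smul_mono (le_refl n) ih).trans ?_
      rw [Submodule.smul_sup]
      refine sup_le (Submodule.smul_le_right.trans le_sup_left) ?_
      rw [← Submodule.smul_assoc, smul_eq_mul, ← pow_succ']
      exact le_sup_right
  have := key k
  rwa [hk, Ideal.zero_eq_bot, Submodule.bot_smul, sup_bot_eq] at this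

section core

variable {A B C : Type u} [CommRing A] [CommRing B] [CommRing C]
    [Algebra A B] [Algebra B C] [Algebra A C] [IsScalarTower A B C] (n : Ideal A)

theorem core (hn : IsNilpotent n) (r : ℕ)
    (φbar : MvPolynomial (Fin r) (B ⧸ n.map (algebraMap A B)) →ₐ[B ⧸ n.map (algebraMap A B)]
      (C ⧸ (n.map (algebraMap A B)).map (algebraMap B C)))
    (hφbar : Function.Surjective φbar) :
    ∃ ψ : MvPolynomial (Fin r) B →ₐ[B] C, Function.Surjective ψ ∧
      (Module.Flat A C → (RingHom.ker φbar.toRingHom).FG → (RingHom.ker ψ.toRingHom).FG) := by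
  classical
  have hc : ∀ i, ∃ c : C, Ideal.Quotient.mk ((n.map (algebraMap A B)).map (algebraMap B C)) c =
      φbar (MvPolynomial.X i) := fun i => Ideal.Quotient.mk_surjective _
  choose c hc using hc
  let ψ : MvPolynomial (Fin r) B →ₐ[B] C := MvPolynomial.aeval c
  let ρ : MvPolynomial (Fin r) B →+* MvPolynomial (Fin r) (B ⧸ n.map (algebraMap A B)) :=
    MvPolynomial.map (Ideal.Quotient.mk (n.map (algebraMap A B)))
  have hρ : Function.Surjective ρ := MvPolynomial.map_surjective _ Ideal.Quotient.mk_surjective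
  have hcomm : ∀ p, φbar (ρ p) =
      Ideal.Quotient.mk ((n.map (algebraMap A B)).map (algebraMap B C)) (ψ p) := by
    intro p
    have : (φbar.toRingHom.comp ρ) =
        (Ideal.Quotient.mk ((n.map (algebraMap A B)).map (algebraMap B C))).comp ψ.toRingHom := by
      apply MvPolynomial.ringHom_ext
      · intro b
        show φbar (ρ (MvPolynomial.C b)) = Ideal.Quotient.mk _ (ψ (MvPolynomial.C b))
        rw [MvPolynomial.map_C, ← MvPolynomial.algebraMap_eq, AlgHom.commutes,
          Ideal.Quotient.algebraMap_quotient_map_quotient, MvPolynomial.aeval_C]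
      · intro i
        show φbar (ρ (MvPolynomial.X i)) = Ideal.Quotient.mk _ (ψ (MvPolynomial.X i))
        rw [MvPolynomial.map_X, MvPolynomial.aeval_X, hc]
    exact DFunLike.congr_fun this p
  let ψA : MvPolynomial (Fin r) B →ₗ[A] C := ψ.toLinearMap.restrictScalars A
  have hψA : ∀ p, ψA p = ψ p := fun p => rfl
  have hJC : ∀ x : C, x ∈ (n.map (algebraMap A B)).map (algebraMap B C) ↔
      x ∈ (n • ⊤ : Submodule A C) := by
    intro x
    rw [Ideal.smul_top_eq_map, Submodule.restrictScalars_mem, Ideal.map_map,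
      ← IsScalarTower.algebraMap_eq]
  have hkerρ : ∀ p : MvPolynomial (Fin r) B,
      ρ p = 0 ↔ p ∈ (n • ⊤ : Submodule A (MvPolynomial (Fin r) B)) := by
    intro p
    rw [Ideal.smul_top_eq_map, Submodule.restrictScalars_mem, ← RingHom.mem_ker,
      MvPolynomial.ker_map, Ideal.mk_ker, Ideal.map_map,
      IsScalarTower.algebraMap_eq A B (MvPolynomial (Fin r) B), MvPolynomial.algebraMap_eq]
  have hsurj : Function.Surjective ψ := by
    have h1 : (⊤ : Submodule A C) ≤ LinearMap.range ψA ⊔ n • ⊤ := by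
      intro x _
      obtain ⟨pbar, hp⟩ := hφbar (Ideal.Quotient.mk _ x)
      obtain ⟨p, rfl⟩ := hρ pbar
      rw [hcomm] at hp
      have hmem : x - ψ p ∈ (n.map (algebraMap A B)).map (algebraMap B C) := by
        rw [← Ideal.Quotient.eq_zero_iff_mem, map_sub, hp, sub_self]
      have hx : x = ψA p + (x - ψ p) := by rw [hψA]; abel
      rw [hx]
      exact Submodule.add_mem_sup (LinearMap.mem_range_self _ _) ((hJC _).mp hmem)
    have h2 := le_of_le_sup_smul n hn _ _ h1
    intro x
    obtain ⟨p, hp⟩ := h2 (Submodule.mem_top : x ∈ ⊤)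
    exact ⟨p, hp⟩
  refine ⟨ψ, hsurj, fun hflat hfg => ?_⟩
  have hlift : ∀ g ∈ RingHom.ker φbar.toRingHom, ∃ k, ψ k = 0 ∧ ρ k = g := by
    intro g hg
    obtain ⟨p, rfl⟩ := hρ g
    have h0 : Ideal.Quotient.mk ((n.map (algebraMap A B)).map (algebraMap B C)) (ψ p) = 0 := by
      rw [← hcomm]; exact hg
    rw [Ideal.Quotient.eq_zero_iff_mem, hJC] at h0
    obtain ⟨z, hz, hzp⟩ : ∃ z ∈ (n • ⊤ : Submodule A (MvPolynomial (Fin r) B)),
        ψA z = ψ p := by
      have hle : (n • ⊤ : Submodule A C) ≤ Submodule.map ψA (n • ⊤) := by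
        rw [Submodule.map_smul'', Submodule.map_top,
          (LinearMap.range_eq_top (f := ψA)).mpr hsurj]
      exact hle h0
    refine ⟨p - z, by rw [map_sub, ← hψA z, hzp, sub_self], ?_⟩
    rw [map_sub, (hkerρ z).mpr hz, sub_zero]
  obtain ⟨s, hs⟩ := hfg
  choose! κ hκ using hlift
  have hsker : ∀ g ∈ (s : Set (MvPolynomial (Fin r) (B ⧸ n.map (algebraMap A B)))),
      g ∈ RingHom.ker φbar.toRingHom := fun g hg => hs ▸ Submodule.subset_span hg
  have hK'fg : (Ideal.span (κ '' (s : Set _))).FG := ⟨s.image κ, by rw [Finset.coe_image]⟩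
  have hK'le : Ideal.span (κ '' (s : Set _)) ≤ RingHom.ker ψ.toRingHom := by
    rw [Ideal.span_le]
    rintro _ ⟨g, hg, rfl⟩
    exact (hκ g (hsker g hg)).1
  have hmapK' : Ideal.map ρ (Ideal.span (κ '' (s : Set _))) = RingHom.ker φbar.toRingHom := by
    rw [Ideal.map_span, Set.image_image,
      Set.image_congr (fun g hg => (hκ g (hsker g hg)).2), Set.image_id']
    exact hs
  have hKle : LinearMap.ker ψA ≤
      (Ideal.span (κ '' (s : Set _))).restrictScalars A ⊔ n • LinearMap.ker ψA := by
    intro x hx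
    have hx0 : ψ x = 0 := hx
    have h1 : ρ x ∈ Ideal.map ρ (Ideal.span (κ '' (s : Set _))) := by
      rw [hmapK', RingHom.mem_ker]
      show φbar (ρ x) = 0
      rw [hcomm, hx0, map_zero]
    obtain ⟨k', hk', hk'x⟩ := (Ideal.mem_map_iff_of_surjective ρ hρ).mp h1
    have hk0 : ψ k' = 0 := RingHom.mem_ker.mp (hK'le hk')
    have hz : x - k' ∈ (n • ⊤ : Submodule A (MvPolynomial (Fin r) B)) :=
      (hkerρ _).mp (by rw [map_sub, hk'x, sub_self])
    have hz0 : ψA (x - k') = 0 := by rw [hψA, map_sub, hx0, hk0, sub_zero]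
    have hmem := Groth.Agent.S9166.mem_smul_ker_of_flat ψA hsurj n hz hz0
    have hx' : x = k' + (x - k') := by abel
    rw [hx']
    exact Submodule.add_mem_sup ((Submodule.restrictScalars_mem A _ k').mpr hk') hmem
  have hfinal := le_of_le_sup_smul n hn _ _ hKle
  have heq : RingHom.ker ψ.toRingHom = Ideal.span (κ '' (s : Set _)) :=
    le_antisymm (fun x hx => (Submodule.restrictScalars_mem A _ x).mp
      (hfinal (LinearMap.mem_ker.mpr (show ψ.toRingHom x = 0 from RingHom.mem_ker.mp hx)))) hK'le
  rw [heq]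
  exact hK'fg

end core

/-- Let A → B → C be homomorphisms of commutative rings and n a nilpotent ideal of A; write nB and nC
for the extended ideals. (i) If C/nC is a (B/nB)-algebra of finite type, then C is a B-algebra of
finite type. (ii) If moreover C is flat over A and C/nC is a (B/nB)-algebra of finite presentation,
then C is a B-algebra of finite presentation. -/
theorem result (A B C : Type u) [CommRing A] [CommRing B] [CommRing C]
    [Algebra A B] [Algebra B C] [Algebra A C] [IsScalarTower A B C] (n : Ideal A) (hn : IsNilpotent n) :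
    (Algebra.FiniteType (B ⧸ n.map (algebraMap A B)) (C ⧸ (n.map (algebraMap A B)).map (algebraMap B C)) →
      Algebra.FiniteType B C) ∧
    (Module.Flat A C →
      Algebra.FinitePresentation (B ⧸ n.map (algebraMap A B)) (C ⧸ (n.map (algebraMap A B)).map (algebraMap B C)) →
      Algebra.FinitePresentation B C) := by
  refine ⟨fun hft => ?_, fun hflat hfp => ?_⟩
  · obtain ⟨r, φbar, hφbar⟩ := Algebra.FiniteType.iff_quotient_mvPolynomial''.mp hft
    obtain ⟨ψ, hψ, -⟩ := core n hn r φbar hφbar
    exact Algebra.FiniteType.iff_quotient_mvPolynomial''.mpr ⟨r, ψ, hψ⟩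
  · obtain ⟨r, φbar, hφbar, hker⟩ := hfp.out
    obtain ⟨ψ, hψ, h⟩ := core n hn r φbar hφbar
    exact ⟨r, ψ, hψ, h hflat hker⟩

end Groth.Agent.S5338
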