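import Groth.Statements.S5343
import Mathlib.Algebra.Module.Projective
import Mathlib.RingTheory.Spectrum.Prime.Topology
import Mathlib.RingTheory.Ideal.IdempotentFG
import Mathlib.RingTheory.Spectrum.Prime.RingHom

set_option autoImplicit false
universe u
open CategoryTheory CategoryTheory.Limits MonoidalCategory CartesianMonoidalCategory MonObj GrpObj AlgebraicGeometry
open SGA3

namespace Groth.Agent.S5343

/-- Let R be a commutative ring and B a commutative R-algebra which is projective as an R-module. Then
the image of Spec B → Spec R is an open and closed subset of Spec R. (The published statement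
concerns a quasi-coherent algebra on any scheme which is a direct summand of a free module; this row
is the affine case.) -/
theorem result (R B : Type u) [CommRing R] [CommRing B] [Algebra R B] [Module.Projective R B] :
    IsClopen (Set.range (PrimeSpectrum.comap (algebraMap R B))) := by
  classical
  obtain ⟨s, hs⟩ := Module.projective_def'.mp (inferInstance : Module.Projective R B)
  have hs' : ∀ b : B, Finsupp.linearCombination R id (s b) = b := fun b => LinearMap.congr_fun hs b
  set a : B →₀ R := s 1 with ha
  set τ : Ideal R := Ideal.span (Set.range a) with hτ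
  have hone : (1 : B) = ∑ x ∈ a.support, a x • x := by
    have := hs' 1
    rw [Finsupp.linearCombination_apply, Finsupp.sum] at this
    simpa using this.symm
  have haτ : ∀ x, a x ∈ τ := fun x => Ideal.subset_span ⟨x, rfl⟩
  -- coefficients of elements of `pB` lie in `p`
  have hcoef : ∀ (p : Ideal R) (b : B), b ∈ p.map (algebraMap R B) → ∀ x, s b x ∈ p := by
    intro p b hb
    have hb' : b ∈ p • (⊤ : Submodule R B) := by
      rw [Ideal.smul_top_eq_map]; exact hb
    refine Submodule.smul_induction_on (p := fun b => ∀ x, s b x ∈ p) hb' ?_ ?_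
    · intro r hr n _ x
      rw [map_smul, Finsupp.smul_apply, smul_eq_mul]
      exact Ideal.mul_mem_right _ _ hr
    · intro x y hx hy z
      rw [map_add, Finsupp.add_apply]
      exact Ideal.add_mem _ (hx z) (hy z)
  -- description of the range
  have hrange : Set.range (PrimeSpectrum.comap (algebraMap R B)) = (PrimeSpectrum.zeroLocus (τ : Set R))ᶜ := by
    ext p
    rw [Set.mem_compl_iff, PrimeSpectrum.mem_zeroLocus]
    constructor
    · rintro ⟨q, rfl⟩ hle
      have h1 : (1 : B) ∈ q.asIdeal := by
        rw [hone]
        apply Ideal.sum_mem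
        intro x _
        rw [Algebra.smul_def]
        apply Ideal.mul_mem_right
        exact hle (haτ x)
      exact q.isPrime.ne_top ((Ideal.eq_top_iff_one _).mpr h1)
    · intro hnot
      by_contra hp
      apply hnot
      rw [PrimeSpectrum.mem_range_comap_iff] at hp
      have hlt : ¬ ((p.asIdeal.map (algebraMap R B)).comap (algebraMap R B) ≤ p.asIdeal) := by
        intro hle
        exact hp (le_antisymm hle Ideal.le_comap_map)
      rw [SetLike.not_le_iff_exists] at hlt
      obtain ⟨r, hr, hrp⟩ := hlt
      have hτp : τ ≤ p.asIdeal := by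
        rw [hτ, Ideal.span_le]
        rintro _ ⟨x, rfl⟩
        have h2 := hcoef p.asIdeal (algebraMap R B r) hr x
        rw [Algebra.algebraMap_eq_smul_one, map_smul, Finsupp.smul_apply, smul_eq_mul] at h2
        exact (p.isPrime.mem_or_mem h2).resolve_left hrp
      exact hτp
  -- idempotency
  have hfg : τ.FG := Submodule.fg_span a.finite_range
  have hidem : IsIdempotentElem τ := by
    apply le_antisymm Ideal.mul_le_right
    rw [hτ, Ideal.span_le]
    rintro _ ⟨z, rfl⟩
    have h1 : (1 : B) = ∑ x ∈ a.support, ∑ y ∈ a.support, (a x * a y) • (x * y) := by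
      calc (1 : B) = 1 * 1 := (_root_.one_mul 1).symm
        _ = (∑ x ∈ a.support, a x • x) * (∑ y ∈ a.support, a y • y) := by rw [← hone]
        _ = ∑ x ∈ a.support, ∑ y ∈ a.support, (a x * a y) • (x * y) := by
          rw [Finset.sum_mul_sum]
          apply Finset.sum_congr rfl; intro x _
          apply Finset.sum_congr rfl; intro y _
          rw [smul_mul_smul_comm]
    have h2 : a z = ∑ x ∈ a.support, ∑ y ∈ a.support, (a x * a y) * (s (x * y) z) := by
      conv_lhs => rw [ha, h1]
      simp only [map_sum, map_smul, Finsupp.coe_finsetSum, Finset.sum_apply, Finsupp.smul_apply,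
        smul_eq_mul]
    show a z ∈ τ * τ
    rw [h2]
    apply Ideal.sum_mem; intro x _
    apply Ideal.sum_mem; intro y _
    apply Ideal.mul_mem_right
    exact Ideal.mul_mem_mul (haτ x) (haτ y)
  obtain ⟨e, he, hτe⟩ := (Ideal.isIdempotentElem_iff_of_fg τ hfg).mp hidem
  rw [hrange]
  apply IsClopen.compl
  rw [PrimeSpectrum.isClopen_iff_zeroLocus]
  refine ⟨e, he, ?_⟩
  rw [hτe]
  exact PrimeSpectrum.zeroLocus_span {e}

end Groth.Agent.S5343
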