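import Groth.Statements.S5344
import Mathlib
import Groth.Agent.S5342

set_option autoImplicit false
set_option maxHeartbeats 400000
universe u
open CategoryTheory CategoryTheory.Limits MonoidalCategory CartesianMonoidalCategory MonObj GrpObj AlgebraicGeometry
open SGA3

namespace Groth.Agent.S5344

theorem isOpen_cc {X : Type*} [TopologicalSpace X] [TopologicalSpace.NoetherianSpace X] (x : X) :
    IsOpen (connectedComponent x) := by
  rw [← isClosed_compl_iff]
  have hfin := TopologicalSpace.NoetherianSpace.finite_irreducibleComponents (α := X)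
  have : (connectedComponent x)ᶜ =
      ⋃₀ {Z | Z ∈ irreducibleComponents X ∧ ¬ Z ⊆ connectedComponent x} := by
    ext y
    simp only [Set.mem_compl_iff, Set.mem_sUnion, Set.mem_setOf_eq]
    constructor
    · intro hy
      exact ⟨irreducibleComponent y, ⟨irreducibleComponent_mem_irreducibleComponents y,
        fun h => hy (h mem_irreducibleComponent)⟩, mem_irreducibleComponent⟩
    · rintro ⟨Z, ⟨hZ, hZn⟩, hyZ⟩ hy
      apply hZn
      have hZc : IsPreconnected Z := hZ.1.isPreirreducible.isPreconnected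
      have h1 := hZc.subset_connectedComponent hyZ
      rwa [← connectedComponent_eq hy] at h1
  rw [this, Set.sUnion_eq_biUnion]
  have hfin' : {Z | Z ∈ irreducibleComponents X ∧ ¬ Z ⊆ connectedComponent x}.Finite :=
    hfin.subset (fun Z hZ => hZ.1)
  exact hfin'.isClosed_biUnion
    (fun Z hZ => isClosed_of_mem_irreducibleComponents Z hZ.1)

set_option backward.isDefEq.respectTransparency.types false in
theorem isOpen_cc_scheme (X : Scheme.{u}) [IsLocallyNoetherian X] (x : X) :
    IsOpen (connectedComponent x) := by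
  rw [isOpen_iff_forall_mem_open]
  intro y hy
  obtain ⟨W, hW, hyW, -⟩ := TopologicalSpace.Opens.isBasis_iff_nbhd.mp X.isBasis_affineOpens
    (show y ∈ (⊤ : X.Opens) from trivial)
  haveI : IsNoetherianRing Γ(X, W) := IsLocallyNoetherian.component_noetherian ⟨W, hW⟩
  haveI : TopologicalSpace.NoetherianSpace ↥(W : Set X) := noetherianSpace_of_isAffineOpen W hW
  have hD : IsOpen (connectedComponent (⟨y, hyW⟩ : W)) := isOpen_cc _
  refine ⟨Subtype.val '' connectedComponent (⟨y, hyW⟩ : W), ?_, ?_, ?_⟩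
  · have hconn : _root_.IsPreconnected (Subtype.val '' connectedComponent (⟨y, hyW⟩ : W)) :=
      isPreconnected_connectedComponent.image _ continuous_subtype_val.continuousOn
    have h1 := hconn.subset_connectedComponent ⟨⟨y, hyW⟩, mem_connectedComponent, rfl⟩
    rw [connectedComponent_eq hy]
    exact h1
  · exact W.isOpen.isOpenMap_subtype_val _ hD
  · exact ⟨⟨y, hyW⟩, mem_connectedComponent, rfl⟩

set_option backward.isDefEq.respectTransparency.types false in
theorem subsingleton_spec (A : Type u) [CommRing A] [IsArtinianRing A] [IsLocalRing A] :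
    Subsingleton ↥(Spec (CommRingCat.of A)) := by
  refine ⟨fun p q => ?_⟩
  have hp : p.asIdeal = IsLocalRing.maximalIdeal A :=
    IsLocalRing.eq_maximalIdeal (IsArtinianRing.isMaximal_of_isPrime p.asIdeal)
  have hq : q.asIdeal = IsLocalRing.maximalIdeal A :=
    IsLocalRing.eq_maximalIdeal (IsArtinianRing.isMaximal_of_isPrime q.asIdeal)
  exact PrimeSpectrum.ext (hp.trans hq.symm)

set_option backward.isDefEq.respectTransparency.types false in
theorem connected_pullback (A : Type u) [CommRing A] [IsArtinianRing A] [IsLocalRing A]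
    {X Y : Scheme.{u}} (f : X ⟶ Spec (CommRingCat.of A)) (g : Y ⟶ Spec (CommRingCat.of A))
    [ConnectedSpace X] [ConnectedSpace Y] (e : Spec (CommRingCat.of A) ⟶ X) (he : e ≫ f = 𝟙 _) :
    ConnectedSpace ↥(pullback f g) := by
  obtain ⟨i₀, hi₀⟩ : ∃ i₀ : Spec (CommRingCat.of (IsLocalRing.ResidueField A)) ⟶
      Spec (CommRingCat.of A), i₀ = Spec.map (CommRingCat.ofHom (IsLocalRing.residue A)) := ⟨_, rfl⟩
  haveI : IsClosedImmersion i₀ := by
    rw [hi₀]
    exact IsClosedImmersion.spec_of_surjective _ IsLocalRing.residue_surjective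
  haveI := subsingleton_spec A
  haveI : Surjective i₀ := ⟨fun x => ⟨IsLocalRing.closedPoint _, Subsingleton.elim _ _⟩⟩
  have hconn : ∀ {Z : Scheme.{u}} (h : Z ⟶ Spec (CommRingCat.of A)) [ConnectedSpace Z],
      ConnectedSpace ↥(pullback h i₀) := by
    intro Z h _
    exact ((pullback.fst h i₀).isClosedEmbedding.isEmbedding.toHomeomorphOfSurjective
      (pullback.fst h i₀).surjective).connectedSpace_iff.mpr inferInstance
  haveI := hconn f
  haveI := hconn g
  haveI : ConnectedSpace ↥(pullback (pullback.snd f i₀) (pullback.snd g i₀)) :=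
    Groth.Agent.S5342.result (IsLocalRing.ResidueField A) _ _ (pullback.snd f i₀)
      (pullback.snd g i₀)
      (pullback.lift (i₀ ≫ e) (𝟙 _)
        (by rw [Category.assoc, he, Category.comp_id, Category.id_comp]))
      (pullback.lift_snd _ _ _)
  have hsurj : Function.Surjective (pullback.map (pullback.snd f i₀) (pullback.snd g i₀) f g
      (pullback.fst f i₀) (pullback.fst g i₀) i₀ pullback.condition.symm
      pullback.condition.symm) := by
    rw [← Set.range_eq_univ, Scheme.Pullback.range_map,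
      Set.range_eq_univ.mpr (pullback.fst f i₀).surjective,
      Set.range_eq_univ.mpr (pullback.fst g i₀).surjective]
    simp
  exact hsurj.connectedSpace (Scheme.Hom.continuous _)

set_option backward.isDefEq.respectTransparency.types false in
theorem connected_pullback' (A : Type u) [CommRing A] [IsArtinianRing A] [IsLocalRing A]
    {X Y : Scheme.{u}} (f : X ⟶ Spec (CommRingCat.of A)) (g : Y ⟶ Spec (CommRingCat.of A))
    [ConnectedSpace X] [ConnectedSpace Y] (e : Spec (CommRingCat.of A) ⟶ Y) (he : e ≫ g = 𝟙 _) :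
    ConnectedSpace ↥(pullback f g) := by
  haveI := connected_pullback A g f e he
  exact (Scheme.homeoOfIso (pullbackSymmetry g f)).connectedSpace_iff.mp inferInstance

theorem exists_factor {S : Scheme.{u}} {G T : Over S} (U : G.left.Opens) (g : T ⟶ G)
    (hg : Set.range g.left.base ⊆ (U : Set G.left)) :
    ∃ g' : T ⟶ Over.mk (U.ι ≫ G.hom),
      g' ≫ (Over.homMk U.ι rfl : Over.mk (U.ι ≫ G.hom) ⟶ G) = g := by
  have hr : Set.range g.left ⊆ Set.range U.ι := by
    rw [Scheme.Opens.range_ι]
    exact hg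
  refine ⟨Over.homMk (IsOpenImmersion.lift U.ι g.left hr) ?_, ?_⟩
  · show IsOpenImmersion.lift U.ι g.left hr ≫ U.ι ≫ G.hom = T.hom
    rw [IsOpenImmersion.lift_fac_assoc, Over.w g]
  · ext1
    show IsOpenImmersion.lift U.ι g.left hr ≫ U.ι = g.left
    exact IsOpenImmersion.lift_fac _ _ _

theorem pt' {S : Scheme.{u}} {A B C : Over S} (a : A ⟶ B) (b : B ⟶ C) (c : A ⟶ C)
    (h : a ≫ b = c) (z : A.left) : b.left.base (a.left.base z) = c.left.base z := by
  subst h
  rfl

/-- Let A be a local artinian ring and G an A-group scheme locally of finite type, and let G⁰ be the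
connected component of the unit point. Then G⁰ is open in G; it is stable under the group law: for
every A-scheme T and all points g, h : T → G whose images lie in G⁰, the image of g h⁻¹ lies in G⁰
(so G⁰ carries an open subgroup scheme, the neutral component); and it is normal: for every A-scheme
T, every point g : T → G and every point n : T → G whose image lies in G⁰, the image of g n g⁻¹ lies
in G⁰. -/
theorem result (A : Type u) [CommRing A] [IsArtinianRing A] [IsLocalRing A] (G : Over (Spec (CommRingCat.of A))) [GrpObj G] [LocallyOfFiniteType G.hom]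
    (pt : ↥(𝟙_ (Over (Spec (CommRingCat.of A)))).left) :
    IsOpen (connectedComponent (η[G].left.base pt)) ∧
    (∀ (T : Over (Spec (CommRingCat.of A))) (g h : T ⟶ G), Set.range g.left.base ⊆ connectedComponent (η[G].left.base pt) →
      Set.range h.left.base ⊆ connectedComponent (η[G].left.base pt) →
      Set.range (g * h⁻¹).left.base ⊆ connectedComponent (η[G].left.base pt)) ∧
    ∀ (T : Over (Spec (CommRingCat.of A))) (g n : T ⟶ G), Set.range n.left.base ⊆ connectedComponent (η[G].left.base pt) →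
      Set.range (g * n * g⁻¹).left.base ⊆ connectedComponent (η[G].left.base pt) := by
  haveI hsub := subsingleton_spec A
  obtain ⟨e₀, he₀⟩ : ∃ e₀, e₀ = η[G].left.base pt := ⟨_, rfl⟩
  rw [← he₀]
  have hη : ∀ p : ↥(𝟙_ (Over (Spec (CommRingCat.of A)))).left, η[G].left.base p = e₀ := by
    intro p
    rw [he₀]
    congr 1
    exact Subsingleton.elim (α := ↥(Spec (CommRingCat.of A))) p pt
  haveI : IsLocallyNoetherian G.left := LocallyOfFiniteType.isLocallyNoetherian G.hom
  have hopen : ∀ x : G.left, IsOpen (connectedComponent x) := isOpen_cc_scheme G.left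
  obtain ⟨U, hU⟩ : ∃ U : G.left.Opens, (U : Set G.left) = connectedComponent e₀ :=
    ⟨⟨_, hopen e₀⟩, rfl⟩
  haveI hUconn : ConnectedSpace ↥(U.toScheme) := by
    have h1 : _root_.IsConnected (U : Set G.left) := hU ▸ isConnected_connectedComponent
    exact isConnected_iff_connectedSpace.mp h1
  obtain ⟨ε, hε⟩ := exists_factor U η[G] (by
    rintro _ ⟨p, rfl⟩
    rw [hU, hη p]
    exact mem_connectedComponent)
  have hε' : ε.left ≫ (U.ι ≫ G.hom) = 𝟙 _ := Over.w ε
  refine ⟨hopen e₀, ?_, ?_⟩
  · intro T g h hg hh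
    obtain ⟨g', rfl⟩ := exists_factor U g (by rw [hU]; exact hg)
    obtain ⟨h', rfl⟩ := exists_factor U h (by rw [hU]; exact hh)
    obtain ⟨j, hj⟩ : ∃ j : Over.mk (U.ι ≫ G.hom) ⟶ G, j = Over.homMk U.ι rfl := ⟨_, rfl⟩
    rw [← hj] at hε ⊢
    obtain ⟨M, hM⟩ : ∃ M : Over.mk (U.ι ≫ G.hom) ⊗ Over.mk (U.ι ≫ G.hom) ⟶ G,
        M = (fst _ _ ≫ j) * (snd _ _ ≫ j)⁻¹ := ⟨_, rfl⟩
    have hfac : (g' ≫ j) * (h' ≫ j)⁻¹ = lift g' h' ≫ M := by
      rw [hM]
      simp only [MonObj.comp_mul, GrpObj.comp_inv, lift_fst_assoc, lift_snd_assoc]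
    rw [hfac]
    haveI : ConnectedSpace ↥(Over.mk (U.ι ≫ G.hom) ⊗ Over.mk (U.ι ≫ G.hom)).left :=
      connected_pullback A (U.ι ≫ G.hom) (U.ι ≫ G.hom) ε.left hε'
    have hMr : Set.range M.left.base ⊆ connectedComponent e₀ := by
      have hpre : _root_.IsPreconnected (Set.range M.left.base) :=
        isPreconnected_range M.left.continuous
      have h1 : lift ε ε ≫ M = toUnit _ ≫ η[G] := by
        rw [hM]
        simp only [MonObj.comp_mul, GrpObj.comp_inv, lift_fst_assoc, lift_snd_assoc, hε]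
        rw [_root_.mul_inv_cancel]
        rfl
      have hz : e₀ ∈ Set.range M.left.base :=
        ⟨(lift ε ε).left.base pt, (pt' _ _ _ h1 pt).trans (hη _)⟩
      exact hpre.subset_connectedComponent hz
    rintro _ ⟨t, rfl⟩
    exact hMr ⟨(lift g' h').left.base t, rfl⟩
  · intro T g n hn
    rintro _ ⟨t, rfl⟩
    obtain ⟨V, hV⟩ : ∃ V : G.left.Opens,
        (V : Set G.left) = connectedComponent (g.left.base t) := ⟨⟨_, hopen _⟩, rfl⟩
    haveI hVconn : ConnectedSpace ↥(V.toScheme) := by
      have h1 : _root_.IsConnected (V : Set G.left) := hV ▸ isConnected_connectedComponent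
      exact isConnected_iff_connectedSpace.mp h1
    have hgtV : g.left.base t ∈ V := by
      rw [← SetLike.mem_coe, hV]
      exact mem_connectedComponent
    obtain ⟨T', hT'⟩ : ∃ T' : T.left.Opens, T' = g.left ⁻¹ᵁ V := ⟨_, rfl⟩
    have htT' : t ∈ T' := by rw [hT']; exact hgtV
    obtain ⟨inc, hinc⟩ : ∃ inc : Over.mk (T'.ι ≫ T.hom) ⟶ T, inc = Over.homMk T'.ι rfl :=
      ⟨_, rfl⟩
    obtain ⟨g', hg'⟩ := exists_factor V (inc ≫ g) (by
      rintro _ ⟨s, rfl⟩
      have hs : s.1 ∈ g.left ⁻¹ᵁ V := hT' ▸ s.2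
      rw [hinc]
      exact hs)
    obtain ⟨n', hn'⟩ := exists_factor U (inc ≫ n) (by
      rintro _ ⟨s, rfl⟩
      rw [hU, hinc]
      exact hn ⟨_, rfl⟩)
    obtain ⟨jU, hjU⟩ : ∃ j : Over.mk (U.ι ≫ G.hom) ⟶ G, j = Over.homMk U.ι rfl := ⟨_, rfl⟩
    obtain ⟨jV, hjV⟩ : ∃ j : Over.mk (V.ι ≫ G.hom) ⟶ G, j = Over.homMk V.ι rfl := ⟨_, rfl⟩
    rw [← hjU] at hε hn'
    rw [← hjV] at hg'
    obtain ⟨N, hN⟩ : ∃ N : Over.mk (V.ι ≫ G.hom) ⊗ Over.mk (U.ι ≫ G.hom) ⟶ G,
        N = (fst _ _ ≫ jV) * (snd _ _ ≫ jU) * (fst _ _ ≫ jV)⁻¹ := ⟨_, rfl⟩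
    have hfac : lift g' n' ≫ N = inc ≫ (g * n * g⁻¹) := by
      rw [hN]
      simp only [MonObj.comp_mul, GrpObj.comp_inv, lift_fst_assoc, lift_snd_assoc, hg', hn']
    haveI : ConnectedSpace ↥(Over.mk (V.ι ≫ G.hom) ⊗ Over.mk (U.ι ≫ G.hom)).left :=
      connected_pullback' A (V.ι ≫ G.hom) (U.ι ≫ G.hom) ε.left hε'
    have hNr : Set.range N.left.base ⊆ connectedComponent e₀ := by
      have hpre : _root_.IsPreconnected (Set.range N.left.base) :=
        isPreconnected_range N.left.continuous
      have h1 : lift (𝟙 _) (toUnit _ ≫ ε) ≫ N = toUnit _ ≫ η[G] := by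
        rw [hN]
        simp only [MonObj.comp_mul, GrpObj.comp_inv, lift_fst_assoc, lift_snd_assoc,
          Category.id_comp, Category.assoc, hε]
        have h2 : toUnit (Over.mk (V.ι ≫ G.hom)) ≫ η[G] = (1 : Over.mk (V.ι ≫ G.hom) ⟶ G) := rfl
        rw [h2, _root_.mul_one, _root_.mul_inv_cancel]
      have hz : e₀ ∈ Set.range N.left.base :=
        ⟨(lift (𝟙 _) (toUnit _ ≫ ε)).left.base ⟨g.left.base t, hgtV⟩,
          (pt' _ _ _ h1 _).trans (hη _)⟩
      exact hpre.subset_connectedComponent hz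
    apply hNr
    refine ⟨(lift g' n').left.base ⟨t, htT'⟩, ?_⟩
    refine (pt' _ _ _ hfac ⟨t, htT'⟩).trans ?_
    rw [hinc]
    rfl

end Groth.Agent.S5344
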