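import Groth.Statements.S5345
import Mathlib
import Groth.Agent.H37.GrpConn
import Groth.Agent.H37.ConnCompImage

set_option autoImplicit false
set_option maxHeartbeats 400000
universe u
open CategoryTheory CategoryTheory.Limits MonoidalCategory CartesianMonoidalCategory MonObj GrpObj AlgebraicGeometry
open SGA3

namespace Groth.Agent.S5345

theorem homeo_image_cc {X Y : Type*} [TopologicalSpace X] [TopologicalSpace Y] (e : X ≃ₜ Y)
    (x : X) : e '' connectedComponent x = connectedComponent (e x) := by
  apply Set.Subset.antisymm (e.continuous.image_connectedComponent_subset x)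
  intro y hy
  have h1 := e.symm.continuous.image_connectedComponent_subset (e x) ⟨y, hy, rfl⟩
  rw [e.symm_apply_apply] at h1
  exact ⟨e.symm y, h1, e.apply_symm_apply y⟩

theorem pt' {S : Scheme.{u}} {A B C : Over S} (a : A ⟶ B) (b : B ⟶ C) (c : A ⟶ C)
    (h : a ≫ b = c) (z : A.left) : b.left.base (a.left.base z) = c.left.base z := by
  subst h
  rfl

set_option backward.isDefEq.respectTransparency.types false in
theorem cc_translate (K : Type u) [Field K] (HK : Over (Spec (CommRingCat.of K))) [GrpObj HK]
    (s : 𝟙_ (Over (Spec (CommRingCat.of K))) ⟶ HK)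
    (pt : ↥(𝟙_ (Over (Spec (CommRingCat.of K)))).left) :
    IsCompact (connectedComponent (s.left.base pt)) := by
  obtain ⟨hcc, hcpt⟩ := Groth.Agent.H37.grp_connectedComponent_one K HK
  rw [← hcc] at hcpt
  have hpt : IsLocalRing.closedPoint K = pt := Subsingleton.elim (α := PrimeSpectrum K) _ _
  rw [hpt] at hcpt
  obtain ⟨a, ha⟩ : ∃ a : HK ⟶ HK, a = toUnit HK ≫ s := ⟨_, rfl⟩
  obtain ⟨τ, hτ⟩ : ∃ τ : HK ⟶ HK, τ = a * 𝟙 HK := ⟨_, rfl⟩
  obtain ⟨τ', hτ'⟩ : ∃ τ' : HK ⟶ HK, τ' = a⁻¹ * 𝟙 HK := ⟨_, rfl⟩
  have hta : ∀ (f : HK ⟶ HK), f ≫ a = a := by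
    intro f
    rw [ha, ← Category.assoc]
    congr 1
    exact toUnit_unique _ _
  have h1 : τ ≫ τ' = 𝟙 HK := by
    rw [hτ', MonObj.comp_mul, GrpObj.comp_inv, hta, Category.comp_id, hτ,
      _root_.inv_mul_cancel_left]
  have h2 : τ' ≫ τ = 𝟙 HK := by
    rw [hτ, MonObj.comp_mul, hta, Category.comp_id, hτ', _root_.mul_inv_cancel_left]
  have h3 : η[HK] ≫ τ = s := by
    have h4 : η[HK] ≫ a = s := by
      rw [ha, ← Category.assoc]
      have : η[HK] ≫ toUnit HK = 𝟙 _ := toUnit_unique _ _
      rw [this, Category.id_comp]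
    rw [hτ, MonObj.comp_mul, Category.comp_id, h4, MonObj.one_eq_one, _root_.mul_one]
  obtain ⟨e, he⟩ : ∃ e : HK.left ≅ HK.left, e.hom = τ.left :=
    ⟨⟨τ.left, τ'.left, by rw [← Over.comp_left, h1]; rfl, by rw [← Over.comp_left, h2]; rfl⟩, rfl⟩
  have h5 := homeo_image_cc (Scheme.homeoOfIso e) (η[HK].left.base pt)
  have h6 : (Scheme.homeoOfIso e) (η[HK].left.base pt) = s.left.base pt := by
    show e.hom.base (η[HK].left.base pt) = s.left.base pt
    rw [he]
    exact pt' _ _ _ h3 pt
  rw [h6] at h5
  rw [← h5]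
  exact hcpt.image (Scheme.homeoOfIso e).continuous

set_option backward.isDefEq.respectTransparency.types false in
theorem compact_cc_of_point (k K : Type u) [Field k] [Field K] [Algebra k K]
    (H : Over (Spec (CommRingCat.of k))) [GrpObj H]
    (x : Spec (CommRingCat.of K) ⟶ H.left)
    (hx : x ≫ H.hom = Spec.map (CommRingCat.ofHom (algebraMap k K)))
    (pt : ↥(Spec (CommRingCat.of K))) :
    IsCompact (connectedComponent (x.base pt)) := by
  obtain ⟨s, hs⟩ : ∃ s : 𝟙_ (Over (Spec (CommRingCat.of K))) ⟶
      Red.bc (Spec.map (CommRingCat.ofHom (algebraMap k K))) H,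
      s.left ≫ pullback.fst H.hom (Spec.map (CommRingCat.ofHom (algebraMap k K))) = x :=
    ⟨Over.homMk (pullback.lift x (𝟙 _) (by rw [hx, Category.id_comp])) (pullback.lift_snd _ _ _),
      pullback.lift_fst _ _ _⟩
  have h1 := cc_translate K (Red.bc (Spec.map (CommRingCat.ofHom (algebraMap k K))) H) s pt
  have h2 := Groth.Agent.H37.image_connectedComponent_eq (K := K) H.hom (s.left.base pt)
  have h3 : (pullback.fst H.hom (Spec.map (CommRingCat.ofHom (algebraMap k K)))).base
      (s.left.base pt) = x.base pt := by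
    rw [← hs]
    rfl
  rw [h3] at h2
  rw [← h2]
  exact h1.image (Scheme.Hom.continuous _)

set_option backward.isDefEq.respectTransparency.types false in
theorem compact_cc_field (k : Type u) [Field k] (H : Over (Spec (CommRingCat.of k))) [GrpObj H]
    (h : H.left) : IsCompact (connectedComponent h) := by
  obtain ⟨ψ, hψ⟩ : ∃ ψ : CommRingCat.of k ⟶ H.left.residueField h,
      Spec.map ψ = H.left.fromSpecResidueField h ≫ H.hom :=
    ⟨Spec.preimage _, Spec.map_preimage _⟩
  letI : Algebra k (H.left.residueField h) := ψ.hom.toAlgebra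
  have h1 := compact_cc_of_point k (H.left.residueField h) H (H.left.fromSpecResidueField h)
    hψ.symm (IsLocalRing.closedPoint _)
  rw [show (H.left.fromSpecResidueField h).base (IsLocalRing.closedPoint _) = h from
    Scheme.fromSpecResidueField_apply h _] at h1
  exact h1

set_option backward.isDefEq.respectTransparency.types false in
theorem subsingleton_spec (A : Type u) [CommRing A] [IsArtinianRing A] [IsLocalRing A] :
    Subsingleton ↥(Spec (CommRingCat.of A)) := by
  refine ⟨fun p q => ?_⟩
  have hp : p.asIdeal = IsLocalRing.maximalIdeal A :=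
    IsLocalRing.eq_maximalIdeal (IsArtinianRing.isMaximal_of_isPrime p.asIdeal)
  have hq : q.asIdeal = IsLocalRing.maximalIdeal A :=
    IsLocalRing.eq_maximalIdeal (IsArtinianRing.isMaximal_of_isPrime q.asIdeal)
  exact PrimeSpectrum.ext (hp.trans hq.symm)

/-- Let A be a local artinian ring and G an A-group scheme locally of finite type. Then every connected
component of G, in particular the connected component of the unit, is quasi-compact (so the open
subscheme it carries is of finite type over A). (The published statement also asserts that the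
components are irreducible and of equal dimension; this row states only their quasi-compactness.) -/
theorem result (A : Type u) [CommRing A] [IsArtinianRing A] [IsLocalRing A] (G : Over (Spec (CommRingCat.of A))) [GrpObj G] [LocallyOfFiniteType G.hom]
    (g : G.left) : IsCompact (connectedComponent g) := by
  obtain ⟨i₀, hi₀⟩ : ∃ i₀ : Spec (CommRingCat.of (IsLocalRing.ResidueField A)) ⟶
      Spec (CommRingCat.of A), i₀ = Spec.map (CommRingCat.ofHom (IsLocalRing.residue A)) := ⟨_, rfl⟩
  haveI : IsClosedImmersion i₀ := by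
    rw [hi₀]
    exact IsClosedImmersion.spec_of_surjective _ IsLocalRing.residue_surjective
  haveI := subsingleton_spec A
  haveI : Surjective i₀ := ⟨fun x => ⟨IsLocalRing.closedPoint _, Subsingleton.elim _ _⟩⟩
  obtain ⟨Φ, hΦ⟩ : ∃ Φ : ↥(pullback G.hom i₀) ≃ₜ ↥G.left, ∀ z, Φ z = (pullback.fst G.hom i₀).base z :=
    ⟨(pullback.fst G.hom i₀).isClosedEmbedding.isEmbedding.toHomeomorphOfSurjective
      (pullback.fst G.hom i₀).surjective, fun z => rfl⟩
  obtain ⟨z, hz⟩ : ∃ z, Φ z = g := Φ.surjective g
  have h1 := compact_cc_field (IsLocalRing.ResidueField A) (Red.bc i₀ G) z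
  have h2 := homeo_image_cc Φ z
  rw [hz] at h2
  rw [← h2]
  exact h1.image Φ.continuous

end Groth.Agent.S5345
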