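import Groth.Statements.S5346
import Groth.Agent.H63.ArtResMain

set_option autoImplicit false
universe u
open CategoryTheory CategoryTheory.Limits MonoidalCategory CartesianMonoidalCategory MonObj GrpObj AlgebraicGeometry
open SGA3

namespace Groth.Agent.S5346

/-- Let A be a local artinian ring with residue field k and i : Spec k → Spec A the closed point. (i) If
X is an A-scheme whose base change X ⊗_A k is locally of finite type (resp. of finite type) over k,
then X is locally of finite type (resp. of finite type) over A. (ii) If u : X → Y is a morphism of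
A-schemes whose base change u ⊗_A k is an immersion (resp. a closed immersion), then u is an
immersion (resp. a closed immersion). -/
theorem result (A : Type u) [CommRing A] [IsArtinianRing A] [IsLocalRing A] (X Y : Over (Spec (CommRingCat.of A))) (u : X ⟶ Y) :
    letI i : Spec (CommRingCat.of (IsLocalRing.ResidueField A)) ⟶ (Spec (CommRingCat.of A)) := Spec.map (CommRingCat.ofHom (IsLocalRing.residue A))
    (LocallyOfFiniteType (pullback.snd X.hom i) → LocallyOfFiniteType X.hom) ∧
    (LocallyOfFiniteType (pullback.snd X.hom i) → QuasiCompact (pullback.snd X.hom i) → QuasiCompact X.hom) ∧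
    (IsImmersion ((Over.pullback i).map u).left → IsImmersion u.left) ∧
    (IsClosedImmersion ((Over.pullback i).map u).left → IsClosedImmersion u.left) := by
  set i : Spec (CommRingCat.of (IsLocalRing.ResidueField A)) ⟶ (Spec (CommRingCat.of A)) :=
    Spec.map (CommRingCat.ofHom (IsLocalRing.residue A)) with hi
  haveI hicl : IsClosedImmersion i :=
    IsClosedImmersion.spec_of_surjective _ Ideal.Quotient.mk_surjective
  haveI hisurj : Surjective i :=
    ⟨fun y => ⟨IsLocalRing.closedPoint _, Subsingleton.elim _ _⟩⟩
  refine ⟨fun h => Groth.Agent.H18.ArtinResidue.lft_of_residue X.hom h, fun _ hq => ?_,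
    fun h => ?_, fun h => ?_⟩
  · -- quasi-compactness
    haveI : CompactSpace ↥(pullback X.hom i) :=
      (quasiCompact_iff_compactSpace (f := pullback.snd X.hom i)).mp hq
    rw [quasiCompact_iff_compactSpace]
    have hs : Function.Surjective (pullback.fst X.hom i) :=
      (inferInstance : Surjective (pullback.fst X.hom i)).surj
    refine ⟨?_⟩
    rw [← Set.range_eq_univ.mpr hs]
    exact isCompact_range (pullback.fst X.hom i).continuous
  · -- immersion
    obtain ⟨hsos, hemb, hrange⟩ := Groth.Agent.H63.ArtResMain.transfer A X Y u
    haveI := h
    exact @IsImmersion.mk _ _ _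
      (@IsPreimmersion.mk _ _ _ (hsos inferInstance) (hemb (Scheme.Hom.isEmbedding _)))
      ((hrange ()).2 (Scheme.Hom.isLocallyClosed_range _))
  · -- closed immersion
    obtain ⟨hsos, hemb, hrange⟩ := Groth.Agent.H63.ArtResMain.transfer A X Y u
    haveI := h
    have hce := Scheme.Hom.isClosedEmbedding ((Over.pullback i).map u).left
    exact @IsClosedImmersion.mk _ _ _ (hsos inferInstance)
      ⟨hemb hce.isEmbedding, (hrange ()).1 hce.isClosed_range⟩

end Groth.Agent.S5346
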