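import Groth.Statements.S5353
import Groth.Agent.H63.GrpHomFlat
import Groth.Agent.H48.FppfSource
import Groth.Agent.H40.FpqcFam

set_option autoImplicit false
universe u
open CategoryTheory CategoryTheory.Limits MonoidalCategory CartesianMonoidalCategory MonObj GrpObj AlgebraicGeometry
open SGA3

namespace Groth.Agent.S5353

/-- Let A be a local artinian ring, G an A-group scheme which is flat and locally of finite type, i : G⁰
→ G an open subgroup scheme whose image is the connected component of the unit (the neutral
component), and p : G → Q a homomorphism of A-group schemes which is surjective, flat and locally of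
finite presentation with kernel G⁰ (Q is the quotient of G by G⁰). Then Q is etale over A. -/
theorem result (A : Type u) [CommRing A] [IsArtinianRing A] [IsLocalRing A] (G0 G Q : Over (Spec (CommRingCat.of A))) [GrpObj G0] [GrpObj G] [GrpObj Q]
    [Flat G.hom] [LocallyOfFiniteType G.hom] (i : G0 ⟶ G) [IsMonHom i] [IsOpenImmersion i.left]
    (pt : ↥(𝟙_ (Over (Spec (CommRingCat.of A)))).left) (hi : Set.range i.left.base = connectedComponent (η[G].left.base pt))
    (p : G ⟶ Q) [IsMonHom p] [Surjective p.left] [Flat p.left] [LocallyOfFinitePresentation p.left]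
    (hK : AlgGrp.IsKernel i p) : Etale Q.hom := by
  haveI : IsNoetherianRing A := inferInstance
  haveI : IsLocallyNoetherian (Spec (CommRingCat.of A)) := inferInstance
  haveI : LocallyOfFinitePresentation G.hom := inferInstance
  haveI : Flat (p.left ≫ Q.hom) := by rw [Over.w p]; infer_instance
  haveI hQflat : Flat Q.hom := Groth.Agent.H63.GrpHomFlat.flat_of_flat_comp p.left Q.hom
  haveI : LocallyOfFinitePresentation (p.left ≫ Q.hom) := by rw [Over.w p]; infer_instance
  haveI hQlfp : LocallyOfFinitePresentation Q.hom :=
    Groth.Agent.H48.FppfSource.locallyOfFinitePresentation_of_comp_fppf p.left Q.hom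
  -- the unit section is an open immersion
  have SQ1 : IsPullback i.left (toUnit G0).left p.left η[Q].left := hK.map (Over.forget _)
  have hQ : (@Surjective ⊓ @Flat ⊓ @LocallyOfFinitePresentation : MorphismProperty Scheme.{u})
      p.left := ⟨⟨inferInstance, inferInstance⟩, inferInstance⟩
  have hη : IsOpenImmersion η[Q].left :=
    MorphismProperty.of_isPullback_of_descendsAlong (P := @IsOpenImmersion) SQ1 hQ inferInstance
  -- the diagonal is a base change of the unit section
  have SQ2 : IsPullback (lift (𝟙 Q) (𝟙 Q)) (toUnit Q) ((fst Q Q)⁻¹ * snd Q Q) η[Q] := by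
    refine Groth.Agent.H40.FpqcFam.isPullback_of_pts ?_ ?_
    · rw [MonObj.comp_mul, GrpObj.comp_inv, lift_fst, lift_snd, _root_.inv_mul_cancel,
        Hom.one_def]
    · intro T x u hxu
      have h1 : x ≫ fst Q Q = x ≫ snd Q Q := by
        have h2 : (x ≫ fst Q Q)⁻¹ * (x ≫ snd Q Q) = 1 := by
          rw [← GrpObj.comp_inv, ← MonObj.comp_mul, hxu, toUnit_unique u (toUnit T),
            ← Hom.one_def]
        exact inv_mul_eq_one.mp h2
      refine ⟨x ≫ fst Q Q, ⟨?_, toUnit_unique _ _⟩, ?_⟩
      · apply CartesianMonoidalCategory.hom_ext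
        · rw [Category.assoc, lift_fst, Category.comp_id]
        · rw [Category.assoc, lift_snd, Category.comp_id, h1]
      · rintro q ⟨hq1, -⟩
        rw [← hq1, Category.assoc, lift_fst, Category.comp_id]
  have SQ2' : IsPullback (lift (𝟙 Q) (𝟙 Q)).left (toUnit Q).left
      ((fst Q Q)⁻¹ * snd Q Q).left η[Q].left := SQ2.map (Over.forget _)
  have hΔ : IsOpenImmersion (lift (𝟙 Q) (𝟙 Q)).left :=
    MorphismProperty.of_isPullback (P := @IsOpenImmersion) SQ2'.flip hη
  have hdiag : Limits.pullback.diagonal Q.hom = (lift (𝟙 Q) (𝟙 Q)).left := by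
    apply Limits.pullback.hom_ext
    · rw [Limits.pullback.diagonal_fst, ← Over.fst_left, ← Over.comp_left, lift_fst]
      rfl
    · rw [Limits.pullback.diagonal_snd, ← Over.snd_left, ← Over.comp_left, lift_snd]
      rfl
  haveI : IsOpenImmersion (Limits.pullback.diagonal Q.hom) := by rw [hdiag]; exact hΔ
  haveI : FormallyUnramified Q.hom := inferInstance
  exact Etale.of_formallyUnramified_of_flat Q.hom

end Groth.Agent.S5353
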