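import Groth.Statements.S5358
import Mathlib
import Groth.Agent.H93.Transp3
import Groth.Agent.H30.ShQuot2
import Groth.Agent.S0351

set_option autoImplicit false
universe u
open CategoryTheory CategoryTheory.Limits MonoidalCategory CartesianMonoidalCategory MonObj GrpObj AlgebraicGeometry
open SGA3

namespace Groth.Agent.S5358

/-- Let G be a group scheme over a field k, y' : Y' → G an immersion and y : Y → G a closed immersion.
(ii) The transporter of Y' into Y, whose points with values in S' are the g such that conjugation by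
g carries every point of Y' (after any base change S'' → S') into Y, is represented by a closed
subscheme of G; if y' is also a closed immersion, so is the strict transporter (g Y' g⁻¹ = Y
functorially). (iii) For every subgroup scheme h : H → G (a homomorphism which is an immersion), the
normalizer of H in G is represented by a closed subscheme of G. -/
theorem result (k : Type u) [Field k] (G Y Y' : Over (Spec (CommRingCat.of k))) [GrpObj G]
    (y : Y ⟶ G) [IsClosedImmersion y.left] (y' : Y' ⟶ G) [IsImmersion y'.left] :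
    (∃ (T : Over (Spec (CommRingCat.of k))) (t : T ⟶ G), IsClosedImmersion t.left ∧
      ∀ (S' : Over (Spec (CommRingCat.of k))) (g : S' ⟶ G), (∃ z : S' ⟶ T, z ≫ t = g) ↔
        ∀ (S'' : Over (Spec (CommRingCat.of k))) (s : S'' ⟶ S') (x : S'' ⟶ Y'),
          ∃ x' : S'' ⟶ Y, (s ≫ g) * (x ≫ y') * (s ≫ g)⁻¹ = x' ≫ y) ∧
    (IsClosedImmersion y'.left →
      ∃ (T : Over (Spec (CommRingCat.of k))) (t : T ⟶ G), IsClosedImmersion t.left ∧
      ∀ (S' : Over (Spec (CommRingCat.of k))) (g : S' ⟶ G), (∃ z : S' ⟶ T, z ≫ t = g) ↔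
        ((∀ (S'' : Over (Spec (CommRingCat.of k))) (s : S'' ⟶ S') (x : S'' ⟶ Y'),
          ∃ x' : S'' ⟶ Y, (s ≫ g) * (x ≫ y') * (s ≫ g)⁻¹ = x' ≫ y) ∧
        (∀ (S'' : Over (Spec (CommRingCat.of k))) (s : S'' ⟶ S') (x' : S'' ⟶ Y),
          ∃ x : S'' ⟶ Y', (s ≫ g)⁻¹ * (x' ≫ y) * (s ≫ g) = x ≫ y'))) ∧
    (∀ (H : Over (Spec (CommRingCat.of k))) [GrpObj H] (h : H ⟶ G) [IsMonHom h] [IsImmersion h.left],
      ∃ (N : Over (Spec (CommRingCat.of k))) (_ : GrpObj N) (n : N ⟶ G), IsClosedImmersion n.left ∧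
        Red.IsNormalizerOf h n) := by
  have hL₁ : ∀ (W : Over (Spec (CommRingCat.of k))) (w : W ⟶ G)
      ⦃T T' : Over (Spec (CommRingCat.of k))⦄ (s : T' ⟶ T) (g : T ⟶ G) (x : T ⟶ W),
      s ≫ (g * (x ≫ w) * g⁻¹) = (s ≫ g) * ((s ≫ x) ≫ w) * (s ≫ g)⁻¹ := by
    intro W w T T' s g x
    rw [MonObj.comp_mul, MonObj.comp_mul, GrpObj.comp_inv, Category.assoc]
  have hL₂ : ∀ (W : Over (Spec (CommRingCat.of k))) (w : W ⟶ G)
      ⦃T T' : Over (Spec (CommRingCat.of k))⦄ (s : T' ⟶ T) (g : T ⟶ G) (x : T ⟶ W),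
      s ≫ (g⁻¹ * (x ≫ w) * g) = (s ≫ g)⁻¹ * ((s ≫ x) ≫ w) * (s ≫ g) := by
    intro W w T T' s g x
    rw [MonObj.comp_mul, MonObj.comp_mul, GrpObj.comp_inv, Category.assoc]
  have key₁ : ∀ (W V : Over (Spec (CommRingCat.of k))) (w : W ⟶ G) (v : V ⟶ G)
      [IsClosedImmersion v.left],
      ∃ (T : Over (Spec (CommRingCat.of k))) (t : T ⟶ G), IsClosedImmersion t.left ∧
        ∀ (S' : Over (Spec (CommRingCat.of k))) (g : S' ⟶ G), (∃ z : S' ⟶ T, z ≫ t = g) ↔
          ∀ (S'' : Over (Spec (CommRingCat.of k))) (s : S'' ⟶ S') (x : S'' ⟶ W),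
            ∃ x' : S'' ⟶ V, (s ≫ g) * (x ≫ w) * (s ≫ g)⁻¹ = x' ≫ v := by
    intro W V w v _
    exact Groth.Agent.H93.Transp.fac_representable (Y := G) (X := W) (Z := G) (Yc := V)
      (fun _ g x => g * (x ≫ w) * g⁻¹) (hL₁ W w) v
  have key₂ : ∀ (W V : Over (Spec (CommRingCat.of k))) (w : W ⟶ G) (v : V ⟶ G)
      [IsClosedImmersion v.left],
      ∃ (T : Over (Spec (CommRingCat.of k))) (t : T ⟶ G), IsClosedImmersion t.left ∧
        ∀ (S' : Over (Spec (CommRingCat.of k))) (g : S' ⟶ G), (∃ z : S' ⟶ T, z ≫ t = g) ↔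
          ∀ (S'' : Over (Spec (CommRingCat.of k))) (s : S'' ⟶ S') (x : S'' ⟶ W),
            ∃ x' : S'' ⟶ V, (s ≫ g)⁻¹ * (x ≫ w) * (s ≫ g) = x' ≫ v := by
    intro W V w v _
    exact Groth.Agent.H93.Transp.fac_representable (Y := G) (X := W) (Z := G) (Yc := V)
      (fun _ g x => g⁻¹ * (x ≫ w) * g) (hL₂ W w) v
  refine ⟨key₁ Y' Y y' y, fun hci => ?_, ?_⟩
  · exact Groth.Agent.H93.Transp.closedRep_and (key₁ Y' Y y' y) (@key₂ Y Y' y y' hci)
  · intro H _ h _ _
    have hci : IsClosedImmersion h.left := Groth.Agent.S0351.result k H G h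
    obtain ⟨N, n, hn, Hn⟩ := Groth.Agent.H93.Transp.closedRep_and (key₁ H H h h) (key₂ H H h h)
    have HN : ∀ (T : Over (Spec (CommRingCat.of k))) (g : T ⟶ G),
        (∃ z : T ⟶ N, z ≫ n = g) ↔ Groth.Agent.H93.Transp.NormP h g := by
      intro T g
      rw [Hn T g]
      exact ⟨fun hh T' t c => ⟨hh.1 T' t c, hh.2 T' t c⟩,
        fun hh => ⟨fun T' t c => (hh T' t c).1, fun T' t c => (hh T' t c).2⟩⟩
    have hmono : Mono n := by
      have : Mono ((Over.forget _).map n) := by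
        show Mono n.left
        infer_instance
      exact (Over.forget _).mono_of_mono_map this
    obtain ⟨str, hstr⟩ := Groth.Agent.H30.ShQuot.exists_grpObj_of_closed n
      (fun {T} a b => (HN T _).mpr
        (((HN T _).mp ⟨a, rfl⟩).mul ((HN T _).mp ⟨b, rfl⟩)))
      (fun {T} a => (HN T _).mpr ((HN T _).mp ⟨a, rfl⟩).inv)
      (by
        obtain ⟨e, he⟩ := (HN _ (1 : 𝟙_ (Over (Spec (CommRingCat.of k))) ⟶ G)).mpr
          Groth.Agent.H93.Transp.NormP.one
        exact ⟨e, by rw [he, MonObj.one_eq_one]⟩)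
    exact ⟨N, str, n, hn, hstr, hmono, fun X g => HN X g⟩

end Groth.Agent.S5358
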