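import Groth.Statements.S5362
import Groth.Agent.H63.SemiDir
import Groth.Agent.H37.GrpImage
import Groth.Agent.H63.SmoothRegular3

set_option autoImplicit false
universe u
open CategoryTheory CategoryTheory.Limits MonoidalCategory CartesianMonoidalCategory MonObj GrpObj AlgebraicGeometry
open SGA3

namespace Groth.Agent.S5362

/-- Let G be a group scheme locally of finite type over a field k, and a : A → G, b : B → G two closed
subgroup schemes which are smooth and of finite type over k, such that B normalizes A (conjugating a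
point of A by a point of B gives a point of A). Let i : Γ → G be the smallest closed subgroup scheme
of G through which both a and b factor. Then Γ is reduced and its underlying set is A·B, the image
of A ×_k B under (x, y) ↦ a(x) b(y). -/
theorem result (k : Type u) [Field k] (G A B : Over (Spec (CommRingCat.of k))) [GrpObj G] [GrpObj A] [GrpObj B]
    [LocallyOfFiniteType G.hom] (a : A ⟶ G) [IsMonHom a] [IsClosedImmersion a.left] (b : B ⟶ G) [IsMonHom b]
    [IsClosedImmersion b.left] [Smooth A.hom] [QuasiCompact A.hom] [Smooth B.hom] [QuasiCompact B.hom]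
    (hN : ∀ (T : Over (Spec (CommRingCat.of k))) (y : T ⟶ B) (x : T ⟶ A), ∃ x' : T ⟶ A, (y ≫ b) * (x ≫ a) * (y ≫ b)⁻¹ = x' ≫ a)
    (Γ : Over (Spec (CommRingCat.of k))) [GrpObj Γ] (i : Γ ⟶ G) [IsMonHom i] [IsClosedImmersion i.left]
    (ha : ∃ a' : A ⟶ Γ, a' ≫ i = a) (hb : ∃ b' : B ⟶ Γ, b' ≫ i = b)
    (hmin : ∀ (Γ' : Over (Spec (CommRingCat.of k))) (_ : GrpObj Γ') (i' : Γ' ⟶ G), IsMonHom i' → IsClosedImmersion i'.left →
        (∃ a'' : A ⟶ Γ', a'' ≫ i' = a) → (∃ b'' : B ⟶ Γ', b'' ≫ i' = b) → ∃ j : Γ ⟶ Γ', j ≫ i' = i) :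
    IsReduced Γ.left ∧ Set.range i.left.base = Set.range ((a ⊗ₘ b) ≫ μ[G]).left.base := by
  classical
  haveI : Mono a := Over.mono_of_mono_left a
  obtain ⟨P, strP, e, f, hfmon, hf⟩ :=
    Groth.Agent.H63.SemiDir.exists_semidirect k G A B a b hN
  letI := strP
  haveI := hfmon
  haveI : Smooth (A ⊗ B).hom := by rw [Over.tensorObj_hom]; infer_instance
  haveI : QuasiCompact (A ⊗ B).hom := by rw [Over.tensorObj_hom]; infer_instance
  haveI : IsReduced (A ⊗ B).left :=
    Groth.Agent.H63.SmoothRegular.isReduced_of_smooth_field (A ⊗ B).hom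
  haveI : IsIso e.hom.left := (Over.forget _).map_isIso e.hom
  haveI : IsReduced P.left := isReduced_of_isOpenImmersion e.hom.left
  haveI : QuasiCompact P.hom := by rw [← Over.w e.hom]; infer_instance
  haveI : CompactSpace ↥P.left := (quasiCompact_iff_compactSpace (f := P.hom)).mp inferInstance
  haveI : IsLocallyNoetherian G.left := LocallyOfFiniteType.isLocallyNoetherian G.hom
  haveI : QuasiCompact f.left := inferInstance
  obtain ⟨H', strH, i', f', hi'mon, hf'mon, hfi, hi'cl, hker, hf'qc, hf'surj⟩ :=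
    Groth.Agent.H37.GrpImage.exists_image_grp k P G f
  letI := strH
  haveI := hi'mon
  haveI := hi'cl
  haveI := hf'qc
  haveI := hf'surj
  haveI : IsSchemeTheoreticallyDominant f'.left := ⟨hker⟩
  haveI : IsReduced H'.left := IsSchemeTheoreticallyDominant.isReduced f'.left
  have hφ : (a ⊗ₘ b) ≫ μ[G] = (fst A B ≫ a) * (snd A B ≫ b) := by
    have h0 : a ⊗ₘ b = lift (fst A B ≫ a) (snd A B ≫ b) := by
      ext <;> simp
    rw [Hom.mul_def, h0]
  have hfi' : f'.left ≫ i'.left = f.left := by rw [← Over.comp_left, hfi]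
  have ha'' : ∃ a'' : A ⟶ H', a'' ≫ i' = a := by
    refine ⟨lift (𝟙 A) (toUnit A ≫ η[B]) ≫ e.inv ≫ f', ?_⟩
    rw [Category.assoc, Category.assoc, hfi, hf, e.inv_hom_id_assoc, hφ, MonObj.comp_mul,
      lift_fst_assoc, lift_snd_assoc, Category.id_comp, Category.assoc, IsMonHom.one_hom,
      ← Hom.one_def, _root_.mul_one]
  have hb'' : ∃ b'' : B ⟶ H', b'' ≫ i' = b := by
    refine ⟨lift (toUnit B ≫ η[A]) (𝟙 B) ≫ e.inv ≫ f', ?_⟩
    rw [Category.assoc, Category.assoc, hfi, hf, e.inv_hom_id_assoc, hφ, MonObj.comp_mul,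
      lift_fst_assoc, lift_snd_assoc, Category.id_comp, Category.assoc, IsMonHom.one_hom,
      ← Hom.one_def, _root_.one_mul]
  obtain ⟨j, hj⟩ := hmin H' strH i' hi'mon hi'cl ha'' hb''
  have hj' : j.left ≫ i'.left = i.left := by rw [← Over.comp_left, hj]
  -- ranges
  have hrange_f : Set.range f.left.base = Set.range ((a ⊗ₘ b) ≫ μ[G]).left.base := by
    have h1 : f.left = e.hom.left ≫ ((a ⊗ₘ b) ≫ μ[G]).left := by rw [hf]; rfl
    rw [h1, Scheme.Hom.comp_base, TopCat.coe_comp, Set.range_comp,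
      Set.range_eq_univ.mpr (e.hom.left.surjective), Set.image_univ]
  have hrange_i' : Set.range i'.left.base = Set.range f.left.base := by
    rw [← hfi', Scheme.Hom.comp_base, TopCat.coe_comp, Set.range_comp,
      Set.range_eq_univ.mpr (f'.left.surjective), Set.image_univ]
  obtain ⟨a', ha'⟩ := ha
  obtain ⟨b', hb'⟩ := hb
  have hφi : ((a' ⊗ₘ b') ≫ μ[Γ]) ≫ i = (a ⊗ₘ b) ≫ μ[G] := by
    rw [Category.assoc, IsMonHom.mul_hom, tensorHom_comp_tensorHom_assoc, ha', hb']
  have hsub1 : Set.range ((a ⊗ₘ b) ≫ μ[G]).left.base ⊆ Set.range i.left.base := by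
    rw [← hφi, Over.comp_left, Scheme.Hom.comp_base, TopCat.coe_comp]
    exact Set.range_comp_subset_range _ _
  have hsub2 : Set.range i.left.base ⊆ Set.range ((a ⊗ₘ b) ≫ μ[G]).left.base := by
    rw [← hrange_f, ← hrange_i', ← hj', Scheme.Hom.comp_base, TopCat.coe_comp]
    exact Set.range_comp_subset_range _ _
  refine ⟨?_, Set.Subset.antisymm hsub2 hsub1⟩
  -- reducedness
  haveI : IsClosedImmersion (j.left ≫ i'.left) := by rw [hj']; infer_instance
  haveI : IsClosedImmersion j.left := IsClosedImmersion.of_comp j.left i'.left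
  haveI : Surjective j.left := by
    refine ⟨fun h => ?_⟩
    have h1 : i'.left.base h ∈ Set.range i.left.base := by
      apply hsub1
      rw [← hrange_f, ← hrange_i']
      exact ⟨h, rfl⟩
    obtain ⟨g0, hg0⟩ := h1
    refine ⟨g0, ?_⟩
    apply i'.left.isClosedEmbedding.injective
    rw [← hg0, ← hj']
    rfl
  haveI : IsIso j.left := isIso_of_isClosedImmersion_of_surjective j.left
  exact isReduced_of_isOpenImmersion j.left

end Groth.Agent.S5362
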