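import Groth.Statements.S5363
import Mathlib
import Groth.Agent.H93.Transp4
import Groth.Agent.S5331

set_option autoImplicit false
universe u
open CategoryTheory CategoryTheory.Limits MonoidalCategory CartesianMonoidalCategory MonObj GrpObj AlgebraicGeometry
open SGA3

namespace Groth.Agent.S5363

/-- Let G be a group scheme over a field k and g a k-rational point of G. Then the smallest closed
subgroup scheme Γ of G through which g factors (the closed subgroup generated by g) is commutative. -/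
theorem result (k : Type u) [Field k] (G : Over (Spec (CommRingCat.of k))) [GrpObj G]
    (g : 𝟙_ (Over (Spec (CommRingCat.of k))) ⟶ G) (Γ : Over (Spec (CommRingCat.of k))) [GrpObj Γ] (i : Γ ⟶ G) [IsMonHom i] [IsClosedImmersion i.left]
    (hf : ∃ f' : 𝟙_ (Over (Spec (CommRingCat.of k))) ⟶ Γ, f' ≫ i = g)
    (hmin : ∀ (Γ' : Over (Spec (CommRingCat.of k))) (_ : GrpObj Γ') (i' : Γ' ⟶ G), IsMonHom i' → IsClosedImmersion i'.left →
        (∃ f'' : 𝟙_ (Over (Spec (CommRingCat.of k))) ⟶ Γ', f'' ≫ i' = g) → ∃ j : Γ ⟶ Γ', j ≫ i' = i) :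
    IsCommMonObj Γ := by
  have : DiscreteTopology ↥(Spec (CommRingCat.of k)) :=
    show DiscreteTopology (PrimeSpectrum k) from inferInstance
  have hsep : IsSeparated G.hom := Groth.Agent.S5331.result (Spec (CommRingCat.of k)) G
  have hmono : Mono i := by
    have : Mono ((Over.forget _).map i) := by
      show Mono i.left
      infer_instance
    exact (Over.forget _).mono_of_mono_map this
  -- the centraliser of `g`
  obtain ⟨C, strC, ic, hmC, -, hcC, HC⟩ := Groth.Agent.H93.Transp.exists_centralizer g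
  have hgC : ∃ f'' : 𝟙_ (Over (Spec (CommRingCat.of k))) ⟶ C, f'' ≫ ic = g :=
    (HC _ g).mpr (fun T' s x => by
      have : s = x := toUnit_unique s x
      rw [this])
  obtain ⟨j, hj⟩ := hmin C strC ic hmC hcC hgC
  have h1 : Groth.Agent.H93.Transp.CommP g i := (HC Γ i).mp ⟨j, hj⟩
  -- the centraliser of `Γ`
  obtain ⟨Z, strZ, iz, hmZ, -, hcZ, HZ⟩ := Groth.Agent.H93.Transp.exists_centralizer i
  have hgZ : ∃ f'' : 𝟙_ (Over (Spec (CommRingCat.of k))) ⟶ Z, f'' ≫ iz = g :=
    (HZ _ g).mpr (fun T' s x => (h1 T' x s).symm)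
  obtain ⟨j', hj'⟩ := hmin Z strZ iz hmZ hcZ hgZ
  have h2 : Groth.Agent.H93.Transp.CommP i i := (HZ Γ i).mp ⟨j', hj'⟩
  refine (isCommMonObj_iff_isMulCommutative Γ).mpr fun X => ⟨⟨fun a b => ?_⟩⟩
  rw [← cancel_mono i, MonObj.mul_comp, MonObj.mul_comp]
  exact h2 X a b

end Groth.Agent.S5363
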