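import Groth.Statements.S5366
import Groth.Agent.H40.NilpSolv2
import Groth.Agent.H40.OmegaPts


set_option autoImplicit false
universe u
open CategoryTheory CategoryTheory.Limits MonoidalCategory CartesianMonoidalCategory MonObj GrpObj AlgebraicGeometry
open SGA3

namespace Groth.Agent.S5366

/-- (i) ⟺ (iii): let G be a smooth group scheme of finite type over a field k, Ω an algebraically closed
extension field of k and n a natural number. Then G is solvable of class n (the n-th term of the
derived series of the group G(T) is trivial for every k-scheme T) if and only if the n-th term of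
the derived series of the group of Ω-points G(Ω) is trivial; and G is nilpotent of class n (the n-th
term of the lower central series of G(T) is trivial for every T) if and only if the n-th term of the
lower central series of G(Ω) is trivial. -/
theorem result (k : Type u) [Field k] (G : Over (Spec (CommRingCat.of k))) [GrpObj G]
    [Smooth G.hom] [QuasiCompact G.hom] (Ω : Type u) [Field Ω] [Algebra k Ω] [IsAlgClosed Ω] (n : ℕ) :
    ((∀ T : Over (Spec (CommRingCat.of k)), derivedSeries (T ⟶ G) n = ⊥) ↔ derivedSeries ((Over.mk (Spec.map (CommRingCat.ofHom (algebraMap k Ω))) : Over (Spec (CommRingCat.of k))) ⟶ G) n = ⊥) ∧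
    ((∀ T : Over (Spec (CommRingCat.of k)), Subgroup.lowerCentralSeries (⊤ : Subgroup (T ⟶ G)) n = ⊥) ↔ Subgroup.lowerCentralSeries (⊤ : Subgroup (((Over.mk (Spec.map (CommRingCat.ofHom (algebraMap k Ω))) : Over (Spec (CommRingCat.of k))) ⟶ G))) n = ⊥) := by

  have key : ∀ (H : ∀ X : Over (Spec (CommRingCat.of k)), Subgroup (X ⟶ G)),
      Groth.Agent.H40.NilpSolv.Func G H →
      Groth.Agent.H40.NilpSolv.UnivQ G (fun P => Smooth P.hom) H →
      H (Groth.Agent.H40.OmegaPts.T (k := k) Ω) = ⊥ → ∀ X, H X = ⊥ := by
    intro H hF hU h0 X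
    apply Groth.Agent.H40.NilpSolv.eq_bot_of_univQ G _ hU _ X
    intro P hP
    rw [eq_bot_iff]
    intro u hu
    rw [Subgroup.mem_bot]
    have hsm : Smooth P.hom := hP
    have : IsReduced P.left := Groth.Agent.H51.isReduced_of_smooth P.hom
    apply Groth.Agent.H40.OmegaPts.eq_of_eq_on_points Ω u 1
    intro p
    have h1 := hF _ _ p u hu
    rw [h0, Subgroup.mem_bot] at h1
    rw [h1, MonObj.comp_one]
  have hG : (fun P : Over (Spec (CommRingCat.of k)) => Smooth P.hom) G := inferInstance
  have ht : ∀ P P' : Over (Spec (CommRingCat.of k)), (fun P => Smooth P.hom) P →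
      (fun P => Smooth P.hom) P' → (fun P => Smooth P.hom) (P ⊗ P') :=
    fun P P' h h' => Groth.Agent.H40.NilpSolv.smooth_tensor P P' h h'
  refine ⟨⟨fun h => h _, fun h => ?_⟩, ⟨fun h => h _, fun h => ?_⟩⟩
  · have hd := Groth.Agent.H40.NilpSolv.func_univQ_derived G _ hG ht n
    exact key _ hd.1 hd.2 h
  · have hd := Groth.Agent.H40.NilpSolv.func_univQ_lcs G _ hG ht n
    exact key _ hd.1 hd.2 h

end Groth.Agent.S5366
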