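import Groth.Statements.S5373
import Groth.Agent.H40.FpqcDesc3

set_option autoImplicit false
universe u
open CategoryTheory CategoryTheory.Limits MonoidalCategory CartesianMonoidalCategory MonObj GrpObj AlgebraicGeometry
open SGA3

namespace Groth.Agent.S5373

/-- Let p : X → Y be a morphism of S-schemes and v : X ×_Y X → X ×_S X the canonical monomorphism (the
graph of the effective equivalence relation defined by p). Then (i) v is an immersion, and a closed
immersion if Y is separated over S; (ii) if p is covering for the fpqc topology (some Z → Y which is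
flat, surjective, with every affine open of Y the image of a quasi-compact open of Z, factors
through p), so that Y represents the quotient sheaf of X by this equivalence relation, and v is a
closed immersion, then Y is separated over S. -/
theorem result (S : Scheme.{u}) (X Y : Over S) (p : X ⟶ Y) :
    letI v : (pullback p p) ⟶ X ⊗ X := lift (pullback.fst p p) (pullback.snd p p)
    IsImmersion v.left ∧ (IsSeparated Y.hom → IsClosedImmersion v.left) ∧
    ((∃ (Z : Scheme.{u}) (q : Z ⟶ Y.left) (r : Z ⟶ X.left), r ≫ p.left = q ∧ Surjective q ∧ Flat q ∧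
        ∀ V : Y.left.Opens, IsAffineOpen V → ∃ W : Z.Opens, IsCompact (W : Set Z) ∧ q.base '' (W : Set Z) = (V : Set Y.left)) →
      IsClosedImmersion v.left → IsSeparated Y.hom) := by
  open Groth.Agent.H40.FpqcFam in
  have hsqO : IsPullback (lift (pullback.fst p p) (pullback.snd p p)) (pullback.fst p p ≫ p)
      (p ⊗ₘ p) (lift (𝟙 Y) (𝟙 Y)) := by
    refine isPullback_of_pts ?_ ?_
    · rw [lift_map, comp_lift, Category.comp_id, ← pullback.condition]
    · intro T x y hxy
      have h1 : (x ≫ fst X X) ≫ p = y := by
        have := congrArg (fun m => m ≫ fst Y Y) hxy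
        simpa using this
      have h2 : (x ≫ snd X X) ≫ p = y := by
        have := congrArg (fun m => m ≫ snd Y Y) hxy
        simpa using this
      refine ⟨pullback.lift (x ≫ fst X X) (x ≫ snd X X) (h1.trans h2.symm), ⟨?_, ?_⟩, ?_⟩
      · apply CartesianMonoidalCategory.hom_ext
        · rw [Category.assoc, lift_fst, pullback.lift_fst]
        · rw [Category.assoc, lift_snd, pullback.lift_snd]
      · rw [← Category.assoc, pullback.lift_fst, h1]
      · rintro w ⟨hw1, hw2⟩
        apply pullback.hom_ext
        · rw [pullback.lift_fst, ← hw1, Category.assoc, lift_fst]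
        · rw [pullback.lift_snd, ← hw1, Category.assoc, lift_snd]
  have hdiag : (lift (𝟙 Y) (𝟙 Y)).left = pullback.diagonal Y.hom := by
    rw [Over.lift_left]
    rfl
  have hsqS : IsPullback (lift (pullback.fst p p) (pullback.snd p p)).left
      (pullback.fst p p ≫ p).left (p ⊗ₘ p).left (pullback.diagonal Y.hom) := by
    rw [← hdiag]
    exact hsqO.map (Over.forget S)
  refine ⟨?_, ?_, ?_⟩
  · exact MorphismProperty.of_isPullback (P := @IsImmersion) hsqS.flip inferInstance
  · intro hsep
    exact MorphismProperty.of_isPullback (P := @IsClosedImmersion) hsqS.flip inferInstance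
  · intro hcov hv
    have hloc := locTriv_of_cov p hcov
    obtain ⟨R, hR, hsec⟩ := locTriv_tensorHom hloc
    refine ⟨?_⟩
    refine isClosedImmersion_desc_along_fpqc (pullback.diagonal Y.hom) hR fun T g hg => ?_
    obtain ⟨s, hs⟩ := hsec g hg
    have hs' : s ≫ (p ⊗ₘ p).left = g := hs
    refine ⟨pullback (lift (pullback.fst p p) (pullback.snd p p)).left s,
      pullback.fst (lift (pullback.fst p p) (pullback.snd p p)).left s ≫
        (pullback.fst p p ≫ p).left,
      pullback.snd (lift (pullback.fst p p) (pullback.snd p p)).left s, ?_, inferInstance⟩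
    rw [← hs']
    exact (IsPullback.of_hasPullback (lift (pullback.fst p p) (pullback.snd p p)).left s).paste_horiz
      hsqS.flip

end Groth.Agent.S5373
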