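import Groth.Statements.S5369
import Groth.Agent.H40.FpqcDesc3
import Groth.Agent.S5373

set_option autoImplicit false
universe u
open CategoryTheory CategoryTheory.Limits MonoidalCategory CartesianMonoidalCategory MonObj GrpObj AlgebraicGeometry
open SGA3

namespace Groth.Agent.S5369

/-- Let u : G' → G be a monomorphism of S-group schemes and p : G → G'' a morphism of S-schemes which is
covering for the fpqc topology (some Z → G'' which is flat, surjective, with every affine open of
G'' the image of a quasi-compact open of Z, factors through p) and such that the square (g, h) ↦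
g·u(h), first projection G ×_S G' → G, p, p is cartesian, so that G'' represents the fpqc quotient
sheaf G/G'. Let ε'' be the composite of the unit section of G with p. Then the square formed by u,
the structure morphism G' → S, p and ε'' is cartesian; u is an immersion; and G'' is separated over
S if and only if u is a closed immersion, if and only if ε'' is a closed immersion. -/
theorem result (S : Scheme.{u}) (G G' G'' : Over S) [GrpObj G] [GrpObj G']
    (u : G' ⟶ G) [IsMonHom u] [Mono u] (p : G ⟶ G'')
    (hcov : (∃ (Z : Scheme.{u}) (q : Z ⟶ G''.left) (r : Z ⟶ G.left), r ≫ p.left = q ∧ Surjective q ∧ Flat q ∧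
        ∀ V : G''.left.Opens, IsAffineOpen V → ∃ W : Z.Opens, IsCompact (W : Set Z) ∧ q.base '' (W : Set Z) = (V : Set G''.left)))
    (hsq : IsPullback ((G ◁ u) ≫ μ[G]) (fst G G') p p) :
    IsPullback u (toUnit G') p (η[G] ≫ p) ∧ IsImmersion u.left ∧
    (IsSeparated G''.hom ↔ IsClosedImmersion u.left) ∧ (IsClosedImmersion u.left ↔ IsClosedImmersion (η[G] ≫ p).left) := by
  open Groth.Agent.H40.FpqcFam in
  have hloc := locTriv_of_cov p hcov
  have hpb := hsq.flip
  have hpinv : ∀ {T : Over S} (x : T ⟶ G) (g : T ⟶ G'), (x * (g ≫ u)) ≫ p = x ≫ p := by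
    intro T x g
    have h := lift x g ≫= hsq.w
    simp only [Category.assoc, lift_whiskerLeft_assoc, lift_fst_assoc] at h
    rw [Hom.mul_def, Category.assoc]
    exact h
  -- (1) the kernel square
  have hk : IsPullback u (toUnit G') p (η[G] ≫ p) := by
    refine isPullback_of_pts ?_ ?_
    · have h := hpinv (1 : G' ⟶ G) (𝟙 G')
      rw [_root_.one_mul, Category.id_comp] at h
      rw [h, ← Category.assoc]
      rfl
    · intro T x y hxy
      have h1 : (1 : T ⟶ G) ≫ p = x ≫ p := by
        rw [hxy, ← Category.assoc, toUnit_unique y (toUnit T)]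
        rfl
      obtain ⟨g, hg⟩ := exact_diff hpb 1 x h1
      rw [_root_.one_mul] at hg
      refine ⟨g, ⟨hg.symm, toUnit_unique _ _⟩, ?_⟩
      rintro g' ⟨hg', -⟩
      rw [← cancel_mono u, hg', hg]
  have hkS : IsPullback u.left (toUnit G').left p.left (η[G] ≫ p).left := hk.map (Over.forget S)
  have hsec : (η[G] ≫ p).left ≫ G''.hom = 𝟙 S := by
    rw [Over.w]
    rfl
  have himm : IsImmersion (η[G] ≫ p).left := by
    have : IsImmersion ((η[G] ≫ p).left ≫ G''.hom) := by
      rw [hsec]
      exact (inferInstance : IsImmersion (𝟙 S))
    exact IsImmersion.of_comp (η[G] ≫ p).left G''.hom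
  have h4 : IsClosedImmersion u.left ↔ IsClosedImmersion (η[G] ≫ p).left := by
    constructor
    · intro hu
      obtain ⟨R, hR, hsecR⟩ := hloc
      refine isClosedImmersion_desc_along_fpqc (η[G] ≫ p).left hR fun T g hg => ?_
      obtain ⟨s, hs⟩ := hsecR g hg
      have hs' : s ≫ p.left = g := hs
      refine ⟨pullback u.left s, pullback.fst u.left s ≫ (toUnit G').left,
        pullback.snd u.left s, ?_, inferInstance⟩
      rw [← hs']
      exact (IsPullback.of_hasPullback u.left s).paste_horiz hkS.flip
    · intro he
      exact MorphismProperty.of_isPullback (P := @IsClosedImmersion) hkS.flip he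
  refine ⟨hk, ?_, ?_, h4⟩
  · exact MorphismProperty.of_isPullback (P := @IsImmersion) hkS.flip himm
  · constructor
    · intro hsep
      refine h4.mpr ?_
      have : IsClosedImmersion ((η[G] ≫ p).left ≫ G''.hom) := by
        rw [hsec]
        exact (inferInstance : IsClosedImmersion (𝟙 S))
      exact IsClosedImmersion.of_comp (η[G] ≫ p).left G''.hom
    · intro hu
      -- v' : G ⊗ G' ⟶ G ⊗ G is a base change of u along (a, b) ↦ b⁻¹ a
      have hbc : IsPullback (lift ((G ◁ u) ≫ μ[G]) (fst G G')) (snd G G')
          ((snd G G)⁻¹ * fst G G) u := by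
        refine isPullback_of_pts ?_ ?_
        · apply AlgGrp.Action.hom_ext_lift₂
          intro T g h
          rw [← Category.assoc, comp_lift, lift_whiskerLeft_assoc, lift_fst, ← Hom.mul_def,
            MonObj.comp_mul, GrpObj.comp_inv, lift_snd, lift_fst, lift_snd_assoc]
          group
        · intro T x y hxy
          rw [MonObj.comp_mul, GrpObj.comp_inv] at hxy
          refine ⟨lift (x ≫ snd G G) y, ⟨?_, lift_snd _ _⟩, ?_⟩
          · rw [comp_lift, lift_whiskerLeft_assoc, lift_fst, ← Hom.mul_def, ← hxy]
            apply CartesianMonoidalCategory.hom_ext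
            · rw [lift_fst]
              group
            · rw [lift_snd]
          · rintro q ⟨hq1, hq2⟩
            apply CartesianMonoidalCategory.hom_ext
            · rw [lift_fst, ← hq1, Category.assoc, lift_snd]
            · rw [lift_snd, hq2]
      have hbcS := hbc.map (Over.forget S)
      have hv' : IsClosedImmersion (lift ((G ◁ u) ≫ μ[G]) (fst G G')).left :=
        MorphismProperty.of_isPullback (P := @IsClosedImmersion) hbcS.flip hu
      have hveq : hsq.isoPullback.inv ≫ lift ((G ◁ u) ≫ μ[G]) (fst G G') =
          lift (pullback.fst p p) (pullback.snd p p) := by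
        rw [comp_lift, hsq.isoPullback_inv_fst, hsq.isoPullback_inv_snd]
      have hv : IsClosedImmersion (lift (pullback.fst p p) (pullback.snd p p)).left := by
        rw [← hveq, Over.comp_left]
        have : IsIso hsq.isoPullback.inv.left :=
          inferInstanceAs (IsIso ((Over.forget S).map hsq.isoPullback.inv))
        infer_instance
      exact (Groth.Agent.S5373.result S G G'' p).2.2 hcov hv

end Groth.Agent.S5369
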