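import Groth.Statements.S5370
import Groth.Agent.H40.FpqcDesc3
import Groth.Agent.S5369
import Groth.Agent.S1128
import Groth.Agent.H51.FpqcLocPInst

set_option autoImplicit false
universe u
open CategoryTheory CategoryTheory.Limits MonoidalCategory CartesianMonoidalCategory MonObj GrpObj AlgebraicGeometry
open SGA3

namespace Groth.Agent.S5370

/-- Let u : G' → G be a monomorphism of S-group schemes and p : G → G'' a morphism of S-schemes which is
covering for the fpqc topology (some Z → G'' which is flat, surjective, with every affine open of
G'' the image of a quasi-compact open of Z, factors through p) and such that the square (g, h) ↦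
g·u(h), first projection G ×_S G' → G, p, p is cartesian, so that G'' represents the fpqc quotient
sheaf G/G'. Then: (ix) if G is reduced, G'' is reduced; (xi) G' is flat over S if and only if p is
flat, and in that case G'' is flat over S if and only if G is flat over S. -/
theorem result (S : Scheme.{u}) (G G' G'' : Over S) [GrpObj G] [GrpObj G']
    (u : G' ⟶ G) [IsMonHom u] [Mono u] (p : G ⟶ G'')
    (hcov : (∃ (Z : Scheme.{u}) (q : Z ⟶ G''.left) (r : Z ⟶ G.left), r ≫ p.left = q ∧ Surjective q ∧ Flat q ∧
        ∀ V : G''.left.Opens, IsAffineOpen V → ∃ W : Z.Opens, IsCompact (W : Set Z) ∧ q.base '' (W : Set Z) = (V : Set G''.left)))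
    (hsq : IsPullback ((G ◁ u) ≫ μ[G]) (fst G G') p p) :
    (IsReduced G.left → IsReduced G''.left) ∧
    (Flat G'.hom ↔ Flat p.left) ∧ (Flat p.left → (Flat G''.hom ↔ Flat G.hom)) := by
  open Groth.Agent.H40.FpqcFam in
  have hloc := locTriv_of_cov p hcov
  have hk := (Groth.Agent.S5369.result S G G' G'' u p hcov hsq).1
  have hkS : IsPullback u.left (toUnit G').left p.left (η[G] ≫ p).left := hk.map (Over.forget S)
  have hsqS : IsPullback ((G ◁ u) ≫ μ[G]).left (fst G G').left p.left p.left :=
    hsq.map (Over.forget S)
  obtain ⟨Z₁, q, r, hrq, hqs, hqf, hqc⟩ := hcov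
  subst hrq
  have hpsurj : Surjective p.left := Surjective.of_comp r p.left
  refine ⟨?_, ?_, ?_⟩
  · intro hG
    have : ∀ y : G''.left, _root_.IsReduced (G''.left.presheaf.stalk y) := by
      intro y
      obtain ⟨z, rfl⟩ := (r ≫ p.left).surjective y
      have h1 : ((r ≫ p.left).stalkMap z).hom.Flat := Flat.stalkMap _ z
      have hinj : Function.Injective ((r ≫ p.left).stalkMap z).hom := by
        algebraize [((r ≫ p.left).stalkMap z).hom]
        have : Module.Flat (G''.left.presheaf.stalk ((r ≫ p.left) z)) (Z₁.presheaf.stalk z) := h1
        have : IsLocalHom (algebraMap (G''.left.presheaf.stalk ((r ≫ p.left) z))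
            (Z₁.presheaf.stalk z)) :=
          inferInstanceAs (IsLocalHom ((r ≫ p.left).stalkMap z).hom)
        have : Module.FaithfullyFlat (G''.left.presheaf.stalk ((r ≫ p.left) z))
            (Z₁.presheaf.stalk z) := Module.FaithfullyFlat.of_flat_of_isLocalHom
        exact FaithfulSMul.algebraMap_injective _ _
      rw [Scheme.Hom.stalkMap_comp] at hinj
      have hinj' : Function.Injective (p.left.stalkMap (r z)).hom := by
        intro a b hab
        apply hinj
        change (r.stalkMap z).hom ((p.left.stalkMap (r z)).hom a) =
          (r.stalkMap z).hom ((p.left.stalkMap (r z)).hom b)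
        rw [hab]
      exact isReduced_of_injective (p.left.stalkMap (r z)).hom hinj'
    exact isReduced_of_isReduced_stalk G''.left
  · constructor
    · intro hG'
      have hfst : Flat (fst G G').left := by
        rw [Over.fst_left]
        infer_instance
      obtain ⟨R, hR, hsecR⟩ := hloc
      refine desc_along_fpqc @Flat Groth.Agent.H51.flat_descendsAlong_fpqc p.left hR
        fun T g hg => ?_
      obtain ⟨s, hs⟩ := hsecR g hg
      have hs' : s ≫ p.left = g := hs
      refine ⟨pullback (fst G G').left s, pullback.fst (fst G G').left s ≫ ((G ◁ u) ≫ μ[G]).left,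
        pullback.snd (fst G G').left s, ?_, inferInstance⟩
      rw [← hs']
      exact (IsPullback.of_hasPullback (fst G G').left s).paste_horiz hsqS
    · intro hp
      have : Flat (toUnit G').left :=
        MorphismProperty.of_isPullback (P := @Flat) hkS hp
      exact this
  · intro hp
    constructor
    · intro hG''
      rw [← Over.w p]
      infer_instance
    · intro hG
      have : Flat (p.left ≫ G''.hom) := by
        rw [Over.w p]
        exact hG
      exact Groth.Agent.S1128.result p.left G''.hom

end Groth.Agent.S5370
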