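import Groth.Statements.S5371
import Groth.Agent.H40.FpqcDesc3
import Groth.Agent.H40.FppfSrcUnram
import Groth.Agent.S5369
import Groth.Agent.S0079
import Groth.Agent.H23.QCDescent
import Groth.Agent.H51.FpqcLocPInst
import Groth.Agent.H48.FppfSource
import Groth.Agent.H49.FppfSource

set_option autoImplicit false
universe u
open CategoryTheory CategoryTheory.Limits MonoidalCategory CartesianMonoidalCategory MonObj GrpObj AlgebraicGeometry
open SGA3

namespace Groth.Agent.S5371

/-- Let u : G' → G be a monomorphism of S-group schemes and p : G → G'' a morphism of S-schemes which is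
covering for the fpqc topology (some Z → G'' which is flat, surjective, with every affine open of
G'' the image of a quasi-compact open of Z, factors through p) and such that the square (g, h) ↦
g·u(h), first projection G ×_S G' → G, p, p is cartesian, so that G'' represents the fpqc quotient
sheaf G/G'. (xii) G' is flat and locally of finite presentation over S if and only if p is
surjective, flat and locally of finite presentation; in that case, if G is locally of finite
presentation (resp. locally of finite type, of finite type, smooth, etale, unramified, locally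
quasi-finite) over S, so is G''. (xiii) If G' is flat and of finite presentation over S then p is of
finite presentation, and G is of finite presentation over S if and only if G'' is. -/
theorem result (S : Scheme.{u}) (G G' G'' : Over S) [GrpObj G] [GrpObj G']
    (u : G' ⟶ G) [IsMonHom u] [Mono u] (p : G ⟶ G'')
    (hcov : (∃ (Z : Scheme.{u}) (q : Z ⟶ G''.left) (r : Z ⟶ G.left), r ≫ p.left = q ∧ Surjective q ∧ Flat q ∧
        ∀ V : G''.left.Opens, IsAffineOpen V → ∃ W : Z.Opens, IsCompact (W : Set Z) ∧ q.base '' (W : Set Z) = (V : Set G''.left)))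
    (hsq : IsPullback ((G ◁ u) ≫ μ[G]) (fst G G') p p) :
    ((Flat G'.hom ∧ LocallyOfFinitePresentation G'.hom) ↔
      (Surjective p.left ∧ Flat p.left ∧ LocallyOfFinitePresentation p.left)) ∧
    (Flat p.left → LocallyOfFinitePresentation p.left →
      (LocallyOfFinitePresentation G.hom → LocallyOfFinitePresentation G''.hom) ∧
      (LocallyOfFiniteType G.hom → LocallyOfFiniteType G''.hom) ∧
      (LocallyOfFiniteType G.hom → QuasiCompact G.hom → QuasiCompact G''.hom) ∧
      (Smooth G.hom → Smooth G''.hom) ∧ (Etale G.hom → Etale G''.hom) ∧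
      (FormallyUnramified G.hom → LocallyOfFinitePresentation G.hom → FormallyUnramified G''.hom) ∧
      (LocallyQuasiFinite G.hom → LocallyOfFiniteType G.hom → LocallyQuasiFinite G''.hom)) ∧
    (Flat G'.hom → LocallyOfFinitePresentation G'.hom → QuasiCompact G'.hom → QuasiSeparated G'.hom →
      QuasiCompact p.left ∧ QuasiSeparated p.left ∧ LocallyOfFinitePresentation p.left ∧
      ((LocallyOfFinitePresentation G.hom ∧ QuasiCompact G.hom ∧ QuasiSeparated G.hom) ↔
        (LocallyOfFinitePresentation G''.hom ∧ QuasiCompact G''.hom ∧ QuasiSeparated G''.hom))) := by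
  open Groth.Agent.H40.FpqcFam in
  have hloc := locTriv_of_cov p hcov
  have hk := (Groth.Agent.S5369.result S G G' G'' u p hcov hsq).1
  have hkS : IsPullback u.left (toUnit G').left p.left (η[G] ≫ p).left := hk.map (Over.forget S)
  have hsqS : IsPullback ((G ◁ u) ≫ μ[G]).left (fst G G').left p.left p.left :=
    hsq.map (Over.forget S)
  obtain ⟨Z₁, q, r, hrq, hqs, hqf, hqc⟩ := hcov
  subst hrq
  have hpsurj : Surjective p.left := Surjective.of_comp r p.left
  have hcomp : p.left ≫ G''.hom = G.hom := Over.w p
  have desc : ∀ (P : MorphismProperty Scheme.{u}) [IsZariskiLocalAtTarget P]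
      [P.IsStableUnderBaseChange]
      (hP : P.DescendsAlong (@Surjective ⊓ @Flat ⊓ @QuasiCompact : MorphismProperty Scheme.{u})),
      P G'.hom → P p.left := by
    intro P _ _ hP hG'
    have hfst : P (fst G G').left := by
      rw [Over.fst_left]
      exact P.pullback_fst _ _ hG'
    obtain ⟨R, hR, hsecR⟩ := hloc
    refine Groth.Agent.H40.FpqcFam.desc_along_fpqc P hP p.left hR fun T g hg => ?_
    obtain ⟨s, hs⟩ := hsecR g hg
    have hs' : s ≫ p.left = g := hs
    refine ⟨pullback (fst G G').left s, pullback.fst (fst G G').left s ≫ ((G ◁ u) ≫ μ[G]).left,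
      pullback.snd (fst G G').left s, ?_, P.pullback_snd _ _ hfst⟩
    rw [← hs']
    exact (IsPullback.of_hasPullback (fst G G').left s).paste_horiz hsqS
  have asc : ∀ (P : MorphismProperty Scheme.{u}) [P.IsStableUnderBaseChange],
      P p.left → P G'.hom := by
    intro P _ hp
    have : P (toUnit G').left := MorphismProperty.of_isPullback (P := P) hkS hp
    exact this
  have hqsdesc : MorphismProperty.DescendsAlong @QuasiSeparated
      (@Surjective ⊓ @Flat ⊓ @QuasiCompact : MorphismProperty Scheme.{u}) :=
    ⟨fun h hf hfst => MorphismProperty.of_isPullback_of_descendsAlong (P := @QuasiSeparated)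
      (Q := @Surjective ⊓ @QuasiCompact) h ⟨hf.1.1, hf.2⟩ hfst⟩
  -- transfers along p
  have trLFP : Flat p.left → LocallyOfFinitePresentation p.left →
      LocallyOfFinitePresentation G.hom → LocallyOfFinitePresentation G''.hom := by
    intro _ _ hG
    have : LocallyOfFinitePresentation (p.left ≫ G''.hom) := by rw [hcomp]; exact hG
    exact Groth.Agent.H48.FppfSource.locallyOfFinitePresentation_of_comp_fppf p.left G''.hom
  have trLFT : Flat p.left → LocallyOfFinitePresentation p.left →
      LocallyOfFiniteType G.hom → LocallyOfFiniteType G''.hom := by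
    intro _ _ hG
    have : LocallyOfFiniteType (p.left ≫ G''.hom) := by rw [hcomp]; exact hG
    exact Groth.Agent.H48.FppfSource.locallyOfFiniteType_of_comp_fppf p.left G''.hom
  have trQC : QuasiCompact G.hom → QuasiCompact G''.hom := by
    intro hG
    have : QuasiCompact (p.left ≫ G''.hom) := by rw [hcomp]; exact hG
    exact Groth.Agent.H48.FppfSource.quasiCompact_of_comp_surjective p.left G''.hom
  have trQS : QuasiCompact p.left → QuasiSeparated G.hom → QuasiSeparated G''.hom := by
    intro _ hG
    have : QuasiSeparated (p.left ≫ G''.hom) := by rw [hcomp]; exact hG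
    exact Groth.Agent.H48.FppfSource.quasiSeparated_of_comp_surjective p.left G''.hom
  refine ⟨⟨fun h => ⟨hpsurj, desc @Flat Groth.Agent.H51.flat_descendsAlong_fpqc h.1,
      desc @LocallyOfFinitePresentation inferInstance h.2⟩,
    fun h => ⟨asc @Flat h.2.1, asc @LocallyOfFinitePresentation h.2.2⟩⟩, ?_, ?_⟩
  · intro hpf hplfp
    refine ⟨trLFP hpf hplfp, trLFT hpf hplfp, fun _ h => trQC h, ?_, ?_, ?_, ?_⟩
    · intro hG
      refine Groth.Agent.H49.FppfSource.smooth_of_comp_of_fppf_family (fun _ : PUnit.{1} => p.left) G''.hom
        (fun _ => hpf) (fun _ => hplfp) (fun y => ?_) (fun _ => ?_)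
      · obtain ⟨x, hx⟩ := p.left.surjective y
        exact ⟨PUnit.unit, x, hx⟩
      · rw [hcomp]; exact hG
    · intro hG
      refine Groth.Agent.H49.FppfSource.etale_of_comp_of_fppf_family (fun _ : PUnit.{1} => p.left) G''.hom
        (fun _ => hpf) (fun _ => hplfp) (fun y => ?_) (fun _ => ?_)
      · obtain ⟨x, hx⟩ := p.left.surjective y
        exact ⟨PUnit.unit, x, hx⟩
      · rw [hcomp]; exact hG
    · intro hu hlfp
      have h1 : LocallyOfFinitePresentation G''.hom := trLFP hpf hplfp hlfp
      have h2 : LocallyOfFiniteType (p.left ≫ G''.hom) := by rw [hcomp]; infer_instance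
      have h3 : FormallyUnramified (p.left ≫ G''.hom) := by rw [hcomp]; exact hu
      exact Groth.Agent.H40.FppfSrcUnram.formallyUnramified_of_comp_flat_surjective p.left G''.hom
    · intro hqf _
      have h3 : LocallyQuasiFinite (p.left ≫ G''.hom) := by rw [hcomp]; exact hqf
      exact Groth.Agent.H40.FppfSrcUnram.locallyQuasiFinite_of_comp_fppf p.left G''.hom
  · intro hfl hlfp hqcG' hqsG'
    have hpf : Flat p.left := desc @Flat Groth.Agent.H51.flat_descendsAlong_fpqc hfl
    have hplfp : LocallyOfFinitePresentation p.left :=
      desc @LocallyOfFinitePresentation inferInstance hlfp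
    have hpqc : QuasiCompact p.left := desc @QuasiCompact Groth.Agent.S0079.result hqcG'
    have hpqs : QuasiSeparated p.left := desc @QuasiSeparated hqsdesc hqsG'
    refine ⟨hpqc, hpqs, hplfp, ⟨fun h => ⟨trLFP hpf hplfp h.1, trQC h.2.1, trQS hpqc h.2.2⟩,
      fun h => ?_⟩⟩
    obtain ⟨h1, h2, h3⟩ := h
    rw [← hcomp]
    exact ⟨inferInstance, inferInstance, inferInstance⟩

end Groth.Agent.S5371
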