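import Groth.Statements.S5372
import Groth.Agent.H40.LocSurj2

set_option autoImplicit false
universe u
open CategoryTheory CategoryTheory.Limits MonoidalCategory CartesianMonoidalCategory MonObj GrpObj AlgebraicGeometry
open SGA3

namespace Groth.Agent.S5372

/-- Let u : G' → G be a monomorphism of S-group schemes which is normal, and p : G → G'' a morphism of
S-schemes which is covering for the fpqc topology (some Z → G'' which is flat, surjective, with
every affine open of G'' the image of a quasi-compact open of Z, factors through p) and such that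
the square (g, h) ↦ g·u(h), first projection G ×_S G' → G, p, p is cartesian, so that G'' represents
the fpqc quotient sheaf G/G'. Then there is a structure of S-group scheme on G'' for which p is a
homomorphism, and it is unique: any morphism m : G'' ×_S G'' → G'' with (p × p) followed by m equal
to the multiplication of G followed by p is its multiplication. -/
theorem result (S : Scheme.{u}) (G G' G'' : Over S) [GrpObj G] [GrpObj G']
    (u : G' ⟶ G) [IsMonHom u] [Mono u] (p : G ⟶ G'')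
    (hcov : (∃ (Z : Scheme.{u}) (q : Z ⟶ G''.left) (r : Z ⟶ G.left), r ≫ p.left = q ∧ Surjective q ∧ Flat q ∧
        ∀ V : G''.left.Opens, IsAffineOpen V → ∃ W : Z.Opens, IsCompact (W : Set Z) ∧ q.base '' (W : Set Z) = (V : Set G''.left)))
    (hsq : IsPullback ((G ◁ u) ≫ μ[G]) (fst G G') p p) (hN : AlgGrp.IsNormalHom u) :
    ∃ _ : GrpObj G'', IsMonHom p ∧ ∀ m : G'' ⊗ G'' ⟶ G'', (p ⊗ₘ p) ≫ m = μ[G] ≫ p → m = μ[G''] := by
  open Groth.Agent.H40.FpqcFam in
  obtain ⟨Z₁, q, r, hrq, hqs, hqf, hqc⟩ := hcov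
  have hloc : NonAbH1.IsLocallyTrivialFor Scheme.fpqcPrecoverage
      (Over.mk p.left : Over G''.left) := by
    refine ⟨Presieve.singleton q, singleton_mem_fpqc q hqc, ?_⟩
    rintro S' f ⟨⟩
    exact ⟨r, hrq⟩
  have hpb := hsq.flip
  have hpinv : ∀ {T : Over S} (x : T ⟶ G) (g : T ⟶ G'), (x * (g ≫ u)) ≫ p = x ≫ p := by
    intro T x g
    have h := lift x g ≫= hsq.w
    simp only [Category.assoc, lift_whiskerLeft_assoc, lift_fst_assoc] at h
    rw [Hom.mul_def, Category.assoc]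
    exact h
  have hnorm : ∀ {T : Over S} (y : T ⟶ G) (g : T ⟶ G'),
      ∃ n' : T ⟶ G', (g ≫ u) * y = y * (n' ≫ u) := by
    intro T y g
    obtain ⟨n', hn'⟩ := hN T y⁻¹ g
    refine ⟨n', ?_⟩
    rw [← hn']
    group
  have hx : ∀ (T : Over S) (g : T ⟶ G') (x y : T ⟶ G),
      lift (x * (g ≫ u)) y ≫ μ[G] ≫ p = lift x y ≫ μ[G] ≫ p := by
    intro T g x y
    obtain ⟨n', hn'⟩ := hnorm y g
    rw [← Category.assoc, ← Hom.mul_def, ← Category.assoc, ← Hom.mul_def, _root_.mul_assoc, hn',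
      ← _root_.mul_assoc, hpinv]
  have hy : ∀ (T : Over S) (g : T ⟶ G') (x y : T ⟶ G),
      lift x (y * (g ≫ u)) ≫ μ[G] ≫ p = lift x y ≫ μ[G] ≫ p := by
    intro T g x y
    rw [← Category.assoc, ← Hom.mul_def, ← Category.assoc, ← Hom.mul_def, ← _root_.mul_assoc,
      hpinv]
  obtain ⟨m₂, hm₂⟩ := exact_desc₂ hpb hloc (μ[G] ≫ p) hx hy
  have hm₂p : ∀ {T : Over S} (x y : T ⟶ G), lift (x ≫ p) (y ≫ p) ≫ m₂ = (x * y) ≫ p := by
    intro T x y
    rw [hm₂, ← Category.assoc, ← Hom.mul_def]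
  obtain ⟨i₂, hi₂⟩ := desc_of_const' hloc (ι[G] ≫ p) (by
    intro T x x' h
    obtain ⟨g, rfl⟩ := exact_diff hpb x x' h
    obtain ⟨n', hn'⟩ := hN T x g⁻¹
    have e : (x * (g ≫ u))⁻¹ = x⁻¹ * (n' ≫ u) := by
      rw [← hn', GrpObj.inv_comp]
      group
    rw [← Category.assoc, ← Category.assoc, ← Hom.inv_def, ← Hom.inv_def, e, hpinv])
  have hi₂p : ∀ {T : Over S} (x : T ⟶ G), (x ≫ p) ≫ i₂ = x⁻¹ ≫ p := by
    intro T x
    rw [Category.assoc, hi₂, ← Category.assoc, ← Hom.inv_def]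
  have hone : ∀ {T : Over S} (t : T ⟶ 𝟙_ (Over S)), t ≫ η[G] ≫ p = (1 : T ⟶ G) ≫ p := by
    intro T t
    rw [← Category.assoc, toUnit_unique t (toUnit T)]
    rfl
  have h_one_mul : ((η[G] ≫ p) ▷ G'') ≫ m₂ = (λ_ G'').hom := by
    apply cancel_whiskerLeft hloc
    apply AlgGrp.Action.hom_ext_lift₂
    intro T t x
    rw [lift_whiskerLeft_assoc, lift_whiskerLeft_assoc, lift_whiskerRight_assoc, hone, hm₂p,
      _root_.one_mul, leftUnitor_hom, lift_snd]
  have h_mul_one : (G'' ◁ (η[G] ≫ p)) ≫ m₂ = (ρ_ G'').hom := by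
    apply exact_cancel hloc
    apply AlgGrp.Action.hom_ext_lift₂
    intro T x t
    rw [lift_whiskerRight_assoc, lift_whiskerRight_assoc, lift_whiskerLeft_assoc, hone, hm₂p,
      _root_.mul_one, rightUnitor_hom, lift_fst]
  have h_assoc : (m₂ ▷ G'') ≫ m₂ = (α_ G'' G'' G'').hom ≫ (G'' ◁ m₂) ≫ m₂ := by
    apply ext_pts₃ hloc
    intro T x y z
    rw [lift_whiskerRight_assoc, hm₂p, hm₂p, lift_lift_associator_hom_assoc,
      lift_whiskerLeft_assoc, hm₂p, hm₂p, _root_.mul_assoc]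
  have h_left_inv : lift i₂ (𝟙 G'') ≫ m₂ = toUnit _ ≫ η[G] ≫ p := by
    apply exact_cancel' hloc
    rw [← Category.assoc, comp_lift, Category.comp_id, ← Category.assoc p, hone]
    have h1 := hi₂p (𝟙 G)
    rw [Category.id_comp] at h1
    have h2 := hm₂p (𝟙 G)⁻¹ (𝟙 G)
    rw [Category.id_comp] at h2
    rw [h1, h2, inv_mul_cancel]
  have h_right_inv : lift (𝟙 G'') i₂ ≫ m₂ = toUnit _ ≫ η[G] ≫ p := by
    apply exact_cancel' hloc
    rw [← Category.assoc, comp_lift, Category.comp_id, ← Category.assoc p, hone]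
    have h1 := hi₂p (𝟙 G)
    rw [Category.id_comp] at h1
    have h2 := hm₂p (𝟙 G) (𝟙 G)⁻¹
    rw [Category.id_comp] at h2
    rw [h1, h2, mul_inv_cancel]
  let inst : GrpObj G'' :=
    { one := η[G] ≫ p
      mul := m₂
      one_mul := h_one_mul
      mul_one := h_mul_one
      mul_assoc := h_assoc
      inv := i₂
      left_inv := h_left_inv
      right_inv := h_right_inv }
  refine ⟨inst, ?_, ?_⟩
  · refine { one_hom := rfl, mul_hom := ?_ }
    change μ[G] ≫ p = (p ⊗ₘ p) ≫ m₂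
    apply AlgGrp.Action.hom_ext_lift₂
    intro T x y
    rw [← Category.assoc (lift x y) (p ⊗ₘ p), lift_map, hm₂p, Hom.mul_def, Category.assoc]
  · intro m hm
    change m = m₂
    apply ext_pts₂ hloc
    intro T x y
    have h := lift x y ≫= hm
    rw [← Category.assoc, lift_map] at h
    rw [hm₂p, h, Hom.mul_def, Category.assoc]

end Groth.Agent.S5372
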