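import Groth.Statements.S5375
import Groth.Agent.S8220
import Groth.Agent.H83.HopfAux
import Mathlib

set_option autoImplicit false
universe u
open CategoryTheory CategoryTheory.Limits MonoidalCategory CartesianMonoidalCategory MonObj GrpObj AlgebraicGeometry
open SGA3

namespace Groth.Agent.S5375

open TensorProduct

/-- the antipode of a commutative Hopf algebra is an involution -/
theorem antipode_antipode (k : Type u) [CommRing k] (A : Type u) [CommRing A] [HopfAlgebra k A]
    (a : A) : HopfAlgebraStruct.antipode k (HopfAlgebraStruct.antipode k a) = a := by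
  have h1 : (WithConv.toConv (AlgHom.id k A))⁻¹ =
      WithConv.toConv (HopfAlgebra.antipodeAlgHom k A) :=
    congrArg WithConv.toConv (AlgHom.id_comp _)
  have h2 : (WithConv.toConv (HopfAlgebra.antipodeAlgHom k A))⁻¹ =
      WithConv.toConv ((HopfAlgebra.antipodeAlgHom k A).comp (HopfAlgebra.antipodeAlgHom k A)) :=
    rfl
  have h3 := inv_inv (WithConv.toConv (AlgHom.id k A))
  rw [h1, h2] at h3
  exact AlgHom.congr_fun (congrArg WithConv.ofConv h3) a

theorem map_eq {k : Type u} [CommRing k] {A : Type u} [CommRing A] [Algebra k A]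
    (B : Subalgebra k A) (w : B ⊗[k] B) :
    Algebra.TensorProduct.map B.val B.val w =
      TensorProduct.map B.val.toLinearMap B.val.toLinearMap w := by
  induction w using TensorProduct.induction_on with
  | zero => simp
  | tmul a b => rfl
  | add x y hx hy => rw [map_add, map_add, hx, hy]

/-- Let A be a commutative Hopf algebra over a field k (an affine k-group, not necessarily of finite
type) and x an element of A. Then there is a subalgebra B of A of finite type over k containing x
which is a sub-Hopf-algebra: the comultiplication sends B into B ⊗ B and the antipode preserves B. -/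
theorem result (k : Type u) [Field k] (A : Type u) [CommRing A] [HopfAlgebra k A] (x : A) :
    ∃ B : Subalgebra k A, x ∈ B ∧ B.FG ∧ SGA3.IsHopfSubalgebra k A B := by
  classical
  obtain ⟨D, hDfin, hxD, hDcomul⟩ := Groth.Agent.S8220.result (k := k) (A := A) {x}
  have hx : x ∈ D := hxD (by simp)
  obtain ⟨t, ht⟩ : ∃ t : Finset A, Submodule.span k (t : Set A) = D := Module.Finite.iff_fg.mp hDfin
  set S := HopfAlgebra.antipodeAlgHom k A with hS
  have hSapp : ∀ a, S a = HopfAlgebraStruct.antipode k a := fun _ => rfl
  set B : Subalgebra k A := Algebra.adjoin k ((t : Set A) ∪ S '' (t : Set A)) with hB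
  have hDB : D ≤ Subalgebra.toSubmodule B := by
    rw [← ht, Submodule.span_le]
    intro a ha
    exact Algebra.subset_adjoin (Or.inl ha)
  have hSD : ∀ d ∈ D, S d ∈ B := by
    intro d hd
    rw [← ht] at hd
    refine Submodule.span_induction (p := fun d _ => S d ∈ B) ?_ ?_ ?_ ?_ hd
    · intro a ha
      exact Algebra.subset_adjoin (Or.inr ⟨a, ha, rfl⟩)
    · rw [map_zero]; exact B.zero_mem
    · intro a b _ _ ha hb
      rw [map_add]; exact B.add_mem ha hb
    · intro c a _ ha
      rw [map_smul]; exact B.smul_mem ha c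
  have hSB : ∀ b ∈ B, S b ∈ B := by
    have hle : B.map S ≤ B := by
      rw [hB, AlgHom.map_adjoin]
      apply Algebra.adjoin_le
      rintro _ ⟨a, ha | ⟨a', ha', rfl⟩, rfl⟩
      · exact Algebra.subset_adjoin (Or.inr ⟨a, ha, rfl⟩)
      · rw [hSapp, hSapp, antipode_antipode]
        exact Algebra.subset_adjoin (Or.inl ha')
    intro b hb
    exact hle ⟨b, hb, rfl⟩
  -- the range of `B ⊗ B → A ⊗ A` as a subalgebra
  set R : Subalgebra k (A ⊗[k] A) := (Algebra.TensorProduct.map B.val B.val).range with hR
  have hRmem : ∀ y, y ∈ R → y ∈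
      LinearMap.range (TensorProduct.map B.val.toLinearMap B.val.toLinearMap) := by
    rintro _ ⟨w, rfl⟩
    exact ⟨w, (map_eq B w).symm⟩
  -- `D ⊗ D` lands in `R`
  have hDD : ∀ w : D ⊗[k] D, TensorProduct.map D.subtype D.subtype w ∈ R := by
    intro w
    induction w using TensorProduct.induction_on with
    | zero => rw [map_zero]; exact R.zero_mem
    | tmul a b =>
      exact ⟨(⟨a.1, hDB a.2⟩ : B) ⊗ₜ[k] (⟨b.1, hDB b.2⟩ : B), rfl⟩
    | add x y hx hy => rw [map_add]; exact R.add_mem hx hy
  have hDD' : ∀ w : D ⊗[k] D, TensorProduct.map (HopfAlgebraStruct.antipode k)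
      (HopfAlgebraStruct.antipode k) (TensorProduct.comm k A A
        (TensorProduct.map D.subtype D.subtype w)) ∈ R := by
    intro w
    induction w using TensorProduct.induction_on with
    | zero => simp only [map_zero]; exact R.zero_mem
    | tmul a b =>
      exact ⟨(⟨S b.1, hSD _ b.2⟩ : B) ⊗ₜ[k] (⟨S a.1, hSD _ a.2⟩ : B), rfl⟩
    | add x y hx hy => simp only [map_add]; exact R.add_mem hx hy
  have hcomulB : B ≤ R.comap (Bialgebra.comulAlgHom k A) := by
    rw [hB]
    apply Algebra.adjoin_le
    rintro a (ha | ⟨a', ha', rfl⟩)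
    · have haD : a ∈ D := by rw [← ht]; exact Submodule.subset_span ha
      obtain ⟨w, hw⟩ := hDcomul a haD
      show CoalgebraStruct.comul (R := k) a ∈ R
      rw [← hw]
      exact hDD w
    · have haD : a' ∈ D := by rw [← ht]; exact Submodule.subset_span ha'
      obtain ⟨w, hw⟩ := hDcomul a' haD
      show CoalgebraStruct.comul (R := k) (HopfAlgebraStruct.antipode k a') ∈ R
      rw [Groth.Agent.H83.comul_antipode, ← hw]
      exact hDD' w
  refine ⟨B, hDB hx, ⟨t ∪ t.image S, by rw [hB, Finset.coe_union, Finset.coe_image]⟩, ?_, ?_⟩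
  · intro b hb
    exact hRmem _ (hcomulB hb)
  · intro b hb
    exact hSB b hb

end Groth.Agent.S5375
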