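import Groth.Statements.S5377
import Mathlib.RingTheory.RingHom.FaithfullyFlat
import Mathlib.RingTheory.Flat.EquationalCriterion
import Mathlib.RingTheory.Flat.FaithfullyFlat.Basic
import Mathlib.Algebra.Category.Ring.FilteredColimits
import Mathlib.CategoryTheory.Limits.ConcreteCategory.Basic

set_option autoImplicit false
universe u
open CategoryTheory CategoryTheory.Limits MonoidalCategory CartesianMonoidalCategory MonObj GrpObj AlgebraicGeometry
open SGA3

namespace Groth.Agent.S5377

section Alg

variable {R S : Type u} [CommRing R] [CommRing S]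

/-- A ring map which is a "filtered union" of faithfully flat ring maps is faithfully flat. -/
theorem ff_of_system (g : R →+* S) {T : Type u} (Rj Sj : T → Type u)
    [∀ j, CommRing (Rj j)] [∀ j, CommRing (Sj j)]
    (c : ∀ j, Rj j →+* R) (a : ∀ j, Sj j →+* S) (φ : ∀ j, Rj j →+* Sj j)
    (hφ : ∀ j, (φ j).FaithfullyFlat)
    (hcomm : ∀ j x, g (c j x) = a j (φ j x))
    (H1 : ∀ (n : ℕ) (r : Fin n → R) (s : Fin n → S),
      ∃ (j : T) (r' : Fin n → Rj j) (s' : Fin n → Sj j),
        (∀ i, c j (r' i) = r i) ∧ ∀ i, a j (s' i) = s i)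
    (H2 : ∀ (j : T) (s : Sj j), a j s = 0 →
      ∃ (k : T) (uR : Rj j →+* Rj k) (uS : Sj j →+* Sj k),
        (∀ x, c k (uR x) = c j x) ∧ (∀ x, a k (uS x) = a j x) ∧
          (∀ x, φ k (uR x) = uS (φ j x)) ∧ uS s = 0) :
    g.FaithfullyFlat := by
  letI := g.toAlgebra
  show Module.FaithfullyFlat R S
  have hsmul : ∀ (r : R) (s : S), r • s = g r * s := fun r s => by
    rw [Algebra.smul_def]; rfl
  rw [Module.FaithfullyFlat.iff_flat_and_proper_ideal]
  refine ⟨?_, ?_⟩
  · rw [Module.Flat.iff_forall_isTrivialRelation]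
    intro l f x hrel
    obtain ⟨j, f', x', hf', hx'⟩ := H1 l f x
    have h0 : a j (∑ i, φ j (f' i) * x' i) = 0 := by
      rw [map_sum, ← hrel]
      refine Finset.sum_congr rfl fun i _ => ?_
      rw [map_mul, ← hcomm, hf', hx', hsmul]
    obtain ⟨k, uR, uS, h1, h2, h3, h4⟩ := H2 j _ h0
    letI := (φ k).toAlgebra
    have hff : Module.FaithfullyFlat (Rj k) (Sj k) := hφ k
    have hsmulk : ∀ (r : Rj k) (s : Sj k), r • s = φ k r * s := fun r s => by
      rw [Algebra.smul_def]; rfl
    have hrelk : ∑ i, uR (f' i) • uS (x' i) = 0 := by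
      rw [← h4, map_sum]
      refine Finset.sum_congr rfl fun i _ => ?_
      rw [hsmulk, map_mul, h3]
    obtain ⟨K, a', y, hy1, hy2⟩ := Module.Flat.isTrivialRelation_of_sum_smul_eq_zero hrelk
    beta_reduce at hy1 hy2
    refine ⟨K, fun i m => c k (a' i m), fun m => a k (y m), ?_, ?_⟩
    · intro i
      beta_reduce
      rw [← hx' i, ← h2 (x' i), hy1 i, map_sum]
      refine Finset.sum_congr rfl fun m _ => ?_
      rw [hsmulk, map_mul, ← hcomm, hsmul]
    · intro m
      beta_reduce
      have h5 := congrArg (c k) (hy2 m)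
      rw [map_sum, map_zero] at h5
      rw [← h5]
      refine Finset.sum_congr rfl fun i _ => ?_
      rw [map_mul, h1, hf']
  · intro I hI htop
    have h1 : (1 : S) ∈ I • (⊤ : Submodule R S) := by rw [htop]; trivial
    rw [Ideal.smul_top_eq_map] at h1
    have h1' : (1 : S) ∈ Submodule.span S (algebraMap R S '' (I : Set R)) := h1
    rw [Submodule.mem_span_set'] at h1'
    obtain ⟨n, t, w, hw⟩ := h1'
    choose r hrI hrw using fun i => (w i).2
    obtain ⟨j, r', t', hr', ht'⟩ := H1 n r t
    have h0 : a j (∑ i, t' i * φ j (r' i) - 1) = 0 := by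
      rw [map_sub, map_one, map_sum, sub_eq_zero, ← hw]
      refine Finset.sum_congr rfl fun i _ => ?_
      have e0 : algebraMap R S (r i) = g (r i) := rfl
      rw [map_mul, ← hcomm, hr', ht', smul_eq_mul, ← hrw, e0]
    obtain ⟨k, uR, uS, e1, e2, e3, e4⟩ := H2 j _ h0
    letI := (φ k).toAlgebra
    have hff : Module.FaithfullyFlat (Rj k) (Sj k) := hφ k
    have hproper : (I.comap (c k)) ≠ ⊤ := by
      intro h
      apply hI
      rw [Ideal.eq_top_iff_one] at h ⊢
      have h6 : c k 1 ∈ I := h
      rwa [map_one] at h6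
    refine ((Module.FaithfullyFlat.iff_flat_and_proper_ideal (Rj k) (Sj k)).1 hff).2 _ hproper ?_
    rw [Ideal.smul_top_eq_map, Submodule.restrictScalars_eq_top_iff, Ideal.eq_top_iff_one]
    have e5 : (1 : Sj k) = ∑ i, uS (t' i) * φ k (uR (r' i)) := by
      rw [map_sub, map_one, map_sum, sub_eq_zero] at e4
      rw [← e4]
      refine Finset.sum_congr rfl fun i _ => ?_
      rw [map_mul, e3]
    rw [e5]
    refine Ideal.sum_mem _ fun i _ => Ideal.mul_mem_left _ _ (Ideal.mem_map_of_mem _ ?_)
    show c k (uR (r' i)) ∈ I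
    rw [e1, hr']
    exact hrI i

end Alg

section Cat

variable {J : Type u} [SmallCategory J] [IsFiltered J]

theorem ι_map_apply (D : J ⥤ CommRingCat.{u}) {j k : J} (f : j ⟶ k) (z : D.obj j) :
    (colimit.ι D k).hom ((D.map f).hom z) = (colimit.ι D j).hom z := by
  rw [← colimit.w D f]
  rfl

theorem exists_common (D : J ⥤ CommRingCat.{u}) (n : ℕ)
    (x : Fin n → (colimit D : CommRingCat.{u})) :
    ∃ (j : J) (x' : Fin n → D.obj j), ∀ i, (colimit.ι D j).hom (x' i) = x i := by
  have : PreservesColimitsOfShape J (forget CommRingCat.{u}) :=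
    PreservesFilteredColimitsOfSize.preserves_filtered_colimits J
  induction n with
  | zero => exact ⟨IsFiltered.nonempty.some, Fin.elim0, fun i => i.elim0⟩
  | succ n ih =>
    obtain ⟨j, x', hx'⟩ := ih (fun i => x i.succ)
    obtain ⟨j', y, hy⟩ := Concrete.colimit_exists_rep D (x 0)
    refine ⟨IsFiltered.max j j', Fin.cons ((D.map (IsFiltered.rightToMax j j')).hom y)
      (fun i => (D.map (IsFiltered.leftToMax j j')).hom (x' i)), ?_⟩
    intro i
    refine Fin.cases ?_ (fun i => ?_) i
    · rw [Fin.cons_zero, ι_map_apply]; exact hy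
    · rw [Fin.cons_succ, ι_map_apply]; exact hx' i

end Cat

/-- Let (C_i → A_i)_i be a filtered direct system of homomorphisms of commutative rings, each of which
is faithfully flat. Then the induced homomorphism colim C_i → colim A_i is faithfully flat. -/
theorem result (J : Type u) [SmallCategory J] [IsFiltered J]
    (C A : J ⥤ CommRingCat.{u}) (φ : C ⟶ A) (h : ∀ j : J, (φ.app j).hom.FaithfullyFlat) :
    (colimMap φ).hom.FaithfullyFlat := by
  have : PreservesColimitsOfShape J (forget CommRingCat.{u}) :=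
    PreservesFilteredColimitsOfSize.preserves_filtered_colimits J
  refine ff_of_system (colimMap φ).hom (fun j => C.obj j) (fun j => A.obj j)
    (fun j => (colimit.ι C j).hom) (fun j => (colimit.ι A j).hom) (fun j => (φ.app j).hom) h
    ?_ ?_ ?_
  · intro j x
    have h0 := congrArg (fun q => q.hom x) (ι_colimMap φ j)
    exact h0
  · intro n r s
    obtain ⟨j₁, r', hr'⟩ := exists_common C n r
    obtain ⟨j₂, s', hs'⟩ := exists_common A n s
    refine ⟨IsFiltered.max j₁ j₂, fun i => (C.map (IsFiltered.leftToMax j₁ j₂)).hom (r' i),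
      fun i => (A.map (IsFiltered.rightToMax j₁ j₂)).hom (s' i), fun i => ?_, fun i => ?_⟩
    · beta_reduce
      rw [ι_map_apply]; exact hr' i
    · beta_reduce
      rw [ι_map_apply]; exact hs' i
  · intro j s hs
    beta_reduce at hs
    obtain ⟨k, f, f', hff'⟩ := Concrete.colimit_exists_of_rep_eq A s (0 : A.obj j)
      (by rw [map_zero]; exact hs)
    refine ⟨k, (C.map f).hom, (A.map f).hom, fun x => ι_map_apply C f x,
      fun x => ι_map_apply A f x, fun x => ?_, ?_⟩
    · have h0 := congrArg (fun q => q.hom x) (φ.naturality f)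
      exact h0
    · rw [hff', map_zero]

end Groth.Agent.S5377
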