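import Groth.Statements.S5381
import Mathlib.RingTheory.Flat.TorsionFree
import Mathlib.AlgebraicGeometry.Morphisms.Flat

set_option autoImplicit false
universe u
open CategoryTheory CategoryTheory.Limits MonoidalCategory CartesianMonoidalCategory MonObj GrpObj AlgebraicGeometry
open SGA3

namespace Groth.Agent.S5381

/-- For S the spectrum of a Dedekind domain R: let X be a scheme which is flat, quasi-compact and
quasi-separated over R. Then the ring of global sections Γ(X, O_X) is a flat R-module. (The
published remark takes S locally noetherian and regular of dimension 1 and also observes, when S is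
local with closed point s and uniformizer π, that Γ(X, O_X)/πΓ(X, O_X) → Γ(X_s, O_{X_s}) is
injective; this row takes S the spectrum of a Dedekind domain and omits the injectivity.) -/
theorem result (R : Type u) [CommRing R] [IsDedekindDomain R]
    (X : Scheme.{u}) (f : X ⟶ Spec (CommRingCat.of R)) [Flat f] [QuasiCompact f] [QuasiSeparated f] :
    letI := ((Scheme.ΓSpecIso (CommRingCat.of R)).inv ≫ f.appTop).hom.toAlgebra
    Module.Flat R Γ(X, ⊤) := by
  letI alg := ((Scheme.ΓSpecIso (CommRingCat.of R)).inv ≫ f.appTop).hom.toAlgebra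
  rw [IsDedekindDomain.flat_iff_torsion_eq_bot, eq_bot_iff]
  rintro s ⟨⟨r, hr⟩, h⟩
  simp only [Submodule.mem_bot]
  have h' : ((Scheme.ΓSpecIso (CommRingCat.of R)).inv ≫ f.appTop).hom r * s = 0 := h
  apply TopCat.Sheaf.eq_of_locally_eq' X.sheaf (fun i : X.affineOpens => (i : X.Opens)) ⊤
    (fun i => homOfLE le_top) (by rw [iSup_affineOpens_eq_top])
  intro V
  set ρ : Γ(X, ⊤) ⟶ Γ(X, V.1) := X.presheaf.map (homOfLE (le_top : V.1 ≤ ⊤)).op with hρ
  change ρ.hom s = ρ.hom 0
  rw [map_zero]
  set ψ : R →+* Γ(X, V.1) := (f.appLE ⊤ V.1 le_top).hom.comp (Scheme.ΓSpecIso (CommRingCat.of R)).inv.hom with hψ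
  have hflat : ψ.Flat := by
    apply RingHom.Flat.comp
    · apply RingHom.Flat.of_bijective
      exact ConcreteCategory.bijective_of_isIso (Scheme.ΓSpecIso (CommRingCat.of R)).inv
    · exact Flat.flat_appLE f (isAffineOpen_top _) V.2 le_top
  letI := ψ.toAlgebra
  have hflat' : Module.Flat R Γ(X, V.1) := hflat
  have hreg : IsSMulRegular Γ(X, V.1) r := Module.Flat.isSMulRegular_of_nonZeroDivisors hr
  apply hreg
  change r • ρ.hom s = r • (0 : Γ(X, V.1))
  rw [smul_zero]
  change ψ r * ρ.hom s = 0
  have h2 : ψ r = ρ.hom (((Scheme.ΓSpecIso (CommRingCat.of R)).inv ≫ f.appTop).hom r) := rfl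
  rw [h2, ← map_mul, h', map_zero]

end Groth.Agent.S5381
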