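import Groth.Statements.S5384
import Mathlib
import Groth.Agent.H37.GrpObjGrpd
import Groth.Agent.H37.PointBase
open Groth.Agent.H37.GrpObjGrpd

set_option autoImplicit false
universe u
open CategoryTheory CategoryTheory.Limits MonoidalCategory CartesianMonoidalCategory MonObj GrpObj AlgebraicGeometry
open SGA3

namespace Groth.Agent.S5384

/-- Let A be a local artinian ring, G an A-group scheme and u : H → G a homomorphism of A-group schemes
which is an immersion (a subgroup scheme; no finiteness is assumed). Then u is a closed immersion. -/
theorem result (A : Type u) [CommRing A] [IsArtinianRing A] [IsLocalRing A] (G H : Over (Spec (CommRingCat.of A))) [GrpObj G] [GrpObj H]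
    (u : H ⟶ G) [IsMonHom u] [IsImmersion u.left] : IsClosedImmersion u.left := by
  haveI : IsIso (homOfMonHom u).fU := by
    show IsIso (𝟙 _); infer_instance
  have hlc : IsLocallyClosed (Set.range ⇑u.left) := IsImmersion.isLocallyClosed_range
  have hcl : IsClosed (Set.range ⇑u.left) :=
    Groth.Agent.H37.GrpdCalc.isClosed_range_of_isLocallyClosed (G₁ := ofGrpObj H) (G₂ := ofGrpObj G)
      (fun f => Groth.Agent.H37.GrpdCalc.univOpen_of_artinian_local A f) (homOfMonHom u) hlc
  exact IsClosedImmersion.of_isPreimmersion u.left hcl

end Groth.Agent.S5384
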