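import Groth.Statements.S5388
import Groth.Agent.H63.GrpReduced
import Groth.Agent.H63.StalkBaseChange
import Groth.Agent.S2535
import Groth.Agent.H38.GeomRedField
import Mathlib.AlgebraicGeometry.Group.Smooth

set_option autoImplicit false
universe u
open CategoryTheory CategoryTheory.Limits MonoidalCategory CartesianMonoidalCategory MonObj GrpObj AlgebraicGeometry
open SGA3

namespace Groth.Agent.S5388

/-- Let G be a group scheme locally of finite type over a field k, e its unit point and K a perfect
extension field of k. If K ⊗_k O_{G,e} is a reduced ring, then G is smooth over k. (The published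
statement is for a group flat and locally of finite type over a local artinian ring, with K the
perfect closure of the residue field; this row is the case of a base field, with K any perfect
extension.) -/
theorem result (k : Type u) [Field k] (G : Over (Spec (CommRingCat.of k))) [GrpObj G]
    [LocallyOfFiniteType G.hom] (pt : ↥(𝟙_ (Over (Spec (CommRingCat.of k)))).left) (K : Type u) [Field K] [Algebra k K] [PerfectField K] :
    letI := ((Scheme.ΓSpecIso (CommRingCat.of k)).inv ≫ G.hom.appTop ≫ G.left.presheaf.germ ⊤ (η[G].left.base pt) trivial).hom.toAlgebra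
    IsReduced (TensorProduct k K (G.left.presheaf.stalk (η[G].left.base pt))) → Smooth G.hom := by
  intro hred
  let Ω : Type u := AlgebraicClosure K
  let g : Spec (CommRingCat.of Ω) ⟶ Spec (CommRingCat.of k) :=
    Spec.map (CommRingCat.ofHom (algebraMap k Ω))
  haveI : LocallyOfFiniteType (Red.bc g G).hom :=
    inferInstanceAs (LocallyOfFiniteType (Limits.pullback.snd G.hom g))
  let t' : ↥((𝟙_ (Over (Spec (CommRingCat.of Ω)))).left) := IsLocalRing.closedPoint Ω
  -- the unit point of the base change lies over the unit point
  have hcomp : (η[Red.bc g G]).left ≫ Limits.pullback.fst G.hom g =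
      ((Functor.LaxMonoidal.ε (Over.pullback g)).left ≫ Limits.pullback.fst _ _) ≫ (η[G]).left := by
    have h1 : η[Red.bc g G] =
        Functor.LaxMonoidal.ε (Over.pullback g) ≫ (Over.pullback g).map η[G] := rfl
    rw [h1, Over.comp_left, Category.assoc, Category.assoc]
    congr 1
    simp [Over.pullback]
    exact Limits.pullback.lift_fst _ _ _
  have hπ : (Limits.pullback.fst G.hom g).base ((η[Red.bc g G]).left.base t') =
      (η[G]).left.base pt := by
    have h2 := congrArg (fun φ => φ.base t') hcomp
    simp only [Scheme.Hom.comp_base, TopCat.hom_comp, ContinuousMap.comp_apply] at h2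
    rw [h2]
    congr 1
    exact @Subsingleton.elim (PrimeSpectrum k) inferInstance _ _
  letI algk := Groth.Agent.H63.StalkBaseChange.stalkAlgebra G.hom ((η[G]).left.base pt)
  obtain ⟨Q, hQ, -, ⟨e⟩⟩ := Groth.Agent.H63.StalkBaseChange.exists_prime_ringEquiv_stalk (K := Ω)
    G.hom (Limits.pullback.fst G.hom g) (Limits.pullback.snd G.hom g)
    (IsPullback.of_hasPullback G.hom g) ((η[Red.bc g G]).left.base t') ((η[G]).left.base pt) hπ
  -- `Ω ⊗ O_{G,e}` is reduced
  haveI hredK : IsReduced (TensorProduct k K (G.left.presheaf.stalk ((η[G]).left.base pt))) := hred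
  haveI h1 : IsReduced (TensorProduct K Ω
      (TensorProduct k K (G.left.presheaf.stalk ((η[G]).left.base pt)))) :=
    Groth.Agent.H38.GeomRedField.forall_isReduced_tensor_of_perfectField (k := K)
      (S := TensorProduct k K (G.left.presheaf.stalk ((η[G]).left.base pt))) Ω
  haveI h2 : IsReduced (TensorProduct k Ω (G.left.presheaf.stalk ((η[G]).left.base pt))) :=
    isReduced_of_injective
      (Algebra.TensorProduct.cancelBaseChange k K Ω Ω
        (G.left.presheaf.stalk ((η[G]).left.base pt))).symm.toRingEquiv.toRingHom
      (Algebra.TensorProduct.cancelBaseChange k K Ω Ω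
        (G.left.presheaf.stalk ((η[G]).left.base pt))).symm.injective
  haveI h3 : IsReduced (Localization.AtPrime Q) :=
    isReduced_localizationPreserves Q.primeCompl (Localization.AtPrime Q) h2
  have h4 : IsReduced ((Red.bc g G).left.presheaf.stalk ((η[Red.bc g G]).left.base t')) :=
    isReduced_of_injective e.symm.toRingHom e.symm.injective
  have hredG := Groth.Agent.H63.GrpReduced.isReduced_of_isReduced_stalk_unit (Red.bc g G) t' h4
  haveI : AlgebraicGeometry.IsReduced (FBase.bc G.hom Ω) := hredG
  haveI : GeometricallyReduced G.hom := Groth.Agent.S2535.result (Ω := Ω) G.hom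
  haveI : GrpObj (Over.mk G.hom) := inferInstanceAs (GrpObj G)
  exact smooth_of_grpObj G.hom

end Groth.Agent.S5388
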