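import Groth.Statements.S5389
import Groth.Agent.H40.MaxOpen2

set_option autoImplicit false
universe u
open CategoryTheory CategoryTheory.Limits MonoidalCategory CartesianMonoidalCategory MonObj GrpObj AlgebraicGeometry
open SGA3

namespace Groth.Agent.S5389

/-- Let P be a property of morphisms of schemes which is local on the target for the fpqc topology
(stable under base change, Zariski-local on the target, and descending along flat surjective
quasi-compact morphisms). Let u : G → H be a homomorphism of S-group schemes with G flat and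
universally open over S, W the largest open subscheme of H over which the restriction of u has P,
and V = u⁻¹(W). Then the image U of V in S is open and V is an open subgroup scheme of G over U: V
contains the unit point of every fibre of G that it meets, V is stable under the inversion of G, and
the product of a point of G ×_S G whose two projections lie in V lies in V. -/
theorem result (P : MorphismProperty Scheme.{u}) [P.IsStableUnderBaseChange] [IsZariskiLocalAtTarget P]
    [P.DescendsAlong (@Flat ⊓ @Surjective ⊓ @QuasiCompact)]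
    (S : Scheme.{u}) (G H : Over S) [GrpObj G] [GrpObj H] (u : G ⟶ H) [IsMonHom u] [Flat G.hom] [UniversallyOpen G.hom]
    (W : H.left.Opens) (hW : P (u.left ∣_ W)) (hmax : ∀ W' : H.left.Opens, P (u.left ∣_ W') → W' ≤ W) :
    letI V : G.left.Opens := u.left ⁻¹ᵁ W
    IsOpen (G.hom.base '' (V : Set G.left)) ∧
    (∀ g ∈ V, ∀ p : ↥(𝟙_ (Over S)).left, (𝟙_ (Over S)).hom.base p = G.hom.base g → η[G].left.base p ∈ V) ∧
    (∀ g ∈ V, ι[G].left.base g ∈ V) ∧
    (∀ z : ↥(G ⊗ G).left, (fst G G).left.base z ∈ V → (snd G G).left.base z ∈ V → μ[G].left.base z ∈ V) := by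
  open Groth.Agent.H40.MaxOpen in
  have pt : ∀ {A B C : Over S} (a : A ⟶ B) (b : B ⟶ C) (c : A ⟶ C) (_ : a ≫ b = c) (z : A.left),
      b.left.base (a.left.base z) = c.left.base z := by
    intro A B C a b c h z
    subst h
    rfl
  -- the three squares, on schemes
  have SQ0 : IsPullback (snd G G).left (G ◁ u).left u.left (snd G H).left :=
    (sq_snd u).map (Over.forget S)
  have SQ1 : IsPullback μ[G].left (G ◁ u).left u.left ((u ▷ H) ≫ μ[H]).left :=
    (sq_mul u).map (Over.forget S)
  have SQ2 : IsPullback (fst G H).left ((u ▷ H) ≫ μ[H]).left (toUnit G).left (toUnit H).left :=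
    (sq_prod u).map (Over.forget S)
  have hflat_pr : Flat (snd G H).left := by
    rw [Over.snd_left]
    infer_instance
  have hopen_pr : IsOpenMap (snd G H).left.base := by
    have : UniversallyOpen (snd G H).left := by
      rw [Over.snd_left]
      infer_instance
    exact (snd G H).left.isOpenMap
  have hflat_m : Flat ((u ▷ H) ≫ μ[H]).left :=
    MorphismProperty.of_isPullback (P := @Flat) SQ2 (inferInstance : Flat G.hom)
  have hopen_m : IsOpenMap ((u ▷ H) ≫ μ[H]).left.base := by
    have : UniversallyOpen ((u ▷ H) ≫ μ[H]).left :=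
      MorphismProperty.of_isPullback (P := @UniversallyOpen) SQ2 (inferInstance : UniversallyOpen G.hom)
    exact ((u ▷ H) ≫ μ[H]).left.isOpenMap
  have KL1 : ∀ ζ : (G ⊗ H).left, (snd G H).left.base ζ ∈ W → ((u ▷ H) ≫ μ[H]).left.base ζ ∈ W :=
    fun ζ hζ => mem_of_mem SQ0 SQ1 hopen_m W hW hmax ζ hζ
  have KL2 : ∀ ζ : (G ⊗ H).left, ((u ▷ H) ≫ μ[H]).left.base ζ ∈ W → (snd G H).left.base ζ ∈ W :=
    fun ζ hζ => mem_of_mem SQ1 SQ0 hopen_pr W hW hmax ζ hζ
  -- the unit point
  have hE : ∀ g : G.left, u.left.base g ∈ W → η[H].left.base (G.hom.base g) ∈ W := by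
    intro g hg
    have e1 : lift ι[G] u ≫ snd G H = u := lift_snd _ _
    have e2 : lift ι[G] u ≫ (u ▷ H) ≫ μ[H] = toUnit G ≫ η[H] := by
      rw [lift_whiskerRight_assoc, ← Hom.mul_def]
      have : ι[G] = (𝟙 G)⁻¹ := by rw [Hom.inv_def, Category.id_comp]
      rw [this, GrpObj.inv_comp, Category.id_comp, inv_mul_cancel]
      rfl
    have h1 := KL1 ((lift ι[G] u).left.base g) (by rw [pt _ _ _ e1]; exact hg)
    rw [pt _ _ _ e2] at h1
    exact h1
  refine ⟨G.hom.isOpenMap _ (u.left ⁻¹ᵁ W).2, ?_, ?_, ?_⟩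
  · intro g hg p hp
    have hp' : p = G.hom.base g := hp
    have e : η[G] ≫ u = η[H] := IsMonHom.one_hom u
    change u.left.base (η[G].left.base p) ∈ W
    rw [pt _ _ _ e, hp']
    exact hE g hg
  · intro g hg
    have e1 : lift (𝟙 G) (ι[G] ≫ u) ≫ snd G H = ι[G] ≫ u := lift_snd _ _
    have e2 : lift (𝟙 G) (ι[G] ≫ u) ≫ (u ▷ H) ≫ μ[H] = toUnit G ≫ η[H] := by
      rw [lift_whiskerRight_assoc, ← Hom.mul_def]
      have : ι[G] = (𝟙 G)⁻¹ := by rw [Hom.inv_def, Category.id_comp]
      rw [this, GrpObj.inv_comp, Category.id_comp, mul_inv_cancel]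
      rfl
    have h1 := KL2 ((lift (𝟙 G) (ι[G] ≫ u)).left.base g) (by rw [pt _ _ _ e2]; exact hE g hg)
    rw [pt _ _ _ e1] at h1
    exact h1
  · intro z _ hz
    have e1 : (G ◁ u) ≫ snd G H = snd G G ≫ u := whiskerLeft_snd _ _
    have e2 : (G ◁ u) ≫ (u ▷ H) ≫ μ[H] = μ[G] ≫ u := (sq_mul u).w.symm
    have h1 := KL1 ((G ◁ u).left.base z) (by rw [pt _ _ _ e1]; exact hz)
    rw [pt _ _ _ e2] at h1
    exact h1

end Groth.Agent.S5389
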