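import Groth.Statements.S5390
import Groth.Agent.H40.MaxOpen

set_option autoImplicit false
universe u
open CategoryTheory CategoryTheory.Limits MonoidalCategory CartesianMonoidalCategory MonObj GrpObj AlgebraicGeometry
open SGA3

namespace Groth.Agent.S5390

/-- Let P be a property of morphisms of schemes which is local on the target for the fpqc topology
(stable under base change, Zariski-local on the target, descending along flat surjective
quasi-compact morphisms). Let f : X → Y be a morphism, g : Y' → Y a flat morphism whose underlying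
map is open, and f' : X ×_Y Y' → Y' the base change. If W is the largest open of Y over which f has
P and W₁' the largest open of Y' over which f' has P, then W₁' = g⁻¹(W). -/
theorem result (P : MorphismProperty Scheme.{u}) [P.IsStableUnderBaseChange] [IsZariskiLocalAtTarget P]
    [P.DescendsAlong (@Flat ⊓ @Surjective ⊓ @QuasiCompact)]
    (X Y Y' : Scheme.{u}) (f : X ⟶ Y) (g : Y' ⟶ Y) [Flat g] (hg : IsOpenMap g.base)
    (W : Y.Opens) (hW : P (f ∣_ W)) (hmax : ∀ W₀ : Y.Opens, P (f ∣_ W₀) → W₀ ≤ W)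
    (W₁ : Y'.Opens) (hW₁ : P (pullback.snd f g ∣_ W₁)) (hmax₁ : ∀ W₀ : Y'.Opens, P (pullback.snd f g ∣_ W₀) → W₀ ≤ W₁) :
    W₁ = g ⁻¹ᵁ W := by
  open Groth.Agent.H40.MaxOpen in
  apply le_antisymm
  · have hc : IsOpenMap (W₁.ι ≫ g).base := by
      rw [Scheme.Hom.comp_base]
      exact hg.comp W₁.ι.isOpenEmbedding.isOpenMap
    have h1 : P (pullback.snd f (W₁.ι ≫ g)) :=
      (bc_comp_iff (IsPullback.of_hasPullback f g) W₁.ι).mp
        ((restrict_iff (pullback.snd f g) W₁).mp hW₁)
    have h2 : P (f ∣_ (⟨g.base '' (W₁ : Set Y'), hg _ W₁.2⟩ : Y.Opens)) := by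
      refine restrict_of_flat_open (W₁.ι ≫ g) hc h1 _ ?_
      rintro _ ⟨y, hy, rfl⟩
      exact ⟨⟨y, hy⟩, rfl⟩
    have h3 := hmax _ h2
    intro y hy
    exact h3 ⟨y, hy, rfl⟩
  · apply hmax₁
    rw [restrict_iff (P := P), bc_comp_iff (P := P) (IsPullback.of_hasPullback f g), ← morphismRestrict_ι]
    exact bc_comp ((restrict_iff f W).mp hW) (g ∣_ W)

end Groth.Agent.S5390
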