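import Groth.Statements.S5394
import Groth.Agent.S7823
import Groth.Agent.H78.GrpFibre
import Groth.Agent.H40.InvImg
import Groth.Agent.H40.IsogFactor
import Groth.Agent.H40.MaxOpen3
import Groth.Agent.H49.SmoothFibreMap

set_option autoImplicit false
universe u
open CategoryTheory CategoryTheory.Limits MonoidalCategory CartesianMonoidalCategory MonObj GrpObj AlgebraicGeometry
open SGA3

namespace Groth.Agent.S5394

section helpers
variable {S : Scheme.{u}}

theorem exists_preimage_of_isPullback {P X Y Z : Scheme.{u}} {p₁ : P ⟶ X} {p₂ : P ⟶ Y}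
    {f : X ⟶ Z} {g : Y ⟶ Z} (h : IsPullback p₁ p₂ f g) (x : X) (y : Y)
    (hxy : f.base x = g.base y) : ∃ p : P, p₁.base p = x ∧ p₂.base p = y := by
  obtain ⟨z, hz1, hz2⟩ := Scheme.Pullback.exists_preimage_pullback (f := f) (g := g) x y hxy
  refine ⟨h.isoPullback.inv.base z, ?_, ?_⟩
  · exact (congrArg (fun m => m.base z) h.isoPullback_inv_fst).trans hz1
  · exact (congrArg (fun m => m.base z) h.isoPullback_inv_snd).trans hz2

theorem exists_preimage_tensorHom {A B A' B' : Over S} (a : A ⟶ B) (a' : A' ⟶ B')
    (z : (B ⊗ B').left) (x : A.left) (x' : A'.left)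
    (hx : a.left.base x = (fst B B').left.base z)
    (hx' : a'.left.base x' = (snd B B').left.base z) :
    ∃ w : (A ⊗ A').left, (a ⊗ₘ a').left.base w = z := by
  have h1 : IsPullback (fst A B').left (a ▷ B').left a.left (fst B B').left :=
    (Groth.Agent.H40.IsogFactor.sq_fst' (G := B') a).map (Over.forget S)
  have h2 : IsPullback (snd A A').left (A ◁ a').left a'.left (snd A B').left :=
    (Groth.Agent.H40.MaxOpen.sq_snd' (G := A) a').map (Over.forget S)
  obtain ⟨w₁, -, hw₁⟩ := exists_preimage_of_isPullback h1 x z hx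
  have hx'' : a'.left.base x' = (snd A B').left.base w₁ := by
    rw [hx', ← hw₁]
    exact congrArg (fun m : A ⊗ B' ⟶ B' => m.left.base w₁) (whiskerRight_snd a B')
  obtain ⟨w, -, hw⟩ := exists_preimage_of_isPullback h2 x' w₁ hx''
  refine ⟨w, ?_⟩
  rw [tensorHom_def', Over.comp_left]
  change (a ▷ B').left.base ((A ◁ a').left.base w) = z
  rw [hw, hw₁]

theorem flat_restrict {X Y : Scheme.{u}} (f : X ⟶ Y) (V : X.Opens)
    (hV : ∀ x ∈ V, (f.stalkMap x).hom.Flat) : Flat (V.ι ≫ f) := by
  rw [Flat.iff_flat_stalkMap]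
  intro x
  rw [Scheme.Hom.stalkMap_comp]
  exact RingHom.Flat.comp (hV _ x.2) ((Flat.iff_flat_stalkMap (f := V.ι)).1 inferInstance x)

end helpers

/-- Let G be an S-group scheme which is flat and locally of finite presentation over S and f : X → G a
morphism of S-schemes with X locally of finite presentation over S. Suppose that for every point s
of S and every maximal point g of the fibre G_s (generic point of an irreducible component) there is
a point x of X with f(x) = g at which f is flat. Let V be the open subscheme of X where f is flat.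
Then the morphism V ×_S V → G, (x, y) ↦ f(x)·f(y), is flat, locally of finite presentation and
surjective; in particular X ×_S X → G, (x, y) ↦ f(x)·f(y), is covering for the fppf topology. (The
published statement does not assume G flat over S and asserts only the covering property; this row
assumes G flat over S, as the flatness step of the printed proof does, and concludes the flat,
locally finitely presented, surjective form that proof establishes. Without flatness of G the
flatness conclusion fails, e.g. for the identity of the closed subgroup tx = 0 of the additive group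
over k[t].) -/
theorem result (S : Scheme.{u}) (G X : Over S) [GrpObj G] [LocallyOfFinitePresentation G.hom] [Flat G.hom]
    [LocallyOfFinitePresentation X.hom] (f : X ⟶ G)
    (hf : ∀ (s : S) (g : ↥(G.hom.base ⁻¹' {s})), closure {g} ∈ irreducibleComponents ↥(G.hom.base ⁻¹' {s}) →
      ∃ x : X.left, f.left.base x = g.1 ∧ (f.left.stalkMap x).hom.Flat)
    (V : X.left.Opens) (hV : (V : Set X.left) = {x : X.left | (f.left.stalkMap x).hom.Flat}) :
    letI fV : Over.mk (V.ι ≫ X.hom) ⟶ G := Over.homMk (V.ι ≫ f.left) ((Category.assoc _ _ _).trans (congrArg (V.ι ≫ ·) (Over.w f)))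
    Flat ((fV ⊗ₘ fV) ≫ μ[G]).left ∧ LocallyOfFinitePresentation ((fV ⊗ₘ fV) ≫ μ[G]).left ∧
      Surjective ((fV ⊗ₘ fV) ≫ μ[G]).left := by
  set fV : Over.mk (V.ι ≫ X.hom) ⟶ G := Over.homMk (V.ι ≫ f.left)
    ((Category.assoc _ _ _).trans (congrArg (V.ι ≫ ·) (Over.w f))) with hfV
  have hVι : ∀ x ∈ V, (f.left.stalkMap x).hom.Flat := fun x hx => by
    have : x ∈ (V : Set X.left) := hx
    rw [hV] at this
    exact this
  haveI hflat : Flat fV.left := flat_restrict f.left V hVι
  haveI hlfp0 : LocallyOfFinitePresentation f.left :=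
    Groth.Agent.H49.SmoothFibreMap.lfp_of_comp_of_lft f.left G.hom
      (by rw [Over.w f]; infer_instance) inferInstance
  haveI hlfp : LocallyOfFinitePresentation fV.left :=
    (inferInstance : LocallyOfFinitePresentation (V.ι ≫ f.left))
  have hVVflat : Flat (Over.mk (V.ι ≫ X.hom)).hom := by
    have : (Over.mk (V.ι ≫ X.hom)).hom = fV.left ≫ G.hom := (Over.w fV).symm
    rw [this]; infer_instance
  have hVVlfp : LocallyOfFinitePresentation (Over.mk (V.ι ≫ X.hom)).hom :=
    (inferInstance : LocallyOfFinitePresentation (V.ι ≫ X.hom))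
  have heq : (fV ⊗ₘ fV) ≫ μ[G] = (Over.mk (V.ι ≫ X.hom) ◁ fV) ≫ (fV ▷ G) ≫ μ[G] := by
    rw [tensorHom_def', Category.assoc]
  refine ⟨?_, ?_, ?_⟩
  · rw [heq]; exact Groth.Agent.H40.InvImg.prop_mul @Flat fV fV hVVflat hflat
  · rw [heq]
    exact Groth.Agent.H40.InvImg.prop_mul @LocallyOfFinitePresentation fV fV hVVlfp hlfp
  · constructor
    intro g
    have hopen : IsOpen (Set.range fV.left.base) := fV.left.isOpenMap.isOpen_range
    let U : G.left.Opens := ⟨Set.range fV.left.base, hopen⟩
    obtain ⟨s, hs⟩ : ∃ s, s = G.hom.base g := ⟨_, rfl⟩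
    let Gs := Groth.Agent.H78.GrpFibre.fib G s
    let p := Groth.Agent.H78.GrpFibre.π G s
    let Us : Gs.left.Opens := p ⁻¹ᵁ U
    have hdense : Dense (Us : Set Gs.left) := by
      rw [dense_iff_inter_open]
      rintro O hO ⟨z, hz⟩
      have hirr : IsIrreducible (irreducibleComponent z) := isIrreducible_irreducibleComponent
      have hcl : IsClosed (irreducibleComponent z) := isClosed_irreducibleComponent
      obtain ⟨ξ, hξ⟩ := QuasiSober.sober hirr hcl
      have hzξ : z ∈ closure {ξ} := by rw [hξ.def]; exact mem_irreducibleComponent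
      have hξO : ξ ∈ O := by
        obtain ⟨y, hy1, hy2⟩ := mem_closure_iff.1 hzξ O hO hz
        rw [Set.mem_singleton_iff] at hy2
        rw [← hy2]; exact hy1
      refine ⟨ξ, hξO, ?_⟩
      obtain ⟨Ψ, hΨ⟩ : ∃ Ψ : ↥Gs.left ≃ₜ ↥(⇑G.hom.base ⁻¹' {s}), ∀ z, (Ψ z : G.left) = p.base z :=
        ⟨(Groth.Agent.H78.GrpFibre.isEmbedding_π G s).toHomeomorph.trans
          (Homeomorph.setCongr (Groth.Agent.H78.GrpFibre.range_π G s)), fun z => rfl⟩
      have hcomp : closure {Ψ ξ} ∈ irreducibleComponents ↥(G.hom.base ⁻¹' {s}) := by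
        have h1 : closure {Ψ ξ} = Ψ '' (irreducibleComponent z) := by
          rw [← hξ.def, Ψ.image_closure, Set.image_singleton]
        rw [h1]
        exact image_mem_irreducibleComponents_of_isPreirreducible_fiber Ψ Ψ.continuous Ψ.isOpenMap
          (fun x => (Set.subsingleton_singleton.preimage Ψ.injective).isPreirreducible) Ψ.surjective
          (irreducibleComponent_mem_irreducibleComponents z)
      obtain ⟨x, hx1, hx2⟩ := hf s (Ψ ξ) hcomp
      have hxV : x ∈ V := by
        have : x ∈ (V : Set X.left) := by rw [hV]; exact hx2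
        exact this
      show p.base ξ ∈ Set.range fV.left.base
      refine ⟨⟨x, hxV⟩, ?_⟩
      rw [← hΨ ξ, ← hx1]
      rfl
    haveI : LocallyOfFiniteType Gs.hom := by
      change LocallyOfFiniteType (pullback.snd G.hom (S.fromSpecResidueField s))
      infer_instance
    have hmul := Groth.Agent.S7823.result (S.residueField s) Gs Us Us hdense hdense
    obtain ⟨g₀, hg₀⟩ : ∃ g₀, p.base g₀ = g := by
      have : g ∈ Set.range p.base := by
        rw [Groth.Agent.H78.GrpFibre.range_π]; exact hs.symm
      exact this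
    have hmem : g₀ ∈ Set.univ := trivial
    rw [← hmul] at hmem
    obtain ⟨z, ⟨hz1, hz2⟩, hz3⟩ := hmem
    obtain ⟨z', h1, h2, h3⟩ := Groth.Agent.H78.GrpFibre.mul_compat G s z
    obtain ⟨x₁, hx₁⟩ : (fst G G).left.base z' ∈ Set.range fV.left.base := by
      rw [h1]; exact hz1
    obtain ⟨x₂, hx₂⟩ : (snd G G).left.base z' ∈ Set.range fV.left.base := by
      rw [h2]; exact hz2
    obtain ⟨w, hw⟩ := exists_preimage_tensorHom fV fV z' x₁ x₂ hx₁ hx₂
    refine ⟨w, ?_⟩
    rw [Over.comp_left]
    change μ[G].left.base ((fV ⊗ₘ fV).left.base w) = g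
    rw [hw, h3, hz3, hg₀]

end Groth.Agent.S5394
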