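import Groth.Statements.S5421
import Groth.Agent.H43.TQ5Char

set_option autoImplicit false
universe u
open CategoryTheory MonoidalCategory CartesianMonoidalCategory MonObj GrpObj AlgebraicGeometry CategoryTheory.Limits
open Red

namespace Groth.Agent.S5421
open Groth.Agent.H43.TQ Groth.Agent.H43.TQ2 Groth.Agent.H43.MT Groth.Agent.H43.MS

theorem isMultTypeFT_of_isTorus {S : Scheme.{u}} {T : Over S} [GrpObj T] (hT : Red.IsTorus T) :
    SGA3x.IsMultTypeFT T := by
  obtain ⟨S', f, hfl, hsu, hcov, hch⟩ := hT
  refine ⟨S', f, hfl, hsu, hcov, ?_⟩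
  intro s'
  obtain ⟨U, hU, r, hr⟩ := hch s'
  exact ⟨U, hU, Fin r → ℤ, inferInstance, fg_fin r, hr⟩

theorem geom_iff {S : Scheme.{u}} {T B : Over S} [GrpObj B] (α : T ⟶ B) (s : S) :
    (Over.pullback (Red.geomPt s)).map α = 1 ↔
      (Over.pullback (S.fromSpecResidueField s)).map α = 1 := by
  obtain ⟨a, hfl, hsu, hqc, hg⟩ : ∃ a : Spec (CommRingCat.of (AlgebraicClosure (S.residueField s))) ⟶
      Spec (S.residueField s), Flat a ∧ Surjective a ∧ QuasiCompact a ∧
        a ≫ S.fromSpecResidueField s = Red.geomPt s := by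
    obtain ⟨hfl, hsu, hqc⟩ := field_map_props (K := S.residueField s)
      (L := CommRingCat.of (AlgebraicClosure (S.residueField s))) (Field.toIsField _)
      (Field.toIsField _) (CommRingCat.ofHom
        (algebraMap (S.residueField s) (AlgebraicClosure (S.residueField s))))
    exact ⟨_, hfl, hsu, hqc, rfl⟩
  constructor
  · intro h
    have h1 := (bc_bc_eq_one_iff (S.fromSpecResidueField s) a (Red.geomPt s) hg α).2 h
    apply (Over.pullback a).map_injective
    rw [h1, bc_map_one]
  · intro h
    exact bc_comp_eq_one (S.fromSpecResidueField s) a (Red.geomPt s) hg α h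

theorem char_fibre {S : Scheme.{u}} {T : Over S} [GrpObj T] (hT : Red.IsTorus T)
    (α : T ⟶ Red.Gm S) [IsMonHom α] (s : S) :
    ((Flat ((Over.pullback (S.fromSpecResidueField s)).map α).left ∧
      Surjective ((Over.pullback (S.fromSpecResidueField s)).map α).left) ↔
      (Over.pullback (S.fromSpecResidueField s)).map α ≠ 1) := by
  obtain ⟨S', f, hfl, hsu, -, hch⟩ := hT
  obtain ⟨s', hs'⟩ := f.surjective s
  obtain ⟨U, hsU, r, ⟨e⟩⟩ := hch s'
  exact char_fibre_aux (U.ι ≫ f) r e ⟨s', hsU⟩ s hs' α


/-- Let T be an S-torus and α : T → G_{m,S} a character. The following are equivalent: (i) for every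
point s of S the character induced on the geometric fibre at s is not the trivial character; (ii)
for every morphism S' → S with S' non-empty the base change of α is not the trivial character; (iii)
α is faithfully flat (flat and surjective). -/
theorem result (S : Scheme.{u}) (T : Over S) [GrpObj T] (hT : Red.IsTorus T) (α : T ⟶ Red.Gm S) [IsMonHom α] :
    ((∀ s : S, (Over.pullback (Red.geomPt s)).map α ≠ 1) ↔
      (∀ (S' : Scheme.{u}) (g : S' ⟶ S), Nonempty ↥S' → (Over.pullback g).map α ≠ 1)) ∧
    ((∀ s : S, (Over.pullback (Red.geomPt s)).map α ≠ 1) ↔ (Flat α.left ∧ Surjective α.left)) := by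
  have hTm : SGA3x.IsMultTypeFT T := isMultTypeFT_of_isTorus hT
  refine ⟨⟨?_, ?_⟩, ⟨?_, ?_⟩⟩
  · intro h S' g hne hg
    obtain ⟨s'⟩ := hne
    refine h (g.base s') ((geom_iff α _).2 ?_)
    exact fibre_one_of_bc g s' (g.base s') rfl α (by rw [hg, bc_map_one])
  · intro h s
    exact h _ (Red.geomPt s) inferInstance
  · intro h
    have hs : ∀ s : S, (Flat ((Over.pullback (S.fromSpecResidueField s)).map α).left ∧
        Surjective ((Over.pullback (S.fromSpecResidueField s)).map α).left) :=
      fun s => (char_fibre hT α s).2 (fun h1 => h s ((geom_iff α s).2 h1))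
    obtain ⟨U, -, hUiff, hU⟩ := locus (@Flat ⊓ @Surjective : MorphismProperty Scheme.{u})
      (fun {N M} _ _ φ => Function.Injective φ)
      (fun X {N M} _ _ φ h => Groth.Agent.H58.DSmapFF.DSmap_flat_surjective X φ h)
      (fun X _ {N M} _ _ φ h => Groth.Agent.H1.HomDiag.injective_of_flat_surjective X φ h)
      T (Red.Gm S) hTm (isMultTypeFT_DS S ℤ fg_int) α
    have hUtop : U = ⊤ := by
      ext x
      simp only [TopologicalSpace.Opens.coe_top, Set.mem_univ, iff_true]
      exact (hUiff x).2 (hs x)
    rw [hUtop] at hU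
    have := isIso_top_ι S
    have : Surjective (⊤ : S.Opens).ι := inferInstance
    have : QuasiCompact (⊤ : S.Opens).ι := inferInstance
    exact desc_bc (@Flat ⊓ @Surjective : MorphismProperty Scheme.{u}) (⊤ : S.Opens).ι α hU
  · intro hff s hgeom
    have h1 := (geom_iff α s).1 hgeom
    have hffs := stable_bc (@Flat ⊓ @Surjective : MorphismProperty Scheme.{u})
      (S.fromSpecResidueField s) α hff
    exact (char_fibre hT α s).1 hffs h1

end Groth.Agent.S5421
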