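import Groth.Statements.S5427
import Groth.Agent.H27.DiagMap
import Mathlib.RingTheory.SimpleModule.Basic
import Mathlib.Data.ZMod.QuotientRing
import Mathlib.RingTheory.Ideal.Int
import Mathlib.RingTheory.PrincipalIdealDomain

set_option autoImplicit false
universe u
open CategoryTheory MonoidalCategory CartesianMonoidalCategory MonObj GrpObj AlgebraicGeometry CategoryTheory.Limits
open Red

namespace Groth.Agent.S5427

theorem exists_prime_surj (M : Type) [AddCommGroup M] [AddGroup.FG M] [Nontrivial M] :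
    ∃ (r : ℕ) (_ : r.Prime) (f : M →+ ZMod r), Function.Surjective f := by
  haveI : Module.Finite ℤ M := Module.Finite.iff_addGroup_fg.mpr ‹_›
  obtain ⟨m, hm⟩ : ∃ m : Submodule ℤ M, IsCoatom m := by
    rcases eq_top_or_exists_le_coatom (⊥ : Submodule ℤ M) with h | ⟨m, hm, -⟩
    · exact absurd h bot_ne_top
    · exact ⟨m, hm⟩
  have hs : IsSimpleModule ℤ (M ⧸ m) := isSimpleModule_iff_isCoatom.mpr hm
  obtain ⟨I, hI, ⟨e⟩⟩ := isSimpleModule_iff_quot_maximal.mp hs
  obtain ⟨a, rfl⟩ : ∃ a : ℤ, I = Ideal.span {a} := (IsPrincipalIdealRing.principal I).principal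
  have ha0 : a ≠ 0 := by
    rintro rfl
    have hbot : (Ideal.span {(0:ℤ)}) = ⊥ := by simp
    exact Ring.ne_bot_of_isMaximal_of_not_isField hI Int.not_isField hbot
  have hap : Prime a := (Ideal.span_singleton_prime ha0).mp hI.isPrime
  have hr : a.natAbs.Prime := Int.prime_iff_natAbs_prime.mp hap
  refine ⟨a.natAbs, hr, ((Int.quotientSpanEquivZMod a).toAddEquiv.toAddMonoidHom.comp
    e.toAddEquiv.toAddMonoidHom).comp m.mkQ.toAddMonoidHom, ?_⟩
  intro y
  obtain ⟨z, rfl⟩ := (Int.quotientSpanEquivZMod a).surjective y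
  obtain ⟨w, rfl⟩ := e.surjective z
  obtain ⟨x, rfl⟩ := m.mkQ_surjective w
  exact ⟨x, rfl⟩


/-- Let S be a scheme and G = D_S(M) a diagonalizable S-group of finite type, M a non-trivial finitely
generated commutative group. Then there are a prime number r and a closed subgroup of G isomorphic
to (μ_r)_S: a homomorphism of S-groups D_S(ℤ/r) → D_S(M) which is a closed immersion. -/
theorem result (S : Scheme.{u}) (M : Type) [AddCommGroup M] [AddGroup.FG M] [Nontrivial M] :
    ∃ (r : ℕ) (_ : r.Prime) (j : Red.DS S (ZMod r) ⟶ Red.DS S M), IsMonHom j ∧ IsClosedImmersion j.left := by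
  obtain ⟨r, hr, f, hf⟩ := exists_prime_surj M
  exact ⟨r, hr, Groth.Agent.H27.dsMap S f, Groth.Agent.H27.dsMap_isMonHom S f,
    Groth.Agent.H27.dsMap_isClosedImmersion S f hf⟩

end Groth.Agent.S5427
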