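import Groth.Statements.S5435
import Mathlib
import Groth.Agent.S5434
import Groth.Agent.S5331

set_option autoImplicit false
universe u
open CategoryTheory MonoidalCategory CartesianMonoidalCategory MonObj GrpObj AlgebraicGeometry CategoryTheory.Limits
open SGA3x

namespace Groth.Agent.S5435



theorem sep_fibre (S : Scheme.{u}) (H : Over S) [GrpObj H] (s : S) :
    IsSeparated (pullback.snd H.hom (S.fromSpecResidueField s)) := by
  haveI : DiscreteTopology ↥(Spec (S.residueField s)) := inferInstance
  exact Groth.Agent.S5331.result (Spec (S.residueField s))
    ((Over.pullback (S.fromSpecResidueField s)).obj H)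


/-- Let G be an S-group scheme, flat and locally of finite presentation over S, U an open subscheme of G
schematically dense in G relative to S (after every base change), and H an S-group scheme. Then a
homomorphism G → H is determined by its restriction to U: two homomorphisms f, g : G → H with the
same restriction to U are equal. (No separatedness of H is needed. The published statement allows H
to be any sheaf of groups for the fppf topology; this row takes H a group scheme.) -/
theorem result (S : Scheme.{u}) (G H : Over S) [GrpObj G] [GrpObj H] [Flat G.hom] [LocallyOfFinitePresentation G.hom]
    (U : G.left.Opens) (hU : (∀ (S' : Scheme.{u}) (g : S' ⟶ S), CInt.IsSchematicallyDense ((pullback.fst G.hom g) ⁻¹ᵁ U)))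
    (f g : G ⟶ H) [IsMonHom f] [IsMonHom g] (h : U.ι ≫ f.left = U.ι ≫ g.left) : f = g := by
  exact Groth.Agent.S5434.result S G H U hU (fun s => sep_fibre S H s) f g h

end Groth.Agent.S5435
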