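import Groth.Statements.S5441
import Groth.Agent.H84.EtRad

set_option autoImplicit false
universe u
open TensorProduct
open SGA3

namespace Groth.Agent.S5441

open Groth.Agent.H84.EtRad Groth.Agent.H84.UE

/-- Let k be a perfect field, A a finitely generated commutative Hopf algebra (an algebraic group H), ψ
: C → A an injective bialgebra map with C an étale k-algebra (the étale quotient H″), J the Hopf
ideal of A generated by the image of the augmentation ideal of C (the kernel H′ = Spec (A/J)), with
A/J a local ring (H′ radiciel). Then H″ lifts uniquely into H and the lifting is the reduced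
subgroup: there is exactly one bialgebra map r : A → C with r ∘ ψ = id, and every such r has kernel
the nilradical of A. -/
theorem result (k : Type u) [Field k] [PerfectField k] (A C : Type u) [CommRing A] [HopfAlgebra k A] [Algebra.FiniteType k A]
    [CommRing C] [HopfAlgebra k C] [Algebra.Etale k C] (ψ : C →ₐc[k] A) (hψ : Function.Injective ψ)
    (J : Ideal A) [J.IsHopfIdeal k] (hJ : J = Ideal.map (ψ : C →+* A) (RingHom.ker (Bialgebra.counitAlgHom k C)))
    [IsLocalRing (A ⧸ J)] :
    (∃! r : A →ₐc[k] C, r.comp ψ = BialgHom.id k C) ∧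
    ∀ r : A →ₐc[k] C, r.comp ψ = BialgHom.id k C → RingHom.ker (r : A →+* C) = nilradical A := by
  classical
  haveI : Algebra.FinitePresentation k C := Algebra.Etale.finitePresentation
  haveI : Algebra.FormallyUnramified k C := inferInstance
  haveI : Module.Finite k C := Algebra.FormallyUnramified.finite_of_free k C
  haveI : IsReduced C := Algebra.FormallyUnramified.isReduced_of_field k C
  haveI : IsNoetherianRing C := Algebra.FiniteType.isNoetherianRing k C
  haveI : Algebra.FiniteType k (A ⧸ J) :=
    (inferInstance : Algebra.FiniteType k A).of_surjective (Ideal.Quotient.mkₐ k J)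
      (Ideal.Quotient.mkₐ_surjective k J)
  haveI : Module.Finite k (A ⧸ J) := finite_of_local k (A ⧸ J)
  haveI : Module.Finite k A := finite_of_quotient_finite ψ hψ J hJ
  haveI : (nilradical A).IsHopfIdeal k := nilradical_isHopfIdeal k A
  let π : A →ₐc[k] A ⧸ nilradical A := Bialgebra.Quotient.mkBialgHom (R := k) (nilradical A)
  have hπ : ∀ a, π a = Ideal.Quotient.mk (nilradical A) a := fun _ => rfl
  have hπsurj : Function.Surjective π := Ideal.Quotient.mk_surjective
  let φ : C →ₐc[k] A ⧸ nilradical A := π.comp ψ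
  have hφ : ∀ c, φ c = π (ψ c) := fun _ => rfl
  obtain ⟨e, he, hεe⟩ := exists_counit_idem (k := k) C
  -- `ψ e` kills `J`
  have hkill : ∀ j ∈ J, ψ e * j = 0 := by
    intro j hj
    rw [hJ] at hj
    unfold Ideal.map at hj
    induction hj using Submodule.span_induction with
    | mem x hx =>
      obtain ⟨c, hc, rfl⟩ := hx
      have hc' : Coalgebra.counit (R := k) c = 0 := hc
      have h1 : ψ e * ψ c = ψ (c * e) := by rw [map_mul, mul_comm]
      change ψ e * ψ c = 0
      rw [h1, he c, hc', zero_smul, map_zero]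
    | zero => exact mul_zero _
    | add x y _ _ hx hy => rw [mul_add, hx, hy, add_zero]
    | smul a x _ hx => rw [smul_eq_mul, mul_left_comm, hx, mul_zero]
  -- `1 - ψ e ∈ J`
  have h1e : 1 - ψ e ∈ J := by
    rw [hJ]
    have : (1 : A) - ψ e = (ψ : C →+* A) (1 - e) := by simp
    rw [this]
    apply Ideal.mem_map_of_mem
    rw [RingHom.mem_ker, map_sub, map_one]
    have : Bialgebra.counitAlgHom k C e = 1 := hεe
    rw [this, sub_self]
  let JB : Ideal (A ⧸ nilradical A) :=
    Ideal.map ((φ : C →ₐc[k] A ⧸ nilradical A) : C →+* A ⧸ nilradical A)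
      (RingHom.ker (Bialgebra.counitAlgHom k C))
  have hJB : ∀ j ∈ J, π j ∈ JB := by
    intro j hj
    have h1 : π j ∈ Ideal.map ((π : A →ₐc[k] A ⧸ nilradical A) : A →+* A ⧸ nilradical A) J :=
      Ideal.mem_map_of_mem _ hj
    rw [hJ, Ideal.map_map] at h1
    exact h1
  -- augmentation elements die modulo `JB`
  have key : ∀ a : A, Coalgebra.counit (R := k) a = 0 → π a ∈ JB := by
    intro a ha
    have hnu : Ideal.Quotient.mk J a ∈ IsLocalRing.maximalIdeal (A ⧸ J) := by
      rw [IsLocalRing.mem_maximalIdeal, mem_nonunits_iff]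
      intro hu
      have h2 := hu.map (Bialgebra.counitAlgHom k (A ⧸ J))
      have h3 : Bialgebra.counitAlgHom k (A ⧸ J) (Ideal.Quotient.mk J a) =
          Coalgebra.counit (R := k) a := rfl
      rw [h3, ha] at h2
      exact not_isUnit_zero h2
    rw [← nilradical_eq_maximalIdeal k (A ⧸ J)] at hnu
    obtain ⟨n, hn⟩ := mem_nilradical.1 hnu
    rw [← map_pow, Ideal.Quotient.eq_zero_iff_mem] at hn
    have hn' : a ^ (n + 1) ∈ J := by rw [pow_succ]; exact J.mul_mem_right _ hn
    have hnil : ψ e * a ∈ nilradical A := by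
      rw [mem_nilradical]
      refine ⟨n + 1, ?_⟩
      rw [mul_pow, pow_succ (ψ e), mul_assoc, hkill _ hn', mul_zero]
    have hsplit : a = ψ e * a + (1 - ψ e) * a := by ring
    rw [hsplit, map_add]
    have h0 : π (ψ e * a) = 0 := by
      rw [hπ]; exact Ideal.Quotient.eq_zero_iff_mem.2 hnil
    rw [h0, zero_add]
    exact hJB _ (J.mul_mem_right _ h1e)
  -- surjectivity of `φ`
  have hcounitπ : ∀ a : A, Coalgebra.counit (R := k) (π a) = Coalgebra.counit (R := k) a :=
    fun _ => rfl
  have hφsurj : Function.Surjective φ := by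
    intro b
    have hq : (Ideal.Quotient.mkₐ k JB).toLinearMap =
        Algebra.linearMap k ((A ⧸ nilradical A) ⧸ JB) ∘ₗ
          (Coalgebra.counit (R := k) (A := A ⧸ nilradical A)) := by
      apply LinearMap.ext
      intro b'
      obtain ⟨a', rfl⟩ := hπsurj b'
      have h1 := key (a' - algebraMap k A (Coalgebra.counit (R := k) a')) (by
        rw [map_sub, Bialgebra.counit_algebraMap, sub_self])
      rw [map_sub] at h1
      have h2 : Ideal.Quotient.mk JB (π a' - π (algebraMap k A (Coalgebra.counit (R := k) a'))) = 0 :=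
        Ideal.Quotient.eq_zero_iff_mem.2 h1
      rw [map_sub, sub_eq_zero] at h2
      change Ideal.Quotient.mk JB (π a') = algebraMap k _ (Coalgebra.counit (R := k) (π a'))
      rw [h2, hcounitπ, AlgHomClass.commutes π]
      rfl
    have hcoinv : LinearMap.lTensor (A ⧸ nilradical A) (Ideal.Quotient.mkₐ k JB).toLinearMap
        (Coalgebra.comul (R := k) b) = b ⊗ₜ[k] (1 : (A ⧸ nilradical A) ⧸ JB) := by
      rw [hq, LinearMap.lTensor_comp, LinearMap.comp_apply, Coalgebra.lTensor_counit_comul,
        LinearMap.lTensor_tmul, Algebra.linearMap_apply, map_one]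
    exact mem_range_of_coinv φ JB rfl b hcoinv
  have hφinj : Function.Injective φ := by
    rw [injective_iff_map_eq_zero]
    intro c hc
    rw [hφ, hπ, Ideal.Quotient.eq_zero_iff_mem, mem_nilradical] at hc
    obtain ⟨n, hn⟩ := hc
    rw [← map_pow] at hn
    have h1 : c ^ n = 0 := hψ (hn.trans (map_zero ψ).symm)
    exact IsReduced.eq_zero c ⟨n, h1⟩
  -- the uniqueness principle
  have huniq : ∀ (r' : A →ₐc[k] C), r'.comp ψ = BialgHom.id k C → ∀ (a : A) (c : C),
      π a = φ c → r' a = c := by
    intro r' hr' a c hac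
    have h1 : π (a - ψ c) = 0 := by rw [map_sub, hac, hφ, sub_self]
    rw [hπ, Ideal.Quotient.eq_zero_iff_mem, mem_nilradical] at h1
    have h2 : IsNilpotent (r' (a - ψ c)) := h1.map r'
    have h3 := h2.eq_zero
    rw [map_sub, sub_eq_zero] at h3
    rw [h3]
    exact BialgHom.congr_fun hr' c
  let eφ : C ≃ₐc[k] A ⧸ nilradical A := BialgEquiv.ofBijective φ ⟨hφinj, hφsurj⟩
  let r : A →ₐc[k] C := (eφ.symm : (A ⧸ nilradical A) →ₐc[k] C).comp π
  have hr : r.comp ψ = BialgHom.id k C := by
    apply BialgHom.ext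
    intro c
    change eφ.symm (φ c) = c
    exact eφ.symm_apply_apply c
  refine ⟨⟨r, hr, ?_⟩, ?_⟩
  · intro r' hr'
    apply BialgHom.ext
    intro a
    obtain ⟨c, hc⟩ := hφsurj (π a)
    rw [huniq r' hr' a c hc.symm, huniq r hr a c hc.symm]
  · intro r' hr'
    ext a
    obtain ⟨c, hc⟩ := hφsurj (π a)
    rw [RingHom.mem_ker]
    change r' a = 0 ↔ _
    rw [huniq r' hr' a c hc.symm]
    constructor
    · intro h0
      rw [h0, map_zero] at hc
      exact Ideal.Quotient.eq_zero_iff_mem.1 hc.symm
    · intro ha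
      have : π a = 0 := Ideal.Quotient.eq_zero_iff_mem.2 ha
      rw [this] at hc
      exact hφinj (hc.trans (map_zero φ).symm)

end Groth.Agent.S5441
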