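import Groth.Statements.S5444
import Groth.Agent.S4972

set_option autoImplicit false
universe u
open CategoryTheory AlgebraicGeometry Topology
open SGA3x

namespace Groth.Agent.S5444

/-- Let f : Y → S be a morphism of finite presentation, (a_i)_{i ∈ I} a family of sections of f, and s₀,
s₁ two points of S with s₀ a specialization of s₁. For j = 0, 1 let C_j be the closure in the fibre
Y_{s_j} (with its subspace topology) of the set of points a_i(s_j). Then dim C₁ ≥ dim C₀
(topological Krull dimensions). -/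
theorem result (S Y : Scheme.{u}) (f : Y ⟶ S) [QuasiCompact f] [QuasiSeparated f] [LocallyOfFinitePresentation f]
    (ι : Type u) (a : ι → (S ⟶ Y)) (ha : ∀ i, a i ≫ f = 𝟙 S) (s₀ s₁ : S) (h : s₁ ⤳ s₀) :
    topologicalKrullDim ↥(f.base ⁻¹' {s₀} ∩ closure (Set.range fun i => (a i).base s₀)) ≤
      topologicalKrullDim ↥(f.base ⁻¹' {s₁} ∩ closure (Set.range fun i => (a i).base s₁)) := by
  haveI : LocallyOfFiniteType f := inferInstance
  haveI : ∀ _ : ι, UniversallyOpen (𝟙 S) := fun _ => inferInstance
  have key := Groth.Agent.S4972.result f (fun _ : ι => S) (fun _ => 𝟙 S) a ha s₀ s₁ h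
  have hset : ∀ t : S, (⋃ i, Set.range (a i).base) ∩ f.base ⁻¹' {t} =
      Set.range fun i => (a i).base t := by
    intro t
    have hfa : ∀ (i : ι) (w : S), f.base ((a i).base w) = w := fun i w =>
      congrArg (fun φ : S ⟶ S => φ.base w) (ha i)
    ext y
    constructor
    · rintro ⟨hy1, hy2⟩
      obtain ⟨i, w, rfl⟩ := Set.mem_iUnion.mp hy1
      have hw : f.base ((a i).base w) = t := hy2
      rw [hfa i w] at hw
      exact ⟨i, by rw [hw]⟩
    · rintro ⟨i, rfl⟩
      exact ⟨Set.mem_iUnion.mpr ⟨i, t, rfl⟩, hfa i t⟩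
  rw [← hset s₀, ← hset s₁]
  exact key

end Groth.Agent.S5444
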