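import Groth.Statements.S5447
import Groth.Agent.H27.RootBase

set_option autoImplicit false
open RootD

namespace Groth.Agent.S5447

/-- If every root can be written in exactly one way as an integer combination of the roots indexed by Δ
with coefficients all of the same sign, then these roots are linearly independent (so Δ is a system
of simple roots) and indivisible. -/
theorem result {ι M N : Type*} [AddCommGroup M] [AddCommGroup N]
    (P : RootPairing ι ℤ M N) [Finite ι] (Δ : Set ι)
    (h : ∀ k : ι, ∃! c : ι →₀ ℤ, (↑c.support ⊆ Δ ∧ ((∀ j, 0 ≤ c j) ∨ (∀ j, c j ≤ 0)) ∧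
      Finsupp.linearCombination ℤ P.root c = P.root k)) :
    RootD.IsSimpleSys P Δ ∧ ∀ i ∈ Δ, RootD.IsIndiv P i := by
  classical
  -- uniqueness in convenient form
  have huniq : ∀ (k : ι) (c d : ι →₀ ℤ), c ∈ Finsupp.supported ℤ ℤ Δ →
      ((∀ j, 0 ≤ c j) ∨ (∀ j, c j ≤ 0)) →
      Finsupp.linearCombination ℤ P.root c = P.root k → d ∈ Finsupp.supported ℤ ℤ Δ →
      ((∀ j, 0 ≤ d j) ∨ (∀ j, d j ≤ 0)) → Finsupp.linearCombination ℤ P.root d = P.root k →
      c = d := by
    intro k c d h1 h2 h3 h4 h5 h6
    exact (h k).unique ⟨h1, h2, h3⟩ ⟨h4, h5, h6⟩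
  have hsingle : ∀ i ∈ Δ, ∀ a : ℤ, Finsupp.single i a ∈ Finsupp.supported ℤ ℤ Δ := by
    intro i hi a
    exact Finsupp.single_mem_supported ℤ a hi
  have hnegpair : ∀ i ∈ Δ, ∀ j ∈ Δ, i ≠ j → P.pairing i j ≤ 0 := by
    intro i hi j hj hij
    by_contra hpos
    push Not at hpos
    have hpos' : 0 < P.pairingIn ℤ i j := by rwa [Groth.Agent.H27.pairingIn_int_eq]
    obtain ⟨k, hk⟩ := P.root_sub_root_mem_of_pairingIn_pos hpos' hij
    obtain ⟨c, ⟨hcS', hcsign, hc⟩, -⟩ := h k
    have hcS : c ∈ Finsupp.supported ℤ ℤ Δ := hcS'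
    rcases hcsign with hc0 | hc0
    · have heq := huniq i (Finsupp.single i 1) (c + Finsupp.single j 1) (hsingle i hi 1)
        (Or.inl fun l => by rw [Finsupp.single_apply]; split_ifs <;> simp) (by simp)
        (add_mem hcS (hsingle j hj 1))
        (Or.inl fun l => by
          have := hc0 l
          rw [Finsupp.add_apply, Finsupp.single_apply]; split_ifs <;> omega)
        (by rw [map_add, hc, hk]; simp)
      have := DFunLike.congr_fun heq j
      simp [hij] at this
      have := hc0 j
      omega
    · have heq := huniq j (Finsupp.single j 1) (Finsupp.single i 1 - c) (hsingle j hj 1)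
        (Or.inl fun l => by rw [Finsupp.single_apply]; split_ifs <;> simp) (by simp)
        (sub_mem (hsingle i hi 1) hcS)
        (Or.inl fun l => by
          have := hc0 l
          rw [Finsupp.sub_apply, Finsupp.single_apply]; split_ifs <;> omega)
        (by rw [map_sub, hc, hk]; simp)
      have := DFunLike.congr_fun heq i
      simp [Ne.symm hij] at this
      have := hc0 i
      omega
  have hpt : Groth.Agent.H27.Pointed P Δ := by
    intro c hcS hc0 hc
    by_contra hne
    obtain ⟨i₀, hi₀⟩ : ∃ j, c j ≠ 0 := by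
      by_contra hcon
      push Not at hcon
      exact hne (Finsupp.ext hcon)
    have hi₀Δ : i₀ ∈ Δ := hcS (Finsupp.mem_support_iff.mpr hi₀)
    have hpos : 0 < c i₀ := lt_of_le_of_ne (hc0 i₀) (Ne.symm hi₀)
    have heq := huniq (P.reflectionPerm i₀ i₀) (c - Finsupp.single i₀ 1) (- Finsupp.single i₀ 1)
      (sub_mem hcS (hsingle i₀ hi₀Δ 1))
      (Or.inl fun l => by
        have := hc0 l
        rw [Finsupp.sub_apply, Finsupp.single_apply]; split_ifs with hl
        · subst hl; omega
        · omega)
      (by rw [map_sub, hc, Groth.Agent.H27.root_neg]; simp)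
      (neg_mem (hsingle i₀ hi₀Δ 1))
      (Or.inr fun l => by
        rw [Finsupp.neg_apply, Finsupp.single_apply]; split_ifs <;> simp)
      (by rw [map_neg, Groth.Agent.H27.root_neg]; simp)
    have := DFunLike.congr_fun heq i₀
    simp at this
    omega
  refine ⟨⟨Groth.Agent.H27.linearIndepOn_of_pairing_le_zero P hpt hnegpair, ?_⟩, ?_⟩
  · intro k
    obtain ⟨c, ⟨hcS', hcsign, hc⟩, -⟩ := h k
    have hcS : c ∈ Finsupp.supported ℤ ℤ Δ := hcS'
    rcases hcsign with hc0 | hc0
    · left
      rw [← hc]
      exact Groth.Agent.H27.mem_natSpan_of_coeff P c hc0 hcS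
    · right
      have : -P.root k = Finsupp.linearCombination ℤ P.root (-c) := by rw [map_neg, hc]
      rw [this]
      exact Groth.Agent.H27.mem_natSpan_of_coeff P (-c)
        (fun l => by have := hc0 l; rw [Finsupp.neg_apply]; omega)
        (neg_mem hcS)
  · intro i hi j hj
    obtain ⟨c, ⟨hcS', hcsign, hc⟩, -⟩ := h j
    have hcS : c ∈ Finsupp.supported ℤ ℤ Δ := hcS'
    have heq := huniq i ((2:ℤ) • c) (Finsupp.single i 1)
      (Submodule.smul_mem (Finsupp.supported ℤ ℤ Δ) 2 hcS)
      (by
        rcases hcsign with hc0 | hc0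
        · left; intro l; have := hc0 l; rw [Finsupp.smul_apply, smul_eq_mul]; omega
        · right; intro l; have := hc0 l; rw [Finsupp.smul_apply, smul_eq_mul]; omega)
      (by rw [map_smul, hc, hj])
      (hsingle i hi 1)
      (Or.inl fun l => by rw [Finsupp.single_apply]; split_ifs <;> simp) (by simp)
    have := DFunLike.congr_fun heq i
    simp at this
    omega

end Groth.Agent.S5447
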