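import Groth.Statements.S5451
import Groth.Agent.H27.RootSimple
import Mathlib.LinearAlgebra.RootSystem.Finite.Lemmas

set_option autoImplicit false
open RootD

namespace Groth.Agent.S5451

theorem succ_sums {ι M N : Type*} [AddCommGroup M] [AddCommGroup N]
    (P : RootPairing ι ℤ M N) [Finite ι] {n : ℕ} (a : Fin n → ι) :
    ∀ T : ℕ, ∀ (m : Fin n → ℕ) (k : ι), ∑ i, m i = T → P.root k = ∑ i, m i • P.root (a i) →
    ∃ (l : ℕ) (b : Fin l → Fin n), 0 < l ∧
      (∀ p : Fin l, ∃ j : ι, P.root j =
        ∑ q ∈ Finset.univ.filter (fun q : Fin l => q.val ≤ p.val), P.root (a (b q))) ∧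
      P.root k = ∑ q, P.root (a (b q)) := by
  classical
  intro T
  induction T with
  | zero =>
    intro m k hT hk
    exfalso
    have h0 : ∀ i, m i = 0 := by simpa [Finset.sum_eq_zero_iff] using hT
    apply P.ne_zero k
    rw [hk]
    simp [h0]
  | succ T ih =>
    intro m k hT hk
    have h2 : (2:ℤ) = ∑ i, (m i : ℤ) * P.pairing (a i) k := by
      have h := P.root_coroot_two k
      rw [hk, map_sum, LinearMap.sum_apply] at h
      rw [← h]
      apply Finset.sum_congr rfl
      intro i _
      rw [map_nsmul, LinearMap.smul_apply, P.root_coroot_eq_pairing]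
      simp
    obtain ⟨i, -, hipos⟩ : ∃ i ∈ Finset.univ, 0 < (m i : ℤ) * P.pairing (a i) k := by
      by_contra hcon
      push Not at hcon
      have := Finset.sum_nonpos hcon
      omega
    have hmi : 0 < m i := by
      rcases Nat.eq_zero_or_pos (m i) with h | h
      · rw [h] at hipos; simp at hipos
      · exact h
    have hpair : 0 < P.pairing (a i) k := by
      have hmi' : (0:ℤ) < m i := by exact_mod_cast hmi
      exact (pos_iff_pos_of_mul_pos hipos).mp hmi'
    by_cases hik : a i = k
    · refine ⟨1, fun _ => i, one_pos, ?_, ?_⟩
      · intro p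
        refine ⟨k, ?_⟩
        have : Finset.univ.filter (fun q : Fin 1 => q.val ≤ p.val) = Finset.univ := by
          ext q
          simp
        rw [this]
        simp [hik]
      · simp [hik]
    · have hpos' : 0 < P.pairingIn ℤ k (a i) := by
        rw [Groth.Agent.H27.pairingIn_int_eq]
        exact Groth.Agent.H27.pairing_pos_symm P hpair
      obtain ⟨k', hk'⟩ := P.root_sub_root_mem_of_pairingIn_pos hpos' (Ne.symm hik)
      let m' : Fin n → ℕ := fun j => if j = i then m i - 1 else m j
      have hm' : ∀ j, m j = m' j + (if j = i then 1 else 0) := by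
        intro j
        by_cases h : j = i
        · subst h; simp [m']; omega
        · simp [m', h]
      have hsum' : ∑ j, m' j = T := by
        have h1 : ∑ j, m j = ∑ j, (m' j + (if j = i then 1 else 0)) :=
          Finset.sum_congr rfl (fun j _ => hm' j)
        rw [Finset.sum_add_distrib, Finset.sum_ite_eq' Finset.univ i] at h1
        simp at h1
        omega
      have hk'' : P.root k' = ∑ j, m' j • P.root (a j) := by
        have h1 : ∑ j, m j • P.root (a j) =
            ∑ j, (m' j • P.root (a j) + (if j = i then 1 else 0) • P.root (a j)) := by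
          apply Finset.sum_congr rfl
          intro j _
          rw [← add_smul, ← hm' j]
        rw [Finset.sum_add_distrib] at h1
        have h3 : ∑ j, (if j = i then 1 else 0) • P.root (a j) = P.root (a i) := by
          simp [ite_smul]
        rw [h3] at h1
        rw [hk', hk, h1]
        abel
      obtain ⟨l, b, hl, hpart, htot⟩ := ih m' k' hsum' hk''
      refine ⟨l + 1, Fin.snoc b i, Nat.succ_pos _, ?_, ?_⟩
      · intro p
        induction p using Fin.lastCases with
        | last =>
          refine ⟨k, ?_⟩
          have : Finset.univ.filter (fun q : Fin (l+1) => q.val ≤ (Fin.last l).val) =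
              Finset.univ := by
            ext q
            simp
            omega
          rw [this, Fin.sum_univ_castSucc]
          simp only [Fin.snoc_castSucc, Fin.snoc_last]
          rw [← htot, hk']
          abel
        | cast p' =>
          obtain ⟨j, hj⟩ := hpart p'
          refine ⟨j, ?_⟩
          rw [hj, Finset.sum_filter, Finset.sum_filter, Fin.sum_univ_castSucc]
          simp only [Fin.snoc_castSucc, Fin.snoc_last, Fin.val_castSucc, Fin.val_last]
          have : ¬ (l ≤ p'.val) := by omega
          rw [if_neg this, add_zero]
      · rw [Fin.sum_univ_castSucc]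
        simp only [Fin.snoc_castSucc, Fin.snoc_last]
        rw [← htot, hk']
        abel


/-- If a root is a positive integer combination of roots α_i, then it can be reached from 0 by
successively adding roots taken among the α_i in such a way that every partial sum is a root. -/
theorem result {ι M N : Type*} [AddCommGroup M] [AddCommGroup N]
    (P : RootPairing ι ℤ M N) [Finite ι] {n : ℕ} (a : Fin n → ι) (m : Fin n → ℕ)
    (hm : ∀ i, 0 < m i) (k : ι) (hk : P.root k = ∑ i, m i • P.root (a i)) :
    ∃ (l : ℕ) (b : Fin l → Fin n), 0 < l ∧
      (∀ p : Fin l, ∃ j : ι, P.root j = ∑ q ∈ Finset.univ.filter (fun q : Fin l => q.val ≤ p.val), P.root (a (b q))) ∧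
      P.root k = ∑ q, P.root (a (b q)) := by
  exact succ_sums P a _ m k rfl hk

end Groth.Agent.S5451
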