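import Groth.Statements.S5465
import Groth.Agent.H27.RootSimpleTrans

set_option autoImplicit false
open RootD

namespace Groth.Agent.S5465

/-- A map from the roots to an abelian group that is odd and additive on pairs of roots whose sum is a
root extends uniquely to a homomorphism on the lattice generated by the roots. -/
theorem result {ι M N : Type*} [AddCommGroup M] [AddCommGroup N]
    (P : RootPairing ι ℤ M N) [Finite ι] {G : Type*} [AddCommGroup G] (f : ι → G)
    (hneg : ∀ i : ι, f (P.reflectionPerm i i) = -f i)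
    (hadd : ∀ i j k : ι, P.root k = P.root i + P.root j → f k = f i + f j) :
    ∃! φ : Submodule.span ℤ (Set.range P.root) →+ G,
      ∀ i : ι, φ ⟨P.root i, Submodule.subset_span (Set.mem_range_self i)⟩ = f i := by
  classical
  obtain ⟨Δ, hΔ⟩ := Groth.Agent.H27.exists_isSimpleSys P
  have hli : LinearIndependent ℤ (fun i : Δ => P.root i) := hΔ.linInd
  have hrange : Set.range (fun i : Δ => P.root i) = P.root '' Δ := by
    ext x
    simp
  have hle : Submodule.span ℤ (Set.range P.root) ≤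
      Submodule.span ℤ (Set.range (fun i : Δ => P.root i)) := by
    rw [hrange, Groth.Agent.H27.span_simple_eq P hΔ]
  let φ₀ : Submodule.span ℤ (Set.range (fun i : Δ => P.root i)) →ₗ[ℤ] G :=
    (Finsupp.linearCombination ℤ (fun i : Δ => f i)) ∘ₗ hli.repr
  let φ : Submodule.span ℤ (Set.range P.root) →ₗ[ℤ] G := φ₀ ∘ₗ Submodule.inclusion hle
  have hmem : ∀ k : ι, P.root k ∈ Submodule.span ℤ (Set.range P.root) :=
    fun k => Submodule.subset_span (Set.mem_range_self k)
  have hφΔ : ∀ j (hj : j ∈ Δ), φ ⟨P.root j, hmem j⟩ = f j := by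
    intro j hj
    have h1 : hli.repr ⟨P.root j, Submodule.subset_span ⟨⟨j, hj⟩, rfl⟩⟩ =
        Finsupp.single (⟨j, hj⟩ : Δ) 1 :=
      hli.repr_eq_single ⟨j, hj⟩ _ rfl
    show Finsupp.linearCombination ℤ (fun i : Δ => f i) (hli.repr _) = f j
    have h2 : (Submodule.inclusion hle ⟨P.root j, hmem j⟩) =
        ⟨P.root j, Submodule.subset_span ⟨⟨j, hj⟩, rfl⟩⟩ := rfl
    rw [h2, h1]
    simp
  have hφpos : ∀ k ∈ RootD.posOf P Δ, φ ⟨P.root k, hmem k⟩ = f k := by
    intro k hk
    obtain ⟨c, hc0, hcS, hc⟩ := Groth.Agent.H27.exists_coeff_of_mem_natSpan P hk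
    exact Groth.Agent.H27.coeff_induction P hΔ (fun k _ => φ ⟨P.root k, hmem k⟩ = f k)
      (fun i hi => hφΔ i hi)
      (fun k k' l c _ _ _ hl hkk hk' => by
        have h1 : (⟨P.root k, hmem k⟩ : Submodule.span ℤ (Set.range P.root)) =
            ⟨P.root k', hmem k'⟩ + ⟨P.root l, hmem l⟩ := Subtype.ext hkk
        show φ ⟨P.root k, hmem k⟩ = f k
        rw [h1, map_add, hk', hφΔ l hl, hadd k' l k hkk])
      k c hc0 hcS hc
  have hφ : ∀ k, φ ⟨P.root k, hmem k⟩ = f k := by
    intro k
    rcases (Groth.Agent.H27.isPosSys_posOf P hΔ).cover k with h | h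
    · exact hφpos k h
    · have h1 := hφpos _ h
      have h2 : (⟨P.root (P.reflectionPerm k k), hmem _⟩ :
          Submodule.span ℤ (Set.range P.root)) = - ⟨P.root k, hmem k⟩ :=
        Subtype.ext (Groth.Agent.H27.root_neg P k)
      rw [h2, map_neg, hneg] at h1
      exact neg_injective h1
  refine ⟨φ.toAddMonoidHom, fun i => hφ i, ?_⟩
  intro ψ hψ
  ext ⟨x, hx⟩
  show ψ ⟨x, hx⟩ = φ ⟨x, hx⟩
  induction hx using Submodule.span_induction with
  | mem x hx =>
    obtain ⟨i, rfl⟩ := hx
    rw [hφ i]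
    exact hψ i
  | zero =>
    have : (⟨0, Submodule.zero_mem _⟩ : Submodule.span ℤ (Set.range P.root)) = 0 := rfl
    rw [this, map_zero, map_zero]
  | add x y hx hy ihx ihy =>
    have : (⟨x + y, Submodule.add_mem _ hx hy⟩ : Submodule.span ℤ (Set.range P.root)) =
        ⟨x, hx⟩ + ⟨y, hy⟩ := rfl
    rw [this, map_add, map_add, ihx, ihy]
  | smul a x hx ihx =>
    have : (⟨a • x, Submodule.smul_mem _ a hx⟩ : Submodule.span ℤ (Set.range P.root)) =
        a • ⟨x, hx⟩ := rfl
    rw [this, map_zsmul, map_smul, ihx]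

end Groth.Agent.S5465
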