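import Groth.Statements.S5466
import Groth.Agent.H27.RootD

set_option autoImplicit false
open RootD

namespace Groth.Agent.S5466

/-- The reflection in a simple root β maps every positive root not proportional to β to a positive root. -/
theorem result {ι M N : Type*} [AddCommGroup M] [AddCommGroup N]
    (P : RootPairing ι ℤ M N) [Finite ι] (Δ : Set ι) (hΔ : RootD.IsSimpleSys P Δ)
    (k i : ι) (hk : k ∈ RootD.posOf P Δ) (hi : i ∈ Δ)
    (hli : LinearIndependent ℤ ![P.root k, P.root i]) :
    P.reflectionPerm i k ∈ RootD.posOf P Δ := by
  classical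
  obtain ⟨c, hc0, hcS, hc⟩ := Groth.Agent.H27.exists_coeff_of_mem_natSpan P hk
  by_cases hex : ∃ l, l ≠ i ∧ 0 < c l
  · obtain ⟨l, hli', hcl⟩ := hex
    exact Groth.Agent.H27.reflectionPerm_mem_posOf_of_coeff_pos P hΔ hi hli' c hcS hc hcl
  · exfalso
    push Not at hex
    have hc' : c = Finsupp.single i (c i) := by
      ext l
      by_cases hl : l = i
      · subst hl; simp
      · rw [Finsupp.single_apply, if_neg (Ne.symm hl)]
        have := hex l hl
        have := hc0 l
        omega
    rw [hc'] at hc
    simp only [Finsupp.linearCombination_single] at hc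
    have := LinearIndependent.pair_iff.mp hli 1 (-(c i)) (by rw [one_smul, neg_smul, ← hc]; simp)
    exact one_ne_zero this.1

end Groth.Agent.S5466
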