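import Groth.Statements.S5468
import Mathlib.LinearAlgebra.RootSystem.Finite.Lemmas

set_option autoImplicit false
open RootD

namespace Groth.Agent.S5468

/-- Proportional roots have equal reflections. -/
theorem reflection_eq_of_root_eq_smul {ι M N : Type*} [AddCommGroup M] [AddCommGroup N]
    (P : RootPairing ι ℤ M N) [Finite ι] {i j : ι} {t : ℤ} (h : P.root j = t • P.root i) :
    P.reflection i = P.reflection j := by
  have : Module.IsReflexive ℤ M := .of_isPerfPair P.toLinearMap
  have : Module.IsReflexive ℤ N := .of_isPerfPair P.flip.toLinearMap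
  have : IsAddTorsionFree M := .of_isTorsionFree ℤ M
  have : IsAddTorsionFree N := .of_isTorsionFree ℤ N
  have hco : P.coroot i = t • P.coroot j := RootPairing.coroot_eq_smul_coroot_iff.mpr h
  ext m
  rw [P.reflection_apply, P.reflection_apply, h]
  have e : P.coroot' i m = t * P.coroot' j m := by
    show P.toLinearMap m (P.coroot i) = t * P.toLinearMap m (P.coroot j)
    rw [hco, map_smul, smul_eq_mul]
  rw [e, mul_smul, smul_comm]


/-- Two roots whose reflections are distinct and commute are orthogonal. -/
theorem result {ι M N : Type*} [AddCommGroup M] [AddCommGroup N]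
    (P : RootPairing ι ℤ M N) [Finite ι] (i j : ι)
    (hne : P.reflection i ≠ P.reflection j) (hc : Commute (P.reflection i) (P.reflection j)) :
    P.IsOrthogonal i j := by
  have : Module.IsReflexive ℤ M := .of_isPerfPair P.toLinearMap
  have : Module.IsReflexive ℤ N := .of_isPerfPair P.flip.toLinearMap
  -- the key numerical consequence of commutation
  have hkey : P.pairing j i * (P.pairing j i * P.pairing i j - 4) = 0 := by
    have h1 : P.reflection i (P.reflection j (P.root j)) = P.reflection j (P.reflection i (P.root j)) := by
      have := congrArg (fun e : M ≃ₗ[ℤ] M => e (P.root j)) hc.eq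
      simpa using this
    have h2 := congrArg (fun x => P.toLinearMap x (P.coroot i)) h1
    simp only [P.reflection_apply_self, P.reflection_apply_root, map_neg, map_sub, map_smul,
      LinearMap.neg_apply, LinearMap.sub_apply, LinearMap.smul_apply,
      P.root_coroot_eq_pairing, P.pairing_same, smul_eq_mul, smul_sub, smul_smul] at h2
    linear_combination (-1 : ℤ) * h2
  rcases mul_eq_zero.mp hkey with h0 | h4
  · exact ⟨(P.pairing_eq_zero_iff').mp h0, h0⟩
  · exfalso
    apply hne
    have h4' : P.pairingIn ℤ i j * P.pairingIn ℤ j i = 4 := by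
      have e1 : P.pairingIn ℤ i j = P.pairing i j := by simpa using P.algebraMap_pairingIn ℤ i j
      have e2 : P.pairingIn ℤ j i = P.pairing j i := by simpa using P.algebraMap_pairingIn ℤ j i
      rw [e1, e2]; linarith
    have hset := P.pairingIn_pairingIn_mem_set_of_isCrystallographic i j
    simp only [Set.mem_insert_iff, Set.mem_singleton_iff, Prod.mk.injEq] at hset
    rcases hset with h | h | h | h | h | h | h | h | h | h | h | h | h | h | h | h | h <;>
      (obtain ⟨ha, hb⟩ := h; rw [ha, hb] at h4'; try (norm_num at h4'))
    · -- (4,1)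
      have := (P.pairingIn_one_four_iff ℤ j i).mp ⟨hb, ha⟩
      exact (reflection_eq_of_root_eq_smul P this).symm
    · -- (1,4)
      have := (P.pairingIn_one_four_iff ℤ i j).mp ⟨ha, hb⟩
      exact reflection_eq_of_root_eq_smul P this
    · -- (-4,-1)
      have := (P.pairingIn_neg_one_neg_four_iff ℤ j i).mp ⟨hb, ha⟩
      exact (reflection_eq_of_root_eq_smul P this).symm
    · -- (-1,-4)
      have := (P.pairingIn_neg_one_neg_four_iff ℤ i j).mp ⟨ha, hb⟩
      exact reflection_eq_of_root_eq_smul P this
    · -- (2,2)
      have := (P.pairingIn_two_two_iff ℤ i j).mp ⟨ha, hb⟩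
      rw [this]
    · -- (-2,-2)
      have := (P.pairingIn_neg_two_neg_two_iff ℤ i j).mp ⟨ha, hb⟩
      have h' : P.root i = (-1 : ℤ) • P.root j := by rw [this]; simp
      exact (reflection_eq_of_root_eq_smul P h').symm

end Groth.Agent.S5468
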