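import Groth.Statements.S5469
import Mathlib.LinearAlgebra.RootSystem.Finite.Lemmas
import Mathlib.LinearAlgebra.RootSystem.WeylGroup

set_option autoImplicit false
open RootPairing
open scoped Pointwise
open RootD

namespace Groth.Agent.S5469

/-- Two non-orthogonal roots of equal length (for the canonical form ℓ(x) = Σ_{u ∈ R^v} (u, x)²) are
conjugate under the Weyl group. -/
theorem result {ι M N : Type*} [AddCommGroup M] [AddCommGroup N]
    (P : RootPairing ι ℤ M N) [Finite ι] [Fintype ι] (i j : ι) (hno : ¬ P.IsOrthogonal i j)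
    (hl : P.RootForm (P.root i) (P.root i) = P.RootForm (P.root j) (P.root j)) :
    ∃ g : P.Aut, g ∈ P.weylGroup ∧ g • i = j := by
  have : Module.IsReflexive ℤ M := .of_isPerfPair P.toLinearMap
  have : Module.IsReflexive ℤ N := .of_isPerfPair P.flip.toLinearMap
  let B : P.InvariantForm := (P.posRootForm ℤ).toInvariantForm
  have hB : B.form (P.root i) (P.root i) = B.form (P.root j) (P.root j) := hl
  have hset := P.pairingIn_pairingIn_mem_set_of_length_eq hB
  have e1 : P.pairingIn ℤ i j = P.pairing i j := by simpa using P.algebraMap_pairingIn ℤ i j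
  have e2 : P.pairingIn ℤ j i = P.pairing j i := by simpa using P.algebraMap_pairingIn ℤ j i
  rw [e1, e2] at hset
  simp only [Set.mem_insert_iff, Set.mem_singleton_iff, Prod.mk.injEq] at hset
  have hsmul : ∀ (g : P.Aut) (k : ι), P.root (g • k) = g • P.root k := fun g k =>
    RootPairing.Equiv.root_indexEquiv_eq_smul P k g
  rcases hset with ⟨ha, hb⟩ | ⟨ha, hb⟩ | ⟨ha, hb⟩ | ⟨ha, hb⟩ | ⟨ha, hb⟩
  · exact absurd ⟨ha, hb⟩ hno
  · -- (1,1)
    refine ⟨Equiv.reflection P j * Equiv.reflection P i * Equiv.reflection P j,
      mul_mem (mul_mem (P.reflection_mem_weylGroup j) (P.reflection_mem_weylGroup i))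
        (P.reflection_mem_weylGroup j), ?_⟩
    apply P.root.injective
    rw [hsmul]
    simp only [mul_smul, Equiv.reflection_smul, P.reflection_apply_root, P.reflection_apply_self,
      map_sub, map_neg, map_smul, ha, hb, P.pairing_same]
    module
  · -- (-1,-1)
    refine ⟨Equiv.reflection P i * Equiv.reflection P j,
      mul_mem (P.reflection_mem_weylGroup i) (P.reflection_mem_weylGroup j), ?_⟩
    apply P.root.injective
    rw [hsmul]
    simp only [mul_smul, Equiv.reflection_smul, P.reflection_apply_root, P.reflection_apply_self,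
      map_sub, map_neg, map_smul, ha, hb, P.pairing_same]
    module
  · -- (2,2)
    have hij : i = j := (P.pairing_two_two_iff i j).mp ⟨ha, hb⟩
    exact ⟨1, one_mem _, by rw [one_smul, hij]⟩
  · -- (-2,-2)
    have hij : P.root i = -P.root j := (P.pairing_neg_two_neg_two_iff i j).mp ⟨ha, hb⟩
    refine ⟨Equiv.reflection P i, P.reflection_mem_weylGroup i, ?_⟩
    apply P.root.injective
    rw [hsmul, Equiv.reflection_smul, P.reflection_apply_self, hij, neg_neg]

end Groth.Agent.S5469
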