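import Groth.Statements.S5473
import Mathlib.LinearAlgebra.RootSystem.Finite.Lemmas
import Mathlib.LinearAlgebra.RootSystem.Finite.Nondegenerate

set_option autoImplicit false
open RootD

namespace Groth.Agent.S5473

/-- If a linear map f and its transpose g induce bijections from the roots of R' onto the roots of R and
from the coroots of R onto the coroots of R' respectively (a morphism of root data in the
two-bijection sense), then the two bijections correspond: the coroot of α' is g applied to the
coroot of f(α'). -/
theorem result {ι M N ι' M' N' : Type*} [AddCommGroup M] [AddCommGroup N] [AddCommGroup M'] [AddCommGroup N']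
    (P : RootPairing ι ℤ M N) (P' : RootPairing ι' ℤ M' N') [Finite ι] [Finite ι']
    (f : M' →ₗ[ℤ] M) (g : N →ₗ[ℤ] N') (hfg : ∀ (m' : M') (n : N), P.toLinearMap (f m') n = P'.toLinearMap m' (g n))
    (e : ι' ≃ ι) (he : ∀ i' : ι', f (P'.root i') = P.root (e i'))
    (e' : ι ≃ ι') (he' : ∀ i : ι, g (P.coroot i) = P'.coroot (e' i)) :
    ∀ i' : ι', g (P.coroot (e i')) = P'.coroot i' := by
  classical
  have : Fintype ι' := Fintype.ofFinite ι'
  have : Module.IsReflexive ℤ M' := .of_isPerfPair P'.toLinearMap
  have : Module.IsReflexive ℤ N' := .of_isPerfPair P'.flip.toLinearMap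
  let B : P'.InvariantForm := (P'.posRootForm ℤ).toInvariantForm
  let len : ι' → ℤ := fun i' => B.form (P'.root i') (P'.root i')
  have hlen_pos : ∀ i', 0 < len i' := fun i' =>
    P'.rootForm_pos_of_ne_zero (Submodule.subset_span ⟨i', rfl⟩) (P'.ne_zero i')
  let σ : ι' ≃ ι' := e.trans e'
  have hpair : ∀ i' j', P'.pairing i' (σ j') = P.pairing (e i') (e j') := by
    intro i' j'
    show P'.toLinearMap (P'.root i') (P'.coroot (e' (e j'))) = _
    rw [← he', ← hfg, he]
    rfl
  have h2 : ∀ i', P'.pairing i' (σ i') = 2 := by
    intro i'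
    rw [hpair, P.pairing_same]
  have hle : ∀ i', len (σ i') ≤ len i' ∧ (len (σ i') = len i' → σ i' = i') := by
    intro i'
    have hset := P'.pairingIn_pairingIn_mem_set_of_isCrystallographic i' (σ i')
    have e1 : P'.pairingIn ℤ i' (σ i') = P'.pairing i' (σ i') := by
      simpa using P'.algebraMap_pairingIn ℤ i' (σ i')
    have e2 : P'.pairingIn ℤ (σ i') i' = P'.pairing (σ i') i' := by
      simpa using P'.algebraMap_pairingIn ℤ (σ i') i'
    rw [e1, e2, h2] at hset
    have hswap := B.pairing_mul_eq_pairing_mul_swap i' (σ i')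
    rw [h2] at hswap
    have hp1 := hlen_pos i'
    have hp2 := hlen_pos (σ i')
    simp only [Set.mem_insert_iff, Set.mem_singleton_iff, Prod.mk.injEq] at hset
    have hcases : P'.pairing (σ i') i' = 1 ∨ P'.pairing (σ i') i' = 2 := by omega
    rcases hcases with h | h
    · rw [h] at hswap
      have hswap' : 1 * len i' = 2 * len (σ i') := hswap
      constructor
      · omega
      · intro heq; omega
    · constructor
      · rw [h] at hswap
        have hswap' : 2 * len i' = 2 * len (σ i') := hswap
        omega
      · intro _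
        exact ((P'.pairing_two_two_iff i' (σ i')).mp ⟨h2 i', h⟩).symm
  have hsum : ∑ i', len (σ i') = ∑ i', len i' := Equiv.sum_comp σ len
  have hall : ∀ i' ∈ Finset.univ, len (σ i') = len i' :=
    (Finset.sum_eq_sum_iff_of_le (fun i' _ => (hle i').1)).mp hsum
  intro i'
  have hσ : σ i' = i' := (hle i').2 (hall i' (Finset.mem_univ _))
  rw [he']
  exact congrArg P'.coroot hσ

end Groth.Agent.S5473
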