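import Groth.Statements.S5474
import Groth.Agent.H27.RootAut
import Mathlib.LinearAlgebra.FreeModule.Finite.Quotient
import Mathlib.LinearAlgebra.FreeModule.PID

set_option autoImplicit false
open RootD

namespace Groth.Agent.S5474

/-- Every morphism between semisimple root data is an isogeny (injective on weight lattices with finite
cokernel). -/
theorem result {ι M N ι' M' N' : Type*} [AddCommGroup M] [AddCommGroup N] [AddCommGroup M'] [AddCommGroup N']
    (P : RootPairing ι ℤ M N) (P' : RootPairing ι' ℤ M' N') [Finite ι] [Finite ι']
    [Module.Finite ℤ M] [Module.Finite ℤ N] [Module.Finite ℤ M'] [Module.Finite ℤ N']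
    (hss : Module.finrank ℤ (Submodule.span ℤ (Set.range P.root)) = Module.finrank ℤ M)
    (hss' : Module.finrank ℤ (Submodule.span ℤ (Set.range P'.root)) = Module.finrank ℤ M')
    (f : RootPairing.Hom P' P) :
    Function.Injective f.weightMap ∧ Finite (M ⧸ LinearMap.range f.weightMap) := by
  have hRM' : Module.IsReflexive ℤ M' := .of_isPerfPair P'.toLinearMap
  have hRM : Module.IsReflexive ℤ M := .of_isPerfPair P.toLinearMap
  have htr : ∀ (m' : M') (x : N),
      P.toLinearMap (f.weightMap m') x = P'.toLinearMap m' (f.coweightMap x) := by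
    intro m' x
    have := LinearMap.congr_fun (RootPairing.Hom.weight_coweight_transpose_apply P' P x f) m'
    simpa using this
  constructor
  · rw [injective_iff_map_eq_zero]
    intro x hx
    have hfin : Finite (M' ⧸ Submodule.span ℤ (Set.range P'.root)) :=
      Submodule.finiteQuotientOfFreeOfRankEq _ hss'
    have hfin' : Finite (M' ⧸ (Submodule.span ℤ (Set.range P'.root)).toAddSubgroup) := hfin
    have hidx : (Submodule.span ℤ (Set.range P'.root)).toAddSubgroup.index ≠ 0 := by
      rw [AddSubgroup.index_eq_card]
      exact Nat.card_pos.ne'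
    have hnx : (Submodule.span ℤ (Set.range P'.root)).toAddSubgroup.index • x ∈
        Submodule.span ℤ (Set.range P'.root) :=
      AddSubgroup.nsmul_index_mem (Submodule.span ℤ (Set.range P'.root)).toAddSubgroup x
    have h0 : (Submodule.span ℤ (Set.range P'.root)).toAddSubgroup.index • x = 0 := by
      apply Groth.Agent.H27.eq_zero_of_mem_rootSpan_of_coroot_eq_zero P' hnx
      intro i'
      have h1 := htr ((Submodule.span ℤ (Set.range P'.root)).toAddSubgroup.index • x)
        (P.coroot (f.indexEquiv i'))
      rw [map_nsmul, hx, smul_zero, map_zero, LinearMap.zero_apply,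
        RootPairing.Hom.coroot_coweightMap_apply, Equiv.symm_apply_apply] at h1
      exact h1.symm
    exact Groth.Agent.H27.eq_zero_of_nsmul_eq_zero P' (Nat.pos_of_ne_zero hidx) h0
  · have hfin : Finite (M ⧸ Submodule.span ℤ (Set.range P.root)) :=
      Submodule.finiteQuotientOfFreeOfRankEq _ hss
    have hle : Submodule.span ℤ (Set.range P.root) ≤ LinearMap.range f.weightMap := by
      rw [Submodule.span_le]
      rintro _ ⟨i, rfl⟩
      exact ⟨P'.root (f.indexEquiv.symm i), by
        rw [RootPairing.Hom.root_weightMap_apply, Equiv.apply_symm_apply]⟩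
    exact Finite.of_surjective (Submodule.factor hle) (Submodule.factor_surjective hle)

end Groth.Agent.S5474
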