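import Groth.Statements.S5476
import Mathlib

set_option autoImplicit false
open RootD

namespace Groth.Agent.S5476


open Module in
theorem main_aux {ι M N : Type*} [AddCommGroup M] [AddCommGroup N]
    (P : RootPairing ι ℤ M N) [Fintype ι] [Module.Finite ℤ M] [Module.Finite ℤ N] :
    Module.finrank ℤ (⨅ i : ι, LinearMap.ker (P.coroot' i) : Submodule ℤ M) +
        Module.finrank ℤ (Submodule.span ℤ (Set.range P.root)) = Module.finrank ℤ M := by
  classical
  have hrefl : IsReflexive ℤ M := .of_isPerfPair P.toLinearMap
  have hK : (⨅ i : ι, LinearMap.ker (P.coroot' i) : Submodule ℤ M) = LinearMap.ker P.RootForm := by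
    ext x
    simp only [Submodule.mem_iInf, LinearMap.mem_ker]
    constructor
    · intro h
      ext y
      simp [RootPairing.rootForm_apply_apply, h]
    · intro h i
      have h0 : P.RootForm x x = 0 := by rw [h]; rfl
      rw [RootPairing.rootForm_apply_apply] at h0
      have := (Finset.sum_eq_zero_iff_of_nonneg (fun i _ => mul_self_nonneg _)).mp h0 i (Finset.mem_univ i)
      exact mul_self_eq_zero.mp this
  rw [hK]
  have hdisj := P.disjoint_rootSpan_ker_rootForm
  have hle : finrank ℤ (LinearMap.ker P.RootForm) + finrank ℤ (P.rootSpan ℤ) ≤ finrank ℤ M := by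
    have h1 := Submodule.rank_sup_add_rank_inf_eq (P.rootSpan ℤ) (LinearMap.ker P.RootForm)
    rw [hdisj.eq_bot] at h1
    simp only [rank_subsingleton', add_zero] at h1
    have h2 : finrank ℤ (P.rootSpan ℤ ⊔ LinearMap.ker P.RootForm : Submodule ℤ M) =
        finrank ℤ (P.rootSpan ℤ) + finrank ℤ (LinearMap.ker P.RootForm) := by
      rw [← Nat.cast_inj (R := Cardinal), Nat.cast_add, Submodule.finrank_eq_rank,
        Submodule.finrank_eq_rank, Submodule.finrank_eq_rank]
      exact h1
    have h3 := Submodule.finrank_le (P.rootSpan ℤ ⊔ LinearMap.ker P.RootForm : Submodule ℤ M)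
    omega
  have hge : finrank ℤ M ≤ finrank ℤ (LinearMap.ker P.RootForm) + finrank ℤ (P.rootSpan ℤ) := by
    have h1 := (LinearMap.ker P.Polarization).finrank_quotient_add_finrank
    rw [LinearEquiv.finrank_eq P.Polarization.quotKerEquivRange,
      P.ker_polarization_eq_ker_rootForm] at h1
    have h2 : finrank ℤ (LinearMap.range P.Polarization) ≤ finrank ℤ (P.corootSpan ℤ) := by
      apply Submodule.finrank_mono
      rintro _ ⟨x, rfl⟩
      rw [RootPairing.Polarization_apply]
      exact Submodule.sum_mem _ fun i _ => Submodule.smul_mem _ _ (Submodule.subset_span ⟨i, rfl⟩)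
    have h3 := P.finrank_corootSpan_eq'
    omega
  exact le_antisymm hle hge

/-- The lattice of the coradical (weights killed by every coroot) and the lattice of the radical
(coweights killed by every root) both have rank rgred - rgss, the rank of the weight lattice minus
the rank of the lattice generated by the roots; and the datum is semisimple (the roots span a
sublattice of full rank) if and only if the coradical lattice vanishes, if and only if the radical
lattice vanishes. -/
theorem result {ι M N : Type*} [AddCommGroup M] [AddCommGroup N]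
    (P : RootPairing ι ℤ M N) [Finite ι] [Module.Finite ℤ M] [Module.Finite ℤ N] :
    (Module.finrank ℤ (⨅ i : ι, LinearMap.ker (P.coroot' i) : Submodule ℤ M) +
        Module.finrank ℤ (Submodule.span ℤ (Set.range P.root)) = Module.finrank ℤ M) ∧
      (Module.finrank ℤ (⨅ i : ι, LinearMap.ker (P.root' i) : Submodule ℤ N) +
        Module.finrank ℤ (Submodule.span ℤ (Set.range P.root)) = Module.finrank ℤ M) ∧
      (Module.finrank ℤ (Submodule.span ℤ (Set.range P.root)) = Module.finrank ℤ M ↔
        (⨅ i : ι, LinearMap.ker (P.coroot' i) : Submodule ℤ M) = ⊥) ∧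
      (Module.finrank ℤ (Submodule.span ℤ (Set.range P.root)) = Module.finrank ℤ M ↔
        (⨅ i : ι, LinearMap.ker (P.root' i) : Submodule ℤ N) = ⊥) := by
  classical
  cases nonempty_fintype ι
  have hrefl : Module.IsReflexive ℤ M := .of_isPerfPair P.toLinearMap
  have hfree : Module.Free ℤ M := inferInstance
  have hMN : Module.finrank ℤ M = Module.finrank ℤ N := Module.finrank_of_isPerfPair P.toLinearMap
  have h1 := main_aux P
  have h2' := main_aux P.flip
  have hflipK : (⨅ i : ι, LinearMap.ker (P.flip.coroot' i) : Submodule ℤ N) =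
      (⨅ i : ι, LinearMap.ker (P.root' i) : Submodule ℤ N) := by
    congr 1
  have hspan : Module.finrank ℤ (Submodule.span ℤ (Set.range P.flip.root)) =
      Module.finrank ℤ (Submodule.span ℤ (Set.range P.root)) := P.finrank_corootSpan_eq'
  rw [hflipK, hspan, ← hMN] at h2'
  have hreflN : Module.IsReflexive ℤ N := .of_isPerfPair P.flip.toLinearMap
  refine ⟨h1, h2', ?_, ?_⟩
  · rw [← Submodule.finrank_eq_zero (R := ℤ)]
    omega
  · rw [← Submodule.finrank_eq_zero (R := ℤ)]
    omega

end Groth.Agent.S5476
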