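import Groth.Statements.S5483
import Groth.Agent.H28.RootSimple

set_option autoImplicit false
open RootD

namespace Groth.Agent.S5483

open Groth.Agent.H28

theorem pos_case {ι M N : Type*} [AddCommGroup M] [AddCommGroup N]
    (P : RootPairing ι ℤ M N) [Finite ι] (Δ Δ' : Set ι) (hΔ : RootD.IsSimpleSys P Δ)
    (horth : ∀ i ∈ Δ', ∀ j ∈ Δ \ Δ', P.IsOrthogonal i j) :
    ∀ n : ℕ, ∀ (k : ι) (s : Multiset ι), (∀ i ∈ s, i ∈ Δ) → P.root k = (s.map P.root).sum →
      s.card = n → (∀ i ∈ s, i ∈ Δ') ∨ (∀ i ∈ s, i ∈ Δ \ Δ') := by
  intro n
  induction n with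
  | zero =>
    intro k s hs hk hcard
    rw [Multiset.card_eq_zero] at hcard
    subst hcard
    left
    intro i hi
    simp at hi
  | succ n ih =>
    intro k s hs hk hcard
    by_cases hkΔ : k ∈ Δ
    · have hu : msF s = msF ({k} : Multiset ι) :=
        msF_unique hΔ hs (by simpa using hkΔ) (by simpa using hk.symm)
      have hall : ∀ i ∈ s, i = k := by
        intro i hi
        by_contra hne
        have h1 := one_le_msF_of_mem hi
        rw [hu] at h1
        have : msF ({k} : Multiset ι) i = 0 := msF_eq_zero_of_not_mem (by simpa using hne)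
        omega
      by_cases hk' : k ∈ Δ'
      · left
        intro i hi
        rw [hall i hi]
        exact hk'
      · right
        intro i hi
        rw [hall i hi]
        exact ⟨hkΔ, hk'⟩
    · obtain ⟨a, has, hpos, k', hk'⟩ := sub_simple (P := P) k s hs hk hkΔ
      obtain ⟨t, rfl⟩ := Multiset.exists_cons_of_mem has
      have ht : ∀ i ∈ t, i ∈ Δ := fun i hi => hs i (Multiset.mem_cons_of_mem hi)
      have haΔ : a ∈ Δ := hs a (Multiset.mem_cons_self a t)
      have hk't : P.root k' = (t.map P.root).sum := by
        rw [hk', hk, Multiset.map_cons, Multiset.sum_cons]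
        abel
      have hcard' : t.card = n := by simpa using hcard
      have hkroot : P.root k' + P.root a = P.root k := by
        rw [hk']
        abel
      have hcontra : a ∉ t → (∀ b ∈ t, P.IsOrthogonal b a) → False := by
        intro hat hall
        have htne : t ≠ 0 := by
          rintro rfl
          simp at hk't
          exact P.ne_zero k' hk't
        obtain ⟨b, hb⟩ := Multiset.exists_mem_of_ne_zero htne
        have hp0 : P.pairing k' a = 0 := by
          rw [← P.root_coroot'_eq_pairing, hk't, coroot'_multiset_sum]
          apply Multiset.sum_eq_zero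
          intro x hx
          obtain ⟨c, hc, rfl⟩ := Multiset.mem_map.1 hx
          exact (hall c hc).1
        have horth' : P.IsOrthogonal k' a := ⟨hp0, P.pairing_eq_zero_iff'.1 hp0⟩
        obtain ⟨k'', hk''⟩ := (Groth.Agent.S5486.result P k' a horth').1 ⟨k, hkroot.symm⟩
        exact mixed_false hΔ k'' t ht a haΔ hat b hb (by rw [hk'', hk't])
      rcases ih k' t ht hk't hcard' with h | h
      · by_cases ha' : a ∈ Δ'
        · left
          intro i hi
          rcases Multiset.mem_cons.1 hi with rfl | hi
          · exact ha'
          · exact h i hi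
        · exfalso
          apply hcontra
          · intro hat
            exact ha' (h a hat)
          · intro b hb
            exact horth b (h b hb) a ⟨haΔ, ha'⟩
      · by_cases ha' : a ∈ Δ'
        · exfalso
          apply hcontra
          · intro hat
            exact (h a hat).2 ha'
          · intro b hb
            have := horth a ha' b (h b hb)
            exact ⟨this.2, this.1⟩
        · right
          intro i hi
          rcases Multiset.mem_cons.1 hi with rfl | hi
          · exact ⟨haΔ, ha'⟩
          · exact h i hi

/-- If a system of simple roots Δ is the disjoint union of two mutually orthogonal subsets Δ', Δ'', then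
R_{Δ'} and R_{Δ''} partition the set of roots. -/
theorem result {ι M N : Type*} [AddCommGroup M] [AddCommGroup N]
    (P : RootPairing ι ℤ M N) [Finite ι] (Δ Δ' : Set ι) (hΔ : RootD.IsSimpleSys P Δ)
    (hsub : Δ' ⊆ Δ) (horth : ∀ i ∈ Δ', ∀ j ∈ Δ \ Δ', P.IsOrthogonal i j) (k : ι) :
    (k ∈ RootD.inSpan P Δ' ∨ k ∈ RootD.inSpan P (Δ \ Δ')) ∧
      ¬ (k ∈ RootD.inSpan P Δ' ∧ k ∈ RootD.inSpan P (Δ \ Δ')) := by
  constructor
  · rcases hΔ.mem_or_neg_mem k with h | h
    · obtain ⟨s, hs, hsum⟩ := exists_multiset_of_mem_natSpan P h
      rcases pos_case P Δ Δ' hΔ horth _ k s hs hsum rfl with h' | h'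
      · left
        show P.root k ∈ Submodule.span ℤ (P.root '' Δ')
        rw [hsum]
        exact multiset_sum_mem_span s h'
      · right
        show P.root k ∈ Submodule.span ℤ (P.root '' (Δ \ Δ'))
        rw [hsum]
        exact multiset_sum_mem_span s h'
    · obtain ⟨s, hs, hsum⟩ := exists_multiset_of_mem_natSpan P h
      have hneg : P.root (P.reflectionPerm k k) = (s.map P.root).sum := by
        rw [root_neg, hsum]
      have hk : P.root k = -(s.map P.root).sum := by rw [← hsum, neg_neg]
      rcases pos_case P Δ Δ' hΔ horth _ _ s hs hneg rfl with h' | h'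
      · left
        show P.root k ∈ Submodule.span ℤ (P.root '' Δ')
        rw [hk]
        exact Submodule.neg_mem _ (multiset_sum_mem_span s h')
      · right
        show P.root k ∈ Submodule.span ℤ (P.root '' (Δ \ Δ'))
        rw [hk]
        exact Submodule.neg_mem _ (multiset_sum_mem_span s h')
  · rintro ⟨h1, h2⟩
    have := eq_zero_of_mem_span_of_mem_span hΔ hsub Set.sdiff_subset Set.disjoint_sdiff_right h1 h2
    exact P.ne_zero k this

end Groth.Agent.S5483
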