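import Groth.Statements.S5497
-- import your own Groth.Agent.* helpers here

set_option autoImplicit false
open RootD

namespace Groth.Agent.S5497

/-- For a partition of the roots into two closed symmetric subsets, whenever α, β, α + β are roots they
lie in the same part. -/
theorem result {ι M N : Type*} [AddCommGroup M] [AddCommGroup N]
    (P : RootPairing ι ℤ M N) [Finite ι] (R' : Set ι) (hc : RootD.IsClosedSub P R')
    (hs : RootD.IsSymmSub P R') (hc' : RootD.IsClosedSub P R'ᶜ) (hs' : RootD.IsSymmSub P R'ᶜ)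
    (i j k : ι) (h : P.root k = P.root i + P.root j) :
    (i ∈ R' ∧ j ∈ R' ∧ k ∈ R') ∨ (i ∉ R' ∧ j ∉ R' ∧ k ∉ R') := by
  have hneg : ∀ a : ι, P.root (P.reflectionPerm a a) = -P.root a := fun a => by
    rw [P.root_reflectionPerm, P.reflection_apply_self]
  by_cases hi : i ∈ R' <;> by_cases hj : j ∈ R'
  · exact Or.inl ⟨hi, hj, hc hi hj h⟩
  · exfalso
    by_cases hk : k ∈ R'
    · apply hj
      refine hc hk (hs hi) ?_
      rw [hneg, h]; abel
    · apply (show i ∉ R' from ?_) hi
      have : i ∈ R'ᶜ := by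
        refine hc' (show k ∈ R'ᶜ from hk) (hs' (show j ∈ R'ᶜ from hj)) ?_
        rw [hneg, h]; abel
      exact this
  · exfalso
    by_cases hk : k ∈ R'
    · apply hi
      refine hc hk (hs hj) ?_
      rw [hneg, h]; abel
    · apply (show j ∉ R' from ?_) hj
      have : j ∈ R'ᶜ := by
        refine hc' (show k ∈ R'ᶜ from hk) (hs' (show i ∈ R'ᶜ from hi)) ?_
        rw [hneg, h]; abel
      exact this
  · exact Or.inr ⟨hi, hj, hc' (show i ∈ R'ᶜ from hi) (show j ∈ R'ᶜ from hj) h⟩

end Groth.Agent.S5497
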