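import Groth.Statements.S5505
import Groth.Agent.H28.RootBasics
import Groth.Agent.S5497

set_option autoImplicit false
open RootD

namespace Groth.Agent.S5505

/-- A subset of roots which, together with its complement, is closed and symmetric contains with any
root every root not orthogonal to it; so it is a union of irreducible components. -/
theorem result {ι M N : Type*} [AddCommGroup M] [AddCommGroup N]
    (P : RootPairing ι ℤ M N) [Finite ι] (R' : Set ι) (hc : RootD.IsClosedSub P R')
    (hs : RootD.IsSymmSub P R') (hc' : RootD.IsClosedSub P R'ᶜ) (hs' : RootD.IsSymmSub P R'ᶜ)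
    (i j : ι) (hi : i ∈ R') (hij : ¬ P.IsOrthogonal i j) : j ∈ R' := by
  have hM : Module.IsReflexive ℤ M := Groth.Agent.H28.isReflexive_left P
  have hq : P.pairing i j ≠ 0 := by
    intro h0
    exact hij ⟨h0, (P.pairing_eq_zero_iff).1 h0⟩
  by_cases hne : i = j
  · exact hne ▸ hi
  by_cases hneg : P.root i = -P.root j
  · have : j = P.reflectionPerm i i := by
      apply P.root.injective
      rw [Groth.Agent.H28.root_neg, hneg, neg_neg]
    rw [this]
    exact hs hi
  rcases lt_or_gt_of_ne hq with hlt | hgt
  · obtain ⟨k, hk⟩ := Groth.Agent.H28.root_add_root_mem_of_pairing_neg P hlt hneg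
    rcases Groth.Agent.S5497.result P R' hc hs hc' hs' i j k hk with h | h
    · exact h.2.1
    · exact absurd hi h.1
  · obtain ⟨k, hk⟩ := Groth.Agent.H28.root_sub_root_mem_of_pairing_pos P hgt hne
    rcases Groth.Agent.S5497.result P R' hc hs hc' hs' k j i (by rw [hk]; abel) with h | h
    · exact h.2.1
    · exact absurd hi h.2.2

end Groth.Agent.S5505
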