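import Groth.Statements.S5482
import Groth.Agent.H28.RootSimple
import Groth.Agent.S5483
import Groth.Agent.S5490
import Groth.Agent.S5505

set_option autoImplicit false
open RootD

namespace Groth.Agent.S5482

open Groth.Agent.H28

theorem mem_of_inSpan {ι M N : Type*} [AddCommGroup M] [AddCommGroup N]
    {P : RootPairing ι ℤ M N} [Finite ι] {Δ : Set ι} (hΔ : RootD.IsSimpleSys P Δ)
    (S T : Set ι) (hSΔ : S ⊆ Δ) (hST : S ⊆ T) (hc : RootD.IsClosedSub P T)
    (hs : RootD.IsSymmSub P T) (k : ι) (hk : k ∈ RootD.inSpan P S) : k ∈ T := by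
  have hcl := (Groth.Agent.S5490.result P T).1 hc
  obtain ⟨c, hc', hck⟩ := (Finsupp.mem_span_image_iff_linearCombination ℤ).1 hk
  have key : ∀ (k' : ι) (s : Multiset ι), (∀ i ∈ s, i ∈ Δ) → P.root k' = (s.map P.root).sum →
      ∀ c' ∈ Finsupp.supported ℤ ℤ S, Finsupp.linearCombination ℤ P.root c' = P.root k' →
        k' ∈ T := by
    intro k' s hs' hsum c' hc' hck'
    have hu : msF s = c' := coeff_unique hΔ (msF_supported s hs')
      (Finsupp.supported_mono hSΔ hc') (by rw [linearCombination_msF, ← hsum, hck'])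
    apply hcl
    rw [hsum]
    apply multiset_sum_mem_natSpan
    intro i hi
    apply hST
    have h1 := one_le_msF_of_mem hi
    rw [hu] at h1
    have : i ∈ c'.support := Finsupp.mem_support_iff.2 (by omega)
    exact (Finsupp.mem_supported _ _).1 hc' this
  rcases hΔ.mem_or_neg_mem k with h | h
  · obtain ⟨s, hs', hsum⟩ := exists_multiset_of_mem_natSpan P h
    exact key k s hs' hsum c hc' hck
  · obtain ⟨s, hs', hsum⟩ := exists_multiset_of_mem_natSpan P h
    have h1 : P.reflectionPerm k k ∈ T :=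
      key (P.reflectionPerm k k) s hs' (by rw [root_neg, hsum]) (-c) (neg_mem hc')
        (by rw [map_neg, hck, root_neg])
    have h2 := hs h1
    have : P.reflectionPerm (P.reflectionPerm k k) (P.reflectionPerm k k) = k := by
      apply P.root.injective
      rw [root_neg, root_neg, neg_neg]
    rwa [this] at h2

/-- If the roots are partitioned into two closed symmetric subsets R', R'', then with Δ' = Δ ∩ R', Δ'' =
Δ ∩ R'' for a system of simple roots Δ one has R' = R_{Δ'}, R'' = R_{Δ''}, and Δ' is orthogonal to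
Δ''. -/
theorem result {ι M N : Type*} [AddCommGroup M] [AddCommGroup N]
    (P : RootPairing ι ℤ M N) [Finite ι] (Δ : Set ι) (hΔ : RootD.IsSimpleSys P Δ) (R' : Set ι)
    (hc : RootD.IsClosedSub P R') (hs : RootD.IsSymmSub P R') (hc' : RootD.IsClosedSub P R'ᶜ)
    (hs' : RootD.IsSymmSub P R'ᶜ) :
    R' = RootD.inSpan P (Δ ∩ R') ∧ R'ᶜ = RootD.inSpan P (Δ \ R') ∧
      ∀ i ∈ Δ ∩ R', ∀ j ∈ Δ \ R', P.IsOrthogonal i j := by
  have horth : ∀ i ∈ Δ ∩ R', ∀ j ∈ Δ \ R', P.IsOrthogonal i j := by
    intro i hi j hj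
    by_contra h
    exact hj.2 (Groth.Agent.S5505.result P R' hc hs hc' hs' i j hi.2 h)
  have hdiff : Δ \ (Δ ∩ R') = Δ \ R' := Set.sdiff_self_inter
  have h83 : ∀ k, (k ∈ RootD.inSpan P (Δ ∩ R') ∨ k ∈ RootD.inSpan P (Δ \ R')) := by
    intro k
    have := (Groth.Agent.S5483.result P Δ (Δ ∩ R') hΔ Set.inter_subset_left
      (by rw [hdiff]; exact horth) k).1
    rwa [hdiff] at this
  refine ⟨?_, ?_, horth⟩
  · ext k
    constructor
    · intro hk
      rcases h83 k with h | h
      · exact h
      · exfalso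
        exact (mem_of_inSpan hΔ (Δ \ R') R'ᶜ Set.sdiff_subset (fun x hx => hx.2) hc' hs' k h) hk
    · intro hk
      exact mem_of_inSpan hΔ (Δ ∩ R') R' Set.inter_subset_left Set.inter_subset_right hc hs k hk
  · ext k
    constructor
    · intro hk
      rcases h83 k with h | h
      · exfalso
        exact hk (mem_of_inSpan hΔ (Δ ∩ R') R' Set.inter_subset_left Set.inter_subset_right
          hc hs k h)
      · exact h
    · intro hk
      exact mem_of_inSpan hΔ (Δ \ R') R'ᶜ Set.sdiff_subset (fun x hx => hx.2) hc' hs' k hk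

end Groth.Agent.S5482
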