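import Groth.Statements.S5485
import Groth.Agent.H28.RootDual

set_option autoImplicit false
open RootD

namespace Groth.Agent.S5485

open Groth.Agent.H28

section helpers

variable {ι M N : Type*} [AddCommGroup M] [AddCommGroup N] {P : RootPairing ι ℤ M N}

/-- The set `ind(Δ^v)` of the statement. -/
def indSet (P : RootPairing ι ℤ M N) (Δ : Set ι) : Set ι :=
  {j : ι | ∃ i ∈ Δ, (j = i ∧ RootD.IsIndiv P.flip i) ∨ (2 : ℤ) • P.coroot j = P.coroot i}

theorem simple_coroot_mem {Δ : Set ι} {a : ι} (ha : a ∈ Δ) :
    P.coroot a ∈ AddSubmonoid.closure (P.coroot '' indSet P Δ) := by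
  by_cases hind : RootD.IsIndiv P.flip a
  · exact AddSubmonoid.subset_closure ⟨a, ⟨a, ha, Or.inl ⟨rfl, hind⟩⟩, rfl⟩
  · unfold RootD.IsIndiv at hind
    push Not at hind
    obtain ⟨j, hj⟩ := hind
    have hj' : (2 : ℤ) • P.coroot j = P.coroot a := hj
    have hmem : P.coroot j ∈ AddSubmonoid.closure (P.coroot '' indSet P Δ) :=
      AddSubmonoid.subset_closure ⟨j, ⟨a, ha, Or.inr hj'⟩, rfl⟩
    rw [← hj', two_smul]
    exact add_mem hmem hmem

/-- If all simple roots in the support of a positive root `k` equal `a`, then `k` is `a` or `2a`. -/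
theorem root_eq_or_of_forall_eq (k : ι) (s : Multiset ι) (hk : P.root k = (s.map P.root).sum)
    (a : ι) (has : a ∈ s) (hall : ∀ b ∈ s, b = a) :
    P.root k = P.root a ∨ P.root k = (2 : ℤ) • P.root a := by
  have hs_eq : s = Multiset.replicate s.card a := Multiset.eq_replicate_card.2 hall
  have hroot : P.root k = s.card • P.root a := by
    rw [hk]
    conv_lhs => rw [hs_eq]
    simp [Multiset.map_replicate, Multiset.sum_replicate]
  have h2 : (2 : ℤ) = s.card * P.pairing a k := by
    have := congrArg (P.coroot' k) hroot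
    rw [map_nsmul, P.root_coroot'_eq_pairing, P.root_coroot'_eq_pairing, P.pairing_same,
      nsmul_eq_mul] at this
    exact this
  have hc12 : s.card = 1 ∨ s.card = 2 := by
    have hc_pos : 0 < s.card := Multiset.card_pos_iff_exists_mem.2 ⟨a, has⟩
    have hdvd : (s.card : ℤ) ∣ 2 := ⟨_, h2⟩
    have hle := Int.le_of_dvd (by norm_num) hdvd
    omega
  rcases hc12 with h1 | h1
  · left
    rw [hroot, h1, one_smul]
  · right
    rw [hroot, h1]
    norm_cast

/-- Reflecting a positive root in a simple root of its support keeps it positive, with fewer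
simple summands, if the support contains another simple root. -/
theorem reflection_pos_smaller [Finite ι] {Δ : Set ι} (hΔ : RootD.IsSimpleSys P Δ) (k : ι)
    (s : Multiset ι) (hs : ∀ i ∈ s, i ∈ Δ) (hk : P.root k = (s.map P.root).sum) (a : ι)
    (has : a ∈ s) (hpos : 0 < P.pairing a k) (b : ι) (hbs : b ∈ s) (hba : b ≠ a) :
    ∃ r : Multiset ι, (∀ i ∈ r, i ∈ Δ) ∧ P.root (P.reflectionPerm a k) = (r.map P.root).sum ∧
      r.card < s.card := by
  have haΔ := hs a has
  have hmpos : 0 < P.pairing k a := (pairing_pos_iff a k).1 hpos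
  have hroot₁ : P.root (P.reflectionPerm a k) =
      (s.map P.root).sum - P.pairing k a • P.root a := by
    rw [P.root_reflectionPerm, P.reflection_apply, P.root_coroot'_eq_pairing, hk]
  have hab : (Finsupp.single a (1 : ℤ)) b = 0 := Finsupp.single_eq_of_ne hba
  rcases hΔ.mem_or_neg_mem (P.reflectionPerm a k) with h | h
  swap
  · exfalso
    obtain ⟨r, hr, hsum⟩ := exists_multiset_of_mem_natSpan P h
    have h0 : P.pairing k a • Finsupp.single a (1 : ℤ) - msF s = msF r := by
      apply coeff_unique hΔ (sub_mem (Submodule.smul_mem _ _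
        (Finsupp.single_mem_supported ℤ 1 haΔ)) (msF_supported s hs)) (msF_supported r hr)
      rw [map_sub, map_smul, linearCombination_msF, linearCombination_msF, ← hsum, hroot₁]
      simp
    have h1 := DFunLike.congr_fun h0 b
    simp only [Finsupp.coe_sub, Finsupp.coe_smul, Pi.sub_apply, Pi.smul_apply, hab,
      smul_zero, zero_sub] at h1
    have := msF_nonneg r b
    have := one_le_msF_of_mem hbs
    omega
  · obtain ⟨r, hr, hsum⟩ := exists_multiset_of_mem_natSpan P h
    have h0 : msF s - P.pairing k a • Finsupp.single a (1 : ℤ) = msF r := by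
      apply coeff_unique hΔ (sub_mem (msF_supported s hs) (Submodule.smul_mem _ _
        (Finsupp.single_mem_supported ℤ 1 haΔ))) (msF_supported r hr)
      rw [map_sub, map_smul, linearCombination_msF, linearCombination_msF, ← hsum, hroot₁]
      simp
    have hcardr : (r.card : ℤ) = s.card - P.pairing k a := by
      have := congrArg htF h0
      rw [map_sub, map_smul, htF_msF, htF_msF, htF_single, smul_eq_mul, mul_one] at this
      exact this.symm
    exact ⟨r, hr, hsum, by omega⟩

/-- The coroot of a positive root is a non-negative combination of `ind(Δ^v)`. -/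
theorem coroot_mem_of_pos [Finite ι] {Δ : Set ι} (hΔ : RootD.IsSimpleSys P Δ) :
    ∀ n : ℕ, ∀ (k : ι) (s : Multiset ι), (∀ i ∈ s, i ∈ Δ) → P.root k = (s.map P.root).sum →
      s.card = n → P.coroot k ∈ AddSubmonoid.closure (P.coroot '' indSet P Δ) := by
  have hM' : IsAddTorsionFree M :=
    have : Module.IsReflexive ℤ M := .of_isPerfPair P.toLinearMap
    .of_isTorsionFree ℤ M
  have hN' : IsAddTorsionFree N :=
    have : Module.IsReflexive ℤ N := .of_isPerfPair P.flip.toLinearMap
    .of_isTorsionFree ℤ N
  intro n
  induction n using Nat.strong_induction_on with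
  | _ n ih =>
    intro k s hs hk hcard
    by_cases hkΔ : k ∈ Δ
    · exact simple_coroot_mem hkΔ
    · obtain ⟨a, has, hpos, -⟩ := sub_simple (P := P) k s hs hk hkΔ
      have haΔ := hs a has
      by_cases hall : ∀ b ∈ s, b = a
      · rcases root_eq_or_of_forall_eq k s hk a has hall with h | h
        · exact absurd (P.root.injective h ▸ haΔ) hkΔ
        · have hco : P.coroot a = (2 : ℤ) • P.coroot k :=
            (RootPairing.coroot_eq_smul_coroot_iff).2 h
          exact AddSubmonoid.subset_closure ⟨k, ⟨a, haΔ, Or.inr hco.symm⟩, rfl⟩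
      · push Not at hall
        obtain ⟨b, hbs, hba⟩ := hall
        obtain ⟨r, hr, hsum, hlt⟩ := reflection_pos_smaller hΔ k s hs hk a has hpos b hbs hba
        have ih' := ih r.card (hcard ▸ hlt) (P.reflectionPerm a k) r hr hsum rfl
        rw [P.coroot_reflectionPerm, P.coreflection_apply, P.root'_coroot_eq_pairing] at ih'
        have hsplit : P.coroot k = (P.coroot k - P.pairing a k • P.coroot a) +
            (P.pairing a k).toNat • P.coroot a := by
          have : ((P.pairing a k).toNat : ℤ) = P.pairing a k := Int.toNat_of_nonneg hpos.le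
          rw [← natCast_zsmul, this]
          abel
        rw [hsplit]
        exact add_mem ih' (AddSubmonoid.nsmul_mem _ (simple_coroot_mem haΔ) _)

end helpers

/-- If Δ is a system of simple roots then ind(Δ^v), the set of coroots of Δ with each divisible coroot
replaced by its half, is a system of simple coroots (a system of simple roots of the dual datum). -/
theorem result {ι M N : Type*} [AddCommGroup M] [AddCommGroup N]
    (P : RootPairing ι ℤ M N) [Finite ι] (Δ : Set ι) (hΔ : RootD.IsSimpleSys P Δ) :
    RootD.IsSimpleSys P.flip {j : ι | ∃ i ∈ Δ, (j = i ∧ RootD.IsIndiv P.flip i) ∨ (2 : ℤ) • P.coroot j = P.coroot i} := by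
  classical
  let _ : Fintype ι := Fintype.ofFinite ι
  have hN' : IsAddTorsionFree N :=
    have : Module.IsReflexive ℤ N := .of_isPerfPair P.flip.toLinearMap
    .of_isTorsionFree ℤ N
  show RootD.IsSimpleSys P.flip (indSet P Δ)
  refine ⟨?_, ?_⟩
  · -- linear independence
    have hch : ∀ j : ι, ∃ (i : ι) (d : ℤ), j ∈ indSet P Δ → (i ∈ Δ ∧ (d = 1 ∨ d = 2) ∧
        (2 : ℤ) • P.coroot j = d • P.coroot i ∧ (d = 2 → RootD.IsIndiv P.flip i)) := by
      intro j
      by_cases hj : j ∈ indSet P Δ
      · obtain ⟨i, hi, h | h⟩ := hj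
        · exact ⟨i, 2, fun _ => ⟨hi, Or.inr rfl, by rw [h.1], fun _ => h.2⟩⟩
        · exact ⟨i, 1, fun _ => ⟨hi, Or.inl rfl, by rw [one_smul]; exact h, fun h2 => by omega⟩⟩
      · exact ⟨j, 0, fun h => absurd h hj⟩
    choose I d hId using hch
    have hinj : ∀ j ∈ indSet P Δ, ∀ j' ∈ indSet P Δ, I j = I j' → j = j' := by
      intro j hj j' hj' hII
      obtain ⟨-, hd, h2, hind⟩ := hId j hj
      obtain ⟨-, hd', h2', hind'⟩ := hId j' hj'
      rw [← hII] at h2' hind'
      rcases hd with hd | hd <;> rcases hd' with hd' | hd'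
      · rw [hd] at h2
        rw [hd', ← h2] at h2'
        exact (P.coroot.injective (smul_right_injective N (two_ne_zero (α := ℤ)) h2')).symm
      · exfalso
        rw [hd, one_smul] at h2
        exact hind' hd' j h2
      · exfalso
        rw [hd', one_smul] at h2'
        exact hind hd j' h2'
      · rw [hd] at h2
        rw [hd', ← h2] at h2'
        exact (P.coroot.injective (smul_right_injective N (two_ne_zero (α := ℤ)) h2')).symm
    rw [linearIndepOn_iff]
    intro l hl hl0
    have hx0 : ∀ j, j ∉ indSet P Δ → l j = 0 := by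
      intro j hj
      by_contra hne
      exact hj ((Finsupp.mem_supported _ _).1 hl (Finsupp.mem_support_iff.2 hne))
    have hsum : ∑ j, l j • P.coroot j = 0 := by
      have := hl0
      rw [Finsupp.linearCombination_apply, Finsupp.sum_fintype _ _ (by simp)] at this
      exact this
    -- reindex
    set f : ι → ℤ := fun a => ∑ j, if I j = a then l j * d j else 0 with hf
    have hfsum : ∑ a, f a • P.coroot a = 0 := by
      have h1 : ∑ a, f a • P.coroot a = ∑ j, (l j * d j) • P.coroot (I j) := by
        simp only [hf, Finset.sum_smul]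
        rw [Finset.sum_comm]
        refine Finset.sum_congr rfl fun j _ => ?_
        simp only [ite_smul, zero_smul, Finset.sum_ite_eq, Finset.mem_univ, if_true]
      have h2 : ∑ j, (l j * d j) • P.coroot (I j) = (2 : ℤ) • ∑ j, l j • P.coroot j := by
        rw [Finset.smul_sum]
        refine Finset.sum_congr rfl fun j _ => ?_
        by_cases hj : j ∈ indSet P Δ
        · rw [mul_smul, ← (hId j hj).2.2.1, smul_comm]
        · rw [hx0 j hj, zero_mul, zero_smul, zero_smul, smul_zero]
      rw [h1, h2, hsum, smul_zero]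
    have hfΔ : ∀ a, a ∉ Δ → f a = 0 := by
      intro a ha
      simp only [hf]
      apply Finset.sum_eq_zero
      intro j _
      by_cases hj : j ∈ indSet P Δ
      · have : I j ≠ a := fun e => ha (e ▸ (hId j hj).1)
        simp [this]
      · simp [hx0 j hj]
    have hf0 := lin_coroot hΔ f hfΔ hfsum
    ext j₀
    by_cases hj₀ : j₀ ∈ indSet P Δ
    · have h1 : f (I j₀) = l j₀ * d j₀ := by
        simp only [hf]
        rw [Finset.sum_eq_single j₀]
        · simp
        · intro j _ hjne
          by_cases hj : j ∈ indSet P Δ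
          · have : I j ≠ I j₀ := fun e => hjne (hinj j hj j₀ hj₀ e)
            simp [this]
          · simp [hx0 j hj]
        · intro h
          exact absurd (Finset.mem_univ _) h
      have h2 : f (I j₀) = 0 := congrFun hf0 (I j₀)
      rw [h1] at h2
      have hd0 : d j₀ ≠ 0 := by
        rcases (hId j₀ hj₀).2.1 with h | h <;> omega
      simpa using (mul_eq_zero.1 h2).resolve_right hd0
    · simpa using hx0 j₀ hj₀
  · intro k
    show P.coroot k ∈ AddSubmonoid.closure (P.coroot '' indSet P Δ) ∨
      -P.coroot k ∈ AddSubmonoid.closure (P.coroot '' indSet P Δ)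
    rcases hΔ.mem_or_neg_mem k with h | h
    · obtain ⟨s, hs, hsum⟩ := exists_multiset_of_mem_natSpan P h
      exact Or.inl (coroot_mem_of_pos hΔ _ k s hs hsum rfl)
    · obtain ⟨s, hs, hsum⟩ := exists_multiset_of_mem_natSpan P h
      right
      have := coroot_mem_of_pos hΔ _ (P.reflectionPerm k k) s hs (by rw [root_neg, hsum]) rfl
      have hneg : P.coroot (P.reflectionPerm k k) = -P.coroot k := root_neg P.flip k
      rwa [hneg] at this

end Groth.Agent.S5485
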