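import Groth.Statements.S5487
import Mathlib.LinearAlgebra.RootSystem.Finite.Nondegenerate
-- import your own Groth.Agent.* helpers here

set_option autoImplicit false
open RootD

namespace Groth.Agent.S5487

/-- For non-orthogonal roots α, β one has ℓ(α) ℓ(α^v) = ℓ(β) ℓ(β^v), where ℓ is the canonical quadratic
form of the datum and of its dual. -/
theorem result {ι M N : Type*} [AddCommGroup M] [AddCommGroup N]
    (P : RootPairing ι ℤ M N) [Finite ι] [Fintype ι] (i j : ι) (h : ¬ P.IsOrthogonal i j) :
    P.RootForm (P.root i) (P.root i) * P.CorootForm (P.coroot i) (P.coroot i) =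
      P.RootForm (P.root j) (P.root j) * P.CorootForm (P.coroot j) (P.coroot j) := by
  have : Module.IsReflexive ℤ M := .of_isPerfPair P.toLinearMap
  have e1 := P.toInvariantForm.pairing_mul_eq_pairing_mul_swap i j
  have e2 := P.flip.toInvariantForm.pairing_mul_eq_pairing_mul_swap i j
  simp only [RootPairing.toInvariantForm_form, RootPairing.pairing_flip] at e1 e2
  have hne : P.pairing i j ≠ 0 ∧ P.pairing j i ≠ 0 := by
    by_contra hcon
    apply h
    rw [not_and_or, not_not, not_not] at hcon
    rcases hcon with h0 | h0
    · exact ⟨h0, (P.pairing_eq_zero_iff).1 h0⟩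
    · exact ⟨(P.pairing_eq_zero_iff).1 h0, h0⟩
  have hne' : P.pairing i j * P.pairing j i ≠ 0 := mul_ne_zero hne.1 hne.2
  apply mul_left_cancel₀ hne'
  have e2' : P.pairing i j * P.CorootForm (P.coroot i) (P.coroot i) =
      P.pairing j i * P.CorootForm (P.coroot j) (P.coroot j) := e2
  calc P.pairing i j * P.pairing j i * (P.RootForm (P.root i) (P.root i) * P.CorootForm (P.coroot i) (P.coroot i))
      = (P.pairing j i * P.RootForm (P.root i) (P.root i)) * (P.pairing i j * P.CorootForm (P.coroot i) (P.coroot i)) := by ring
    _ = (P.pairing i j * P.RootForm (P.root j) (P.root j)) * (P.pairing j i * P.CorootForm (P.coroot j) (P.coroot j)) := by rw [e1, e2']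
    _ = _ := by ring

end Groth.Agent.S5487
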