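import Groth.Statements.S5491
-- import your own Groth.Agent.* helpers here

set_option autoImplicit false
open RootD

namespace Groth.Agent.S5491

section aux

variable {ι M N : Type*} [AddCommGroup M] [AddCommGroup N]

theorem height_refl_self (P : RootPairing ι ℤ M N) (b : P.Base) (a : ι) :
    b.height (P.reflectionPerm a a) = - b.height a :=
  b.height_reflectionPerm_self a

open Classical in
theorem sum_simple (P : RootPairing ι ℤ M N) [Finite ι] [Fintype ι] [P.IsReduced] (b : P.Base)
    (a : ι) (ha : a ∈ b.support) :
    (∑ j, if b.IsPos j then P.pairing a j else 0) = 2 := by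
  have hapos : b.IsPos a := b.isPos_of_mem_support ha
  rw [← Finset.sum_filter]
  have hmem : a ∈ Finset.univ.filter (fun j => b.IsPos j) := by simp [hapos]
  rw [← Finset.add_sum_erase _ _ hmem, P.pairing_same]
  have hstab : ∀ j ∈ (Finset.univ.filter (fun j => b.IsPos j)).erase a,
      P.reflectionPerm a j ∈ (Finset.univ.filter (fun j => b.IsPos j)).erase a := by
    intro j hj
    simp only [Finset.mem_erase, Finset.mem_filter, Finset.mem_univ, true_and] at hj ⊢
    refine ⟨?_, hj.2.reflectionPerm ha hj.1⟩
    intro h
    have hj' : j = P.reflectionPerm a a := by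
      have h2 := P.reflectionPerm_self a j
      rw [h] at h2
      exact h2.symm
    have hh := hj.2
    rw [hj', RootPairing.Base.isPos_iff, height_refl_self,
      RootPairing.Base.height_one_of_mem_support ha] at hh
    omega
  have key : ∑ j ∈ (Finset.univ.filter (fun j => b.IsPos j)).erase a, P.pairing a j
      = ∑ j ∈ (Finset.univ.filter (fun j => b.IsPos j)).erase a, - P.pairing a j := by
    refine Finset.sum_nbij' (fun j => P.reflectionPerm a j) (fun j => P.reflectionPerm a j)
      hstab hstab ?_ ?_ ?_
    · intro j _; exact P.reflectionPerm_self a j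
    · intro j _; exact P.reflectionPerm_self a j
    · intro j _
      rw [P.pairing_reflectionPerm, P.pairing_reflectionPerm_self_left, neg_neg]
  rw [Finset.sum_neg_distrib] at key
  linarith

end aux

open Classical in
/-- With ρ^v the half-sum of the positive coroots, the order (height) of any root α relative to the
simple system equals (ρ^v, α); equivalently 2·height(α) = Σ_{β > 0} (β^v, α). -/
theorem result {ι M N : Type*} [AddCommGroup M] [AddCommGroup N]
    (P : RootPairing ι ℤ M N) [Finite ι] [Fintype ι] [P.IsReduced] (b : P.Base) (i : ι) :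
    2 * b.height i = ∑ j, if b.IsPos j then P.pairing i j else 0 := by
  obtain ⟨f, -, -, hf⟩ := b.exists_root_eq_sum_int i
  rw [RootPairing.Base.height_eq_sum hf]
  have hp : ∀ j, P.pairing i j = ∑ k ∈ b.support, f k * P.pairing k j := by
    intro j
    have h1 : P.pairing i j = P.coroot' j (P.root i) := (P.root_coroot'_eq_pairing j i).symm
    rw [h1, hf, map_sum]
    refine Finset.sum_congr rfl fun k _ => ?_
    rw [map_zsmul, P.root_coroot'_eq_pairing, smul_eq_mul]
  calc 2 * ∑ j ∈ b.support, f j = ∑ k ∈ b.support, f k * 2 := by
        rw [Finset.mul_sum]; exact Finset.sum_congr rfl fun k _ => mul_comm _ _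
    _ = ∑ k ∈ b.support, f k * ∑ j, (if b.IsPos j then P.pairing k j else 0) := by
        refine Finset.sum_congr rfl fun k hk => ?_
        rw [sum_simple P b k hk]
    _ = ∑ j, ∑ k ∈ b.support, f k * (if b.IsPos j then P.pairing k j else 0) := by
        rw [Finset.sum_comm]
        refine Finset.sum_congr rfl fun k _ => ?_
        rw [Finset.mul_sum]
    _ = ∑ j, if b.IsPos j then P.pairing i j else 0 := by
        refine Finset.sum_congr rfl fun j _ => ?_
        split_ifs with h
        · exact (hp j).symm
        · simp

end Groth.Agent.S5491
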