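import Groth.Statements.S5492
import Groth.Agent.H28.RootNatSpan

set_option autoImplicit false
open RootD

namespace Groth.Agent.S5492

/-- Off-diagonal entries of the Cartan matrix of a system of simple roots are non-positive: (α^v, β) ≤ 0
for distinct simple roots α, β. -/
theorem result {ι M N : Type*} [AddCommGroup M] [AddCommGroup N]
    (P : RootPairing ι ℤ M N) [Finite ι] (Δ : Set ι) (hΔ : RootD.IsSimpleSys P Δ) (i j : ι)
    (hi : i ∈ Δ) (hj : j ∈ Δ) (hij : i ≠ j) : P.pairing j i ≤ 0 := by
  by_contra hcon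
  push Not at hcon
  obtain ⟨k, hk⟩ := Groth.Agent.H28.root_sub_root_mem_of_pairing_pos P hcon (Ne.symm hij)
  have hli := linearIndepOn_iff.1 hΔ.linInd
  -- a general contradiction: `root a = root b + (nonneg combination)` with `a ≠ b` in `Δ`
  have key : ∀ a b : ι, a ∈ Δ → b ∈ Δ → a ≠ b → ∀ s : Multiset ι, (∀ x ∈ s, x ∈ Δ) →
      P.root a - P.root b = (s.map P.root).sum → False := by
    intro a b ha hb hab s hs h
    have hL : Finsupp.single a (1 : ℤ) - Finsupp.single b 1 - Groth.Agent.H28.msF s ∈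
        Finsupp.supported ℤ ℤ Δ :=
      sub_mem (sub_mem (Finsupp.single_mem_supported ℤ 1 ha) (Finsupp.single_mem_supported ℤ 1 hb))
        (Groth.Agent.H28.msF_supported s hs)
    have h0 := hli _ hL (by
      rw [map_sub, map_sub, Groth.Agent.H28.linearCombination_msF, ← h]
      simp)
    have h1 := DFunLike.congr_fun h0 b
    have e1 : (Finsupp.single a (1 : ℤ)) b = 0 := Finsupp.single_eq_of_ne (Ne.symm hab)
    have e2 : (Finsupp.single b (1 : ℤ)) b = 1 := Finsupp.single_eq_same
    simp only [Finsupp.coe_sub, Pi.sub_apply, Finsupp.coe_zero, Pi.zero_apply, e1, e2] at h1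
    have := Groth.Agent.H28.msF_nonneg s b
    omega
  rcases hΔ.mem_or_neg_mem k with h | h
  · obtain ⟨s, hs, hsum⟩ := Groth.Agent.H28.exists_multiset_of_mem_natSpan P h
    exact key j i hj hi (Ne.symm hij) s hs (by rw [← hsum, hk])
  · obtain ⟨s, hs, hsum⟩ := Groth.Agent.H28.exists_multiset_of_mem_natSpan P h
    exact key i j hi hj hij s hs (by rw [← hsum, hk]; abel)

end Groth.Agent.S5492
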