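import Groth.Statements.S5493
import Mathlib.LinearAlgebra.RootSystem.Base
import Mathlib.LinearAlgebra.RootSystem.Finite.Lemmas

set_option autoImplicit false
open RootD

namespace Groth.Agent.S5493

section Lib

open Module

variable {ι M N ι' M' N' : Type*} [AddCommGroup M] [AddCommGroup N] [AddCommGroup M']
  [AddCommGroup N']

/-- In the adjoint case the simple roots form a basis of the weight lattice. -/
noncomputable def simpleBasis (P : RootPairing ι ℤ M N)
    (had : Submodule.span ℤ (Set.range P.root) = ⊤) (b : P.Base) : Basis b.support ℤ M :=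
  Basis.mk (v := fun i : b.support => P.root i) b.linearIndepOn_root (by
    rw [← had, ← b.span_int_root_support]
    apply Submodule.span_mono
    rintro _ ⟨i, hi, rfl⟩
    exact ⟨⟨i, hi⟩, rfl⟩)

theorem simpleBasis_apply (P : RootPairing ι ℤ M N)
    (had : Submodule.span ℤ (Set.range P.root) = ⊤) (b : P.Base) (i : b.support) :
    simpleBasis P had b i = P.root i := by
  simp [simpleBasis]

theorem root_neg' (P : RootPairing ι ℤ M N) (i : ι) :
    P.root (P.reflectionPerm i i) = - P.root i := by
  rw [P.root_reflectionPerm, P.reflection_apply_self]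

/-- The linear map defined on simple roots by a bijection respecting Cartan integers maps roots
to roots. -/
theorem equiv_root (P : RootPairing ι ℤ M N) (P' : RootPairing ι' ℤ M' N') [Finite ι]
    [P.IsReduced] (had : Submodule.span ℤ (Set.range P.root) = ⊤)
    (had' : Submodule.span ℤ (Set.range P'.root) = ⊤) (b : P.Base) (b' : P'.Base)
    (u : ↥b.support ≃ ↥b'.support)
    (hu : ∀ i j : ↥b.support, P.pairing (i : ι) (j : ι) = P'.pairing (u i : ι') (u j : ι'))
    (k : ι) :
    ∃ k', (simpleBasis P had b).equiv (simpleBasis P' had' b') u (P.root k) = P'.root k' := by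
  set f := (simpleBasis P had b).equiv (simpleBasis P' had' b') u with hf
  have hfs : ∀ i : b.support, f (P.root i) = P'.root (u i) := by
    intro i
    rw [← simpleBasis_apply P had b i, hf, Basis.equiv_apply, simpleBasis_apply]
  have hrefl : ∀ (j : b.support) (x : M), f (P.reflection j x) = P'.reflection (u j) (f x) := by
    intro j
    have h : f.toLinearMap ∘ₗ (P.reflection j).toLinearMap =
        (P'.reflection (u j)).toLinearMap ∘ₗ f.toLinearMap := by
      apply (simpleBasis P had b).ext
      intro i
      simp only [LinearMap.comp_apply, LinearEquiv.coe_coe, simpleBasis_apply]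
      rw [P.reflection_apply_root, map_sub, map_smul, hfs, hfs, P'.reflection_apply_root, hu i j]
    intro x
    exact LinearMap.congr_fun h x
  refine b.induction_reflect k (p := fun k => ∃ k', f (P.root k) = P'.root k') ?_ ?_ ?_
  · rintro i ⟨k', hk'⟩
    refine ⟨P'.reflectionPerm k' k', ?_⟩
    rw [root_neg', root_neg', map_neg, hk']
  · intro i hi
    exact ⟨u ⟨i, hi⟩, hfs ⟨i, hi⟩⟩
  · rintro i j ⟨k', hk'⟩ hj
    refine ⟨P'.reflectionPerm (u ⟨j, hj⟩) k', ?_⟩
    rw [P.root_reflectionPerm, hrefl ⟨j, hj⟩, hk', P'.root_reflectionPerm]

end Lib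


/-- Adjoint case; the simply connected case is dual: two reduced adjoint root data with systems of
simple roots Δ, Δ' and a bijection u : Δ → Δ' respecting the Cartan matrices are isomorphic through
a unique isomorphism inducing u on Δ. -/
theorem result {ι M N ι' M' N' : Type*} [AddCommGroup M] [AddCommGroup N] [AddCommGroup M'] [AddCommGroup N']
    (P : RootPairing ι ℤ M N) (P' : RootPairing ι' ℤ M' N') [Finite ι] [Finite ι'] [P.IsReduced] [P'.IsReduced]
    (had : Submodule.span ℤ (Set.range P.root) = ⊤) (had' : Submodule.span ℤ (Set.range P'.root) = ⊤)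
    (b : P.Base) (b' : P'.Base) (u : ↥b.support ≃ ↥b'.support)
    (hu : ∀ i j : ↥b.support, P.pairing (i : ι) (j : ι) = P'.pairing (u i : ι') (u j : ι')) :
    ∃! e : RootPairing.Equiv P P', ∀ i : ↥b.support, e.indexEquiv (i : ι) = (u i : ι') := by
  classical
  have : Module.IsReflexive ℤ M := .of_isPerfPair P.toLinearMap
  have hu' : ∀ i j : ↥b'.support, P'.pairing (i : ι') (j : ι') =
      P.pairing (u.symm i : ι) (u.symm j : ι) := by
    intro i j
    rw [hu (u.symm i) (u.symm j), Equiv.apply_symm_apply, Equiv.apply_symm_apply]
  set B := simpleBasis P had b with hB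
  set B' := simpleBasis P' had' b' with hB'
  set f : M ≃ₗ[ℤ] M' := B.equiv B' u with hf
  have hfsymm : f.symm = B'.equiv B u.symm := Module.Basis.equiv_symm B B' u
  have hroot : ∀ k, ∃ k', f (P.root k) = P'.root k' :=
    fun k => equiv_root P P' had had' b b' u hu k
  have hroot' : ∀ k', ∃ k, f.symm (P'.root k') = P.root k := by
    intro k'
    rw [hfsymm]
    exact equiv_root P' P had' had b' b u.symm hu' k'
  choose e he using hroot
  choose e' he' using hroot'
  have hleft : ∀ k, e' (e k) = k := by
    intro k
    apply P.root.injective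
    rw [← he', ← he, LinearEquiv.symm_apply_apply]
  have hright : ∀ k', e (e' k') = k' := by
    intro k'
    apply P'.root.injective
    rw [← he, ← he', LinearEquiv.apply_symm_apply]
  let eE : ι ≃ ι' := ⟨e, e', hleft, hright⟩
  have heE : ∀ k, f (P.root k) = P'.root (eE k) := he
  let gE : N' ≃ₗ[ℤ] N := P'.flip.toPerfPair ≪≫ₗ f.dualMap ≪≫ₗ P.flip.toPerfPair.symm
  have K : ∀ (x : M) (y' : N'), P.toLinearMap x (gE y') = P'.toLinearMap (f x) y' := by
    intro x y'
    have h1 : P.flip.toPerfPair (gE y') = f.dualMap (P'.flip.toPerfPair y') := by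
      simp only [gE, LinearEquiv.trans_apply, LinearEquiv.apply_symm_apply]
    have h2 := LinearMap.congr_fun h1 x
    exact h2
  have hco : ∀ k, gE (P'.coroot (eE k)) = P.coroot k := by
    intro k
    apply P.flip.toPerfPair.injective
    have h1 : P.flip.toPerfPair (P.coroot k) (P.root k) = 2 := P.root_coroot_two k
    have h2 : Set.MapsTo (Module.preReflection (P.root k) (P.flip.toPerfPair (P.coroot k)))
        (Set.range P.root) (Set.range P.root) := by
      rintro _ ⟨j, rfl⟩
      exact ⟨P.reflectionPerm k j, (P.reflectionPerm_root k j).symm⟩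
    have h3 : P.flip.toPerfPair (gE (P'.coroot (eE k))) (P.root k) = 2 := by
      show P.toLinearMap (P.root k) (gE (P'.coroot (eE k))) = 2
      rw [K, heE]
      exact P'.root_coroot_two (eE k)
    have h4 : Set.MapsTo
        (Module.preReflection (P.root k) (P.flip.toPerfPair (gE (P'.coroot (eE k)))))
        (Set.range P.root) (Set.range P.root) := by
      rintro _ ⟨j, rfl⟩
      refine ⟨eE.symm (P'.reflectionPerm (eE k) (eE j)), ?_⟩
      apply f.injective
      have h5 : P.flip.toPerfPair (gE (P'.coroot (eE k))) (P.root j) =
          P'.toLinearMap (P'.root (eE j)) (P'.coroot (eE k)) := by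
        show P.toLinearMap (P.root j) (gE (P'.coroot (eE k))) = _
        rw [K, heE]
      rw [heE, Equiv.apply_symm_apply, Module.preReflection_apply, map_sub, map_smul, heE, heE,
        h5]
      exact (P'.reflectionPerm_root (eE k) (eE j)).symm
    exact (Module.Dual.eq_of_preReflection_mapsTo (Set.finite_range P.root) had h1 h2 h3 h4).symm
  let E : RootPairing.Equiv P P' :=
    { weightMap := f.toLinearMap
      coweightMap := gE.toLinearMap
      indexEquiv := eE
      weight_coweight_transpose := by
        ext y' x
        exact (K x y').symm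
      root_weightMap := by
        funext k
        exact heE k
      coroot_coweightMap := by
        funext k'
        have := hco (eE.symm k')
        rw [Equiv.apply_symm_apply] at this
        exact this
      bijective_weightMap := f.bijective
      bijective_coweightMap := gE.bijective }
  have hE : ∀ i : ↥b.support, E.indexEquiv (i : ι) = (u i : ι') := by
    intro i
    apply P'.root.injective
    show P'.root (eE i) = P'.root (u i)
    rw [← heE, hf, ← simpleBasis_apply P had b i, Module.Basis.equiv_apply, simpleBasis_apply]
  refine ⟨E, hE, ?_⟩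
  intro E₂ hE₂
  have hw : E₂.toHom.weightMap = E.toHom.weightMap := by
    apply B.ext
    intro i
    rw [hB, simpleBasis_apply, RootPairing.Hom.root_weightMap_apply,
      RootPairing.Hom.root_weightMap_apply, hE₂ i, hE i]
  have hi : E₂.toHom.indexEquiv = E.toHom.indexEquiv := by
    ext k
    apply P'.root.injective
    rw [← RootPairing.Hom.root_weightMap_apply, ← RootPairing.Hom.root_weightMap_apply, hw]
  apply RootPairing.Equiv.ext hw _ hi
  apply LinearMap.ext
  intro y'
  apply P.flip.toPerfPair.injective
  have h1 := RootPairing.Hom.weight_coweight_transpose_apply P P' y' E₂.toHom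
  have h2 := RootPairing.Hom.weight_coweight_transpose_apply P P' y' E.toHom
  rw [← h1, ← h2, hw]

end Groth.Agent.S5493
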