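import Groth.Statements.S5494
import Groth.Agent.H28.RootNatSpan
import Groth.Agent.H28.RootBasics

set_option autoImplicit false
open RootD

namespace Groth.Agent.S5494

open Groth.Agent.H28 in
theorem exists_simple_nonorth {ι M N : Type*} [AddCommGroup M] [AddCommGroup N]
    (P : RootPairing ι ℤ M N) (Δ : Set ι) (hΔ : RootD.IsSimpleSys P Δ) (k : ι) :
    ∃ a ∈ Δ, ¬ P.IsOrthogonal a k := by
  by_contra hcon
  push Not at hcon
  have key : ∀ s : Multiset ι, (∀ i ∈ s, i ∈ Δ) → P.coroot' k ((s.map P.root).sum) = 0 := by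
    intro s hs
    rw [coroot'_multiset_sum]
    apply Multiset.sum_eq_zero
    intro x hx
    obtain ⟨a, ha, rfl⟩ := Multiset.mem_map.1 hx
    exact (hcon a (hs a ha)).1
  rcases hΔ.mem_or_neg_mem k with h | h
  · obtain ⟨s, hs, hsum⟩ := exists_multiset_of_mem_natSpan P h
    have := key s hs
    rw [← hsum, P.root_coroot'_eq_pairing, P.pairing_same] at this
    norm_num at this
  · obtain ⟨s, hs, hsum⟩ := exists_multiset_of_mem_natSpan P h
    have := key s hs
    rw [← hsum, map_neg, P.root_coroot'_eq_pairing, P.pairing_same] at this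
    norm_num at this

/-- If a system of simple roots has no partition into two non-empty orthogonal subsets, then any two
roots are linked by a chain of roots with consecutive members non-orthogonal. -/
theorem result {ι M N : Type*} [AddCommGroup M] [AddCommGroup N]
    (P : RootPairing ι ℤ M N) [Finite ι] (Δ : Set ι) (hΔ : RootD.IsSimpleSys P Δ)
    (hconn : ∀ Δ' : Set ι, Δ' ⊆ Δ → (∀ i ∈ Δ', ∀ j ∈ Δ \ Δ', P.IsOrthogonal i j) → Δ' = ∅ ∨ Δ' = Δ)
    (i j : ι) : Relation.ReflTransGen (fun a b : ι => ¬ P.IsOrthogonal a b) i j := by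
  have rsymm : ∀ a b : ι, ¬ P.IsOrthogonal a b → ¬ P.IsOrthogonal b a :=
    fun a b h h' => h ⟨h'.2, h'.1⟩
  set C : Set ι := {k | Relation.ReflTransGen (fun a b : ι => ¬ P.IsOrthogonal a b) i k} with hC
  have hΔ' : Δ ∩ C = ∅ ∨ Δ ∩ C = Δ := by
    apply hconn _ Set.inter_subset_left
    intro a ha b hb
    by_contra hab
    apply hb.2
    exact ⟨hb.1, Relation.ReflTransGen.tail ha.2 hab⟩
  obtain ⟨a, haΔ, ha⟩ := exists_simple_nonorth P Δ hΔ i
  have haC : a ∈ C := Relation.ReflTransGen.single (rsymm a i ha)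
  have hsub : Δ ⊆ C := by
    rcases hΔ' with h | h
    · exfalso
      have : a ∈ Δ ∩ C := ⟨haΔ, haC⟩
      rw [h] at this
      exact this
    · intro b hb
      rw [← h] at hb
      exact hb.2
  obtain ⟨b, hbΔ, hb⟩ := exists_simple_nonorth P Δ hΔ j
  exact Relation.ReflTransGen.tail (hsub hbΔ) hb

end Groth.Agent.S5494
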