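import Groth.Statements.S5495
import Groth.Agent.H28.RootBasics

set_option autoImplicit false
open RootD

namespace Groth.Agent.S5495

/-- If α is an indivisible root and kα is a root for a rational k, then k is an integer. -/
theorem result {ι M N : Type*} [AddCommGroup M] [AddCommGroup N]
    (P : RootPairing ι ℤ M N) [Finite ι] (i j : ι) (hind : RootD.IsIndiv P i) (a b : ℤ) (hb : b ≠ 0)
    (h : b • P.root j = a • P.root i) : b ∣ a := by
  have hM : Module.IsReflexive ℤ M := Groth.Agent.H28.isReflexive_left P
  have h1 := congrArg (P.coroot' i) h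
  have h2 := congrArg (P.coroot' j) h
  simp only [map_smul, RootPairing.root_coroot'_eq_pairing, RootPairing.pairing_same,
    smul_eq_mul] at h1 h2
  set p := P.pairing j i with hp
  set q := P.pairing i j with hq
  have ha : a ≠ 0 := by
    rintro rfl
    simp at h2
    exact hb h2
  have hpq : p * q = 4 := by
    have : (a * b) * (p * q) = (a * b) * 4 := by
      calc (a * b) * (p * q) = (b * p) * (a * q) := by ring
        _ = (a * 2) * (b * 2) := by rw [h1, h2]
        _ = (a * b) * 4 := by ring
    exact mul_left_cancel₀ (mul_ne_zero ha hb) this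
  have hp4 : p ∣ 4 := ⟨q, hpq.symm⟩
  have hple : p ≤ 4 := Int.le_of_dvd (by norm_num) hp4
  have hpge : -4 ≤ p := by
    have : -p ∣ 4 := (neg_dvd).2 hp4
    have := Int.le_of_dvd (by norm_num) this
    omega
  have hcase : p = 1 ∨ p = -1 ∨ p = 2 ∨ p = -2 ∨ p = 4 ∨ p = -4 := by
    clear_value p q
    interval_cases p <;> omega
  rcases hcase with hp1 | hp1 | hp1 | hp1 | hp1 | hp1
  · -- p = 1: b = 2a, so root i = 2 root j, contradiction
    exfalso
    rw [hp1] at h1
    have hb2 : b = a * 2 := by omega
    rw [hb2, mul_smul] at h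
    have := smul_right_injective M ha h
    exact hind j this
  · exfalso
    rw [hp1] at h1
    have hb2 : b = a * (-2) := by omega
    rw [hb2, mul_smul] at h
    have := smul_right_injective M ha h
    apply hind (P.reflectionPerm j j)
    rw [Groth.Agent.H28.root_neg, ← this]
    simp
  · rw [hp1] at h1
    exact ⟨1, by omega⟩
  · rw [hp1] at h1
    exact ⟨-1, by omega⟩
  · rw [hp1] at h1
    exact ⟨2, by omega⟩
  · rw [hp1] at h1
    exact ⟨-2, by omega⟩

end Groth.Agent.S5495
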