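import Groth.Statements.S5496
import Mathlib.LinearAlgebra.RootSystem.Reduced
-- import your own Groth.Agent.* helpers here

set_option autoImplicit false
open RootPairing
open scoped Pointwise
open RootD

namespace Groth.Agent.S5496

section grp

variable {W : Type*} [Group W]

theorem zpow_eq_of_sq (r : W) (h : r * r = 1) (k : ℤ) : r ^ k = 1 ∨ r ^ k = r := by
  have h2 : r ^ (2 : ℤ) = 1 := by rw [zpow_two]; exact h
  obtain ⟨m, rfl | rfl⟩ := Int.even_or_odd' k
  · left; rw [zpow_mul, h2, one_zpow]
  · right; rw [zpow_add, zpow_mul, h2, one_zpow, one_mul, zpow_one]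

theorem not_mem_zpowers (s t : W) (hs : s * s = 1) (ht : t * t = 1) (hs1 : s ≠ 1) (ht1 : t ≠ 1) :
    s ∉ Subgroup.zpowers (s * t) := by
  intro hmem
  obtain ⟨k, hk⟩ := Subgroup.mem_zpowers_iff.mp hmem
  have hcomm : s * (s * t) = (s * t) * s := by
    have hc := ((Commute.refl (s * t)).zpow_left k).eq
    rw [hk] at hc
    exact hc
  have h1 : s * t * s = t := by rw [← hcomm, ← mul_assoc, hs, one_mul]
  have hrr : s * t * (s * t) = 1 := by rw [← mul_assoc, h1, ht]
  rcases zpow_eq_of_sq (s * t) hrr k with h | h
  · exact hs1 (hk.symm.trans h)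
  · have h3 : s * t = s * 1 := by rw [mul_one]; exact h.symm.trans hk
    exact ht1 (mul_left_cancel h3)

theorem card_closure_pair (s t : W) (hs : s * s = 1) (ht : t * t = 1)
    (hsZ : s ∉ Subgroup.zpowers (s * t)) :
    Nat.card (Subgroup.closure ({s, t} : Set W)) = 2 * orderOf (s * t) := by
  have hsG : s ∈ Subgroup.closure ({s, t} : Set W) := Subgroup.subset_closure (by simp)
  have htG : t ∈ Subgroup.closure ({s, t} : Set W) := Subgroup.subset_closure (by simp)
  have hrG : s * t ∈ Subgroup.closure ({s, t} : Set W) := Subgroup.mul_mem _ hsG htG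
  have hZG : Subgroup.zpowers (s * t) ≤ Subgroup.closure ({s, t} : Set W) :=
    Subgroup.zpowers_le.mpr hrG
  have hsinv : s⁻¹ = s := inv_eq_of_mul_eq_one_right hs
  have htinv : t⁻¹ = t := inv_eq_of_mul_eq_one_right ht
  have hs' : ∀ c : W, s * (s * c) = c := fun c => by rw [← mul_assoc, hs, one_mul]
  have hconj : s * (s * t) * s⁻¹ = (s * t)⁻¹ := by
    rw [mul_inv_rev, hsinv, htinv, hs']
  have hconjZ : ∀ z ∈ Subgroup.zpowers (s * t), s * z * s ∈ Subgroup.zpowers (s * t) := by
    intro z hz
    obtain ⟨k, rfl⟩ := Subgroup.mem_zpowers_iff.mp hz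
    have h1 : s * (s * t) ^ k * s = ((s * t)⁻¹) ^ k := by
      rw [← hconj, conj_zpow, hsinv]
    rw [h1]
    exact Subgroup.zpow_mem _ (Subgroup.inv_mem _ (Subgroup.mem_zpowers (s * t))) k
  have hcover : ∀ b ∈ Subgroup.closure ({s, t} : Set W),
      b ∈ Subgroup.zpowers (s * t) ∨ b * s ∈ Subgroup.zpowers (s * t) := by
    intro b hb
    induction hb using Subgroup.closure_induction with
    | mem x hx =>
      simp only [Set.mem_insert_iff, Set.mem_singleton_iff] at hx
      rcases hx with rfl | rfl
      · right; rw [hs]; exact Subgroup.one_mem _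
      · right
        have h1 : x * s = (s * x)⁻¹ := by rw [mul_inv_rev, hsinv, htinv]
        rw [h1]; exact Subgroup.inv_mem _ (Subgroup.mem_zpowers (s * x))
    | one => left; exact Subgroup.one_mem _
    | mul x y _ _ ihx ihy =>
      rcases ihx with hx | hx <;> rcases ihy with hy | hy
      · left; exact Subgroup.mul_mem _ hx hy
      · right; rw [mul_assoc]; exact Subgroup.mul_mem _ hx hy
      · right
        have h1 : x * y * s = (x * s) * (s * y * s) := by
          simp only [mul_assoc, hs']
        rw [h1]; exact Subgroup.mul_mem _ hx (hconjZ y hy)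
      · left
        have h1 : x * y = (x * s) * (s * (y * s) * s) := by
          simp only [mul_assoc, hs, mul_one, hs']
        rw [h1]; exact Subgroup.mul_mem _ hx (hconjZ _ hy)
    | inv x _ ih =>
      rcases ih with h | h
      · left; exact Subgroup.inv_mem _ h
      · right
        have h1 : x⁻¹ * s = (s * (x * s) * s)⁻¹ := by
          simp only [mul_assoc, hs, mul_one, mul_inv_rev, hsinv]
        rw [h1]; exact Subgroup.inv_mem _ (hconjZ _ h)
  have hidx : (Subgroup.zpowers (s * t)).relIndex (Subgroup.closure ({s, t} : Set W)) = 2 := by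
    rw [Subgroup.relIndex_eq_two_iff]
    refine ⟨s, hsG, fun b hb => ?_⟩
    rcases hcover b hb with h | h
    · refine Or.inr ⟨h, fun h2 => hsZ ?_⟩
      have h3 := Subgroup.mul_mem _ (Subgroup.inv_mem _ h) h2
      rwa [inv_mul_cancel_left] at h3
    · refine Or.inl ⟨h, fun h2 => hsZ ?_⟩
      have h3 := Subgroup.mul_mem _ (Subgroup.inv_mem _ h2) h
      rwa [inv_mul_cancel_left] at h3
  have h1 := Subgroup.relIndex_mul_relIndex (⊥ : Subgroup W) (Subgroup.zpowers (s * t))
    (Subgroup.closure ({s, t} : Set W)) bot_le hZG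
  rw [Subgroup.relIndex_bot_left, Subgroup.relIndex_bot_left, hidx, Nat.card_zpowers] at h1
  omega

end grp

section root

variable {ι M N : Type*} [AddCommGroup M] [AddCommGroup N] (P : RootPairing ι ℤ M N)

theorem toLinearMap_weightMap (g : P.Aut) (x : M) (y : N) :
    P.toLinearMap (g.toHom.weightMap x) y = P.toLinearMap x (g.toHom.coweightMap y) := by
  have h := RootPairing.Hom.weight_coweight_transpose_apply P P y g.toHom
  exact LinearMap.congr_fun h x

theorem pairing_smul_smul (g : P.Aut) (x : M) (k : ι) :
    P.toLinearMap (g • x) (P.coroot (g • k)) = P.toLinearMap x (P.coroot k) := by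
  change P.toLinearMap (g.toHom.weightMap x) (P.coroot (g.toHom.indexEquiv k)) = _
  rw [toLinearMap_weightMap, RootPairing.Hom.coroot_coweightMap_apply,
    _root_.Equiv.symm_apply_apply]

theorem reflection_mul_self (k : ι) : Equiv.reflection P k * Equiv.reflection P k = 1 := by
  have h := inv_mul_cancel (Equiv.reflection P k)
  rwa [Equiv.reflection_inv] at h

theorem reflection_ne_one (k : ι) (h2 : P.root k + P.root k ≠ 0) : Equiv.reflection P k ≠ 1 := by
  intro h
  have h1 := Equiv.reflection_smul (P := P) k (P.root k)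
  rw [h, one_smul, P.reflection_apply_self] at h1
  exact h2 (eq_neg_iff_add_eq_zero.mp h1)

theorem smul_sub_mem (i j : ι) (g : P.Aut)
    (hg : g ∈ Subgroup.closure ({Equiv.reflection P i, Equiv.reflection P j} : Set P.Aut)) (x : M) :
    g • x - x ∈ Submodule.span ℤ ({P.root i, P.root j} : Set M) := by
  induction hg using Subgroup.closure_induction generalizing x with
  | mem g hg =>
    simp only [Set.mem_insert_iff, Set.mem_singleton_iff] at hg
    rcases hg with rfl | rfl
    · rw [Equiv.reflection_smul, P.reflection_apply, sub_sub_cancel_left]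
      exact Submodule.neg_mem _ (Submodule.smul_mem _ _ (Submodule.subset_span (by simp)))
    · rw [Equiv.reflection_smul, P.reflection_apply, sub_sub_cancel_left]
      exact Submodule.neg_mem _ (Submodule.smul_mem _ _ (Submodule.subset_span (by simp)))
  | one => rw [one_smul, sub_self]; exact Submodule.zero_mem _
  | mul g h _ _ ihg ihh =>
    have h1 : (g * h) • x - x = (g • (h • x) - h • x) + (h • x - x) := by rw [mul_smul]; abel
    rw [h1]; exact Submodule.add_mem _ (ihg _) (ihh _)
  | inv g _ ih =>
    have h1 : g⁻¹ • x - x = - (g • (g⁻¹ • x) - g⁻¹ • x) := by rw [smul_inv_smul]; abel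
    rw [h1]; exact Submodule.neg_mem _ (ih _)

theorem eq_one_of_fix [Finite ι] (i j : ι) (hli : LinearIndependent ℤ ![P.root i, P.root j])
    (g : P.Aut)
    (hg : g ∈ Subgroup.closure ({Equiv.reflection P i, Equiv.reflection P j} : Set P.Aut))
    (hi : g • i = i) (hj : g • j = j) : g = 1 := by
  have : Module.IsReflexive ℤ M := .of_isPerfPair P.toLinearMap
  have : IsAddTorsionFree M := .of_isTorsionFree ℤ M
  have hcw : P.pairing i j * P.pairing j i ≠ 4 := P.coxeterWeight_ne_four_of_linearIndependent hli
  apply Equiv.weightHom_injective P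
  rw [map_one]
  ext x
  show g • x = x
  obtain ⟨a, b, hab⟩ := Submodule.mem_span_pair.mp (smul_sub_mem P i j g hg x)
  have e1 : P.toLinearMap (g • x - x) (P.coroot i) = 0 := by
    have h := pairing_smul_smul P g x i
    rw [hi] at h
    rw [map_sub, LinearMap.sub_apply, h, sub_self]
  have e2 : P.toLinearMap (g • x - x) (P.coroot j) = 0 := by
    have h := pairing_smul_smul P g x j
    rw [hj] at h
    rw [map_sub, LinearMap.sub_apply, h, sub_self]
  rw [← hab] at e1 e2
  simp only [map_add, map_smul, LinearMap.add_apply, LinearMap.smul_apply,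
    RootPairing.root_coroot_eq_pairing, RootPairing.pairing_same, smul_eq_mul] at e1 e2
  have ha : a = 0 := by
    have h3 : (4 - P.pairing i j * P.pairing j i) * a = 0 := by
      linear_combination 2 * e1 - (P.pairing j i) * e2
    rcases mul_eq_zero.mp h3 with h4 | h4
    · exact absurd (by linarith) hcw
    · exact h4
  have hb : b = 0 := by
    rw [ha] at e2
    omega
  rw [ha, hb, zero_smul, zero_smul, add_zero] at hab
  exact (sub_eq_zero.mp hab.symm)

end root

/-- For non-proportional roots α, β let n be the least integer n > 0 with (s_α s_β)^n(α) = α and (s_α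
s_β)^n(β) = β. Then the subgroup W_{α,β} generated by s_α and s_β is presented by s_α² = s_β² = (s_α
s_β)^n = 1; equivalently it has exactly 2n elements. -/
theorem result {ι M N : Type*} [AddCommGroup M] [AddCommGroup N]
    (P : RootPairing ι ℤ M N) [Finite ι] (i j : ι) (hli : LinearIndependent ℤ ![P.root i, P.root j])
    (n : ℕ) (hn : IsLeast {m : ℕ | 0 < m ∧ ((Equiv.reflection P i * Equiv.reflection P j) ^ m) • i = i ∧
      ((Equiv.reflection P i * Equiv.reflection P j) ^ m) • j = j} n) :
    Nat.card (Subgroup.closure ({Equiv.reflection P i, Equiv.reflection P j} : Set P.Aut)) = 2 * n := by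
  have hsG : Equiv.reflection P i ∈
      Subgroup.closure ({Equiv.reflection P i, Equiv.reflection P j} : Set P.Aut) :=
    Subgroup.subset_closure (by simp)
  have htG : Equiv.reflection P j ∈
      Subgroup.closure ({Equiv.reflection P i, Equiv.reflection P j} : Set P.Aut) :=
    Subgroup.subset_closure (by simp)
  have hli' := LinearIndependent.pair_iff.mp hli
  have hs1 : Equiv.reflection P i ≠ 1 := by
    refine reflection_ne_one P i fun h => ?_
    have h2 : (2 : ℤ) • P.root i + (0 : ℤ) • P.root j = 0 := by
      rw [zero_smul, add_zero, two_smul]; exact h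
    exact absurd (hli' 2 0 h2).1 (by norm_num)
  have ht1 : Equiv.reflection P j ≠ 1 := by
    refine reflection_ne_one P j fun h => ?_
    have h2 : (0 : ℤ) • P.root i + (2 : ℤ) • P.root j = 0 := by
      rw [zero_smul, zero_add, two_smul]; exact h
    exact absurd (hli' 0 2 h2).2 (by norm_num)
  have hord : orderOf (Equiv.reflection P i * Equiv.reflection P j) = n := by
    rw [orderOf_eq_iff hn.1.1]
    refine ⟨?_, fun m hm hm0 hm1 => ?_⟩
    · exact eq_one_of_fix P i j hli _ (Subgroup.pow_mem _ (Subgroup.mul_mem _ hsG htG) n)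
        hn.1.2.1 hn.1.2.2
    · have h3 : n ≤ m := hn.2 ⟨hm0, by rw [hm1, one_smul], by rw [hm1, one_smul]⟩
      omega
  rw [card_closure_pair _ _ (reflection_mul_self P i) (reflection_mul_self P j)
    (not_mem_zpowers _ _ (reflection_mul_self P i) (reflection_mul_self P j) hs1 ht1), hord]

end Groth.Agent.S5496
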