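import Groth.Statements.S5506
import Groth.Agent.H28.RootBasics

set_option autoImplicit false
open RootD

namespace Groth.Agent.S5506

/-- The class of a root under 'joined by a chain of pairwise non-orthogonal roots' is closed and
symmetric, and so is its complement; these classes are the irreducible components. -/
theorem result {ι M N : Type*} [AddCommGroup M] [AddCommGroup N]
    (P : RootPairing ι ℤ M N) [Finite ι] (i : ι) :
    RootD.IsClosedSub P {j : ι | Relation.ReflTransGen (fun a b : ι => ¬ P.IsOrthogonal a b) i j} ∧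
      RootD.IsSymmSub P {j : ι | Relation.ReflTransGen (fun a b : ι => ¬ P.IsOrthogonal a b) i j} ∧
      RootD.IsClosedSub P {j : ι | Relation.ReflTransGen (fun a b : ι => ¬ P.IsOrthogonal a b) i j}ᶜ ∧
      RootD.IsSymmSub P {j : ι | Relation.ReflTransGen (fun a b : ι => ¬ P.IsOrthogonal a b) i j}ᶜ := by
  set C : Set ι := {j : ι | Relation.ReflTransGen (fun a b : ι => ¬ P.IsOrthogonal a b) i j} with hC
  have hsymm : ∀ a b : ι, ¬ P.IsOrthogonal a b → ¬ P.IsOrthogonal b a := fun a b h h' =>
    h h'.symm
  have hnegrel : ∀ a : ι, ¬ P.IsOrthogonal a (P.reflectionPerm a a) := by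
    intro a h
    have := h.2
    rw [Groth.Agent.H28.pairing_neg_left, RootPairing.pairing_same] at this
    norm_num at this
  have hadd : ∀ a b c : ι, P.root c = P.root a + P.root b →
      ¬ P.IsOrthogonal a c ∨ ¬ P.IsOrthogonal b c := by
    intro a b c h
    have h2 := RootPairing.pairing_eq_add_of_root_eq_add (l := c) h
    rw [RootPairing.pairing_same] at h2
    by_contra hcon
    push Not at hcon
    rw [hcon.1.1, hcon.2.1] at h2
    norm_num at h2
  have hstep : ∀ a b : ι, a ∈ C → ¬ P.IsOrthogonal a b → b ∈ C := fun a b ha hab =>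
    Relation.ReflTransGen.tail ha hab
  refine ⟨?_, ?_, ?_, ?_⟩
  · intro a b c ha hb h
    rcases hadd a b c h with h1 | h1
    · exact hstep a c ha h1
    · exact hstep b c hb h1
  · intro a ha
    exact hstep a _ ha (hnegrel a)
  · intro a b c ha hb h hc
    rcases hadd a b c h with h1 | h1
    · exact ha (hstep c a hc (hsymm _ _ h1))
    · exact hb (hstep c b hc (hsymm _ _ h1))
  · intro a ha hna
    apply ha
    exact hstep _ a hna (hsymm _ _ (hnegrel a))

end Groth.Agent.S5506
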