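import Groth.Statements.S5498
import Groth.Agent.S5487
import Groth.Agent.S5505
import Groth.Agent.S5506

set_option autoImplicit false
open RootD

namespace Groth.Agent.S5498

/-- If R is irreducible then so is the dual datum R^v, and long(α)·long(α^v) (equivalently ℓ(α) ℓ(α^v))
is constant on the roots. -/
theorem result {ι M N : Type*} [AddCommGroup M] [AddCommGroup N]
    (P : RootPairing ι ℤ M N) [Finite ι] [Fintype ι] [Nonempty ι]
    (hirr : ∀ R' : Set ι, RootD.IsClosedSub P R' → RootD.IsSymmSub P R' → RootD.IsClosedSub P R'ᶜ →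
      RootD.IsSymmSub P R'ᶜ → R' = ∅ ∨ R' = Set.univ) :
    (∀ R' : Set ι, RootD.IsClosedSub P.flip R' → RootD.IsSymmSub P.flip R' → RootD.IsClosedSub P.flip R'ᶜ →
      RootD.IsSymmSub P.flip R'ᶜ → R' = ∅ ∨ R' = Set.univ) ∧
    ∀ i j : ι, P.RootForm (P.root i) (P.root i) * P.CorootForm (P.coroot i) (P.coroot i) =
      P.RootForm (P.root j) (P.root j) * P.CorootForm (P.coroot j) (P.coroot j) := by
  have hconn : ∀ i j : ι, Relation.ReflTransGen (fun a b : ι => ¬ P.IsOrthogonal a b) i j := by
    intro i j
    obtain ⟨h1, h2, h3, h4⟩ := Groth.Agent.S5506.result P i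
    rcases hirr _ h1 h2 h3 h4 with h | h
    · exfalso
      have : i ∈ {j : ι | Relation.ReflTransGen (fun a b : ι => ¬ P.IsOrthogonal a b) i j} :=
        Relation.ReflTransGen.refl
      rw [h] at this
      exact this
    · have : j ∈ (Set.univ : Set ι) := trivial
      rw [← h] at this
      exact this
  refine ⟨?_, ?_⟩
  · intro R' hc hs hc' hs'
    by_cases hne : R' = ∅
    · exact Or.inl hne
    · right
      obtain ⟨i, hi⟩ := Set.nonempty_iff_ne_empty.2 hne
      apply Set.eq_univ_of_forall
      intro j
      have := hconn i j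
      induction this with
      | refl => exact hi
      | tail _ hab ih =>
        refine Groth.Agent.S5505.result P.flip R' hc hs hc' hs' _ _ ih ?_
        intro horth
        apply hab
        exact ⟨by simpa using horth.2, by simpa using horth.1⟩
  · intro i j
    have := hconn i j
    induction this with
    | refl => rfl
    | tail _ hab ih =>
      rw [ih]
      exact Groth.Agent.S5487.result P _ _ hab

end Groth.Agent.S5498
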