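import Groth.Statements.S5499
import Groth.Agent.S5506
import Groth.Agent.H28.RootBasics
import Mathlib.LinearAlgebra.RootSystem.Finite.Nondegenerate
import Mathlib.LinearAlgebra.RootSystem.Finite.Lemmas

set_option autoImplicit false
open RootD

namespace Groth.Agent.S5499

theorem dvd_aux (a b L l : ℤ) (hL : 0 < L) (hl : L ≤ l) (ha : a ≠ 0) (hb : b ≠ 0)
    (e : b * l = a * L)
    (hw : a * b = 0 ∨ a * b = 1 ∨ a * b = 2 ∨ a * b = 3 ∨ a * b = 4) : L ∣ l := by
  have hlpos : 0 < l := lt_of_lt_of_le hL hl
  have h1 : b * b * l = a * b * L := by rw [mul_assoc, e]; ring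
  have hbb : 0 < b * b := mul_self_pos.2 hb
  have hwpos : 0 < a * b := by
    have : 0 < a * b * L := by rw [← h1]; positivity
    exact (mul_pos_iff_of_pos_right hL).1 this
  have hbb_le : b * b ≤ a * b := by
    have h2 : a * b * L ≤ a * b * l := mul_le_mul_of_nonneg_left hl hwpos.le
    rw [← h1] at h2
    exact le_of_mul_le_mul_right h2 hlpos
  have hab4 : a * b ≤ 4 := by rcases hw with h | h | h | h | h <;> omega
  have hb_lo : -2 ≤ b := by nlinarith
  have hb_hi : b ≤ 2 := by nlinarith
  have hdvd : b ∣ a := by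
    interval_cases b
    all_goals first
      | exact absurd rfl hb
      | exact one_dvd _
      | exact ⟨1, by omega⟩
      | exact ⟨-a, by ring⟩
  obtain ⟨c, rfl⟩ := hdvd
  have : l = c * L := mul_left_cancel₀ hb (by rw [e]; ring)
  exact ⟨c, by rw [this]; ring⟩

/-- For an irreducible datum, where long(α) = ℓ(α)/ℓ(α₀) with ℓ(α₀) minimal: there is a unique
homomorphism u : Γ_0(R) → M^v with u(α) = long(α) α^v for every root α. -/
theorem result {ι M N : Type*} [AddCommGroup M] [AddCommGroup N]
    (P : RootPairing ι ℤ M N) [Finite ι] [Fintype ι]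
    (hirr : ∀ R' : Set ι, RootD.IsClosedSub P R' → RootD.IsSymmSub P R' → RootD.IsClosedSub P R'ᶜ →
      RootD.IsSymmSub P R'ᶜ → R' = ∅ ∨ R' = Set.univ)
    (i₀ : ι) (hmin : ∀ i : ι, P.RootForm (P.root i₀) (P.root i₀) ≤ P.RootForm (P.root i) (P.root i)) :
    ∃! u : Submodule.span ℤ (Set.range P.root) →+ N, ∀ i : ι,
      u ⟨P.root i, Submodule.subset_span (Set.mem_range_self i)⟩ =
        (P.RootForm (P.root i) (P.root i) / P.RootForm (P.root i₀) (P.root i₀)) • P.coroot i := by
  classical
  have hreflM : Module.IsReflexive ℤ M := .of_isPerfPair P.toLinearMap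
  have hreflN : Module.IsReflexive ℤ N := .of_isPerfPair P.flip.toLinearMap
  have hpos : ∀ i : ι, 0 < P.RootForm (P.root i) (P.root i) := fun i =>
    P.rootForm_pos_of_ne_zero (Submodule.subset_span (Set.mem_range_self i)) (P.ne_zero i)
  have hconn : ∀ i j : ι, Relation.ReflTransGen (fun a b : ι => ¬ P.IsOrthogonal a b) i j := by
    intro i j
    obtain ⟨h1, h2, h3, h4⟩ := Groth.Agent.S5506.result P i
    rcases hirr _ h1 h2 h3 h4 with h | h
    · exfalso
      have : i ∈ {j : ι | Relation.ReflTransGen (fun a b : ι => ¬ P.IsOrthogonal a b) i j} :=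
        Relation.ReflTransGen.refl
      rw [h] at this
      exact this
    · have : j ∈ (Set.univ : Set ι) := trivial
      rw [← h] at this
      exact this
  have hne_of : ∀ a b : ι, ¬ P.IsOrthogonal a b → P.pairing a b ≠ 0 ∧ P.pairing b a ≠ 0 := by
    intro a b h
    by_contra hcon
    apply h
    rw [not_and_or, not_not, not_not] at hcon
    rcases hcon with h0 | h0
    · exact ⟨h0, (P.pairing_eq_zero_iff).1 h0⟩
    · exact ⟨(P.pairing_eq_zero_iff).1 h0, h0⟩
  set L := P.RootForm (P.root i₀) (P.root i₀) with hL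
  have hLpos : 0 < L := hpos i₀
  -- every root is non-orthogonal to a root of minimal length
  have hB : ∀ α : ι, ∃ β : ι, P.RootForm (P.root β) (P.root β) = L ∧ ¬ P.IsOrthogonal α β := by
    intro α
    have := hconn i₀ α
    induction this with
    | refl =>
      refine ⟨i₀, rfl, fun h => ?_⟩
      have := h.1
      rw [P.pairing_same] at this
      norm_num at this
    | @tail a b _ hab ih =>
      obtain ⟨β, hβ, hβa⟩ := ih
      by_cases hbβ : P.IsOrthogonal b β
      · refine ⟨P.reflectionPerm a β, ?_, ?_⟩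
        · rw [P.root_reflectionPerm, P.rootForm_reflection_reflection_apply, hβ]
        · intro horth
          have h1 : P.pairing (P.reflectionPerm a β) b =
              P.pairing β b - P.pairing β a * P.pairing a b := by
            rw [← P.root_coroot'_eq_pairing, P.root_reflectionPerm, P.reflection_apply, map_sub,
              map_smul]
            simp only [P.root_coroot'_eq_pairing, smul_eq_mul]
          rw [horth.2, hbβ.2, zero_sub] at h1
          have := mul_ne_zero (hne_of a β hβa).2 (hne_of a b hab).1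
          exact this (by linarith)
      · exact ⟨β, hβ, hbβ⟩
  have hC : ∀ α : ι, L ∣ P.RootForm (P.root α) (P.root α) := by
    intro α
    obtain ⟨β, hβ, hαβ⟩ := hB α
    have e1 := P.toInvariantForm.pairing_mul_eq_pairing_mul_swap α β
    simp only [RootPairing.toInvariantForm_form] at e1
    rw [hβ] at e1
    obtain ⟨ha, hb⟩ := hne_of α β hαβ
    have hw : P.pairing α β * P.pairing β α ∈ ({0, 1, 2, 3, 4} : Set ℤ) := by
      have := P.coxeterWeightIn_mem_set_of_isCrystallographic α β
      rw [RootPairing.coxeterWeightIn, Groth.Agent.H28.pairingIn_int_eq,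
        Groth.Agent.H28.pairingIn_int_eq] at this
      exact this
    exact dvd_aux _ _ L _ hLpos (hmin α) ha hb e1 (by simpa using hw)
  have hroot : ∀ i : ι, (P.RootForm (P.root i) (P.root i)) • P.coroot i =
      2 • P.Polarization (P.root i) := P.rootForm_self_smul_coroot
  have hex : ∀ x ∈ Submodule.span ℤ (Set.range P.root), ∃ n : N,
      L • n = 2 • P.Polarization x := by
    intro x hx
    induction hx using Submodule.span_induction with
    | mem x hx =>
      obtain ⟨i, rfl⟩ := hx
      refine ⟨(P.RootForm (P.root i) (P.root i) / L) • P.coroot i, ?_⟩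
      rw [smul_smul, Int.mul_ediv_cancel' (hC i)]
      exact hroot i
    | zero => exact ⟨0, by simp⟩
    | add x y _ _ hx hy =>
      obtain ⟨n, hn⟩ := hx
      obtain ⟨m, hm⟩ := hy
      exact ⟨n + m, by rw [smul_add, hn, hm, map_add, smul_add]⟩
    | smul c x _ hx =>
      obtain ⟨n, hn⟩ := hx
      exact ⟨c • n, by rw [smul_comm, hn, map_smul, smul_comm]⟩
  have hinj : Function.Injective (fun n : N => L • n) := smul_right_injective N hLpos.ne'
  let u₀ : Submodule.span ℤ (Set.range P.root) → N := fun x => (hex x.1 x.2).choose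
  have hu₀ : ∀ x : Submodule.span ℤ (Set.range P.root), L • u₀ x = 2 • P.Polarization x.1 :=
    fun x => (hex x.1 x.2).choose_spec
  let u : Submodule.span ℤ (Set.range P.root) →+ N :=
    { toFun := u₀
      map_zero' := by
        apply hinj
        show L • u₀ 0 = L • 0
        rw [hu₀]; simp
      map_add' := by
        intro x y
        apply hinj
        show L • u₀ (x + y) = L • (u₀ x + u₀ y)
        rw [smul_add, hu₀, hu₀, hu₀, Submodule.coe_add, map_add, smul_add] }
  have hu : ∀ i : ι, u ⟨P.root i, Submodule.subset_span (Set.mem_range_self i)⟩ =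
      (P.RootForm (P.root i) (P.root i) / L) • P.coroot i := by
    intro i
    apply hinj
    show L • u₀ _ = L • _
    rw [hu₀, smul_smul, Int.mul_ediv_cancel' (hC i)]
    exact (hroot i).symm
  refine ⟨u, hu, ?_⟩
  intro u' hu'
  ext ⟨x, hx⟩
  induction hx using Submodule.span_induction with
  | mem x hx =>
    obtain ⟨i, rfl⟩ := hx
    rw [hu' i, hu i]
  | zero =>
    have : (⟨0, Submodule.zero_mem _⟩ : Submodule.span ℤ (Set.range P.root)) = 0 := rfl
    rw [this, map_zero, map_zero]
  | add x y hx hy ihx ihy =>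
    have : (⟨x + y, Submodule.add_mem _ hx hy⟩ : Submodule.span ℤ (Set.range P.root)) =
      ⟨x, hx⟩ + ⟨y, hy⟩ := rfl
    rw [this, map_add, map_add, ihx, ihy]
  | smul c x hx ihx =>
    have : (⟨c • x, Submodule.smul_mem _ c hx⟩ : Submodule.span ℤ (Set.range P.root)) =
      c • ⟨x, hx⟩ := rfl
    rw [this, map_zsmul, map_zsmul, ihx]

end Groth.Agent.S5499
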