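import Groth.Statements.S5500
import Groth.Agent.S5506
import Mathlib.LinearAlgebra.RootSystem.Finite.Nondegenerate

set_option autoImplicit false
open RootD

namespace Groth.Agent.S5500

/-- For a p-morphism between irreducible reduced root data there is a rational constant k with k ·
long(u(α)) = q(α)² · long(α) for every root α; stated as the proportionality q(α)² ℓ(α) ℓ'(u β) =
q(β)² ℓ(β) ℓ'(u α) of the canonical quadratic forms. -/
theorem result {ι M N ι' M' N' : Type*} [AddCommGroup M] [AddCommGroup N] [AddCommGroup M'] [AddCommGroup N']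
    (P : RootPairing ι ℤ M N) (P' : RootPairing ι' ℤ M' N') [Finite ι] [Finite ι'] [Fintype ι] [Fintype ι'] [P.IsReduced] [P'.IsReduced]
    (hirr : ∀ R₁ : Set ι, RootD.IsClosedSub P R₁ → RootD.IsSymmSub P R₁ → RootD.IsClosedSub P R₁ᶜ →
      RootD.IsSymmSub P R₁ᶜ → R₁ = ∅ ∨ R₁ = Set.univ)
    (hirr' : ∀ R₁ : Set ι', RootD.IsClosedSub P' R₁ → RootD.IsSymmSub P' R₁ → RootD.IsClosedSub P' R₁ᶜ →
      RootD.IsSymmSub P' R₁ᶜ → R₁ = ∅ ∨ R₁ = Set.univ)
    (p : ℕ) (hp : 0 < p) (f : M' →ₗ[ℤ] M) (g : N →ₗ[ℤ] N')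
    (hfg : ∀ (m' : M') (n : N), P.toLinearMap (f m') n = P'.toLinearMap m' (g n))
    (u : ι ≃ ι') (q : ι → ℕ) (hq : ∀ i, ∃ e : ℕ, q i = p ^ e)
    (hroot : ∀ i : ι, f (P'.root (u i)) = (q i : ℤ) • P.root i)
    (hcoroot : ∀ i : ι, g (P.coroot i) = (q i : ℤ) • P'.coroot (u i)) (i j : ι) :
    ((q i : ℤ) ^ 2 * P.RootForm (P.root i) (P.root i)) * P'.RootForm (P'.root (u j)) (P'.root (u j)) =
      ((q j : ℤ) ^ 2 * P.RootForm (P.root j) (P.root j)) * P'.RootForm (P'.root (u i)) (P'.root (u i)) := by
  have hrefl : Module.IsReflexive ℤ M := .of_isPerfPair P.toLinearMap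
  have hrefl' : Module.IsReflexive ℤ M' := .of_isPerfPair P'.toLinearMap
  have hconn : ∀ i j : ι, Relation.ReflTransGen (fun a b : ι => ¬ P.IsOrthogonal a b) i j := by
    intro i j
    obtain ⟨h1, h2, h3, h4⟩ := Groth.Agent.S5506.result P i
    rcases hirr _ h1 h2 h3 h4 with h | h
    · exfalso
      have : i ∈ {j : ι | Relation.ReflTransGen (fun a b : ι => ¬ P.IsOrthogonal a b) i j} :=
        Relation.ReflTransGen.refl
      rw [h] at this
      exact this
    · have : j ∈ (Set.univ : Set ι) := trivial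
      rw [← h] at this
      exact this
  have hqne : ∀ i, (q i : ℤ) ≠ 0 := by
    intro i
    obtain ⟨e, he⟩ := hq i
    rw [he]
    exact_mod_cast pow_ne_zero e hp.ne'
  have hdpos : ∀ k : ι', 0 < P'.RootForm (P'.root k) (P'.root k) := fun k =>
    P'.rootForm_pos_of_ne_zero (Submodule.subset_span (Set.mem_range_self k)) (P'.ne_zero k)
  -- the key relation between pairings
  have e3 : ∀ i j : ι, (q i : ℤ) * P.pairing i j = (q j : ℤ) * P'.pairing (u i) (u j) := by
    intro i j
    have := hfg (P'.root (u i)) (P.coroot j)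
    rw [hroot, hcoroot, map_smul, LinearMap.smul_apply, map_smul] at this
    simp only [smul_eq_mul] at this
    exact this
  -- adjacent case
  have hadj : ∀ i j : ι, ¬ P.IsOrthogonal i j →
      ((q i : ℤ) ^ 2 * P.RootForm (P.root i) (P.root i)) *
        P'.RootForm (P'.root (u j)) (P'.root (u j)) =
      ((q j : ℤ) ^ 2 * P.RootForm (P.root j) (P.root j)) *
        P'.RootForm (P'.root (u i)) (P'.root (u i)) := by
    intro i j h
    have e1 := P.toInvariantForm.pairing_mul_eq_pairing_mul_swap i j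
    have e2 := P'.toInvariantForm.pairing_mul_eq_pairing_mul_swap (u i) (u j)
    simp only [RootPairing.toInvariantForm_form] at e1 e2
    have hne : P.pairing i j ≠ 0 ∧ P.pairing j i ≠ 0 := by
      by_contra hcon
      apply h
      rw [not_and_or, not_not, not_not] at hcon
      rcases hcon with h0 | h0
      · exact ⟨h0, (P.pairing_eq_zero_iff).1 h0⟩
      · exact ⟨(P.pairing_eq_zero_iff).1 h0, h0⟩
    have e3ij := e3 i j
    have e3ji := e3 j i
    have ha' : P'.pairing (u i) (u j) ≠ 0 := by
      intro h0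
      rw [h0, mul_zero] at e3ij
      exact (mul_ne_zero (hqne i) hne.1) e3ij
    have hcancel : P.pairing j i * P'.pairing (u i) (u j) ≠ 0 := mul_ne_zero hne.2 ha'
    apply mul_right_cancel₀ hcancel
    set a := P.pairing i j
    set b := P.pairing j i
    set a' := P'.pairing (u i) (u j)
    set b' := P'.pairing (u j) (u i)
    set li := P.RootForm (P.root i) (P.root i)
    set lj := P.RootForm (P.root j) (P.root j)
    set li' := P'.RootForm (P'.root (u i)) (P'.root (u i))
    set lj' := P'.RootForm (P'.root (u j)) (P'.root (u j))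
    calc (q i : ℤ) ^ 2 * li * lj' * (b * a')
        = (q i : ℤ) ^ 2 * (b * li) * (a' * lj') := by ring
      _ = (q i : ℤ) ^ 2 * (a * lj) * (b' * li') := by rw [e1, e2]
      _ = ((q i : ℤ) * a) * ((q i : ℤ) * b') * lj * li' := by ring
      _ = ((q j : ℤ) * a') * ((q j : ℤ) * b) * lj * li' := by rw [e3ij, e3ji]
      _ = (q j : ℤ) ^ 2 * lj * li' * (b * a') := by ring
  have := hconn i j
  induction this with
  | refl => rfl
  | @tail a b _ hab ih =>
    have h1 := hadj a b hab
    have hda := hdpos (u a)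
    apply mul_right_cancel₀ hda.ne'
    calc (q i : ℤ) ^ 2 * P.RootForm (P.root i) (P.root i) *
          P'.RootForm (P'.root (u b)) (P'.root (u b)) * P'.RootForm (P'.root (u a)) (P'.root (u a))
        = ((q i : ℤ) ^ 2 * P.RootForm (P.root i) (P.root i) *
          P'.RootForm (P'.root (u a)) (P'.root (u a))) *
            P'.RootForm (P'.root (u b)) (P'.root (u b)) := by ring
      _ = ((q a : ℤ) ^ 2 * P.RootForm (P.root a) (P.root a) *
          P'.RootForm (P'.root (u i)) (P'.root (u i))) *
            P'.RootForm (P'.root (u b)) (P'.root (u b)) := by rw [ih]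
      _ = ((q a : ℤ) ^ 2 * P.RootForm (P.root a) (P.root a) *
          P'.RootForm (P'.root (u b)) (P'.root (u b))) *
            P'.RootForm (P'.root (u i)) (P'.root (u i)) := by ring
      _ = ((q b : ℤ) ^ 2 * P.RootForm (P.root b) (P.root b) *
          P'.RootForm (P'.root (u a)) (P'.root (u a))) *
            P'.RootForm (P'.root (u i)) (P'.root (u i)) := by rw [h1]
      _ = _ := by ring

end Groth.Agent.S5500
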