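import Groth.Statements.S5501
import Mathlib.LinearAlgebra.RootSystem.Basic
import Mathlib.LinearAlgebra.FreeModule.Finite.Quotient
import Mathlib.LinearAlgebra.Dual.Lemmas
-- import your own Groth.Agent.* helpers here

set_option autoImplicit false
universe u v w
open RootD

namespace Groth.Agent.S5501

section sub

variable {ι : Type u} {M : Type v} {N : Type w} [AddCommGroup M] [AddCommGroup N]
  (P : RootPairing ι ℤ M N)

/-- the span of the roots -/
abbrev M' : Submodule ℤ M := Submodule.span ℤ (Set.range P.root)

/-- restriction map `N → Dual M'` -/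
noncomputable def res : N →ₗ[ℤ] Module.Dual ℤ (M' P) :=
  (M' P).subtype.dualMap ∘ₗ P.toLinearMap.flip

theorem res_apply (y : N) (m : M' P) : res P y m = P.toLinearMap (m : M) y := rfl

theorem res_coroot_injective [Finite ι] : Function.Injective (fun k => res P (P.coroot k)) := by
  have : Module.IsReflexive ℤ M := .of_isPerfPair P.toLinearMap
  have : IsAddTorsionFree M := .of_isTorsionFree ℤ M
  intro k l h
  exact P.coroot.injective (P.injOn_dualMap_subtype_span_root_coroot (Set.mem_range_self k)
    (Set.mem_range_self l) h)

theorem reflexive_sub [Module.Finite ℤ M] : Module.IsReflexive ℤ (M' P) := by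
  have : Module.IsReflexive ℤ M := .of_isPerfPair P.toLinearMap
  infer_instance

noncomputable def subPairing [Finite ι] [Module.Finite ℤ M] :
    RootPairing ι ℤ (M' P) (Module.Dual ℤ (M' P)) :=
  have : Module.IsReflexive ℤ (M' P) := reflexive_sub P
  { toLinearMap := Module.Dual.eval ℤ (M' P)
    isPerfPair_toLinearMap := inferInstance
    root := ⟨fun k => ⟨P.root k, Submodule.subset_span (Set.mem_range_self k)⟩,
      fun k l h => P.root.injective (Subtype.ext_iff.mp h)⟩
    coroot := ⟨fun k => res P (P.coroot k), res_coroot_injective P⟩
    root_coroot_two := fun k => P.root_coroot_two k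
    reflectionPerm := P.reflectionPerm
    reflectionPerm_root := fun k l => Subtype.ext (P.reflectionPerm_root k l)
    reflectionPerm_coroot := fun k l => by
      apply LinearMap.ext
      intro m
      have h := congrArg (fun y => P.toLinearMap (m : M) y) (P.reflectionPerm_coroot k l)
      simp only [map_sub, map_smul, smul_eq_mul] at h
      exact h }

noncomputable def subHom [Finite ι] [Module.Finite ℤ M] : RootPairing.Hom (subPairing P) P where
  weightMap := (M' P).subtype
  coweightMap := res P
  indexEquiv := Equiv.refl ι
  weight_coweight_transpose := by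
    apply LinearMap.ext
    intro y
    apply LinearMap.ext
    intro m
    rfl
  root_weightMap := rfl
  coroot_coweightMap := rfl

end sub

/-- Adjoint case; the simply connected case is dual: a semisimple root datum R is adjoint if and only if
every isogeny R' → R is an isomorphism. -/
theorem result {ι : Type u} {M : Type v} {N : Type w} [AddCommGroup M] [AddCommGroup N]
    (P : RootPairing ι ℤ M N) [Finite ι] [Module.Finite ℤ M] [Module.Finite ℤ N]
    (hss : Module.finrank ℤ (Submodule.span ℤ (Set.range P.root)) = Module.finrank ℤ M) :
    Submodule.span ℤ (Set.range P.root) = ⊤ ↔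
      ∀ (ι' : Type u) (M' N' : Type v) [AddCommGroup M'] [AddCommGroup N'] [Finite ι']
        [Module.Finite ℤ M'] [Module.Finite ℤ N'] (P' : RootPairing ι' ℤ M' N') (f : RootPairing.Hom P' P),
        Function.Injective f.weightMap → Finite (M ⧸ LinearMap.range f.weightMap) →
          Function.Bijective f.weightMap := by
  constructor
  · intro htop ι' M₁ N₁ _ _ _ _ _ P₁ f hinj _
    refine ⟨hinj, ?_⟩
    rw [← LinearMap.range_eq_top, eq_top_iff, ← htop, Submodule.span_le]
    rintro _ ⟨k, rfl⟩
    refine ⟨P₁.root (f.indexEquiv.symm k), ?_⟩
    rw [RootPairing.Hom.root_weightMap_apply, Equiv.apply_symm_apply]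
  · intro h
    have : Module.IsReflexive ℤ M := .of_isPerfPair P.toLinearMap
    have hfin : Finite (M ⧸ LinearMap.range (subHom P).weightMap) := by
      show Finite (M ⧸ LinearMap.range (M' P).subtype)
      rw [Submodule.range_subtype]
      exact Submodule.finiteQuotientOfFreeOfRankEq _ hss
    have : Module.IsReflexive ℤ (M' P) := reflexive_sub P
    have hb := h ι (M' P) (Module.Dual ℤ (M' P)) (subPairing P) (subHom P)
      (Submodule.injective_subtype _) hfin
    have hsurj : Function.Surjective (M' P).subtype := hb.2
    exact (Submodule.range_subtype _).symm.trans (LinearMap.range_eq_top.mpr hsurj)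

end Groth.Agent.S5501
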