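import Groth.Statements.S5502
import Groth.Agent.H28.RootDual

set_option autoImplicit false
open RootD

namespace Groth.Agent.S5502

/-- If β = Σ_{α ∈ Δ} a_α α along a system of simple roots Δ, then ℓ(β) divides 2 a_α ℓ(α), and 2ℓ(β)
divides it when α^v is indivisible (ℓ the canonical quadratic form). -/
theorem result {ι M N : Type*} [AddCommGroup M] [AddCommGroup N]
    (P : RootPairing ι ℤ M N) [Finite ι] [Fintype ι] (Δ : Set ι) (hΔ : RootD.IsSimpleSys P Δ)
    (k : ι) (c : ι →₀ ℤ) (hc : ↑c.support ⊆ Δ) (hck : Finsupp.linearCombination ℤ P.root c = P.root k)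
    (i : ι) (hi : i ∈ Δ) :
    P.RootForm (P.root k) (P.root k) ∣ 2 * c i * P.RootForm (P.root i) (P.root i) ∧
      (RootD.IsIndiv P.flip i → 2 * P.RootForm (P.root k) (P.root k) ∣ 2 * c i * P.RootForm (P.root i) (P.root i)) := by
  classical
  -- the submodule of "even" combinations
  let Q₁ : Submodule ℤ N :=
    { carrier := {y | ∃ n : ι → ℤ, (∀ a, a ∉ Δ → n a = 0) ∧
        (2 : ℤ) • y = ∑ a, n a • P.coroot a ∧ ∀ a ∈ Δ, RootD.IsIndiv P.flip a → 2 ∣ n a}
      zero_mem' := ⟨0, fun _ _ => rfl, by simp, fun _ _ _ => dvd_zero _⟩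
      add_mem' := by
        rintro y y' ⟨n, hn0, hn, hnp⟩ ⟨n', hn0', hn', hnp'⟩
        refine ⟨n + n', fun a ha => by simp [hn0 a ha, hn0' a ha], ?_, fun a ha hind =>
          dvd_add (hnp a ha hind) (hnp' a ha hind)⟩
        rw [smul_add, hn, hn', ← Finset.sum_add_distrib]
        exact Finset.sum_congr rfl fun a _ => by rw [Pi.add_apply, add_smul]
      smul_mem' := by
        rintro t y ⟨n, hn0, hn, hnp⟩
        refine ⟨fun a => t * n a, fun a ha => by simp [hn0 a ha], ?_, fun a ha hind =>
          Dvd.dvd.mul_left (hnp a ha hind) t⟩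
        rw [smul_comm, hn, Finset.smul_sum]
        exact Finset.sum_congr rfl fun a _ => by rw [mul_smul] }
  have hQa : ∀ a ∈ Δ, P.coroot a ∈ Q₁ := by
    intro a ha
    refine ⟨fun b => if b = a then (2 : ℤ) else 0, fun b hb => ?_, ?_, fun b _ _ => ?_⟩
    · have : b ≠ a := fun e => hb (e ▸ ha)
      simp [this]
    · simp only [ite_smul, zero_smul, Finset.sum_ite_eq', Finset.mem_univ, if_true]
    · show (2 : ℤ) ∣ if b = a then (2 : ℤ) else 0
      split_ifs <;> simp
  have hQa' : ∀ j : ι, ∀ a ∈ Δ, (2 : ℤ) • P.coroot j = P.coroot a → P.coroot j ∈ Q₁ := by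
    intro j a ha hja
    refine ⟨fun b => if b = a then (1 : ℤ) else 0, fun b hb => ?_, ?_, fun b _ hind => ?_⟩
    · have : b ≠ a := fun e => hb (e ▸ ha)
      simp [this]
    · simp only [ite_smul, zero_smul, one_smul, Finset.sum_ite_eq', Finset.mem_univ, if_true]
      exact hja
    · by_cases hba : b = a
      · subst hba
        exact absurd hja (hind j)
      · show (2 : ℤ) ∣ if b = a then (1 : ℤ) else 0
        simp [hba]
  obtain ⟨n, hn0, hn, hnp⟩ := Groth.Agent.H28.coroot_mem_of_simple hΔ Q₁ hQa hQa' k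
  have hroot : P.root k = ∑ a, c a • P.root a := by
    rw [← hck, Finsupp.linearCombination_apply, Finsupp.sum_fintype _ _ (by simp)]
  have hL2 := Groth.Agent.H28.rootForm_smul_coroot_eq k (fun a => c a) hroot
  have hc0 : ∀ a, a ∉ Δ → c a = 0 := by
    intro a ha
    by_contra hne
    exact ha (hc (Finsupp.mem_support_iff.2 hne))
  have hf := Groth.Agent.H28.lin_coroot hΔ
    (fun a => P.RootForm (P.root k) (P.root k) * n a -
      2 * (c a * P.RootForm (P.root a) (P.root a)))
    (fun a ha => by simp [hn0 a ha, hc0 a ha]) (by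
      simp only [sub_smul, mul_smul, Finset.sum_sub_distrib]
      rw [← Finset.smul_sum, ← Finset.smul_sum, ← hn]
      have : ∑ x, c x • (P.RootForm (P.root x) (P.root x)) • P.coroot x =
          P.RootForm (P.root k) (P.root k) • P.coroot k := by
        rw [hL2]
        exact Finset.sum_congr rfl fun a _ => by rw [mul_smul]
      rw [this, smul_comm, sub_self])
  have hi' : P.RootForm (P.root k) (P.root k) * n i =
      2 * (c i * P.RootForm (P.root i) (P.root i)) := by
    have := congrFun hf i
    simp only [Pi.zero_apply] at this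
    linarith
  constructor
  · exact ⟨n i, by rw [hi']; ring⟩
  · intro hind
    obtain ⟨t, ht⟩ := hnp i hi hind
    refine ⟨t, ?_⟩
    rw [ht] at hi'
    linarith

end Groth.Agent.S5502
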