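import Groth.Statements.S5504
import Groth.Agent.H28.RootWeyl

set_option autoImplicit false
open RootPairing
open scoped Pointwise
open RootD

namespace Groth.Agent.S5504

open Groth.Agent.H28

section helpers

variable {ι M N : Type*} [AddCommGroup M] [AddCommGroup N] {P : RootPairing ι ℤ M N}

theorem simple_indiv {Δ : Set ι} (hΔ : RootD.IsSimpleSys P Δ) {a : ι} (ha : a ∈ Δ) :
    RootD.IsIndiv P a := by
  intro j hj
  rcases hΔ.mem_or_neg_mem j with h | h
  · obtain ⟨s, hs, hsum⟩ := exists_multiset_of_mem_natSpan P h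
    have h0 : Finsupp.single a (1 : ℤ) = (2 : ℤ) • msF s := by
      apply coeff_unique hΔ (Finsupp.single_mem_supported ℤ 1 ha)
        (Submodule.smul_mem _ _ (msF_supported s hs))
      rw [map_smul, linearCombination_msF, ← hsum, hj]
      simp
    have h1 := DFunLike.congr_fun h0 a
    simp only [Finsupp.single_eq_same, Finsupp.coe_smul, Pi.smul_apply, smul_eq_mul] at h1
    omega
  · obtain ⟨s, hs, hsum⟩ := exists_multiset_of_mem_natSpan P h
    have h0 : Finsupp.single a (1 : ℤ) = (-2 : ℤ) • msF s := by
      apply coeff_unique hΔ (Finsupp.single_mem_supported ℤ 1 ha)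
        (Submodule.smul_mem _ _ (msF_supported s hs))
      rw [map_smul, linearCombination_msF, ← hsum]
      simp only [Finsupp.linearCombination_single, one_smul, smul_neg, neg_smul, neg_neg]
      exact hj.symm
    have h1 := DFunLike.congr_fun h0 a
    simp only [Finsupp.single_eq_same, Finsupp.coe_smul, Pi.smul_apply, smul_eq_mul] at h1
    omega

theorem not_pos_neg {Δ : Set ι} (hΔ : RootD.IsSimpleSys P Δ) (k : ι)
    (h1 : P.root k ∈ RootD.natSpan P Δ) (h2 : -P.root k ∈ RootD.natSpan P Δ) : False := by
  obtain ⟨s, hs, hsum⟩ := exists_multiset_of_mem_natSpan P h1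
  obtain ⟨t, ht, hsum'⟩ := exists_multiset_of_mem_natSpan P h2
  have h0 : msF s + msF t = 0 := by
    apply coeff_unique hΔ (add_mem (msF_supported s hs) (msF_supported t ht)) (zero_mem _)
    rw [map_add, linearCombination_msF, linearCombination_msF, ← hsum, ← hsum']
    simp
  have hs0 : s = 0 := by
    by_contra hne
    obtain ⟨b, hb⟩ := Multiset.exists_mem_of_ne_zero hne
    have h1 := DFunLike.congr_fun h0 b
    simp only [Finsupp.coe_add, Pi.add_apply, Finsupp.coe_zero, Pi.zero_apply] at h1
    have := one_le_msF_of_mem hb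
    have := msF_nonneg t b
    omega
  subst hs0
  simp at hsum
  exact P.ne_zero k hsum

theorem eq_simple_of_pos_of_reflection_neg [Finite ι] {Δ : Set ι} (hΔ : RootD.IsSimpleSys P Δ)
    {a : ι} (ha : a ∈ Δ) (k : ι) (hind : RootD.IsIndiv P k)
    (hpos : P.root k ∈ RootD.natSpan P Δ)
    (hneg : -P.root (P.reflectionPerm a k) ∈ RootD.natSpan P Δ) : k = a := by
  obtain ⟨s, hs, hsum⟩ := exists_multiset_of_mem_natSpan P hpos
  obtain ⟨t, ht, hsum'⟩ := exists_multiset_of_mem_natSpan P hneg
  have hroot₁ : P.root (P.reflectionPerm a k) =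
      (s.map P.root).sum - P.pairing k a • P.root a := by
    rw [P.root_reflectionPerm, P.reflection_apply, P.root_coroot'_eq_pairing, hsum]
  have h0 : P.pairing k a • Finsupp.single a (1 : ℤ) - msF s = msF t := by
    apply coeff_unique hΔ (sub_mem (Submodule.smul_mem _ _
      (Finsupp.single_mem_supported ℤ 1 ha)) (msF_supported s hs)) (msF_supported t ht)
    rw [map_sub, map_smul, linearCombination_msF, linearCombination_msF, ← hsum', hroot₁]
    simp
  have hall : ∀ b ∈ s, b = a := by
    intro b hb
    by_contra hba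
    have h1 := DFunLike.congr_fun h0 b
    have hab : (Finsupp.single a (1 : ℤ)) b = 0 := Finsupp.single_eq_of_ne hba
    simp only [Finsupp.coe_sub, Finsupp.coe_smul, Pi.sub_apply, Pi.smul_apply, hab,
      smul_zero, zero_sub] at h1
    have := msF_nonneg t b
    have := one_le_msF_of_mem hb
    omega
  have hsne : s ≠ 0 := by
    rintro rfl
    simp at hsum
    exact P.ne_zero k hsum
  obtain ⟨b, hb⟩ := Multiset.exists_mem_of_ne_zero hsne
  have has : a ∈ s := hall b hb ▸ hb
  by_cases hkΔ : k ∈ Δ
  · have hu : msF s = msF ({k} : Multiset ι) :=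
      msF_unique hΔ hs (by simpa using hkΔ) (by simpa using hsum.symm)
    have hks : k ∈ s := by
      by_contra hks
      have h1 := msF_eq_zero_of_not_mem hks
      rw [hu] at h1
      have := one_le_msF_of_mem (show k ∈ ({k} : Multiset ι) by simp)
      omega
    exact hall k hks
  · obtain ⟨b', hb's, hb'a⟩ := exists_other_of_indiv k s hs hsum hkΔ hind a has
    exact absurd (hall b' hb's) hb'a

theorem exists_sign_change {Δ : Set ι} (hΔ : RootD.IsSimpleSys P Δ) (α : ι)
    (hα : P.root α ∈ RootD.natSpan P Δ) :
    ∀ l₀ : List ι, -P.root ((l₀.map fun a => Equiv.reflection P a).prod • α) ∈ RootD.natSpan P Δ →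
      ∃ p a r, l₀ = p ++ a :: r ∧
        P.root ((r.map fun a => Equiv.reflection P a).prod • α) ∈ RootD.natSpan P Δ ∧
        -P.root (P.reflectionPerm a ((r.map fun a => Equiv.reflection P a).prod • α)) ∈
          RootD.natSpan P Δ := by
  intro l₀
  induction l₀ with
  | nil =>
    intro h
    simp only [List.map_nil, List.prod_nil, one_smul] at h
    exact (not_pos_neg hΔ α hα h).elim
  | cons a l₁ ih =>
    intro h
    rw [List.map_cons, List.prod_cons, mul_smul, reflection_smul_index] at h
    rcases hΔ.mem_or_neg_mem ((l₁.map fun a => Equiv.reflection P a).prod • α) with h' | h'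
    · exact ⟨[], a, l₁, rfl, h', h⟩
    · obtain ⟨p, a', r, hl, h1, h2⟩ := ih h'
      exact ⟨a :: p, a', r, by rw [hl]; rfl, h1, h2⟩

theorem isIndiv_prod_smul (l : List ι) {k : ι} (hind : RootD.IsIndiv P k) :
    RootD.IsIndiv P ((l.map fun a => Equiv.reflection P a).prod • k) := by
  induction l with
  | nil => simpa using hind
  | cons a l ih =>
    rw [List.map_cons, List.prod_cons, mul_smul, reflection_smul_index]
    exact isIndiv_reflectionPerm ih

end helpers

/-- Stated for the group generated by the simple reflections (rather than for the abstractly presented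
group): if w = s_{α_1} ⋯ s_{α_m} is a word of minimal length in the simple reflections, then w(α_m)
is a negative root. -/
theorem result {ι M N : Type*} [AddCommGroup M] [AddCommGroup N]
    (P : RootPairing ι ℤ M N) [Finite ι] (Δ : Set ι) (hΔ : RootD.IsSimpleSys P Δ)
    (l : List ι) (hl : ∀ a ∈ l, a ∈ Δ) (hne : l ≠ [])
    (hmin : ∀ l' : List ι, (∀ a ∈ l', a ∈ Δ) →
      (l'.map fun a => Equiv.reflection P a).prod = (l.map fun a => Equiv.reflection P a).prod → l.length ≤ l'.length) :
    -P.root ((l.map fun a => Equiv.reflection P a).prod • l.getLast hne) ∈ RootD.natSpan P Δ := by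
  obtain ⟨l₀, α, rfl⟩ : ∃ l₀ α, l = l₀ ++ [α] :=
    ⟨l.dropLast, l.getLast hne, (List.dropLast_append_getLast hne).symm⟩
  have hαΔ : α ∈ Δ := hl α (by simp)
  have hl₀ : ∀ a ∈ l₀, a ∈ Δ := fun a ha => hl a (by simp [ha])
  have hlast : (l₀ ++ [α]).getLast hne = α := by simp
  rw [hlast, List.map_append, List.prod_append, List.map_cons, List.map_nil, List.prod_cons,
    List.prod_nil, mul_one, mul_smul, reflection_smul_index]
  have hrootneg : ∀ w₀ : P.Aut, P.root (w₀ • P.reflectionPerm α α) = -P.root (w₀ • α) := by
    intro w₀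
    change P.root (w₀.indexEquiv (P.reflectionPerm α α)) = -P.root (w₀.indexEquiv α)
    rw [RootPairing.Equiv.root_indexEquiv_eq_smul, RootPairing.Equiv.root_indexEquiv_eq_smul,
      root_neg, smul_neg]
  rw [hrootneg, neg_neg]
  by_contra hnot
  have hneg := (hΔ.mem_or_neg_mem _).resolve_left hnot
  have hαpos : P.root α ∈ RootD.natSpan P Δ := AddSubmonoid.subset_closure ⟨α, hαΔ, rfl⟩
  obtain ⟨p, a, r, hl₀eq, h1, h2⟩ := exists_sign_change hΔ α hαpos l₀ hneg
  have haΔ : a ∈ Δ := hl₀ a (by rw [hl₀eq]; simp)
  have hua : (r.map fun a => Equiv.reflection P a).prod • α = a :=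
    eq_simple_of_pos_of_reflection_neg hΔ haΔ _ (isIndiv_prod_smul r (simple_indiv hΔ hαΔ)) h1 h2
  have hconj := Groth.Agent.S5503.result P (r.map fun a => Equiv.reflection P a).prod α
  rw [hua] at hconj
  have hcomm : Equiv.reflection P a * (r.map fun a => Equiv.reflection P a).prod =
      (r.map fun a => Equiv.reflection P a).prod * Equiv.reflection P α := by
    rw [← hconj]
    group
  have hsq : Equiv.reflection P α * Equiv.reflection P α = 1 := by
    have := RootPairing.Equiv.reflection_inv P α
    nth_rewrite 1 [← this]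
    exact inv_mul_cancel _
  have hprod : ((p ++ r).map fun a => Equiv.reflection P a).prod =
      ((l₀ ++ [α]).map fun a => Equiv.reflection P a).prod := by
    rw [hl₀eq]
    simp only [List.map_append, List.map_cons, List.prod_append, List.prod_cons, List.map_nil,
      List.prod_nil, mul_one, mul_assoc]
    congr 1
    rw [← mul_assoc, hcomm, mul_assoc, hsq, mul_one]
  have hlen := hmin (p ++ r) (fun x hx => hl₀ x (by
    rw [hl₀eq]
    rcases List.mem_append.1 hx with h | h
    · exact List.mem_append_left _ h
    · exact List.mem_append_right _ (List.mem_cons_of_mem _ h))) hprod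
  rw [hl₀eq] at hlen
  simp only [List.length_append, List.length_cons, List.length_nil] at hlen
  omega

end Groth.Agent.S5504
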