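import Groth.Statements.S5507
import Mathlib.LinearAlgebra.RootSystem.Finite.Nondegenerate
import Mathlib.LinearAlgebra.Matrix.PosDef

set_option autoImplicit false
open RootD

namespace Groth.Agent.S5507

/-- For a system of simple roots Δ there are positive integers m_α (the lengths) such that the matrix
(m_α a_{α,β}) with a_{α,β} = (α^v, β) is symmetric and positive definite. -/
theorem result {ι M N : Type*} [AddCommGroup M] [AddCommGroup N]
    (P : RootPairing ι ℤ M N) [Finite ι] (Δ : Finset ι) (hΔ : RootD.IsSimpleSys P (↑Δ : Set ι)) :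
    ∃ m : ↥Δ → ℤ, (∀ a, 0 < m a) ∧
      (Matrix.of fun (a b : ↥Δ) => m a * P.pairing (b : ι) (a : ι)).IsSymm ∧
      (Matrix.of fun (a b : ↥Δ) => m a * P.pairing (b : ι) (a : ι)).PosDef := by
  classical
  let _ : Fintype ι := Fintype.ofFinite ι
  have hrefl : Module.IsReflexive ℤ M := .of_isPerfPair P.toLinearMap
  have hsymm : ∀ x y : M, P.RootForm x y = P.RootForm y x := fun x y => by
    have := P.rootForm_symmetric.eq x y
    simpa using this
  have h2 : ∀ i j : ι, 2 * P.RootForm (P.root i) (P.root j) =
      P.pairing i j * P.RootForm (P.root j) (P.root j) := by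
    intro i j
    have := P.toInvariantForm.two_mul_apply_root_root i j
    simpa [RootPairing.toInvariantForm_form] using this
  have hpos : ∀ i : ι, 0 < P.RootForm (P.root i) (P.root i) := fun i =>
    P.rootForm_pos_of_ne_zero (Submodule.subset_span (Set.mem_range_self i)) (P.ne_zero i)
  have hM : ∀ a b : ↥Δ, P.RootForm (P.root a) (P.root a) * P.pairing (b : ι) (a : ι) =
      2 * P.RootForm (P.root b) (P.root a) := by
    intro a b
    rw [h2]; ring
  have hsym' : (Matrix.of fun (a b : ↥Δ) =>
      P.RootForm (P.root a) (P.root a) * P.pairing (b : ι) (a : ι)).IsSymm := by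
    apply Matrix.IsSymm.ext
    intro a b
    simp only [Matrix.of_apply]
    rw [hM, hM, hsymm]
  refine ⟨fun a => P.RootForm (P.root a) (P.root a), fun a => hpos a, hsym', ?_, ?_⟩
  · rw [Matrix.isHermitian_iff_isSymm]
    exact hsym'
  · intro x hx
    set v : M := Finsupp.linearCombination ℤ (fun a : ↥Δ => P.root a) x with hv
    have hvne : v ≠ 0 := by
      intro h0
      exact hx ((linearIndependent_iff.1 hΔ.linInd) x h0)
    have hvmem : v ∈ P.rootSpan ℤ := by
      rw [hv, Finsupp.linearCombination_apply]
      apply Submodule.sum_mem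
      intro a _
      exact Submodule.smul_mem _ _ (Submodule.subset_span (Set.mem_range_self _))
    have hBv : P.RootForm v v =
        x.sum fun i xi => x.sum fun j xj => xi * P.RootForm (P.root i) (P.root j) * xj := by
      rw [hv, Finsupp.linearCombination_apply]
      simp only [Finsupp.sum, map_sum, LinearMap.sum_apply, map_smul, LinearMap.smul_apply,
        smul_eq_mul, Finset.mul_sum]
      refine Finset.sum_congr rfl fun i _ => Finset.sum_congr rfl fun j _ => ?_
      rw [hsymm (P.root ↑j) (P.root ↑i)]
      ring
    have key : (x.sum fun i xi => x.sum fun j xj => star xi *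
        (Matrix.of fun (a b : ↥Δ) =>
          P.RootForm (P.root a) (P.root a) * P.pairing (b : ι) (a : ι)) i j * xj) =
        2 * P.RootForm v v := by
      rw [hBv]
      simp only [Finsupp.sum, Matrix.of_apply, star_trivial, Finset.mul_sum]
      refine Finset.sum_congr rfl fun i _ => Finset.sum_congr rfl fun j _ => ?_
      rw [hM, hsymm]; ring
    rw [key]
    have := P.rootForm_pos_of_ne_zero hvmem hvne
    linarith

end Groth.Agent.S5507
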