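import Groth.Statements.S5580
import Groth.Agent.H28.ToposCoprod

set_option autoImplicit false
open CategoryTheory CategoryTheory.Limits Opposite
universe u
open ToposFin
open Groth.Agent.H28.Topos

namespace Groth.Agent.S5580

/-- Quasi-compact and coherent cases: for the topos of sheaves of sets on a small site: let (X_i) be a
finite family of objects with coproduct X (given as a colimit cofan) and f : X -> Y a morphism with
components f_i : X_i -> Y. Then f is quasi-compact (resp. coherent) if and only if every f_i is. -/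
theorem result {C : Type u} [SmallCategory C] {J : GrothendieckTopology C}
    {Y : ToposFin.Sh J} {n : ℕ} (X : Fin n → ToposFin.Sh J) (c : Cofan X) (hc : IsColimit c)
    (f : c.pt ⟶ Y) :
    (ToposFin.IsQCHom f ↔ ∀ i, ToposFin.IsQCHom (c.inj i ≫ f)) ∧
    (ToposFin.IsCohHom f ↔ ∀ i, ToposFin.IsCohHom (c.inj i ≫ f)) := by
  have hA : IsQCHom f ↔ ∀ i, IsQCHom (c.inj i ≫ f) := by
    constructor
    · intro hf i
      exact isQCHom_comp (c.inj i) f (isQCHom_inj c hc i) hf
    · intro h Y' g hY'
      exact isQC_of_cover_left (IsPullback.of_hasPullback f g) c.inj (je_inj hc)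
        (fun i => h i Y' g hY')
  have hB : IsQSHom f ↔ ∀ i, IsQSHom (c.inj i ≫ f) := isQSHom_desc_iff c hc f
  refine ⟨hA, ?_⟩
  constructor
  · intro hf i
    exact ⟨hA.mp hf.1 i, hB.mp hf.2 i⟩
  · intro h
    exact ⟨hA.mpr (fun i => (h i).1), hB.mpr (fun i => (h i).2)⟩

end Groth.Agent.S5580
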