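import Groth.Statements.S5582
import Groth.Agent.H30.FinPres

set_option autoImplicit false
open CategoryTheory CategoryTheory.Limits Opposite
universe u
open ToposFin

namespace Groth.Agent.S5582

/-- Equivalence of (i), (ii bis) and (iii), for the topos of sheaves of sets on a small site admitting a
generating family of coherent objects: the coequalizer of every pair of arrows between coherent
objects is coherent if and only if every object X for which Hom(X, -) commutes with small filtered
colimits is coherent; and every object is a small filtered colimit of coherent objects if and only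
if that same condition holds. -/
theorem result {C : Type u} [SmallCategory C]
    {J : GrothendieckTopology C} (hE : ToposFin.HasCoherentGenerators J) :
    ((∀ (X₀ X₁ : ToposFin.Sh J) (a b : X₁ ⟶ X₀), ToposFin.IsCoherent X₀ → ToposFin.IsCoherent X₁ →
        ToposFin.IsCoherent (coequalizer a b)) ↔
      (∀ X : ToposFin.Sh J, ToposFin.IsFP X → ToposFin.IsCoherent X)) ∧
    ((∀ X : ToposFin.Sh J, ∃ (I : Type u) (_ : SmallCategory I) (_ : IsFiltered I) (D : I ⥤ ToposFin.Sh J),
        (∀ i, ToposFin.IsCoherent (D.obj i)) ∧ Nonempty (X ≅ colimit D)) ↔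
      (∀ X : ToposFin.Sh J, ToposFin.IsFP X → ToposFin.IsCoherent X)) := by
  have hQC := H30.FinPres.hasQCGenerators_of_coherent hE
  refine ⟨⟨fun h X hX => ?_, fun h X₀ X₁ a b h₀ h₁ => ?_⟩, ⟨fun h X hX => ?_, fun h X => ?_⟩⟩
  · obtain ⟨X₀, X₁, a, b, i, p, h₀, h₁, hip⟩ := H30.FinPres.exists_retract_of_isFP hE hX
    exact H30.FinPres.isCoherent_of_retract i p hip (h X₀ X₁ a b h₀ h₁)
  · apply h
    exact H30.FinPres.isFP_of_retract_coequalizer hQC a b (𝟙 _) (𝟙 _) h₀ h₁.1 (Category.id_comp _)
  · obtain ⟨I, _, _, D, hD, ⟨e⟩⟩ := h X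
    obtain ⟨i, a, ha⟩ := ((H30.FinPres.isFP_iff X).1 hX I D).2 e.hom
    have ha' : a ≫ colimit.ι D i = e.hom := ha
    refine H30.FinPres.isCoherent_of_retract a (colimit.ι D i ≫ e.inv) ?_ (hD i)
    rw [← Category.assoc, ha', e.hom_inv_id]
  · exact H30.FinPres.exists_filtered_colimit_of_coherent hE h X

end Groth.Agent.S5582
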