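import Groth.Statements.S5583
import Groth.Agent.H28.ToposSite

set_option autoImplicit false
open CategoryTheory CategoryTheory.Limits Opposite
universe u
open ToposFin
open Groth.Agent.H28.Topos

namespace Groth.Agent.S5583

/-- Let (C, J) be a small site with fibre products all of whose objects are quasi-compact. In the topos
of sheaves of sets, if G -> F <- H are morphisms between coherent objects and F lies over the sheaf
associated to some object of C, then G x_F H is coherent (so the coherent objects lying over such
sheaves form a generating family stable under fibre products). -/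
theorem result {C : Type u} [SmallCategory C] [HasPullbacks C]
    (J : GrothendieckTopology C) (hC : ∀ X : C, ToposFin.IsQCSite J X)
    {G H F : ToposFin.Sh J} (a : G ⟶ F) (b : H ⟶ F) (hG : ToposFin.IsCoherent G) (hH : ToposFin.IsCoherent H)
    (hF : ToposFin.IsCoherent F) (X : C) (w : F ⟶ ToposFin.eps J X) :
    ToposFin.IsCoherent (pullback a b) := by
  refine ⟨hF.2 G H a b hG.1 hH.1, ?_⟩
  have h1 : IsQS (pullback (a ≫ w) (b ≫ w)) :=
    isQS_pullback_over_eps J hC hG.2 hH.2 (a ≫ w) (b ≫ w)
  have hmono : Mono (pullback.diagonal w) := inferInstance
  have h2 : IsQSHom (pullback.diagonal w) := isQSHom_of_mono _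
  have h3 : IsQSHom (pullback.map a b (a ≫ w) (b ≫ w) (𝟙 G) (𝟙 H) w (Category.id_comp _).symm
      (Category.id_comp _).symm) :=
    (qcHom (J := J)).diagonal.of_isPullback (pullback_map_diagonal_isPullback a b w) h2
  exact isQS_of_isQSHom _ h3 h1

end Groth.Agent.S5583
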