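import Groth.Statements.S5585
import Groth.Agent.H28.ToposQS

set_option autoImplicit false
open CategoryTheory CategoryTheory.Limits Opposite
universe u
open ToposFin
open Groth.Agent.H28.Topos

namespace Groth.Agent.S5585

/-- For an algebraic topos of sheaves of sets on a small site and a morphism f : X -> Y: if Y is
quasi-separated (resp. coherent), then X is quasi-separated (resp. coherent) if and only if f is a
quasi-separated (resp. coherent) morphism. -/
theorem result {C : Type u} [SmallCategory C] {J : GrothendieckTopology C}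
    (hE : ToposFin.IsAlgebraic J) {X Y : ToposFin.Sh J} (f : X ⟶ Y) :
    (ToposFin.IsQS Y → (ToposFin.IsQS X ↔ ToposFin.IsQSHom f)) ∧
    (ToposFin.IsCoherent Y → (ToposFin.IsCoherent X ↔ ToposFin.IsCohHom f)) := by
  obtain ⟨S, hqc, hgen, hpb, heq⟩ := hE
  have key : IsQS X → IsQSHom f := fun hX => isQSHom_of_isQS_algebraic S hqc hgen heq hX f
  refine ⟨fun hY => ⟨key, fun hf => isQS_of_isQSHom f hf hY⟩,
    fun hY => ⟨fun hX => ⟨?_, key hX.2⟩, fun hf => ⟨?_, isQS_of_isQSHom f hf.2 hY.2⟩⟩⟩
  · intro Y' g hY'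
    exact hY.2 X Y' f g hX.1 hY'
  · have h1 : IsQC (pullback f (𝟙 Y)) := hf.1 Y (𝟙 Y) hY.1
    exact isQC_of_iso (asIso (pullback.fst f (𝟙 Y))).symm h1

end Groth.Agent.S5585
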