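import Groth.Statements.S5586
import Groth.Agent.H28.ToposQS

set_option autoImplicit false
open CategoryTheory CategoryTheory.Limits Opposite
universe u
open ToposFin
open Groth.Agent.H28.Topos

namespace Groth.Agent.S5586

/-- Quasi-separated and coherent cases: for an algebraic topos of sheaves of sets on a small site: let f
: X -> Y be a morphism and (Y_i -> Y) a jointly epimorphic family. If the Y_i are quasi-separated
(resp. coherent), then f is quasi-separated (resp. coherent) if and only if every X x_Y Y_i is a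
quasi-separated (resp. coherent) object. -/
theorem result {C : Type u} [SmallCategory C]
    {J : GrothendieckTopology C} (hE : ToposFin.IsAlgebraic J) {X Y : ToposFin.Sh J} (f : X ⟶ Y)
    {ι : Type u} (Yi : ι → ToposFin.Sh J) (g : ∀ i, Yi i ⟶ Y)
    (hg : ∀ (Z : ToposFin.Sh J) (a b : Y ⟶ Z), (∀ i, g i ≫ a = g i ≫ b) → a = b) :
    ((∀ i, ToposFin.IsQS (Yi i)) → (ToposFin.IsQSHom f ↔ ∀ i, ToposFin.IsQS (pullback f (g i)))) ∧
    ((∀ i, ToposFin.IsCoherent (Yi i)) →
      (ToposFin.IsCohHom f ↔ ∀ i, ToposFin.IsCoherent (pullback f (g i)))) := by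
  obtain ⟨S, hqc, hgen, hpb, heq⟩ := hE
  have hS_qs : ∀ K ∈ S, IsQS K := fun K hK => isQS_of_mem S hqc hgen hpb hK
  have fwd : (∀ i, IsQS (Yi i)) → IsQSHom f → ∀ i, IsQS (pullback f (g i)) := by
    intro hY hf i
    exact isQS_of_isQSHom (pullback.snd f (g i)) (isQSHom_pullback_snd f (g i) hf) (hY i)
  have hW : ∀ i, IsQS (pullback f (g i)) → ∀ K ∈ S, ∀ t : K ⟶ Yi i,
      IsQS (pullback f (t ≫ g i)) := by
    intro i hi K hK t
    have h1 : IsQSHom t := isQSHom_of_isQS_algebraic S hqc hgen heq (hS_qs K hK) t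
    have h2 : IsQSHom (pullback.fst (pullback.snd f (g i)) t) := isQSHom_pullback_fst _ _ h1
    have h3 : IsQS (pullback (pullback.snd f (g i)) t) := isQS_of_isQSHom _ h2 hi
    exact isQS_of_iso (pullbackLeftPullbackSndIso f (g i) t).symm h3
  have bwd : (∀ i, IsQS (pullback f (g i))) → IsQSHom f := by
    intro hX
    show IsQCHom (pullback.diagonal f)
    apply isQCHom_of_generators S hgen
    intro K hK k
    obtain ⟨κ, hκ, F, ρ, idx, t, hF, hρ, hfac⟩ := exists_finite_cover_factoring
      (genBy_of_isGenerating hgen) g hg (hqc K hK) ((k ≫ pullback.fst f f) ≫ f)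
    refine isQC_of_cover_right (IsPullback.of_hasPullback (pullback.diagonal f) k) ρ hρ
      (fun j => ?_)
    apply isQC_pullback_diagonal f (hqc _ (hF j)) (ρ j ≫ k) f (t j ≫ g (idx j))
    · rw [← hfac j]
      simp only [Category.assoc]
    · rw [← hfac j]
      simp only [Category.assoc]
      rw [pullback.condition]
    · exact hW _ (hX _) _ (hF j) _
  refine ⟨fun hY => ⟨fwd hY, bwd⟩, fun hY => ⟨fun hf i => ⟨hf.1 (Yi i) (g i) (hY i).1,
    fwd (fun i => (hY i).2) hf.2 i⟩, fun hX => ⟨?_, bwd (fun i => (hX i).2)⟩⟩⟩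
  intro Y' h hY'
  obtain ⟨κ, hκ, F, ρ, idx, t, hF, hρ, hfac⟩ := exists_finite_cover_factoring
    (genBy_of_isGenerating hgen) g hg hY' h
  refine isQC_of_cover_right (IsPullback.of_hasPullback f h) ρ hρ (fun j => ?_)
  refine isQC_pullback_congr rfl (hfac j) ?_
  exact isQC_of_iso (pullbackLeftPullbackSndIso f (g (idx j)) (t j)).symm
    ((hY (idx j)).2 _ _ (pullback.snd f (g (idx j))) (t j) (hX (idx j)).1 (hqc _ (hF j)))

end Groth.Agent.S5586
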