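import Groth.Statements.S5588
import Groth.Agent.H30.FinPres

set_option autoImplicit false
open CategoryTheory CategoryTheory.Limits Opposite
universe u
open ToposFin

namespace Groth.Agent.S5588

/-- (ii) implies (i), for the topos of sheaves of sets on a small site: let S be an isomorphism-closed
generating set of quasi-compact objects, stable under finite colimits and under fibre products. Then
S is the set of all coherent objects (so the topos is locally coherent), and every object X for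
which Hom(X, -) commutes with small filtered colimits is coherent. -/
theorem result {C : Type u} [SmallCategory C]
    {J : GrothendieckTopology C} (S : Set (ToposFin.Sh J)) (hqc : ∀ K ∈ S, ToposFin.IsQC K)
    (hiso : ∀ ⦃K L : ToposFin.Sh J⦄, K ∈ S → Nonempty (K ≅ L) → L ∈ S)
    (hgen : ToposFin.IsGenerating S) (hpb : ToposFin.ClosedUnderPullbacks S)
    (hcolim : ∀ (K : Type) [SmallCategory K] [FinCategory K] (D : K ⥤ ToposFin.Sh J),
      (∀ k, D.obj k ∈ S) → colimit D ∈ S) :
    (∀ X : ToposFin.Sh J, X ∈ S ↔ ToposFin.IsCoherent X) ∧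
    (∀ X : ToposFin.Sh J, ToposFin.IsFP X → ToposFin.IsCoherent X) := by
  classical
  have hsub : ∀ X : ToposFin.Sh J, X ∈ S → ToposFin.IsCoherent X := fun X hX =>
    ⟨hqc X hX, H30.TFin.isQS_of_mem hqc hgen hpb hX⟩
  have hE : ToposFin.HasCoherentGenerators J := fun X => by
    obtain ⟨ι, F, π, hF, hπ⟩ := hgen X
    exact ⟨ι, F, π, fun i => hsub _ (hF i),
      (H30.TFin.epi_sigmaDesc_iff π).2 (fun Z a b h => hπ Z a b h)⟩
  have hcov : ∀ Y : ToposFin.Sh J, ToposFin.IsQC Y → ∃ (n : ℕ) (A : Fin n → ToposFin.Sh J)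
      (ρ : ∀ m, A m ⟶ Y), (∀ m, A m ∈ S) ∧ H30.TFin.JE ρ := by
    intro Y hY
    obtain ⟨ι, F, π, hF, hπ⟩ := hgen Y
    obtain ⟨s, hs⟩ := (H30.TFin.isQC_iff.1 hY) ι F π (fun Z a b h => hπ Z a b h)
    refine ⟨s.card, fun m => F (s.equivFin.symm m), fun m => π (s.equivFin.symm m),
      fun m => hF _, ?_⟩
    intro Z a b hab
    apply hs
    intro i
    obtain ⟨m, rfl⟩ := s.equivFin.symm.surjective i
    exact hab m
  have hcoprod : ∀ (n : ℕ) (A : Fin n → ToposFin.Sh J), (∀ m, A m ∈ S) → (∐ A) ∈ S :=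
    fun n A hA => hcolim (Discrete (Fin n)) (Discrete.functor A) (fun k => hA k.as)
  have hcoeq : ∀ {A B : ToposFin.Sh J} (a b : A ⟶ B), A ∈ S → B ∈ S → coequalizer a b ∈ S :=
    fun {A B} a b hA hB => hcolim WalkingParallelPair (parallelPair a b) (by
      rintro (_ | _)
      · exact hA
      · exact hB)
  have hsup : ∀ X : ToposFin.Sh J, ToposFin.IsCoherent X → X ∈ S := by
    intro X hX
    obtain ⟨n, A, π, hA, hπ⟩ := hcov X hX.1
    have hTS : (∐ A) ∈ S := hcoprod n A hA
    let t : (∐ A) ⟶ X := Sigma.desc π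
    haveI : Epi t := (H30.TFin.epi_sigmaDesc_iff π).2 hπ
    have hT : ToposFin.IsQC (∐ A) := hqc _ hTS
    have hR : ToposFin.IsQC (pullback t t) := hX.2 _ _ t t hT hT
    obtain ⟨n', B, ρ, hB, hρ⟩ := hcov _ hR
    have hR'S : (∐ B) ∈ S := hcoprod n' B hB
    let r : (∐ B) ⟶ pullback t t := Sigma.desc ρ
    haveI : Epi r := (H30.TFin.epi_sigmaDesc_iff ρ).2 hρ
    haveI : IsRegularEpi t := IsRegularEpiCategory.regularEpiOfEpi t
    have hQS : coequalizer (r ≫ pullback.fst t t) (r ≫ pullback.snd t t) ∈ S :=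
      hcoeq _ _ hR'S hTS
    refine hiso hQS ⟨?_⟩
    have w : (r ≫ pullback.fst t t) ≫ t = (r ≫ pullback.snd t t) ≫ t := by
      rw [Category.assoc, Category.assoc, pullback.condition]
    have w' : pullback.fst t t ≫ coequalizer.π (r ≫ pullback.fst t t) (r ≫ pullback.snd t t) =
        pullback.snd t t ≫ coequalizer.π (r ≫ pullback.fst t t) (r ≫ pullback.snd t t) := by
      rw [← cancel_epi r, ← Category.assoc, ← Category.assoc]
      exact coequalizer.condition _ _
    refine ⟨coequalizer.desc t w, EffectiveEpi.desc t (coequalizer.π _ _) (fun g₁ g₂ hg => by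
        rw [← pullback.lift_fst g₁ g₂ hg, Category.assoc, w', ← Category.assoc,
          pullback.lift_snd]), ?_, ?_⟩
    · apply coequalizer.hom_ext
      rw [← Category.assoc, coequalizer.π_desc, EffectiveEpi.fac, Category.comp_id]
    · rw [← cancel_epi t, ← Category.assoc, EffectiveEpi.fac, coequalizer.π_desc,
        Category.comp_id]
  refine ⟨fun X => ⟨hsub X, hsup X⟩, fun X hX => ?_⟩
  obtain ⟨X₀, X₁, a, b, i, p, h₀, h₁, hip⟩ := H30.FinPres.exists_retract_of_isFP hE hX
  exact H30.FinPres.isCoherent_of_retract i p hip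
    (hsub _ (hcoeq a b (hsup _ h₁) (hsup _ h₀)))

end Groth.Agent.S5588
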