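import Groth.Statements.S5589
import Groth.Agent.H30.TFin

set_option autoImplicit false
open CategoryTheory CategoryTheory.Limits Opposite
universe u
open ToposFin

namespace Groth.Agent.S5589

/-- Let f be a morphism of topoi of sheaves of sets on small sites, with inverse image functor F (left
adjoint, preserving finite limits), and let S be a generating set of quasi-compact objects of the
target topos. Then f is quasi-compact, i.e. F carries quasi-compact objects to quasi-compact
objects, if and only if F(X) is quasi-compact for every X in S. -/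
theorem result {C D : Type u} [SmallCategory C] [SmallCategory D]
    {J : GrothendieckTopology C} {K : GrothendieckTopology D}
    (F : ToposFin.Sh K ⥤ ToposFin.Sh J) (R : ToposFin.Sh J ⥤ ToposFin.Sh K) (adj : F ⊣ R)
    [PreservesFiniteLimits F]
    (S : Set (ToposFin.Sh K)) (hS : ∀ X ∈ S, ToposFin.IsQC X) (hgen : ToposFin.IsGenerating S) :
    (∀ X : ToposFin.Sh K, ToposFin.IsQC X → ToposFin.IsQC (F.obj X)) ↔ ∀ X ∈ S, ToposFin.IsQC (F.obj X) := by
  constructor
  · intro h X hX
    exact h X (hS X hX)
  · intro h X hX
    obtain ⟨ι, G, π, hGS, hπ⟩ := hgen X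
    have hJE : Groth.Agent.H30.TFin.JE π := fun Z a b hab => hπ Z a b hab
    obtain ⟨s, hs⟩ := Groth.Agent.H30.TFin.isQC_iff.1 hX ι G π hJE
    exact Groth.Agent.H30.TFin.IsQC.of_je_finite (fun i : s => F.map (π i))
      (Groth.Agent.H30.TFin.JE.map_leftAdjoint adj hs) (fun i => h _ (hGS i))

end Groth.Agent.S5589
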