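import Groth.Statements.S5590
import Groth.Agent.H28.ToposQS

set_option autoImplicit false
open CategoryTheory CategoryTheory.Limits Opposite
universe u
open ToposFin
open Groth.Agent.H28.Topos

namespace Groth.Agent.S5590

/-- Let f be a morphism of topoi of sheaves of sets on small sites, with inverse image functor F (left
adjoint, preserving finite limits); let S be a generating set of coherent objects of the target
topos and assume the source topos admits a generating family of quasi-compact objects. Then f is
coherent, i.e. F carries quasi-compact objects to quasi-compact objects and quasi-separated objects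
to quasi-separated objects, if and only if F(X) is coherent for every X in S. -/
theorem result {C D : Type u} [SmallCategory C] [SmallCategory D]
    {J : GrothendieckTopology C} {K : GrothendieckTopology D}
    (F : ToposFin.Sh K ⥤ ToposFin.Sh J) (R : ToposFin.Sh J ⥤ ToposFin.Sh K) (adj : F ⊣ R)
    [PreservesFiniteLimits F]
    (hE' : ToposFin.HasQCGenerators J)
    (S : Set (ToposFin.Sh K)) (hS : ∀ X ∈ S, ToposFin.IsCoherent X) (hgen : ToposFin.IsGenerating S) :
    ((∀ X : ToposFin.Sh K, ToposFin.IsQC X → ToposFin.IsQC (F.obj X)) ∧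
      (∀ X : ToposFin.Sh K, ToposFin.IsQS X → ToposFin.IsQS (F.obj X))) ↔
      ∀ X ∈ S, ToposFin.IsCoherent (F.obj X) := by
  constructor
  · rintro ⟨h1, h2⟩ X hX
    exact ⟨h1 X (hS X hX).1, h2 X (hS X hX).2⟩
  · intro h
    have hqcF : ∀ X : Sh K, IsQC X → IsQC (F.obj X) := by
      intro X hX
      obtain ⟨ι, Xi, π, hXi, hπ⟩ := hgen X
      obtain ⟨s, hs⟩ := (isQC_iff_je X).mp hX ι Xi π hπ
      exact isQC_of_finite_cover (fun i : s => F.map (π i)) (je_map_of_adj F R adj hs)
        (fun i => (h _ (hXi i)).1)
    refine ⟨hqcF, ?_⟩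
    intro X hX A B a b hA hB
    obtain ⟨ι, Xi, π, hXi, hπ⟩ := hgen X
    have hFπ : JE (fun i => F.map (π i)) := je_map_of_adj F R adj hπ
    obtain ⟨κ, hκ, G, ρ, idx, t, hG, hρ, hfac⟩ := exists_finite_cover_factoring
      (genBy_of_hasQCGenerators hE') _ hFπ hA a
    obtain ⟨κ', hκ', G', ρ', idx', t', hG', hρ', hfac'⟩ := exists_finite_cover_factoring
      (genBy_of_hasQCGenerators hE') _ hFπ hB b
    refine isQC_pullback_of_covers a b ρ hρ ρ' hρ' (fun j j' => ?_)
    refine isQC_pullback_congr (hfac j) (hfac' j') ?_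
    apply isQC_pullback_comp_comp (t j) (t' j') (F.map (π (idx j))) (F.map (π (idx' j')))
      (hG j) (hG' j') (h _ (hXi _)).2 (h _ (hXi _)).2
    have h1 : IsQC (pullback (π (idx j)) (π (idx' j'))) :=
      hX _ _ _ _ (hS _ (hXi _)).1 (hS _ (hXi _)).1
    exact isQC_of_iso (PreservesPullback.iso F _ _).symm (hqcF _ h1)

end Groth.Agent.S5590
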