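import Groth.Statements.S5591
import Groth.Agent.H28.ToposQS

set_option autoImplicit false
open CategoryTheory CategoryTheory.Limits Opposite
universe u
open ToposFin
open Groth.Agent.H28.Topos

namespace Groth.Agent.S5591

/-- Let f be a coherent morphism between locally coherent topoi of sheaves of sets on small sites, with
inverse image functor F (left adjoint, preserving finite limits), coherent meaning that F preserves
quasi-compact objects and quasi-separated objects. Then F carries quasi-compact morphisms to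
quasi-compact morphisms. -/
theorem result {C D : Type u} [SmallCategory C] [SmallCategory D]
    {J : GrothendieckTopology C} {K : GrothendieckTopology D}
    (F : ToposFin.Sh K ⥤ ToposFin.Sh J) (R : ToposFin.Sh J ⥤ ToposFin.Sh K) (adj : F ⊣ R)
    [PreservesFiniteLimits F]
    (S : Set (ToposFin.Sh K)) (hqc : ∀ X ∈ S, ToposFin.IsQC X) (hgen : ToposFin.IsGenerating S)
    (hpb : ToposFin.ClosedUnderPullbacks S)
    (S' : Set (ToposFin.Sh J)) (hqc' : ∀ X ∈ S', ToposFin.IsQC X) (hgen' : ToposFin.IsGenerating S')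
    (hpb' : ToposFin.ClosedUnderPullbacks S')
    (hFqc : ∀ X : ToposFin.Sh K, ToposFin.IsQC X → ToposFin.IsQC (F.obj X))
    (hFqs : ∀ X : ToposFin.Sh K, ToposFin.IsQS X → ToposFin.IsQS (F.obj X))
    {X Y : ToposFin.Sh K} (v : X ⟶ Y) (hv : ToposFin.IsQCHom v) :
    ToposFin.IsQCHom (F.map v) := by
  apply isQCHom_of_generators S' hgen'
  intro L hL h
  obtain ⟨ι, Yi, π, hYi, hπ⟩ := hgen Y
  have hFπ : JE (fun i => F.map (π i)) := je_map_of_adj F R adj hπ
  obtain ⟨κ, hκ, G, ρ, idx, t, hG, hρ, hfac⟩ := exists_finite_cover_factoring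
    (genBy_of_isGenerating hgen') (fun i => F.map (π i)) hFπ (hqc' L hL) h
  refine isQC_of_cover_right (IsPullback.of_hasPullback (F.map v) h) ρ hρ (fun j => ?_)
  refine isQC_pullback_congr rfl (hfac j) ?_
  have h1 : IsQC (pullback v (π (idx j))) := hv _ _ (hqc _ (hYi _))
  have h2 : IsQC (pullback (F.map v) (F.map (π (idx j)))) :=
    isQC_of_iso (PreservesPullback.iso F v (π (idx j))).symm (hFqc _ h1)
  have h3 : IsQS (F.obj (Yi (idx j))) := hFqs _ (isQS_of_mem S hqc hgen hpb (hYi _))
  exact isQC_of_iso (pullbackLeftPullbackSndIso (F.map v) (F.map (π (idx j))) (t j)).symm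
    (h3 _ _ (pullback.snd _ _) (t j) h2 (hqc' _ (hG j)))

end Groth.Agent.S5591
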