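import Groth.Statements.S5593
import Groth.Agent.H47.HensSpecialize

set_option autoImplicit false
open CategoryTheory CategoryTheory.Limits AlgebraicGeometry Opposite
universe u
open EtDesc

namespace Groth.Agent.S5593

/-- Let X be a scheme, x, x' points of X with strict localisations Spec R -> X and Spec R' -> X (R, R'
strict henselisations of the local rings at x and x'). There is an X-morphism Spec R' -> Spec R,
i.e. the geometric point over x is a specialization of the one over x', if and only if x lies in the
closure of x'. -/
theorem result (X : Scheme.{u}) (x x' : X)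
    (R : Type u) [CommRing R] [IsLocalRing R] [Algebra (X.presheaf.stalk x) R]
    [IsLocalHom (algebraMap (X.presheaf.stalk x) R)] [Hensel.IsStrictHenselization (X.presheaf.stalk x) R]
    (R' : Type u) [CommRing R'] [IsLocalRing R'] [Algebra (X.presheaf.stalk x') R']
    [IsLocalHom (algebraMap (X.presheaf.stalk x') R')] [Hensel.IsStrictHenselization (X.presheaf.stalk x') R'] :
    (∃ g : Spec (CommRingCat.of R') ⟶ Spec (CommRingCat.of R), g ≫ Hens2.specOf X x R = Hens2.specOf X x' R') ↔
      x' ⤳ x := by
  constructor
  · rintro ⟨g, hg⟩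
    let c' : Spec (CommRingCat.of R') := IsLocalRing.closedPoint R'
    have h0 : (Spec.map (CommRingCat.ofHom (algebraMap (X.presheaf.stalk x') R'))) c' =
        IsLocalRing.closedPoint (X.presheaf.stalk x') :=
      IsLocalRing.comap_closedPoint (algebraMap (X.presheaf.stalk x') R')
    have h1 : (Hens2.specOf X x' R') c' = x' := by
      show (Spec.map (CommRingCat.ofHom (algebraMap (X.presheaf.stalk x') R')) ≫
        X.fromSpecStalk x') c' = x'
      rw [Scheme.Hom.comp_apply, h0]
      exact Scheme.fromSpecStalk_closedPoint
    have h2 : (Hens2.specOf X x R) (g c') ∈ Set.range (X.fromSpecStalk x) := by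
      show (Spec.map (CommRingCat.ofHom (algebraMap (X.presheaf.stalk x) R)) ≫
        X.fromSpecStalk x) (g c') ∈ _
      rw [Scheme.Hom.comp_apply]
      exact ⟨_, rfl⟩
    rw [Scheme.range_fromSpecStalk] at h2
    have h3 : (Hens2.specOf X x R) (g c') = x' := by
      rw [← Scheme.Hom.comp_apply, hg]
      exact h1
    rw [h3] at h2
    exact h2
  · intro hs
    obtain ⟨φ, hφ⟩ := Groth.Agent.H47.HensSpecialize.exists_map_strictHenselization
      (X.presheaf.stalk x) (X.presheaf.stalk x') (X.presheaf.stalkSpecializes hs).hom R R'
    refine ⟨Spec.map (CommRingCat.ofHom φ), ?_⟩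
    show Spec.map (CommRingCat.ofHom φ) ≫
        Spec.map (CommRingCat.ofHom (algebraMap (X.presheaf.stalk x) R)) ≫ X.fromSpecStalk x =
      Spec.map (CommRingCat.ofHom (algebraMap (X.presheaf.stalk x') R')) ≫ X.fromSpecStalk x'
    rw [← Scheme.SpecMap_stalkSpecializes_fromSpecStalk hs, ← Category.assoc, ← Category.assoc,
      ← Spec.map_comp, ← Spec.map_comp]
    congr 2
    ext a
    exact RingHom.congr_fun hφ a

end Groth.Agent.S5593
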