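import Groth.Statements.S5594
import Groth.Agent.H47.HensSpecialize2

set_option autoImplicit false
open CategoryTheory CategoryTheory.Limits AlgebraicGeometry Opposite
universe u
open EtDesc

namespace Groth.Agent.S5594

/-- The closed point of a local algebra over the local ring at `x` maps to `x`. -/
theorem specOf_closedPoint (X : Scheme.{u}) (x : X)
    (R : Type u) [CommRing R] [IsLocalRing R] [Algebra (X.presheaf.stalk x) R]
    [IsLocalHom (algebraMap (X.presheaf.stalk x) R)] :
    (Hens2.specOf X x R) (IsLocalRing.closedPoint R) = x := by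
  have h0 : (Spec.map (CommRingCat.ofHom (algebraMap (X.presheaf.stalk x) R)))
      (IsLocalRing.closedPoint R) = IsLocalRing.closedPoint (X.presheaf.stalk x) :=
    IsLocalRing.comap_closedPoint (algebraMap (X.presheaf.stalk x) R)
  show (Spec.map (CommRingCat.ofHom (algebraMap (X.presheaf.stalk x) R)) ≫
    X.fromSpecStalk x) (IsLocalRing.closedPoint R) = x
  rw [Scheme.Hom.comp_apply, h0]
  exact Scheme.fromSpecStalk_closedPoint

/-- Points in the image of `Spec R ⟶ X` generize `x`. -/
theorem specializes_of_specOf_apply (X : Scheme.{u}) (x x' : X)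
    (R : Type u) [CommRing R] [Algebra (X.presheaf.stalk x) R]
    (y : Spec (CommRingCat.of R)) (hy : (Hens2.specOf X x R) y = x') : x' ⤳ x := by
  have h2 : (Hens2.specOf X x R) y ∈ Set.range (X.fromSpecStalk x) := by
    show (Spec.map (CommRingCat.ofHom (algebraMap (X.presheaf.stalk x) R)) ≫
      X.fromSpecStalk x) y ∈ _
    rw [Scheme.Hom.comp_apply]
    exact ⟨_, rfl⟩
  rw [Scheme.range_fromSpecStalk, hy] at h2
  exact h2

/-- Translation of `X`-morphisms into ring maps over the specialization map. -/
theorem comp_specOf_eq_iff (X : Scheme.{u}) (x x' : X) (hs : x' ⤳ x)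
    (R : Type u) [CommRing R] [Algebra (X.presheaf.stalk x) R]
    (T : Type u) [CommRing T] (ψ : R →+* T) (θ : X.presheaf.stalk x' →+* T) :
    Spec.map (CommRingCat.ofHom ψ) ≫ Hens2.specOf X x R =
        Spec.map (CommRingCat.ofHom θ) ≫ X.fromSpecStalk x' ↔
      ψ.comp (algebraMap (X.presheaf.stalk x) R) =
        θ.comp (X.presheaf.stalkSpecializes hs).hom := by
  rw [← Scheme.SpecMap_stalkSpecializes_fromSpecStalk hs]
  show Spec.map (CommRingCat.ofHom ψ) ≫
      Spec.map (CommRingCat.ofHom (algebraMap (X.presheaf.stalk x) R)) ≫ X.fromSpecStalk x =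
    Spec.map (CommRingCat.ofHom θ) ≫ Spec.map (X.presheaf.stalkSpecializes hs) ≫
      X.fromSpecStalk x ↔ _
  rw [← Category.assoc, ← Category.assoc, cancel_mono, ← Spec.map_comp, ← Spec.map_comp,
    Spec.map_inj]
  constructor
  · intro h
    refine RingHom.ext fun a => ?_
    exact congrArg (fun k => k.hom a) h
  · intro h
    ext a
    exact RingHom.congr_fun h a


/-- Let X be a scheme, x, x' points of X with strict localisations Spec R -> X and Spec R' -> X, and ξ'
: Spec κ(R') -> Spec R' the closed point, a geometric point of X over x'. Then restricting along ξ'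
is a bijection from the X-morphisms Spec R' -> Spec R (specialization arrows) onto the X-morphisms
from the geometric point Spec κ(R') to Spec R: injectivity and surjectivity are stated separately. -/
theorem result (X : Scheme.{u}) (x x' : X)
    (R : Type u) [CommRing R] [IsLocalRing R] [Algebra (X.presheaf.stalk x) R]
    [IsLocalHom (algebraMap (X.presheaf.stalk x) R)] [Hensel.IsStrictHenselization (X.presheaf.stalk x) R]
    (R' : Type u) [CommRing R'] [IsLocalRing R'] [Algebra (X.presheaf.stalk x') R']
    [IsLocalHom (algebraMap (X.presheaf.stalk x') R')] [Hensel.IsStrictHenselization (X.presheaf.stalk x') R'] :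
    (∀ g₁ g₂ : Spec (CommRingCat.of R') ⟶ Spec (CommRingCat.of R),
      g₁ ≫ Hens2.specOf X x R = Hens2.specOf X x' R' → g₂ ≫ Hens2.specOf X x R = Hens2.specOf X x' R' →
      Spec.map (CommRingCat.ofHom (IsLocalRing.residue R')) ≫ g₁ =
        Spec.map (CommRingCat.ofHom (IsLocalRing.residue R')) ≫ g₂ → g₁ = g₂) ∧
    (∀ h : Spec (CommRingCat.of (IsLocalRing.ResidueField R')) ⟶ Spec (CommRingCat.of R),
      h ≫ Hens2.specOf X x R = Hens2.geomPt X x' R' →
      ∃ g : Spec (CommRingCat.of R') ⟶ Spec (CommRingCat.of R),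
        g ≫ Hens2.specOf X x R = Hens2.specOf X x' R' ∧
        Spec.map (CommRingCat.ofHom (IsLocalRing.residue R')) ≫ g = h) := by
  constructor
  · intro g₁ g₂ h₁ h₂ hres
    have hs : x' ⤳ x := specializes_of_specOf_apply X x x' R (g₁ (IsLocalRing.closedPoint R')) (by
      rw [← Scheme.Hom.comp_apply, h₁]
      exact specOf_closedPoint X x' R')
    obtain ⟨φ₁, rfl⟩ := Spec.map_surjective g₁
    obtain ⟨φ₂, rfl⟩ := Spec.map_surjective g₂
    have e₁ := (comp_specOf_eq_iff X x x' hs R R' φ₁.hom
      (algebraMap (X.presheaf.stalk x') R')).mp h₁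
    have e₂ := (comp_specOf_eq_iff X x x' hs R R' φ₂.hom
      (algebraMap (X.presheaf.stalk x') R')).mp h₂
    rw [← Spec.map_comp, ← Spec.map_comp, Spec.map_inj] at hres
    have e₃ : (IsLocalRing.residue R').comp φ₁.hom = (IsLocalRing.residue R').comp φ₂.hom := by
      refine RingHom.ext fun a => ?_
      exact congrArg (fun k => k.hom a) hres
    obtain ⟨φ, -, hφ⟩ :=
      Groth.Agent.H47.HensSpecialize.existsUnique_map_strictHenselization_of_point
        (X.presheaf.stalk x) (X.presheaf.stalk x') (X.presheaf.stalkSpecializes hs).hom R R'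
        ((IsLocalRing.residue R').comp φ₁.hom) (by
          rw [RingHom.comp_assoc, e₁])
    have k₁ : φ₁.hom = φ := hφ _ ⟨e₁, rfl⟩
    have k₂ : φ₂.hom = φ := hφ _ ⟨e₂, e₃.symm⟩
    have : φ₁ = φ₂ := by
      ext a
      exact RingHom.congr_fun (k₁.trans k₂.symm) a
    rw [this]
  · intro h hh
    have hs : x' ⤳ x := specializes_of_specOf_apply X x x' R
      (h (IsLocalRing.closedPoint (IsLocalRing.ResidueField R'))) (by
      rw [← Scheme.Hom.comp_apply, hh]
      show (Spec.map (CommRingCat.ofHom (IsLocalRing.residue R')) ≫ Hens2.specOf X x' R')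
        (IsLocalRing.closedPoint (IsLocalRing.ResidueField R')) = x'
      rw [Scheme.Hom.comp_apply]
      have h0 : (Spec.map (CommRingCat.ofHom (IsLocalRing.residue R')))
          (IsLocalRing.closedPoint (IsLocalRing.ResidueField R')) = IsLocalRing.closedPoint R' :=
        IsLocalRing.comap_closedPoint (IsLocalRing.residue R')
      rw [h0]
      exact specOf_closedPoint X x' R')
    obtain ⟨σ, rfl⟩ := Spec.map_surjective h
    have hh' : Spec.map (CommRingCat.ofHom σ.hom) ≫ Hens2.specOf X x R =
        Spec.map (CommRingCat.ofHom ((IsLocalRing.residue R').comp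
          (algebraMap (X.presheaf.stalk x') R'))) ≫ X.fromSpecStalk x' := by
      refine hh.trans ?_
      show Spec.map (CommRingCat.ofHom (IsLocalRing.residue R')) ≫
        Spec.map (CommRingCat.ofHom (algebraMap (X.presheaf.stalk x') R')) ≫
          X.fromSpecStalk x' = _
      rw [← Category.assoc, ← Spec.map_comp]
      rfl
    have e₁ := (comp_specOf_eq_iff X x x' hs R (IsLocalRing.ResidueField R') σ.hom _).mp hh'
    obtain ⟨φ, ⟨hφ1, hφ2⟩, -⟩ :=
      Groth.Agent.H47.HensSpecialize.existsUnique_map_strictHenselization_of_point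
        (X.presheaf.stalk x) (X.presheaf.stalk x') (X.presheaf.stalkSpecializes hs).hom R R'
        σ.hom (by
          rw [e₁]
          rfl)
    refine ⟨Spec.map (CommRingCat.ofHom φ), ?_, ?_⟩
    · exact (comp_specOf_eq_iff X x x' hs R R' φ
        (algebraMap (X.presheaf.stalk x') R')).mpr hφ1
    · rw [← Spec.map_comp]
      congr 1
      ext a
      exact RingHom.congr_fun hφ2 a

end Groth.Agent.S5594
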