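import Groth.Statements.S5596
import Mathlib
import Groth.Agent.H4.GeomPoints

set_option autoImplicit false
open CategoryTheory CategoryTheory.Limits AlgebraicGeometry Opposite
universe u
open EtDesc

namespace Groth.Agent.S5596

/-- A morphism v : F -> G of etale sheaves of sets on a scheme X is a monomorphism (resp. an
epimorphism) if and only if for every geometric point ξ of X (a morphism from the spectrum of a
separably closed field) the map of stalks F_ξ -> G_ξ is injective (resp. surjective). -/
theorem result {X : Scheme.{u}} {F G : EtDesc.Sh X} (v : F ⟶ G) :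
    (Mono v ↔ ∀ (Ω : Type u) [Field Ω] [IsSepClosed Ω] (ξ : Spec (CommRingCat.of Ω) ⟶ X),
      Function.Injective (((Scheme.pointSmallEtale ξ).sheafFiber (A := Type (u + 1))).map v)) ∧
    (Epi v ↔ ∀ (Ω : Type u) [Field Ω] [IsSepClosed Ω] (ξ : Spec (CommRingCat.of Ω) ⟶ X),
      Function.Surjective (((Scheme.pointSmallEtale ξ).sheafFiber (A := Type (u + 1))).map v)) := by
  constructor
  · constructor
    · intro hv Ω _ _ ξ
      haveI : Sheaf.IsLocallyInjective v := by
        rw [Sheaf.isLocallyInjective_iff_injective]
        intro U
        have h1 : Mono v.hom := (Sheaf.Hom.mono_iff_presheaf_mono _ _ v).1 hv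
        have h2 : Mono (v.hom.app U) := inferInstance
        exact (mono_iff_injective _).1 h2
      exact (Scheme.pointSmallEtale ξ).toPresheafFiber_map_injective v.hom
    · intro h
      haveI : Sheaf.IsLocallyInjective v :=
        Groth.Agent.H4.isLocallyInjective_of_stalks v.hom h
      exact Sheaf.mono_of_isLocallyInjective v
  · constructor
    · intro hv Ω _ _ ξ
      haveI : Sheaf.IsLocallySurjective v := (Sheaf.isLocallySurjective_iff_epi v).2 hv
      exact (Scheme.pointSmallEtale ξ).toPresheafFiber_map_surjective v.hom
    · intro h
      haveI : Sheaf.IsLocallySurjective v :=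
        Groth.Agent.H4.isLocallySurjective_of_stalks v.hom h
      infer_instance

end Groth.Agent.S5596
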