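import Groth.Statements.S5608
import Groth.Agent.H33.PCohCoh

set_option autoImplicit false
universe w v u
open CategoryTheory CategoryTheory.Limits
open PCoh

namespace Groth.Agent.S5608

/-- Punctual site: let C be an abelian category and C₀ a strictly full additive subcategory,
quasi-liftable in C, whose objects are C₀-coherent (of C₀-finite type, and every morphism from an
object of C₀ into them has kernel of C₀-finite type). For F ∈ D(C) with bounded above cohomology and
n an integer: F is n-pseudo-coherent (isomorphic to a strictly n-pseudo-coherent complex) if and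
only if H^n(F) is of C₀-finite type and H^i(F) is C₀-coherent for every i > n. -/
theorem result {C : Type u} [Category.{v} C] [Abelian C] [HasDerivedCategory.{w} C]
    (P : ObjectProperty C) [P.IsClosedUnderIsomorphisms] [P.ContainsZero] (hsum : ∀ X Y : C, P X → P Y → P (X ⨯ Y))
    (hql : PCoh.IsQuasiLiftable P)
    (hcoh : ∀ (X E : C) (u : E ⟶ X), P X → P E → PCoh.IsOfFiniteType P (kernel u))
    (n : ℤ) (F : DerivedCategory C) (b : ℤ) (hb : ∀ i : ℤ, b < i → IsZero ((DerivedCategory.homologyFunctor C i).obj F)) :
    (∃ E : CochainComplex C ℤ, PCoh.IsStrictPC P n E ∧ Nonempty (DerivedCategory.Q.obj E ≅ F)) ↔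
      (PCoh.IsOfFiniteType P ((DerivedCategory.homologyFunctor C n).obj F) ∧
        ∀ i : ℤ, n < i → (PCoh.IsOfFiniteType P ((DerivedCategory.homologyFunctor C i).obj F) ∧
          ∀ (E : C) (u : E ⟶ (DerivedCategory.homologyFunctor C i).obj F), P E → PCoh.IsOfFiniteType P (kernel u))) := by
  have hqs := Groth.Agent.H33.PCoh.quasiStable_of_coh hcoh
  constructor
  · rintro ⟨E, ⟨hEb, hEP⟩, ⟨e⟩⟩
    refine ⟨?_, fun i hi => ⟨?_, fun T v hT => ?_⟩⟩
    · exact Groth.Agent.H33.PCoh.finiteType_of_iso (Groth.Agent.H33.PCoh.homologyIsoOfIso e n)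
        (Groth.Agent.H33.PCoh.finiteType_homology hcoh E n (hEP n le_rfl) (hEP (n + 1) (by omega)))
    · exact Groth.Agent.H33.PCoh.finiteType_of_iso (Groth.Agent.H33.PCoh.homologyIsoOfIso e i)
        (Groth.Agent.H33.PCoh.finiteType_homology hcoh E i (hEP i (by omega))
          (hEP (i + 1) (by omega)))
    · have h := Groth.Agent.H33.PCoh.finiteType_kernel_homology hsum hql hcoh E i
        (hEP (i - 1) (by omega)) (hEP i (by omega)) hT
        (v ≫ (Groth.Agent.H33.PCoh.homologyIsoOfIso e i).inv)
      exact Groth.Agent.H33.PCoh.finiteType_of_iso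
        (kernelCompMono v (Groth.Agent.H33.PCoh.homologyIsoOfIso e i).inv) h
  · rintro ⟨hn, hi⟩
    refine Groth.Agent.H33.PCoh.isNPC_of_homology hsum hqs hql n (b - (n - 1)).toNat F
      (fun i hi' => hb i (by
        have := Int.self_le_toNat (b - (n - 1))
        omega)) (fun i hi' => ?_)
    rcases hi'.eq_or_lt with h | h
    · subst h
      rw [sub_self]
      exact Groth.Agent.H33.PCoh.isNPC_zero_single_of_finiteType hsum hql hn
    · exact Groth.Agent.H33.PCoh.isNPC_single_of_coh hsum hql hcoh (i - n).toNat _ (hi i h)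
        (n - i) (by
          have := Int.self_le_toNat (i - n)
          omega)

end Groth.Agent.S5608
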