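import Groth.Statements.S5613
import Groth.Agent.H28.K0Tri
import Groth.Agent.H28.Swindle

set_option autoImplicit false
universe v u
open CategoryTheory CategoryTheory.Limits CategoryTheory.Pretriangulated
open KZero

namespace Groth.Agent.S5613

/-- Let C be a pretriangulated category, L an object of C and n an integer such that the coproduct ∐_{i
≥ 0} L⟦2ni⟧ exists in C. Then cl(L) = 0 in K₀(C). -/
theorem result {C : Type u} [Category.{v} C] [Preadditive C] [HasZeroObject C]
    [HasShift C ℤ] [∀ n : ℤ, (shiftFunctor C n).Additive] [Pretriangulated C]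
    (L : C) (n : ℤ) [HasCoproduct (fun i : ℕ => (shiftFunctor C (2 * n * (i : ℤ))).obj L)] :
    KZero.clTri L = 0 := by
  set f : ℕ → C := fun i => (shiftFunctor C (2 * n * (i : ℤ))).obj L with hf
  let c : Cofan f := Cofan.mk (∐ f) (Sigma.ι f)
  have hc : IsColimit c := coproductIsCoproduct f
  have a : f 0 ≅ L := (shiftFunctorZero' C (2 * n * ((0 : ℕ) : ℤ)) (by simp)).app L
  have b : ∀ i, f (i + 1) ≅ (shiftFunctor C (2 * n)).obj (f i) := fun i =>
    (shiftFunctorAdd' C (2 * n * (i : ℤ)) (2 * n) (2 * n * ((i + 1 : ℕ) : ℤ))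
      (by push_cast; ring)).app L
  obtain ⟨e⟩ := Groth.Agent.H28.swindle_iso f c hc (shiftFunctor C (2 * n)) L a b
  have h1 := Groth.Agent.H28.clTri_of_iso e
  rw [Groth.Agent.H28.clTri_biprod, Groth.Agent.H28.clTri_shift_double] at h1
  exact right_eq_add.mp h1

end Groth.Agent.S5613
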