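import Groth.Statements.S5616
import Mathlib
import Groth.Agent.H6.ExtEfface

set_option autoImplicit false
universe w w' v v' u u'
open CategoryTheory CategoryTheory.Limits
open CohDer

namespace Groth.Agent.S5616


open CategoryTheory CategoryTheory.Limits CategoryTheory.Abelian in
theorem bij_of_efface {A : Type u} [Category.{v} A] [Abelian A] [HasExt.{w} A]
    {B : Type u'} [Category.{v'} B] [Abelian B] [HasExt.{w'} B]
    (φ : A ⥤ B) [φ.Additive] [PreservesFiniteLimits φ] [PreservesFiniteColimits φ] (M : A)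
    (h0 : ∀ L : A, Function.Bijective (fun f : L ⟶ M => φ.map f))
    (heff : ∀ (L : A) (n : ℕ), 1 ≤ n → ∀ x : Abelian.Ext.{w'} (φ.obj L) (φ.obj M) n,
          ∃ (L' : A) (p : L' ⟶ L), Epi p ∧ (Abelian.Ext.mk₀ (φ.map p)).comp x (zero_add n) = 0)
    (n : ℕ) : ∀ (L : A), Function.Bijective
      (φ.mapExtAddHom L M n : Ext.{w} L M n →+ Ext.{w'} (φ.obj L) (φ.obj M) n) := by
  induction n with
  | zero =>
    intro L
    rw [Functor.mapExtAddHom_coe, Ext.mapExactFunctor₀]
    exact Ext.homEquiv₀.symm.bijective.comp ((h0 L).comp Ext.homEquiv₀.bijective)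
  | succ n ih =>
    intro L
    constructor
    · rw [injective_iff_map_eq_zero]
      intro y hy
      rw [Functor.mapExtAddHom_apply] at hy
      obtain ⟨L', p, hp, hpy⟩ := Groth.Agent.H6.ext_exists_epi_comp_eq_zero y
      have hS : (ShortComplex.mk (kernel.ι p) p (kernel.condition p)).ShortExact :=
        { exact := ShortComplex.exact_kernel p }
      obtain ⟨z, hz⟩ := Ext.contravariant_sequence_exact₃ hS M y hpy (add_comm 1 n)
      have hz' : (hS.map_of_exact φ).extClass.comp (z.mapExactFunctor φ) (add_comm 1 n) = 0 := by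
        have h1 := Ext.mapExactFunctor_comp φ hS.extClass z (add_comm 1 n)
        have h2 := Ext.mapExactFunctor_extClass φ hS
        rw [hz, hy] at h1
        exact (congrArg (fun e => Ext.comp e (z.mapExactFunctor φ) (add_comm 1 n)) h2).symm.trans
          h1.symm
      obtain ⟨w, hw⟩ := Ext.contravariant_sequence_exact₁ (hS.map_of_exact φ) (φ.obj M)
        (z.mapExactFunctor φ) (add_comm 1 n) hz'
      obtain ⟨w', rfl⟩ := (ih L').2 w
      have hzw : (Ext.mk₀ (kernel.ι p)).comp w' (zero_add n) = z := by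
        apply (ih (kernel p)).1
        rw [Functor.mapExtAddHom_apply, Functor.mapExtAddHom_apply, Ext.mapExactFunctor_comp,
          Ext.mapExactFunctor_mk₀]
        exact hw
      rw [← hz, ← hzw]
      exact hS.extClass_comp_assoc w'
    · intro x
      obtain ⟨L', p, hp, hpx⟩ := heff L (n+1) (by omega) x
      have hS : (ShortComplex.mk (kernel.ι p) p (kernel.condition p)).ShortExact :=
        { exact := ShortComplex.exact_kernel p }
      obtain ⟨z, hz⟩ := Ext.contravariant_sequence_exact₃ (hS.map_of_exact φ) (φ.obj M) x hpx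
        (add_comm 1 n)
      obtain ⟨z', rfl⟩ := (ih (kernel p)).2 z
      refine ⟨hS.extClass.comp z' (add_comm 1 n), ?_⟩
      rw [Functor.mapExtAddHom_apply, Ext.mapExactFunctor_comp]
      have h2 := Ext.mapExactFunctor_extClass φ hS
      exact (congrArg (fun e => Ext.comp e (z'.mapExactFunctor φ) (add_comm 1 n)) h2).trans hz

/-- Let φ : A ⥤ B be an exact functor of abelian categories and M an object of A. The following are
equivalent: (i) for every L in A and every n, the map Ext^n_A(L, M) → Ext^n_B(φ L, φ M) induced by φ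
is bijective; (ii) for every L the map Hom_A(L, M) → Hom_B(φ L, φ M) is bijective, and for every L,
every n ≥ 1 and every x ∈ Ext^n_B(φ L, φ M) there is an epimorphism L' ⟶ L of A such that x
precomposed with its image under φ vanishes. -/
theorem result
    {A : Type u} [Category.{v} A] [Abelian A] [HasExt.{w} A]
    {B : Type u'} [Category.{v'} B] [Abelian B] [HasExt.{w'} B]
    (φ : A ⥤ B) [φ.Additive] [PreservesFiniteLimits φ] [PreservesFiniteColimits φ] (M : A) :
    (∀ (L : A) (n : ℕ), Function.Bijective (fun f : Abelian.Ext.{w} L M n => Abelian.Ext.mapExactFunctor φ f)) ↔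
      ((∀ L : A, Function.Bijective (fun f : L ⟶ M => φ.map f)) ∧
        ∀ (L : A) (n : ℕ), 1 ≤ n → ∀ x : Abelian.Ext.{w'} (φ.obj L) (φ.obj M) n,
          ∃ (L' : A) (p : L' ⟶ L), Epi p ∧ (Abelian.Ext.mk₀ (φ.map p)).comp x (zero_add n) = 0) := by
  constructor
  · intro h
    refine ⟨fun L => ?_, fun L n hn x => ?_⟩
    · have hb := h L 0
      constructor
      · intro f g hfg
        apply (Abelian.Ext.mk₀_bijective _ _).1
        apply hb.1
        show Abelian.Ext.mapExactFunctor φ (Abelian.Ext.mk₀ f) =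
          Abelian.Ext.mapExactFunctor φ (Abelian.Ext.mk₀ g)
        rw [Abelian.Ext.mapExactFunctor_mk₀, Abelian.Ext.mapExactFunctor_mk₀]
        exact congrArg Abelian.Ext.mk₀ hfg
      · intro g
        obtain ⟨y, hy⟩ := hb.2 (Abelian.Ext.mk₀ g)
        obtain ⟨f, rfl⟩ := (Abelian.Ext.mk₀_bijective _ _).2 y
        refine ⟨f, ?_⟩
        apply (Abelian.Ext.mk₀_bijective _ _).1
        rw [← Abelian.Ext.mapExactFunctor_mk₀]
        exact hy
    · obtain ⟨k, rfl⟩ : ∃ k, n = k + 1 := ⟨n - 1, by omega⟩
      obtain ⟨y, rfl⟩ := (h L (k+1)).2 x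
      obtain ⟨L', p, hp, hpy⟩ := Groth.Agent.H6.ext_exists_epi_comp_eq_zero y
      refine ⟨L', p, hp, ?_⟩
      show (Abelian.Ext.mk₀ (φ.map p)).comp (Abelian.Ext.mapExactFunctor φ y) _ = 0
      rw [← Abelian.Ext.mapExactFunctor_mk₀, ← Abelian.Ext.mapExactFunctor_comp, hpy,
        Abelian.Ext.mapExactFunctor_zero]
  · rintro ⟨h0, heff⟩ L n
    exact bij_of_efface φ M h0 heff n L

end Groth.Agent.S5616
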