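import Groth.Statements.S5621
import Groth.Agent.H28.Perfect

set_option autoImplicit false
universe w v u
open CategoryTheory CategoryTheory.Limits
open PCoh

namespace Groth.Agent.S5621

/-- Let C be an abelian category and C₀ a strictly full additive subcategory, liftable and stable under
kernels of epimorphisms. Let a ≤ b and let F be a complex with F^i = 0 for i outside [a, b], of
perfect amplitude in [a, b] (isomorphic in D(C) to a strictly perfect complex vanishing outside [a,
b]), and with F^i in C₀ for i > a. Then F^a lies in C₀. -/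
theorem result {C : Type u} [Category.{v} C] [Abelian C] [HasDerivedCategory.{w} C]
    (P : ObjectProperty C) [P.IsClosedUnderIsomorphisms] [P.ContainsZero] (hsum : ∀ X Y : C, P X → P Y → P (X ⨯ Y))
    (hlift : ∀ (E F : C) (u : E ⟶ F), Epi u → P F → IsSplitEpi u)
    (hst : ∀ (E F : C) (u : E ⟶ F), Epi u → P E → P F → P (kernel u))
    (a b : ℤ) (hab : a ≤ b) (F : CochainComplex C ℤ)
    (hvan : ∀ i : ℤ, i < a ∨ b < i → IsZero (F.X i)) (hP : ∀ i : ℤ, a < i → P (F.X i))
    (hamp : (∃ E : CochainComplex C ℤ, (∀ i : ℤ, P (E.X i)) ∧ (∀ i : ℤ, i < a ∨ b < i → IsZero (E.X i)) ∧ Nonempty (DerivedCategory.Q.obj E ≅ DerivedCategory.Q.obj F))) :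
    P (F.X a) := by
  obtain ⟨E, hPE, hzE, ⟨e⟩⟩ := hamp
  have hK : E.IsKProjective :=
    Groth.Agent.H28.Perf.isKProjective_of_prop P hlift E b (fun i hi => hzE i (Or.inr hi)) hPE
  obtain ⟨φ, hφ⟩ := Groth.Agent.H28.Perf.exists_Q_map_eq E F e.hom
  have hq : QuasiIso φ := by
    rw [← DerivedCategory.isIso_Q_map_iff_quasiIso, hφ]; infer_instance
  have hac : ∀ i, IsZero ((CochainComplex.mappingCone φ).homology i) :=
    fun i => Groth.Agent.H28.Perf.isZero_homology_mappingCone φ i
  have hMP : ∀ i, a + 1 ≤ i → P ((CochainComplex.mappingCone φ).X i) := fun i hi =>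
    Groth.Agent.H28.Perf.prop_mappingCone_X P hsum φ i (hPE _) (hP i (by lia))
  have hMz : ∀ i, b + 1 < i → IsZero ((CochainComplex.mappingCone φ).X i) := fun i hi => by
    rw [CochainComplex.mappingCone.isZero_X_iff]
    exact ⟨hzE _ (Or.inr (by lia)), hvan _ (Or.inr (by lia))⟩
  obtain ⟨k, hk⟩ := Int.le.dest hab
  have hZ1 : P ((CochainComplex.mappingCone φ).cycles (a + 1)) :=
    Groth.Agent.H28.Perf.prop_cycles (CochainComplex.mappingCone φ) P hst (a + 1) (b + 1) hMP hMz
      (fun i _ => hac i) k (a + 1) (by lia) le_rfl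
  have hZ0 : P ((CochainComplex.mappingCone φ).cycles a) := by
    have hX : P ((CochainComplex.mappingCone φ).X (a - 1)) :=
      Groth.Agent.H28.Perf.prop_mappingCone_X P hsum φ (a - 1) (hPE _)
        (P.prop_of_isZero (hvan _ (Or.inl (by lia))))
    have hz2 : IsZero ((CochainComplex.mappingCone φ).X (a - 2)) := by
      rw [CochainComplex.mappingCone.isZero_X_iff]
      exact ⟨hzE _ (Or.inl (by lia)), hvan _ (Or.inl (by lia))⟩
    have hiso := Groth.Agent.H28.Perf.isIso_toCycles (CochainComplex.mappingCone φ)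
      (a - 2) (a - 1) a (by lia) (by lia) hz2 (hac _) (hac _)
    exact P.prop_of_iso (asIso ((CochainComplex.mappingCone φ).toCycles (a - 1) a)) hX
  have hXa : P ((CochainComplex.mappingCone φ).X a) :=
    Groth.Agent.H28.Perf.prop_X_of_prop_cycles (CochainComplex.mappingCone φ) P hsum hlift
      a (a + 1) rfl (hac _) hZ0 hZ1
  have hb : P (E.X (a + 1) ⊞ F.X a) :=
    P.prop_of_iso (HomologicalComplex.homotopyCofiber.XIsoBiprod φ a (a + 1) rfl) hXa
  exact Groth.Agent.H28.Perf.prop_of_biprod_left P hst hb (hPE _)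

end Groth.Agent.S5621
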