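import Groth.Statements.S5622
import Groth.Agent.H28.PerfBiprod
import Groth.Agent.S5605
import Groth.Agent.S5621

set_option autoImplicit false
universe w v u
open CategoryTheory CategoryTheory.Limits
open PCoh

namespace Groth.Agent.S5622

/-- Let C be an abelian category and C₀ a strictly full additive subcategory, liftable and stable under
kernels of epimorphisms, and a ≤ b. For F', F'' in D(C): (i) ⇒ (ii), where (i) says F' and F'' have
perfect amplitude in [a, b] (each isomorphic to a strictly perfect complex vanishing outside [a, b])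
and (ii) says F' ⊞ F'' does; and (ii) ⇒ (i) when C₀ is stable under direct factors. -/
theorem result {C : Type u} [Category.{v} C] [Abelian C] [HasDerivedCategory.{w} C]
    (P : ObjectProperty C) [P.IsClosedUnderIsomorphisms] [P.ContainsZero] (hsum : ∀ X Y : C, P X → P Y → P (X ⨯ Y))
    (hlift : ∀ (E F : C) (u : E ⟶ F), Epi u → P F → IsSplitEpi u)
    (hst : ∀ (E F : C) (u : E ⟶ F), Epi u → P E → P F → P (kernel u))
    (a b : ℤ) (hab : a ≤ b) (F' F'' : DerivedCategory C) [HasBinaryBiproduct F' F''] :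
    (((∃ E : CochainComplex C ℤ, (∀ i : ℤ, P (E.X i)) ∧ (∀ i : ℤ, i < a ∨ b < i → IsZero (E.X i)) ∧ Nonempty (DerivedCategory.Q.obj E ≅ F')) ∧ (∃ E : CochainComplex C ℤ, (∀ i : ℤ, P (E.X i)) ∧ (∀ i : ℤ, i < a ∨ b < i → IsZero (E.X i)) ∧ Nonempty (DerivedCategory.Q.obj E ≅ F''))) →
        (∃ E : CochainComplex C ℤ, (∀ i : ℤ, P (E.X i)) ∧ (∀ i : ℤ, i < a ∨ b < i → IsZero (E.X i)) ∧ Nonempty (DerivedCategory.Q.obj E ≅ (F' ⊞ F'')))) ∧
      ((∀ (E' E'' : C) [HasBinaryBiproduct E' E''], P (E' ⊞ E'') → P E' ∧ P E'') →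
        (∃ E : CochainComplex C ℤ, (∀ i : ℤ, P (E.X i)) ∧ (∀ i : ℤ, i < a ∨ b < i → IsZero (E.X i)) ∧ Nonempty (DerivedCategory.Q.obj E ≅ (F' ⊞ F''))) →
          (∃ E : CochainComplex C ℤ, (∀ i : ℤ, P (E.X i)) ∧ (∀ i : ℤ, i < a ∨ b < i → IsZero (E.X i)) ∧ Nonempty (DerivedCategory.Q.obj E ≅ F')) ∧ (∃ E : CochainComplex C ℤ, (∀ i : ℤ, P (E.X i)) ∧ (∀ i : ℤ, i < a ∨ b < i → IsZero (E.X i)) ∧ Nonempty (DerivedCategory.Q.obj E ≅ F''))) := by
  refine ⟨?_, ?_⟩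
  · rintro ⟨⟨E', hP', hz', ⟨e'⟩⟩, ⟨E'', hP'', hz'', ⟨e''⟩⟩⟩
    refine ⟨E' ⊞ E'', fun i => ?_, fun i hi => ?_, ⟨Groth.Agent.H28.PerfB.qBiprodIso e' e''⟩⟩
    · exact P.prop_of_iso ((biprod.isoProd _ _).symm ≪≫
        (HomologicalComplex.biprodXIso E' E'' i).symm) (hsum _ _ (hP' i) (hP'' i))
    · exact IsZero.of_iso (Groth.Agent.H28.PerfB.isZero_biprod (hz' i hi) (hz'' i hi))
        (HomologicalComplex.biprodXIso E' E'' i)
  · rintro hdf ⟨E₀, hP₀, hz₀, ⟨e₀⟩⟩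
    have hql := Groth.Agent.H28.PerfB.hql_of_hlift P hlift
    have hqs := Groth.Agent.H28.PerfB.hqs_of_hst P hst
    have h0 : ∃ E : CochainComplex C ℤ, PCoh.IsStrictPC P a E ∧
        Nonempty (DerivedCategory.Q.obj E ≅ (F' ⊞ F'')) :=
      ⟨E₀, ⟨⟨b, fun i hi => hz₀ i (Or.inr hi)⟩, fun i _ => hP₀ i⟩, ⟨e₀⟩⟩
    obtain ⟨⟨E', hE', ⟨e'⟩⟩, ⟨E'', hE'', ⟨e''⟩⟩⟩ :=
      (Groth.Agent.S5605.result P hsum hqs hql a F' F'').1 h0
    obtain ⟨T', hT'P, hT'z, ⟨t'⟩⟩ := Groth.Agent.H28.PerfB.exists_trunc P hst a b hab E' hE'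
      (fun i hi => Groth.Agent.H28.PerfB.isZero_homology_of_retract E₀ E' biprod.inl biprod.fst
        biprod.inl_fst e₀ e' i (hz₀ i (Or.inl hi)))
      (fun i hi => Groth.Agent.H28.PerfB.isZero_homology_of_retract E₀ E' biprod.inl biprod.fst
        biprod.inl_fst e₀ e' i (hz₀ i (Or.inr hi)))
    obtain ⟨T'', hT''P, hT''z, ⟨t''⟩⟩ := Groth.Agent.H28.PerfB.exists_trunc P hst a b hab E'' hE''
      (fun i hi => Groth.Agent.H28.PerfB.isZero_homology_of_retract E₀ E'' biprod.inr biprod.snd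
        biprod.inr_snd e₀ e'' i (hz₀ i (Or.inl hi)))
      (fun i hi => Groth.Agent.H28.PerfB.isZero_homology_of_retract E₀ E'' biprod.inr biprod.snd
        biprod.inr_snd e₀ e'' i (hz₀ i (Or.inr hi)))
    have hTa : P ((T' ⊞ T'').X a) := Groth.Agent.S5621.result P hsum hlift hst a b hab (T' ⊞ T'')
      (fun i hi => IsZero.of_iso (Groth.Agent.H28.PerfB.isZero_biprod (hT'z i hi) (hT''z i hi))
        (HomologicalComplex.biprodXIso T' T'' i))
      (fun i hi => P.prop_of_iso ((biprod.isoProd _ _).symm ≪≫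
        (HomologicalComplex.biprodXIso T' T'' i).symm) (hsum _ _ (hT'P i hi) (hT''P i hi)))
      ⟨E₀, hP₀, hz₀, ⟨e₀ ≪≫ (Groth.Agent.H28.PerfB.qBiprodIso (t' ≪≫ e') (t'' ≪≫ e'')).symm⟩⟩
    have hTa' : P (T'.X a ⊞ T''.X a) :=
      P.prop_of_iso (HomologicalComplex.biprodXIso T' T'' a) hTa
    obtain ⟨h1, h2⟩ := hdf _ _ hTa'
    refine ⟨⟨T', fun i => ?_, hT'z, ⟨t' ≪≫ e'⟩⟩, ⟨T'', fun i => ?_, hT''z, ⟨t'' ≪≫ e''⟩⟩⟩
    · rcases lt_trichotomy i a with h | h | h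
      · exact P.prop_of_isZero (hT'z i (Or.inl h))
      · rw [h]; exact h1
      · exact hT'P i h
    · rcases lt_trichotomy i a with h | h | h
      · exact P.prop_of_isZero (hT''z i (Or.inl h))
      · rw [h]; exact h2
      · exact hT''P i h

end Groth.Agent.S5622
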