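import Groth.Statements.S5624
import Mathlib.CategoryTheory.Abelian.Refinements
import Mathlib.Algebra.Homology.ShortComplex.ShortExact

set_option autoImplicit false
universe v u
open CategoryTheory CategoryTheory.Limits
open PCoh

namespace Groth.Agent.S5624

/-- Punctual site: let C be an abelian category and C₀ a strictly full additive subcategory,
quasi-liftable in C, and let 0 → F → G → H → 0 be a short exact sequence. If F and H are precoherent
relative to C₀ then G is precoherent; if F and H are of C₀-finite type then G is of C₀-finite type. -/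
theorem result {C : Type u} [Category.{v} C] [Abelian C]
    (P : ObjectProperty C) [P.IsClosedUnderIsomorphisms] [P.ContainsZero] (hsum : ∀ X Y : C, P X → P Y → P (X ⨯ Y))
    (hql : PCoh.IsQuasiLiftable P)
    (S : ShortComplex C) (hS : S.ShortExact) :
    ((∀ (E : C) (u : E ⟶ S.X₁), P E → PCoh.IsOfFiniteType P (kernel u)) → (∀ (E : C) (u : E ⟶ S.X₃), P E → PCoh.IsOfFiniteType P (kernel u)) →
        (∀ (E : C) (u : E ⟶ S.X₂), P E → PCoh.IsOfFiniteType P (kernel u))) ∧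
      (PCoh.IsOfFiniteType P S.X₁ → PCoh.IsOfFiniteType P S.X₃ → PCoh.IsOfFiniteType P S.X₂) := by
  have hmono := hS.mono_f
  have hepig := hS.epi_g
  have hex := hS.exact
  constructor
  · intro hF hH E u hE
    obtain ⟨E₁, π₁, hE₁, hπ₁⟩ := hH E (u ≫ S.g) hE
    have hz : (kernel.ι (u ≫ S.g) ≫ u) ≫ S.g = 0 := by
      rw [Category.assoc]; exact kernel.condition _
    have hv : hex.lift (kernel.ι (u ≫ S.g) ≫ u) hz ≫ S.f = kernel.ι (u ≫ S.g) ≫ u :=
      hex.lift_f _ _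
    set v := hex.lift (kernel.ι (u ≫ S.g) ≫ u) hz with hvdef
    set w := π₁ ≫ v with hwdef
    obtain ⟨E₂, π₂, hE₂, hπ₂⟩ := hF E₁ w hE₁
    have ht0 : (kernel.ι w ≫ π₁ ≫ kernel.ι (u ≫ S.g)) ≫ u = 0 := by
      calc (kernel.ι w ≫ π₁ ≫ kernel.ι (u ≫ S.g)) ≫ u
          = kernel.ι w ≫ π₁ ≫ (kernel.ι (u ≫ S.g) ≫ u) := by simp
        _ = kernel.ι w ≫ π₁ ≫ v ≫ S.f := by rw [hv]
        _ = (kernel.ι w ≫ w) ≫ S.f := by simp [hwdef]
        _ = 0 := by rw [kernel.condition, zero_comp]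
    have hepi : Epi (kernel.lift u (kernel.ι w ≫ π₁ ≫ kernel.ι (u ≫ S.g)) ht0) := by
      rw [epi_iff_surjective_up_to_refinements]
      intro A y
      have hy0 : (y ≫ kernel.ι u) ≫ u ≫ S.g = 0 := by simp
      have hy₁ : kernel.lift (u ≫ S.g) (y ≫ kernel.ι u) hy0 ≫ kernel.ι (u ≫ S.g) =
          y ≫ kernel.ι u := kernel.lift_ι _ _ _
      set y₁ := kernel.lift (u ≫ S.g) (y ≫ kernel.ι u) hy0 with hy₁def
      obtain ⟨A', p, hp, x, hx⟩ := (epi_iff_surjective_up_to_refinements π₁).1 hπ₁ y₁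
      have hyv : y₁ ≫ v = 0 := by
        rw [← cancel_mono S.f, Category.assoc, hv, ← Category.assoc, hy₁, zero_comp]
        simp
      have hxw : x ≫ w = 0 := by
        rw [hwdef, ← Category.assoc, ← hx, Category.assoc, hyv, comp_zero]
      refine ⟨A', p, hp, kernel.lift w x hxw, ?_⟩
      rw [← cancel_mono (kernel.ι u)]
      simp only [Category.assoc, kernel.lift_ι, kernel.lift_ι_assoc]
      rw [← hy₁, ← Category.assoc x, ← hx, Category.assoc]
    exact ⟨E₂, π₂ ≫ _, hE₂, @epi_comp _ _ _ _ _ _ hπ₂ _ hepi⟩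
  · rintro ⟨EF, πF, hEF, hπF⟩ ⟨EH, πH, hEH, hπH⟩
    obtain ⟨F', v, hF', hv⟩ := hql (pullback S.g πH) EH (pullback.snd S.g πH) inferInstance hEH
    have hb : (v ≫ pullback.fst S.g πH) ≫ S.g = (v ≫ pullback.snd S.g πH) ≫ πH := by
      simp [pullback.condition]
    have hbepi : Epi ((v ≫ pullback.fst S.g πH) ≫ S.g) := by
      rw [hb]; exact epi_comp _ _
    set b := v ≫ pullback.fst S.g πH with hbdef
    have hφ : Epi (prod.fst ≫ πF ≫ S.f + prod.snd ≫ b : EF ⨯ F' ⟶ S.X₂) := by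
      rw [epi_iff_surjective_up_to_refinements]
      intro A y
      obtain ⟨A₁, p₁, hp₁, x₁, hx₁⟩ :=
        (epi_iff_surjective_up_to_refinements (b ≫ S.g)).1 hbepi (y ≫ S.g)
      have hz : (p₁ ≫ y - x₁ ≫ b) ≫ S.g = 0 := by
        rw [Preadditive.sub_comp, Category.assoc, Category.assoc, hx₁, sub_self]
      have hzf : hex.lift _ hz ≫ S.f = p₁ ≫ y - x₁ ≫ b := hex.lift_f _ _
      obtain ⟨A₂, p₂, hp₂, x₂, hx₂⟩ :=
        (epi_iff_surjective_up_to_refinements πF).1 hπF (hex.lift _ hz)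
      refine ⟨A₂, p₂ ≫ p₁, epi_comp _ _, prod.lift x₂ (p₂ ≫ x₁), ?_⟩
      simp only [Preadditive.comp_add, prod.lift_fst_assoc, prod.lift_snd_assoc]
      rw [← Category.assoc x₂, ← hx₂]
      simp only [Category.assoc]
      rw [hzf, Preadditive.comp_sub]
      simp
    exact ⟨EF ⨯ F', _, hsum _ _ hEF hF', hφ⟩

end Groth.Agent.S5624
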