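import Groth.Statements.S5625
import Mathlib
import Groth.Agent.H8.PullbackStalk
import Groth.Agent.H8.QCohPush

set_option autoImplicit false
universe u
open CategoryTheory AlgebraicGeometry
open QCohCat

namespace Groth.Agent.S5625

/-- Let f : X ⟶ Y be a morphism of quasi-compact quasi-separated schemes and Q_X, Q_Y coherators (right
adjoints of the inclusions QCoh ⥤ Mod) on X and Y. Then Q_Y ∘ f_* and f_* ∘ Q_X agree: the two
composite functors Mod(O_X) ⥤ Mod(O_Y) are naturally isomorphic (existence of a natural isomorphism;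
the source's isomorphism is the canonical one between two right adjoints of the same functor). -/
theorem result {X Y : Scheme.{u}} [CompactSpace X] [QuasiSeparatedSpace X]
    [CompactSpace Y] [QuasiSeparatedSpace Y] (f : X ⟶ Y)
    (QX : X.Modules ⥤ QCohCat.QCoh X) (adjX : (QCohCat.isQCoh X).ι ⊣ QX)
    (QY : Y.Modules ⥤ QCohCat.QCoh Y) (adjY : (QCohCat.isQCoh Y).ι ⊣ QY) :
    Nonempty ((QX ⋙ (QCohCat.isQCoh X).ι ⋙ Scheme.Modules.pushforward f) ≅
      (Scheme.Modules.pushforward f ⋙ QY ⋙ (QCohCat.isQCoh Y).ι)) := by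
  have hqc : QuasiCompact f := inferInstance
  have hqs : QuasiSeparated f := inferInstance
  let pbQ : QCohCat.QCoh Y ⥤ QCohCat.QCoh X :=
    ObjectProperty.lift (QCohCat.isQCoh X) ((QCohCat.isQCoh Y).ι ⋙ Scheme.Modules.pullback f)
      (fun M => by
        have : M.obj.IsQuasicoherent := M.property
        exact Groth.Agent.H8.isQuasicoherent_pullback f M.obj)
  let pfQ : QCohCat.QCoh X ⥤ QCohCat.QCoh Y :=
    ObjectProperty.lift (QCohCat.isQCoh Y) ((QCohCat.isQCoh X).ι ⋙ Scheme.Modules.pushforward f)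
      (fun M => by
        have : M.obj.IsQuasicoherent := M.property
        exact Groth.Agent.H8.isQuasicoherent_pushforward f M.obj)
  let adjQ : pbQ ⊣ pfQ :=
    (Scheme.Modules.pullbackPushforwardAdjunction f).restrictFullyFaithful
      (QCohCat.isQCoh Y).fullyFaithfulι (QCohCat.isQCoh X).fullyFaithfulι
      (ObjectProperty.liftCompιIso _ _ _).symm (ObjectProperty.liftCompιIso _ _ _).symm
  let adjA : pbQ ⋙ (QCohCat.isQCoh X).ι ⊣ QX ⋙ pfQ := adjQ.comp adjX
  let adjB : (QCohCat.isQCoh Y).ι ⋙ Scheme.Modules.pullback f ⊣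
      Scheme.Modules.pushforward f ⋙ QY :=
    adjY.comp (Scheme.Modules.pullbackPushforwardAdjunction f)
  let e : pbQ ⋙ (QCohCat.isQCoh X).ι ≅ (QCohCat.isQCoh Y).ι ⋙ Scheme.Modules.pullback f :=
    ObjectProperty.liftCompιIso _ _ _
  let u : QX ⋙ pfQ ≅ Scheme.Modules.pushforward f ⋙ QY :=
    Adjunction.rightAdjointUniq (adjA.ofNatIsoLeft e) adjB
  exact ⟨Functor.isoWhiskerLeft QX (ObjectProperty.liftCompιIso _ _ _).symm ≪≫
    (Functor.associator _ _ _).symm ≪≫ Functor.isoWhiskerRight u (QCohCat.isQCoh Y).ι ≪≫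
    Functor.associator _ _ _⟩

end Groth.Agent.S5625
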