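import Groth.Statements.S5643
-- import your own Groth.Agent.* helpers here
import Groth.Agent.H8.DevMain3
import Groth.Agent.H34.KZ
import Groth.Agent.H8.StructureCoh

set_option autoImplicit false
universe u
open CategoryTheory CategoryTheory.Limits AlgebraicGeometry
open Classical
open SGA6

namespace Groth.Agent.S5643

set_option linter.style.haveILetI false
open Groth.Agent.H8.Dev TopologicalSpace
open scoped ZeroObject

/-- the reduced closure of a point is integral, with generic point the point -/
theorem IS' (X : Scheme.{u}) (y : X) :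
    ∃ (_ : IsIntegral (IntMult.ptIdeal y).subscheme),
      Set.range ⇑(IntMult.ptIdeal y).subschemeι = closure {y} ∧
      (IntMult.ptIdeal y).subschemeι (genericPoint (IntMult.ptIdeal y).subscheme) = y := by
  have hT : IsClosed (closure ({y} : Set X)) := isClosed_closure
  have hirr : IsIrreducible (closure ({y} : Set X)) := isIrreducible_singleton.closure
  let C : Closeds X := ⟨closure {y}, hT⟩
  let I := Scheme.IdealSheafData.vanishingIdeal C
  show ∃ (_ : IsIntegral I.subscheme), Set.range ⇑I.subschemeι = closure {y} ∧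
      I.subschemeι (genericPoint I.subscheme) = y
  have hrange : Set.range ⇑I.subschemeι = closure {y} := by
    rw [Scheme.IdealSheafData.range_subschemeι]
    exact Scheme.IdealSheafData.coe_support_vanishingIdeal C
  haveI hred : IsReduced I.subscheme := isReduced_vanishingIdeal_subscheme C
  have hemb : Topology.IsClosedEmbedding ⇑I.subschemeι := I.subschemeι.isClosedEmbedding
  have hne : Nonempty I.subscheme := by
    obtain ⟨t, ht⟩ := hirr.1
    rw [← hrange] at ht
    obtain ⟨z, -⟩ := ht
    exact ⟨z⟩
  have hpre : IsPreirreducible (Set.univ : Set I.subscheme) := by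
    rintro u v hu hv ⟨a, -, hau⟩ ⟨b, -, hbv⟩
    obtain ⟨u', hu', rfl⟩ := hemb.isEmbedding.isInducing.isOpen_iff.mp hu
    obtain ⟨v', hv', rfl⟩ := hemb.isEmbedding.isInducing.isOpen_iff.mp hv
    have h1 : (closure {y} ∩ u').Nonempty := ⟨I.subschemeι a, hrange ▸ Set.mem_range_self a, hau⟩
    have h2 : (closure {y} ∩ v').Nonempty := ⟨I.subschemeι b, hrange ▸ Set.mem_range_self b, hbv⟩
    obtain ⟨t, htT, htu, htv⟩ := hirr.2 u' v' hu' hv' h1 h2
    rw [← hrange] at htT
    obtain ⟨z, rfl⟩ := htT
    exact ⟨z, Set.mem_univ _, htu, htv⟩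
  haveI hirrS : IrreducibleSpace I.subscheme :=
    { isPreirreducible_univ := hpre
      toNonempty := hne }
  haveI hint : IsIntegral I.subscheme := isIntegral_of_irreducibleSpace_of_isReduced _
  refine ⟨hint, hrange, ?_⟩
  have h1 : IsGenericPoint (I.subschemeι (genericPoint I.subscheme)) (closure {y}) := by
    have hg : IsGenericPoint (genericPoint I.subscheme) (Set.univ : Set I.subscheme) :=
      genericPoint_spec I.subscheme
    have := hg.image I.subschemeι.continuous
    rw [Set.image_univ, hrange, hT.closure_eq] at this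
    exact this
  exact h1.eq rfl


open Groth.Agent.H34.KZ

abbrev Pc (X : Scheme.{u}) : ObjectProperty X.Modules := fun M : X.Modules => Coh.IsCoh M

theorem isCoh_zero (X : Scheme.{u}) [IsLocallyNoetherian X] : Coh.IsCoh (0 : X.Modules) :=
  isCoh_pw (Groth.Agent.H8.isCoh_structureModule X) 0

theorem clSub_zero (X : Scheme.{u}) [IsLocallyNoetherian X] :
    KZero.clSub (Pc X) (0 : X.Modules) = 0 := by
  let S : ShortComplex X.Modules := ShortComplex.mk (0 : (0 : X.Modules) ⟶ 0) (0 : (0 : X.Modules) ⟶ 0) zero_comp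
  have hS : S.ShortExact :=
    { exact := (S.exact_iff_mono rfl).mpr ⟨fun g h _ => (isZero_zero _).eq_of_tgt g h⟩
      mono_f := ⟨fun g h _ => (isZero_zero _).eq_of_tgt g h⟩
      epi_g := ⟨fun g h _ => (isZero_zero _).eq_of_src g h⟩ }
  have h := cl_shortExact (Pc X) S (isCoh_zero X) (isCoh_zero X) (isCoh_zero X) hS
  change KZero.clSub (Pc X) (0 : X.Modules) = KZero.clSub (Pc X) 0 + KZero.clSub (Pc X) 0 at h
  exact left_eq_add.mp h |>.symm ▸ rfl


theorem clSub_iso {X : Scheme.{u}} [IsLocallyNoetherian X] {M N : X.Modules} (e : M ≅ N)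
    (hM : Coh.IsCoh M) (hN : Coh.IsCoh N) :
    KZero.clSub (Pc X) M = KZero.clSub (Pc X) N := by
  let S : ShortComplex X.Modules := ShortComplex.mk (0 : (0 : X.Modules) ⟶ M) e.hom zero_comp
  have hS : S.ShortExact :=
    { exact := (S.exact_iff_mono rfl).mpr (inferInstanceAs (Mono e.hom))
      mono_f := ⟨fun g h _ => (isZero_zero _).eq_of_tgt g h⟩
      epi_g := inferInstanceAs (Epi e.hom) }
  have h := cl_shortExact (Pc X) S (isCoh_zero X) hM hN hS
  change KZero.clSub (Pc X) M = KZero.clSub (Pc X) 0 + KZero.clSub (Pc X) N at h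
  rw [h, clSub_zero, zero_add]

theorem dim_mono {T : Type*} [TopologicalSpace T] {A B : Set T} (h : A ⊆ B) :
    topologicalKrullDim ↥A ≤ topologicalKrullDim ↥B :=
  (Topology.IsEmbedding.inclusion h).isInducing.topologicalKrullDim_le


/-- Let X be a Noetherian scheme and K the Grothendieck group of coherent O_X-modules. For every n, the
subgroup of K generated by the classes of coherent modules whose support has dimension ≤ n coincides
with the subgroup generated by the classes [O_Z] of the structure sheaves (as O_X-modules) of the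
integral closed subschemes Z ⊆ X of dimension ≤ n, Z running over the reduced closures of points of
X. -/
theorem result (X : Scheme.{u}) [IsNoetherian X] (n : ℕ) :
    AddSubgroup.closure {c : KZero.K0sub (fun M : X.Modules => Coh.IsCoh M) |
        ∃ G : X.Modules, Coh.IsCoh G ∧ topologicalKrullDim ↥(CohB1.support G) ≤ n ∧ c = KZero.clSub (fun M : X.Modules => Coh.IsCoh M) G} =
      AddSubgroup.closure {c : KZero.K0sub (fun M : X.Modules => Coh.IsCoh M) |
        ∃ x : ↥X, topologicalKrullDim ↥(closure ({x} : Set ↥X)) ≤ n ∧ c = KZero.clSub (fun M : X.Modules => Coh.IsCoh M) (Cyc.closureStructureSheaf x)} := by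
  -- facts about the closure structure sheaf
  have hG : ∀ x : X, Coh.IsCoh (Cyc.closureStructureSheaf x) ∧
      CohB1.support (Cyc.closureStructureSheaf x) ⊆ closure {x} ∧
      (∀ a ∈ IsLocalRing.maximalIdeal (X.presheaf.stalk x),
        ∀ t : ↑((Cyc.closureStructureSheaf x).presheaf.stalk x), a • t = 0) ∧
      Module.length (X.presheaf.stalk x) ↑((Cyc.closureStructureSheaf x).presheaf.stalk x) = 1 := by
    intro x
    obtain ⟨hint, hrange, hgen⟩ := IS' X x
    haveI := hint
    have cO := Groth.Agent.H8.isCoh_structureModule (IntMult.ptIdeal x).subscheme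
    obtain ⟨h1, h2, h3, -⟩ := PF (IntMult.ptIdeal x).subschemeι (Coh.structureModule _) cO
    have h4 := PF1 (IntMult.ptIdeal x).subschemeι
    rw [hgen] at h3 h4
    exact ⟨h1, hrange ▸ h2, h3, h4⟩
  apply le_antisymm
  · -- every coherent module of small support
    rw [AddSubgroup.closure_le]
    rintro c ⟨F, hF, hdim, rfl⟩
    set H := AddSubgroup.closure {c : KZero.K0sub (fun M : X.Modules => Coh.IsCoh M) |
        ∃ x : ↥X, topologicalKrullDim ↥(closure ({x} : Set ↥X)) ≤ n ∧ c = KZero.clSub (fun M : X.Modules => Coh.IsCoh M) (Cyc.closureStructureSheaf x)} with hH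
    let K' : ObjectProperty X.Modules := fun M => KZero.clSub (Pc X) M ∈ H
    haveI : K'.IsClosedUnderIsomorphisms := by
      refine ⟨fun {M N} e h => ?_⟩
      by_cases hM : Coh.IsCoh M
      · have hN : Coh.IsCoh N := Groth.Agent.H90.QH.isCoh_of_iso e hM
        show KZero.clSub (Pc X) N ∈ H
        rw [← clSub_iso e hM hN]
        exact h
      · have hN : ¬ Coh.IsCoh N := fun hN => hM (Groth.Agent.H90.QH.isCoh_of_iso e.symm hN)
        show KZero.clSub (Pc X) N ∈ H
        unfold KZero.clSub
        rw [dif_neg hN]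
        exact H.zero_mem
    have h0 : ∀ M : X.Modules, IsZero M → K' M := by
      intro M hM
      have e : M ≅ 0 := hM.isoZero
      have : K' (0 : X.Modules) := by
        show KZero.clSub (Pc X) 0 ∈ H
        rw [clSub_zero]
        exact H.zero_mem
      exact K'.prop_of_iso e.symm this
    have hex : ∀ S : ShortComplex X.Modules, S.ShortExact → Coh.IsCoh S.X₁ → Coh.IsCoh S.X₂ →
        Coh.IsCoh S.X₃ →
        (K' S.X₁ → K' S.X₂ → K' S.X₃) ∧ (K' S.X₁ → K' S.X₃ → K' S.X₂) ∧
          (K' S.X₂ → K' S.X₃ → K' S.X₁) := by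
      intro S hS h1 h2 h3
      have h := cl_shortExact (Pc X) S h1 h2 h3 hS
      refine ⟨fun a b => ?_, fun a b => ?_, fun a b => ?_⟩
      · show KZero.clSub (Pc X) S.X₃ ∈ H
        have : KZero.clSub (Pc X) S.X₃ = KZero.clSub (Pc X) S.X₂ - KZero.clSub (Pc X) S.X₁ := by
          rw [h]; abel
        rw [this]
        exact H.sub_mem b a
      · show KZero.clSub (Pc X) S.X₂ ∈ H
        rw [h]
        exact H.add_mem a b
      · show KZero.clSub (Pc X) S.X₁ ∈ H
        have : KZero.clSub (Pc X) S.X₁ = KZero.clSub (Pc X) S.X₂ - KZero.clSub (Pc X) S.X₃ := by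
          rw [h]; abel
        rw [this]
        exact H.sub_mem a b
    let X' : Set X := {x | topologicalKrullDim ↥(closure ({x} : Set ↥X)) ≤ n}
    have hFX' : CohB1.support F ⊆ X' := by
      intro x hx
      have hcl : closure {x} ⊆ CohB1.support F :=
        (isClosed_supp hF).closure_subset_iff.mpr (Set.singleton_subset_iff.mpr hx)
      exact (dim_mono hcl).trans hdim
    refine main K' h0 hex X' ?_ F hF hFX'
    intro Z hZ hZirr hZX' y hy small
    obtain ⟨g1, g2, g3, g4⟩ := hG y
    have hyZ : y ∈ Z := hy ▸ subset_closure (Set.mem_singleton y)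
    refine ⟨Cyc.closureStructureSheaf y, 1, g1, ?_, hy ▸ g2, g3, le_rfl, by simpa using g4, ?_⟩
    · show KZero.clSub (Pc X) (Cyc.closureStructureSheaf y) ∈ H
      exact AddSubgroup.subset_closure ⟨y, hZX' hyZ, rfl⟩
    · intro F' hF' hK
      have e : pw F' 1 ≅ F' := by
        show F' ⊞ (0 : X.Modules) ≅ F'
        exact
          { hom := biprod.fst
            inv := biprod.inl
            hom_inv_id := by
              apply biprod.hom_ext
              · simp
              · exact (isZero_zero _).eq_of_tgt _ _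
            inv_hom_id := by simp }
      exact K'.prop_of_iso e hK
  · rw [AddSubgroup.closure_le]
    rintro c ⟨x, hx, rfl⟩
    obtain ⟨g1, g2, -, -⟩ := hG x
    exact AddSubgroup.subset_closure ⟨Cyc.closureStructureSheaf x, g1, (dim_mono g2).trans hx, rfl⟩

end Groth.Agent.S5643
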