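import Groth.Statements.S5656
import Mathlib.RingTheory.Binomial
import Mathlib.RingTheory.Polynomial.Pochhammer
import Mathlib.Algebra.Polynomial.Roots
import Mathlib.Topology.Algebra.Polynomial
import Mathlib.Topology.Instances.Rat
import Mathlib.Analysis.SpecificLimits.Basic
import Mathlib.Tactic

set_option autoImplicit false
universe u
open W4sga6xxiii

namespace Groth.Agent.S5656

section helpers
open Polynomial

/-- The binomial polynomial `T(T-1)⋯(T-j+1)/j!`. -/
noncomputable def chP (j : ℕ) : ℚ[X] := C ((j.factorial : ℚ)⁻¹) * descPochhammer ℚ j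

theorem eval_chP (j : ℕ) (n : ℤ) : (chP j).eval (n : ℚ) = ((Ring.choose n j : ℤ) : ℚ) := by
  have h1 : (descPochhammer ℤ j).eval n = j.factorial • Ring.choose n j := by
    rw [Polynomial.eval_eq_smeval]; exact Ring.descPochhammer_eq_factorial_smul_choose n j
  have h2 : (descPochhammer ℚ j).eval (n : ℚ) =
      (j.factorial : ℚ) * ((Ring.choose n j : ℤ) : ℚ) := by
    rw [← descPochhammer_eval_cast, h1, nsmul_eq_mul]; push_cast; ring
  unfold chP
  rw [eval_mul, eval_C, h2, inv_mul_cancel_left₀]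
  exact_mod_cast Nat.factorial_ne_zero j

theorem exists_poly {G : Type u} [AddCommGroup G] (f : G → ℚ) (hf : W4sga6xxiii.IsPolyMap f)
    (x g : G) : ∃ P : ℚ[X], ∀ n : ℤ, f (x + n • g) = P.eval (n : ℚ) := by
  obtain ⟨m, y, -, hy⟩ := hf 2 ![x, g]
  refine ⟨∑ k : Fin 2 → Fin (m + 1),
    C (((Ring.choose (1 : ℤ) (k 0 : ℕ) : ℤ) : ℚ) * y k) * chP (k 1 : ℕ), fun n => ?_⟩
  have := hy ![1, n]
  simp only [Fin.sum_univ_two, Fin.prod_univ_two, Matrix.cons_val_zero, Matrix.cons_val_one,
    one_smul] at this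
  rw [this, eval_finsetSum]
  refine Finset.sum_congr rfl (fun k _ => ?_)
  rw [eval_mul, eval_C, eval_chP, zsmul_eq_mul]
  push_cast
  ring

theorem poly_const (p : ℕ) (hp : 1 < p) (P : ℚ[X])
    (h : ∀ N : ℕ, ∃ z : ℤ, P.eval ((1 : ℚ) / (p : ℚ) ^ N) = z) (h0 : ∃ z : ℤ, P.eval 0 = z) :
    P.eval 1 = P.eval 0 := by
  obtain ⟨z0, hz0⟩ := h0
  set Q : ℚ[X] := P - C (P.eval 0) with hQ
  have hQ0 : Q.eval 0 = 0 := by simp [hQ]
  have hp' : (1 : ℚ) < p := by exact_mod_cast hp
  have hp0 : (0 : ℚ) < p := by linarith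
  have htend : Filter.Tendsto (fun N : ℕ => (1 : ℚ) / (p : ℚ) ^ N) Filter.atTop (nhds 0) := by
    have := tendsto_pow_atTop_nhds_zero_of_lt_one (r := (1 : ℚ) / p) (by positivity)
      (by rw [div_lt_one hp0]; exact hp')
    simpa [one_div_pow] using this
  have htQ : Filter.Tendsto (fun N : ℕ => Q.eval ((1 : ℚ) / (p : ℚ) ^ N)) Filter.atTop
      (nhds 0) := by
    have := (Q.continuous.tendsto 0).comp htend
    rw [hQ0] at this
    exact this
  have hev : ∀ᶠ N in Filter.atTop, |Q.eval ((1 : ℚ) / (p : ℚ) ^ N)| < 1 := by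
    have := htQ.abs
    rw [abs_zero] at this
    exact this.eventually (gt_mem_nhds one_pos)
  obtain ⟨N0, hN0⟩ := Filter.eventually_atTop.1 hev
  have hzero : ∀ N ≥ N0, Q.eval ((1 : ℚ) / (p : ℚ) ^ N) = 0 := by
    intro N hN
    obtain ⟨z, hz⟩ := h N
    have hval : Q.eval ((1 : ℚ) / (p : ℚ) ^ N) = ((z - z0 : ℤ) : ℚ) := by
      rw [hQ, eval_sub, eval_C, hz, hz0, Int.cast_sub]
    have hlt := hN0 N hN
    rw [hval] at hlt ⊢
    have : |z - z0| < 1 := by exact_mod_cast hlt
    rw [Int.abs_lt_one_iff.1 this]; simp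
  have hQz : Q = 0 := by
    apply Polynomial.eq_zero_of_infinite_isRoot
    apply Set.infinite_of_injective_forall_mem
      (f := fun N : ℕ => (1 : ℚ) / (p : ℚ) ^ (N + N0))
    · intro a b hab
      simp only [one_div, inv_inj] at hab
      have := (pow_right_strictMono₀ hp').injective hab
      omega
    · intro N; exact hzero (N + N0) (by omega)
  have : P = C (P.eval 0) := by rw [← sub_eq_zero]; exact hQz
  rw [this]; simp

theorem step1 {G : Type u} [AddCommGroup G] (G' : AddSubgroup G)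
    (p : ℕ) (hp : p.Prime) (hdiv : ∀ x ∈ G', ∃ y ∈ G', p • y = x)
    (f : G → ℚ) (hf : W4sga6xxiii.IsPolyMap f) (hint : ∀ x, ∃ z : ℤ, f x = z)
    (x g : G) (hg : g ∈ G') : f (x + g) = f x := by
  let step : G' → G' := fun y => ⟨(hdiv y.1 y.2).choose, (hdiv y.1 y.2).choose_spec.1⟩
  have hstep : ∀ y : G', p • ((step y : G') : G) = (y : G) :=
    fun y => (hdiv y.1 y.2).choose_spec.2
  let gs : ℕ → G' := fun N => step^[N] ⟨g, hg⟩
  have hpow : ∀ N : ℕ, (p ^ N) • ((gs N : G') : G) = g := by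
    intro N
    induction N with
    | zero => simp [gs]
    | succ N ih =>
      have : gs (N + 1) = step (gs N) := Function.iterate_succ_apply' step N _
      rw [this, pow_succ, mul_smul, hstep, ih]
  obtain ⟨P, hP⟩ := exists_poly f hf x g
  have key : ∀ N : ℕ, ∃ z : ℤ, P.eval ((1 : ℚ) / (p : ℚ) ^ N) = z := by
    intro N
    obtain ⟨PN, hPN⟩ := exists_poly f hf x ((gs N : G') : G)
    have hcomp : PN.comp (C ((p : ℚ) ^ N) * X) = P := by
      apply Polynomial.eq_of_infinite_eval_eq
      apply Set.infinite_of_injective_forall_mem (f := fun n : ℤ => (n : ℚ)) Int.cast_injective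
      intro n
      simp only [Set.mem_ofPred_eq, eval_comp, eval_mul, eval_C, eval_X]
      have hc : ((p : ℚ) ^ N * (n : ℚ)) = (((n * ((p ^ N : ℕ) : ℤ)) : ℤ) : ℚ) := by
        push_cast; ring
      rw [hc, ← hPN, ← hP]
      congr 2
      rw [mul_smul, natCast_zsmul, hpow]
    obtain ⟨z, hz⟩ := hint (x + (1 : ℤ) • ((gs N : G') : G))
    refine ⟨z, ?_⟩
    rw [← hz, hPN 1, ← hcomp, eval_comp, eval_mul, eval_C, eval_X]
    congr 1
    have : (p : ℚ) ^ N ≠ 0 := pow_ne_zero _ (by exact_mod_cast hp.ne_zero)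
    field_simp
    simp
  have e0 : P.eval 0 = f x := by have := hP 0; simpa using this.symm
  have e1 : P.eval 1 = f (x + g) := by have := hP 1; simpa using this.symm
  have h01 := poly_const p hp.one_lt P key (by rw [e0]; exact hint x)
  rw [← e1, ← e0, h01]

end helpers

open Polynomial in
/-- Let G be an abelian group and G' ⊆ G a subgroup which is divisible by some prime number p (every
element of G' is p times an element of G') and such that G/G' is a torsion group. Then every
polynomial map f : G → ℚ (admitting binomial expansions f(Σ n_i x_i) = Σ_k Π_i C(n_i, k_i) y_k along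
every finite sequence x) which takes only integer values is constant. -/
theorem result {G : Type u} [AddCommGroup G] (G' : AddSubgroup G)
    (p : ℕ) (hp : p.Prime) (hdiv : ∀ x ∈ G', ∃ y ∈ G', p • y = x) (htor : ∀ x : G, ∃ n : ℤ, n ≠ 0 ∧ n • x ∈ G')
    (f : G → ℚ) (hf : W4sga6xxiii.IsPolyMap f) (hint : ∀ x, ∃ z : ℤ, f x = z) (x : G) : f x = f 0 := by
  obtain ⟨n, hn0, hn⟩ := htor x
  obtain ⟨P, hP⟩ := exists_poly f hf 0 x
  have hper : ∀ j : ℕ, f (((j : ℤ) * n) • x) = f 0 := by
    intro j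
    induction j with
    | zero => simp
    | succ j ih =>
      have : (((j + 1 : ℕ) : ℤ) * n) • x = ((j : ℤ) * n) • x + n • x := by
        push_cast; rw [add_mul, one_mul, add_smul]
      rw [this, step1 G' p hp hdiv f hf hint _ _ hn, ih]
  have hP0 : P = C (f 0) := by
    apply Polynomial.eq_of_infinite_eval_eq
    apply Set.infinite_of_injective_forall_mem (f := fun j : ℕ => (((j : ℤ) * n : ℤ) : ℚ))
    · intro a b hab
      simp only at hab
      have h1 : (a : ℤ) * n = (b : ℤ) * n := by exact_mod_cast hab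
      have h2 := mul_right_cancel₀ hn0 h1
      exact_mod_cast h2
    · intro j
      simp only [Set.mem_ofPred_eq, eval_C]
      rw [← hP, zero_add, hper]
  have h1 := hP 1
  rw [hP0] at h1
  simpa using h1

end Groth.Agent.S5656
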