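import Groth.Statements.S5657
import Mathlib.Algebra.Polynomial.Div
import Mathlib.Algebra.Polynomial.AlgebraMap
import Mathlib.RingTheory.Binomial
import Mathlib.Algebra.BigOperators.Ring.Finset
import Mathlib.Tactic

set_option autoImplicit false
universe u
open TensorProduct
open W4sga6xxiii

namespace Groth.Agent.S5657

section helpers

open Polynomial

/-- Truncated binomial polynomial `∑_{k ≤ m} C(n, k) X^k`. -/
noncomputable def pa (m : ℕ) (n : ℤ) : ℤ[X] :=
  ∑ k ∈ Finset.range (m + 1), Polynomial.C (Ring.choose n k) * Polynomial.X ^ k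

theorem coeff_pa (m : ℕ) (n : ℤ) (d : ℕ) :
    (pa m n).coeff d = if d < m + 1 then Ring.choose n d else 0 := by
  unfold pa
  rw [Polynomial.finsetSum_coeff]
  simp only [Polynomial.coeff_C_mul_X_pow]
  rw [Finset.sum_ite_eq (Finset.range (m + 1)) d (fun k => Ring.choose n k)]
  simp

theorem pa_mul_dvd (m : ℕ) (a b : ℤ) :
    (Polynomial.X : ℤ[X]) ^ (m + 1) ∣ pa m a * pa m b - pa m (a + b) := by
  rw [Polynomial.X_pow_dvd_iff]
  intro d hd
  rw [Polynomial.coeff_sub, sub_eq_zero, Polynomial.coeff_mul, coeff_pa, if_pos hd,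
    Ring.add_choose_eq d (Commute.all a b)]
  refine Finset.sum_congr rfl (fun ij hij => ?_)
  have hsum := Finset.mem_antidiagonal.1 hij
  rw [coeff_pa, coeff_pa, if_pos (by omega), if_pos (by omega)]

variable {A : Type u} [CommRing A]

/-- The truncated binomial sum evaluated at `t`. -/
noncomputable def Sf (m : ℕ) (t : A) (n : ℤ) : A :=
  ∑ k ∈ Finset.range (m + 1), (Ring.choose n k : ℤ) • t ^ k

theorem aeval_pa (m : ℕ) (t : A) (n : ℤ) : Polynomial.aeval t (pa m n) = Sf m t n := by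
  unfold pa Sf
  rw [map_sum]
  refine Finset.sum_congr rfl (fun k _ => ?_)
  simp [zsmul_eq_mul]

theorem Sf_add (m : ℕ) (t : A) (ht : t ^ (m + 1) = 0) (a b : ℤ) :
    Sf m t (a + b) = Sf m t a * Sf m t b := by
  obtain ⟨q, hq⟩ := pa_mul_dvd m a b
  have := congrArg (Polynomial.aeval t) hq
  rw [map_sub, map_mul, map_mul, map_pow, Polynomial.aeval_X, ht, zero_mul, sub_eq_zero,
    aeval_pa, aeval_pa, aeval_pa] at this
  exact this.symm

theorem Sf_zero (m : ℕ) (t : A) : Sf m t 0 = 1 := by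
  unfold Sf
  rw [Finset.sum_eq_single 0]
  · simp
  · intro k _ hk
    obtain ⟨j, rfl⟩ := Nat.exists_eq_succ_of_ne_zero hk
    rw [Ring.choose_zero_succ, zero_smul]
  · intro h; simp at h

theorem Sf_one (m : ℕ) (t : A) (ht : t ^ (m + 1) = 0) : Sf m t 1 = 1 + t := by
  unfold Sf
  have hterm : ∀ k : ℕ, (Ring.choose (1 : ℤ) k : ℤ) • t ^ k =
      (if k = 0 then 1 else 0) + (if k = 1 then t else 0) := by
    intro k
    have h1 : Ring.choose (1 : ℤ) k = ((Nat.choose 1 k : ℕ) : ℤ) := by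
      have := Ring.choose_natCast (R := ℤ) 1 k
      simpa using this
    rw [h1]
    match k with
    | 0 => simp
    | 1 => simp
    | (j + 2) => simp [Nat.choose_eq_zero_of_lt]
  simp only [hterm, Finset.sum_add_distrib, Finset.sum_ite_eq', Finset.mem_range]
  rw [if_pos (Nat.succ_pos m)]
  by_cases hm : 1 < m + 1
  · rw [if_pos hm]
  · have : m = 0 := by omega
    subst this
    rw [if_neg hm]
    simpa using ht

theorem unit_zpow_eq_Sf (m : ℕ) (u : Aˣ) (ht : ((u : A) - 1) ^ (m + 1) = 0) (n : ℤ) :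
    ((u ^ n : Aˣ) : A) = Sf m ((u : A) - 1) n := by
  set t := (u : A) - 1 with htdef
  have h1 : Sf m t 1 = (u : A) := by rw [Sf_one m t ht, htdef]; ring
  have hnat : ∀ k : ℕ, ((u ^ (k : ℤ) : Aˣ) : A) = Sf m t (k : ℤ) := by
    intro k
    induction k with
    | zero => simp [Sf_zero]
    | succ k ih =>
      push_cast
      rw [zpow_add, zpow_one, Units.val_mul, ih, Sf_add m t ht, h1]
  rcases Int.eq_nat_or_neg n with ⟨k, rfl | rfl⟩
  · exact hnat k
  · have e1 : Sf m t (-(k : ℤ)) * Sf m t (k : ℤ) = 1 := by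
      rw [← Sf_add m t ht, neg_add_cancel, Sf_zero]
    have e2 : ((u ^ (k : ℤ) : Aˣ) : A) * ((u ^ (-(k : ℤ)) : Aˣ) : A) = 1 := by
      rw [← Units.val_mul, ← zpow_add, add_neg_cancel, zpow_zero, Units.val_one]
    calc ((u ^ (-(k : ℤ)) : Aˣ) : A)
        = (Sf m t (-(k : ℤ)) * Sf m t (k : ℤ)) * ((u ^ (-(k : ℤ)) : Aˣ) : A) := by
          rw [e1, one_mul]
      _ = Sf m t (-(k : ℤ)) * (((u ^ (k : ℤ) : Aˣ) : A) * ((u ^ (-(k : ℤ)) : Aˣ) : A)) := by
          rw [hnat k]; ring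
      _ = Sf m t (-(k : ℤ)) := by rw [e2, mul_one]

end helpers

/-- Let A be a commutative ring, I an ideal of A with I^{m+1} = 0, and P ⊆ Aˣ the subgroup of units of
the form 1 + y with y ∈ I. Then the map P → A ⊗_ℤ ℚ, x ↦ x ⊗ 1, is a polynomial map of degree ≤ m on
the abelian group P (written additively): along every finite sequence x_1, …, x_r in P one has
x_1^{n_1}⋯x_r^{n_r} ⊗ 1 = Σ_k Π_i C(n_i, k_i) y_k with y_k = 0 whenever k_1 + ⋯ + k_r > m. -/
theorem result (A : Type u) [CommRing A] (I : Ideal A) (m : ℕ) (hI : I ^ (m + 1) = ⊥)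
    (P : Subgroup Aˣ) (hP : ∀ u : Aˣ, u ∈ P ↔ (u : A) - 1 ∈ I) :
    W4sga6xxiii.IsPolyMapLE (fun u : Additive P => (((Additive.toMul u : P) : Aˣ) : A) ⊗ₜ[ℤ] (1 : ℚ)) m := by
  intro r x
  set t : Fin r → A := fun i => (((Additive.toMul (x i) : P) : Aˣ) : A) - 1 with ht
  have htI : ∀ i, t i ∈ I := fun i => (hP _).1 (Additive.toMul (x i)).2
  have htpow : ∀ i, t i ^ (m + 1) = 0 := by
    intro i
    have h : t i ^ (m + 1) ∈ I ^ (m + 1) := Ideal.pow_mem_pow (htI i) _
    rw [hI] at h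
    exact h
  refine ⟨fun k => (∏ i, t i ^ (k i : ℕ)) ⊗ₜ[ℤ] (1 : ℚ), ?_, ?_⟩
  · intro k hk
    have hmem : ∏ i, t i ^ (k i : ℕ) ∈ I ^ (∑ i, (k i : ℕ)) := by
      have := Ideal.prod_mem_prod (s := Finset.univ) (I := fun i : Fin r => I ^ (k i : ℕ))
        (x := fun i => t i ^ (k i : ℕ)) (fun i _ => Ideal.pow_mem_pow (htI i) _)
      rwa [Finset.prod_pow_eq_pow_sum] at this
    have hle : I ^ (∑ i, (k i : ℕ)) ≤ I ^ (m + 1) := Ideal.pow_le_pow_right (by omega)
    have h0 : ∏ i, t i ^ (k i : ℕ) = 0 := by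
      have := hle hmem
      rw [hI] at this
      exact this
    show (∏ i, t i ^ (k i : ℕ)) ⊗ₜ[ℤ] (1 : ℚ) = 0
    rw [h0, TensorProduct.zero_tmul]
  · intro n
    have h1 : (Additive.toMul (∑ i, n i • x i) : P) = ∏ i, (Additive.toMul (x i)) ^ (n i) := by
      rw [toMul_sum]
      simp [toMul_zsmul]
    have h2 : (((Additive.toMul (∑ i, n i • x i) : P) : Aˣ) : A) = ∏ i, Sf m (t i) (n i) := by
      rw [h1, SubmonoidClass.coe_finsetProd, Units.coe_prod]
      refine Finset.prod_congr rfl (fun i _ => ?_)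
      rw [Subgroup.coe_zpow]
      exact unit_zpow_eq_Sf m _ (htpow i) (n i)
    have h3 : ∏ i, Sf m (t i) (n i) =
        ∑ k : Fin r → Fin (m + 1), (∏ i, Ring.choose (n i) (k i : ℕ)) • ∏ i, t i ^ (k i : ℕ) := by
      have hS : ∀ i, Sf m (t i) (n i) =
          ∑ k : Fin (m + 1), (Ring.choose (n i) (k : ℕ) : ℤ) • t i ^ (k : ℕ) := by
        intro i
        unfold Sf
        exact Finset.sum_range (fun k => (Ring.choose (n i) k : ℤ) • t i ^ k)
      simp only [hS]
      rw [Finset.prod_univ_sum, Fintype.piFinset_univ]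
      refine Finset.sum_congr rfl (fun k _ => ?_)
      simp only [zsmul_eq_mul]
      rw [Finset.prod_mul_distrib, Int.cast_prod]
    show (((Additive.toMul (∑ i, n i • x i) : P) : Aˣ) : A) ⊗ₜ[ℤ] (1 : ℚ) = _
    rw [h2, h3, TensorProduct.sum_tmul]
    refine Finset.sum_congr rfl (fun k _ => ?_)
    rw [TensorProduct.smul_tmul']

end Groth.Agent.S5657
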