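import Mathlib
import Groth.Statements.S5663
-- import your own Groth.Agent.* helpers here

set_option autoImplicit false
universe u
open TensorProduct
open CAlg

namespace Groth.Agent.S5663

/-- If `1 ⊗ c = 0` in `κ(p) ⊗ M` then `t • c ∈ p M` for some `t ∉ p`. -/
theorem exists_smul_mem_of_tmul_eq_zero {A : Type u} [CommRing A] (p : Ideal A) [p.IsPrime]
    {M : Type u} [AddCommGroup M] [Module A M] (c : M)
    (hc : (1 : p.ResidueField) ⊗ₜ[A] c = 0) : ∃ t ∉ p, t • c ∈ (p • ⊤ : Submodule A M) := by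
  have h1 : (1 : p.ResidueField) ⊗ₜ[A ⧸ p] ((1 : A ⧸ p) ⊗ₜ[A] c) = 0 := by
    have := congrArg (TensorProduct.AlgebraTensorModule.cancelBaseChange A (A ⧸ p)
      p.ResidueField p.ResidueField M).symm hc
    rwa [TensorProduct.AlgebraTensorModule.cancelBaseChange_symm_tmul, map_zero] at this
  haveI : IsLocalizedModule (nonZeroDivisors (A ⧸ p))
      (TensorProduct.mk (A ⧸ p) p.ResidueField ((A ⧸ p) ⊗[A] M) 1) :=
    (isLocalizedModule_iff_isBaseChange (nonZeroDivisors (A ⧸ p)) p.ResidueField _).2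
      (TensorProduct.isBaseChange (A ⧸ p) ((A ⧸ p) ⊗[A] M) p.ResidueField)
  obtain ⟨⟨d, hd⟩, hd0⟩ := (IsLocalizedModule.eq_zero_iff (nonZeroDivisors (A ⧸ p))
    (TensorProduct.mk (A ⧸ p) p.ResidueField ((A ⧸ p) ⊗[A] M) 1)).1 h1
  obtain ⟨t, rfl⟩ := Ideal.Quotient.mk_surjective d
  refine ⟨t, fun ht => ?_, ?_⟩
  · exact nonZeroDivisors.ne_zero hd (Ideal.Quotient.eq_zero_iff_mem.2 ht)
  · have h2 : (Ideal.Quotient.mk p t) ⊗ₜ[A] c = (0 : (A ⧸ p) ⊗[A] M) := by
      have h3 : (Ideal.Quotient.mk p t) • ((1 : A ⧸ p) ⊗ₜ[A] c) = (0 : (A ⧸ p) ⊗[A] M) := hd0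
      rwa [TensorProduct.smul_tmul', smul_eq_mul, mul_one] at h3
    have h3 := congrArg (TensorProduct.quotTensorEquivQuotSMul M p) h2
    rw [TensorProduct.quotTensorEquivQuotSMul_mk_tmul, map_zero] at h3
    exact (Submodule.Quotient.mk_eq_zero _).1 h3

/-- The step lemma: an element of the equaliser is, locally at `p`, in `A + p C`. -/
theorem step {A : Type u} [CommRing A] (p : Ideal A) [p.IsPrime]
    {C : Type u} [CommRing C] [Algebra A C] (b : C)
    (hb : b ⊗ₜ[A] (1 : C) = (1 : C) ⊗ₜ[A] b) :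
    ∃ s ∉ p, ∃ a' : A, s • b - algebraMap A C a' ∈ (p • ⊤ : Submodule A C) := by
  have claim1 : ∃ μ : p.ResidueField, (1 : p.ResidueField) ⊗ₜ[A] b = μ ⊗ₜ[A] (1 : C) := by
    by_cases h1 : ((1 : p.ResidueField) ⊗ₜ[A] (1 : C)) = 0
    · have h10 : (1 : p.ResidueField ⊗[A] C) = 0 := by
        rw [Algebra.TensorProduct.one_def]; exact h1
      haveI : Subsingleton (p.ResidueField ⊗[A] C) := subsingleton_of_zero_eq_one h10.symm
      exact ⟨0, Subsingleton.elim _ _⟩
    · obtain ⟨lam, hlam⟩ := Module.Projective.exists_dual_eq_one p.ResidueField h1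
      let ℓ : C →ₗ[A] p.ResidueField :=
        (lam.restrictScalars A).comp ((TensorProduct.mk A p.ResidueField C) 1)
      have hℓ1 : ℓ 1 = 1 := hlam
      have := congrArg (ℓ.rTensor C) hb
      rw [LinearMap.rTensor_tmul, LinearMap.rTensor_tmul, hℓ1] at this
      exact ⟨ℓ b, this.symm⟩
  obtain ⟨μ, hμ⟩ := claim1
  obtain ⟨x, y, hy, hxy⟩ := IsFractionRing.div_surjective (A ⧸ p) μ
  obtain ⟨a', rfl⟩ := Ideal.Quotient.mk_surjective x
  obtain ⟨s, rfl⟩ := Ideal.Quotient.mk_surjective y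
  have hs : s ∉ p := fun h => nonZeroDivisors.ne_zero hy (Ideal.Quotient.eq_zero_iff_mem.2 h)
  have hne : algebraMap (A ⧸ p) p.ResidueField (Ideal.Quotient.mk p s) ≠ 0 :=
    map_ne_zero_of_mem_nonZeroDivisors _ (IsFractionRing.injective (A ⧸ p) p.ResidueField) hy
  have es : algebraMap A p.ResidueField s =
      algebraMap (A ⧸ p) p.ResidueField (Ideal.Quotient.mk p s) :=
    IsScalarTower.algebraMap_apply A (A ⧸ p) p.ResidueField s
  have ea : algebraMap A p.ResidueField a' =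
      algebraMap (A ⧸ p) p.ResidueField (Ideal.Quotient.mk p a') :=
    IsScalarTower.algebraMap_apply A (A ⧸ p) p.ResidueField a'
  have hμs : μ * algebraMap A p.ResidueField s = algebraMap A p.ResidueField a' := by
    rw [es, ea, ← hxy, div_mul_cancel₀ _ hne]
  have claim3 : (1 : p.ResidueField) ⊗ₜ[A] (s • b - algebraMap A C a') = 0 := by
    have e1 : (1 : p.ResidueField) ⊗ₜ[A] (s • b) =
        (algebraMap A p.ResidueField a') ⊗ₜ[A] (1 : C) := by
      rw [TensorProduct.tmul_smul, hμ, TensorProduct.smul_tmul', Algebra.smul_def, mul_comm, hμs]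
    have e2 : (1 : p.ResidueField) ⊗ₜ[A] (algebraMap A C a') =
        (algebraMap A p.ResidueField a') ⊗ₜ[A] (1 : C) := by
      calc (1 : p.ResidueField) ⊗ₜ[A] (algebraMap A C a')
          = (1 : p.ResidueField) ⊗ₜ[A] (a' • (1 : C)) := by
            rw [Algebra.algebraMap_eq_smul_one]
        _ = a' • ((1 : p.ResidueField) ⊗ₜ[A] (1 : C)) := TensorProduct.tmul_smul _ _ _
        _ = (a' • (1 : p.ResidueField)) ⊗ₜ[A] (1 : C) := TensorProduct.smul_tmul' _ _ _
        _ = (algebraMap A p.ResidueField a') ⊗ₜ[A] (1 : C) := by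
            rw [← Algebra.algebraMap_eq_smul_one]
    rw [TensorProduct.tmul_sub, e1, e2, sub_self]
  obtain ⟨t, ht, htc⟩ := exists_smul_mem_of_tmul_eq_zero p _ claim3
  refine ⟨t * s, fun h => (Ideal.IsPrime.mem_or_mem ‹_› h).elim ht hs, t * a', ?_⟩
  have : (t * s) • b - algebraMap A C (t * a') = t • (s • b - algebraMap A C a') := by
    rw [smul_sub, mul_smul, map_mul, ← Algebra.smul_def]
  rw [this]
  exact htc

/-- Let A be a Noetherian ring and B a finite A-algebra with A → B injective (a finite schematically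
dominant morphism Spec B → Spec A). Define subalgebras B_0 = B and B_{i+1} = the equalizer of the
two maps B_i ⇉ B_i ⊗_A B_i, b ↦ b ⊗ 1, 1 ⊗ b. Then B_m = A (the image of A) for some m; equivalently
Spec B → Spec A factors as a finite chain of finite morphisms Spec B_i → Spec B_{i+1} each of which
is an effective epimorphism (B_{i+1} is the equalizer of B_i ⇉ B_i ⊗_{B_{i+1}} B_i). The sequence is
given here as any family C of subalgebras satisfying the recursion. (The published statement is for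
a finite morphism X → Y of schemes with Y Noetherian and O_Y → f_*O_X injective; this row is the
affine case.) -/
theorem result (A B : Type u) [CommRing A] [CommRing B] [Algebra A B]
    [IsNoetherianRing A] [Module.Finite A B] (hinj : Function.Injective (algebraMap A B))
    (C : ℕ → Subalgebra A B) (h0 : C 0 = ⊤)
    (hstep : ∀ (i : ℕ) (b : B), b ∈ C (i + 1) ↔ ∃ hb : b ∈ C i,
      ((⟨b, hb⟩ : C i) ⊗ₜ[A] (1 : C i) : C i ⊗[A] C i) = (1 : C i) ⊗ₜ[A] (⟨b, hb⟩ : C i)) :
    ∃ m : ℕ, C m = ⊥ := by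
  classical
  haveI : IsNoetherian A B := isNoetherian_of_isNoetherianRing_of_finite A B
  have hCmono : ∀ i, C (i + 1) ≤ C i := fun i b hb => by
    obtain ⟨h, -⟩ := (hstep i b).1 hb
    exact h
  let I : ℕ → Ideal A := fun i =>
    { carrier := {a | ∀ c ∈ C i, a • c ∈ (⊥ : Subalgebra A B)}
      add_mem' := fun {a b} ha hb c hc => by
        rw [add_smul]; exact add_mem (ha c hc) (hb c hc)
      zero_mem' := fun c _ => by rw [zero_smul]; exact zero_mem _
      smul_mem' := fun r a ha c hc => by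
        rw [smul_eq_mul, mul_smul]; exact Subalgebra.smul_mem _ (ha c hc) r }
  have hImem : ∀ i a, a ∈ I i ↔ ∀ c ∈ C i, a • c ∈ (⊥ : Subalgebra A B) := fun i a => Iff.rfl
  have hImono : Monotone I :=
    monotone_nat_of_le_succ fun i a ha c hc => ha c (hCmono i hc)
  obtain ⟨N, hN⟩ := monotone_stabilizes_iff_noetherian.2 (inferInstance : IsNoetherian A A)
    ⟨I, hImono⟩
  have hN' : ∀ m, N ≤ m → I N = I m := hN
  by_cases hTop : I N = ⊤
  · refine ⟨N, eq_bot_iff.2 fun c hc => ?_⟩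
    have h1 : (1 : A) ∈ I N := by rw [hTop]; trivial
    have := (hImem N 1).1 h1 c hc
    rwa [one_smul] at this
  exfalso
  haveI : Nontrivial (A ⧸ I N) := Ideal.Quotient.nontrivial_iff.2 hTop
  obtain ⟨p, hp⟩ := associatedPrimes.nonempty A (A ⧸ I N)
  obtain ⟨hpprime, x, hx⟩ := (isAssociatedPrime_iff).1 hp
  haveI := hpprime
  obtain ⟨a, rfl⟩ := Ideal.Quotient.mk_surjective x
  have hpa : ∀ r, r ∈ p ↔ r * a ∈ I N := by
    intro r
    have e : r • (Ideal.Quotient.mk (I N) a) = Ideal.Quotient.mk (I N) (r * a) := rfl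
    rw [hx, Submodule.mem_colon_singleton, Submodule.mem_bot, e, Ideal.Quotient.eq_zero_iff_mem]
  have hkey : ∀ x ∈ (C (N + 1)).toSubmodule,
      ∃ s ∉ p, (a * s) • x ∈ (⊥ : Subalgebra A B).toSubmodule := by
    intro x hx
    obtain ⟨hxN, hten⟩ := (hstep N x).1 ((Subalgebra.mem_toSubmodule _).1 hx)
    obtain ⟨s, hs, a', hmem⟩ := step p (⟨x, hxN⟩ : C N) hten
    refine ⟨s, hs, ?_⟩
    have haux : ∀ y ∈ (p • ⊤ : Submodule A (C N)), a • (y : B) ∈ (⊥ : Subalgebra A B) := by
      intro y hy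
      refine Submodule.smul_induction_on hy (fun r hr c _ => ?_) (fun y₁ y₂ h₁ h₂ => ?_)
      · have : a • ((r • c : C N) : B) = (r * a) • (c : B) := by
          rw [Subalgebra.coe_smul, smul_smul, mul_comm]
        rw [this]
        exact (hImem N _).1 ((hpa r).1 hr) (c : B) c.2
      · rw [Subalgebra.coe_add, smul_add]; exact add_mem h₁ h₂
    have h1 := haux _ hmem
    have h2 : (a * s) • x = a • ((s • (⟨x, hxN⟩ : C N) - algebraMap A (C N) a' : C N) : B)
        + algebraMap A B (a * a') := by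
      rw [Subalgebra.coe_sub, Subalgebra.coe_smul, Subalgebra.coe_algebraMap, smul_sub, smul_smul,
        Algebra.smul_def a (algebraMap A B a'), ← map_mul, sub_add_cancel]
    rw [h2]
    exact add_mem h1 (Subalgebra.algebraMap_mem _ _)
  have hfg : (C (N + 1)).toSubmodule.FG := IsNoetherian.noetherian _
  have hcommon : ∃ s ∉ p, ∀ x ∈ (C (N + 1)).toSubmodule,
      (a * s) • x ∈ (⊥ : Subalgebra A B).toSubmodule := by
    revert hkey
    refine Submodule.fg_induction (R := A) (M := B)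
      (motive := fun P _ => (∀ x ∈ P, ∃ s ∉ p, (a * s) • x ∈ (⊥ : Subalgebra A B).toSubmodule) →
        ∃ s ∉ p, ∀ x ∈ P, (a * s) • x ∈ (⊥ : Subalgebra A B).toSubmodule) ?_ ?_ _ hfg
    · intro x h
      obtain ⟨s, hs, hsx⟩ := h x (Submodule.mem_span_singleton_self x)
      refine ⟨s, hs, fun y hy => ?_⟩
      obtain ⟨r, rfl⟩ := Submodule.mem_span_singleton.1 hy
      rw [smul_comm]
      exact Submodule.smul_mem _ r hsx
    · intro M₁ M₂ _ _ h₁ h₂ h
      obtain ⟨s₁, hs₁, H₁⟩ := h₁ (fun x hx => h x (Submodule.mem_sup_left hx))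
      obtain ⟨s₂, hs₂, H₂⟩ := h₂ (fun x hx => h x (Submodule.mem_sup_right hx))
      refine ⟨s₁ * s₂, fun hmem => (hpprime.mem_or_mem hmem).elim hs₁ hs₂, fun x hx => ?_⟩
      obtain ⟨x₁, hx₁, x₂, hx₂, rfl⟩ := Submodule.mem_sup.1 hx
      rw [smul_add]
      refine add_mem ?_ ?_
      · have : (a * (s₁ * s₂)) • x₁ = s₂ • ((a * s₁) • x₁) := by
          rw [smul_smul]; congr 1; ring
        rw [this]; exact Submodule.smul_mem _ _ (H₁ x₁ hx₁)
      · have : (a * (s₁ * s₂)) • x₂ = s₁ • ((a * s₂) • x₂) := by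
          rw [smul_smul]; congr 1; ring
        rw [this]; exact Submodule.smul_mem _ _ (H₂ x₂ hx₂)
  obtain ⟨s, hs, Hs⟩ := hcommon
  have hmemI : a * s ∈ I (N + 1) := (hImem (N + 1) _).2 fun c hc => Hs c hc
  rw [← hN' (N + 1) (Nat.le_succ N)] at hmemI
  exact hs ((hpa s).2 (by rwa [mul_comm] at hmemI))

end Groth.Agent.S5663
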