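import Groth.Statements.S5666
import Mathlib

set_option autoImplicit false
universe u
open CategoryTheory
open Dual

namespace Groth.Agent.S5666

open Abelian

variable {A : Type u} [CommRing A]

/-- `M` is killed by `J`. -/
def Killed (J : Ideal A) (M : ModuleCat.{u} A) : Prop := ∀ x ∈ J, ∀ m : M, x • m = 0

/-- A natural family of isomorphisms `M^r ≃ Ext^i(N, M)` on the modules killed by `J`. -/
structure NatFam (N : ModuleCat.{u} A) (J : Ideal A) (i r : ℕ) where
  θ : ∀ (M : ModuleCat.{u} A), Killed J M → ((Fin r → M) ≃ₗ[A] Ext.{u} N M i)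
  nat : ∀ (M M' : ModuleCat.{u} A) (hM : Killed J M) (hM' : Killed J M') (f : M ⟶ M')
    (v : Fin r → M),
    (θ M hM v).comp (Ext.mk₀ f) (add_zero i) = θ M' hM' (fun j => f.hom (v j))

/-- Restrict a natural family to a smaller class of modules. -/
noncomputable def NatFam.mono {N : ModuleCat.{u} A} {J' J : Ideal A} {i r : ℕ} (h : J' ≤ J)
    (F : NatFam N J' i r) : NatFam N J i r where
  θ M hM := F.θ M (fun x hx => hM x (h hx))
  nat M M' _ _ f v := F.nat M M' _ _ f v

/-- Transport along an equality of ranks. -/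
noncomputable def NatFam.cast {N : ModuleCat.{u} A} {J : Ideal A} {i r r' : ℕ} (h : r = r')
    (F : NatFam N J i r) : NatFam N J i r' := h ▸ F

/-- `R` is "cyclic with annihilator `J`": `Hom(R, M) ≃ M` by evaluation at `one`, for `M` killed
by `J`. -/
structure Gen (R : ModuleCat.{u} A) (J : Ideal A) where
  one : R
  ψ : ∀ (M : ModuleCat.{u} A), Killed J M → ((R ⟶ M) ≃ₗ[A] M)
  hψ : ∀ (M : ModuleCat.{u} A) (hM : Killed J M) (f : R ⟶ M), ψ M hM f = f.hom one

lemma Gen.symm_hom_one {R : ModuleCat.{u} A} {J : Ideal A} (G : Gen R J) (M : ModuleCat.{u} A)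
    (hM : Killed J M) (m : M) : ((G.ψ M hM).symm m).hom G.one = m := by
  rw [← G.hψ M hM]
  exact (G.ψ M hM).apply_symm_apply m

lemma Gen.symm_comp {R : ModuleCat.{u} A} {J : Ideal A} (G : Gen R J) (M M' : ModuleCat.{u} A)
    (hM : Killed J M) (hM' : Killed J M') (f : M ⟶ M') (m : M) :
    (G.ψ M hM).symm m ≫ f = (G.ψ M' hM').symm (f.hom m) := by
  apply (G.ψ M' hM').injective
  rw [LinearEquiv.apply_symm_apply, G.hψ, ModuleCat.hom_comp, LinearMap.comp_apply,
    G.symm_hom_one]

/-- The degree-zero family. -/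
noncomputable def NatFam.zero {R : ModuleCat.{u} A} {J : Ideal A} (G : Gen R J) :
    NatFam R J 0 1 where
  θ M hM := (LinearEquiv.funUnique (Fin 1) A M) ≪≫ₗ (G.ψ M hM).symm ≪≫ₗ
    (Ext.linearEquiv₀ (R := A)).symm
  nat M M' hM hM' f v := by
    show (Ext.mk₀ ((G.ψ M hM).symm (v default))).comp (Ext.mk₀ f) (add_zero 0) =
      Ext.mk₀ ((G.ψ M' hM').symm (f.hom (v default)))
    rw [Ext.mk₀_comp_mk₀, G.symm_comp M M' hM hM']

/-- The (zero) family in positive degrees for a projective module. -/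
noncomputable def NatFam.ofProjective (N : ModuleCat.{u} A) [Projective N] (J : Ideal A)
    (i : ℕ) : NatFam N J (i + 1) 0 where
  θ M _ :=
    haveI : Subsingleton (Ext.{u} N M (i + 1)) := Ext.subsingleton_of_projective N M i
    LinearEquiv.ofSubsingleton _ _
  nat _ M' _ _ _ _ :=
    haveI : Subsingleton (Ext.{u} N M' (i + 1)) := Ext.subsingleton_of_projective N M' i
    Subsingleton.elim _ _

section Splice

variable {S : ShortComplex (ModuleCat.{u} A)} (hS : S.ShortExact) {J : Ideal A}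
  (hf : ∀ (M : ModuleCat.{u} A), Killed J M → ∀ (k : ℕ) (e : Ext.{u} S.X₂ M k),
    (Ext.mk₀ S.f).comp e (zero_add k) = 0)
  (G : Gen S.X₃ J) (hR : Killed J S.X₃)
  {i a b : ℕ} (Fa : NatFam S.X₁ J i a) (Fb : NatFam S.X₂ J (i + 1) b)

include hS hf in
lemma exists_e : ∃ e : Fin b → Ext.{u} S.X₃ S.X₃ (i + 1),
    ∀ j, (Ext.mk₀ S.g).comp (e j) (zero_add _) = Fb.θ S.X₃ hR (Pi.single j G.one) := by
  have : ∀ j, ∃ e : Ext.{u} S.X₃ S.X₃ (i + 1),
      (Ext.mk₀ S.g).comp e (zero_add _) = Fb.θ S.X₃ hR (Pi.single j G.one) := fun j =>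
    Ext.contravariant_sequence_exact₂ hS S.X₃ _ (hf S.X₃ hR _ _)
  exact ⟨fun j => (this j).choose, fun j => (this j).choose_spec⟩

/-- The natural section. -/
noncomputable def sec (e : Fin b → Ext.{u} S.X₃ S.X₃ (i + 1)) (M : ModuleCat.{u} A)
    (hM : Killed J M) : (Fin b → M) →ₗ[A] Ext.{u} S.X₃ M (i + 1) :=
  ∑ j : Fin b, (Ext.bilinearCompOfLinear A S.X₃ S.X₃ M (i + 1) 0 (i + 1) (add_zero _) (e j)) ∘ₗ
    ((Ext.linearEquiv₀ (R := A)).symm.toLinearMap) ∘ₗ (G.ψ M hM).symm.toLinearMap ∘ₗ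
    (LinearMap.proj j)

lemma sec_apply (e : Fin b → Ext.{u} S.X₃ S.X₃ (i + 1)) (M : ModuleCat.{u} A)
    (hM : Killed J M) (v : Fin b → M) :
    sec G e M hM v =
      ∑ j, (e j).comp (Ext.mk₀ ((G.ψ M hM).symm (v j))) (add_zero _) := by
  unfold sec
  rw [LinearMap.sum_apply]
  exact Finset.sum_congr rfl (fun j _ => rfl)

lemma g_comp_sec (e : Fin b → Ext.{u} S.X₃ S.X₃ (i + 1))
    (he : ∀ j, (Ext.mk₀ S.g).comp (e j) (zero_add _) = Fb.θ S.X₃ hR (Pi.single j G.one))
    (M : ModuleCat.{u} A) (hM : Killed J M) (v : Fin b → M) :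
    (Ext.mk₀ S.g).comp (sec G e M hM v) (zero_add _) = Fb.θ M hM v := by
  rw [sec_apply, Ext.comp_sum]
  have key : ∀ j, (Ext.mk₀ S.g).comp ((e j).comp (Ext.mk₀ ((G.ψ M hM).symm (v j)))
      (add_zero _)) (zero_add _) = Fb.θ M hM (Pi.single j (v j)) := by
    intro j
    rw [← Ext.comp_assoc (Ext.mk₀ S.g) (e j) (Ext.mk₀ _) (zero_add _) (add_zero _) (by omega),
      he j, Fb.nat S.X₃ M hR hM]
    congr 1
    funext k
    by_cases hk : k = j
    · subst hk
      simp [G.symm_hom_one]
    · simp [Pi.single_eq_of_ne hk]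
  simp_rw [key]
  rw [← map_sum]
  congr 1
  exact Finset.univ_sum_single v

/-- The comparison map. -/
noncomputable def Φ (e : Fin b → Ext.{u} S.X₃ S.X₃ (i + 1)) (M : ModuleCat.{u} A)
    (hM : Killed J M) : (Fin (a + b) → M) →ₗ[A] Ext.{u} S.X₃ M (i + 1) :=
  (Ext.precompOfLinear hS.extClass A M (add_comm 1 i)) ∘ₗ (Fa.θ M hM).toLinearMap ∘ₗ
    (LinearMap.funLeft A M (Fin.castAdd b))
  + (sec G e M hM) ∘ₗ (LinearMap.funLeft A M (Fin.natAdd a))

lemma Φ_apply (e : Fin b → Ext.{u} S.X₃ S.X₃ (i + 1)) (M : ModuleCat.{u} A)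
    (hM : Killed J M) (w : Fin (a + b) → M) :
    Φ hS G Fa e M hM w =
      hS.extClass.comp (Fa.θ M hM (fun k => w (Fin.castAdd b k))) (add_comm 1 i) +
        sec G e M hM (fun k => w (Fin.natAdd a k)) := rfl

include hf in
lemma Φ_bijective (e : Fin b → Ext.{u} S.X₃ S.X₃ (i + 1))
    (he : ∀ j, (Ext.mk₀ S.g).comp (e j) (zero_add _) = Fb.θ S.X₃ hR (Pi.single j G.one))
    (M : ModuleCat.{u} A) (hM : Killed J M) :
    Function.Bijective (Φ hS G Fa e M hM) := by
  have hβΦ : ∀ w, (Ext.mk₀ S.g).comp (Φ hS G Fa e M hM w) (zero_add _) =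
      Fb.θ M hM (fun k => w (Fin.natAdd a k)) := by
    intro w
    rw [Φ_apply, Ext.comp_add, hS.comp_extClass_assoc, zero_add,
      g_comp_sec G hR Fb e he M hM]
  constructor
  · rw [injective_iff_map_eq_zero]
    intro w hw
    have h1 : (fun k => w (Fin.natAdd a k)) = 0 := by
      have := hβΦ w
      rw [hw, Ext.comp_zero] at this
      exact (Fb.θ M hM).map_eq_zero_iff.mp this.symm
    have h2 : hS.extClass.comp (Fa.θ M hM (fun k => w (Fin.castAdd b k))) (add_comm 1 i) = 0 := by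
      have := Φ_apply hS G Fa e M hM w
      rw [h1, map_zero, add_zero] at this
      rw [← this, hw]
    obtain ⟨x₂, hx₂⟩ := Ext.contravariant_sequence_exact₁ hS M _ (add_comm 1 i) h2
    rw [hf M hM] at hx₂
    have h3 : (fun k => w (Fin.castAdd b k)) = 0 :=
      (Fa.θ M hM).map_eq_zero_iff.mp hx₂.symm
    funext k
    exact Fin.addCases (motive := fun k => w k = (0 : Fin (a + b) → M) k)
      (fun k => congrFun h3 k) (fun k => congrFun h1 k) k
  · intro y
    set v := (Fb.θ M hM).symm ((Ext.mk₀ S.g).comp y (zero_add _)) with hv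
    have hy : (Ext.mk₀ S.g).comp (y + -(sec G e M hM v)) (zero_add _) = 0 := by
      rw [Ext.comp_add, Ext.comp_neg, g_comp_sec G hR Fb e he M hM, hv,
        LinearEquiv.apply_symm_apply, add_neg_cancel]
    obtain ⟨x₁, hx₁⟩ := Ext.contravariant_sequence_exact₃ hS M _ hy (add_comm 1 i)
    refine ⟨Fin.append ((Fa.θ M hM).symm x₁) v, ?_⟩
    rw [Φ_apply]
    simp only [Fin.append_left, Fin.append_right]
    rw [LinearEquiv.apply_symm_apply, hx₁]
    abel

lemma Φ_nat (e : Fin b → Ext.{u} S.X₃ S.X₃ (i + 1)) (M M' : ModuleCat.{u} A)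
    (hM : Killed J M) (hM' : Killed J M') (f : M ⟶ M') (w : Fin (a + b) → M) :
    (Φ hS G Fa e M hM w).comp (Ext.mk₀ f) (add_zero _) =
      Φ hS G Fa e M' hM' (fun k => f.hom (w k)) := by
  rw [Φ_apply, Φ_apply, Ext.add_comp,
    Ext.comp_assoc _ _ _ (add_comm 1 i) (add_zero i) (by omega), Fa.nat M M' hM hM',
    sec_apply, sec_apply, Ext.sum_comp]
  congr 1
  refine Finset.sum_congr rfl (fun j _ => ?_)
  rw [Ext.comp_assoc _ _ _ (add_zero _) (add_zero 0) (by omega), Ext.mk₀_comp_mk₀,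
    G.symm_comp M M' hM hM']

include hS hf G hR Fa Fb in
lemma splice_nonempty : Nonempty (NatFam S.X₃ J (i + 1) (a + b)) := by
  obtain ⟨e, he⟩ := exists_e hS hf G hR Fb
  exact ⟨{
    θ := fun M hM => LinearEquiv.ofBijective (Φ hS G Fa e M hM)
      (Φ_bijective hS hf G hR Fa Fb e he M hM)
    nat := fun M M' hM hM' f w => Φ_nat hS G Fa e M M' hM hM' f w }⟩

end Splice

section Quot

variable (J : Ideal A)

lemma killed_quot : Killed J (ModuleCat.of A (A ⧸ J)) := by
  intro x hx m
  obtain ⟨a, rfl⟩ := Submodule.Quotient.mk_surjective J (m : A ⧸ J)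
  rw [← Submodule.Quotient.mk_smul, Submodule.Quotient.mk_eq_zero]
  exact J.mul_mem_right a hx

/-- `A ⧸ J` is cyclic with annihilator `J`. -/
noncomputable def genQuot : Gen (ModuleCat.of A (A ⧸ J)) J where
  one := (Submodule.Quotient.mk 1 : A ⧸ J)
  ψ M hM := LinearEquiv.ofBijective
    { toFun := fun f => f.hom (Submodule.Quotient.mk 1 : A ⧸ J)
      map_add' := fun f g => by rw [ModuleCat.hom_add]; rfl
      map_smul' := fun c f => by rw [ModuleCat.hom_smul]; rfl }
    (by
      constructor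
      · intro f g hfg
        apply ModuleCat.hom_ext
        apply Submodule.linearMap_qext
        apply LinearMap.ext_ring
        exact hfg
      · intro m
        have hker : J ≤ LinearMap.ker (LinearMap.toSpanSingleton A M m) := by
          intro a ha
          rw [LinearMap.mem_ker, LinearMap.toSpanSingleton_apply]
          exact hM a ha m
        refine ⟨ModuleCat.ofHom (J.liftQ (LinearMap.toSpanSingleton A M m) hker), ?_⟩
        show (J.liftQ (LinearMap.toSpanSingleton A M m) hker) (Submodule.Quotient.mk 1) = m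
        rw [Submodule.liftQ_apply, LinearMap.toSpanSingleton_apply, one_smul])
  hψ M hM f := rfl

variable (x : A)

/-- The short complex `A/J --x--> A/J --> A/(J + (x))`. -/
noncomputable def sesS : ShortComplex (ModuleCat.{u} A) :=
  ShortComplex.mk (X₁ := ModuleCat.of A (A ⧸ J)) (X₂ := ModuleCat.of A (A ⧸ J))
    (X₃ := ModuleCat.of A (A ⧸ (J ⊔ Ideal.span {x})))
    (x • 𝟙 _) (ModuleCat.ofHom (Submodule.factor le_sup_left)) (by
      apply ModuleCat.hom_ext
      apply LinearMap.ext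
      intro n
      obtain ⟨a, rfl⟩ := Submodule.Quotient.mk_surjective J (n : A ⧸ J)
      show Submodule.factor le_sup_left (x • (Submodule.Quotient.mk a : A ⧸ J)) = 0
      rw [← Submodule.Quotient.mk_smul]
      show (Submodule.Quotient.mk (x • a) : A ⧸ (J ⊔ Ideal.span {x})) = 0
      rw [Submodule.Quotient.mk_eq_zero]
      exact Ideal.mem_sup_right (Ideal.mul_mem_right a _ (Ideal.mem_span_singleton_self x)))

lemma sesS_shortExact (hx : ∀ a : A, x * a ∈ J → a ∈ J) : (sesS J x).ShortExact := by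
  have hmono : Mono (sesS J x).f := by
    rw [ModuleCat.mono_iff_injective, injective_iff_map_eq_zero]
    intro n hn
    obtain ⟨a, rfl⟩ := Submodule.Quotient.mk_surjective J (n : A ⧸ J)
    have hn' : x • (Submodule.Quotient.mk a : A ⧸ J) = 0 := hn
    rw [← Submodule.Quotient.mk_smul, Submodule.Quotient.mk_eq_zero] at hn'
    exact (Submodule.Quotient.mk_eq_zero _).mpr (hx a hn')
  have hepi : Epi (sesS J x).g := by
    rw [ModuleCat.epi_iff_surjective]
    intro n
    obtain ⟨a, rfl⟩ := Submodule.Quotient.mk_surjective _ (n : A ⧸ (J ⊔ Ideal.span {x}))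
    exact ⟨(Submodule.Quotient.mk a : A ⧸ J), rfl⟩
  refine ShortComplex.ShortExact.mk' ?_ hmono hepi
  rw [ShortComplex.ShortExact.moduleCat_exact_iff_function_exact]
  intro n
  constructor
  · intro h
    obtain ⟨a, rfl⟩ := Submodule.Quotient.mk_surjective J (n : A ⧸ J)
    have ha : a ∈ J ⊔ Ideal.span {x} := (Submodule.Quotient.mk_eq_zero _).mp h
    obtain ⟨j, hj, c, hc, rfl⟩ := Submodule.mem_sup.mp ha
    obtain ⟨d, rfl⟩ := Ideal.mem_span_singleton'.mp hc
    refine ⟨(Submodule.Quotient.mk d : A ⧸ J), ?_⟩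
    show x • (Submodule.Quotient.mk d : A ⧸ J) = Submodule.Quotient.mk (j + d * x)
    rw [← Submodule.Quotient.mk_smul, Submodule.Quotient.eq]
    have : x • d - (j + d * x) = -j := by rw [smul_eq_mul]; ring
    rw [this]
    exact J.neg_mem hj
  · rintro ⟨m, rfl⟩
    have := congrArg (fun φ => φ.hom m) (sesS J x).zero
    exact this

lemma smul_id_comp_eq_zero {N M : ModuleCat.{u} A} (x : A) (hM : ∀ m : M, x • m = 0) (k : ℕ)
    (e : Ext.{u} N M k) : (Ext.mk₀ (x • 𝟙 N)).comp e (zero_add k) = 0 := by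
  rw [Ext.mk₀_smul, Ext.smul_comp, Ext.mk₀_id_comp, Ext.smul_eq_comp_mk₀]
  have : x • 𝟙 M = 0 := by
    apply ModuleCat.hom_ext
    apply LinearMap.ext
    intro m
    show x • m = 0
    exact hM m
  rw [this, Ext.mk₀_zero, Ext.comp_zero]

lemma sesS_hf (M : ModuleCat.{u} A) (hM : Killed (J ⊔ Ideal.span {x}) M) (k : ℕ)
    (e : Ext.{u} (sesS J x).X₂ M k) : (Ext.mk₀ (sesS J x).f).comp e (zero_add k) = 0 :=
  smul_id_comp_eq_zero (N := ModuleCat.of A (A ⧸ J)) x
    (fun m => hM x (Ideal.mem_sup_right (Ideal.mem_span_singleton_self x)) m) k e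

end Quot

theorem main (xs : List A) (hreg : RingTheory.Sequence.IsWeaklyRegular A xs) :
    ∀ (J : Ideal A), J = Ideal.ofList xs → ∀ i,
      Nonempty (NatFam (ModuleCat.of A (A ⧸ J)) J i (xs.length.choose i)) := by
  induction xs using List.reverseRecOn with
  | nil =>
    intro J hJ i
    have hbot : J = ⊥ := by rw [hJ, Ideal.ofList_nil]
    subst hbot
    have : Projective (ModuleCat.of A (A ⧸ (⊥ : Ideal A))) := by
      rw [← IsProjective.iff_projective]
      exact Module.Projective.of_equiv (Submodule.quotEquivOfEqBot (⊥ : Ideal A) rfl).symm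
    cases i with
    | zero => exact ⟨(NatFam.zero (genQuot ⊥)).cast (by simp)⟩
    | succ i => exact ⟨(NatFam.ofProjective _ ⊥ i).cast (by simp)⟩
  | append_singleton ys x ih =>
    intro J hJ i
    rw [RingTheory.Sequence.isWeaklyRegular_append_iff,
      RingTheory.Sequence.isWeaklyRegular_singleton_iff] at hreg
    obtain ⟨hys, hxreg⟩ := hreg
    have hJ' : J = Ideal.ofList ys ⊔ Ideal.span {x} := by
      rw [hJ, Ideal.ofList_append, Ideal.ofList_singleton]
    subst hJ'
    have IH := ih hys (Ideal.ofList ys) rfl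
    have hx : ∀ a : A, x * a ∈ Ideal.ofList ys → a ∈ Ideal.ofList ys := by
      intro a ha
      have h0 : x • (Submodule.Quotient.mk a :
          A ⧸ (Ideal.ofList ys • ⊤ : Submodule A A)) = x • 0 := by
        rw [smul_zero, ← Submodule.Quotient.mk_smul, Submodule.Quotient.mk_eq_zero,
          Ideal.smul_eq_mul, Ideal.mul_top]
        exact ha
      have := hxreg h0
      rw [Submodule.Quotient.mk_eq_zero, Ideal.smul_eq_mul, Ideal.mul_top] at this
      exact this
    cases i with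
    | zero => exact ⟨(NatFam.zero (genQuot _)).cast (by simp)⟩
    | succ i =>
      obtain ⟨Fa⟩ := IH i
      obtain ⟨Fb⟩ := IH (i + 1)
      have hle : Ideal.ofList ys ≤ Ideal.ofList ys ⊔ Ideal.span {x} := le_sup_left
      obtain ⟨F⟩ := splice_nonempty (sesS_shortExact _ x hx) (sesS_hf _ x) (genQuot _)
        (killed_quot _) (Fa.mono hle) (Fb.mono hle)
      exact ⟨F.cast (by
        rw [List.length_append, List.length_singleton, Nat.choose_succ_succ'])⟩

/-- All degrees, for a module killed by `J`: let `A` be a commutative ring, `xs = (x_1, …, x_p)` a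
sequence in `A` such that each `x_i` is a non-zero-divisor on `A/(x_1, …, x_{i-1})`, `J` the ideal
generated by the `x_i`, and `M` an `A`-module with `JM = 0`. Then for every `i`, `Ext^i_A(A/J, M)`
is isomorphic as an `A`-module to `M^(p choose i)` (so it vanishes for `i > p`). (Existence of an
`A`-linear isomorphism only; the published one is `Ext^i_A(A/J, M) ≅ Hom_A(Λ^i(J/J^2), M)` with
`J/J^2` free of rank `p` over `A/J`.) -/
theorem result (A : Type u) [CommRing A] (xs : List A) (hreg : RingTheory.Sequence.IsWeaklyRegular A xs) (M : Type u) [AddCommGroup M] [Module A M] (hJM : Ideal.ofList xs • (⊤ : Submodule A M) = ⊥) (i : ℕ) : Nonempty (Abelian.Ext (ModuleCat.of A (A ⧸ Ideal.ofList xs)) (ModuleCat.of A M) i ≃ₗ[A] (Fin (xs.length.choose i) → M)) := by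
  obtain ⟨F⟩ := main xs hreg (Ideal.ofList xs) rfl i
  have hM : Killed (Ideal.ofList xs) (ModuleCat.of A M) := by
    intro x hx m
    have : x • m ∈ Ideal.ofList xs • (⊤ : Submodule A M) :=
      Submodule.smul_mem_smul hx Submodule.mem_top
    rw [hJM] at this
    exact (Submodule.mem_bot A).mp this
  exact ⟨(F.θ (ModuleCat.of A M) hM).symm⟩

end Groth.Agent.S5666
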