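import Groth.Statements.S5670
import Mathlib
import Groth.Agent.H68.SecBC

set_option autoImplicit false
universe u
open Pi1

namespace Groth.Agent.S5670


open CategoryTheory CategoryTheory.Limits AlgebraicGeometry in
/-- Let `f : X → Y` be a proper morphism of Noetherian schemes such that `O_Y → f_* O_X` is an
isomorphism (bijective on sections over every open of `Y`). Then for every connected finite étale
`Y'` over `Y`, the base change `X ×_Y Y'` is connected; equivalently, `f` induces a surjection on
étale fundamental groups. -/
theorem result {X Y Y' : Scheme.{u}} (f : X ⟶ Y) [IsProper f] [IsNoetherian X] [IsNoetherian Y] (hf : ∀ U : Y.Opens, Function.Bijective (f.app U)) (g : Y' ⟶ Y) [IsFinite g] [Etale g] [ConnectedSpace Y'] : ConnectedSpace ↥(pullback f g) := by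
  have hbij : Function.Bijective (pullback.snd f g).appTop.hom :=
    Groth.Agent.H68.SecBC.appTop_bijective (IsPullback.of_hasPullback f g) (fun U => hf U)
  have hlift := Groth.Agent.H68.SecBC.clopen_lift_of_appTop_bijective (pullback.snd f g) hbij
  haveI hne : Nonempty ↥(pullback f g) := by
    by_contra hne
    rw [not_nonempty_iff] at hne
    have h1 := hlift.1 ∅ isClopen_empty (by ext y; exact (hne.false y).elim)
    have h2 : (Set.univ : Set Y').Nonempty := Set.univ_nonempty
    rw [← h1] at h2
    exact Set.not_nonempty_empty h2
  haveI hpre : PreconnectedSpace ↥(pullback f g) := by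
    rw [preconnectedSpace_iff_clopen]
    intro T' hT'
    obtain ⟨T, hT, rfl⟩ := hlift.2 T' hT'
    rcases isClopen_iff.mp hT with h | h
    · left; rw [h]; rfl
    · right; rw [h]; rfl
  exact { toPreconnectedSpace := hpre, toNonempty := hne }

end Groth.Agent.S5670
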