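import Groth.Statements.S5683
-- import your own Groth.Agent.* helpers here
import Groth.Agent.H8.UnitFLF
import Groth.Agent.H8.InvRestrict

set_option autoImplicit false
universe u
open CategoryTheory CategoryTheory.Limits AlgebraicGeometry
open FGA

namespace Groth.Agent.S5683

/-- Let f : X ⟶ S be a morphism of schemes such that for every open U of S the induced map from sections
of the structure sheaf of S over U to sections of the structure sheaf of X over the inverse image of
U is bijective. If L is an invertible module on S whose pullback to X is isomorphic to the structure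
sheaf of X, then L is isomorphic to the structure sheaf of S: pullback of invertible modules along f
is injective on isomorphism classes. This is exactness at Pic(S). -/
theorem result {X S : Scheme.{u}} (f : X ⟶ S)
    (hf : ∀ U : S.Opens, Function.Bijective (f.app U)) (L : S.Modules) (hL : PicF.IsInvertible L)
    (htriv : Nonempty ((Scheme.Modules.pullback f).obj L ≅ Coh.structureModule X)) :
    Nonempty (L ≅ Coh.structureModule S) := by
  obtain ⟨θ⟩ := htriv
  let α : (Scheme.Modules.pullback f).obj L ≅
      (Scheme.Modules.pullback f).obj (Coh.structureModule S) :=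
    θ ≪≫ (Groth.Agent.H22.PullGen.pullbackUnitIso f).symm
  have hO : FlatMod.IsFinLocFree (Coh.structureModule S) :=
    Groth.Agent.H8.isFinLocFree_of_isInvertible (Groth.Agent.H8.isInvertible_structureModule S)
  have hL' : FlatMod.IsFinLocFree L := Groth.Agent.H8.isFinLocFree_of_isInvertible hL
  obtain ⟨ψ, hψ⟩ := (Groth.Agent.H8.UnitFLF.pullback_map_bijective f hf L
    (Coh.structureModule S) hO).2 α.hom
  obtain ⟨ψ', hψ'⟩ := (Groth.Agent.H8.UnitFLF.pullback_map_bijective f hf
    (Coh.structureModule S) L hL').2 α.inv
  have h1 : ψ ≫ ψ' = 𝟙 L := by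
    apply (Groth.Agent.H8.UnitFLF.pullback_map_bijective f hf L L hL').1
    show (Scheme.Modules.pullback f).map (ψ ≫ ψ') = (Scheme.Modules.pullback f).map (𝟙 L)
    have e1 : (Scheme.Modules.pullback f).map ψ = α.hom := hψ
    have e2 : (Scheme.Modules.pullback f).map ψ' = α.inv := hψ'
    rw [CategoryTheory.Functor.map_comp, e1, e2, Iso.hom_inv_id, CategoryTheory.Functor.map_id]
  have h2 : ψ' ≫ ψ = 𝟙 (Coh.structureModule S) := by
    apply (Groth.Agent.H8.UnitFLF.pullback_map_bijective f hf (Coh.structureModule S)
      (Coh.structureModule S) hO).1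
    show (Scheme.Modules.pullback f).map (ψ' ≫ ψ) =
      (Scheme.Modules.pullback f).map (𝟙 (Coh.structureModule S))
    have e1 : (Scheme.Modules.pullback f).map ψ = α.hom := hψ
    have e2 : (Scheme.Modules.pullback f).map ψ' = α.inv := hψ'
    rw [CategoryTheory.Functor.map_comp, e1, e2, Iso.inv_hom_id, CategoryTheory.Functor.map_id]
  exact ⟨⟨ψ, ψ', h1, h2⟩⟩

end Groth.Agent.S5683
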