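import Groth.Statements.S5684
-- import your own Groth.Agent.* helpers here
import Groth.Agent.H8.FlatBCStruct

set_option autoImplicit false
universe u
open CategoryTheory CategoryTheory.Limits AlgebraicGeometry
open FGA

namespace Groth.Agent.S5684

/-- Let f : X ⟶ S be quasi-compact and separated with the induced maps from sections of the structure
sheaf of S to sections of the structure sheaf of X bijective over every open of S, and let g : S' ⟶
S be flat, surjective and quasi-compact. If L is an invertible module on X whose pullback to X ×_S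
S' is isomorphic to the pullback along the second projection of some invertible module on S', then L
is isomorphic to the pullback along f of some invertible module on S. -/
theorem result {X S S' : Scheme.{u}} (f : X ⟶ S)
    [QuasiCompact f] [IsSeparated f] (hf : ∀ U : S.Opens, Function.Bijective (f.app U))
    (g : S' ⟶ S) [Flat g] [Surjective g] [QuasiCompact g]
    (L : X.Modules) (hL : PicF.IsInvertible L)
    (hdesc : ∃ N' : S'.Modules, PicF.IsInvertible N' ∧
      Nonempty ((Scheme.Modules.pullback (pullback.fst f g)).obj L ≅ (Scheme.Modules.pullback (pullback.snd f g)).obj N')) :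
    ∃ N : S.Modules, PicF.IsInvertible N ∧ Nonempty (L ≅ (Scheme.Modules.pullback f).obj N) := by
  classical
  have h : IsPullback (pullback.fst f g) (pullback.snd f g) f g := IsPullback.of_hasPullback f g
  obtain ⟨N', hN', ⟨ed⟩⟩ := hdesc
  have hf' := Groth.Agent.H8.app_bijective_of_flat_baseChange h hf
  haveI hLq : L.IsQuasicoherent := Groth.Agent.H8.isQuasicoherent_of_isFinLocFree L
    (Groth.Agent.H8.isFinLocFree_of_isInvertible hL)
  haveI : ((Scheme.Modules.pushforward f).obj L).IsQuasicoherent :=
    Groth.Agent.H8.isQuasicoherent_pushforward f L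
  have hN'f := Groth.Agent.H8.isFinLocFree_of_isInvertible hN'
  -- Claim 1
  haveI := Groth.Agent.H8.FlatBC.isIso_uMap_of_flat h L
  haveI := Groth.Agent.H8.UnitFLF.isIso_unit_of_isFinLocFree (pullback.snd f g) hf' N' hN'f
  let e : (Scheme.Modules.pullback g).obj ((Scheme.Modules.pushforward f).obj L) ≅ N' :=
    asIso (Groth.Agent.H8.AffBC.uMap f g (pullback.fst f g) (pullback.snd f g) h.w L) ≪≫
      (Scheme.Modules.pushforward (pullback.snd f g)).mapIso ed ≪≫
      (asIso ((Scheme.Modules.pullbackPushforwardAdjunction (pullback.snd f g)).unit.app N')).symm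
  have hN : PicF.IsInvertible ((Scheme.Modules.pushforward f).obj L) :=
    Groth.Agent.H8.isInvertible_of_pullback_iso _ hN' e
  refine ⟨(Scheme.Modules.pushforward f).obj L, hN, ?_⟩
  -- Claim 2
  have hu := Groth.Agent.H8.UnitFLF.isIso_unit_of_isFinLocFree f hf _
    (Groth.Agent.H8.isFinLocFree_of_isInvertible hN)
  have h1 := Groth.Agent.H8.isIso_pushforward_counit L hu
  haveI : ((Scheme.Modules.pushforward f ⋙ Scheme.Modules.pullback f).obj L).IsQuasicoherent :=
    Groth.Agent.H8.isQuasicoherent_pullback f _
  haveI : ((𝟭 X.Modules).obj L).IsQuasicoherent := hLq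
  have h2 := Groth.Agent.H8.isIso_pushforward_pullback_map h _ h1
  let e₁ : (Scheme.Modules.pullback (pullback.fst f g)).obj ((Scheme.Modules.pullback f).obj
      ((Scheme.Modules.pushforward f).obj L)) ≅ (Scheme.Modules.pullback (pullback.snd f g)).obj N' :=
    (Scheme.Modules.pullbackComp (pullback.fst f g) f).app _ ≪≫
      (Scheme.Modules.pullbackCongr h.w).app _ ≪≫
      ((Scheme.Modules.pullbackComp (pullback.snd f g) g).app _).symm ≪≫
      (Scheme.Modules.pullback (pullback.snd f g)).mapIso e
  have h3 := Groth.Agent.H8.isIso_of_isIso_pushforward_of_pullback_iso (pullback.snd f g) hf'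
    hN'f hN'f e₁ ed _ h2
  have h4 := Groth.Agent.H8.isIso_of_isIso_pullback_map (pullback.fst f g) _ h3
  exact ⟨(asIso ((Scheme.Modules.pullbackPushforwardAdjunction f).counit.app L)).symm⟩

end Groth.Agent.S5684
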