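import Groth.Statements.S5690
import Groth.Agent.H49.GQ9

set_option autoImplicit false
universe u
open CategoryTheory CategoryTheory.Limits AlgebraicGeometry
open FGA

namespace Groth.Agent.S5690


/-- Let (U, R, s, t, c) be a groupoid scheme over a scheme S whose source morphism s : R ⟶ U is finite
locally free (finite, flat and locally of finite presentation), and suppose every equivalence class
t(s⁻¹(x)), x a point of U, is contained in some affine open of U. Then there are a scheme Y and a
morphism q : U ⟶ Y with s ≫ q = t ≫ q which is a coequalizer of s and t in the category of schemes,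
affine, integral and surjective, whose fibres are the equivalence classes; and if (t, s) : R ⟶ U ×_S
U is a monomorphism then q is moreover finite, flat and locally of finite presentation and (t, s) :
R ⟶ U ×_Y U is an isomorphism. Only the sufficiency of the affine-class condition is stated (the
published statement is an equivalence: the quotient with these properties exists if and only if
every class lies in an affine open). -/
theorem result {S : Scheme.{u}} (G : Grpd.GroupoidScheme S)
    [IsFinite G.s] [Flat G.s] [LocallyOfFinitePresentation G.s]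
    (haff : ∀ x : ↥G.U, ∃ V : G.U.Opens, IsAffineOpen V ∧ G.t.base '' (G.s.base ⁻¹' {x}) ⊆ (V : Set ↥G.U)) :
    ∃ (Y : Scheme.{u}) (q : G.U ⟶ Y) (w : G.s ≫ q = G.t ≫ q),
      Nonempty (IsColimit (Cofork.ofπ q w)) ∧ IsAffineHom q ∧ IsIntegralHom q ∧ Surjective q ∧
      (∀ x x' : ↥G.U, q.base x = q.base x' ↔ ∃ r : ↥G.R, G.s.base r = x ∧ G.t.base r = x') ∧
      (Mono G.j → IsFinite q ∧ Flat q ∧ LocallyOfFinitePresentation q ∧
        IsIso (pullback.lift G.t G.s w.symm : G.R ⟶ pullback q q)) := by
  have hT := Groth.Agent.H49.GQ7.goodFamily_top haff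
  haveI := Groth.Agent.H49.GQ9.epi_q hT
  refine ⟨Groth.Agent.H49.GQ6.Y G, Groth.Agent.H49.GQ7.q hT, Groth.Agent.H49.GQ7.s_q_eq_t_q hT,
    ⟨?_⟩, Groth.Agent.H49.GQ7.isAffineHom_q hT, Groth.Agent.H49.GQ7.isIntegralHom_q hT,
    Groth.Agent.H49.GQ7.surjective_q hT, fun x x' => Groth.Agent.H49.GQ7.q_eq_iff hT x x',
    fun hmono => ?_⟩
  · exact Cofork.IsColimit.mk _
      (fun c => (Groth.Agent.H49.GQ9.exists_desc hT c.π c.condition).choose)
      (fun c => (Groth.Agent.H49.GQ9.exists_desc hT c.π c.condition).choose_spec)
      (fun c m hm => by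
        rw [← cancel_epi (Groth.Agent.H49.GQ7.q hT)]
        exact hm.trans (Groth.Agent.H49.GQ9.exists_desc hT c.π c.condition).choose_spec.symm)
  · haveI := hmono
    exact ⟨Groth.Agent.H49.GQ8.isFinite_q hT, Groth.Agent.H49.GQ8.flat_q hT,
      Groth.Agent.H49.GQ8.lfp_q hT, Groth.Agent.H49.GQ8.isIso_lift hT⟩

end Groth.Agent.S5690
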