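import Groth.Statements.S5691
import Mathlib

set_option autoImplicit false
universe u
open CategoryTheory CategoryTheory.Limits
open FGA

namespace Groth.Agent.S5691


section aux

variable {C : Type u} [SmallCategory C] [HasFiniteLimits C] (F : C ⥤ Type u) [PreservesFiniteLimits F]

theorem exists_equalizer_point {X Y : C} (f g : X ⟶ Y) (x : F.obj X)
    (h : F.map f x = F.map g x) :
    ∃ e : F.obj (equalizer f g), F.map (equalizer.ι f g) e = x := by
  let φ : F.obj (equalizer f g) ≃ { x : F.obj X // F.map f x = F.map g x } :=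
    (PreservesEqualizer.iso F f g ≪≫
      Types.equalizerIso (F.map f) (F.map g)).toEquiv
  refine ⟨φ.symm ⟨x, h⟩, ?_⟩
  simp only [φ]
  change ((Types.equalizerIso _ _).inv ≫ _ ≫ F.map (equalizer.ι f g)) _ = _
  erw [PreservesEqualizer.iso_inv_ι, Types.equalizerIso_inv_comp_ι]
  rfl

theorem exists_prod_point (A B : C) (a : F.obj A) (b : F.obj B) :
    ∃ p : F.obj (A ⨯ B), F.map prod.fst p = a ∧ F.map prod.snd p = b := by
  let φ : F.obj (A ⨯ B) ≃ F.obj A × F.obj B :=
    (PreservesLimitPair.iso F A B ≪≫
      Types.binaryProductIso (F.obj A) (F.obj B)).toEquiv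
  refine ⟨φ.symm (a, b), ?_, ?_⟩
  · simp only [φ]
    change ((Types.binaryProductIso _ _).inv ≫ _ ≫ F.map prod.fst) _ = _
    erw [PreservesLimitPair.iso_inv_fst, Types.binaryProductIso_inv_comp_fst]
    rfl
  · simp only [φ]
    change ((Types.binaryProductIso _ _).inv ≫ _ ≫ F.map prod.snd) _ = _
    erw [PreservesLimitPair.iso_inv_snd, Types.binaryProductIso_inv_comp_snd]
    rfl

theorem nonempty_terminal_point : Nonempty (F.obj (⊤_ C)) := by
  have h : IsTerminal (F.obj (⊤_ C)) := IsTerminal.isTerminalObj F _ terminalIsTerminal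
  exact ⟨(Types.isTerminalEquivUnique _ h).default⟩

/-- An element `(X, x)` of `F` is minimal if `x` does not come from a proper subobject of `X`. -/
def IsMinimal (p : F.Elements) : Prop :=
  ∀ (W : C) (m : W ⟶ p.1) [Mono m] (w : F.obj W), F.map m w = p.2 → IsIso m

variable {F}

/-- Two morphisms out of a minimal element that agree on the point are equal. -/
theorem IsMinimal.hom_ext {p : F.Elements} (hp : IsMinimal F p) {Z : C} (f g : p.1 ⟶ Z)
    (h : F.map f p.2 = F.map g p.2) : f = g := by
  obtain ⟨e, he⟩ := exists_equalizer_point F f g p.2 h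
  have : IsIso (equalizer.ι f g) := hp _ (equalizer.ι f g) e he
  exact eq_of_epi_equalizer

variable (F)

/-- Every element is dominated by a minimal one (artinian hypothesis). -/
theorem exists_minimal (hart : ∀ X : C, IsArtinianObject X) (Z : C) (z : F.obj Z) :
    ∃ (p : F.Elements) (_ : IsMinimal F p) (m : p.1 ⟶ Z), Mono m ∧ F.map m p.2 = z := by
  have := hart Z
  let S : Set (Subobject Z) := {Y | ∃ y : F.obj (Y : C), F.map Y.arrow y = z}
  have hS : S.Nonempty := by
    refine ⟨⊤, ?_⟩
    have : IsIso (⊤ : Subobject Z).arrow := inferInstance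
    refine ⟨F.map (inv (⊤ : Subobject Z).arrow) z, ?_⟩
    rw [← types_comp_apply (F.map _) (F.map _), ← F.map_comp, IsIso.inv_hom_id, F.map_id]
    rfl
  obtain ⟨Y₀, ⟨y₀, hy₀⟩, hmin⟩ := (wellFounded_lt (α := Subobject Z)).has_min S hS
  refine ⟨⟨(Y₀ : C), y₀⟩, ?_, Y₀.arrow, inferInstance, hy₀⟩
  intro W m _ w hw
  have hmem : Subobject.mk (m ≫ Y₀.arrow) ∈ S := by
    refine ⟨F.map (Subobject.underlyingIso (m ≫ Y₀.arrow)).inv w, ?_⟩
    rw [← types_comp_apply (F.map _) (F.map _), ← F.map_comp, Subobject.underlyingIso_arrow,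
      F.map_comp, types_comp_apply, hw, hy₀]
  have hle : Subobject.mk (m ≫ Y₀.arrow) ≤ Y₀ := Subobject.mk_le_of_comm m rfl
  have heq : Subobject.mk (m ≫ Y₀.arrow) = Y₀ := eq_of_le_of_not_lt hle (hmin _ hmem)
  let u : (Y₀ : C) ⟶ W := Subobject.ofLEMk Y₀ (m ≫ Y₀.arrow) heq.ge
  have hu : u ≫ m ≫ Y₀.arrow = Y₀.arrow := Subobject.ofLEMk_comp _
  have hum : u ≫ m = 𝟙 _ := by
    rw [← cancel_mono Y₀.arrow, Category.assoc, hu, Category.id_comp]
  have hmu : m ≫ u = 𝟙 _ := by
    rw [← cancel_mono m, Category.assoc, hum, Category.comp_id, Category.id_comp]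
  exact ⟨u, hmu, hum⟩

end aux


/-- Let C be a small category with finite limits all of whose objects are artinian (the subobjects of
each object satisfy the descending chain condition), and let F be a set-valued functor on C
preserving finite limits. Then F is strictly pro-representable: there are a small cofiltered
category J and a diagram D : J ⥤ C all of whose transition morphisms are epimorphisms such that F is
isomorphic to the colimit of the corepresentable functors Hom(D j, -). -/
theorem result {C : Type u} [SmallCategory C]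
    [HasFiniteLimits C] (hart : ∀ X : C, IsArtinianObject X) (F : C ⥤ Type u) [PreservesFiniteLimits F] :
    ∃ (J : Type u) (_ : SmallCategory J) (_ : IsCofiltered J) (D : J ⥤ C),
      (∀ ⦃j j' : J⦄ (a : j ⟶ j'), Epi (D.map a)) ∧ Nonempty (F ≅ colimit (D.op ⋙ coyoneda)) := by
  let P : ObjectProperty F.Elements := IsMinimal F
  let J := P.FullSubcategory
  let D : J ⥤ C := P.ι ⋙ CategoryOfElements.π F
  have hDmap : ∀ {j j' : J} (a : j ⟶ j'), D.map a = a.hom.val := fun a => rfl
  have hne : Nonempty J := by
    obtain ⟨t⟩ := nonempty_terminal_point F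
    obtain ⟨p, hp, m, _, _⟩ := exists_minimal F hart _ t
    exact ⟨⟨p, hp⟩⟩
  have hext : ∀ {X Y : J} (f g : X ⟶ Y), f = g := by
    intro X Y f g
    apply ObjectProperty.hom_ext
    apply CategoryOfElements.ext
    exact IsMinimal.hom_ext X.property _ _ (f.hom.property.trans g.hom.property.symm)
  have hcofe : IsCofilteredOrEmpty J := by
    refine ⟨?_, ?_⟩
    · intro X Y
      obtain ⟨q, hq1, hq2⟩ := exists_prod_point F X.obj.1 Y.obj.1 X.obj.2 Y.obj.2
      obtain ⟨p, hp, m, _, hm⟩ := exists_minimal F hart _ q
      refine ⟨⟨p, hp⟩, ObjectProperty.homMk ⟨m ≫ prod.fst, ?_⟩,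
        ObjectProperty.homMk ⟨m ≫ prod.snd, ?_⟩, trivial⟩
      · rw [F.map_comp, types_comp_apply, hm, hq1]
      · rw [F.map_comp, types_comp_apply, hm, hq2]
    · intro X Y f g
      exact ⟨X, 𝟙 X, hext _ _⟩
  have hcof : IsCofiltered J := { }
  have key : ∀ (k i j : J) (a : k ⟶ i) (b : k ⟶ j) (Z : C) (f : i.obj.1 ⟶ Z) (g : j.obj.1 ⟶ Z),
      F.map f i.obj.2 = F.map g j.obj.2 → a.hom.val ≫ f = b.hom.val ≫ g := by
    intro k i j a b Z f g hfg
    apply IsMinimal.hom_ext k.property
    have ha : F.map a.hom.val k.obj.2 = i.obj.2 := a.hom.property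
    have hb : F.map b.hom.val k.obj.2 = j.obj.2 := b.hom.property
    rw [F.map_comp, F.map_comp, types_comp_apply, types_comp_apply, ha, hb, hfg]
  refine ⟨J, inferInstance, hcof, D, ?_, ?_⟩
  · intro j j' a
    constructor
    intro W u v huv
    apply IsMinimal.hom_ext j'.property
    have ha : F.map (D.map a) j.obj.2 = j'.obj.2 := a.hom.property
    have h1 : F.map (D.map a ≫ u) j.obj.2 = F.map (D.map a ≫ v) j.obj.2 := by rw [huv]
    rw [F.map_comp, F.map_comp, types_comp_apply, types_comp_apply, ha] at h1
    exact h1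
  · -- the cocone with point `F`
    let c : Cocone (D.op ⋙ coyoneda) :=
      { pt := F
        ι :=
          { app := fun j => { app := fun Z => TypeCat.ofHom fun f => F.map f j.unop.obj.2
                              naturality := by
                                intro Z Z' g
                                ext f
                                simp }
            naturality := by
              intro j j' a
              ext Z f
              have ha : F.map (D.map a.unop) j'.unop.obj.2 = j.unop.obj.2 := a.unop.hom.property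
              simp [← ha] } }
    have hc : IsColimit c := by
      apply evaluationJointlyReflectsColimits
      intro Z
      refine Types.FilteredColimit.isColimitOf _ _ ?_ ?_
      · intro z
        obtain ⟨p, hp, m, _, hm⟩ := exists_minimal F hart Z z
        exact ⟨Opposite.op ⟨p, hp⟩, m, hm.symm⟩
      · intro i j f g hfg
        obtain ⟨k, a, b, -⟩ := IsCofilteredOrEmpty.cone_objs i.unop j.unop
        refine ⟨Opposite.op k, a.op, b.op, ?_⟩
        exact key k i.unop j.unop a b Z f g hfg
    exact ⟨hc.coconePointUniqueUpToIso (colimit.isColimit _)⟩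

end Groth.Agent.S5691
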