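import Groth.Statements.S8874
import Groth.Agent.H17.FittSheaf
import Groth.Agent.H8.QCohStalk
import Groth.Agent.H8.UnitHom
import Groth.Agent.H8.IsoCover
import Groth.Agent.S17860
import Groth.Agent.S4407

set_option autoImplicit false
universe u
open CategoryTheory CategoryTheory.Limits AlgebraicGeometry TopologicalSpace
open SDiv

namespace Groth.Agent.S8874

open Groth.Agent.H8 Groth.Agent.H34.Fit Groth.Agent.H17.FittSheaf
open Groth.Agent.S17860 (eq_sum_freeι app_unit unitOne toO restrictO restrictSec smul_restrictSec)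

set_option linter.style.haveILetI false

section Algebra

/-- Spanning sets transport between two models of a localization. -/
theorem exists_span_of_isLocalizedModule {R : Type*} [CommRing R] (T : Submonoid R)
    {A₁ A₂ : Type*} [CommRing A₁] [CommRing A₂] [Algebra R A₁] [Algebra R A₂]
    [IsLocalization T A₁] [IsLocalization T A₂]
    {M M₁ M₂ : Type*} [AddCommGroup M] [AddCommGroup M₁] [AddCommGroup M₂]
    [Module R M] [Module R M₁] [Module R M₂]
    [Module A₁ M₁] [Module A₂ M₂] [IsScalarTower R A₁ M₁] [IsScalarTower R A₂ M₂]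
    (g₁ : M →ₗ[R] M₁) (g₂ : M →ₗ[R] M₂) [IsLocalizedModule T g₁] [IsLocalizedModule T g₂]
    {n : ℕ} (x : Fin n → M₁) (hx : Submodule.span A₁ (Set.range x) = ⊤) :
    ∃ y : Fin n → M₂, Submodule.span A₂ (Set.range y) = ⊤ := by
  let e : M₁ ≃ₗ[R] M₂ := IsLocalizedModule.linearEquiv T g₁ g₂
  refine ⟨fun i => e (x i), ?_⟩
  rw [eq_top_iff]
  rintro m₂ -
  have key : ∀ m₁ : M₁, m₁ ∈ Submodule.span A₁ (Set.range x) →
      e m₁ ∈ Submodule.span A₂ (Set.range fun i => e (x i)) := by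
    intro m₁ hm₁
    induction hm₁ using Submodule.span_induction with
    | mem z hz =>
      obtain ⟨i, rfl⟩ := hz
      exact Submodule.subset_span ⟨i, rfl⟩
    | zero => rw [map_zero]; exact Submodule.zero_mem _
    | add a b _ _ ha hb => rw [map_add]; exact Submodule.add_mem _ ha hb
    | smul a m _ hm =>
      obtain ⟨r, s, rfl⟩ := IsLocalization.exists_mk'_eq T a
      have h1 : (s : R) • (IsLocalization.mk' A₁ r s • m) = r • m := by
        rw [← algebraMap_smul A₁ (s : R), smul_smul, IsLocalization.mk'_spec', algebraMap_smul]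
      have h2 : (s : R) • e (IsLocalization.mk' A₁ r s • m) = r • e m := by
        rw [← map_smul, h1, map_smul]
      have hunit : IsUnit (algebraMap R A₂ s) := IsLocalization.map_units A₂ s
      have h3 : algebraMap R A₂ s • e (IsLocalization.mk' A₁ r s • m) ∈
          Submodule.span A₂ (Set.range fun i => e (x i)) := by
        rw [algebraMap_smul, h2, ← algebraMap_smul A₂ r]
        exact Submodule.smul_mem _ _ hm
      have h4 := Submodule.smul_mem _ ((hunit.unit⁻¹ : A₂ˣ) : A₂) h3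
      rwa [smul_smul, IsUnit.val_inv_mul, one_smul] at h4
  have := key (e.symm m₂) (by rw [hx]; trivial)
  rwa [LinearEquiv.apply_symm_apply] at this

end Algebra

section Sheaf

open CategoryTheory.Limits Opposite

/-- If `F|_U` is a quotient of `O_U^r`, the stalk of `F` at each point of `U` is generated by `r`
elements. -/
lemma exists_stalk_generators {S : Scheme.{u}} (F : S.Modules) (U : S.Opens) (r : ℕ)
    (π : FlatMod.freeMod (↑U) r ⟶ F.restrict U.ι) [Epi π] (s : S) (hsU : s ∈ U) :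
    ∃ x : Fin r → F.presheaf.stalk s,
      Submodule.span (S.presheaf.stalk s) (Set.range x) = ⊤ := by
  classical
  let y : (↑U : Scheme.{u}) := ⟨s, hsU⟩
  obtain ⟨ψ, hψ⟩ : ∃ ψ : Fin r → (Coh.structureModule (↑U : Scheme.{u}) ⟶ F.restrict U.ι),
      ψ = fun j => Groth.Agent.S17860.freeι (↑U) r j ≫ π := ⟨_, rfl⟩
  obtain ⟨σ, hσ⟩ : ∃ σ : Fin r → Γ(F, U.ι ''ᵁ ⊤), σ = fun j =>
      (ψ j).app ⊤ (unitOne (↑U : Scheme.{u}) ⊤) := ⟨_, rfl⟩
  have hsU' : s ∈ U.ι ''ᵁ ⊤ := ⟨y, trivial, rfl⟩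
  refine ⟨fun j => F.presheaf.germ (U.ι ''ᵁ ⊤) s hsU' (σ j), ?_⟩
  rw [eq_top_iff]
  rintro t -
  obtain ⟨W0, hsW0, t0, rfl⟩ := TopCat.Presheaf.exists_germ_eq F.presheaf t
  have hle : U.ι ''ᵁ (U.ι ⁻¹ᵁ W0) ≤ W0 := by
    rintro _ ⟨z, hz, rfl⟩
    exact hz
  have hyW : y ∈ U.ι ⁻¹ᵁ W0 := hsW0
  obtain ⟨V, hV, z, hyV, hz⟩ := Groth.Agent.H53.modules_epi_locally_surjective π (U.ι ⁻¹ᵁ W0)
    (show Γ(F.restrict U.ι, U.ι ⁻¹ᵁ W0) from F.presheaf.map (homOfLE hle).op t0) y hyW
  have hsV : s ∈ U.ι ''ᵁ V := ⟨y, hyV, rfl⟩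
  have hsum : π.app V z =
      ∑ j, (ψ j).app V ((Groth.Agent.S17860.freeπ (↑U) r j).app V z) := by
    conv_lhs => rw [eq_sum_freeι r V z]
    rw [map_sum, hψ]
    rfl
  have hgermL : F.presheaf.germ (U.ι ''ᵁ V) s hsV (restrictSec U F V (π.app V z)) =
      F.presheaf.germ W0 s hsW0 t0 := by
    rw [hz]
    show F.presheaf.germ (U.ι ''ᵁ V) s hsV
      (F.presheaf.map (homOfLE (U.ι.image_mono hV)).op (F.presheaf.map (homOfLE hle).op t0)) = _
    rw [TopCat.Presheaf.germ_res_apply, TopCat.Presheaf.germ_res_apply]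
  rw [← hgermL, hsum]
  have hsplit : restrictSec U F V (∑ j, (ψ j).app V ((Groth.Agent.S17860.freeπ (↑U) r j).app V z)) =
      ∑ j, restrictSec U F V ((ψ j).app V ((Groth.Agent.S17860.freeπ (↑U) r j).app V z)) := rfl
  rw [hsplit, map_sum]
  refine Submodule.sum_mem _ (fun j _ => ?_)
  rw [app_unit, smul_restrictSec, germ_smul]
  refine Submodule.smul_mem _ _ ?_
  have h5 : F.presheaf.germ (U.ι ''ᵁ V) s hsV (restrictSec U F V
      ((F.restrict U.ι).presheaf.map (homOfLE (le_top : V ≤ ⊤)).op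
        ((ψ j).app ⊤ (unitOne (↑U : Scheme.{u}) ⊤)))) =
      F.presheaf.germ (U.ι ''ᵁ ⊤) s hsU' (σ j) := by
    rw [hσ]
    exact TopCat.Presheaf.germ_res_apply F.presheaf
      (homOfLE (U.ι.image_mono (le_top : V ≤ ⊤))) s hsV _
  rw [h5]
  exact Submodule.subset_span ⟨j, rfl⟩

/-- If the sections of the quasi-coherent `F` over the affine open `U` are generated by `r`
elements, then `F|_U` is a quotient of `O_U^r`. -/
lemma exists_epi_of_span {S : Scheme.{u}} (F : S.Modules) [F.IsQuasicoherent] (U : S.Opens)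
    (hU : IsAffineOpen U) (r : ℕ) (σ : Fin r → Γ(F, U.ι ''ᵁ ⊤))
    (hσ : Submodule.span Γ(S, U.ι ''ᵁ ⊤) (Set.range σ) = ⊤) :
    ∃ π : FlatMod.freeMod (↑U) r ⟶ F.restrict U.ι, Epi π := by
  classical
  haveI : IsAffine (↑U : Scheme.{u}) := hU
  haveI : (F.restrict U.ι).IsQuasicoherent :=
    Scheme.Modules.isQuasicoherent_restrictFunctor U.ι F
  have hψ : ∀ j, ∃ ψ : Coh.structureModule (↑U : Scheme.{u}) ⟶ F.restrict U.ι,
      ψ.app ⊤ (show Γ(Coh.structureModule (↑U : Scheme.{u}), ⊤) from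
        (1 : Γ((↑U : Scheme.{u}), ⊤))) = (show Γ(F.restrict U.ι, ⊤) from σ j) :=
    fun j => (unit_hom_ev_bijective (↑U : Scheme.{u}) (F.restrict U.ι)).2 _
  choose ψ hψ using hψ
  obtain ⟨π, hπ⟩ : ∃ π : FlatMod.freeMod (↑U) r ⟶ F.restrict U.ι,
      ∀ j, Groth.Agent.S17860.freeι (↑U) r j ≫ π = ψ j :=
    ⟨Sigma.desc ψ, fun j => Sigma.ι_desc _ _⟩
  refine ⟨π, ?_⟩
  apply Groth.Agent.S4407.epi_of_locally
  intro W t y hyW
  obtain ⟨_, ⟨_, ⟨a, rfl⟩, rfl⟩, hya, haW⟩ :=
    (isBasis_basicOpen (↑U : Scheme.{u})).exists_subset_of_mem_open hyW W.2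
  have haW' : (↑U : Scheme.{u}).basicOpen a ≤ W := haW
  refine ⟨(↑U : Scheme.{u}).basicOpen a, haW', hya, ?_⟩
  obtain ⟨n, x, hx⟩ := exists_smul_eq_res (isAffineOpen_top (↑U : Scheme.{u})) (F.restrict U.ι) a
    ((F.restrict U.ι).presheaf.map (homOfLE haW').op t)
  have hxspan : (show Γ(F, U.ι ''ᵁ ⊤) from x) ∈
      Submodule.span Γ(S, U.ι ''ᵁ ⊤) (Set.range σ) := by
    rw [hσ]
    trivial
  obtain ⟨c, hc⟩ := (Submodule.mem_span_range_iff_exists_fun _).mp hxspan
  obtain ⟨z, hz⟩ : ∃ z : Γ(FlatMod.freeMod (↑U) r, ⊤), z = ∑ j,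
      (Groth.Agent.S17860.freeι (↑U) r j).app ⊤
        (show Γ(Coh.structureModule (↑U : Scheme.{u}), ⊤) from
          (show Γ((↑U : Scheme.{u}), ⊤) from c j)) := ⟨_, rfl⟩
  have hπz : π.app ⊤ z = x := by
    rw [hz, map_sum]
    have hterm : ∀ j, π.app ⊤ ((Groth.Agent.S17860.freeι (↑U) r j).app ⊤
        (show Γ(Coh.structureModule (↑U : Scheme.{u}), ⊤) from
          (show Γ((↑U : Scheme.{u}), ⊤) from c j))) =
        (show Γ(F.restrict U.ι, ⊤) from c j • σ j) := by
      intro j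
      have h1 : π.app ⊤ ((Groth.Agent.S17860.freeι (↑U) r j).app ⊤
          (show Γ(Coh.structureModule (↑U : Scheme.{u}), ⊤) from
            (show Γ((↑U : Scheme.{u}), ⊤) from c j))) =
          (ψ j).app ⊤ (show Γ(Coh.structureModule (↑U : Scheme.{u}), ⊤) from
            (show Γ((↑U : Scheme.{u}), ⊤) from c j)) := by
        rw [← hπ j]
        rfl
      rw [h1]
      have h2 : (show Γ(Coh.structureModule (↑U : Scheme.{u}), ⊤) from
            (show Γ((↑U : Scheme.{u}), ⊤) from c j)) =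
          (show Γ((↑U : Scheme.{u}), ⊤) from c j) •
            (show Γ(Coh.structureModule (↑U : Scheme.{u}), ⊤) from
              (1 : Γ((↑U : Scheme.{u}), ⊤))) := by
        change (show Γ((↑U : Scheme.{u}), ⊤) from c j) =
          (show Γ((↑U : Scheme.{u}), ⊤) from c j) * 1
        rw [mul_one]
      rw [h2, Scheme.Modules.Hom.app_smul, hψ j]
      exact smul_restrict_ι F ⊤ (c j) (σ j)
    rw [Finset.sum_congr rfl (fun j _ => hterm j)]
    exact hc
  have hu : IsUnit ((↑U : Scheme.{u}).presheaf.map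
      (homOfLE ((↑U : Scheme.{u}).basicOpen_le a)).op a) :=
    (↑U : Scheme.{u}).toRingedSpace.isUnit_res_basicOpen a
  obtain ⟨v, hv⟩ := hu.pow n
  refine ⟨((v⁻¹ : (Γ((↑U : Scheme.{u}), (↑U : Scheme.{u}).basicOpen a))ˣ) :
      Γ((↑U : Scheme.{u}), (↑U : Scheme.{u}).basicOpen a)) •
      (FlatMod.freeMod (↑U) r).presheaf.map
        (homOfLE ((↑U : Scheme.{u}).basicOpen_le a)).op z, ?_⟩
  rw [Scheme.Modules.Hom.app_smul, app_res, hπz, ← hx, ← hv, ← mul_smul, Units.inv_mul, one_smul]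

end Sheaf

/-- Let S be a scheme, F a quasi-coherent O_S-module of finite type, s a point of S and r a natural
number. Then F can be generated by r sections over some open neighbourhood of s if and only if the
r-th Fitting ideal of F is the unit ideal at s, i.e. s does not lie in the closed subset cut out by
Fit_r(F). -/
theorem result (S : Scheme.{u}) (F : S.Modules) (hF : Coh.IsQCoh F) (hft : CohB1.IsFT F)
    (s : ↥S) (r : ℕ) :
    (∃ U : S.Opens, s ∈ U ∧ ∃ π : FlatMod.freeMod (↑U) r ⟶ F.restrict U.ι, Epi π) ↔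
      s ∉ (Fitt.sheafIdeal F r).support := by
  classical
  haveI : F.IsQuasicoherent := hF
  haveI : SheafOfModules.IsFiniteType (R := S.ringCatSheaf) F := hft
  obtain ⟨_, ⟨V, hV, rfl⟩, hsV, -⟩ := S.isBasis_affineOpens.exists_subset_of_mem_open
    (Set.mem_univ s) isOpen_univ
  replace hV : IsAffineOpen V := hV
  haveI := finite_sections_of_isAffineOpen F hV
  have hsupp : s ∈ (Fitt.sheafIdeal F r).support ↔
      Fitt.ideal Γ(S, V) Γ(F, V) r ≤ (hV.primeIdealOf ⟨s, hsV⟩).asIdeal := by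
    rw [Scheme.IdealSheafData.mem_support_iff_of_mem (U := ⟨V, hV⟩) hsV, sheafIdeal_ideal,
      Scheme.mem_zeroLocus_iff]
    constructor
    · intro h f hf
      by_contra hfp
      exact h f hf ((mem_basicOpen_iff_notMem_primeIdealOf hV s hsV f).mpr hfp)
    · intro h f hf hxf
      exact (mem_basicOpen_iff_notMem_primeIdealOf hV s hsV f).mp hxf (h hf)
  rw [hsupp]
  constructor
  · rintro ⟨U, hsU, π, hπ⟩ hle
    obtain ⟨x, hx⟩ := exists_stalk_generators F U r π s hsU
    letI := S.presheaf.algebra_section_stalk ⟨s, hsV⟩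
    haveI := hV.isLocalization_stalk ⟨s, hsV⟩
    letI := moduleSectionStalk F s hsV
    haveI := isScalarTower_sectionStalk F s hsV
    haveI := isLocalizedModule_germₗ F hV s hsV
    have h1 := fittIdeal_of_isLocalizedModule (hV.primeIdealOf ⟨s, hsV⟩).asIdeal.primeCompl
      (S.presheaf.stalk s) (germₗ F s hsV) r
    rw [fittIdeal_eq_top_of_span x hx] at h1
    have h2 : (Fitt.ideal Γ(S, V) Γ(F, V) r).map (algebraMap Γ(S, V) (S.presheaf.stalk s)) ≤
        IsLocalRing.maximalIdeal (S.presheaf.stalk s) := by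
      refine (Ideal.map_mono hle).trans ?_
      rw [IsLocalization.AtPrime.map_eq_maximalIdeal]
    rw [← h1] at h2
    exact (IsLocalRing.maximalIdeal.isMaximal _).ne_top (top_le_iff.mp h2)
  · intro hnle
    obtain ⟨f, hf, g, hg⟩ :=
      (not_fittIdeal_le_iff_exists_away r (hV.primeIdealOf ⟨s, hsV⟩).asIdeal).mp hnle
    refine ⟨S.basicOpen f, (mem_basicOpen_iff_notMem_primeIdealOf hV s hsV f).mpr hf, ?_⟩
    have key : ∀ (U' : S.Opens) (_ : U' = S.basicOpen f), ∃ σ : Fin r → Γ(F, U'),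
        Submodule.span Γ(S, U') (Set.range σ) = ⊤ := by
      intro U' h
      subst h
      letI := moduleSectionBasicOpen F f
      haveI : IsScalarTower Γ(S, V) Γ(S, S.basicOpen f) Γ(F, S.basicOpen f) :=
        IsScalarTower.of_algebraMap_smul fun _ _ => rfl
      haveI := isLocalizedModule_resBasicOpenₗ hV F f
      haveI : IsLocalization (Submonoid.powers f) Γ(S, S.basicOpen f) :=
        hV.isLocalization_basicOpen f
      exact exists_span_of_isLocalizedModule (Submonoid.powers f)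
        (LocalizedModule.mkLinearMap (Submonoid.powers f) Γ(F, V)) (resBasicOpenₗ F f) g hg
    obtain ⟨σ, hσ⟩ := key ((S.basicOpen f).ι ''ᵁ ⊤) (Scheme.Opens.ι_image_top _)
    exact exists_epi_of_span F (S.basicOpen f) (hV.basicOpen f) r σ hσ

end Groth.Agent.S8874
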