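import Groth.Statements.S5692
-- import your own Groth.Agent.* helpers here
import Groth.Agent.S8872
import Groth.Agent.S8874
import Groth.Agent.S8875
import Groth.Agent.H8.PullbackFinType

set_option autoImplicit false
universe u
open CategoryTheory CategoryTheory.Limits AlgebraicGeometry
open FGA

namespace Groth.Agent.S5692

/-- Let S be a locally Noetherian scheme, M a coherent module on S and r a natural number. Then there is
an immersion e : Z ⟶ S with the following universal property: for every scheme T and every morphism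
g : T ⟶ S, the pullback of M along g is locally free of rank r if and only if g factors through e.
If moreover M is generated by r sections on a neighbourhood of every point of S (equivalently all
fibres of M have rank at most r), then e is a closed immersion. -/
theorem result (S : Scheme.{u}) [IsLocallyNoetherian S]
    (M : S.Modules) (hM : Coh.IsCoh M) (r : ℕ) :
    ∃ (Z : Scheme.{u}) (e : Z ⟶ S), IsImmersion e ∧
      (∀ (T : Scheme.{u}) (g : T ⟶ S),
        FlatMod.IsFinLocFreeOfRank r ((Scheme.Modules.pullback g).obj M) ↔ ∃ g' : T ⟶ Z, g' ≫ e = g) ∧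
      ((∀ s : ↥S, ∃ U : S.Opens, s ∈ U ∧ ∃ p : FlatMod.freeMod (↑U) r ⟶ M.restrict U.ι, Epi p) →
        IsClosedImmersion e) := by
  classical
  obtain ⟨hMq, hMft⟩ := hM
  have hmono : ∀ {T : Scheme.{u}} (G : T.Modules) {a b : ℕ}, a ≤ b →
      Fitt.sheafIdeal G a ≤ Fitt.sheafIdeal G b := by
    intro T G a b hab
    refine Scheme.IdealSheafData.ofIdeals_mono ?_
    intro U
    refine Ideal.span_mono ?_
    rintro d ⟨n, x, A, hx, hrel, hd⟩
    exact ⟨n, x, A, hx, fun i hi => hrel i (by omega), hd⟩
  -- the closed subscheme cut out by the Fitting ideals of index < r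
  let I : S.IdealSheafData := ⨆ k : Fin r, Fitt.sheafIdeal M (k : ℕ)
  let U : S.Opens := ⟨((Fitt.sheafIdeal M r).support : Set S)ᶜ, (Fitt.sheafIdeal M r).support.isClosed.isOpen_compl⟩
  let V : I.subscheme.Opens := I.subschemeι ⁻¹ᵁ U
  refine ⟨V, V.ι ≫ I.subschemeι, inferInstance, ?_, ?_⟩
  · intro T f
    haveI : M.IsQuasicoherent := hMq
    haveI : SheafOfModules.IsFiniteType (R := S.ringCatSheaf) M := hMft
    have hq : Coh.IsQCoh ((Scheme.Modules.pullback f).obj M) :=
      Groth.Agent.H8.isQuasicoherent_pullback f M
    have hft : CohB1.IsFT ((Scheme.Modules.pullback f).obj M) :=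
      Groth.Agent.H8.isFiniteType_pullback f M
    rw [Groth.Agent.S8875.result T _ hq hft r]
    have hcomap : ∀ k, Fitt.sheafIdeal ((Scheme.Modules.pullback f).obj M) k =
        (Fitt.sheafIdeal M k).comap f := fun k =>
      (Groth.Agent.S8872.result f M hMq hMft k).symm
    have hbot : ∀ k, (Fitt.sheafIdeal M k).comap f = ⊥ ↔ Fitt.sheafIdeal M k ≤ f.ker := by
      intro k
      rw [← Scheme.IdealSheafData.map_bot, Scheme.IdealSheafData.le_map_iff_comap_le, le_bot_iff]
    have htop : ∀ k, (Fitt.sheafIdeal M k).comap f = ⊤ ↔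
        ∀ t : T, f t ∉ ((Fitt.sheafIdeal M k).support : Set S) := by
      intro k
      rw [← Scheme.IdealSheafData.support_eq_bot_iff, Scheme.IdealSheafData.support_comap,
        SetLike.ext'_iff]
      simp only [TopologicalSpace.Closeds.coe_preimage, TopologicalSpace.Closeds.coe_bot,
        Set.eq_empty_iff_forall_notMem, Set.mem_preimage]
    constructor
    · rintro ⟨h1, h2⟩
      have hI : I.subschemeι.ker ≤ f.ker := by
        rw [I.ker_subschemeι]
        refine iSup_le fun k => ?_
        rw [← hbot, ← hcomap]
        exact h1 k k.2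
      let g₁ : T ⟶ I.subscheme := IsClosedImmersion.lift I.subschemeι f hI
      have hg₁ : g₁ ≫ I.subschemeι = f := IsClosedImmersion.lift_fac _ _ _
      have hr := (htop r).mp (by rw [← hcomap]; exact h2 r le_rfl)
      have hrange : Set.range g₁.base ⊆ Set.range V.ι.base := by
        rw [Scheme.Opens.range_ι]
        rintro _ ⟨t, rfl⟩
        show I.subschemeι (g₁ t) ∈ U
        have : I.subschemeι (g₁ t) = f t := by
          rw [← hg₁]; rfl
        rw [this]
        exact hr t
      refine ⟨IsOpenImmersion.lift V.ι g₁ hrange, ?_⟩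
      rw [← Category.assoc, IsOpenImmersion.lift_fac, hg₁]
    · rintro ⟨g, rfl⟩
      refine ⟨fun k hk => ?_, fun k hk => ?_⟩
      · rw [hcomap, hbot]
        have h1 : Fitt.sheafIdeal M k ≤ I := le_iSup (fun k : Fin r => Fitt.sheafIdeal M (k : ℕ)) ⟨k, hk⟩
        have h2 : I ≤ (g ≫ V.ι ≫ I.subschemeι).ker := by
          have := Scheme.Hom.le_ker_comp (g ≫ V.ι) I.subschemeι
          rwa [I.ker_subschemeι, Category.assoc] at this
        exact h1.trans h2
      · rw [hcomap, htop]
        intro t ht
        have h1 : ((Fitt.sheafIdeal M k).support : Set S) ⊆ ((Fitt.sheafIdeal M r).support : Set S) :=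
          Scheme.IdealSheafData.support_antitone (hmono M hk)
        have h2 : (V.ι (g t)) ∈ V := (g t).2
        exact h2 (h1 ht)
  · intro hgen
    have hVtop : V = ⊤ := by
      apply le_antisymm le_top
      intro z _
      show I.subschemeι z ∉ ((Fitt.sheafIdeal M r).support : Set S)
      exact (Groth.Agent.S8874.result S M hMq hMft (I.subschemeι z) r).mp (hgen _)
    have key : ∀ W : I.subscheme.Opens, W = ⊤ → IsClosedImmersion (W.ι ≫ I.subschemeι) := by
      rintro _ rfl
      haveI : IsIso (⊤ : I.subscheme.Opens).ι := I.subscheme.topIso.isIso_hom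
      infer_instance
    exact key V hVtop

end Groth.Agent.S5692
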