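import Groth.Statements.S5705
import Groth.Agent.H97.Azumaya
import Mathlib

set_option autoImplicit false
set_option linter.style.haveILetI false
universe u v
open TensorProduct
open Dix

namespace Groth.Agent.S5705

open Groth.Agent.H97 MulOpposite

/-- over a local ring, a faithful finite projective algebra admits a linear retraction of `R → A` -/
lemma exists_retraction (R : Type*) [CommRing R] [IsLocalRing R] (A : Type*) [Ring A] [Algebra R A]
    [Module.Finite R A] [Module.Projective R A] [FaithfulSMul R A] :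
    ∃ t : A →ₗ[R] R, t 1 = 1 := by
  haveI : Module.FaithfullyFlat R A := faithfullyFlat_of_finite_flat_faithful A
  let k := IsLocalRing.ResidueField R
  haveI : Nontrivial (k ⊗[R] A) := inferInstance
  have h1 : (1 : k ⊗[R] A) ≠ 0 := one_ne_zero
  obtain ⟨tbar, htbar⟩ := LinearMap.exists_leftInverse_of_injective
    (LinearMap.toSpanSingleton k (k ⊗[R] A) 1) (LinearMap.ker_toSpanSingleton k h1)
  have htbar1 : tbar 1 = 1 := by
    have := LinearMap.congr_fun htbar 1
    simpa using this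
  let τ : A →ₗ[R] k := (tbar.restrictScalars R) ∘ₗ (TensorProduct.mk R k A 1)
  have hτ1 : τ 1 = 1 := by
    change tbar ((1 : k) ⊗ₜ[R] (1 : A)) = 1
    rw [← Algebra.TensorProduct.one_def, htbar1]
  have hsurj : Function.Surjective (Algebra.linearMap R k) := IsLocalRing.residue_surjective
  obtain ⟨t0, ht0⟩ := Module.projective_lifting_property (Algebra.linearMap R k) τ hsurj
  have ht01 : IsLocalRing.residue R (t0 1) = 1 := by
    have := LinearMap.congr_fun ht0 1
    rw [hτ1] at this
    exact this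
  have hunit : IsUnit (t0 1) := by
    rw [← IsLocalRing.notMem_maximalIdeal, ← IsLocalRing.residue_eq_zero_iff, ht01]
    exact one_ne_zero
  obtain ⟨w, hw⟩ := hunit
  refine ⟨(↑w⁻¹ : R) • t0, ?_⟩
  rw [LinearMap.smul_apply, ← hw, smul_eq_mul, Units.inv_mul]

/-- Skolem–Noether for Azumaya algebras over a local ring: existence part. -/
theorem exists_inner (R : Type*) [CommRing R] [IsLocalRing R] (A : Type*) [Ring A] [Algebra R A]
    [IsAzumaya R A] (u : A ≃ₐ[R] A) : ∃ c d : A, c * d = 1 ∧ d * c = 1 ∧ ∀ a, c * a = u a * c := by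
  haveI : Module.FaithfullyFlat R A := faithfullyFlat_of_finite_flat_faithful A
  haveI : Nontrivial A := (FaithfulSMul.algebraMap_injective R A).nontrivial
  obtain ⟨t, ht1⟩ := exists_retraction R A
  -- the two identifications of `A ⊗ Aᵐᵒᵖ` with `End_R A`
  let e₁ : (A ⊗[R] Aᵐᵒᵖ) ≃ₐ[R] Module.End R A :=
    AlgEquiv.ofBijective (AlgHom.mulLeftRight R A) IsAzumaya.bij
  have he₁ : ∀ (a : A) (b : Aᵐᵒᵖ) (x : A), e₁ (a ⊗ₜ b) x = a * x * b.unop :=
    fun a b x => AlgHom.mulLeftRight_apply R A a b x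
  let U : (A ⊗[R] Aᵐᵒᵖ) ≃ₐ[R] (A ⊗[R] Aᵐᵒᵖ) :=
    Algebra.TensorProduct.congr u (AlgEquiv.refl : Aᵐᵒᵖ ≃ₐ[R] Aᵐᵒᵖ)
  have hU : ∀ (a : A) (b : Aᵐᵒᵖ), U (a ⊗ₜ b) = u a ⊗ₜ b := fun a b => rfl
  let ψ : Module.End R A ≃ₐ[R] Module.End R A := e₁.symm.trans (U.trans e₁)
  have hψ : ∀ z, ψ (e₁ z) = e₁ (U z) := by
    intro z
    simp [ψ]
  -- rank one operators
  let θ : A → Module.End R A := fun x => t.smulRight x
  have hθ : ∀ x y, θ x y = t y • x := fun x y => rfl
  have hfθ : ∀ (f : Module.End R A) x, f * θ x = θ (f x) := by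
    intro f x
    refine LinearMap.ext fun y => ?_
    rw [Module.End.mul_apply, hθ, hθ, map_smul]
  have hθadd : ∀ x y, θ (x + y) = θ x + θ y := by
    intro x y
    refine LinearMap.ext fun z => ?_
    rw [LinearMap.add_apply, hθ, hθ, hθ, smul_add]
  have hθsmul : ∀ (r : R) x, θ (r • x) = r • θ x := by
    intro r x
    refine LinearMap.ext fun z => ?_
    rw [LinearMap.smul_apply, hθ, hθ, smul_comm]
  -- the idempotent `p = ψ ε`
  let p : Module.End R A := ψ (θ 1)
  have hεε : θ 1 * θ 1 = θ (1 : A) := by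
    rw [hfθ, hθ, ht1, one_smul]
  have hpp : p * p = p := by
    change ψ (θ 1) * ψ (θ 1) = ψ (θ 1)
    rw [← map_mul, hεε]
  have hpp' : ∀ x, p (p x) = p x := fun x => LinearMap.congr_fun hpp x
  have hp0 : p ≠ 0 := by
    intro h0
    have h1 : θ (1 : A) = 0 := by
      apply ψ.injective
      rw [map_zero]
      exact h0
    have h2 := LinearMap.congr_fun h1 1
    rw [hθ, ht1, one_smul, LinearMap.zero_apply] at h2
    exact one_ne_zero h2
  -- the image of `p` is a nonzero free module
  let P : Submodule R A := LinearMap.range p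
  let pr : A →ₗ[R] P := p.codRestrict P (fun x => LinearMap.mem_range_self p x)
  have hpr : ∀ x, (pr x : A) = p x := fun x => rfl
  have hsplit : pr ∘ₗ P.subtype = LinearMap.id := by
    refine LinearMap.ext fun x => ?_
    obtain ⟨x, y, rfl⟩ := x
    apply Subtype.ext
    change p (p y) = p y
    exact hpp' y
  haveI : Module.Projective R P := Module.Projective.of_split P.subtype pr hsplit
  haveI : Module.Finite R P := Module.Finite.range p
  haveI : Module.Free R P := Module.free_of_flat_of_isLocalRing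
  let b := Module.Free.chooseBasis R P
  have hne : Nonempty (Module.Free.ChooseBasisIndex R P) := by
    by_contra hemp
    rw [not_nonempty_iff] at hemp
    apply hp0
    refine LinearMap.ext fun x => ?_
    have h3 : pr x = 0 := by
      have := b.repr.injective (a₁ := pr x) (a₂ := 0) (by ext i; exact hemp.elim i)
      exact this
    have h4 := congrArg Subtype.val h3
    rw [hpr] at h4
    exact h4
  obtain ⟨i₀⟩ := hne
  let v : A := (b i₀ : A)
  have hpv : p v = v := by
    obtain ⟨y, hy⟩ := (b i₀).2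
    change p (b i₀ : A) = (b i₀ : A)
    rw [← hy, hpp']
  let s : A →ₗ[R] R := (b.coord i₀) ∘ₗ pr
  have hsv : s v = 1 := by
    change b.coord i₀ (pr v) = 1
    have h5 : pr v = b i₀ := by
      apply Subtype.ext
      rw [hpr, hpv]
    rw [h5, Module.Basis.coord_apply, Module.Basis.repr_self, Finsupp.single_eq_same]
  -- the intertwiner
  let g : A →ₗ[R] A :=
    { toFun := fun x => ψ (θ x) v
      map_add' := fun x y => by rw [hθadd, map_add, LinearMap.add_apply]
      map_smul' := fun r x => by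
        rw [hθsmul, map_smul, LinearMap.smul_apply, RingHom.id_apply] }
  have hg : ∀ x, g x = ψ (θ x) v := fun x => rfl
  have hgf : ∀ (f : Module.End R A) x, g (f x) = ψ f (g x) := by
    intro f x
    rw [hg, hg, ← hfθ, map_mul, Module.End.mul_apply]
  have hg1 : g 1 = v := by
    rw [hg]
    exact hpv
  have hgsurj : Function.Surjective g := by
    intro y
    obtain ⟨f', hf'⟩ := ψ.surjective (s.smulRight y)
    refine ⟨f' 1, ?_⟩
    rw [hgf, hf', hg1, LinearMap.smulRight_apply, hsv, one_smul]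
  have hginj : Function.Injective g :=
    OrzechProperty.injective_of_surjective_endomorphism g hgsurj
  have hkey : ∀ (z : A ⊗[R] Aᵐᵒᵖ) (y : A), g (e₁ z y) = e₁ (U z) (g y) := by
    intro z y
    rw [hgf, hψ]
  have hR : ∀ y b', g (y * b') = g y * b' := by
    intro y b'
    have := hkey ((1 : A) ⊗ₜ[R] (op b' : Aᵐᵒᵖ)) y
    rw [hU, he₁, he₁, map_one, unop_op, one_mul, one_mul] at this
    exact this
  have hL : ∀ a y, g (a * y) = u a * g y := by
    intro a y
    have := hkey (a ⊗ₜ[R] (op 1 : Aᵐᵒᵖ)) y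
    rw [hU, he₁, he₁, unop_op, mul_one, mul_one] at this
    exact this
  have hgc : ∀ y, g y = g 1 * y := by
    intro y
    have := hR 1 y
    rw [one_mul] at this
    exact this
  obtain ⟨d, hd⟩ := hgsurj 1
  have hcd : g 1 * d = 1 := by rw [← hgc, hd]
  have hdc : d * g 1 = 1 := by
    have h6 : g (d * g 1) = g 1 := by
      rw [hgc (d * g 1), ← mul_assoc, hcd, one_mul]
    exact hginj h6
  refine ⟨g 1, d, hcd, hdc, ?_⟩
  intro a
  have h7 := hL a 1
  rw [mul_one] at h7
  rw [← hgc, h7]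

/-- Over a local base, where the Zariski-local conclusion becomes global. Let R be a local ring and A an
Azumaya algebra over R. Then every R-algebra automorphism u of A is inner, u(x) = a x a⁻¹ for some
unit a of A, and the unit a is determined up to multiplication by a unit of R. -/
theorem result (R : Type u) [CommRing R] [IsLocalRing R] (A : Type v) [Ring A] [Algebra R A] [IsAzumaya R A] (u : A ≃ₐ[R] A) : (∃ a : Aˣ, ∀ x : A, u x = (a : A) * x * (a⁻¹ : Aˣ)) ∧ (∀ a a' : Aˣ, (∀ x : A, u x = (a : A) * x * (a⁻¹ : Aˣ)) → (∀ x : A, u x = (a' : A) * x * (a'⁻¹ : Aˣ)) → ∃ c : Rˣ, (a' : A) = algebraMap R A (c : R) * (a : A)) := by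
  haveI : Module.FaithfullyFlat R A := faithfullyFlat_of_finite_flat_faithful A
  haveI : Module.Free R A := Module.free_of_flat_of_isLocalRing
  constructor
  · obtain ⟨c, d, hcd, hdc, hc⟩ := exists_inner R A u
    refine ⟨⟨c, d, hcd, hdc⟩, ?_⟩
    intro x
    change u x = c * x * d
    rw [hc, mul_assoc, hcd, mul_one]
  · intro a a' ha ha'
    -- `z = a⁻¹ a'` is central
    have hz : ∀ x : A, ((a⁻¹ * a' : Aˣ) : A) * x = x * ((a⁻¹ * a' : Aˣ) : A) := by
      intro x
      have h1 : (a : A) * x * (a⁻¹ : Aˣ) = (a' : A) * x * (a'⁻¹ : Aˣ) := by rw [← ha, ← ha']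
      have h2 : ((a⁻¹ : Aˣ) : A) * ((a : A) * x * (a⁻¹ : Aˣ)) * (a' : A) =
          ((a⁻¹ : Aˣ) : A) * ((a' : A) * x * (a'⁻¹ : Aˣ)) * (a' : A) := by rw [h1]
      have h3 : ((a⁻¹ : Aˣ) : A) * ((a : A) * x * (a⁻¹ : Aˣ)) * (a' : A) =
          x * (((a⁻¹ : Aˣ) : A) * (a' : A)) := by
        rw [← mul_assoc, ← mul_assoc, Units.inv_mul, one_mul, mul_assoc]
      have h4 : ((a⁻¹ : Aˣ) : A) * ((a' : A) * x * (a'⁻¹ : Aˣ)) * (a' : A) =
          (((a⁻¹ : Aˣ) : A) * (a' : A)) * x := by
        rw [mul_assoc, mul_assoc, Units.inv_mul, mul_one, mul_assoc]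
      rw [h3, h4] at h2
      rw [Units.val_mul]
      exact h2.symm
    have hzc : ((a⁻¹ * a' : Aˣ) : A) ∈ Subalgebra.center R A :=
      Subalgebra.mem_center_iff.2 (fun x => (hz x).symm)
    have hzc' : (((a⁻¹ * a' : Aˣ)⁻¹ : Aˣ) : A) ∈ Subalgebra.center R A := by
      rw [Subalgebra.mem_center_iff]
      intro x
      have h5 := hz ((((a⁻¹ * a' : Aˣ)⁻¹ : Aˣ) : A) * x * (((a⁻¹ * a' : Aˣ)⁻¹ : Aˣ) : A))
      rw [← mul_assoc, ← mul_assoc, Units.mul_inv, one_mul, mul_assoc, mul_assoc, Units.inv_mul,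
        mul_one] at h5
      exact h5
    rw [Algebra.IsCentral.center_eq_bot, Algebra.mem_bot] at hzc hzc'
    obtain ⟨c, hc⟩ := hzc
    obtain ⟨c', hc'⟩ := hzc'
    have hcc' : c * c' = 1 := by
      apply FaithfulSMul.algebraMap_injective R A
      rw [map_mul, hc, hc', Units.mul_inv, map_one]
    refine ⟨⟨c, c', hcc', by rw [mul_comm]; exact hcc'⟩, ?_⟩
    change (a' : A) = algebraMap R A c * (a : A)
    rw [hc, hz (a : A), Units.val_mul, ← mul_assoc, Units.mul_inv, one_mul]

end Groth.Agent.S5705
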