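import Groth.Statements.S5710
import Groth.Agent.H96.RegElt
import Groth.Agent.H96.AzumayaReg
import Groth.Agent.S5713

set_option autoImplicit false
set_option linter.style.haveILetI false
universe u v
open TensorProduct
open Dix

namespace Groth.Agent.S5710

open Polynomial Groth.Agent.H96.RegElt Groth.Agent.H96.AzumayaReg

/-- Over a local base where the open neighbourhood is the whole scheme. Let R be a local ring with
residue field k and A an Azumaya algebra over R whose rank as a (free) R-module is r². Then A has a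
maximal étale subalgebra: there are a commutative R-algebra E, finite étale and free of rank r over
R, and an R-algebra homomorphism u : E → A which is injective on the special fibre, k ⊗_R E → k ⊗_R
A. -/
theorem result (R : Type u) [CommRing R] [IsLocalRing R] (A : Type u) [Ring A] [Algebra R A] [IsAzumaya R A] (r : ℕ) (hA : Module.finrank R A = r ^ 2) : ∃ (E : Type u) (_ : CommRing E) (_ : Algebra R E), Algebra.Etale R E ∧ Module.Finite R E ∧ Module.Free R E ∧ Module.finrank R E = r ∧ ∃ u : E →ₐ[R] A, Function.Injective (u.toLinearMap.lTensor (IsLocalRing.ResidueField R)) := by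
  classical
  have hfree : Module.Free R A := Module.free_of_flat_of_isLocalRing
  set k := IsLocalRing.ResidueField R with hk
  haveI : IsAzumaya k (k ⊗[R] A) := Groth.Agent.S19588.result R k A
  haveI : IsSimpleRing (k ⊗[R] A) := Groth.Agent.H97.isSimpleRing_of_isAzumaya_field k _
  have hfin : Module.finrank k (k ⊗[R] A) = r ^ 2 := by rw [Module.finrank_baseChange, hA]
  obtain ⟨xb, hsep, hdeg⟩ := exists_regular k (k ⊗[R] A) r hfin
  -- lift `xb` to `A`
  have hlift : ∀ y : k ⊗[R] A, ∃ a : A, (1 : k) ⊗ₜ[R] a = y := by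
    intro y
    induction y using TensorProduct.induction_on with
    | zero => exact ⟨0, by simp⟩
    | tmul c a =>
      obtain ⟨c', rfl⟩ := IsLocalRing.residue_surjective c
      refine ⟨c' • a, ?_⟩
      rw [← TensorProduct.smul_tmul, Algebra.smul_def, mul_one,
        IsLocalRing.ResidueField.algebraMap_eq]
    | add y1 y2 h1 h2 =>
      obtain ⟨a1, rfl⟩ := h1
      obtain ⟨a2, rfl⟩ := h2
      exact ⟨a1 + a2, TensorProduct.tmul_add _ _ _⟩
  obtain ⟨ξ, rfl⟩ := hlift xb
  have hint : IsIntegral k ((1 : k) ⊗ₜ[R] ξ) := IsIntegral.of_finite k _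
  have hS := Groth.Agent.S5713.result R A r hA ξ
    (Subalgebra.isSeparable_iff.mpr (fun z hz => isSeparable_of_mem_adjoin _ hsep z hz))
    (by rw [finrank_adjoin_singleton _ hint, hdeg])
  obtain ⟨hli, hmem⟩ := hS
  obtain ⟨c, hc⟩ := (Submodule.mem_span_range_iff_exists_fun R).mp hmem
  -- the polynomial
  set Q : R[X] := ∑ i : Fin r, C (c i) * X ^ (i : ℕ) with hQ
  have hQdeg : Q.degree < r := degree_sum_fin_lt c
  set P : R[X] := X ^ r - Q with hPdef
  have hP : P.Monic := monic_X_pow_sub hQdeg
  have hPdeg : P.natDegree = r := by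
    apply natDegree_eq_of_degree_eq_some
    rw [hPdef, degree_sub_eq_left_of_degree_lt (by rwa [degree_X_pow]), degree_X_pow]
  have hPξ : aeval ξ P = 0 := by
    rw [hPdef, map_sub, map_pow, aeval_X, hQ, map_sum, ← hc, sub_eq_zero]
    refine (Finset.sum_congr rfl fun i _ => ?_).symm
    rw [map_mul, aeval_C, map_pow, aeval_X, Algebra.smul_def]
  -- minimal polynomial of the reduction
  have hPmap : P.map (IsLocalRing.residue R) = minpoly k ((1 : k) ⊗ₜ[R] ξ) := by
    refine eq_of_monic_of_dvd_of_natDegree_le (minpoly.monic hint) (hP.map _) ?_ ?_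
    · apply minpoly.dvd
      have h1 := Polynomial.aeval_algHom_apply
        (Algebra.TensorProduct.includeRight : A →ₐ[R] k ⊗[R] A) ξ P
      rw [hPξ, map_zero] at h1
      rw [← h1, ← IsLocalRing.ResidueField.algebraMap_eq, aeval_map_algebraMap]
      rfl
    · rw [hP.natDegree_map, hPdeg, hdeg]
  have hPsep : P.Separable := separable_of_map_residue P hP (by rw [hPmap]; exact hsep)
  -- the algebra
  let E := AdjoinRoot P
  have hEfree : Module.Free R E := hP.free_adjoinRoot
  have hEfin : Module.Finite R E := hP.finite_adjoinRoot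
  have hErk : Module.finrank R E = r := by
    rw [(AdjoinRoot.powerBasis' hP).finrank, AdjoinRoot.powerBasis'_dim, hPdeg]
  have hEet : Algebra.Etale R E := by
    obtain ⟨a, b, hab⟩ := hPsep
    let SP : StandardEtalePair R :=
      { f := P, monic_f := hP, g := 1, cond := ⟨b, a, 1, by linear_combination hab⟩ }
    have hroot : SP.HasMap (AdjoinRoot.root P) := by
      refine ⟨?_, ?_⟩
      · show aeval (AdjoinRoot.root P) P = 0
        rw [AdjoinRoot.aeval_eq, AdjoinRoot.mk_self]
      · show IsUnit (aeval (AdjoinRoot.root P) (1 : R[X]))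
        rw [map_one]; exact isUnit_one
    let φ : SP.Ring →ₐ[R] E := SP.lift (AdjoinRoot.root P) hroot
    have hX : eval₂ (Algebra.ofId R SP.Ring) SP.X P = 0 := SP.hasMap_X.1
    let ψ : E →ₐ[R] SP.Ring := AdjoinRoot.liftAlgHom P (Algebra.ofId R SP.Ring) SP.X hX
    have h1 : φ.comp ψ = AlgHom.id R E := by
      apply AdjoinRoot.algHom_ext
      show φ (ψ (AdjoinRoot.root P)) = AdjoinRoot.root P
      rw [show ψ (AdjoinRoot.root P) = SP.X from AdjoinRoot.liftAlgHom_root _ _ _ _]
      exact SP.lift_X _ hroot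
    have h2 : ψ.comp φ = AlgHom.id R SP.Ring := by
      apply SP.hom_ext
      show ψ (φ SP.X) = SP.X
      rw [show φ SP.X = AdjoinRoot.root P from SP.lift_X _ hroot]
      exact AdjoinRoot.liftAlgHom_root _ _ _ _
    exact Algebra.Etale.of_equiv (AlgEquiv.ofAlgHom φ ψ h1 h2)
  -- the map to `A`
  let u : E →ₐ[R] A := Ideal.Quotient.liftₐ (Ideal.span {P}) (aeval ξ) (by
    intro a ha
    obtain ⟨q, rfl⟩ := Ideal.mem_span_singleton.mp ha
    rw [map_mul, hPξ, zero_mul])
  have hu : u (AdjoinRoot.root P) = ξ := by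
    show Ideal.Quotient.liftₐ (Ideal.span {P}) (aeval ξ) _ (Ideal.Quotient.mk _ X) = ξ
    rw [Ideal.Quotient.liftₐ_apply, Ideal.Quotient.lift_mk]
    exact aeval_X ξ
  refine ⟨E, inferInstance, inferInstance, hEet, hEfin, hEfree, hErk, u, ?_⟩
  rw [← LinearMap.baseChange_eq_ltensor]
  let pb := AdjoinRoot.powerBasis' hP
  apply injective_of_basis_linearIndependent (Algebra.TensorProduct.basis k pb.basis)
  have key : ∀ m, m = (minpoly k ((1 : k) ⊗ₜ[R] ξ)).natDegree →
      LinearIndependent k (fun i : Fin m => ((1 : k) ⊗ₜ[R] ξ) ^ (i : ℕ)) := by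
    rintro _ rfl
    exact linearIndependent_pow _
  have hfun : (u.toLinearMap.baseChange k) ∘ (Algebra.TensorProduct.basis k pb.basis)
      = fun i : Fin pb.dim => ((1 : k) ⊗ₜ[R] ξ) ^ (i : ℕ) := by
    funext i
    rw [Function.comp_apply, Algebra.TensorProduct.basis_apply, LinearMap.baseChange_tmul,
      pb.basis_eq_pow, AlgHom.toLinearMap_apply, map_pow]
    simp only [pb, AdjoinRoot.powerBasis'_gen, hu, Algebra.TensorProduct.tmul_pow, one_pow]
  rw [hfun]
  exact key _ (by simp only [pb, AdjoinRoot.powerBasis'_dim, hPdeg, hdeg])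


end Groth.Agent.S5710
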