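import Groth.Statements.S5719
import Groth.Agent.S19588
import Groth.Agent.H97.Azumaya
import Mathlib

set_option autoImplicit false
set_option linter.style.haveILetI false
universe u v
open TensorProduct
open Dix

namespace Groth.Agent.S5719

open Groth.Agent.H97

/-- (i) ⇔ (ii), over an affine base. Let R be a commutative ring and A an R-algebra whose underlying
module is finite and projective (locally free of finite type). Then A ⊗_R A° → End_R(A) is bijective
with A faithful, i.e. A is an Azumaya algebra over R, if and only if every fibre κ(p) ⊗_R A, p a
prime ideal of R, is a central simple algebra over the residue field κ(p). -/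
theorem result (R : Type u) [CommRing R] (A : Type u) [Ring A] [Algebra R A] [Module.Finite R A] [Module.Projective R A] : IsAzumaya R A ↔ ∀ (p : Ideal R) [p.IsPrime], Algebra.IsCentral p.ResidueField (p.ResidueField ⊗[R] A) ∧ IsSimpleRing (p.ResidueField ⊗[R] A) := by
  constructor
  · intro hA p hp
    haveI : IsAzumaya p.ResidueField (p.ResidueField ⊗[R] A) :=
      Groth.Agent.S19588.result R p.ResidueField A
    exact ⟨inferInstance, isSimpleRing_of_isAzumaya_field p.ResidueField _⟩
  · intro h
    have hmax : ∀ m : Ideal R, m.IsMaximal → Nontrivial ((R ⧸ m) ⊗[R] A) ∧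
        Function.Bijective ((AlgHom.mulLeftRight R A).toLinearMap.baseChange (R ⧸ m)) := by
      intro m hm
      haveI := hm
      haveI : m.IsPrime := hm.isPrime
      obtain ⟨hc, hs⟩ := h m
      haveI := hc
      haveI := hs
      have hK : m ≤ RingHom.ker (algebraMap R m.ResidueField) := by
        rw [Ideal.ker_algebraMap_residueField]
      have hbij : Function.Bijective
          (AlgHom.mulLeftRight m.ResidueField (m.ResidueField ⊗[R] A)) :=
        mulLeftRight_bijective_of_isCentral_isSimpleRing m.ResidueField _
      have hbc := (mulLeftRight_baseChange_bijective_iff R m.ResidueField A).1 hbij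
      exact ⟨nontrivial_quotient_tensor_of_algebra m m.ResidueField hK A,
        bijective_baseChange_quotient_of_algebra m m.ResidueField hK _ hbc⟩
    obtain ⟨hfinE, hprojE⟩ := end_finite_projective R A
    haveI := hfinE
    haveI := hprojE
    have hbij : Function.Bijective (AlgHom.mulLeftRight R A) :=
      bijective_of_forall_maximal_baseChange_quotient (AlgHom.mulLeftRight R A).toLinearMap
        (fun m hm => (hmax m hm).2)
    haveI : Module.FaithfullyFlat R A :=
      faithfullyFlat_of_forall_maximal_nontrivial A (fun m hm => (hmax m hm).1)
    haveI : FaithfulSMul R A := faithfulSMul_of_faithfullyFlat A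
    exact ⟨hbij⟩

end Groth.Agent.S5719
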