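import Groth.Statements.S5725
import Groth.Agent.S5732
import Groth.Agent.H22.CounitEpi
import Groth.Agent.H41.RelTwistXf

set_option autoImplicit false
universe u
open CategoryTheory CategoryTheory.Limits AlgebraicGeometry TopologicalSpace Opposite
open scoped HomogeneousIdeal
open EGA2

namespace Groth.Agent.S5725

/-- Let q : X → Y be a quasi-compact morphism and L an invertible O_X-module. If L is very ample
relative to q (isomorphic to i^*O_{P(E)}(1) for a Y-immersion i : X → P(E) into the projective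
bundle of a quasi-coherent O_Y-module E), then the canonical morphism q^*(q_*L) → L, the counit of
the adjunction between inverse and direct image, is an epimorphism. (The published statement also
records that q_*L is quasi-coherent, which holds because q is then quasi-compact and separated, and
lists a further property, that the morphism into the projective bundle of q_*L attached to this
epimorphism is an immersion; with that property the converse holds. Those parts are not stated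
here.) -/
theorem result {X Y : Scheme.{u}} (q : X ⟶ Y) [QuasiCompact q] (L : X.Modules)
    (hL : PicF.IsInvertible L) (h : RelProj.IsRelVeryAmple q L) :
    Epi ((Scheme.Modules.pullbackPushforwardAdjunction q).counit.app L) := by
  classical
  obtain ⟨E, hE, 𝒮, j, hj, P, p, chart, hP, O1, lam, hO1, i, hi, hip, ⟨e⟩⟩ := h
  subst hip
  rw [Groth.Agent.H22.CounitEpi.epi_counit_iff]
  intro Q g hg
  let adj := Scheme.Modules.pullbackPushforwardAdjunction i
  let g' : (Scheme.Modules.pullback i).obj O1 ⟶ Q := e.inv ≫ g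
  let ψ : O1 ⟶ (Scheme.Modules.pushforward i).obj Q := adj.homEquiv O1 Q g'
  -- `ψ` kills the sections over the opens `p⁻¹(V)`
  have hrel : ∀ (V : Y.Opens) (σ : Γ(O1, p ⁻¹ᵁ V)), ψ.app (p ⁻¹ᵁ V) σ = 0 := by
    intro V σ
    have e1 : ψ = adj.unit.app O1 ≫ (Scheme.Modules.pushforward i).map g' :=
      adj.homEquiv_unit (X := O1) (Y := Q) (f := g')
    rw [e1]
    exact hg V (e.inv.app (i ⁻¹ᵁ p ⁻¹ᵁ V) ((adj.unit.app O1).app (p ⁻¹ᵁ V) σ))
  have hψ0 : ψ = 0 := by
    refine Scheme.Modules.hom_ext _ _ fun W => ?_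
    refine ConcreteCategory.hom_ext _ _ fun τ => ?_
    show ψ.app W τ = 0
    refine Groth.Agent.H8.section_eq_of_cover ((Scheme.Modules.pushforward i).obj Q) _ _
      fun x hx => ?_
    obtain ⟨U, hU, hxU, -⟩ := Opens.isBasis_iff_nbhd.mp Y.isBasis_affineOpens
      (show p.base x ∈ (⊤ : Y.Opens) from trivial)
    have hxU' : x ∈ p ⁻¹ᵁ U := hxU
    let y : Proj (𝒮.deg U hU) := (chart U hU).hom.base ⟨x, hxU'⟩
    have hy : (RelProj.emb p chart U hU).base y = x :=
      congrArg (fun φ : (↑(p ⁻¹ᵁ U) : Scheme.{u}) ⟶ P => φ.base ⟨x, hxU'⟩)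
        (Groth.Agent.H41.RelTwistXf.chart_hom_comp_emb 𝒮 p chart U hU)
    obtain ⟨e₀, he₀⟩ := Groth.Agent.S5732.exists_not_mem E hE 𝒮 j hj U hU y
    let u : 𝒮.deg U hU 1 := ⟨((j.app U) e₀ : 𝒮.presheaf.obj (op U)), hj.2 U hU e₀⟩
    let v : 𝒮.deg U hU 0 := ⟨1, SetLike.GradedOne.one_mem⟩
    have hab : ((1 : ℕ) : ℤ) = ((0 : ℕ) : ℤ) + 1 := by norm_num
    have hv1 : ∀ (W₁ : P.Opens)
        (x' : (RelProj.emb p chart U hU ⁻¹ᵁ W₁ : (Proj (𝒮.deg U hU)).Opens)),
        ((v : 𝒮.deg U hU 0) : 𝒮.presheaf.obj (op U)) ∉ x'.1.asHomogeneousIdeal := by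
      intro W₁ x' h1
      exact x'.1.isPrime.ne_top ((Ideal.eq_top_iff_one _).mpr h1)
    obtain ⟨σ, hσ⟩ := Groth.Agent.H41.RelTwistXf.exists_readsFrac 𝒮 p chart 1 O1 lam hO1 U hU
      (p ⁻¹ᵁ U) le_rfl u v hab (hv1 _)
    let W' : P.Opens := W ⊓ (RelProj.emb p chart U hU ''ᵁ
      (Proj.basicOpen (𝒮.deg U hU) ((j.app U) e₀ : 𝒮.presheaf.obj (op U))))
    have hW'W : W' ≤ W := inf_le_left
    have hW'U : W' ≤ p ⁻¹ᵁ U := by
      intro z hz
      obtain ⟨z', -, rfl⟩ := hz.2
      have : (RelProj.emb p chart U hU).base z' ∈ (RelProj.emb p chart U hU).opensRange :=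
        ⟨z', rfl⟩
      rwa [Groth.Agent.H41.RelTildeMaps.opensRange_emb] at this
    have hxW' : x ∈ W' := by
      refine ⟨hx, y, ?_, hy⟩
      exact (ProjectiveSpectrum.mem_basicOpen (𝒮.deg U hU) _ y).mpr he₀
    have hux : ∀ x' : (RelProj.emb p chart U hU ⁻¹ᵁ W' : (Proj (𝒮.deg U hU)).Opens),
        ((u : 𝒮.deg U hU 1) : 𝒮.presheaf.obj (op U)) ∉ x'.1.asHomogeneousIdeal := by
      intro x'
      have h1 : (RelProj.emb p chart U hU).base x'.1 ∈ (RelProj.emb p chart U hU ''ᵁ
          (Proj.basicOpen (𝒮.deg U hU) ((j.app U) e₀ : 𝒮.presheaf.obj (op U)))) := x'.2.2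
      have h2 : x'.1 ∈ RelProj.emb p chart U hU ⁻¹ᵁ (RelProj.emb p chart U hU ''ᵁ
          (Proj.basicOpen (𝒮.deg U hU) ((j.app U) e₀ : 𝒮.presheaf.obj (op U)))) := h1
      rw [(RelProj.emb p chart U hU).preimage_image_eq] at h2
      exact (ProjectiveSpectrum.mem_basicOpen (𝒮.deg U hU) _ x'.1).mp h2
    have hσ' := Groth.Agent.H41.RelTwistXf.ReadsFrac.res 𝒮 p chart 1 O1 lam hW'U hσ
    have hbij := Groth.Agent.H41.RelTwistXf.ReadsFrac.bijective_smul 𝒮 p chart 1 O1 lam hO1
      hW'U u v hab hux (hv1 _) hσ'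
    obtain ⟨c, hc⟩ := hbij.2 (O1.presheaf.map (homOfLE hW'W).op τ)
    refine ⟨W', hW'W, hxW', ?_⟩
    rw [← Groth.Agent.H8.app_res ψ hW'W τ, ← hc, Scheme.Modules.Hom.app_smul,
      Groth.Agent.H8.app_res ψ hW'U σ, hrel U σ, map_zero, smul_zero, map_zero]
  have hg' : g' = 0 := by
    apply (adj.homEquiv O1 Q).injective
    have h0 : (adj.homEquiv O1 Q) 0 = 0 := by
      rw [Adjunction.homEquiv_unit, CategoryTheory.Functor.map_zero, comp_zero]
    rw [h0]
    exact hψ0
  have hgg : g = e.hom ≫ g' := by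
    simp only [g', Iso.hom_inv_id_assoc]
  rw [hgg, hg', comp_zero]

end Groth.Agent.S5725
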