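import Groth.Statements.S5727
import Groth.Agent.H41.FTSubEpi
import Groth.Agent.H18.TensorCoh
import Groth.Agent.H18.TensorGen
import Groth.Agent.H41.RelTwistGG2
import Groth.Agent.H41.RelProjLib2
import Groth.Agent.S5721

set_option autoImplicit false
universe u
open CategoryTheory CategoryTheory.Limits AlgebraicGeometry TopologicalSpace Opposite
open scoped HomogeneousIdeal
open EGA2

namespace Groth.Agent.S5727

/-- Let Z be a scheme which is either quasi-compact and separated or has Noetherian underlying space, g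
: Y → Z a quasi-compact morphism, K an invertible O_Y-module which is very ample relative to g, and
E a quasi-coherent O_Y-module of finite type. Then there is m₀ such that for every m ≥ m₀ there are
a quasi-coherent O_Z-module F of finite type (depending on m) and an epimorphism g^*F → E ⊗ K^{⊗m}.
(The published statement says that E is isomorphic to a quotient of g^*F ⊗ K^{⊗(-m)}; for invertible
K this is the same as E ⊗ K^{⊗m} being a quotient of g^*F, the form used here, which avoids negative
tensor powers.) -/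
theorem result {Y Z : Scheme.{u}}
    (hZ : (CompactSpace Z ∧ Z.IsSeparated) ∨ TopologicalSpace.NoetherianSpace Z) (g : Y ⟶ Z) [QuasiCompact g]
    (K : Y.Modules) (hK : PicF.IsInvertible K) (hKva : RelProj.IsRelVeryAmple g K)
    (E : Y.Modules) (hE : Coh.IsQCoh E) (hEft : CohB1.IsFT E) :
    ∃ m₀ : ℕ, ∀ m : ℕ, m₀ ≤ m →
      ∃ (F : Z.Modules) (φ : (Scheme.Modules.pullback g).obj F ⟶ CohB1.tensorMod E (CohB1.tensorPow K m)),
        Coh.IsQCoh F ∧ CohB1.IsFT F ∧ Epi φ := by
  classical
  haveI : CompactSpace Z := by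
    rcases hZ with ⟨h1, -⟩ | h2
    · exact h1
    · haveI := h2
      infer_instance
  haveI : QuasiSeparatedSpace Z := by
    rcases hZ with ⟨-, h1⟩ | h2
    · haveI := h1
      infer_instance
    · haveI := h2
      exact ⟨fun U V _ _ _ _ => TopologicalSpace.NoetherianSpace.isCompact _⟩
  haveI : CompactSpace Y := QuasiCompact.compactSpace_of_compactSpace g
  haveI : QuasiSeparated g := by
    obtain ⟨E', hE', 𝒮, j, hj, P, p, chart, hP, O1, lam, hO1, i, hi, hip, -⟩ := hKva
    haveI := hi
    haveI : IsSeparated p := Groth.Agent.H41.RelProjLib.isSeparated_of_isRelProj 𝒮 p chart hP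
    haveI : IsSeparated i := inferInstance
    haveI : IsSeparated (i ≫ p) := inferInstance
    rw [← hip]
    infer_instance
  have hamp : RelAmple.IsRelAmple g K := Groth.Agent.S5721.result g K hK hKva
  obtain ⟨n₀, -, hn₀⟩ := Groth.Agent.H41.RelTwistGG2.exists_epi_counit_of_isRelAmple' g hK hamp
    E hE hEft
  refine ⟨n₀, fun m hm => ?_⟩
  have hKm : PicF.IsInvertible (CohB1.tensorPow K m) :=
    Groth.Agent.H18.TensorGen.isInvertible_tensorPow hK m
  have hcoh : Coh.IsCoh (CohB1.tensorMod E (CohB1.tensorPow K m)) :=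
    Groth.Agent.H18.TensorCoh.isCoh_tensorMod (F := E) (M := CohB1.tensorPow K m) ⟨hE, hEft⟩ hKm
  haveI : (CohB1.tensorMod E (CohB1.tensorPow K m)).IsQuasicoherent := hcoh.1
  haveI : SheafOfModules.IsFiniteType (R := Y.ringCatSheaf)
      (CohB1.tensorMod E (CohB1.tensorPow K m)) := hcoh.2
  obtain ⟨F, φ, hFq, hFt, hφ⟩ := Groth.Agent.H41.FTSubEpi.exists_ft_epi g
    (CohB1.tensorMod E (CohB1.tensorPow K m)) (hn₀ m hm)
  exact ⟨F, φ, hFq, hFt, hφ⟩

end Groth.Agent.S5727
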