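import Groth.Statements.S5742
import Mathlib

set_option autoImplicit false
set_option maxHeartbeats 400000
universe u
open Coherent

namespace Groth.Agent.S5742

open AlgebraicGeometry CategoryTheory CategoryTheory.Limits TopologicalSpace Opposite IsLocalRing

set_option backward.isDefEq.respectTransparency.types false in
theorem hom_ext_of_local_thickenings {R : CommRingCat.{u}} [IsLocalRing R] [IsNoetherianRing R]
    {Y : Scheme.{u}} (α β : Spec R ⟶ Y)
    (hn : ∀ n : ℕ,
      Spec.map (CommRingCat.ofHom (Ideal.Quotient.mk (maximalIdeal R ^ (n + 1)))) ≫ α =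
      Spec.map (CommRingCat.ofHom (Ideal.Quotient.mk (maximalIdeal R ^ (n + 1)))) ≫ β) :
    α = β := by
  have hcl : α (closedPoint R) = β (closedPoint R) := by
    have h0 := hn 0
    obtain ⟨z, hz⟩ : ∃ z : Spec (CommRingCat.of (R ⧸ maximalIdeal R ^ (0 + 1))),
        (Spec.map (CommRingCat.ofHom (Ideal.Quotient.mk (maximalIdeal R ^ (0 + 1))))) z =
          closedPoint R := by
      have hz : closedPoint R ∈ Set.range
          (PrimeSpectrum.comap (Ideal.Quotient.mk (maximalIdeal R ^ (0 + 1)))) := by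
        rw [_root_.range_comap_of_surjective _ _ Ideal.Quotient.mk_surjective,
          Ideal.mk_ker, PrimeSpectrum.mem_zeroLocus]
        exact Ideal.pow_le_self (by simp)
      obtain ⟨z, hz⟩ := hz
      exact ⟨z, hz⟩
    have h1 : (Spec.map (CommRingCat.ofHom (Ideal.Quotient.mk (maximalIdeal R ^ (0 + 1)))) ≫ α) z =
        (Spec.map (CommRingCat.ofHom (Ideal.Quotient.mk (maximalIdeal R ^ (0 + 1)))) ≫ β) z := by
      rw [h0]
    rw [Scheme.Hom.comp_apply, Scheme.Hom.comp_apply, hz] at h1
    exact h1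
  obtain ⟨_, ⟨W, hW, rfl⟩, hyW, -⟩ := Y.isBasis_affineOpens.exists_subset_of_mem_open
    (Set.mem_univ (α (closedPoint R))) isOpen_univ
  have hα : Set.range α ⊆ Set.range hW.fromSpec := by
    rw [hW.range_fromSpec]
    rintro _ ⟨z, rfl⟩
    exact ((IsLocalRing.specializes_closedPoint z).map α.continuous).mem_open W.2 hyW
  have hβ : Set.range β ⊆ Set.range hW.fromSpec := by
    rw [hW.range_fromSpec]
    rintro _ ⟨z, rfl⟩
    exact ((IsLocalRing.specializes_closedPoint z).map β.continuous).mem_open W.2 (hcl ▸ hyW)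
  have hq : ∀ n : ℕ,
      Spec.preimage (IsOpenImmersion.lift hW.fromSpec α hα) ≫
        CommRingCat.ofHom (Ideal.Quotient.mk (maximalIdeal R ^ (n + 1))) =
      Spec.preimage (IsOpenImmersion.lift hW.fromSpec β hβ) ≫
        CommRingCat.ofHom (Ideal.Quotient.mk (maximalIdeal R ^ (n + 1))) := by
    intro n
    apply Spec.map_injective
    rw [Spec.map_comp, Spec.map_comp, Spec.map_preimage, Spec.map_preimage,
      ← cancel_mono hW.fromSpec, Category.assoc, Category.assoc, IsOpenImmersion.lift_fac,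
      IsOpenImmersion.lift_fac]
    exact hn n
  have hab : Spec.preimage (IsOpenImmersion.lift hW.fromSpec α hα) =
      Spec.preimage (IsOpenImmersion.lift hW.fromSpec β hβ) := by
    ext w
    have hmem : (Spec.preimage (IsOpenImmersion.lift hW.fromSpec α hα)).hom w -
        (Spec.preimage (IsOpenImmersion.lift hW.fromSpec β hβ)).hom w ∈
          ⨅ i, maximalIdeal R ^ i := by
      refine Ideal.mem_iInf.mpr fun i => Ideal.pow_le_pow_right (Nat.le_succ i) ?_
      refine Ideal.Quotient.eq.mp ?_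
      exact congrArg (fun m => m.hom w) (hq i)
    rw [Ideal.iInf_pow_eq_bot_of_isLocalRing _ Ideal.IsPrime.ne_top', Ideal.mem_bot,
      sub_eq_zero] at hmem
    exact hmem
  calc α = IsOpenImmersion.lift hW.fromSpec α hα ≫ hW.fromSpec :=
        (IsOpenImmersion.lift_fac _ _ _).symm
    _ = Spec.map (Spec.preimage (IsOpenImmersion.lift hW.fromSpec α hα)) ≫ hW.fromSpec := by
        rw [Spec.map_preimage]
    _ = Spec.map (Spec.preimage (IsOpenImmersion.lift hW.fromSpec β hβ)) ≫ hW.fromSpec := by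
        rw [hab]
    _ = β := by rw [Spec.map_preimage, IsOpenImmersion.lift_fac]

set_option backward.isDefEq.respectTransparency.types false in
theorem exists_lift_thick (A : Type u) [CommRing A] (I : Ideal A) [IsAdicComplete I A]
    {X : Scheme.{u}} (f : X ⟶ Spec (CommRingCat.of A)) [UniversallyClosed f] (x : X)
    (hx : IsClosed ({x} : Set X)) (n : ℕ) :
    ∃ l : Spec (CommRingCat.of (↑(X.presheaf.stalk x) ⧸
        maximalIdeal ↑(X.presheaf.stalk x) ^ (n + 1))) ⟶ CohB1.thick f I n,
      Spec.map (CommRingCat.ofHom (Ideal.Quotient.mk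
        (maximalIdeal ↑(X.presheaf.stalk x) ^ (n + 1)))) ≫ X.fromSpecStalk x =
        l ≫ CohB1.thickι f I n := by
  let ρ : CommRingCat.of A ⟶ X.presheaf.stalk x := Spec.preimage (X.fromSpecStalk x ≫ f)
  have hρ : Spec.map ρ = X.fromSpecStalk x ≫ f := Spec.map_preimage _
  have hfx : IsClosed ({f x} : Set (Spec (CommRingCat.of A))) := by
    have := f.isClosedMap _ hx
    rwa [Set.image_singleton] at this
  have hmax : (f x).asIdeal.IsMaximal := (PrimeSpectrum.isClosed_singleton_iff_isMaximal _).mp hfx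
  have hI : I ≤ (f x).asIdeal :=
    (IsAdicComplete.le_jacobson_bot I).trans (sInf_le ⟨bot_le, hmax⟩)
  have hcomap : (f x).asIdeal = Ideal.comap ρ.hom (maximalIdeal (X.presheaf.stalk x)) := by
    have h1 : (Spec.map ρ) (closedPoint (X.presheaf.stalk x)) = f x := by
      rw [hρ, Scheme.Hom.comp_apply, Scheme.fromSpecStalk_closedPoint]
    rw [← h1]
    rfl
  let qx : X.presheaf.stalk x ⟶ CommRingCat.of (↑(X.presheaf.stalk x) ⧸
      maximalIdeal ↑(X.presheaf.stalk x) ^ (n + 1)) :=
    CommRingCat.ofHom (Ideal.Quotient.mk (maximalIdeal ↑(X.presheaf.stalk x) ^ (n + 1)))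
  have hθ : ∀ a ∈ I ^ (n + 1), (ρ ≫ qx).hom a = 0 := by
    intro a ha
    have h2 : I ^ (n + 1) ≤
        Ideal.comap ρ.hom (maximalIdeal ↑(X.presheaf.stalk x) ^ (n + 1)) := by
      refine (Ideal.pow_right_mono ?_ (n + 1)).trans (Ideal.le_comap_pow ρ.hom (n + 1))
      rw [← hcomap]
      exact hI
    exact Ideal.Quotient.eq_zero_iff_mem.mpr (h2 ha)
  obtain ⟨L, hcomp⟩ : ∃ L : A ⧸ I ^ (n + 1) →+* ↑(X.presheaf.stalk x) ⧸
      maximalIdeal ↑(X.presheaf.stalk x) ^ (n + 1),
      CommRingCat.ofHom (Ideal.Quotient.mk (I ^ (n + 1))) ≫ CommRingCat.ofHom L = ρ ≫ qx := by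
    refine ⟨Ideal.Quotient.lift (I ^ (n + 1)) (ρ ≫ qx).hom hθ, ?_⟩
    ext a
    simp
  have hc : (Spec.map qx ≫ X.fromSpecStalk x) ≫ f =
      Spec.map (CommRingCat.ofHom L) ≫ CohB1.specQuot I n := by
    rw [Category.assoc, ← hρ, ← Spec.map_comp, ← hcomp, Spec.map_comp]
    rfl
  exact ⟨pullback.lift _ _ hc, (pullback.lift_fst _ _ _).symm⟩


open AlgebraicGeometry CategoryTheory CategoryTheory.Limits in
/-- Let A be a Noetherian ring separated and complete for the I-adic topology, X proper over Spec A and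
Y locally of finite type over Spec A; write X_n = X ×_A Spec(A/I^(n+1)). Two A-morphisms φ, ψ : X →
Y whose restrictions to X_n coincide for every n are equal. (The published statement takes Y
separated and of finite type over A, which the surjectivity half needs; injectivity uses neither
separatedness nor quasi-compactness of Y. Together with the existence of an A-morphism inducing any
compatible system of morphisms X_n → Y_n, this is the bijectivity of f ↦ f̂ from A-morphisms X → Y
to morphisms of the completions.) -/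
theorem result (A : Type u) [CommRing A] [IsNoetherianRing A]
    (I : Ideal A) [IsAdicComplete I A] {X Y : Scheme.{u}} (f : X ⟶ Spec (CommRingCat.of A))
    (h : Y ⟶ Spec (CommRingCat.of A)) [IsProper f] [LocallyOfFiniteType h] (φ ψ : X ⟶ Y)
    (hφ : φ ≫ h = f) (hψ : ψ ≫ h = f)
    (e : ∀ n : ℕ, CohB1.thickι f I n ≫ φ = CohB1.thickι f I n ≫ ψ) : φ = ψ := by
  haveI : IsLocallyNoetherian X := LocallyOfFiniteType.isLocallyNoetherian f
  haveI : CompactSpace X := (quasiCompact_iff_compactSpace f).mp inferInstance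
  have key : ∀ x : X, IsClosed ({x} : Set X) →
      X.fromSpecStalk x ≫ φ = X.fromSpecStalk x ≫ ψ := by
    intro x hx
    refine hom_ext_of_local_thickenings _ _ (fun n => ?_)
    obtain ⟨l, hl⟩ := exists_lift_thick A I f x hx n
    rw [← Category.assoc, ← Category.assoc, hl, Category.assoc, Category.assoc, e n]
  have hall : ∀ x : X, ∃ U : X.Opens, x ∈ U ∧ U.ι ≫ φ = U.ι ≫ ψ := by
    by_contra hcon
    push Not at hcon
    have hS : IsOpen {x : X | ∃ U : X.Opens, x ∈ U ∧ U.ι ≫ φ = U.ι ≫ ψ} := by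
      rw [isOpen_iff_forall_mem_open]
      rintro x ⟨U, hxU, hU⟩
      exact ⟨U, fun y hy => ⟨U, hy, hU⟩, U.2, hxU⟩
    obtain ⟨x₀, hx₀⟩ := hcon
    obtain ⟨x, hxS, hxcl⟩ := hS.isClosed_compl.exists_closed_singleton
      ⟨x₀, fun ⟨U, h1, h2⟩ => hx₀ U h1 h2⟩
    obtain ⟨U, hxU, hU⟩ := spread_out_unique_of_isGermInjective' φ ψ (key x hxcl)
    exact hxS ⟨U, hxU, hU⟩
  exact Scheme.hom_ext_of_forall φ ψ hall

end Groth.Agent.S5742
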