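import Groth.Statements.S5750
import Groth.Agent.H82.ProjClosed

set_option autoImplicit false
universe u
open Coherent

namespace Groth.Agent.S5750

open AlgebraicGeometry CategoryTheory in
/-- Let A be an Artinian local ring, i : X → P^r_A a closed immersion compatible with the structure
morphisms to Spec A, F a coherent O_X-module and F(n) = F ⊗ i^* O(n). If a polynomial P over ℚ
satisfies P(n) = χ_A(F(n)) = Σ_{j ≤ r} (-1)^j length_A H^j(X, F(n)) for every integer n (the Hilbert
polynomial of F), then the leading coefficient of P is non-negative. -/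
theorem result (A : Type u) [CommRing A]
    [IsArtinianRing A] [IsLocalRing A] (r : ℕ) (X : Scheme.{u}) [X.Over (Spec (CommRingCat.of A))]
    (i : X ⟶ CohB1.ProjSpace r A) [IsClosedImmersion i]
    (hi : i ≫ CohB1.ProjSpace.toSpec r A = X ↘ Spec (CommRingCat.of A)) (F : X.Modules) (hF : Coh.IsCoh F)
    (P : Polynomial ℚ)
    (hP : ∀ n : ℤ, ((Finset.range (r + 1)).sum fun j => (-1 : ℚ) ^ j *
        ((Module.length A (Coh.HH X (CohB1.tensorMod F
          ((Scheme.Modules.pullback i).obj (Twist.twistProjSpace r A n))) j)).toNat : ℚ)) = P.eval (n : ℚ)) :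
    0 ≤ P.leadingCoeff := by
  obtain ⟨N, hN⟩ := Groth.Agent.H82.ProjClosed.serre_vanishing_closed A r i F hF
  have hnonneg : ∀ n : ℤ, N ≤ n → 0 ≤ P.eval (n : ℚ) := by
    intro n hn
    rw [← hP n, Finset.sum_eq_single 0]
    · simp
    · intro j _ hj
      haveI := hN n hn j (Nat.one_le_iff_ne_zero.mpr hj)
      rw [Module.length_eq_zero]
      simp
    · intro h
      exact absurd (Finset.mem_range.mpr (Nat.succ_pos r)) h
  by_contra hneg
  push Not at hneg
  have htend : Filter.Tendsto (fun x : ℚ => P.eval x) Filter.atTop Filter.atBot := by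
    by_cases hdeg : 0 < P.degree
    · exact P.tendsto_atBot_of_leadingCoeff_nonpos hdeg hneg.le
    · exfalso
      have h0 : P.degree ≤ 0 := not_lt.mp hdeg
      rw [Polynomial.eq_C_of_degree_le_zero h0] at hneg
      have h1 := hnonneg N le_rfl
      rw [Polynomial.eq_C_of_degree_le_zero h0, Polynomial.eval_C] at h1
      rw [Polynomial.leadingCoeff_C] at hneg
      exact absurd h1 (not_le.mpr hneg)
  have hev : ∀ᶠ x : ℚ in Filter.atTop, P.eval x < 0 :=
    htend.eventually (Filter.eventually_lt_atBot 0)
  obtain ⟨B, hB⟩ := Filter.eventually_atTop.mp hev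
  obtain ⟨m, hm⟩ := exists_nat_ge (max B (N : ℚ))
  have h1 : P.eval ((m : ℤ) : ℚ) < 0 := by
    have : B ≤ ((m : ℤ) : ℚ) := by
      push_cast
      exact le_trans (le_max_left _ _) hm
    exact hB _ this
  have h2 : N ≤ (m : ℤ) := by
    have : (N : ℚ) ≤ ((m : ℤ) : ℚ) := by
      push_cast
      exact le_trans (le_max_right _ _) hm
    exact_mod_cast this
  exact absurd (hnonneg (m : ℤ) h2) (not_le.mpr h1)

end Groth.Agent.S5750
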