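import Groth.Statements.S5753
import Groth.Agent.H29.Depth

set_option autoImplicit false
universe u
open EGA41

namespace Groth.Agent.S5753

/-- Let A be a Noetherian local ring with maximal ideal m and residue field k, and N a finitely
generated A-module. Then no element of m is N-regular (multiplication by it injective) if and only
if Hom_A(k, N) is nonzero. Applied to N = M/(x_1 M + ... + x_n M) for an M-regular sequence (x_i) in
m, this says that the sequence cannot be extended by an element of m if and only if Hom_A(k, M/(x_1
M + ... + x_n M)) ≠ 0. (The published statement allows an arbitrary module; for the direct sum N of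
the quotients of a two-dimensional regular local ring by all its height-one primes no element of m
is N-regular while Hom_A(k, N) = 0, and the published proof uses finiteness of the set of associated
primes, so N is taken finitely generated here.) -/
theorem result (A : Type u) [CommRing A]
    [IsLocalRing A] [IsNoetherianRing A] (N : Type u) [AddCommGroup N] [Module A N] [Module.Finite A N] :
    (∀ x ∈ IsLocalRing.maximalIdeal A, ¬ IsSMulRegular N x) ↔
      Nontrivial (IsLocalRing.ResidueField A →ₗ[A] N) := by
  rw [Groth.Agent.H29.forall_not_isSMulRegular_iff_mem_associatedPrimes,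
    AssociatedPrimes.mem_iff, isAssociatedPrime_iff]
  constructor
  · rintro ⟨-, x, hx⟩
    have hx0 : x ≠ 0 := by
      rintro rfl
      have : (1 : A) ∈ IsLocalRing.maximalIdeal A := by
        rw [hx]; simp [Submodule.mem_colon_singleton]
      exact (IsLocalRing.maximalIdeal.isMaximal A).ne_top ((Ideal.eq_top_iff_one _).mpr this)
    have hker : IsLocalRing.maximalIdeal A ≤ LinearMap.ker (LinearMap.toSpanSingleton A N x) := by
      intro r hr
      rw [hx] at hr
      simpa [Submodule.mem_colon_singleton] using hr
    let g : IsLocalRing.ResidueField A →ₗ[A] N :=
      Submodule.liftQ (IsLocalRing.maximalIdeal A) (LinearMap.toSpanSingleton A N x) hker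
    refine ⟨g, 0, ?_⟩
    intro hg
    have h1 : g (Submodule.Quotient.mk (1 : A)) = x := by
      change Submodule.liftQ (IsLocalRing.maximalIdeal A) (LinearMap.toSpanSingleton A N x) hker
        (Submodule.Quotient.mk (1 : A)) = x
      rw [Submodule.liftQ_apply]
      simp
    rw [hg] at h1
    exact hx0 h1.symm
  · rintro ⟨g, g', hgg'⟩
    refine ⟨inferInstance, ?_⟩
    let h : IsLocalRing.ResidueField A →ₗ[A] N := g - g'
    have hne : h ≠ 0 := sub_ne_zero.mpr hgg'
    let x : N := h (IsLocalRing.residue A 1)
    have hx0 : x ≠ 0 := by
      intro hx
      apply hne
      ext y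
      obtain ⟨c, rfl⟩ := IsLocalRing.residue_surjective y
      have : IsLocalRing.residue A c = c • IsLocalRing.residue A 1 := by
        rw [Algebra.smul_def, map_one, mul_one]; rfl
      rw [this, map_smul]
      change c • x = 0
      rw [hx, smul_zero]
    refine ⟨x, ?_⟩
    ext r
    rw [Submodule.mem_colon_singleton, Submodule.mem_bot]
    constructor
    · intro hr
      change r • h (IsLocalRing.residue A 1) = 0
      rw [← map_smul]
      have : r • IsLocalRing.residue A 1 = 0 := by
        rw [Algebra.smul_def, map_one, mul_one]
        exact (IsLocalRing.residue_eq_zero_iff r).mpr hr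
      rw [this, map_zero]
    · intro hr
      by_contra hrm
      have hu : IsUnit r := by
        by_contra hnu
        exact hrm ((IsLocalRing.mem_maximalIdeal r).mpr hnu)
      exact hx0 ((hu.smul_eq_zero).mp hr)

end Groth.Agent.S5753
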