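import Groth.Statements.S5754
import Mathlib.RingTheory.Ideal.AssociatedPrime.Localization
import Mathlib.RingTheory.Support
import Mathlib.RingTheory.QuotSMulTop

set_option autoImplicit false
universe u
open EGA41

namespace Groth.Agent.S5754

open scoped Pointwise

/-- Let A be a Noetherian ring, M a finitely generated A-module and t an element of A which is
M-regular. For every associated prime p of M, every prime ideal minimal among those containing p +
tA is an associated prime of M/tM. -/
theorem result (A : Type u) [CommRing A]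
    [IsNoetherianRing A] (M : Type u) [AddCommGroup M] [Module A M] [Module.Finite A M] (t : A)
    (ht : IsSMulRegular M t) (p : Ideal A) (hp : p ∈ associatedPrimes A M) (q : Ideal A)
    (hq : q ∈ (p ⊔ Ideal.span {t}).minimalPrimes) : q ∈ associatedPrimes A (QuotSMulTop t M) := by
  classical
  let N : Submodule A M :=
    { carrier := {m | ∀ a ∈ p, a • m = 0}
      add_mem' := by
        intro u v hu hv
        show ∀ a ∈ p, a • (u + v) = 0
        intro a ha
        rw [smul_add, hu a ha, hv a ha, add_zero]
      zero_mem' := by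
        show ∀ a ∈ p, a • (0 : M) = 0
        intro a _
        exact smul_zero a
      smul_mem' := by
        intro c u hu
        show ∀ a ∈ p, a • (c • u) = 0
        intro a ha
        rw [smul_comm, hu a ha, smul_zero] }
  have hNmem : ∀ m : M, m ∈ N ↔ ∀ a ∈ p, a • m = 0 := fun m => Iff.rfl
  obtain ⟨hpprime, m0, hm0⟩ := (isAssociatedPrime_iff).1 hp
  have hm0N : m0 ∈ N := by
    rw [hNmem]
    intro a ha
    rw [hm0, Submodule.mem_colon_singleton, Submodule.mem_bot] at ha
    exact ha
  have hannN : Module.annihilator A N ≤ p := by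
    intro a ha
    have h1 : a • (⟨m0, hm0N⟩ : N) = 0 := Module.mem_annihilator.1 ha ⟨m0, hm0N⟩
    rw [hm0, Submodule.mem_colon_singleton, Submodule.mem_bot]
    exact congrArg Subtype.val h1
  have hpq : p ≤ q := le_sup_left.trans hq.1.2
  have htq : t ∈ q := hq.1.2 (Ideal.mem_sup_right (Ideal.mem_span_singleton_self t))
  have hqprime : q.IsPrime := hq.1.1
  have hsupp : (⟨q, hqprime⟩ : PrimeSpectrum A) ∈ Module.support A (QuotSMulTop t N) := by
    rw [Module.support_quotSMulTop]
    refine ⟨?_, ?_⟩
    · rw [Module.mem_support_iff_of_finite]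
      exact hannN.trans hpq
    · rw [PrimeSpectrum.mem_zeroLocus]
      intro y hy
      rw [Set.mem_singleton_iff] at hy
      rw [hy]
      exact htq
  have hannq : Module.annihilator A (QuotSMulTop t N) ≤ q :=
    (Module.mem_support_iff_of_finite (p := (⟨q, hqprime⟩ : PrimeSpectrum A))).1 hsupp
  have hple : p ⊔ Ideal.span {t} ≤ Module.annihilator A (QuotSMulTop t N) := by
    apply sup_le
    · intro a ha
      rw [Module.mem_annihilator]
      intro x
      obtain ⟨n, rfl⟩ := Submodule.Quotient.mk_surjective _ x
      rw [← Submodule.Quotient.mk_smul]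
      have h0 : a • n = 0 := Subtype.ext ((hNmem n.1).1 n.2 a ha)
      rw [h0, Submodule.Quotient.mk_zero]
    · rw [Ideal.span_le, Set.singleton_subset_iff]
      show t ∈ Module.annihilator A (QuotSMulTop t N)
      rw [Module.mem_annihilator]
      intro x
      obtain ⟨n, rfl⟩ := Submodule.Quotient.mk_surjective _ x
      rw [← Submodule.Quotient.mk_smul, Submodule.Quotient.mk_eq_zero]
      exact Submodule.smul_mem_pointwise_smul n t ⊤ Submodule.mem_top
  have hqmin : q ∈ (Module.annihilator A (QuotSMulTop t N)).minimalPrimes := by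
    refine ⟨⟨hqprime, hannq⟩, ?_⟩
    rintro q' ⟨hq'prime, hq'le⟩ hq'q
    exact hq.2 ⟨hq'prime, hple.trans hq'le⟩ hq'q
  have hass : q ∈ associatedPrimes A (QuotSMulTop t N) :=
    Module.associatedPrimes.minimalPrimes_annihilator_subset_associatedPrimes A
      (QuotSMulTop t N) hqmin
  have hle : (t • (⊤ : Submodule A N)) ≤
      Submodule.comap N.subtype (t • (⊤ : Submodule A M)) := by
    intro n hn
    obtain ⟨n', -, rfl⟩ := (Submodule.mem_smul_pointwise_iff_exists _ _ _).1 hn
    show N.subtype (t • n') ∈ t • (⊤ : Submodule A M)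
    rw [map_smul]
    exact Submodule.smul_mem_pointwise_smul _ t ⊤ Submodule.mem_top
  let f : QuotSMulTop t N →ₗ[A] QuotSMulTop t M :=
    Submodule.mapQ (t • (⊤ : Submodule A N)) (t • (⊤ : Submodule A M)) N.subtype hle
  have hf : Function.Injective f := by
    rw [injective_iff_map_eq_zero]
    intro x hx
    obtain ⟨n, rfl⟩ := Submodule.Quotient.mk_surjective _ x
    have hx' : (Submodule.Quotient.mk (N.subtype n) : QuotSMulTop t M) = 0 := hx
    rw [Submodule.Quotient.mk_eq_zero] at hx'
    obtain ⟨m', -, hm'⟩ := (Submodule.mem_smul_pointwise_iff_exists _ _ _).1 hx'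
    have hm'N : m' ∈ N := by
      rw [hNmem]
      intro a ha
      apply ht
      show t • (a • m') = t • (0 : M)
      rw [smul_comm, hm', smul_zero]
      exact (hNmem n.1).1 n.2 a ha
    rw [Submodule.Quotient.mk_eq_zero]
    have hn : n = t • (⟨m', hm'N⟩ : N) := Subtype.ext hm'.symm
    rw [hn]
    exact Submodule.smul_mem_pointwise_smul _ t ⊤ Submodule.mem_top
  exact associatedPrimes.subset_of_injective hf hass

end Groth.Agent.S5754
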