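import Groth.Statements.S5755
import Groth.Agent.S5752

set_option autoImplicit false
universe u
open EGA41

namespace Groth.Agent.S5755

/-- A reduced Noetherian local ring A has depth 0 if and only if A is a field. -/
theorem result (A : Type u) [CommRing A] [IsLocalRing A]
    [IsNoetherianRing A] [IsReduced A] : LocCoh.depth A A = 0 ↔ IsField A := by
  rw [Groth.Agent.S5752.result A A, AssociatedPrimes.mem_iff, isAssociatedPrime_iff,
    IsLocalRing.isField_iff_maximalIdeal_eq]
  constructor
  · rintro ⟨-, x, hx⟩
    have hx0 : x ≠ 0 := by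
      rintro rfl
      have : (1 : A) ∈ IsLocalRing.maximalIdeal A := by
        rw [hx]; simp [Submodule.mem_colon_singleton]
      exact (IsLocalRing.maximalIdeal.isMaximal A).ne_top ((Ideal.eq_top_iff_one _).mpr this)
    have hxm : x ∉ IsLocalRing.maximalIdeal A := by
      intro hxm
      rw [hx, Submodule.mem_colon_singleton, Submodule.mem_bot, smul_eq_mul] at hxm
      exact hx0 (IsReduced.eq_zero x ⟨2, by rw [pow_two]; exact hxm⟩)
    have hu : IsUnit x := by
      by_contra hnu
      exact hxm ((IsLocalRing.mem_maximalIdeal x).mpr hnu)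
    rw [eq_bot_iff]
    intro r hr
    rw [hx, Submodule.mem_colon_singleton, Submodule.mem_bot, smul_eq_mul] at hr
    exact (Submodule.mem_bot A).mpr ((hu.mul_left_eq_zero).mp hr)
  · intro h
    have hf : IsField A := IsLocalRing.isField_iff_maximalIdeal_eq.mpr h
    letI := hf.toField
    refine ⟨inferInstance, 1, ?_⟩
    rw [h]
    ext r
    simp [Submodule.mem_colon_singleton]

end Groth.Agent.S5755
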