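import Groth.Statements.S5763
import Mathlib.RingTheory.Ideal.HasGoingUp

set_option autoImplicit false
universe u
open EGA41

namespace Groth.Agent.S5763

/-- Let ρ : A → B be a ring homomorphism making B an integral A-algebra. Then dim(B) ≤ dim(A), and if ρ
is injective then dim(B) = dim(A) (Krull dimensions). -/
theorem result (A B : Type u) [CommRing A] [CommRing B] [Algebra A B]
    [Algebra.IsIntegral A B] :
    ringKrullDim B ≤ ringKrullDim A ∧
      (Function.Injective (algebraMap A B) → ringKrullDim B = ringKrullDim A) := by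
  have hle : ringKrullDim B ≤ ringKrullDim A := by
    apply Order.krullDim_le_of_strictMono (PrimeSpectrum.comap (algebraMap A B))
    intro P Q hPQ
    rw [← PrimeSpectrum.asIdeal_lt_asIdeal] at hPQ ⊢
    exact Ideal.IsIntegral.comap_lt_comap hPQ
  refine ⟨hle, fun hinj => le_antisymm hle ?_⟩
  unfold ringKrullDim Order.krullDim
  apply iSup_le
  intro l
  obtain ⟨P, -, hP, hPover⟩ := Ideal.exists_ideal_over_prime_of_isIntegral (S := B) l.head.asIdeal
    (⊥ : Ideal B) (by
      rw [← RingHom.ker_eq_comap_bot, (RingHom.injective_iff_ker_eq_bot _).mp hinj]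
      exact bot_le)
  have : P.LiesOver l.head.asIdeal := ⟨hPover.symm⟩
  obtain ⟨L, hlen, -, -⟩ := Ideal.exists_ltSeries_of_hasGoingUp l P
  rw [← hlen]
  exact le_iSup (fun p : LTSeries (PrimeSpectrum B) => (p.length : WithBot ℕ∞)) L

end Groth.Agent.S5763
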