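import Groth.Statements.S5764
import Mathlib.RingTheory.Ideal.Height
import Mathlib.RingTheory.Ideal.GoingDown

set_option autoImplicit false
universe u
open EGA41

namespace Groth.Agent.S5764

/-- Let B be an integral domain, A a local subring of B which is integrally closed (in its field of
fractions), and suppose B is integral over A. Then dim(B_n) = dim(A) for every maximal ideal n of B. -/
theorem result (A B : Type u) [CommRing A]
    [CommRing B] [IsDomain B] [Algebra A B] (hinj : Function.Injective (algebraMap A B)) [IsDomain A]
    [IsLocalRing A] [IsIntegrallyClosed A] [Algebra.IsIntegral A B] (n : Ideal B) [n.IsMaximal] :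
    ringKrullDim (Localization.AtPrime n) = ringKrullDim A := by
  have : FaithfulSMul A B := (faithfulSMul_iff_algebraMap_injective A B).mpr hinj
  rw [IsLocalization.AtPrime.ringKrullDim_eq_height n,
    ← IsLocalRing.maximalIdeal_height_eq_ringKrullDim]
  congr 1
  rw [show n.height = Order.height (⟨n, inferInstance⟩ : PrimeSpectrum B) from
      PrimeSpectrum.height_eq_orderHeight ⟨n, inferInstance⟩,
    show (IsLocalRing.maximalIdeal A).height =
      Order.height (⟨IsLocalRing.maximalIdeal A, inferInstance⟩ : PrimeSpectrum A) from
      PrimeSpectrum.height_eq_orderHeight ⟨IsLocalRing.maximalIdeal A, inferInstance⟩]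
  have hcomap : PrimeSpectrum.comap (algebraMap A B) ⟨n, inferInstance⟩ =
      ⟨IsLocalRing.maximalIdeal A, inferInstance⟩ := by
    ext1
    exact IsLocalRing.eq_maximalIdeal (Ideal.isMaximal_comap_of_isIntegral_of_isMaximal n)
  apply le_antisymm
  · rw [← hcomap]
    apply Order.height_le_height_apply_of_strictMono
    intro P Q hPQ
    rw [← PrimeSpectrum.asIdeal_lt_asIdeal] at hPQ ⊢
    exact Ideal.IsIntegral.comap_lt_comap hPQ
  · rw [Order.height_eq_iSup_last_eq (⟨IsLocalRing.maximalIdeal A, inferInstance⟩ : PrimeSpectrum A)]
    apply iSup₂_le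
    intro l hl
    have : n.LiesOver l.last.asIdeal :=
      ⟨by rw [hl]; exact (congrArg PrimeSpectrum.asIdeal hcomap).symm⟩
    obtain ⟨L, hlen, hlast, -⟩ := Ideal.exists_ltSeries_of_hasGoingDown l n
    rw [← hlen]
    exact Order.length_le_height (le_of_eq hlast)

end Groth.Agent.S5764
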