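import Groth.Statements.S5765
import Groth.Agent.H29.SupportLoc

set_option autoImplicit false
universe u
open EGA41

namespace Groth.Agent.S5765

/-- Let A be a ring, M a finitely generated A-module and p a prime ideal of A. Then dim_{A_p}(M_p) +
dim_A(M/pM) ≤ dim_A(M). -/
theorem result (A : Type u) [CommRing A] (M : Type u)
    [AddCommGroup M] [Module A M] [Module.Finite A M] (p : Ideal A) [p.IsPrime] :
    Module.supportDim (Localization.AtPrime p) (LocalizedModule p.primeCompl M) +
        Module.supportDim A (M ⧸ (p • (⊤ : Submodule A M))) ≤ Module.supportDim A M := by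
  by_cases hp : (⟨p, inferInstance⟩ : PrimeSpectrum A) ∈ Module.support A M
  swap
  · have : Subsingleton (LocalizedModule p.primeCompl M) := by
      rw [Module.mem_support_iff] at hp
      exact not_nontrivial_iff_subsingleton.mp hp
    rw [Module.supportDim_eq_bot_of_subsingleton, WithBot.bot_add]
    exact bot_le
  let s : Module.support A M := ⟨⟨p, inferInstance⟩, hp⟩
  have hne : Nonempty (Module.support A M) := ⟨s⟩
  have h1 : Module.supportDim (Localization.AtPrime p) (LocalizedModule p.primeCompl M) ≤
      ((Order.height s : ℕ∞) : WithBot ℕ∞) := by
    unfold Module.supportDim Order.krullDim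
    apply iSup_le
    intro L
    let f : Module.support (Localization.AtPrime p) (LocalizedModule p.primeCompl M) →
        Module.support A M := fun Q =>
      ⟨PrimeSpectrum.comap (algebraMap A (Localization.AtPrime p)) Q.1,
        (Groth.Agent.H29.comap_mem_support_of_mem_support_localizedModule p Q.1 Q.2).1⟩
    have hf : StrictMono f := by
      intro Q Q' hQQ'
      have hle : Q.1 ≤ Q'.1 := hQQ'.le
      have hne' : Q.1 ≠ Q'.1 := fun h => hQQ'.ne (Subtype.ext h)
      refine lt_of_le_of_ne ?_ ?_
      · change PrimeSpectrum.comap _ Q.1 ≤ PrimeSpectrum.comap _ Q'.1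
        exact Ideal.comap_mono (f := algebraMap A (Localization.AtPrime p)) hle
      · intro h
        apply hne'
        have h' : PrimeSpectrum.comap (algebraMap A (Localization.AtPrime p)) Q.1 =
            PrimeSpectrum.comap (algebraMap A (Localization.AtPrime p)) Q'.1 :=
          congrArg Subtype.val h
        exact PrimeSpectrum.localization_comap_injective (Localization.AtPrime p) p.primeCompl h'
    have hlast : (L.map f hf).last ≤ s := by
      rw [LTSeries.last_map]
      exact (Groth.Agent.H29.comap_mem_support_of_mem_support_localizedModule p L.last.1 L.last.2).2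
    have := Order.length_le_height hlast
    rw [LTSeries.map_length] at this
    exact_mod_cast this
  have h2 : Module.supportDim A (M ⧸ (p • (⊤ : Submodule A M))) ≤
      ((Order.coheight s : ℕ∞) : WithBot ℕ∞) := by
    unfold Module.supportDim Order.krullDim
    apply iSup_le
    intro L
    have hsub : Module.support A (M ⧸ (p • (⊤ : Submodule A M))) ⊆ Module.support A M := by
      rw [Module.support_quotient]
      exact Set.inter_subset_left
    let g : Module.support A (M ⧸ (p • (⊤ : Submodule A M))) → Module.support A M :=
      fun Q => ⟨Q.1, hsub Q.2⟩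
    have hg : StrictMono g := fun Q Q' h => h
    have hhead : s ≤ (L.map g hg).head := by
      rw [LTSeries.head_map]
      have hmem : L.head.1 ∈ Module.support A M ∩ PrimeSpectrum.zeroLocus (p : Set A) :=
        (Module.support_quotient (M := M) p) ▸ L.head.2
      exact hmem.2
    have := Order.length_le_coheight hhead
    rw [LTSeries.map_length] at this
    exact_mod_cast this
  calc _ ≤ ((Order.height s : ℕ∞) : WithBot ℕ∞) + ((Order.coheight s : ℕ∞) : WithBot ℕ∞) :=
        add_le_add h1 h2
    _ = ((Order.height s + Order.coheight s : ℕ∞) : WithBot ℕ∞) := by push_cast; rfl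
    _ ≤ _ := by
      unfold Module.supportDim
      rw [Order.krullDim_eq_iSup_height_add_coheight_of_nonempty]
      exact WithBot.coe_le_coe.mpr
        (le_iSup (fun a : Module.support A M => Order.height a + Order.coheight a) s)

end Groth.Agent.S5765
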