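import Groth.Statements.S5766
import Groth.Agent.H54.IntegralDim
import Mathlib

set_option autoImplicit false
universe u
open EGA41

namespace Groth.Agent.S5766

/-- Let A be a Noetherian ring, ρ : A → B a ring homomorphism and M a B-module which is finitely
generated as an A-module via ρ. Then the dimension of M as an A-module equals its dimension as a
B-module. -/
theorem result (A B : Type u) [CommRing A] [CommRing B] [IsNoetherianRing A]
    [Algebra A B] (M : Type u) [AddCommGroup M] [Module B M] [Module A M] [IsScalarTower A B M]
    [Module.Finite A M] : Module.supportDim A M = Module.supportDim B M := by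
  haveI : Module.Finite B M := Module.Finite.of_restrictScalars_finite A B M
  rw [Module.supportDim_eq_ringKrullDim_quotient_annihilator,
    Module.supportDim_eq_ringKrullDim_quotient_annihilator]
  have hle : Module.annihilator A M ≤ (Module.annihilator B M).comap (algebraMap A B) := by
    intro a ha
    rw [Ideal.mem_comap, Module.mem_annihilator]
    intro m
    rw [algebraMap_smul]
    exact Module.mem_annihilator.1 ha m
  let φ : A ⧸ Module.annihilator A M →+* B ⧸ Module.annihilator B M :=
    Ideal.quotientMap _ (algebraMap A B) hle
  have hinj : Function.Injective φ := by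
    rw [injective_iff_map_eq_zero]
    intro x hx
    obtain ⟨a, rfl⟩ := Ideal.Quotient.mk_surjective x
    rw [Ideal.quotientMap_mk, Ideal.Quotient.eq_zero_iff_mem, Module.mem_annihilator] at hx
    rw [Ideal.Quotient.eq_zero_iff_mem, Module.mem_annihilator]
    intro m
    rw [← algebraMap_smul B a m]
    exact hx m
  have hint : φ.IsIntegral := by
    intro y
    obtain ⟨b, rfl⟩ := Ideal.Quotient.mk_surjective y
    have hb : IsIntegral A (Algebra.lsmul A A M b) := Algebra.IsIntegral.isIntegral _
    obtain ⟨p, hp, hp0⟩ := hb
    refine ⟨p.map (Ideal.Quotient.mk _), hp.map _, ?_⟩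
    rw [Polynomial.eval₂_map]
    have hcomp : φ.comp (Ideal.Quotient.mk (Module.annihilator A M)) =
        (Ideal.Quotient.mk (Module.annihilator B M)).comp (algebraMap A B) :=
      Ideal.quotientMap_comp_mk hle
    rw [hcomp, ← Polynomial.hom_eval₂, Ideal.Quotient.eq_zero_iff_mem, Module.mem_annihilator]
    intro m
    have h2 : Algebra.lsmul A A M (Polynomial.aeval b p) =
        Polynomial.aeval (Algebra.lsmul A A M b) p :=
      (Polynomial.aeval_algHom_apply (Algebra.lsmul A A M) b p).symm
    have h3 := congrArg (fun f => f m) h2
    have h4 : Polynomial.aeval (Algebra.lsmul A A M b) p = 0 := hp0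
    rw [h4] at h3
    exact h3
  exact (Groth.Agent.H54.ringKrullDim_eq_of_ringHom_isIntegral_of_injective φ hint hinj).symm

end Groth.Agent.S5766
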