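import Groth.Statements.S5767
import Mathlib

set_option autoImplicit false
universe u
open EGA41

namespace Groth.Agent.S5767

theorem dimQuot_le_supportDim {A : Type u} [CommRing A] (M : Type u) [AddCommGroup M]
    [Module A M] (P : PrimeSpectrum A) (hP : P ∈ Module.support A M) :
    ringKrullDim (A ⧸ P.asIdeal) ≤ Module.supportDim A M := by
  rw [ringKrullDim_quotient]
  unfold Module.supportDim
  exact Order.krullDim_le_of_strictMono
    (fun q : PrimeSpectrum.zeroLocus (P.asIdeal : Set A) =>
      (⟨q.1, Module.mem_support_mono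
        (show P ≤ q.1 from fun a ha => (PrimeSpectrum.mem_zeroLocus _ _).1 q.2 ha) hP⟩ :
        Module.support A M))
    (fun a b h => h)

theorem length_le_dimQuot {A : Type u} [CommRing A] (P : PrimeSpectrum A)
    (q : LTSeries (PrimeSpectrum A)) (h : P ≤ q.head) :
    (q.length : WithBot ℕ∞) ≤ ringKrullDim (A ⧸ P.asIdeal) := by
  rw [ringKrullDim_quotient]
  let q' : LTSeries (PrimeSpectrum.zeroLocus (P.asIdeal : Set A)) :=
    { length := q.length
      toFun := fun i => ⟨q i, (PrimeSpectrum.mem_zeroLocus _ _).2
        (fun a ha => (h.trans (q.head_le i)) ha)⟩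
      step := fun i => q.step i }
  exact Order.LTSeries.length_le_krullDim q'

theorem ringKrullDim_ne_top_of_semilocal (A : Type u) [CommRing A] [IsNoetherianRing A]
    [Finite (MaximalSpectrum A)] [Nontrivial A] : ringKrullDim A ≠ ⊤ := by
  classical
  haveI : Fintype (MaximalSpectrum A) := Fintype.ofFinite _
  rw [← Ideal.sup_isMaximal_height_eq_ringKrullDim, ← WithBot.coe_top, Ne, WithBot.coe_inj]
  obtain ⟨n, hn⟩ : ∃ n : ℕ, ∀ m : MaximalSpectrum A, m.asIdeal.height ≤ (n : ℕ∞) := by
    refine ⟨Finset.univ.sup (fun m : MaximalSpectrum A => m.asIdeal.height.toNat), fun m => ?_⟩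
    have hfin : m.asIdeal.height ≠ ⊤ := Ideal.height_ne_top m.isMaximal.ne_top
    calc m.asIdeal.height = ((m.asIdeal.height.toNat : ℕ) : ℕ∞) := (ENat.coe_toNat hfin).symm
      _ ≤ _ := Nat.cast_le.2 (Finset.le_sup
          (f := fun m : MaximalSpectrum A => m.asIdeal.height.toNat) (Finset.mem_univ m))
  have hle : (⨆ (I : Ideal A) (_ : I.IsMaximal), I.height) ≤ (n : ℕ∞) :=
    iSup₂_le fun I hI => hn ⟨I, hI⟩
  intro h
  rw [h] at hle
  exact ENat.coe_ne_top n (top_le_iff.1 hle)

/-- Let A be a semi-local Noetherian ring, M a finitely generated A-module and x an element of the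
Jacobson radical of A. One always has dim(M/xM) ≥ dim(M) - 1; equality dim(M/xM) = dim(M) - 1 holds
if and only if x belongs to none of the prime ideals p of Supp(M) with dim(A/p) = dim(M). Stated as:
dim(M/xM) + 1 = dim(M) iff x avoids those primes. -/
theorem result (A : Type u) [CommRing A] [IsNoetherianRing A]
    [Finite (MaximalSpectrum A)] (M : Type u) [AddCommGroup M] [Module A M] [Module.Finite A M] (x : A)
    (hx : x ∈ Ring.jacobson A) :
    Module.supportDim A (QuotSMulTop x M) + 1 = Module.supportDim A M ↔
      ∀ p : PrimeSpectrum A, p ∈ Module.support A M →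
        ringKrullDim (A ⧸ p.asIdeal) = Module.supportDim A M → x ∉ p.asIdeal := by
  classical
  have hxj : x ∈ (Module.annihilator A M).jacobson := Ideal.ringJacobson_le_jacobson hx
  have hge := Module.supportDim_le_supportDim_quotSMulTop_succ_of_mem_jacobson hxj
  have hsupp : ∀ p : PrimeSpectrum A, p ∈ Module.support A (QuotSMulTop x M) ↔
      p ∈ Module.support A M ∧ x ∈ p.asIdeal := by
    intro p
    rw [Module.support_quotSMulTop, Set.mem_inter_iff, PrimeSpectrum.mem_zeroLocus,
      Set.singleton_subset_iff]
    rfl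
  constructor
  · intro heq p hp hdim hxp
    have hp' : p ∈ Module.support A (QuotSMulTop x M) := (hsupp p).2 ⟨hp, hxp⟩
    have h1 := dimQuot_le_supportDim (QuotSMulTop x M) p hp'
    rw [hdim, ← heq] at h1
    haveI : Nontrivial A := ⟨⟨0, 1, fun h => p.isPrime.ne_top
      ((Ideal.eq_top_iff_one _).2 (by rw [← h]; exact zero_mem _))⟩⟩
    have htop : Module.supportDim A (QuotSMulTop x M) ≠ ⊤ :=
      ne_top_of_le_ne_top (ringKrullDim_ne_top_of_semilocal A)
        (Module.supportDim_le_ringKrullDim _ _)
    have hbot : Module.supportDim A (QuotSMulTop x M) ≠ ⊥ := by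
      rw [Ne, Module.supportDim_eq_bot_iff_subsingleton]
      intro hs
      have h0 := (Module.support_eq_empty_iff (R := A) (M := QuotSMulTop x M)).2 hs
      rw [h0] at hp'
      exact Set.notMem_empty _ hp'
    obtain ⟨e, he⟩ := WithBot.ne_bot_iff_exists.1 hbot
    rw [← he] at h1 htop
    have h2 : e + 1 ≤ e := by exact_mod_cast h1
    have he' : e ≠ ⊤ := fun h => htop (by rw [h]; rfl)
    exact lt_irrefl e ((ENat.add_one_le_iff he').1 h2)
  · intro hav
    refine le_antisymm ?_ hge
    by_cases hs : Subsingleton (QuotSMulTop x M)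
    · rw [(Module.supportDim_eq_bot_iff_subsingleton A (QuotSMulTop x M)).2 hs, WithBot.bot_add]
      exact bot_le
    · rw [not_subsingleton_iff_nontrivial] at hs
      haveI : Nontrivial M := by
        by_contra hM
        rw [not_nontrivial_iff_subsingleton] at hM
        exact not_subsingleton (QuotSMulTop x M)
          (Function.Surjective.subsingleton (Submodule.mkQ_surjective _))
      have hd : Module.supportDim A M ≠ ⊥ :=
        (Module.supportDim_ne_bot_iff_nontrivial A M).2 inferInstance
      obtain ⟨e, he⟩ := WithBot.ne_bot_iff_exists.1 hd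
      haveI : Nonempty (Module.support A (QuotSMulTop x M)) :=
        Module.nonempty_support_of_nontrivial.to_subtype
      have key : ∀ p : LTSeries (Module.support A (QuotSMulTop x M)),
          (p.length : ℕ∞) + 1 ≤ e := by
        intro p
        let q : LTSeries (PrimeSpectrum A) := p.map Subtype.val (fun _ _ h => h)
        have hmem := (hsupp p.head.1).1 p.head.2
        have h1 : (p.length : WithBot ℕ∞) ≤ ringKrullDim (A ⧸ p.head.1.asIdeal) :=
          length_le_dimQuot p.head.1 q (le_of_eq rfl)
        have h2 := dimQuot_le_supportDim M p.head.1 hmem.1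
        have h3 : ringKrullDim (A ⧸ p.head.1.asIdeal) ≠ Module.supportDim A M :=
          fun h => hav _ hmem.1 h hmem.2
        have h4 : (p.length : WithBot ℕ∞) < Module.supportDim A M :=
          lt_of_le_of_lt h1 (lt_of_le_of_ne h2 h3)
        rw [← he] at h4
        have h5 : (p.length : ℕ∞) < e := by exact_mod_cast h4
        exact Order.add_one_le_of_lt h5
      have hL : Module.supportDim A (QuotSMulTop x M) =
          ((⨆ p : LTSeries (Module.support A (QuotSMulTop x M)), (p.length : ℕ∞) : ℕ∞) :
            WithBot ℕ∞) := Order.krullDim_eq_iSup_length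
      rw [hL, ← he, ← WithBot.coe_one, ← WithBot.coe_add, WithBot.coe_le_coe, ENat.iSup_add]
      exact iSup_le key

end Groth.Agent.S5767
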