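import Groth.Statements.S5768
import Mathlib
import Groth.Agent.S3406

set_option autoImplicit false
set_option linter.style.haveILetI false
set_option linter.unusedSectionVars false
set_option linter.unusedVariables false
universe u
open EGA41

namespace Groth.Agent.S5768

section Helpers

open PrimeSpectrum

variable {A : Type u} [CommRing A] {M : Type u} [AddCommGroup M] [Module A M]

theorem zl_get (xs : List A) :
    zeroLocus (Set.range xs.get) = zeroLocus ((Ideal.ofList xs : Ideal A) : Set A) := by
  show zeroLocus (Set.range xs.get) = zeroLocus ((Ideal.span {r | r ∈ xs} : Ideal A) : Set A)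
  rw [zeroLocus_span, Set.range_list_get]

theorem sd_quot [Module.Finite A M] (xs : List A) :
    Module.supportDim A (M ⧸ (Ideal.ofList xs • (⊤ : Submodule A M))) =
      Order.krullDim ↥(Module.support A M ∩ zeroLocus (Set.range xs.get)) := by
  rw [Module.supportDim, Module.support_quotient, zl_get]

theorem supp_append [Module.Finite A M] (xs ys : List A) :
    Module.support A (M ⧸ (Ideal.ofList xs • (⊤ : Submodule A M))) ∩
        zeroLocus (Set.range ys.get) =
      Module.support A (M ⧸ (Ideal.ofList (xs ++ ys) • (⊤ : Submodule A M))) := by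
  rw [Module.support_quotient, Module.support_quotient, Ideal.ofList_append, zeroLocus_sup,
    zl_get, Set.inter_assoc]

theorem range_get_ofFn {n : ℕ} (y : Fin n → A) : Set.range (List.ofFn y).get = Set.range y := by
  rw [Set.range_list_get]
  ext z
  simp only [Set.mem_ofPred_eq, List.mem_ofFn, Set.mem_range]

theorem sd_le_nat [IsNoetherianRing A] [Finite (MaximalSpectrum A)] (N : Type u) [AddCommGroup N]
    [Module A N] [Module.Finite A N] :
    ∃ n₀ : ℕ, Module.supportDim A N ≤ (n₀ : WithBot ℕ∞) := by
  obtain ⟨n₀, x₀, hspan⟩ := Submodule.fg_iff_exists_fin_generating_family.mp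
    (IsNoetherian.noetherian (Ring.jacobson A))
  have hx₀ : ∀ i, x₀ i ∈ Ring.jacobson A := fun i => by
    rw [← hspan]; exact Submodule.subset_span ⟨i, rfl⟩
  refine ⟨n₀, ?_⟩
  have h0 : Order.krullDim ↥(Module.support A N ∩ zeroLocus (Set.range x₀)) ≤ 0 := by
    apply Groth.Agent.S3406.krullDim_le_zero_of_forall_isMaximal
    rintro P ⟨-, hP⟩
    apply Groth.Agent.S3406.isMaximal_of_jacobson_le A P.2
    rw [← hspan]
    exact Submodule.span_le.mpr ((PrimeSpectrum.mem_zeroLocus _ _).mp hP)
  calc Module.supportDim A N ≤ _ + (n₀ : ℕ) := Groth.Agent.S3406.supportDim_le_add A n₀ N x₀ hx₀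
    _ ≤ 0 + (n₀ : ℕ) := by gcongr
    _ = (n₀ : WithBot ℕ∞) := zero_add _

theorem sd_eq_nat [IsNoetherianRing A] [Finite (MaximalSpectrum A)] (N : Type u) [AddCommGroup N]
    [Module A N] [Module.Finite A N] (hnb : Module.supportDim A N ≠ ⊥) :
    ∃ d : ℕ, Module.supportDim A N = (d : WithBot ℕ∞) := by
  obtain ⟨n₀, hbound⟩ := sd_le_nat (A := A) N
  obtain ⟨a, ha⟩ := WithBot.ne_bot_iff_exists.mp hnb
  rw [← ha] at hbound
  have ha' : a ≤ (n₀ : ℕ∞) := by exact_mod_cast hbound
  obtain ⟨m, rfl⟩ := ENat.ne_top_iff_exists.mp (ne_top_of_le_ne_top (ENat.natCast_ne_top n₀) ha')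
  exact ⟨m, ha.symm⟩

end Helpers


/-- Let A be a semi-local Noetherian ring with Jacobson radical r, M a nonzero finitely generated
A-module and x_1, ..., x_k elements of r. One always has dim(M/(x_1 M + ... + x_k M)) ≥ dim(M) - k,
and equality holds if and only if there exist further elements of r which together with the x_i form
a system of parameters for M (dim(M) elements of r modulo which M has finite length). -/
theorem result (A : Type u) [CommRing A]
    [IsNoetherianRing A] [Finite (MaximalSpectrum A)] (M : Type u) [AddCommGroup M] [Module A M]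
    [Module.Finite A M] [Nontrivial M] (xs : List A) (hxs : ∀ x ∈ xs, x ∈ Ring.jacobson A) :
    Module.supportDim A (M ⧸ (Ideal.ofList xs • (⊤ : Submodule A M))) + xs.length = Module.supportDim A M ↔
      ∃ ys : List A, (∀ y ∈ ys, y ∈ Ring.jacobson A) ∧
        ((xs ++ ys).length : WithBot ℕ∞) = Module.supportDim A M ∧
        IsFiniteLength A (M ⧸ (Ideal.ofList (xs ++ ys) • (⊤ : Submodule A M))) := by
  have hxs' : ∀ i, xs.get i ∈ Ring.jacobson A := fun i => hxs _ (List.get_mem xs i)
  have h1 : Module.supportDim A M ≤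
      Module.supportDim A (M ⧸ (Ideal.ofList xs • (⊤ : Submodule A M))) + (xs.length : ℕ) := by
    rw [sd_quot]
    exact Groth.Agent.S3406.supportDim_le_add A xs.length M xs.get hxs'
  constructor
  · intro heq
    have hnb : Module.supportDim A (M ⧸ (Ideal.ofList xs • (⊤ : Submodule A M))) ≠ ⊥ := by
      intro hb
      rw [hb, WithBot.bot_add] at heq
      exact Module.supportDim_ne_bot_of_nontrivial A M heq.symm
    obtain ⟨d, hd⟩ := sd_eq_nat (A := A) (M ⧸ (Ideal.ofList xs • (⊤ : Submodule A M))) hnb
    obtain ⟨y, hy, hK⟩ := Groth.Agent.S3406.exists_of_supportDim_le A d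
      (M ⧸ (Ideal.ofList xs • (⊤ : Submodule A M))) hd.le
    refine ⟨List.ofFn y, ?_, ?_, ?_⟩
    · intro z hz
      obtain ⟨i, rfl⟩ := List.mem_ofFn.1 hz
      exact hy i
    · rw [← heq, hd, List.length_append, List.length_ofFn]
      push_cast
      rw [add_comm]
    · rw [Groth.Agent.S3406.isFiniteLength_iff_supportDim_le_zero, Module.supportDim, ← supp_append,
        range_get_ofFn]
      exact hK
  · rintro ⟨ys, hys, hlen, hFL⟩
    have hys' : ∀ i, ys.get i ∈ Ring.jacobson A := fun i => hys _ (List.get_mem ys i)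
    have h0 : Order.krullDim ↥(Module.support A (M ⧸ (Ideal.ofList xs • (⊤ : Submodule A M))) ∩
        PrimeSpectrum.zeroLocus (Set.range ys.get)) ≤ 0 := by
      rw [supp_append]
      exact (Groth.Agent.S3406.isFiniteLength_iff_supportDim_le_zero A _).mp hFL
    have h2 : Module.supportDim A (M ⧸ (Ideal.ofList xs • (⊤ : Submodule A M))) ≤
        ((ys.length : ℕ) : WithBot ℕ∞) := by
      calc Module.supportDim A (M ⧸ (Ideal.ofList xs • (⊤ : Submodule A M)))
          ≤ _ + (ys.length : ℕ) := Groth.Agent.S3406.supportDim_le_add A ys.length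
            (M ⧸ (Ideal.ofList xs • (⊤ : Submodule A M))) ys.get hys'
        _ ≤ 0 + (ys.length : ℕ) := by gcongr
        _ = ((ys.length : ℕ) : WithBot ℕ∞) := zero_add _
    apply le_antisymm
    · calc Module.supportDim A (M ⧸ (Ideal.ofList xs • (⊤ : Submodule A M))) + (xs.length : ℕ)
          ≤ ((ys.length : ℕ) : WithBot ℕ∞) + (xs.length : ℕ) := by gcongr
        _ = Module.supportDim A M := by
          rw [← hlen, List.length_append]
          push_cast
          rw [add_comm]
    · exact h1

end Groth.Agent.S5768
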