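import Groth.Statements.S5769
import Mathlib

set_option autoImplicit false
universe u
open EGA41

namespace Groth.Agent.S5769

/-- Let φ : A → B be a local homomorphism of Noetherian local rings, m the maximal ideal of A and k its
residue field. Then dim(B) ≤ dim(A) + dim(B ⊗_A k), where B ⊗_A k = B/mB. -/
theorem result (A B : Type u) [CommRing A] [CommRing B]
    [IsLocalRing A] [IsLocalRing B] [IsNoetherianRing A] [IsNoetherianRing B] [Algebra A B]
    [IsLocalHom (algebraMap A B)] :
    ringKrullDim B ≤ ringKrullDim A +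
      ringKrullDim (B ⧸ (IsLocalRing.maximalIdeal A).map (algebraMap A B)) := by
  have hcomap : (IsLocalRing.maximalIdeal B).comap (algebraMap A B) = IsLocalRing.maximalIdeal A :=
    ((IsLocalRing.local_hom_TFAE (algebraMap A B)).out 0 4).mp (inferInstance : IsLocalHom (algebraMap A B))
  have hmap : (IsLocalRing.maximalIdeal A).map (algebraMap A B) ≤ IsLocalRing.maximalIdeal B :=
    ((IsLocalRing.local_hom_TFAE (algebraMap A B)).out 0 2).mp (inferInstance : IsLocalHom (algebraMap A B))
  haveI : (IsLocalRing.maximalIdeal B).LiesOver (IsLocalRing.maximalIdeal A) := ⟨hcomap.symm⟩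
  have h := Ideal.height_le_height_add_of_liesOver (IsLocalRing.maximalIdeal A)
    (IsLocalRing.maximalIdeal B)
  have hne : (IsLocalRing.maximalIdeal B).map
      (Ideal.Quotient.mk ((IsLocalRing.maximalIdeal A).map (algebraMap A B))) ≠ ⊤ := by
    intro htop
    have h1 : (1 : B ⧸ (IsLocalRing.maximalIdeal A).map (algebraMap A B)) ∈
        (IsLocalRing.maximalIdeal B).map
          (Ideal.Quotient.mk ((IsLocalRing.maximalIdeal A).map (algebraMap A B))) := by
      rw [htop]; trivial
    obtain ⟨x, hx, hx1⟩ :=
      (Ideal.mem_map_iff_of_surjective _ Ideal.Quotient.mk_surjective).mp h1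
    have h2 : x - 1 ∈ (IsLocalRing.maximalIdeal A).map (algebraMap A B) := by
      rw [← Ideal.Quotient.eq, hx1, map_one]
    have h3 : (1 : B) ∈ IsLocalRing.maximalIdeal B := by
      have := (IsLocalRing.maximalIdeal B).sub_mem hx (hmap h2)
      simpa using this
    exact (Ideal.ne_top_iff_one _).mp (IsLocalRing.maximalIdeal.isMaximal B).ne_top h3
  have h2 := Ideal.height_le_ringKrullDim_of_ne_top hne
  calc ringKrullDim B = ((IsLocalRing.maximalIdeal B).height : WithBot ℕ∞) :=
        (IsLocalRing.maximalIdeal_height_eq_ringKrullDim).symm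
    _ ≤ (((IsLocalRing.maximalIdeal A).height + ((IsLocalRing.maximalIdeal B).map
          (Ideal.Quotient.mk ((IsLocalRing.maximalIdeal A).map (algebraMap A B)))).height : ℕ∞) :
          WithBot ℕ∞) := WithBot.coe_le_coe.mpr h
    _ = ((IsLocalRing.maximalIdeal A).height : WithBot ℕ∞) + (((IsLocalRing.maximalIdeal B).map
          (Ideal.Quotient.mk ((IsLocalRing.maximalIdeal A).map (algebraMap A B)))).height :
          WithBot ℕ∞) := WithBot.coe_add _ _
    _ ≤ ringKrullDim A +
          ringKrullDim (B ⧸ (IsLocalRing.maximalIdeal A).map (algebraMap A B)) :=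
        add_le_add (le_of_eq IsLocalRing.maximalIdeal_height_eq_ringKrullDim) h2

end Groth.Agent.S5769
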