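import Groth.Statements.S5771
import Mathlib
import Groth.Agent.S5769

set_option autoImplicit false
universe u
open EGA41

namespace Groth.Agent.S5771

theorem dim_le (A B : Type u) [CommRing A] [CommRing B]
    [IsLocalRing A] [IsLocalRing B] [IsNoetherianRing A] [IsNoetherianRing B] [Algebra A B]
    [IsLocalHom (algebraMap A B)]
    (hdef : ringKrullDim (B ⧸ (IsLocalRing.maximalIdeal A).map (algebraMap A B)) ≤ 0) :
    ringKrullDim B ≤ ringKrullDim A := by
  have h := Groth.Agent.S5769.result A B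
  calc ringKrullDim B ≤ ringKrullDim A +
        ringKrullDim (B ⧸ (IsLocalRing.maximalIdeal A).map (algebraMap A B)) := h
    _ ≤ ringKrullDim A + 0 := add_le_add le_rfl hdef
    _ = ringKrullDim A := add_zero _

/-- Let φ : A → B be a local homomorphism of Noetherian local rings, m the maximal ideal of A, and
suppose mB is an ideal of definition of B (equivalently dim(B/mB) = 0). Then dim(B) ≤ dim(A); if
moreover A is an integral domain and dim(A) = dim(B), then φ is injective. -/
theorem result (A B : Type u) [CommRing A] [CommRing B]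
    [IsLocalRing A] [IsLocalRing B] [IsNoetherianRing A] [IsNoetherianRing B] [Algebra A B]
    [IsLocalHom (algebraMap A B)]
    (hdef : ringKrullDim (B ⧸ (IsLocalRing.maximalIdeal A).map (algebraMap A B)) = 0) :
    ringKrullDim B ≤ ringKrullDim A ∧
      (IsDomain A → ringKrullDim A = ringKrullDim B → Function.Injective (algebraMap A B)) := by
  refine ⟨dim_le A B hdef.le, ?_⟩
  intro hdom hdim
  rw [injective_iff_map_eq_zero]
  intro x hx
  by_contra hx0
  have hxm : x ∈ IsLocalRing.maximalIdeal A := by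
    rw [IsLocalRing.mem_maximalIdeal, mem_nonunits_iff]
    intro hu
    have h1 := hu.map (algebraMap A B)
    rw [hx] at h1
    exact not_isUnit_zero h1
  have hI : Ideal.span {x} ≤ RingHom.ker (algebraMap A B) := by
    rw [Ideal.span_le, Set.singleton_subset_iff]
    exact hx
  have hIm : Ideal.span {x} ≤ IsLocalRing.maximalIdeal A :=
    (Ideal.span_singleton_le_iff_mem _).mpr hxm
  haveI : Nontrivial (A ⧸ Ideal.span {x}) :=
    Ideal.Quotient.nontrivial_iff.mpr
      (ne_top_of_le_ne_top (IsLocalRing.maximalIdeal.isMaximal A).ne_top hIm)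
  haveI : IsLocalRing (A ⧸ Ideal.span {x}) :=
    IsLocalRing.of_surjective' (Ideal.Quotient.mk (Ideal.span {x})) Ideal.Quotient.mk_surjective
  letI : Algebra (A ⧸ Ideal.span {x}) B :=
    (Ideal.Quotient.lift (Ideal.span {x}) (algebraMap A B) (fun a ha => hI ha)).toAlgebra
  have halg : ∀ a : A, algebraMap (A ⧸ Ideal.span {x}) B (Ideal.Quotient.mk _ a) =
      algebraMap A B a := fun a => rfl
  haveI : IsLocalHom (algebraMap (A ⧸ Ideal.span {x}) B) := ⟨by
    intro a ha
    obtain ⟨a', rfl⟩ := Ideal.Quotient.mk_surjective a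
    rw [halg] at ha
    exact (isUnit_of_map_unit (algebraMap A B) a' ha).map (Ideal.Quotient.mk (Ideal.span {x}))⟩
  have hmk : ∀ a ∈ IsLocalRing.maximalIdeal A,
      Ideal.Quotient.mk (Ideal.span {x}) a ∈ IsLocalRing.maximalIdeal (A ⧸ Ideal.span {x}) := by
    intro a ha
    rw [IsLocalRing.mem_maximalIdeal, mem_nonunits_iff]
    intro hu
    obtain ⟨b', hb'⟩ := hu.exists_right_inv
    obtain ⟨b, rfl⟩ := Ideal.Quotient.mk_surjective b'
    rw [← map_mul, ← map_one (Ideal.Quotient.mk (Ideal.span {x})), Ideal.Quotient.eq] at hb'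
    have h1 : a * b ∈ IsLocalRing.maximalIdeal A := Ideal.mul_mem_right _ _ ha
    have h2 : (1 : A) ∈ IsLocalRing.maximalIdeal A := by
      have := (IsLocalRing.maximalIdeal A).sub_mem h1 (hIm hb')
      simpa using this
    exact (Ideal.ne_top_iff_one _).mp (IsLocalRing.maximalIdeal.isMaximal A).ne_top h2
  have hJJ' : (IsLocalRing.maximalIdeal A).map (algebraMap A B) ≤
      (IsLocalRing.maximalIdeal (A ⧸ Ideal.span {x})).map
        (algebraMap (A ⧸ Ideal.span {x}) B) := by
    rw [Ideal.map_le_iff_le_comap]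
    intro a ha
    rw [Ideal.mem_comap, ← halg]
    exact Ideal.mem_map_of_mem _ (hmk a ha)
  have hdim' : ringKrullDim (B ⧸ (IsLocalRing.maximalIdeal (A ⧸ Ideal.span {x})).map
      (algebraMap (A ⧸ Ideal.span {x}) B)) ≤ 0 := by
    rw [← hdef]
    exact ringKrullDim_le_of_surjective (Ideal.Quotient.factor hJJ')
      (Ideal.Quotient.factor_surjective hJJ')
  have h1 : ringKrullDim B ≤ ringKrullDim (A ⧸ Ideal.span {x}) :=
    dim_le (A ⧸ Ideal.span {x}) B hdim'
  have h2 : ringKrullDim (A ⧸ Ideal.span {x}) + 1 ≤ ringKrullDim A :=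
    ringKrullDim_quotient_succ_le_of_nonZeroDivisor (mem_nonZeroDivisors_of_ne_zero hx0)
  have h3 : ringKrullDim (A ⧸ Ideal.span {x}) + 1 ≤ ringKrullDim (A ⧸ Ideal.span {x}) := by
    rw [hdim] at h2
    exact h2.trans h1
  have hlt : ringKrullDim (A ⧸ Ideal.span {x}) < ⊤ := ringKrullDim_lt_top
  have hnn : (0 : WithBot ℕ∞) ≤ ringKrullDim (A ⧸ Ideal.span {x}) :=
    ringKrullDim_nonneg_of_nontrivial
  have hbot : ringKrullDim (A ⧸ Ideal.span {x}) ≠ ⊥ := by
    intro hb
    rw [hb] at hnn
    exact absurd hnn (by simp)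
  obtain ⟨e, he⟩ := WithBot.ne_bot_iff_exists.mp hbot
  rw [← he] at h3 hlt
  have he_top : e ≠ ⊤ := by
    intro h
    rw [h] at hlt
    exact lt_irrefl _ hlt
  have h4 : e + 1 ≤ e := by exact_mod_cast h3
  exact lt_irrefl e ((ENat.add_one_le_iff he_top).mp h4)

end Groth.Agent.S5771
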