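import Groth.Statements.S5778
import Groth.Agent.H17.RegHilb
import Groth.Agent.H17.HS.Assoc

set_option autoImplicit false
universe u
open EGA41

namespace Groth.Agent.S5778

open Groth.Agent.H17.HS Polynomial

/-- Let A be a Noetherian local ring with maximal ideal m, residue field k, and let r be the dimension
of the k-vector space m/m². Then A is regular if and only if the canonical surjection of graded
k-algebras from the symmetric algebra of m/m² onto the associated graded ring of A for the m-adic
filtration is bijective. Since that surjection is bijective exactly when source and target have the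
same length in every degree, the condition is expressed here as: length_A(A/m^(s+1)) equals the
binomial coefficient C(s+r, r) for every s ≥ 0. -/
theorem result (A : Type u) [CommRing A] [IsLocalRing A]
    [IsNoetherianRing A] :
    IsRegularLocalRing A ↔
      ∀ s : ℕ, Module.length A (A ⧸ IsLocalRing.maximalIdeal A ^ (s + 1)) =
        ((s + Module.finrank (IsLocalRing.ResidueField A) (IsLocalRing.CotangentSpace A)).choose s : ℕ∞) := by
  constructor
  · intro hreg
    intro s
    have hr := (IsRegularLocalRing.iff_finrank_cotangentSpace A).mp hreg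
    rw [Groth.Agent.H17.RegHilb.length_quotient_maximalIdeal_pow A _ hr.symm s, Nat.choose_symm_add]
  · intro h
    obtain ⟨r, hr⟩ : ∃ r : ℕ, r = Module.finrank (IsLocalRing.ResidueField A)
      (IsLocalRing.CotangentSpace A) := ⟨_, rfl⟩
    rw [← hr] at h
    haveI := finite_maximalSpectrum_of_isLocalRing (A := A)
    obtain ⟨D, hD⟩ := exists_supportDim_eq_natCast (A := A) A
    have hk : IsLocalRing.maximalIdeal A ^ 1 ≤ IsLocalRing.maximalIdeal A := by rw [pow_one]
    obtain ⟨P, ⟨K, hK⟩, hdeg⟩ := exists_samuelPoly_of_primary hk A
    have hPD : P.natDegree ≤ D := hdeg D hD.le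
    -- the binomial polynomial
    obtain ⟨Q, hQ⟩ : ∃ Q : ℚ[X], Q = C ((r.factorial : ℚ)⁻¹) * ascPochhammer ℚ r := ⟨_, rfl⟩
    have hfac : (r.factorial : ℚ) ≠ 0 := Nat.cast_ne_zero.mpr (Nat.factorial_ne_zero r)
    have hQdeg : Q.natDegree = r := by
      rw [hQ, natDegree_C_mul (inv_ne_zero hfac), ascPochhammer_natDegree]
    have hQeval : ∀ s : ℕ, Q.eval ((s + 1 : ℕ) : ℚ) = ((s + r).choose s : ℚ) := by
      intro s
      rw [hQ, eval_mul, eval_C, ascPochhammer_nat_eq_natCast_ascFactorial,
        Nat.ascFactorial_eq_factorial_mul_choose, Nat.choose_symm_add]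
      push_cast
      field_simp
    have hsam : ∀ s : ℕ, samuel (IsLocalRing.maximalIdeal A) A (s + 1) = (s + r).choose s := by
      intro s
      unfold samuel cn colen
      have h1 : IsLocalRing.maximalIdeal A ^ (s + 1) • (⊤ : Submodule A A) =
          IsLocalRing.maximalIdeal A ^ (s + 1) := by
        rw [smul_eq_mul, Ideal.mul_top]
      rw [h1, h s, ENat.toNat_natCast]
    have hrle : r ≤ P.natDegree := by
      rw [← hQdeg]
      refine natDegree_le_of_eventually_le (N := max K 1) ?_ ?_
      · intro n hn
        obtain ⟨s, rfl⟩ : ∃ s, n = s + 1 := ⟨n - 1, by have := le_trans (le_max_right K 1) hn; omega⟩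
        rw [hQeval]
        exact Nat.cast_nonneg _
      · intro n hn
        obtain ⟨s, rfl⟩ : ∃ s, n = s + 1 := ⟨n - 1, by have := le_trans (le_max_right K 1) hn; omega⟩
        rw [hQeval, ← hK (s + 1) (le_trans (le_max_left K 1) hn), hsam]
    have hrD : r ≤ D := hrle.trans hPD
    refine IsRegularLocalRing.of_spanFinrank_maximalIdeal_le A ?_
    rw [IsLocalRing.spanFinrank_maximalIdeal_eq_finrank_cotangentSpace, ← hr,
      ← Module.supportDim_self_eq_ringKrullDim, hD]
    exact_mod_cast hrD


end Groth.Agent.S5778
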