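import Groth.Statements.S5780
import Mathlib.RingTheory.Ideal.AssociatedPrime.Finiteness
import Mathlib.RingTheory.Nakayama

set_option autoImplicit false
universe u
open EGA41

namespace Groth.Agent.S5780

/-- Let A be a Noetherian local ring with maximal ideal m. If every element of m which is not in m² is a
zero divisor in A, then there is a nonzero c in A with c m = 0, i.e. m is an associated prime of A. -/
theorem result (A : Type u) [CommRing A]
    [IsLocalRing A] [IsNoetherianRing A]
    (h : ∀ a ∈ IsLocalRing.maximalIdeal A, a ∉ IsLocalRing.maximalIdeal A ^ 2 → ¬ IsSMulRegular A a) :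
    IsLocalRing.maximalIdeal A ∈ associatedPrimes A A := by
  have hsub : ((IsLocalRing.maximalIdeal A : Ideal A) : Set A) ⊆
      ((IsLocalRing.maximalIdeal A ^ 2 : Ideal A) : Set A) ∪ ((IsLocalRing.maximalIdeal A ^ 2 : Ideal A) : Set A) ∪
      ⋃ p ∈ (((associatedPrimes.finite A A).toFinset : Finset (Ideal A)) : Set (Ideal A)), (p : Set A) := by
    intro r hr
    by_cases hr2 : r ∈ IsLocalRing.maximalIdeal A ^ 2
    · exact Or.inl (Or.inl hr2)
    · right
      have : r ∈ ⋃ p ∈ associatedPrimes A A, (p : Set A) := by
        rw [biUnion_associatedPrimes_eq_compl_regular A A]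
        exact h r hr hr2
      simpa using this
  have hcases := (Ideal.subset_union_prime' (s := (associatedPrimes.finite A A).toFinset)
    (f := fun p : Ideal A => p) (a := IsLocalRing.maximalIdeal A ^ 2) (b := IsLocalRing.maximalIdeal A ^ 2)
    (fun i hi => by
      have : i ∈ associatedPrimes A A := by simpa using hi
      exact this.isPrime)).mp hsub
  have hsq : IsLocalRing.maximalIdeal A ≤ IsLocalRing.maximalIdeal A ^ 2 →
      IsLocalRing.maximalIdeal A ∈ associatedPrimes A A := by
    intro hle
    have hbot : IsLocalRing.maximalIdeal A = ⊥ := by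
      apply Submodule.eq_bot_of_le_smul_of_le_jacobson_bot (IsLocalRing.maximalIdeal A)
        (IsLocalRing.maximalIdeal A) (IsNoetherian.noetherian _)
      · rw [smul_eq_mul, ← pow_two]
        exact hle
      · exact IsLocalRing.maximalIdeal_le_jacobson _
    rw [AssociatedPrimes.mem_iff, isAssociatedPrime_iff]
    refine ⟨inferInstance, 1, ?_⟩
    rw [hbot]
    ext r
    simp [Submodule.mem_colon_singleton]
  rcases hcases with h1 | h1 | ⟨p, hp, hle⟩
  · exact hsq h1
  · exact hsq h1
  · have hp' : p ∈ associatedPrimes A A := by simpa using hp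
    have hpp : p.IsPrime := hp'.isPrime
    have : p = IsLocalRing.maximalIdeal A :=
      le_antisymm (IsLocalRing.le_maximalIdeal hpp.ne_top) hle
    rwa [← this]

end Groth.Agent.S5780
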