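import Groth.Statements.S5781
import Mathlib.RingTheory.Ideal.Cotangent
import Mathlib.LinearAlgebra.Basis.VectorSpace

set_option autoImplicit false
universe u
open EGA41
open scoped Pointwise

namespace Groth.Agent.S5781

/-- Suppose A is a Noetherian local ring whose maximal ideal is m, and take a ∈ m with a ∉ m². Then the
quotient m/am contains a direct summand isomorphic to m/Aa: concretely, one can find A-linear maps f
: m/Aa → m/am and g : m/am → m/Aa such that g ∘ f is the identity. -/
theorem result (A : Type u) [CommRing A] [IsLocalRing A]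
    [IsNoetherianRing A] (a : A) (ha : a ∈ IsLocalRing.maximalIdeal A) (ha2 : a ∉ IsLocalRing.maximalIdeal A ^ 2) :
    ∃ (f : (↥(IsLocalRing.maximalIdeal A) ⧸ Submodule.span A {(⟨a, ha⟩ : ↥(IsLocalRing.maximalIdeal A))}) →ₗ[A]
          QuotSMulTop a ↥(IsLocalRing.maximalIdeal A))
      (g : QuotSMulTop a ↥(IsLocalRing.maximalIdeal A) →ₗ[A]
          (↥(IsLocalRing.maximalIdeal A) ⧸ Submodule.span A {(⟨a, ha⟩ : ↥(IsLocalRing.maximalIdeal A))})),
      g.comp f = LinearMap.id := by
  classical
  let a' : IsLocalRing.maximalIdeal A := ⟨a, ha⟩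
  let v : IsLocalRing.CotangentSpace A := (IsLocalRing.maximalIdeal A).toCotangent a'
  have hv : v ≠ 0 := fun h => ha2 (((IsLocalRing.maximalIdeal A).toCotangent_eq_zero a').mp h)
  have hker : LinearMap.ker (LinearMap.toSpanSingleton (IsLocalRing.ResidueField A)
      (IsLocalRing.CotangentSpace A) v) = ⊥ := by
    rw [LinearMap.ker_eq_bot]
    intro c c' hcc'
    have h0 : (c - c') • v = 0 := by
      simpa [sub_smul, sub_eq_zero] using hcc'
    rcases smul_eq_zero.mp h0 with h | h
    · exact sub_eq_zero.mp h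
    · exact absurd h hv
  obtain ⟨lam, hlam⟩ := LinearMap.exists_leftInverse_of_injective _ hker
  have hlamv : lam v = 1 := by
    have := LinearMap.congr_fun hlam 1
    simpa using this
  let lamA : IsLocalRing.CotangentSpace A →ₗ[A] IsLocalRing.ResidueField A := lam.restrictScalars A
  have h1 : a • (⊤ : Submodule A (IsLocalRing.maximalIdeal A)) ≤
      LinearMap.ker (lamA.comp (IsLocalRing.maximalIdeal A).toCotangent) := by
    intro x hx
    rw [Submodule.mem_smul_pointwise_iff_exists] at hx
    obtain ⟨y, -, rfl⟩ := hx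
    rw [LinearMap.mem_ker, map_smul, Algebra.smul_def]
    have : algebraMap A (IsLocalRing.ResidueField A) a = 0 :=
      (IsLocalRing.residue_eq_zero_iff a).mpr ha
    rw [this, zero_mul]
  let lam' : QuotSMulTop a (IsLocalRing.maximalIdeal A) →ₗ[A] IsLocalRing.ResidueField A :=
    Submodule.liftQ _ (lamA.comp (IsLocalRing.maximalIdeal A).toCotangent) h1
  have h2 : IsLocalRing.maximalIdeal A ≤ LinearMap.ker (LinearMap.toSpanSingleton A
      (QuotSMulTop a (IsLocalRing.maximalIdeal A)) (Submodule.Quotient.mk a')) := by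
    intro r hr
    rw [LinearMap.mem_ker, LinearMap.toSpanSingleton_apply, ← Submodule.Quotient.mk_smul,
      Submodule.Quotient.mk_eq_zero, Submodule.mem_smul_pointwise_iff_exists]
    refine ⟨⟨r, hr⟩, trivial, ?_⟩
    ext
    simp [a', mul_comm]
  let iota : IsLocalRing.ResidueField A →ₗ[A] QuotSMulTop a (IsLocalRing.maximalIdeal A) :=
    Submodule.liftQ (IsLocalRing.maximalIdeal A) _ h2
  let f' : QuotSMulTop a (IsLocalRing.maximalIdeal A) →ₗ[A] QuotSMulTop a (IsLocalRing.maximalIdeal A) :=
    LinearMap.id - iota.comp lam'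
  have hlam'a : lam' (Submodule.Quotient.mk a') = 1 := by
    change Submodule.liftQ _ (lamA.comp (IsLocalRing.maximalIdeal A).toCotangent) h1
      (Submodule.Quotient.mk a') = 1
    rw [Submodule.liftQ_apply]
    exact hlamv
  have hiota1 : iota 1 = Submodule.Quotient.mk a' := by
    change Submodule.liftQ (IsLocalRing.maximalIdeal A) _ h2 (Submodule.Quotient.mk (1 : A)) = _
    rw [Submodule.liftQ_apply, LinearMap.toSpanSingleton_apply, one_smul]
  have hf'a : f' (Submodule.Quotient.mk a') = 0 := by
    simp only [f', LinearMap.sub_apply, LinearMap.id_apply, LinearMap.comp_apply]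
    rw [hlam'a, hiota1, sub_self]
  have h3 : Submodule.span A {a'} ≤ LinearMap.ker (f'.comp (Submodule.mkQ _)) := by
    rw [Submodule.span_le, Set.singleton_subset_iff]
    exact hf'a
  have h4 : a • (⊤ : Submodule A (IsLocalRing.maximalIdeal A)) ≤
      (Submodule.span A {a'}).comap LinearMap.id := by
    intro x hx
    rw [Submodule.mem_smul_pointwise_iff_exists] at hx
    obtain ⟨y, -, rfl⟩ := hx
    rw [Submodule.mem_comap, LinearMap.id_apply, Submodule.mem_span_singleton]
    refine ⟨(y : A), ?_⟩
    ext
    simp [a', mul_comm]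
  let g : QuotSMulTop a (IsLocalRing.maximalIdeal A) →ₗ[A]
      (IsLocalRing.maximalIdeal A ⧸ Submodule.span A {a'}) := Submodule.mapQ _ _ LinearMap.id h4
  have hgiota : ∀ c, g (iota c) = 0 := by
    intro c
    obtain ⟨r, rfl⟩ := Submodule.Quotient.mk_surjective _ c
    change g (Submodule.liftQ (IsLocalRing.maximalIdeal A) _ h2 (Submodule.Quotient.mk r)) = 0
    rw [Submodule.liftQ_apply, LinearMap.toSpanSingleton_apply, map_smul]
    change r • Submodule.Quotient.mk a' = (0 : IsLocalRing.maximalIdeal A ⧸ Submodule.span A {a'})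
    rw [← Submodule.Quotient.mk_smul, Submodule.Quotient.mk_eq_zero]
    exact Submodule.smul_mem _ _ (Submodule.mem_span_singleton_self a')
  refine ⟨Submodule.liftQ _ (f'.comp (Submodule.mkQ (a • ⊤))) h3, g, ?_⟩
  apply Submodule.linearMap_qext
  ext x
  simp only [LinearMap.comp_apply, Submodule.mkQ_apply, Submodule.liftQ_apply, LinearMap.id_apply,
    f', LinearMap.sub_apply, map_sub, hgiota, sub_zero]
  rfl

end Groth.Agent.S5781
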