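import Groth.Statements.S5783
import Mathlib
import Groth.Agent.S0605
import Groth.Agent.S5756
import Groth.Agent.H72.RegLoc
import Groth.Agent.H54.IntegralDim

set_option autoImplicit false
set_option linter.style.haveILetI false
set_option linter.unusedSectionVars false
set_option linter.unusedVariables false
universe u
open EGA41

namespace Groth.Agent.S5783

section Helpers

theorem exists_nat_of_le (X : WithBot ℕ∞) (n : ℕ) (hle : X ≤ (n : WithBot ℕ∞)) (hnb : X ≠ ⊥) :
    ∃ e : ℕ, X = (e : WithBot ℕ∞) ∧ e ≤ n := by
  induction X with
  | bot => exact absurd rfl hnb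
  | coe y =>
    induction y with
    | top =>
      exfalso
      have h' : (⊤ : ℕ∞) ≤ (n : ℕ∞) := by exact_mod_cast hle
      simp at h'
    | coe m => exact ⟨m, rfl, by exact_mod_cast hle⟩

end Helpers


/-- Let A be a regular local ring, B a local ring and ρ : A → B a local homomorphism making B a finitely
generated A-module. Then B is a free A-module if and only if B is a Cohen-Macaulay ring and ρ is
injective (the latter being equivalent to dim(B) = dim(A)). -/
theorem result (A B : Type u) [CommRing A] [CommRing B]
    [IsRegularLocalRing A] [IsLocalRing B] [Algebra A B] [IsLocalHom (algebraMap A B)] [Module.Finite A B] :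
    Module.Free A B ↔ LocCoh.IsCohenMacaulayLocalRing B ∧ Function.Injective (algebraMap A B) := by
  haveI : IsNoetherianRing B := IsNoetherianRing.of_finite A B
  haveI : Algebra.IsIntegral A B := Algebra.IsIntegral.of_finite A B
  have hreg := (isRegularLocalRing_iff A).mp inferInstance
  obtain ⟨d, hd⟩ : ∃ d : ℕ, ringKrullDim A = d := ⟨_, hreg.symm⟩
  have hAA : LocCoh.depth A A = d := Groth.Agent.H72.RegLoc.depth_self_eq A d hd
  have hAB : LocCoh.depth A B = LocCoh.depth B B := Groth.Agent.S5756.result A B B
  constructor
  · intro hfree
    haveI := hfree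
    have hinj : Function.Injective (algebraMap A B) := FaithfulSMul.algebraMap_injective A B
    have hdimB : ringKrullDim B = d :=
      (Groth.Agent.H54.ringKrullDim_eq_of_isIntegral_of_injective hinj).trans hd
    haveI : Module.Projective A B := inferInstance
    have hproj : CategoryTheory.Projective (ModuleCat.of A B) :=
      (IsProjective.iff_projective (R := A) B).mp inferInstance
    have hle : CategoryTheory.projectiveDimension (ModuleCat.of A B) ≤ ((0 : ℕ) : WithBot ℕ∞) := by
      rw [CategoryTheory.projectiveDimension_le_iff]
      exact CategoryTheory.projective_iff_hasProjectiveDimensionLT_one.mp hproj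
    have hnb : CategoryTheory.projectiveDimension (ModuleCat.of A B) ≠ ⊥ := by
      rw [Ne, CategoryTheory.projectiveDimension_eq_bot_iff, ModuleCat.isZero_iff_subsingleton]
      exact not_subsingleton B
    obtain ⟨e, he, he0⟩ := exists_nat_of_le _ 0 hle hnb
    have he0' : e = 0 := by omega
    subst he0'
    have hABf := Groth.Agent.S0604.result A B 0 he
    rw [hAA, Nat.cast_zero, zero_add] at hABf
    refine ⟨{ supportDim_eq_depth := ?_ }, hinj⟩
    rw [Module.supportDim_self_eq_ringKrullDim, hdimB, ← hAB, ← hABf]
    rfl
  · rintro ⟨hCM, hinj⟩
    apply Groth.Agent.S0605.result A B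
    rw [hAB, ← hCM.supportDim_eq_depth, Module.supportDim_self_eq_ringKrullDim]
    exact Groth.Agent.H54.ringKrullDim_eq_of_isIntegral_of_injective hinj

end Groth.Agent.S5783
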