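import Groth.Statements.S5787
import Groth.Agent.S5150
import Mathlib.RingTheory.Regular.Category
import Mathlib.Algebra.Homology.DerivedCategory.Ext.ExactSequences
import Mathlib.RingTheory.LocalRing.ResidueField.Basic

set_option autoImplicit false
universe u
open CategoryTheory
open EGA41

namespace Groth.Agent.S5787

open CategoryTheory Abelian RingTheory.Sequence in
lemma main (A : Type u) [CommRing A] [IsLocalRing A] [IsNoetherianRing A] :
    ∀ (xs : List A) (M : Type u) [AddCommGroup M] [Module A M],
      (∀ x ∈ xs, x ∈ IsLocalRing.maximalIdeal A) → IsWeaklyRegular M xs →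
      Nonempty ((IsLocalRing.ResidueField A →ₗ[A]
          (M ⧸ (Ideal.ofList xs • (⊤ : Submodule A M)))) ≃+
        Abelian.Ext (ModuleCat.of A (IsLocalRing.ResidueField A)) (ModuleCat.of A M)
          xs.length) := by
  intro xs
  induction xs with
  | nil =>
    intro M _ _ _ _
    have hbot : (Ideal.ofList ([] : List A) • (⊤ : Submodule A M)) = ⊥ := by
      rw [Ideal.ofList_nil, Submodule.bot_smul]
    let e0 : (M ⧸ (Ideal.ofList ([] : List A) • (⊤ : Submodule A M))) ≃ₗ[A] M :=
      Submodule.quotEquivOfEqBot _ hbot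
    let e1 : (IsLocalRing.ResidueField A →ₗ[A]
        (M ⧸ (Ideal.ofList ([] : List A) • (⊤ : Submodule A M)))) ≃+
        (IsLocalRing.ResidueField A →ₗ[A] M) :=
      (LinearEquiv.arrowCongr (LinearEquiv.refl A (IsLocalRing.ResidueField A)) e0).toAddEquiv
    let e2 : (IsLocalRing.ResidueField A →ₗ[A] M) ≃+
        (ModuleCat.of A (IsLocalRing.ResidueField A) ⟶ ModuleCat.of A M) :=
      (ModuleCat.homAddEquiv (M := ModuleCat.of A (IsLocalRing.ResidueField A))
        (N := ModuleCat.of A M)).symm
    exact ⟨(e1.trans e2).trans Ext.addEquiv₀.symm⟩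
  | cons a rs ih =>
    intro M _ _ hmem hreg
    have hreg' := hreg
    rw [isWeaklyRegular_cons_iff] at hreg'
    obtain ⟨ha, hrs⟩ := hreg'
    have hmem' : ∀ x ∈ rs, x ∈ IsLocalRing.maximalIdeal A :=
      fun x hx => hmem x (List.mem_cons_of_mem a hx)
    have ham : a ∈ IsLocalRing.maximalIdeal A := hmem a List.mem_cons_self
    obtain ⟨e⟩ := ih (QuotSMulTop a M) hmem' hrs
    let e0 := Submodule.quotOfListConsSMulTopEquivQuotSMulTopInner M a rs
    let e1 : (IsLocalRing.ResidueField A →ₗ[A]
        (M ⧸ (Ideal.ofList (a :: rs) • (⊤ : Submodule A M)))) ≃+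
        (IsLocalRing.ResidueField A →ₗ[A]
          (QuotSMulTop a M ⧸ (Ideal.ofList rs • (⊤ : Submodule A (QuotSMulTop a M))))) :=
      (LinearEquiv.arrowCongr (LinearEquiv.refl A (IsLocalRing.ResidueField A)) e0).toAddEquiv
    have ha' : IsSMulRegular (ModuleCat.of A M) a := ha
    have hS := ha'.smulShortComplex_shortExact
    have hkill : ∀ b ∈ IsLocalRing.maximalIdeal A, ∀ x : IsLocalRing.ResidueField A,
        b • x = 0 := by
      intro b hb x
      rw [Algebra.smul_def, IsLocalRing.ResidueField.algebraMap_eq,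
        (IsLocalRing.residue_eq_zero_iff b).2 hb, zero_mul]
    have hann : ∀ b ∈ IsLocalRing.maximalIdeal A,
        b ^ 1 ∈ Module.annihilator A (ModuleCat.of A (IsLocalRing.ResidueField A)) := by
      intro b hb
      rw [pow_one, Module.mem_annihilator]
      exact hkill b hb
    have hvan : Subsingleton (Ext (ModuleCat.of A (IsLocalRing.ResidueField A))
        (ModuleCat.of A M) rs.length) :=
      Groth.Agent.S5150.main (IsLocalRing.maximalIdeal A) 1
        (ModuleCat.of A (IsLocalRing.ResidueField A)) hann (ModuleCat.of A M) (a :: rs) hmem hreg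
        rs.length (by simp)
    have hδinj : Function.Injective (hS.extClass.postcomp
        (ModuleCat.of A (IsLocalRing.ResidueField A))
        (rfl : rs.length + 1 = rs.length + 1)) := by
      rw [injective_iff_map_eq_zero]
      intro x hx
      obtain ⟨x₂, hx₂⟩ := Ext.covariant_sequence_exact₃ _ hS x rfl hx
      have h0 : x₂ = 0 := @Subsingleton.elim _ hvan x₂ 0
      rw [← hx₂, h0, Ext.zero_comp]
    have hδsurj : Function.Surjective (hS.extClass.postcomp
        (ModuleCat.of A (IsLocalRing.ResidueField A))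
        (rfl : rs.length + 1 = rs.length + 1)) := by
      intro (x₁ : Ext (ModuleCat.of A (IsLocalRing.ResidueField A)) (ModuleCat.of A M)
        (rs.length + 1))
      have h4 : a • 𝟙 (ModuleCat.of A (IsLocalRing.ResidueField A)) = 0 := by
        ext x
        exact hkill a ham x
      have h3 : (Ext.mk₀ (a • 𝟙 (ModuleCat.of A (IsLocalRing.ResidueField A)))).comp x₁
          (zero_add _) = a • x₁ := by
        rw [Ext.mk₀_smul, Ext.smul_comp, Ext.mk₀_id_comp]
      have h5 : a • x₁ = 0 := by
        rw [← h3, h4, Ext.mk₀_zero, Ext.zero_comp]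
      have hzero : x₁.comp (Ext.mk₀ ((ModuleCat.of A M).smulShortComplex a).f)
          (add_zero _) = 0 := by
        have h6 := Ext.smul_eq_comp_mk₀ x₁ a
        exact h6.symm.trans h5
      obtain ⟨x₃, hx₃⟩ := Ext.covariant_sequence_exact₁ _ hS x₁ hzero rfl
      exact ⟨x₃, hx₃⟩
    let δ := AddEquiv.ofBijective _ ⟨hδinj, hδsurj⟩
    exact ⟨(e1.trans e).trans δ⟩

/-- Let A be a Noetherian local ring with maximal ideal m and residue field k, M an A-module and
(x_i)_{1 ≤ i ≤ n} an M-regular sequence of elements of m. Then Hom_A(k, M/(x_1 M + ... + x_n M)) and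
Ext^n_A(k, M) are isomorphic (existence of an isomorphism; stated for the underlying abelian
groups). -/
theorem result (A : Type u) [CommRing A] [IsLocalRing A]
    [IsNoetherianRing A] (M : Type u) [AddCommGroup M] [Module A M] (xs : List A)
    (hxs : ∀ x ∈ xs, x ∈ IsLocalRing.maximalIdeal A) (hreg : RingTheory.Sequence.IsWeaklyRegular M xs) :
    Nonempty ((IsLocalRing.ResidueField A →ₗ[A] (M ⧸ (Ideal.ofList xs • (⊤ : Submodule A M)))) ≃+
      Abelian.Ext (ModuleCat.of A (IsLocalRing.ResidueField A)) (ModuleCat.of A M) xs.length) := by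
  exact main A xs M hxs hreg

end Groth.Agent.S5787
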