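import Groth.Statements.S5790
import Mathlib
import Groth.Agent.H60.InjLoc

set_option autoImplicit false
universe u
open CategoryTheory
open EGA41

namespace Groth.Agent.S5790

open Groth.Agent.H60 CategoryTheory

/-- Suppose A is a Noetherian ring and consider any A-module M. Taking the supremum, over all prime
ideals p, of the injective dimension of M_p as an A_p-module yields the injective dimension of M;
put differently, for each n, the injective dimension of M is at most n exactly when, for every prime
p, the injective dimension of M_p over A_p is at most n. -/
theorem result (A : Type u) [CommRing A] [IsNoetherianRing A]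
    (M : Type u) [AddCommGroup M] [Module A M] (n : ℕ) :
    HasInjectiveDimensionLT (ModuleCat.of A M) (n + 1) ↔
      ∀ p : PrimeSpectrum A, HasInjectiveDimensionLT
        (ModuleCat.of (Localization.AtPrime p.asIdeal) (LocalizedModule p.asIdeal.primeCompl M)) (n + 1) := by
  have key : ∀ (S : Submonoid A),
      (HasInjectiveDimensionLT
          ((ModuleCat.localizedModuleFunctor S).obj (ModuleCat.of A M)) (n + 1) ↔
        HasInjectiveDimensionLT
          (ModuleCat.of (Localization S) (LocalizedModule S M)) (n + 1)) := by
    intro S
    let e : (ModuleCat.localizedModuleFunctor S).obj (ModuleCat.of A M) ≅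
        ModuleCat.of (Localization S) (LocalizedModule S M) :=
      (Shrink.linearEquiv (Localization S) (LocalizedModule S M)).toModuleIso
    exact ⟨fun h => hasInjectiveDimensionLT_of_iso e (n + 1),
      fun h => hasInjectiveDimensionLT_of_iso e.symm (n + 1)⟩
  constructor
  · intro h p
    exact (key p.asIdeal.primeCompl).mp (InjLoc.loc_injdim _ n _ h)
  · intro h
    apply InjLoc.glob_injdim n
    intro m hm
    exact (key m.primeCompl).mpr (h ⟨m, hm.isPrime⟩)

end Groth.Agent.S5790
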