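import Groth.Statements.S5793
import Groth.Agent.H29.TopDim

set_option autoImplicit false
universe u
open TopDim

namespace Groth.Agent.S5793

/-- Let X be a Noetherian Kolmogoroff space. Then dim(X) = sup dim_x(X), the supremum being over the
closed points x of X only. -/
theorem result (X : Type u) [TopologicalSpace X]
    [TopologicalSpace.NoetherianSpace X] [T0Space X] :
    topologicalKrullDim X = ⨆ x ∈ {x : X | IsClosed ({x} : Set X)}, FlatMor.localDim X x := by
  apply le_antisymm
  · unfold topologicalKrullDim Order.krullDim
    apply iSup_le
    intro p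
    obtain ⟨x, hx, hxc⟩ := (p.head).isClosed.exists_closed_singleton (p.head).isIrreducible.nonempty
    refine le_trans ?_ (le_iSup₂ (f := fun (x : X) (_ : x ∈ {x : X | IsClosed ({x} : Set X)}) =>
      FlatMor.localDim X x) x hxc)
    unfold FlatMor.localDim
    apply le_iInf
    rintro ⟨U, hxU⟩
    exact Groth.Agent.H29.length_le_dim_open p x hx U U.isOpen hxU
  · apply iSup₂_le
    intro x _
    refine le_trans (iInf_le _ ⟨⊤, trivial⟩) ?_
    exact topologicalKrullDim_subspace_le X _

end Groth.Agent.S5793
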