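import Groth.Statements.S5795
import Groth.Agent.H29.TopDimZero

set_option autoImplicit false
universe u
open TopDim

namespace Groth.Agent.S5795

/-- Let X be a Noetherian Kolmogoroff space and x a point of X. Then x is isolated in X if and only if
dim_x(X) = 0. -/
theorem result (X : Type u) [TopologicalSpace X]
    [TopologicalSpace.NoetherianSpace X] [T0Space X] (x : X) :
    IsOpen ({x} : Set X) ↔ FlatMor.localDim X x = 0 := by
  constructor
  · intro hx
    apply le_antisymm
    · refine le_trans (iInf_le _ ⟨⟨{x}, hx⟩, rfl⟩) ?_
      have : DiscreteTopology (({x} : Set X)) := inferInstance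
      exact topologicalKrullDim_zero_of_discreteTopology (({x} : Set X))
    · unfold FlatMor.localDim
      apply le_iInf
      rintro ⟨U, hxU⟩
      have : Nonempty ((U : Set X)) := ⟨⟨x, hxU⟩⟩
      exact Groth.Agent.H29.topDim_nonneg_of_nonempty _
  · intro h
    have h1 : FlatMor.localDim X x < 1 := by
      rw [h]
      exact zero_lt_one
    unfold FlatMor.localDim at h1
    rw [iInf_lt_iff] at h1
    obtain ⟨⟨U, hxU⟩, hU⟩ := h1
    have hU0 : topologicalKrullDim (U : Set X) ≤ 0 := by
      revert hU
      generalize topologicalKrullDim (U : Set X) = a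
      intro ha
      induction a using WithBot.recBotCoe with
      | bot => exact bot_le
      | coe n =>
        have : n < 1 := by exact_mod_cast ha
        have hn : n = 0 := Order.lt_one_iff.mp this
        subst hn
        exact le_refl _
    obtain ⟨_, hdisc⟩ := Groth.Agent.H29.finite_and_discrete_of_topDim_nonpos (U : Set X) hU0
    have hopen : IsOpen ({⟨x, hxU⟩} : Set (U : Set X)) := isOpen_discrete _
    have := U.isOpen.isOpenMap_subtype_val _ hopen
    simpa using this

end Groth.Agent.S5795
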