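import Groth.Statements.S5798
import Groth.Agent.H29.TopDim

set_option autoImplicit false
universe u
open TopDim

namespace Groth.Agent.S5798

/-- If (U_i) is an open covering of a topological space X, then dim(X) = sup_i dim(U_i). -/
theorem result (X : Type u) [TopologicalSpace X] (ι : Type u)
    (U : ι → TopologicalSpace.Opens X) (hcov : ⨆ i, U i = ⊤) :
    topologicalKrullDim X = ⨆ i, topologicalKrullDim (U i) := by
  apply le_antisymm
  · unfold topologicalKrullDim Order.krullDim
    apply iSup_le
    intro p
    obtain ⟨x, hx⟩ := (p.head).isIrreducible.nonempty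
    have hxtop : x ∈ (⨆ i, U i : TopologicalSpace.Opens X) := by rw [hcov]; trivial
    obtain ⟨i, hi⟩ := TopologicalSpace.Opens.mem_iSup.mp hxtop
    refine le_trans ?_ (le_iSup _ i)
    exact Groth.Agent.H29.length_le_dim_open p x hx (U i) (U i).isOpen hi
  · apply iSup_le
    intro i
    exact topologicalKrullDim_subspace_le X _

end Groth.Agent.S5798
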