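import Groth.Statements.S5799
import Groth.Agent.H29.TopDim

set_option autoImplicit false
universe u
open TopDim

namespace Groth.Agent.S5799

/-- If (X_i) is a locally finite covering of a topological space X by closed subsets, then dim(X) =
sup_i dim(X_i). -/
theorem result (X : Type u) [TopologicalSpace X]
    (ι : Type u) (Y : ι → Set X) (hY : ∀ i, IsClosed (Y i)) (hlf : LocallyFinite Y) (hcov : ⋃ i, Y i = Set.univ) :
    topologicalKrullDim X = ⨆ i, topologicalKrullDim (Y i) := by
  apply le_antisymm
  · unfold topologicalKrullDim Order.krullDim
    apply iSup_le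
    intro p
    obtain ⟨i, hi⟩ := Groth.Agent.H29.last_subset_of_locallyFinite p Y hY (hlf) hcov
    refine le_trans ?_ (le_iSup _ i)
    exact Groth.Agent.H29.length_le_dim_of_subset p (Y i) hi
  · apply iSup_le
    intro i
    exact topologicalKrullDim_subspace_le X _

end Groth.Agent.S5799
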