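import Groth.Statements.S5800
import Groth.Agent.H29.TopDimLocal

set_option autoImplicit false
universe u
open TopDim

namespace Groth.Agent.S5800

/-- Let X be a topological space, x a point of X and (Y_i) a finite family of closed subsets each
containing x whose union is X. Then dim_x(X) = sup_i dim_x(Y_i). (The published statement lets the
Y_i be closed subsets of a neighbourhood U of x covering U; this row is the case U = X.) -/
theorem result (X : Type u) [TopologicalSpace X] (x : X)
    (ι : Type u) [Finite ι] (Y : ι → Set X) (hY : ∀ i, IsClosed (Y i)) (hx : ∀ i, x ∈ Y i)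
    (hcov : ⋃ i, Y i = Set.univ) :
    FlatMor.localDim X x = ⨆ i, FlatMor.localDim (Y i) ⟨x, hx i⟩ := by
  apply le_antisymm
  · have hex : ∀ i, ∃ V : {V : TopologicalSpace.Opens (Y i) // (⟨x, hx i⟩ : Y i) ∈ V},
        topologicalKrullDim (V.1 : Set (Y i)) = FlatMor.localDim (Y i) ⟨x, hx i⟩ := by
      intro i
      have hne : Nonempty {V : TopologicalSpace.Opens (Y i) // (⟨x, hx i⟩ : Y i) ∈ V} :=
        ⟨⟨⊤, trivial⟩⟩
      have hmem := csInf_mem (Set.range_nonempty
        (fun V : {V : TopologicalSpace.Opens (Y i) // (⟨x, hx i⟩ : Y i) ∈ V} =>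
          topologicalKrullDim (V.1 : Set (Y i))))
      obtain ⟨V, hV⟩ := hmem
      exact ⟨V, hV⟩
    choose V hV using hex
    have hopen : ∀ i, ∃ U : Set X, IsOpen U ∧ Subtype.val ⁻¹' U = ((V i).1 : Set (Y i)) :=
      fun i => isOpen_induced_iff.mp (V i).1.isOpen
    choose U hUo hUV using hopen
    have hxU : ∀ i, x ∈ U i := fun i => by
      have h1 : (⟨x, hx i⟩ : Y i) ∈ ((V i).1 : Set (Y i)) := (V i).2
      rw [← hUV i] at h1
      exact h1
    let U' : TopologicalSpace.Opens X := ⟨⋂ i, U i, isOpen_iInter_of_finite hUo⟩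
    have hxU' : x ∈ U' := Set.mem_iInter.mpr hxU
    refine le_trans (iInf_le _ ⟨U', hxU'⟩) ?_
    apply Groth.Agent.H29.dim_le_of_locallyFinite_closed_cover (X := (U' : Set X))
      (fun i => Subtype.val ⁻¹' (Y i)) (fun i => (hY i).preimage continuous_subtype_val)
      (locallyFinite_of_finite _)
    · ext a
      have h1 : a.1 ∈ ⋃ i, Y i := hcov ▸ Set.mem_univ a.1
      simpa using h1
    intro i
    refine le_trans ?_ (le_iSup _ i)
    rw [← hV i]
    apply Groth.Agent.H29.dim_le_of_forall_mem
    intro a ha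
    refine ⟨ha, ?_⟩
    change (⟨a.1, ha⟩ : Y i) ∈ ((V i).1 : Set (Y i))
    rw [← hUV i]
    exact Set.mem_iInter.mp a.2 i
  · apply iSup_le
    intro i
    unfold FlatMor.localDim
    apply le_iInf
    rintro ⟨U, hxU⟩
    refine le_trans (iInf_le _ ⟨⟨Subtype.val ⁻¹' (U : Set X),
      U.isOpen.preimage continuous_subtype_val⟩, hxU⟩) ?_
    apply Groth.Agent.H29.dim_le_of_forall_mem'
    intro a ha
    exact ha

end Groth.Agent.S5800
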