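import Groth.Statements.S5801

set_option autoImplicit false
universe u
open scoped Pointwise
open EGA41

namespace Groth.Agent.S5801

/-- Let A be a ring, M an A-module and f ∈ A, and consider the canonical surjection (M/fM)[T] → gr(M)
for the (f)-adic filtration, whose injectivity says: for all k ≥ 0 and x ∈ M, f^k x ∈ f^(k+1) M
implies x ∈ fM. If f is M-regular this map is bijective; conversely, if it is bijective and M is
separated for the (f)-adic topology (the intersection of the f^k M is zero), then f is M-regular. -/
theorem result (A : Type u) [CommRing A] (M : Type u)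
    [AddCommGroup M] [Module A M] (f : A) :
    (IsSMulRegular M f →
        ∀ (k : ℕ) (x : M), f ^ k • x ∈ f ^ (k + 1) • (⊤ : Submodule A M) → x ∈ f • (⊤ : Submodule A M)) ∧
      ((⨅ k : ℕ, f ^ k • (⊤ : Submodule A M)) = ⊥ →
        (∀ (k : ℕ) (x : M), f ^ k • x ∈ f ^ (k + 1) • (⊤ : Submodule A M) → x ∈ f • (⊤ : Submodule A M)) →
          IsSMulRegular M f) := by
  constructor
  · intro hreg k x hx
    rw [Submodule.mem_smul_pointwise_iff_exists] at hx
    obtain ⟨y, -, hy⟩ := hx
    rw [pow_succ, mul_smul] at hy
    have := (hreg.pow k) hy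
    rw [Submodule.mem_smul_pointwise_iff_exists]
    exact ⟨y, trivial, this⟩
  · intro hsep hq
    have key : ∀ k : ℕ, ∀ x : M, f • x = 0 → x ∈ f ^ k • (⊤ : Submodule A M) := by
      intro k
      induction k with
      | zero => intro x _; simp
      | succ k ih =>
        intro x hx
        have hxk := ih x hx
        rw [Submodule.mem_smul_pointwise_iff_exists] at hxk
        obtain ⟨y, -, hy⟩ := hxk
        have hy0 : f ^ (k + 1) • y = 0 := by
          rw [pow_succ', mul_smul, hy, hx]
        have hmem : f ^ (k + 1) • y ∈ f ^ (k + 1 + 1) • (⊤ : Submodule A M) := by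
          rw [hy0]; exact zero_mem _
        have hyf := hq (k + 1) y hmem
        rw [Submodule.mem_smul_pointwise_iff_exists] at hyf
        obtain ⟨z, -, hz⟩ := hyf
        rw [Submodule.mem_smul_pointwise_iff_exists]
        refine ⟨z, trivial, ?_⟩
        rw [pow_succ, mul_smul, hz, hy]
    apply IsSMulRegular.of_right_eq_zero_of_smul
    intro x hx
    have hmem : x ∈ ⨅ k : ℕ, f ^ k • (⊤ : Submodule A M) := by
      rw [Submodule.mem_iInf]
      exact fun k => key k x hx
    rw [hsep] at hmem
    exact (Submodule.mem_bot A).mp hmem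

end Groth.Agent.S5801
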