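import Groth.Statements.S5806
import Mathlib.RingTheory.Flat.Equalizer
import Mathlib.RingTheory.Regular.RegularSequence

set_option autoImplicit false
universe u
open EGA41

namespace Groth.Agent.S5806


open scoped Pointwise in
/-- multiplication by a regular element with flat cokernel stays injective after any base change. -/
theorem lTensor_smul_injective {A B : Type u} [CommRing A] [CommRing B] [Algebra A B] (X : Type u)
    [AddCommGroup X] [Module B X] [Module A X] [IsScalarTower A B X] (r : B)
    (hr : IsSMulRegular X r) [Module.Flat A (X ⧸ (r • ⊤ : Submodule B X))] (A' : Type u)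
    [AddCommGroup A'] [Module A A'] :
    Function.Injective (LinearMap.lTensor A' ((LinearMap.lsmul B X r).restrictScalars A)) := by
  have hf : Function.Surjective ((r • ⊤ : Submodule B X).mkQ.restrictScalars A) :=
    Submodule.mkQ_surjective _
  have hg : Function.Injective ((LinearMap.lsmul B X r).restrictScalars A) := hr
  have H : Function.Exact ((LinearMap.lsmul B X r).restrictScalars A)
      ((r • ⊤ : Submodule B X).mkQ.restrictScalars A) := by
    intro y
    constructor
    · intro hy
      have h1 : y ∈ (r • ⊤ : Submodule B X) := (Submodule.Quotient.mk_eq_zero _).mp hy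
      obtain ⟨m, -, hm⟩ := (Submodule.mem_smul_pointwise_iff_exists _ _ _).mp h1
      exact ⟨m, hm⟩
    · rintro ⟨m, rfl⟩
      exact (Submodule.Quotient.mk_eq_zero _).mpr
        (Submodule.smul_mem_pointwise_smul _ r ⊤ Submodule.mem_top)
  exact LinearMap.lTensor_injective_of_exact_of_flat _ hf _ hg H A'

open TensorProduct in
/-- Let A be a ring, B a commutative A-algebra, (f_i)_{1 ≤ i ≤ n} elements of B and M a B-module.
Suppose (f_i) is M-regular and each of the A-modules M/(f_1 M + ... + f_i M), 0 ≤ i ≤ n, is flat.
Then for every ring homomorphism A → A', writing M' = M ⊗_A A' and f'_i = f_i ⊗ 1, the sequence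
(f'_i) is M'-regular and the A'-modules M'/(f'_1 M' + ... + f'_{i-1} M') are flat: concretely,
identifying M'/(f'_1 M' + ... + f'_{i-1} M') with A' ⊗_A (M/(f_1 M + ... + f_{i-1} M)),
multiplication by f_i on the latter is injective and the latter is A'-flat, for 1 ≤ i ≤ n. (The
published hypothesis lists only the flatness of M/(f_1 M + ... + f_{i-1} M) for 1 ≤ i ≤ n, omitting
M/(f_1 M + ... + f_n M); with that omission the case n = 1, A = B = k[t], M = k[t], f_1 = t, A' =
k[t]/(t) fails, since t acts as zero on k ⊗_A M = k, and the published proof uses the flatness of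
M/(f_1 M + ... + f_i M) for every i ≤ n; so flatness of all these quotients is assumed here.) -/
theorem result (A B : Type u) [CommRing A]
    [CommRing B] [Algebra A B] (M : Type u) [AddCommGroup M] [Module B M] [Module A M] [IsScalarTower A B M]
    (fs : List B) (hreg : RingTheory.Sequence.IsWeaklyRegular M fs)
    (hflat : ∀ i : ℕ, i ≤ fs.length → Module.Flat A (M ⧸ (Ideal.ofList (fs.take i) • (⊤ : Submodule B M))))
    (A' : Type u) [CommRing A'] [Algebra A A'] (i : Fin fs.length) :
    Function.Injective (LinearMap.lTensor A'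
        (((LinearMap.lsmul B (M ⧸ (Ideal.ofList (fs.take i) • (⊤ : Submodule B M)))) (fs.get i)).restrictScalars A)) ∧
      Module.Flat A' (A' ⊗[A] (M ⧸ (Ideal.ofList (fs.take i) • (⊤ : Submodule B M)))) := by
  haveI hflat_i : Module.Flat A (M ⧸ (Ideal.ofList (fs.take i) • (⊤ : Submodule B M))) :=
    hflat i (le_of_lt i.2)
  refine ⟨?_, inferInstance⟩
  have hregi : IsSMulRegular (M ⧸ (Ideal.ofList (fs.take i) • (⊤ : Submodule B M))) (fs.get i) :=
    hreg.regular_mod_prev i i.2
  have hI : Ideal.ofList (fs.take (i + 1)) = Ideal.ofList (fs.get i :: fs.take i) := by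
    rw [List.take_succ_eq_append_getElem i.2, Ideal.ofList_append, Ideal.ofList_singleton,
      Ideal.ofList_cons, sup_comm]
    rfl
  haveI hflat_succ : Module.Flat A (M ⧸ (Ideal.ofList (fs.take (i + 1)) • (⊤ : Submodule B M))) :=
    hflat (i + 1) i.2
  haveI : Module.Flat A (QuotSMulTop (fs.get i)
      (M ⧸ (Ideal.ofList (fs.take i) • (⊤ : Submodule B M)))) :=
    Module.Flat.of_linearEquiv
      (((Submodule.quotOfListConsSMulTopEquivQuotSMulTopOuter M (fs.get i) (fs.take i)).symm ≪≫ₗ
        Submodule.quotEquivOfEq (Ideal.ofList (fs.get i :: fs.take i) • (⊤ : Submodule B M))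
          (Ideal.ofList (fs.take (i + 1)) • (⊤ : Submodule B M)) (by rw [hI])).restrictScalars A)
  exact lTensor_smul_injective _ (fs.get i) hregi A'

end Groth.Agent.S5806
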