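import Groth.Statements.S5808
import Mathlib
import Groth.Agent.S3406

set_option autoImplicit false
set_option linter.style.haveILetI false
set_option linter.unusedSectionVars false
set_option linter.unusedVariables false
universe u
open EGA41

namespace Groth.Agent.S5808

section Helpers

open PrimeSpectrum

theorem sd_le_nat {A : Type u} [CommRing A] [IsNoetherianRing A] [Finite (MaximalSpectrum A)]
    (N : Type u) [AddCommGroup N] [Module A N] [Module.Finite A N] :
    ∃ n₀ : ℕ, Module.supportDim A N ≤ (n₀ : WithBot ℕ∞) := by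
  obtain ⟨n₀, x₀, hspan⟩ := Submodule.fg_iff_exists_fin_generating_family.mp
    (IsNoetherian.noetherian (Ring.jacobson A))
  have hx₀ : ∀ i, x₀ i ∈ Ring.jacobson A := fun i => by
    rw [← hspan]; exact Submodule.subset_span ⟨i, rfl⟩
  refine ⟨n₀, ?_⟩
  have h0 : Order.krullDim ↥(Module.support A N ∩ zeroLocus (Set.range x₀)) ≤ 0 := by
    apply Groth.Agent.S3406.krullDim_le_zero_of_forall_isMaximal
    rintro P ⟨-, hP⟩
    apply Groth.Agent.S3406.isMaximal_of_jacobson_le A P.2
    rw [← hspan]
    exact Submodule.span_le.mpr ((PrimeSpectrum.mem_zeroLocus _ _).mp hP)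
  calc Module.supportDim A N ≤ _ + (n₀ : ℕ) := Groth.Agent.S3406.supportDim_le_add A n₀ N x₀ hx₀
    _ ≤ 0 + (n₀ : ℕ) := by gcongr
    _ = (n₀ : WithBot ℕ∞) := zero_add _

theorem sd_eq_nat {A : Type u} [CommRing A] [IsNoetherianRing A] [Finite (MaximalSpectrum A)]
    (N : Type u) [AddCommGroup N] [Module A N] [Module.Finite A N]
    (hnb : Module.supportDim A N ≠ ⊥) :
    ∃ d : ℕ, Module.supportDim A N = (d : WithBot ℕ∞) := by
  obtain ⟨n₀, hbound⟩ := sd_le_nat (A := A) N
  obtain ⟨a, ha⟩ := WithBot.ne_bot_iff_exists.mp hnb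
  rw [← ha] at hbound
  have ha' : a ≤ (n₀ : ℕ∞) := by exact_mod_cast hbound
  obtain ⟨m, rfl⟩ := ENat.ne_top_iff_exists.mp (ne_top_of_le_ne_top (ENat.natCast_ne_top n₀) ha')
  exact ⟨m, ha.symm⟩

variable {A : Type u} [CommRing A]

open Classical in
theorem span_range_eq {n : ℕ} (x : Fin n → A) :
    Ideal.span (Set.range x) = Ideal.span ((Finset.univ.image x : Finset A) : Set A) := by
  rw [Finset.coe_image, Finset.coe_univ, Set.image_univ]

open Classical in
theorem height_le_of_minimal [IsNoetherianRing A] {n : ℕ} (x : Fin n → A) {p : Ideal A}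
    (hp : p ∈ (Ideal.span (Set.range x)).minimalPrimes) : p.height ≤ (n : ℕ∞) := by
  rw [span_range_eq] at hp
  refine (Ideal.height_le_card_of_mem_minimalPrimes_span_finset hp).trans ?_
  have : (Finset.univ.image x).card ≤ n := by
    refine Finset.card_image_le.trans ?_
    rw [Finset.card_univ, Fintype.card_fin]
  exact_mod_cast this

/-- core inductive construction -/
theorem exists_seq [IsNoetherianRing A] [Finite (MaximalSpectrum A)] (a : Ideal A) (h : ℕ)
    (hh : a.height = h) :
    ∀ n : ℕ, n ≤ h → ∃ x : Fin n → A, (∀ i, x i ∈ a) ∧ (∀ i, x i ∈ Ring.jacobson A) ∧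
      ∀ Q : Ideal A, Q.IsPrime → ¬ Q.IsMaximal → Set.range x ⊆ Q → (n : ℕ∞) ≤ Q.height := by
  intro n
  induction n with
  | zero =>
    intro _
    exact ⟨Fin.elim0, fun i => i.elim0, fun i => i.elim0, fun Q _ _ _ => by simp⟩
  | succ n ih =>
    intro hn
    obtain ⟨x, hxa, hxr, hxQ⟩ := ih (Nat.le_of_succ_le hn)
    classical
    have hfinS : {p ∈ (Ideal.span (Set.range x)).minimalPrimes | ¬ p.IsMaximal}.Finite :=
      (Ideal.finite_minimalPrimes_of_isNoetherianRing A _).subset (fun p hp => hp.1)
    have hex : ∃ z ∈ a ⊓ Ring.jacobson A,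
        ∀ p ∈ (Ideal.span (Set.range x)).minimalPrimes, ¬ p.IsMaximal → z ∉ p := by
      by_contra hcon
      push Not at hcon
      have hsub : (((a ⊓ Ring.jacobson A : Ideal A)) : Set A) ⊆
          ⋃ p ∈ (↑hfinS.toFinset : Set (Ideal A)), ((id p : Ideal A) : Set A) := by
        intro z hz
        obtain ⟨p, hp, hnm, hzp⟩ := hcon z hz
        exact Set.mem_biUnion (x := p)
          (Finset.mem_coe.mpr (hfinS.mem_toFinset.mpr ⟨hp, hnm⟩)) hzp
      obtain ⟨p, hpS, hle⟩ := (Ideal.subset_union_prime (s := hfinS.toFinset) (f := id) ⊥ ⊥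
        (fun p hp _ _ => ((hfinS.mem_toFinset.mp hp).1).1.1)).mp hsub
      have hpS' := hfinS.mem_toFinset.mp hpS
      have hpprime : p.IsPrime := hpS'.1.1.1
      rcases (Ideal.IsPrime.inf_le hpprime).1 hle with h1 | h1
      · have hht : p.height ≤ (n : ℕ∞) := height_le_of_minimal x hpS'.1
        have h2 := (Ideal.height_mono h1).trans hht
        rw [hh] at h2
        have h3 : h ≤ n := by exact_mod_cast h2
        omega
      · exact hpS'.2 (Groth.Agent.S3406.isMaximal_of_jacobson_le A hpprime h1)
    obtain ⟨z, hz, hzp⟩ := hex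
    have hz' := Submodule.mem_inf.1 hz
    refine ⟨Fin.cons z x, ?_, ?_, ?_⟩
    · intro i
      refine Fin.cases ?_ ?_ i
      · simpa using hz'.1
      · intro j
        simpa using hxa j
    · intro i
      refine Fin.cases ?_ ?_ i
      · simpa using hz'.2
      · intro j
        simpa using hxr j
    · intro Q hQ hQnm hsub
      rw [Fin.range_cons, Set.insert_subset_iff] at hsub
      obtain ⟨hzQ, hxsub⟩ := hsub
      haveI := hQ
      have hle : Ideal.span (Set.range x) ≤ Q := Ideal.span_le.2 hxsub
      obtain ⟨p, hp, hpQ⟩ := Ideal.exists_minimalPrimes_le hle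
      haveI := hp.1.1
      have hpnm : ¬ p.IsMaximal := fun hpm =>
        hQnm ((hpm.eq_of_le hQ.ne_top hpQ) ▸ hpm)
      have hne : p ≠ Q := fun e => hzp p hp hpnm (e ▸ hzQ)
      have hlt : p < Q := lt_of_le_of_ne hpQ hne
      have h1 : (n : ℕ∞) ≤ p.height :=
        hxQ p hp.1.1 hpnm (fun y hy => hp.1.2 (Ideal.subset_span hy))
      have h2 := Ideal.height_add_one_le_of_lt_of_isPrime hlt
      calc ((n + 1 : ℕ) : ℕ∞) = (n : ℕ∞) + 1 := by push_cast; rfl
        _ ≤ p.height + 1 := by gcongr
        _ ≤ Q.height := h2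

theorem dim_quot_le [IsNoetherianRing A] {h D : ℕ} (hhD : h ≤ D)
    (hD : ringKrullDim A = (D : WithBot ℕ∞)) (I : Ideal A)
    (hQ : ∀ Q : Ideal A, Q.IsPrime → ¬ Q.IsMaximal → I ≤ Q → (h : ℕ∞) ≤ Q.height) :
    Module.supportDim A (A ⧸ I) ≤ ((D - h : ℕ) : WithBot ℕ∞) := by
  unfold Module.supportDim
  rw [Order.krullDim]
  refine iSup_le fun p => ?_
  have hI : ∀ P : ↥(Module.support A (A ⧸ I)), I ≤ P.1.asIdeal := fun P => by
    have := Module.annihilator_le_of_mem_support P.2
    rwa [Ideal.annihilator_quotient] at this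
  by_cases hl : p.length = 0
  · rw [hl]
    exact_mod_cast Nat.zero_le _
  · have hlt : p.head < p.last := by
      apply p.strictMono
      rw [Fin.lt_def]
      simp only [Fin.val_zero, Fin.val_last]
      omega
    have hlt' : p.head.1.asIdeal < p.last.1.asIdeal := hlt
    have hnm : ¬ (p.head.1.asIdeal).IsMaximal := fun hm =>
      hlt'.ne (hm.eq_of_le p.last.1.2.ne_top hlt'.le)
    have hQ0 : (h : ℕ∞) ≤ (p.head.1.asIdeal).height :=
      hQ _ p.head.1.2 hnm (hI p.head)
    obtain ⟨q, hq⟩ : ∃ q : LTSeries (PrimeSpectrum A),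
        q = p.map Subtype.val (Subtype.strictMono_coe _) := ⟨_, rfl⟩
    have hq0 : (h : ℕ∞) ≤ Order.height q.head := by
      have hqh : q.head = p.head.1 := by rw [hq]; rfl
      rw [hqh, ← PrimeSpectrum.height_eq_orderHeight]
      exact hQ0
    obtain ⟨r, hr1, hr2⟩ := Order.exists_series_of_le_height q.head hq0
    have hlen := Order.LTSeries.length_le_krullDim (r.smash q hr1)
    have hD' : Order.krullDim (PrimeSpectrum A) = (D : WithBot ℕ∞) := hD
    rw [hD', RelSeries.smash_length, hr2, hq, LTSeries.map_length] at hlen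
    have h4 : h + p.length ≤ D := by exact_mod_cast hlen
    exact_mod_cast (by omega : p.length ≤ D - h)

end Helpers


/-- Let A be a semi-local Noetherian ring with spectrum X and Jacobson radical r, and a an ideal of A
distinct from A with codim(V(a), X) = h > 0 (h is the height of a). Then there exist h elements x_1,
..., x_h of a which are part of a system of parameters of A (so lie in r and can be completed by
elements of r to dim(A) elements generating an ideal modulo which A has finite length) and such that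
codim(V(a), V(x_1 A + ... + x_h A)) = 0, i.e. the image of a in A/(x_1 A + ... + x_h A) has height
0. -/
theorem result (A : Type u) [CommRing A] [IsNoetherianRing A]
    [Finite (MaximalSpectrum A)] (a : Ideal A) (ha : a ≠ ⊤) (h : ℕ) (hh : a.height = h) (hpos : 0 < h) :
    ∃ x : Fin h → A, (∀ i, x i ∈ a) ∧ (∀ i, x i ∈ Ring.jacobson A) ∧
      (∃ ys : List A, (∀ y ∈ ys, y ∈ Ring.jacobson A) ∧
        (((h + ys.length : ℕ) : ℕ∞) : WithBot ℕ∞) = ringKrullDim A ∧
        IsFiniteLength A (A ⧸ (Ideal.span (Set.range x) ⊔ Ideal.ofList ys))) ∧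
      (a.map (Ideal.Quotient.mk (Ideal.span (Set.range x)))).height = 0 := by
  obtain ⟨x, hxa, hxr, hxQ⟩ := exists_seq a h hh h le_rfl
  refine ⟨x, hxa, hxr, ?_, ?_⟩
  · haveI : Nontrivial A := by
      by_contra hn
      rw [not_nontrivial_iff_subsingleton] at hn
      exact ha ((Ideal.eq_top_iff_one _).2 (by rw [Subsingleton.elim (1 : A) 0]; exact zero_mem _))
    have hDh : ((h : ℕ∞) : WithBot ℕ∞) ≤ ringKrullDim A := by
      rw [← hh]
      exact Ideal.height_le_ringKrullDim_of_ne_top ha
    obtain ⟨D, hD⟩ : ∃ D : ℕ, ringKrullDim A = (D : WithBot ℕ∞) := by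
      rw [← Module.supportDim_self_eq_ringKrullDim]
      exact sd_eq_nat A (Module.supportDim_ne_bot_of_nontrivial A A)
    have hhD : h ≤ D := by
      rw [hD] at hDh
      exact_mod_cast hDh
    have hdim := dim_quot_le hhD hD (Ideal.span (Set.range x))
      (fun Q hQ hQnm hIQ => hxQ Q hQ hQnm (fun y hy => hIQ (Ideal.subset_span hy)))
    obtain ⟨y, hy, hK⟩ := Groth.Agent.S3406.exists_of_supportDim_le A (D - h)
      (A ⧸ Ideal.span (Set.range x)) hdim
    refine ⟨List.ofFn y, ?_, ?_, ?_⟩
    · intro z hz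
      obtain ⟨i, rfl⟩ := List.mem_ofFn.1 hz
      exact hy i
    · rw [List.length_ofFn, hD, show h + (D - h) = D by omega]
      rfl
    · have hsub : Module.support A
          (A ⧸ (Ideal.span (Set.range x) ⊔ Ideal.ofList (List.ofFn y))) ⊆
          Module.support A (A ⧸ Ideal.span (Set.range x)) ∩
            PrimeSpectrum.zeroLocus (Set.range y) := by
        intro P hP
        have h1 := Module.annihilator_le_of_mem_support hP
        rw [Ideal.annihilator_quotient] at h1
        refine ⟨?_, ?_⟩
        · rw [Module.mem_support_iff_of_finite, Ideal.annihilator_quotient]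
          exact le_sup_left.trans h1
        · rw [PrimeSpectrum.mem_zeroLocus]
          rintro _ ⟨i, rfl⟩
          apply h1
          apply Ideal.mem_sup_right
          apply Ideal.subset_span
          show y i ∈ List.ofFn y
          exact List.mem_ofFn.2 ⟨i, rfl⟩
      rw [Groth.Agent.S3406.isFiniteLength_iff_supportDim_le_zero]
      refine le_trans ?_ hK
      unfold Module.supportDim
      exact Order.krullDim_le_of_strictMono (Set.inclusion hsub) (fun a b hab => hab)
  · obtain ⟨P, hPprime, haP, hPh⟩ := Ideal.exists_isPrime_height_eq hh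
    haveI := hPprime
    have hIP : Ideal.span (Set.range x) ≤ P :=
      (Ideal.span_le.2 (by rintro _ ⟨i, rfl⟩; exact hxa i)).trans haP
    obtain ⟨p, hp, hpP⟩ := Ideal.exists_minimalPrimes_le hIP
    haveI := hp.1.1
    have hpeq : p = P := by
      by_contra hne
      have hlt : p < P := lt_of_le_of_ne hpP hne
      have hnm : ¬ p.IsMaximal := fun hm => hne (hm.eq_of_le hPprime.ne_top hpP)
      have h1 : (h : ℕ∞) ≤ p.height :=
        hxQ p hp.1.1 hnm (fun z hz => hp.1.2 (Ideal.subset_span hz))
      have h2 := Ideal.height_add_one_le_of_lt_of_isPrime hlt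
      rw [hPh] at h2
      have h3 : (h : ℕ∞) + 1 ≤ h := (add_le_add_left h1 1).trans h2
      have h4 : h + 1 ≤ h := by exact_mod_cast h3
      omega
    rw [hpeq] at hp
    have hker : Ideal.comap (Ideal.Quotient.mk (Ideal.span (Set.range x))) ⊥ =
        Ideal.span (Set.range x) := by
      rw [← RingHom.ker_eq_comap_bot, Ideal.mk_ker]
    have hmp := Ideal.comap_minimalPrimes_eq_of_surjective
      (Ideal.Quotient.mk_surjective (I := Ideal.span (Set.range x))) ⊥
    rw [hker] at hmp
    rw [hmp] at hp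
    obtain ⟨p'', hp'', hpc⟩ := hp
    haveI := hp''.1.1
    have hle : a.map (Ideal.Quotient.mk (Ideal.span (Set.range x))) ≤ p'' := by
      rw [Ideal.map_le_iff_le_comap, hpc]
      exact haP
    have h0 : p''.height = 0 := Ideal.height_eq_zero_iff.2 hp''
    exact le_antisymm ((Ideal.height_mono hle).trans h0.le) zero_le

end Groth.Agent.S5808
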