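import Groth.Statements.S5810
import Groth.Agent.H29.FlatDepthMod2
import Groth.Agent.Lead.CompleteNoetherian
set_option maxHeartbeats 400000
set_option linter.style.haveILetI false
open IsLocalRing TensorProduct

set_option autoImplicit false
universe u
open EGA41

namespace Groth.Agent.S5810

/-- Let A be a Noetherian local ring with maximal ideal m and M a finitely generated A-module; write Â
and M̂ for the m-adic completions. Then prof_A(M) = prof_Â(M̂). -/
theorem result (A : Type u) [CommRing A] [IsLocalRing A] [IsNoetherianRing A] (M : Type u)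
    [AddCommGroup M] [Module A M] [Module.Finite A M] :
    LocCoh.depth (AdicCompletion (IsLocalRing.maximalIdeal A) A) (AdicCompletion (IsLocalRing.maximalIdeal A) M) =
      LocCoh.depth A M := by
  haveI : IsNoetherianRing (AdicCompletion (maximalIdeal A) A) :=
    Groth.Agent.Lead.isNoetherianRing_adicCompletion (maximalIdeal A)
      (maximalIdeal A).fg_of_isNoetherianRing
  have h1 : LocCoh.depth (AdicCompletion (maximalIdeal A) A) (AdicCompletion (maximalIdeal A) M) =
      LocCoh.depth (AdicCompletion (maximalIdeal A) A)
        ((AdicCompletion (maximalIdeal A) A) ⊗[A] M) :=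
    (Groth.Agent.H15.DepthSpread.idealDepth_congr
      (AdicCompletion.ofTensorProductEquivOfFiniteNoetherian (maximalIdeal A) M)).symm
  rw [h1]
  have hmax : EGA4.mB A (AdicCompletion (maximalIdeal A) A) =
      maximalIdeal (AdicCompletion (maximalIdeal A) A) := AdicCompletion.maximalIdeal_eq_map.symm
  have hI : EGA4.mB A (AdicCompletion (maximalIdeal A) A) ≠ ⊤ := by
    rw [hmax]
    exact (maximalIdeal.isMaximal _).ne_top
  have hs := Groth.Agent.H29.FlatDepthMod.hasSocle_quotient_of_forall_prime
    (EGA4.mB A (AdicCompletion (maximalIdeal A) A)) hI (fun J hJ hle => by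
      rw [hmax] at hle
      exact ((maximalIdeal.isMaximal _).eq_of_le hJ.ne_top hle).symm)
  exact Groth.Agent.H29.FlatDepthMod.depth_tensor_of_hasSocle_fibre M
    (AdicCompletion (maximalIdeal A) A) hs

end Groth.Agent.S5810
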