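import Groth.Statements.S5815
import Groth.Agent.H29.ExalOfSurj
import Mathlib.RingTheory.Smooth.Basic

set_option autoImplicit false
universe u
open EGA41

namespace Groth.Agent.S5815

/-- Discrete case. A commutative A-algebra B is formally smooth if and only if every A-extension of B by
a B-module L is trivial (has an A-algebra section). A and B are taken in one universe and L ranges
over that universe. (The published statement is for topological rings, with direct-limit classes of
extensions; this row is its discrete case.) -/
theorem result (A B : Type u) [CommRing A] [CommRing B] [Algebra A B] :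
    Algebra.FormallySmooth A B ↔
      ∀ (L : Type u) [AddCommGroup L] [Module B L] (X : Exal.Ext A B L), X.IsTrivial := by
  open Groth.Agent.H29.ExalAPI in
  constructor
  · intro hfs L _ _ X
    exact ⟨Algebra.FormallySmooth.liftOfSurjective (AlgHom.id A B) X.proj
      X.isExtension.proj_surjective (isNilpotent_ker_proj X),
      fun b => Algebra.FormallySmooth.liftOfSurjective_apply (AlgHom.id A B) X.proj
        X.isExtension.proj_surjective (isNilpotent_ker_proj X) b⟩
  · intro H
    let f : MvPolynomial B A →ₐ[A] B := MvPolynomial.aeval id
    have hf : Function.Surjective f := fun b => ⟨MvPolynomial.X b, by simp [f]⟩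
    have hp : Function.Surjective f.kerSquareLift :=
      Ideal.Quotient.lift_surjective_of_surjective _ _ hf
    have sqz : RingHom.ker f.kerSquareLift.toRingHom ^ 2 = ⊥ := by
      rw [AlgHom.ker_kerSquareLift, Ideal.cotangentIdeal_square]
    have hsq : ∀ x y, f.kerSquareLift x = 0 → f.kerSquareLift y = 0 → x * y = 0 := by
      intro x y hx hy
      have : x * y ∈ RingHom.ker f.kerSquareLift.toRingHom * RingHom.ker f.kerSquareLift.toRingHom :=
        Ideal.mul_mem_mul hx hy
      rwa [← pow_two, sqz, Ideal.mem_bot] at this
    obtain ⟨s, hs⟩ := H _ (ofSurj f.kerSquareLift hp hsq)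
    exact Algebra.FormallySmooth.of_split f s (AlgHom.ext hs)

end Groth.Agent.S5815
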