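import Groth.Statements.S5816
import Groth.Agent.H29.ExalOfSurj

set_option autoImplicit false
universe u
open EGA41

namespace Groth.Agent.S5816

/-- Discrete case. For ring maps Λ → A → B, B is formally smooth over A relative to Λ (square-zero test
ideals) if and only if every A-extension of B by a B-module L which is Λ-trivial is A-trivial. Λ, A,
B are taken in one universe and L ranges over it. (The published statement is for topological rings;
this row is its discrete case.) -/
theorem result (Λ A B : Type u) [CommRing Λ]
    [CommRing A] [CommRing B] [Algebra Λ A] [Algebra Λ B] [Algebra A B] [IsScalarTower Λ A B] :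
    EGA41.IsFormallySmoothRel Λ A B ↔
      ∀ (L : Type u) [AddCommGroup L] [Module B L] (X : Exal.Ext A B L),
        X.IsTrivialOver Λ → X.IsTrivial := by
  open Groth.Agent.H29.ExalAPI in
  constructor
  · intro hfs L _ _ X hX
    obtain ⟨s₀, hs₀⟩ := hX
    letI : Algebra Λ X.E := inferInstanceAs (Algebra Λ (X.RestrictCarrier Λ))
    haveI : IsScalarTower Λ A X.E := IsScalarTower.of_algebraMap_eq (fun _ => rfl)
    let J : Ideal X.E := RingHom.ker (X.proj : X.E →+* B)
    have hJ : J ^ 2 = ⊥ := by
      rw [eq_bot_iff, pow_two, Ideal.mul_le]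
      intro x hx y hy
      rw [Ideal.mem_bot]
      exact mul_eq_zero_of_proj_eq_zero X x y hx hy
    let q : (X.E ⧸ J) ≃ₐ[A] B := Ideal.quotientKerAlgEquivOfSurjective X.isExtension.proj_surjective
    have hq : ∀ x : X.E, q (Ideal.Quotient.mk J x) = X.proj x := fun x => rfl
    let u : B →ₐ[Λ] X.E := s₀
    have hu : ∀ b, X.proj (u b) = b := hs₀
    obtain ⟨v, hv⟩ := hfs X.E J hJ q.symm.toAlgHom ⟨u, by
      ext b
      apply q.injective
      change q (Ideal.Quotient.mk J (u b)) = q (q.symm b)
      rw [hq, hu, AlgEquiv.apply_symm_apply]⟩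
    refine ⟨v, fun b => ?_⟩
    have := congrArg (fun g : B →ₐ[A] X.E ⧸ J => q (g b)) hv
    simp only [AlgHom.comp_apply, AlgEquiv.coe_toAlgHom, AlgEquiv.apply_symm_apply] at this
    have h2 : q (Ideal.Quotient.mk J (v b)) = b := this
    rw [hq] at h2
    exact h2
  · intro H C _ _ _ _ J hJ u₀ hu
    obtain ⟨u, hu⟩ := hu
    let E' : Subalgebra A (C × B) :=
      AlgHom.equalizer ((Ideal.Quotient.mkₐ A J).comp (AlgHom.fst A C B)) (u₀.comp (AlgHom.snd A C B))
    have hE' : ∀ x : C × B, x ∈ E' ↔ Ideal.Quotient.mk J x.1 = u₀ x.2 := fun x => Iff.rfl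
    let p : E' →ₐ[A] B := (AlgHom.snd A C B).comp E'.val
    have hp : Function.Surjective p := by
      intro b
      obtain ⟨c, hc⟩ := Ideal.Quotient.mk_surjective (u₀ b)
      exact ⟨⟨(c, b), (hE' _).2 hc⟩, rfl⟩
    have hsq : ∀ x y : E', p x = 0 → p y = 0 → x * y = 0 := by
      rintro ⟨⟨c, b⟩, hx⟩ ⟨⟨c', b'⟩, hy⟩ hb hb'
      change b = 0 at hb
      change b' = 0 at hb'
      subst hb hb'
      have hc : c ∈ J := by
        rw [← Ideal.Quotient.eq_zero_iff_mem, (hE' _).1 hx, map_zero]
      have hc' : c' ∈ J := by
        rw [← Ideal.Quotient.eq_zero_iff_mem, (hE' _).1 hy, map_zero]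
      have h0 : c * c' = 0 := by
        have : c * c' ∈ J * J := Ideal.mul_mem_mul hc hc'
        rwa [← pow_two, hJ, Ideal.mem_bot] at this
      apply Subtype.ext
      apply Prod.ext
      · exact h0
      · exact mul_zero _
    have hu' : ∀ b, Ideal.Quotient.mk J (u b) = u₀ b := fun b => AlgHom.congr_fun hu b
    let X := ofSurj p hp hsq
    have hX : X.IsTrivialOver Λ := by
      let r : B →+* X.RestrictCarrier Λ :=
        { toFun := fun b => (⟨(u b, b), (hE' _).2 (hu' b)⟩ : E')
          map_one' := by
            apply Subtype.ext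
            apply Prod.ext
            · exact map_one u
            · rfl
          map_mul' := fun b b' => by
            apply Subtype.ext
            apply Prod.ext
            · exact map_mul u b b'
            · rfl
          map_zero' := by
            apply Subtype.ext
            apply Prod.ext
            · exact map_zero u
            · rfl
          map_add' := fun b b' => by
            apply Subtype.ext
            apply Prod.ext
            · exact map_add u b b'
            · rfl }
      refine ⟨{ toRingHom := r, commutes' := fun l => ?_ }, fun b => rfl⟩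
      apply Subtype.ext
      apply Prod.ext
      · change u (algebraMap Λ B l) = algebraMap A C (algebraMap Λ A l)
        rw [AlgHom.commutes, IsScalarTower.algebraMap_apply Λ A C]
      · change algebraMap Λ B l = algebraMap A B (algebraMap Λ A l)
        rw [IsScalarTower.algebraMap_apply Λ A B]
    obtain ⟨s, hs⟩ := H _ X hX
    let s' : B →ₐ[A] E' := s
    have hs' : ∀ b, (s' b).1.2 = b := hs
    refine ⟨(AlgHom.fst A C B).comp (E'.val.comp s'), ?_⟩
    ext b
    change Ideal.Quotient.mk J (s' b).1.1 = u₀ b
    rw [(hE' _).1 (s' b).2, hs']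

end Groth.Agent.S5816
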