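import Groth.Statements.S5817

set_option autoImplicit false
universe u v
open EGA41

namespace Groth.Agent.S5817

attribute [local instance] Exal.opModule Exal.isCentralScalar_opModule

/-- Commutative rings, exactness at Der_A(B, L). For ring maps A → B → C and a C-module L, the
B-extension of C by L attached to an A-derivation D : B → L (middle ring C ⊕ L, made a B-algebra
through x ↦ (x, D x)) is trivial if and only if D is the composite of B → C with an A-derivation C →
L. -/
theorem result {A : Type u} {B C L : Type v} [CommRing A] [CommRing B] [CommRing C]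
    [Algebra A B] [Algebra B C] [Algebra A C] [IsScalarTower A B C]
    [AddCommGroup L] [Module C L] [Module B L] [IsScalarTower B C L] [Module A L] [IsScalarTower A B L]
    [IsScalarTower A C L]
    (D : Derivation A B L) :
    (Exal.Ext.ofDerivation (C := C) D).IsTrivial ↔
      ∃ D' : Derivation A C L, D'.compAlgebraMap B = D := by
  constructor
  · rintro ⟨s, hs⟩
    let t : C → TrivSqZeroExt C L := fun c => s c
    have ht_mul : ∀ c c', t (c * c') = t c * t c' := fun c c' => map_mul s c c'
    have ht_add : ∀ c c', t (c + c') = t c + t c' := fun c c' => map_add s c c'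
    have ht_fst : ∀ c, (t c).fst = c := hs
    have ht_B : ∀ b : B, t (algebraMap B C b) =
        TrivSqZeroExt.inl (algebraMap B C b) + TrivSqZeroExt.inr (D b) := fun b => s.commutes b
    have hmul : ∀ c c' : C, (t (c * c')).snd = c • (t c').snd + c' • (t c).snd := by
      intro c c'
      rw [ht_mul, TrivSqZeroExt.snd_mul, ht_fst, ht_fst, op_smul_eq_smul]
    let D₀ : C →ₗ[A] L :=
      { toFun := fun c => (t c).snd
        map_add' := fun c c' => by
          rw [ht_add, TrivSqZeroExt.snd_add]
        map_smul' := fun a c => by
          have h2 : a • c = algebraMap B C (algebraMap A B a) * c := by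
            rw [Algebra.smul_def, IsScalarTower.algebraMap_apply A B C]
          rw [h2, hmul, ht_B, RingHom.id_apply]
          simp only [TrivSqZeroExt.snd_add, TrivSqZeroExt.snd_inl, TrivSqZeroExt.snd_inr, zero_add,
            Derivation.map_algebraMap, smul_zero, add_zero]
          rw [← IsScalarTower.algebraMap_apply A B C, algebraMap_smul] }
    refine ⟨Derivation.mk' D₀ hmul, ?_⟩
    ext b
    change (t (algebraMap B C b)).snd = D b
    rw [ht_B]
    simp
  · rintro ⟨D', rfl⟩
    let r : C →+* (Exal.Ext.ofDerivation (C := C) (D'.compAlgebraMap B)).E :=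
      Exal.Ext.derivationHom (C := C) D'
    refine ⟨{ toRingHom := r, commutes' := fun b => rfl }, fun c => ?_⟩
    change TrivSqZeroExt.fst (TrivSqZeroExt.inl (algebraMap C C c) + TrivSqZeroExt.inr (D' c)) = c
    simp

end Groth.Agent.S5817
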