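import Groth.Statements.S5818
import Groth.Agent.H29.ExalSplit

set_option autoImplicit false
universe u v
open EGA41

namespace Groth.Agent.S5818

attribute [local instance] Exal.opModule Exal.isCentralScalar_opModule

/-- Commutative rings, exactness at Exalcom_B(C, L) on underlying pointed sets. For ring maps A → B → C
and a C-module L, a B-extension of C by L is A-trivial if and only if it is equivalent to the
extension attached to some A-derivation B → L. -/
theorem result {A : Type u} {B C L : Type v} [CommRing A] [CommRing B] [CommRing C]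
    [Algebra A B] [Algebra B C] [Algebra A C] [IsScalarTower A B C]
    [AddCommGroup L] [Module C L] [Module B L] [IsScalarTower B C L] [Module A L] [IsScalarTower A B L]
    [IsScalarTower A C L]
    (X : Exal.Ext B C L) :
    X.IsTrivialOver A ↔
      ∃ D : Derivation A B L, Nonempty (X.Equiv (Exal.Ext.ofDerivation (C := C) D)) := by
  open Groth.Agent.H29.ExalAPI in
  constructor
  · rintro ⟨s, hs⟩
    let r : C →+* X.E := s.toRingHom
    have hr : ∀ c, X.proj (r c) = c := hs
    have hrA : ∀ a : A, r (algebraMap A C a) = algebraMap B X.E (algebraMap A B a) :=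
      fun a => s.commutes a
    have hsigA : ∀ a : A, sigma X r hr (algebraMap B X.E (algebraMap A B a)) = 0 := by
      intro a
      rw [← hrA, sigma_section]
    have hleib : ∀ b b' : B, sigma X r hr (algebraMap B X.E (b * b')) =
        b • sigma X r hr (algebraMap B X.E b') + b' • sigma X r hr (algebraMap B X.E b) := by
      intro b b'
      rw [map_mul, sigma_mul, AlgHom.commutes, AlgHom.commutes, algebraMap_smul, algebraMap_smul]
    let D₀ : B →ₗ[A] L :=
      { toFun := fun b => sigma X r hr (algebraMap B X.E b)
        map_add' := fun b b' => by rw [map_add, sigma_add]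
        map_smul' := fun a b => by
          rw [Algebra.smul_def, hleib, hsigA, smul_zero, add_zero, RingHom.id_apply, algebraMap_smul] }
    let D : Derivation A B L := Derivation.mk' D₀ hleib
    have hD : ∀ b, D b = sigma X r hr (algebraMap B X.E b) := fun b => rfl
    refine ⟨D, ⟨?_⟩⟩
    let e : X.E ≃+* (Exal.Ext.ofDerivation (C := C) D).E := splitEquiv X r hr
    have he : ∀ x, e x = splitHom X r hr x := fun x => rfl
    refine ⟨AlgEquiv.ofRingEquiv (f := e) (fun b => ?_), fun x => ?_, fun z => ?_⟩
    · rw [he, splitHom_apply, AlgHom.commutes, ← hD]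
      rfl
    · change TrivSqZeroExt.fst (splitHom X r hr x) = X.proj x
      rw [fst_splitHom]
    · change splitHom X r hr (X.incl z) = TrivSqZeroExt.inr z
      rw [splitHom_incl]
  · rintro ⟨D, ⟨e⟩⟩
    let Y := Exal.Ext.ofDerivation (C := C) D
    let i : C →+* Y.E := TrivSqZeroExt.inlHom C L
    have hi : ∀ c, Y.proj (i c) = c := fun c => rfl
    let r : C →+* X.RestrictCarrier A := (e.toAlgEquiv.symm : Y.E →+* X.E).comp i
    have hr : ∀ c, r c = e.toAlgEquiv.symm (i c) := fun c => rfl
    refine ⟨{ toRingHom := r, commutes' := fun a => ?_ }, fun c => ?_⟩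
    · change r (algebraMap A C a) = algebraMap B X.E (algebraMap A B a)
      rw [hr, ← e.toAlgEquiv.symm.commutes (algebraMap A B a)]
      congr 1
      change TrivSqZeroExt.inl (algebraMap A C a) =
        TrivSqZeroExt.inl (algebraMap B C (algebraMap A B a)) + TrivSqZeroExt.inr (D (algebraMap A B a))
      rw [Derivation.map_algebraMap, TrivSqZeroExt.inr_zero, add_zero,
        ← IsScalarTower.algebraMap_apply A B C]
    · change X.proj (e.toAlgEquiv.symm (i c)) = c
      rw [← hi c]
      exact e.symm.proj_apply (i c)

end Groth.Agent.S5818
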