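import Groth.Statements.S5819
import Groth.Agent.H29.ExalSplit

set_option autoImplicit false
universe u v
open EGA41

namespace Groth.Agent.S5819

/-- Commutative rings, exactness at Exalcom_A(C, L) on underlying pointed sets. For ring maps A → B → C
and a C-module L, an A-extension Y of C by L pulls back to a trivial A-extension of B if and only if
Y is equivalent to some B-extension of C by L viewed as an A-extension. -/
theorem result {A : Type u} {B C L : Type v} [CommRing A]
    [CommRing B] [CommRing C] [Algebra A B] [Algebra B C] [Algebra A C] [IsScalarTower A B C]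
    [AddCommGroup L] [Module C L] [Module B L] [IsScalarTower B C L]
    (Y : Exal.Ext A C L) :
    (Y.pullback B).IsTrivial ↔
      ∃ X : Exal.Ext B C L, Nonempty ((X.restrictBase A).Equiv Y) := by
  constructor
  · rintro ⟨s, hs⟩
    let s' : B →ₐ[A] Y.fiberProd B := s
    have hs' : ∀ b, (s' b).1.2 = b := hs
    let t : B →ₐ[A] Y.E := (AlgHom.fst A Y.E B).comp ((Y.fiberProd B).val.comp s')
    have ht : ∀ b, Y.proj (t b) = algebraMap B C b := by
      intro b
      have h := (s' b).2
      have h' : Y.proj (s' b).1.1 = algebraMap B C (s' b).1.2 := h
      rw [hs'] at h'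
      exact h'
    letI algB : Algebra B Y.E := t.toRingHom.toAlgebra
    let X : Exal.Ext B C L :=
      { E := Y.E
        proj :=
          { toFun := fun x => Y.proj x
            map_one' := map_one Y.proj
            map_mul' := map_mul Y.proj
            map_zero' := map_zero Y.proj
            map_add' := map_add Y.proj
            commutes' := ht }
        incl := Y.incl
        isExtension :=
          { proj_surjective := Y.isExtension.proj_surjective
            incl_injective := Y.isExtension.incl_injective
            exact := Y.isExtension.exact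
            mul_incl := Y.isExtension.mul_incl } }
    refine ⟨X, ⟨?_⟩⟩
    let f : (X.restrictBase A).E ≃+* Y.E := RingEquiv.refl Y.E
    refine ⟨AlgEquiv.ofRingEquiv (f := f) (fun a => ?_), fun x => rfl, fun z => rfl⟩
    exact t.commutes a
  · rintro ⟨X, ⟨e⟩⟩
    let gX : B →ₐ[A] (X.restrictBase A).E :=
      { toRingHom := algebraMap B X.E, commutes' := fun a => rfl }
    have hgX : ∀ b, gX b = algebraMap B X.E b := fun b => rfl
    let gA : B →ₐ[A] Y.E := (e.toAlgEquiv : (X.restrictBase A).E →ₐ[A] Y.E).comp gX
    have hgA : ∀ b, Y.proj (gA b) = algebraMap B C b := by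
      intro b
      change Y.proj (e.toAlgEquiv (gX b)) = _
      rw [e.proj_apply, hgX]
      exact X.proj.commutes b
    let s : B →ₐ[A] Y.fiberProd B :=
      (gA.prod (AlgHom.id A B)).codRestrict (Y.fiberProd B) (fun b => hgA b)
    exact ⟨s, fun b => rfl⟩

end Groth.Agent.S5819
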