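import Groth.Statements.S5821
import Groth.Agent.H29.CharHom

set_option autoImplicit false
universe u v
open EGA41

namespace Groth.Agent.S5821

/-- For a ring map A → B, an ideal K of B, C = B ⧸ K and the B-extension E = B ⧸ K² of C by K/K², if E
is A-trivial then its characteristic homomorphism Υ_{C/B/A} → K/K² is bijective (stated for every
C-linear χ satisfying the defining square, of which there is exactly one). -/
theorem result {A : Type u} {B : Type v} [CommRing A] [CommRing B] [Algebra A B]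
    (K : Ideal B) (hK : (Exal.Ext.infinitesimal K).IsTrivialOver A)
    (χ : ↥(EGA41.imperfection A B (B ⧸ K)) →ₗ[B ⧸ K] K.Cotangent)
    (hχ : (Exal.Ext.infinitesimal K).IsCharHom A χ) :
    Function.Bijective χ := by
  open Groth.Agent.H29.CharHomLib TensorProduct in
  obtain ⟨S⟩ := (isTrivialOver_iff A (Exal.Ext.infinitesimal K)).1 hK
  have hinj := deltaL_injective S
  -- the elements 1 ⊗ d k
  have hmem : ∀ k ∈ K, ((1 : B ⧸ K) ⊗ₜ[B] KaehlerDifferential.D A B k) ∈ EGA41.imperfection A B (B ⧸ K) := by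
    intro k hk
    change KaehlerDifferential.mapBaseChange A B (B ⧸ K) _ = 0
    rw [KaehlerDifferential.mapBaseChange_tmul, KaehlerDifferential.map_D, one_smul,
      Ideal.Quotient.algebraMap_eq, Ideal.Quotient.eq_zero_iff_mem.2 hk, map_zero]
  have hχk : ∀ (k : B) (hk : k ∈ K),
      χ ⟨(1 : B ⧸ K) ⊗ₜ[B] KaehlerDifferential.D A B k, hmem k hk⟩ = K.toCotangent ⟨k, hk⟩ := by
    intro k hk
    apply hinj
    rw [hχ, deltaL_apply, baseChangeToMiddle_tmul, KaehlerDifferential.map_D]
    congr 2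
  have hex : ∀ z : ↥(EGA41.imperfection A B (B ⧸ K)), ∃ (k : B) (hk : k ∈ K),
      z = ⟨(1 : B ⧸ K) ⊗ₜ[B] KaehlerDifferential.D A B k, hmem k hk⟩ := by
    intro z
    have hz : KaehlerDifferential.mapBaseChange A B (B ⧸ K) (z : (B ⧸ K) ⊗[B] Ω[B⁄A]) = 0 := z.2
    obtain ⟨c, hc⟩ := (KaehlerDifferential.exact_kerCotangentToTensor_mapBaseChange A B (B ⧸ K)
      Ideal.Quotient.mk_surjective _).1 hz
    obtain ⟨x, rfl⟩ := Ideal.toCotangent_surjective _ c
    have hxK : x.1 ∈ K := by
      have h := RingHom.mem_ker.1 x.2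
      exact Ideal.Quotient.eq_zero_iff_mem.1 h
    refine ⟨x.1, hxK, Subtype.ext ?_⟩
    rw [← hc, KaehlerDifferential.kerCotangentToTensor_toCotangent]
  have hsq : ∀ k ∈ K ^ 2, ((1 : B ⧸ K) ⊗ₜ[B] KaehlerDifferential.D A B k) = 0 := by
    intro k hk
    rw [pow_two] at hk
    refine Submodule.mul_induction_on hk ?_ ?_
    · intro a ha b hb
      have h1 : ∀ x ∈ K, (x • (1 : B ⧸ K)) = 0 := by
        intro x hx
        rw [Algebra.smul_def, mul_one, Ideal.Quotient.algebraMap_eq, Ideal.Quotient.eq_zero_iff_mem]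
        exact hx
      rw [Derivation.leibniz, tmul_add, ← smul_tmul, ← smul_tmul, h1 a ha, h1 b hb, zero_tmul,
        zero_tmul, add_zero]
    · intro a b ha hb
      rw [map_add, tmul_add, ha, hb, add_zero]
  constructor
  · rw [injective_iff_map_eq_zero]
    intro z hz
    obtain ⟨k, hk, rfl⟩ := hex z
    rw [hχk k hk, Ideal.toCotangent_eq_zero] at hz
    exact Subtype.ext (hsq k hz)
  · intro c
    obtain ⟨⟨k, hk⟩, rfl⟩ := K.toCotangent_surjective c
    exact ⟨_, hχk k hk⟩

end Groth.Agent.S5821
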