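import Groth.Statements.S5822
import Groth.Agent.H29.CharHom2

set_option autoImplicit false
universe u v
open scoped TensorProduct
open EGA41

namespace Groth.Agent.S5822

attribute [local instance] Exal.opModule Exal.isCentralScalar_opModule

/-- Injectivity. For ring maps A → B → C and a C-module L, assume (i) L is an injective C-module, or
(ii) Υ_{C/B/A} is a direct summand of C ⊗_B Ω_{B/A} and Ω_{C/A} → Ω_{C/B} has a right inverse. Then
two A-trivial B-extensions of C by L with a common characteristic homomorphism are equivalent: the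
map from classes of A-trivial extensions to Hom_C(Υ_{C/B/A}, L) is injective. -/
theorem result {A : Type u} {B C L : Type v} [CommRing A] [CommRing B] [CommRing C]
    [Algebra A B] [Algebra B C] [Algebra A C] [IsScalarTower A B C] [AddCommGroup L] [Module C L]
    (h : Module.Injective C L ∨
      ((∃ r : C ⊗[B] Ω[B⁄A] →ₗ[C] ↥(EGA41.imperfection A B C), ∀ z : ↥(EGA41.imperfection A B C), r z = z) ∧
        ∃ s : Ω[C⁄B] →ₗ[C] Ω[C⁄A], ∀ ω : Ω[C⁄B], KaehlerDifferential.map A B C C (s ω) = ω))
    (X Y : Exal.Ext B C L) (hX : X.IsTrivialOver A) (hY : Y.IsTrivialOver A)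
    (χ : ↥(EGA41.imperfection A B C) →ₗ[C] L) (hXχ : X.IsCharHom A χ) (hYχ : Y.IsCharHom A χ) :
    Nonempty (X.Equiv Y) := by
  open Groth.Agent.H29.CharHomLib TensorProduct in
  letI : Module B L := Module.compHom L (algebraMap B C)
  letI : Module A L := Module.compHom L (algebraMap A C)
  haveI : IsScalarTower B C L := IsScalarTower.of_algebraMap_smul (fun _ _ => rfl)
  haveI : IsScalarTower A C L := IsScalarTower.of_algebraMap_smul (fun _ _ => rfl)
  haveI : IsScalarTower A B L := ⟨fun a b l => by
    change algebraMap B C (a • b) • l = algebraMap A C a • (algebraMap B C b • l)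
    rw [Algebra.smul_def, map_mul, mul_smul, ← IsScalarTower.algebraMap_apply A B C]⟩
  obtain ⟨S⟩ := (isTrivialOver_iff A X).1 hX
  obtain ⟨T⟩ := (isTrivialOver_iff A Y).1 hY
  have h1 := (isCharHom_iff S χ).1 hXχ
  have h2 := (isCharHom_iff T χ).1 hYχ
  let v : C ⊗[B] Ω[B⁄A] →ₗ[C] Ω[C⁄A] := KaehlerDifferential.mapBaseChange A B C
  let φ : C ⊗[B] Ω[B⁄A] →ₗ[C] L := phiOf (C := C) (derOf S) - phiOf (C := C) (derOf T)
  have hker : LinearMap.ker v ≤ LinearMap.ker φ := by
    intro t ht
    rw [LinearMap.mem_ker, LinearMap.sub_apply, sub_eq_zero]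
    have e1 := h1 ⟨t, ht⟩
    have e2 := h2 ⟨t, ht⟩
    rw [← e1, ← e2]
  obtain ⟨ψ, hψ⟩ : ∃ ψ : Ω[C⁄A] →ₗ[C] L, ∀ t, ψ (v t) = φ t := by
    rcases h with hinj | ⟨-, ⟨s, hs⟩⟩
    · haveI := hinj
      exact exists_factor_of_injective v φ hker
    · let π : Ω[C⁄A] →ₗ[C] Ω[C⁄B] := KaehlerDifferential.map A B C C
      let pr : Ω[C⁄A] →ₗ[C] Ω[C⁄A] := LinearMap.id - s.comp π
      refine exists_factor_of_proj v φ hker pr ?_ ?_
      · intro q
        rw [KaehlerDifferential.range_mapBaseChange, LinearMap.mem_ker]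
        change π (q - s (π q)) = 0
        rw [map_sub, hs, sub_self]
      · intro t
        change v t - s (π (v t)) = v t
        have h0 : π (v t) = 0 :=
          (KaehlerDifferential.exact_mapBaseChange_map A B C (v t)).2 ⟨t, rfl⟩
        rw [h0, map_zero, sub_zero]
  let D' : Derivation A C L := ψ.compDer (KaehlerDifferential.D A C)
  have hD' : ∀ b, D' (algebraMap B C b) = derOf S b - derOf T b := by
    intro b
    change ψ (KaehlerDifferential.D A C (algebraMap B C b)) = _
    have hv : v ((1 : C) ⊗ₜ KaehlerDifferential.D A B b) =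
        KaehlerDifferential.D A C (algebraMap B C b) := by
      rw [KaehlerDifferential.mapBaseChange_tmul, KaehlerDifferential.map_D, one_smul]
    rw [← hv, hψ, LinearMap.sub_apply, phiOf_tmul_D, phiOf_tmul_D, one_smul, one_smul]
  refine nonempty_equiv_of_derOf_eq (S.twist D') T ?_
  ext b
  rw [derOf_twist, hD']
  abel

end Groth.Agent.S5822
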