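import Groth.Statements.S5823
import Groth.Agent.H29.CharHom2

set_option autoImplicit false
universe u v
open scoped TensorProduct
open EGA41

namespace Groth.Agent.S5823

attribute [local instance] Exal.opModule Exal.isCentralScalar_opModule

/-- Surjectivity. For ring maps A → B → C and a C-module L, assume (i) L is an injective C-module, or
(ii) Υ_{C/B/A} is a direct summand of C ⊗_B Ω_{B/A} and Ω_{C/A} → Ω_{C/B} has a right inverse. Then
every C-linear map Υ_{C/B/A} → L is the characteristic homomorphism of an A-trivial B-extension of C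
by L. -/
theorem result {A : Type u} {B C L : Type v} [CommRing A] [CommRing B] [CommRing C]
    [Algebra A B] [Algebra B C] [Algebra A C] [IsScalarTower A B C] [AddCommGroup L] [Module C L]
    (h : Module.Injective C L ∨
      ((∃ r : C ⊗[B] Ω[B⁄A] →ₗ[C] ↥(EGA41.imperfection A B C), ∀ z : ↥(EGA41.imperfection A B C), r z = z) ∧
        ∃ s : Ω[C⁄B] →ₗ[C] Ω[C⁄A], ∀ ω : Ω[C⁄B], KaehlerDifferential.map A B C C (s ω) = ω))
    (χ : ↥(EGA41.imperfection A B C) →ₗ[C] L) :
    ∃ X : Exal.Ext B C L, X.IsTrivialOver A ∧ X.IsCharHom A χ := by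
  open Groth.Agent.H29.CharHomLib TensorProduct in
  letI : Module B L := Module.compHom L (algebraMap B C)
  letI : Module A L := Module.compHom L (algebraMap A C)
  haveI : IsScalarTower B C L := IsScalarTower.of_algebraMap_smul (fun _ _ => rfl)
  haveI : IsScalarTower A C L := IsScalarTower.of_algebraMap_smul (fun _ _ => rfl)
  haveI : IsScalarTower A B L := ⟨fun a b l => by
    change algebraMap B C (a • b) • l = algebraMap A C a • (algebraMap B C b • l)
    rw [Algebra.smul_def, map_mul, mul_smul, ← IsScalarTower.algebraMap_apply A B C]⟩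
  obtain ⟨φ, hφ⟩ : ∃ φ : C ⊗[B] Ω[B⁄A] →ₗ[C] L,
      ∀ z : ↥(EGA41.imperfection A B C), φ z = χ z := by
    rcases h with hinj | ⟨⟨r, hr⟩, -⟩
    · haveI := hinj
      obtain ⟨φ, hφ⟩ := @Module.Injective.out C _ L _ _ hinj ↥(EGA41.imperfection A B C)
        (C ⊗[B] Ω[B⁄A]) _ _ _ _ (EGA41.imperfection A B C).subtype Subtype.val_injective χ
      exact ⟨φ, hφ⟩
    · exact ⟨χ.comp r, fun z => by rw [LinearMap.comp_apply, hr]⟩
  let φB : Ω[B⁄A] →ₗ[B] L := (φ.restrictScalars B).comp (TensorProduct.mk B C Ω[B⁄A] 1)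
  let D : Derivation A B L := φB.compDer (KaehlerDifferential.D A B)
  have hD : ∀ b, D b = φ ((1 : C) ⊗ₜ KaehlerDifferential.D A B b) := fun b => rfl
  have hφD : phiOf (C := C) D = φ :=
    linearMap_ext_tensor_kaehler (fun b => by rw [phiOf_tmul_D, one_smul, hD])
  refine ⟨Exal.Ext.ofDerivation (C := C) D, isTrivialOver_ofDerivation D, ?_⟩
  rw [isCharHom_ofDerivation_iff, hφD]
  intro z
  exact (hφ z).symm

end Groth.Agent.S5823
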