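import Groth.Statements.S5824
import Groth.Agent.S5822
import Groth.Agent.S5823
import Mathlib.RingTheory.Smooth.Basic
import Mathlib.Algebra.Module.Projective

set_option autoImplicit false
universe u v
open EGA41

namespace Groth.Agent.S5824

/-- For ring maps A → B → C with C formally smooth over A (discrete topologies) and Ω_{C/B} a projective
C-module, and a C-module L, the characteristic homomorphism is a bijection from the classes of all
B-extensions of C by L (each of which is A-trivial) onto Hom_C(Υ_{C/B/A}, L): injectivity on classes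
and surjectivity. -/
theorem result {A : Type u} {B C L : Type v} [CommRing A] [CommRing B] [CommRing C]
    [Algebra A B] [Algebra B C] [Algebra A C] [IsScalarTower A B C] [AddCommGroup L] [Module C L]
    [Algebra.FormallySmooth A C] [Module.Projective C Ω[C⁄B]] :
    (∀ (X Y : Exal.Ext B C L) (χ : ↥(EGA41.imperfection A B C) →ₗ[C] L),
        X.IsCharHom A χ → Y.IsCharHom A χ → Nonempty (X.Equiv Y)) ∧
      ∀ χ : ↥(EGA41.imperfection A B C) →ₗ[C] L, ∃ X : Exal.Ext B C L, X.IsCharHom A χ := by
  open Groth.Agent.H29.CharHomLib Groth.Agent.H29.ExalAPI TensorProduct in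
  have htriv : ∀ X : Exal.Ext B C L, X.IsTrivialOver A := by
    intro X
    exact ⟨Algebra.FormallySmooth.liftOfSurjective (AlgHom.id A C) (X.restrictBase A).proj
      (X.restrictBase A).isExtension.proj_surjective (isNilpotent_ker_proj (X.restrictBase A)),
      fun c => Algebra.FormallySmooth.liftOfSurjective_apply (AlgHom.id A C) (X.restrictBase A).proj
        (X.restrictBase A).isExtension.proj_surjective (isNilpotent_ker_proj (X.restrictBase A)) c⟩
  let v : C ⊗[B] Ω[B⁄A] →ₗ[C] Ω[C⁄A] := KaehlerDifferential.mapBaseChange A B C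
  let π : Ω[C⁄A] →ₗ[C] Ω[C⁄B] := KaehlerDifferential.map A B C C
  obtain ⟨s, hs⟩ := Module.projective_lifting_property π (LinearMap.id : Ω[C⁄B] →ₗ[C] Ω[C⁄B])
    (KaehlerDifferential.map_surjective A B C)
  have hs' : ∀ ω, π (s ω) = ω := fun ω => LinearMap.congr_fun hs ω
  have hrange : ∀ q : Ω[C⁄A], q - s (π q) ∈ LinearMap.range v := by
    intro q
    rw [KaehlerDifferential.range_mapBaseChange, LinearMap.mem_ker]
    change π (q - s (π q)) = 0
    rw [map_sub, hs', sub_self]
  let pr : Ω[C⁄A] →ₗ[C] LinearMap.range v :=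
    (LinearMap.id - s.comp π).codRestrict (LinearMap.range v) hrange
  have hprι : pr.comp (LinearMap.range v).subtype = LinearMap.id := by
    apply LinearMap.ext
    rintro ⟨q, t, rfl⟩
    apply Subtype.ext
    change v t - s (π (v t)) = v t
    have h0 : π (v t) = 0 :=
      (KaehlerDifferential.exact_mapBaseChange_map A B C (v t)).2 ⟨t, rfl⟩
    rw [h0, map_zero, sub_zero]
  haveI : Module.Projective C (LinearMap.range v) :=
    Module.Projective.of_split (LinearMap.range v).subtype pr hprι
  obtain ⟨j, hj⟩ := Module.projective_lifting_property v.rangeRestrict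
    (LinearMap.id : LinearMap.range v →ₗ[C] LinearMap.range v) v.surjective_rangeRestrict
  have hj' : ∀ y : LinearMap.range v, v (j y) = y := by
    intro y
    have := LinearMap.congr_fun hj y
    exact congrArg Subtype.val this
  have hmem : ∀ t : C ⊗[B] Ω[B⁄A], t - j (v.rangeRestrict t) ∈ EGA41.imperfection A B C := by
    intro t
    change v (t - j (v.rangeRestrict t)) = 0
    rw [map_sub, hj']
    exact sub_self _
  let r : C ⊗[B] Ω[B⁄A] →ₗ[C] ↥(EGA41.imperfection A B C) :=
    (LinearMap.id - j.comp v.rangeRestrict).codRestrict (EGA41.imperfection A B C) hmem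
  have hr : ∀ z : ↥(EGA41.imperfection A B C), r z = z := by
    intro z
    apply Subtype.ext
    change (z : C ⊗[B] Ω[B⁄A]) - j (v.rangeRestrict z) = z
    have hz : v.rangeRestrict (z : C ⊗[B] Ω[B⁄A]) = 0 := by
      apply Subtype.ext
      exact z.2
    rw [hz, map_zero, sub_zero]
  have hcond : (∃ r : C ⊗[B] Ω[B⁄A] →ₗ[C] ↥(EGA41.imperfection A B C),
        ∀ z : ↥(EGA41.imperfection A B C), r z = z) ∧
      ∃ s : Ω[C⁄B] →ₗ[C] Ω[C⁄A], ∀ ω : Ω[C⁄B], KaehlerDifferential.map A B C C (s ω) = ω :=
    ⟨⟨r, hr⟩, ⟨s, hs'⟩⟩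
  refine ⟨fun X Y χ hX hY => Groth.Agent.S5822.result (Or.inr hcond) X Y (htriv X) (htriv Y) χ hX hY,
    fun χ => ?_⟩
  obtain ⟨X, -, hX⟩ := Groth.Agent.S5823.result (A := A) (B := B) (Or.inr hcond) χ
  exact ⟨X, hX⟩

end Groth.Agent.S5824
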