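import Groth.Statements.S5825
import Groth.Agent.H29.TopModAux

set_option autoImplicit false
universe u v w
open EGA41

namespace Groth.Agent.S5825

/-- Let A be a topological ring, M, N topological A-modules with the topologies deduced from that of A,
and u : M → N a continuous linear map with dense image (a formal epimorphism). Then u is a formal
bimorphism (dense image and inducing) if and only if, for every open ideal J of A, the induced map
M/JM → N/JN is bijective (injectivity and surjectivity are written out elementwise). -/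
theorem result {A : Type u} {M : Type v} {N : Type w} [CommRing A]
    [TopologicalSpace A] [AddCommGroup M] [Module A M] [TopologicalSpace M] [AddCommGroup N] [Module A N]
    [TopologicalSpace N] (hM : TopMod.IsDeduced A M) (hN : TopMod.IsDeduced A N) (u : M →L[A] N)
    (hu : DenseRange u) :
    IsDenseInducing u ↔
      ∀ J : Ideal A, IsOpen (J : Set A) →
        (∀ x : M, u x ∈ (J • ⊤ : Submodule A N) → x ∈ (J • ⊤ : Submodule A M)) ∧
          ∀ y : N, ∃ x : M, y - u x ∈ (J • ⊤ : Submodule A N) := by
  open Groth.Agent.H29.TopModAux in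
  haveI := hM.1
  haveI := hN.1
  have surj : ∀ J : Ideal A, IsOpen (J : Set A) →
      ∀ y : N, ∃ x : M, y - u x ∈ (J • ⊤ : Submodule A N) := by
    intro J hJ y
    have hcont : Filter.Tendsto (fun y' : N => y - y') (nhds y) (nhds 0) := by
      have h1 : ContinuousAt (fun y' : N => y - y') y :=
        (continuous_const.sub continuous_id).continuousAt
      have h2 : Filter.Tendsto (fun y' : N => y - y') (nhds y) (nhds (y - y)) := h1
      rwa [sub_self] at h2
    obtain ⟨x, hx⟩ := hu.mem_nhds (hcont (smul_top_mem_nhds hN J hJ))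
    exact ⟨x, hx⟩
  constructor
  · intro hdi J hJ
    refine ⟨fun x hx => ?_, surj J hJ⟩
    have hind := hdi.toIsInducing
    have h1 : ((J • ⊤ : Submodule A M) : Set M) ∈ nhds (0 : M) := smul_top_mem_nhds hM J hJ
    rw [hind.nhds_eq_comap, map_zero] at h1
    obtain ⟨V, hV, hVsub⟩ := Filter.mem_comap.1 h1
    obtain ⟨J', hJ', hJ'sub⟩ := exists_smul_top_subset hN V hV
    have claim : ∀ n ∈ (J • ⊤ : Submodule A N),
        ∃ m ∈ (J • ⊤ : Submodule A M), n - u m ∈ (J' • ⊤ : Submodule A N) := by
      intro n hn
      refine Submodule.smul_induction_on hn ?_ ?_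
      · intro j hj n₀ _
        obtain ⟨m₀, hm₀⟩ := surj J' hJ' n₀
        refine ⟨j • m₀, Submodule.smul_mem_smul hj Submodule.mem_top, ?_⟩
        rw [map_smul, ← smul_sub]
        exact Submodule.smul_mem _ j hm₀
      · rintro a b ⟨ma, hma, ha⟩ ⟨mb, hmb, hb⟩
        refine ⟨ma + mb, add_mem hma hmb, ?_⟩
        have h3 := add_mem ha hb
        have h4 : a + b - u (ma + mb) = a - u ma + (b - u mb) := by
          rw [map_add]; abel
        rw [h4]
        exact h3
    obtain ⟨m, hm, hm'⟩ := claim (u x) hx
    have h5 : x - m ∈ (J • ⊤ : Submodule A M) := by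
      apply hVsub
      change u (x - m) ∈ V
      rw [map_sub]
      exact hJ'sub hm'
    have h6 := add_mem h5 hm
    rwa [sub_add_cancel] at h6
  · intro H
    refine IsDenseInducing.mk ?_ hu
    rw [IsTopologicalAddGroup.isInducing_iff_nhds_zero]
    apply le_antisymm
    · exact (u.continuous.tendsto' 0 0 (map_zero u)).le_comap
    · intro S hS
      obtain ⟨J, hJ, hJS⟩ := exists_smul_top_subset hM S hS
      exact Filter.mem_comap.2 ⟨_, smul_top_mem_nhds hN J hJ, fun x hx => hJS ((H J hJ).1 x hx)⟩

end Groth.Agent.S5825
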