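import Groth.Statements.S5828
import Groth.Agent.H29.ExalSplit
import Mathlib.Tactic.LinearCombination
import Mathlib.Tactic.Ring

set_option autoImplicit false
universe u v
open EGA41

namespace Groth.Agent.S5828

/-- Commutative case. For an A-extension X of C by a C-module L, with middle ring E, projection p and
inclusion i, the A-derivations D : C → L and the self-equivalences of X correspond under D ↦ (x ↦ x
+ i (D (p x))): every derivation defines a self-equivalence with this formula, and every
self-equivalence is of this form for exactly one derivation. (Bijection of sets; the published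
statement also records compatibility with the group laws.) -/
theorem result {A : Type u} {C L : Type v} [CommRing A] [CommRing C] [Algebra A C]
    [AddCommGroup L] [Module C L] [Module A L] [IsScalarTower A C L] (X : Exal.Ext A C L) :
    (∀ D : Derivation A C L, ∃ e : X.Equiv X, ∀ x : X.E, e.toAlgEquiv x = x + X.incl (D (X.proj x))) ∧
      ∀ e : X.Equiv X, ∃! D : Derivation A C L, ∀ x : X.E, e.toAlgEquiv x = x + X.incl (D (X.proj x)) := by
  open Groth.Agent.H29.ExalAPI in
  have hpi : ∀ z : L, X.proj (X.incl z) = 0 := fun z => proj_incl X z
  -- the algebra endomorphism attached to a derivation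
  have key : ∀ D : Derivation A C L, ∃ f : X.E →ₐ[A] X.E,
      ∀ x : X.E, f x = x + X.incl (D (X.proj x)) := by
    intro D
    refine ⟨
      { toFun := fun x => x + X.incl (D (X.proj x))
        map_one' := by
          change (1 : X.E) + X.incl (D (X.proj 1)) = 1
          rw [map_one, Derivation.map_one_eq_zero, map_zero, add_zero]
        map_mul' := fun x y => by
          change x * y + X.incl (D (X.proj (x * y))) =
            (x + X.incl (D (X.proj x))) * (y + X.incl (D (X.proj y)))
          rw [map_mul, Derivation.leibniz, map_add, ← X.isExtension.mul_incl, ← X.isExtension.mul_incl]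
          have h0 := incl_mul_incl X (D (X.proj x)) (D (X.proj y))
          linear_combination (-1 : X.E) * h0
        map_zero' := by
          change (0 : X.E) + X.incl (D (X.proj 0)) = 0
          rw [map_zero, map_zero, map_zero, add_zero]
        map_add' := fun x y => by
          change x + y + X.incl (D (X.proj (x + y))) =
            (x + X.incl (D (X.proj x))) + (y + X.incl (D (X.proj y)))
          rw [map_add, map_add, map_add]
          ring
        commutes' := fun a => by
          change algebraMap A X.E a + X.incl (D (X.proj (algebraMap A X.E a))) = algebraMap A X.E a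
          rw [AlgHom.commutes, Derivation.map_algebraMap, map_zero, add_zero] }, fun x => rfl⟩
  constructor
  · intro D
    obtain ⟨f, hf⟩ := key D
    obtain ⟨g, hg⟩ := key (-D)
    have hfg : ∀ x, f (g x) = x := by
      intro x
      rw [hf, hg, map_add, hpi, add_zero]
      simp only [Derivation.neg_apply, map_neg]
      ring
    have hgf : ∀ x, g (f x) = x := by
      intro x
      rw [hg, hf, map_add, hpi, add_zero]
      simp only [Derivation.neg_apply, map_neg]
      ring
    refine ⟨⟨AlgEquiv.ofAlgHom f g (AlgHom.ext hfg) (AlgHom.ext hgf), fun x => ?_, fun z => ?_⟩, fun x => hf x⟩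
    · change X.proj (f x) = X.proj x
      rw [hf, map_add, hpi, add_zero]
    · change f (X.incl z) = X.incl z
      rw [hf, hpi, map_zero, map_zero, add_zero]
  · intro e
    have hp0 : ∀ x : X.E, X.proj (e.toAlgEquiv x - x) = 0 := by
      intro x
      rw [map_sub, e.proj_apply, sub_self]
    let δ : X.E → L := fun x => X.kerLift (e.toAlgEquiv x - x) (hp0 x)
    have hδ : ∀ x, X.incl (δ x) = e.toAlgEquiv x - x := fun x => X.incl_kerLift _ _
    have hinj := X.isExtension.incl_injective
    have hδadd : ∀ x y, δ (x + y) = δ x + δ y := by
      intro x y
      apply hinj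
      rw [map_add, hδ, hδ, hδ, map_add]
      ring
    have hδincl : ∀ z, δ (X.incl z) = 0 := by
      intro z
      apply hinj
      rw [hδ, e.apply_incl, sub_self, map_zero]
    have hδeq : ∀ x y, X.proj x = X.proj y → δ x = δ y := by
      intro x y hxy
      have h0 : X.proj (x - y) = 0 := by rw [map_sub, hxy, sub_self]
      obtain ⟨z, hz⟩ := (X.isExtension.exact _).1 h0
      have : x = y + X.incl z := by rw [hz]; ring
      rw [this, hδadd, hδincl, add_zero]
    have hδmul : ∀ x y, δ (x * y) = X.proj x • δ y + X.proj y • δ x := by
      intro x y
      apply hinj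
      rw [map_add, ← X.isExtension.mul_incl, ← X.isExtension.mul_incl, hδ, hδ, hδ, map_mul]
      have h0 := incl_mul_incl X (δ x) (δ y)
      rw [hδ, hδ] at h0
      linear_combination h0
    have hδsmul : ∀ (a : A) x, δ (a • x) = a • δ x := by
      intro a x
      apply hinj
      have h1 : X.incl (a • δ x) = a • X.incl (δ x) := (inclL X).map_smul a (δ x)
      rw [h1, hδ, hδ, map_smul, smul_sub]
    let σ : C → X.E := Function.surjInv X.isExtension.proj_surjective
    have hσ : ∀ c, X.proj (σ c) = c := Function.surjInv_eq X.isExtension.proj_surjective
    let D₀ : C →ₗ[A] L :=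
      { toFun := fun c => δ (σ c)
        map_add' := fun c c' => by
          rw [← hδadd]
          apply hδeq
          rw [map_add, hσ, hσ, hσ]
        map_smul' := fun a c => by
          rw [RingHom.id_apply, ← hδsmul]
          apply hδeq
          rw [map_smul, hσ, hσ] }
    have hleib : ∀ c c', D₀ (c * c') = c • D₀ c' + c' • D₀ c := by
      intro c c'
      change δ (σ (c * c')) = c • δ (σ c') + c' • δ (σ c)
      have h1 : δ (σ (c * c')) = δ (σ c * σ c') := by
        apply hδeq
        rw [map_mul, hσ, hσ, hσ]
      rw [h1, hδmul, hσ, hσ]
    let D : Derivation A C L := Derivation.mk' D₀ hleib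
    have hD : ∀ x, D (X.proj x) = δ x := by
      intro x
      change δ (σ (X.proj x)) = δ x
      apply hδeq
      rw [hσ]
    refine ⟨D, fun x => ?_, fun D' hD' => ?_⟩
    · rw [hD, hδ]
      ring
    · ext c
      obtain ⟨x, rfl⟩ := X.isExtension.proj_surjective c
      apply hinj
      rw [hD, hδ, hD' x]
      ring

end Groth.Agent.S5828
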