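import Groth.Statements.S5831
import Groth.Agent.S5815
import Groth.Agent.H29.ExalSplit
import Mathlib.Algebra.Module.Projective
import Mathlib.Tactic.LinearCombination
import Mathlib.Tactic.Ring

set_option autoImplicit false
universe u
open EGA41

namespace Groth.Agent.S5831

/-- Discrete case. Let B be an A-algebra which is a projective A-module (A and B in one universe). If
for every B-module L in that universe every A-bilinear symmetric Hochschild 2-cocycle B × B → L is a
coboundary, then B is formally smooth over A. (The published statement assumes B formally projective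
as a topological A-module; for discrete rings this is projectivity.) -/
theorem result {A B : Type u} [CommRing A]
    [CommRing B] [Algebra A B] [Module.Projective A B]
    (h : ∀ (L : Type u) [AddCommGroup L] [Module B L] [Module A L] [IsScalarTower A B L]
      (f : B →ₗ[A] B →ₗ[A] L), (∀ x y : B, f x y = f y x) →
        (∀ x y z : B, f (x * y) z + z • f x y = x • f y z + f x (y * z)) →
          ∃ g : B →ₗ[A] L, ∀ x y : B, f x y = x • g y - g (x * y) + y • g x) :
    Algebra.FormallySmooth A B := by
  open Groth.Agent.H29.ExalAPI in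
  refine (Groth.Agent.S5815.result A B).2 (fun L _ _ X => ?_)
  letI : Module A L := Module.compHom L (algebraMap A B)
  haveI : IsScalarTower A B L := IsScalarTower.of_algebraMap_smul (fun _ _ => rfl)
  obtain ⟨σ, hσ⟩ := Module.projective_lifting_property X.proj.toLinearMap (LinearMap.id : B →ₗ[A] B)
    X.isExtension.proj_surjective
  have hpσ : ∀ b, X.proj (σ b) = b := fun b => LinearMap.congr_fun hσ b
  have hinj := X.isExtension.incl_injective
  have hp0 : ∀ x y : B, X.proj (σ x * σ y - σ (x * y)) = 0 := by
    intro x y
    rw [map_sub, map_mul, hpσ, hpσ, hpσ, sub_self]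
  have hismul : ∀ (a : A) (l : L), X.incl (a • l) = a • X.incl l := fun a l => (inclL X).map_smul a l
  have hbsmul : ∀ (b : B) (l : L), X.incl (b • l) = σ b * X.incl l := by
    intro b l
    rw [X.isExtension.mul_incl, hpσ]
  let F : B → B → L := fun x y => X.kerLift (σ x * σ y - σ (x * y)) (hp0 x y)
  have hF : ∀ x y, X.incl (F x y) = σ x * σ y - σ (x * y) := fun x y => X.incl_kerLift _ _
  let f : B →ₗ[A] B →ₗ[A] L := LinearMap.mk₂ A F
    (fun x x' y => by
      apply hinj
      rw [map_add, hF, hF, hF, map_add, add_mul, add_mul, map_add]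
      ring)
    (fun a x y => by
      apply hinj
      rw [hismul, hF, hF, map_smul, smul_mul_assoc, smul_mul_assoc, map_smul, smul_sub])
    (fun x y y' => by
      apply hinj
      rw [map_add, hF, hF, hF, map_add, mul_add, mul_add, map_add]
      ring)
    (fun a x y => by
      apply hinj
      rw [hismul, hF, hF, map_smul, mul_smul_comm, mul_smul_comm, map_smul, smul_sub])
  have hf : ∀ x y, f x y = F x y := fun x y => rfl
  obtain ⟨g, hg⟩ := h L f
    (fun x y => by
      apply hinj
      rw [hf, hf, hF, hF, mul_comm (σ x), mul_comm x])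
    (fun x y z => by
      apply hinj
      rw [hf, hf, hf, hf, map_add, map_add, hbsmul, hbsmul, hF, hF, hF, hF, mul_assoc x y z]
      ring)
  let s₀ : B →ₗ[A] X.E := σ - (inclL X).comp g
  have hs₀ : ∀ b, s₀ b = σ b - X.incl (g b) := fun b => rfl
  have hps : ∀ b, X.proj (s₀ b) = b := by
    intro b
    rw [hs₀, map_sub, hpσ, proj_incl, sub_zero]
  have hmul : ∀ x y, s₀ (x * y) = s₀ x * s₀ y := by
    intro x y
    have h1 := hg x y
    have h2 : X.incl (f x y) = X.incl (x • g y - g (x * y) + y • g x) := by rw [h1]
    rw [hf, hF, map_add, map_sub, hbsmul, hbsmul] at h2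
    have h3 := incl_mul_incl X (g x) (g y)
    rw [hs₀, hs₀, hs₀]
    linear_combination (-1 : X.E) * h2 - h3
  have hone : s₀ 1 = 1 := by
    have h0 : X.proj (s₀ 1 - 1) = 0 := by rw [map_sub, hps, map_one, sub_self]
    obtain ⟨z, hz⟩ := (X.isExtension.exact _).1 h0
    have h1 : s₀ 1 = 1 + X.incl z := by rw [hz]; ring
    have h2 := hmul 1 1
    rw [mul_one, h1] at h2
    have h3 := incl_mul_incl X z z
    have h4 : X.incl z = 0 := by linear_combination (-1 : X.E) * h2 - h3
    rw [h1, h4, add_zero]
  exact ⟨AlgHom.ofLinearMap s₀ hone hmul, hps⟩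

end Groth.Agent.S5831
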