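import Groth.Statements.S5832
import Groth.Agent.H29.ExalSplit

set_option autoImplicit false
universe u u' v
open EGA41

namespace Groth.Agent.S5832

attribute [local instance] Exal.opModule Exal.isCentralScalar_opModule

/-- Surjectivity at the end of the sequence. For ring maps Λ → A → B → C and a C-module L, every
Λ-trivial A-extension of B by L is equivalent to the inverse image along B → C of a Λ-trivial
A-extension of C by L. (Exactness at the other places is that of the six-term derivation-extension
sequence restricted to Λ-trivial classes.) -/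
theorem result {Λ : Type u} {A : Type u'} {B C L : Type v}
    [CommRing Λ] [CommRing A] [CommRing B] [CommRing C] [Algebra Λ A] [Algebra Λ B] [Algebra Λ C]
    [Algebra A B] [Algebra B C] [Algebra A C] [IsScalarTower Λ A B] [IsScalarTower Λ A C] [IsScalarTower A B C]
    [AddCommGroup L] [Module C L] [Module B L] [IsScalarTower B C L]
    (Y : Exal.Ext A B L) (hY : Y.IsTrivialOver Λ) :
    ∃ X : Exal.Ext A C L, X.IsTrivialOver Λ ∧ Nonempty ((X.pullback B).Equiv Y) := by
  open Groth.Agent.H29.ExalAPI in
  obtain ⟨s, hs⟩ := hY
  let r : B →+* Y.E := s.toRingHom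
  have hr : ∀ b, Y.proj (r b) = b := hs
  have hrΛ : ∀ l : Λ, r (algebraMap Λ B l) = algebraMap A Y.E (algebraMap Λ A l) :=
    fun l => s.commutes l
  let ψ : Y.E →+* TrivSqZeroExt C L := (mapFst (C := C)).comp (splitHom Y r hr)
  have hψ : ∀ y, ψ y = mapFst (C := C) (splitHom Y r hr y) := fun y => rfl
  have hψfst : ∀ y, (ψ y).fst = algebraMap B C (Y.proj y) := by
    intro y
    rw [hψ, fst_mapFst, fst_splitHom]
  have hψsnd : ∀ y, (ψ y).snd = sigma Y r hr y := by
    intro y
    rw [hψ, snd_mapFst, snd_splitHom]
  letI algA : Algebra A (TrivSqZeroExt C L) := (ψ.comp (algebraMap A Y.E)).toAlgebra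
  have halg : ∀ a : A, algebraMap A (TrivSqZeroExt C L) a = ψ (algebraMap A Y.E a) := fun a => rfl
  let X : Exal.Ext A C L :=
    { E := TrivSqZeroExt C L
      proj :=
        { toFun := fun x => TrivSqZeroExt.fst x
          map_one' := TrivSqZeroExt.fst_one
          map_mul' := TrivSqZeroExt.fst_mul
          map_zero' := TrivSqZeroExt.fst_zero
          map_add' := TrivSqZeroExt.fst_add
          commutes' := fun a => by
            change (algebraMap A (TrivSqZeroExt C L) a).fst = algebraMap A C a
            rw [halg, hψfst, AlgHom.commutes, ← IsScalarTower.algebraMap_apply A B C] }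
      incl := (TrivSqZeroExt.inrHom C L).toAddMonoidHom
      isExtension :=
        { proj_surjective := fun c => ⟨TrivSqZeroExt.inl c, rfl⟩
          incl_injective := TrivSqZeroExt.inr_injective
          exact := fun x => by
            constructor
            · intro hx
              exact ⟨TrivSqZeroExt.snd x, TrivSqZeroExt.ext hx.symm rfl⟩
            · rintro ⟨z, rfl⟩
              rfl
          mul_incl := fun x z => by
            refine TrivSqZeroExt.ext ?_ ?_
            · change TrivSqZeroExt.fst x * 0 = 0
              exact mul_zero _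
            · change TrivSqZeroExt.fst x • z + MulOpposite.op (0 : C) • TrivSqZeroExt.snd x =
                TrivSqZeroExt.fst x • z
              rw [MulOpposite.op_zero, zero_smul, add_zero] } }
  have hXproj : ∀ x : X.E, X.proj x = TrivSqZeroExt.fst x := fun x => rfl
  have hXincl : ∀ z : L, X.incl z = TrivSqZeroExt.inr z := fun z => rfl
  refine ⟨X, ?_, ?_⟩
  · let i : C →+* X.RestrictCarrier Λ := TrivSqZeroExt.inlHom C L
    refine ⟨{ toRingHom := i, commutes' := fun l => ?_ }, fun c => rfl⟩
    change TrivSqZeroExt.inl (algebraMap Λ C l) = ψ (algebraMap A Y.E (algebraMap Λ A l))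
    rw [← hrΛ, hψ, splitHom_section, mapFst_apply, TrivSqZeroExt.fst_inl, TrivSqZeroExt.snd_inl,
      TrivSqZeroExt.inr_zero, add_zero, IsScalarTower.algebraMap_apply Λ A B,
      ← IsScalarTower.algebraMap_apply A B C, ← IsScalarTower.algebraMap_apply Λ A C]
  · let ψA : Y.E →ₐ[A] X.E := { toRingHom := ψ, commutes' := fun a => rfl }
    have hψA : ∀ y, ψA y = ψ y := fun y => rfl
    let h : Y.E →ₐ[A] X.fiberProd B :=
      (ψA.prod Y.proj).codRestrict (X.fiberProd B) (fun y => by
        change X.proj (ψA y) = algebraMap B C (Y.proj y)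
        rw [hXproj, hψA, hψfst])
    have hh1 : ∀ y, (h y).1.1 = ψ y := fun y => rfl
    have hh2 : ∀ y, (h y).1.2 = Y.proj y := fun y => rfl
    have hinj : Function.Injective h := by
      intro y y' hyy
      have h1 : ψ y = ψ y' := by rw [← hh1, ← hh1, hyy]
      have h2 : Y.proj y = Y.proj y' := by rw [← hh2, ← hh2, hyy]
      have h3 : sigma Y r hr y = sigma Y r hr y' := by rw [← hψsnd, ← hψsnd, h1]
      rw [eq_section_add_incl Y r hr y, eq_section_add_incl Y r hr y', h2, h3]
    have hsurj : Function.Surjective h := by
      rintro ⟨⟨t, b⟩, hmem⟩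
      have hmem' : TrivSqZeroExt.fst t = algebraMap B C b := hmem
      refine ⟨r b + Y.incl (TrivSqZeroExt.snd t), ?_⟩
      apply Subtype.ext
      apply Prod.ext
      · change ψ (r b + Y.incl (TrivSqZeroExt.snd t)) = t
        rw [hψ, map_add, splitHom_section, splitHom_incl, mapFst_apply]
        simp only [TrivSqZeroExt.fst_add, TrivSqZeroExt.fst_inl, TrivSqZeroExt.fst_inr, add_zero,
          TrivSqZeroExt.snd_add, TrivSqZeroExt.snd_inl, TrivSqZeroExt.snd_inr, zero_add]
        rw [← hmem']
        exact TrivSqZeroExt.inl_fst_add_inr_snd_eq t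
      · change Y.proj (r b + Y.incl (TrivSqZeroExt.snd t)) = b
        rw [map_add, hr, proj_incl, add_zero]
    let E₀ : Y.Equiv (X.pullback B) :=
      { toAlgEquiv := AlgEquiv.ofBijective h ⟨hinj, hsurj⟩
        proj_apply := fun y => rfl
        apply_incl := fun z => by
          apply Subtype.ext
          apply Prod.ext
          · change ψ (Y.incl z) = TrivSqZeroExt.inr z
            rw [hψ, splitHom_incl, mapFst_apply]
            simp
          · change Y.proj (Y.incl z) = 0
            rw [proj_incl] }
    exact ⟨E₀.symm⟩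

end Groth.Agent.S5832
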