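import Groth.Statements.S5833
import Groth.Agent.S5821
import Groth.Agent.H29.CharHom2
import Mathlib.LinearAlgebra.TensorProduct.RightExactness

set_option autoImplicit false
universe u v
open scoped TensorProduct
open EGA41

namespace Groth.Agent.S5833

attribute [local instance] Exal.opModule Exal.isCentralScalar_opModule

/-- Let Λ → A → B be ring maps, K an ideal of B, C = B ⧸ K, and suppose E = B ⧸ K², as an extension of C
by K/K², is Λ-trivial. Let χ : Υ_{C/A/Λ} → K/K² be the characteristic homomorphism of E as an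
A-extension, relative to Λ → A. Then: (a) the kernel of χ consists of the elements of Υ_{C/A/Λ} ⊆ C
⊗_A Ω_{A/Λ} whose image in C ⊗_B Ω_{B/Λ} is zero (that image map is written as the base change to C
of B ⊗_A Ω_{A/Λ} → Ω_{B/Λ}, through the canonical identification C ⊗_B (B ⊗_A Ω_{A/Λ}) = C ⊗_A
Ω_{A/Λ}); (b) the image of χ is the kernel of the conormal map K/K² → C ⊗_B Ω_{B/A}, x ↦ 1 ⊗ dx.
This is the exact sequence 0 → Υ^C_{B/A/Λ} → Υ_{C/A/Λ} → K/K² → C ⊗_B Ω_{B/A} → Ω_{C/A} → 0 up to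
its last two (conormal-sequence) terms. -/
theorem result {Λ : Type u} {A B : Type v} [CommRing Λ]
    [CommRing A] [CommRing B] [Algebra Λ A] [Algebra Λ B] [Algebra A B] [IsScalarTower Λ A B] (K : Ideal B)
    (htriv : ((Exal.Ext.infinitesimal K).restrictBase A).IsTrivialOver Λ)
    (χ : ↥(EGA41.imperfection Λ A (B ⧸ K)) →ₗ[B ⧸ K] K.Cotangent)
    (hχ : ((Exal.Ext.infinitesimal K).restrictBase A).IsCharHom Λ χ) :
    (∀ z : ↥(EGA41.imperfection Λ A (B ⧸ K)),
        χ z = 0 ↔
          ((KaehlerDifferential.mapBaseChange Λ A B).baseChange (B ⧸ K))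
              ((TensorProduct.AlgebraTensorModule.cancelBaseChange A B (B ⧸ K) (B ⧸ K) Ω[A⁄Λ]).symm
                (z : (B ⧸ K) ⊗[A] Ω[A⁄Λ])) = 0) ∧
      ∀ (x : B) (hx : x ∈ K),
        K.toCotangent ⟨x, hx⟩ ∈ LinearMap.range χ ↔
          (1 : B ⧸ K) ⊗ₜ[B] KaehlerDifferential.D A B x = (0 : (B ⧸ K) ⊗[B] Ω[B⁄A]) := by
  open Groth.Agent.H29.CharHomLib Groth.Agent.H29.ExalAPI TensorProduct in
  let XB : Exal.Ext B (B ⧸ K) K.Cotangent := Exal.Ext.infinitesimal K
  let XA : Exal.Ext A (B ⧸ K) K.Cotangent := XB.restrictBase A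
  haveI tAC : IsScalarTower A (B ⧸ K) K.Cotangent := IsScalarTower.of_algebraMap_smul (fun a l => by
    rw [IsScalarTower.algebraMap_apply A B (B ⧸ K), algebraMap_smul, algebraMap_smul])
  haveI tΛC : IsScalarTower Λ (B ⧸ K) K.Cotangent := IsScalarTower.of_algebraMap_smul (fun a l => by
    rw [IsScalarTower.algebraMap_apply Λ B (B ⧸ K), algebraMap_smul, algebraMap_smul])
  obtain ⟨SA⟩ := (isTrivialOver_iff Λ XA).1 htriv
  let SB : SecData Λ XB := ⟨SA.r, SA.hr, fun l => (SA.hrA l).trans (by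
    rw [IsScalarTower.algebraMap_apply Λ A B]
    rfl)⟩
  let DA : Derivation Λ A K.Cotangent := derOf SA
  let DB : Derivation Λ B K.Cotangent := derOf SB
  have hDAB : ∀ a : A, DA a = DB (algebraMap A B a) := by
    intro a
    apply XB.isExtension.incl_injective
    have e1 := incl_sigma XA SA.r SA.hr (algebraMap A XA.E a)
    have e2 := incl_sigma XB SB.r SB.hr (algebraMap B XB.E (algebraMap A B a))
    exact e1.trans e2.symm
  let w : (B ⧸ K) ⊗[A] Ω[A⁄Λ] →ₗ[B ⧸ K] (B ⧸ K) ⊗[B] Ω[B⁄Λ] :=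
    ((KaehlerDifferential.mapBaseChange Λ A B).baseChange (B ⧸ K)).comp
      (TensorProduct.AlgebraTensorModule.cancelBaseChange A B (B ⧸ K) (B ⧸ K) Ω[A⁄Λ]).symm.toLinearMap
  have hw : ∀ (c : B ⧸ K) (a : A), w (c ⊗ₜ KaehlerDifferential.D Λ A a) =
      c ⊗ₜ KaehlerDifferential.D Λ B (algebraMap A B a) := by
    intro c a
    change ((KaehlerDifferential.mapBaseChange Λ A B).baseChange (B ⧸ K))
      ((TensorProduct.AlgebraTensorModule.cancelBaseChange A B (B ⧸ K) (B ⧸ K) Ω[A⁄Λ]).symm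
        (c ⊗ₜ KaehlerDifferential.D Λ A a)) = _
    rw [TensorProduct.AlgebraTensorModule.cancelBaseChange_symm_tmul, LinearMap.baseChange_tmul,
      KaehlerDifferential.mapBaseChange_tmul, one_smul, KaehlerDifferential.map_D]
  have hφ : ∀ t, phiOf (C := B ⧸ K) DA t = phiOf (C := B ⧸ K) DB (w t) := by
    intro t
    refine tensor_kaehler_induction Λ
      (P := fun t => phiOf (C := B ⧸ K) DA t = phiOf (C := B ⧸ K) DB (w t)) ?_ ?_ ?_ t
    · rw [map_zero, map_zero, map_zero]
    · intro x y hx hy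
      rw [map_add, map_add, map_add, hx, hy]
    · intro c a
      rw [hw, phiOf_tmul_D, phiOf_tmul_D, hDAB]
  have hΥ : ∀ t, KaehlerDifferential.mapBaseChange Λ B (B ⧸ K) (w t) =
      KaehlerDifferential.mapBaseChange Λ A (B ⧸ K) t := by
    intro t
    refine tensor_kaehler_induction Λ
      (P := fun t => KaehlerDifferential.mapBaseChange Λ B (B ⧸ K) (w t) =
        KaehlerDifferential.mapBaseChange Λ A (B ⧸ K) t) ?_ ?_ ?_ t
    · rw [map_zero, map_zero, map_zero]
    · intro x y hx hy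
      rw [map_add, map_add, map_add, hx, hy]
    · intro c a
      rw [hw, KaehlerDifferential.mapBaseChange_tmul, KaehlerDifferential.mapBaseChange_tmul,
        KaehlerDifferential.map_D, KaehlerDifferential.map_D,
        ← IsScalarTower.algebraMap_apply A B (B ⧸ K)]
  let χB : ↥(EGA41.imperfection Λ B (B ⧸ K)) →ₗ[B ⧸ K] K.Cotangent :=
    (phiOf (C := B ⧸ K) DB).comp (EGA41.imperfection Λ B (B ⧸ K)).subtype
  have hχB : XB.IsCharHom Λ χB := (isCharHom_iff SB χB).2 (fun z => rfl)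
  have hXBtriv : XB.IsTrivialOver Λ := (isTrivialOver_iff Λ XB).2 ⟨SB⟩
  have hbij := Groth.Agent.S5821.result K hXBtriv χB hχB
  have hwmem : ∀ z : ↥(EGA41.imperfection Λ A (B ⧸ K)),
      w z ∈ EGA41.imperfection Λ B (B ⧸ K) := by
    intro z
    change KaehlerDifferential.mapBaseChange Λ B (B ⧸ K) (w z) = 0
    rw [hΥ]
    exact z.2
  have hχ' : ∀ z : ↥(EGA41.imperfection Λ A (B ⧸ K)), χ z = χB ⟨w z, hwmem z⟩ := by
    intro z
    rw [(isCharHom_iff SA χ).1 hχ z, hφ]
    rfl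
  have hDBk : ∀ (k : B) (hk : k ∈ K), DB k = K.toCotangent ⟨k, hk⟩ := by
    intro k hk
    apply XB.isExtension.incl_injective
    have e1 := incl_sigma XB SB.r SB.hr (algebraMap B XB.E k)
    have hp : XB.proj (algebraMap B XB.E k) = 0 := by
      rw [AlgHom.commutes, Ideal.Quotient.algebraMap_eq, Ideal.Quotient.eq_zero_iff_mem]
      exact hk
    rw [hp, map_zero, sub_zero] at e1
    exact e1
  refine ⟨fun z => ?_, fun x hx => ?_⟩
  · rw [hχ' z]
    constructor
    · intro h0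
      have h1 := hbij.1 (h0.trans (map_zero χB).symm)
      exact congrArg Subtype.val h1
    · intro h0
      have h1 : (⟨w z, hwmem z⟩ : ↥(EGA41.imperfection Λ B (B ⧸ K))) = 0 := Subtype.ext h0
      rw [h1, map_zero]
  · have hmemx : ((1 : B ⧸ K) ⊗ₜ[B] KaehlerDifferential.D Λ B x) ∈
        EGA41.imperfection Λ B (B ⧸ K) := by
      change KaehlerDifferential.mapBaseChange Λ B (B ⧸ K) _ = 0
      rw [KaehlerDifferential.mapBaseChange_tmul, KaehlerDifferential.map_D, one_smul,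
        Ideal.Quotient.algebraMap_eq, Ideal.Quotient.eq_zero_iff_mem.2 hx, map_zero]
    have hχBx : χB ⟨_, hmemx⟩ = K.toCotangent ⟨x, hx⟩ := by
      change phiOf (C := B ⧸ K) DB ((1 : B ⧸ K) ⊗ₜ[B] KaehlerDifferential.D Λ B x) = _
      rw [phiOf_tmul_D, one_smul, hDBk x hx]
    let u : (B ⧸ K) ⊗[B] Ω[B⁄Λ] →ₗ[B ⧸ K] (B ⧸ K) ⊗[B] Ω[B⁄A] :=
      (KaehlerDifferential.map Λ A B B).baseChange (B ⧸ K)
    have hu : ∀ (c : B ⧸ K) (b : B), u (c ⊗ₜ KaehlerDifferential.D Λ B b) =
        c ⊗ₜ KaehlerDifferential.D A B b := by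
      intro c b
      change ((KaehlerDifferential.map Λ A B B).baseChange (B ⧸ K)) _ = _
      rw [LinearMap.baseChange_tmul, KaehlerDifferential.map_D]
      rfl
    have huw : ∀ t, u (w t) = 0 := by
      intro t
      refine tensor_kaehler_induction Λ (P := fun t => u (w t) = 0) ?_ ?_ ?_ t
      · rw [map_zero, map_zero]
      · intro a b ha hb
        rw [map_add, map_add, ha, hb, add_zero]
      · intro c a
        rw [hw, hu, Derivation.map_algebraMap, tmul_zero]
    constructor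
    · rintro ⟨z, hz⟩
      rw [hχ' z, ← hχBx] at hz
      have h1 : w z = (1 : B ⧸ K) ⊗ₜ[B] KaehlerDifferential.D Λ B x :=
        congrArg Subtype.val (hbij.1 hz)
      rw [← hu, ← h1, huw]
    · intro h0
      rw [← hu] at h0
      have hex : Function.Exact ((KaehlerDifferential.mapBaseChange Λ A B).baseChange (B ⧸ K)) u :=
        lTensor_exact (B ⧸ K) (KaehlerDifferential.exact_mapBaseChange_map Λ A B)
          (KaehlerDifferential.map_surjective Λ A B)
      obtain ⟨y, hy⟩ := (hex _).1 h0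
      let t := TensorProduct.AlgebraTensorModule.cancelBaseChange A B (B ⧸ K) (B ⧸ K) Ω[A⁄Λ] y
      have hwt : w t = (1 : B ⧸ K) ⊗ₜ[B] KaehlerDifferential.D Λ B x := by
        change ((KaehlerDifferential.mapBaseChange Λ A B).baseChange (B ⧸ K))
          ((TensorProduct.AlgebraTensorModule.cancelBaseChange A B (B ⧸ K) (B ⧸ K) Ω[A⁄Λ]).symm
            (TensorProduct.AlgebraTensorModule.cancelBaseChange A B (B ⧸ K) (B ⧸ K) Ω[A⁄Λ] y)) = _
        rw [LinearEquiv.symm_apply_apply, hy]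
      have htΥ : t ∈ EGA41.imperfection Λ A (B ⧸ K) := by
        change KaehlerDifferential.mapBaseChange Λ A (B ⧸ K) t = 0
        rw [← hΥ, hwt]
        exact hmemx
      refine ⟨⟨t, htΥ⟩, ?_⟩
      rw [hχ' ⟨t, htΥ⟩, ← hχBx]
      congr 1
      exact Subtype.ext hwt

end Groth.Agent.S5833
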