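import Groth.Statements.S5834
import Groth.Agent.S5833
import Mathlib.RingTheory.Smooth.Basic
import Mathlib.RingTheory.Kaehler.JacobiZariski
import Mathlib.Algebra.Exact.Basic

set_option autoImplicit false
universe u v
open EGA41

namespace Groth.Agent.S5834

/-- Let Λ → A → B be ring maps with B formally smooth over A, K an ideal of B, C = B ⧸ K, and suppose E
= B ⧸ K², as an extension of C by K/K², is Λ-trivial. Then the characteristic homomorphism χ :
Υ_{C/A/Λ} → K/K² of E as an A-extension relative to Λ → A is injective (so that, with the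
description of its image as the kernel of K/K² → C ⊗_B Ω_{B/A}, the sequence 0 → Υ_{C/A/Λ} → K/K² →
C ⊗_B Ω_{B/A} → Ω_{C/A} → 0 is exact). -/
theorem result {Λ : Type u} {A B : Type v} [CommRing Λ]
    [CommRing A] [CommRing B] [Algebra Λ A] [Algebra Λ B] [Algebra A B] [IsScalarTower Λ A B]
    [Algebra.FormallySmooth A B] (K : Ideal B)
    (htriv : ((Exal.Ext.infinitesimal K).restrictBase A).IsTrivialOver Λ)
    (χ : ↥(EGA41.imperfection Λ A (B ⧸ K)) →ₗ[B ⧸ K] K.Cotangent)
    (hχ : ((Exal.Ext.infinitesimal K).restrictBase A).IsCharHom Λ χ) :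
    Function.Injective χ := by
  open TensorProduct in
  have ha := (Groth.Agent.S5833.result K htriv χ hχ).1
  let f : B ⊗[A] Ω[A⁄Λ] →ₗ[B] Ω[B⁄Λ] := KaehlerDifferential.mapBaseChange Λ A B
  let g : Ω[B⁄Λ] →ₗ[B] Ω[B⁄A] := KaehlerDifferential.map Λ A B B
  have hfg : Function.Exact f g := KaehlerDifferential.exact_mapBaseChange_map Λ A B
  have hfinj : Function.Injective f := by
    rw [injective_iff_map_eq_zero]
    intro x hx
    obtain ⟨y, rfl⟩ := (Algebra.H1Cotangent.exact_δ_mapBaseChange Λ A B x).mp hx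
    rw [Subsingleton.elim y 0, map_zero]
  obtain ⟨s, hs⟩ := Module.projective_lifting_property g (LinearMap.id : Ω[B⁄A] →ₗ[B] Ω[B⁄A])
    (KaehlerDifferential.map_surjective Λ A B)
  have hsplit : Function.Surjective g ∧ ∃ l : Ω[B⁄Λ] →ₗ[B] B ⊗[A] Ω[A⁄Λ], l ∘ₗ f = LinearMap.id :=
    (hfg.split_tfae'.out 0 1 rfl rfl).1 ⟨hfinj, s, hs⟩
  obtain ⟨-, ρ, hρ⟩ := hsplit
  have h1 : ∀ y, (ρ.baseChange (B ⧸ K)) ((f.baseChange (B ⧸ K)) y) = y := by
    intro y
    rw [← LinearMap.comp_apply, ← LinearMap.baseChange_comp, hρ, LinearMap.baseChange_id]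
    rfl
  have hbc : Function.Injective (f.baseChange (B ⧸ K)) := by
    intro y y' hyy
    rw [← h1 y, ← h1 y', hyy]
  rw [injective_iff_map_eq_zero]
  intro z hz
  have h2 := (ha z).1 hz
  have h3 := hbc (h2.trans (map_zero (f.baseChange (B ⧸ K))).symm)
  have h4 := (TensorProduct.AlgebraTensorModule.cancelBaseChange A B (B ⧸ K) (B ⧸ K)
    Ω[A⁄Λ]).symm.injective (h3.trans (map_zero _).symm)
  exact Subtype.ext h4

end Groth.Agent.S5834
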