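import Groth.Statements.S5835
import Groth.Agent.H44.MacLaneCor

set_option autoImplicit false
universe v w
open scoped TensorProduct
open EGA41

namespace Groth.Agent.S5835

/-- For fields k₀ ⊆ k ⊆ K ⊆ L, the map of imperfection modules Υ_{L/K/k₀} → Υ_{L/K/k} induced by
Ω_{K/k₀} → Ω_{K/k} is injective (k is k₀-admissible for the extension L of K) in each of the
following cases: L is separable over k; L is separable over K; k lies in k₀(K^p), p the
characteristic exponent. Separable means geometrically reduced (not necessarily algebraic). -/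
theorem result {k : Type v} {k₀ K L : Type w}
    [Field k₀] [Field k] [Field K] [Field L] [Algebra k₀ k] [Algebra k₀ K] [Algebra k₀ L] [Algebra k K]
    [Algebra k L] [Algebra K L] [IsScalarTower k₀ k K] [IsScalarTower k₀ k L] [IsScalarTower k₀ K L]
    [IsScalarTower k K L] (p : ℕ) [ExpChar K p]
    (h : Algebra.IsGeometricallyReduced k L ∨ Algebra.IsGeometricallyReduced K L ∨
      ∀ x : k, algebraMap k K x ∈ EGA41.pPowerSubalgebra p k₀ K) :
    ∀ z : L ⊗[K] Ω[K⁄k₀], z ∈ EGA41.imperfection k₀ K L →
      (KaehlerDifferential.map k₀ k K K).baseChange L z = 0 → z = 0 := by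
  intro z hz1 hz2
  have hz1' : KaehlerDifferential.mapBaseChange k₀ K L z = 0 := by
    unfold EGA41.imperfection at hz1
    exact LinearMap.mem_ker.mp hz1
  rcases h with h1 | h2 | h3
  · haveI := h1
    rw [← Module.forall_dual_apply_eq_zero_iff L z]
    intro χ
    obtain ⟨D, hD⟩ : ∃ D : Derivation k₀ K L,
        ∀ x, D x = χ ((1 : L) ⊗ₜ[K] KaehlerDifferential.D k₀ K x) :=
      ⟨((χ.restrictScalars K).comp (TensorProduct.mk K L (Ω[K⁄k₀]) 1)).compDer
        (KaehlerDifferential.D k₀ K), fun x => rfl⟩
    obtain ⟨D', hD'⟩ :=
      Groth.Agent.H44.MacLane.exists_derivation_extension_of_isGeometricallyReduced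
        (R := k₀) (k := k) (K := L) (D.compAlgebraMap k)
    have hD'' : ∀ a : k, D' (algebraMap k L a) = D (algebraMap k K a) := fun a => hD' a
    have hk : ∀ a : k, (D - D'.compAlgebraMap K) (algebraMap k K a) = 0 := by
      intro a
      show D (algebraMap k K a) - D' (algebraMap K L (algebraMap k K a)) = 0
      rw [← IsScalarTower.algebraMap_apply k K L, hD'', sub_self]
    obtain ⟨D₁, hD₁⟩ : ∃ D₁ : Derivation k K L, ∀ x, D₁ x = D x - D' (algebraMap K L x) :=
      ⟨Groth.Agent.H44.MacLane.derivationOfKills (D - D'.compAlgebraMap K) hk, fun x => rfl⟩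
    have hχ : χ = D'.liftKaehlerDifferential ∘ₗ KaehlerDifferential.mapBaseChange k₀ K L +
        (LinearMap.liftBaseChange L D₁.liftKaehlerDifferential) ∘ₗ
          (KaehlerDifferential.map k₀ k K K).baseChange L := by
      apply Groth.Agent.H44.MacLane.baseChange_kaehler_ext
      intro x
      have e1 : (algebraMap K K) x = x := rfl
      rw [LinearMap.add_apply, LinearMap.comp_apply, LinearMap.comp_apply,
        KaehlerDifferential.mapBaseChange_tmul, one_smul, KaehlerDifferential.map_D,
        LinearMap.baseChange_tmul, KaehlerDifferential.map_D, LinearMap.liftBaseChange_tmul,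
        one_smul, Derivation.liftKaehlerDifferential_comp_D,
        Derivation.liftKaehlerDifferential_comp_D, e1, hD₁, add_sub_cancel, hD]
    rw [hχ, LinearMap.add_apply, LinearMap.comp_apply, LinearMap.comp_apply, hz1', hz2, map_zero,
      map_zero, add_zero]
  · haveI := h2
    exact Groth.Agent.H44.MacLane.injective_mapBaseChange_of_isGeometricallyReduced (R := k₀)
      (hz1'.trans (map_zero _).symm)
  · have hE : ExpChar K p := inferInstance
    cases hE with
    | zero =>
      haveI : Algebra.IsGeometricallyReduced K L :=
        Groth.Agent.H44.MacLane.isGeometricallyReduced_of_perfectField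
      exact Groth.Agent.H44.MacLane.injective_mapBaseChange_of_isGeometricallyReduced (R := k₀)
        (hz1'.trans (map_zero _).symm)
    | prime hprime =>
      haveI : Fact p.Prime := ⟨hprime⟩
      have hD0 : ∀ a : k, KaehlerDifferential.D k₀ K (algebraMap k K a) = 0 := fun a =>
        Groth.Agent.H44.PBasis.D_pPower_eq_zero p (h3 a)
      have hmb : KaehlerDifferential.mapBaseChange k₀ k K = 0 := by
        apply Groth.Agent.H44.MacLane.baseChange_kaehler_ext
        intro a
        rw [KaehlerDifferential.mapBaseChange_tmul, one_smul, KaehlerDifferential.map_D, hD0,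
          LinearMap.zero_apply]
      have hinj : Function.Injective (KaehlerDifferential.map k₀ k K K) := by
        rw [injective_iff_map_eq_zero]
        intro y hy
        obtain ⟨y', rfl⟩ := (KaehlerDifferential.exact_mapBaseChange_map k₀ k K y).mp hy
        rw [hmb, LinearMap.zero_apply]
      have hinj' : Function.Injective ((KaehlerDifferential.map k₀ k K K).baseChange L) :=
        Module.Flat.lTensor_preserves_injective_linearMap (M := L) _ hinj
      exact hinj' (hz2.trans (map_zero _).symm)

end Groth.Agent.S5835
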