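import Groth.Statements.S5855
import Groth.Agent.H95.ZClosDepth
import Groth.Agent.S5752

set_option autoImplicit false
universe u
open ZClos

namespace Groth.Agent.S5855

open CategoryTheory CategoryTheory.Limits AlgebraicGeometry in
/-- For a locally Noetherian scheme X, a subset Z of X stable under specialization, a coherent
O_X-module F and a point x, F is Z-pure at x (the map induced on stalks at x by ρ_{X/Z} : F →
H⁰_{X/Z}(F) is injective) if and only if the stalk F_{x'} has depth at least 1 over O_{X,x'} at
every generization x' of x lying in Z. -/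
theorem result (X : Scheme.{u}) [IsLocallyNoetherian X] (Z : Set X)
    (hZ : StableUnderSpecialization Z) (F : X.Modules) (hF : Coh.IsCoh F) (x : X) :
    ZClos.IsZPureAt Z F x ↔
      ∀ x' : X, x' ⤳ x → x' ∈ Z → (1 : ℕ∞) ≤ LocCoh.depth (X.presheaf.stalk x') (F.presheaf.stalk x') := by
  have hFq : F.IsQuasicoherent := hF.1
  rw [Groth.Agent.H95.ZClos.isZPureAt_iff_no_ass Z F hZ hFq x]
  refine forall_congr' fun x' => forall_congr' fun _ => forall_congr' fun _ => ?_
  haveI := Groth.Agent.H8.finite_stalk_of_isCoh F hF x'
  rw [ENat.one_le_iff_ne_zero, ne_eq,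
    Groth.Agent.S5752.result (X.presheaf.stalk x') (F.presheaf.stalk x')]
  rfl

end Groth.Agent.S5855
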