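import Groth.Statements.S5856
import Groth.Agent.H95.ZClosedAt
import Groth.Agent.S5855

set_option autoImplicit false
universe u
open ZClos

namespace Groth.Agent.S5856

open CategoryTheory CategoryTheory.Limits AlgebraicGeometry TopologicalSpace Opposite
open Groth.Agent.H95.ZClos Groth.Agent.H95.ZCAt Groth.Agent.H95.TB Groth.Agent.H8 Groth.Agent.H58
  Groth.Agent.H15.Depth

set_option backward.isDefEq.respectTransparency false
set_option linter.style.haveILetI false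

theorem of_depth (X : Scheme.{u}) [IsLocallyNoetherian X] (Z : Set X)
    (hZ : StableUnderSpecialization Z) (F : X.Modules) (hF : Coh.IsCoh F) (x : X)
    (hdepth : ∀ x' : X, x' ⤳ x → x' ∈ Z →
      (2 : ℕ∞) ≤ LocCoh.depth (X.presheaf.stalk x') (F.presheaf.stalk x')) :
    ZClos.IsZClosedAt Z F x := by
  haveI : F.IsQuasicoherent := hF.1
  have hpure : Function.Injective (rhoStalk Z F x) :=
    (Groth.Agent.S5855.result X Z hZ F hF x).2
      (fun x' h1 h2 => le_trans (by norm_num) (hdepth x' h1 h2))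
  refine ⟨hpure, ?_⟩
  intro b
  have hcol := colimit.isColimit (Dg Z F)
  obtain ⟨V, hV, hxV, s, rfl⟩ := exists_affine_germ ((ZClos.H0 Z).obj F) x b
  obtain ⟨T, t, rfl⟩ := sec_surj (Dg Z F) (cc Z F) hcol V hV.isCompact s
  have hle0 : hV.fromSpec ''ᵁ (WT Z hV T) ≤ T.U.ι ''ᵁ T.U.ι ⁻¹ᵁ V := by
    rw [ZClos.ι_image_preimage, image_preimage_fromSpec, inf_comm]
  obtain ⟨t', ht'⟩ : ∃ t' : Γ(F.restrict hV.fromSpec, WT Z hV T),
      t' = F.presheaf.map (homOfLE hle0).op t := ⟨_, rfl⟩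
  haveI hP₀ : (hV.primeIdealOf ⟨x, hxV⟩).asIdeal.IsPrime := (hV.primeIdealOf ⟨x, hxV⟩).isPrime
  have hker : ∀ m : Γ(F.restrict hV.fromSpec, ⊤),
      (F.restrict hV.fromSpec).presheaf.map (homOfLE (le_top : WT Z hV T ≤ ⊤)).op m = 0 →
        ∃ s, s ∉ (hV.primeIdealOf ⟨x, hxV⟩).asIdeal ∧ s • m = 0 := by
    intro m hm
    have hxtop : x ∈ hV.fromSpec ''ᵁ ⊤ := mem_image_of_mem hV x hxV ⊤ trivial
    have hm' : F.presheaf.map (homOfLE (hV.fromSpec.image_mono
        (inf_le_left : ⊤ ⊓ WT Z hV T ≤ ⊤))).op m = 0 := by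
      have hm0 : F.presheaf.map (homOfLE (hV.fromSpec.image_mono
          (le_top : WT Z hV T ≤ ⊤))).op m = 0 := hm
      have := congrArg (F.presheaf.map (homOfLE (hV.fromSpec.image_mono
        (inf_le_right : ⊤ ⊓ WT Z hV T ≤ WT Z hV T))).op) hm0
      rw [map_zero, map_map_apply] at this
      exact this
    have h0 := rhoStalk_germ_eq_zero Z F hV x T ⊤ hxtop m hm'
    have h1 : F.presheaf.germ (hV.fromSpec ''ᵁ ⊤) x hxtop m = 0 :=
      hpure (h0.trans (map_zero _).symm)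
    have h2 : F.presheaf.germ V x hxV (sectionsRestrictEquiv hV F m) = 0 := by
      refine Eq.trans ?_ h1
      exact F.presheaf.germ_res_apply _ x hxV m
    obtain ⟨a, hxa, ha⟩ := exists_smul_eq_zero_of_germ_eq_zero F hV x hxV _ h2
    refine ⟨a, fun haP => ((mem_basicOpen_iff_notMem_primeIdealOf hV x hxV a).mp hxa) haP, ?_⟩
    have e5 : sectionsRestrictEquiv hV F (a • (show N0 hV F from m)) =
        a • sectionsRestrictEquiv hV F m := map_smul _ a _
    apply (sectionsRestrictEquiv hV F).injective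
    exact (e5.trans ha).trans (map_zero _).symm
  have hdepth' : ∀ p : PrimeSpectrum Γ(X, V), p ∉ WT Z hV T →
      p.asIdeal ≤ (hV.primeIdealOf ⟨x, hxV⟩).asIdeal →
      (2 : ℕ∞) ≤ LocCoh.depth (Localization.AtPrime p.asIdeal)
        (LocalizedModule p.asIdeal.primeCompl (N0 hV F)) := by
    intro p hpW hpP
    have hx'V : hV.fromSpec p ∈ V := by
      have : hV.fromSpec p ∈ Set.range hV.fromSpec := ⟨_, rfl⟩
      rw [hV.range_fromSpec] at this
      exact this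
    have hp' : hV.primeIdealOf ⟨hV.fromSpec p, hx'V⟩ = p :=
      hV.fromSpec.isOpenEmbedding.injective (hV.fromSpec_primeIdealOf ⟨hV.fromSpec p, hx'V⟩)
    have hspec : hV.fromSpec p ⤳ x := by
      haveI := p.isPrime
      exact pointOfPrime_specializes hV p.asIdeal x hxV hpP
    have hx'Z : hV.fromSpec p ∈ Z := T.2 (by by_contra hcon; exact hpW hcon)
    have h2 := hdepth _ hspec hx'Z
    rw [depth_stalk_eq hV F hF _ hx'V, hp'] at h2
    exact h2
  obtain ⟨c, hc, n, hcn⟩ := exists_smul_eq_res hV F hF (WT Z hV T)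
    (hV.primeIdealOf ⟨x, hxV⟩).asIdeal hker hdepth' t'
  obtain ⟨σ, hσ⟩ := spec_extend (F.restrict hV.fromSpec) (PrimeSpectrum.basicOpen c) (WT Z hV T) c
    le_rfl t' n hcn
  have hPc : hV.primeIdealOf ⟨x, hxV⟩ ∈
      (PrimeSpectrum.basicOpen c : (Spec Γ(X, V)).Opens) :=
    (PrimeSpectrum.mem_basicOpen c _).2 hc
  have hxc := mem_image_of_mem hV x hxV _ hPc
  refine ⟨F.presheaf.germ _ x hxc σ, ?_⟩
  refine rhoStalk_germ_eq Z F hV x hxV T (PrimeSpectrum.basicOpen c) hxc σ t ?_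
  have h1 : F.presheaf.map (homOfLE (hV.fromSpec.image_mono (inf_le_left :
        (PrimeSpectrum.basicOpen c : (Spec Γ(X, V)).Opens) ⊓ WT Z hV T ≤
          PrimeSpectrum.basicOpen c))).op σ =
      F.presheaf.map (homOfLE (hV.fromSpec.image_mono (inf_le_right :
        (PrimeSpectrum.basicOpen c : (Spec Γ(X, V)).Opens) ⊓ WT Z hV T ≤ WT Z hV T))).op t' := hσ
  rw [h1, ht']
  exact map_map_apply F _ _ (show Γ(F, T.U.ι ''ᵁ T.U.ι ⁻¹ᵁ V) from t)

theorem depth_of (X : Scheme.{u}) [IsLocallyNoetherian X] (Z : Set X)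
    (hZ : StableUnderSpecialization Z) (F : X.Modules) (hF : Coh.IsCoh F) (x : X)
    (hcl : ZClos.IsZClosedAt Z F x) (x' : X) (hspec : x' ⤳ x) (hx'Z : x' ∈ Z) :
    (2 : ℕ∞) ≤ LocCoh.depth (X.presheaf.stalk x') (F.presheaf.stalk x') := by
  haveI : F.IsQuasicoherent := hF.1
  have hbij : Function.Bijective (rhoStalk Z F x) := hcl
  have hd1 := (Groth.Agent.S5855.result X Z hZ F hF x).1 hbij.1 x' hspec hx'Z
  obtain ⟨V, hV, hxV, -⟩ := exists_isAffineOpen_mem_and_subset (x := x) (U := ⊤) trivial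
  have hx'V : x' ∈ V := hspec.mem_open V.isOpen hxV
  haveI : IsNoetherianRing Γ(X, V) := IsLocallyNoetherian.component_noetherian ⟨V, hV⟩
  haveI : Module.Finite Γ(X, V) (N0 hV F) := finite_N0 hV F hF
  rw [depth_stalk_eq hV F hF x' hx'V] at hd1 ⊢
  by_cases htop : IsLocalRing.maximalIdeal
      (Localization.AtPrime (hV.primeIdealOf ⟨x', hx'V⟩).asIdeal) •
      (⊤ : Submodule (Localization.AtPrime (hV.primeIdealOf ⟨x', hx'V⟩).asIdeal)
        (LocalizedModule (hV.primeIdealOf ⟨x', hx'V⟩).asIdeal.primeCompl (N0 hV F))) = ⊤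
  · unfold LocCoh.depth
    rw [idealDepth_eq_top_of_smul_top_eq_top htop]
    exact le_top
  have h1' : HasSeq (IsLocalRing.maximalIdeal
      (Localization.AtPrime (hV.primeIdealOf ⟨x', hx'V⟩).asIdeal))
      (LocalizedModule (hV.primeIdealOf ⟨x', hx'V⟩).asIdeal.primeCompl (N0 hV F)) 1 :=
    (le_idealDepth_iff htop 1).mp (by rw [Nat.cast_one]; exact hd1)
  have h2 := (le_idealDepth_iff htop 2).mpr
    (Groth.Agent.H95.ZCA.hasSeq_two_of_extend (N0 hV F) (hV.primeIdealOf ⟨x', hx'V⟩).asIdeal h1' ?_)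
  · rw [Nat.cast_ofNat] at h2
    exact h2
  -- the extension property
  intro τ a₀ m₀ hτ
  have hT : closure ({x'} : Set X) ⊆ Z := fun y hy => hZ (specializes_iff_mem_closure.2 hy) hx'Z
  let T : Cl Z := ⟨⟨closure {x'}, isClosed_closure⟩, hT⟩
  have hW : LocCoh.puncturedOpen Γ(X, V) (hV.primeIdealOf ⟨x', hx'V⟩).asIdeal = WT Z hV T := by
    apply Opens.ext
    ext p
    have hx' : hV.fromSpec (hV.primeIdealOf ⟨x', hx'V⟩) = x' :=
      hV.fromSpec_primeIdealOf ⟨x', hx'V⟩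
    have h1 : (hV.fromSpec (hV.primeIdealOf ⟨x', hx'V⟩) ⤳ hV.fromSpec p) ↔
        (hV.primeIdealOf ⟨x', hx'V⟩ ⤳ p) :=
      hV.fromSpec.isOpenEmbedding.isInducing.specializes_iff
    rw [hx'] at h1
    show p ∉ PrimeSpectrum.zeroLocus ((hV.primeIdealOf ⟨x', hx'V⟩).asIdeal : Set Γ(X, V)) ↔
      hV.fromSpec p ∉ closure {x'}
    rw [← specializes_iff_mem_closure, h1, ← PrimeSpectrum.le_iff_specializes,
      PrimeSpectrum.mem_zeroLocus]
    rfl
  obtain ⟨t', ht'⟩ : ∃ t' : Γ(F.restrict hV.fromSpec,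
      LocCoh.puncturedOpen Γ(X, V) (hV.primeIdealOf ⟨x', hx'V⟩).asIdeal),
      t' = phi hV F _ τ := ⟨_, rfl⟩
  have hat' : a₀ • t' = (F.restrict hV.fromSpec).presheaf.map (homOfLE (le_top :
      LocCoh.puncturedOpen Γ(X, V) (hV.primeIdealOf ⟨x', hx'V⟩).asIdeal ≤ ⊤)).op m₀ := by
    have e := (phi hV F (LocCoh.puncturedOpen Γ(X, V)
      (hV.primeIdealOf ⟨x', hx'V⟩).asIdeal)).map_smul a₀ τ
    rw [hτ, phi_toSec, ← ht'] at e
    exact e.symm
  have hle1 : T.U.ι ''ᵁ T.U.ι ⁻¹ᵁ V ≤ hV.fromSpec ''ᵁ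
      (LocCoh.puncturedOpen Γ(X, V) (hV.primeIdealOf ⟨x', hx'V⟩).asIdeal) := by
    rw [hW, ZClos.ι_image_preimage, image_preimage_fromSpec, inf_comm]
  obtain ⟨t, ht⟩ : ∃ t : Γ(F, T.U.ι ''ᵁ T.U.ι ⁻¹ᵁ V),
      t = F.presheaf.map (homOfLE hle1).op t' := ⟨_, rfl⟩
  obtain ⟨a, ha⟩ := hbij.2
    (((ZClos.H0 Z).obj F).presheaf.germ V x hxV (((cc Z F).ι.app T).app V t))
  obtain ⟨c, hxc, σ, T₁, hTT₁, -, hσ⟩ := exists_of_rhoStalk_eq Z F hV x hxV T t a ha
  have hDW : (PrimeSpectrum.basicOpen c : (Spec Γ(X, V)).Opens) ⊓ WT Z hV T₁ ≤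
      LocCoh.puncturedOpen Γ(X, V) (hV.primeIdealOf ⟨x', hx'V⟩).asIdeal := by
    rw [hW]
    exact inf_le_right.trans (hV.fromSpec.preimage_mono (Cl.U_anti hTT₁))
  have hσ' : (F.restrict hV.fromSpec).presheaf.map (homOfLE (inf_le_left :
        (PrimeSpectrum.basicOpen c : (Spec Γ(X, V)).Opens) ⊓ WT Z hV T₁ ≤
          PrimeSpectrum.basicOpen c)).op σ =
      (F.restrict hV.fromSpec).presheaf.map (homOfLE hDW).op t' := by
    show F.presheaf.map (homOfLE (hV.fromSpec.image_mono inf_le_left)).op σ =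
      F.presheaf.map (homOfLE (hV.fromSpec.image_mono hDW)).op t'
    rw [hσ, ht]
    exact map_map_apply F _ _ t'
  obtain ⟨n, hndef⟩ : ∃ n : Γ(F.restrict hV.fromSpec,
      (PrimeSpectrum.basicOpen c : (Spec Γ(X, V)).Opens)),
      n = a₀ • (show Γ(F.restrict hV.fromSpec,
        (PrimeSpectrum.basicOpen c : (Spec Γ(X, V)).Opens)) from σ) -
        (F.restrict hV.fromSpec).presheaf.map (homOfLE (le_top :
          (PrimeSpectrum.basicOpen c : (Spec Γ(X, V)).Opens) ≤ ⊤)).op m₀ := ⟨_, rfl⟩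
  have hn : (F.restrict hV.fromSpec).presheaf.map (homOfLE (inf_le_left :
        (PrimeSpectrum.basicOpen c : (Spec Γ(X, V)).Opens) ⊓ WT Z hV T₁ ≤
          PrimeSpectrum.basicOpen c)).op n = 0 := by
    rw [hndef, map_sub, spec_map_smul, hσ', ← spec_map_smul, hat', map_map_apply, map_map_apply,
      sub_self]
  have h0 := rhoStalk_germ_eq_zero Z F hV x T₁ (PrimeSpectrum.basicOpen c) hxc n hn
  have h1 : F.presheaf.germ (hV.fromSpec ''ᵁ (PrimeSpectrum.basicOpen c)) x hxc n = 0 :=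
    hbij.1 (h0.trans (map_zero _).symm)
  obtain ⟨O', hxO', iU, iV, hO'⟩ := F.presheaf.germ_eq x hxc hxc n 0 (h1.trans (map_zero _).symm)
  rw [map_zero] at hO'
  have hx'O' : x' ∈ O' := hspec.mem_open O'.isOpen hxO'
  have hx'D : x' ∈ hV.fromSpec ''ᵁ (PrimeSpectrum.basicOpen c) := iU.le hx'O'
  have h2 : F.presheaf.germ (hV.fromSpec ''ᵁ (PrimeSpectrum.basicOpen c)) x' hx'D n = 0 := by
    rw [← F.presheaf.germ_res_apply iU x' hx'O' n, hO', map_zero]
  have hx'T : x' ∈ hV.fromSpec ''ᵁ ⊤ := mem_image_of_mem hV x' hx'V ⊤ trivial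
  apply exists_loc_of_stalk hV F x' hx'V hx'T a₀ m₀
    (F.presheaf.germ (hV.fromSpec ''ᵁ (PrimeSpectrum.basicOpen c)) x' hx'D σ)
  have e1 := smul_restrict_eq hV F (PrimeSpectrum.basicOpen c) a₀ σ
  have e2 : F.presheaf.germ (hV.fromSpec ''ᵁ (PrimeSpectrum.basicOpen c)) x' hx'D
      (a₀ • (show Γ(F.restrict hV.fromSpec,
        (PrimeSpectrum.basicOpen c : (Spec Γ(X, V)).Opens)) from σ)) =
      X.presheaf.germ V x' hx'V a₀ • F.presheaf.germ _ x' hx'D σ := by
    rw [e1]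
    refine (germ_smul F x' hx'D _ σ).trans ?_
    rw [X.presheaf.germ_res_apply (homOfLE (fromSpec_image_le hV (PrimeSpectrum.basicOpen c)))
      x' hx'D a₀]
  have e3 : F.presheaf.germ (hV.fromSpec ''ᵁ (PrimeSpectrum.basicOpen c)) x' hx'D
      ((F.restrict hV.fromSpec).presheaf.map (homOfLE (le_top :
          (PrimeSpectrum.basicOpen c : (Spec Γ(X, V)).Opens) ≤ ⊤)).op m₀) =
      F.presheaf.germ (hV.fromSpec ''ᵁ ⊤) x' hx'T m₀ :=
    F.presheaf.germ_res_apply (homOfLE (hV.fromSpec.image_mono le_top)) x' hx'D m₀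
  rw [hndef, map_sub, e2, e3, sub_eq_zero] at h2
  exact h2

open CategoryTheory CategoryTheory.Limits AlgebraicGeometry in
/-- For a locally Noetherian scheme X, a subset Z of X stable under specialization, a coherent
O_X-module F and a point x, F is Z-closed at x (the map induced on stalks at x by ρ_{X/Z} : F →
H⁰_{X/Z}(F) is bijective) if and only if the stalk F_{x'} has depth at least 2 over O_{X,x'} at
every generization x' of x lying in Z. -/
theorem result (X : Scheme.{u}) [IsLocallyNoetherian X] (Z : Set X)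
    (hZ : StableUnderSpecialization Z) (F : X.Modules) (hF : Coh.IsCoh F) (x : X) :
    ZClos.IsZClosedAt Z F x ↔
      ∀ x' : X, x' ⤳ x → x' ∈ Z → (2 : ℕ∞) ≤ LocCoh.depth (X.presheaf.stalk x') (F.presheaf.stalk x') := by
  constructor
  · intro hcl x' hspec hx'Z
    exact depth_of X Z hZ F hF x hcl x' hspec hx'Z
  · intro h
    exact of_depth X Z hZ F hF x h

end Groth.Agent.S5856
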