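import Groth.Statements.S5857
import Groth.Agent.S6039
import Groth.Agent.H95.ZClosStalk

set_option autoImplicit false
universe u
open ZClos

namespace Groth.Agent.S5857

open CategoryTheory CategoryTheory.Limits AlgebraicGeometry in
/-- For a locally Noetherian scheme X, a subset Z of X stable under specialization and a coherent
O_X-module F whose Z-closure H⁰_{X/Z}(F) is coherent, the stalk of H⁰_{X/Z}(F) at every point of Z
has depth at least 2. -/
theorem result (X : Scheme.{u}) [IsLocallyNoetherian X] (Z : Set X)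
    (hZ : StableUnderSpecialization Z) (F : X.Modules) (hF : Coh.IsCoh F)
    (hH : Coh.IsCoh ((ZClos.H0 Z).obj F)) (x : X) (hx : x ∈ Z) :
    (2 : ℕ∞) ≤ LocCoh.depth (X.presheaf.stalk x) (((ZClos.H0 Z).obj F).presheaf.stalk x) := by
  have hcl : ZClos.IsZClosed Z ((ZClos.H0 Z).obj F) := Groth.Agent.H95.ZClos.isZClosed_H0 Z F
  have hT : (closure ({x} : Set X)) ⊆ Z := by
    intro y hy
    exact hZ (specializes_iff_mem_closure.2 hy) hx
  let T : ZClos.Cl Z := ⟨⟨closure {x}, isClosed_closure⟩, hT⟩
  have hsec := (Groth.Agent.H95.ZClos.isZClosed_iff_sections Z ((ZClos.H0 Z).obj F)).1 hcl T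
  have hall : ∀ V : X.Opens,
      Function.Bijective (Groth.Agent.H95.ZClos.res ((ZClos.H0 Z).obj F) T.U V) :=
    Groth.Agent.H95.ZClos.res_bijective_of_compact ((ZClos.H0 Z).obj F) T.U hsec
  have hxT : x ∉ (T.U : Set X) := fun h => h (subset_closure rfl)
  exact (Groth.Agent.S6039.result X T.U ((ZClos.H0 Z).obj F) hH).2 hall x hxT

end Groth.Agent.S5857
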