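import Groth.Statements.S5860
import Groth.Agent.S5857
import Groth.Agent.S5752
import Groth.Agent.H8.StalkExact
import Groth.Agent.H8.QCohStalk
import Groth.Agent.H8.Coh
import Groth.Agent.H26.DepthQuot
import Groth.Agent.H95.ZClosStalk

set_option autoImplicit false
universe u
open ZClos

namespace Groth.Agent.S5860

open CategoryTheory CategoryTheory.Limits AlgebraicGeometry TopologicalSpace Opposite
open Groth.Agent.H95.ZClos Groth.Agent.H8

set_option linter.style.haveILetI false

lemma stalkMap_smul {X : Scheme.{u}} {M N : X.Modules} (φ : M ⟶ N) (x : X)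
    (r : X.presheaf.stalk x) (m : M.presheaf.stalk x) :
    stalkMap φ x (r • m) = r • stalkMap φ x m := by
  obtain ⟨U, hxU, a, rfl⟩ := X.presheaf.exists_germ_eq r
  obtain ⟨U', hxU', m₀, rfl⟩ := M.presheaf.exists_germ_eq m
  have hxW : x ∈ U ⊓ U' := ⟨hxU, hxU'⟩
  rw [← X.presheaf.germ_res_apply (homOfLE (inf_le_left : U ⊓ U' ≤ U)) x hxW a,
    ← M.presheaf.germ_res_apply (homOfLE (inf_le_right : U ⊓ U' ≤ U')) x hxW m₀,
    ← germ_smul M x hxW, stalkMap_germ, stalkMap_germ, ← germ_smul N x hxW,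
    Scheme.Modules.Hom.app_smul]

noncomputable def stalkLinearEquiv {X : Scheme.{u}} {M N : X.Modules} (φ : M ⟶ N) (x : X)
    (h : Function.Bijective (stalkMap φ x)) :
    M.presheaf.stalk x ≃ₗ[X.presheaf.stalk x] N.presheaf.stalk x :=
  LinearEquiv.ofBijective
    { toFun := stalkMap φ x
      map_add' := fun a b => map_add _ a b
      map_smul' := fun r m => stalkMap_smul φ x r m } h

lemma le_natCast_of_not_succ_le (D : WithBot ℕ∞) (m : ℕ)
    (h : ¬ ((m + 1 : ℕ) : WithBot ℕ∞) ≤ D) : D ≤ (m : WithBot ℕ∞) := by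
  have h1 : D < ((m + 1 : ℕ) : WithBot ℕ∞) := not_le.mp h
  rw [Nat.cast_add, Nat.cast_one] at h1
  exact ENat.WithBot.lt_add_one_iff.mp h1

theorem stable_dimGe (X : Scheme.{u}) (n : ℕ) : StableUnderSpecialization (ZClos.dimGe X n) := by
  intro x y hxy hx
  have hle : y ≤ x := hxy
  have h1 := Order.coheight_anti hle
  have hx' : (n : WithBot ℕ∞) ≤ ringKrullDim (X.presheaf.stalk x) := hx
  show (n : WithBot ℕ∞) ≤ ringKrullDim (X.presheaf.stalk y)
  rw [ringKrullDim_stalk_eq_coheight] at hx' ⊢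
  exact hx'.trans (WithBot.coe_le_coe.2 h1)

open CategoryTheory CategoryTheory.Limits AlgebraicGeometry in
/-- Let X be a locally Noetherian scheme and F a coherent O_X-module with support all of X, having no
associated point at which the local ring of X has dimension 1, and such that F' = H⁰_{X/Z}(F) is
coherent, Z = Z^(2)(X) being the set of points whose local ring has dimension at least 2. Then F'
satisfies (S_2): at every point x, depth(F'_x) ≥ min(2, dim F'_x). -/
theorem result (X : Scheme.{u}) [IsLocallyNoetherian X] (F : X.Modules) (hF : Coh.IsCoh F)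
    (hsupp : ∀ x : X, Nontrivial (F.presheaf.stalk x))
    (hass : ∀ x ∈ AssSch.Ass F, ringKrullDim (X.presheaf.stalk x) ≠ 1)
    (hH : Coh.IsCoh ((ZClos.H0 (ZClos.dimGe X 2)).obj F)) (x : X) :
    min (2 : WithBot ℕ∞) (Module.supportDim (X.presheaf.stalk x) (((ZClos.H0 (ZClos.dimGe X 2)).obj F).presheaf.stalk x)) ≤
      ((LocCoh.depth (X.presheaf.stalk x) (((ZClos.H0 (ZClos.dimGe X 2)).obj F).presheaf.stalk x) : ℕ∞) : WithBot ℕ∞) := by
  classical
  have hZ : StableUnderSpecialization (ZClos.dimGe X 2) := stable_dimGe X 2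
  by_cases hxZ : x ∈ ZClos.dimGe X 2
  · have h2 := Groth.Agent.S5857.result X (ZClos.dimGe X 2) hZ F hF hH x hxZ
    have h3 : ((2 : ℕ∞) : WithBot ℕ∞) ≤ ((LocCoh.depth (X.presheaf.stalk x)
        (((ZClos.H0 (ZClos.dimGe X 2)).obj F).presheaf.stalk x) : ℕ∞) : WithBot ℕ∞) :=
      WithBot.coe_le_coe.2 h2
    exact le_trans (min_le_left _ _) h3
  · have hbij : Function.Bijective (stalkMap (ZClos.rhoApp (ZClos.dimGe X 2) F) x) :=
      Groth.Agent.H95.ZClos.isZClosedAt_of_not_mem (ZClos.dimGe X 2) F x hxZ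
    have e := stalkLinearEquiv (ZClos.rhoApp (ZClos.dimGe X 2) F) x hbij
    rw [← Module.supportDim_eq_of_equiv e]
    have hdep : LocCoh.depth (X.presheaf.stalk x)
        (((ZClos.H0 (ZClos.dimGe X 2)).obj F).presheaf.stalk x) =
        LocCoh.depth (X.presheaf.stalk x) (F.presheaf.stalk x) :=
      (Groth.Agent.H26.DepthQuot.idealDepth_congr
        (IsLocalRing.maximalIdeal (X.presheaf.stalk x)) e).symm
    rw [hdep]
    have hD : ¬ ((1 + 1 : ℕ) : WithBot ℕ∞) ≤ ringKrullDim (X.presheaf.stalk x) := hxZ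
    have hD1 : ringKrullDim (X.presheaf.stalk x) ≤ ((1 : ℕ) : WithBot ℕ∞) :=
      le_natCast_of_not_succ_le _ 1 hD
    have hle := Module.supportDim_le_ringKrullDim (X.presheaf.stalk x) (F.presheaf.stalk x)
    by_cases hxass : x ∈ AssSch.Ass F
    · have h1 : ringKrullDim (X.presheaf.stalk x) ≠ 1 := hass x hxass
      have h0 : ringKrullDim (X.presheaf.stalk x) ≤ ((0 : ℕ) : WithBot ℕ∞) := by
        apply le_natCast_of_not_succ_le _ 0
        intro h2
        apply h1
        apply le_antisymm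
        · exact_mod_cast hD1
        · exact_mod_cast h2
      refine le_trans (min_le_right _ _) (le_trans hle (le_trans h0 ?_))
      have h4 : (((0 : ℕ) : ℕ∞) : WithBot ℕ∞) ≤ ((LocCoh.depth (X.presheaf.stalk x)
          (F.presheaf.stalk x) : ℕ∞) : WithBot ℕ∞) := WithBot.coe_le_coe.2 (by simp)
      exact h4
    · have hd1 : (1 : ℕ∞) ≤ LocCoh.depth (X.presheaf.stalk x) (F.presheaf.stalk x) := by
        haveI := finite_stalk_of_isCoh F hF x
        rw [Order.one_le_iff_ne_zero, ne_eq,
          Groth.Agent.S5752.result (X.presheaf.stalk x) (F.presheaf.stalk x)]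
        exact hxass
      refine le_trans (min_le_right _ _) (le_trans hle (le_trans hD1 ?_))
      exact_mod_cast hd1

end Groth.Agent.S5860
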