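import Groth.Statements.S5858
import Groth.Agent.S5857
import Groth.Agent.S5860
import Groth.Agent.H8.AssSch
import Groth.Agent.H8.Coh
import Groth.Agent.H29.CM
import Groth.Agent.H95.ZClosStalk

set_option autoImplicit false
universe u
open ZClos

namespace Groth.Agent.S5858

open CategoryTheory CategoryTheory.Limits AlgebraicGeometry TopologicalSpace Opposite
open Groth.Agent.H95.ZClos Groth.Agent.H8

set_option linter.style.haveILetI false

open CategoryTheory CategoryTheory.Limits AlgebraicGeometry in
/-- For a locally Noetherian scheme X, a subset Z of X stable under specialization and a coherent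
O_X-module F whose Z-closure H⁰_{X/Z}(F) is coherent: for every associated point x of F outside Z
and every specialization y of x lying in Z, the closure of y has codimension at least 2 in the
closure of x, that is, the quotient of O_{X,y} by the prime ideal of the generization x has
dimension at least 2. -/
theorem result (X : Scheme.{u}) [IsLocallyNoetherian X] (Z : Set X)
    (hZ : StableUnderSpecialization Z) (F : X.Modules) (hF : Coh.IsCoh F)
    (hH : Coh.IsCoh ((ZClos.H0 Z).obj F))
    (x : X) (hx : x ∈ AssSch.Ass F) (hxZ : x ∉ Z) (y : X) (hy : y ∈ Z) (h : x ⤳ y) :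
    (2 : WithBot ℕ∞) ≤ ringKrullDim (X.presheaf.stalk y ⧸
      (IsLocalRing.maximalIdeal (X.presheaf.stalk x)).comap (X.presheaf.stalkSpecializes h).hom) := by
  classical
  have hd := Groth.Agent.S5857.result X Z hZ F hF hH y hy
  have hbij : Function.Bijective (stalkMap (ZClos.rhoApp Z F) x) :=
    Groth.Agent.H95.ZClos.isZClosedAt_of_not_mem Z F x hxZ
  have e := Groth.Agent.S5860.stalkLinearEquiv (ZClos.rhoApp Z F) x hbij
  have hxG : Curv2.IsAssPoint ((ZClos.H0 Z).obj F) x := by
    have hx' : IsAssociatedPrime (IsLocalRing.maximalIdeal (X.presheaf.stalk x))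
        (F.presheaf.stalk x) := hx
    exact (LinearEquiv.isAssociatedPrime_iff e).1 hx'
  obtain ⟨V, hV, hyV, -⟩ := Opens.isBasis_iff_nbhd.mp X.isBasis_affineOpens
    (show y ∈ (⊤ : X.Opens) from trivial)
  have hxV : x ∈ V := h.mem_open V.2 hyV
  haveI : IsNoetherianRing Γ(X, V) := IsLocallyNoetherian.component_noetherian ⟨V, hV⟩
  haveI : ((ZClos.H0 Z).obj F).IsQuasicoherent := hH.1
  rw [isAssPoint_iff_isAssociatedPrime hV _ x hxV] at hxG
  letI := X.presheaf.algebra_section_stalk ⟨y, hyV⟩
  haveI := IsAffineOpen.isLocalization_stalk hV ⟨y, hyV⟩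
  letI := moduleSectionStalk ((ZClos.H0 Z).obj F) y hyV
  haveI := isScalarTower_sectionStalk ((ZClos.H0 Z).obj F) y hyV
  haveI := isLocalizedModule_germₗ ((ZClos.H0 Z).obj F) hV y hyV
  have hp : (IsLocalRing.maximalIdeal (X.presheaf.stalk x)).comap
      (X.presheaf.stalkSpecializes h).hom ∈
      associatedPrimes (X.presheaf.stalk y) (((ZClos.H0 Z).obj F).presheaf.stalk y) := by
    refine Module.associatedPrimes.mem_associatedPrimes_of_comap_mem_associatedPrimes_of_isLocalizedModule
      (IsAffineOpen.primeIdealOf hV ⟨y, hyV⟩).asIdeal.primeCompl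
      (germₗ ((ZClos.H0 Z).obj F) y hyV) _ ?_
    have hcomap : ((IsLocalRing.maximalIdeal (X.presheaf.stalk x)).comap
        (X.presheaf.stalkSpecializes h).hom).comap
        (algebraMap Γ(X, V) (X.presheaf.stalk y)) =
        (IsAffineOpen.primeIdealOf hV ⟨x, hxV⟩).asIdeal := by
      letI := X.presheaf.algebra_section_stalk ⟨x, hxV⟩
      haveI := IsAffineOpen.isLocalization_stalk hV ⟨x, hxV⟩
      have h1 : (IsLocalRing.maximalIdeal (X.presheaf.stalk x)).comap
          (algebraMap Γ(X, V) (X.presheaf.stalk x)) =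
          (IsAffineOpen.primeIdealOf hV ⟨x, hxV⟩).asIdeal :=
        IsLocalization.AtPrime.comap_maximalIdeal _ _
      rw [← h1, Ideal.comap_comap]
      congr 1
      ext a
      exact TopCat.Presheaf.germ_stalkSpecializes_apply X.presheaf hyV h a
    rw [hcomap]
    exact hxG
  haveI := finite_stalk_of_isCoh ((ZClos.H0 Z).obj F) hH y
  have h3 := Groth.Agent.H29.CM.depth_le_ringKrullDim_quotient hp
  have h4 : ((2 : ℕ∞) : WithBot ℕ∞) ≤ ((LocCoh.depth (X.presheaf.stalk y)
      (((ZClos.H0 Z).obj F).presheaf.stalk y) : ℕ∞) : WithBot ℕ∞) := WithBot.coe_le_coe.2 hd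
  exact le_trans h4 h3

end Groth.Agent.S5858
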