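import Groth.Statements.S5859
import Groth.Agent.S5856
import Groth.Agent.H8.StalkExact
import Groth.Agent.H8.SuppClosed
import Groth.Agent.H8.CohKerCoker

set_option autoImplicit false
universe u
open ZClos

namespace Groth.Agent.S5859

open CategoryTheory CategoryTheory.Limits AlgebraicGeometry TopologicalSpace Opposite
open Groth.Agent.H95.ZClos Groth.Agent.H95.TB Groth.Agent.H8

set_option backward.isDefEq.respectTransparency false
set_option linter.style.haveILetI false

theorem res_bijective_of_depth {X : Scheme.{u}} [IsLocallyNoetherian X] (F : X.Modules)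
    (hF : Coh.IsCoh F) (U₁ O : X.Opens)
    (h : ∀ x : X, x ∈ O → x ∉ U₁ →
      (2 : ℕ∞) ≤ LocCoh.depth (X.presheaf.stalk x) (F.presheaf.stalk x)) :
    Function.Bijective (res F U₁ O) := by
  have haff : ∀ V' : X.Opens, IsAffineOpen V' → V' ≤ O → Function.Bijective (res F U₁ V') :=
    fun V' hV' hle =>
      res_bijective_affine_of_depth hV' F hF U₁ (fun x hx hxU => h x (hle hx) hxU)
  have hinj : ∀ O' : X.Opens, O' ≤ O → Function.Injective (res F U₁ O') := fun O' hO' =>
    res_injective_of_cover F U₁ O' (fun i : AffIn O' => i.1) (fun i => i.2.2) (le_iSup_affIn O')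
      (fun i => (haff i.1 i.2.1 (i.2.2.trans hO')).1)
  exact res_bijective_of_cover F U₁ O (fun i : AffIn O => i.1) (fun i => i.2.2) (le_iSup_affIn O)
    (fun i => haff i.1 i.2.1 i.2.2) (fun k l => hinj _ (inf_le_left.trans k.2.2))

open CategoryTheory CategoryTheory.Limits AlgebraicGeometry in
/-- For a locally Noetherian scheme X, a subset Z of X stable under specialization and a coherent
O_X-module F whose Z-closure H⁰_{X/Z}(F) is coherent, let U be the set of points x such that the
stalk F_{x'} has depth at least 2 at every generization x' of x lying in Z. Then U is open, X ∖ U ⊆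
Z, the restriction of F to U is (Z ∩ U)-closed, and every open subset V of X such that F|V is (Z ∩
V)-closed is contained in U. -/
theorem result (X : Scheme.{u}) [IsLocallyNoetherian X] (Z : Set X)
    (hZ : StableUnderSpecialization Z) (F : X.Modules) (hF : Coh.IsCoh F)
    (hH : Coh.IsCoh ((ZClos.H0 Z).obj F)) :
    ∃ U : X.Opens, (U : Set X) = {x | ∀ x' : X, x' ⤳ x → x' ∈ Z →
        (2 : ℕ∞) ≤ LocCoh.depth (X.presheaf.stalk x') (F.presheaf.stalk x')} ∧
      (U : Set X)ᶜ ⊆ Z ∧
      ZClos.IsZClosed (U.ι.base ⁻¹' Z) ((Scheme.Modules.restrictFunctor U.ι).obj F) ∧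
      ∀ V : X.Opens, ZClos.IsZClosed (V.ι.base ⁻¹' Z) ((Scheme.Modules.restrictFunctor V.ι).obj F) → V ≤ U := by
  classical
  set S : Set X := {x | ∀ x' : X, x' ⤳ x → x' ∈ Z →
        (2 : ℕ∞) ≤ LocCoh.depth (X.presheaf.stalk x') (F.presheaf.stalk x')} with hS
  have hS1 : ∀ x, x ∈ S ↔ ZClos.IsZClosedAt Z F x := fun x =>
    (Groth.Agent.S5856.result X Z hZ F hF x).symm
  have hK : Coh.IsCoh (kernel (ZClos.rhoApp Z F)) := isCoh_kernel hF hH _
  have hC : Coh.IsCoh (cokernel (ZClos.rhoApp Z F)) := isCoh_cokernel hF hH _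
  haveI := hK.2
  haveI := hC.2
  have hS2 : S = ({x : X | ¬ Subsingleton ↑((kernel (ZClos.rhoApp Z F)).presheaf.stalk x)} ∪
      {x : X | ¬ Subsingleton ↑((cokernel (ZClos.rhoApp Z F)).presheaf.stalk x)})ᶜ := by
    ext x
    rw [hS1 x]
    have h1 : ZClos.IsZClosedAt Z F x ↔ Function.Bijective (stalkMap (ZClos.rhoApp Z F) x) :=
      Iff.rfl
    rw [h1, stalkMap_bijective_iff]
    simp only [Set.mem_compl_iff, Set.mem_union, Set.mem_ofPred_eq, not_or, not_not]
  have hopen : IsOpen S := by
    rw [hS2]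
    exact ((isClosed_support_of_isFiniteType _).union
      (isClosed_support_of_isFiniteType _)).isOpen_compl
  obtain ⟨U, hU⟩ : ∃ U : X.Opens, (U : Set X) = S := ⟨⟨S, hopen⟩, rfl⟩
  have hmem : ∀ x, x ∈ U ↔ x ∈ S := fun x => by rw [← hU]; rfl
  refine ⟨U, hU, ?_, ?_, ?_⟩
  · intro x hx
    by_contra hxZ
    rw [hU] at hx
    exact hx ((hS1 x).2 (Groth.Agent.H95.ZClos.isZClosedAt_of_not_mem Z F x hxZ))
  · rw [isZClosed_iff_sections]
    intro T' W hW
    obtain ⟨T, hT⟩ := exists_cl_of_local U hZ T' W hW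
    have hOU : U.ι ''ᵁ W ≤ U := by
      have h := U.ι.image_mono (le_top : W ≤ ⊤)
      rw [Scheme.Hom.image_top_eq_opensRange, Scheme.Opens.opensRange_ι] at h
      exact h
    have h1 : Function.Bijective (res F T.U (U.ι ''ᵁ W)) := by
      apply res_bijective_of_depth F hF
      intro x hxO hxT
      have hxS : x ∈ S := (hmem x).1 (hOU hxO)
      exact hxS x specializes_rfl (T.2 (by by_contra hcon; exact hxT hcon))
    exact (bij_congr₂ F.presheaf rfl hT (homOfLE inf_le_left)
      (U.ι.opensFunctor.map (homOfLE (inf_le_left : W ⊓ T'.U ≤ W)))).1 h1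
  · intro V hVcl x hxV
    rw [hmem]
    intro x' hspec hx'Z
    have hx'V : x' ∈ V := hspec.mem_open V.isOpen hxV
    obtain ⟨V', hV'aff, hx'V', hV'V⟩ :=
      exists_isAffineOpen_mem_and_subset (x := x') (U := V) hx'V
    have hT : closure ({x'} : Set X) ⊆ Z :=
      fun y hy => hZ (specializes_iff_mem_closure.2 hy) hx'Z
    let T : ZClos.Cl Z := ⟨⟨closure {x'}, isClosed_closure⟩, hT⟩
    have hsec := (isZClosed_iff_sections _ _).1 hVcl (pullCl V T)
    refine depth_of_res_bijective hV'aff F hF T.U ?_ x' hx'V' (fun h => h (subset_closure rfl))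
    intro V'' hV''
    have hc : IsCompact (V'' : Set X) := isCompact_of_le_affine hV'aff hV''
    have h1 := hsec (V.ι ⁻¹ᵁ V'') (isCompact_preimage_ι V hc)
    have h2 := (pull_res_bij_iff F V T V'').1 h1
    have e : V ⊓ V'' = V'' := inf_eq_right.mpr (hV''.trans hV'V)
    exact (bij_congr₂ F.presheaf e (by rw [e]) _ _).1 h2

end Groth.Agent.S5859
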