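import Groth.Statements.S5861
import Groth.Agent.S5859
import Groth.Agent.S5860
import Groth.Agent.H8.AssPoints2
import Groth.Agent.H8.Coh

set_option autoImplicit false
universe u
open ZClos

namespace Groth.Agent.S5861

open CategoryTheory CategoryTheory.Limits AlgebraicGeometry TopologicalSpace Opposite
open Groth.Agent.H95.ZClos Groth.Agent.H8

set_option linter.style.haveILetI false

/-- If all stalks of a quasi-coherent module are nontrivial, the support of each stalk (as a module
over the local ring) is the whole spectrum. -/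
lemma mem_support_stalk {X : Scheme.{u}} (F : X.Modules) [F.IsQuasicoherent]
    (hsupp : ∀ x : X, Nontrivial (F.presheaf.stalk x)) (x : X)
    (Q : PrimeSpectrum (X.presheaf.stalk x)) :
    Q ∈ Module.support (X.presheaf.stalk x) (F.presheaf.stalk x) := by
  obtain ⟨V, hV, hxV, -⟩ := Opens.isBasis_iff_nbhd.mp X.isBasis_affineOpens
    (show x ∈ (⊤ : X.Opens) from trivial)
  letI := X.presheaf.algebra_section_stalk ⟨x, hxV⟩
  haveI := IsAffineOpen.isLocalization_stalk hV ⟨x, hxV⟩
  haveI hQ : Q.asIdeal.IsPrime := Q.2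
  haveI hqprime : (Q.asIdeal.comap (X.presheaf.germ V x hxV).hom).IsPrime :=
    Ideal.comap_isPrime _ _
  obtain ⟨q, hqdef⟩ : ∃ q : Ideal Γ(X, V),
    q = Q.asIdeal.comap (X.presheaf.germ V x hxV).hom := ⟨_, rfl⟩
  haveI hq' : q.IsPrime := hqdef ▸ hqprime
  have hqle : q ≤ (hV.primeIdealOf ⟨x, hxV⟩).asIdeal := by
    rw [hqdef]
    exact comap_le_primeIdealOf hV x hxV Q.asIdeal
  obtain ⟨x'', hx''def⟩ : ∃ x'' : X, x'' = pointOfPrime hV q := ⟨_, rfl⟩
  have hx''V : x'' ∈ V := hx''def ▸ pointOfPrime_mem hV q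
  have hqx'' : (hV.primeIdealOf ⟨x'', hx''V⟩).asIdeal = q := by
    subst hx''def
    exact congrArg PrimeSpectrum.asIdeal (primeIdealOf_pointOfPrime hV q)
  have hunit : ∀ a : Γ(X, V), a ∉ q → IsUnit (X.presheaf.germ V x'' hx''V a) := by
    intro a ha
    rw [← Scheme.mem_basicOpen _ _ _ hx''V, mem_basicOpen_iff_notMem_primeIdealOf hV x'' hx''V a]
    show a ∉ (hV.primeIdealOf ⟨x'', hx''V⟩).asIdeal
    rw [hqx'']
    exact ha
  haveI := hsupp x''
  obtain ⟨m'', hm''⟩ := exists_ne (0 : F.presheaf.stalk x'')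
  obtain ⟨a, hxa, n, hn⟩ := exists_germ_smul_eq_germ F hV x'' hx''V m''
  have hua : IsUnit (X.presheaf.germ V x'' hx''V a) :=
    (Scheme.mem_basicOpen _ _ _ hx''V).mp hxa
  have hgn : F.presheaf.germ V x'' hx''V n ≠ 0 := by
    intro h0
    rw [h0] at hn
    exact hm'' ((IsUnit.smul_eq_zero hua).mp hn)
  have hann : ∀ b : Γ(X, V), b • n = 0 → b ∈ q := by
    intro b hb
    by_contra hbq
    have h1 : X.presheaf.germ V x'' hx''V b • F.presheaf.germ V x'' hx''V n = 0 := by
      rw [← germ_smul, hb, map_zero]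
    exact hgn ((IsUnit.smul_eq_zero (hunit b hbq)).mp h1)
  rw [Module.mem_support_iff']
  refine ⟨F.presheaf.germ V x hxV n, ?_⟩
  intro r hr h0
  obtain ⟨⟨b, s⟩, hbs⟩ := IsLocalization.surj (hV.primeIdealOf ⟨x, hxV⟩).asIdeal.primeCompl r
  have hbq : b ∉ q := by
    intro hb
    have h1 : algebraMap Γ(X, V) (X.presheaf.stalk x) b ∈ Q.asIdeal := by
      rw [hqdef] at hb
      exact hb
    rw [← hbs] at h1
    rcases hQ.mem_or_mem h1 with h2 | h2
    · exact hr h2
    · have h3 : (s : Γ(X, V)) ∈ q := by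
        rw [hqdef]
        exact h2
      exact s.2 (hqle h3)
  have h2 : F.presheaf.germ V x hxV (b • n) = 0 := by
    rw [germ_smul]
    show algebraMap Γ(X, V) (X.presheaf.stalk x) b • _ = 0
    rw [← hbs, mul_comm, mul_smul, h0, smul_zero]
  obtain ⟨c, hxc, hc⟩ := exists_smul_eq_zero_of_germ_eq_zero F hV x hxV (b • n) h2
  have hcq : c ∉ q := by
    intro hc'
    exact ((mem_basicOpen_iff_notMem_primeIdealOf hV x hxV c).mp hxc) (hqle hc')
  have h3 : c * b ∈ q := hann (c * b) (by rw [mul_smul]; exact hc)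
  rcases hq'.mem_or_mem h3 with h4 | h4
  · exact hcq h4
  · exact hbq h4

lemma supportDim_stalk_eq {X : Scheme.{u}} (F : X.Modules) [F.IsQuasicoherent]
    (hsupp : ∀ x : X, Nontrivial (F.presheaf.stalk x)) (x : X) :
    Module.supportDim (X.presheaf.stalk x) (F.presheaf.stalk x) =
      ringKrullDim (X.presheaf.stalk x) := by
  have h : Module.support (X.presheaf.stalk x) (F.presheaf.stalk x) = Set.univ :=
    Set.eq_univ_of_forall (mem_support_stalk F hsupp x)
  rw [Module.supportDim, h]
  exact Order.krullDim_eq_of_orderIso OrderIso.Set.univ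

open CategoryTheory CategoryTheory.Limits AlgebraicGeometry in
/-- Suppose X is a locally Noetherian scheme and F is a coherent O_X-module whose support is the whole
of X. Assume no associated point of F has a local ring of X of dimension 1, and assume H⁰_{X/Z}(F)
is coherent, where Z = Z^(2)(X) denotes the set of points whose local ring has dimension at least 2.
Consider the set U of points x where F satisfies (S_2), meaning depth(F_{x'}) ≥ min(2, dim F_{x'})
holds at every generization x' of x. Then U is an open subset, and the points lying outside U form a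
set of codimension ≥ 2: the local ring at any such point has dimension at least 2. -/
theorem result (X : Scheme.{u}) [IsLocallyNoetherian X] (F : X.Modules) (hF : Coh.IsCoh F)
    (hsupp : ∀ x : X, Nontrivial (F.presheaf.stalk x))
    (hass : ∀ x ∈ AssSch.Ass F, ringKrullDim (X.presheaf.stalk x) ≠ 1)
    (hH : Coh.IsCoh ((ZClos.H0 (ZClos.dimGe X 2)).obj F)) :
    IsOpen {x : X | ∀ x' : X, x' ⤳ x →
        min (2 : WithBot ℕ∞) (Module.supportDim (X.presheaf.stalk x') (F.presheaf.stalk x')) ≤
          ((LocCoh.depth (X.presheaf.stalk x') (F.presheaf.stalk x') : ℕ∞) : WithBot ℕ∞)} ∧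
      ∀ x : X, (¬ ∀ x' : X, x' ⤳ x →
        min (2 : WithBot ℕ∞) (Module.supportDim (X.presheaf.stalk x') (F.presheaf.stalk x')) ≤
          ((LocCoh.depth (X.presheaf.stalk x') (F.presheaf.stalk x') : ℕ∞) : WithBot ℕ∞)) →
        (2 : WithBot ℕ∞) ≤ ringKrullDim (X.presheaf.stalk x) := by
  classical
  have hZ : StableUnderSpecialization (ZClos.dimGe X 2) := Groth.Agent.S5860.stable_dimGe X 2
  haveI : F.IsQuasicoherent := hF.1
  obtain ⟨U, hUeq, hUc, -, -⟩ := Groth.Agent.S5859.result X (ZClos.dimGe X 2) hZ F hF hH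
  have key : ∀ x : X, (∀ x' : X, x' ⤳ x →
        min (2 : WithBot ℕ∞) (Module.supportDim (X.presheaf.stalk x') (F.presheaf.stalk x')) ≤
          ((LocCoh.depth (X.presheaf.stalk x') (F.presheaf.stalk x') : ℕ∞) : WithBot ℕ∞)) ↔
      x ∈ (U : Set X) := by
    intro x
    rw [hUeq]
    constructor
    · intro hx x' hspec hx'Z
      have h1 := hx x' hspec
      rw [supportDim_stalk_eq F hsupp x'] at h1
      have h5 : ((2 : ℕ) : WithBot ℕ∞) ≤ ringKrullDim (X.presheaf.stalk x') := hx'Z
      rw [min_eq_left (by exact_mod_cast h5)] at h1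
      exact WithBot.coe_le_coe.1 (show ((2 : ℕ∞) : WithBot ℕ∞) ≤ _ from h1)
    · intro hx x' hspec
      by_cases hx'Z : x' ∈ ZClos.dimGe X 2
      · have h1 := hx x' hspec hx'Z
        have h3 : ((2 : ℕ∞) : WithBot ℕ∞) ≤ ((LocCoh.depth (X.presheaf.stalk x')
            (F.presheaf.stalk x') : ℕ∞) : WithBot ℕ∞) := WithBot.coe_le_coe.2 h1
        exact le_trans (min_le_left _ _) h3
      · have hD : ¬ ((1 + 1 : ℕ) : WithBot ℕ∞) ≤ ringKrullDim (X.presheaf.stalk x') := hx'Z
        have hD1 : ringKrullDim (X.presheaf.stalk x') ≤ ((1 : ℕ) : WithBot ℕ∞) :=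
          Groth.Agent.S5860.le_natCast_of_not_succ_le _ 1 hD
        have hle := Module.supportDim_le_ringKrullDim (X.presheaf.stalk x')
          (F.presheaf.stalk x')
        by_cases hxass : x' ∈ AssSch.Ass F
        · have h1 : ringKrullDim (X.presheaf.stalk x') ≠ 1 := hass x' hxass
          have h0 : ringKrullDim (X.presheaf.stalk x') ≤ ((0 : ℕ) : WithBot ℕ∞) := by
            apply Groth.Agent.S5860.le_natCast_of_not_succ_le _ 0
            intro h2
            apply h1
            apply le_antisymm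
            · exact_mod_cast hD1
            · exact_mod_cast h2
          refine le_trans (min_le_right _ _) (le_trans hle (le_trans h0 ?_))
          have h4 : (((0 : ℕ) : ℕ∞) : WithBot ℕ∞) ≤ ((LocCoh.depth (X.presheaf.stalk x')
              (F.presheaf.stalk x') : ℕ∞) : WithBot ℕ∞) := WithBot.coe_le_coe.2 (by simp)
          exact h4
        · have hd1 : (1 : ℕ∞) ≤ LocCoh.depth (X.presheaf.stalk x') (F.presheaf.stalk x') := by
            haveI := finite_stalk_of_isCoh F hF x'
            rw [Order.one_le_iff_ne_zero, ne_eq,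
              Groth.Agent.S5752.result (X.presheaf.stalk x') (F.presheaf.stalk x')]
            exact hxass
          refine le_trans (min_le_right _ _) (le_trans hle (le_trans hD1 ?_))
          exact_mod_cast hd1
  have hopen : IsOpen (U : Set X) := U.2
  have hset : (U : Set X) = {x : X | ∀ x' : X, x' ⤳ x →
        min (2 : WithBot ℕ∞) (Module.supportDim (X.presheaf.stalk x') (F.presheaf.stalk x')) ≤
          ((LocCoh.depth (X.presheaf.stalk x') (F.presheaf.stalk x') : ℕ∞) : WithBot ℕ∞)} := by
    ext x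
    exact (key x).symm
  refine ⟨hset ▸ hopen, ?_⟩
  intro x hx
  have hxU : x ∉ (U : Set X) := fun h => hx ((key x).2 h)
  have h6 : ((2 : ℕ) : WithBot ℕ∞) ≤ ringKrullDim (X.presheaf.stalk x) := hUc hxU
  exact_mod_cast h6

end Groth.Agent.S5861
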