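import Groth.Statements.S5866
import Mathlib
import Groth.Agent.H70.IntBirScheme
import Groth.Agent.H70.IntBirConverse

set_option autoImplicit false
universe u
open RadPt

namespace Groth.Agent.S5866



open CategoryTheory AlgebraicGeometry in
/-- Let f : X → Y be a morphism of schemes which is integral and whose induced morphism of reduced
schemes is birational. Then Y is geometrically unibranch (at every point) if and only if X is
geometrically unibranch and f is radicial (universally injective). -/
theorem result {X Y : Scheme.{u}} (f : X ⟶ Y) [IsIntegralHom f] (hf : RadPt.IsBirational f) :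
    (∀ y : Y, CAlg2.IsGeomUnibranch (Y.presheaf.stalk y)) ↔
      ((∀ x : X, CAlg2.IsGeomUnibranch (X.presheaf.stalk x)) ∧ UniversallyInjective f) := by
  have key : UniversallyInjective f ↔
      (Function.Injective f ∧ ∀ x, (f.residueFieldMap x).hom.IsPurelyInseparable) :=
    (tfae_universallyInjective f).out 0 2
  constructor
  · intro h
    refine ⟨fun x => (Groth.Agent.H70.IntBirScheme.forward f hf (f x) (h (f x))).2 x rfl, ?_⟩
    refine key.mpr ⟨?_, ?_⟩
    · intro x x' hxx'
      exact (Groth.Agent.H70.IntBirScheme.forward f hf (f x') (h _)).1.1 x x' hxx' rfl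
    · intro x
      exact (Groth.Agent.H70.IntBirScheme.forward f hf (f x) (h _)).1.2 x rfl
  · rintro ⟨hX, hUI⟩ y
    obtain ⟨hinj, hpi⟩ := key.mp hUI
    exact Groth.Agent.H70.IntBirConverse.converse f hf y
      ⟨fun x x' hx hx' => hinj (hx.trans hx'.symm), fun x _ => hpi x⟩ (fun x _ => hX x)

end Groth.Agent.S5866
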