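import Groth.Statements.S5867
import Groth.Agent.H95.ZClosAss
import Groth.Agent.S2506
import Groth.Agent.S0046

set_option autoImplicit false
universe u
open ZClos

namespace Groth.Agent.S5867

open CategoryTheory CategoryTheory.Limits AlgebraicGeometry in
/-- a) ⇒ d): for a locally Noetherian scheme X, a subset Z of X stable under specialization and a
coherent O_X-module F none of whose associated points lies in Z: if H⁰_{X/Z}(F) is coherent, then
for every closed subset T of X contained in Z the direct image i_*(F|X∖T) along the inclusion i : X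
∖ T → X is coherent. -/
theorem result (X : Scheme.{u}) [IsLocallyNoetherian X] (Z : Set X)
    (hZ : StableUnderSpecialization Z) (F : X.Modules) (hF : Coh.IsCoh F)
    (hass : ∀ x ∈ AssSch.Ass F, x ∉ Z) (hH : Coh.IsCoh ((ZClos.H0 Z).obj F)) (T : ZClos.Cl Z) :
    Coh.IsCoh ((ZClos.resPush T.U).obj F) := by
  have hFq : F.IsQuasicoherent := hF.1
  have hinj : ∀ (T' : ZClos.Cl Z) (W : X.Opens),
      Function.Injective (Groth.Agent.H95.ZClos.res F T'.U W) := by
    intro T' W
    apply Groth.Agent.H95.ZClos.res_injective_of_affine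
    have hsub : AssSch.Ass F ⊆ (T'.U : Set X) := fun x hx hxT => hass x hx (T'.2 hxT)
    have h1 := (Groth.Agent.S2506.result F hFq T'.U).1 hsub
    intro V hV
    rw [injective_iff_map_eq_zero]
    intro s hs
    exact h1 V hV s hs
  have hmono : Mono (colimit.ι ((ZClos.diagram Z).obj F) T) :=
    Groth.Agent.H95.ZClos.mono_colimit_ι_of_res_injective F hinj T
  exact @Groth.Agent.S0046.result X _ ((ZClos.H0 Z).obj F) ((ZClos.resPush T.U).obj F)
    (colimit.ι ((ZClos.diagram Z).obj F) T) hmono hH
    (Groth.Agent.H95.ZClos.isQuasicoherent_resPush F hFq T.U)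

end Groth.Agent.S5867
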