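import Groth.Statements.S5872
import Groth.Agent.H57.RelAssSU.Bridge

set_option linter.style.haveILetI false

set_option autoImplicit false
universe u
open CategoryTheory AlgebraicGeometry
open Cons9

namespace Groth.Agent.S5872

/-- Let S be an integral Noetherian scheme with generic point η, f : X ⟶ S a morphism of finite type and
F a coherent O_X-module; for s in S let F_s be the pullback of F to the scheme-theoretic fibre X_s.
If F_η has no embedded associated point, then there is an open neighbourhood U of η such that for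
every s in U the module F_s has no embedded associated point. -/
theorem result {X S : Scheme.{u}} [IsIntegral S] [IsNoetherian S]
    (f : X ⟶ S) [LocallyOfFiniteType f] [QuasiCompact f]
    (F : X.Modules) [Coh.IsQCoh F] (hF : CohB1.IsFP F)
    (hη : AssSch.NoEmbedded ((Scheme.Modules.pullback (f.fiberι (genericPoint S))).obj F)) :
    ∃ U : S.Opens, genericPoint S ∈ U ∧
      ∀ s ∈ U, AssSch.NoEmbedded ((Scheme.Modules.pullback (f.fiberι s)).obj F) := by
  haveI hq : F.IsQuasicoherent := ‹Coh.IsQCoh F›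
  haveI : SheafOfModules.IsFinitePresentation (R := X.ringCatSheaf) F := hF
  have hcoh : Coh.IsCoh F :=
    ⟨hq, Groth.Agent.H24.ModLimIso.isFiniteType_of_isFinitePresentation F⟩
  obtain ⟨U, hηU, -, K2, K3⟩ := Groth.Agent.H57.RelAssSU.key f F hcoh
  refine ⟨U, hηU, fun s hs x hx y hy hyx => ?_⟩
  have hx' := (Groth.Agent.H57.RelAssSU.mem_ass_fiber_iff f F s x).mp hx
  have hy' := (Groth.Agent.H57.RelAssSU.mem_ass_fiber_iff f F s y).mp hy
  have hfx : f (f.fiberι s x) = s := Groth.Agent.H57.RelAssSU.fiberι_apply_fiber f s x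
  have hfy : f (f.fiberι s y) = s := Groth.Agent.H57.RelAssSU.fiberι_apply_fiber f s y
  have hxU : f (f.fiberι s x) ∈ U := by rw [hfx]; exact hs
  have hyU : f (f.fiberι s y) ∈ U := by rw [hfy]; exact hs
  obtain ⟨x₀, hx₀R, hfx₀, hx₀x, hminx⟩ := K2 _ hx' hxU
  obtain ⟨y₀, hy₀R, hfy₀, hy₀y, hminy⟩ := K2 _ hy' hyU
  have hyx' : f.fiberι s y ⤳ f.fiberι s x :=
    (Groth.Agent.H57.RelAssSU.fiberι_specializes_iff f s x y).mpr hyx
  by_cases h : y₀ ⤳ x₀
  · obtain ⟨zx, hzx⟩ := Groth.Agent.H57.RelAssSU.exists_fiberι_eq f _ x₀ hfx₀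
    obtain ⟨zy, hzy⟩ := Groth.Agent.H57.RelAssSU.exists_fiberι_eq f _ y₀ hfy₀
    have hzxA : zx ∈ AssSch.Ass ((Scheme.Modules.pullback (f.fiberι (genericPoint S))).obj F) :=
      (Groth.Agent.H57.RelAssSU.mem_ass_fiber_iff f F _ zx).mpr (by rw [hzx]; exact hx₀R)
    have hzyA : zy ∈ AssSch.Ass ((Scheme.Modules.pullback (f.fiberι (genericPoint S))).obj F) :=
      (Groth.Agent.H57.RelAssSU.mem_ass_fiber_iff f F _ zy).mpr (by rw [hzy]; exact hy₀R)
    have hzz : zx = zy := hη zx hzxA zy hzyA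
      ((Groth.Agent.H57.RelAssSU.fiberι_specializes_iff f _ zx zy).mp (by rw [hzx, hzy]; exact h))
    have hxy₀ : x₀ = y₀ := by rw [← hzx, ← hzy, hzz]
    have h1 := hminx (f.fiberι s y) (by rw [hxy₀]; exact hy₀y) hyx' (by rw [hfx, hfy])
    exact (Groth.Agent.H57.RelAssSU.fiberι_injective f s h1).symm
  · exact absurd (hy₀y.trans hyx') (K3 x₀ y₀ _ hx₀R hfx₀ hy₀R hfy₀ h hx₀x hxU hminx)

end Groth.Agent.S5872
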