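import Groth.Statements.S5873
import Groth.Agent.H57.RelAssSU.Bridge

set_option linter.style.haveILetI false

set_option autoImplicit false
universe u
open CategoryTheory AlgebraicGeometry
open Cons9

namespace Groth.Agent.S5873

/-- Let S be an integral Noetherian scheme with generic point η, f : X ⟶ S a morphism of finite type and
F a coherent O_X-module; for s in S write F_s for the pullback of F to the scheme-theoretic fibre
X_s. For an associated point x of F_η let Z_x denote the closure in X of the image of x, and (Z_x)_s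
its trace on X_s (the preimage under X_s ⟶ X). Then there is an open neighbourhood U of η such that
for every s in U: (a) the associated points of F_s are exactly the maximal points (those admitting
no proper generization inside the set) of the sets (Z_x)_s, for x running over the associated points
of F_η, so that the associated prime cycles of F_s are the irreducible components of the (Z_x)_s;
(b) for distinct associated points x, x' of F_η the maximal points of (Z_x)_s and of (Z_x')_s are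
pairwise distinct; (c) for every associated point x of F_η and every maximal point z of (Z_x)_s, the
point z is a maximal associated point of F_s (no other associated point of F_s generizes it) if and
only if x is a maximal associated point of F_η. -/
theorem result {X S : Scheme.{u}} [IsIntegral S] [IsNoetherian S]
    (f : X ⟶ S) [LocallyOfFiniteType f] [QuasiCompact f]
    (F : X.Modules) [Coh.IsQCoh F] (hF : CohB1.IsFP F) :
    ∃ U : S.Opens, genericPoint S ∈ U ∧ ∀ s ∈ U,
      (AssSch.Ass ((Scheme.Modules.pullback (f.fiberι s)).obj F) =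
          ⋃ x ∈ AssSch.Ass ((Scheme.Modules.pullback (f.fiberι (genericPoint S))).obj F),
            {z : ↥(f.fiber s) | z ∈ ((f.fiberι s).base ⁻¹' closure {(f.fiberι (genericPoint S)).base x}) ∧ ∀ z' ∈ ((f.fiberι s).base ⁻¹' closure {(f.fiberι (genericPoint S)).base x}), z' ⤳ z → z' = z}) ∧
      (∀ x ∈ AssSch.Ass ((Scheme.Modules.pullback (f.fiberι (genericPoint S))).obj F), ∀ x' ∈ AssSch.Ass ((Scheme.Modules.pullback (f.fiberι (genericPoint S))).obj F), x ≠ x' →
          Disjoint {z : ↥(f.fiber s) | z ∈ ((f.fiberι s).base ⁻¹' closure {(f.fiberι (genericPoint S)).base x}) ∧ ∀ z' ∈ ((f.fiberι s).base ⁻¹' closure {(f.fiberι (genericPoint S)).base x}), z' ⤳ z → z' = z}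
            {z : ↥(f.fiber s) | z ∈ ((f.fiberι s).base ⁻¹' closure {(f.fiberι (genericPoint S)).base x'}) ∧ ∀ z' ∈ ((f.fiberι s).base ⁻¹' closure {(f.fiberι (genericPoint S)).base x'}), z' ⤳ z → z' = z}) ∧
      (∀ x ∈ AssSch.Ass ((Scheme.Modules.pullback (f.fiberι (genericPoint S))).obj F),
        ∀ z ∈ {z : ↥(f.fiber s) | z ∈ ((f.fiberι s).base ⁻¹' closure {(f.fiberι (genericPoint S)).base x}) ∧ ∀ z' ∈ ((f.fiberι s).base ⁻¹' closure {(f.fiberι (genericPoint S)).base x}), z' ⤳ z → z' = z},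
          ((∀ y ∈ AssSch.Ass ((Scheme.Modules.pullback (f.fiberι s)).obj F), y ⤳ z → y = z) ↔
            (∀ y ∈ AssSch.Ass ((Scheme.Modules.pullback (f.fiberι (genericPoint S))).obj F), y ⤳ x → y = x))) := by
  haveI hq : F.IsQuasicoherent := ‹Coh.IsQCoh F›
  haveI : SheafOfModules.IsFinitePresentation (R := X.ringCatSheaf) F := hF
  have hcoh : Coh.IsCoh F :=
    ⟨hq, Groth.Agent.H24.ModLimIso.isFiniteType_of_isFinitePresentation F⟩
  obtain ⟨U, hηU, K1, K2, K3⟩ := Groth.Agent.H57.RelAssSU.key f F hcoh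
  refine ⟨U, hηU, fun s hs => ?_⟩
  have hfs : ∀ z : ↥(f.fiber s), f (f.fiberι s z) = s :=
    Groth.Agent.H57.RelAssSU.fiberι_apply_fiber f s
  have hfη : ∀ x : ↥(f.fiber (genericPoint S)), f (f.fiberι _ x) = genericPoint S :=
    Groth.Agent.H57.RelAssSU.fiberι_apply_fiber f _
  have hU : ∀ z : ↥(f.fiber s), f (f.fiberι s z) ∈ U := fun z => by rw [hfs]; exact hs
  have hAs : ∀ z : ↥(f.fiber s), z ∈ AssSch.Ass ((Scheme.Modules.pullback (f.fiberι s)).obj F) ↔
      f.fiberι s z ∈ MoreMor.relAss f F := Groth.Agent.H57.RelAssSU.mem_ass_fiber_iff f F s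
  have hAη : ∀ x : ↥(f.fiber (genericPoint S)),
      x ∈ AssSch.Ass ((Scheme.Modules.pullback (f.fiberι (genericPoint S))).obj F) ↔
      f.fiberι _ x ∈ MoreMor.relAss f F := Groth.Agent.H57.RelAssSU.mem_ass_fiber_iff f F _
  have hspS : ∀ z z' : ↥(f.fiber s), f.fiberι s z' ⤳ f.fiberι s z ↔ z' ⤳ z :=
    Groth.Agent.H57.RelAssSU.fiberι_specializes_iff f s
  have hspη : ∀ x x' : ↥(f.fiber (genericPoint S)), f.fiberι _ x' ⤳ f.fiberι _ x ↔ x' ⤳ x :=
    Groth.Agent.H57.RelAssSU.fiberι_specializes_iff f _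
  have hZ : ∀ (x : ↥(f.fiber (genericPoint S))) (z : ↥(f.fiber s)),
      z ∈ {z : ↥(f.fiber s) | z ∈ ((f.fiberι s).base ⁻¹' closure {(f.fiberι (genericPoint S)).base x}) ∧ ∀ z' ∈ ((f.fiberι s).base ⁻¹' closure {(f.fiberι (genericPoint S)).base x}), z' ⤳ z → z' = z} ↔
      (f.fiberι _ x ⤳ f.fiberι s z ∧ ∀ x' : X, f.fiberι _ x ⤳ x' → x' ⤳ f.fiberι s z →
        f x' = f (f.fiberι s z) → x' = f.fiberι s z) := by
    intro x z
    constructor
    · rintro ⟨h1, h2⟩
      have h1' : f.fiberι _ x ⤳ f.fiberι s z := specializes_iff_mem_closure.mpr h1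
      refine ⟨h1', fun x' hx₀x' hx'y hfx' => ?_⟩
      obtain ⟨z', hz'⟩ := Groth.Agent.H57.RelAssSU.exists_fiberι_eq f s x' (hfx'.trans (hfs z))
      subst hz'
      have := h2 z' (specializes_iff_mem_closure.mp hx₀x') ((hspS z z').mp hx'y)
      rw [this]
    · rintro ⟨h1, h2⟩
      refine ⟨specializes_iff_mem_closure.mp h1, fun z' hz' hz'z => ?_⟩
      have h3 := h2 (f.fiberι s z') (specializes_iff_mem_closure.mpr hz') ((hspS z z').mpr hz'z)
        (by rw [hfs, hfs])
      exact Groth.Agent.H57.RelAssSU.fiberι_injective f s h3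
  refine ⟨?_, ?_, ?_⟩
  · ext z
    simp only [Set.mem_iUnion, exists_prop]
    constructor
    · intro hz
      obtain ⟨x₀, hx₀R, hfx₀, hx₀y, hmin⟩ := K2 _ ((hAs z).mp hz) (hU z)
      obtain ⟨x, hx⟩ := Groth.Agent.H57.RelAssSU.exists_fiberι_eq f _ x₀ hfx₀
      subst hx
      exact ⟨x, (hAη x).mpr hx₀R, (hZ x z).mpr ⟨hx₀y, hmin⟩⟩
    · rintro ⟨x, hxA, hzZ⟩
      obtain ⟨hsp, hmin⟩ := (hZ x z).mp hzZ
      exact (hAs z).mpr (K1 _ _ ((hAη x).mp hxA) (hfη x) hsp (hU z) hmin)
  · intro x hxA x' hx'A hne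
    rw [Set.disjoint_left]
    intro z hz hz'
    obtain ⟨hsp, hmin⟩ := (hZ x z).mp hz
    obtain ⟨hsp', hmin'⟩ := (hZ x' z).mp hz'
    by_cases h : f.fiberι _ x' ⤳ f.fiberι _ x
    · have h' : ¬ f.fiberι _ x ⤳ f.fiberι _ x' := fun h2 =>
        hne (Groth.Agent.H57.RelAssSU.fiberι_injective f _ (h2.antisymm h).eq)
      exact K3 _ _ _ ((hAη x').mp hx'A) (hfη x') ((hAη x).mp hxA) (hfη x) h' hsp' (hU z) hmin' hsp
    · exact K3 _ _ _ ((hAη x).mp hxA) (hfη x) ((hAη x').mp hx'A) (hfη x') h hsp (hU z) hmin hsp'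
  · intro x hxA z hzZ
    obtain ⟨hsp, hmin⟩ := (hZ x z).mp hzZ
    constructor
    · intro hzmax y₁ hy₁A hy₁x
      by_contra hne
      have hx₁x₀ : f.fiberι _ y₁ ⤳ f.fiberι _ x := (hspη x y₁).mpr hy₁x
      have hnot : ¬ f.fiberι _ x ⤳ f.fiberι _ y₁ := fun h2 =>
        hne (Groth.Agent.H57.RelAssSU.fiberι_injective f _ (hx₁x₀.antisymm h2).eq)
      obtain ⟨w, hx₁w, hwy, hfw, hwmin⟩ :=
        Groth.Agent.H57.RelAssSU.exists_fibMin f _ _ (hx₁x₀.trans hsp)
      have hwU : f w ∈ U := by rw [hfw]; exact hU z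
      have hwR := K1 _ _ ((hAη y₁).mp hy₁A) (hfη y₁) hx₁w hwU hwmin
      obtain ⟨w', hw'⟩ := Groth.Agent.H57.RelAssSU.exists_fiberι_eq f s w (hfw.trans (hfs z))
      subst hw'
      have hw'z : w' = z := hzmax w' ((hAs w').mpr hwR) ((hspS z w').mp hwy)
      subst hw'z
      exact K3 _ _ _ ((hAη y₁).mp hy₁A) (hfη y₁) ((hAη x).mp hxA) (hfη x) hnot hx₁w (hU w')
        hwmin hsp
    · intro hxmax y' hy'A hy'z
      obtain ⟨x₁, hx₁R, hfx₁, hx₁y, hmin₁⟩ := K2 _ ((hAs y').mp hy'A) (hU y')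
      have hy'z' : f.fiberι s y' ⤳ f.fiberι s z := (hspS z y').mpr hy'z
      by_cases h : x₁ ⤳ f.fiberι _ x
      · obtain ⟨y₁, hy₁⟩ := Groth.Agent.H57.RelAssSU.exists_fiberι_eq f _ x₁ hfx₁
        subst hy₁
        have hy₁x : y₁ = x := hxmax y₁ ((hAη y₁).mpr hx₁R) ((hspη x y₁).mp h)
        subst hy₁x
        have h3 := hmin (f.fiberι s y') hx₁y hy'z' (by rw [hfs, hfs])
        exact Groth.Agent.H57.RelAssSU.fiberι_injective f s h3
      · exact absurd (hx₁y.trans hy'z')
          (K3 _ _ _ ((hAη x).mp hxA) (hfη x) hx₁R hfx₁ h hsp (hU z) hmin)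

end Groth.Agent.S5873
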