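import Mathlib
import Groth.Statements.S5876
import Groth.Agent.H22.QCAlgColim
-- import your own Groth.Agent.* helpers here

set_option autoImplicit false
universe u
open CategoryTheory CategoryTheory.Limits AlgebraicGeometry
open Lim8

namespace Groth.Agent.S5876

open Opposite Groth.Agent.H22 TopologicalSpace

/-- A morphism into a relative spectrum whose composite with the projection lands in an affine open
`U` factors through the chart over `U`. -/
theorem exists_factor {S : Scheme.{u}} (B : RelSpec.QCAlg S) (U : S.Opens) (hU : IsAffineOpen U)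
    {X : Scheme.{u}} (g : X ⟶ B.spec) (h : ∀ x : X, (g ≫ B.π) x ∈ U) :
    ∃ g' : X ⟶ Spec (B.presheaf.obj (op U)), g' ≫ B.ι U hU = g := by
  have H : Set.range g ⊆ Set.range (B.ι U hU) := by
    rintro _ ⟨x, rfl⟩
    have h1 : g x ∈ B.π ⁻¹ᵁ U := by
      have := h x
      simpa using this
    rw [B.π_preimage U hU] at h1
    exact h1
  exact ⟨IsOpenImmersion.lift (B.ι U hU) g H, IsOpenImmersion.lift_fac _ _ _⟩

theorem exists_glue {T Y : Scheme.{u}} {ι : Type*} (W : ι → T.Opens) (hW : IsOpenCover W)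
    (f : ∀ i, (W i).toScheme ⟶ Y)
    (hf : ∀ i j, pullback.fst (W i).ι (W j).ι ≫ f i = pullback.snd _ _ ≫ f j) :
    ∃ g : T ⟶ Y, ∀ i, (W i).ι ≫ g = f i :=
  ⟨(T.openCoverOfIsOpenCover W hW).glueMorphisms f hf,
    fun i => (T.openCoverOfIsOpenCover W hW).ι_glueMorphisms f hf i⟩

theorem hom_ext_cover {T Y : Scheme.{u}} {ι : Type*} (W : ι → T.Opens) (hW : IsOpenCover W)
    (a b : T ⟶ Y) (h : ∀ i, (W i).ι ≫ a = (W i).ι ≫ b) : a = b :=
  (T.openCoverOfIsOpenCover W hW).hom_ext a b h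

section

variable {S : Scheme.{u}} {J : Type u} [SmallCategory J] [IsFiltered J]
  (A : J ⥤ RelSpec.QCAlg S) (c : Cocone A) (hc : IsColimit c)

include hc in
/-- The projections from the relative spectrum of a filtered colimit are jointly monic. -/
theorem jointly_mono {T : Scheme.{u}} (a b : T ⟶ c.pt.spec)
    (h : ∀ j : J, a ≫ RelSpec.QCAlg.specMap (c.ι.app j) = b ≫ RelSpec.QCAlg.specMap (c.ι.app j)) :
    a = b := by
  obtain ⟨j₀⟩ := IsFiltered.nonempty (C := J)
  have hπ : a ≫ c.pt.π = b ≫ c.pt.π := by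
    have e1 : RelSpec.QCAlg.specMap (c.ι.app j₀) ≫ (A.obj j₀).π = c.pt.π :=
      RelSpec.QCAlg.specMap_π (c.ι.app j₀)
    rw [← e1, ← Category.assoc, ← Category.assoc, h j₀]
  apply Scheme.hom_ext_of_forall
  intro x
  obtain ⟨U, hU, hxU⟩ : ∃ U : S.Opens, IsAffineOpen U ∧ (a ≫ c.pt.π) x ∈ U := by
    obtain ⟨U, hU, hxU, -⟩ := Opens.isBasis_iff_nbhd.mp S.isBasis_affineOpens
      (show (a ≫ c.pt.π) x ∈ (⊤ : S.Opens) from trivial)
    exact ⟨U, hU, hxU⟩
  refine ⟨(a ≫ c.pt.π) ⁻¹ᵁ U, hxU, ?_⟩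
  obtain ⟨a', ha'⟩ := exists_factor c.pt U hU (((a ≫ c.pt.π) ⁻¹ᵁ U).ι ≫ a) (fun y => by
    rw [Category.assoc]
    exact y.2)
  obtain ⟨b', hb'⟩ := exists_factor c.pt U hU (((a ≫ c.pt.π) ⁻¹ᵁ U).ι ≫ b) (fun y => by
    rw [Category.assoc, ← hπ]
    exact y.2)
  rw [← ha', ← hb']
  congr 1
  apply QCAlgColim.spec_hom_ext A c hc U hU
  intro j
  have e2 : c.pt.ι U hU ≫ RelSpec.QCAlg.specMap (c.ι.app j) =
      Spec.map ((c.ι.app j).hom.app (op U)) ≫ (A.obj j).ι U hU :=
    RelSpec.QCAlg.ι_specMap U hU (c.ι.app j)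
  rw [← cancel_mono ((A.obj j).ι U hU), Category.assoc, Category.assoc,
    ← e2, ← Category.assoc, ← Category.assoc, ha', hb', Category.assoc,
    Category.assoc, h j]

end

/-- Let S be a scheme and (A_j) a filtered direct system of quasi-coherent O_S-algebras, indexed by a
small filtered category, with a colimit cocone with vertex A. Write S_j = Spec(A_j) and S' = Spec(A)
for the relative spectra, and u_j : S' ⟶ S_j for the morphisms induced by the coprojections A_j ⟶ A.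
Then (S', (u_j)) is a limit of the inverse system (S_j) in the category of all schemes (not only of
S-schemes): for every scheme T and every family of morphisms v_j : T ⟶ S_j compatible with the
transition morphisms, there is exactly one morphism w : T ⟶ S' whose composite with each u_j is v_j. -/
theorem result {S : Scheme.{u}} {J : Type u} [SmallCategory J] [IsFiltered J]
    (A : J ⥤ RelSpec.QCAlg S) (c : Cocone A) (hc : IsColimit c)
    (T : Scheme.{u}) (v : ∀ j : J, T ⟶ (A.obj j).spec)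
    (hv : ∀ (j j' : J) (φ : j ⟶ j'), v j' ≫ RelSpec.QCAlg.specMap (A.map φ) = v j) :
    ∃! w : T ⟶ c.pt.spec, ∀ j : J, w ≫ RelSpec.QCAlg.specMap (c.ι.app j) = v j := by
  obtain ⟨j₀⟩ := IsFiltered.nonempty (C := J)
  obtain ⟨t, ht⟩ : ∃ t : T ⟶ S, t = v j₀ ≫ (A.obj j₀).π := ⟨_, rfl⟩
  have hvπ : ∀ j, v j ≫ (A.obj j).π = t := by
    intro j
    have key : ∀ (j j' : J) (φ : j ⟶ j'), v j' ≫ (A.obj j').π = v j ≫ (A.obj j).π := by
      intro j j' φ
      rw [← hv j j' φ, Category.assoc, RelSpec.QCAlg.specMap_π]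
    rw [ht, ← key j (IsFiltered.max j j₀) (IsFiltered.leftToMax j j₀),
      ← key j₀ (IsFiltered.max j j₀) (IsFiltered.rightToMax j j₀)]
  -- local lifts
  have hloc : ∀ U : S.affineOpens, ∃ w : (t ⁻¹ᵁ U.1 : T.Opens).toScheme ⟶ c.pt.spec,
      ∀ j, w ≫ RelSpec.QCAlg.specMap (c.ι.app j) = (t ⁻¹ᵁ U.1).ι ≫ v j := by
    rintro ⟨U, hU⟩
    have hfac : ∀ j, ∃ g' : (t ⁻¹ᵁ U : T.Opens).toScheme ⟶ Spec ((A.obj j).presheaf.obj (op U)),
        g' ≫ (A.obj j).ι U hU = (t ⁻¹ᵁ U).ι ≫ v j := fun j =>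
      exists_factor (A.obj j) U hU ((t ⁻¹ᵁ U).ι ≫ v j) (fun y => by
        rw [Category.assoc, hvπ j]
        exact y.2)
    choose v' hv' using hfac
    obtain ⟨w', hw'⟩ := QCAlgColim.spec_exists_lift A c hc U hU v' (fun j j' φ => by
      rw [← cancel_mono ((A.obj j).ι U hU), Category.assoc,
        ← RelSpec.QCAlg.ι_specMap U hU (A.map φ),
        ← Category.assoc, hv' j', hv' j, Category.assoc, hv j j' φ])
    refine ⟨w' ≫ c.pt.ι U hU, fun j => ?_⟩
    have e2 : c.pt.ι U hU ≫ RelSpec.QCAlg.specMap (c.ι.app j) =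
        Spec.map ((c.ι.app j).hom.app (op U)) ≫ (A.obj j).ι U hU :=
      RelSpec.QCAlg.ι_specMap U hU (c.ι.app j)
    rw [Category.assoc, e2, ← Category.assoc, hw' j, hv' j]
  choose wU hwU using hloc
  have hcov : IsOpenCover (fun U : S.affineOpens => t ⁻¹ᵁ U.1) := by
    rw [IsOpenCover, ← Scheme.Hom.preimage_iSup, iSup_affineOpens_eq_top]
    rfl
  have hglue : ∀ x y : S.affineOpens,
      pullback.fst (t ⁻¹ᵁ x.1).ι (t ⁻¹ᵁ y.1).ι ≫ wU x = pullback.snd _ _ ≫ wU y := by
    intro x y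
    apply jointly_mono A c hc
    intro j
    simp only [Category.assoc]
    rw [hwU x j, hwU y j]
    exact pullback.condition_assoc _
  obtain ⟨w, hw⟩ := exists_glue (fun U : S.affineOpens => t ⁻¹ᵁ U.1) hcov wU hglue
  refine ⟨w, fun j => ?_, fun w' hw' => ?_⟩
  · apply hom_ext_cover (fun U : S.affineOpens => t ⁻¹ᵁ U.1) hcov
    intro x
    rw [← Category.assoc, hw x, hwU x j]
  · apply jointly_mono A c hc
    intro j
    rw [hw' j]
    symm
    apply hom_ext_cover (fun U : S.affineOpens => t ⁻¹ᵁ U.1) hcov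
    intro x
    rw [← Category.assoc, hw x, hwU x j]

end Groth.Agent.S5876
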