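import Groth.Statements.S5890
import Mathlib
import Groth.Agent.H24.ConsPropRows

set_option autoImplicit false
universe u
open CategoryTheory AlgebraicGeometry
open ConsProp

namespace Groth.Agent.S5890

/-- Being radicial (universally injective) is a constructible property of morphisms of algebraic
schemes. -/
theorem result :
    ConsProp.IsConsMor (fun X Y T f g => AlgebraicGeometry.UniversallyInjective f) := by
  exact H24.isConsMor_universallyInjective

end Groth.Agent.S5890
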