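import Groth.Statements.S5911
import Groth.Agent.H57.SepCrit
import Mathlib.RingTheory.Flat.Stability
import Mathlib.RingTheory.Flat.Localization
import Mathlib.RingTheory.Localization.AtPrime.Basic

set_option autoImplicit false
universe u
open TensorProduct
open EGA43

namespace Groth.Agent.S5911

/-- Let A be a Noetherian ring, J an ideal of A and M an A-module which is ideally separated for the
J-adic topology (for every ideal a of A the module a ⊗_A M is J-adically separated). Let (p_i) be a
finite family of prime ideals of A containing J, let J_n be the intersection of the symbolic powers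
p_i^{(n)} (preimages in A of the n-th powers of the maximal ideals of the local rings A_{p_i}), and
assume every power J^n contains some J_m. Then M is flat if and only if (A/J) ⊗_A M is flat over A/J
and M_{p_i} is flat over A_{p_i} for every i. -/
theorem result {A : Type u} [CommRing A] [IsNoetherianRing A]
    (J : Ideal A) (M : Type u) [AddCommGroup M] [Module A M]
    (hsep : ∀ a : Ideal A, IsHausdorff J (↥a ⊗[A] M))
    {r : ℕ} (p : Fin r → Ideal A) [∀ i, (p i).IsPrime] (hp : ∀ i, J ≤ p i)
    (htop : ∀ n : ℕ, ∃ m : ℕ,
      ⨅ i, Ideal.comap (algebraMap A (Localization.AtPrime (p i))) (IsLocalRing.maximalIdeal (Localization.AtPrime (p i)) ^ m) ≤ J ^ n) :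
    Module.Flat A M ↔
      Module.Flat (A ⧸ J) ((A ⧸ J) ⊗[A] M) ∧
        ∀ i, Module.Flat (Localization.AtPrime (p i)) (LocalizedModule (p i).primeCompl M) := by
  constructor
  · intro hflat
    exact ⟨inferInstance, fun i => Module.Flat.localizedModule (p i).primeCompl⟩
  · rintro ⟨h1, h2⟩
    haveI := h1
    haveI hloc : ∀ i : ULift.{u} (Fin r), Module.Flat (Localization.AtPrime (p i.down))
        (Localization.AtPrime (p i.down) ⊗[A] M) := fun i => by
      haveI := h2 i.down
      exact Module.Flat.of_linearEquiv
        (LocalizedModule.equivTensorProduct (p i.down).primeCompl M).symm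
    apply Groth.Agent.H57.flat_of_flat_mod_pow_of_hausdorff J hsep
    intro n
    obtain ⟨m, hm⟩ := htop n
    refine Groth.Agent.H57.flat_quotient_of_family_of_le J M _ (J ^ n) hm m ?_
      (fun i : ULift.{u} (Fin r) => Localization.AtPrime (p i.down))
      (fun i => IsLocalRing.maximalIdeal (Localization.AtPrime (p i.down)) ^ m)
      (fun i => iInf_le (fun j => Ideal.comap (algebraMap A (Localization.AtPrime (p j)))
        (IsLocalRing.maximalIdeal (Localization.AtPrime (p j)) ^ m)) i.down) ?_
    · refine le_iInf fun i => ?_
      intro a ha
      rw [Ideal.mem_comap]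
      have h3 : algebraMap A (Localization.AtPrime (p i)) a ∈
          (J.map (algebraMap A (Localization.AtPrime (p i)))) ^ m := by
        rw [← Ideal.map_pow]
        exact Ideal.mem_map_of_mem _ ha
      have h4 : J.map (algebraMap A (Localization.AtPrime (p i))) ≤
          IsLocalRing.maximalIdeal (Localization.AtPrime (p i)) := by
        rw [← Localization.AtPrime.map_eq_maximalIdeal]
        exact Ideal.map_mono (hp i)
      exact Ideal.pow_right_mono h4 m h3
    · intro a ha
      rw [Ideal.mem_iInf]
      intro i
      exact ha ⟨i⟩

end Groth.Agent.S5911
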