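import Groth.Statements.S5912
import Groth.Agent.H57.SepCrit
import Mathlib.RingTheory.Flat.Stability
import Mathlib.RingTheory.Flat.Localization
import Mathlib.RingTheory.Localization.AtPrime.Basic

set_option autoImplicit false
universe u
open TensorProduct
open EGA43

namespace Groth.Agent.S5912

/-- Let A be a Noetherian ring, J an ideal of A and M an A-module which is ideally separated for the
J-adic topology (for every ideal a of A the module a ⊗_A M is J-adically separated), and suppose
every quotient J^k/J^{k+1} is a flat (A/J)-module (the associated graded ring of A along J is flat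
over A/J). Then M is flat if and only if (A/J) ⊗_A M is flat over A/J and M_p is flat over A_p for
every associated prime p of the A-module A/J. -/
theorem result {A : Type u} [CommRing A] [IsNoetherianRing A]
    (J : Ideal A) (M : Type u) [AddCommGroup M] [Module A M]
    (hsep : ∀ a : Ideal A, IsHausdorff J (↥a ⊗[A] M))
    (hgr : ∀ k : ℕ, Module.Flat (A ⧸ J) ((A ⧸ J) ⊗[A] ↥(J ^ k))) :
    Module.Flat A M ↔
      Module.Flat (A ⧸ J) ((A ⧸ J) ⊗[A] M) ∧
        ∀ q : associatedPrimes A (A ⧸ J),
          haveI : q.1.IsPrime := IsAssociatedPrime.isPrime q.2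
          Module.Flat (Localization.AtPrime q.1) (LocalizedModule q.1.primeCompl M) := by
  constructor
  · intro hflat
    refine ⟨inferInstance, fun q => ?_⟩
    haveI : q.1.IsPrime := IsAssociatedPrime.isPrime q.2
    exact Module.Flat.localizedModule q.1.primeCompl
  · rintro ⟨h1, h2⟩
    haveI := h1
    haveI hprime : ∀ q : associatedPrimes A (A ⧸ J), q.1.IsPrime :=
      fun q => IsAssociatedPrime.isPrime q.2
    haveI : Finite (associatedPrimes A (A ⧸ J)) :=
      (associatedPrimes.finite A (A ⧸ J)).to_subtype
    haveI : ∀ q : associatedPrimes A (A ⧸ J),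
        Module.Flat (Localization.AtPrime q.1) (Localization.AtPrime q.1 ⊗[A] M) := fun q => by
      haveI := h2 q
      exact Module.Flat.of_linearEquiv
        (LocalizedModule.equivTensorProduct q.1.primeCompl M).symm
    apply Groth.Agent.H57.flat_of_flat_mod_pow_of_hausdorff J hsep
    intro n
    refine Groth.Agent.H57.flat_quotient_of_family J M (J ^ n) n le_rfl
      (fun q : associatedPrimes A (A ⧸ J) => Localization.AtPrime q.1)
      (fun q => (J ^ n).map (algebraMap A (Localization.AtPrime q.1)))
      (fun q => Ideal.le_comap_map) ?_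
    intro a ha
    apply Groth.Agent.H57.mem_pow_of_forall_assoc J hgr n a
    intro q hq
    have h3 := ha ⟨q, hq⟩
    haveI : q.IsPrime := IsAssociatedPrime.isPrime hq
    obtain ⟨s, hs, hsa⟩ := (IsLocalization.algebraMap_mem_map_algebraMap_iff q.primeCompl
      (Localization.AtPrime q) (J ^ n) a).mp h3
    exact ⟨s, hs, hsa⟩

end Groth.Agent.S5912
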