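import Groth.Statements.S5913
import Groth.Agent.H17.SemilocalDimOne

set_option autoImplicit false
universe u
open CategoryTheory AlgebraicGeometry
open EGA43

namespace Groth.Agent.S5913

/-- In the locally Noetherian form: a locally Noetherian scheme X is Jacobson if and only if it has no
subscheme isomorphic to the spectrum of a semi-local integral domain of dimension 1, i.e. there is
no immersion Spec R ⟶ X with R an integral domain having finitely many maximal ideals and Krull
dimension 1. -/
theorem result (X : Scheme.{u}) [IsLocallyNoetherian X] :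
    JacobsonSpace X ↔
      ∀ (R : CommRingCat.{u}) [IsDomain R] (i : Spec R ⟶ X) [IsImmersion i],
        ¬ (Finite (MaximalSpectrum R) ∧ ringKrullDim R = 1) := by
  constructor
  · intro hX R hR i hi ⟨hfin, hdim⟩
    have hJ : JacobsonSpace (Spec R) := LocallyOfFiniteType.jacobsonSpace i
    have hJR : IsJacobsonRing R := PrimeSpectrum.isJacobsonRing_iff_jacobsonSpace.mpr hJ
    exact Groth.Agent.H17.SemilocalDimOne.ringKrullDim_ne_one_of_isJacobsonRing (D := R) hdim
  · intro h
    have key : ∀ (Y : Scheme.{u}) [IsAffine Y] (j : Y ⟶ X) [IsOpenImmersion j],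
        JacobsonSpace Y := by
      intro Y _ j _
      have hLN : IsLocallyNoetherian (Spec Γ(Y, ⊤)) :=
        isLocallyNoetherian_of_isOpenImmersion (Y.isoSpec.inv ≫ j)
      have hN : IsNoetherianRing Γ(Y, ⊤) := isLocallyNoetherian_Spec.mp hLN
      have hJ : IsJacobsonRing Γ(Y, ⊤) := by
        rw [Groth.Agent.H17.SemilocalDimOne.isJacobsonRing_iff]
        intro p hp ⟨hfin, hdim⟩
        have hdom : IsDomain (Γ(Y, ⊤) ⧸ p) := Ideal.Quotient.isDomain p
        exact @h (CommRingCat.of (Γ(Y, ⊤) ⧸ p)) hdom
          (Spec.map (CommRingCat.ofHom (Ideal.Quotient.mk p)) ≫ Y.isoSpec.inv ≫ j)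
          inferInstance ⟨hfin, hdim⟩
      have hJS : JacobsonSpace (Spec Γ(Y, ⊤)) := inferInstance
      exact LocallyOfFiniteType.jacobsonSpace Y.isoSpec.hom
    rw [X.affineCover.isOpenCover_opensRange.jacobsonSpace_iff]
    intro i
    have hY : JacobsonSpace (X.affineCover.X i) := key (X.affineCover.X i) (X.affineCover.f i)
    let e := (X.affineCover.f i).isOpenEmbedding.isEmbedding.toHomeomorph
    exact .of_isClosedEmbedding e.symm.isClosedEmbedding

end Groth.Agent.S5913
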