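import Groth.Statements.S5915
import Groth.Agent.H57.ArtFamFin
import Groth.Agent.H57.ArtFamSch2
import Groth.Agent.H57.FlatAtBC
import Groth.Agent.H8.Coh

set_option autoImplicit false
set_option linter.style.haveILetI false
universe u
open CategoryTheory AlgebraicGeometry
open EGA43

namespace Groth.Agent.S5915

open CategoryTheory.Limits TensorProduct in
set_option maxHeartbeats 3200000 in
/-- Let Y be locally Noetherian, f : X ⟶ Y locally of finite type, F a coherent O_X-module, x a point of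
X and y = f x. Let φ : O_{Y,y} ⟶ A' be an injective ring homomorphism which is finite (A' finitely
generated as an O_{Y,y}-module), Y' = Spec A' ⟶ Y the induced Y-scheme, X' = X ×_Y Y' and F' the
pullback of F to X'. Then F is f-flat at x if and only if F' is flat over Y' at every point of X'
lying over x and over a closed point of Y'. (The published statement treats more generally a Zariski
ring A' whose radical pulls back to the maximal ideal and whose map on completions is injective;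
this row is the case of a finite algebra with injective structure map, in which those conditions
hold.) -/
theorem result {X Y : Scheme.{u}} [IsLocallyNoetherian Y]
    (f : X ⟶ Y) [LocallyOfFiniteType f] (F : X.Modules) (hF : Coh.IsCoh F) (x : X)
    (A' : CommRingCat.{u}) (φ : Y.presheaf.stalk (f.base x) ⟶ A') (hfin : φ.hom.Finite)
    (hinj : Function.Injective φ.hom) :
    FlatMod.IsFlatOverAt f F x ↔
      ∀ x' : ↥(pullback f (Spec.map φ ≫ Y.fromSpecStalk (f.base x))), pullback.fst f (Spec.map φ ≫ Y.fromSpecStalk (f.base x)) x' = x →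
        IsClosed ({pullback.snd f (Spec.map φ ≫ Y.fromSpecStalk (f.base x)) x'} : Set ↥(Spec A')) →
          FlatMod.IsFlatOverAt (pullback.snd f (Spec.map φ ≫ Y.fromSpecStalk (f.base x))) ((Scheme.Modules.pullback (pullback.fst f (Spec.map φ ≫ Y.fromSpecStalk (f.base x)))).obj F) x' := by
  classical
  haveI hqc : F.IsQuasicoherent := hF.1
  obtain ⟨V, hV, hyV, -⟩ := exists_isAffineOpen_mem_and_subset (x := f.base x)
    (U := (⊤ : Y.Opens)) trivial
  obtain ⟨W, hW, hxW, hWV⟩ := exists_isAffineOpen_mem_and_subset (x := x)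
    (U := f ⁻¹ᵁ V) hyV
  have hV' : IsAffineOpen (⊤ : (Spec A').Opens) := isAffineOpen_top _
  have hV'V : (⊤ : (Spec A').Opens) ≤ (Spec.map φ ≫ Y.fromSpecStalk (f.base x)) ⁻¹ᵁ V :=
    Groth.Agent.H57.ArtFamSch.top_le_preimage_fromSpecStalk (f.base x) A' φ hyV
  let W' : (pullback f (Spec.map φ ≫ Y.fromSpecStalk (f.base x))).Opens :=
    pullback.fst f (Spec.map φ ≫ Y.fromSpecStalk (f.base x)) ⁻¹ᵁ W ⊓ pullback.snd f (Spec.map φ ≫ Y.fromSpecStalk (f.base x)) ⁻¹ᵁ ⊤
  have HP := IsPullback.of_hasPullback f (Spec.map φ ≫ Y.fromSpecStalk (f.base x))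
  have hW'W : W' ≤ pullback.fst f (Spec.map φ ≫ Y.fromSpecStalk (f.base x)) ⁻¹ᵁ W := inf_le_left
  have hW'V' : W' ≤ pullback.snd f (Spec.map φ ≫ Y.fromSpecStalk (f.base x)) ⁻¹ᵁ ⊤ := inf_le_right
  have hW' : IsAffineOpen W' := by
    have : IsAffine V.toScheme := hV
    have : IsAffine (⊤ : (Spec A').Opens).toScheme := hV'
    have : IsAffine W.toScheme := hW
    exact .of_isIso (Scheme.Hom.isPullback_resLE HP hV'V hWV (rfl : W' = _)).isoPullback.hom
  have hpo := (isIso_pushoutSection_iff HP hV'V hWV (rfl : W' = _)).mp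
    (isIso_pushoutSection_of_isAffineOpen HP hV'V hWV rfl hV hV' hW)
  haveI : IsNoetherianRing Γ(Y, V) := IsLocallyNoetherian.component_noetherian ⟨V, hV⟩
  letI aRC : Algebra Γ(Y, V) Γ(X, W) := (f.appLE V W hWV).hom.toAlgebra
  haveI : Algebra.FiniteType Γ(Y, V) Γ(X, W) := Scheme.Hom.finiteType_appLE f hV hW hWV
  haveI : IsNoetherianRing Γ(X, W) := Algebra.FiniteType.isNoetherianRing Γ(Y, V) Γ(X, W)
  haveI : Module.Finite Γ(X, W) Γ(F, W) := Groth.Agent.H8.finite_sections_of_isCoh F hF hW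
  letI aRB : Algebra Γ(Y, V) Γ(Spec A', ⊤) := ((Spec.map φ ≫ Y.fromSpecStalk (f.base x)).appLE V ⊤ hV'V).hom.toAlgebra
  letI aCE : Algebra Γ(X, W) Γ(pullback f (Spec.map φ ≫ Y.fromSpecStalk (f.base x)), W') := ((pullback.fst f (Spec.map φ ≫ Y.fromSpecStalk (f.base x))).appLE W W' hW'W).hom.toAlgebra
  letI aBE : Algebra Γ(Spec A', ⊤) Γ(pullback f (Spec.map φ ≫ Y.fromSpecStalk (f.base x)), W') := ((pullback.snd f (Spec.map φ ≫ Y.fromSpecStalk (f.base x))).appLE ⊤ W' hW'V').hom.toAlgebra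
  letI aRE : Algebra Γ(Y, V) Γ(pullback f (Spec.map φ ≫ Y.fromSpecStalk (f.base x)), W') :=
    (((pullback.fst f (Spec.map φ ≫ Y.fromSpecStalk (f.base x))).appLE W W' hW'W).hom.comp (f.appLE V W hWV).hom).toAlgebra
  haveI t1 : IsScalarTower Γ(Y, V) Γ(X, W) Γ(pullback f (Spec.map φ ≫ Y.fromSpecStalk (f.base x)), W') := .of_algebraMap_eq' rfl
  haveI t2 : IsScalarTower Γ(Y, V) Γ(Spec A', ⊤) Γ(pullback f (Spec.map φ ≫ Y.fromSpecStalk (f.base x)), W') := .of_algebraMap_eq' (by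
    change (((pullback.fst f (Spec.map φ ≫ Y.fromSpecStalk (f.base x))).appLE W W' hW'W).hom.comp (f.appLE V W hWV).hom) =
      (((pullback.snd f (Spec.map φ ≫ Y.fromSpecStalk (f.base x))).appLE ⊤ W' hW'V').hom.comp ((Spec.map φ ≫ Y.fromSpecStalk (f.base x)).appLE V ⊤ hV'V).hom)
    rw [← CommRingCat.hom_comp, ← CommRingCat.hom_comp, hpo.w])
  haveI po1 : Algebra.IsPushout Γ(Y, V) Γ(X, W) Γ(Spec A', ⊤) Γ(pullback f (Spec.map φ ≫ Y.fromSpecStalk (f.base x)), W') := CommRingCat.isPushout_iff_isPushout.mp hpo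
  -- stalks
  letI aRA₀ : Algebra Γ(Y, V) (Y.presheaf.stalk (f.base x)) := Y.presheaf.algebra_section_stalk ⟨f.base x, hyV⟩
  haveI locA₀ := hV.isLocalization_stalk ⟨f.base x, hyV⟩
  letI aCSx : Algebra Γ(X, W) (X.presheaf.stalk x) := X.presheaf.algebra_section_stalk ⟨x, hxW⟩
  haveI locSx := hW.isLocalization_stalk ⟨x, hxW⟩
  letI aA₀Sx : Algebra (Y.presheaf.stalk (f.base x)) (X.presheaf.stalk x) := (f.stalkMap x).hom.toAlgebra
  letI aRSx : Algebra Γ(Y, V) (X.presheaf.stalk x) := ((algebraMap Γ(X, W) (X.presheaf.stalk x)).comp (algebraMap Γ(Y, V) Γ(X, W))).toAlgebra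
  haveI tRCSx : IsScalarTower Γ(Y, V) Γ(X, W) (X.presheaf.stalk x) := .of_algebraMap_eq' rfl
  haveI tRA₀Sx : IsScalarTower Γ(Y, V) (Y.presheaf.stalk (f.base x)) (X.presheaf.stalk x) := .of_algebraMap_eq (fun r =>
    (Groth.Agent.H57.stalkMap_germ_appLE f hWV x hxW r).symm)
  letI aA₀B : Algebra (Y.presheaf.stalk (f.base x)) Γ(Spec A', ⊤) := ((Scheme.ΓSpecIso A').inv.hom.comp φ.hom).toAlgebra
  have hstar := Groth.Agent.H57.ArtFamSch.appLE_comp_fromSpecStalk (f.base x) A' φ hyV hV'V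
  haveI tRA₀B : IsScalarTower Γ(Y, V) (Y.presheaf.stalk (f.base x)) Γ(Spec A', ⊤) := .of_algebraMap_eq (fun r => by
    change ((Spec.map φ ≫ Y.fromSpecStalk (f.base x)).appLE V ⊤ hV'V).hom r = _
    rw [hstar]
    rfl)
  -- modules
  letI mCM := Groth.Agent.H8.moduleSectionStalk F x hxW
  haveI tCSxM := Groth.Agent.H8.isScalarTower_sectionStalk F x hxW
  haveI hlocM := Groth.Agent.H8.isLocalizedModule_germₗ F hW x hxW
  letI mA₀M : Module (Y.presheaf.stalk (f.base x)) (F.presheaf.stalk x) := FlatMod.moduleStalkOver f F x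
  haveI tA₀SxM : IsScalarTower (Y.presheaf.stalk (f.base x)) (X.presheaf.stalk x) (F.presheaf.stalk x) := IsScalarTower.of_algebraMap_smul fun _ _ => rfl
  let p : Ideal Γ(X, W) := (hW.primeIdealOf ⟨x, hxW⟩).asIdeal
  let 𝔭 : Ideal Γ(Y, V) := (hV.primeIdealOf ⟨f.base x, hyV⟩).asIdeal
  have hp𝔭 : p.comap (algebraMap Γ(Y, V) Γ(X, W)) = 𝔭 :=
    congrArg PrimeSpectrum.asIdeal (IsAffineOpen.comap_primeIdealOf_appLE V hV W hW hWV hxW)
  letI hcomm : SMulCommClass Γ(X, W) Γ(Spec A', ⊤) Γ(pullback f (Spec.map φ ≫ Y.fromSpecStalk (f.base x)), W') := ⟨fun c b e => by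
    simp only [Algebra.smul_def]; ring⟩
  letI hcommR : SMulCommClass Γ(X, W) Γ(Y, V) Γ(pullback f (Spec.map φ ≫ Y.fromSpecStalk (f.base x)), W') := ⟨fun c b e => by
    simp only [Algebra.smul_def]; ring⟩
  constructor
  · -- flatness is preserved by base change
    intro hfl x' e1 _
    have hx'W' : x' ∈ W' :=
      ⟨by show pullback.fst f (Spec.map φ ≫ Y.fromSpecStalk (f.base x)) x' ∈ W; rw [e1]; exact hxW, trivial⟩
    letI mRM : Module Γ(Y, V) (F.presheaf.stalk x) := Module.compHom _ (algebraMap Γ(Y, V) Γ(X, W))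
    haveI tRCM : IsScalarTower Γ(Y, V) Γ(X, W) (F.presheaf.stalk x) := IsScalarTower.of_algebraMap_smul fun _ _ => rfl
    letI mRP : Module Γ(Y, V) Γ(F, W) := Module.compHom _ (algebraMap Γ(Y, V) Γ(X, W))
    haveI tRCP : IsScalarTower Γ(Y, V) Γ(X, W) Γ(F, W) := IsScalarTower.of_algebraMap_smul fun _ _ => rfl
    haveI tRA₀M : IsScalarTower Γ(Y, V) (Y.presheaf.stalk (f.base x)) (F.presheaf.stalk x) :=
      IsScalarTower.of_algebraMap_smul fun r m => by
        change (f.stalkMap x).hom (Y.presheaf.germ V (f.base x) hyV r) • m =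
          X.presheaf.germ W x hxW ((f.appLE V W hWV).hom r) • m
        rw [Groth.Agent.H57.stalkMap_germ_appLE f hWV x hxW r]
    have h0 : Module.Flat (Y.presheaf.stalk (f.base x)) (F.presheaf.stalk x) := hfl
    haveI hflR : Module.Flat Γ(Y, V) (F.presheaf.stalk x) :=
      (Module.flat_iff_of_isLocalization (Y.presheaf.stalk (f.base x))
        (hV.primeIdealOf ⟨f.base x, hyV⟩).asIdeal.primeCompl _).mp h0
    have hqp : PrimeSpectrum.comap ((pullback.fst f (Spec.map φ ≫ Y.fromSpecStalk (f.base x))).appLE W W' hW'W).hom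
        (hW'.primeIdealOf ⟨x', hx'W'⟩) = hW.primeIdealOf ⟨x, hxW⟩ := by
      refine (IsAffineOpen.comap_primeIdealOf_appLE W hW W' hW' hW'W hx'W').trans ?_
      congr 1
      exact Subtype.ext e1
    have hloc' : IsLocalizedModule
        (PrimeSpectrum.comap ((pullback.fst f (Spec.map φ ≫ Y.fromSpecStalk (f.base x))).appLE W W' hW'W).hom
          (hW'.primeIdealOf ⟨x', hx'W'⟩)).asIdeal.primeCompl (Groth.Agent.H8.germₗ F x hxW) := by
      rw [hqp]
      exact hlocM
    haveI hloc'' : IsLocalizedModule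
        ((hW'.primeIdealOf ⟨x', hx'W'⟩).asIdeal.comap (algebraMap Γ(X, W) Γ(pullback f (Spec.map φ ≫ Y.fromSpecStalk (f.base x)), W'))).primeCompl
        (Groth.Agent.H8.germₗ F x hxW) := hloc'
    let e := IsLocalizedModule.iso
      ((hW'.primeIdealOf ⟨x', hx'W'⟩).asIdeal.comap (algebraMap Γ(X, W) Γ(pullback f (Spec.map φ ≫ Y.fromSpecStalk (f.base x)), W'))).primeCompl
      (Groth.Agent.H8.germₗ F x hxW)
    haveI : Module.Flat Γ(Y, V) (LocalizedModule
        ((hW'.primeIdealOf ⟨x', hx'W'⟩).asIdeal.comap (algebraMap Γ(X, W) Γ(pullback f (Spec.map φ ≫ Y.fromSpecStalk (f.base x)), W'))).primeCompl Γ(F, W)) :=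
      Module.Flat.of_linearEquiv (e.restrictScalars Γ(Y, V))
    have hB := Groth.Agent.H57.flat_localizedModule_baseChange (R := Γ(Y, V)) (S := Γ(X, W)) (R' := Γ(Spec A', ⊤))
      (S' := Γ(pullback f (Spec.map φ ≫ Y.fromSpecStalk (f.base x)), W')) (TensorProduct.mk Γ(X, W) Γ(pullback f (Spec.map φ ≫ Y.fromSpecStalk (f.base x)), W') Γ(F, W) 1) (TensorProduct.isBaseChange Γ(X, W) Γ(F, W) Γ(pullback f (Spec.map φ ≫ Y.fromSpecStalk (f.base x)), W'))
      (hW'.primeIdealOf ⟨x', hx'W'⟩).asIdeal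
    exact Groth.Agent.H57.ArtFamSch.isFlatOverAt_of_flat_localizedModule_chart F (pullback.snd f (Spec.map φ ≫ Y.fromSpecStalk (f.base x)))
      (pullback.fst f (Spec.map φ ≫ Y.fromSpecStalk (f.base x))) hW hV' hW' hW'W hW'V' x' hx'W' hB
  · intro hflat
    haveI : IsNoetherianRing (X.presheaf.stalk x) :=
      IsLocalization.isNoetherianRing (hW.primeIdealOf ⟨x, hxW⟩).asIdeal.primeCompl (X.presheaf.stalk x)
        inferInstance
    haveI : Module.Finite (X.presheaf.stalk x) (F.presheaf.stalk x) :=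
      Module.Finite.of_isLocalizedModule (hW.primeIdealOf ⟨x, hxW⟩).asIdeal.primeCompl
        (Groth.Agent.H8.germₗ F x hxW)
    haveI hlocst : IsLocalHom (algebraMap (Y.presheaf.stalk (f.base x)) (X.presheaf.stalk x)) := by
      rw [RingHom.algebraMap_toAlgebra]; infer_instance
    have hI : (IsLocalRing.maximalIdeal (Y.presheaf.stalk (f.base x))).map (algebraMap (Y.presheaf.stalk (f.base x)) (X.presheaf.stalk x)) ≤ Ideal.jacobson ⊥ := by
      rw [IsLocalRing.jacobson_eq_maximalIdeal ⊥ bot_ne_top]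
      exact ((IsLocalRing.local_hom_TFAE (algebraMap (Y.presheaf.stalk (f.base x)) (X.presheaf.stalk x))).out 0 2).mp hlocst
    have hinvinj : Function.Injective (Scheme.ΓSpecIso A').inv.hom :=
      (Scheme.ΓSpecIso A').symm.commRingCatIsoToRingEquiv.injective
    have hinvsurj : Function.Surjective (Scheme.ΓSpecIso A').inv.hom :=
      (Scheme.ΓSpecIso A').symm.commRingCatIsoToRingEquiv.surjective
    haveI : Module.Finite (Y.presheaf.stalk (f.base x)) Γ(Spec A', ⊤) := by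
      have h1 : ((Scheme.ΓSpecIso A').inv.hom.comp φ.hom).Finite :=
        RingHom.Finite.comp (RingHom.Finite.of_surjective _ hinvsurj) hfin
      exact h1
    have hinj' : Function.Injective (algebraMap (Y.presheaf.stalk (f.base x)) Γ(Spec A', ⊤)) := hinvinj.comp hinj
    have key : ∀ N : PrimeSpectrum Γ(pullback f (Spec.map φ ≫ Y.fromSpecStalk (f.base x)), W'), N.asIdeal.comap (algebraMap Γ(X, W) Γ(pullback f (Spec.map φ ≫ Y.fromSpecStalk (f.base x)), W')) = p →
        (N.asIdeal.comap (algebraMap Γ(Spec A', ⊤) Γ(pullback f (Spec.map φ ≫ Y.fromSpecStalk (f.base x)), W'))).IsMaximal →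
        Module.Flat Γ(Spec A', ⊤) (LocalizedModule N.asIdeal.primeCompl (Γ(pullback f (Spec.map φ ≫ Y.fromSpecStalk (f.base x)), W') ⊗[Γ(X, W)] Γ(F, W))) := by
      intro N h1 h2
      obtain ⟨x', hx', rfl⟩ := Groth.Agent.H57.ArtFamSch.exists_mem_primeIdealOf_eq hW' N
      have e1 : pullback.fst f (Spec.map φ ≫ Y.fromSpecStalk (f.base x)) x' = x :=
        Groth.Agent.H57.ArtFamSch.map_eq_of_comap_eq (pullback.fst f (Spec.map φ ≫ Y.fromSpecStalk (f.base x))) hW hW' hW'W hx' hxW h1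
      have e2 : IsClosed ({pullback.snd f (Spec.map φ ≫ Y.fromSpecStalk (f.base x)) x'} : Set ↥(Spec A')) := by
        apply Groth.Agent.H57.ArtFamSch.isClosed_singleton_of_primeIdealOf_isMaximal hV' _ (hW'V' hx')
        have h3 := congrArg PrimeSpectrum.asIdeal
          (IsAffineOpen.comap_primeIdealOf_appLE ⊤ hV' W' hW' hW'V' hx')
        rw [← h3]
        exact h2
      exact Groth.Agent.H57.ArtFamSch.flat_localizedModule_chart F (pullback.snd f (Spec.map φ ≫ Y.fromSpecStalk (f.base x)))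
        (pullback.fst f (Spec.map φ ≫ Y.fromSpecStalk (f.base x))) hW hV' hW' hW'W hW'V' x' hx' (hflat x' e1 e2)
    show Module.Flat (Y.presheaf.stalk (f.base x)) (F.presheaf.stalk x)
    exact Groth.Agent.H57.ArtFamFin.flat_of_finite_injective (R := Γ(Y, V)) (C := Γ(X, W)) (B₀ := Γ(Spec A', ⊤))
      (E₀ := Γ(pullback f (Spec.map φ ≫ Y.fromSpecStalk (f.base x)), W')) (A₀ := (Y.presheaf.stalk (f.base x))) 𝔭 p (P := Γ(F, W)) hinj' (X.presheaf.stalk x) (M := (F.presheaf.stalk x)) hI hp𝔭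
      (Groth.Agent.H8.germₗ F x hxW)
      (fun 𝔮 h𝔮 n hn h1 h2 => key ⟨n, hn⟩ h1 (by rw [h2]; exact h𝔮))

end Groth.Agent.S5915
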