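import Groth.Statements.S5918
import Groth.Agent.H57.ArtFam
import Groth.Agent.H57.ArtFamLoc
import Groth.Agent.H57.ArtFamSch
import Groth.Agent.H8.Coh

set_option autoImplicit false
set_option linter.style.haveILetI false
universe u
open CategoryTheory AlgebraicGeometry
open EGA43

namespace Groth.Agent.S5918

open CategoryTheory.Limits TensorProduct in
set_option maxHeartbeats 3200000 in
/-- Let A be an Artinian local ring, f : X ⟶ Spec A locally of finite type, F a coherent O_X-module and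
x a point of X. Let (g_i : Y_i ⟶ Spec A) be a family of A-schemes such that an element of A whose
image in every Γ(Y_i, O_{Y_i}) is zero is itself zero. If, for every i, the pullback of F to X
×_{Spec A} Y_i is flat over Y_i at every point lying over x, then F is f-flat at x. -/
theorem result {A : Type u} [CommRing A]
    [IsArtinianRing A] [IsLocalRing A] {X : Scheme.{u}} (f : X ⟶ Spec (CommRingCat.of A))
    [LocallyOfFiniteType f] (F : X.Modules) (hF : Coh.IsCoh F) (x : X)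
    {ι : Type u} (Y : ι → Scheme.{u}) (g : ∀ i, Y i ⟶ Spec (CommRingCat.of A))
    (hg : ∀ a : A, (∀ i, (g i).appTop ((Scheme.ΓSpecIso (CommRingCat.of A)).inv a) = 0) → a = 0)
    (hflat : ∀ (i : ι) (x' : ↥(pullback f (g i))), pullback.fst f (g i) x' = x →
      FlatMod.IsFlatOverAt (pullback.snd f (g i)) ((Scheme.Modules.pullback (pullback.fst f (g i))).obj F) x') :
    FlatMod.IsFlatOverAt f F x := by
  classical
  haveI hqc : F.IsQuasicoherent := hF.1
  have hV : IsAffineOpen (⊤ : (Spec (CommRingCat.of A)).Opens) := isAffineOpen_top _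
  obtain ⟨W, hW, hxW, hWV⟩ := exists_isAffineOpen_mem_and_subset (x := x)
    (U := f ⁻¹ᵁ (⊤ : (Spec (CommRingCat.of A)).Opens)) trivial
  let eA : Γ(Spec (CommRingCat.of A), ⊤) ≃+* A :=
    (Scheme.ΓSpecIso (CommRingCat.of A)).commRingCatIsoToRingEquiv
  haveI : IsLocalRing Γ(Spec (CommRingCat.of A), ⊤) := eA.symm.isLocalRing
  haveI : IsArtinianRing Γ(Spec (CommRingCat.of A), ⊤) := eA.symm.isArtinianRing
  haveI : IsNoetherianRing Γ(Spec (CommRingCat.of A), ⊤) := inferInstance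
  have hnil : IsNilpotent (IsLocalRing.maximalIdeal Γ(Spec (CommRingCat.of A), ⊤)) := by
    have h := IsArtinianRing.isNilpotent_jacobson_bot (R := Γ(Spec (CommRingCat.of A), ⊤))
    rwa [IsLocalRing.jacobson_eq_maximalIdeal ⊥ bot_ne_top] at h
  letI aRC : Algebra Γ(Spec (CommRingCat.of A), ⊤) Γ(X, W) := (f.appLE ⊤ W hWV).hom.toAlgebra
  haveI : Algebra.FiniteType Γ(Spec (CommRingCat.of A), ⊤) Γ(X, W) := Scheme.Hom.finiteType_appLE f hV hW hWV
  haveI : IsNoetherianRing Γ(X, W) := Algebra.FiniteType.isNoetherianRing Γ(Spec (CommRingCat.of A), ⊤) Γ(X, W)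
  haveI : Module.Finite Γ(X, W) Γ(F, W) := Groth.Agent.H8.finite_sections_of_isCoh F hF hW
  letI mCM := Groth.Agent.H8.moduleSectionStalk F x hxW
  haveI := Groth.Agent.H8.isLocalizedModule_germₗ F hW x hxW
  letI mRM : Module Γ(Spec (CommRingCat.of A), ⊤) (F.presheaf.stalk x) := Module.compHom _ (algebraMap Γ(Spec (CommRingCat.of A), ⊤) Γ(X, W))
  haveI : IsScalarTower Γ(Spec (CommRingCat.of A), ⊤) Γ(X, W) (F.presheaf.stalk x) := IsScalarTower.of_algebraMap_smul fun _ _ => rfl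
  letI mRP : Module Γ(Spec (CommRingCat.of A), ⊤) Γ(F, W) := Module.compHom _ (algebraMap Γ(Spec (CommRingCat.of A), ⊤) Γ(X, W))
  haveI : IsScalarTower Γ(Spec (CommRingCat.of A), ⊤) Γ(X, W) Γ(F, W) := IsScalarTower.of_algebraMap_smul fun _ _ => rfl
  have hsV : f x ∈ (⊤ : (Spec (CommRingCat.of A)).Opens) := trivial
  suffices hflatR : Module.Flat Γ(Spec (CommRingCat.of A), ⊤) (F.presheaf.stalk x) by
    letI : Algebra Γ(Spec (CommRingCat.of A), ⊤) ((Spec (CommRingCat.of A)).presheaf.stalk (f x)) :=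
      (Spec (CommRingCat.of A)).presheaf.algebra_section_stalk ⟨f x, hsV⟩
    haveI := hV.isLocalization_stalk ⟨f x, hsV⟩
    letI : Module ((Spec (CommRingCat.of A)).presheaf.stalk (f x)) (F.presheaf.stalk x) := FlatMod.moduleStalkOver f F x
    haveI : IsScalarTower Γ(Spec (CommRingCat.of A), ⊤) ((Spec (CommRingCat.of A)).presheaf.stalk (f x)) (F.presheaf.stalk x) :=
      IsScalarTower.of_algebraMap_smul fun r m => by
        change (f.stalkMap x).hom ((Spec (CommRingCat.of A)).presheaf.germ ⊤ (f x) hsV r) • m =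
          X.presheaf.germ W x hxW ((f.appLE ⊤ W hWV).hom r) • m
        rw [Groth.Agent.H57.stalkMap_germ_appLE f hWV x hxW r]
    exact (Module.flat_iff_of_isLocalization ((Spec (CommRingCat.of A)).presheaf.stalk (f x))
      (hV.primeIdealOf ⟨f x, hsV⟩).asIdeal.primeCompl _).mpr hflatR
  apply Groth.Agent.H57.ArtFam.flat_of_forall_relation hnil
  intro ι₀ _ v hv s c hc i hi
  by_contra hne
  have hinjA : Function.Injective (Scheme.ΓSpecIso (CommRingCat.of A)).hom.hom := eA.injective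
  have hne' : (Scheme.ΓSpecIso (CommRingCat.of A)).hom.hom (c i) ≠ 0 := fun h =>
    hne (hinjA (by rw [h, map_zero]))
  obtain ⟨j, hj⟩ : ∃ j, ((g j).appTop).hom (c i) ≠ 0 := by
    by_contra hall
    push Not at hall
    refine hne' (hg _ fun j => ?_)
    have h1 : (Scheme.ΓSpecIso (CommRingCat.of A)).inv.hom
        ((Scheme.ΓSpecIso (CommRingCat.of A)).hom.hom (c i)) = c i := eA.symm_apply_apply (c i)
    show ((g j).appTop).hom ((Scheme.ΓSpecIso (CommRingCat.of A)).inv.hom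
        ((Scheme.ΓSpecIso (CommRingCat.of A)).hom.hom (c i))) = 0
    rw [h1]
    exact hall j
  obtain ⟨y, hy⟩ : ∃ y : Y j, (Y j).presheaf.germ ⊤ y trivial (((g j).appTop).hom (c i)) ≠ 0 := by
    by_contra hall
    push Not at hall
    apply hj
    exact TopCat.Presheaf.section_ext (Y j).sheaf ⊤ (((g j).appTop).hom (c i)) 0
      (fun y hy => by rw [map_zero]; exact hall y)
  -- the chart for `j`, `y`
  obtain ⟨V', hV', hyV', hV'V⟩ := exists_isAffineOpen_mem_and_subset (x := y)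
    (U := (g j) ⁻¹ᵁ (⊤ : (Spec (CommRingCat.of A)).Opens)) trivial
  let W' : (pullback f (g j)).Opens :=
    pullback.fst f (g j) ⁻¹ᵁ W ⊓ pullback.snd f (g j) ⁻¹ᵁ V'
  have HP := IsPullback.of_hasPullback f (g j)
  have hW'W : W' ≤ pullback.fst f (g j) ⁻¹ᵁ W := inf_le_left
  have hW'V' : W' ≤ pullback.snd f (g j) ⁻¹ᵁ V' := inf_le_right
  have hW' : IsAffineOpen W' := by
    have : IsAffine (⊤ : (Spec (CommRingCat.of A)).Opens).toScheme := hV
    have : IsAffine V'.toScheme := hV'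
    have : IsAffine W.toScheme := hW
    exact .of_isIso (Scheme.Hom.isPullback_resLE HP hV'V hWV (rfl : W' = _)).isoPullback.hom
  have hpo := (isIso_pushoutSection_iff HP hV'V hWV (rfl : W' = _)).mp
    (isIso_pushoutSection_of_isAffineOpen HP hV'V hWV rfl hV hV' hW)
  letI aRB : Algebra Γ(Spec (CommRingCat.of A), ⊤) Γ(Y j, V') := ((g j).appLE ⊤ V' hV'V).hom.toAlgebra
  letI aCE : Algebra Γ(X, W) Γ(pullback f (g j), W') := ((pullback.fst f (g j)).appLE W W' hW'W).hom.toAlgebra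
  letI aBE : Algebra Γ(Y j, V') Γ(pullback f (g j), W') := ((pullback.snd f (g j)).appLE V' W' hW'V').hom.toAlgebra
  letI aRE : Algebra Γ(Spec (CommRingCat.of A), ⊤) Γ(pullback f (g j), W') :=
    (((pullback.fst f (g j)).appLE W W' hW'W).hom.comp (f.appLE ⊤ W hWV).hom).toAlgebra
  haveI t1 : IsScalarTower Γ(Spec (CommRingCat.of A), ⊤) Γ(X, W) Γ(pullback f (g j), W') := .of_algebraMap_eq' rfl
  haveI t2 : IsScalarTower Γ(Spec (CommRingCat.of A), ⊤) Γ(Y j, V') Γ(pullback f (g j), W') := .of_algebraMap_eq' (by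
    change (((pullback.fst f (g j)).appLE W W' hW'W).hom.comp (f.appLE ⊤ W hWV).hom) =
      (((pullback.snd f (g j)).appLE V' W' hW'V').hom.comp ((g j).appLE ⊤ V' hV'V).hom)
    rw [← CommRingCat.hom_comp, ← CommRingCat.hom_comp, hpo.w])
  haveI po1 : Algebra.IsPushout Γ(Spec (CommRingCat.of A), ⊤) Γ(X, W) Γ(Y j, V') Γ(pullback f (g j), W') := CommRingCat.isPushout_iff_isPushout.mp hpo
  letI hcomm : SMulCommClass Γ(X, W) Γ(Y j, V') Γ(pullback f (g j), W') := ⟨fun c b e => by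
    simp only [Algebra.smul_def]; ring⟩
  let p : Ideal Γ(X, W) := (hW.primeIdealOf ⟨x, hxW⟩).asIdeal
  let 𝔮 : Ideal Γ(Y j, V') := (hV'.primeIdealOf ⟨y, hyV'⟩).asIdeal
  have h𝔮 : (IsLocalRing.maximalIdeal Γ(Spec (CommRingCat.of A), ⊤)).map (algebraMap Γ(Spec (CommRingCat.of A), ⊤) Γ(Y j, V')) ≤ 𝔮 := by
    rw [Ideal.map_le_iff_le_comap]
    intro a ha
    obtain ⟨n, hn⟩ := hnil
    have h1 : a ^ n = 0 := by
      have h2 := Ideal.pow_mem_pow ha n
      rw [hn] at h2
      simpa using h2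
    rw [Ideal.mem_comap]
    apply Ideal.IsPrime.mem_of_pow_mem inferInstance n
    rw [← map_pow, h1, map_zero]
    exact zero_mem _
  have key : ∀ N : PrimeSpectrum Γ(pullback f (g j), W'), N.asIdeal.comap (algebraMap Γ(X, W) Γ(pullback f (g j), W')) = p →
      Module.Flat Γ(Y j, V') (LocalizedModule N.asIdeal.primeCompl (Γ(pullback f (g j), W') ⊗[Γ(X, W)] Γ(F, W))) := by
    intro N h1
    obtain ⟨x', hx', rfl⟩ := Groth.Agent.H57.ArtFamSch.exists_mem_primeIdealOf_eq hW' N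
    have e1 : pullback.fst f (g j) x' = x :=
      Groth.Agent.H57.ArtFamSch.map_eq_of_comap_eq (pullback.fst f (g j)) hW hW' hW'W hx' hxW h1
    exact Groth.Agent.H57.ArtFamSch.flat_localizedModule_chart F (pullback.snd f (g j))
      (pullback.fst f (g j)) hW hV' hW' hW'W hW'V' x' hx' (hflat j x' e1)
  obtain ⟨t, ht, ht0⟩ := Groth.Agent.H57.ArtFamLoc.stalk_core_prime (A := Γ(Spec (CommRingCat.of A), ⊤)) (C := Γ(X, W))
    (B₀ := Γ(Y j, V')) (E₀ := Γ(pullback f (g j), W')) (P := Γ(F, W)) p 𝔮 h𝔮 (Groth.Agent.H8.germₗ F x hxW)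
    (fun n hn h1 _ => key ⟨n, hn⟩ h1) v hv s c hc i hi
  -- contradiction in the stalk at `y`
  letI : Algebra Γ(Y j, V') ((Y j).presheaf.stalk y) := (Y j).presheaf.algebra_section_stalk ⟨y, hyV'⟩
  haveI := hV'.isLocalization_stalk ⟨y, hyV'⟩
  have hu : IsUnit (algebraMap Γ(Y j, V') ((Y j).presheaf.stalk y) t) :=
    IsLocalization.map_units ((Y j).presheaf.stalk y) (⟨t, ht⟩ : 𝔮.primeCompl)
  have h3 : algebraMap Γ(Y j, V') ((Y j).presheaf.stalk y) t *
      algebraMap Γ(Y j, V') ((Y j).presheaf.stalk y) (algebraMap Γ(Spec (CommRingCat.of A), ⊤) Γ(Y j, V') (c i)) = 0 := by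
    rw [← map_mul, ht0, map_zero]
  have h4 : algebraMap Γ(Y j, V') ((Y j).presheaf.stalk y) (algebraMap Γ(Spec (CommRingCat.of A), ⊤) Γ(Y j, V') (c i)) = 0 :=
    (hu.mul_right_eq_zero).mp h3
  apply hy
  have h5 : (Y j).presheaf.germ ⊤ y trivial (((g j).appTop).hom (c i)) =
      (Y j).presheaf.germ V' y hyV' (((g j).appLE ⊤ V' hV'V).hom (c i)) := by
    simp only [Scheme.Hom.appLE, homOfLE_leOfHom, CommRingCat.hom_comp, RingHom.coe_comp,
      Function.comp_apply, (Y j).presheaf.germ_res_apply]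
    rfl
  rw [h5]
  exact h4

end Groth.Agent.S5918
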