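import Groth.Statements.S5925
import Mathlib
import Groth.Agent.H9.Equidim
import Groth.Agent.S4943

set_option linter.style.haveILetI false

set_option autoImplicit false
open CategoryTheory AlgebraicGeometry
universe u
open EGA43

namespace Groth.Agent.S5925

open Groth.Agent.H54 Groth.Agent.H9.DimFormulaGen Groth.Agent.H9.DimFormulaApp
  Groth.Agent.H9.DimFormulaEq Groth.Agent.H9.FibreGeneric Groth.Agent.H71.DimFun
  Groth.Agent.H9.DimFormulaScheme Groth.Agent.H9.SubschemeDim Groth.Agent.H9.FibreFormula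
  Groth.Agent.H9.Equidim Groth.Agent.H9.FibDim

set_option backward.isDefEq.respectTransparency.types false in
/-- Krull's principal ideal theorem for the zero locus of a global section: the local ring at a
maximal point of the zero locus has dimension at most one. -/
theorem ringKrullDim_stalk_le_one_of_maximal_in_zeroLocus {X : Scheme.{u}} [IsLocallyNoetherian X]
    (g : Γ(X, ⊤)) (x'' : X) (hx'' : x'' ∈ X.zeroLocus ({g} : Set Γ(X, ⊤)))
    (hmax : ∀ t : X, t ∈ X.zeroLocus ({g} : Set Γ(X, ⊤)) → t ⤳ x'' → t = x'') :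
    ringKrullDim (X.presheaf.stalk x'') ≤ 1 := by
  obtain ⟨W, hW, hxW, -⟩ :=
    exists_isAffineOpen_mem_and_subset (X := X) (x := x'') (U := ⊤) trivial
  haveI : IsNoetherianRing Γ(X, W) := IsLocallyNoetherian.component_noetherian ⟨W, hW⟩
  obtain ⟨q, rfl⟩ : ∃ q : Spec Γ(X, W), hW.fromSpec q = x'' :=
    ⟨hW.primeIdealOf ⟨x'', hxW⟩, hW.fromSpec_primeIdealOf ⟨x'', hxW⟩⟩
  let gW : Γ(X, W) := (X.presheaf.map (homOfLE (le_top : W ≤ ⊤)).op).hom g
  have hzl : X.zeroLocus ({gW} : Set Γ(X, W)) = X.zeroLocus ({g} : Set Γ(X, ⊤)) ∪ (↑W)ᶜ := by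
    have := X.zeroLocus_map (le_top : W ≤ ⊤) ({g} : Set Γ(X, ⊤))
    rwa [Set.image_singleton] at this
  have hiff : ∀ q' : Spec Γ(X, W), gW ∈ q'.asIdeal ↔
      hW.fromSpec q' ∈ X.zeroLocus ({g} : Set Γ(X, ⊤)) := by
    intro q'
    have hq'W : hW.fromSpec q' ∈ W := by
      have : hW.fromSpec q' ∈ Set.range hW.fromSpec := ⟨q', rfl⟩
      rwa [hW.range_fromSpec] at this
    have h1 : q' ∈ hW.fromSpec ⁻¹' X.zeroLocus ({gW} : Set Γ(X, W)) ↔
        q' ∈ PrimeSpectrum.zeroLocus ({gW} : Set Γ(X, W)) :=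
      Set.ext_iff.mp (hW.fromSpec_preimage_zeroLocus {gW}) q'
    have h1' : gW ∈ q'.asIdeal ↔ q' ∈ PrimeSpectrum.zeroLocus ({gW} : Set Γ(X, W)) := by
      constructor
      · intro h a ha
        rw [Set.mem_singleton_iff] at ha
        rw [ha]
        exact h
      · intro h
        exact h (Set.mem_singleton gW)
    rw [h1', ← h1, Set.mem_preimage, hzl]
    constructor
    · rintro (h | h)
      · exact h
      · exact absurd hq'W h
    · exact fun h => Or.inl h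
  have hmin : q.asIdeal ∈ (Ideal.span {gW}).minimalPrimes := by
    refine ⟨⟨q.isPrime, ?_⟩, ?_⟩
    · rw [Ideal.span_singleton_le_iff_mem]
      exact (hiff q).mpr hx''
    · rintro q' ⟨hq'p, hq'g⟩ hq'q
      rw [Ideal.span_singleton_le_iff_mem] at hq'g
      have h2 := (hiff ⟨q', hq'p⟩).mp hq'g
      have h3 : hW.fromSpec ⟨q', hq'p⟩ ⤳ hW.fromSpec q := by
        apply Specializes.map _ hW.fromSpec.continuous
        exact (PrimeSpectrum.le_iff_specializes ⟨q', hq'p⟩ q).mp hq'q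
      have h4 := hW.fromSpec.isOpenEmbedding.injective (hmax _ h2 h3)
      rw [← h4]
  have hht := Ideal.height_le_one_of_isPrincipal_of_mem_minimalPrimes _ _ hmin
  rw [ringKrullDim_stalk_fromSpec hW q]
  exact_mod_cast hht

theorem core {Z X Y : Scheme.{u}} [IrreducibleSpace Y] [IsLocallyNoetherian Y] (f : X ⟶ Y)
    [LocallyOfFiniteType f] (x : X) (hf : EGA43.IsEquidimAt f x) (g : Γ(X, ⊤))
    (hgx : x ∈ X.zeroLocus ({g} : Set Γ(X, ⊤)))
    (hmax : ∀ z : X, f.base z = f.base x →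
      (∀ z' : X, f.base z' = f.base x → z ∈ closure ({z'} : Set X) → z' = z) →
      z ∉ X.zeroLocus ({g} : Set Γ(X, ⊤)))
    (j : Z ⟶ X) [IsClosedImmersion j]
    (hr : Set.range j.base = X.zeroLocus ({g} : Set Γ(X, ⊤))) :
    (∀ w : Z, j.base w = x → EGA43.IsEquidimAt (j ≫ f) w) ∧
    FlatMor.localDim ↥(X.zeroLocus ({g} : Set Γ(X, ⊤)) ∩ f.base ⁻¹' {f.base x}) ⟨x, ⟨hgx, rfl⟩⟩ + 1 =
      FlatMor.fibreDimAt f x ∧
    ∀ Z₁ ∈ irreducibleComponents ↥(X.zeroLocus ({g} : Set Γ(X, ⊤))),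
      (⟨x, hgx⟩ : ↥(X.zeroLocus ({g} : Set Γ(X, ⊤)))) ∈ Z₁ →
      ∀ ξ : ↥(X.zeroLocus ({g} : Set Γ(X, ⊤))),
        closure ({ξ} : Set ↥(X.zeroLocus ({g} : Set Γ(X, ⊤)))) = Z₁ →
        ringKrullDim (X.presheaf.stalk (ξ : X)) = 1 := by
  haveI : IsLocallyNoetherian X := LocallyOfFiniteType.isLocallyNoetherian f
  have hjemb : Topology.IsEmbedding j.base := j.isEmbedding
  obtain ⟨e₀, U, hxU, hA, hB⟩ := exists_of_isEquidimAt f x hf
  obtain ⟨w₀, hw₀⟩ : ∃ w₀ : Z, j.base w₀ = x := by rw [← hr] at hgx; exact hgx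
  -- (P1)
  have P1 : ∀ ζ : Z, j.base ζ ∈ U → f.base (j.base ζ) = f.base x → ∀ n : ℕ,
      @Algebra.trdeg (Y.residueField ((j ≫ f).base ζ)) (Z.residueField ζ) _ _
        ((j ≫ f).residueFieldMap ζ).hom.toAlgebra = (n : Cardinal.{u}) → n + 1 ≤ e₀ := by
    intro ζ hζU hζf n hn
    have hζV : j.base ζ ∈ X.zeroLocus ({g} : Set Γ(X, ⊤)) := hr ▸ ⟨ζ, rfl⟩
    have hnm : ¬ (∀ z' : X, f.base z' = f.base x → j.base ζ ∈ closure ({z'} : Set X) →
        z' = j.base ζ) := fun h => hmax (j.base ζ) hζf h hζV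
    obtain ⟨z', hz'⟩ := not_forall.mp hnm
    obtain ⟨hz'f, hz'2⟩ := Classical.not_imp.mp hz'
    obtain ⟨hz'cl, hz'ne⟩ := Classical.not_imp.mp hz'2
    obtain ⟨n₁, b, hn₁, hb, hfd⟩ := fibre_formula f (j.base ζ)
    have hnn : n₁ = n := by
      have h1 := trdeg_comp_of_surjectiveOnStalks j f ζ
      have h2 : (n₁ : Cardinal.{u}) = (n : Cardinal.{u}) := hn₁.symm.trans (h1.symm.trans hn)
      exact_mod_cast h2
    rw [hA _ hζU] at hfd
    have he : e₀ = n₁ + b := by exact_mod_cast hfd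
    have hb1 : b ≠ 0 := by
      intro hb0
      rw [hb0, ringKrullDim_stalk_eq_coheight] at hb
      have hco : Order.coheight (f.asFiber (j.base ζ)) = 0 := by exact_mod_cast hb
      rw [Order.coheight_eq_zero] at hco
      have hz'r : z' ∈ Set.range (f.fiberι (f.base (j.base ζ))).base := by
        rw [Scheme.Hom.range_fiberι]
        exact hz'f.trans hζf.symm
      obtain ⟨a', ha'⟩ := hz'r
      have h3 : a' ⤳ f.asFiber (j.base ζ) := by
        rw [← (f.fiberι (f.base (j.base ζ))).isEmbedding.isInducing.specializes_iff, ha',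
          f.fiberι_asFiber]
        exact specializes_iff_mem_closure.mpr hz'cl
      have h4 : f.asFiber (j.base ζ) ≤ a' := Scheme.le_iff_specializes.mpr h3
      have h5 := hco h4
      have h6 : a' = f.asFiber (j.base ζ) := ((Scheme.le_iff_specializes.mp h5).antisymm h3).eq.symm
      apply hz'ne
      rw [← ha', h6, f.fiberι_asFiber]
    omega
  -- (P2)
  have P2 : 1 ≤ e₀ ∧ FlatMor.fibreDimAt (j ≫ f) w₀ ≤ ((e₀ - 1 : ℕ) : WithBot ℕ∞) := by
    obtain ⟨ζ, n, hζw, hζf, hn, hle⟩ := exists_fibre_generization (j ≫ f) w₀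
    have hζU : j.base ζ ∈ U := by
      have : j.base ζ ⤳ x := hw₀ ▸ hζw.map j.continuous
      exact this.mem_open U.2 hxU
    have hζf' : f.base (j.base ζ) = f.base x := by
      have : (j ≫ f).base ζ = f.base (j.base w₀) := hζf
      rw [hw₀] at this
      exact this
    have h1 := P1 ζ hζU hζf' n hn
    refine ⟨by omega, hle.trans ?_⟩
    have : n ≤ e₀ - 1 := by omega
    exact_mod_cast this
  -- (P3)
  have P3 : ∀ ξ : Z, (∀ t : Z, t ⤳ ξ → t = ξ) → j.base ξ ∈ U →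
      FlatMor.fibreDimAt (j ≫ f) ξ ≤ ((e₀ - 1 : ℕ) : WithBot ℕ∞) →
      ringKrullDim (X.presheaf.stalk (j.base ξ)) = 1 ∧
        FlatMor.fibreDimAt (j ≫ f) ξ = ((e₀ - 1 : ℕ) : WithBot ℕ∞) ∧
        (j ≫ f).base ξ = genericPoint Y := by
    intro ξ hξmax hξU hξle
    have hξV : j.base ξ ∈ X.zeroLocus ({g} : Set Γ(X, ⊤)) := hr ▸ ⟨ξ, rfl⟩
    have hK := ringKrullDim_stalk_le_one_of_maximal_in_zeroLocus g (j.base ξ) hξV (by
      intro t ht htξ
      rw [← hr] at ht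
      obtain ⟨a, rfl⟩ := ht
      have := hξmax a (hjemb.isInducing.specializes_iff.mp htξ)
      rw [this])
    obtain ⟨n'', hn''⟩ := exists_trdeg_eq_nat (j ≫ f) ξ
    have hfξ := fibreDimAt_eq_trdeg_of_forall (j ≫ f) ξ hξmax n'' hn''
    obtain ⟨n₁, b, hn₁, hb, hfd⟩ := fibre_formula f (j.base ξ)
    have hnn : n₁ = n'' := by
      have h1 := trdeg_comp_of_surjectiveOnStalks j f ξ
      have h2 : (n₁ : Cardinal.{u}) = (n'' : Cardinal.{u}) := hn₁.symm.trans (h1.symm.trans hn'')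
      exact_mod_cast h2
    rw [hA _ hξU] at hfd
    have he : e₀ = n₁ + b := by exact_mod_cast hfd
    rw [hfξ] at hξle
    have c1 : n'' ≤ e₀ - 1 := by exact_mod_cast hξle
    obtain ⟨n₀, hn₀⟩ := exists_ringKrullDim_eq_nat (X.presheaf.stalk (j.base ξ))
    have c2 : n₀ ≤ 1 := by rw [hn₀] at hK; exact_mod_cast hK
    have c3 : b ≤ n₀ := by
      have := Groth.Agent.S4943.stalk_fibre_dim_le f (j.base ξ)
      rw [hb, hn₀] at this
      exact_mod_cast this
    have c4 : 1 ≤ e₀ := P2.1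
    have c5 : b = 1 := by omega
    have c6 : n₀ = 1 := by omega
    have c7 : n'' = e₀ - 1 := by omega
    refine ⟨by rw [hn₀, c6]; rfl, by rw [hfξ, c7], ?_⟩
    obtain ⟨z, hzx, hfz, hzmax⟩ := Groth.Agent.S4943.exists_max_of_stalk_dim_eq f (j.base ξ) b hb
      (by rw [hn₀, c6, c5])
    have hzU : z ∈ U := hzx.mem_open U.2 hξU
    have := hB z hzU hzmax
    rw [hfz] at this
    exact this
  let U' : Z.Opens := (j ⁻¹ᵁ U) ⊓ ⟨{z | FlatMor.fibreDimAt (j ≫ f) z ≤ ((e₀ - 1 : ℕ) : WithBot ℕ∞)},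
    isOpen_setOf_fibreDimAt_le (j ≫ f) (e₀ - 1)⟩
  have hw₀U' : w₀ ∈ U' := by
    refine ⟨?_, P2.2⟩
    show j.base w₀ ∈ U
    rw [hw₀]; exact hxU
  have hbU' : ∀ z : Z, z ∈ U' → FlatMor.fibreDimAt (j ≫ f) z = ((e₀ - 1 : ℕ) : WithBot ℕ∞) := by
    intro z hz
    apply le_antisymm hz.2
    obtain ⟨ξ, hξz, hξ⟩ := exists_generic_specializes z
    have hξmax : ∀ t : Z, t ⤳ ξ → t = ξ := fun t ht => eq_of_specializes_generic hξ ht
    have hξU' : ξ ∈ U' := hξz.mem_open U'.2 hz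
    have h1 := (P3 ξ hξmax hξU'.1 hξU'.2).2.1
    rw [← h1]
    exact Groth.Agent.S1554.fibreDimAt_le_of_specializes (j ≫ f) hξz
  refine ⟨?_, ?_, ?_⟩
  · intro w hw
    have hww : w = w₀ := hjemb.injective (hw.trans hw₀.symm)
    subst hww
    exact isEquidimAt_of_forall (j ≫ f) w (e₀ - 1) U' hw₀U'
      (fun ξ hξU' hξmax => (P3 ξ hξmax hξU'.1 hξU'.2).2.2) hbU'
  · rw [localDim_inter_fibre_eq j hjemb _ hr f w₀ x hw₀ hgx, hbU' w₀ hw₀U', hA x hxU]
    have := P2.1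
    have h2 : e₀ - 1 + 1 = e₀ := by omega
    exact_mod_cast h2
  · intro Z₁ hZ₁ hxZ₁ ξ hξ
    have hξV : (ξ : X) ∈ Set.range j.base := by rw [hr]; exact ξ.2
    obtain ⟨ξZ, hξZ⟩ := hξV
    have hξZmax : ∀ t : Z, t ⤳ ξZ → t = ξZ := by
      intro t ht
      have h1 : j.base t ⤳ (ξ : X) := by rw [← hξZ]; exact ht.map j.continuous
      have htV : j.base t ∈ X.zeroLocus ({g} : Set Γ(X, ⊤)) := hr ▸ ⟨t, rfl⟩
      have h2 : (⟨j.base t, htV⟩ : ↥(X.zeroLocus ({g} : Set Γ(X, ⊤)))) ⤳ ξ :=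
        (subtype_specializes_iff _ _).mpr h1
      have h3 : closure ({(⟨j.base t, htV⟩ : ↥(X.zeroLocus ({g} : Set Γ(X, ⊤))))} :
          Set ↥(X.zeroLocus ({g} : Set Γ(X, ⊤)))) ≤ Z₁ := by
        apply hZ₁.2 isIrreducible_singleton.closure
        rw [← hξ]
        exact specializes_iff_closure_subset.mp h2
      have h4 : ξ ⤳ (⟨j.base t, htV⟩ : ↥(X.zeroLocus ({g} : Set Γ(X, ⊤)))) := by
        rw [specializes_iff_mem_closure, hξ]
        exact h3 (subset_closure rfl)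
      have h5 : j.base t ⤳ j.base ξZ := by rw [hξZ]; exact h1
      have h6 : j.base ξZ ⤳ j.base t := by
        rw [hξZ]; exact (subtype_specializes_iff _ _).mp h4
      exact hjemb.injective (h5.antisymm h6).eq
    have hξx : (ξ : X) ⤳ x := by
      have : ξ ⤳ (⟨x, hgx⟩ : ↥(X.zeroLocus ({g} : Set Γ(X, ⊤)))) := by
        rw [specializes_iff_mem_closure, hξ]; exact hxZ₁
      exact (subtype_specializes_iff _ _).mp this
    have hξZw : ξZ ⤳ w₀ := by
      rw [← hjemb.isInducing.specializes_iff, hξZ, hw₀]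
      exact hξx
    have hξU' : ξZ ∈ U' := hξZw.mem_open U'.2 hw₀U'
    have := (P3 ξZ hξZmax hξU'.1 hξU'.2).1
    rw [hξZ] at this
    exact this

theorem result' {X Y : Scheme.{u}} [IrreducibleSpace Y]
    [IsLocallyNoetherian Y] (f : X ⟶ Y) [LocallyOfFiniteType f] (x : X) (hf : EGA43.IsEquidimAt f x)
    (g : Γ(X, ⊤)) (hgx : x ∈ X.zeroLocus ({g} : Set Γ(X, ⊤)))
    (hmax : ∀ z : X, f.base z = f.base x → (∀ z' : X, f.base z' = f.base x → z ∈ closure ({z'} : Set X) → z' = z) →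
      z ∉ X.zeroLocus ({g} : Set Γ(X, ⊤))) :
    (∀ w : ↥(Scheme.IdealSheafData.vanishingIdeal ⟨X.zeroLocus ({g} : Set Γ(X, ⊤)), X.zeroLocus_isClosed _⟩).subscheme,
        (Scheme.IdealSheafData.vanishingIdeal ⟨X.zeroLocus ({g} : Set Γ(X, ⊤)), X.zeroLocus_isClosed _⟩).subschemeι.base w = x →
        EGA43.IsEquidimAt ((Scheme.IdealSheafData.vanishingIdeal ⟨X.zeroLocus ({g} : Set Γ(X, ⊤)), X.zeroLocus_isClosed _⟩).subschemeι ≫ f) w) ∧
      FlatMor.localDim ↥(X.zeroLocus ({g} : Set Γ(X, ⊤)) ∩ f.base ⁻¹' {f.base x}) ⟨x, ⟨hgx, rfl⟩⟩ + 1 = FlatMor.fibreDimAt f x ∧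
      ∀ Z ∈ irreducibleComponents ↥(X.zeroLocus ({g} : Set Γ(X, ⊤))), (⟨x, hgx⟩ : ↥(X.zeroLocus ({g} : Set Γ(X, ⊤)))) ∈ Z →
        ∀ ξ : ↥(X.zeroLocus ({g} : Set Γ(X, ⊤))), closure ({ξ} : Set ↥(X.zeroLocus ({g} : Set Γ(X, ⊤)))) = Z →
          ringKrullDim (X.presheaf.stalk (ξ : X)) = 1 := by
  have hr1 : Set.range (Scheme.IdealSheafData.vanishingIdeal
      ⟨X.zeroLocus ({g} : Set Γ(X, ⊤)), X.zeroLocus_isClosed _⟩).subschemeι.base =
      X.zeroLocus ({g} : Set Γ(X, ⊤)) := by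
    rw [Scheme.IdealSheafData.range_subschemeι, Scheme.IdealSheafData.coe_support_vanishingIdeal]
    rfl
  exact core f x hf g hgx hmax _ hr1


/-- Let Y be an irreducible locally Noetherian scheme, f : X ⟶ Y a morphism locally of finite type which
is equidimensional at the point x, y = f x and e = dim_x(f⁻¹(y)). Let g be a global section of O_X
vanishing at x whose zero set X' contains no maximal point of f⁻¹(y). Then X', with its reduced
closed subscheme structure, is equidimensional over Y at x; dim_x(X' ∩ f⁻¹(y)) = e − 1; and every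
irreducible component of X' containing x has codimension 1 in X, i.e. the local ring of X at its
generic point has Krull dimension 1. (Stated for a global section; the published statement takes g
on an affine open neighbourhood of x, to which this applies after restriction, and its codimension
assertion codim(X', X) = 1 is read for the components of X' through x: a component of the zero set
not passing through x can be a whole irreducible component of X disjoint from the fibre, of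
codimension 0.) -/
theorem result {X Y : Scheme.{u}} [IrreducibleSpace Y]
    [IsLocallyNoetherian Y] (f : X ⟶ Y) [LocallyOfFiniteType f] (x : X) (hf : EGA43.IsEquidimAt f x)
    (g : Γ(X, ⊤)) (hgx : x ∈ X.zeroLocus ({g} : Set Γ(X, ⊤)))
    (hmax : ∀ z : X, f.base z = f.base x → (∀ z' : X, f.base z' = f.base x → z ∈ closure ({z'} : Set X) → z' = z) →
      z ∉ X.zeroLocus ({g} : Set Γ(X, ⊤))) :
    (∀ w : ↥(Scheme.IdealSheafData.vanishingIdeal ⟨X.zeroLocus ({g} : Set Γ(X, ⊤)), X.zeroLocus_isClosed _⟩).subscheme,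
        (Scheme.IdealSheafData.vanishingIdeal ⟨X.zeroLocus ({g} : Set Γ(X, ⊤)), X.zeroLocus_isClosed _⟩).subschemeι.base w = x →
        EGA43.IsEquidimAt ((Scheme.IdealSheafData.vanishingIdeal ⟨X.zeroLocus ({g} : Set Γ(X, ⊤)), X.zeroLocus_isClosed _⟩).subschemeι ≫ f) w) ∧
      FlatMor.localDim ↥(X.zeroLocus ({g} : Set Γ(X, ⊤)) ∩ f.base ⁻¹' {f.base x}) ⟨x, ⟨hgx, rfl⟩⟩ + 1 = FlatMor.fibreDimAt f x ∧
      ∀ Z ∈ irreducibleComponents ↥(X.zeroLocus ({g} : Set Γ(X, ⊤))), (⟨x, hgx⟩ : ↥(X.zeroLocus ({g} : Set Γ(X, ⊤)))) ∈ Z →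
        ∀ ξ : ↥(X.zeroLocus ({g} : Set Γ(X, ⊤))), closure ({ξ} : Set ↥(X.zeroLocus ({g} : Set Γ(X, ⊤)))) = Z →
          ringKrullDim (X.presheaf.stalk (ξ : X)) = 1 := by
  exact result' f x hf g hgx hmax

end Groth.Agent.S5925
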