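import Groth.Statements.S5927
import Groth.Agent.H38.SectionConst2
import Groth.Agent.H73.DVRSpec

set_option autoImplicit false
open CategoryTheory AlgebraicGeometry
universe u
open EGA43

namespace Groth.Agent.S5927

/-- Let Y be a locally Noetherian scheme, f : X ⟶ Y a morphism locally of finite type with a section g :
Y ⟶ X, X_y^0 the connected component of f⁻¹(y) containing g y, every X_y^0 geometrically irreducible
over κ(y), and y₀ a point of Y such that f is universally open at the generic point of X_{y₀}^0.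
Suppose moreover that either (α) the fibre f⁻¹(y₀) is geometrically reduced at g y₀, or (β) dim
f⁻¹(y') = dim X_{y'}^0 for the generic point y' of every irreducible component of Y containing y₀.
Then y ↦ dim X_y^0 is constant on a neighbourhood of y₀. -/
theorem result {X Y : Scheme.{u}} [IsLocallyNoetherian Y] (f : X ⟶ Y)
    [LocallyOfFiniteType f] (g : Y ⟶ X) (hg : g ≫ f = 𝟙 Y)
    (hirr : ∀ y : Y, (∀ (K : Type u) [Field K] [Algebra (IsLocalRing.ResidueField (Y.presheaf.stalk y)) K],
        IsIrreducible ((FBase.bcπ (f.fiberToSpecResidueField y) K ≫ f.fiberι y).base ⁻¹' connectedComponentIn (f.base ⁻¹' {y}) (g.base y))))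
    (y₀ : Y) (hopen : ∀ ξ ∈ connectedComponentIn (f.base ⁻¹' {y₀}) (g.base y₀), connectedComponentIn (f.base ⁻¹' {y₀}) (g.base y₀) ⊆ closure {ξ} → EGA43.IsUnivOpenAt f ξ)
    (hαβ : FBase.IsGeomReducedAt (f.fiberToSpecResidueField (f.base (g.base y₀))) (f.asFiber (g.base y₀)) ∨
      (∀ y' : Y, y₀ ∈ closure {y'} → closure {y'} ∈ irreducibleComponents (Y : Type u) →
        topologicalKrullDim ↥(f.fiber y') = topologicalKrullDim ↥(connectedComponentIn (f.base ⁻¹' {y'}) (g.base y')))) :
    (∃ V ∈ nhds y₀, ∀ z ∈ V, topologicalKrullDim ↥(connectedComponentIn (f.base ⁻¹' {z}) (g.base z)) = topologicalKrullDim ↥(connectedComponentIn (f.base ⁻¹' {y₀}) (g.base y₀))) := by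
  classical
  have hδ : ∀ y : Y, topologicalKrullDim ↥(connectedComponentIn (f.base ⁻¹' {y}) (g.base y)) =
      FlatMor.fibreDimAt f (g.base y) :=
    fun y => Groth.Agent.H38.SectionConst.dim_component_eq f g hg y (hirr y)
  obtain ⟨n₀, hn₀⟩ := Groth.Agent.H38.FibreDimCons.exists_fibreDimAt_eq f (g.base y₀)
  have hgen : ∀ y₁ : Y, y₁ ⤳ y₀ → (n₀ : WithBot ℕ∞) ≤ FlatMor.fibreDimAt f (g.base y₁) := by
    intro y₁ hy₁
    rw [← hn₀, ← hδ y₀]
    rcases hαβ with hα | hβ
    · by_cases hne : y₁ = y₀
      · subst hne; exact (hδ _).le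
      · obtain ⟨A, h, hdvr, hcl, hgen⟩ := Groth.Agent.H73.KA.exists_dvr_through_specialization
          (𝟙 Y) y₁ y₀ (by simpa using hy₁) (by simpa using Ne.symm hne)
        haveI := hdvr
        have hη : h.base (genericPoint ↥(Spec (CommRingCat.of A))) = y₁ := by
          let pt : ↥(Spec (Y.residueField y₁)) := (⊥ : PrimeSpectrum (Y.residueField y₁))
          have h1 := congrArg (fun q => q.base pt) hgen
          simp only [Scheme.Hom.comp_base, TopCat.comp_app, Category.comp_id] at h1
          rw [Scheme.fromSpecResidueField_apply] at h1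
          refine Eq.trans ?_ h1
          congr 1
          rw [genericPoint_eq_bot_of_affine (CommRingCat.of A)]
          apply PrimeSpectrum.ext
          change (⊥ : Ideal A) = Ideal.comap A.subtype (⊥ : Ideal (Y.residueField y₁))
          rw [← RingHom.ker_eq_comap_bot]
          exact ((RingHom.injective_iff_ker_eq_bot _).mp A.subtype_injective).symm
        have := Groth.Agent.H38.SectionConst.dim_le_fibreDimAt_of_dvr f g hg hirr A h y₀ hcl
          hopen hα
        rwa [hη] at this
    · obtain ⟨y', hy'⟩ := QuasiSober.sober (isIrreducible_irreducibleComponent (x := y₁))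
        isClosed_irreducibleComponent
      have hy'y₁ : y' ⤳ y₁ := by
        rw [specializes_iff_mem_closure, hy'.def]; exact mem_irreducibleComponent
      have hcomp : closure {y'} ∈ irreducibleComponents (Y : Type u) := by
        rw [hy'.def]; exact irreducibleComponent_mem_irreducibleComponents y₁
      have hy'y₀ : y₀ ∈ closure {y'} := specializes_iff_mem_closure.mp (hy'y₁.trans hy₁)
      have hirr0 : IsIrreducible (connectedComponentIn (f.base ⁻¹' {y₀}) (g.base y₀)) :=
        Groth.Agent.H38.SectionConst.isIrreducible_of_geom f y₀ _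
          (connectedComponentIn_subset _ _)
          (IsLocalRing.ResidueField (Y.presheaf.stalk y₀)) (hirr y₀ _)
      have h1 := Groth.Agent.H38.SectionConst.dim_le_dim_fiber_of_isUnivOpenAt f y₀ (g.base y₀)
        (Groth.Agent.H38.SectionComp.section_apply f g hg y₀) hirr0 hopen y' (hy'y₁.trans hy₁)
      rw [hβ y' hy'y₀ hcomp, hδ y'] at h1
      exact h1.trans (Groth.Agent.H38.SectionComp.fibreDimAt_le_of_specializes f
        (hy'y₁.map g.continuous))
  have hEcl : IsClosed {y : Y | (n₀ : WithBot ℕ∞) ≤ FlatMor.fibreDimAt f (g.base y)} :=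
    (Groth.Agent.H9.FibDim.isClosed_setOf_natCast_le_fibreDimAt f n₀).preimage g.continuous
  have hVop : IsOpen {y : Y | FlatMor.fibreDimAt f (g.base y) ≤ (n₀ : WithBot ℕ∞)} :=
    (Groth.Agent.H9.FibDim.isOpen_setOf_fibreDimAt_le f n₀).preimage g.continuous
  refine ⟨{y : Y | (n₀ : WithBot ℕ∞) ≤ FlatMor.fibreDimAt f (g.base y)} ∩
      {y : Y | FlatMor.fibreDimAt f (g.base y) ≤ (n₀ : WithBot ℕ∞)},
    Filter.inter_mem
      (Groth.Agent.H38.SectionConst.mem_nhds_of_isClosed_of_forall_specializes _ hEcl y₀ hgen)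
      (hVop.mem_nhds hn₀.le), fun z hz => ?_⟩
  rw [hδ z, hδ y₀, hn₀]
  exact le_antisymm hz.2 hz.1

end Groth.Agent.S5927
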