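import Groth.Statements.S5934
import Groth.Agent.H49.SmoothFibre

set_option autoImplicit false
open CategoryTheory AlgebraicGeometry
universe u
open EGA43

namespace Groth.Agent.S5934


/-- Let f : X ⟶ Y be a proper, flat morphism of finite presentation. The set of points y of Y whose
fibre X_y is geometrically regular, i.e. smooth over the residue field κ(y), is open in Y. -/
theorem result {X Y : Scheme.{u}} (f : X ⟶ Y) [IsProper f] [Flat f]
    [LocallyOfFinitePresentation f] :
    IsOpen {y : Y | Smooth (f.fiberToSpecResidueField y)} := by
  have hset : {y : Y | Smooth (f.fiberToSpecResidueField y)} =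
      (f.base '' ((f.smoothLocus : Set X)ᶜ))ᶜ := by
    ext y
    haveI : LocallyOfFinitePresentation (f.fiberToSpecResidueField y) :=
      MorphismProperty.pullback_snd (P := @LocallyOfFinitePresentation) _ _ inferInstance
    simp only [Set.mem_setOf_eq, Set.mem_compl_iff, Set.mem_image, not_exists, not_and]
    constructor
    · intro hsm x hx hxy
      apply hx
      obtain ⟨z, hz⟩ : x ∈ Set.range (f.fiberι y) := by
        rw [Scheme.Hom.range_fiberι]; exact hxy
      refine (Groth.Agent.H49.SmoothFibre.mem_smoothLocus_iff_flat_and_fiber f x y hxy z hz).mpr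
        ⟨AlgebraicGeometry.Flat.stalkMap f x, ?_⟩
      rw [Scheme.Hom.smoothLocus_eq_top]; trivial
    · intro hall
      rw [← Scheme.Hom.smoothLocus_eq_top_iff, ← top_le_iff]
      intro z _
      have hfz : f (f.fiberι y z) = y := by
        have : f.fiberι y z ∈ Set.range (f.fiberι y) := ⟨z, rfl⟩
        rw [Scheme.Hom.range_fiberι] at this
        exact this
      have hmem : f.fiberι y z ∈ f.smoothLocus := by
        by_contra hne
        exact hall _ hne hfz
      exact ((Groth.Agent.H49.SmoothFibre.mem_smoothLocus_iff_flat_and_fiber f _ y hfz z rfl).mp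
        hmem).2
  rw [hset, isOpen_compl_iff]
  exact f.isClosedMap _ (isClosed_compl_iff.mpr f.smoothLocus.2)

end Groth.Agent.S5934
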