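import Groth.Statements.S5936
import Groth.Agent.H57.FPKer
import Groth.Agent.H82.TorPD
import Groth.Agent.H82.TorSymm

set_option autoImplicit false
universe u
open TensorProduct CategoryTheory
open EGA43

namespace Groth.Agent.S5936

open CategoryTheory.Limits MonoidalCategory
open Groth.Agent.H82.TorLib Groth.Agent.H82.LDer

theorem isZero_tor_flip {B : Type u} [CommRing B] (n : ℕ) (X Y : ModuleCat.{u} B) :
    IsZero (((Tor (ModuleCat.{u} B) n).obj X).obj Y) ↔
      IsZero (((Tor (ModuleCat.{u} B) n).obj Y).obj X) := by
  obtain ⟨e⟩ := Groth.Agent.H82.TorSymm.nonempty_tor_iso_flip (A := B) n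
  exact ((e.app X).app Y).isZero_iff

theorem key (A B : Type u) [CommRing A] [CommRing B] [Algebra A B]
    [Algebra.FinitePresentation A B] [Module.Flat A B] (k : ℕ) :
    ∀ (M : Type u) [AddCommGroup M] [Module B M] [Module A M] [IsScalarTower A B M]
      [Module.FinitePresentation B M] [Module.Flat A M],
      (∀ N : ModuleCat.{u} B,
        IsZero (((Tor (ModuleCat.{u} B) (k + 1)).obj (ModuleCat.of B M)).obj N)) →
      HasProjectiveDimensionLT (ModuleCat.of B M) (k + 1) := by
  induction k with
  | zero =>
    intro M _ _ _ _ _ _ h
    haveI : Module.Flat B M :=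
      Groth.Agent.H82.TorFlat.flat_of_tor_one_quotient M (fun I _ => h _)
    haveI : Module.Projective B M := Module.Flat.projective_of_finitePresentation
    haveI : Projective (ModuleCat.of B M) :=
      (IsProjective.iff_projective (R := B) M).1 inferInstance
    infer_instance
  | succ k ih =>
    intro M _ _ _ _ _ _ h
    obtain ⟨n, π, hπ, hfp⟩ := Groth.Agent.H57.FPKer.exists_surjective_ker_fp A B M
    haveI := hfp
    haveI : Module.Flat A (LinearMap.ker π) := Groth.Agent.H57.FPKer.flat_ker π hπ
    have hS := Groth.Agent.H82.TorFlat.shortExact_of (A := B) (LinearMap.ker π).subtype π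
      (Submodule.injective_subtype _) hπ (LinearMap.exact_subtype_ker_map π)
    haveI hP : Projective (ModuleCat.of B (Fin n → B)) :=
      (IsProjective.iff_projective (R := B) (Fin n → B)).1 inferInstance
    have hK : ∀ N : ModuleCat.{u} B, IsZero (((Tor (ModuleCat.{u} B) (k + 1)).obj
        (ModuleCat.of B (LinearMap.ker π))).obj N) := by
      intro N
      rw [isZero_tor_flip]
      exact (Groth.Agent.H82.TorPD.isZero_shift N _ hS hP k).1
        ((isZero_tor_flip _ _ _).1 (h N))
    have h1 := ih (LinearMap.ker π) hK
    have h2 : HasProjectiveDimensionLT (ModuleCat.of B (Fin n → B)) (k + 1 + 1) :=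
      hasProjectiveDimensionLT_of_ge _ 1 _ (by omega)
    exact hS.hasProjectiveDimensionLT_X₃ (k + 1) h1 h2

/-- Let A be a commutative ring, B a finitely presented A-algebra which is flat as an A-module, and M a
finitely presented B-module which is flat as an A-module. Then the projective dimension of M as a
B-module equals its Tor-dimension, the least n such that Tor_i^B(M, N) = 0 for every i > n and every
B-module N. (Both sides are valued in WithBot ℕ∞, with the zero module of dimension ⊥; Tor_i^B(M, −)
is the i-th left derived functor of M ⊗_B −. In general only Tor-dimension ≤ projective dimension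
holds.) -/
theorem result (A B M : Type u) [CommRing A] [CommRing B] [Algebra A B]
    [Algebra.FinitePresentation A B] [Module.Flat A B] [AddCommGroup M] [Module B M] [Module A M]
    [IsScalarTower A B M] [Module.FinitePresentation B M] [Module.Flat A M] :
    projectiveDimension (ModuleCat.of B M) =
      sInf {n : WithBot ℕ∞ | ∀ i : ℕ, n < i → ∀ N : ModuleCat.{u} B,
        Limits.IsZero (((Tor (ModuleCat.{u} B) i).obj (ModuleCat.of B M)).obj N)} := by
  unfold projectiveDimension
  congr 1
  ext n
  simp only [Set.mem_ofPred_eq]
  constructor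
  · intro h i hi N
    have h1 : HasProjectiveDimensionLT (ModuleCat.of B M) i := h i hi
    rw [isZero_tor_flip]
    cases i with
    | zero =>
      have hz : IsZero (ModuleCat.of B M) := isZero_of_hasProjectiveDimensionLT_zero _
      exact Groth.Agent.H82.TorFlat.isZero_of_hasLES (hasLES_tor N) 0 hz
    | succ j =>
      exact Groth.Agent.H82.TorPD.isZero_tor_of_hasProjectiveDimensionLT N j _ h1 (j + 1)
        (by omega)
  · intro h i hi
    cases i with
    | zero =>
      rw [hasProjectiveDimensionLT_zero_iff_isZero]
      have h0 := h 0 hi (𝟙_ (ModuleCat.{u} B))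
      let e : (Tor (ModuleCat.{u} B) 0).obj (ModuleCat.of B M) ≅
          tensorLeft (ModuleCat.of B M) :=
        (tensorLeft (ModuleCat.of B M)).leftDerivedZeroIsoSelf
      have h1 : IsZero ((ModuleCat.of B M) ⊗ 𝟙_ (ModuleCat.{u} B)) :=
        h0.of_iso (e.app _).symm
      exact h1.of_iso (ρ_ _).symm
    | succ j =>
      exact key A B j M (fun N => h (j + 1) hi N)

end Groth.Agent.S5936
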