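import Groth.Statements.S5939
import Mathlib

set_option autoImplicit false
universe u
open CategoryTheory AlgebraicGeometry
open Unram17

namespace Groth.Agent.S5939

section Aux

theorem qc_aux {X Y Z : Scheme.{u}} (f : X ⟶ Y) (g : Y ⟶ Z) [Surjective f]
    (hfg : QuasiCompact (f ≫ g)) : QuasiCompact g := by
  refine ⟨fun U hUo hUc => ?_⟩
  have h1 : IsCompact ((f ≫ g).base ⁻¹' U) := hfg.isCompact_preimage U hUo hUc
  have h3 : g.base ⁻¹' U = f.base '' ((f ≫ g).base ⁻¹' U) := by
    ext y
    constructor
    · intro hy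
      obtain ⟨x, rfl⟩ := f.surjective y
      exact ⟨x, hy, rfl⟩
    · rintro ⟨x, hx, rfl⟩
      exact hx
  change IsCompact (g.base ⁻¹' U)
  rw [h3]
  exact h1.image f.continuous

theorem qs_aux {X Y Z : Scheme.{u}} (f : X ⟶ Y) (g : Y ⟶ Z) [Surjective f]
    (hf : QuasiCompact f) [QuasiSeparated (f ≫ g)] : QuasiSeparated g := by
  rw [HasAffineProperty.eq_targetAffineLocally (P := @QuasiSeparated)]
  intro U
  change QuasiSeparatedSpace ↥(g ⁻¹ᵁ U.1).toScheme
  refine (isQuasiSeparated_iff_quasiSeparatedSpace _ (g ⁻¹ᵁ U.1).2).mp ?_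
  have hU : IsQuasiSeparated (U.1 : Set Z) := U.2.isQuasiSeparated
  have hfg : IsQuasiSeparated ((f ≫ g).base ⁻¹' (U.1 : Set Z)) :=
    (f ≫ g).isQuasiSeparated_preimage hU
  intro V W hVs hVo hVc hWs hWo hWc
  have hV' : IsCompact (f.base ⁻¹' V) := hf.isCompact_preimage V hVo hVc
  have hW' : IsCompact (f.base ⁻¹' W) := hf.isCompact_preimage W hWo hWc
  have key := hfg (f.base ⁻¹' V) (f.base ⁻¹' W) (fun x hx => hVs hx) (hVo.preimage f.continuous) hV'
    (fun x hx => hWs hx) (hWo.preimage f.continuous) hW'
  have e : V ∩ W = f.base '' (f.base ⁻¹' V ∩ f.base ⁻¹' W) := by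
    rw [← Set.preimage_inter, Set.image_preimage_eq _ f.surjective]
  rw [e]
  exact key.image f.continuous

end Aux

/-- Let f : X ⟶ Y be faithfully flat, locally of finite presentation and quasi-compact, and let g : Y ⟶
Z be a morphism such that f ≫ g is of finite presentation (locally of finite presentation,
quasi-compact and quasi-separated). Then g is quasi-compact and quasi-separated; together with the
descent of local finite presentation along f this says that g is of finite presentation. This is the
case f quasi-compact. -/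
theorem result {X Y Z : Scheme.{u}} (f : X ⟶ Y) (g : Y ⟶ Z)
    [Surjective f] [Flat f] [LocallyOfFinitePresentation f] [QuasiCompact f]
    [LocallyOfFinitePresentation (f ≫ g)] [QuasiCompact (f ≫ g)] [QuasiSeparated (f ≫ g)] :
    QuasiCompact g ∧ QuasiSeparated g := by
  exact ⟨qc_aux f g inferInstance, qs_aux f g inferInstance⟩

end Groth.Agent.S5939
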