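import Groth.Statements.S5942
import Mathlib
import Groth.Agent.H24.UnramLocus

set_option autoImplicit false
universe u
open CategoryTheory AlgebraicGeometry
open Unram17

namespace Groth.Agent.S5942

/-- Let S = lim S_i be a cofiltered limit of schemes with affine transition maps, let X₀ and Y₀ be
schemes locally of finite presentation over a stage S_{i₀}, f₀ : X₀ ⟶ Y₀ an S_{i₀}-morphism, and f :
X ⟶ Y the base change of f₀ along S ⟶ S_{i₀} (base changes are expressed by pullback squares).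
Assume X₀ quasi-compact. Then f is formally unramified if and only if, for some index j over i₀, the
base change f_j : X_j ⟶ Y_j of f₀ along S_j ⟶ S_{i₀} is formally unramified (f and every f_j are
locally of finite presentation, being morphisms between schemes locally of finite presentation over
a common base, so formally unramified means unramified here). This is the case of unramified
morphisms. -/
theorem result {I : Type u} [SmallCategory I] [IsCofiltered I]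
    (D : I ⥤ Scheme.{u}) (c : Limits.Cone D) (hc : Limits.IsLimit c)
    [∀ (i j : I) (f : i ⟶ j), IsAffineHom (D.map f)] (i₀ : I)
    {X₀ Y₀ : Scheme.{u}} (f₀ : X₀ ⟶ Y₀) (g₀ : Y₀ ⟶ D.obj i₀)
    [LocallyOfFinitePresentation g₀] [LocallyOfFinitePresentation (f₀ ≫ g₀)]
    [CompactSpace ↥X₀]
    {X Y : Scheme.{u}} (f : X ⟶ Y) (g : Y ⟶ c.pt) (qY : Y ⟶ Y₀) (qX : X ⟶ X₀)
    (hY : IsPullback qY g g₀ (c.π.app i₀)) (hX : IsPullback qX f f₀ qY) :
    FormallyUnramified f ↔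
      ∃ (j : I) (φ : j ⟶ i₀) (Xj Yj : Scheme.{u}) (fj : Xj ⟶ Yj) (gj : Yj ⟶ D.obj j) (pY : Yj ⟶ Y₀)
        (pX : Xj ⟶ X₀), IsPullback pY gj g₀ (D.map φ) ∧ IsPullback pX fj f₀ pY ∧ FormallyUnramified fj := by
  have hAff : ∀ {i j : I} (f : i ⟶ j), IsAffineHom (D.map f) := fun f => inferInstance
  have hlft0 : LocallyOfFiniteType (f₀ ≫ g₀) := inferInstance
  have hlft : LocallyOfFiniteType f₀ := locallyOfFiniteType_of_comp f₀ g₀
  constructor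
  · intro hf
    have hXY := hX.paste_vert hY
    have haffX : ∀ l : Over i₀,
        IsAffineHom (Limits.pullback.fst (f₀ ≫ g₀) (D.map (l.hom ≫ 𝟙 i₀))) :=
      fun l => MorphismProperty.pullback_fst (P := @IsAffineHom) _ _ inferInstance
    have hcX' : ∀ l : Over i₀,
        CompactSpace ↥(Limits.pullback (f₀ ≫ g₀) (D.map (l.hom ≫ 𝟙 i₀))) :=
      fun l => QuasiCompact.compactSpace_of_compactSpace
        (Limits.pullback.fst (f₀ ≫ g₀) (D.map (l.hom ≫ 𝟙 i₀)))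
    have hcX : ∀ l : Over i₀, CompactSpace ↥((H24.pbDiagram D (𝟙 i₀) (f₀ ≫ g₀)).obj l) := hcX'
    have htop : (H24.pbCone D (𝟙 i₀) (f₀ ≫ g₀) c qX (f ≫ g) hXY.w).π.app (Over.mk (𝟙 i₀)) ⁻¹ᵁ
        (Limits.pullback.fst (f₀ ≫ g₀) (D.map ((Over.mk (𝟙 i₀)).hom ≫ 𝟙 i₀)) ⁻¹ᵁ
          H24.unramLocus f₀) = ⊤ := by
      change H24.pbLift D (𝟙 i₀) (f₀ ≫ g₀) c qX (f ≫ g) hXY.w (Over.mk (𝟙 i₀)) ⁻¹ᵁ
        (Limits.pullback.fst (f₀ ≫ g₀) (D.map ((Over.mk (𝟙 i₀)).hom ≫ 𝟙 i₀)) ⁻¹ᵁ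
          H24.unramLocus f₀) = ⊤
      rw [← Scheme.Hom.comp_preimage, H24.pbLift_fst,
        ← H24.unramLocus_eq_preimage_of_isPullback hX]
      exact (H24.formallyUnramified_iff_unramLocus_eq_top f).mp hf
    obtain ⟨j, a, hj⟩ := exists_map_eq_top (H24.pbDiagram D (𝟙 i₀) (f₀ ≫ g₀))
      (H24.pbCone D (𝟙 i₀) (f₀ ≫ g₀) c qX (f ≫ g) hXY.w)
      (H24.isLimitPbCone D (𝟙 i₀) (f₀ ≫ g₀) c hc qX (f ≫ g) hXY) _ htop
    have hj' : H24.pbMap D (𝟙 i₀) (f₀ ≫ g₀) a ⁻¹ᵁ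
        (Limits.pullback.fst (f₀ ≫ g₀) (D.map ((Over.mk (𝟙 i₀)).hom ≫ 𝟙 i₀)) ⁻¹ᵁ
          H24.unramLocus f₀) = ⊤ := hj
    rw [← Scheme.Hom.comp_preimage, H24.pbMap_fst] at hj'
    have hfj : FormallyUnramified (H24.pbRel D (𝟙 i₀) f₀ g₀ j) := by
      rw [H24.formallyUnramified_iff_unramLocus_eq_top,
        H24.unramLocus_eq_preimage_of_isPullback (H24.isPullback_pbRel D (𝟙 i₀) f₀ g₀ j)]
      exact hj'
    exact ⟨j.left, j.hom ≫ 𝟙 i₀, _, _, H24.pbRel D (𝟙 i₀) f₀ g₀ j, Limits.pullback.snd g₀ _,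
      Limits.pullback.fst g₀ _, Limits.pullback.fst (f₀ ≫ g₀) _, IsPullback.of_hasPullback _ _,
      H24.isPullback_pbRel D (𝟙 i₀) f₀ g₀ j, hfj⟩
  · rintro ⟨j, φ, Xj, Yj, fj, gj, pY, pX, hYj, hXj, hfj⟩
    have e1 : qY ≫ g₀ = (g ≫ c.π.app j) ≫ D.map φ := by rw [Category.assoc, c.w, hY.w]
    obtain ⟨rY, hrY1, hrY2⟩ : ∃ rY : Y ⟶ Yj, rY ≫ pY = qY ∧ rY ≫ gj = g ≫ c.π.app j :=
      ⟨hYj.lift qY (g ≫ c.π.app j) e1, hYj.lift_fst _ _ _, hYj.lift_snd _ _ _⟩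
    have e2 : qX ≫ f₀ = (f ≫ rY) ≫ pY := by rw [Category.assoc, hrY1, hX.w]
    obtain ⟨rX, hrX1, hrX2⟩ : ∃ rX : X ⟶ Xj, rX ≫ pX = qX ∧ rX ≫ fj = f ≫ rY :=
      ⟨hXj.lift qX (f ≫ rY) e2, hXj.lift_fst _ _ _, hXj.lift_snd _ _ _⟩
    rw [H24.formallyUnramified_iff_unramLocus_eq_top,
      H24.unramLocus_eq_preimage_of_isPullback hX, ← hrX1, Scheme.Hom.comp_preimage,
      ← H24.unramLocus_eq_preimage_of_isPullback hXj,
      (H24.formallyUnramified_iff_unramLocus_eq_top fj).mp hfj]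
    rfl

end Groth.Agent.S5942
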