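import Groth.Statements.S5949
import Groth.Agent.H49.NormIso

set_option autoImplicit false
universe u
open CategoryTheory AlgebraicGeometry
open Unram17

namespace Groth.Agent.S5949


/-- Let X be an integral scheme, X' ⟶ X its normalization (the normalization of X in its function
field), and f : Y ⟶ X a morphism of schemes. Then there is an isomorphism Y ≅ X' over X if and only
if: every local ring of Y is an integrally closed domain, f is an integral morphism, and f is
birational, i.e. Y is irreducible, the fibre of f over the generic point of X consists of the
generic point of Y alone, and the induced map of local rings at the generic points is an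
isomorphism. (The published statement allows X reduced with locally finitely many irreducible
components, the normalization then being taken componentwise; this row states the case of an
integral X. The quasi-compactness and quasi-separatedness binders on the generic point always hold
and only serve to form the normalization.) -/
theorem result (X : Scheme.{u}) [IsIntegral X]
    [QuasiCompact (X.fromSpecStalk (genericPoint X))] [QuasiSeparated (X.fromSpecStalk (genericPoint X))]
    {Y : Scheme.{u}} (f : Y ⟶ X) :
    (∃ e : Y ≅ Curv2.normalization X, e.hom ≫ Curv2.normalizationι X = f) ↔
      Pi1.IsNormalScheme Y ∧ IsIntegralHom f ∧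
        ∃ _ : IrreducibleSpace ↥Y, f.base ⁻¹' {genericPoint X} = {genericPoint Y} ∧
          IsIso (f.stalkMap (genericPoint Y)) := by
  show (∃ e : Y ≅ (Groth.Agent.H49.NormIso.gj X).normalization,
    e.hom ≫ (Groth.Agent.H49.NormIso.gj X).fromNormalization = f) ↔ _
  constructor
  · rintro ⟨e, rfl⟩
    obtain ⟨h1, h2, h3, -, h4, h5⟩ := Groth.Agent.H49.NormIso.props_of_iso X e
    exact ⟨h1, h2, inferInstance, h4, h5⟩
  · rintro ⟨hN, hint, hirr, hfib, hiso⟩
    haveI := hint
    haveI : IsReduced Y := by
      haveI : ∀ y : Y, _root_.IsReduced (Y.presheaf.stalk y) := fun y => by
        haveI := (hN y).1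
        infer_instance
      exact isReduced_of_isReduced_stalk Y
    haveI : IsIntegral Y := isIntegral_of_irreducibleSpace_of_isReduced Y
    have hfη : f (genericPoint Y) = genericPoint X := by
      have : genericPoint Y ∈ f.base ⁻¹' {genericPoint X} := by rw [hfib]; rfl
      exact this
    exact Groth.Agent.H49.NormIso.exists_iso_of_birational X f (fun y => (hN y).2) hfη hiso

end Groth.Agent.S5949
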