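import Groth.Statements.S5951
import Mathlib
import Groth.Agent.H93.NilPull
import Groth.Agent.H93.IdealComap

set_option autoImplicit false
set_option maxHeartbeats 400000
universe u
open CategoryTheory CategoryTheory.Limits AlgebraicGeometry TopologicalSpace Opposite
open Nrm16

namespace Groth.Agent.S5951

open AlgebraicGeometry CategoryTheory Limits in
theorem isPullback_subscheme_comap {X X' : Scheme.{u}} (v : X' ⟶ X) (K : X.IdealSheafData)
    (K' : X'.IdealSheafData) (hK : K' = K.comap v) (w : K'.subscheme ⟶ K.subscheme)
    (hw : w ≫ K.subschemeι = K'.subschemeι ≫ v) :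
    IsPullback w K'.subschemeι K.subschemeι v := by
  subst hK
  have h1 : IsPullback ((K.comapIso v).hom ≫ pullback.snd v K.subschemeι)
      ((K.comapIso v).hom ≫ pullback.fst v K.subschemeι) K.subschemeι v :=
    IsPullback.of_iso_pullback ⟨by simp [pullback.condition]⟩ (K.comapIso v)
      (by simp) (by simp) |>.flip
  have h2 : w = (K.comapIso v).hom ≫ pullback.snd v K.subschemeι := by
    rw [← cancel_mono K.subschemeι, hw, Category.assoc, ← pullback.condition,
      Scheme.IdealSheafData.comapIso_hom_fst_assoc]
  rw [h2]
  rw [Scheme.IdealSheafData.comapIso_hom_fst] at h1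
  exact h1

/-- Let f : Y ⟶ X be a closed immersion, v : X' ⟶ X a morphism and Y' a fibre product of Y and X' over
X, with projections u : Y' ⟶ Y and f' : Y' ⟶ X'. For each n let w be the morphism from the n-th
infinitesimal neighbourhood of f' to that of f compatible with the two inclusions and v (it is
unique, the inclusions being closed immersions). Then w and the inclusion of the neighbourhood of f'
into X' exhibit that neighbourhood as the fibre product of the n-th infinitesimal neighbourhood of f
with X' over X. (The published statement allows f to be any immersion, or any morphism with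
surjective comorphism when v is flat; this row states the case of a closed immersion.) -/
theorem result {Y X Y' X' : Scheme.{u}} (f : Y ⟶ X) [IsClosedImmersion f]
    (v : X' ⟶ X) (u : Y' ⟶ Y) (f' : Y' ⟶ X') (hsq : IsPullback u f' f v) (n : ℕ)
    (w : PrinPart.infNbhd f' n ⟶ PrinPart.infNbhd f n)
    (hw : w ≫ PrinPart.infNbhdι f n = PrinPart.infNbhdι f' n ≫ v) :
    IsPullback w (PrinPart.infNbhdι f' n) (PrinPart.infNbhdι f n) v := by
  apply isPullback_subscheme_comap v (f.ker ^ (n + 1)) (f'.ker ^ (n + 1)) _ w hw
  rw [Groth.Agent.H93.IdealComap.comap_pow,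
    Groth.Agent.H93.NilPull.ker_eq_comap_of_isPullback hsq.flip]

end Groth.Agent.S5951
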