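import Groth.Statements.S5961
-- import your own Groth.Agent.* helpers here
import Groth.Agent.H39.PrinPartOne
import Groth.Agent.H39.DerKit
import Groth.Agent.H18.FreeEpi

set_option autoImplicit false
universe u
open CategoryTheory CategoryTheory.Limits AlgebraicGeometry TopologicalSpace Opposite
open Nrm16

namespace Groth.Agent.S5961


open OmegaSh Groth.Agent.H39.PrinPartOne Groth.Agent.H39.PrinPartGen

section Aux

variable {X S : Scheme.{u}} (f : X ⟶ S) (G : X.Modules) (u : PrinPart.P f 1 ⟶ G)

theorem hom_app_map {M N : X.Modules} (φ : M ⟶ N) {U V : X.Opens} (h : V ≤ U) (x : Γ(M, U)) :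
    φ.app V (M.presheaf.map (homOfLE h).op x) = N.presheaf.map (homOfLE h).op (φ.app U x) :=
  congr($(φ.mapPresheaf.naturality (homOfLE h).op) x)

/-- The operator attached to `u`. -/
noncomputable def D0 (U : X.Opens) : Γ(X, U) →+ Γ(G, U) :=
  (u.app U).hom.comp (PrinPart.dn f 1 U)

theorem D0_apply (U : X.Opens) (a : Γ(X, U)) : D0 f G u U a = u.app U (PrinPart.dn f 1 U a) := rfl

theorem D0_map {U V : X.Opens} (h : V ≤ U) (a : Γ(X, U)) :
    D0 f G u V (X.presheaf.map (homOfLE h).op a) = G.presheaf.map (homOfLE h).op (D0 f G u U a) := by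
  rw [D0_apply, D0_apply, dn_map, hom_app_map]

theorem D0_mul (U : X.Opens) (s t : Γ(X, U)) :
    D0 f G u U (s * t) + (s * t) • D0 f G u U 1 = s • D0 f G u U t + t • D0 f G u U s := by
  have h := congrArg (fun z => u.app U z) (dn_mul f U s t)
  simp only [map_add, Scheme.Modules.Hom.app_smul] at h
  exact h

theorem D0_base (V : S.Opens) (r : Γ(S, V)) :
    D0 f G u (f ⁻¹ᵁ V) ((f.app V).hom r) = ((f.app V).hom r) • D0 f G u (f ⁻¹ᵁ V) 1 := by
  have h := congrArg (fun z => u.app (f ⁻¹ᵁ V) z) (dn_base f 1 V r)
  simp only [Scheme.Modules.Hom.app_smul] at h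
  exact h

/-- The derivation part on sections. -/
noncomputable def dU (U : X.Opens) : Γ(X, U) →+ Γ(G, U) where
  toFun s := D0 f G u U s - s • D0 f G u U 1
  map_zero' := by simp
  map_add' a b := by rw [map_add, add_smul]; abel

theorem dU_apply (U : X.Opens) (s : Γ(X, U)) :
    dU f G u U s = D0 f G u U s - s • D0 f G u U 1 := rfl

theorem dU_mul (U : X.Opens) (a b : Γ(X, U)) :
    dU f G u U (a * b) = a • dU f G u U b + b • dU f G u U a := by
  have h := D0_mul f G u U a b
  rw [dU_apply, dU_apply, dU_apply, smul_sub, smul_sub, smul_smul, smul_smul, mul_comm b a,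
    eq_sub_of_add_eq h]
  abel

theorem D0_one_map {U V : X.Opens} (h : V ≤ U) :
    G.presheaf.map (homOfLE h).op (D0 f G u U 1) = D0 f G u V 1 := by
  rw [← D0_map, map_one]

theorem dU_map {U V : X.Opens} (h : V ≤ U) (a : Γ(X, U)) :
    dU f G u V (X.presheaf.map (homOfLE h).op a) = G.presheaf.map (homOfLE h).op (dU f G u U a) := by
  rw [dU_apply, dU_apply, map_sub, Scheme.Modules.map_smul, D0_one_map, D0_map]

theorem dU_base (V : S.Opens) (r : Γ(S, V)) : dU f G u (f ⁻¹ᵁ V) ((f.app V).hom r) = 0 := by
  rw [dU_apply, D0_base, sub_self]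

/-- The derivation. -/
noncomputable def der : OmegaSh.Der f G where
  d {V} := dU f G u V.unop
  d_mul {V} a b := dU_mul f G u V.unop a b
  d_map {V W} g x := dU_map f G u (leOfHom g.unop) x
  d_app {W} a := dU_base f G u W.unop a

theorem der_app (U : X.Opens) (a : Γ(X, U)) : (der f G u).app U a = dU f G u U a := rfl

/-- The family of sections `D 1`. -/
noncomputable def vSec : SheafOfModules.sections (R := X.ringCatSheaf) G :=
  PresheafOfModules.sectionsMk (fun V => (D0 f G u V.unop 1 : Γ(G, V.unop)))
    (fun V V' g => D0_one_map f G u (leOfHom g.unop))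

/-- The linear part. -/
noncomputable def vHom : Coh.structureModule X ⟶ G :=
  (SheafOfModules.unitHomEquiv (R := X.ringCatSheaf) G).symm (vSec f G u)

set_option backward.isDefEq.respectTransparency false in
theorem vHom_app (U : X.Opens) (a : Γ(X, U)) :
    (vHom f G u).app U (strSect X U a) = a • D0 f G u U 1 :=
  Groth.Agent.H18.FreeEpi.unitHomEquiv_symm_app_apply G (vSec f G u) U a

end Aux


/-- Let f : X ⟶ S be a morphism of schemes, G an O_X-module and D : O_X ⟶ G a differential operator of
order at most 1 relative to S. Then D can be written in exactly one way as v + d with v : O_X ⟶ G an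
O_X-linear map and d an S-derivation of O_X into G. -/
theorem result {X S : Scheme.{u}} (f : X ⟶ S) (G : X.Modules)
    (D : (Coh.structureModule X).presheaf ⟶ G.presheaf)
    (hD : PrinPart.IsDiffOpLE f (Coh.structureModule X) G 1 D) :
    ∃! p : (Coh.structureModule X ⟶ G) × OmegaSh.Der f G,
      ∀ (U : X.Opens) (a : Γ(X, U)),
        D.app (op U) (OmegaSh.strSect X U a) = p.1.app U (OmegaSh.strSect X U a) + p.2.app U a := by
  obtain ⟨u, hu⟩ := hD
  have hD0 : ∀ (U : X.Opens) (a : Γ(X, U)),
      D.app (op U) (OmegaSh.strSect X U a) = D0 f G u U a := fun U a => hu U _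
  refine ⟨(vHom f G u, der f G u), ?_, ?_⟩
  · intro U a
    show _ = (vHom f G u).app U (OmegaSh.strSect X U a) + (der f G u).app U a
    rw [hD0, vHom_app, der_app, dU_apply]
    abel
  · rintro ⟨v', d'⟩ h
    have h1 : ∀ (U : X.Opens), v'.app U (OmegaSh.strSect X U 1) = D0 f G u U 1 := by
      intro U
      have := h U 1
      rw [hD0] at this
      have hd : d'.app U 1 = 0 := PresheafOfModules.Derivation.d_one d' (op U)
      simp only [hd, add_zero] at this
      exact this.symm
    have h2 : ∀ (U : X.Opens) (a : Γ(X, U)),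
        v'.app U (OmegaSh.strSect X U a) = a • D0 f G u U 1 := by
      intro U a
      rw [← h1, ← Scheme.Modules.Hom.app_smul]
      congr 1
      exact (mul_one a).symm
    have hv : v' = vHom f G u := by
      apply Scheme.Modules.hom_ext
      intro U
      ext x
      exact (h2 U x).trans (vHom_app f G u U x).symm
    have hd : d' = der f G u := by
      apply Groth.Agent.H39.DerKit.der_ext
      intro U a
      have := h U a
      rw [hD0] at this
      simp only at this
      rw [der_app, dU_apply, this, h2]
      abel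
    rw [hv, hd]

end Groth.Agent.S5961
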