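import Groth.Statements.S5969
import Mathlib
import Groth.Agent.H93.IdealComap

set_option autoImplicit false
set_option maxHeartbeats 400000
universe u
open CategoryTheory CategoryTheory.Limits AlgebraicGeometry TopologicalSpace Opposite
open Nrm16

namespace Groth.Agent.S5969

open AlgebraicGeometry CategoryTheory Limits in
theorem exists_sigma {X W : Scheme.{u}} (c : X ⟶ W) (τ : W ⟶ W) (hc : c ≫ τ = c) (n : ℕ) :
    ∃ σ : (c.ker ^ (n + 1)).subscheme ⟶ (c.ker ^ (n + 1)).subscheme,
      σ ≫ (c.ker ^ (n + 1)).subschemeι = (c.ker ^ (n + 1)).subschemeι ≫ τ := by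
  have hK : c.ker.comap τ ≤ c.ker := by
    rw [← Scheme.IdealSheafData.le_map_iff_comap_le, Scheme.IdealSheafData.map_ker, hc]
  have hN : (c.ker ^ (n + 1)).comap τ ≤ c.ker ^ (n + 1) := by
    rw [Groth.Agent.H93.IdealComap.comap_pow]
    exact pow_le_pow_left' hK (n + 1)
  have hH : ((c.ker ^ (n + 1)).subschemeι).ker ≤ ((c.ker ^ (n + 1)).subschemeι ≫ τ).ker := by
    rw [Scheme.Hom.ker_comp, Scheme.IdealSheafData.ker_subschemeι,
      Scheme.IdealSheafData.le_map_iff_comap_le]
    exact hN
  exact ⟨IsClosedImmersion.lift _ _ hH, IsClosedImmersion.lift_fac _ _ hH⟩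

/-- Let f : X ⟶ S be a morphism of schemes and n a natural number. On the order-n infinitesimal
thickening of the diagonal of f there is an endomorphism σ which is compatible, under the immersion
into X ×_S X, with the symmetry exchanging the two factors; σ is an involution, it exchanges the two
projections to X (so it exchanges the two O_X-algebra structures of P^n_{X/S}) and it fixes the
diagonal section. -/
theorem result {X S : Scheme.{u}} (f : X ⟶ S) (n : ℕ) :
    ∃ σ : PrinPart.nbhd f n ⟶ PrinPart.nbhd f n,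
      σ ≫ PrinPart.nbhdι f n = PrinPart.nbhdι f n ≫ (pullbackSymmetry f f).hom ∧
      σ ≫ σ = 𝟙 (PrinPart.nbhd f n) ∧
      σ ≫ PrinPart.pr1 f n = PrinPart.pr2 f n ∧ σ ≫ PrinPart.pr2 f n = PrinPart.pr1 f n ∧
      PrinPart.toNbhd f n ≫ σ = PrinPart.toNbhd f n := by
  have hττ : (pullbackSymmetry f f).hom ≫ (pullbackSymmetry f f).hom = 𝟙 _ := by
    apply pullback.hom_ext <;> simp
  have hΔτ : pullback.diagonal f ≫ (pullbackSymmetry f f).hom = pullback.diagonal f := by
    apply pullback.hom_ext <;> simp
  have hpre : (pullbackSymmetry f f).hom ⁻¹' (Set.range (pullback.diagonal f)) =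
      Set.range (pullback.diagonal f) := by
    ext x
    constructor
    · rintro ⟨y, hy⟩
      refine ⟨y, ?_⟩
      have h1 : (pullbackSymmetry f f).hom ((pullbackSymmetry f f).hom x) = x :=
        congrArg (fun g : pullback f f ⟶ pullback f f => g x) hττ
      have h2 : (pullbackSymmetry f f).hom (pullback.diagonal f y) = pullback.diagonal f y :=
        congrArg (fun g : X ⟶ pullback f f => g y) hΔτ
      rw [← h1, ← hy, h2]
    · rintro ⟨y, rfl⟩
      exact ⟨y, (congrArg (fun g : X ⟶ pullback f f => g y) hΔτ).symm⟩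
  have hW : (pullback.diagonal f).coborderRange ≤
      (pullbackSymmetry f f).hom ⁻¹ᵁ (pullback.diagonal f).coborderRange := by
    intro x hx
    have h1 := coborder_preimage (f := (pullbackSymmetry f f).hom)
      (pullbackSymmetry f f).hom.isOpenEmbedding.isOpenMap
      (pullbackSymmetry f f).hom.continuous (Set.range (pullback.diagonal f))
    rw [hpre] at h1
    have hx' : x ∈ coborder (Set.range (pullback.diagonal f)) := hx
    rw [h1] at hx'
    exact hx'
  have hτW : (pullbackSymmetry f f).hom.resLE _ _ hW ≫ (pullback.diagonal f).coborderRange.ι =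
      (pullback.diagonal f).coborderRange.ι ≫ (pullbackSymmetry f f).hom :=
    Scheme.Hom.resLE_comp_ι _ _
  have hcτ : PrinPart.diagCl f ≫ (pullbackSymmetry f f).hom.resLE _ _ hW = PrinPart.diagCl f := by
    rw [← cancel_mono (pullback.diagonal f).coborderRange.ι, Category.assoc, hτW,
      Scheme.Hom.liftCoborder_ι_assoc, hΔτ, Scheme.Hom.liftCoborder_ι]
  obtain ⟨σ, hσ⟩ := exists_sigma (PrinPart.diagCl f) _ hcτ n
  have hσι : σ ≫ PrinPart.nbhdι f n = PrinPart.nbhdι f n ≫ (pullbackSymmetry f f).hom := by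
    rw [PrinPart.nbhdι, PrinPart.infNbhdι, ← Category.assoc, hσ, Category.assoc, hτW,
      Category.assoc]
  haveI hmono : Mono (PrinPart.nbhdι f n) := by
    rw [PrinPart.nbhdι, PrinPart.infNbhdι]
    infer_instance
  refine ⟨σ, hσι, ?_, ?_, ?_, ?_⟩
  · rw [← cancel_mono (PrinPart.nbhdι f n), Category.assoc, hσι, ← Category.assoc, hσι,
      Category.assoc, hττ, Category.comp_id, Category.id_comp]
  · rw [PrinPart.pr1, PrinPart.pr2, ← Category.assoc, hσι, Category.assoc,
      pullbackSymmetry_hom_comp_fst]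
  · rw [PrinPart.pr1, PrinPart.pr2, ← Category.assoc, hσι, Category.assoc,
      pullbackSymmetry_hom_comp_snd]
  · rw [← cancel_mono (PrinPart.nbhdι f n), Category.assoc, hσι, ← Category.assoc,
      PrinPart.toNbhd_ι, hΔτ]

end Groth.Agent.S5969
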