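import Groth.Statements.S9838
import Groth.Agent.H8.FinType
import Groth.Agent.H8.Coh
import Groth.Agent.H8.QCohPush
import Mathlib.AlgebraicGeometry.Morphisms.Finite

set_option autoImplicit false
open CategoryTheory CategoryTheory.Limits AlgebraicGeometry Opposite
universe u
open Desc

namespace Groth.Agent.S9838

/-- Let f : X ⟶ Y be a finite morphism of schemes and F a quasi-coherent O_X-module. The pushforward
f_*F is of finite type as an O_Y-module exactly when F itself is of finite type as an O_X-module. -/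
theorem result {X Y : Scheme.{u}} (f : X ⟶ Y) [IsFinite f]
    (F : X.Modules) [F.IsQuasicoherent] :
    SheafOfModules.IsFiniteType (R := X.ringCatSheaf) F ↔
      SheafOfModules.IsFiniteType (R := Y.ringCatSheaf) ((Scheme.Modules.pushforward f).obj F) := by
  haveI hq : ((Scheme.Modules.pushforward f).obj F).IsQuasicoherent :=
    Groth.Agent.H8.isQuasicoherent_pushforward f F
  -- the common set-up over an affine open `V` of `Y`
  have key : ∀ V : Y.affineOpens,
      (Module.Finite Γ(X, f ⁻¹ᵁ (V : Y.Opens)) Γ(F, f ⁻¹ᵁ (V : Y.Opens)) ↔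
        Module.Finite Γ(Y, (V : Y.Opens))
          Γ((Scheme.Modules.pushforward f).obj F, (V : Y.Opens))) := by
    intro V
    have h2 : (f.app (V : Y.Opens)).hom.Finite := IsFinite.finite_app f (V : Y.Opens) V.2
    letI : Algebra Γ(Y, (V : Y.Opens)) Γ(X, f ⁻¹ᵁ (V : Y.Opens)) :=
      (f.app (V : Y.Opens)).hom.toAlgebra
    haveI : Module.Finite Γ(Y, (V : Y.Opens)) Γ(X, f ⁻¹ᵁ (V : Y.Opens)) := h2
    letI : Module Γ(Y, (V : Y.Opens)) Γ(F, f ⁻¹ᵁ (V : Y.Opens)) :=
      (show Module Γ(Y, (V : Y.Opens))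
        Γ((Scheme.Modules.pushforward f).obj F, (V : Y.Opens)) from inferInstance)
    haveI : IsScalarTower Γ(Y, (V : Y.Opens)) Γ(X, f ⁻¹ᵁ (V : Y.Opens))
        Γ(F, f ⁻¹ᵁ (V : Y.Opens)) :=
      IsScalarTower.of_algebraMap_smul (fun r m => rfl)
    constructor
    · intro h1
      exact Module.Finite.trans Γ(X, f ⁻¹ᵁ (V : Y.Opens)) Γ(F, f ⁻¹ᵁ (V : Y.Opens))
    · intro h1
      haveI : Module.Finite Γ(Y, (V : Y.Opens)) Γ(F, f ⁻¹ᵁ (V : Y.Opens)) := h1
      exact Module.Finite.of_restrictScalars_finite Γ(Y, (V : Y.Opens))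
        Γ(X, f ⁻¹ᵁ (V : Y.Opens)) Γ(F, f ⁻¹ᵁ (V : Y.Opens))
  constructor
  · intro hF
    apply Groth.Agent.H8.isFiniteType_of_forall_affine_finite
    intro V
    have hW : IsAffineOpen (f ⁻¹ᵁ (V : Y.Opens)) := V.2.preimage f
    exact (key V).mp (Groth.Agent.H8.finite_sections_of_isAffineOpen F hW)
  · intro hF
    have hcover : TopologicalSpace.IsOpenCover (fun V : Y.affineOpens => f ⁻¹ᵁ (V : Y.Opens)) := by
      refine eq_top_iff.mpr (fun x _ => ?_)
      have hx : f x ∈ (⨆ V : Y.affineOpens, (V : Y.Opens)) := by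
        rw [iSup_affineOpens_eq_top]; trivial
      obtain ⟨V, hxV⟩ := TopologicalSpace.Opens.mem_iSup.mp hx
      exact TopologicalSpace.Opens.mem_iSup.mpr ⟨V, hxV⟩
    refine Groth.Agent.H8.isFiniteType_of_finite_sections F
      (fun V : Y.affineOpens => f ⁻¹ᵁ (V : Y.Opens)) hcover (fun V => V.2.preimage f) (fun V => ?_)
    exact (key V).mpr (Groth.Agent.H8.finite_sections_of_isAffineOpen
      ((Scheme.Modules.pushforward f).obj F) V.2)

end Groth.Agent.S9838
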