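import Groth.Statements.S5972
-- import your own Groth.Agent.* helpers here
import Groth.Agent.H39.PrinPartLocal

set_option autoImplicit false
universe u
open CategoryTheory CategoryTheory.Limits AlgebraicGeometry TopologicalSpace Opposite
open Nrm16

namespace Groth.Agent.S5972



/-- Let A → B be a ring homomorphism, X = Spec B, S = Spec A with f : X ⟶ S the induced morphism, and n
a natural number; identify B with the ring of global functions on X through the canonical
isomorphism. If ψ : B ⊗_A B → Γ(X, P^n_{X/S}) is the additive map with ψ(b ⊗ b') = b · d^n(b') for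
all b, b' in B, then ψ is surjective with kernel the (n+1)-st power of the kernel I of the
multiplication map B ⊗_A B → B. -/
theorem result (A B : Type u) [CommRing A] [CommRing B] [Algebra A B] (n : ℕ)
    (ψ : TensorProduct A B B →+
      Γ(PrinPart.P (Spec.map (CommRingCat.ofHom (algebraMap A B))) n, (⊤ : (Spec (CommRingCat.of B)).Opens)))
    (hψ : ∀ b b' : B, ψ (b ⊗ₜ[A] b') =
      (Scheme.ΓSpecIso (CommRingCat.of B)).inv b •
        PrinPart.dn (Spec.map (CommRingCat.ofHom (algebraMap A B))) n ⊤
          ((Scheme.ΓSpecIso (CommRingCat.of B)).inv b')) :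
    Function.Surjective ψ ∧ ψ.ker = (KaehlerDifferential.ideal A B ^ (n + 1)).toAddSubgroup := by
  have hU : IsAffineOpen (⊤ : (Spec (CommRingCat.of B)).Opens) := isAffineOpen_top _
  have hV : IsAffineOpen (⊤ : (Spec (CommRingCat.of A)).Opens) := isAffineOpen_top _
  have hUV : (⊤ : (Spec (CommRingCat.of B)).Opens) ≤
      Spec.map (CommRingCat.ofHom (algebraMap A B)) ⁻¹ᵁ ⊤ := fun _ _ => trivial
  obtain ⟨Φ, hΦs, hΦm, hΦk⟩ := Groth.Agent.H39.PrinPartLocal.exists_structure
    (Spec.map (CommRingCat.ofHom (algebraMap A B))) n hU hV hUV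
  have H : IsPullback (pullback.fst (Spec.map (CommRingCat.ofHom (algebraMap A B)))
      (Spec.map (CommRingCat.ofHom (algebraMap A B))))
      (pullback.snd (Spec.map (CommRingCat.ofHom (algebraMap A B)))
      (Spec.map (CommRingCat.ofHom (algebraMap A B))))
      (Spec.map (CommRingCat.ofHom (algebraMap A B)))
      (Spec.map (CommRingCat.ofHom (algebraMap A B))) := IsPullback.of_hasPullback _ _
  have hpo := (isIso_pushoutSection_iff H hUV hUV rfl).mp
    (isIso_pushoutSection_of_isAffineOpen H hUV hUV rfl hV hU hU)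
  have happ : (Spec.map (CommRingCat.ofHom (algebraMap A B))).appLE ⊤ ⊤ hUV =
      (Spec.map (CommRingCat.ofHom (algebraMap A B))).appTop := by
    exact Scheme.Hom.appLE_eq_app (Spec.map (CommRingCat.ofHom (algebraMap A B))) (U := ⊤)
  have hcomm : (Spec.map (CommRingCat.ofHom (algebraMap A B))).appLE ⊤ ⊤ hUV ≫
      (Scheme.ΓSpecIso (CommRingCat.of B)).hom =
      (Scheme.ΓSpecIso (CommRingCat.of A)).hom ≫ CommRingCat.ofHom (algebraMap A B) := by
    rw [happ]
    exact Scheme.ΓSpecIso_naturality (CommRingCat.ofHom (algebraMap A B))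
  have hpo' := hpo.of_iso (Scheme.ΓSpecIso (CommRingCat.of A)) (Scheme.ΓSpecIso (CommRingCat.of B))
    (Scheme.ΓSpecIso (CommRingCat.of B)) (Iso.refl _)
    (f' := CommRingCat.ofHom (algebraMap A B)) (g' := CommRingCat.ofHom (algebraMap A B))
    (inl' := (Scheme.ΓSpecIso (CommRingCat.of B)).inv ≫
      (pullback.fst (Spec.map (CommRingCat.ofHom (algebraMap A B)))
        (Spec.map (CommRingCat.ofHom (algebraMap A B)))).appLE ⊤ _ inf_le_left)
    (inr' := (Scheme.ΓSpecIso (CommRingCat.of B)).inv ≫
      (pullback.snd (Spec.map (CommRingCat.ofHom (algebraMap A B)))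
        (Spec.map (CommRingCat.ofHom (algebraMap A B)))).appLE ⊤ _ inf_le_right)
    hcomm hcomm (by simp) (by simp)
  let e := (CommRingCat.isPushout_tensorProduct A B B).isoIsPushout _ _ hpo'
  have hl : ∀ b : B, e.hom ((b ⊗ₜ[A] (1 : B) : TensorProduct A B B)) =
      ((pullback.fst (Spec.map (CommRingCat.ofHom (algebraMap A B)))
        (Spec.map (CommRingCat.ofHom (algebraMap A B)))).appLE ⊤ _ inf_le_left).hom
        ((Scheme.ΓSpecIso (CommRingCat.of B)).inv b) := fun b =>
    congr($((CommRingCat.isPushout_tensorProduct A B B).inl_isoIsPushout_hom _ _ hpo') b)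
  have hr : ∀ b : B, e.hom (((1 : B) ⊗ₜ[A] b : TensorProduct A B B)) =
      ((pullback.snd (Spec.map (CommRingCat.ofHom (algebraMap A B)))
        (Spec.map (CommRingCat.ofHom (algebraMap A B)))).appLE ⊤ _ inf_le_right).hom
        ((Scheme.ΓSpecIso (CommRingCat.of B)).inv b) := fun b =>
    congr($((CommRingCat.isPushout_tensorProduct A B B).inr_isoIsPushout_hom _ _ hpo') b)
  have hbij : Function.Bijective e.hom.hom := ConcreteCategory.bijective_of_isIso e.hom
  have htm : ∀ b b' : B, (b ⊗ₜ[A] b' : TensorProduct A B B) = (b ⊗ₜ[A] (1 : B)) * ((1 : B) ⊗ₜ[A] b') := by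
    intro b b'
    rw [Algebra.TensorProduct.tmul_mul_tmul, mul_one, one_mul]
  have hψΦ : ∀ t : TensorProduct A B B, ψ t = Φ (e.hom.hom t) := by
    intro t
    induction t using TensorProduct.induction_on with
    | zero => rw [map_zero, map_zero, map_zero]
    | tmul b b' =>
      rw [hψ, htm, map_mul]
      erw [hl, hr]
      rw [hΦm]
    | add x y hx hy => rw [map_add, hx, hy, map_add, map_add]
  refine ⟨?_, ?_⟩
  · intro m
    obtain ⟨z, rfl⟩ := hΦs m
    obtain ⟨t, rfl⟩ := hbij.2 z
    exact ⟨t, hψΦ t⟩
  · -- the kernel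
    have hinjκ : ∀ b : B, (((Spec (CommRingCat.of B)).presheaf.map (homOfLE
        (Groth.Agent.H39.PrinPartGen.diagonal_preimage
          (Spec.map (CommRingCat.ofHom (algebraMap A B))) ⊤).le).op).hom
        ((Scheme.ΓSpecIso (CommRingCat.of B)).inv b)) = 0 → b = 0 := by
      intro b hb
      have h1 := Groth.Agent.H39.PrinPartLocal.eq_zero_of_map_eqToHom
        (Groth.Agent.H39.PrinPartGen.diagonal_preimage
          (Spec.map (CommRingCat.ofHom (algebraMap A B))) ⊤) _ hb
      have h2 := congrArg (Scheme.ΓSpecIso (CommRingCat.of B)).hom.hom h1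
      rw [map_zero] at h2
      refine Eq.trans ?_ h2
      exact (congr($((Scheme.ΓSpecIso (CommRingCat.of B)).inv_hom_id) b)).symm
    have key : ∀ t : TensorProduct A B B,
        ((pullback.diagonal (Spec.map (CommRingCat.ofHom (algebraMap A B)))).app _).hom
          (e.hom.hom t) =
        ((Spec (CommRingCat.of B)).presheaf.map (homOfLE
          (Groth.Agent.H39.PrinPartGen.diagonal_preimage
            (Spec.map (CommRingCat.ofHom (algebraMap A B))) ⊤).le).op).hom
          ((Scheme.ΓSpecIso (CommRingCat.of B)).inv (Algebra.TensorProduct.lmul' A t)) := by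
      intro t
      induction t using TensorProduct.induction_on with
      | zero => rw [map_zero, map_zero, map_zero, map_zero, map_zero]
      | tmul b b' =>
        rw [htm, map_mul, map_mul]
        erw [hl, hr]
        rw [Groth.Agent.H39.PrinPartLocal.diagonal_app_fst,
          Groth.Agent.H39.PrinPartLocal.diagonal_app_snd, ← map_mul, ← map_mul,
          ← htm, Algebra.TensorProduct.lmul'_apply_tmul]
      | add x y hx hy => rw [map_add, map_add, hx, hy, map_add, map_add, map_add]
    have hcomap : Ideal.comap e.hom.hom (RingHom.ker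
        ((pullback.diagonal (Spec.map (CommRingCat.ofHom (algebraMap A B)))).app _).hom) =
        KaehlerDifferential.ideal A B := by
      ext t
      rw [Ideal.mem_comap, RingHom.mem_ker, key]
      show _ ↔ t ∈ RingHom.ker (Algebra.TensorProduct.lmul' A : TensorProduct A B B →ₐ[A] B)
      rw [RingHom.mem_ker]
      constructor
      · intro h
        exact hinjκ _ h
      · intro h
        rw [h, map_zero, map_zero]
    ext t
    rw [AddMonoidHom.mem_ker, hψΦ, hΦk, ← Ideal.mem_comap,
      Groth.Agent.H39.PrinPartLocal.comap_pow_of_bijective _ hbij, hcomap]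
    rfl

end Groth.Agent.S5972
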