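import Groth.Statements.S5973
-- import your own Groth.Agent.* helpers here
import Groth.Agent.H39.ConormalStalk
import Groth.Agent.H8.PullbackFinType

set_option autoImplicit false
universe u
open CategoryTheory CategoryTheory.Limits AlgebraicGeometry TopologicalSpace Opposite
open Nrm16

namespace Groth.Agent.S5973



/-- Let f : Y ⟶ X be a closed immersion which is locally of finite presentation. Then for every n the
n-th graded piece Gr_n(f) = I^n/I^(n+1) of the ideal of f, as an O_Y-module, is quasi-coherent of
finite type. (The published statement allows any immersion locally of finite presentation; this row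
states the case of a closed immersion.) -/
theorem result {Y X : Scheme.{u}} (f : Y ⟶ X) [IsClosedImmersion f]
    [LocallyOfFinitePresentation f] (n : ℕ) :
    Coh.IsCoh (PrinPart.grMod f n) := by
  haveI hq : (ClSub.idealMod (f.ker ^ n)).IsQuasicoherent :=
    inferInstanceAs (kernel (ClSub.toSubscheme (f.ker ^ n))).IsQuasicoherent
  haveI hft : SheafOfModules.IsFiniteType (R := X.ringCatSheaf) (ClSub.idealMod (f.ker ^ n)) := by
    refine Groth.Agent.H8.isFiniteType_of_forall_affine_finite _ (fun U => ?_)
    have hfg : ((f.ker ^ n).ideal U).FG := by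
      have h1 : (f.ker ^ n).ideal U = (f.ker.ideal U) ^ n := rfl
      rw [h1, Scheme.Hom.ker_apply]
      exact Submodule.FG.pow
        (Groth.Agent.H39.ConormalStalk.ker_fg f U.2 (U.2.preimage f) (f.app_surjective U.1 U.2)) n
    haveI : Module.Finite Γ(X, U.1) ((f.ker ^ n).ideal U) :=
      Module.Finite.of_fg hfg
    exact Module.Finite.equiv (Groth.Agent.H39.ConormalSect.idealEquiv (f.ker ^ n) U).symm
  exact ⟨Groth.Agent.H8.isQuasicoherent_pullback f _, Groth.Agent.H8.isFiniteType_pullback f _⟩

end Groth.Agent.S5973
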