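import Groth.Statements.S5975
-- import your own Groth.Agent.* helpers here
import Groth.Agent.H39.DerKit
import Mathlib.CategoryTheory.Abelian.Exact

set_option autoImplicit false
universe u
open CategoryTheory CategoryTheory.Limits AlgebraicGeometry TopologicalSpace Opposite
open Nrm16

namespace Groth.Agent.S5975

open Groth.Agent.H39.DerKit OmegaSh

/-- A derivation relative to a composite that kills `f♯` is a derivation relative to `f`. -/
noncomputable def derOfComp {X Y Z : Scheme.{u}} (f : X ⟶ Y) (g : Y ⟶ Z) {F : X.Modules}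
    (D : OmegaSh.Der (f ≫ g) F)
    (hD : ∀ (U : Y.Opens) (a : Γ(Y, U)), D.app (f ⁻¹ᵁ U) (f.app U a) = 0) : OmegaSh.Der f F where
  d := D.d
  d_mul := D.d_mul
  d_map := D.d_map
  d_app {W} a := hD W.unop a

lemma derOfComp_app {X Y Z : Scheme.{u}} (f : X ⟶ Y) (g : Y ⟶ Z) {F : X.Modules}
    (D : OmegaSh.Der (f ≫ g) F)
    (hD : ∀ (U : Y.Opens) (a : Γ(Y, U)), D.app (f ⁻¹ᵁ U) (f.app U a) = 0) (U : X.Opens)
    (s : Γ(X, U)) : (derOfComp f g D hD).app U s = D.app U s := rfl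


/-- Let f : X ⟶ Y and g : Y ⟶ Z be morphisms of schemes. Let (Ω_{Y/Z}, d), (Ω_{X/Z}, d') and (Ω_{X/Y},
d'') be sheaves of differentials (universal derivations) and let c₁ : f^*Ω_{Y/Z} ⟶ Ω_{X/Z} and c₂ :
Ω_{X/Z} ⟶ Ω_{X/Y} be the canonical maps compatible with the derivations. Then c₂ is an epimorphism
and the image of c₁ is the kernel of c₂: the sequence f^*Ω_{Y/Z} ⟶ Ω_{X/Z} ⟶ Ω_{X/Y} ⟶ 0 is exact. -/
theorem result {X Y Z : Scheme.{u}} (f : X ⟶ Y) (g : Y ⟶ Z)
    (ΩY : Y.Modules) (dY : OmegaSh.Der g ΩY) (hY : OmegaSh.IsUniversal dY)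
    (ΩX : X.Modules) (dX : OmegaSh.Der (f ≫ g) ΩX) (hX : OmegaSh.IsUniversal dX)
    (ΩXY : X.Modules) (dXY : OmegaSh.Der f ΩXY) (hXY : OmegaSh.IsUniversal dXY)
    (c₁ : (Scheme.Modules.pullback f).obj ΩY ⟶ ΩX) (hc₁ : OmegaSh.IsDiffCompat f dY dX c₁)
    (c₂ : (Scheme.Modules.pullback (𝟙 X)).obj ΩX ⟶ ΩXY) (hc₂ : OmegaSh.IsDiffCompat (𝟙 X) dX dXY c₂) :
    Epi c₂ ∧
      imageSubobject c₁ = kernelSubobject ((Scheme.Modules.pullbackId X).inv.app ΩX ≫ c₂) := by
  -- the map out of `ΩX` itself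
  set c₂' : ΩX ⟶ ΩXY := (Scheme.Modules.pullbackId X).inv.app ΩX ≫ c₂ with hc₂'
  -- Claim A: `c₂'` is compatible with the derivations
  have hA : ∀ (U : X.Opens) (s : Γ(X, U)), c₂'.app U (dX.app U s) = dXY.app U s := by
    intro U s
    have h1 : c₂'.app U (dX.app U s) =
        c₂.app U (((Scheme.Modules.pullbackId X).inv.app ΩX).app U (dX.app U s)) := rfl
    rw [h1, pullbackId_inv_app]
    refine (hc₂ U s).trans ?_
    have h2 : (𝟙 X : X ⟶ X).app U s = s := by
      rw [Scheme.Hom.id_app]; rfl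
    exact congrArg (dXY.app U) h2
  -- Claim B: `c₂'` is an epimorphism
  have hepi' : Epi c₂' := by
    constructor
    intro G u v huv
    apply hom_ext_of_universal hXY
    intro U s
    rw [← hA U s]
    exact congrArg (fun t => (Scheme.Modules.Hom.app t U) (dX.app U s)) huv
  have hepi : Epi c₂ := by
    have h1 : c₂ = (Scheme.Modules.pullbackId X).hom.app ΩX ≫ c₂' := by
      rw [hc₂', Iso.hom_inv_id_app_assoc]
    rw [h1]
    infer_instance
  refine ⟨hepi, ?_⟩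
  -- Claim C: the composite vanishes
  have hC : c₁ ≫ c₂' = 0 := by
    apply pullback_hom_ext_of_universal f hY
    intro U s
    have h1 : (c₁ ≫ c₂').app (f ⁻¹ᵁ U) (pullSect f ΩY U (dY.app U s)) =
        c₂'.app (f ⁻¹ᵁ U) (c₁.app (f ⁻¹ᵁ U) (pullSect f ΩY U (dY.app U s))) := rfl
    rw [h1, hc₁ U s, hA]
    have h2 : dXY.app (f ⁻¹ᵁ U) (f.app U s) = 0 := dXY.d_app (X := op U) s
    rw [h2]
    rfl
  -- the cokernel of `c₁`
  let q := cokernel.π c₁
  let r : cokernel c₁ ⟶ ΩXY := cokernel.desc c₁ c₂' hC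
  have hqr : q ≫ r = c₂' := cokernel.π_desc c₁ c₂' hC
  -- the derivation into the cokernel
  have hD : ∀ (U : Y.Opens) (a : Γ(Y, U)),
      OmegaSh.Der.app (dX.postcomp q.val) (f ⁻¹ᵁ U) (f.app U a) = 0 := by
    intro U a
    rw [postcomp_app, ← hc₁ U a]
    have h1 : q.app (f ⁻¹ᵁ U) (c₁.app (f ⁻¹ᵁ U) (pullSect f ΩY U (dY.app U a))) =
        (c₁ ≫ q).app (f ⁻¹ᵁ U) (pullSect f ΩY U (dY.app U a)) := rfl
    rw [h1, cokernel.condition c₁]
    rfl
  obtain ⟨α, hα⟩ := exists_of_universal hXY (derOfComp f g (dX.postcomp q.val) hD)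
  have hrα : r ≫ α = 𝟙 _ := by
    rw [← cancel_epi q, ← Category.assoc, hqr, Category.comp_id]
    apply hom_ext_of_universal hX
    intro U s
    have h1 : (c₂' ≫ α).app U (dX.app U s) = α.app U (c₂'.app U (dX.app U s)) := rfl
    rw [h1, hA, hα, derOfComp_app, postcomp_app]
  have : Mono r := by
    have : Mono (r ≫ α) := by rw [hrα]; infer_instance
    exact mono_of_mono r α
  have hex : imageSubobject c₁ = kernelSubobject q :=
    (ShortComplex.exact_iff_image_eq_kernel _).1 (ShortComplex.exact_cokernel c₁)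
  have key : ∀ (φ : ΩX ⟶ ΩXY) [HasKernel φ], φ = q ≫ r →
      kernelSubobject φ = kernelSubobject q := by
    intro φ _ hφ
    subst hφ
    exact kernelSubobject_comp_mono q r
  exact hex.trans (key _ hqr.symm).symm

end Groth.Agent.S5975
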