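import Groth.Statements.S5976
-- import your own Groth.Agent.* helpers here
import Groth.Agent.H39.ConormalLocal
import Groth.Agent.H8.RelFPBaseChange

set_option autoImplicit false
universe u
open CategoryTheory CategoryTheory.Limits AlgebraicGeometry TopologicalSpace Opposite
open Nrm16

namespace Groth.Agent.S5976

open AlgebraicGeometry CategoryTheory CategoryTheory.Limits
set_option linter.style.haveILetI false


/-- Let f : Y ⟶ Z be a morphism and j : X ⟶ Y a quasi-compact immersion. Let (Ω_{Y/Z}, d) and (Ω_{X/Z},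
d') be sheaves of differentials (universal derivations), φ : N_{X/Y} ⟶ j^*Ω_{Y/Z} the canonical map
from the conormal sheaf of j (class of a local section s of the ideal ↦ pullback of d s) and c :
j^*Ω_{Y/Z} ⟶ Ω_{X/Z} the canonical map compatible with the derivations. Then c is an epimorphism and
the image of φ is the kernel of c: the sequence N_{X/Y} ⟶ j^*Ω_{Y/Z} ⟶ Ω_{X/Z} ⟶ 0 is exact. (The
published statement allows any immersion j; this row assumes j quasi-compact, the case in which the
conormal sheaf used here is that of j.) -/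
theorem result {X Y Z : Scheme.{u}} (f : Y ⟶ Z) (j : X ⟶ Y)
    [IsImmersion j] [QuasiCompact j]
    (ΩY : Y.Modules) (dY : OmegaSh.Der f ΩY) (hY : OmegaSh.IsUniversal dY)
    (ΩX : X.Modules) (dX : OmegaSh.Der (j ≫ f) ΩX) (hX : OmegaSh.IsUniversal dX)
    (φ : Omega.conormal j ⟶ (Scheme.Modules.pullback j).obj ΩY) (hφ : OmegaSh.IsConormalDiff j dY φ)
    (c : (Scheme.Modules.pullback j).obj ΩY ⟶ ΩX) (hc : OmegaSh.IsDiffCompat j dY dX c) :
    Epi c ∧ imageSubobject φ = kernelSubobject c := by
  haveI : ΩY.IsQuasicoherent := Groth.Agent.H39.DerFin.isQuasicoherent_of_isUniversal f hY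
  haveI : ΩX.IsQuasicoherent := Groth.Agent.H39.DerFin.isQuasicoherent_of_isUniversal (j ≫ f) hX
  haveI : ((Scheme.Modules.pullback j).obj ΩY).IsQuasicoherent :=
    Groth.Agent.H8.isQuasicoherent_pullback j ΩY
  have hloc := fun i : Groth.Agent.H39.ConormalLocal.Idx j f =>
    Groth.Agent.H39.ConormalLocal.local_exact f j hY hX hφ hc i.hU
      (Groth.Agent.H39.ConormalLocal.coborder_affine j i.hV').1 i.e₁
      (Groth.Agent.H39.ConormalLocal.coborder_affine j i.hV').2.1
      (Groth.Agent.H39.ConormalLocal.coborder_affine j i.hV').2.2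
  have haff := fun i : Groth.Agent.H39.ConormalLocal.Idx j f =>
    (Groth.Agent.H39.ConormalLocal.coborder_affine j i.hV').2.1
  constructor
  · exact Groth.Agent.H18.Serre.epi_of_surjective_affine_cover c _
      (Groth.Agent.H39.ConormalLocal.isOpenCover_idx j f) haff (fun i => (hloc i).1)
  · have w : φ ≫ c = 0 := Groth.Agent.H39.ConormalLocal.conormalDiff_comp f j hφ hc
    have hex : (ShortComplex.mk φ c w).Exact := by
      refine Groth.Agent.H39.ConormalLocal.exact_of_exact_affine_cover (ShortComplex.mk φ c w) _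
        (Groth.Agent.H39.ConormalLocal.isOpenCover_idx j f) haff (fun i t ht => ?_)
      obtain ⟨s, hs⟩ := (hloc i).2 t ht
      exact ⟨_, hs⟩
    exact (ShortComplex.exact_iff_image_eq_kernel _).mp hex

end Groth.Agent.S5976
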