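import Groth.Statements.S5977
-- import your own Groth.Agent.* helpers here
import Groth.Agent.H39.PrinPartGen

set_option autoImplicit false
universe u
open CategoryTheory CategoryTheory.Limits AlgebraicGeometry TopologicalSpace Opposite
open Nrm16

namespace Groth.Agent.S5977



/-- Let f : Y ⟶ Z be a morphism and j : X ⟶ Y a closed immersion, and let φ : j^* P^n_{Y/Z} ⟶ P^n_{X/Z}
be the canonical O_X-linear map of sheaves of principal parts of order n, the one sending the
pullback of d^n b to d^n (j♯ b). Then φ is an epimorphism. (The published statement also identifies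
the kernel of φ as the ideal generated by the pullback of d^n of the ideal of j; this row states the
surjectivity.) -/
theorem result {X Y Z : Scheme.{u}} (f : Y ⟶ Z) (j : X ⟶ Y) [IsClosedImmersion j] (n : ℕ)
    (φ : (Scheme.Modules.pullback j).obj (PrinPart.P f n) ⟶ PrinPart.P (j ≫ f) n)
    (hφ : PrinPart.IsPMap f (j ≫ f) j n φ) :
    Epi φ := by
  refine Groth.Agent.H39.PrinPartGen.epi_of_isPMap f (j ≫ f) j n hφ (fun x => ?_)
  obtain ⟨V, hV, hxV, -⟩ :=
    (Opens.isBasis_iff_nbhd.mp Z.isBasis_affineOpens) (Opens.mem_top (f (j x)))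
  have hx1 : j x ∈ f ⁻¹ᵁ V := hxV
  obtain ⟨U, hU, hxU, hUV⟩ := (Opens.isBasis_iff_nbhd.mp Y.isBasis_affineOpens) hx1
  refine ⟨U, j ⁻¹ᵁ U, V, le_rfl, hU.preimage j, hV, ?_, hxU, ?_⟩
  · intro z hz
    show f (j z) ∈ V
    exact hUV hz
  · rw [Scheme.Hom.appLE_eq_app]
    exact j.app_surjective U hU

end Groth.Agent.S5977
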