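import Groth.Statements.S5981
-- import your own Groth.Agent.* helpers here
import Groth.Agent.H39.PrinPartGen

set_option autoImplicit false
universe u
open CategoryTheory CategoryTheory.Limits AlgebraicGeometry TopologicalSpace Opposite
open Nrm16

namespace Groth.Agent.S5981



/-- Let f : X ⟶ Y and g : Y ⟶ Z be morphisms of schemes and n a natural number, and let φ : (𝟙_X)^*
P^n_{X/Z} ⟶ P^n_{X/Y} be the canonical O_X-linear map of sheaves of principal parts of order n, the
one sending the pullback of d^n b (relative to Z) to d^n b (relative to Y) for every local function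
b. Then φ is an epimorphism. (The published statement also describes the kernel as the ideal
generated by the image of the augmentation ideal of f^* P^n_{Y/Z}; this row states the
surjectivity.) -/
theorem result {X Y Z : Scheme.{u}} (f : X ⟶ Y) (g : Y ⟶ Z) (n : ℕ)
    (φ : (Scheme.Modules.pullback (𝟙 X)).obj (PrinPart.P (f ≫ g) n) ⟶ PrinPart.P f n)
    (hφ : PrinPart.IsPMap (f ≫ g) f (𝟙 X) n φ) :
    Epi φ := by
  refine Groth.Agent.H39.PrinPartGen.epi_of_isPMap (f ≫ g) f (𝟙 X) n hφ (fun x => ?_)
  obtain ⟨V, hV, hxV, -⟩ :=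
    (Opens.isBasis_iff_nbhd.mp Y.isBasis_affineOpens) (Opens.mem_top (f x))
  have hx1 : x ∈ f ⁻¹ᵁ V := hxV
  obtain ⟨U, hU, hxU, hUV⟩ := (Opens.isBasis_iff_nbhd.mp X.isBasis_affineOpens) hx1
  refine ⟨U, U, V, le_rfl, hU, hV, hUV, hxU, ?_⟩
  intro b
  exact ⟨b, Groth.Agent.H39.ConormalSplit.id_appLE_apply U le_rfl b⟩

end Groth.Agent.S5981
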