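import Groth.Statements.S5987
import Groth.Agent.H87.SopLift

set_option autoImplicit false
universe u
open EGA418

namespace Groth.Agent.S5987

/-- Let A be a Noetherian local ring and p a prime ideal of A such that the local ring A_p is
Cohen–Macaulay, of dimension s; let t_1, …, t_s be a system of parameters of A_p (elements of its
maximal ideal such that A_p/(t_1, …, t_s) has dimension 0). Then there are elements x_1, …, x_s of p
which form part of a system of parameters of A, in the sense that dim A/(x_1, …, x_s) + s = dim A,
and elements a_1, …, a_s of A outside p, such that for every i the image of x_i in A_p is congruent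
to a_i t_i modulo the ideal (t_1, …, t_{i-1}) A_p. (The published statement asks for the image of
x_i to be congruent to t_i itself; this row allows the factor a_i outside p, which is what the
published proof gives, since it first multiplies each t_i by a unit of A_p to bring it into the
image of A. The published form fails already for s = 1: for A the localization of k[X, Y] at (X, Y),
p = (X) and t_1 = X/Y, the congruence modulo the zero ideal asks for an element of A with image X/Y
in A_p, and there is none.) -/
theorem result (A : Type u) [CommRing A]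
    [IsNoetherianRing A] [IsLocalRing A] (p : Ideal A) [p.IsPrime]
    [LocCoh.IsCohenMacaulayLocalRing (Localization.AtPrime p)] (s : ℕ)
    (hs : ringKrullDim (Localization.AtPrime p) = s) (t : Fin s → Localization.AtPrime p)
    (ht : ∀ i, t i ∈ IsLocalRing.maximalIdeal (Localization.AtPrime p))
    (hsop : ringKrullDim (Localization.AtPrime p ⧸ Ideal.span (Set.range t)) = 0) :
    ∃ x a : Fin s → A, (∀ i, x i ∈ p) ∧ (∀ i, a i ∉ p) ∧
      ringKrullDim (A ⧸ Ideal.span (Set.range x)) + (s : WithBot ℕ∞) = ringKrullDim A ∧
      ∀ i : Fin s, algebraMap A (Localization.AtPrime p) (x i) -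
          algebraMap A (Localization.AtPrime p) (a i) * t i ∈
        Ideal.span (t '' {j : Fin s | j < i}) := by
  classical
  -- notation
  have hloc : IsLocalRing (Localization.AtPrime p) := inferInstance
  -- numerators and denominators
  have hsurj : ∀ i : Fin s, ∃ bc : A × A, bc.2 ∉ p ∧
      algebraMap A (Localization.AtPrime p) bc.2 * t i =
        algebraMap A (Localization.AtPrime p) bc.1 := by
    intro i
    obtain ⟨⟨b, c⟩, h⟩ := IsLocalization.surj p.primeCompl (t i)
    refine ⟨⟨b, (c : A)⟩, c.2, ?_⟩
    rw [mul_comm]
    exact h
  choose bc hc hbc using hsurj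
  have hbp : ∀ i, (bc i).1 ∈ p := by
    intro i
    rw [← IsLocalization.AtPrime.to_map_mem_maximal_iff (Localization.AtPrime p) p, ← hbc i]
    exact Ideal.mul_mem_left _ _ (ht i)
  -- the ideals `J m`
  have hJmono : ∀ m m' : ℕ, m ≤ m' →
      Ideal.span (t '' {j : Fin s | j.val < m}) ≤ Ideal.span (t '' {j : Fin s | j.val < m'}) := by
    intro m m' hmm
    apply Ideal.span_mono
    apply Set.image_mono
    intro j hj
    exact lt_of_lt_of_le hj hmm
  have hJmax : ∀ m : ℕ, Ideal.span (t '' {j : Fin s | j.val < m}) ≤
      IsLocalRing.maximalIdeal (Localization.AtPrime p) := by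
    intro m
    rw [Ideal.span_le]
    rintro _ ⟨j, -, rfl⟩
    exact ht j
  have hreg : ∀ (i : Fin s) (y : Localization.AtPrime p),
      t i * y ∈ Ideal.span (t '' {j : Fin s | j.val < i.val}) →
      y ∈ Ideal.span (t '' {j : Fin s | j.val < i.val}) :=
    fun i y hy => Groth.Agent.H87.SopLift.reg_of_cm s hs t ht hsop i y hy
  have hregN : ∀ (i : Fin s) (N : ℕ) (y : Localization.AtPrime p),
      t i ^ N * y ∈ Ideal.span (t '' {j : Fin s | j.val < i.val}) →
      y ∈ Ideal.span (t '' {j : Fin s | j.val < i.val}) := by
    intro i N
    induction N with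
    | zero =>
      intro y hy
      rwa [pow_zero, one_mul] at hy
    | succ N ih =>
      intro y hy
      rw [pow_succ, mul_assoc] at hy
      exact hreg i y (ih _ hy)
  -- the inductive claim
  have key : ∀ m : ℕ, m ≤ s → ∃ x : Fin s → A, (∀ i, x i ∈ p) ∧
      (∀ i : Fin s, i.val < m → algebraMap A (Localization.AtPrime p) (x i) -
          algebraMap A (Localization.AtPrime p) (bc i).2 * t i ∈
        Ideal.span (t '' {j : Fin s | j.val < i.val})) ∧
      ringKrullDim (A ⧸ Ideal.span (x '' {j : Fin s | j.val < m})) + (m : WithBot ℕ∞) ≤
        ringKrullDim A := by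
    intro m
    induction m with
    | zero =>
      intro _
      refine ⟨fun _ => 0, fun _ => p.zero_mem, fun i hi => absurd hi (Nat.not_lt_zero _), ?_⟩
      rw [Nat.cast_zero, add_zero]
      exact ringKrullDim_quotient_le _
    | succ m ih =>
      intro hm
      obtain ⟨x, hxp, hxc, hxd⟩ := ih (by omega)
      have hms : m < s := by omega
      -- image of `I` lies in `J m`
      have hImap : ∀ a ∈ Ideal.span (x '' {j : Fin s | j.val < m}),
          algebraMap A (Localization.AtPrime p) a ∈ Ideal.span (t '' {j : Fin s | j.val < m}) := by
        have hle : Ideal.span (x '' {j : Fin s | j.val < m}) ≤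
            (Ideal.span (t '' {j : Fin s | j.val < m})).comap
              (algebraMap A (Localization.AtPrime p)) := by
          rw [Ideal.span_le]
          rintro _ ⟨j, hj, rfl⟩
          have hj' : j.val < m := hj
          show algebraMap A (Localization.AtPrime p) (x j) ∈
            Ideal.span (t '' {j : Fin s | j.val < m})
          have h1 := hJmono j.val m hj'.le (hxc j hj')
          have h2 : t j ∈ Ideal.span (t '' {j : Fin s | j.val < m}) :=
            Ideal.subset_span ⟨j, hj', rfl⟩
          have h3 := Ideal.add_mem _ h1 (Ideal.mul_mem_left _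
            (algebraMap A (Localization.AtPrime p) (bc j).2) h2)
          rwa [sub_add_cancel] at h3
        exact fun a ha => hle ha
      have hfin : (Ideal.span (x '' {j : Fin s | j.val < m})).minimalPrimes.Finite :=
        Ideal.finite_minimalPrimes_of_isNoetherianRing A _
      have havoid : ∀ q ∈ (Ideal.span (x '' {j : Fin s | j.val < m})).minimalPrimes,
          ¬ ((bc ⟨m, hms⟩).1 ∈ q ∧
            (Ideal.span (t '' {j : Fin s | j.val < m})).comap
              (algebraMap A (Localization.AtPrime p)) ≤ q) := by
        rintro q hq ⟨hbq, hSq⟩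
        obtain ⟨N, c', hc'q, hc'I⟩ := Groth.Agent.H87.SopLift.exists_mul_pow_mem _ q hq _ hbq
        have h1 := hImap _ hc'I
        have h2 : algebraMap A (Localization.AtPrime p) (c' * (bc ⟨m, hms⟩).1 ^ N) =
            t ⟨m, hms⟩ ^ N * (algebraMap A (Localization.AtPrime p) (bc ⟨m, hms⟩).2 ^ N *
              algebraMap A (Localization.AtPrime p) c') := by
          rw [map_mul, map_pow, ← hbc ⟨m, hms⟩, mul_pow]
          ring
        rw [h2] at h1
        have h3 := hregN ⟨m, hms⟩ N _ h1
        have hunit : IsUnit (algebraMap A (Localization.AtPrime p) (bc ⟨m, hms⟩).2 ^ N) :=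
          (IsLocalization.map_units (Localization.AtPrime p)
            (⟨(bc ⟨m, hms⟩).2, hc ⟨m, hms⟩⟩ : p.primeCompl)).pow N
        have h4 := (Ideal.unit_mul_mem_iff_mem _ hunit).mp h3
        exact hc'q (hSq h4)
      obtain ⟨z, hzS, hz⟩ := Groth.Agent.H93.Avoid.coset_avoid
        ((Ideal.span (t '' {j : Fin s | j.val < m})).comap
          (algebraMap A (Localization.AtPrime p))) (bc ⟨m, hms⟩).1 _ hfin.toFinset rfl
        (fun q hq => ((Set.Finite.mem_toFinset hfin).mp hq).1.1)
        (fun q hq => havoid q ((Set.Finite.mem_toFinset hfin).mp hq))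
      have hzp : z ∈ p := by
        rw [← IsLocalization.AtPrime.to_map_mem_maximal_iff (Localization.AtPrime p) p]
        exact hJmax m hzS
      have hupd : ∀ j : Fin s, j.val < m →
          Function.update x ⟨m, hms⟩ ((bc ⟨m, hms⟩).1 + z) j = x j := by
        intro j hj
        apply Function.update_of_ne
        intro h
        rw [h] at hj
        exact lt_irrefl _ hj
      refine ⟨Function.update x ⟨m, hms⟩ ((bc ⟨m, hms⟩).1 + z), ?_, ?_, ?_⟩
      · intro i
        by_cases hi : i = ⟨m, hms⟩
        · subst hi
          rw [Function.update_self]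
          exact p.add_mem (hbp _) hzp
        · rw [Function.update_of_ne hi]
          exact hxp i
      · intro i hi
        by_cases hi' : i = ⟨m, hms⟩
        · subst hi'
          rw [Function.update_self, map_add, ← hbc, add_sub_cancel_left]
          exact hzS
        · have hlt : i.val < m := by
            have : i.val ≠ m := fun h => hi' (Fin.ext h)
            omega
          rw [Function.update_of_ne hi']
          exact hxc i hlt
      · have hI' : Ideal.span (Function.update x ⟨m, hms⟩ ((bc ⟨m, hms⟩).1 + z) ''
            {j : Fin s | j.val < m + 1}) =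
            Ideal.span (x '' {j : Fin s | j.val < m}) ⊔ Ideal.span {(bc ⟨m, hms⟩).1 + z} := by
          apply le_antisymm
          · rw [Ideal.span_le]
            rintro _ ⟨j, hj, rfl⟩
            by_cases hj' : j = ⟨m, hms⟩
            · subst hj'
              rw [Function.update_self]
              exact Ideal.mem_sup_right (Ideal.subset_span rfl)
            · have hlt : j.val < m := by
                have : j.val ≠ m := fun h => hj' (Fin.ext h)
                have hj2 : j.val < m + 1 := hj
                omega
              rw [Function.update_of_ne hj']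
              exact Ideal.mem_sup_left (Ideal.subset_span ⟨j, hlt, rfl⟩)
          · rw [sup_le_iff, Ideal.span_le, Ideal.span_le]
            constructor
            · rintro _ ⟨j, hj, rfl⟩
              have hj' : j.val < m := hj
              apply Ideal.subset_span
              exact ⟨j, Nat.lt_succ_of_lt hj', hupd j hj'⟩
            · rintro _ rfl
              apply Ideal.subset_span
              exact ⟨⟨m, hms⟩, Nat.lt_succ_self m, Function.update_self _ _ _⟩
        rw [hI']
        have hdrop := Groth.Agent.H87.SopLift.ringKrullDim_quotient_sup_span_succ_le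
          (Ideal.span (x '' {j : Fin s | j.val < m})) ((bc ⟨m, hms⟩).1 + z)
          (fun q hq => hz q ((Set.Finite.mem_toFinset hfin).mpr hq))
        calc ringKrullDim (A ⧸ (Ideal.span (x '' {j : Fin s | j.val < m}) ⊔
                Ideal.span {(bc ⟨m, hms⟩).1 + z})) + ((m + 1 : ℕ) : WithBot ℕ∞)
            = (ringKrullDim (A ⧸ (Ideal.span (x '' {j : Fin s | j.val < m}) ⊔
                Ideal.span {(bc ⟨m, hms⟩).1 + z})) + 1) + (m : WithBot ℕ∞) := by
              rw [Nat.cast_add, Nat.cast_one, add_assoc, add_comm (1 : WithBot ℕ∞)]
          _ ≤ ringKrullDim (A ⧸ Ideal.span (x '' {j : Fin s | j.val < m})) + (m : WithBot ℕ∞) := by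
              gcongr
          _ ≤ ringKrullDim A := hxd
  obtain ⟨x, hxp, hxc, hxd⟩ := key s le_rfl
  refine ⟨x, fun i => (bc i).2, hxp, hc, ?_, ?_⟩
  · have hrange : x '' {j : Fin s | j.val < s} = Set.range x := by
      rw [← Set.image_univ]
      congr 1
      ext j
      simp
    rw [hrange] at hxd
    apply le_antisymm hxd
    have hjac : ((Finset.univ.image x : Finset A) : Set A) ⊆ Ring.jacobson A := by
      rw [IsLocalRing.ringJacobson_eq_maximalIdeal]
      intro a ha
      rw [Finset.coe_image, Finset.coe_univ, Set.image_univ] at ha
      obtain ⟨i, rfl⟩ := ha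
      exact IsLocalRing.le_maximalIdeal (Ideal.IsPrime.ne_top inferInstance) (hxp i)
    have h1 := ringKrullDim_le_ringKrullDim_quotient_add_card (Finset.univ.image x) hjac
    rw [Finset.coe_image, Finset.coe_univ, Set.image_univ] at h1
    refine h1.trans ?_
    gcongr
    have h2 : (Finset.univ.image x).card ≤ s := by
      refine (Finset.card_image_le).trans ?_
      rw [Finset.card_univ, Fintype.card_fin]
    exact_mod_cast h2
  · intro i
    exact hxc i i.2

end Groth.Agent.S5987
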