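import Groth.Statements.S5993
import Mathlib
import Groth.Agent.H23.SemilocalCpl
import Groth.Agent.H23.CplFlat
import Groth.Agent.Lead.CompleteNoetherian
import Groth.Agent.H29.FlatCM

set_option autoImplicit false
universe u
open scoped TensorProduct
open EGA418

namespace Groth.Agent.S5993

section Aux

open IsLocalRing

/-- `k' → (A ⊗[k] k') ⧸ 𝔪 (A ⊗[k] k')` is finite when the residue field of `A` is finite over `k`. -/
theorem finite_includeRight_quotient (k A k' : Type u) [Field k] [CommRing A] [IsLocalRing A]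
    [Algebra k A] [Module.Finite k (ResidueField A)] [Field k'] [Algebra k k'] :
    ((Ideal.Quotient.mk ((maximalIdeal A).map (algebraMap A (A ⊗[k] k')))).comp
      (Algebra.TensorProduct.includeRight : k' →ₐ[k] A ⊗[k] k').toRingHom).Finite := by
  classical
  set I := (maximalIdeal A).map (algebraMap A (A ⊗[k] k')) with hI
  set g : k' →+* (A ⊗[k] k') ⧸ I := (Ideal.Quotient.mk I).comp
    (Algebra.TensorProduct.includeRight : k' →ₐ[k] A ⊗[k] k').toRingHom with hg
  obtain ⟨s, hs⟩ := Module.finite_def.mp (inferInstance : Module.Finite k (ResidueField A))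
  choose lift hlift using (fun x : ResidueField A => IsLocalRing.residue_surjective x)
  have h0 : ∀ a ∈ maximalIdeal A, ∀ c : k', Ideal.Quotient.mk I (a ⊗ₜ[k] c) = 0 := by
    intro a ha c
    rw [Ideal.Quotient.eq_zero_iff_mem]
    have h1 : a ⊗ₜ[k] c = algebraMap A (A ⊗[k] k') a * (1 ⊗ₜ[k] c) := by
      rw [Algebra.TensorProduct.algebraMap_apply, Algebra.TensorProduct.tmul_mul_tmul]
      simp
    rw [h1]
    exact Ideal.mul_mem_right _ _ (Ideal.mem_map_of_mem _ ha)
  letI := g.toAlgebra
  change Module.Finite k' ((A ⊗[k] k') ⧸ I)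
  refine ⟨⟨s.image (fun x => Ideal.Quotient.mk I (lift x ⊗ₜ[k] (1 : k'))), ?_⟩⟩
  rw [eq_top_iff]
  rintro x -
  obtain ⟨t, rfl⟩ := Ideal.Quotient.mk_surjective x
  have key : ∀ y ∈ Submodule.span k (s : Set (ResidueField A)), ∀ a : A,
      IsLocalRing.residue A a = y → ∀ c : k', Ideal.Quotient.mk I (a ⊗ₜ[k] c) ∈
        Submodule.span k' (↑(s.image (fun x => Ideal.Quotient.mk I (lift x ⊗ₜ[k] (1 : k')))) :
          Set ((A ⊗[k] k') ⧸ I)) := by
    intro y hy
    induction hy using Submodule.span_induction with
    | mem y hy =>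
      intro a ha c
      have h1 : a - lift y ∈ maximalIdeal A := by
        rw [← IsLocalRing.residue_eq_zero_iff, map_sub, ha, hlift, sub_self]
      have h2 : a ⊗ₜ[k] c = (a - lift y) ⊗ₜ[k] c + lift y ⊗ₜ[k] c := by
        rw [← TensorProduct.add_tmul, sub_add_cancel]
      rw [h2, map_add, h0 _ h1, zero_add]
      have h3 : lift y ⊗ₜ[k] c = (1 ⊗ₜ[k] c) * (lift y ⊗ₜ[k] (1 : k')) := by
        rw [Algebra.TensorProduct.tmul_mul_tmul]
        simp
      rw [h3, map_mul]
      have h4 : Ideal.Quotient.mk I ((1 : A) ⊗ₜ[k] c) * Ideal.Quotient.mk I (lift y ⊗ₜ[k] (1 : k')) =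
          c • Ideal.Quotient.mk I (lift y ⊗ₜ[k] (1 : k')) := by
        rw [Algebra.smul_def]
        rfl
      rw [h4]
      exact Submodule.smul_mem _ _ (Submodule.subset_span
        (Finset.mem_coe.2 (Finset.mem_image_of_mem _ hy)))
    | zero =>
      intro a ha c
      rw [h0 a ((IsLocalRing.residue_eq_zero_iff a).mp ha) c]
      exact Submodule.zero_mem _
    | add y z _ _ hy hz =>
      intro a ha c
      obtain ⟨b, hb⟩ := IsLocalRing.residue_surjective y
      have h1 : IsLocalRing.residue A (a - b) = z := by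
        rw [map_sub, ha, hb, add_sub_cancel_left]
      have h2 : a ⊗ₜ[k] c = b ⊗ₜ[k] c + (a - b) ⊗ₜ[k] c := by
        rw [← TensorProduct.add_tmul, add_sub_cancel]
      rw [h2, map_add]
      exact Submodule.add_mem _ (hy b hb c) (hz (a - b) h1 c)
    | smul l y _ hy =>
      intro a ha c
      obtain ⟨b, hb⟩ := IsLocalRing.residue_surjective y
      have h1 : IsLocalRing.residue A (l • b) = l • y := by
        rw [Algebra.smul_def, map_mul, hb, Algebra.smul_def,
          IsScalarTower.algebraMap_apply k A (ResidueField A)]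
        rfl
      have h2 : a - l • b ∈ maximalIdeal A := by
        rw [← IsLocalRing.residue_eq_zero_iff, map_sub, ha, h1, sub_self]
      have h3 : a ⊗ₜ[k] c = (a - l • b) ⊗ₜ[k] c + b ⊗ₜ[k] (l • c) := by
        rw [← TensorProduct.smul_tmul, ← TensorProduct.add_tmul, sub_add_cancel]
      rw [h3, map_add, h0 _ h2, zero_add]
      exact hy b hb (l • c)
  induction t using TensorProduct.induction_on with
  | zero => rw [map_zero]; exact Submodule.zero_mem _
  | add x y hx hy => rw [map_add]; exact Submodule.add_mem _ hx hy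
  | tmul a c =>
    exact key _ (by rw [hs]; trivial) a rfl c

end Aux

/-- Let k be a field, A a complete Noetherian local k-algebra with maximal ideal m whose residue field
is a finite extension of k, k' an extension field of k, I the ideal of A ⊗_k k' generated by m, and
A' the completed tensor product of A and k' over k, namely the I-adic completion of A ⊗_k k'. Then
A' is a Noetherian ring with finitely many maximal ideals, complete and separated for the ideal
generated by m, and for every maximal ideal M of A' the local ring A'_M is complete, faithfully flat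
over A, of the same dimension as A, and has residue field finite over k'. -/
theorem result (k A k' : Type u) [Field k]
    [CommRing A] [IsNoetherianRing A] [IsLocalRing A] [Algebra k A]
    [IsAdicComplete (IsLocalRing.maximalIdeal A) A] [Module.Finite k (IsLocalRing.ResidueField A)]
    [Field k'] [Algebra k k'] (I : Ideal (A ⊗[k] k'))
    (hI : I = (IsLocalRing.maximalIdeal A).map (algebraMap A (A ⊗[k] k'))) :
    IsNoetherianRing (AdicCompletion I (A ⊗[k] k')) ∧
      Finite (MaximalSpectrum (AdicCompletion I (A ⊗[k] k'))) ∧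
      IsAdicComplete ((IsLocalRing.maximalIdeal A).map (algebraMap A (AdicCompletion I (A ⊗[k] k'))))
        (AdicCompletion I (A ⊗[k] k')) ∧
      ∀ M : MaximalSpectrum (AdicCompletion I (A ⊗[k] k')),
        IsAdicComplete (IsLocalRing.maximalIdeal (Localization.AtPrime M.asIdeal))
            (Localization.AtPrime M.asIdeal) ∧
          Module.FaithfullyFlat A (Localization.AtPrime M.asIdeal) ∧
          ringKrullDim (Localization.AtPrime M.asIdeal) = ringKrullDim A ∧
          (((Ideal.Quotient.mk M.asIdeal).comp (algebraMap (A ⊗[k] k') (AdicCompletion I (A ⊗[k] k')))).comp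
              Algebra.TensorProduct.includeRight.toRingHom).Finite := by
  classical
  subst hI
  have hfg : (IsLocalRing.maximalIdeal A).FG := IsNoetherian.noetherian _
  have hIfg : ((IsLocalRing.maximalIdeal A).map (algebraMap A (A ⊗[k] k'))).FG := hfg.map _
  have hgfin := finite_includeRight_quotient k A k'
  haveI hart : IsArtinianRing ((A ⊗[k] k') ⧸
      (IsLocalRing.maximalIdeal A).map (algebraMap A (A ⊗[k] k'))) := by
    letI := ((Ideal.Quotient.mk ((IsLocalRing.maximalIdeal A).map
      (algebraMap A (A ⊗[k] k')))).comp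
      (Algebra.TensorProduct.includeRight : k' →ₐ[k] A ⊗[k] k').toRingHom).toAlgebra
    haveI : Module.Finite k' ((A ⊗[k] k') ⧸
      (IsLocalRing.maximalIdeal A).map (algebraMap A (A ⊗[k] k'))) := hgfin
    exact IsArtinianRing.of_finite k' _
  haveI hCn : IsNoetherianRing (AdicCompletion
      ((IsLocalRing.maximalIdeal A).map (algebraMap A (A ⊗[k] k'))) (A ⊗[k] k')) :=
    Groth.Agent.Lead.isNoetherianRing_adicCompletion _ hIfg
  set I := (IsLocalRing.maximalIdeal A).map (algebraMap A (A ⊗[k] k')) with hIdef
  have h𝔞eq : (IsLocalRing.maximalIdeal A).map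
      (algebraMap A (AdicCompletion I (A ⊗[k] k'))) =
      I.map (algebraMap (A ⊗[k] k') (AdicCompletion I (A ⊗[k] k'))) := by
    rw [IsScalarTower.algebraMap_eq A (A ⊗[k] k') (AdicCompletion I (A ⊗[k] k')),
      ← Ideal.map_map]
  haveI hc : IsAdicComplete (I.map (algebraMap (A ⊗[k] k') (AdicCompletion I (A ⊗[k] k'))))
      (AdicCompletion I (A ⊗[k] k')) :=
    (IsAdicComplete.map_algebraMap_iff (I := I) (S := AdicCompletion I (A ⊗[k] k'))
      (M := AdicCompletion I (A ⊗[k] k'))).2 (AdicCompletion.isAdicComplete hIfg)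
  have hker := AdicCompletion.ker_evalOneₐ_eq_map I hIfg
  haveI hartC : IsArtinianRing (AdicCompletion I (A ⊗[k] k') ⧸
      I.map (algebraMap (A ⊗[k] k') (AdicCompletion I (A ⊗[k] k')))) := by
    have e1 := (Ideal.quotEquivOfEq hker.symm).trans (RingHom.quotientKerEquivOfSurjective
      (f := (AdicCompletion.evalOneₐ I).toRingHom) (AdicCompletion.evalOneₐ_surjective I))
    exact e1.symm.isArtinianRing
  obtain ⟨hfin, hM⟩ := Groth.Agent.H23.SemilocalCpl.semilocal_complete
    (AdicCompletion I (A ⊗[k] k'))
    (I.map (algebraMap (A ⊗[k] k') (AdicCompletion I (A ⊗[k] k'))))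
  haveI hflat : Module.Flat A (AdicCompletion I (A ⊗[k] k')) :=
    Groth.Agent.H23.CplFlat.flat_adicCompletion (IsLocalRing.maximalIdeal A) hfg
  refine ⟨hCn, hfin, h𝔞eq ▸ hc, fun M => ?_⟩
  obtain ⟨hsurj, hcompl⟩ := hM M
  haveI : IsNoetherianRing (Localization.AtPrime M.asIdeal) :=
    IsLocalization.isNoetherianRing M.asIdeal.primeCompl (Localization.AtPrime M.asIdeal)
      inferInstance
  haveI : Module.Flat (AdicCompletion I (A ⊗[k] k')) (Localization.AtPrime M.asIdeal) :=
    IsLocalization.flat _ M.asIdeal.primeCompl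
  haveI : Module.Flat A (Localization.AtPrime M.asIdeal) :=
    Module.Flat.trans A (AdicCompletion I (A ⊗[k] k')) (Localization.AtPrime M.asIdeal)
  have h𝔞M : I.map (algebraMap (A ⊗[k] k') (AdicCompletion I (A ⊗[k] k'))) ≤ M.asIdeal :=
    (IsAdicComplete.le_jacobson_bot _).trans
      (sInf_le (by exact ⟨bot_le, M.isMaximal⟩ :
        M.asIdeal ∈ {J : Ideal (AdicCompletion I (A ⊗[k] k')) | ⊥ ≤ J ∧ J.IsMaximal}))
  have hmapeq : (IsLocalRing.maximalIdeal A).map (algebraMap A (Localization.AtPrime M.asIdeal)) =
      (I.map (algebraMap (A ⊗[k] k') (AdicCompletion I (A ⊗[k] k')))).map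
        (algebraMap (AdicCompletion I (A ⊗[k] k')) (Localization.AtPrime M.asIdeal)) := by
    rw [IsScalarTower.algebraMap_eq A (AdicCompletion I (A ⊗[k] k'))
      (Localization.AtPrime M.asIdeal), ← Ideal.map_map, h𝔞eq]
  have hmap : (IsLocalRing.maximalIdeal A).map (algebraMap A (Localization.AtPrime M.asIdeal)) ≤
      IsLocalRing.maximalIdeal (Localization.AtPrime M.asIdeal) := by
    rw [hmapeq, ← Localization.AtPrime.map_eq_maximalIdeal]
    exact Ideal.map_mono h𝔞M
  haveI hloc : IsLocalHom (algebraMap A (Localization.AtPrime M.asIdeal)) :=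
    ((IsLocalRing.local_hom_TFAE (algebraMap A (Localization.AtPrime M.asIdeal))).out 0 2).mpr hmap
  refine ⟨hcompl, Module.FaithfullyFlat.of_flat_of_isLocalHom, ?_, ?_⟩
  · have h := Groth.Agent.H29.FlatCM.ringKrullDim_eq_add_fibre (A := A)
      (B := Localization.AtPrime M.asIdeal)
    have h0 : ringKrullDim (EGA4.FibRing A (Localization.AtPrime M.asIdeal)) = 0 := by
      haveI : IsArtinianRing (EGA4.FibRing A (Localization.AtPrime M.asIdeal)) := by
        let φ : (AdicCompletion I (A ⊗[k] k') ⧸
            I.map (algebraMap (A ⊗[k] k') (AdicCompletion I (A ⊗[k] k')))) →+*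
            EGA4.FibRing A (Localization.AtPrime M.asIdeal) :=
          Ideal.quotientMap _ (algebraMap (AdicCompletion I (A ⊗[k] k'))
            (Localization.AtPrime M.asIdeal))
            (Ideal.map_le_iff_le_comap.mp (le_of_eq hmapeq.symm))
        have hφ : Function.Surjective φ := Ideal.quotientMap_surjective hsurj
        exact hφ.isArtinianRing
      refine le_antisymm (Ring.krullDimLE_iff.mp inferInstance) ringKrullDim_nonneg_of_nontrivial
    rw [h, h0, add_zero]
  · let l : ((A ⊗[k] k') ⧸ I) →+* (AdicCompletion I (A ⊗[k] k') ⧸ M.asIdeal) :=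
      Ideal.Quotient.lift I ((Ideal.Quotient.mk M.asIdeal).comp
        (algebraMap (A ⊗[k] k') (AdicCompletion I (A ⊗[k] k')))) (by
        intro t ht
        rw [RingHom.comp_apply, Ideal.Quotient.eq_zero_iff_mem]
        exact h𝔞M (Ideal.mem_map_of_mem _ ht))
    have hl : Function.Surjective l := by
      intro y
      obtain ⟨c, rfl⟩ := Ideal.Quotient.mk_surjective y
      obtain ⟨t, ht⟩ := Ideal.Quotient.mk_surjective (AdicCompletion.evalOneₐ I c)
      refine ⟨Ideal.Quotient.mk I t, ?_⟩
      rw [Ideal.Quotient.lift_mk, RingHom.comp_apply]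
      rw [Ideal.Quotient.eq]
      apply h𝔞M
      rw [← hker, RingHom.mem_ker, map_sub, sub_eq_zero]
      change AdicCompletion.evalOneₐ I (algebraMap _ _ t) = AdicCompletion.evalOneₐ I c
      rw [← ht]
      exact AdicCompletion.evalOneₐ_of I t
    have hcomp := RingHom.Finite.comp (RingHom.Finite.of_surjective l hl) hgfin
    exact hcomp

end Groth.Agent.S5993
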