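import Groth.Statements.S5995
import Groth.Agent.H73.UnramSection

set_option autoImplicit false
universe u
open CategoryTheory AlgebraicGeometry
open Unram

namespace Groth.Agent.S5995

/-- Let Y be a reduced scheme whose irreducible components form a locally finite family and all of whose
local rings are geometrically unibranch, f : X ⟶ Y a separated, locally of finite type, formally
unramified morphism, and u : U ⟶ X a section of f over a dense open U of Y which cannot be extended:
whenever v is a section of f over an open V agreeing with u on U ∩ V, V is contained in U (so U is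
the domain of definition of the rational section defined by u). Then the image u(U) is an open and
closed subset of X. -/
theorem result {X Y : Scheme.{u}} [IsReduced Y]
    (hcomp : LocallyFinite (fun Z : ↥(irreducibleComponents ↥Y) => (Z : Set ↥Y)))
    (f : X ⟶ Y) [IsSeparated f] [LocallyOfFiniteType f] [FormallyUnramified f]
    (U : Y.Opens) (hU : Dense (U : Set ↥Y)) (u : (U : Scheme.{u}) ⟶ X) (hu : u ≫ f = U.ι)
    (hY : ∀ y : Y, CAlg2.IsGeomUnibranch (Y.presheaf.stalk y))
    (hmax : ∀ (V : Y.Opens) (v : (V : Scheme.{u}) ⟶ X), v ≫ f = V.ι →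
      Y.homOfLE (inf_le_left : U ⊓ V ≤ U) ≫ u = Y.homOfLE (inf_le_right : U ⊓ V ≤ V) ≫ v → V ≤ U) :
    IsOpen (Set.range u) ∧ IsClosed (Set.range u) := by
  -- u is an open immersion
  haveI : Etale (u ≫ f) := by
    rw [hu]
    infer_instance
  haveI : Etale u := Etale.of_comp u f
  haveI : Mono u := by
    haveI : Mono (u ≫ f) := by
      rw [hu]
      infer_instance
    exact mono_of_mono u f
  haveI : IsOpenImmersion u := IsOpenImmersion.of_flat_of_mono u
  refine ⟨u.isOpenEmbedding.isOpen_range, ?_⟩
  -- closedness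
  rw [← closure_subset_iff_isClosed]
  intro x hx
  -- the section extends near f x
  obtain ⟨V, v, hyV, hvf, hagree⟩ :=
    Groth.Agent.H73.UnramSection.exists_section_nhd hcomp f U hU u hu (f x) (hY (f x))
      ⟨x, hx, rfl⟩
  have hyU : f x ∈ U := hmax V v hvf hagree hyV
  -- u is a closed immersion into f⁻¹ U
  let Z : X.Opens := f ⁻¹ᵁ U
  have hfu : ∀ w : ↥(U : Scheme.{u}), f (u w) = w.1 := by
    intro w
    have := congrArg (fun φ : (U : Scheme.{u}) ⟶ Y => φ w) hu
    exact this
  let u' : (U : Scheme.{u}) ⟶ (Z : Scheme.{u}) := IsOpenImmersion.lift Z.ι u (by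
    rintro _ ⟨w, rfl⟩
    rw [Scheme.Opens.range_ι]
    show f (u w) ∈ U
    rw [hfu w]
    exact w.2)
  have hu' : u' ≫ Z.ι = u := IsOpenImmersion.lift_fac _ _ _
  have hu'f : u' ≫ (f ∣_ U) = 𝟙 _ := by
    rw [← cancel_mono U.ι, Category.assoc, morphismRestrict_ι, ← Category.assoc, hu', hu,
      Category.id_comp]
  haveI : IsClosedImmersion (u' ≫ (f ∣_ U)) := by
    rw [hu'f]
    infer_instance
  haveI : IsClosedImmersion u' := IsClosedImmersion.of_comp u' (f ∣_ U)
  have hcl : IsClosed (Set.range u') := u'.isClosedEmbedding.isClosed_range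
  let xZ : ↥(Z : Scheme.{u}) := ⟨x, hyU⟩
  have hrange : Set.range u = Z.ι '' Set.range u' := by
    rw [← Set.range_comp]
    congr 1
    ext w
    show u w = (u' ≫ Z.ι) w
    rw [hu']
  have h1 : xZ ∈ closure (Set.range u') := by
    rw [Z.ι.isOpenEmbedding.isInducing.closure_eq_preimage_closure_image, ← hrange]
    exact hx
  rw [hcl.closure_eq] at h1
  obtain ⟨w, hw⟩ := h1
  refine ⟨w, ?_⟩
  have : u w = Z.ι (u' w) := by
    rw [← Scheme.Hom.comp_apply, hu']
  rw [this, hw]
  rfl

end Groth.Agent.S5995
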