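import Groth.Statements.S5998
import Mathlib

set_option autoImplicit false
set_option linter.style.haveILetI false
set_option linter.unusedSectionVars false
open TensorProduct
universe u
open SGA1

namespace Groth.Agent.S5998

open TensorProduct in
/-- If the `b i` generate the ideal `K`, the `1 ⊗ b i` span `κ ⊗ K`. -/
theorem tmul_mem_span {L κ : Type u} [CommRing L] [CommRing κ] [Algebra L κ] (K : Ideal L)
    {ι' : Type u} (b : ι' → L) (hb : ∀ i, b i ∈ K) (hK : K = Ideal.span (Set.range b))
    (z : κ ⊗[L] ↥K) :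
    z ∈ Submodule.span κ (Set.range fun i => (1 : κ) ⊗ₜ[L] (⟨b i, hb i⟩ : ↥K)) := by
  induction z using TensorProduct.induction_on with
  | zero => exact Submodule.zero_mem _
  | add x y hx hy => exact Submodule.add_mem _ hx hy
  | tmul a c =>
    have hc' : c.1 ∈ Submodule.span L (Set.range b) := by
      have hle : K ≤ Ideal.span (Set.range b) := le_of_eq hK
      exact hle c.2
    have hspanK : ∀ z ∈ Submodule.span L (Set.range b), z ∈ K := by
      intro z hz
      rw [hK]
      exact hz
    have main : ∀ (a : κ) (hc : c.1 ∈ K), a ⊗ₜ[L] (⟨c.1, hc⟩ : ↥K) ∈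
        Submodule.span κ (Set.range fun i => (1 : κ) ⊗ₜ[L] (⟨b i, hb i⟩ : ↥K)) := by
      refine Submodule.span_induction
        (p := fun c' _ => ∀ (a : κ) (hc : c' ∈ K), a ⊗ₜ[L] (⟨c', hc⟩ : ↥K) ∈
          Submodule.span κ (Set.range fun i => (1 : κ) ⊗ₜ[L] (⟨b i, hb i⟩ : ↥K)))
        ?_ ?_ ?_ ?_ hc'
      · rintro _ ⟨i, rfl⟩ a hc
        have h : a ⊗ₜ[L] (⟨b i, hc⟩ : ↥K) = a • ((1 : κ) ⊗ₜ[L] (⟨b i, hb i⟩ : ↥K)) := by
          rw [TensorProduct.smul_tmul', smul_eq_mul, mul_one]
        rw [h]
        exact Submodule.smul_mem _ _ (Submodule.subset_span ⟨i, rfl⟩)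
      · intro a hc
        have h : (⟨0, hc⟩ : ↥K) = 0 := rfl
        rw [h, TensorProduct.tmul_zero]
        exact Submodule.zero_mem _
      · intro x y hx hy ihx ihy a hc
        have h : (⟨x + y, hc⟩ : ↥K) = ⟨x, hspanK x hx⟩ + ⟨y, hspanK y hy⟩ := rfl
        rw [h, TensorProduct.tmul_add]
        exact Submodule.add_mem _ (ihx a _) (ihy a _)
      · intro r x hx ihx a hc
        have h : (⟨r • x, hc⟩ : ↥K) = r • ⟨x, hspanK x hx⟩ := rfl
        rw [h, ← TensorProduct.smul_tmul]
        exact ihx (r • a) _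
    exact main a c.2

/-- Nakayama: if the `1 ⊗ b i` span the fibre of the finitely generated ideal `K` of a local ring,
the `b i` generate `K`. -/
theorem le_span_of_tmul_span {L : Type u} [CommRing L] [IsLocalRing L] (K : Ideal L) (hKfg : K.FG)
    {ι' : Type u} [Fintype ι'] (b : ι' → L) (hb : ∀ i, b i ∈ K)
    (hsp : ∀ z : IsLocalRing.ResidueField L ⊗[L] ↥K, z ∈
      Submodule.span (IsLocalRing.ResidueField L)
        (Set.range fun i => (1 : IsLocalRing.ResidueField L) ⊗ₜ[L] (⟨b i, hb i⟩ : ↥K))) :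
    K ≤ Ideal.span (Set.range b) := by
  refine Submodule.le_of_le_smul_of_le_jacobson_bot (I := IsLocalRing.maximalIdeal L) hKfg
    (IsLocalRing.maximalIdeal_le_jacobson _) ?_
  intro x hx
  obtain ⟨c, hc⟩ := (Submodule.mem_span_range_iff_exists_fun _).mp
    (hsp ((1 : IsLocalRing.ResidueField L) ⊗ₜ[L] (⟨x, hx⟩ : ↥K)))
  choose α hα using fun i => IsLocalRing.residue_surjective (c i)
  have hw : (1 : IsLocalRing.ResidueField L) ⊗ₜ[L]
      ((⟨x, hx⟩ : ↥K) - ∑ i, α i • (⟨b i, hb i⟩ : ↥K)) = 0 := by
    rw [TensorProduct.tmul_sub, TensorProduct.tmul_sum, ← hc, sub_eq_zero]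
    refine Finset.sum_congr rfl fun i _ => ?_
    rw [TensorProduct.tmul_smul, ← hα i]
    exact algebraMap_smul (IsLocalRing.ResidueField L) (α i) _
  have hw' : ((⟨x, hx⟩ : ↥K) - ∑ i, α i • (⟨b i, hb i⟩ : ↥K)) ∈
      (IsLocalRing.maximalIdeal L) • (⊤ : Submodule L ↥K) := by
    rw [← LinearMap.ker_tensorProductMk]
    exact hw
  have hw'' := (Submodule.mem_smul_top_iff (IsLocalRing.maximalIdeal L) K _).mp hw'
  have hcoe : (((⟨x, hx⟩ : ↥K) - ∑ i, α i • (⟨b i, hb i⟩ : ↥K) : ↥K) : L) =
      x - ∑ i, α i * b i := by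
    rw [AddSubgroupClass.coe_sub, Submodule.coe_sum]
    rfl
  rw [hcoe] at hw''
  have hx_eq : x = ∑ i, α i * b i + (x - ∑ i, α i * b i) := by ring
  rw [hx_eq]
  refine Submodule.add_mem_sup ?_ hw''
  exact Ideal.sum_mem _ fun i _ => Ideal.mul_mem_left _ _ (Ideal.subset_span ⟨i, rfl⟩)

/-- The fibre of the differentials at a prime can be computed in the local ring. -/
theorem exists_fibre_equiv (R A : Type u) [CommRing R] [CommRing A] [Algebra R A] (q : Ideal A)
    [q.IsPrime] :
    ∃ e : q.ResidueField ⊗[A] Ω[A⁄R] ≃ₗ[q.ResidueField]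
        q.ResidueField ⊗[Localization.AtPrime q] Ω[Localization.AtPrime q⁄R],
      ∀ a : A, e ((1 : q.ResidueField) ⊗ₜ[A] KaehlerDifferential.D R A a) =
        (1 : q.ResidueField) ⊗ₜ[Localization.AtPrime q]
          KaehlerDifferential.D R (Localization.AtPrime q) (algebraMap A (Localization.AtPrime q) a) := by
  haveI : Algebra.FormallyEtale A (Localization.AtPrime q) :=
    Algebra.FormallyEtale.of_isLocalization q.primeCompl
  let e1 : (Localization.AtPrime q) ⊗[A] Ω[A⁄R] ≃ₗ[Localization.AtPrime q]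
      Ω[Localization.AtPrime q⁄R] :=
    KaehlerDifferential.tensorKaehlerEquivOfFormallyEtale R A (Localization.AtPrime q)
  let e2 : q.ResidueField ⊗[Localization.AtPrime q] ((Localization.AtPrime q) ⊗[A] Ω[A⁄R])
      ≃ₗ[q.ResidueField] q.ResidueField ⊗[A] Ω[A⁄R] :=
    AlgebraTensorModule.cancelBaseChange A (Localization.AtPrime q) q.ResidueField
      q.ResidueField Ω[A⁄R]
  let e3 : q.ResidueField ⊗[Localization.AtPrime q] ((Localization.AtPrime q) ⊗[A] Ω[A⁄R])
      ≃ₗ[q.ResidueField] q.ResidueField ⊗[Localization.AtPrime q] Ω[Localization.AtPrime q⁄R] :=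
    AlgebraTensorModule.congr (LinearEquiv.refl q.ResidueField q.ResidueField) e1
  refine ⟨e2.symm.trans e3, fun a => ?_⟩
  rw [LinearEquiv.trans_apply, AlgebraTensorModule.cancelBaseChange_symm_tmul,
    AlgebraTensorModule.congr_tmul, LinearEquiv.refl_apply,
    KaehlerDifferential.tensorKaehlerEquivOfFormallyEtale_apply,
    KaehlerDifferential.mapBaseChange_tmul, one_smul, KaehlerDifferential.map_D]

section Local

variable (R A : Type u) [CommRing R] [CommRing A] [Algebra R A] (I : Ideal A)
  (P : Ideal (A ⧸ I)) [P.IsPrime]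

local notation "SP" => Localization.AtPrime P
local notation "Aq" => Localization.AtPrime (Ideal.comap (Ideal.Quotient.mk I) P)
local notation "κq" =>
  IsLocalRing.ResidueField (Localization.AtPrime (Ideal.comap (Ideal.Quotient.mk I) P))

theorem jacobian_iff [IsNoetherianRing R] [Algebra.Smooth R A] :
    Algebra.IsSmoothAt R P ↔ ∃ s : Finset A, (↑s : Set A) ⊆ (I : Set A) ∧
      Ideal.map (algebraMap A Aq) I = Ideal.span ((algebraMap A Aq) '' (↑s : Set A)) ∧
      LinearIndependent κq
        (fun g : ↥s => (1 : κq) ⊗ₜ[A] KaehlerDifferential.D R A (g : A)) := by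
  classical
  haveI : IsNoetherianRing A := Algebra.FiniteType.isNoetherianRing R A
  let φ : Aq →+* SP :=
    Localization.localRingHom (Ideal.comap (Ideal.Quotient.mk I) P) P (Ideal.Quotient.mk I) rfl
  letI : Algebra Aq SP := φ.toAlgebra
  have hφ_apply : ∀ z, algebraMap Aq SP z = φ z := fun z => rfl
  haveI : IsScalarTower A Aq SP :=
    IsScalarTower.of_algebraMap_eq (fun a => by
      rw [hφ_apply, Localization.localRingHom_to_map,
        IsScalarTower.algebraMap_apply A (A ⧸ I) SP]
      rfl)
  haveI : IsScalarTower R Aq SP :=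
    IsScalarTower.of_algebraMap_eq (fun r => by
      rw [IsScalarTower.algebraMap_apply R A Aq, ← IsScalarTower.algebraMap_apply A Aq SP,
        ← IsScalarTower.algebraMap_apply R A SP])
  have h₁ : Function.Surjective (algebraMap Aq SP) := by
    intro s
    obtain ⟨y, u, rfl⟩ := IsLocalization.exists_mk'_eq P.primeCompl s
    obtain ⟨x, rfl⟩ := Ideal.Quotient.mk_surjective y
    obtain ⟨t, ht⟩ := Ideal.Quotient.mk_surjective u.1
    have htq : t ∈ (Ideal.comap (Ideal.Quotient.mk I) P).primeCompl := fun htm => u.2 (by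
      rw [← ht]
      exact htm)
    refine ⟨IsLocalization.mk' _ x ⟨t, htq⟩, ?_⟩
    rw [hφ_apply, Localization.localRingHom_mk']
    congr 1
    exact Subtype.ext ht
  have hker : RingHom.ker (algebraMap Aq SP) = I.map (algebraMap A Aq) := by
    have hT : Submonoid.map (Ideal.Quotient.mk I)
        (Ideal.comap (Ideal.Quotient.mk I) P).primeCompl = P.primeCompl := by
      ext y
      constructor
      · rintro ⟨x, hx, rfl⟩
        exact hx
      · intro hy
        obtain ⟨x, rfl⟩ := Ideal.Quotient.mk_surjective y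
        exact ⟨x, hy, rfl⟩
    have h := IsLocalization.ker_map (S := Aq) SP (Ideal.Quotient.mk I) hT
    rw [Ideal.mk_ker] at h
    exact h
  have h₂ : (RingHom.ker (algebraMap Aq SP)).FG := by
    rw [hker]
    exact Ideal.FG.map (IsNoetherian.noetherian I) _
  haveI : Algebra.FormallySmooth R Aq := inferInstance
  haveI : Algebra.EssFiniteType A Aq :=
    .of_isLocalization _ (Ideal.comap (Ideal.Quotient.mk I) P).primeCompl
  haveI : Algebra.EssFiniteType R Aq := .comp _ A _
  haveI : Module.Finite Aq Ω[Aq⁄R] := inferInstance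
  haveI : Module.Free Aq Ω[Aq⁄R] := Module.free_of_flat_of_isLocalRing
  -- the residue field of `Aq` as an algebra over `SP`
  have hnonunit : ∀ b : Aq, ¬ IsUnit (algebraMap Aq SP b) → IsLocalRing.residue Aq b = 0 := by
    intro b hb
    rw [IsLocalRing.residue_eq_zero_iff, IsLocalRing.mem_maximalIdeal, mem_nonunits_iff]
    exact fun hu => hb (hu.map _)
  have hkerle : RingHom.ker (algebraMap Aq SP) ≤ RingHom.ker (IsLocalRing.residue Aq) := by
    intro b hb
    rw [RingHom.mem_ker]
    apply hnonunit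
    rw [RingHom.mem_ker.mp hb]
    exact not_isUnit_zero
  let θ : SP →+* κq := (algebraMap Aq SP).liftOfSurjective h₁ ⟨IsLocalRing.residue Aq, hkerle⟩
  have hθ : ∀ b : Aq, θ (algebraMap Aq SP b) = IsLocalRing.residue Aq b := fun b =>
    RingHom.liftOfSurjective_comp_apply (algebraMap Aq SP) h₁ ⟨IsLocalRing.residue Aq, hkerle⟩ b
  letI : Algebra SP κq := θ.toAlgebra
  haveI : IsScalarTower Aq SP κq := IsScalarTower.of_algebraMap_eq (fun b => (hθ b).symm)
  have h₃ : IsLocalRing.maximalIdeal SP ≤ RingHom.ker (algebraMap SP κq) := by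
    intro z hz
    obtain ⟨b, rfl⟩ := h₁ z
    rw [RingHom.mem_ker]
    show θ (algebraMap Aq SP b) = 0
    rw [hθ]
    apply hnonunit
    exact (IsLocalRing.mem_maximalIdeal _).mp hz
  show Algebra.FormallySmooth R SP ↔ _
  rw [Algebra.FormallySmooth.iff_injective_cotangentComplexBaseChange Aq κq h₁ h₂ h₃]
  have hF : ∀ (a : κq) (b : ↥(RingHom.ker (algebraMap Aq SP))),
      KaehlerDifferential.cotangentComplexBaseChange R SP Aq κq (a ⊗ₜ b) =
        a • ((1 : κq) ⊗ₜ[Aq] KaehlerDifferential.D R Aq (b : Aq)) := fun a b => rfl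
  have hJK : ∀ j ∈ I, algebraMap A Aq j ∈ RingHom.ker (algebraMap Aq SP) := fun j hj => by
    rw [hker]
    exact Ideal.mem_map_of_mem _ hj
  obtain ⟨e, he⟩ := exists_fibre_equiv R A (Ideal.comap (Ideal.Quotient.mk I) P)
  haveI : Module.Finite Aq ↥(RingHom.ker (algebraMap Aq SP)) := Module.Finite.iff_fg.mpr h₂
  haveI : Module.Finite κq (κq ⊗[Aq] ↥(RingHom.ker (algebraMap Aq SP))) := inferInstance
  constructor
  · intro hinj
    -- the spanning family indexed by `I`
    have hKI : RingHom.ker (algebraMap Aq SP) =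
        Ideal.span (Set.range fun g : ↥I => algebraMap A Aq g.1) := by
      rw [hker]
      show Ideal.span (algebraMap A Aq '' (I : Set A)) = _
      congr 1
      ext y
      constructor
      · rintro ⟨x, hx, rfl⟩
        exact ⟨⟨x, hx⟩, rfl⟩
      · rintro ⟨g, rfl⟩
        exact ⟨g.1, g.2, rfl⟩
    have hspI := tmul_mem_span (κ := κq) (RingHom.ker (algebraMap Aq SP))
      (fun g : ↥I => algebraMap A Aq g.1) (fun g => hJK g.1 g.2) hKI
    obtain ⟨κ, a, ha, hsp, hli⟩ := exists_linearIndependent' κq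
      (fun g : ↥I => (1 : κq) ⊗ₜ[Aq]
        (⟨algebraMap A Aq g.1, hJK g.1 g.2⟩ : ↥(RingHom.ker (algebraMap Aq SP))))
    haveI : Finite κ := hli.finite
    letI : Fintype κ := Fintype.ofFinite κ
    refine ⟨Finset.univ.image (fun k => ((a k : ↥I) : A)), ?_, ?_, ?_⟩
    · intro x hx
      obtain ⟨k, -, rfl⟩ := Finset.mem_image.mp (Finset.mem_coe.mp hx)
      exact (a k).2
    · -- Nakayama
      have hsub : Ideal.span ((algebraMap A Aq) ''
          (↑(Finset.univ.image (fun k => ((a k : ↥I) : A))) : Set A)) =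
          Ideal.span (Set.range fun k => algebraMap A Aq (a k).1) := by
        congr 1
        ext y
        constructor
        · rintro ⟨x, hx, rfl⟩
          obtain ⟨k, -, rfl⟩ := Finset.mem_image.mp (Finset.mem_coe.mp hx)
          exact ⟨k, rfl⟩
        · rintro ⟨k, rfl⟩
          exact ⟨(a k).1, Finset.mem_coe.mpr (Finset.mem_image.mpr ⟨k, Finset.mem_univ _, rfl⟩),
            rfl⟩
      rw [hsub, ← hker]
      apply le_antisymm
      · refine le_span_of_tmul_span (RingHom.ker (algebraMap Aq SP)) h₂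
          (fun k => algebraMap A Aq (a k).1) (fun k => hJK _ (a k).2) (fun z => ?_)
        have hz := hspI z
        rw [← hsp] at hz
        exact hz
      · rw [Ideal.span_le]
        rintro _ ⟨k, rfl⟩
        exact hJK _ (a k).2
    · -- linear independence
      have hli2 : LinearIndependent κq
          (fun k => (1 : κq) ⊗ₜ[Aq] KaehlerDifferential.D R Aq (algebraMap A Aq (a k).1)) := by
        have h := hli.map' (KaehlerDifferential.cotangentComplexBaseChange R SP Aq κq)
          (LinearMap.ker_eq_bot.mpr hinj)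
        have hfun : (⇑(KaehlerDifferential.cotangentComplexBaseChange R SP Aq κq) ∘
            ((fun g : ↥I => (1 : κq) ⊗ₜ[Aq]
              (⟨algebraMap A Aq g.1, hJK g.1 g.2⟩ : ↥(RingHom.ker (algebraMap Aq SP)))) ∘ a)) =
            fun k => (1 : κq) ⊗ₜ[Aq] KaehlerDifferential.D R Aq (algebraMap A Aq (a k).1) := by
          funext k
          rw [Function.comp_apply, Function.comp_apply, hF, one_smul]
        rw [hfun] at h
        exact h
      have hli3 : LinearIndependent κq
          (fun k => (1 : κq) ⊗ₜ[A] KaehlerDifferential.D R A (a k).1) := by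
        have h := hli2.map' e.symm.toLinearMap (LinearEquiv.ker e.symm)
        have hfun : (⇑e.symm.toLinearMap ∘
            fun k => (1 : κq) ⊗ₜ[Aq] KaehlerDifferential.D R Aq (algebraMap A Aq (a k).1)) =
            fun k => (1 : κq) ⊗ₜ[A] KaehlerDifferential.D R A (a k).1 := by
          funext k
          rw [Function.comp_apply, ← he, LinearEquiv.coe_coe, LinearEquiv.symm_apply_apply]
        rw [hfun] at h
        exact h
      let eq : κ ≃ ↥(Finset.univ.image (fun k => ((a k : ↥I) : A))) :=
        Equiv.ofBijective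
          (fun k => ⟨(a k).1, Finset.mem_image.mpr ⟨k, Finset.mem_univ _, rfl⟩⟩)
          ⟨fun k k' h => by
            have h' : ((a k : ↥I) : A) = ((a k' : ↥I) : A) := by
              have h2 := congrArg Subtype.val h
              exact h2
            exact ha (Subtype.ext h'), fun g => by
            obtain ⟨k, -, hk⟩ := Finset.mem_image.mp g.2
            exact ⟨k, Subtype.ext hk⟩⟩
      exact (linearIndependent_equiv eq).mp hli3
  · rintro ⟨s, hsI, hgen, hli⟩
    have hsI' : ∀ g : ↥s, g.1 ∈ I := fun g => hsI (Finset.mem_coe.mpr g.2)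
    have hKs : RingHom.ker (algebraMap Aq SP) =
        Ideal.span (Set.range fun g : ↥s => algebraMap A Aq g.1) := by
      rw [hker, hgen]
      congr 1
      ext y
      constructor
      · rintro ⟨x, hx, rfl⟩
        exact ⟨⟨x, Finset.mem_coe.mp hx⟩, rfl⟩
      · rintro ⟨g, rfl⟩
        exact ⟨g.1, Finset.mem_coe.mpr g.2, rfl⟩
    have hsps := tmul_mem_span (κ := κq) (RingHom.ker (algebraMap Aq SP))
      (fun g : ↥s => algebraMap A Aq g.1) (fun g => hJK g.1 (hsI' g)) hKs
    have hli2 : LinearIndependent κq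
        (fun g : ↥s => (1 : κq) ⊗ₜ[Aq] KaehlerDifferential.D R Aq (algebraMap A Aq g.1)) := by
      have h := hli.map' e.toLinearMap (LinearEquiv.ker e)
      have hfun : (⇑e.toLinearMap ∘
          fun g : ↥s => (1 : κq) ⊗ₜ[A] KaehlerDifferential.D R A (g : A)) =
          fun g : ↥s => (1 : κq) ⊗ₜ[Aq] KaehlerDifferential.D R Aq (algebraMap A Aq g.1) := by
        funext g
        rw [Function.comp_apply, LinearEquiv.coe_coe, he]
      rw [hfun] at h
      exact h
    rw [injective_iff_map_eq_zero]
    intro x hx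
    obtain ⟨c, hc⟩ := (Submodule.mem_span_range_iff_exists_fun _).mp (hsps x)
    have hx2 : ∑ g : ↥s, c g • ((1 : κq) ⊗ₜ[Aq]
        KaehlerDifferential.D R Aq (algebraMap A Aq g.1)) = 0 := by
      rw [← hx, ← hc, map_sum]
      refine Finset.sum_congr rfl fun g _ => ?_
      rw [map_smul, hF, one_smul]
    have hc0 := Fintype.linearIndependent_iff.mp hli2 c hx2
    rw [← hc]
    exact Finset.sum_eq_zero fun g _ => by rw [hc0 g, zero_smul]

end Local

/-- Let R be a Noetherian ring, A a smooth R-algebra, I an ideal of A, P a prime ideal of A/I and q its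
preimage in A. Then A/I is smooth over R at P (that is, the local ring of A/I at P is formally
smooth over R) exactly when there are finitely many elements g_1, ..., g_p of I generating the ideal
I·A_q whose differentials dg_i have linearly independent images in κ(q) ⊗_A Ω_{A/R}. -/
theorem result
    (R A : Type u) [CommRing R] [CommRing A] [IsNoetherianRing R] [Algebra R A] [Algebra.Smooth R A]
    (I : Ideal A) (P : Ideal (A ⧸ I)) [P.IsPrime] :
    letI q : Ideal A := P.comap (Ideal.Quotient.mk I)
    Algebra.IsSmoothAt R P ↔ ∃ s : Finset A, (↑s : Set A) ⊆ (I : Set A) ∧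
      Ideal.map (algebraMap A (Localization.AtPrime q)) I =
        Ideal.span ((algebraMap A (Localization.AtPrime q)) '' (↑s : Set A)) ∧
      LinearIndependent q.ResidueField
        (fun g : ↥s => (1 : q.ResidueField) ⊗ₜ[A] KaehlerDifferential.D R A (g : A)) := by
  exact jacobian_iff R A I P

end Groth.Agent.S5998
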