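import Groth.Statements.S5999
import Groth.Agent.H79.HyperSmooth

set_option autoImplicit false
universe u
open SGA1

namespace Groth.Agent.S5999

open TensorProduct in
theorem aux
    (R A : Type u) [CommRing R] [CommRing A] [Algebra R A] [Algebra.FiniteType R A]
    (F : A) (P : Ideal (A ⧸ Ideal.span ({F} : Set A))) [P.IsPrime] (q : Ideal A) [q.IsPrime]
    (hq : q = P.comap (Ideal.Quotient.mk (Ideal.span ({F} : Set A))))
    (hX : Algebra.IsSmoothAt R q) :
    Algebra.IsSmoothAt R P ↔ algebraMap A (Localization.AtPrime q) F = 0 ∨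
      (1 : q.ResidueField) ⊗ₜ[A] KaehlerDifferential.D R A F ≠ 0 := by
  classical
  let Pq := Localization.AtPrime q
  let g : Pq := algebraMap A Pq F
  let A' := Pq ⧸ (Ideal.span ({F} : Set A)).map (algebraMap A Pq)
  haveI hFS : Algebra.FormallySmooth R Pq := hX
  haveI : Algebra.EssFiniteType R Pq := Algebra.EssFiniteType.comp R A Pq
  haveI : Module.Finite Pq Ω[Pq⁄R] := inferInstance
  -- `A'` is the localization of `A ⧸ I` at `P`
  have hsub : Algebra.algebraMapSubmonoid (A ⧸ Ideal.span ({F} : Set A)) q.primeCompl =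
      P.primeCompl := by
    ext x
    constructor
    · rintro ⟨a, ha, rfl⟩
      intro hmem
      exact ha (hq ▸ hmem)
    · intro hx
      obtain ⟨a, rfl⟩ := Ideal.Quotient.mk_surjective x
      refine ⟨a, ?_, rfl⟩
      intro ha
      exact hx (by rw [hq] at ha; exact ha)
  haveI hloc : IsLocalization.AtPrime A' P := by
    have : IsLocalization (Algebra.algebraMapSubmonoid (A ⧸ Ideal.span ({F} : Set A))
      q.primeCompl) A' := inferInstance
    rwa [hsub] at this
  let e : Localization.AtPrime P ≃ₐ[A ⧸ Ideal.span ({F} : Set A)] A' :=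
    IsLocalization.algEquiv P.primeCompl (Localization.AtPrime P) A'
  haveI : IsScalarTower R (A ⧸ Ideal.span ({F} : Set A)) A' := IsScalarTower.of_algebraMap_eq' (by
    ext r
    rfl)
  let eR : Localization.AtPrime P ≃ₐ[R] A' := e.restrictScalars R
  have hiff : Algebra.IsSmoothAt R P ↔ Algebra.FormallySmooth R A' :=
    ⟨fun h => Algebra.FormallySmooth.of_equiv eR, fun h => Algebra.FormallySmooth.of_equiv eR.symm⟩
  have hFq : F ∈ q := by
    rw [hq]
    change Ideal.Quotient.mk (Ideal.span ({F} : Set A)) F ∈ P
    rw [Ideal.Quotient.eq_zero_iff_mem.mpr (Ideal.mem_span_singleton_self F)]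
    exact P.zero_mem
  have hgm : g ∈ IsLocalRing.maximalIdeal Pq :=
    (IsLocalization.AtPrime.to_map_mem_maximal_iff Pq q F).mpr hFq
  have hker : RingHom.ker (algebraMap Pq A') = Ideal.span {g} := by
    change RingHom.ker (Ideal.Quotient.mk ((Ideal.span ({F} : Set A)).map (algebraMap A Pq))) = _
    rw [Ideal.mk_ker, Ideal.map_span, Set.image_singleton]
  have hsurj : Function.Surjective (algebraMap Pq A') := Ideal.Quotient.mk_surjective
  rw [hiff, Groth.Agent.H79.HyperSmooth.formallySmooth_iff hsurj g hgm hker]
  refine or_congr Iff.rfl (not_congr ?_)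
  rw [Groth.Agent.H79.HyperSmooth.tmul_eq_zero_iff q (KaehlerDifferential.map R R A Pq),
    KaehlerDifferential.map_D]

open TensorProduct in
/-- Let R be a Noetherian ring, A an R-algebra of finite type, F an element of A, P a prime ideal of
A/(F) and q its preimage in A, and suppose A is smooth over R at q. Then the hypersurface A/(F) is
smooth over R at P if and only if either F is zero in the local ring A_q (F vanishes on a
neighbourhood of q) or the image dF(q) of the differential of F in κ(q) ⊗_A Ω_{A/R} is nonzero. -/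
theorem result
    (R A : Type u) [CommRing R] [CommRing A] [IsNoetherianRing R] [Algebra R A] [Algebra.FiniteType R A]
    (F : A) (P : Ideal (A ⧸ Ideal.span ({F} : Set A))) [P.IsPrime]
    (hX : Algebra.IsSmoothAt R (P.comap (Ideal.Quotient.mk (Ideal.span ({F} : Set A))))) :
    letI q : Ideal A := P.comap (Ideal.Quotient.mk (Ideal.span ({F} : Set A)))
    Algebra.IsSmoothAt R P ↔ algebraMap A (Localization.AtPrime q) F = 0 ∨
      (1 : q.ResidueField) ⊗ₜ[A] KaehlerDifferential.D R A F ≠ 0 := by
  exact aux R A F P _ rfl hX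

end Groth.Agent.S5999
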