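import Groth.Statements.S6001
import Mathlib
import Groth.Agent.H48.ComplUnram
import Groth.Agent.H87.SecLoc
import Groth.Agent.H29.RedModP

set_option autoImplicit false
universe u
open SGA1

namespace Groth.Agent.S6001

/-- Let A be a Noetherian local ring which is analytically reduced (its completion has no nonzero
nilpotents), and let B be the local ring at a prime q, lying over the maximal ideal of A, of an
A-algebra C of finite type that is etale over A at q (an etale local homomorphism A ⟶ B). Then B is
analytically reduced, and in particular reduced. -/
theorem result (A C : Type u) [CommRing A] [IsLocalRing A]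
    [IsNoetherianRing A] [CommRing C] [Algebra A C] [Algebra.FiniteType A C] (q : Ideal C) [q.IsPrime]
    (hq : Ideal.comap (algebraMap A C) q = IsLocalRing.maximalIdeal A) (hC : Algebra.IsEtaleAt A q)
    (hA : IsReduced (AdicCompletion (IsLocalRing.maximalIdeal A) A)) :
    IsReduced (AdicCompletion (IsLocalRing.maximalIdeal (Localization.AtPrime q)) (Localization.AtPrime q)) ∧
      IsReduced (Localization.AtPrime q) := by
  classical
  haveI : IsNoetherianRing C := Algebra.FiniteType.isNoetherianRing A C
  haveI : IsNoetherianRing (Localization.AtPrime q) :=
    IsLocalization.isNoetherianRing q.primeCompl _ inferInstance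
  haveI : Algebra.FinitePresentation A C := Algebra.FinitePresentation.of_finiteType.mp inferInstance
  haveI hFE : Algebra.FormallyEtale A (Localization.AtPrime q) := hC
  haveI hloc : IsLocalHom (algebraMap A (Localization.AtPrime q)) := by
    constructor
    intro a ha
    rw [IsScalarTower.algebraMap_apply A C (Localization.AtPrime q)] at ha
    have h1 : algebraMap A C a ∈ q.primeCompl :=
      (IsLocalization.AtPrime.isUnit_to_map_iff (Localization.AtPrime q) q _).mp ha
    by_contra hna
    have h2 : a ∈ IsLocalRing.maximalIdeal A := (IsLocalRing.mem_maximalIdeal a).mpr hna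
    rw [← hq] at h2
    exact h1 h2
  -- flatness
  obtain ⟨f, hf, hEt⟩ := Algebra.exists_etale_of_isEtaleAt (R := A) q
  have hle : Submonoid.powers f ≤ q.primeCompl := by
    rw [Submonoid.powers_le]; exact hf
  letI : Algebra (Localization.Away f) (Localization.AtPrime q) :=
    IsLocalization.localizationAlgebraOfSubmonoidLe _ _ (Submonoid.powers f) q.primeCompl hle
  haveI : IsScalarTower C (Localization.Away f) (Localization.AtPrime q) :=
    IsLocalization.localization_isScalarTower_of_submonoid_le _ _ _ _ hle
  haveI : IsLocalization ((q.primeCompl).map (algebraMap C (Localization.Away f)))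
      (Localization.AtPrime q) :=
    IsLocalization.isLocalization_of_submonoid_le _ _ _ _ hle
  haveI : Module.Flat (Localization.Away f) (Localization.AtPrime q) :=
    IsLocalization.flat _ ((q.primeCompl).map (algebraMap C (Localization.Away f)))
  haveI : IsScalarTower A (Localization.Away f) (Localization.AtPrime q) :=
    IsScalarTower.of_algebraMap_eq (fun a => by
      rw [IsScalarTower.algebraMap_apply A C (Localization.AtPrime q),
        IsScalarTower.algebraMap_apply C (Localization.Away f) (Localization.AtPrime q),
        ← IsScalarTower.algebraMap_apply A C (Localization.Away f)])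
  haveI : Module.Flat A (Localization.Away f) := inferInstance
  haveI hflat : Module.Flat A (Localization.AtPrime q) :=
    Module.Flat.trans A (Localization.Away f) _
  haveI : Algebra.EssFiniteType C (Localization.AtPrime q) :=
    Algebra.EssFiniteType.of_isLocalization _ q.primeCompl
  haveI : Algebra.EssFiniteType A (Localization.AtPrime q) :=
    Algebra.EssFiniteType.comp A C (Localization.AtPrime q)
  have hm : (IsLocalRing.maximalIdeal A).map (algebraMap A (Localization.AtPrime q)) =
      IsLocalRing.maximalIdeal (Localization.AtPrime q) :=
    Algebra.FormallyUnramified.map_maximalIdeal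
  have hfin : Module.Finite (IsLocalRing.ResidueField A)
      (IsLocalRing.ResidueField (Localization.AtPrime q)) := inferInstance
  have hsep : Algebra.IsSeparable (IsLocalRing.ResidueField A)
      (IsLocalRing.ResidueField (Localization.AtPrime q)) := inferInstance
  -- the map on completions
  have hφ : IsLocalRing.maximalIdeal A ≤
      (IsLocalRing.maximalIdeal (Localization.AtPrime q)).comap
        (Algebra.ofId A (Localization.AtPrime q)) := by
    intro a ha
    rw [Ideal.mem_comap]
    rw [← hm]
    exact Ideal.mem_map_of_mem _ ha
  let ψ := Groth.Agent.H87.ComplIso.hatMap (IsLocalRing.maximalIdeal A)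
    (IsLocalRing.maximalIdeal (Localization.AtPrime q))
    (Algebra.ofId A (Localization.AtPrime q)) hφ
  have hψ : ψ.toRingHom.comp (algebraMap A (AdicCompletion (IsLocalRing.maximalIdeal A) A)) =
      (algebraMap (Localization.AtPrime q)
        (AdicCompletion (IsLocalRing.maximalIdeal (Localization.AtPrime q))
          (Localization.AtPrime q))).comp (algebraMap A (Localization.AtPrime q)) := by
    refine RingHom.ext (fun a => ?_)
    exact Groth.Agent.H87.SecLoc.hatMap_algebraMap (IsLocalRing.maximalIdeal A)
      (IsLocalRing.maximalIdeal (Localization.AtPrime q))
      (Algebra.ofId A (Localization.AtPrime q)) hφ a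
  letI : Algebra (AdicCompletion (IsLocalRing.maximalIdeal A) A)
      (AdicCompletion (IsLocalRing.maximalIdeal (Localization.AtPrime q))
        (Localization.AtPrime q)) := ψ.toRingHom.toAlgebra
  haveI : IsLocalHom (algebraMap (AdicCompletion (IsLocalRing.maximalIdeal A) A)
      (AdicCompletion (IsLocalRing.maximalIdeal (Localization.AtPrime q))
        (Localization.AtPrime q))) :=
    Groth.Agent.H48.isLocalHom_completion A (Localization.AtPrime q) ψ.toRingHom hψ
  haveI hEtale : Algebra.Etale (AdicCompletion (IsLocalRing.maximalIdeal A) A)
      (AdicCompletion (IsLocalRing.maximalIdeal (Localization.AtPrime q))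
        (Localization.AtPrime q)) :=
    (Groth.Agent.H48.completion_etale_iff A (Localization.AtPrime q) hψ).mp
      ⟨hflat, hm, hfin, hsep⟩
  haveI := hA
  haveI hred : IsReduced (AdicCompletion (IsLocalRing.maximalIdeal (Localization.AtPrime q))
      (Localization.AtPrime q)) :=
    Groth.Agent.H29.RedModP.isReduced_of_smooth
      (AdicCompletion (IsLocalRing.maximalIdeal A) A) _
  refine ⟨hred, ?_⟩
  have hinj : Function.Injective (algebraMap (Localization.AtPrime q)
      (AdicCompletion (IsLocalRing.maximalIdeal (Localization.AtPrime q))
        (Localization.AtPrime q))) := by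
    intro x y hxy
    exact AdicCompletion.of_injective (I := IsLocalRing.maximalIdeal (Localization.AtPrime q))
      (M := Localization.AtPrime q) hxy
  exact isReduced_of_injective _ hinj

end Groth.Agent.S6001
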