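import Groth.Statements.S6003
import Groth.Agent.H40.FpqcFam
import Groth.Agent.S0079
import Groth.Agent.H51.FpqcLocPInst

set_option autoImplicit false
universe u
open CategoryTheory AlgebraicGeometry
open SGA1

namespace Groth.Agent.S6003

set_option backward.isDefEq.respectTransparency.types false in
/-- Let G be an S-group scheme which is flat and quasi-compact over S and let G act on the S-scheme X.
Then X is a principal homogeneous bundle under G (a pseudo-torsor which acquires sections on the
members of some fpqc covering family of S) if and only if X is formally principal homogeneous (a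
pseudo-torsor) and the structure morphism X → S is faithfully flat and quasi-compact. -/
theorem result {S : Scheme.{u}}
    (G X : Over S) [GrpObj G] [Flat G.hom] [QuasiCompact G.hom] (a : AlgGrp.Action G X) :
    NonAbH1.IsTorsorFor Scheme.fpqcPrecoverage a ↔
      (NonAbH1.IsPseudoTorsorSch a ∧ Surjective X.hom ∧ Flat X.hom ∧ QuasiCompact X.hom) := by
  open Groth.Agent.H40.FpqcFam in
  constructor
  · intro ha
    have hsurj : Surjective G.hom := by
      constructor
      intro x
      refine ⟨(MonObj.one : MonoidalCategoryStruct.tensorUnit (Over S) ⟶ G).left x, ?_⟩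
      rw [← Scheme.Hom.comp_apply, Over.w (MonObj.one : MonoidalCategoryStruct.tensorUnit (Over S) ⟶ G)]
      rfl
    exact ⟨ha.1, transfer (@Surjective : MorphismProperty Scheme.{u}) inferInstance ha hsurj,
      transfer (@Flat : MorphismProperty Scheme.{u}) Groth.Agent.H51.flat_descendsAlong_fpqc ha inferInstance,
      transfer (@QuasiCompact : MorphismProperty Scheme.{u}) Groth.Agent.S0079.result ha inferInstance⟩
  · rintro ⟨hps, h1, h2, h3⟩
    refine ⟨hps, Presieve.singleton X.hom, Scheme.Hom.singleton_mem_fpqcPrecoverage X.hom, ?_⟩
    rintro S' f ⟨⟩
    exact ⟨𝟙 _, Category.id_comp _⟩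

end Groth.Agent.S6003
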