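import Groth.Statements.S6008
import Groth.Agent.H40.ASBase
import Groth.Agent.H40.ASMono
import Groth.Agent.H44.AS_F
import Groth.Agent.H86.AS_KE

set_option autoImplicit false
universe u
open CategoryTheory AlgebraicGeometry MonoidalCategory CartesianMonoidalCategory MonObj GrpObj
open SGA1t

namespace Groth.Agent.S6008

/-- Let p be a prime and S a scheme of characteristic p (p = 0 in the ring of global functions). Let F
be the Frobenius endomorphism of the additive group over S, the S-endomorphism which raises the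
coordinate function of every point to the p-th power, and let P be the difference of the identity
and F in the group of endomorphisms (on points x ↦ x − x^p). Let G' be the constant S-group (Z/p)_S:
an S-group together with an isomorphism of S-schemes e from G' to the disjoint union of copies of S
indexed by Z/p, under which the S-points of indices m and n multiply to the S-point of index m + n;
and let i : G' → G_a be the homomorphism of S-groups which sends the S-point of index 1 to the point
whose coordinate is the unit global function. Then the Artin-Schreier sequence 1 → (Z/p)_S → G_a →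
G_a → 1 is exact for the fpqc topology: i and P are homomorphisms with trivial composite, (x, g) ↦
(x, x + i(g)) identifies G_a ×_S G' with the fibre product of P with itself (so that i is a kernel
of P), and P acquires sections on the members of some fpqc covering family of its target. -/
theorem result (p : ℕ) [Fact p.Prime] {S : Scheme.{u}}
    (hp : (p : Γ(S, ⊤)) = 0) (F : Red.Ga S ⟶ Red.Ga S)
    (hF : ∀ (T : Over S) (x : T ⟶ Red.Ga S), Red.gaFn (x ≫ F) = Red.gaFn x ^ p)
    {G' : Over S} [GrpObj G'] (e : G' ≅ TwC.const S (Multiplicative (ZMod p)))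
    (he : TwC.IsConstGrp (Multiplicative (ZMod p)) G' e)
    (i : G' ⟶ Red.Ga S) [IsMonHom i]
    (hi : Red.gaFn (TwC.pt S (Multiplicative (ZMod p)) (Multiplicative.ofAdd 1) ≫ e.inv ≫ i) = 1) :
    NonAbH1.IsExactSeq Scheme.fpqcPrecoverage i (𝟙 (Red.Ga S) * F⁻¹) := by
  open Groth.Agent.H40.ASBase Groth.Agent.H40.ASMono Groth.Agent.H43.GaGmFn in
  haveI hPm : IsMonHom (𝟙 (Red.Ga S) * F⁻¹) := isMonHom_P p hp F hF
  have hj : ∀ m : ZMod p, Red.gaFn (TwC.pt S (Multiplicative (ZMod p)) (Multiplicative.ofAdd m) ≫
      (e.inv ≫ i)) = ((m.val : ℕ) : Γ((𝟙_ (Over S)).left, ⊤)) := fun m => AS_KV p e he i hi m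
  haveI hm1 : Mono (e.inv ≫ i) := AS_KM p hp (e.inv ≫ i) hj
  haveI hm2 : Mono i := by
    have h1 : i = e.hom ≫ (e.inv ≫ i) := by simp
    rw [h1]
    exact mono_comp _ _
  have hW : i ≫ (𝟙 (Red.Ga S) * F⁻¹) = 1 := AS_W p e he i hi hp F hF
  have hK : AlgGrp.IsKernel i (𝟙 (Red.Ga S) * F⁻¹) := by
    haveI : Mono (η[Red.Ga S]) := ⟨fun _ _ _ => toUnit_unique _ _⟩
    refine Groth.Agent.H40.FlatDesc2.isPullback_of_mono_of_forall_exists i (toUnit G')
      (𝟙 (Red.Ga S) * F⁻¹) η[Red.Ga S] ?_ ?_
    · rw [hW, Hom.one_def]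
    · intro T g y hg
      have hz : Red.gaFn g ^ p = Red.gaFn g := by
        have h1 := congrArg Red.gaFn hg
        rw [gaFn_P p F hF, toUnit_unique y (toUnit T), ← Hom.one_def, gaFn_one] at h1
        exact (sub_eq_zero.mp h1).symm
      obtain ⟨g', hg'⟩ := Groth.Agent.H86.AS_KE.AS_KE p hp (e.inv ≫ i) hj T g hz
      exact ⟨g' ≫ e.inv, by rw [Category.assoc]; exact hg'⟩
  refine ⟨inferInstance, hPm, hW, Groth.Agent.H91.KerTorsor.isPullback_of_isKernel _ _ hK, ?_⟩
  obtain ⟨h1, h2, h3⟩ := Groth.Agent.H44.AS_F.AS_F p (𝟙 (Red.Ga S) * F⁻¹) (gaFn_P p F hF)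
  refine ⟨Presieve.singleton (𝟙 (Red.Ga S) * F⁻¹).left, Scheme.Hom.singleton_mem_fpqcPrecoverage _, ?_⟩
  intro S' f hf
  cases hf
  exact ⟨𝟙 _, Category.id_comp _⟩

end Groth.Agent.S6008
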