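import Groth.Statements.S6009
import Groth.Agent.H40.FpqcMap

set_option autoImplicit false
universe u
open CategoryTheory AlgebraicGeometry MonoidalCategory CartesianMonoidalCategory MonObj GrpObj
open SGA1

namespace Groth.Agent.S6009

/-- Exactness of the cohomology sequence at H^1(S, G'): let u : G' → G and v : G → G'' be homomorphisms
of affine commutative S-groups forming a sequence 1 → G' → G → G'' → 1 which is exact for the fpqc
topology, and let Q be a principal homogeneous bundle under G' (fpqc torsor). Then the bundle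
deduced from Q by extension of the structure group along u is trivial, in the sense that Q admits a
u-equivariant S-morphism to G acting on itself by left translation, if and only if Q is the boundary
of some section f of G'' over S: there is a morphism i : Q → G making Q the inverse image of f under
v, with G' acting through right translation by inverses. -/
theorem result {S : Scheme.{u}}
    {G G' G'' : Over S} [GrpObj G] [GrpObj G'] [GrpObj G'']
    [IsCommMonObj G] [IsCommMonObj G'] [IsCommMonObj G'']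
    [IsAffineHom G.hom] [IsAffineHom G'.hom] [IsAffineHom G''.hom]
    (u : G' ⟶ G) (v : G ⟶ G'') (hex : NonAbH1.IsExactSeq Scheme.fpqcPrecoverage u v)
    (Q : NonAbH1.TorsorSch G' Scheme.fpqcPrecoverage) :
    NonAbH1.IsPushforwardAlongSch u Q.act (NonAbH1.trivialAction G) ↔
      ∃ (f : 𝟙_ (Over S) ⟶ G'') (i : Q.X ⟶ G), NonAbH1.IsPullbackTorsor u v f i Q.act := by
  open Groth.Agent.H40.FpqcFam Groth.Agent.H40.GrpFun in
  obtain ⟨hu, hv, huv, hsq, -⟩ := hex
  have hps := Q.isTorsor.1
  have hloc := Q.isTorsor.2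
  -- `v` on points
  have hvmul : ∀ {T : Over S} (A B : T ⟶ G), (A * B⁻¹) ≫ v = (A ≫ v) * (B ≫ v)⁻¹ := by
    intro T A B
    have := (post v T).map_mul A B⁻¹
    rw [(post v T).map_inv] at this
    simpa only [post_apply] using this
  have huinv : ∀ {T : Over S} (A : T ⟶ G'), A⁻¹ ≫ u = (A ≫ u)⁻¹ := fun {T} A => (post u T).map_inv A
  have huv1 : ∀ {T : Over S} (A : T ⟶ G'), (A ≫ u) ≫ v = 1 := by
    intro T A
    rw [Category.assoc, huv, comp_one]
  -- `u` is injective on points
  have hu1 : ∀ {T : Over S} (A : T ⟶ G'), A ≫ u = 1 → A = 1 := by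
    intro T A hA
    have h1 : lift (1 : T ⟶ G) A ≫ fst G G' = lift (1 : T ⟶ G) (1 : T ⟶ G') ≫ fst G G' := by
      rw [lift_fst, lift_fst]
    have h2 : lift (1 : T ⟶ G) A ≫ (G ◁ u) ≫ μ[G] =
        lift (1 : T ⟶ G) (1 : T ⟶ G') ≫ (G ◁ u) ≫ μ[G] := by
      have hu1c : (1 : T ⟶ G') ≫ u = 1 := (post u T).map_one
      rw [← Category.assoc, ← Category.assoc, lift_whiskerLeft, lift_whiskerLeft, hA, hu1c]
    have h3 := hsq.hom_ext h1 h2
    have := congrArg (fun m => m ≫ snd G G') h3
    simpa using this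
  -- from the exactness square
  have hdiv : ∀ {T : Over S} (A B : T ⟶ G), A ≫ v = B ≫ v → ∃ g' : T ⟶ G', B = A * (g' ≫ u) := by
    intro T A B hAB
    refine ⟨hsq.lift A B hAB ≫ snd G G', ?_⟩
    have h1 := hsq.lift_fst A B hAB
    have h2 := hsq.lift_snd A B hAB
    have h3 : hsq.lift A B hAB = lift A (hsq.lift A B hAB ≫ snd G G') := by
      apply CartesianMonoidalCategory.hom_ext
      · rw [lift_fst, h1]
      · rw [lift_snd]
    rw [h3, ← Category.assoc, lift_whiskerLeft, ← Hom.mul_def] at h2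
    exact h2.symm
  constructor
  · rintro ⟨j, hj⟩
    have hjpt := fun (T : Over S) (g' : T ⟶ G') (q : T ⟶ Q.X) => equiv_pts hj g' q
    have htriv : ∀ {T : Over S} (A B : T ⟶ G), lift A B ≫ (NonAbH1.trivialAction G).act = A * B :=
      fun {T} A B => (Hom.mul_def A B).symm
    let i : Q.X ⟶ G := j ≫ ι[G]
    have hi : ∀ {T : Over S} (q : T ⟶ Q.X), q ≫ i = (q ≫ j)⁻¹ := by
      intro T q
      rw [Hom.inv_def, Category.assoc]
    have hipt : ∀ (T : Over S) (g' : T ⟶ G') (p : T ⟶ Q.X),
        lift g' p ≫ Q.act.act ≫ i = (p ≫ i) * (g' ≫ u)⁻¹ := by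
      intro T g' p
      rw [← Category.assoc, hi, hjpt, htriv, hi, _root_.mul_inv_rev]
    have hinvpt : ∀ (T : Over S) (g' : T ⟶ G') (q : T ⟶ Q.X),
        (lift g' q ≫ Q.act.act) ≫ i ≫ v = q ≫ i ≫ v := by
      intro T g' q
      have h := congrArg (fun m => m ≫ v) (hipt T g' q)
      simp only [Category.assoc] at h
      rw [Category.assoc, h, hvmul, huv1, inv_one, _root_.mul_one, Category.assoc]
    obtain ⟨f, hf⟩ := exists_desc_snd Q.isTorsor (fst Q.X (𝟙_ (Over S)) ≫ i ≫ v) (by
      intro T g x y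
      rw [lift_fst_assoc, lift_fst_assoc]
      exact hinvpt T g x)
    have hcomm : i ≫ v = toUnit Q.X ≫ f := by
      have := congrArg (fun m => lift (𝟙 Q.X) (toUnit Q.X) ≫ m) hf
      simp only [lift_snd_assoc, lift_fst_assoc, Category.id_comp] at this
      exact this.symm
    have hmono : ∀ {T : Over S} (q₁ q₂ : T ⟶ Q.X), q₁ ≫ i = q₂ ≫ i → q₁ = q₂ := by
      intro T q₁ q₂ e
      have h1 : lift (lift q₁ q₂ ≫ dv hps) q₂ ≫ Q.act.act = q₁ := dv_act hps q₁ q₂
      have h2 := hipt T (lift q₁ q₂ ≫ dv hps) q₂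
      rw [← Category.assoc, h1, e] at h2
      have h3 : ((lift q₁ q₂ ≫ dv hps) ≫ u)⁻¹ = 1 := by simpa using h2
      have h4 : lift q₁ q₂ ≫ dv hps = 1 := hu1 _ (inv_eq_one.mp h3)
      rw [← h1, h4, AlgGrp.Action.lift_one_act]
    have key : ∀ (W : Over S) (g : W ⟶ G), g ≫ v = toUnit W ≫ f → ∃ q : W ⟶ Q.X, q ≫ i = g := by
      intro W g hg
      have : Mono i := ⟨fun q₁ q₂ e => hmono q₁ q₂ e⟩
      obtain ⟨R', hR', hσ⟩ := exists_cover_sections hloc W
      refine over_exists_factor_mono hR' i g (fun T' π hπ => ?_)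
      obtain ⟨σ⟩ := hσ π hπ
      have e1 : (σ ≫ i) ≫ v = (ovHom W π ≫ g) ≫ v := by
        rw [Category.assoc, hcomm, Category.assoc, hg, ← Category.assoc, ← Category.assoc]
        congr 1
        exact toUnit_unique _ _
      obtain ⟨g', hg'⟩ := hdiv _ _ e1
      refine ⟨lift g'⁻¹ σ ≫ Q.act.act, ?_⟩
      rw [Category.assoc, hipt, huinv, _root_.inv_inv, ← hg']
    refine ⟨f, i, hu, hv, ?_, hipt⟩
    have hs : ∀ s : Limits.PullbackCone v f, s.fst ≫ v = toUnit s.pt ≫ f := by
      intro s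
      rw [s.condition, toUnit_unique s.snd (toUnit _)]
    refine ⟨⟨hcomm⟩, ⟨Limits.PullbackCone.IsLimit.mk hcomm (fun s => (key s.pt s.fst (hs s)).choose)
      (fun s => (key s.pt s.fst (hs s)).choose_spec) (fun s => toUnit_unique _ _)
      (fun s m hm _ => hmono _ _ (hm.trans (key s.pt s.fst (hs s)).choose_spec.symm))⟩⟩
  · rintro ⟨f, i, -, -, -, hipt⟩
    refine ⟨i ≫ ι[G], equiv_of_pts fun T g' q => ?_⟩
    have htriv : ∀ {T : Over S} (A B : T ⟶ G), lift A B ≫ (NonAbH1.trivialAction G).act = A * B :=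
      fun {T} A B => (Hom.mul_def A B).symm
    rw [htriv, ← Category.assoc, ← Hom.inv_def, ← Category.assoc, ← Hom.inv_def, Category.assoc,
      hipt, _root_.mul_inv_rev, _root_.inv_inv]

end Groth.Agent.S6009
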