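import Groth.Statements.S6010
import Groth.Agent.H40.FpqcSub

set_option autoImplicit false
universe u
open CategoryTheory AlgebraicGeometry MonoidalCategory CartesianMonoidalCategory MonObj GrpObj
open SGA1

namespace Groth.Agent.S6010

/-- Exactness of the cohomology sequence at H^1(S, G): let u : G' → G and v : G → G'' be homomorphisms
of affine commutative S-groups forming a sequence 1 → G' → G → G'' → 1 which is exact for the fpqc
topology, and let P be a principal homogeneous bundle under G (fpqc torsor). Then the bundle deduced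
from P by extension of the structure group along v is trivial, in the sense that P admits a
v-equivariant S-morphism to G'' acting on itself by left translation, if and only if P comes from
G': there is a principal homogeneous bundle Q under G' with a u-equivariant S-morphism Q → P. -/
theorem result {S : Scheme.{u}}
    {G G' G'' : Over S} [GrpObj G] [GrpObj G'] [GrpObj G'']
    [IsCommMonObj G] [IsCommMonObj G'] [IsCommMonObj G'']
    [IsAffineHom G.hom] [IsAffineHom G'.hom] [IsAffineHom G''.hom]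
    (u : G' ⟶ G) (v : G ⟶ G'') (hex : NonAbH1.IsExactSeq Scheme.fpqcPrecoverage u v)
    (P : NonAbH1.TorsorSch G Scheme.fpqcPrecoverage) :
    NonAbH1.IsPushforwardAlongSch v P.act (NonAbH1.trivialAction G'') ↔
      ∃ Q : NonAbH1.TorsorSch G' Scheme.fpqcPrecoverage, NonAbH1.IsPushforwardAlongSch u Q.act P.act := by
  open Groth.Agent.H40.FpqcFam in
  obtain ⟨hu, hv, huv, hpb, R'', hR'', hvsec⟩ := hex
  obtain ⟨hpsP, RP, hRP, hPsec⟩ := P.isTorsor
  constructor
  · rintro ⟨j, hj⟩
    have hjp : ∀ {T : Over S} (g : T ⟶ G) (p : T ⟶ P.X),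
        (lift g p ≫ P.act.act) ≫ j = (g ≫ v) * (p ≫ j) := by
      intro T g p
      rw [equiv_pts hj g p]
      exact (Hom.mul_def _ _).symm
    let Q : Over S := fib j η[G'']
    let i₀ : Q ⟶ P.X := fibIncl j η[G'']
    have hi₀ : ∀ {T : Over S} (q : T ⟶ Q), (q ≫ i₀) ≫ j = 1 :=
      fun q => fibIncl_comp_pt j η[G''] q
    have hact : (lift (fst G' Q ≫ u) (snd G' Q ≫ i₀) ≫ P.act.act) ≫ j =
        toUnit _ ≫ η[G''] := by
      rw [hjp, Category.assoc, huv, MonObj.comp_one, hi₀, _root_.one_mul]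
      rfl
    let actQ : G' ⊗ Q ⟶ Q := fibLift j η[G''] _ hact
    have hactQ : actQ ≫ i₀ = (G' ◁ i₀) ≫ (P.act.restrict u).act := by
      rw [fibLift_incl]
      apply AlgGrp.Action.hom_ext_lift₂
      intro T g q
      rw [AlgGrp.Action.restrict_act, lift_whiskerLeft_assoc, lift_whiskerRight_assoc,
        ← Category.assoc, comp_lift, ← Category.assoc, ← Category.assoc, lift_fst, lift_snd]
    let aQ : AlgGrp.Action G' Q := subAction (P.act.restrict u) i₀ actQ hactQ
    have haQ : ∀ {T : Over S} (g' : T ⟶ G') (q : T ⟶ Q),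
        (lift g' q ≫ aQ.act) ≫ i₀ = lift (g' ≫ u) (q ≫ i₀) ≫ P.act.act := by
      intro T g' q
      change (lift g' q ≫ actQ) ≫ i₀ = _
      rw [Category.assoc, hactQ, lift_whiskerLeft_assoc, AlgGrp.Action.lift_restrict_act]
    have hpsQ : NonAbH1.IsPseudoTorsorSch aQ := by
      apply pseudoTorsor_of_pts
      intro T x y
      have hd : (lift (x ≫ i₀) (y ≫ i₀) ≫ dv hpsP) ≫ v = 1 := by
        have h1 := hjp (lift (x ≫ i₀) (y ≫ i₀) ≫ dv hpsP) (y ≫ i₀)
        rw [dv_act, hi₀, hi₀, _root_.mul_one] at h1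
        exact h1.symm
      obtain ⟨g', hg', huniq⟩ := exact_lift hpb _ hd
      refine ⟨g', ?_, ?_⟩
      · change lift g' y ≫ aQ.act = x
        rw [← cancel_mono i₀, haQ, hg', dv_act]
      · intro g'' hg''
        apply huniq
        apply act_free hpsP _ _ (y ≫ i₀)
        rw [← haQ, hg'', dv_act]
    have hlocQ : NonAbH1.IsLocallyTrivialFor Scheme.fpqcPrecoverage Q := by
      refine isLocallyTrivialFor_of_local hRP fun S' p hp => ?_
      obtain ⟨s, hs⟩ := hPsec p hp
      refine ⟨R''.pullbackArrows (s ≫ j.left), Precoverage.pullbackArrows_mem _ hR'', ?_⟩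
      rintro W w ⟨Z₀, r, hr⟩
      obtain ⟨t, ht⟩ := hvsec r hr
      have ht' : t ≫ v.left = r := ht
      let W' : Over S := Over.mk (Limits.pullback.snd r (s ≫ j.left) ≫ p)
      let x : W' ⟶ P.X := Over.homMk (Limits.pullback.snd r (s ≫ j.left) ≫ s) (by
        change (Limits.pullback.snd r (s ≫ j.left) ≫ s) ≫ P.X.hom = Limits.pullback.snd r (s ≫ j.left) ≫ p
        rw [Category.assoc, hs])
      let g : W' ⟶ G := Over.homMk (Limits.pullback.fst r (s ≫ j.left) ≫ t) (by
        change (Limits.pullback.fst r (s ≫ j.left) ≫ t) ≫ G.hom = Limits.pullback.snd r (s ≫ j.left) ≫ p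
        rw [← Over.w v, Category.assoc, ← Category.assoc t, ht', ← Category.assoc,
          Limits.pullback.condition, Category.assoc, Category.assoc, Over.w j, hs])
      have hgx : g ≫ v = x ≫ j := by
        apply Over.OverMorphism.ext
        change (Limits.pullback.fst r (s ≫ j.left) ≫ t) ≫ v.left =
          (Limits.pullback.snd r (s ≫ j.left) ≫ s) ≫ j.left
        rw [Category.assoc, ht', Limits.pullback.condition, Category.assoc]
      have hq₀ : (lift g⁻¹ x ≫ P.act.act) ≫ j = toUnit W' ≫ η[G''] := by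
        rw [hjp, GrpObj.inv_comp, hgx, inv_mul_cancel]
        rfl
      exact ⟨(fibLift j η[G''] _ hq₀).left, Over.w (fibLift j η[G''] _ hq₀)⟩
    exact ⟨⟨Q, aQ, hpsQ, hlocQ⟩, i₀, equiv_of_pts fun T g' q => haQ g' q⟩
  · rintro ⟨Q, f, hf⟩
    let ψ : Q.X ⊗ P.X ⟶ G'' := lift (snd Q.X P.X) (fst Q.X P.X ≫ f) ≫ dv hpsP ≫ v
    have hψpt : ∀ {T : Over S} (q : T ⟶ Q.X) (p : T ⟶ P.X),
        lift q p ≫ ψ = (lift p (q ≫ f) ≫ dv hpsP) ≫ v := by
      intro T q p
      simp only [ψ]
      rw [← Category.assoc, comp_lift, lift_snd, lift_fst_assoc, Category.assoc]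
    obtain ⟨j, hj⟩ := exists_desc_snd Q.isTorsor ψ (by
      intro T g' q p
      rw [hψpt, hψpt, equiv_pts hf g' q, dv_act_right, MonObj.mul_comp, GrpObj.inv_comp,
        Category.assoc g' u v, huv, MonObj.comp_one, inv_one, _root_.mul_one])
    have hjpt : ∀ {T : Over S} (q : T ⟶ Q.X) (y : T ⟶ P.X), y ≫ j = lift q y ≫ ψ := by
      intro T q y
      rw [← hj, ← Category.assoc, lift_snd]
    have hkey : ∀ {T : Over S} (q : T ⟶ Q.X) (g : T ⟶ G) (p : T ⟶ P.X),
        (lift g p ≫ P.act.act) ≫ j = (g ≫ v) * (p ≫ j) := by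
      intro T q g p
      rw [hjpt q, hψpt, dv_act_left, MonObj.mul_comp, hjpt q p, hψpt]
    refine ⟨j, ?_⟩
    apply snd_cancel Q.isTorsor.2
    apply AlgGrp.Action.hom_ext_lift₂
    intro T q gp
    have hgp : gp = lift (gp ≫ fst G P.X) (gp ≫ snd G P.X) := by
      apply CartesianMonoidalCategory.hom_ext <;> simp
    rw [← Category.assoc, lift_snd, lift_snd_assoc]
    conv_lhs => rw [hgp]
    rw [← Category.assoc, hkey q, ← Category.assoc, comp_lift, ← Category.assoc, ← Category.assoc]
    exact Hom.mul_def _ _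

end Groth.Agent.S6010
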