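import Groth.Statements.S6011

set_option autoImplicit false
universe u
open CategoryTheory AlgebraicGeometry
open SGA1

namespace Groth.Agent.S6011

open MonoidalCategory CartesianMonoidalCategory MonObj in
/-- General form in a cartesian monoidal category: from an equivariant isomorphism. -/
theorem isIso_of_equivIso {C : Type*} [Category C] [CartesianMonoidalCategory C] {G X : C} [GrpObj G]
    (act : G ⊗ X ⟶ X) (e : G ≅ X) (he : μ[G] ≫ e.hom = (G ◁ e.hom) ≫ act)
    (hG : IsIso (lift μ[G] (snd G G))) : IsIso (lift act (snd G X)) := by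
  have key : lift act (snd G X) = (G ◁ e.inv) ≫ lift μ[G] (snd G G) ≫ (e.hom ⊗ₘ e.hom) := by
    apply CartesianMonoidalCategory.hom_ext
    · simp only [lift_fst, Category.assoc, tensorHom_fst, lift_fst_assoc, he]
      rw [← MonoidalCategory.whiskerLeft_comp_assoc, e.inv_hom_id, MonoidalCategory.whiskerLeft_id,
        Category.id_comp]
    · simp only [lift_snd, Category.assoc, tensorHom_snd, lift_snd_assoc, whiskerLeft_snd_assoc,
        e.inv_hom_id, Category.comp_id]
  rw [key]
  infer_instance

open MonoidalCategory CartesianMonoidalCategory MonObj in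
/-- General form in a cartesian monoidal category: a pseudo-torsor with a point is trivial. -/
theorem exists_equivIso {C : Type*} [Category C] [CartesianMonoidalCategory C] {G X : C} [GrpObj G]
    (act : G ⊗ X ⟶ X)
    (mul_act : (μ[G] ▷ X) ≫ act = (α_ G G X).hom ≫ (G ◁ act) ≫ act)
    (hΦ : IsIso (lift act (snd G X))) (o : 𝟙_ C ⟶ X) :
    ∃ e : G ≅ X, μ[G] ≫ e.hom = (G ◁ e.hom) ≫ act := by
  let Φ := lift act (snd G X)
  let orbit : G ⟶ X := lift (𝟙 G) (toUnit G ≫ o) ≫ act
  let w : X ⟶ G ⊗ X := lift (𝟙 X) (toUnit X ≫ o) ≫ inv Φ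
  have hw : w ≫ Φ = lift (𝟙 X) (toUnit X ≫ o) := by
    simp only [w, Category.assoc, IsIso.inv_hom_id, Category.comp_id]
  have hw1 : w ≫ act = 𝟙 X := by
    have := congrArg (· ≫ fst X X) hw
    simpa only [Φ, Category.assoc, lift_fst] using this
  have hw2 : w ≫ snd G X = toUnit X ≫ o := by
    have := congrArg (· ≫ snd X X) hw
    simpa only [Φ, Category.assoc, lift_snd] using this
  let back : X ⟶ G := w ≫ fst G X
  have h1 : lift (𝟙 G) (toUnit G ≫ o) ≫ Φ = lift orbit (toUnit G ≫ o) := by
    apply CartesianMonoidalCategory.hom_ext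
    · simp only [Φ, orbit, Category.assoc, lift_fst]
    · simp only [Φ, Category.assoc, lift_snd]
  refine ⟨⟨orbit, back, ?_, ?_⟩, ?_⟩
  · -- orbit ≫ back = 𝟙 G
    have : orbit ≫ lift (𝟙 X) (toUnit X ≫ o) = lift orbit (toUnit G ≫ o) := by
      rw [comp_lift, Category.comp_id, ← Category.assoc, comp_toUnit]
    simp only [back, w]
    rw [← Category.assoc, ← Category.assoc, this, ← h1, Category.assoc, Category.assoc,
      IsIso.hom_inv_id_assoc, lift_fst]
  · -- back ≫ orbit = 𝟙 X
    have : back ≫ lift (𝟙 G) (toUnit G ≫ o) = w := by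
      apply CartesianMonoidalCategory.hom_ext
      · simp only [back, Category.assoc, lift_fst, Category.comp_id]
      · simp only [Category.assoc, lift_snd, hw2]
        rw [← Category.assoc, comp_toUnit]
    simp only [orbit]
    rw [← Category.assoc, this, hw1]
  · -- equivariance
    change μ[G] ≫ orbit = (G ◁ orbit) ≫ act
    have e1 : μ[G] ≫ lift (𝟙 G) (toUnit G ≫ o) =
        lift (𝟙 (G ⊗ G)) (toUnit (G ⊗ G) ≫ o) ≫ (μ[G] ▷ X) := by
      apply CartesianMonoidalCategory.hom_ext
      · simp only [Category.assoc, lift_fst, Category.comp_id, whiskerRight_fst, lift_fst_assoc,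
          Category.id_comp]
      · simp only [Category.assoc, lift_snd, whiskerRight_snd]
        rw [← Category.assoc, comp_toUnit]
    have e2 : lift (𝟙 (G ⊗ G)) (toUnit (G ⊗ G) ≫ o) ≫ (α_ G G X).hom =
        G ◁ lift (𝟙 G) (toUnit G ≫ o) := by
      apply CartesianMonoidalCategory.hom_ext
      · simp only [Category.assoc, associator_hom_fst, lift_fst_assoc, Category.id_comp,
          whiskerLeft_fst]
      · apply CartesianMonoidalCategory.hom_ext
        · simp only [Category.assoc, associator_hom_snd_fst, lift_fst_assoc, Category.id_comp,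
            whiskerLeft_snd_assoc, lift_fst, Category.comp_id]
        · simp only [Category.assoc, associator_hom_snd_snd, lift_snd, whiskerLeft_snd_assoc]
          rw [← Category.assoc (snd G G), comp_toUnit]
    simp only [orbit]
    rw [← Category.assoc, e1, Category.assoc, mul_act, ← Category.assoc, e2,
      MonoidalCategory.whiskerLeft_comp, Category.assoc]

/-- An S-scheme X with an action of the S-group G is trivial — equivariantly isomorphic over S to G
acting on itself by translation — if and only if it is formally principal homogeneous (a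
pseudo-torsor) and admits a section over S. -/
theorem result {S : Scheme.{u}}
    (G X : Over S) [GrpObj G] (a : AlgGrp.Action G X) :
    Nonempty (NonAbH1.EquivIso (NonAbH1.trivialAction G) a) ↔
      (NonAbH1.IsPseudoTorsorSch a ∧ NonAbH1.HasSectionOver X (𝟙 S)) := by
  constructor
  · rintro ⟨e⟩
    refine ⟨?_, ?_⟩
    · exact isIso_of_equivIso a.act e.iso e.comm (NonAbH1.isPseudoTorsorSch_trivialAction G)
    · refine ⟨(MonObj.one ≫ e.iso.hom).left, ?_⟩
      exact Over.w (MonObj.one ≫ e.iso.hom)
  · rintro ⟨hΦ, s, hs⟩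
    let o : MonoidalCategoryStruct.tensorUnit (Over S) ⟶ X := Over.homMk s (by simpa using hs)
    obtain ⟨e, he⟩ := exists_equivIso a.act a.mul_act hΦ o
    exact ⟨⟨e, he⟩⟩

end Groth.Agent.S6011
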