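import Groth.Statements.S6012
import Groth.Agent.H30.Cleavage

set_option autoImplicit false
set_option backward.isDefEq.respectTransparency false
open CategoryTheory
universe v₁ v₂ u₁ u₂
open FibCat FibCat.Cleavage

namespace Groth.Agent.S6012

open CategoryTheory.Functor in
theorem isIso_comp_of_isFibered {𝒮 : Type u₁} {𝒳 : Type u₂} [Category.{v₁} 𝒮] [Category.{v₂} 𝒳]
    {p : 𝒳 ⥤ 𝒮} (K : FibCat.Cleavage p) [p.IsFibered] {R S T : 𝒮} (f : T ⟶ S) (g : R ⟶ T) :
    IsIso (K.comp f g) := by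
  have : ∀ a, IsIso ((K.comp f g).app a) := by
    intro a
    have hcart : p.IsCartesian (g ≫ f) (K.lift (K.obj_proj a.2 f) g ≫ K.lift a.2 f) :=
      inferInstance
    let inv : (K.inverseImage (g ≫ f)).obj a ⟶ (K.inverseImage f ⋙ K.inverseImage g).obj a :=
      ⟨IsCartesian.map p (g ≫ f) (K.lift (K.obj_proj a.2 f) g ≫ K.lift a.2 f) (K.lift a.2 (g ≫ f)),
        inferInstance⟩
    have hinv : Fiber.fiberInclusion.map inv ≫ (K.lift (K.obj_proj a.2 f) g ≫ K.lift a.2 f) =
        K.lift a.2 (g ≫ f) :=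
      IsCartesian.fac p (g ≫ f) _ _
    refine ⟨⟨inv, ?_, ?_⟩⟩
    · apply Fiber.hom_ext
      apply IsCartesian.ext p (g ≫ f) (K.lift (K.obj_proj a.2 f) g ≫ K.lift a.2 f)
      rw [Functor.map_comp, Category.assoc, hinv, Groth.Agent.H30.comp_app_lift, Functor.map_id,
        Category.id_comp]
    · apply Groth.Agent.H30.hom_ext_lift K (g ≫ f) a
      rw [Functor.map_comp, Category.assoc, Groth.Agent.H30.comp_app_lift, hinv, Functor.map_id,
        Category.id_comp]
  exact NatIso.isIso_of_isIso_app _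

open CategoryTheory.Functor in
theorem comp_isCartesian_of_isIso {𝒮 : Type u₁} {𝒳 : Type u₂} [Category.{v₁} 𝒮] [Category.{v₂} 𝒳]
    {p : 𝒳 ⥤ 𝒮} (K : FibCat.Cleavage p)
    (h : ∀ (R S T : 𝒮) (f : T ⟶ S) (g : R ⟶ T), IsIso (K.comp f g))
    {R S T : 𝒮} (f : R ⟶ S) (g : S ⟶ T) {a b c : 𝒳} (φ : a ⟶ b) (ψ : b ⟶ c)
    [p.IsCartesian f φ] [p.IsCartesian g ψ] : p.IsCartesian (f ≫ g) (φ ≫ ψ) := by
  have hc : p.obj c = T := IsHomLift.codomain_eq p g ψ
  let c' : p.Fiber T := ⟨c, hc⟩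
  let θ := IsCartesian.domainUniqueUpToIso p g (K.lift hc g) ψ
  have hθ : θ.hom ≫ K.lift hc g = ψ := IsCartesian.fac p g (K.lift hc g) ψ
  have hθlift : p.IsHomLift (𝟙 S) θ.hom := inferInstance
  have hcart1 : p.IsCartesian f (φ ≫ θ.hom) := inferInstance
  have hb' : p.obj (K.obj hc g) = S := K.obj_proj hc g
  let θ' := IsCartesian.domainUniqueUpToIso p f (K.lift hb' f) (φ ≫ θ.hom)
  have hθ' : θ'.hom ≫ K.lift hb' f = φ ≫ θ.hom := IsCartesian.fac p f (K.lift hb' f) (φ ≫ θ.hom)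
  have hθ'lift : p.IsHomLift (𝟙 R) θ'.hom := inferInstance
  have := h R T S g f
  let γ := asIso ((K.comp g f).app c')
  let Θ : a ≅ K.obj hc (f ≫ g) := θ' ≪≫ Fiber.fiberInclusion.mapIso γ
  have hΘlift : p.IsHomLift (𝟙 R) Θ.hom := by
    change p.IsHomLift (𝟙 R) (θ'.hom ≫ Fiber.fiberInclusion.map ((K.comp g f).app c'))
    infer_instance
  have key : φ ≫ ψ = Θ.hom ≫ K.lift hc (f ≫ g) := by
    change φ ≫ ψ = (θ'.hom ≫ Fiber.fiberInclusion.map ((K.comp g f).app c')) ≫ K.lift hc (f ≫ g)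
    rw [Category.assoc, Groth.Agent.H30.comp_app_lift K g f c', ← Category.assoc]
    change _ = (θ'.hom ≫ K.lift hb' f) ≫ K.lift hc g
    rw [hθ', Category.assoc, hθ]
  rw [key]
  infer_instance

/-- Let `K` be a cleavage of an arbitrary functor `p : 𝒳 ⥤ 𝒮` (one chosen cartesian lift of every base
morphism at every object over its target; `p` is not assumed fibred). Then `p` is a fibred category
(composites of cartesian morphisms are cartesian) if and only if, for all composable base morphisms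
`g : R ⟶ T` and `f : T ⟶ S`, the comparison natural transformation `c_{f,g}` from `g^* f^*` to
`(fg)^*` determined by `K` is an isomorphism. -/
theorem result (𝒮 : Type u₁) (𝒳 : Type u₂) [Category.{v₁} 𝒮] [Category.{v₂} 𝒳] (p : 𝒳 ⥤ 𝒮) (K : FibCat.Cleavage p) :
    p.IsFibered ↔ ∀ (R S T : 𝒮) (f : T ⟶ S) (g : R ⟶ T), IsIso (K.comp f g) := by
  constructor
  · intro hfib R S T f g
    exact isIso_comp_of_isFibered K f g
  · intro h
    have := K.isPreFibered
    refine { comp := ?_ }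
    intro R S T f g a b c φ ψ _ _
    exact comp_isCartesian_of_isIso K h f g φ ψ

end Groth.Agent.S6012
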