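import Groth.Statements.S6013
import Groth.Agent.S6012

set_option autoImplicit false
set_option backward.isDefEq.respectTransparency false
open CategoryTheory
universe v₁ v₂ u₁ u₂
open FibCat FibCat.Cleavage

namespace Groth.Agent.S6013

open CategoryTheory.Functor in
theorem fiber_isIso_of_isIso {𝒮 : Type u₁} {𝒳 : Type u₂} [Category.{v₁} 𝒮] [Category.{v₂} 𝒳]
    {p : 𝒳 ⥤ 𝒮} {S : 𝒮} {a b : p.Fiber S} (φ : a ⟶ b) [IsIso (Fiber.fiberInclusion.map φ)] :
    IsIso φ :=
  ⟨⟨⟨inv (Fiber.fiberInclusion.map φ), inferInstance⟩,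
    Fiber.hom_ext (IsIso.hom_inv_id (Fiber.fiberInclusion.map φ)),
    Fiber.hom_ext (IsIso.inv_hom_id (Fiber.fiberInclusion.map φ))⟩⟩

open CategoryTheory.Functor in
/-- In a fibred category the inverse image along an identity is isomorphic to the identity functor. -/
noncomputable def idIso {𝒮 : Type u₁} {𝒳 : Type u₂} [Category.{v₁} 𝒮] [Category.{v₂} 𝒳]
    {p : 𝒳 ⥤ 𝒮} [p.IsFibered] (K : FibCat.Cleavage p) (S : 𝒮) :
    K.inverseImage (𝟙 S) ≅ 𝟭 (p.Fiber S) :=
  NatIso.ofComponents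
    (fun a =>
      haveI : IsIso (K.lift a.2 (𝟙 S)) :=
        IsStronglyCartesian.isIso_of_base_isIso p (𝟙 S) (K.lift a.2 (𝟙 S))
      haveI : IsIso (Fiber.fiberInclusion.map (Fiber.homMk p S (K.lift a.2 (𝟙 S)))) := this
      haveI := fiber_isIso_of_isIso (Fiber.homMk p S (K.lift a.2 (𝟙 S)))
      asIso (Fiber.homMk p S (K.lift a.2 (𝟙 S))))
    (by
      intro a b φ
      apply Fiber.hom_ext
      exact Groth.Agent.H30.inverseImage_map_lift K (𝟙 S) φ)

/-- Let `p : 𝒳 ⥤ 𝒮` be a fibred category with a cleavage `K`, and let `f : T ⟶ S` be an isomorphism of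
the base. Then the inverse-image functor `f^*` of `K`, from the fibre over `S` to the fibre over
`T`, is an equivalence of categories. -/
theorem result (𝒮 : Type u₁) (𝒳 : Type u₂) [Category.{v₁} 𝒮] [Category.{v₂} 𝒳] (p : 𝒳 ⥤ 𝒮) [p.IsFibered] (K : FibCat.Cleavage p)
    (S T : 𝒮) (f : T ⟶ S) [IsIso f] : (K.inverseImage f).IsEquivalence := by
  have h1 : IsIso (K.comp f (inv f)) := Groth.Agent.S6012.isIso_comp_of_isFibered K f (inv f)
  have h2 : IsIso (K.comp (inv f) f) := Groth.Agent.S6012.isIso_comp_of_isFibered K (inv f) f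
  let η : K.inverseImage f ⋙ K.inverseImage (inv f) ≅ 𝟭 (p.Fiber S) :=
    asIso (K.comp f (inv f)) ≪≫ K.inverseImageCongr (IsIso.inv_hom_id f) ≪≫ idIso K S
  let ε : K.inverseImage (inv f) ⋙ K.inverseImage f ≅ 𝟭 (p.Fiber T) :=
    asIso (K.comp (inv f) f) ≪≫ K.inverseImageCongr (IsIso.hom_inv_id f) ≪≫ idIso K T
  exact (CategoryTheory.Equivalence.mk (K.inverseImage f) (K.inverseImage (inv f)) η.symm ε).isEquivalence_functor

end Groth.Agent.S6013
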