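import Groth.Statements.S6017
import Mathlib
import Groth.Agent.H75.IE2
import Groth.Agent.H75.IE4

set_option autoImplicit false
universe u
open scoped Pointwise
open SGA1

namespace Groth.Agent.S6017

open Groth.Agent.H75 in
theorem main_aux {G R : Type u} [Group G] [Finite G] [CommRing R] [MulSemiringAction G R]
    (H : Subgroup G) (q : Ideal R) [q.IsPrime] (hD : MulAction.stabilizer G q ≤ H)
    (hle : FixedPoints.subring R G ≤ FixedPoints.subring R H) (n : ℕ)
    (q' : Ideal (FixedPoints.subring R H)) [q'.IsPrime]
    (hq' : q' = Ideal.comap (FixedPoints.subring R H).subtype q)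
    (p : Ideal (FixedPoints.subring R G)) [p.IsPrime]
    (hp : p = Ideal.comap (Subring.inclusion hle) q')
    (φ : Localization.AtPrime p →+* Localization.AtPrime q')
    (hφ : φ = Localization.localRingHom p q' (Subring.inclusion hle) hp) :
    Function.Surjective ((Ideal.Quotient.mk
        (IsLocalRing.maximalIdeal (Localization.AtPrime q') ^ n)).comp φ) ∧
      Ideal.comap φ (IsLocalRing.maximalIdeal (Localization.AtPrime q') ^ n) =
        IsLocalRing.maximalIdeal (Localization.AtPrime p) ^ n := by
  classical
  have hmemq' : ∀ x : FixedPoints.subring R H, x ∈ q' ↔ (x : R) ∈ q := by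
    intro x; rw [hq']; exact Iff.rfl
  have hmemp : ∀ b : FixedPoints.subring R G, b ∈ p ↔ (b : R) ∈ q := by
    intro b; rw [hp, Ideal.mem_comap, hmemq']; exact Iff.rfl
  obtain ⟨z, hzq, hzτ⟩ := IE4.exists_sep_of_stab_le q H hD
  obtain ⟨g, hgq, het⟩ := IE2.etale_away H q z (by
    intro τ hτ hmem
    apply hzq
    have e : (z : R) = ((z : R) - τ • (z : R)) + τ • (z : R) := by ring
    rw [e]; exact q.add_mem hmem (hzτ τ hτ))
  have hgq' : g ∈ q'.primeCompl := fun h => hgq ((hmemq' g).mp h)
  -- algebra structures
  letI algBpS : Algebra (Localization.AtPrime p) (Localization.AtPrime q') := φ.toAlgebra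
  have hφmap : ∀ b : FixedPoints.subring R G,
      φ (algebraMap _ (Localization.AtPrime p) b) =
        algebraMap (FixedPoints.subring R H) (Localization.AtPrime q') (Subring.inclusion hle b) := by
    intro b; rw [hφ]; exact Localization.localRingHom_to_map p q' (Subring.inclusion hle) hp b
  haveI towerB : IsScalarTower (FixedPoints.subring R G) (Localization.AtPrime p)
      (Localization.AtPrime q') :=
    IsScalarTower.of_algebraMap_eq (fun b => by
      rw [IsScalarTower.algebraMap_apply (FixedPoints.subring R G) (FixedPoints.subring R H)
        (Localization.AtPrime q')]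
      exact (hφmap b).symm)
  have hunit : ∀ y : Submonoid.powers g,
      IsUnit (algebraMap (FixedPoints.subring R H) (Localization.AtPrime q') y) := by
    rintro ⟨_, k, rfl⟩
    rw [map_pow]
    exact (IsLocalization.map_units (Localization.AtPrime q') (⟨g, hgq'⟩ : q'.primeCompl)).pow k
  letI algAS : Algebra (Localization.Away g) (Localization.AtPrime q') :=
    (IsLocalization.lift (M := Submonoid.powers g) (S := Localization.Away g) hunit).toAlgebra
  haveI towerR' : IsScalarTower (FixedPoints.subring R H) (Localization.Away g)
      (Localization.AtPrime q') :=
    IsScalarTower.of_algebraMap_eq (fun x =>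
      (IsLocalization.lift_eq (M := Submonoid.powers g) (S := Localization.Away g) hunit x).symm)
  haveI towerBA : IsScalarTower (FixedPoints.subring R G) (Localization.Away g)
      (Localization.AtPrime q') :=
    IsScalarTower.of_algebraMap_eq (fun b => by
      rw [IsScalarTower.algebraMap_apply (FixedPoints.subring R G) (FixedPoints.subring R H)
          (Localization.AtPrime q'),
        IsScalarTower.algebraMap_apply (FixedPoints.subring R G) (FixedPoints.subring R H)
          (Localization.Away g),
        ← IsScalarTower.algebraMap_apply (FixedPoints.subring R H) (Localization.Away g)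
          (Localization.AtPrime q')])
  haveI locAS : IsLocalization
      (q'.primeCompl.map (algebraMap (FixedPoints.subring R H) (Localization.Away g)))
      (Localization.AtPrime q') :=
    IsLocalization.isLocalization_of_submonoid_le (Localization.Away g) (Localization.AtPrime q')
      (Submonoid.powers g) q'.primeCompl (Submonoid.powers_le.mpr hgq')
  -- flatness
  haveI flatBA : Module.Flat (FixedPoints.subring R G) (Localization.Away g) := inferInstance
  haveI flatAS : Module.Flat (Localization.Away g) (Localization.AtPrime q') :=
    IsLocalization.flat _
      (q'.primeCompl.map (algebraMap (FixedPoints.subring R H) (Localization.Away g)))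
  haveI flatBS : Module.Flat (FixedPoints.subring R G) (Localization.AtPrime q') :=
    Module.Flat.trans _ (Localization.Away g) _
  haveI flatBpS : Module.Flat (Localization.AtPrime p) (Localization.AtPrime q') :=
    (Module.flat_iff_of_isLocalization (Localization.AtPrime p) p.primeCompl
      (Localization.AtPrime q')).mpr flatBS
  -- unramified
  haveI unrBA : Algebra.FormallyUnramified (FixedPoints.subring R G) (Localization.Away g) :=
    inferInstance
  haveI unrAS : Algebra.FormallyUnramified (Localization.Away g) (Localization.AtPrime q') :=
    Algebra.FormallyUnramified.of_isLocalization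
      (q'.primeCompl.map (algebraMap (FixedPoints.subring R H) (Localization.Away g)))
  haveI unrBS : Algebra.FormallyUnramified (FixedPoints.subring R G) (Localization.AtPrime q') :=
    Algebra.FormallyUnramified.comp _ (Localization.Away g) _
  haveI unrBpS : Algebra.FormallyUnramified (Localization.AtPrime p) (Localization.AtPrime q') :=
    Algebra.FormallyUnramified.of_restrictScalars (FixedPoints.subring R G) _ _
  -- essentially of finite type
  haveI eftBA : Algebra.EssFiniteType (FixedPoints.subring R G) (Localization.Away g) :=
    inferInstance
  haveI eftAS : Algebra.EssFiniteType (Localization.Away g) (Localization.AtPrime q') :=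
    Algebra.EssFiniteType.of_isLocalization _
      (q'.primeCompl.map (algebraMap (FixedPoints.subring R H) (Localization.Away g)))
  haveI eftBS : Algebra.EssFiniteType (FixedPoints.subring R G) (Localization.AtPrime q') :=
    Algebra.EssFiniteType.comp _ (Localization.Away g) _
  haveI eftBpS : Algebra.EssFiniteType (Localization.AtPrime p) (Localization.AtPrime q') :=
    Algebra.EssFiniteType.of_comp (FixedPoints.subring R G) _ _
  haveI locHom : IsLocalHom (algebraMap (Localization.AtPrime p) (Localization.AtPrime q')) := by
    show IsLocalHom φ
    rw [hφ]; exact Localization.isLocalHom_localRingHom p q' (Subring.inclusion hle) hp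
  have hmax : (IsLocalRing.maximalIdeal (Localization.AtPrime p)).map
      (algebraMap (Localization.AtPrime p) (Localization.AtPrime q')) =
      IsLocalRing.maximalIdeal (Localization.AtPrime q') :=
    Algebra.FormallyUnramified.map_maximalIdeal
  haveI ff : Module.FaithfullyFlat (Localization.AtPrime p) (Localization.AtPrime q') :=
    Module.FaithfullyFlat.of_flat_of_isLocalHom
  -- residue fields
  have hres1 : ∀ x : FixedPoints.subring R H, ∃ β : Localization.AtPrime p,
      algebraMap (FixedPoints.subring R H) (Localization.AtPrime q') x -
        algebraMap (Localization.AtPrime p) (Localization.AtPrime q') β ∈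
        IsLocalRing.maximalIdeal (Localization.AtPrime q') := by
    intro x
    obtain ⟨b, c, hc, hbc⟩ := IE4.exists_residue q H z hzq hzτ x
    have hcp : c ∈ p.primeCompl := fun h => hc ((hmemp c).mp h)
    obtain ⟨v, hv⟩ := (IsLocalization.map_units (Localization.AtPrime p)
      (⟨c, hcp⟩ : p.primeCompl)).exists_right_inv
    refine ⟨v * algebraMap _ (Localization.AtPrime p) b, ?_⟩
    have hmem : Subring.inclusion hle c * x - Subring.inclusion hle b ∈ q' := by
      rw [hmemq']; exact hbc
    have h1 : algebraMap (FixedPoints.subring R H) (Localization.AtPrime q')
        (Subring.inclusion hle c * x - Subring.inclusion hle b) ∈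
        IsLocalRing.maximalIdeal (Localization.AtPrime q') :=
      (IsLocalization.AtPrime.to_map_mem_maximal_iff (Localization.AtPrime q') q' _).mpr hmem
    rw [map_sub, map_mul, ← hφmap, ← hφmap] at h1
    have h2 : φ (algebraMap _ (Localization.AtPrime p) c) * φ v = 1 := by
      rw [← map_mul]
      have hv' : algebraMap (FixedPoints.subring R G) (Localization.AtPrime p) c * v = 1 := hv
      rw [hv', map_one]
    have e : algebraMap (FixedPoints.subring R H) (Localization.AtPrime q') x -
          algebraMap (Localization.AtPrime p) (Localization.AtPrime q')
            (v * algebraMap _ (Localization.AtPrime p) b)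
        = φ v * (φ (algebraMap _ (Localization.AtPrime p) c) *
            algebraMap (FixedPoints.subring R H) (Localization.AtPrime q') x -
            φ (algebraMap _ (Localization.AtPrime p) b)) := by
      show _ - φ (v * _) = _
      rw [map_mul]
      linear_combination
        (-(algebraMap (FixedPoints.subring R H) (Localization.AtPrime q') x)) * h2
    rw [e]
    exact Ideal.mul_mem_left _ _ h1
  have hres : ∀ s : Localization.AtPrime q', ∃ β : Localization.AtPrime p,
      s - algebraMap (Localization.AtPrime p) (Localization.AtPrime q') β ∈
        IsLocalRing.maximalIdeal (Localization.AtPrime q') :=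
    IE4.res_of_gens q'.primeCompl hres1
  have hA := IE4.surj_mod_pow hmax hres n
  refine ⟨?_, ?_⟩
  · intro y
    obtain ⟨s, rfl⟩ := Ideal.Quotient.mk_surjective y
    obtain ⟨a, ha⟩ := hA s
    refine ⟨a, ?_⟩
    show Ideal.Quotient.mk _ (φ a) = Ideal.Quotient.mk _ s
    rw [eq_comm, Ideal.Quotient.eq]
    exact ha
  · show Ideal.comap (algebraMap (Localization.AtPrime p) (Localization.AtPrime q')) _ = _
    rw [← hmax, ← Ideal.map_pow]
    exact Ideal.comap_map_eq_self_of_faithfullyFlat _

/-- Stated in affine form, at the level of rings: let a finite group `G` act on a commutative ring `R`;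
suppose the ring of invariants `B = R^G` is Noetherian and `R` is a finite `B`-module. Let `q` be a
prime of `R`, let `H` be a subgroup of `G` containing the stabilizer of `q` (the decomposition
group), and put `R' = R^H`, `q' = q ∩ R'`, `p = q ∩ B = q' ∩ B`. Then the local homomorphism `B_p →
R'_{q'}` induces an isomorphism between the completions of these two Noetherian local rings;
equivalently, and this is the form stated, for every `n` the composite `B_p → R'_{q'} → R'_{q'} /
m_{q'}^n` is surjective and its kernel is exactly `m_p^n`. (The published statement concerns a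
prescheme `X` finite over a locally Noetherian `Y = X/G` and the local rings of `Y` and `X/H` at the
images of a point `x`; the assertion is local on `Y` and `X` is affine over `Y`, so it is stated for
`X = Spec R`, `Y = Spec R^G`, `X/H = Spec R^H`. The hypothesis `hle` only records the inclusion `R^G
⊆ R^H`, which always holds.) -/
theorem result
    (G R : Type u) [Group G] [Finite G] [CommRing R] [MulSemiringAction G R]
    [IsNoetherianRing (FixedPoints.subring R G)] [Module.Finite (FixedPoints.subring R G) R]
    (H : Subgroup G) (q : Ideal R) [q.IsPrime] (hD : MulAction.stabilizer G q ≤ H)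
    (hle : FixedPoints.subring R G ≤ FixedPoints.subring R H) (n : ℕ) :
    let q' : Ideal (FixedPoints.subring R H) := Ideal.comap (FixedPoints.subring R H).subtype q
    let φ := Localization.localRingHom (Ideal.comap (Subring.inclusion hle) q') q' (Subring.inclusion hle) rfl
    Function.Surjective ((Ideal.Quotient.mk (IsLocalRing.maximalIdeal (Localization.AtPrime q') ^ n)).comp φ) ∧
      Ideal.comap φ (IsLocalRing.maximalIdeal (Localization.AtPrime q') ^ n) =
        IsLocalRing.maximalIdeal (Localization.AtPrime (Ideal.comap (Subring.inclusion hle) q')) ^ n := by
  intro q' φ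
  exact main_aux H q hD hle n q' rfl _ rfl φ rfl

end Groth.Agent.S6017
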