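import Groth.Statements.S6019
-- import your own Groth.Agent.* helpers here

set_option autoImplicit false
set_option backward.isDefEq.respectTransparency false
open CategoryTheory
universe v₁ v₂ u₁ u₂
open FibCat FibCat.Cleavage

namespace Groth.Agent.S6019

open CategoryTheory.Functor in
theorem isCartesian_id_of_eqToHom {𝒮 : Type u₁} {𝒳 : Type u₂} [Category.{v₁} 𝒮] [Category.{v₂} 𝒳]
    (p : 𝒳 ⥤ 𝒮) {R S : 𝒮} {a : 𝒳} (ha : p.obj a = S) (f : R ⟶ S)
    (h : ∃ e : R = S, f = eqToHom e) : p.IsCartesian f (𝟙 a) := by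
  obtain ⟨e, rfl⟩ := h
  subst e
  subst ha
  rw [eqToHom_refl]
  haveI : p.IsHomLift (𝟙 (p.obj a)) (𝟙 a) := inferInstance
  haveI : p.IsStronglyCartesian (𝟙 (p.obj a)) (𝟙 a) := inferInstance
  infer_instance

open CategoryTheory.Functor Classical in
/-- A choice of cartesian lift which is the identity over identities. -/
noncomputable def pick {𝒮 : Type u₁} {𝒳 : Type u₂} [Category.{v₁} 𝒮] [Category.{v₂} 𝒳]
    (p : 𝒳 ⥤ 𝒮) [p.IsPreFibered] {R S : 𝒮} {a : 𝒳} (ha : p.obj a = S) (f : R ⟶ S) :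
    Σ' (b : 𝒳), {φ : b ⟶ a // p.IsCartesian f φ} :=
  if h : ∃ e : R = S, f = eqToHom e then ⟨a, 𝟙 a, isCartesian_id_of_eqToHom p ha f h⟩
  else ⟨IsPreFibered.pullbackObj ha f, IsPreFibered.pullbackMap ha f, inferInstance⟩

theorem pick_id {𝒮 : Type u₁} {𝒳 : Type u₂} [Category.{v₁} 𝒮] [Category.{v₂} 𝒳]
    (p : 𝒳 ⥤ 𝒮) [p.IsPreFibered] {S : 𝒮} {a : 𝒳} (ha : p.obj a = S) :
    pick p ha (𝟙 S) = ⟨a, 𝟙 a, isCartesian_id_of_eqToHom p ha (𝟙 S) ⟨rfl, rfl⟩⟩ :=
  dif_pos ⟨rfl, rfl⟩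

/-- A pre-fibred category admits a normalised cleavage: if every base morphism `R ⟶ p(a)` has a
cartesian morphism over it with target `a`, then one cartesian lift can be chosen for every base
morphism at every object over its target in such a way that the chosen lift of each identity `𝟙 S`
at each object `a` over `S` is the identity of `a` (identities are transport morphisms). -/
theorem result (𝒮 : Type u₁) (𝒳 : Type u₂) [Category.{v₁} 𝒮] [Category.{v₂} 𝒳]
    (p : 𝒳 ⥤ 𝒮) [p.IsPreFibered] : ∃ K : FibCat.Cleavage p, K.IsNormalised := by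
  refine ⟨⟨fun ha f => (pick p ha f).1, fun ha f => (pick p ha f).2.1,
    fun ha f => (pick p ha f).2.2⟩, ?_⟩
  intro S a ha
  change ∃ h : (pick p ha (𝟙 S)).1 = a, (pick p ha (𝟙 S)).2.1 = eqToHom h
  rw [pick_id]
  exact ⟨rfl, rfl⟩

end Groth.Agent.S6019
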