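import Groth.Statements.S6020
-- import your own Groth.Agent.* helpers here
import Groth.Agent.H45.LocCohZShift
import Groth.Agent.H45.ExtContraLES

set_option autoImplicit false
universe u
open CategoryTheory CategoryTheory.Limits TopologicalSpace
open LocCohZ

namespace Groth.Agent.S6020

/-- Consider a topological space X carrying a sheaf F of abelian groups, an open subset U whose
complement is the closed set Z, and a natural number N. The local cohomology sheaves ℋ^i_Z(F) are
zero for all i ≤ N exactly when, for each open V of X, restricting H^i(V, F) → H^i(V ∩ U, F) gives a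
bijection whenever i < N and an injection when i = N. -/
theorem result {X : TopCat.{u}} (F : CohTop.Ab X) (U : Opens X) (N : ℕ) :
    (∀ i : ℕ, i ≤ N → IsZero ((LocCohZ.HZsh U i).obj F)) ↔
      ∀ V : Opens X, (∀ i : ℕ, i < N → Function.Bijective (CohTop.res F i (inf_le_left : V ⊓ U ≤ V))) ∧
        Function.Injective (CohTop.res F N (inf_le_left : V ⊓ U ≤ V)) := by
  have key : ∀ V : Opens X,
      (∀ i : ℕ, i ≤ N → Subsingleton (LocCohZ.HZ F i (inf_le_left : V ⊓ U ≤ V))) ↔
        (∀ i : ℕ, i < N → Function.Bijective (CohTop.res F i (inf_le_left : V ⊓ U ≤ V))) ∧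
          Function.Injective (CohTop.res F N (inf_le_left : V ⊓ U ≤ V)) := fun V =>
    Groth.Agent.H45.ExtContraLES.subsingleton_iff
      (LocCohZ.zqSeq_shortExact (inf_le_left : V ⊓ U ≤ V)) F N
  have h1 := Groth.Agent.H45.LocCohZShift.isZero_HZsh_iff U (N + 1) F
  constructor
  · intro hA V
    exact (key V).1 (fun i hi => h1.1 (fun i hi => hA i (Nat.lt_succ_iff.1 hi)) V i
      (Nat.lt_succ_iff.2 hi))
  · intro hB i hi
    exact h1.2 (fun V i hi => (key V).2 (hB V) i (Nat.lt_succ_iff.1 hi)) i (Nat.lt_succ_iff.2 hi)

end Groth.Agent.S6020
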