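import Groth.Statements.S6024
import Groth.Agent.H67.SieveCoh3

set_option autoImplicit false
universe u
open CategoryTheory CategoryTheory.Limits TopologicalSpace
open LocCohZ

namespace Groth.Agent.S6024

/-- Consider a topological space X carrying a sheaf of abelian groups F, and assume that H^1_Z(X, F)
vanishes for each closed subset Z of X (writing Z = X − U with U open). Under this assumption, F is
flasque. -/
theorem result {X : TopCat.{u}} (F : CohTop.Ab X)
    (h : ∀ U : Opens X, Subsingleton (LocCohZ.HZc F 1 U)) : TopCat.Sheaf.IsFlasque F := by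
  constructor
  intro U V i
  rw [AddCommGrpCat.epi_iff_surjective]
  intro s
  have hS := LocCohZ.zqSeq_shortExact (le_top : V.unop ≤ (⊤ : TopologicalSpace.Opens X))
  haveI : Subsingleton (Abelian.Ext (LocCohZ.zqSeq (le_top : V.unop ≤ (⊤ : TopologicalSpace.Opens X))).X₃
      F 1) := h V.unop
  let φ : (LocCohZ.zqSeq (le_top : V.unop ≤ (⊤ : TopologicalSpace.Opens X))).X₁ ⟶ F :=
    (Groth.Agent.H67.SieveCoh.secEquiv _ V.unop F).symm s
  obtain ⟨x₂, hx₂⟩ := Abelian.Ext.contravariant_sequence_exact₁ hS F (Abelian.Ext.mk₀ φ)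
    (rfl : 1 + 0 = 1) (Subsingleton.elim _ _)
  obtain ⟨ψ, rfl⟩ := (Abelian.Ext.mk₀_bijective _ _).2 x₂
  rw [Abelian.Ext.mk₀_comp_mk₀] at hx₂
  have hψ : (LocCohZ.zqSeq (le_top : V.unop ≤ (⊤ : TopologicalSpace.Opens X))).f ≫ ψ = φ :=
    (Abelian.Ext.mk₀_bijective _ _).1 hx₂
  let t := Groth.Agent.H67.SieveCoh.secEquiv _ (⊤ : TopologicalSpace.Opens X) F ψ
  have ht : F.obj.map (homOfLE (le_top : V.unop ≤ (⊤ : TopologicalSpace.Opens X))).op t = s := by
    have h1 := Groth.Agent.H67.SieveCoh.secEquiv_map (Opens.grothendieckTopology X)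
      (homOfLE (le_top : V.unop ≤ (⊤ : TopologicalSpace.Opens X))) F ψ
    have h2 : Groth.Agent.H67.SieveCoh.secEquiv _ V.unop F φ = s :=
      Equiv.apply_symm_apply _ _
    exact h1.symm.trans ((congrArg (Groth.Agent.H67.SieveCoh.secEquiv _ V.unop F) hψ).trans h2)
  refine ⟨F.obj.map (homOfLE (le_top : U.unop ≤ (⊤ : TopologicalSpace.Opens X))).op t, ?_⟩
  rw [← ht, ← ConcreteCategory.comp_apply, ← Functor.map_comp]
  rfl

end Groth.Agent.S6024
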