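import Groth.Statements.S6025
-- import your own Groth.Agent.* helpers here
import Groth.Agent.H45.CohTopOpenPull
import Groth.Agent.H45.RDerivedLES
import Groth.Agent.H45.RDerivedExactFunctor
import Groth.Agent.H45.ExtAdjAcy

set_option autoImplicit false
universe u
open CategoryTheory CategoryTheory.Limits TopologicalSpace
open LocCohZ

namespace Groth.Agent.S6025

open Groth.Agent.H45 Groth.Agent.H45.CohTopOpenPull Groth.Agent.H45.RDerivedLES

section Aux

variable {X : TopCat.{u}} (U : Opens X)

/-- The unit `𝟭 ⟶ j⁻¹ ⋙ j_*`. -/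
noncomputable abbrev η : 𝟭 (CohTop.Ab X) ⟶ CohTop.pull (CohCx.incl U) ⋙ CohTop.push (CohCx.incl U) :=
  (TopCat.Sheaf.pullbackPushforwardAdjunction AddCommGrpCat.{u} (CohCx.incl U)).unit

/-- The inclusion `Γ_Z ⟶ 𝟭`. -/
noncomputable def αZ : LocCohZ.sectSuppF U ⟶ 𝟭 (CohTop.Ab X) where
  app F := kernel.ι _
  naturality {F G} φ := by
    dsimp [LocCohZ.sectSuppF, kernel.map]
    exact kernel.lift_ι _ _ _

lemma wZ : αZ U ≫ η U = 0 := by
  ext F : 2
  exact kernel.condition _

lemma exactOnInjectives : ExactOnInjectives (αZ U) (η U) (wZ U) := by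
  intro I hI
  haveI := hI
  exact
    { exact := ShortComplex.exact_of_f_is_kernel _ (kernelIsKernel _)
      mono_f := by dsimp [αZ]; exact equalizer.ι_mono
      epi_g := epi_unit_of_injective U I }

lemma isZero_id (n : ℕ) (hn : 0 < n) (F : CohTop.Ab X) :
    IsZero (((𝟭 (CohTop.Ab X)).rightDerived n).obj F) :=
  ExtAdj.isZero_rightDerived_of_exact (𝟭 (CohTop.Ab X)) F n hn

end Aux

/-- Let X be a topological space, A a closed subset with open complement U and f : U → X the inclusion.
Then the functor ℋ^1_A is isomorphic to the cokernel of the unit F → f_* f⁻¹ F (so that 0 → ℋ^0_A(F)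
→ F → f_*(F|_U) → ℋ^1_A(F) → 0 is exact), and for every i ≥ 1 the functor ℋ^{i+1}_A is isomorphic to
F ↦ R^i f_*(F|_U). (Existence of isomorphisms of functors only; the maps of the four-term sequence
other than the kernel inclusion are not pinned.) -/
theorem result {X : TopCat.{u}} (U : Opens X) :
    Nonempty (LocCohZ.HZsh U 1 ≅
      cokernel (TopCat.Sheaf.pullbackPushforwardAdjunction AddCommGrpCat.{u} (CohCx.incl U)).unit) ∧
      ∀ i : ℕ, 1 ≤ i →
        Nonempty (LocCohZ.HZsh U (i + 1) ≅ CohTop.pull (CohCx.incl U) ⋙ CohTop.Rpush (CohCx.incl U) i) := by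
  refine ⟨⟨?_⟩, fun i hi => ⟨?_⟩⟩
  · exact (cokernelIso (exactOnInjectives U) (fun F => isZero_id 1 Nat.one_pos F)).symm
  · haveI := isIso_δ (exactOnInjectives U) i (fun F => isZero_id i (by omega) F)
      (fun F => isZero_id (i + 1) (by omega) F)
    exact (asIso (δ (exactOnInjectives U) i)).symm ≪≫
      RDerivedExact.rightDerivedCompIso (CohTop.pull (CohCx.incl U)) (CohTop.push (CohCx.incl U))
        (fun J hJ => by haveI := hJ; exact injective_pull U J) i

end Groth.Agent.S6025
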