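import Groth.Statements.S6026
import Groth.Agent.H45.DeltaPrecomp
import Groth.Agent.H45.CohTopPushRestr

set_option autoImplicit false
universe u
open CategoryTheory CategoryTheory.Limits TopologicalSpace
open LocCohZ

namespace Groth.Agent.S6026

open Groth.Agent.H45.DeltaIso Groth.Agent.H45.CohTopRestr Opposite

lemma nat_apply {A : Type*} [Category A] {P Q : A ⥤ AddCommGrpCat.{u}} (ψ : P ⟶ Q) {F G : A}
    (φ : F ⟶ G) (x : P.obj F) :
    (ψ.app G).hom ((P.map φ).hom x) = (Q.map φ).hom ((ψ.app F).hom x) :=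
  ConcreteCategory.congr_hom (ψ.naturality φ) x

/-- The additive equivalences underlying a natural isomorphism. -/
def isoEquiv {A : Type*} [Category A] {P Q : A ⥤ AddCommGrpCat.{u}} (ψ : P ≅ Q) (F : A) :
    P.obj F ≃+ Q.obj F :=
  (ψ.app F).addCommGroupIsoToAddEquiv

lemma isoEquiv_natural {A : Type*} [Category A] {P Q : A ⥤ AddCommGrpCat.{u}} (ψ : P ≅ Q)
    {F G : A} (φ : F ⟶ G) (x : P.obj F) :
    isoEquiv ψ G ((P.map φ).hom x) = (Q.map φ).hom (isoEquiv ψ F x) :=
  nat_apply ψ.hom φ x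

variable {X : TopCat.{u}}

lemma map_map_eq (F : CohTop.Ab X) {A B C : Opens X} (f : A ⟶ B) (g : B ⟶ C) (k : A ⟶ C)
    (s : F.obj.obj (op C)) :
    (F.obj.map f.op).hom ((F.obj.map g.op).hom s) = (F.obj.map k.op).hom s := by
  have hk : f ≫ g = k := Subsingleton.elim _ _
  rw [← hk, op_comp, F.obj.map_comp]
  rfl

section

variable {W V : Opens X} (h : W ≤ V)

/-- `W ∩ V` as an open of `V`. -/
abbrev W' : Opens (TopCat.of V) := (Opens.map (CohCx.incl V)).obj W

lemma jtop : V.isOpenEmbedding.isOpenMap.functor.obj ⊤ = V := by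
  ext x
  constructor
  · rintro ⟨y, -, rfl⟩
    exact y.2
  · intro hx
    exact ⟨⟨x, hx⟩, trivial, rfl⟩

include h in
lemma jW : V.isOpenEmbedding.isOpenMap.functor.obj (W' (W := W) (V := V)) = W := by
  ext x
  constructor
  · rintro ⟨y, hy, rfl⟩
    exact hy
  · intro hx
    exact ⟨⟨x, h hx⟩, hx, rfl⟩

/-- Sections over `V` vanishing on `W`, computed on `X` and on `V`. -/
noncomputable def kerEquiv (F : CohTop.Ab X) :
    LocCohZ.sectZ F h ≃+
      LocCohZ.sectZ (CohTop.restr F V) (le_top : W' (W := W) (V := V) ≤ ⊤) where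
  toFun s := ⟨(F.obj.map (homOfLE (jtop (V := V)).le).op).hom s.1, by
    have hs : (F.obj.map (homOfLE h).op).hom s.1 = 0 := s.2
    have e1 := map_map_eq F (V.isOpenEmbedding.isOpenMap.functor.map
      (homOfLE (le_top : W' (W := W) (V := V) ≤ ⊤))) (homOfLE (jtop (V := V)).le)
      (homOfLE (jW h).le ≫ homOfLE h) s.1
    have e2 := map_map_eq F (homOfLE (jW h).le) (homOfLE h) (homOfLE (jW h).le ≫ homOfLE h) s.1
    exact e1.trans (e2.symm.trans (by rw [hs, map_zero]; rfl))⟩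
  invFun t := ⟨(F.obj.map (homOfLE (jtop (V := V)).ge).op).hom t.1, by
    have ht : (F.obj.map (V.isOpenEmbedding.isOpenMap.functor.map
      (homOfLE (le_top : W' (W := W) (V := V) ≤ ⊤))).op).hom t.1 = 0 := t.2
    have e1 := map_map_eq F (homOfLE h) (homOfLE (jtop (V := V)).ge)
      (homOfLE (jW h).ge ≫ V.isOpenEmbedding.isOpenMap.functor.map
        (homOfLE (le_top : W' (W := W) (V := V) ≤ ⊤))) t.1
    have e2 := map_map_eq F (homOfLE (jW h).ge) (V.isOpenEmbedding.isOpenMap.functor.map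
        (homOfLE (le_top : W' (W := W) (V := V) ≤ ⊤)))
      (homOfLE (jW h).ge ≫ V.isOpenEmbedding.isOpenMap.functor.map
        (homOfLE (le_top : W' (W := W) (V := V) ≤ ⊤))) t.1
    exact e1.trans (e2.symm.trans (by rw [ht, map_zero]))⟩
  left_inv s := by
    apply Subtype.ext
    refine (map_map_eq F (homOfLE (jtop (V := V)).ge) (homOfLE (jtop (V := V)).le) (𝟙 V) s.1).trans ?_
    rw [op_id, F.obj.map_id]
    rfl
  right_inv t := by
    apply Subtype.ext
    refine (map_map_eq F (homOfLE (jtop (V := V)).le) (homOfLE (jtop (V := V)).ge) (𝟙 _) t.1).trans ?_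
    rw [op_id, F.obj.map_id]
    rfl
  map_add' s t := by
    apply Subtype.ext
    exact map_add (F.obj.map (homOfLE (jtop (V := V)).le).op).hom s.1 t.1

lemma addEquiv₀_comp_mk₀ {A B C : CohTop.Ab X} (x : Abelian.Ext A B 0) (φ : B ⟶ C) :
    Abelian.Ext.addEquiv₀ (x.comp (Abelian.Ext.mk₀ φ) (add_zero 0)) =
      Abelian.Ext.addEquiv₀ x ≫ φ := by
  apply Abelian.Ext.addEquiv₀.symm.injective
  rw [AddEquiv.symm_apply_apply]
  change _ = Abelian.Ext.mk₀ _
  rw [← Abelian.Ext.mk₀_comp_mk₀, Abelian.Ext.mk₀_addEquiv₀_apply]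

/-- Naturality of `sect0Equiv`. -/
lemma sect0Equiv_map {F G : CohTop.Ab X} (φ : F ⟶ G) {W V : Opens X} (h : W ≤ V)
    (x : LocCohZ.HZ F 0 h) :
    (LocCohZ.sect0Equiv G h (LocCohZ.map φ 0 h x)).1 =
      (φ.hom.app (op V)).hom (LocCohZ.sect0Equiv F h x).1 := by
  change CohFree.evalGen _ V G (cokernel.π _ ≫ Abelian.Ext.addEquiv₀
    (x.comp (Abelian.Ext.mk₀ φ) (add_zero 0))) = _
  rw [addEquiv₀_comp_mk₀, ← Category.assoc]
  rfl

/-- The degree zero comparison. -/
noncomputable def e₀ (F : CohTop.Ab X) :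
    LocCohZ.HZ F 0 h ≃+ LocCohZ.HZc (CohTop.restr F V) 0 (W' (W := W) (V := V)) :=
  (LocCohZ.sect0Equiv F h).trans ((kerEquiv h F).trans
    (LocCohZ.sect0Equiv (CohTop.restr F V) (le_top : W' (W := W) (V := V) ≤ ⊤)).symm)

lemma e₀_natural {F G : CohTop.Ab X} (φ : F ⟶ G) (x : LocCohZ.HZ F 0 h) :
    e₀ h G (LocCohZ.map φ 0 h x) =
      LocCohZ.map ((CohTop.restrFunctor V).map φ) 0
        (le_top : W' (W := W) (V := V) ≤ ⊤) (e₀ h F x) := by
  apply (LocCohZ.sect0Equiv (CohTop.restr G V) (le_top : W' (W := W) (V := V) ≤ ⊤)).injective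
  apply Subtype.ext
  rw [sect0Equiv_map]
  simp only [e₀, AddEquiv.trans_apply, AddEquiv.apply_symm_apply]
  change (G.obj.map _).hom (LocCohZ.sect0Equiv G h (LocCohZ.map φ 0 h x)).1 =
    (φ.hom.app _).hom ((F.obj.map _).hom (LocCohZ.sect0Equiv F h x).1)
  rw [sect0Equiv_map]
  exact (ConcreteCategory.congr_hom (φ.hom.naturality _) _).symm

/-- The degree zero comparison as a natural isomorphism. -/
noncomputable def E₀ : Abelian.extFunctorObj.{u} (LocCohZ.zq h) 0 ≅
    CohTop.restrFunctor V ⋙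
      Abelian.extFunctorObj.{u} (LocCohZ.zq (le_top : W' (W := W) (V := V) ≤ ⊤)) 0 :=
  NatIso.ofComponents (fun F => AddEquiv.toAddCommGrpIso (e₀ h F)) (fun {F G} φ => by
    refine AddCommGrpCat.ext fun (x : LocCohZ.HZ F 0 h) => ?_
    exact e₀_natural h φ x)

lemma hT₁ : (extDelta.{u} (LocCohZ.zq h)).IsEffaceable := extDelta_isEffaceable _

lemma hT₂ : (precompDelta (CohTop.restrFunctor V)
    (extDelta.{u} (LocCohZ.zq (le_top : W' (W := W) (V := V) ≤ ⊤)))).IsEffaceable :=
  isEffaceable_of_isZero_injective _ (fun n I hI => by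
    have := injective_restr V I
    have hs : Subsingleton (Abelian.Ext.{u} (LocCohZ.zq (le_top : W' (W := W) (V := V) ≤ ⊤))
        ((CohTop.restrFunctor V).obj I) (n + 1)) :=
      ⟨fun a b => (Abelian.Ext.eq_zero_of_injective a).trans
        (Abelian.Ext.eq_zero_of_injective b).symm⟩
    exact @AddCommGrpCat.isZero_of_subsingleton (AddCommGrpCat.of (Abelian.Ext.{u}
      (LocCohZ.zq (le_top : W' (W := W) (V := V) ≤ ⊤)) ((CohTop.restrFunctor V).obj I) (n + 1))) hs)

end


/-- Let X be a topological space, W ⊆ V opens of X and Z = V − W. For every i there is an isomorphism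
H^i_Z(X, F) ≅ H^i_Z(V, F|_V), natural in the abelian sheaf F on X, between cohomology with supports
in Z computed on X and computed on the open subspace V. (Existence of a natural family of
isomorphisms; the published statement has the canonical maps of cohomological functors.) -/
theorem result {X : TopCat.{u}} {W V : Opens X} (h : W ≤ V) (i : ℕ) :
    ∃ e : ∀ F : CohTop.Ab X,
        LocCohZ.HZ F i h ≃+ LocCohZ.HZc (CohTop.restr F V) i ((Opens.map (CohCx.incl V)).obj W),
      ∀ (F G : CohTop.Ab X) (φ : F ⟶ G) (x : LocCohZ.HZ F i h),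
        e G (LocCohZ.map φ i h x) =
          LocCohZ.map ((CohTop.restrFunctor V).map φ) i
            (le_top : (Opens.map (CohCx.incl V)).obj W ≤ ⊤) (e F x) := by
  obtain ⟨ψ⟩ : Nonempty (Abelian.extFunctorObj.{u} (LocCohZ.zq h) i ≅
      CohTop.restrFunctor V ⋙ Abelian.extFunctorObj.{u}
        (LocCohZ.zq (le_top : W' (W := W) (V := V) ≤ ⊤)) i) :=
    nonempty_iso_of_effaceable _ _ (hT₁ h) (hT₂ (W := W) (V := V)) (E₀ h) i
  exact ⟨fun F => isoEquiv ψ F, fun F G φ x => isoEquiv_natural ψ φ x⟩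

end Groth.Agent.S6026
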