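import Groth.Statements.S6027
import Groth.Agent.H45.DeltaIso
import Groth.Agent.H5.SpSeq.LocCohZSS

set_option autoImplicit false
universe u
open CategoryTheory CategoryTheory.Limits TopologicalSpace
open LocCohZ

namespace Groth.Agent.S6027

open Groth.Agent.H5.GSS Groth.Agent.H5.LocCohZSS Groth.Agent.H45.DeltaIso

variable {X : TopCat.{u}}

/-- `Hom(ℤ_V, -) ≅ Γ(V, -)`. -/
noncomputable def secIso (V : Opens X) :
    homF (CohCx.freeSheaf (Opens.grothendieckTopology X) V) ≅
      sheafToPresheaf (Opens.grothendieckTopology X) AddCommGrpCat.{u} ⋙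
        (evaluation (Opens X)ᵒᵖ AddCommGrpCat.{u}).obj (Opposite.op V) :=
  NatIso.ofComponents
    (fun F => AddEquiv.toAddCommGrpIso (CohFree.homEquivSect (Opens.grothendieckTopology X) V F))
    (fun {F G} g => by
      apply AddCommGrpCat.ext
      intro φ
      rfl)

/-- `Hom(W, -) ≅ Ext^0(W, -)`. -/
noncomputable def homFIsoExt (W : CohTop.Ab X) : homF W ≅ Abelian.extFunctorObj.{u} W 0 :=
  NatIso.ofComponents
    (fun F => AddEquiv.toAddCommGrpIso (Abelian.Ext.addEquiv₀ (X := W) (Y := F)).symm)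
    (fun {F G} g => by
      refine AddCommGrpCat.ext fun (φ : W ⟶ F) => ?_
      change Abelian.Ext.mk₀ (φ ≫ g) = (Abelian.Ext.mk₀ φ).comp (Abelian.Ext.mk₀ g) (add_zero 0)
      rw [Abelian.Ext.mk₀_comp_mk₀])

/-- `Γ_Z(X, -) ≅ Ext^0(ℤ_X/ℤ_U, -)`. -/
noncomputable def gammaIso (U : Opens X) :
    LocCohZ.gammaZF U ≅ Abelian.extFunctorObj.{u} (ToposFin.quotZ (LocCohZ.openSh U)) 0 :=
  (Functor.isoWhiskerLeft (LocCohZ.sectSuppF U) (secIso (X := X) ⊤)).symm ≪≫
    suppIso U ≪≫ homFIsoExt _ ≪≫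
    ((Abelian.extFunctor.{u} 0).mapIso (LocCohZ.zqIsoQuotZ U).op.symm)


/-- The case of a closed subset. Let X be a topological space and Z a closed subset with open complement
U. For every q the q-th right derived functor of F ↦ Γ_Z(X, F) is isomorphic to the functor F ↦
Ext^q(ℤ_{Z,X}, F), where ℤ_{Z,X} = ℤ_X/ℤ_U. (Existence of an isomorphism of functors for each q;
compatibility with connecting maps is not asserted.) -/
theorem result {X : TopCat.{u}} (U : Opens X) (q : ℕ) :
    Nonempty (LocCohZ.RHZ U q ≅ ToposFin.HZFunctor (LocCohZ.openSh U) q) := by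
  have : PreservesFiniteLimits (Abelian.extFunctorObj.{u} (ToposFin.quotZ (LocCohZ.openSh U)) 0) :=
    preservesFiniteLimits_of_natIso (homFIsoExt (ToposFin.quotZ (LocCohZ.openSh U)))
  have : PreservesFiniteLimits (LocCohZ.gammaZF U) :=
    preservesFiniteLimits_of_natIso (gammaIso U).symm
  exact nonempty_rightDerived_iso_extFunctorObj (LocCohZ.gammaZF U)
    (ToposFin.quotZ (LocCohZ.openSh U)) (gammaIso U) q

end Groth.Agent.S6027
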