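import Groth.Statements.S6028
import Mathlib.CategoryTheory.Abelian.Refinements

set_option autoImplicit false
universe u
open CategoryTheory CategoryTheory.Limits TopologicalSpace
open LocCohZ

namespace Groth.Agent.S6028

/-- Third isomorphism theorem in an abelian category: for monomorphisms `f : A ⟶ B`, `g : B ⟶ C`,
the sequence `B/A ⟶ C/A ⟶ C/B` is short exact. -/
theorem third_iso_shortExact {C : Type*} [Category C] [Abelian C] {A B D : C}
    (f : A ⟶ B) (g : B ⟶ D) (fg : A ⟶ D) (hfg : f ≫ g = fg) [Mono f] [Mono g] [Mono fg]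
    (m : cokernel f ⟶ cokernel fg) (hm : cokernel.π f ≫ m = g ≫ cokernel.π fg)
    (e : cokernel fg ⟶ cokernel g) (he : cokernel.π fg ≫ e = cokernel.π g) :
    ∃ w : m ≫ e = 0, (ShortComplex.mk m e w).ShortExact := by
  have w : m ≫ e = 0 := by
    rw [← cancel_epi (cokernel.π f), reassoc_of% hm, he, cokernel.condition, comp_zero]
  refine ⟨w, ?_⟩
  have hepi : Epi e := epi_of_epi_fac he
  have hmono : Mono m := by
    apply Preadditive.mono_of_cancel_zero
    intro K k hk
    obtain ⟨K₁, p, hp, b, hb⟩ := surjective_up_to_refinements_of_epi (cokernel.π f) k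
    have h1 : (b ≫ g) ≫ cokernel.π fg = 0 := by
      rw [Category.assoc, ← hm, ← Category.assoc, ← hb, Category.assoc, hk, comp_zero]
    have h2 : Abelian.monoLift fg (b ≫ g) h1 ≫ fg = b ≫ g := Abelian.monoLift_comp fg _ h1
    have h3 : b = Abelian.monoLift fg (b ≫ g) h1 ≫ f := by
      rw [← cancel_mono g, Category.assoc, hfg, h2]
    have h4 : p ≫ k = 0 := by
      rw [hb, h3, Category.assoc, cokernel.condition, comp_zero]
    rw [← cancel_epi p, h4, comp_zero]
  have hexact : (ShortComplex.mk m e w).Exact := by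
    rw [ShortComplex.exact_iff_exact_up_to_refinements]
    intro A' x₂ hx₂
    obtain ⟨A₁, p₁, hp₁, c, hc⟩ := surjective_up_to_refinements_of_epi (cokernel.π fg) x₂
    have h1 : c ≫ cokernel.π g = 0 := by
      rw [← he, ← Category.assoc, ← hc, Category.assoc]
      change p₁ ≫ x₂ ≫ e = 0
      rw [show x₂ ≫ e = 0 from hx₂, comp_zero]
    refine ⟨A₁, p₁, hp₁, Abelian.monoLift g c h1 ≫ cokernel.π f, ?_⟩
    change p₁ ≫ x₂ = (Abelian.monoLift g c h1 ≫ cokernel.π f) ≫ m
    rw [Category.assoc, hm, ← Category.assoc, Abelian.monoLift_comp, hc]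
  exact { exact := hexact, mono_f := hmono, epi_g := hepi }

/-- Let X be a topological space and W ⊆ V ⊆ T opens of X; put Z = T − W, Z' = T − V and Z'' = V − W, so
that Z' is closed in Z with complement Z''. Then 0 → ℤ_{Z'',X} → ℤ_{Z,X} → ℤ_{Z',X} → 0 is a short
exact sequence of abelian sheaves on X, where ℤ_{Z,X} = ℤ_T/ℤ_W and the maps are the induced ones. -/
theorem result {X : TopCat.{u}} {W V T : Opens X} (hWV : W ≤ V) (hVT : V ≤ T) :
    ∃ w : LocCohZ.zqMap (hWV.trans hVT) hWV le_rfl hVT ≫ LocCohZ.zqMap hVT (hWV.trans hVT) hWV le_rfl = 0,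
      (ShortComplex.mk _ _ w).ShortExact := by
  have : Mono (CohCx.freeSheafMap (Opens.grothendieckTopology X) (homOfLE hWV)) :=
    (zqSeq_shortExact hWV).mono_f
  have : Mono (CohCx.freeSheafMap (Opens.grothendieckTopology X) (homOfLE hVT)) :=
    (zqSeq_shortExact hVT).mono_f
  have : Mono (CohCx.freeSheafMap (Opens.grothendieckTopology X) (homOfLE (hWV.trans hVT))) :=
    (zqSeq_shortExact (hWV.trans hVT)).mono_f
  refine third_iso_shortExact
    (CohCx.freeSheafMap (Opens.grothendieckTopology X) (homOfLE hWV))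
    (CohCx.freeSheafMap (Opens.grothendieckTopology X) (homOfLE hVT))
    (CohCx.freeSheafMap (Opens.grothendieckTopology X) (homOfLE (hWV.trans hVT))) ?_ _ ?_ _ ?_
  · rw [← CohFree.freeSheafMap_comp]
    rfl
  · simp [zqMap]
  · simp [zqMap, CohFree.freeSheafMap_id]

end Groth.Agent.S6028
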