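import Groth.Statements.S6029
import Groth.Agent.H5.SpSeq.LocCohZSS

set_option autoImplicit false
universe u
open CategoryTheory CategoryTheory.Limits TopologicalSpace
open LocCohZ

namespace Groth.Agent.S6029

/-- For a closed subset Z = X − U of a topological space X and an abelian sheaf F on X: there is an E₂
spectral sequence of abelian groups with E₂^{p,q} ≅ H^p(X, ℋ^q_Z(F)) for p, q ≥ 0 (and 0 otherwise),
bounded, abutting with finite filtrations to H^n_Z(X, F) (n ≥ 0; 0 for n < 0). (Existence only: the
E₂ identifications and the abutment isomorphisms are some isomorphisms, not the canonical maps of a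
construction, so edge maps and low-degree exact sequences are not part of this statement.) -/
theorem result {X : TopCat.{u}} (F : CohTop.Ab X) (U : Opens X) :
    ∃ (E : E₂CohomologicalSpectralSequence AddCommGrpCat.{u})
      (a : SpSeq.Abutment E (fun n : ℤ =>
        if 0 ≤ n then AddCommGrpCat.of (LocCohZ.HZc F n.toNat U) else AddCommGrpCat.of PUnit.{u + 1})),
      (∀ n : ℤ, a.IsFinite n) ∧ SpSeq.IsBounded E ∧
      ∀ p q : ℤ, Nonempty ((E.page 2 le_rfl).X (p, q) ≅
        (if 0 ≤ p ∧ 0 ≤ q then AddCommGrpCat.of (CohTop.HU ((LocCohZ.HZsh U q.toNat).obj F) p.toNat ⊤)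
          else AddCommGrpCat.of PUnit.{u + 1})) := by
  refine Groth.Agent.H5.GSS.extForm (LocCohZ.sectSuppF U)
    (LocCohZ.zq (le_top : U ≤ ⊤)) (CohCx.freeSheaf (Opens.grothendieckTopology X) (⊤ : Opens X))
    (Groth.Agent.H5.LocCohZSS.suppIso U)
    (fun Q hQ q hq x => by
      haveI := hQ
      exact Groth.Agent.H5.LocCohZSS.supp_ext_eq_zero U Q q hq x)
    F _ _ ?_ ?_ ?_ ?_
  · intro n
    rw [if_pos (Int.natCast_nonneg n), Int.toNat_natCast]
    exact ⟨Iso.refl _⟩
  · intro n hn
    rw [if_neg (by omega)]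
    exact AddCommGrpCat.isZero_of_subsingleton _
  · intro p q
    rw [if_pos ⟨Int.natCast_nonneg p, Int.natCast_nonneg q⟩, Int.toNat_natCast, Int.toNat_natCast]
    exact ⟨Iso.refl _⟩
  · intro p q hpq
    rw [if_neg (by omega)]
    exact AddCommGrpCat.isZero_of_subsingleton _

end Groth.Agent.S6029
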