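import Groth.Statements.S6033
import Groth.Agent.H82.FullCechH1
import Groth.Agent.H67.CechTop2

set_option autoImplicit false
universe u
open CategoryTheory CategoryTheory.Limits TopologicalSpace AlgebraicGeometry
open LocCohZ

namespace Groth.Agent.S6033

open Groth.Agent.H82.FullCech Opposite in
/-- The first Koszul limit group vanishes iff every section over the punctured spectrum
extends to a global section. -/
theorem koszul_one_iff {A : Type u} [CommRing A] (M : ModuleCat.{u} A) (fs : List A) :
    Subsingleton (CohIII.koszulHLim fs M 1) ↔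
      Function.Surjective (rest (til M)
        (le_top : LocCoh.puncturedOpen A (Ideal.span {a | a ∈ fs}) ≤ ⊤)) := by
  obtain ⟨e⟩ := nonempty_koszul_one_equiv_HZ M fs
  have hdelta := (Groth.Agent.S6031.result (XA A) (til M)
    (inferInstanceAs (til M).IsQuasicoherent)
    (LocCoh.puncturedOpen A (Ideal.span {a | a ∈ fs}))).1
  constructor
  · intro hsub b
    haveI : Subsingleton (LocCohZ.HZM (XA A) (til M) 1
        (LocCoh.puncturedOpen A (Ideal.span {a | a ∈ fs}))) := e.symm.toEquiv.subsingleton
    exact (delta_sectH0_eq_zero_iff (T := (XA A).carrier) (Coh.toAb (til M)) _ b).1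
      (Subsingleton.elim _ _)
  · intro hs
    haveI : Subsingleton (LocCohZ.HZM (XA A) (til M) 1
        (LocCoh.puncturedOpen A (Ideal.span {a | a ∈ fs}))) := by
      refine ⟨fun x y => ?_⟩
      have hz : ∀ z : LocCohZ.HZM (XA A) (til M) 1
          (LocCoh.puncturedOpen A (Ideal.span {a | a ∈ fs})), z = 0 := by
        intro z
        obtain ⟨w, rfl⟩ := hdelta z
        obtain ⟨b, rfl⟩ := (CechEdge.sectH0 (Opens.grothendieckTopology (XA A).carrier)
          (LocCoh.puncturedOpen A (Ideal.span {a | a ∈ fs})) (Coh.toAb (til M))).surjective w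
        exact (delta_sectH0_eq_zero_iff (T := (XA A).carrier) (Coh.toAb (til M)) _ b).2 (hs b)
      rw [hz x, hz y]
    exact e.toEquiv.subsingleton



/-- Let A be a commutative ring such that the underlying space of X = Spec A is Noetherian. Then M~ is
flasque for every injective A-module M if and only if colim_n H^1(f^n, M) = 0 (direct limit of
Koszul cohomology of the powers) for every finite family f of elements of A and every injective
A-module M; and in that case colim_n H^i(f^n, M) = 0 for all i > 0 as well. -/
theorem result (A : Type u) [CommRing A]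
    [NoetherianSpace (PrimeSpectrum A)] :
    ((∀ (M : Type u) [AddCommGroup M] [Module A M], Module.Injective A M →
        TopCat.Sheaf.IsFlasque (Coh.toAb (AlgebraicGeometry.tilde (R := CommRingCat.of A) (ModuleCat.of A M)))) ↔
      ∀ (fs : List A) (M : Type u) [AddCommGroup M] [Module A M], Module.Injective A M →
        Subsingleton (CohIII.koszulHLim fs (ModuleCat.of A M) 1)) ∧
    ((∀ (M : Type u) [AddCommGroup M] [Module A M], Module.Injective A M →
        TopCat.Sheaf.IsFlasque (Coh.toAb (AlgebraicGeometry.tilde (R := CommRingCat.of A) (ModuleCat.of A M)))) →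
      ∀ (fs : List A) (M : Type u) [AddCommGroup M] [Module A M], Module.Injective A M →
        ∀ i : ℕ, 0 < i → Subsingleton (CohIII.koszulHLim fs (ModuleCat.of A M) i)) := by
  open Groth.Agent.H82.FullCech Opposite in
  have key := fun (fs : List A) (M : Type u) [AddCommGroup M] [Module A M] =>
    koszul_one_iff (ModuleCat.of A M) fs
  have hopen : ∀ V : (XA A).Opens, ∃ fs : List A,
      V = LocCoh.puncturedOpen A (Ideal.span {a | a ∈ fs}) := by
    intro V
    have hc : IsCompact (show Set (PrimeSpectrum A) from V.1) :=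
      TopologicalSpace.NoetherianSpace.isCompact _
    obtain ⟨t, ht⟩ := PrimeSpectrum.isCompact_isOpen_iff.1
      ⟨hc, (show IsOpen (show Set (PrimeSpectrum A) from V.1) from V.2)⟩
    refine ⟨t.toList, ?_⟩
    ext x
    show x ∈ (show Set (PrimeSpectrum A) from V.1) ↔
      x ∈ (PrimeSpectrum.zeroLocus (R := A)
        ((Ideal.span {a | a ∈ t.toList} : Ideal A) : Set A))ᶜ
    rw [← ht, PrimeSpectrum.zeroLocus_span]
    have hs : ({a | a ∈ t.toList} : Set A) = (t : Set A) := by
      ext a
      simp
    rw [hs]
  have hflasque_iff : ∀ (M : Type u) [AddCommGroup M] [Module A M],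
      TopCat.Sheaf.IsFlasque (Coh.toAb (AlgebraicGeometry.tilde (R := CommRingCat.of A)
        (ModuleCat.of A M))) ↔
      ∀ fs : List A, Subsingleton (CohIII.koszulHLim fs (ModuleCat.of A M) 1) := by
    intro M _ _
    constructor
    · intro hfl fs
      rw [key fs M]
      have hepi : Epi ((til (ModuleCat.of A M)).presheaf.map
          (homOfLE (le_top : LocCoh.puncturedOpen A (Ideal.span {a | a ∈ fs}) ≤ ⊤)).op) :=
        hfl.epi _
      exact (AddCommGrpCat.epi_iff_surjective _).1 hepi
    · intro h
      refine ⟨fun {W V} i => ?_⟩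
      rw [AddCommGrpCat.epi_iff_surjective]
      intro b
      obtain ⟨fs, hfs⟩ := hopen V.unop
      have hs := (key fs M).1 (h fs)
      have hle : V.unop ≤ W.unop := leOfHom i.unop
      have hVle : LocCoh.puncturedOpen A (Ideal.span {a | a ∈ fs}) ≤ V.unop := le_of_eq hfs.symm
      have hleV : V.unop ≤ LocCoh.puncturedOpen A (Ideal.span {a | a ∈ fs}) := le_of_eq hfs
      obtain ⟨t, ht⟩ := hs (rest (til (ModuleCat.of A M)) hVle b)
      refine ⟨rest (til (ModuleCat.of A M)) (le_top : W.unop ≤ ⊤) t, ?_⟩
      have h1 : rest (til (ModuleCat.of A M)) hle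
          (rest (til (ModuleCat.of A M)) (le_top : W.unop ≤ ⊤) t) =
          rest (til (ModuleCat.of A M)) hleV (rest (til (ModuleCat.of A M)) hVle b) := by
        rw [rest_rest, ← ht, rest_rest]
      rw [rest_rest] at h1
      have h2 : rest (til (ModuleCat.of A M)) (le_refl V.unop) b = b := by
        show ((til (ModuleCat.of A M)).presheaf.map (homOfLE (le_refl V.unop)).op).hom b = b
        have h3 : (homOfLE (le_refl V.unop)).op = 𝟙 (op V.unop) := rfl
        rw [h3, CategoryTheory.Functor.map_id]
        rfl
      exact h1.trans h2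
  refine ⟨⟨fun h fs M _ _ hM => ((hflasque_iff M).1 (h M hM)) fs,
    fun h M _ _ hM => (hflasque_iff M).2 (fun fs => h fs M hM)⟩, ?_⟩
  intro h fs M _ _ hM i hi
  haveI hfl := h M hM
  match i, hi with
  | 1, _ => exact ((hflasque_iff M).1 hfl) fs
  | p + 2, _ =>
    obtain ⟨e⟩ := nonempty_HU_equiv_koszul_spec (ModuleCat.of A M) fs p
    haveI := Groth.Agent.H67.CechTop.HU_subsingleton_of_isFlasque
      (Coh.toAb (til (ModuleCat.of A M))) p
      (LocCoh.puncturedOpen A (Ideal.span {a | a ∈ fs}))
    exact e.symm.toEquiv.subsingleton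

end Groth.Agent.S6033
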