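import Groth.Statements.S6041
import Groth.Agent.H51.QuotKerPre
import Groth.Agent.H50.Fppf
import Groth.Agent.H50.Quot
import Mathlib.CategoryTheory.Limits.Constructions.Over.Connected

set_option autoImplicit false
open CategoryTheory CategoryTheory.Limits AlgebraicGeometry MonoidalCategory
universe u
open GrpQ

namespace Groth.Agent.S6041

open CartesianMonoidalCategory in
/-- For schemes and the fppf topology, easy direction: let `s, t : R ⇉ U` be a pair of morphisms of
schemes over `S` (in the source an equivalence relation), `T` a scheme over `S` and `i : Z ⟶ U ×_S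
T` such that `Z ⟶ T` is flat, surjective and locally of finite presentation and any two points of
`Z` over the same point of `T` have `R`-related images in `U`. Then the composite `h_Z ⟶ h_U ⟶ U/R`
descends to exactly one section of the fppf quotient sheaf `U/R` over `T`. -/
theorem result {S : Scheme.{u}} {R U : Over S} (s t : R ⟶ U)
    (T Z : Over S) (i : Z ⟶ U ⊗ T)
    [Flat (i ≫ snd U T).left] [Surjective (i ≫ snd U T).left] [LocallyOfFinitePresentation (i ≫ snd U T).left]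
    (hZZ : ∀ (T' : Over S) (z₁ z₂ : T' ⟶ Z), z₁ ≫ i ≫ snd U T = z₂ ≫ i ≫ snd U T →
      ∃ r : T' ⟶ R, r ≫ s = z₁ ≫ i ≫ fst U T ∧ r ≫ t = z₂ ≫ i ≫ fst U T) :
    ∃! σ : QuotSh.rep Scheme.fppfPrecoverage T ⟶ QuotSh.quot Scheme.fppfPrecoverage s t,
      QuotSh.repMap Scheme.fppfPrecoverage (i ≫ fst U T) ≫ QuotSh.quotπ Scheme.fppfPrecoverage s t =
        QuotSh.repMap Scheme.fppfPrecoverage (i ≫ snd U T) ≫ σ := by
  obtain ⟨p, hp⟩ : ∃ p : Z ⟶ T, p = i ≫ snd U T := ⟨_, rfl⟩
  obtain ⟨c, hc⟩ : ∃ c : Z ⟶ U, c = i ≫ fst U T := ⟨_, rfl⟩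
  have hpfl : Flat p.left := by rw [hp]; infer_instance
  have hpsu : Surjective p.left := by rw [hp]; infer_instance
  have hpfp : LocallyOfFinitePresentation p.left := by rw [hp]; infer_instance
  have hZZ' : ∀ (T' : Over S) (z₁ z₂ : T' ⟶ Z), z₁ ≫ p = z₂ ≫ p →
      ∃ r : T' ⟶ R, r ≫ s = z₁ ≫ c ∧ r ≫ t = z₂ ≫ c := by
    intro T' z₁ z₂ h
    rw [hp] at h
    rw [hc]
    exact hZZ T' z₁ z₂ h
  rw [← hp, ← hc]
  -- the map of sheaves induced by `p` is an epimorphism
  have hepi : Epi ((AlgSp.yon S).map p) := by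
    apply Groth.Agent.H50.epi_of_local_lift
    intro T' y
    obtain ⟨y₀, rfl⟩ := (AlgSp.yon S).map_surjective y
    let Sg : Sieve T' :=
      { arrows := fun T'' f => ∃ z : T'' ⟶ Z, z ≫ p = f ≫ y₀
        downward_closed := by
          rintro A B f ⟨z, hz⟩ g
          exact ⟨g ≫ z, by rw [Category.assoc, hz, Category.assoc]⟩ }
    have hsq := (IsPullback.of_hasPullback p y₀).map (Over.forget S)
    simp only [Over.forget_obj, Over.forget_map] at hsq
    refine ⟨Sg, ?_, ?_⟩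
    · refine Groth.Agent.H50.mem_J_of_fppf_family (A := PUnit.{1}) (fun _ => pullback p y₀)
        (fun _ => pullback.snd p y₀) ?_ ?_ ?_ Sg (fun _ => ⟨pullback.fst p y₀, pullback.condition⟩)
      · intro τ
        have : Surjective (pullback.snd p y₀).left :=
          MorphismProperty.of_isPullback (P := @Surjective) hsq inferInstance
        obtain ⟨y, hy⟩ := (pullback.snd p y₀).left.surjective τ
        exact ⟨PUnit.unit.{1}, y, hy⟩
      · intro _
        exact MorphismProperty.of_isPullback (P := @Flat) hsq inferInstance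
      · intro _
        exact MorphismProperty.of_isPullback (P := @LocallyOfFinitePresentation) hsq inferInstance
    · rintro T'' f ⟨z, hz⟩
      exact ⟨(AlgSp.yon S).map z, by rw [← Functor.map_comp, hz, Functor.map_comp]⟩
  have heff := Groth.Agent.H50.effectiveEpi_of_epi ((AlgSp.yon S).map p)
  obtain ⟨qm, hqm⟩ : ∃ qm : (AlgSp.yon S).obj U ⟶ QuotSh.quot Scheme.fppfPrecoverage s t,
      qm = Groth.Agent.H51.QuotKer.qmap s t := ⟨_, rfl⟩
  have hqmw : (AlgSp.yon S).map s ≫ qm = (AlgSp.yon S).map t ≫ qm := by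
    rw [hqm]; exact Groth.Agent.H51.QuotKer.qmap_w s t
  have hdesc : ∀ {W : AlgSp.Sp S} (g₁ g₂ : W ⟶ (AlgSp.yon S).obj Z),
      g₁ ≫ (AlgSp.yon S).map p = g₂ ≫ (AlgSp.yon S).map p →
      g₁ ≫ (AlgSp.yon S).map c ≫ qm = g₂ ≫ (AlgSp.yon S).map c ≫ qm := by
    intro W g₁ g₂ hg
    have key : ∀ (T' : Over S) (x : (AlgSp.yon S).obj T' ⟶ W),
        x ≫ g₁ ≫ (AlgSp.yon S).map c ≫ qm = x ≫ g₂ ≫ (AlgSp.yon S).map c ≫ qm := ?_
    · exact (AlgSp.J S).hom_ext_uliftYoneda (fun T' x => key T' x)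
    intro T' x
    obtain ⟨z₁, hz₁⟩ := (AlgSp.yon S).map_surjective (x ≫ g₁)
    obtain ⟨z₂, hz₂⟩ := (AlgSp.yon S).map_surjective (x ≫ g₂)
    have hz : z₁ ≫ p = z₂ ≫ p := by
      apply (AlgSp.yon S).map_injective
      rw [Functor.map_comp, Functor.map_comp, hz₁, hz₂, Category.assoc, Category.assoc, hg]
    obtain ⟨r, hr1, hr2⟩ := hZZ' T' z₁ z₂ hz
    rw [← Category.assoc, ← Category.assoc x, ← hz₁, ← hz₂, ← Category.assoc, ← Category.assoc,
      ← Functor.map_comp, ← Functor.map_comp, ← hr1, ← hr2, Functor.map_comp, Functor.map_comp,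
      Category.assoc, Category.assoc, hqmw]
  have hnatc := Groth.Agent.H51.QuotKer.repIso_naturality (S := S) c
  have hnatp := Groth.Agent.H51.QuotKer.repIso_naturality (S := S) p
  have hL : QuotSh.repMap Scheme.fppfPrecoverage c ≫ QuotSh.quotπ Scheme.fppfPrecoverage s t =
      (QuotSh.repIsoUliftYoneda Scheme.fppfPrecoverage Z).hom ≫ (AlgSp.yon S).map c ≫ qm := by
    rw [hqm, ← Category.assoc, ← hnatc, Category.assoc, Iso.hom_inv_id_assoc]
  have hR : ∀ σ : QuotSh.rep Scheme.fppfPrecoverage T ⟶ QuotSh.quot Scheme.fppfPrecoverage s t,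
      QuotSh.repMap Scheme.fppfPrecoverage p ≫ σ =
        (QuotSh.repIsoUliftYoneda Scheme.fppfPrecoverage Z).hom ≫ (AlgSp.yon S).map p ≫
          (QuotSh.repIsoUliftYoneda Scheme.fppfPrecoverage T).inv ≫ σ := by
    intro σ
    rw [← Category.assoc, ← hnatp, Category.assoc, Iso.hom_inv_id_assoc]
  refine ⟨(QuotSh.repIsoUliftYoneda Scheme.fppfPrecoverage T).hom ≫
    EffectiveEpi.desc ((AlgSp.yon S).map p) ((AlgSp.yon S).map c ≫ qm) hdesc, ?_, ?_⟩
  · change _ = _
    rw [hL, hR, Iso.inv_hom_id_assoc, EffectiveEpi.fac]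
  · intro σ₂ hσ₂
    change _ = _ at hσ₂
    rw [hL, hR, cancel_epi] at hσ₂
    rw [← cancel_epi (QuotSh.repIsoUliftYoneda Scheme.fppfPrecoverage T).inv, Iso.inv_hom_id_assoc,
      ← cancel_epi ((AlgSp.yon S).map p), EffectiveEpi.fac, hσ₂]

end Groth.Agent.S6041
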