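import Groth.Statements.S6044
import Groth.Agent.H49.IdealDescent
import Groth.Agent.H49.DescFam
import Mathlib.AlgebraicGeometry.Morphisms.ClosedImmersion

set_option autoImplicit false
open CategoryTheory CategoryTheory.Limits AlgebraicGeometry
universe u
open GrpQ

namespace Groth.Agent.S6044

open Desc

theorem lifts_subsingleton {Y : Scheme.{u}} (V : Over Y) [Mono V.hom] {T : Scheme.{u}}
    (x : T ⟶ Y) : Subsingleton (Lifts V x) :=
  ⟨fun a b => Subtype.ext ((cancel_mono V.hom).mp (a.2.trans b.2.symm))⟩

theorem nonempty_lifts_iff_ker_le {Y : Scheme.{u}} (V : Over Y) [IsClosedImmersion V.hom]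
    {T : Scheme.{u}} (x : T ⟶ Y) : Nonempty (Lifts V x) ↔ V.hom.ker ≤ x.ker := by
  constructor
  · rintro ⟨v⟩
    rw [← v.2]
    exact Scheme.Hom.le_ker_comp v.1 V.hom
  · intro h
    exact ⟨⟨IsClosedImmersion.lift V.hom x h, IsClosedImmersion.lift_fac _ _ _⟩⟩

/-- The compatibility of the kernels of a descent datum of closed immersions. -/
theorem compat_ker {S : Scheme.{u}} {ι : Type u} {X : ι → Scheme.{u}}
    (f : ∀ i, X i ⟶ S) (D : Desc.SchDDFam f) (hD : ∀ i, IsClosedImmersion (D.obj i).hom) :
    Groth.Agent.H49.IdealDescent.Compat f (fun i => (D.obj i).hom.ker) := by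
  have key : ∀ i j, (pullback.fst (pullback.snd (f i) (f j)) (D.obj j).hom).ker ≤
      (pullback.fst (pullback.fst (f i) (f j)) (D.obj i).hom).ker := by
    intro i j
    let a := pullback.fst (pullback.fst (f i) (f j)) (D.obj i).hom
    let v : Lifts (D.obj i) (a ≫ pullback.fst (f i) (f j)) :=
      ⟨pullback.snd (pullback.fst (f i) (f j)) (D.obj i).hom, pullback.condition.symm⟩
    have hx : (a ≫ pullback.fst (f i) (f j)) ≫ f i = (a ≫ pullback.snd (f i) (f j)) ≫ f j := by
      rw [Category.assoc, Category.assoc, pullback.condition]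
    let v' := D.φ _ _ hx v
    let s : pullback (pullback.fst (f i) (f j)) (D.obj i).hom ⟶
        pullback (pullback.snd (f i) (f j)) (D.obj j).hom := pullback.lift a v'.1 v'.2.symm
    have hs : s ≫ pullback.fst (pullback.snd (f i) (f j)) (D.obj j).hom = a :=
      pullback.lift_fst _ _ _
    change _ ≤ a.ker
    rw [← hs]
    exact Scheme.Hom.le_ker_comp s _
  have key' : ∀ i j, (pullback.fst (pullback.fst (f i) (f j)) (D.obj i).hom).ker ≤
      (pullback.fst (pullback.snd (f i) (f j)) (D.obj j).hom).ker := by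
    intro i j
    let a := pullback.fst (pullback.snd (f i) (f j)) (D.obj j).hom
    let v : Lifts (D.obj j) (a ≫ pullback.snd (f i) (f j)) :=
      ⟨pullback.snd (pullback.snd (f i) (f j)) (D.obj j).hom, pullback.condition.symm⟩
    have hx : (a ≫ pullback.snd (f i) (f j)) ≫ f j = (a ≫ pullback.fst (f i) (f j)) ≫ f i := by
      rw [Category.assoc, Category.assoc, pullback.condition]
    let v' := D.φ _ _ hx v
    let s : pullback (pullback.snd (f i) (f j)) (D.obj j).hom ⟶
        pullback (pullback.fst (f i) (f j)) (D.obj i).hom := pullback.lift a v'.1 v'.2.symm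
    have hs : s ≫ pullback.fst (pullback.fst (f i) (f j)) (D.obj i).hom = a :=
      pullback.lift_fst _ _ _
    change _ ≤ a.ker
    rw [← hs]
    exact Scheme.Hom.le_ker_comp s _
  intro i j
  have h1 := hD i
  have h2 := hD j
  change (D.obj i).hom.ker.comap _ = (D.obj j).hom.ker.comap _
  rw [← Scheme.IdealSheafData.ker_fst_of_isClosedImmersion,
    ← Scheme.IdealSheafData.ker_fst_of_isClosedImmersion]
  exact le_antisymm (key' i j) (key i j)


/-- Closed immersions descend along the fpqc topology. For an fpqc covering family `f i : X i ⟶ S` of a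
scheme `S`, every descent datum for schemes relative to the family all of whose members `Z i ⟶ X i`
are closed immersions is effective. -/
theorem result {S : Scheme.{u}} {ι : Type u} {X : ι → Scheme.{u}}
    (f : ∀ i, X i ⟶ S) (hf : Presieve.ofArrows X f ∈ Scheme.fpqcPrecoverage S)
    (D : Desc.SchDDFam f) (hD : ∀ i, IsClosedImmersion (D.obj i).hom) :
    D.IsEffective := by
  classical
  obtain ⟨hfin, hfl⟩ := Groth.Agent.H49.IdealDescent.finCov_of_fpqc hf
  obtain ⟨J, hJ, -⟩ := Groth.Agent.H49.IdealDescent.existsUnique_comap_eq hfin hfl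
    (compat_ker f D hD)
  have hci : ∀ i, IsClosedImmersion (((Desc.toDDFam f).obj (Over.mk J.subschemeι)).obj i).hom := by
    intro i
    change IsClosedImmersion (pullback.fst (f i) J.subschemeι)
    infer_instance
  have hker : ∀ i, (((Desc.toDDFam f).obj (Over.mk J.subschemeι)).obj i).hom.ker =
      (D.obj i).hom.ker := fun i => hJ i
  have hiff : ∀ ⦃T : Scheme.{u}⦄ (i : ι) (x : T ⟶ X i),
      Nonempty (Desc.Lifts (((Desc.toDDFam f).obj (Over.mk J.subschemeι)).obj i) x) ↔
        Nonempty (Desc.Lifts (D.obj i) x) := by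
    intro T i x
    have := hci i
    have := hD i
    rw [nonempty_lifts_iff_ker_le, nonempty_lifts_iff_ker_le, hker]
  have hsub1 : ∀ ⦃T : Scheme.{u}⦄ (i : ι) (x : T ⟶ X i),
      Subsingleton (Desc.Lifts (((Desc.toDDFam f).obj (Over.mk J.subschemeι)).obj i) x) := by
    intro T i x
    have := hci i
    exact lifts_subsingleton _ x
  have hsub2 : ∀ ⦃T : Scheme.{u}⦄ (i : ι) (x : T ⟶ X i), Subsingleton (Desc.Lifts (D.obj i) x) := by
    intro T i x
    have := hD i
    exact lifts_subsingleton _ x
  refine ⟨Over.mk J.subschemeι, ⟨Groth.Agent.H49.PtIso.toIso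
    { e := fun T i x =>
        { toFun := fun v => ((hiff i x).mp ⟨v⟩).some
          invFun := fun v => ((hiff i x).mpr ⟨v⟩).some
          left_inv := fun v => (hsub1 i x).elim _ _
          right_inv := fun v => (hsub2 i x).elim _ _ }
      natural := ?_
      compat := ?_ }⟩⟩
  · intro T T' g i x y hy v v' hv'
    have := hD i
    apply (cancel_mono (D.obj i).hom).mp
    rw [Category.assoc]
    have h1 := (((hiff i y).mp ⟨v'⟩).some).2
    have h2 := (((hiff i x).mp ⟨v⟩).some).2
    exact h1.trans (hy.symm.trans (congrArg (g ≫ ·) h2.symm))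
  · intro T i j x₀ x₁ h v
    exact (hsub2 j x₁).elim _ _

end Groth.Agent.S6044
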