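import Groth.Statements.S9839
import Mathlib.AlgebraicGeometry.Sites.Fpqc
import Mathlib.AlgebraicGeometry.Morphisms.Flat
import Groth.Agent.H49.Fppf

set_option autoImplicit false
open CategoryTheory CategoryTheory.Limits AlgebraicGeometry Opposite
universe u
open Desc

namespace Groth.Agent.S9839

theorem isOpen_of_openCover {X : Scheme.{u}} (𝒰 : X.OpenCover) (A : Set X)
    (h : ∀ i, IsOpen ((𝒰.f i) ⁻¹' A)) : IsOpen A := by
  rw [isOpen_iff_forall_mem_open]
  intro x hx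
  obtain ⟨y, hy⟩ := 𝒰.covers x
  refine ⟨(𝒰.f (𝒰.idx x)) '' ((𝒰.f (𝒰.idx x)) ⁻¹' A), Set.image_preimage_subset _ _,
    (𝒰.f _).isOpenEmbedding.isOpenMap _ (h _), ?_⟩
  exact ⟨y, by simpa [hy] using hx, hy⟩

/-- Openness descends along a quasi-compact flat cover. -/
theorem isOpen_of_forall_preimage {T : Scheme.{u}} (E : PreZeroHypercover.{u} T)
    [QuasiCompactCover E] [∀ i, Flat (E.f i)] (S : Set T)
    (hS : ∀ i, IsOpen ((E.f i) ⁻¹' S)) : IsOpen S := by
  rw [isOpen_iff_forall_mem_open]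
  intro x hx
  obtain ⟨_, ⟨(U : T.Opens), (hU : IsAffineOpen U), rfl⟩, hxU, -⟩ :=
    T.isBasis_affineOpens.exists_subset_of_mem_open (Set.mem_univ x) isOpen_univ
  obtain ⟨n, a, V, hV, hUV⟩ :=
    QuasiCompactCover.exists_isAffineOpen_of_isCompact E (U := U) hU.isCompact
  refine ⟨S ∩ U, Set.inter_subset_left, ?_, ⟨hx, hxU⟩⟩
  have e : ∀ k, V k ≤ (E.f (a k)) ⁻¹ᵁ U := by
    intro k y hy
    change E.f (a k) y ∈ (U : Set T)
    rw [← hUV]
    exact Set.mem_iUnion.mpr ⟨k, y, hy, rfl⟩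
  have hVa : ∀ k, IsAffine (V k).toScheme := hV
  have hUa : IsAffine U.toScheme := hU
  let g : (∐ fun k => ((V k).toScheme)) ⟶ U.toScheme :=
    Sigma.desc fun k => (E.f (a k)).resLE U (V k) (e k)
  have hg : ∀ k, Sigma.ι (fun k => ((V k).toScheme)) k ≫ g ≫ U.ι = (V k).ι ≫ E.f (a k) := by
    intro k
    rw [← Category.assoc, Sigma.ι_desc, Scheme.Hom.resLE_comp_ι]
  have hsurj : Surjective g := by
    refine ⟨fun y => ?_⟩
    have hy : y.1 ∈ ⋃ i, E.f (a i) '' (V i) := by rw [hUV]; exact y.2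
    obtain ⟨k, z, hz, hzy⟩ := Set.mem_iUnion.mp hy
    refine ⟨Sigma.ι (fun k => ((V k).toScheme)) k ⟨z, hz⟩, ?_⟩
    apply U.ι.isOpenEmbedding.injective
    rw [← Scheme.Hom.comp_apply, ← Scheme.Hom.comp_apply, hg k, Scheme.Hom.comp_apply]
    exact hzy
  have hq := Flat.isQuotientMap_of_surjective g
  have hSU : S ∩ U = U.ι '' (U.ι ⁻¹' S) := by
    rw [Set.image_preimage_eq_inter_range, Scheme.Opens.range_ι]
  rw [hSU]
  apply U.ι.isOpenEmbedding.isOpenMap
  rw [← hq.isOpen_preimage]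
  refine isOpen_of_openCover (sigmaOpenCover _) _ fun k => ?_
  have : (sigmaOpenCover fun k => ((V k).toScheme)).f k ⁻¹' (g ⁻¹' (U.ι ⁻¹' S)) =
      (V k).ι ⁻¹' (E.f (a k) ⁻¹' S) := by
    ext z
    simp only [Set.mem_preimage]
    rw [← Scheme.Hom.comp_apply, ← Scheme.Hom.comp_apply]
    change (Sigma.ι (fun k => ((V k).toScheme)) k ≫ g ≫ U.ι) z ∈ S ↔ _
    rw [hg k, Scheme.Hom.comp_apply]
    exact Iff.rfl
  rw [this]
  exact (hS _).preimage (V k).ι.continuous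


/-- Let f i : T i ⟶ T be an fpqc covering family of a scheme T (a family in the fpqc precoverage) and W
i ⊆ T i open subsets such that for all i, j the inverse images of W i and W j under the two
projections of T i ×_T T j coincide. Then there is a unique open subset W ⊆ T with (f i)⁻¹(W) = W i
for every i. -/
theorem result {ι : Type u} {T : Scheme.{u}} {Ti : ι → Scheme.{u}}
    (f : ∀ i, Ti i ⟶ T) (hf : Presieve.ofArrows Ti f ∈ Scheme.fpqcPrecoverage T)
    (W : ∀ i, (Ti i).Opens)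
    (hW : ∀ i j, (pullback.fst (f i) (f j)) ⁻¹ᵁ (W i) = (pullback.snd (f i) (f j)) ⁻¹ᵁ (W j)) :
    ∃! V : T.Opens, ∀ i, (f i) ⁻¹ᵁ V = W i := by
  have hqc : Presieve.ofArrows Ti f ∈ Scheme.qcPrecoverage T := hf.1
  have hfl : Presieve.ofArrows Ti f ∈ Scheme.precoverage @Flat T := hf.2
  rw [Groth.Agent.H49.mem_precoverage_iff] at hfl
  have hflat : ∀ i, Flat (f i) := fun i => hfl.2 (Presieve.ofArrows.mk i)
  have hsurj : ∀ x : T, ∃ i y, f i y = x := by
    intro x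
    obtain ⟨Y, g, hg, y, hy⟩ := hfl.1 x
    obtain ⟨i⟩ := hg
    exact ⟨i, y, hy⟩
  let E : PreZeroHypercover.{u} T := ⟨ι, Ti, f⟩
  have hE : QuasiCompactCover E := Scheme.presieve₀_mem_qcPrecoverage_iff.mp hqc
  have hEf : ∀ i, Flat (E.f i) := hflat
  have key : ∀ i, (f i) ⁻¹' (⋃ j, f j '' (W j : Set (Ti j))) = (W i : Set (Ti i)) := by
    intro i
    ext y
    simp only [Set.mem_preimage, Set.mem_iUnion, Set.mem_image]
    constructor
    · rintro ⟨j, z, hz, hzy⟩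
      obtain ⟨w, hw1, hw2⟩ := Scheme.Pullback.exists_preimage_pullback y z hzy.symm
      have h1 : w ∈ (pullback.snd (f i) (f j)) ⁻¹ᵁ (W j) := by
        change pullback.snd (f i) (f j) w ∈ W j
        rw [hw2]; exact hz
      rw [← hW i j] at h1
      have h2 : pullback.fst (f i) (f j) w ∈ W i := h1
      rwa [hw1] at h2
    · intro hy
      exact ⟨i, y, hy, rfl⟩
  have hopen : IsOpen (⋃ j, f j '' (W j : Set (Ti j))) := by
    refine isOpen_of_forall_preimage E _ fun i => ?_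
    change IsOpen ((f i) ⁻¹' _)
    rw [key i]
    exact (W i).2
  refine ⟨⟨_, hopen⟩, fun i => ?_, fun V' hV' => ?_⟩
  · ext y
    change y ∈ (f i) ⁻¹' (⋃ j, f j '' (W j : Set (Ti j))) ↔ y ∈ (W i : Set (Ti i))
    rw [key i]
  · ext x
    obtain ⟨i, y, rfl⟩ := hsurj x
    change f i y ∈ V' ↔ y ∈ (f i) ⁻¹' (⋃ j, f j '' (W j : Set (Ti j)))
    rw [key i]
    have : y ∈ (f i) ⁻¹ᵁ V' ↔ y ∈ W i := by rw [hV' i]
    exact this

end Groth.Agent.S9839
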