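import Groth.Statements.S6045
import Groth.Agent.S9839
import Groth.Agent.H49.DescFam

set_option autoImplicit false
open CategoryTheory CategoryTheory.Limits AlgebraicGeometry
universe u
open GrpQ

namespace Groth.Agent.S6045

open Desc

theorem lifts_subsingleton {Y : Scheme.{u}} (V : Over Y) [Mono V.hom] {T : Scheme.{u}}
    (x : T ⟶ Y) : Subsingleton (Lifts V x) :=
  ⟨fun a b => Subtype.ext ((cancel_mono V.hom).mp (a.2.trans b.2.symm))⟩

theorem nonempty_lifts_iff {Y : Scheme.{u}} (V : Over Y) [IsOpenImmersion V.hom] {T : Scheme.{u}}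
    (x : T ⟶ Y) : Nonempty (Lifts V x) ↔ Set.range x.base ⊆ (V.hom.opensRange : Set Y) := by
  constructor
  · rintro ⟨v⟩ _ ⟨t, rfl⟩
    refine ⟨v.1.base t, ?_⟩
    rw [← Scheme.Hom.comp_apply, v.2]
  · intro h
    exact ⟨⟨IsOpenImmersion.lift V.hom x h, IsOpenImmersion.lift_fac _ _ _⟩⟩

theorem nonempty_lifts_pullback_iff {S X : Scheme.{u}} (f : X ⟶ S) (V : S.Opens) {T : Scheme.{u}}
    (x : T ⟶ X) : Nonempty (Lifts (Over.mk (pullback.fst f V.ι)) x) ↔
      Set.range x.base ⊆ ((f ⁻¹ᵁ V : X.Opens) : Set X) := by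
  constructor
  · rintro ⟨v⟩ _ ⟨t, rfl⟩
    have hv : v.1 ≫ pullback.fst f V.ι = x := v.2
    change f.base (x.base t) ∈ V
    rw [← hv, ← Scheme.Hom.comp_apply, Category.assoc, pullback.condition, ← Category.assoc,
      Scheme.Hom.comp_apply]
    exact ((v.1 ≫ pullback.snd f V.ι).base t).2
  · intro h
    have h' : Set.range (x ≫ f).base ⊆ Set.range V.ι.base := by
      rintro _ ⟨t, rfl⟩
      rw [Scheme.Opens.range_ι]
      exact h ⟨t, rfl⟩
    exact ⟨⟨pullback.lift x (IsOpenImmersion.lift V.ι (x ≫ f) h')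
      (IsOpenImmersion.lift_fac _ _ _).symm, pullback.lift_fst _ _ _⟩⟩


/-- Open immersions descend along the fpqc topology. For an fpqc covering family `f i : X i ⟶ S` of a
scheme `S`, every descent datum for schemes relative to the family all of whose members `Z i ⟶ X i`
are open immersions is effective. -/
theorem result {S : Scheme.{u}} {ι : Type u} {X : ι → Scheme.{u}}
    (f : ∀ i, X i ⟶ S) (hf : Presieve.ofArrows X f ∈ Scheme.fpqcPrecoverage S)
    (D : Desc.SchDDFam f) (hD : ∀ i, IsOpenImmersion (D.obj i).hom) :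
    D.IsEffective := by
  classical
  have hmono : ∀ i, Mono (D.obj i).hom := fun i => inferInstance
  let W : ∀ i, (X i).Opens := fun i => (D.obj i).hom.opensRange
  have hlift : ∀ ⦃T : Scheme.{u}⦄ (i : ι) (x : T ⟶ X i),
      Nonempty (Desc.Lifts (D.obj i) x) ↔ Set.range x.base ⊆ (W i : Set (X i)) :=
    fun T i x => nonempty_lifts_iff (D.obj i) x
  have hW1 : ∀ i j, (pullback.fst (f i) (f j)) ⁻¹ᵁ (W i) ≤ (pullback.snd (f i) (f j)) ⁻¹ᵁ (W j) := by
    intro i j t ht
    let O : (pullback (f i) (f j)).Opens := (pullback.fst (f i) (f j)) ⁻¹ᵁ (W i)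
    have h0 : Set.range (O.ι ≫ pullback.fst (f i) (f j)).base ⊆ (W i : Set (X i)) := by
      rintro _ ⟨s, rfl⟩
      exact s.2
    obtain ⟨v₀⟩ := (hlift i _).mpr h0
    have hx : (O.ι ≫ pullback.fst (f i) (f j)) ≫ f i = (O.ι ≫ pullback.snd (f i) (f j)) ≫ f j := by
      rw [Category.assoc, Category.assoc, pullback.condition]
    have h1 := (hlift j _).mp ⟨D.φ _ _ hx v₀⟩
    exact h1 ⟨⟨t, ht⟩, rfl⟩
  have hW2 : ∀ i j, (pullback.snd (f i) (f j)) ⁻¹ᵁ (W j) ≤ (pullback.fst (f i) (f j)) ⁻¹ᵁ (W i) := by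
    intro i j t ht
    let O : (pullback (f i) (f j)).Opens := (pullback.snd (f i) (f j)) ⁻¹ᵁ (W j)
    have h0 : Set.range (O.ι ≫ pullback.snd (f i) (f j)).base ⊆ (W j : Set (X j)) := by
      rintro _ ⟨s, rfl⟩
      exact s.2
    obtain ⟨v₀⟩ := (hlift j _).mpr h0
    have hx : (O.ι ≫ pullback.snd (f i) (f j)) ≫ f j = (O.ι ≫ pullback.fst (f i) (f j)) ≫ f i := by
      rw [Category.assoc, Category.assoc, pullback.condition]
    have h1 := (hlift i _).mp ⟨D.φ _ _ hx v₀⟩
    exact h1 ⟨⟨t, ht⟩, rfl⟩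
  obtain ⟨V, hV, -⟩ := Groth.Agent.S9839.result f hf W (fun i j => le_antisymm (hW1 i j) (hW2 i j))
  have hiff : ∀ ⦃T : Scheme.{u}⦄ (i : ι) (x : T ⟶ X i),
      Nonempty (Desc.Lifts (((Desc.toDDFam f).obj (Over.mk V.ι)).obj i) x) ↔
        Nonempty (Desc.Lifts (D.obj i) x) := by
    intro T i x
    rw [hlift i x, ← hV i]
    exact nonempty_lifts_pullback_iff (f i) V x
  have hsub1 : ∀ ⦃T : Scheme.{u}⦄ (i : ι) (x : T ⟶ X i),
      Subsingleton (Desc.Lifts (((Desc.toDDFam f).obj (Over.mk V.ι)).obj i) x) := by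
    intro T i x
    have : Mono (((Desc.toDDFam f).obj (Over.mk V.ι)).obj i).hom := by
      change Mono (pullback.fst (f i) V.ι)
      infer_instance
    exact lifts_subsingleton _ x
  have hsub2 : ∀ ⦃T : Scheme.{u}⦄ (i : ι) (x : T ⟶ X i), Subsingleton (Desc.Lifts (D.obj i) x) :=
    fun T i x => lifts_subsingleton _ x
  refine ⟨Over.mk V.ι, ⟨Groth.Agent.H49.PtIso.toIso
    { e := fun T i x =>
        { toFun := fun v => ((hiff i x).mp ⟨v⟩).some
          invFun := fun v => ((hiff i x).mpr ⟨v⟩).some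
          left_inv := fun v => (hsub1 i x).elim _ _
          right_inv := fun v => (hsub2 i x).elim _ _ }
      natural := ?_
      compat := ?_ }⟩⟩
  · intro T T' g i x y hy v v' hv'
    apply (cancel_mono (D.obj i).hom).mp
    rw [Category.assoc]
    have h1 := (((hiff i y).mp ⟨v'⟩).some).2
    have h2 := (((hiff i x).mp ⟨v⟩).some).2
    exact h1.trans (hy.symm.trans (congrArg (g ≫ ·) h2.symm))
  · intro T i j x₀ x₁ h v
    exact (hsub2 j x₁).elim _ _

end Groth.Agent.S6045
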