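import Groth.Statements.S6056
import Groth.Agent.H51.ThirdIso

set_option autoImplicit false
open CategoryTheory CategoryTheory.Limits AlgebraicGeometry MonoidalCategory
universe u
open RedSub

namespace Groth.Agent.S6056

open MonObj CartesianMonoidalCategory SemiCartesianMonoidalCategory in
/-- For group schemes and fppf quotients: let `K ⊆ G` be a subgroup scheme and `H ⊆ K` a subgroup scheme
normal in `K`; suppose `G/H` is represented by `q_H : G ⟶ Q_H` and `K/H` by a homomorphism `K ⟶ K'`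
of group schemes, and let `act : Q_H ×_S K' ⟶ Q_H` be the right action induced by the multiplication
of `G`. Then: (i) if `G/K` is represented by `q_K : G ⟶ Q_K`, the map `Q_H ⟶ Q_K` under `G` is an
fppf covering whose kernel pair is `Q_H ×_S K' ⇉ Q_H` (projection, action), i.e. `Q_K =
(G/H)/(K/H)`; (ii) conversely, if `p : Q_H ⟶ Y` is an fppf covering with that kernel pair, then `q_H
≫ p` represents `G/K`. -/
theorem result {S : Scheme.{u}} {H K G QH Kb : Over S}
    [hH : GrpObj H] [hK : GrpObj K] [hG : GrpObj G] [hKb : GrpObj Kb]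
    (h : H ⟶ K) (k : K ⟶ G) [Mono h] [Mono k] [IsMonHom h] [IsMonHom k]
    (hn : AlgGrp.IsNormalHom h)
    (qH : G ⟶ QH) (hqH : RedSub.IsQuotient (h ≫ k) qH)
    (qKb : K ⟶ Kb) [IsMonHom qKb] (hqKb : RedSub.IsQuotient h qKb)
    (act : QH ⊗ Kb ⟶ QH) (hact : (qH ⊗ₘ qKb) ≫ act = (G ◁ k) ≫ μ[G] ≫ qH) :
    (∀ (QK : Over S) (qK : G ⟶ QK), RedSub.IsQuotient k qK →
      ∀ qbar : QH ⟶ QK, qH ≫ qbar = qK →
        Surjective qbar.left ∧ Flat qbar.left ∧ LocallyOfFinitePresentation qbar.left ∧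
          IsPullback (fst QH Kb) act qbar qbar) ∧
    (∀ (Y : Over S) (p : QH ⟶ Y),
      Surjective p.left → Flat p.left → LocallyOfFinitePresentation p.left →
      IsPullback (fst QH Kb) act p p → RedSub.IsQuotient k (qH ≫ p)) := by
  obtain ⟨hH1, hH2, hH3, pbH⟩ := hqH
  obtain ⟨hK1, hK2, hK3, pbKb⟩ := hqKb
  have fH : Groth.Agent.H30.ShQuot.IsFppf qH := ⟨hH1, hH2, hH3⟩
  have fKb : Groth.Agent.H30.ShQuot.IsFppf qKb := ⟨hK1, hK2, hK3⟩
  refine ⟨fun QK qK hqK qbar hq => ?_, fun Y p hp1 hp2 hp3 pbp => ?_⟩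
  · obtain ⟨hQ1, hQ2, hQ3, pbK⟩ := hqK
    have hc : qH.left ≫ qbar.left = qK.left := by rw [← Over.comp_left, hq]
    have hs : Surjective qbar.left := by
      have : Surjective (qH.left ≫ qbar.left) := by rw [hc]; exact hQ1
      exact Surjective.of_comp qH.left qbar.left
    have hf : Flat qbar.left :=
      Groth.Agent.H52.flat_of_comp_of_flat_of_surjective qH.left qbar.left (by rw [hc]; exact hQ2)
    have hl : LocallyOfFinitePresentation qbar.left := by
      have : LocallyOfFinitePresentation (qH.left ≫ qbar.left) := by rw [hc]; exact hQ3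
      exact Groth.Agent.H48.FppfSource.locallyOfFinitePresentation_of_comp_fppf qH.left qbar.left
    exact ⟨hs, hf, hl, Groth.Agent.H51.ThirdIso.isPullback_of_quot h k qH fH pbH qKb fKb pbKb act
      hact qK pbK qbar hq⟩
  · have hp : Groth.Agent.H30.ShQuot.IsFppf p := ⟨hp1, hp2, hp3⟩
    obtain ⟨h1, h2, h3⟩ := fH.comp hp
    exact ⟨h1, h2, h3, Groth.Agent.H51.ThirdIso.isPullback_comp h k qH fH pbH qKb fKb act hact p pbp⟩

end Groth.Agent.S6056
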