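import Groth.Statements.S6057
import Mathlib.CategoryTheory.Sites.Over
import Mathlib.CategoryTheory.Sites.SheafOfTypes

set_option autoImplicit false
open CategoryTheory
universe v₁ u₁
open ShfCat

namespace Groth.Agent.S6057

open Opposite in
theorem sep_rel_of_sep {C : Type u₁} [Category.{v₁} C] (J : GrothendieckTopology C)
    {S : C} {F : Cᵒᵖ ⥤ Type v₁} (φ : F ⟶ yoneda.obj S) (hF : Presieve.IsSeparated J F) :
    Presieve.IsSeparated (J.over S) (ShfCat.relPsh φ) := by
  intro T R hR x t₁ t₂ h₁ h₂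
  apply Subtype.ext
  refine (hF (Sieve.overEquiv T R) hR).ext ?_
  intro Y f hf
  have hf' := (Sieve.overEquiv_iff _ _).1 hf
  have e₁ := congrArg Subtype.val (h₁ _ hf')
  have e₂ := congrArg Subtype.val (h₂ _ hf')
  rw [relPsh_map_val] at e₁ e₂
  exact e₁.trans e₂.symm

open Opposite in
theorem phi_eq_of_agree {C : Type u₁} [Category.{v₁} C] (J : GrothendieckTopology C)
    {S : C} (hS : Presieve.IsSheaf J (yoneda.obj S)) {F : Cᵒᵖ ⥤ Type v₁} (φ : F ⟶ yoneda.obj S)
    {T : C} (R : Sieve T) (hR : R ∈ J T) (t₁ t₂ : F.obj (op T))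
    (h : ∀ ⦃Y⦄ ⦃f : Y ⟶ T⦄, R f → F.map f.op t₁ = F.map f.op t₂) :
    φ.app (op T) t₁ = φ.app (op T) t₂ := by
  refine (hS.isSeparated R hR).ext ?_
  intro Y f hf
  rw [← NatTrans.naturality_apply, ← NatTrans.naturality_apply, h hf]

open Opposite in
theorem sep_of_sep_rel {C : Type u₁} [Category.{v₁} C] (J : GrothendieckTopology C)
    {S : C} (hS : Presieve.IsSheaf J (yoneda.obj S)) {F : Cᵒᵖ ⥤ Type v₁} (φ : F ⟶ yoneda.obj S)
    (hrel : Presieve.IsSeparated (J.over S) (ShfCat.relPsh φ)) :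
    Presieve.IsSeparated J F := by
  intro T R hR x t₁ t₂ h₁ h₂
  have hagree : ∀ ⦃Y⦄ ⦃f : Y ⟶ T⦄, R f → F.map f.op t₁ = F.map f.op t₂ :=
    fun Y f hf => (h₁ f hf).trans (h₂ f hf).symm
  have hφ := phi_eq_of_agree J hS φ R hR t₁ t₂ hagree
  let T' : Over S := Over.mk (φ.app (op T) t₁)
  let t₁' : (relPsh φ).obj (op T') := ⟨t₁, rfl⟩
  let t₂' : (relPsh φ).obj (op T') := ⟨t₂, hφ.symm⟩
  have hR' := J.overEquiv_symm_mem_over T' R hR
  have key : t₁' = t₂' := by
    refine (hrel _ hR').ext ?_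
    intro Z g hg
    apply Subtype.ext
    rw [relPsh_map_val, relPsh_map_val]
    exact hagree hg
  exact congrArg Subtype.val key

open Opposite in
theorem sheaf_rel_of_sheaf {C : Type u₁} [Category.{v₁} C] (J : GrothendieckTopology C)
    {S : C} (hS : Presieve.IsSheaf J (yoneda.obj S)) {F : Cᵒᵖ ⥤ Type v₁} (φ : F ⟶ yoneda.obj S)
    (hF : Presieve.IsSheaf J F) : Presieve.IsSheaf (J.over S) (ShfCat.relPsh φ) := by
  refine (sep_rel_of_sep J φ hF.isSeparated).isSheaf ?_
  intro T R hR x hx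
  -- the family of `F` on the corresponding sieve of `T.left`
  let y : Presieve.FamilyOfElements F (Sieve.overEquiv T R).arrows := fun Y f hf =>
    (x (Over.homMk f : Over.mk (f ≫ T.hom) ⟶ T) ((Sieve.overEquiv_iff _ _).1 hf)).1
  have hy : y.Compatible := by
    intro Y₁ Y₂ Z g₁ g₂ f₁ f₂ h₁ h₂ comm
    let G₁ : Over.mk (g₁ ≫ f₁ ≫ T.hom) ⟶ Over.mk (f₁ ≫ T.hom) := Over.homMk g₁
    let G₂ : Over.mk (g₁ ≫ f₁ ≫ T.hom) ⟶ Over.mk (f₂ ≫ T.hom) :=
      Over.homMk g₂ (by simp [reassoc_of% comm])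
    have hG : G₁ ≫ (Over.homMk f₁ : Over.mk (f₁ ≫ T.hom) ⟶ T) =
        G₂ ≫ (Over.homMk f₂ : Over.mk (f₂ ≫ T.hom) ⟶ T) := by
      ext
      simpa [G₁, G₂] using comm
    have := congrArg Subtype.val (hx G₁ G₂ ((Sieve.overEquiv_iff _ _).1 h₁)
      ((Sieve.overEquiv_iff _ _).1 h₂) hG)
    rw [relPsh_map_val, relPsh_map_val] at this
    exact this
  let t := (hF _ hR).amalgamate y hy
  have ht : y.IsAmalgamation t := (hF _ hR).isAmalgamation hy
  have htφ : φ.app (op T.left) t = T.hom := by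
    refine (hS.isSeparated _ hR).ext ?_
    intro Y f hf
    rw [← NatTrans.naturality_apply, ht f hf]
    exact (x (Over.homMk f : Over.mk (f ≫ T.hom) ⟶ T) ((Sieve.overEquiv_iff _ _).1 hf)).2
  refine ⟨⟨t, htφ⟩, ?_⟩
  intro Z g hg
  apply Subtype.ext
  rw [relPsh_map_val]
  have hgl : Sieve.overEquiv T R g.left := by
    rw [Sieve.overEquiv_iff]
    have : (Over.homMk g.left : Over.mk (g.left ≫ T.hom) ⟶ T) =
        (Over.isoMk (Iso.refl _) (by simp) : Over.mk (g.left ≫ T.hom) ≅ Z).hom ≫ g := by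
      ext; simp
    rw [this]
    exact R.downward_closed hg _
  have h1 : F.map g.left.op t = y g.left hgl := ht g.left hgl
  change F.map g.left.op t = (x g hg).1
  rw [h1]
  -- compare the two members of the family
  let e : Z ≅ Over.mk (g.left ≫ T.hom) := Over.isoMk (Iso.refl _) (by simp)
  have hcomm : e.hom ≫ (Over.homMk g.left : Over.mk (g.left ≫ T.hom) ⟶ T) = 𝟙 Z ≫ g := by
    ext; simp [e]
  have := congrArg Subtype.val (hx e.hom (𝟙 Z) ((Sieve.overEquiv_iff _ _).1 hgl) hg hcomm)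
  rw [relPsh_map_val, relPsh_map_val] at this
  simpa [e, y] using this

open Opposite in
theorem sheaf_of_sheaf_rel {C : Type u₁} [Category.{v₁} C] (J : GrothendieckTopology C)
    {S : C} (hS : Presieve.IsSheaf J (yoneda.obj S)) {F : Cᵒᵖ ⥤ Type v₁} (φ : F ⟶ yoneda.obj S)
    (hrel : Presieve.IsSheaf (J.over S) (ShfCat.relPsh φ)) : Presieve.IsSheaf J F := by
  refine (sep_of_sep_rel J hS φ hrel.isSeparated).isSheaf ?_
  intro T R hR y hy
  -- amalgamate the images under `φ`
  let z : Presieve.FamilyOfElements (yoneda.obj S) R.arrows := y.map φ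
  have hz : z.Compatible := hy.map φ
  let s : T ⟶ S := (hS _ hR).amalgamate z hz
  have hs : z.IsAmalgamation s := (hS _ hR).isAmalgamation hz
  let T' : Over S := Over.mk s
  have hR' := J.overEquiv_symm_mem_over T' R hR
  let x : Presieve.FamilyOfElements (relPsh φ) ((Sieve.overEquiv T').symm R).arrows :=
    fun Z g hg => ⟨y g.left hg, by
      have h1 : φ.app (op Z.left) (y g.left hg) = (yoneda.obj S).map g.left.op s := (hs g.left hg).symm
      rw [h1]
      have := Over.w g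
      simpa [T'] using this⟩
  have hx : x.Compatible := by
    intro Z₁ Z₂ W G₁ G₂ g₁ g₂ h₁ h₂ comm
    apply Subtype.ext
    rw [relPsh_map_val, relPsh_map_val]
    exact hy G₁.left G₂.left h₁ h₂ (by simpa using congrArg CommaMorphism.left comm)
  let t' := (hrel _ hR').amalgamate x hx
  have ht' : x.IsAmalgamation t' := (hrel _ hR').isAmalgamation hx
  refine ⟨t'.1, ?_⟩
  intro Y f hf
  let g : Over.mk (f ≫ s) ⟶ T' := Over.homMk f
  have := congrArg Subtype.val (ht' g hf)
  rw [relPsh_map_val] at this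
  exact this

/-- Let `S` be an object whose representable presheaf is a sheaf for `J` and `φ : F ⟶ h_S` a morphism of
presheaves of sets. The relative presheaf on `C/S` (sections of `F` over `T` lying over the given `T
⟶ S`) is separated (resp. a sheaf) for the induced topology on `C/S` if and only if `F` is separated
(resp. a sheaf). -/
theorem result {C : Type u₁} [Category.{v₁} C] (J : GrothendieckTopology C)
    {S : C} (hS : Presieve.IsSheaf J (yoneda.obj S)) {F : Cᵒᵖ ⥤ Type v₁} (φ : F ⟶ yoneda.obj S) :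
    (Presieve.IsSeparated (J.over S) (ShfCat.relPsh φ) ↔ Presieve.IsSeparated J F) ∧
    (Presieve.IsSheaf (J.over S) (ShfCat.relPsh φ) ↔ Presieve.IsSheaf J F) := by
  exact ⟨⟨sep_of_sep_rel J hS φ, sep_rel_of_sep J φ⟩, ⟨sheaf_of_sheaf_rel J hS φ, sheaf_rel_of_sheaf J hS φ⟩⟩

end Groth.Agent.S6057
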