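import Groth.Statements.S6062
import Mathlib
import Groth.Agent.H83.KerMultD

set_option autoImplicit false
universe u
open TensorProduct SGA3b
open SGA3b

namespace Groth.Agent.S6062


/-- Let G = Spec A be an R-group of multiplicative type, not necessarily of finite type, H = Spec C an
R-group of multiplicative type and of finite type, u : G ⟶ H a homomorphism given by the bialgebra
map φ : C → A, and J the ideal of the kernel of u (generated by the image under φ of the
augmentation ideal of C), a Hopf ideal (the instance hypothesis holds automatically for this J).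
Then Ker u = Spec (A/J) is of multiplicative type (with locally constant type). (The published
statement also asserts that the quotient of G by Ker u exists, is of multiplicative type and of
finite type and embeds in H, and that the quotient of H by it exists and is of multiplicative type
and of finite type; this row states only that the kernel is of multiplicative type. Affine group
schemes over an affine base are taken in Hopf-algebra form; base change is the tensor product.) -/
theorem result (R : Type u) [CommRing R] (A : Type u) [CommRing A] [HopfAlgebra R A] (hA : IsMultType R A)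
    (C : Type u) [CommRing C] [HopfAlgebra R C] (hC : IsMultType R C) (hCft : Algebra.FiniteType R C) (φ : C →ₐc[R] A)
    (J : Ideal A) [J.IsHopfIdeal R] (hJ : J = Ideal.map φ (RingHom.ker (Bialgebra.counitAlgHom R C))) :
    IsMultType R (A ⧸ J) := by
  classical
  obtain ⟨sA, hsA, hA'⟩ := hA
  obtain ⟨sC, hsC, hC'⟩ := hC
  refine ⟨{g | IsMultTypeConst (Localization.Away g) (Localization.Away g ⊗[R] (A ⧸ J))}, ?_,
    fun g hg => hg⟩
  by_contra hne
  obtain ⟨𝔪, h𝔪, hle⟩ := Ideal.exists_le_maximal _ hne
  have h𝔭 : 𝔪.IsPrime := h𝔪.isPrime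
  have h1 : ∃ f ∈ sA, f ∉ 𝔪 := by
    by_contra hcon
    push Not at hcon
    have h2 : Ideal.span sA ≤ 𝔪 := Ideal.span_le.2 hcon
    rw [hsA] at h2
    exact h𝔪.ne_top (top_le_iff.1 h2)
  have h2 : ∃ f ∈ sC, f ∉ 𝔪 := by
    by_contra hcon
    push Not at hcon
    have h2 : Ideal.span sC ≤ 𝔪 := Ideal.span_le.2 hcon
    rw [hsC] at h2
    exact h𝔪.ne_top (top_le_iff.1 h2)
  obtain ⟨f, hfA, hf⟩ := h1
  obtain ⟨f', hfC, hf'⟩ := h2
  have hff' : f * f' ∉ 𝔪 := fun h => (h𝔭.mem_or_mem h).elim hf hf'
  have hunit : IsUnit (algebraMap R (Localization.Away (f * f')) (f * f')) :=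
    IsLocalization.Away.algebraMap_isUnit _
  rw [map_mul] at hunit
  have hTA : Groth.Agent.H83.KerMult.TrivOver R A (Localization.Away (f * f')) :=
    (Groth.Agent.H83.KerMult.trivOver_of_const _ (hA' f hfA)).of_isUnit f _
      (isUnit_of_mul_isUnit_left hunit)
  have hTC : Groth.Agent.H83.KerMult.TrivOver R C (Localization.Away (f * f')) :=
    (Groth.Agent.H83.KerMult.trivOver_of_const _ (hC' f' hfC)).of_isUnit f' _
      (isUnit_of_mul_isUnit_right hunit)
  obtain ⟨K, _, _, _, _, hff, M, P, _, _, ⟨t⟩⟩ := Groth.Agent.H83.KerMult.exists_triv hTA hTC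
  obtain ⟨g, hg𝔪, hg⟩ := Groth.Agent.H83.KerMult.main φ hCft J hJ (f * f') 𝔪 hff' K hff t
  exact hg𝔪 (hle (Ideal.subset_span hg))

end Groth.Agent.S6062
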