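import Groth.Statements.S6063
import Groth.Agent.H9.SD_ALG
import Groth.Agent.H58.SD_A
import Groth.Agent.H58.SD_C2
import Groth.Agent.H9.SD_C1

set_option autoImplicit false
universe u
open CategoryTheory AlgebraicGeometry
open TensorProduct
open SGA3x

namespace Groth.Agent.S6063

/-- Flatness of the coordinate rings of affine opens of a flat `Spec A`-scheme. -/
theorem flat_appLE_top {Z : Scheme.{u}} (A : CommRingCat.{u}) (r : Z ⟶ Spec A) [Flat r]
    (W : Z.Opens) (hW : IsAffineOpen W) :
    ((Scheme.ΓSpecIso A).inv ≫ r.appLE ⊤ W le_top).hom.Flat := by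
  have h1 : (r.appLE ⊤ W le_top).hom.Flat :=
    HasRingHomProperty.appLE (P := @Flat) r inferInstance ⟨⊤, isAffineOpen_top _⟩ ⟨W, hW⟩ le_top
  rw [CommRingCat.hom_comp]
  exact RingHom.Flat.comp
    (RingHom.Flat.of_bijective (ConcreteCategory.bijective_of_isIso (Scheme.ΓSpecIso A).inv)) h1


open CategoryTheory.Limits in
/-- Over an affine base with free successive quotients. Let A be a ring, J a nilpotent ideal of A such
that every quotient J^k/J^(k+1) is a free (A/J)-module, p : X ⟶ Spec A a flat morphism and (v_i :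
Z_i ⟶ X) a family of subschemes of X (immersions) with every Z_i flat over Spec A. If the family of
reductions Z_i ×_A (A/J) ⟶ X ×_A (A/J) is schematically dense, i.e. a section of the structure sheaf
of X ×_A (A/J) over an open subset whose pullback to every member vanishes is zero, then the family
(v_i) is schematically dense in X in the same sense. (The published statement has an arbitrary base
S and a nilpotent quasi-coherent ideal of the structure sheaf whose successive quotients are locally
free modulo the ideal; the assertion is local on S and on X, and this row is the case of an affine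
base with free successive quotients.) -/
theorem result {X : Scheme.{u}} (A : CommRingCat.{u}) (p : X ⟶ Spec A) [Flat p]
    (J : Ideal ↑A) (hJ : IsNilpotent J) (hfree : ∀ k : ℕ, Module.Free (↑A ⧸ J) ((↑A ⧸ J) ⊗[↑A] ↥(J ^ k)))
    {ι : Type u} (Z : ι → Scheme.{u}) (v : ∀ i, Z i ⟶ X) [∀ i, IsImmersion (v i)] [∀ i, Flat (v i ≫ p)]
    (h0 : ∀ (V : (pullback p (Spec.map (CommRingCat.ofHom (Ideal.Quotient.mk J)))).Opens) (t : Γ(pullback p (Spec.map (CommRingCat.ofHom (Ideal.Quotient.mk J))), V)),
      (∀ i, (pullback.map (v i ≫ p) (Spec.map (CommRingCat.ofHom (Ideal.Quotient.mk J))) p (Spec.map (CommRingCat.ofHom (Ideal.Quotient.mk J))) (v i) (𝟙 _) (𝟙 _)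
        (Category.comp_id _) ((Category.comp_id _).trans (Category.id_comp _).symm)).app V t = 0) → t = 0) :
    ∀ (V : X.Opens) (t : Γ(X, V)), (∀ i, (v i).app V t = 0) → t = 0 := by
  apply Groth.Agent.H58.SD_A.eq_zero_of_affine Z v
  intro V hV t ht
  refine Groth.Agent.H9.SD_ALG.alg_dense (↑A) J hJ hfree Γ(X, V)
    ((Scheme.ΓSpecIso A).inv ≫ p.appLE ⊤ V le_top).hom
    (α := Σ i : ι, {W : (Z i).Opens // IsAffineOpen W ∧ W ≤ v i ⁻¹ᵁ V})
    (fun a => Γ(Z a.1, a.2.1))
    (fun a => ((Scheme.ΓSpecIso A).inv ≫ (v a.1 ≫ p).appLE ⊤ a.2.1 le_top).hom)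
    (fun a => flat_appLE_top A (v a.1 ≫ p) a.2.1 a.2.2.1)
    (fun a => ((v a.1).appLE V a.2.1 a.2.2.2).hom) ?_ ?_ t ?_
  · rintro ⟨i, W, hW, hWV⟩
    have h := Scheme.Hom.appLE_comp_appLE (v i) p ⊤ V W le_top hWV
    change (((Scheme.ΓSpecIso A).inv ≫ p.appLE ⊤ V le_top) ≫ (v i).appLE V W hWV).hom = _
    rw [Category.assoc, h]
  · intro b hb
    apply Groth.Agent.H58.SD_C2.mem_map_of_fst_app_eq_zero A p J V hV b
    apply h0
    intro i
    exact Groth.Agent.H9.SD_C1.map_app_fst_eq_zero A p J (v i) V b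
      (fun W hW hWV => hb ⟨i, W, hW, hWV⟩)
  · rintro ⟨i, W, hW, hWV⟩
    change ((Z i).presheaf.map (homOfLE hWV).op).hom (((v i).app V).hom t) = 0
    rw [show ((v i).app V).hom t = 0 from ht i, map_zero]

end Groth.Agent.S6063
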