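import Groth.Statements.S6076
import Mathlib
import Groth.Agent.S12442

set_option autoImplicit false
universe u
open CategoryTheory CategoryTheory.Limits MonoidalCategory CartesianMonoidalCategory MonObj GrpObj AlgebraicGeometry
open SGA3

namespace Groth.Agent.S6076

section Top

open Topology

theorem isOpen_preimage_of_isConstructible {X : Type*} [TopologicalSpace X] [CompactSpace X]
    {s : Set X} (hs : IsConstructible s) :
    IsOpen ((WithTopology.ofTopology (t := constructibleTopology X)) ⁻¹' s) ∧
    IsOpen ((WithTopology.ofTopology (t := constructibleTopology X)) ⁻¹' sᶜ) := by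
  induction hs using IsConstructible.empty_union_induction with
  | open_retrocompact U hUo hUc =>
    have h1 : IsOpen[constructibleTopology X] U :=
      hUc.isCompact.isOpen_constructibleTopology_of_isOpen hUo
    have h2 : IsOpen[constructibleTopology X] Uᶜ :=
      IsCompact.isOpen_constructibleTopology_of_isClosed
        (by rw [compl_compl]; exact hUc.isCompact) hUo.isClosed_compl
    exact ⟨(WithTopology.isOpen_iff _).mpr h1, (WithTopology.isOpen_iff _).mpr h2⟩
  | union s hs t ht hs' ht' =>
    refine ⟨?_, ?_⟩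
    · rw [Set.preimage_union]; exact hs'.1.union ht'.1
    · rw [Set.compl_union, Set.preimage_inter]; exact hs'.2.inter ht'.2
  | compl s hs hs' => exact ⟨hs'.2, by rw [compl_compl]; exact hs'.1⟩

theorem bound_on_affine {Y : Scheme.{u}} (U : Y.Opens) (hU : IsAffineOpen U)
    {J : Type*} (Z : J → Scheme.{u}) (g : ∀ i, Z i ⟶ Y)
    [∀ i, LocallyOfFinitePresentation (g i)]
    (hcov : ∀ y ∈ U, ∃ i, y ∈ Set.range (g i)) :
    ∃ F : Finset J, ∀ y ∈ U, ∃ i ∈ F, y ∈ Set.range (g i) := by
  classical
  haveI : IsAffine U.toScheme := hU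
  let κ := Σ i, {V : (Z i).Opens // IsAffineOpen V ∧ V ≤ (g i) ⁻¹ᵁ U}
  let C : κ → Set U.toScheme := fun k => Set.range ((g k.1).resLE U k.2.1 k.2.2.2)
  have hC : ∀ k, IsConstructible (C k) := by
    intro k
    haveI : IsAffine (k.2.1 : (Z k.1).Opens).toScheme := k.2.2.1
    have h := ((g k.1).resLE U k.2.1 k.2.2.2).isConstructible_image
      (s := Set.univ) IsConstructible.univ
    rwa [Set.image_univ] at h
  have hopen : ∀ k, IsOpen
      ((WithTopology.ofTopology (t := constructibleTopology U.toScheme)) ⁻¹' C k) :=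
    fun k => (isOpen_preimage_of_isConstructible (hC k)).1
  have hmemU : ∀ y0 : U.toScheme, U.ι y0 ∈ U := fun y0 => by
    have : U.ι y0 ∈ Set.range U.ι := Set.mem_range_self y0
    rwa [Scheme.Opens.range_ι] at this
  have hcover : (Set.univ : Set (WithConstructibleTopology U.toScheme)) ⊆
      ⋃ k, (WithTopology.ofTopology (t := constructibleTopology U.toScheme)) ⁻¹' C k := by
    intro y' _
    obtain ⟨i, z, hz⟩ := hcov (U.ι (WithTopology.ofTopology y')) (hmemU _)
    obtain ⟨V, hV, hzV, hVU⟩ := exists_isAffineOpen_mem_and_subset (x := z)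
      (U := (g i) ⁻¹ᵁ U) (by show (g i) z ∈ U; rw [hz]; exact hmemU _)
    have hzr : z ∈ Set.range V.ι := by rw [Scheme.Opens.range_ι]; exact hzV
    obtain ⟨z', hz'⟩ := hzr
    refine Set.mem_iUnion.mpr ⟨⟨i, V, hV, fun x hx => hVU hx⟩, z', ?_⟩
    apply U.ι.isOpenEmbedding.injective
    show U.ι (((g i).resLE U V (fun x hx => hVU hx)) z') = U.ι (WithTopology.ofTopology y')
    rw [← Scheme.Hom.comp_apply, Scheme.Hom.resLE_comp_ι, Scheme.Hom.comp_apply, hz', hz]
  obtain ⟨t, ht⟩ := isCompact_univ.elim_finite_subcover _ hopen hcover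
  refine ⟨t.image Sigma.fst, fun y hy => ?_⟩
  have hyr : y ∈ Set.range U.ι := by rw [Scheme.Opens.range_ι]; exact hy
  obtain ⟨y0, hy0⟩ := hyr
  obtain ⟨k, hk, hyk⟩ := Set.mem_iUnion₂.mp
    (ht (Set.mem_univ (WithTopology.toTopology (constructibleTopology U.toScheme) y0)))
  refine ⟨k.1, Finset.mem_image_of_mem _ hk, ?_⟩
  obtain ⟨z', hz'⟩ := hyk
  have hz'' : ((g k.1).resLE U k.2.1 k.2.2.2) z' = y0 := hz'
  refine ⟨k.2.1.ι z', ?_⟩
  rw [← hy0, ← hz'', ← Scheme.Hom.comp_apply, ← Scheme.Hom.comp_apply,
    Scheme.Hom.resLE_comp_ι]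

end Top

section Words

variable {S : Scheme.{u}} {X H : Over S} [GrpObj H]

/-- the factor `f(x)^{±1}` attached to a letter -/
noncomputable def letter (f : X ⟶ H) {T : Over S} (x : T ⟶ X) (b : Bool) : T ⟶ H :=
  if b then x ≫ f else (x ≫ f)⁻¹

/-- the value of a word -/
noncomputable def val (f : X ⟶ H) {T : Over S} (L : List ((T ⟶ X) × Bool)) : T ⟶ H :=
  (L.map fun p => letter f p.1 p.2).prod

theorem comp_letter (f : X ⟶ H) {T T' : Over S} (g : T' ⟶ T) (x : T ⟶ X) (b : Bool) :
    g ≫ letter f x b = letter f (g ≫ x) b := by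
  cases b
  · simp [letter, GrpObj.comp_inv]
  · simp [letter]

theorem comp_val (f : X ⟶ H) {T T' : Over S} (g : T' ⟶ T) (L : List ((T ⟶ X) × Bool)) :
    g ≫ val f L = val f (L.map fun p => (g ≫ p.1, p.2)) := by
  induction L with
  | nil => simp only [val, List.map_nil, List.prod_nil, MonObj.comp_one]
  | cons a L ih =>
    simp only [val, List.map_cons, List.prod_cons] at ih ⊢
    rw [MonObj.comp_mul, ih, comp_letter]

/-- universal word object for a sign pattern -/
noncomputable def W (X : Over S) : List Bool → Over S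
  | [] => 𝟙_ (Over S)
  | _ :: l => X ⊗ W X l

/-- universal word morphism -/
noncomputable def w (f : X ⟶ H) : (l : List Bool) → (W X l ⟶ H)
  | [] => 1
  | b :: l => letter f (fst X (W X l)) b * (snd X (W X l) ≫ w f l)

theorem exists_factor (f : X ⟶ H) {T : Over S} (L : List ((T ⟶ X) × Bool)) :
    ∃ z : T ⟶ W X (L.map Prod.snd), z ≫ w f (L.map Prod.snd) = val f L := by
  induction L with
  | nil => exact ⟨toUnit T, MonObj.comp_one _⟩
  | cons a L ih =>
    obtain ⟨z, hz⟩ := ih
    refine ⟨lift a.1 z, ?_⟩
    show lift a.1 z ≫ (letter f (fst X (W X (L.map Prod.snd))) a.2 *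
      (snd X (W X (L.map Prod.snd)) ≫ w f (L.map Prod.snd))) = _
    rw [MonObj.comp_mul, comp_letter, lift_fst, lift_snd_assoc, hz]
    simp only [val, List.map_cons, List.prod_cons]

theorem exists_word (f : X ⟶ H) (l : List Bool) :
    ∃ L : List ((W X l ⟶ X) × Bool), L.length = l.length ∧ val f L = w f l := by
  induction l with
  | nil => exact ⟨[], rfl, rfl⟩
  | cons b l ih =>
    obtain ⟨L, hL, hv⟩ := ih
    refine ⟨(fst X (W X l), b) :: L.map (fun p => (snd X (W X l) ≫ p.1, p.2)), ?_, ?_⟩
    · simp [hL]
    · show val f (_ :: _) = letter f (fst X (W X l)) b * (snd X (W X l) ≫ w f l)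
      rw [← hv, comp_val]
      simp only [val, List.map_cons, List.prod_cons]
      rfl

theorem lfp_W (X : Over S) [LocallyOfFinitePresentation X.hom] :
    ∀ l, LocallyOfFinitePresentation (W X l).hom
  | [] => by
    show LocallyOfFinitePresentation (𝟙 S)
    infer_instance
  | _ :: l => by
    haveI := lfp_W X l
    show LocallyOfFinitePresentation (pullback.fst X.hom (W X l).hom ≫ X.hom)
    infer_instance

end Words

/-- (iii) ⟹ (iv): let S be a scheme, X an S-scheme which is flat and locally of finite presentation over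
S, H an S-group scheme locally of finite presentation over S with reduced fibres and quasi-compact
underlying space, and f : X → H an S-morphism. Say that a point h of H lies under a word of length n
in f when there are an S-scheme T, a point p of T, T-valued points x_1, …, x_n of X and signs such
that the T-valued point f(x_1)^{±1} ⋯ f(x_n)^{±1} of H maps p to h. If every point of H lies under
some word in f, then there is a natural number n such that every point of H lies under a word of
length at most n. (The published statement concludes with words of one fixed length n and an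
fppf-covering word morphism; for the constant group of order two over a field and f the non-trivial
point, the points under words of length n alternate between the two points of H, so only the bound
on the length is stated here, and the covering assertion is not stated.) -/
theorem result (S : Scheme.{u}) (X H : Over S) [GrpObj H]
    [Flat X.hom] [LocallyOfFinitePresentation X.hom] [LocallyOfFinitePresentation H.hom]
    (hred : ∀ s : S, IsReduced (H.hom.fiber s)) [CompactSpace H.left] (f : X ⟶ H)
    (hsurj : ∀ h : H.left, ∃ (n : ℕ) (T : Over S) (p : T.left) (x : Fin n → (T ⟶ X)) (ε : Fin n → Bool),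
      ((List.ofFn fun j : Fin n => if ε j then x j ≫ f else (x j ≫ f)⁻¹).prod : T ⟶ H).left.base p = h) :
    ∃ n : ℕ, ∀ h : H.left, ∃ (m : ℕ) (_ : m ≤ n) (T : Over S) (p : T.left) (x : Fin m → (T ⟶ X)) (ε : Fin m → Bool),
      ((List.ofFn fun j : Fin m => if ε j then x j ≫ f else (x j ≫ f)⁻¹).prod : T ⟶ H).left.base p = h := by
  classical
  have hWlfp : ∀ l, LocallyOfFinitePresentation (W X l).hom := lfp_W X
  haveI hwlfp : ∀ l, LocallyOfFinitePresentation (w f l).left := fun l =>
    Groth.Agent.S12442.aux (w f l).left H.hom (by rw [Over.w]; exact hWlfp l) inferInstance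
  have hcov : ∀ h : H.left, ∃ l, h ∈ Set.range (w f l).left := by
    intro h
    obtain ⟨n, T, p, x, ε, hp⟩ := hsurj h
    obtain ⟨z, hz⟩ := exists_factor f (List.ofFn fun j => (x j, ε j))
    refine ⟨_, z.left p, ?_⟩
    have hv : val f (List.ofFn fun j => (x j, ε j)) =
        (List.ofFn fun j : Fin n => if ε j then x j ≫ f else (x j ≫ f)⁻¹).prod := by
      simp only [val, List.map_ofFn]
      rfl
    have e1 : (w f _).left (z.left p) = (z ≫ w f _).left p := rfl
    rw [e1, hz, hv, hp]
  have haff : ∀ h : H.left, ∃ U : H.left.Opens, IsAffineOpen U ∧ h ∈ U := fun h => by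
    obtain ⟨U, hU, hhU, -⟩ := exists_isAffineOpen_mem_and_subset (x := h)
      (U := (⊤ : H.left.Opens)) trivial
    exact ⟨U, hU, hhU⟩
  choose Uh hUh hmem using haff
  obtain ⟨t, ht⟩ := isCompact_univ.elim_finite_subcover (fun h : H.left => ((Uh h : H.left.Opens) : Set H.left))
    (fun h => (Uh h).isOpen) (fun h _ => Set.mem_iUnion.mpr ⟨h, hmem h⟩)
  choose F hF using fun h' : H.left => bound_on_affine (Uh h') (hUh h')
    (fun l => (W X l).left) (fun l => (w f l).left) (fun y _ => hcov y)
  refine ⟨t.sup (fun h' => (F h').sup List.length), fun h => ?_⟩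
  obtain ⟨h', hh't, hhU⟩ := Set.mem_iUnion₂.mp (ht (Set.mem_univ h))
  obtain ⟨l, hlF, q, hq⟩ := hF h' h hhU
  obtain ⟨L, hLlen, hLv⟩ := exists_word f l
  refine ⟨L.length, ?_, W X l, q, fun j => (L.get j).1, fun j => (L.get j).2, ?_⟩
  · rw [hLlen]
    exact le_trans (Finset.le_sup (f := List.length) hlF)
      (Finset.le_sup (f := fun h' => (F h').sup List.length) hh't)
  · have hofn : (List.ofFn fun j : Fin L.length =>
        if (L.get j).2 then (L.get j).1 ≫ f else ((L.get j).1 ≫ f)⁻¹) =
        L.map (fun p => letter f p.1 p.2) := by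
      have : List.map (fun p : (W X l ⟶ X) × Bool => letter f p.1 p.2) (List.ofFn L.get) =
          List.ofFn ((fun p : (W X l ⟶ X) × Bool => letter f p.1 p.2) ∘ L.get) := List.map_ofFn
      rw [List.ofFn_get] at this
      rw [this]
      rfl
    rw [hofn]
    show (val f L).left q = h
    rw [hLv]
    exact hq

end Groth.Agent.S6076
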