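import Groth.Statements.S6084
import Groth.Agent.H63.QuotFinite
import Groth.Agent.H48.FppfSource

set_option autoImplicit false
universe u
open CategoryTheory CategoryTheory.Limits MonoidalCategory CartesianMonoidalCategory MonObj GrpObj AlgebraicGeometry
open SGA3

namespace Groth.Agent.S6084

/-- Let k be a perfect field, G a group scheme locally of finite type over k and u : F → G a
homomorphism of k-group schemes which is a closed immersion and surjective on underlying spaces,
with F reduced (so F is G_red with its group structure). Let p : G → X be a k-morphism which is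
flat, surjective and locally of finite presentation and makes the square formed by (f, g) ↦ u(f) ·
g, the second projection F ×_k G → G and p (twice) cartesian (X is the quotient of G by F acting by
left translations). Then X is the spectrum of a finite local k-algebra with residue field k: X is
affine, its underlying space is a single point at which the structure morphism induces an
isomorphism of residue fields, and the ring of global sections of X is finite over k. -/
theorem result (k : Type u) [Field k] [PerfectField k]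
    (F G : Over (Spec (CommRingCat.of k))) [GrpObj F] [GrpObj G] [LocallyOfFiniteType G.hom] [IsReduced F.left]
    (u : F ⟶ G) [IsMonHom u] [IsClosedImmersion u.left] [Surjective u.left]
    (X : Over (Spec (CommRingCat.of k))) (p : G ⟶ X) [Flat p.left] [Surjective p.left] [LocallyOfFinitePresentation p.left]
    (hp : IsPullback ((u ▷ G) ≫ μ[G]) (snd F G) p p) :
    IsAffine X.left ∧ (∃ x : X.left, (Set.univ : Set X.left) = {x} ∧ IsIso (X.hom.residueFieldMap x)) ∧
      ((Scheme.ΓSpecIso (CommRingCat.of k)).inv ≫ X.hom.appTop).hom.Finite := by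
  haveI : Mono u.left := inferInstance
  haveI : Mono u := (Over.forget _).mono_of_mono_map (inferInstanceAs (Mono u.left))
  have hκμ : (u ▷ G) ≫ μ[G] = (fst F G ≫ u) * snd F G := by
    rw [Hom.mul_def]
    congr 1
  let κ : F ⊗ G ⟶ G ⊗ G := lift ((u ▷ G) ≫ μ[G]) (snd F G)
  let δ : G ⊗ G ⟶ G := fst G G * (snd G G)⁻¹
  have SQ : IsPullback κ (fst F G) δ u := by
    refine Groth.Agent.H40.FpqcFam.isPullback_of_pts ?_ ?_
    · change lift ((u ▷ G) ≫ μ[G]) (snd F G) ≫ (fst G G * (snd G G)⁻¹) = _
      rw [MonObj.comp_mul, GrpObj.comp_inv, lift_fst, lift_snd, hκμ, _root_.mul_inv_cancel_right]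
    · intro T x y hxy
      have h1 : x ≫ fst G G = (y ≫ u) * (x ≫ snd G G) := by
        rw [← hxy]
        change _ = (x ≫ (fst G G * (snd G G)⁻¹)) * (x ≫ snd G G)
        rw [MonObj.comp_mul, GrpObj.comp_inv, _root_.inv_mul_cancel_right]
      have hp : lift y (x ≫ snd G G) ≫ κ = x := by
        change lift y (x ≫ snd G G) ≫ lift ((u ▷ G) ≫ μ[G]) (snd F G) = x
        apply CartesianMonoidalCategory.hom_ext
        · rw [Category.assoc, lift_fst, hκμ, MonObj.comp_mul, lift_fst_assoc, lift_snd, h1]
        · rw [Category.assoc, lift_snd, lift_snd]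
      refine ⟨lift y (x ≫ snd G G), ⟨hp, lift_fst _ _⟩, ?_⟩
      rintro q ⟨hq1, hq2⟩
      apply CartesianMonoidalCategory.hom_ext
      · rw [lift_fst, hq2]
      · rw [lift_snd, ← hq1]
        change q ≫ snd F G = (q ≫ lift ((u ▷ G) ≫ μ[G]) (snd F G)) ≫ snd G G
        rw [Category.assoc, lift_snd]
  have SQ' : IsPullback κ.left (fst F G).left δ.left u.left := SQ.map (Over.forget _)
  haveI : Subsingleton (Spec (CommRingCat.of k)) :=
    inferInstanceAs (Subsingleton (PrimeSpectrum k))
  have hone : ∀ g₁ g₂ : G.left, p.left.base g₁ = p.left.base g₂ := by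
    intro g₁ g₂
    obtain ⟨z, hz1, hz2⟩ := Scheme.Pullback.exists_preimage_pullback (f := G.hom) (g := G.hom)
      g₁ g₂ (Subsingleton.elim _ _)
    have hz1' : (fst G G).left.base z = g₁ := hz1
    have hz2' : (snd G G).left.base z = g₂ := hz2
    obtain ⟨f₀, hf₀⟩ := u.left.surjective (δ.left.base z)
    obtain ⟨w, hw1, -⟩ := Groth.Agent.H63.EquivFlat.exists_preimage_of_isPullback SQ' z f₀
      hf₀.symm
    have e1 : κ ≫ fst G G ≫ p = κ ≫ snd G G ≫ p := by
      change lift ((u ▷ G) ≫ μ[G]) (snd F G) ≫ fst G G ≫ p =
        lift ((u ▷ G) ≫ μ[G]) (snd F G) ≫ snd G G ≫ p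
      rw [lift_fst_assoc, lift_snd_assoc, hp.w]
    have h := congrArg (fun t => t.left.base w) e1
    simp only [Over.comp_left, Scheme.Hom.comp_base, TopCat.comp_app] at h
    rw [hw1, hz1', hz2'] at h
    exact h
  let s : Spec (CommRingCat.of k) ⟶ X.left := (η[G] ≫ p).left
  have hs : s ≫ X.hom = 𝟙 _ := Over.w (η[G] ≫ p)
  let t₀ : Spec (CommRingCat.of k) := IsLocalRing.closedPoint k
  have hall : ∀ y : X.left, y = s.base t₀ := by
    intro y
    obtain ⟨g, rfl⟩ := p.left.surjective y
    have h1 : s.base t₀ = p.left.base ((η[G]).left.base t₀) := rfl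
    rw [h1]
    exact hone _ _
  haveI : Subsingleton X.left := ⟨fun a b => (hall a).trans (hall b).symm⟩
  -- finiteness
  haveI : IsLocallyNoetherian (Spec (CommRingCat.of k)) := inferInstance
  haveI : LocallyOfFiniteType (p.left ≫ X.hom) := by rw [Over.w p]; infer_instance
  haveI : LocallyOfFiniteType X.hom :=
    Groth.Agent.H48.FppfSource.locallyOfFiniteType_of_comp_fppf p.left X.hom
  haveI : CompactSpace X.left := Finite.compactSpace
  haveI : DiscreteTopology X.left := inferInstance
  have hfin : IsFinite X.hom := Groth.Agent.H63.QuotFinite.isFinite_of_discreteTopology X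
  haveI := hfin
  have haff : IsAffine X.left := isAffine_of_isAffineHom X.hom
  have hfinΓ : (X.hom.appTop).hom.Finite :=
    IsFinite.finite_app X.hom ⊤ (isAffineOpen_top _)
  refine ⟨haff, ⟨s.base t₀, ?_, ?_⟩, ?_⟩
  · ext y
    simp only [Set.mem_univ, Set.mem_singleton_iff, true_iff]
    exact hall y
  · have h1 : X.hom.residueFieldMap (s.base t₀) ≫ s.residueFieldMap t₀ =
        (s ≫ X.hom).residueFieldMap t₀ := (Scheme.residueFieldMap_comp s X.hom t₀).symm
    haveI h2 : IsIso ((s ≫ X.hom).residueFieldMap t₀) := by
      have key : ∀ (f : Spec (CommRingCat.of k) ⟶ Spec (CommRingCat.of k)), f = 𝟙 _ →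
          IsIso (f.residueFieldMap t₀) := by
        rintro f rfl
        rw [Scheme.residueFieldMap_id]
        exact IsIso.id _
      exact key _ hs
    haveI h3 : IsIso (s.residueFieldMap t₀) := by
      rw [ConcreteCategory.isIso_iff_bijective]
      refine ⟨(s.residueFieldMap t₀).hom.injective, fun b => ?_⟩
      have hsurj := ((ConcreteCategory.isIso_iff_bijective _).mp h2).2
      obtain ⟨a, ha⟩ := hsurj b
      rw [← h1] at ha
      exact ⟨_, ha⟩
    haveI : IsIso (X.hom.residueFieldMap (s.base t₀) ≫ s.residueFieldMap t₀) := by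
      rw [h1]; exact h2
    exact IsIso.of_isIso_comp_right _ (s.residueFieldMap t₀)
  · rw [CommRingCat.hom_comp]
    refine RingHom.Finite.comp hfinΓ ?_
    apply RingHom.Finite.of_surjective
    exact ((ConcreteCategory.isIso_iff_bijective _).mp
      (inferInstance : IsIso (Scheme.ΓSpecIso (CommRingCat.of k)).inv)).2

end Groth.Agent.S6084
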