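import Groth.Statements.S6088
import Groth.Agent.S18878
import Groth.Agent.S2579
import Groth.Agent.H49.SmoothFibreMap

set_option autoImplicit false
universe u
open CategoryTheory CategoryTheory.Limits MonoidalCategory CartesianMonoidalCategory MonObj GrpObj AlgebraicGeometry
open SGA3

namespace Groth.Agent.S6088

open Groth.Agent.H63.BCPoints Groth.Agent.S18878

section general
variable {S₀ S' : Scheme.{u}} (f : S' ⟶ S₀) {G₀ H₀ : Over S₀} (jH : H₀ ⟶ G₀)

/-- scheme-level injectivity of `jH` on points over schemes factoring through `f`. -/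
def InjOn : Prop :=
  ∀ (T : Scheme.{u}) (r : T ⟶ S') (x y : T ⟶ H₀.left), x ≫ H₀.hom = r ≫ f → y ≫ H₀.hom = r ≫ f →
    x ≫ jH.left = y ≫ jH.left → x = y

variable {f jH}

theorem InjOn.precomp (h : InjOn f jH) {S'' : Scheme.{u}} (g : S'' ⟶ S') : InjOn (g ≫ f) jH :=
  fun T r x y hx hy hxy => h T (r ≫ g) x y (by rw [hx, Category.assoc])
    (by rw [hy, Category.assoc]) hxy

variable (f jH)

theorem mono_iff_injOn : Mono ((Over.pullback f).map jH) ↔ InjOn f jH := by
  constructor
  · intro hm T r x y hx hy hxy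
    let x' : (Over.map f).obj (Over.mk r) ⟶ H₀ := Over.homMk x hx
    let y' : (Over.map f).obj (Over.mk r) ⟶ H₀ := Over.homMk y hy
    have h1 : ofUnder f x' ≫ (Over.pullback f).map jH =
        ofUnder f y' ≫ (Over.pullback f).map jH := by
      apply under_injective f
      rw [under_map, under_map, under_ofUnder, under_ofUnder]
      apply Over.OverMorphism.ext
      exact hxy
    have h2 := (cancel_mono _).1 h1
    have h3 := congrArg (fun m => (under f m).left) h2
    simpa [under_ofUnder, x', y'] using h3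
  · intro h
    constructor
    intro T x y hxy
    apply under_injective f
    apply Over.OverMorphism.ext
    have h1 := congrArg (fun m => (under f m).left) hxy
    simp only [under_map, Over.comp_left] at h1
    exact h T.left T.hom _ _ (Over.w (under f x)) (Over.w (under f y)) h1

end general

section stage
variable {I : Type u} [SmallCategory I] [IsCofiltered I]
  (D : I ⥤ Scheme.{u}) (c : Limits.Cone D) (hc : Limits.IsLimit c)
  [∀ (i j : I) (a : i ⟶ j), IsAffineHom (D.map a)] (i₀ : I) [CompactSpace (D.obj i₀)]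
  [QuasiSeparatedSpace (D.obj i₀)]
  {G₀ H₀ : Over (D.obj i₀)} (jH : H₀ ⟶ G₀)
  [LocallyOfFinitePresentation G₀.hom] [QuasiCompact G₀.hom] [QuasiSeparated G₀.hom]
  [LocallyOfFinitePresentation H₀.hom] [QuasiCompact H₀.hom] [QuasiSeparated H₀.hom]

include hc in
theorem exists_stage_injOn (h : InjOn (c.π.app i₀) jH) : ∃ (j : I) (φ : j ⟶ i₀), InjOn (D.map φ) jH := by
  haveI : LocallyOfFinitePresentation (jH.left ≫ G₀.hom) := by rw [Over.w jH]; infer_instance
  haveI : QuasiCompact (jH.left ≫ G₀.hom) := by rw [Over.w jH]; infer_instance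
  haveI : QuasiSeparated (jH.left ≫ G₀.hom) := by rw [Over.w jH]; infer_instance
  have hY : IsPullback (pullback.fst G₀.hom (c.π.app i₀)) (pullback.snd G₀.hom (c.π.app i₀))
      G₀.hom (c.π.app i₀) := IsPullback.of_hasPullback _ _
  have hX : IsPullback (pullback.fst jH.left (pullback.fst G₀.hom (c.π.app i₀)))
      (pullback.snd jH.left (pullback.fst G₀.hom (c.π.app i₀))) jH.left
      (pullback.fst G₀.hom (c.π.app i₀)) := IsPullback.of_hasPullback _ _
  haveI : Mono (pullback.snd jH.left (pullback.fst G₀.hom (c.π.app i₀))) := by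
    constructor
    intro T α β hαβ
    apply pullback.hom_ext _ hαβ
    refine h T (α ≫ pullback.snd _ _ ≫ pullback.snd G₀.hom (c.π.app i₀)) _ _ ?_ ?_ ?_
    · rw [← Over.w jH]
      simp only [Category.assoc]
      rw [pullback.condition_assoc, pullback.condition]
    · rw [← Over.w jH]
      simp only [Category.assoc]
      rw [pullback.condition_assoc, pullback.condition, ← Category.assoc, ← Category.assoc,
        ← Category.assoc, ← hαβ]
      simp only [Category.assoc]
    · simp only [Category.assoc]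
      rw [pullback.condition, ← Category.assoc, hαβ, Category.assoc]
  obtain ⟨j, φ, Xj, Yj, fj, gj, pY, pX, hYj, hXj, hmono⟩ :=
    Groth.Agent.S2579.result D c hc i₀ jH.left G₀.hom
      (pullback.snd jH.left (pullback.fst G₀.hom (c.π.app i₀))) (pullback.snd G₀.hom (c.π.app i₀))
      (pullback.fst G₀.hom (c.π.app i₀)) (pullback.fst jH.left (pullback.fst G₀.hom (c.π.app i₀)))
      hY hX
  refine ⟨j, φ, ?_⟩
  intro T r x y hx hy hxy
  have hx' : (x ≫ jH.left) ≫ G₀.hom = r ≫ D.map φ := by
    rw [Category.assoc, Over.w jH, hx]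
  have hy' : (y ≫ jH.left) ≫ G₀.hom = r ≫ D.map φ := by
    rw [Category.assoc, Over.w jH, hy]
  have e1 : hXj.lift x (hYj.lift (x ≫ jH.left) r hx') (by rw [hYj.lift_fst]) =
      hXj.lift y (hYj.lift (y ≫ jH.left) r hy') (by rw [hYj.lift_fst]) := by
    rw [← cancel_mono fj, hXj.lift_snd, hXj.lift_snd]
    apply hYj.hom_ext
    · rw [hYj.lift_fst, hYj.lift_fst, hxy]
    · rw [hYj.lift_snd, hYj.lift_snd]
  have e2 := congrArg (fun m => m ≫ pX) e1
  simpa [hXj.lift_fst] using e2

include hc in
theorem exists_stage' [LocallyOfFinitePresentation jH.left] [QuasiCompact jH.left]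
    [QuasiSeparated jH.left] (hinj : InjOn (c.π.app i₀) jH)
    {Z₀ : Over (D.obj i₀)} (z₀ : Z₀ ⟶ G₀)
    [LocallyOfFinitePresentation Z₀.hom] [QuasiCompact Z₀.hom] [QuasiSeparated Z₀.hom]
    (h : Fact (c.π.app i₀) jH z₀) : ∃ (j : I) (φ : j ⟶ i₀), Fact (D.map φ) jH z₀ := by
  have sq : IsPullback (pullback.fst z₀ jH).left (pullback.snd z₀ jH).left z₀.left jH.left :=
    (IsPullback.of_hasPullback z₀ jH).map (Over.forget _)
  obtain ⟨p, hp⟩ : ∃ p, p = (pullback.fst z₀ jH).left := ⟨_, rfl⟩
  obtain ⟨q, hq⟩ : ∃ q, q = (pullback.snd z₀ jH).left := ⟨_, rfl⟩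
  rw [← hp, ← hq] at sq
  haveI : LocallyOfFinitePresentation p :=
    MorphismProperty.of_isPullback (P := @LocallyOfFinitePresentation) sq.flip inferInstance
  haveI : QuasiCompact p :=
    MorphismProperty.of_isPullback (P := @QuasiCompact) sq.flip inferInstance
  haveI : QuasiSeparated p :=
    MorphismProperty.of_isPullback (P := @QuasiSeparated) sq.flip inferInstance
  have hY : IsPullback (pullback.fst Z₀.hom (c.π.app i₀)) (pullback.snd Z₀.hom (c.π.app i₀))
      Z₀.hom (c.π.app i₀) := IsPullback.of_hasPullback _ _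
  have hX : IsPullback (pullback.fst p (pullback.fst Z₀.hom (c.π.app i₀)))
      (pullback.snd p (pullback.fst Z₀.hom (c.π.app i₀))) p
      (pullback.fst Z₀.hom (c.π.app i₀)) := IsPullback.of_hasPullback _ _
  obtain ⟨w, hw⟩ := h _ (pullback.snd Z₀.hom (c.π.app i₀)) (pullback.fst Z₀.hom (c.π.app i₀))
    pullback.condition
  let s : pullback Z₀.hom (c.π.app i₀) ⟶ pullback p (pullback.fst Z₀.hom (c.π.app i₀)) :=
    pullback.lift (sq.lift (pullback.fst Z₀.hom (c.π.app i₀)) w hw.symm) (𝟙 _)
      (by rw [sq.lift_fst, Category.id_comp])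
  have hs : s ≫ pullback.snd p (pullback.fst Z₀.hom (c.π.app i₀)) = 𝟙 _ :=
    pullback.lift_snd _ _ _
  haveI : Mono (pullback.snd p (pullback.fst Z₀.hom (c.π.app i₀))) := by
    constructor
    intro T α β hαβ
    apply pullback.hom_ext _ hαβ
    have hp1 : (α ≫ pullback.fst p (pullback.fst Z₀.hom (c.π.app i₀))) ≫ p =
        (β ≫ pullback.fst p (pullback.fst Z₀.hom (c.π.app i₀))) ≫ p := by
      simp only [Category.assoc]
      rw [pullback.condition, ← Category.assoc, hαβ, Category.assoc]
    apply sq.hom_ext hp1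
    have hH : ∀ ga : T ⟶ pullback p (pullback.fst Z₀.hom (c.π.app i₀)),
        ((ga ≫ pullback.fst p (pullback.fst Z₀.hom (c.π.app i₀))) ≫ q) ≫ H₀.hom =
        (ga ≫ pullback.snd _ _ ≫ pullback.snd Z₀.hom (c.π.app i₀)) ≫ c.π.app i₀ := by
      intro ga
      rw [← Over.w jH]
      simp only [Category.assoc]
      rw [← sq.w_assoc, Over.w z₀, pullback.condition_assoc, pullback.condition]
    refine hinj T (α ≫ pullback.snd _ _ ≫ pullback.snd Z₀.hom (c.π.app i₀)) _ _ (hH α) ?_ ?_
    · rw [hH β]
      simp only [← Category.assoc]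
      rw [hαβ]
    · simp only [Category.assoc]
      rw [← sq.w, ← Category.assoc, ← Category.assoc, ← Category.assoc, ← Category.assoc]
      congr 1
  haveI : IsSplitEpi (pullback.snd p (pullback.fst Z₀.hom (c.π.app i₀))) := ⟨⟨⟨s, hs⟩⟩⟩
  haveI : IsIso (pullback.snd p (pullback.fst Z₀.hom (c.π.app i₀))) :=
    isIso_of_mono_of_isSplitEpi _
  obtain ⟨j, φ, Xj, Yj, fj, gj, pY, pX, hYj, hXj, hiso⟩ :=
    Groth.Agent.S4805.result D c hc i₀ p Z₀.hom
      (pullback.snd p (pullback.fst Z₀.hom (c.π.app i₀))) (pullback.snd Z₀.hom (c.π.app i₀))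
      (pullback.fst Z₀.hom (c.π.app i₀)) (pullback.fst p (pullback.fst Z₀.hom (c.π.app i₀)))
      hY hX
  refine ⟨j, φ, ?_⟩
  intro T r t ht
  refine ⟨hYj.lift t r ht ≫ inv fj ≫ pX ≫ q, ?_⟩
  simp only [Category.assoc]
  rw [← sq.w, ← Category.assoc pX, hXj.w, Category.assoc, IsIso.inv_hom_id_assoc,
    hYj.lift_fst_assoc]

omit [IsCofiltered I] [CompactSpace (D.obj i₀)] [∀ (i j : I) (a : i ⟶ j), IsAffineHom (D.map a)]
  [QuasiSeparatedSpace (D.obj i₀)]
  [LocallyOfFinitePresentation G₀.hom] [QuasiCompact G₀.hom] [QuasiSeparated G₀.hom]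
  [LocallyOfFinitePresentation H₀.hom] [QuasiCompact H₀.hom] [QuasiSeparated H₀.hom] in
theorem InjOn.restage {j k : I} {φ : j ⟶ i₀}
    (h : InjOn (D.map φ) jH) (b : k ⟶ j) : InjOn (D.map (b ≫ φ)) jH := by
  rw [D.map_comp]
  exact h.precomp (D.map b)

end stage

section central
variable {S₀ S' : Scheme.{u}} (f : S' ⟶ S₀) {G₀ H₀ : Over S₀} [GrpObj G₀] [GrpObj H₀] (uH : H₀ ⟶ G₀)

noncomputable abbrev cA : G₀ ⊗ H₀ ⟶ G₀ := (fst G₀ H₀) * (snd G₀ H₀ ≫ uH)
noncomputable abbrev cB : G₀ ⊗ H₀ ⟶ G₀ := (snd G₀ H₀ ≫ uH) * (fst G₀ H₀)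
noncomputable abbrev diagG (G₀ : Over S₀) : G₀ ⟶ G₀ ⊗ G₀ := lift (𝟙 G₀) (𝟙 G₀)
noncomputable abbrev EE : Over S₀ := pullback (lift (cA uH) (cB uH)) (diagG G₀)
noncomputable abbrev eqI : EE uH ⟶ G₀ ⊗ H₀ := pullback.fst _ _

theorem eqI_cA_eq_cB : eqI uH ≫ cA uH = eqI uH ≫ cB uH := by
  have hcond := pullback.condition (f := lift (cA uH) (cB uH)) (g := diagG G₀)
  have h1 := congrArg (fun m => m ≫ fst G₀ G₀) hcond
  have h2 := congrArg (fun m => m ≫ snd G₀ G₀) hcond
  simp only [Category.assoc, lift_fst, lift_snd, Category.comp_id] at h1 h2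
  exact h1.trans h2.symm

theorem central_iff_fact :
    (∀ (T : Over S') (g : T ⟶ (Over.pullback f).obj G₀) (n : T ⟶ (Over.pullback f).obj H₀),
      g * (n ≫ (Over.pullback f).map uH) = (n ≫ (Over.pullback f).map uH) * g) ↔
    Fact f (eqI uH) (𝟙 (G₀ ⊗ H₀)) := by
  constructor
  · intro hcen T r t ht
    let t' : (Over.map f).obj (Over.mk r) ⟶ G₀ ⊗ H₀ := Over.homMk t ht
    have h1 := congrArg (under f) (hcen _ (ofUnder f (t' ≫ fst G₀ H₀)) (ofUnder f (t' ≫ snd G₀ H₀)))
    rw [under_mul, under_mul, under_map, under_ofUnder, under_ofUnder] at h1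
    have h2 : t' ≫ cA uH = t' ≫ cB uH := by
      rw [MonObj.comp_mul, MonObj.comp_mul]
      simpa only [Category.assoc] using h1
    let w' : (Over.map f).obj (Over.mk r) ⟶ EE uH := pullback.lift t' (t' ≫ cA uH) (by
      apply CartesianMonoidalCategory.hom_ext
      · simp only [Category.assoc, lift_fst, Category.comp_id]
      · simp only [Category.assoc, lift_snd, Category.comp_id]
        exact h2.symm)
    refine ⟨w'.left, ?_⟩
    have h3 : w' ≫ eqI uH = t' := pullback.lift_fst _ _ _
    have h4 := congrArg (fun m => m.left) h3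
    simp only [Over.comp_left] at h4
    rw [h4]
    simp [t']
  · intro hfact T g n
    apply under_injective f
    rw [under_mul, under_mul, under_map]
    obtain ⟨w, hw⟩ := hfact T.left T.hom (lift (under f g) (under f n)).left
      (Over.w (lift (under f g) (under f n)))
    have hw0 : w ≫ (eqI uH).left = (lift (under f g) (under f n)).left := by
      rw [hw]; simp
    have hw' : w ≫ (EE uH).hom = ((Over.map f).obj T).hom := by
      rw [← Over.w (eqI uH), ← Category.assoc, hw0]
      exact Over.w (lift (under f g) (under f n))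
    let w' : (Over.map f).obj T ⟶ EE uH := Over.homMk w hw'
    have e : w' ≫ eqI uH = lift (under f g) (under f n) := by
      apply Over.OverMorphism.ext
      rw [Over.comp_left]
      exact hw0
    have h5 := congrArg (fun m => w' ≫ m) (eqI_cA_eq_cB uH)
    simp only [← Category.assoc, e] at h5
    rw [MonObj.comp_mul, MonObj.comp_mul, lift_fst, lift_snd_assoc] at h5
    exact h5

variable [LocallyOfFinitePresentation G₀.hom] [QuasiCompact G₀.hom] [QuasiSeparated G₀.hom]

theorem eqI_props : LocallyOfFinitePresentation (eqI uH).left ∧ QuasiCompact (eqI uH).left ∧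
    QuasiSeparated (eqI uH).left ∧ Mono (eqI uH).left := by
  have sqE : IsPullback (eqI uH).left (pullback.snd (lift (cA uH) (cB uH)) (diagG G₀)).left
      (lift (cA uH) (cB uH)).left (diagG G₀).left :=
    (IsPullback.of_hasPullback _ _).map (Over.forget _)
  have hfst : (diagG G₀).left ≫ (fst G₀ G₀).left = 𝟙 G₀.left := by
    rw [← Over.comp_left, lift_fst]
    rfl
  haveI : LocallyOfFinitePresentation (fst G₀ G₀).left := by rw [Over.fst_left]; infer_instance
  haveI : QuasiCompact (fst G₀ G₀).left := by rw [Over.fst_left]; infer_instance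
  haveI : QuasiSeparated (fst G₀ G₀).left := by rw [Over.fst_left]; infer_instance
  haveI : LocallyOfFinitePresentation ((diagG G₀).left ≫ (fst G₀ G₀).left) := by
    rw [hfst]; infer_instance
  haveI : QuasiCompact ((diagG G₀).left ≫ (fst G₀ G₀).left) := by rw [hfst]; infer_instance
  haveI : QuasiSeparated ((diagG G₀).left ≫ (fst G₀ G₀).left) := by rw [hfst]; infer_instance
  have d1 : LocallyOfFinitePresentation (diagG G₀).left :=
    Groth.Agent.H49.SmoothFibreMap.lfp_of_comp_of_lft _ (fst G₀ G₀).left inferInstance inferInstance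
  have d2 : QuasiCompact (diagG G₀).left := QuasiCompact.of_comp _ (fst G₀ G₀).left
  have d3 : QuasiSeparated (diagG G₀).left := QuasiSeparated.of_comp _ (fst G₀ G₀).left
  haveI : Mono (diagG G₀) := mono_of_mono_fac (lift_fst (𝟙 G₀) (𝟙 G₀))
  haveI : Mono (eqI uH) := inferInstance
  exact ⟨MorphismProperty.of_isPullback (P := @LocallyOfFinitePresentation) sqE.flip d1,
    MorphismProperty.of_isPullback (P := @QuasiCompact) sqE.flip d2,
    MorphismProperty.of_isPullback (P := @QuasiSeparated) sqE.flip d3, inferInstance⟩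

end central

/-- Let S be the limit of a cofiltered system (S_i) of quasi-compact quasi-separated schemes with affine
transition morphisms, j an index and u_j : H_j → G_j a homomorphism of S_j-group schemes of finite
presentation over S_j; write u and u_i for its base changes to S and to S_i. Then u is a
monomorphism with H normal in G (for every S-scheme T, conjugates of T-points of H by T-points of G
are T-points of H) if and only if there is an index i over j such that u_i is a monomorphism with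
H_i normal in G_i; and u is a monomorphism with H central in G (every T-point of H commutes with
every T-point of G) if and only if there is an index i over j with the same property for u_i. (The
published statement starts from a homomorphism u of S-groups of finite presentation and first
descends it to some u_j; this row starts from u_j. The published setting takes all S_i affine over a
fixed quasi-compact quasi-separated S_0.) -/
theorem result {I : Type u} [SmallCategory I] [IsCofiltered I]
    (D : I ⥤ Scheme.{u}) (c : Limits.Cone D) (hc : Limits.IsLimit c)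
    [∀ (i i' : I) (f : i ⟶ i'), IsAffineHom (D.map f)] [∀ i, CompactSpace (D.obj i)] [∀ i, QuasiSeparatedSpace (D.obj i)]
    (j : I) (Gj Hj : Over (D.obj j)) [GrpObj Gj] [GrpObj Hj]
    [LocallyOfFinitePresentation Gj.hom] [QuasiCompact Gj.hom] [QuasiSeparated Gj.hom]
    [LocallyOfFinitePresentation Hj.hom] [QuasiCompact Hj.hom] [QuasiSeparated Hj.hom]
    (uj : Hj ⟶ Gj) [IsMonHom uj] :
    ((Mono ((Over.pullback (c.π.app j)).map uj) ∧ AlgGrp.IsNormalHom ((Over.pullback (c.π.app j)).map uj)) ↔
      ∃ (i : I) (f : i ⟶ j), Mono ((Over.pullback (D.map f)).map uj) ∧ AlgGrp.IsNormalHom ((Over.pullback (D.map f)).map uj)) ∧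
    ((Mono ((Over.pullback (c.π.app j)).map uj) ∧ (∀ (T : Over c.pt) (g : T ⟶ (Red.bc (c.π.app j) Gj)) (n : T ⟶ (Red.bc (c.π.app j) Hj)), g * (n ≫ ((Over.pullback (c.π.app j)).map uj)) = (n ≫ ((Over.pullback (c.π.app j)).map uj)) * g)) ↔
      ∃ (i : I) (f : i ⟶ j), Mono ((Over.pullback (D.map f)).map uj) ∧ (∀ (T : Over (D.obj i)) (g : T ⟶ (Red.bc (D.map f) Gj)) (n : T ⟶ (Red.bc (D.map f) Hj)), g * (n ≫ ((Over.pullback (D.map f)).map uj)) = (n ≫ ((Over.pullback (D.map f)).map uj)) * g)) := by
  haveI : LocallyOfFinitePresentation (uj.left ≫ Gj.hom) := by rw [Over.w uj]; infer_instance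
  haveI : QuasiCompact (uj.left ≫ Gj.hom) := by rw [Over.w uj]; infer_instance
  haveI : QuasiSeparated (uj.left ≫ Gj.hom) := by rw [Over.w uj]; infer_instance
  haveI : LocallyOfFinitePresentation uj.left :=
    Groth.Agent.H49.SmoothFibreMap.lfp_of_comp_of_lft uj.left Gj.hom inferInstance inferInstance
  haveI : QuasiCompact uj.left := QuasiCompact.of_comp uj.left Gj.hom
  haveI : QuasiSeparated uj.left := QuasiSeparated.of_comp uj.left Gj.hom
  haveI : LocallyOfFinitePresentation (Gj ⊗ Hj).hom := by rw [Over.tensorObj_hom]; infer_instance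
  haveI : QuasiCompact (Gj ⊗ Hj).hom := by rw [Over.tensorObj_hom]; infer_instance
  haveI : QuasiSeparated (Gj ⊗ Hj).hom := by rw [Over.tensorObj_hom]; infer_instance
  refine ⟨⟨?_, ?_⟩, ⟨?_, ?_⟩⟩
  · rintro ⟨hm, hn⟩
    have hinj := (mono_iff_injOn (c.π.app j) uj).1 hm
    have s1 := exists_stage_injOn D c hc j uj hinj
    have hcj : PtFact (c.π.app j) uj (conjPt uj) := ptFact_conj_of_normal hn
    have s2 := exists_stage' D c hc j uj hinj (conjPt uj) hcj.fact
    obtain ⟨i, φ, h1, h2⟩ := exists_common j (fun i φ => InjOn (D.map φ) uj)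
      (fun i φ => Fact (D.map φ) uj (conjPt uj))
      (fun φ b h => InjOn.restage D j uj h b) (fun φ b h => Fact.restage D j uj h b) s1 s2
    exact ⟨i, φ, (mono_iff_injOn _ _).2 h1, normal_of_ptFact h2.ptFact⟩
  · rintro ⟨i, φ, hm, hn⟩
    have h1 := ((mono_iff_injOn _ _).1 hm).precomp (c.π.app i)
    have h2 := (ptFact_conj_of_normal hn).fact.precomp (c.π.app i)
    rw [c.w φ] at h1 h2
    exact ⟨(mono_iff_injOn _ _).2 h1, normal_of_ptFact h2.ptFact⟩
  · rintro ⟨hm, hcen⟩
    have hinj := (mono_iff_injOn (c.π.app j) uj).1 hm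
    have s1 := exists_stage_injOn D c hc j uj hinj
    obtain ⟨p1, p2, p3, p4⟩ := eqI_props uj
    haveI := p1
    haveI := p2
    haveI := p3
    haveI : LocallyOfFinitePresentation (EE uj).hom := by rw [← Over.w (eqI uj)]; infer_instance
    haveI : QuasiCompact (EE uj).hom := by rw [← Over.w (eqI uj)]; infer_instance
    haveI : QuasiSeparated (EE uj).hom := by rw [← Over.w (eqI uj)]; infer_instance
    have hinjE : InjOn (c.π.app j) (eqI uj) :=
      fun T r x y _ _ hxy => (cancel_mono (eqI uj).left).1 hxy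
    have s2 := exists_stage' D c hc j (eqI uj) hinjE (𝟙 (Gj ⊗ Hj))
      ((central_iff_fact (c.π.app j) uj).1 hcen)
    obtain ⟨i, φ, h1, h2⟩ := exists_common j (fun i φ => InjOn (D.map φ) uj)
      (fun i φ => Fact (D.map φ) (eqI uj) (𝟙 (Gj ⊗ Hj)))
      (fun φ b h => InjOn.restage D j uj h b) (fun φ b h => Fact.restage D j (eqI uj) h b) s1 s2
    exact ⟨i, φ, (mono_iff_injOn _ _).2 h1, (central_iff_fact _ uj).2 h2⟩
  · rintro ⟨i, φ, hm, hcen⟩
    have h1 := ((mono_iff_injOn _ _).1 hm).precomp (c.π.app i)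
    have h2 := ((central_iff_fact _ uj).1 hcen).precomp (c.π.app i)
    rw [c.w φ] at h1 h2
    exact ⟨(mono_iff_injOn _ _).2 h1, (central_iff_fact _ uj).2 h2⟩

end Groth.Agent.S6088
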