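import Groth.Statements.S6086
import Groth.Agent.S6088
import Groth.Agent.H24.LimPullback
import Groth.Prelude.Def_ActBC

set_option autoImplicit false
universe u
open CategoryTheory CategoryTheory.Limits MonoidalCategory CartesianMonoidalCategory MonObj GrpObj AlgebraicGeometry
open SGA3

namespace Groth.Agent.S6086

open Groth.Agent.H63.BCPoints Groth.Agent.S18878 Groth.Agent.S6088

section cat
universe v₁ u₁
variable {C : Type u₁} [Category.{v₁} C] [CartesianMonoidalCategory C]

theorem isMonHom_of_points {M N : C} [GrpObj M] [GrpObj N] (v : M ⟶ N)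
    (h : ∀ (T : C) (x y : T ⟶ M), (x * y) ≫ v = (x ≫ v) * (y ≫ v)) : IsMonHom v := by
  have hmul : μ[M] ≫ v = (v ⊗ₘ v) ≫ μ[N] := by
    have h1 := h (M ⊗ M) (fst M M) (snd M M)
    rw [Hom.mul_def, Hom.mul_def, lift_fst_snd, Category.id_comp, lift_fst_comp_snd_comp] at h1
    exact h1
  refine ⟨?_, hmul⟩
  have h1 : (1 : 𝟙_ C ⟶ M) = η := by
    rw [Hom.one_def, toUnit_unique (toUnit _) (𝟙 _), Category.id_comp]
  have h1' : (1 : 𝟙_ C ⟶ N) = η := by
    rw [Hom.one_def, toUnit_unique (toUnit _) (𝟙 _), Category.id_comp]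
  have hx : (η[M] ≫ v) * (η[M] ≫ v) = (η[M] ≫ v) * 1 := by
    rw [_root_.mul_one, ← h, ← h1, _root_.mul_one]
  rw [← h1']
  exact mul_left_cancel hx

end cat

section general
variable {S₀ S' : Scheme.{u}} (k : S' ⟶ S₀) {Z₀ H₀ : Over S₀} (a b : Z₀ ⟶ H₀)

/-- `a` and `b` agree on points over schemes factoring through `k`. -/
def EqOn : Prop := ∀ (T : Over S') (t : (Over.map k).obj T ⟶ Z₀), t ≫ a = t ≫ b

noncomputable abbrev diagO (H₀ : Over S₀) : H₀ ⟶ H₀ ⊗ H₀ := lift (𝟙 H₀) (𝟙 H₀)
noncomputable abbrev EQ : Over S₀ := pullback (lift a b) (diagO H₀)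
noncomputable abbrev eqι : EQ a b ⟶ Z₀ := pullback.fst _ _

theorem eqι_eq : eqι a b ≫ a = eqι a b ≫ b := by
  have hcond := pullback.condition (f := lift a b) (g := diagO H₀)
  have h1 := congrArg (fun m => m ≫ fst H₀ H₀) hcond
  have h2 := congrArg (fun m => m ≫ snd H₀ H₀) hcond
  simp only [Category.assoc, lift_fst, lift_snd, Category.comp_id] at h1 h2
  exact h1.trans h2.symm

theorem eqOn_iff_map_eq : EqOn k a b ↔ (Over.pullback k).map a = (Over.pullback k).map b := by
  constructor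
  · intro h
    have h1 := h _ (under k (𝟙 ((Over.pullback k).obj Z₀)))
    rw [← under_map, ← under_map, Category.id_comp, Category.id_comp] at h1
    exact under_injective k h1
  · intro h T t
    have h1 : under k (ofUnder k t ≫ (Over.pullback k).map a) =
        under k (ofUnder k t ≫ (Over.pullback k).map b) := by rw [h]
    rwa [under_map, under_map, under_ofUnder] at h1

theorem eqOn_iff_fact : EqOn k a b ↔ Fact k (eqι a b) (𝟙 Z₀) := by
  constructor
  · intro heq T r t ht
    let t' : (Over.map k).obj (Over.mk r) ⟶ Z₀ := Over.homMk t ht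
    have h2 : t' ≫ a = t' ≫ b := heq _ t'
    let w' : (Over.map k).obj (Over.mk r) ⟶ EQ a b := pullback.lift t' (t' ≫ a) (by
      apply CartesianMonoidalCategory.hom_ext
      · simp only [Category.assoc, lift_fst, Category.comp_id]
      · simp only [Category.assoc, lift_snd, Category.comp_id]
        exact h2.symm)
    refine ⟨w'.left, ?_⟩
    have h3 : w' ≫ eqι a b = t' := pullback.lift_fst _ _ _
    have h4 := congrArg (fun m => m.left) h3
    simp only [Over.comp_left] at h4
    rw [h4]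
    simp [t']
  · intro hfact T t
    obtain ⟨w, hw⟩ := hfact T.left T.hom t.left (Over.w t)
    have hw0 : w ≫ (eqι a b).left = t.left := by
      rw [hw]; simp
    have hw' : w ≫ (EQ a b).hom = ((Over.map k).obj T).hom := by
      rw [← Over.w (eqι a b), ← Category.assoc, hw0]
      exact Over.w t
    let w' : (Over.map k).obj T ⟶ EQ a b := Over.homMk w hw'
    have e : w' ≫ eqι a b = t := by
      apply Over.OverMorphism.ext
      rw [Over.comp_left]
      exact hw0
    have h5 := congrArg (fun m => w' ≫ m) (eqι_eq a b)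
    simp only [← Category.assoc, e] at h5
    exact h5

variable [LocallyOfFinitePresentation H₀.hom] [QuasiCompact H₀.hom] [QuasiSeparated H₀.hom]

theorem eqι_props : LocallyOfFinitePresentation (eqι a b).left ∧ QuasiCompact (eqι a b).left ∧
    QuasiSeparated (eqι a b).left ∧ Mono (eqι a b).left := by
  have sqE : IsPullback (eqι a b).left (pullback.snd (lift a b) (diagO H₀)).left
      (lift a b).left (diagO H₀).left :=
    (IsPullback.of_hasPullback _ _).map (Over.forget _)
  have hfst : (diagO H₀).left ≫ (fst H₀ H₀).left = 𝟙 H₀.left := by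
    rw [← Over.comp_left, lift_fst]
    rfl
  haveI : LocallyOfFinitePresentation (fst H₀ H₀).left := by rw [Over.fst_left]; infer_instance
  haveI : QuasiCompact (fst H₀ H₀).left := by rw [Over.fst_left]; infer_instance
  haveI : QuasiSeparated (fst H₀ H₀).left := by rw [Over.fst_left]; infer_instance
  haveI : LocallyOfFinitePresentation ((diagO H₀).left ≫ (fst H₀ H₀).left) := by
    rw [hfst]; infer_instance
  haveI : QuasiCompact ((diagO H₀).left ≫ (fst H₀ H₀).left) := by rw [hfst]; infer_instance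
  haveI : QuasiSeparated ((diagO H₀).left ≫ (fst H₀ H₀).left) := by rw [hfst]; infer_instance
  have d1 : LocallyOfFinitePresentation (diagO H₀).left :=
    Groth.Agent.H49.SmoothFibreMap.lfp_of_comp_of_lft _ (fst H₀ H₀).left inferInstance inferInstance
  have d2 : QuasiCompact (diagO H₀).left := QuasiCompact.of_comp _ (fst H₀ H₀).left
  have d3 : QuasiSeparated (diagO H₀).left := QuasiSeparated.of_comp _ (fst H₀ H₀).left
  haveI : Mono (diagO H₀) := mono_of_mono_fac (lift_fst (𝟙 H₀) (𝟙 H₀))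
  haveI : Mono (eqι a b) := inferInstance
  exact ⟨MorphismProperty.of_isPullback (P := @LocallyOfFinitePresentation) sqE.flip d1,
    MorphismProperty.of_isPullback (P := @QuasiCompact) sqE.flip d2,
    MorphismProperty.of_isPullback (P := @QuasiSeparated) sqE.flip d3, inferInstance⟩

end general

section monhom
variable {S₀ S' : Scheme.{u}} (k : S' ⟶ S₀) {G₁ H₁ : Over S₀} [GrpObj G₁] [GrpObj H₁] (v : G₁ ⟶ H₁)

noncomputable abbrev mA : G₁ ⊗ G₁ ⟶ H₁ := (fst G₁ G₁ * snd G₁ G₁) ≫ v
noncomputable abbrev mB : G₁ ⊗ G₁ ⟶ H₁ := (fst G₁ G₁ ≫ v) * (snd G₁ G₁ ≫ v)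

theorem monHom_iff_eqOn :
    IsMonHom ((Over.pullback k).map v) ↔ EqOn k (mA v) (mB v) := by
  constructor
  · intro hm T t
    have h1 : (ofUnder k (t ≫ fst G₁ G₁) * ofUnder k (t ≫ snd G₁ G₁)) ≫ (Over.pullback k).map v =
        (ofUnder k (t ≫ fst G₁ G₁) ≫ (Over.pullback k).map v) *
          (ofUnder k (t ≫ snd G₁ G₁) ≫ (Over.pullback k).map v) := MonObj.mul_comp _ _ _
    have h2 := congrArg (under k) h1
    rw [under_map, under_mul, under_mul, under_map, under_map, under_ofUnder, under_ofUnder] at h2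
    rw [← Category.assoc, MonObj.comp_mul, MonObj.comp_mul]
    simpa only [Category.assoc] using h2
  · intro h
    apply isMonHom_of_points
    intro T x y
    apply under_injective k
    have h1 := h T (lift (under k x) (under k y))
    rw [← Category.assoc, MonObj.comp_mul, MonObj.comp_mul, lift_fst, lift_snd, lift_fst_assoc,
      lift_snd_assoc] at h1
    rw [under_map, under_mul, under_mul, under_map, under_map]
    exact h1

end monhom

section bcc
variable {S S' S'' : Scheme.{u}} (f : S'' ⟶ S') (g : S' ⟶ S) {d : S'' ⟶ S} (h : f ≫ g = d) (X : Over S)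

theorem stmtIso_eq :
    (((Over.pullbackComp f g).app X).symm ≪≫ eqToIso (congrArg (fun φ => Red.bc φ X) h)) =
      ActBC.bcCompIso f g X h := by
  subst h
  ext1
  simp [ActBC.bcCompIso_hom_eq_pullbackComp_inv]

@[reassoc] theorem bcCompIso_inv_left_fst_fst :
    (ActBC.bcCompIso f g X h).inv.left ≫ pullback.fst _ f ≫ pullback.fst X.hom g =
      pullback.fst X.hom d := by
  rw [← ActBC.bcCompIso_hom_left_fst f g X h, ← Over.comp_left_assoc, Iso.inv_hom_id, Over.id_left,
    Category.id_comp]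

@[reassoc] theorem bcCompIso_inv_left_snd :
    (ActBC.bcCompIso f g X h).inv.left ≫ pullback.snd _ f = pullback.snd X.hom d := by
  rw [← ActBC.bcCompIso_hom_left_snd f g X h, ← Over.comp_left_assoc, Iso.inv_hom_id, Over.id_left,
    Category.id_comp]

end bcc

section stage
variable {I : Type u} [SmallCategory I] [IsCofiltered I]
  (D : I ⥤ Scheme.{u}) (c : Limits.Cone D) (hc : Limits.IsLimit c)
  [∀ (i j : I) (a : i ⟶ j), IsAffineHom (D.map a)] (i₀ : I) [CompactSpace (D.obj i₀)]
  [QuasiSeparatedSpace (D.obj i₀)]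

include hc in
theorem exists_stage_eq {Z₀ H₀ : Over (D.obj i₀)} (a b : Z₀ ⟶ H₀)
    [LocallyOfFinitePresentation Z₀.hom] [QuasiCompact Z₀.hom] [QuasiSeparated Z₀.hom]
    [LocallyOfFinitePresentation H₀.hom] [QuasiCompact H₀.hom] [QuasiSeparated H₀.hom]
    (h : EqOn (c.π.app i₀) a b) : ∃ (i : I) (φ : i ⟶ i₀), EqOn (D.map φ) a b := by
  obtain ⟨p1, p2, p3, p4⟩ := eqι_props a b
  haveI := p1
  haveI := p2
  haveI := p3
  haveI : LocallyOfFinitePresentation (EQ a b).hom := by rw [← Over.w (eqι a b)]; infer_instance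
  haveI : QuasiCompact (EQ a b).hom := by rw [← Over.w (eqι a b)]; infer_instance
  haveI : QuasiSeparated (EQ a b).hom := by rw [← Over.w (eqι a b)]; infer_instance
  have hinjE : InjOn (c.π.app i₀) (eqι a b) :=
    fun T r x y _ _ hxy => (cancel_mono (eqι a b).left).1 hxy
  obtain ⟨i, φ, hf⟩ := exists_stage' D c hc i₀ (eqι a b) hinjE (𝟙 Z₀)
    ((eqOn_iff_fact _ a b).1 h)
  exact ⟨i, φ, (eqOn_iff_fact _ a b).2 hf⟩

open Groth.Agent.H24 in
include hc in
theorem exists_stage_pt {X₀ Y₀ : Scheme.{u}} (h₀ : X₀ ⟶ D.obj i₀) (g₀ : Y₀ ⟶ D.obj i₀)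
    [LocallyOfFinitePresentation g₀] [QuasiCompact h₀] [QuasiSeparated h₀]
    (t : pullback h₀ (c.π.app i₀) ⟶ Y₀) (ht : t ≫ g₀ = pullback.fst h₀ (c.π.app i₀) ≫ h₀) :
    ∃ (i : I) (φ : i ⟶ i₀) (tl : pullback h₀ (D.map φ) ⟶ Y₀),
      tl ≫ g₀ = pullback.fst h₀ (D.map φ) ≫ h₀ ∧
      pullback.lift (pullback.fst h₀ (c.π.app i₀)) (pullback.snd h₀ (c.π.app i₀) ≫ c.π.app i)
        (by rw [pullback.condition, Category.assoc, c.w]) ≫ tl = t := by
  have hAff : ∀ {i j : I} (f : i ⟶ j), IsAffineHom (D.map f) := fun f => inferInstance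
  have hcX₀ : CompactSpace X₀ := QuasiCompact.compactSpace_of_compactSpace h₀
  have hqX₀ : QuasiSeparatedSpace X₀ := quasiSeparatedSpace_of_quasiSeparated h₀
  have hcX : ∀ l : Over i₀, CompactSpace ↥((pbDiagram D (𝟙 i₀) h₀).obj l) := by
    intro l
    have : IsAffineHom (pullback.fst h₀ (D.map (l.hom ≫ 𝟙 i₀))) :=
      MorphismProperty.pullback_fst (P := @IsAffineHom) _ _ inferInstance
    have h : CompactSpace ↥(pullback h₀ (D.map (l.hom ≫ 𝟙 i₀))) :=
      QuasiCompact.compactSpace_of_compactSpace (pullback.fst h₀ (D.map (l.hom ≫ 𝟙 i₀)))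
    exact h
  have hqX : ∀ l : Over i₀, QuasiSeparatedSpace ↥((pbDiagram D (𝟙 i₀) h₀).obj l) := by
    intro l
    have : IsAffineHom (pullback.fst h₀ (D.map (l.hom ≫ 𝟙 i₀))) :=
      MorphismProperty.pullback_fst (P := @IsAffineHom) _ _ inferInstance
    have h : QuasiSeparatedSpace ↥(pullback h₀ (D.map (l.hom ≫ 𝟙 i₀))) :=
      quasiSeparatedSpace_of_quasiSeparated (pullback.fst h₀ (D.map (l.hom ≫ 𝟙 i₀)))
    exact h
  have hX : IsPullback (pullback.fst h₀ (c.π.app i₀)) (pullback.snd h₀ (c.π.app i₀)) h₀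
      (c.π.app i₀) := IsPullback.of_hasPullback _ _
  let tt : pbDiagram D (𝟙 i₀) h₀ ⟶ (Functor.const (Over i₀)).obj (D.obj i₀) :=
    { app := fun j => pullback.fst h₀ (D.map (j.hom ≫ 𝟙 i₀)) ≫ h₀
      naturality := fun j k a => by
        show pbMap D (𝟙 i₀) h₀ a ≫ pullback.fst h₀ (D.map (k.hom ≫ 𝟙 i₀)) ≫ h₀ = _
        rw [← Category.assoc, pbMap_fst]
        exact (Category.comp_id _).symm }
  obtain ⟨j, (gl : pullback h₀ (D.map (j.hom ≫ 𝟙 i₀)) ⟶ Y₀), hgl1, hgl2⟩ :=
    Scheme.exists_π_app_comp_eq_of_locallyOfFinitePresentation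
    (pbDiagram D (𝟙 i₀) h₀) tt g₀ (pbCone D (𝟙 i₀) h₀ c _ _ hX.w)
    (isLimitPbCone D (𝟙 i₀) h₀ c hc _ _ hX) t (by
      ext j
      show pbLift D (𝟙 i₀) h₀ c _ _ hX.w j ≫ pullback.fst h₀ (D.map (j.hom ≫ 𝟙 i₀)) ≫ h₀
        = t ≫ g₀
      rw [← Category.assoc, pbLift_fst, ht])
  exact ⟨j.left, j.hom ≫ 𝟙 i₀, gl, hgl2, hgl1⟩

end stage

section compat
variable {I : Type u} [SmallCategory I]
  (D : I ⥤ Scheme.{u}) (c : Limits.Cone D) {i j : I} (f : i ⟶ j) (Gj Hj : Over (D.obj j))

theorem compat_of_fst (u : Red.bc (c.π.app j) Gj ⟶ Red.bc (c.π.app j) Hj)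
    (ui : Red.bc (D.map f) Gj ⟶ Red.bc (D.map f) Hj)
    (h : pullback.lift (pullback.fst Gj.hom (c.π.app j))
        (pullback.snd Gj.hom (c.π.app j) ≫ c.π.app i)
        (by rw [pullback.condition, Category.assoc, c.w]) ≫ ui.left ≫
          pullback.fst Hj.hom (D.map f) = u.left ≫ pullback.fst Hj.hom (c.π.app j)) :
    (Over.pullback (c.π.app i)).map ui =
      (ActBC.bcCompIso (c.π.app i) (D.map f) Gj (c.w f)).hom ≫ u ≫
        (ActBC.bcCompIso (c.π.app i) (D.map f) Hj (c.w f)).inv := by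
  rw [← Category.assoc, Iso.eq_comp_inv]
  apply Over.OverMorphism.ext
  apply pullback.hom_ext
  · simp only [Over.comp_left, Category.assoc, ActBC.bcCompIso_hom_left_fst,
      ActBC.pullback_map_left_fst_assoc]
    rw [← h, ← Category.assoc (ActBC.bcCompIso (c.π.app i) (D.map f) Gj (c.w f)).hom.left]
    congr 1
    apply pullback.hom_ext
    · rw [Category.assoc, pullback.lift_fst, ActBC.bcCompIso_hom_left_fst]
    · rw [Category.assoc, pullback.lift_snd, ActBC.bcCompIso_hom_left_snd_assoc]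
      exact pullback.condition
  · exact (Over.w _).trans (Over.w _).symm

end compat

/-- Let S be the limit of a cofiltered system (S_i) of quasi-compact quasi-separated schemes with affine
transition morphisms, j an index and G_j, H_j two S_j-group schemes of finite presentation over S_j;
for i over j write G_i, H_i for the base changes to S_i and G, H for the base changes to S. Then the
canonical map colim_i Hom_{S_i-gr}(G_i, H_i) → Hom_{S-gr}(G, H) is bijective: (surjectivity) every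
homomorphism u : G → H of S-group schemes is, up to the canonical identifications (G_i) ×_{S_i} S ≅
G and (H_i) ×_{S_i} S ≅ H, the base change of a homomorphism u_i : G_i → H_i for some index i over
j; (injectivity) two homomorphisms G_i → H_i whose base changes to S coincide already coincide after
base change to S_{i'} for some index i' over i. (The published setting takes all S_i affine over a
fixed quasi-compact quasi-separated S_0; this row allows any cofiltered system of quasi-compact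
quasi-separated schemes with affine transition morphisms.) -/
theorem result {I : Type u} [SmallCategory I] [IsCofiltered I]
    (D : I ⥤ Scheme.{u}) (c : Limits.Cone D) (hc : Limits.IsLimit c)
    [∀ (i i' : I) (f : i ⟶ i'), IsAffineHom (D.map f)] [∀ i, CompactSpace (D.obj i)] [∀ i, QuasiSeparatedSpace (D.obj i)]
    (j : I) (Gj Hj : Over (D.obj j)) [GrpObj Gj] [GrpObj Hj]
    [LocallyOfFinitePresentation Gj.hom] [QuasiCompact Gj.hom] [QuasiSeparated Gj.hom]
    [LocallyOfFinitePresentation Hj.hom] [QuasiCompact Hj.hom] [QuasiSeparated Hj.hom] :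
    (∀ (u : Red.bc (c.π.app j) Gj ⟶ Red.bc (c.π.app j) Hj), IsMonHom u →
      ∃ (i : I) (f : i ⟶ j) (ui : Red.bc (D.map f) Gj ⟶ Red.bc (D.map f) Hj), IsMonHom ui ∧
        (Over.pullback (c.π.app i)).map ui = (((Over.pullbackComp (c.π.app i) (D.map f)).app Gj).symm ≪≫ eqToIso (congrArg (fun g => Red.bc g Gj) (c.w f))).hom ≫ u ≫ (((Over.pullbackComp (c.π.app i) (D.map f)).app Hj).symm ≪≫ eqToIso (congrArg (fun g => Red.bc g Hj) (c.w f))).inv) ∧
    (∀ (i : I) (f : i ⟶ j) (u₁ u₂ : Red.bc (D.map f) Gj ⟶ Red.bc (D.map f) Hj), IsMonHom u₁ → IsMonHom u₂ →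
      (Over.pullback (c.π.app i)).map u₁ = (Over.pullback (c.π.app i)).map u₂ →
      ∃ (i' : I) (g : i' ⟶ i), (Over.pullback (D.map g)).map u₁ = (Over.pullback (D.map g)).map u₂) := by
  have bcG : ∀ {i : I} (f : i ⟶ j), LocallyOfFinitePresentation (Red.bc (D.map f) Gj).hom ∧
      QuasiCompact (Red.bc (D.map f) Gj).hom ∧ QuasiSeparated (Red.bc (D.map f) Gj).hom :=
    fun f => ⟨inferInstanceAs (LocallyOfFinitePresentation (pullback.snd Gj.hom (D.map f))),
      inferInstanceAs (QuasiCompact (pullback.snd Gj.hom (D.map f))),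
      inferInstanceAs (QuasiSeparated (pullback.snd Gj.hom (D.map f)))⟩
  have bcH : ∀ {i : I} (f : i ⟶ j), LocallyOfFinitePresentation (Red.bc (D.map f) Hj).hom ∧
      QuasiCompact (Red.bc (D.map f) Hj).hom ∧ QuasiSeparated (Red.bc (D.map f) Hj).hom :=
    fun f => ⟨inferInstanceAs (LocallyOfFinitePresentation (pullback.snd Hj.hom (D.map f))),
      inferInstanceAs (QuasiCompact (pullback.snd Hj.hom (D.map f))),
      inferInstanceAs (QuasiSeparated (pullback.snd Hj.hom (D.map f)))⟩
  refine ⟨?_, ?_⟩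
  · intro u hu
    have ht : (u.left ≫ pullback.fst Hj.hom (c.π.app j)) ≫ Hj.hom =
        pullback.fst Gj.hom (c.π.app j) ≫ Gj.hom := by
      have hw : u.left ≫ pullback.snd Hj.hom (c.π.app j) = pullback.snd Gj.hom (c.π.app j) :=
        Over.w u
      rw [Category.assoc, pullback.condition, ← Category.assoc, hw, pullback.condition]
    obtain ⟨i₁, f₁, tl, htl, hcomp⟩ := exists_stage_pt D c hc j Gj.hom Hj.hom _ ht
    obtain ⟨g1, g2, g3⟩ := bcG f₁
    obtain ⟨h1, h2, h3⟩ := bcH f₁
    let τ₁ : (Over.map (D.map f₁)).obj (Red.bc (D.map f₁) Gj) ⟶ Hj := Over.homMk tl (by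
      rw [htl]
      exact pullback.condition)
    obtain ⟨u₁, hu₁def⟩ : ∃ u₁ : Red.bc (D.map f₁) Gj ⟶ Red.bc (D.map f₁) Hj,
        u₁ = ofUnder (D.map f₁) τ₁ := ⟨_, rfl⟩
    have hu₁ : u₁.left ≫ pullback.fst Hj.hom (D.map f₁) = tl := by
      have h0 := congrArg (fun m => m.left) (under_ofUnder (D.map f₁) τ₁)
      rw [← hu₁def] at h0
      simpa [τ₁] using h0
    have hC₁ := compat_of_fst D c f₁ Gj Hj u u₁ (by rw [hu₁]; exact hcomp)
    have hM₁ : IsMonHom ((Over.pullback (c.π.app i₁)).map u₁) := by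
      rw [hC₁]; infer_instance
    haveI : LocallyOfFinitePresentation (Red.bc (D.map f₁) Gj ⊗ Red.bc (D.map f₁) Gj).hom := by
      rw [Over.tensorObj_hom]; infer_instance
    haveI : QuasiCompact (Red.bc (D.map f₁) Gj ⊗ Red.bc (D.map f₁) Gj).hom := by
      rw [Over.tensorObj_hom]; infer_instance
    haveI : QuasiSeparated (Red.bc (D.map f₁) Gj ⊗ Red.bc (D.map f₁) Gj).hom := by
      rw [Over.tensorObj_hom]; infer_instance
    obtain ⟨i', g, hg⟩ := exists_stage_eq D c hc i₁ (mA u₁) (mB u₁)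
      ((monHom_iff_eqOn _ u₁).1 hM₁)
    have hM' : IsMonHom ((Over.pullback (D.map g)).map u₁) := (monHom_iff_eqOn _ u₁).2 hg
    have hcg : D.map g ≫ D.map f₁ = D.map (g ≫ f₁) := (D.map_comp g f₁).symm
    refine ⟨i', g ≫ f₁, (ActBC.bcCompIso (D.map g) (D.map f₁) Gj hcg).inv ≫
      (Over.pullback (D.map g)).map u₁ ≫ (ActBC.bcCompIso (D.map g) (D.map f₁) Hj hcg).hom,
      inferInstance, ?_⟩
    rw [stmtIso_eq _ _ (c.w (g ≫ f₁)), stmtIso_eq _ _ (c.w (g ≫ f₁))]
    apply compat_of_fst
    simp only [Over.comp_left, Category.assoc, ActBC.bcCompIso_hom_left_fst,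
      ActBC.pullback_map_left_fst_assoc, hu₁]
    rw [← hcomp]
    simp only [← Category.assoc]
    congr 1
    simp only [Category.assoc]
    apply pullback.hom_ext
    · simp only [Category.assoc]
      rw [bcCompIso_inv_left_fst_fst, pullback.lift_fst, pullback.lift_fst]
    · simp only [Category.assoc]
      have hcond : pullback.fst (Red.bc (D.map f₁) Gj).hom (D.map g) ≫
          pullback.snd Gj.hom (D.map f₁) = pullback.snd _ _ ≫ D.map g := pullback.condition
      rw [hcond, bcCompIso_inv_left_snd_assoc, pullback.lift_snd_assoc, pullback.lift_snd,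
        Category.assoc, c.w]
  · intro i f u₁ u₂ _ _ h
    obtain ⟨g1, g2, g3⟩ := bcG f
    obtain ⟨h1, h2, h3⟩ := bcH f
    obtain ⟨i', g, hg⟩ := exists_stage_eq D c hc i u₁ u₂ ((eqOn_iff_map_eq _ _ _).2 h)
    exact ⟨i', g, (eqOn_iff_map_eq _ _ _).1 hg⟩

end Groth.Agent.S6086
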