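import Groth.Statements.S6087
import Groth.Agent.H40.LimQuot

set_option autoImplicit false
universe u
open CategoryTheory CategoryTheory.Limits MonoidalCategory CartesianMonoidalCategory MonObj GrpObj AlgebraicGeometry
open SGA3

namespace Groth.Agent.S6087

open Groth.Agent.H40.LimQuot

section general
variable {S₀ S' : Scheme.{u}} (k : S' ⟶ S₀) {G G' : Over S₀} [GrpObj G] [GrpObj G'] (u : G' ⟶ G)

theorem mono_shear [Mono u] : Mono (lift ((G ◁ u) ≫ μ[G]) (fst G G')) := by
  constructor
  intro T a b hab
  have hs := congrArg (fun m => m ≫ fst _ _) hab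
  have ht := congrArg (fun m => m ≫ snd _ _) hab
  simp only [Category.assoc, lift_fst, lift_snd] at hs ht
  have ha : a ≫ (G ◁ u) ≫ μ[G] = (a ≫ fst G G') * (a ≫ snd G G' ≫ u) := by
    rw [Hom.mul_def, ← Category.assoc]
    congr 1
    apply CartesianMonoidalCategory.hom_ext
    · rw [Category.assoc, whiskerLeft_fst, lift_fst]
    · rw [Category.assoc, whiskerLeft_snd, lift_snd]
  have hb : b ≫ (G ◁ u) ≫ μ[G] = (b ≫ fst G G') * (b ≫ snd G G' ≫ u) := by
    rw [Hom.mul_def, ← Category.assoc]
    congr 1
    apply CartesianMonoidalCategory.hom_ext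
    · rw [Category.assoc, whiskerLeft_fst, lift_fst]
    · rw [Category.assoc, whiskerLeft_snd, lift_snd]
  rw [ha, hb, ht] at hs
  have h2 := mul_left_cancel hs
  apply CartesianMonoidalCategory.hom_ext
  · exact ht
  · rw [← cancel_mono u]
    simpa only [Category.assoc] using h2

theorem grpRep_iff :
    (∃ (Q : Over S') (p : (Red.bc k G) ⟶ Q), Flat p.left ∧ Surjective p.left ∧
      LocallyOfFinitePresentation p.left ∧
      IsPullback (((Red.bc k G) ◁ ((Over.pullback k).map u)) ≫ μ[(Red.bc k G)])
        (fst (Red.bc k G) (Red.bc k G')) p p) ↔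
    Rep k ((G ◁ u) ≫ μ[G]) (fst G G') := by
  have ha : ((Red.bc k G) ◁ ((Over.pullback k).map u)) ≫ μ[(Red.bc k G)] =
      Functor.LaxMonoidal.μ (Over.pullback k) G G' ≫ (Over.pullback k).map ((G ◁ u) ≫ μ[G]) := by
    have h1 : μ[(Red.bc k G)] = Functor.LaxMonoidal.μ (Over.pullback k) G G ≫
        (Over.pullback k).map μ[G] := rfl
    rw [h1, ← Category.assoc, Functor.LaxMonoidal.μ_natural_right, Category.assoc,
      ← Functor.map_comp]
  have hb : fst (Red.bc k G) (Red.bc k G') =
      Functor.LaxMonoidal.μ (Over.pullback k) G G' ≫ (Over.pullback k).map (fst G G') :=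
    (Functor.Monoidal.μ_fst (Over.pullback k) G G').symm
  constructor
  · rintro ⟨Q, p, h1, h2, h3, h4⟩
    refine ⟨Q, p, h1, h2, h3, ?_⟩
    refine IsPullback.of_iso h4 (Functor.Monoidal.μIso (Over.pullback k) G G') (Iso.refl _)
      (Iso.refl _) (Iso.refl _) ?_ ?_ ?_ ?_
    · simp only [Iso.refl_hom, Category.comp_id, Functor.Monoidal.μIso_hom]
      exact ha
    · simp only [Iso.refl_hom, Category.comp_id, Functor.Monoidal.μIso_hom]
      exact hb
    · simp
    · simp
  · rintro ⟨Q, p, h1, h2, h3, h4⟩
    refine ⟨Q, p, h1, h2, h3, ?_⟩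
    refine IsPullback.of_iso h4 (Functor.Monoidal.μIso (Over.pullback k) G G').symm (Iso.refl _)
      (Iso.refl _) (Iso.refl _) ?_ ?_ ?_ ?_
    · simp only [Iso.refl_hom, Category.comp_id, Iso.symm_hom]
      rw [Iso.eq_inv_comp, Functor.Monoidal.μIso_hom]
      exact ha.symm
    · simp only [Iso.refl_hom, Category.comp_id, Iso.symm_hom]
      rw [Iso.eq_inv_comp, Functor.Monoidal.μIso_hom]
      exact hb.symm
    · simp
    · simp

end general

/-- Let S be the limit of a cofiltered system (S_i) of quasi-compact quasi-separated schemes with affine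
transition morphisms, j an index, G_j an S_j-group scheme of finite presentation over S_j and u_j :
G'_j → G_j a subgroup scheme (a homomorphism which is a monomorphism) with G'_j flat and of finite
presentation over S_j. For a base change G, G' of G_j, G'_j say that G/G' is representable when
there are Q and a morphism p : G → Q which is flat, surjective and locally of finite presentation
and makes the square formed by (g, h) ↦ g · u(h), the first projection G × G' → G and p (twice)
cartesian. Then G/G' is representable over S for the base changes to S if and only if there is an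
index i over j such that G_i/G'_i is representable over S_i for the base changes to S_i. (The
published statement is for representability of the fpqc quotient sheaf; with G' flat of finite
presentation this is the same as the existence of such a p. The published setting takes all S_i
affine over a fixed quasi-compact quasi-separated S_0.) -/
theorem result {I : Type u} [SmallCategory I] [IsCofiltered I]
    (D : I ⥤ Scheme.{u}) (c : Limits.Cone D) (hc : Limits.IsLimit c)
    [∀ (i i' : I) (f : i ⟶ i'), IsAffineHom (D.map f)] [∀ i, CompactSpace (D.obj i)] [∀ i, QuasiSeparatedSpace (D.obj i)]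
    (j : I) (Gj G'j : Over (D.obj j)) [GrpObj Gj] [GrpObj G'j]
    [LocallyOfFinitePresentation Gj.hom] [QuasiCompact Gj.hom] [QuasiSeparated Gj.hom]
    [Flat G'j.hom] [LocallyOfFinitePresentation G'j.hom] [QuasiCompact G'j.hom] [QuasiSeparated G'j.hom]
    (uj : G'j ⟶ Gj) [IsMonHom uj] [Mono uj] :
    (∃ (Q : Over c.pt) (p : (Red.bc (c.π.app j) Gj) ⟶ Q), Flat p.left ∧ Surjective p.left ∧ LocallyOfFinitePresentation p.left ∧
        IsPullback (((Red.bc (c.π.app j) Gj) ◁ ((Over.pullback (c.π.app j)).map uj)) ≫ μ[(Red.bc (c.π.app j) Gj)]) (fst (Red.bc (c.π.app j) Gj) (Red.bc (c.π.app j) G'j)) p p) ↔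
    ∃ (i : I) (f : i ⟶ j), ∃ (Q : Over (D.obj i)) (p : (Red.bc (D.map f) Gj) ⟶ Q), Flat p.left ∧ Surjective p.left ∧ LocallyOfFinitePresentation p.left ∧
        IsPullback (((Red.bc (D.map f) Gj) ◁ ((Over.pullback (D.map f)).map uj)) ≫ μ[(Red.bc (D.map f) Gj)]) (fst (Red.bc (D.map f) Gj) (Red.bc (D.map f) G'j)) p p := by
  haveI : LocallyOfFinitePresentation (Gj ⊗ G'j).hom := by rw [Over.tensorObj_hom]; infer_instance
  haveI : QuasiCompact (Gj ⊗ G'j).hom := by rw [Over.tensorObj_hom]; infer_instance
  haveI : QuasiSeparated (Gj ⊗ G'j).hom := by rw [Over.tensorObj_hom]; infer_instance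
  haveI := mono_shear uj
  refine (grpRep_iff (c.π.app j) uj).trans
    ((rep_iff D c hc j ((Gj ◁ uj) ≫ μ[Gj]) (fst Gj G'j)).trans ?_)
  constructor
  · rintro ⟨i, f, h⟩
    exact ⟨i, f, (grpRep_iff (D.map f) uj).2 h⟩
  · rintro ⟨i, f, h⟩
    exact ⟨i, f, (grpRep_iff (D.map f) uj).1 h⟩

end Groth.Agent.S6087
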