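import Groth.Statements.S6089
import Groth.Agent.H63.RedQuotMain

set_option autoImplicit false
universe u
open CategoryTheory CategoryTheory.Limits MonoidalCategory CartesianMonoidalCategory MonObj GrpObj AlgebraicGeometry
open SGA3

namespace Groth.Agent.S6089

/-- Let k be a perfect field and u : F → G a homomorphism of k-group schemes locally of finite type over
k. Let a : F' → F and b : G' → G be homomorphisms which are closed immersions, surjective on
underlying spaces, with F' and G' reduced (the subgroups F_red and G_red), let p : F → X and q : G →
Y be k-morphisms which are flat, surjective and locally of finite presentation and make the squares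
formed by (f', f) ↦ a(f') · f, the second projection, p, p (and likewise for b, q) cartesian (the
quotients of F and G by the left actions of F_red and G_red), and let v : X → Y satisfy p v = u q.
Then u is flat if and only if (ii) holds: the neutral component of G (the connected component of the
unit point) is contained in the closure of the image under u of the neutral component of F, and v is
flat. -/
theorem result (k : Type u) [Field k] [PerfectField k]
    (F G F' G' : Over (Spec (CommRingCat.of k))) [GrpObj F] [GrpObj G] [GrpObj F'] [GrpObj G']
    [LocallyOfFiniteType F.hom] [LocallyOfFiniteType G.hom] (u : F ⟶ G) [IsMonHom u]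
    [IsReduced F'.left] (a : F' ⟶ F) [IsMonHom a] [IsClosedImmersion a.left] [Surjective a.left]
    [IsReduced G'.left] (b : G' ⟶ G) [IsMonHom b] [IsClosedImmersion b.left] [Surjective b.left]
    (X Y : Over (Spec (CommRingCat.of k))) (p : F ⟶ X) [Flat p.left] [Surjective p.left] [LocallyOfFinitePresentation p.left]
    (hp : IsPullback ((a ▷ F) ≫ μ[F]) (snd F' F) p p)
    (q : G ⟶ Y) [Flat q.left] [Surjective q.left] [LocallyOfFinitePresentation q.left]
    (hq : IsPullback ((b ▷ G) ≫ μ[G]) (snd G' G) q q)
    (v : X ⟶ Y) (hv : p ≫ v = u ≫ q) :
    Flat u.left ↔
      ((∀ p₀ : (𝟙_ (Over (Spec (CommRingCat.of k)))).left, connectedComponent ((η[G] : (𝟙_ (Over (Spec (CommRingCat.of k)))) ⟶ G).left.base p₀) ⊆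
          closure (u.left.base '' connectedComponent ((η[F] : (𝟙_ (Over (Spec (CommRingCat.of k)))) ⟶ F).left.base p₀))) ∧
        Flat v.left) := by
  exact Groth.Agent.H63.RedQuotMain.flat_hom_iff F G F' G' u a b X Y p hp q hq v hv

end Groth.Agent.S6089
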