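import Groth.Statements.S6092
import Groth.Agent.S6086
import Groth.Agent.H24.CoverDescend

set_option autoImplicit false
universe u
open CategoryTheory CategoryTheory.Limits MonoidalCategory CartesianMonoidalCategory MonObj GrpObj AlgebraicGeometry
open SGA3

namespace Groth.Agent.S6092

open Groth.Agent.H63.BCPoints Groth.Agent.S18878 Groth.Agent.S6088 Groth.Agent.S6086

section general
variable {S₀ S' : Scheme.{u}} (k : S' ⟶ S₀) {A B : Over S₀} (φ : A ⟶ B)

theorem isIso_iff : IsIso ((Over.pullback k).map φ) ↔ InjOn k φ ∧ Fact k φ (𝟙 B) := by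
  constructor
  · intro h
    refine ⟨(mono_iff_injOn k φ).1 inferInstance, PtFact.fact ?_⟩
    intro T t
    refine ⟨ofUnder k t ≫ inv ((Over.pullback k).map φ), ?_⟩
    rw [Category.assoc, IsIso.inv_hom_id, Category.comp_id, under_ofUnder, Category.comp_id]
  · rintro ⟨h1, h2⟩
    haveI : Mono ((Over.pullback k).map φ) := (mono_iff_injOn k φ).2 h1
    obtain ⟨z, hz⟩ := h2.ptFact ((Over.pullback k).obj B) (under k (𝟙 _))
    have hz' : z ≫ (Over.pullback k).map φ = 𝟙 _ := by
      apply under_injective k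
      rw [hz, Category.comp_id]
    haveI : IsSplitEpi ((Over.pullback k).map φ) := ⟨⟨⟨z, hz'⟩⟩⟩
    exact isIso_of_mono_of_isSplitEpi _

end general

section tors
variable {S₀ S' : Scheme.{u}} (k : S' ⟶ S₀) {G X : Over S₀} (a : G ⊗ X ⟶ X)

noncomputable abbrev Phi : G ⊗ X ⟶ X ⊗ X := lift a (snd G X)

theorem phi_eq :
    lift (Functor.LaxMonoidal.μ (Over.pullback k) G X ≫ (Over.pullback k).map a)
        (snd (Red.bc k G) (Red.bc k X)) =
      Functor.LaxMonoidal.μ (Over.pullback k) G X ≫ (Over.pullback k).map (Phi a) ≫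
        inv (Functor.LaxMonoidal.μ (Over.pullback k) X X) := by
  have h1 : inv (Functor.LaxMonoidal.μ (Over.pullback k) X X) ≫ fst _ _ =
      (Over.pullback k).map (fst X X) := by
    rw [IsIso.inv_comp_eq, Functor.Monoidal.μ_fst]
  have h2 : inv (Functor.LaxMonoidal.μ (Over.pullback k) X X) ≫ snd _ _ =
      (Over.pullback k).map (snd X X) := by
    rw [IsIso.inv_comp_eq, Functor.Monoidal.μ_snd]
  apply CartesianMonoidalCategory.hom_ext
  · rw [lift_fst, Category.assoc, Category.assoc, h1, ← Functor.map_comp, lift_fst]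
  · rw [lift_snd, Category.assoc, Category.assoc, h2, ← Functor.map_comp, lift_snd,
      Functor.Monoidal.μ_snd]

theorem isIso_phi_iff :
    IsIso (lift (Functor.LaxMonoidal.μ (Over.pullback k) G X ≫ (Over.pullback k).map a)
        (snd (Red.bc k G) (Red.bc k X))) ↔ IsIso ((Over.pullback k).map (Phi a)) := by
  rw [phi_eq]
  constructor
  · intro h
    have e : (Over.pullback k).map (Phi a) =
        inv (Functor.LaxMonoidal.μ (Over.pullback k) G X) ≫
          (Functor.LaxMonoidal.μ (Over.pullback k) G X ≫ (Over.pullback k).map (Phi a) ≫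
            inv (Functor.LaxMonoidal.μ (Over.pullback k) X X)) ≫
          Functor.LaxMonoidal.μ (Over.pullback k) X X := by
      rw [Category.assoc, Category.assoc, IsIso.inv_hom_id, Category.comp_id,
        IsIso.inv_hom_id_assoc]
    rw [e]
    infer_instance
  · intro h
    infer_instance

/-- the structure morphism of the base change of `X` is an fppf covering -/
def CovAt (X : Over S₀) : Prop :=
  ∃ (Z : Scheme.{u}) (v : Z ⟶ S') (w : Z ⟶ (Red.bc k X).left), w ≫ (Red.bc k X).hom = v ∧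
    Flat v ∧ Surjective v ∧ LocallyOfFinitePresentation v ∧ QuasiCompact v ∧ QuasiSeparated v

variable {k}

theorem CovAt.precomp {X : Over S₀} (h : CovAt k X) {S'' : Scheme.{u}} (k' : S'' ⟶ S') :
    CovAt (k' ≫ k) X := by
  obtain ⟨Z, v, w, hw, h1, h2, h3, h4, h5⟩ := h
  have hw' : w ≫ pullback.snd X.hom k = v := hw
  have cond : (pullback.fst v k' ≫ w ≫ pullback.fst X.hom k) ≫ X.hom =
      pullback.snd v k' ≫ k' ≫ k := by
    rw [Category.assoc, Category.assoc, pullback.condition, ← Category.assoc w, hw',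
      ← Category.assoc, pullback.condition, Category.assoc]
  exact ⟨pullback v k', pullback.snd v k',
    pullback.lift (pullback.fst v k' ≫ w ≫ pullback.fst X.hom k) (pullback.snd v k') cond,
    pullback.lift_snd _ _ _, inferInstance, inferInstance, inferInstance, inferInstance,
    inferInstance⟩

end tors

section stage
variable {I : Type u} [SmallCategory I] [IsCofiltered I]
  (D : I ⥤ Scheme.{u}) (c : Limits.Cone D) (hc : Limits.IsLimit c)
  [∀ (i j : I) (a : i ⟶ j), IsAffineHom (D.map a)]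
  [∀ i, CompactSpace (D.obj i)] [∀ i, QuasiSeparatedSpace (D.obj i)]

omit [IsCofiltered I] [∀ (i j : I) (a : i ⟶ j), IsAffineHom (D.map a)]
  [∀ i, CompactSpace (D.obj i)] [∀ i, QuasiSeparatedSpace (D.obj i)] in
theorem CovAt.restage {i₀ : I} {X : Over (D.obj i₀)} {j k : I} {φ : j ⟶ i₀}
    (h : CovAt (D.map φ) X) (b : k ⟶ j) : CovAt (D.map (b ≫ φ)) X := by
  rw [D.map_comp]
  exact h.precomp (D.map b)

open Groth.Agent.H24 in
include hc in
theorem exists_stage_cov (j : I) (Xj : Over (D.obj j)) [LocallyOfFinitePresentation Xj.hom]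
    (h : CovAt (c.π.app j) Xj) : ∃ (i : I) (f : i ⟶ j), CovAt (D.map f) Xj := by
  haveI hAff : ∀ {i j : I} (f : i ⟶ j), IsAffineHom (D.map f) := fun f => inferInstance
  obtain ⟨Z, v, w, hw, hfl, hsurj, hlfp, hqc, hqs⟩ := h
  have hw' : w ≫ pullback.snd Xj.hom (c.π.app j) = v := hw
  obtain ⟨i₁, Z₁, h₁, g₁, p1, p2, p3, sq₁⟩ := desc_of_finitePresentation hc v
  haveI : CompactSpace Z₁ := QuasiCompact.compactSpace_of_compactSpace h₁
  haveI : QuasiSeparatedSpace Z₁ := quasiSeparatedSpace_of_quasiSeparated h₁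
  obtain ⟨i₂, hQ⟩ := QDescAt.of_squares (Q := @Flat) h₁ g₁ sq₁
    (descendsAlongLimits_flat D c hc i₁ h₁ (𝟙 _) v (𝟙 _) (c.π.app i₁) g₁ (IsPullback.id_vert _)
      sq₁ hfl)
  obtain ⟨Z₃, h₃, g₃, hflat₃, q1, q2, q3, sq₃⟩ := hQ.restage (IsCofiltered.minToLeft i₂ j)
  haveI : Flat h₃ := hflat₃
  -- surjectivity at a later stage
  let O : (D.obj (IsCofiltered.min i₂ j)).Opens := ⟨Set.range h₃, h₃.isOpenMap.isOpen_range⟩
  have hO : c.π.app (IsCofiltered.min i₂ j) ⁻¹ᵁ O = ⊤ := by
    rw [eq_top_iff]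
    intro x _
    obtain ⟨y, hy⟩ := hsurj.surj x
    change (c.π.app (IsCofiltered.min i₂ j)) x ∈ Set.range h₃
    refine ⟨g₃ y, ?_⟩
    rw [← hy, ← Scheme.Hom.comp_apply, ← Scheme.Hom.comp_apply, sq₃.w]
  obtain ⟨i₄, φ, hφ⟩ := exists_map_eq_top D c hc O hO
  obtain ⟨g₄, hg41, hg42, sq₄⟩ := restage_data h₃ g₃ sq₃ φ
  have hsurj₄ : Surjective (pullback.snd h₃ (D.map φ)) := by
    constructor
    intro x
    have hx : (D.map φ) x ∈ O := by
      have : x ∈ D.map φ ⁻¹ᵁ O := by rw [hφ]; trivial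
      exact this
    obtain ⟨z, hz⟩ : (D.map φ) x ∈ Set.range h₃ := hx
    obtain ⟨y, -, hy⟩ :=
      Scheme.Pullback.exists_preimage_pullback (f := h₃) (g := D.map φ) z x hz
    exact ⟨y, hy⟩
  -- descend `w`
  obtain ⟨b, hb⟩ : ∃ b : i₄ ⟶ j, b = φ ≫ IsCofiltered.minToRight i₂ j := ⟨_, rfl⟩
  have hwcond : (w ≫ pullback.fst Xj.hom (c.π.app j)) ≫ Xj.hom =
      (v ≫ c.π.app i₄) ≫ D.map b := by
    rw [Category.assoc, pullback.condition, ← Category.assoc, hw', Category.assoc, c.w]
  let t : pullback (pullback.snd h₃ (D.map φ)) (c.π.app i₄) ⟶ pullback Xj.hom (D.map b) :=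
    sq₄.isoPullback.inv ≫ pullback.lift (w ≫ pullback.fst Xj.hom (c.π.app j)) (v ≫ c.π.app i₄)
      hwcond
  have ht : t ≫ pullback.snd Xj.hom (D.map b) =
      pullback.fst (pullback.snd h₃ (D.map φ)) (c.π.app i₄) ≫ pullback.snd h₃ (D.map φ) := by
    simp only [t, Category.assoc]
    rw [pullback.lift_snd, ← Category.assoc, sq₄.isoPullback_inv_snd, pullback.condition]
  obtain ⟨i₅, ψ, tl, htl, -⟩ := exists_stage_pt D c hc i₄ (pullback.snd h₃ (D.map φ))
    (pullback.snd Xj.hom (D.map b)) t ht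
  have cond5 : (tl ≫ pullback.fst Xj.hom (D.map b)) ≫ Xj.hom =
      pullback.snd (pullback.snd h₃ (D.map φ)) (D.map ψ) ≫ D.map (ψ ≫ b) := by
    rw [Category.assoc, pullback.condition, ← Category.assoc, htl, Category.assoc,
      pullback.condition_assoc, D.map_comp]
  refine ⟨i₅, ψ ≫ b, pullback (pullback.snd h₃ (D.map φ)) (D.map ψ),
    pullback.snd (pullback.snd h₃ (D.map φ)) (D.map ψ),
    pullback.lift (tl ≫ pullback.fst Xj.hom (D.map b))
      (pullback.snd (pullback.snd h₃ (D.map φ)) (D.map ψ)) cond5,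
    pullback.lift_snd _ _ _, inferInstance, inferInstance, inferInstance, inferInstance,
    inferInstance⟩

end stage

/-- Let S be the limit of a cofiltered system (S_i) of quasi-compact quasi-separated schemes with affine
transition morphisms, j an index, G_j an S_j-group scheme and X_j an S_j-scheme with an action of
G_j, both of finite presentation over S_j. For a base change G, X (with the base-changed action) say
that X is a G-torsor for the fppf topology when (g, x) ↦ (g · x, x) is an isomorphism G × X → X × X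
and the structure morphism of X is covering for the fppf topology: some faithfully flat morphism of
finite presentation Z → (base) factors through X. Then X_j ×_{S_j} S is a torsor under G_j ×_{S_j} S
if and only if there is an index i over j such that X_j ×_{S_j} S_i is a torsor under G_j ×_{S_j}
S_i. (The published statement also treats homogeneous spaces, where (g, x) ↦ (g · x, x) is only
required to be an fppf covering; that case is not stated. The published setting takes all S_i affine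
over a fixed quasi-compact quasi-separated S_0.) -/
theorem result {I : Type u} [SmallCategory I] [IsCofiltered I]
    (D : I ⥤ Scheme.{u}) (c : Limits.Cone D) (hc : Limits.IsLimit c)
    [∀ (i i' : I) (f : i ⟶ i'), IsAffineHom (D.map f)] [∀ i, CompactSpace (D.obj i)] [∀ i, QuasiSeparatedSpace (D.obj i)]
    (j : I) (Gj Xj : Over (D.obj j)) [GrpObj Gj] (act : AlgGrp.Action Gj Xj)
    [LocallyOfFinitePresentation Gj.hom] [QuasiCompact Gj.hom] [QuasiSeparated Gj.hom]
    [LocallyOfFinitePresentation Xj.hom] [QuasiCompact Xj.hom] [QuasiSeparated Xj.hom] :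
    (IsIso (lift (Functor.LaxMonoidal.μ (Over.pullback (c.π.app j)) Gj Xj ≫ (Over.pullback (c.π.app j)).map act.act) (snd (Red.bc (c.π.app j) Gj) (Red.bc (c.π.app j) Xj))) ∧
        ∃ (Z : Scheme.{u}) (v : Z ⟶ c.pt) (w : Z ⟶ (Red.bc (c.π.app j) Xj).left), w ≫ (Red.bc (c.π.app j) Xj).hom = v ∧
          Flat v ∧ Surjective v ∧ LocallyOfFinitePresentation v ∧ QuasiCompact v ∧ QuasiSeparated v) ↔
    ∃ (i : I) (f : i ⟶ j), (IsIso (lift (Functor.LaxMonoidal.μ (Over.pullback (D.map f)) Gj Xj ≫ (Over.pullback (D.map f)).map act.act) (snd (Red.bc (D.map f) Gj) (Red.bc (D.map f) Xj))) ∧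
        ∃ (Z : Scheme.{u}) (v : Z ⟶ (D.obj i)) (w : Z ⟶ (Red.bc (D.map f) Xj).left), w ≫ (Red.bc (D.map f) Xj).hom = v ∧
          Flat v ∧ Surjective v ∧ LocallyOfFinitePresentation v ∧ QuasiCompact v ∧ QuasiSeparated v) := by
  haveI : LocallyOfFinitePresentation (Gj ⊗ Xj).hom := by rw [Over.tensorObj_hom]; infer_instance
  haveI : QuasiCompact (Gj ⊗ Xj).hom := by rw [Over.tensorObj_hom]; infer_instance
  haveI : QuasiSeparated (Gj ⊗ Xj).hom := by rw [Over.tensorObj_hom]; infer_instance
  haveI : LocallyOfFinitePresentation (Xj ⊗ Xj).hom := by rw [Over.tensorObj_hom]; infer_instance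
  haveI : QuasiCompact (Xj ⊗ Xj).hom := by rw [Over.tensorObj_hom]; infer_instance
  haveI : QuasiSeparated (Xj ⊗ Xj).hom := by rw [Over.tensorObj_hom]; infer_instance
  haveI : LocallyOfFinitePresentation ((Phi act.act).left ≫ (Xj ⊗ Xj).hom) := by
    rw [Over.w (Phi act.act)]; infer_instance
  haveI : QuasiCompact ((Phi act.act).left ≫ (Xj ⊗ Xj).hom) := by
    rw [Over.w (Phi act.act)]; infer_instance
  haveI : QuasiSeparated ((Phi act.act).left ≫ (Xj ⊗ Xj).hom) := by
    rw [Over.w (Phi act.act)]; infer_instance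
  haveI : LocallyOfFinitePresentation (Phi act.act).left :=
    Groth.Agent.H49.SmoothFibreMap.lfp_of_comp_of_lft (Phi act.act).left (Xj ⊗ Xj).hom
      inferInstance inferInstance
  haveI : QuasiCompact (Phi act.act).left := QuasiCompact.of_comp (Phi act.act).left (Xj ⊗ Xj).hom
  haveI : QuasiSeparated (Phi act.act).left :=
    QuasiSeparated.of_comp (Phi act.act).left (Xj ⊗ Xj).hom
  constructor
  · rintro ⟨hiso, hcov⟩
    obtain ⟨hinj, hfact⟩ := (isIso_iff (c.π.app j) (Phi act.act)).1
      ((isIso_phi_iff (c.π.app j) act.act).1 hiso)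
    have s1 := exists_stage_injOn D c hc j (Phi act.act) hinj
    have s2 := exists_stage' D c hc j (Phi act.act) hinj (𝟙 (Xj ⊗ Xj)) hfact
    have s3 := exists_stage_cov D c hc j Xj hcov
    have s12 := exists_common j (fun i φ => InjOn (D.map φ) (Phi act.act))
      (fun i φ => Fact (D.map φ) (Phi act.act) (𝟙 (Xj ⊗ Xj)))
      (fun φ b h => InjOn.restage D j (Phi act.act) h b)
      (fun φ b h => Fact.restage D j (Phi act.act) h b) s1 s2
    obtain ⟨i, f, ⟨h1, h2⟩, h3⟩ := exists_common j
      (fun i φ => InjOn (D.map φ) (Phi act.act) ∧ Fact (D.map φ) (Phi act.act) (𝟙 (Xj ⊗ Xj)))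
      (fun i φ => CovAt (D.map φ) Xj)
      (fun φ b h => ⟨InjOn.restage D j (Phi act.act) h.1 b,
        Fact.restage D j (Phi act.act) h.2 b⟩)
      (fun φ b h => CovAt.restage D h b) s12 s3
    exact ⟨i, f, (isIso_phi_iff (D.map f) act.act).2 ((isIso_iff _ _).2 ⟨h1, h2⟩), h3⟩
  · rintro ⟨i, f, hiso, hcov⟩
    obtain ⟨hinj, hfact⟩ := (isIso_iff (D.map f) (Phi act.act)).1
      ((isIso_phi_iff (D.map f) act.act).1 hiso)
    have h1 := hinj.precomp (c.π.app i)
    have h2 := hfact.precomp (c.π.app i)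
    have hcov' : CovAt (D.map f) Xj := hcov
    have h3 := hcov'.precomp (c.π.app i)
    rw [c.w f] at h1 h2 h3
    exact ⟨(isIso_phi_iff (c.π.app j) act.act).2 ((isIso_iff _ _).2 ⟨h1, h2⟩), h3⟩

end Groth.Agent.S6092
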