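import Groth.Statements.S6119
import Groth.Agent.H54.T6_DESC
import Groth.Agent.H54.T6_FPPF
import Groth.Agent.H64.T6_PB
import Groth.Agent.H33.TQ_QU

set_option autoImplicit false
open CategoryTheory MonoidalCategory CartesianMonoidalCategory MonObj GrpObj AlgebraicGeometry
universe u
open RedSub

namespace Groth.Agent.S6119
open CategoryTheory.Limits
open Groth.Agent.H54.T6_DESC Groth.Agent.H54.T6_FPPF Groth.Agent.H64.T6_PB Groth.Agent.H33.TQ_QU


/-- The identification G/H ≅ corad(G)/corad(H): let G be a reductive S-group, d : D ⟶ G its derived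
group and f₀ : G ⟶ C its coradical (C commutative, D = Ker f₀, f₀ the fppf quotient G/D, D killed by
every homomorphism to a commutative S-group scheme). Let t : T'' ⟶ C be a subtorus, H = G x_C T''
its preimage under f₀ (with projections k : H ⟶ G and g : H ⟶ T''), and q : G ⟶ Q the fppf quotient
of G by H. Then q factors uniquely as f₀ followed by q' : C ⟶ Q, and q' exhibits Q as the fppf
quotient of C by T''. -/
theorem result {S : Scheme.{u}} {G D C T'' H Q : Over S} [GrpObj G] [GrpObj D]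
    [GrpObj C] [GrpObj T''] [GrpObj H] (hG : Red.IsReductive G) (d : D ⟶ G) [IsMonHom d]
    (f₀ : G ⟶ C) [IsMonHom f₀] (hC : ∀ (X : Over S) (a b : X ⟶ C), a * b = b * a) (hker : AlgGrp.IsKernel d f₀)
    (hquot : RedSub.IsQuotient d f₀) (hkill : RedSub.KilledByCommutative d)
    (t : T'' ⟶ C) [IsMonHom t] [Mono t] (hT'' : Red.IsTorus T'') (k : H ⟶ G) [IsMonHom k] (g : H ⟶ T'') [IsMonHom g]
    (hsq : IsPullback k g f₀ t) (q : G ⟶ Q) (hq : RedSub.IsQuotient k q) :
    ∃! q' : C ⟶ Q, f₀ ≫ q' = q ∧ RedSub.IsQuotient t q' := by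
  obtain ⟨hqs, hqf, hqp, hqsq⟩ := hq
  obtain ⟨hfs, hff, hfp, hfsq⟩ := hquot
  have hf₀epi : Epi f₀ := epi_of_fppf f₀ hfs hff hfp
  -- `D` maps to `H`
  have hd1 : d ≫ f₀ = toUnit D ≫ η[C] := by
    have h := (show IsPullback d (toUnit D) f₀ η[C] from hker).w
    exact h
  obtain ⟨e, he⟩ : ∃ e : D ⟶ H, e ≫ k = d := by
    refine ⟨hsq.lift d (toUnit D ≫ η[T'']) ?_, hsq.lift_fst _ _ _⟩
    rw [hd1, Category.assoc, IsMonHom.one_hom]
  -- `q` is invariant under `D`
  have hinv : fst G D ≫ q = ((G ◁ d) ≫ μ[G]) ≫ q := by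
    have h1 : (G ◁ d) ≫ μ[G] = (G ◁ e) ≫ ((G ◁ k) ≫ μ[G]) := by
      rw [← Category.assoc, ← MonoidalCategory.whiskerLeft_comp, he]
    rw [h1, Category.assoc, ← hqsq.w, ← Category.assoc]
    congr 1
    simp
  obtain ⟨q', hq'⟩ := exists_desc_of_invariant d f₀ ⟨hfs, hff, hfp, hfsq⟩ q hinv
  have hfppf : Surjective q'.left ∧ Flat q'.left ∧ LocallyOfFinitePresentation q'.left := by
    have hc : f₀.left ≫ q'.left = q.left := by rw [← Over.comp_left, hq']
    have h1 : Surjective (f₀.left ≫ q'.left) := by rw [hc]; exact hqs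
    have h2 : Flat (f₀.left ≫ q'.left) := by rw [hc]; exact hqf
    have h3 : LocallyOfFinitePresentation (f₀.left ≫ q'.left) := by rw [hc]; exact hqp
    exact fppf_of_comp_fppf f₀.left q'.left hfs hff hfp h1 h2 h3
  have hpb := isPullback_third_iso d f₀ ⟨hfs, hff, hfp, hfsq⟩ t k g hsq q ⟨hqs, hqf, hqp, hqsq⟩ q' hq'
  refine ⟨q', ⟨hq', hfppf.1, hfppf.2.1, hfppf.2.2, hpb⟩, ?_⟩
  rintro y ⟨hy, -⟩
  rw [← cancel_epi f₀, hy, hq']

end Groth.Agent.S6119
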