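import Groth.Statements.S6120
-- import your own Groth.Agent.* helpers here

set_option autoImplicit false
open CategoryTheory CategoryTheory.Limits Opposite
universe w v₁ v₂ u₁ u₂
open SGA4

namespace Groth.Agent.S6120

section
variable {I : Type u₁} [Category.{v₁} I] {C : Type u₂} [Category.{v₂} C] {A : Type w} (i : A → I)
    [∀ α β, HasBinaryProduct (i α) (i β)] (F : Iᵒᵖ ⥤ C)
    [HasProduct (fun α => F.obj (op (i α)))]
    [HasProduct (fun p : A × A => F.obj (op (i p.1 ⨯ i p.2)))]

/-- first map -/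
noncomputable def d₀ : ∏ᶜ (fun α => F.obj (op (i α))) ⟶
    ∏ᶜ (fun p : A × A => F.obj (op (i p.1 ⨯ i p.2))) :=
  Pi.lift (fun p : A × A =>
    Pi.π (fun α => F.obj (op (i α))) p.1 ≫ F.map (prod.fst : i p.1 ⨯ i p.2 ⟶ i p.1).op)

/-- second map -/
noncomputable def d₁ : ∏ᶜ (fun α => F.obj (op (i α))) ⟶
    ∏ᶜ (fun p : A × A => F.obj (op (i p.1 ⨯ i p.2))) :=
  Pi.lift (fun p : A × A =>
    Pi.π (fun α => F.obj (op (i α))) p.2 ≫ F.map (prod.snd : i p.1 ⨯ i p.2 ⟶ i p.2).op)

theorem indep {T : C} (t : T ⟶ ∏ᶜ (fun α => F.obj (op (i α)))) (ht : t ≫ d₀ i F = t ≫ d₁ i F)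
    {j : I} {α β : A} (g : j ⟶ i α) (g' : j ⟶ i β) :
    t ≫ Pi.π (fun α => F.obj (op (i α))) α ≫ F.map g.op =
      t ≫ Pi.π (fun α => F.obj (op (i α))) β ≫ F.map g'.op := by
  have h1 : g = prod.lift g g' ≫ prod.fst := (prod.lift_fst g g').symm
  have h2 : g' = prod.lift g g' ≫ prod.snd := (prod.lift_snd g g').symm
  have e := congrArg (fun x => x ≫ Pi.π (fun p : A × A => F.obj (op (i p.1 ⨯ i p.2))) (α, β) ≫
    F.map (prod.lift g g').op) ht
  simp only [d₀, d₁, Category.assoc, Pi.lift_π_assoc] at e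
  conv_lhs => rw [h1]
  conv_rhs => rw [h2]
  simpa only [op_comp, Functor.map_comp, Category.assoc] using e

variable (hcov : ∀ j : I, ∃ α, Nonempty (j ⟶ i α))

/-- the cone on a map equalizing `d₀` and `d₁` -/
noncomputable abbrev coneOf (hcov : ∀ j : I, ∃ α, Nonempty (j ⟶ i α)) {T : C}
    (t : T ⟶ ∏ᶜ (fun α => F.obj (op (i α)))) (ht : t ≫ d₀ i F = t ≫ d₁ i F) : Cone F where
  pt := T
  π :=
    { app := fun j => t ≫ Pi.π (fun α => F.obj (op (i α))) (hcov j.unop).choose ≫
        F.map (hcov j.unop).choose_spec.some.op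
      naturality := by
        intro j j' f
        simp only [Functor.const_obj_obj, Functor.const_obj_map, Category.id_comp, Category.assoc]
        rw [← F.map_comp]
        exact indep i F t ht _ _ }

theorem coneOf_π (hcov : ∀ j : I, ∃ α, Nonempty (j ⟶ i α)) {T : C}
    (t : T ⟶ ∏ᶜ (fun α => F.obj (op (i α)))) (ht : t ≫ d₀ i F = t ≫ d₁ i F) (α : A) :
    (coneOf i F hcov t ht).π.app (op (i α)) = t ≫ Pi.π (fun α => F.obj (op (i α))) α := by
  have := indep i F t ht (hcov (i α)).choose_spec.some (𝟙 (i α))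
  simpa [coneOf] using this

end

/-- Let `I` be a category with a family of objects `i α` (`α : A`) such that every binary product `i α ⨯
i β` exists in `I` and every object of `I` admits a morphism to some `i α`. Let `F : Iᵒᵖ ⥤ C` be a
functor, and assume that `C` has equalizers and that the products `∏ F (i α)` and `∏ F (i α ⨯ i β)`
exist in `C`. Then the limit of `F` exists, the canonical map `lim F ⟶ ∏ F (i α)` is a monomorphism,
and a map `t : T ⟶ ∏ F (i α)` factors through `lim F` exactly when its composites with the two maps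
`∏ F (i α) ⇉ ∏ F (i α ⨯ i β)` induced by the two projections agree: `lim F` is the equalizer of that
pair. (The published statement assumes that `C` has all limits of the size of `A`; only equalizers
and the two products named are assumed here, which is what the equalizer construction uses.) -/
theorem result
    {I : Type u₁} [Category.{v₁} I] {C : Type u₂} [Category.{v₂} C] {A : Type w} (i : A → I)
    [∀ α β, HasBinaryProduct (i α) (i β)]
    (hcov : ∀ j : I, ∃ α, Nonempty (j ⟶ i α))
    (F : Iᵒᵖ ⥤ C) [HasEqualizers C]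
    [HasProduct (fun α => F.obj (op (i α)))]
    [HasProduct (fun p : A × A => F.obj (op (i p.1 ⨯ i p.2)))] :
    HasLimit F ∧ ∀ [HasLimit F],
      Mono (Pi.lift (fun α => limit.π F (op (i α)))) ∧
      ∀ (T : C) (t : T ⟶ ∏ᶜ (fun α => F.obj (op (i α)))),
        (∃ s : T ⟶ limit F, s ≫ Pi.lift (fun α => limit.π F (op (i α))) = t) ↔
        t ≫ Pi.lift (fun p : A × A =>
            Pi.π (fun α => F.obj (op (i α))) p.1 ≫ F.map (prod.fst : i p.1 ⨯ i p.2 ⟶ i p.1).op) =
        t ≫ Pi.lift (fun p : A × A =>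
            Pi.π (fun α => F.obj (op (i α))) p.2 ≫ F.map (prod.snd : i p.1 ⨯ i p.2 ⟶ i p.2).op) := by
  have hw : ∀ (s : Cone F) (p : A × A),
      s.π.app (op (i p.1)) ≫ F.map (prod.fst : i p.1 ⨯ i p.2 ⟶ i p.1).op =
      s.π.app (op (i p.2)) ≫ F.map (prod.snd : i p.1 ⨯ i p.2 ⟶ i p.2).op := by
    intro s p
    rw [s.w, s.w]
  have hcone : ∀ (s : Cone F), Pi.lift (fun α => s.π.app (op (i α))) ≫ d₀ i F =
      Pi.lift (fun α => s.π.app (op (i α))) ≫ d₁ i F := by
    intro s
    apply Pi.hom_ext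
    intro p
    simp only [d₀, d₁, Category.assoc, Pi.lift_π, Pi.lift_π_assoc]
    exact hw s p
  have hι : equalizer.ι (d₀ i F) (d₁ i F) ≫ d₀ i F = equalizer.ι (d₀ i F) (d₁ i F) ≫ d₁ i F :=
    equalizer.condition _ _
  have hπj : ∀ (s : Cone F) (j : Iᵒᵖ), s.π.app j =
      s.π.app (op (i (hcov j.unop).choose)) ≫ F.map (hcov j.unop).choose_spec.some.op := by
    intro s j
    rw [s.w]
  have hlim : IsLimit (coneOf i F hcov (equalizer.ι (d₀ i F) (d₁ i F)) hι) :=
    { lift := fun s => equalizer.lift (Pi.lift (fun α => s.π.app (op (i α)))) (hcone s)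
      fac := by
        intro s j
        rw [hπj s j]
        simp [coneOf]
      uniq := by
        intro s m hm
        apply equalizer.hom_ext
        rw [equalizer.lift_ι]
        apply Pi.hom_ext
        intro α
        rw [Pi.lift_π, Category.assoc, ← coneOf_π i F hcov _ hι α]
        exact hm (op (i α)) }
  refine ⟨⟨⟨⟨_, hlim⟩⟩⟩, ?_⟩
  intro _
  have hℓ : Pi.lift (fun α => limit.π F (op (i α))) ≫ d₀ i F =
      Pi.lift (fun α => limit.π F (op (i α))) ≫ d₁ i F := hcone (limit.cone F)
  refine ⟨⟨?_⟩, ?_⟩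
  · intro T a b hab
    apply limit.hom_ext
    intro j
    have hj := hπj (limit.cone F) j
    simp only [limit.cone_π] at hj
    rw [hj, ← Category.assoc, ← Category.assoc]
    congr 1
    have := congrArg (fun x => x ≫ Pi.π (fun α => F.obj (op (i α))) (hcov j.unop).choose) hab
    simpa only [Category.assoc, Pi.lift_π] using this
  · intro T t
    constructor
    · rintro ⟨s, rfl⟩
      have h0 := hℓ
      simp only [d₀, d₁] at h0
      rw [Category.assoc, Category.assoc, h0]
    · intro ht
      have ht' : t ≫ d₀ i F = t ≫ d₁ i F := ht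
      refine ⟨limit.lift F (coneOf i F hcov t ht'), ?_⟩
      apply Pi.hom_ext
      intro α
      rw [Category.assoc, Pi.lift_π, limit.lift_π, coneOf_π]

end Groth.Agent.S6120
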