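import Groth.Statements.S6121

set_option autoImplicit false
open CategoryTheory
universe v₁ v₂ u₁ u₂
open SGA4

namespace Groth.Agent.S6121

/-- For a fibered functor `p : E ⥤ B` (every morphism of `B` has a cartesian lift with prescribed
codomain, and cartesian morphisms compose), `p` reflects isomorphisms if and only if every fibre
category of `p` (objects over `b`, morphisms lying over the identity of `b`) is a groupoid. -/
theorem result
    {B : Type u₁} [Category.{v₁} B] {E : Type u₂} [Category.{v₂} E] (p : E ⥤ B) [p.IsFibered] :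
    p.ReflectsIsomorphisms ↔ ∀ b : B, IsGroupoid (p.Fiber b) := by
  constructor
  · intro h b
    refine ⟨fun {x y} φ => ?_⟩
    have hφ : p.IsHomLift (𝟙 b) φ.1 := φ.2
    have h1 : IsIso (p.map φ.1) := by
      rw [IsHomLift.fac' p (𝟙 b) φ.1]
      infer_instance
    have h2 : IsIso φ.1 := isIso_of_reflects_iso φ.1 p
    have h3 : p.IsHomLift (𝟙 b) (inv φ.1) := inferInstance
    exact ⟨⟨inv φ.1, h3⟩, Subtype.ext (IsIso.hom_inv_id _), Subtype.ext (IsIso.inv_hom_id _)⟩
  · intro h
    refine ⟨fun {a a'} φ hφ => ?_⟩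
    -- cartesian lift of `p.map φ` with codomain `a'`
    obtain ⟨c, ψ, hψ⟩ := IsPreFibered.exists_isCartesian p (a := a') rfl (p.map φ)
    have : IsIso ψ := Functor.IsStronglyCartesian.isIso_of_base_isIso p (p.map φ) ψ
    let χ : a ⟶ c := Functor.IsCartesian.map p (p.map φ) ψ φ
    have hfac : χ ≫ ψ = φ := Functor.IsCartesian.fac p (p.map φ) ψ φ
    have hχ : p.IsHomLift (𝟙 (p.obj a)) χ := inferInstance
    -- view χ in the fibre over p.obj a
    let χ' : Functor.Fiber.mk (p := p) (IsHomLift.domain_eq p (𝟙 (p.obj a)) χ) ⟶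
        Functor.Fiber.mk (IsHomLift.codomain_eq p (𝟙 (p.obj a)) χ) :=
      Functor.Fiber.homMk p (p.obj a) χ
    have : IsIso χ' := (h (p.obj a)).all_isIso χ'
    have : IsIso (Functor.Fiber.fiberInclusion.map χ') := inferInstance
    have hχiso : IsIso χ := by simpa [χ'] using this
    rw [← hfac]
    infer_instance

end Groth.Agent.S6121
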