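import Groth.Statements.S6122

set_option autoImplicit false
open CategoryTheory
universe v₁ v₂ u₁ u₂
open SGA4

namespace Groth.Agent.S6122

/-- For a fibered functor `p : E ⥤ B` (every morphism of `B` has a cartesian lift with prescribed
codomain, and cartesian morphisms compose), `p` is faithful if and only if every fibre category of
`p` (objects over `b`, morphisms lying over the identity of `b`) has at most one morphism between
any two objects. -/
theorem result
    {B : Type u₁} [Category.{v₁} B] {E : Type u₂} [Category.{v₂} E] (p : E ⥤ B) [p.IsFibered] :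
    p.Faithful ↔ ∀ (b : B) (x y : p.Fiber b), Subsingleton (x ⟶ y) := by
  constructor
  · intro h b x y
    refine ⟨fun φ φ' => ?_⟩
    have hφ : p.IsHomLift (𝟙 b) φ.1 := φ.2
    have hφ' : p.IsHomLift (𝟙 b) φ'.1 := φ'.2
    apply Subtype.ext
    apply p.map_injective
    rw [IsHomLift.fac' p (𝟙 b) φ.1, IsHomLift.fac' p (𝟙 b) φ'.1]
  · intro h
    refine ⟨fun {a a'} φ φ' hφφ' => ?_⟩
    obtain ⟨c, ψ, hψ⟩ := IsPreFibered.exists_isCartesian p (a := a') rfl (p.map φ)
    have hφ' : p.IsHomLift (p.map φ) φ' := by rw [hφφ']; infer_instance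
    let χ : a ⟶ c := Functor.IsCartesian.map p (p.map φ) ψ φ
    let χ' : a ⟶ c := Functor.IsCartesian.map p (p.map φ) ψ φ'
    have hfac : χ ≫ ψ = φ := Functor.IsCartesian.fac p (p.map φ) ψ φ
    have hfac' : χ' ≫ ψ = φ' := Functor.IsCartesian.fac p (p.map φ) ψ φ'
    have hχ : p.IsHomLift (𝟙 (p.obj a)) χ := inferInstance
    have hχ' : p.IsHomLift (𝟙 (p.obj a)) χ' := inferInstance
    have hc : p.obj c = p.obj a := IsHomLift.codomain_eq p (𝟙 (p.obj a)) χ
    let x : p.Fiber (p.obj a) := ⟨a, rfl⟩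
    let y : p.Fiber (p.obj a) := ⟨c, hc⟩
    let m : x ⟶ y := ⟨χ, hχ⟩
    let m' : x ⟶ y := ⟨χ', hχ'⟩
    have hmm : m = m' := (h (p.obj a) x y).elim m m'
    have : χ = χ' := congrArg Subtype.val hmm
    rw [← hfac, ← hfac', this]

end Groth.Agent.S6122
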