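import Groth.Statements.S6124
import Mathlib.CategoryTheory.Limits.Shapes.Diagonal
import Mathlib.CategoryTheory.Limits.Shapes.Pullback.IsPullback.Basic
import Mathlib.CategoryTheory.Limits.Preserves.Shapes.Pullbacks

set_option autoImplicit false
open CategoryTheory CategoryTheory.Limits Opposite
universe w v₁ v₂ u₁ u₂
open SGA4

namespace Groth.Agent.S6124

/-- Let `E` have pullbacks, let `P` be a detecting family of objects of `E` (a morphism `f` is
invertible as soon as every map out of an object of `P` factors uniquely through `f`), and let `φ i
: E ⥤ E' i` be functors preserving pullbacks. Then the `φ i` jointly reflect isomorphisms if and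
only if, for every `X` with `P X` and every subobject `X'` of `X` other than `⊤`, some `φ i` takes
the inclusion `X' ⟶ X` to a morphism that is not invertible. -/
theorem result
    {E : Type u₁} [Category.{v₁} E] [HasPullbacks E] (P : ObjectProperty E) (hP : P.IsDetecting)
    {κ : Type w} {E' : κ → Type u₂} [∀ k, Category.{v₂} (E' k)] (φ : ∀ k, E ⥤ E' k)
    [∀ k, PreservesLimitsOfShape WalkingCospan (φ k)] :
    (∀ ⦃X Y : E⦄ (f : X ⟶ Y), (∀ k, IsIso ((φ k).map f)) → IsIso f) ↔
      ∀ (X : E), P X → ∀ (X' : Subobject X), X' ≠ ⊤ → ∃ k, ¬ IsIso ((φ k).map X'.arrow) := by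
  constructor
  · intro H X _ X' hX'
    by_contra hcon
    push Not at hcon
    have : IsIso X'.arrow := H X'.arrow hcon
    exact hX' (Subobject.eq_top_of_isIso_arrow X')
  · intro H
    -- Step A: monomorphisms
    have stepA : ∀ ⦃A B : E⦄ (m : A ⟶ B), Mono m → (∀ k, IsIso ((φ k).map m)) → IsIso m := by
      intro A B m hm hk
      apply hP
      intro G hG h
      have hm' : Mono (pullback.snd m h) := inferInstance
      have hk' : ∀ k, IsIso ((φ k).map (pullback.snd m h)) := by
        intro k
        have hpb : IsPullback ((φ k).map (pullback.fst m h)) ((φ k).map (pullback.snd m h))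
            ((φ k).map m) ((φ k).map h) := (IsPullback.of_hasPullback m h).map (φ k)
        have := hk k
        exact hpb.isIso_snd_of_isIso
      have htop : Subobject.mk (pullback.snd m h) = ⊤ := by
        by_contra hne
        obtain ⟨k, hk''⟩ := H G hG _ hne
        apply hk''
        have := hk' k
        rw [← Subobject.underlyingIso_hom_comp_eq_mk (pullback.snd m h), Functor.map_comp]
        infer_instance
      have hiso : IsIso (pullback.snd m h) := (Subobject.isIso_iff_mk_eq_top _).mpr htop
      refine ⟨inv (pullback.snd m h) ≫ pullback.fst m h, ?_, ?_⟩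
      · simp only [Category.assoc, pullback.condition, IsIso.inv_hom_id_assoc]
      · intro y hy
        rw [← cancel_mono m, hy]
        simp only [Category.assoc, pullback.condition, IsIso.inv_hom_id_assoc]
    intro X Y f hf
    have hΔ : ∀ k, IsIso ((φ k).map (pullback.diagonal f)) := by
      intro k
      have hpb : IsPullback ((φ k).map (pullback.fst f f)) ((φ k).map (pullback.snd f f))
          ((φ k).map f) ((φ k).map f) := (IsPullback.of_hasPullback f f).map (φ k)
      have := hf k
      have h1 : IsIso ((φ k).map (pullback.fst f f)) := hpb.isIso_fst_of_mono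
      have h2 : IsIso ((φ k).map (pullback.diagonal f) ≫ (φ k).map (pullback.fst f f)) := by
        rw [← (φ k).map_comp, pullback.diagonal_fst, (φ k).map_id]
        infer_instance
      exact IsIso.of_isIso_comp_right _ ((φ k).map (pullback.fst f f))
    have h4 : IsIso (pullback.diagonal f) := stepA _ inferInstance hΔ
    have h5 : Mono f := (pullback.isIso_diagonal_iff f).mp h4
    exact stepA f h5 hf

end Groth.Agent.S6124
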