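import Groth.Statements.S6126
-- import your own Groth.Agent.* helpers here

set_option autoImplicit false
open CategoryTheory CategoryTheory.Limits
universe v₁ u₁
open SGA4

namespace Groth.Agent.S6126

/-- Let `E` be a category with `v₁`-small hom-sets admitting a separating family of objects `G t`
indexed by a `v₁`-small type, in which every object admits a monomorphism into an injective object.
Assume that each coproduct `G t ⨿ G t` exists and that every morphism out of `G t ⨿ G t` factors as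
an effective epimorphism followed by a monomorphism. Then `E` admits a coseparating family of
injective objects indexed by a `v₁`-small type. (The published statement moreover bounds the size of
this family in terms of the hom-sets `Hom (G t', G t ⨿ G t)`; only existence is stated here. The
published statement speaks of generating and cogenerating families; its proof uses and produces
joint faithfulness of maps out of, resp. into, the family, which is the sense taken here.) -/
theorem result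
    {E : Type u₁} [Category.{v₁} E] {ι : Type v₁} (G : ι → E)
    (hG : (ObjectProperty.ofObj G).IsSeparating)
    [EnoughInjectives E] [∀ t, HasBinaryCoproduct (G t) (G t)]
    (hfac : ∀ (t : ι) (X : E) (f : G t ⨿ G t ⟶ X),
      ∃ (Y : E) (e : G t ⨿ G t ⟶ Y) (m : Y ⟶ X), EffectiveEpi e ∧ Mono m ∧ e ≫ m = f) :
    ∃ (κ : Type v₁) (H : κ → E),
      (∀ k, Injective (H k)) ∧ (ObjectProperty.ofObj H).IsCoseparating := by
  classical
  -- the `G`-relation of a morphism out of `G t ⨿ G t`
  let Rel : ∀ (t : ι) {Y : E} (_ : G t ⨿ G t ⟶ Y),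
      Set (Σ s : ι, (G s ⟶ G t ⨿ G t) × (G s ⟶ G t ⨿ G t)) :=
    fun t Y e => {x | x.2.1 ≫ e = x.2.2 ≫ e}
  let κ : Type v₁ := Σ t : ι, {R : Set (Σ s : ι, (G s ⟶ G t ⨿ G t) × (G s ⟶ G t ⨿ G t)) //
    ∃ (Y : E) (e : G t ⨿ G t ⟶ Y), R = Rel t e}
  let Yk : κ → E := fun k => k.2.2.choose
  let ek : ∀ k : κ, G k.1 ⨿ G k.1 ⟶ Yk k := fun k => k.2.2.choose_spec.choose
  have hek : ∀ k : κ, k.2.1 = Rel k.1 (ek k) := fun k => k.2.2.choose_spec.choose_spec
  refine ⟨κ, fun k => Injective.under (Yk k), fun k => inferInstance, ?_⟩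
  intro X X' f g hfg
  apply hG
  rintro _ ⟨t⟩ h
  by_contra hne
  -- u ≠ v : G t ⟶ X'
  set u := h ≫ f with hu
  set v := h ≫ g with hv
  obtain ⟨Y, e, m, he, hm, hem⟩ := hfac t X' (coprod.desc u v)
  let k : κ := ⟨t, ⟨Rel t e, Y, e, rfl⟩⟩
  have hk : Rel t (ek k) = Rel t e := (hek k).symm
  -- `ek k` factors through `e`
  have hdesc : ∀ {A : E} (g₁ g₂ : A ⟶ G t ⨿ G t), g₁ ≫ e = g₂ ≫ e → g₁ ≫ ek k = g₂ ≫ ek k := by
    intro A g₁ g₂ h12
    apply hG
    rintro _ ⟨s⟩ a
    have hmem : (⟨s, (a ≫ g₁, a ≫ g₂)⟩ : Σ s : ι, (G s ⟶ G t ⨿ G t) × (G s ⟶ G t ⨿ G t)) ∈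
        Rel t e := by
      change (a ≫ g₁) ≫ e = (a ≫ g₂) ≫ e
      rw [Category.assoc, Category.assoc, h12]
    rw [← hk] at hmem
    have : (a ≫ g₁) ≫ ek k = (a ≫ g₂) ≫ ek k := hmem
    simpa only [Category.assoc] using this
  let φ : Y ⟶ Yk k := EffectiveEpi.desc e (ek k) hdesc
  have hφ : e ≫ φ = ek k := EffectiveEpi.fac e (ek k) hdesc
  let w : X' ⟶ Injective.under (Yk k) := Injective.factorThru (φ ≫ Injective.ι (Yk k)) m
  have hw : m ≫ w = φ ≫ Injective.ι (Yk k) := Injective.comp_factorThru _ _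
  have huw : u ≫ w = coprod.inl ≫ ek k ≫ Injective.ι (Yk k) := by
    have : u = coprod.inl ≫ e ≫ m := by rw [hem, coprod.inl_desc]
    rw [this, Category.assoc, Category.assoc, hw, ← Category.assoc e, hφ]
  have hvw : v ≫ w = coprod.inr ≫ ek k ≫ Injective.ι (Yk k) := by
    have : v = coprod.inr ≫ e ≫ m := by rw [hem, coprod.inr_desc]
    rw [this, Category.assoc, Category.assoc, hw, ← Category.assoc e, hφ]
  have hcos : f ≫ w = g ≫ w := hfg _ ⟨k⟩ w
  have huvw : u ≫ w = v ≫ w := by
    rw [hu, hv, Category.assoc, Category.assoc, hcos]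
  rw [huw, hvw, ← Category.assoc, ← Category.assoc, cancel_mono] at huvw
  -- hence inl ≫ e = inr ≫ e
  have hinl : (coprod.inl : G t ⟶ G t ⨿ G t) ≫ e = coprod.inr ≫ e := by
    apply hG
    rintro _ ⟨s⟩ a
    have hmem : (⟨s, (a ≫ coprod.inl, a ≫ coprod.inr)⟩ :
        Σ s : ι, (G s ⟶ G t ⨿ G t) × (G s ⟶ G t ⨿ G t)) ∈ Rel t (ek k) := by
      change (a ≫ coprod.inl) ≫ ek k = (a ≫ coprod.inr) ≫ ek k
      rw [Category.assoc, Category.assoc, huvw]
    rw [hk] at hmem
    have : (a ≫ coprod.inl) ≫ e = (a ≫ coprod.inr) ≫ e := hmem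
    simpa only [Category.assoc] using this
  apply hne
  have h1 : u = coprod.inl ≫ e ≫ m := by rw [hem, coprod.inl_desc]
  have h2 : v = coprod.inr ≫ e ≫ m := by rw [hem, coprod.inr_desc]
  rw [h1, h2, ← Category.assoc, hinl, Category.assoc]

end Groth.Agent.S6126
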