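import Groth.Statements.S6128
import Mathlib.CategoryTheory.Sites.Closed
import Mathlib.CategoryTheory.Sites.IsSheafFor

set_option autoImplicit false
open CategoryTheory
universe u
open SGA4

namespace Groth.Agent.S6128

open Opposite

section Helpers

variable {C : Type u} [SmallCategory C] {C' : Type u} [SmallCategory C']
  (J : GrothendieckTopology C) (u : C ⥤ C')

lemma functorPullback_pullback {W : C'} (R : Sieve W) {Z Z' : C} (h : Z' ⟶ Z)
    (a : u.obj Z ⟶ W) :
    ((R.pullback a).functorPullback u).pullback h =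
      (R.pullback (u.map h ≫ a)).functorPullback u := by
  ext T g
  simp [Sieve.functorPullback_apply, Sieve.pullback_apply]

/-- the natural transformation `Hom(u -, W) ⟶ closedSieves` associated to a sieve `R` on `W`. -/
noncomputable def sigma {W : C'} (R : Sieve W) :
    u.op ⋙ yoneda.obj W ⟶ (Functor.closedSieves J).toFunctor where
  app Z := ↾fun (a : u.obj Z.unop ⟶ W) =>
    ⟨J.close ((R.pullback a).functorPullback u), J.close_isClosed _⟩
  naturality Z Z' h := by
    ext a
    apply Subtype.ext
    change J.close ((R.pullback (u.map h.unop ≫ a)).functorPullback u) =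
      (J.close ((R.pullback a).functorPullback u)).pullback h.unop
    rw [← J.pullback_close, functorPullback_pullback]

lemma sigma_app_val {W : C'} (R : Sieve W) (Z : Cᵒᵖ) (a : u.obj Z.unop ⟶ W) :
    ((sigma J u R).app Z a).1 = J.close ((R.pullback a).functorPullback u) := rfl

lemma sigma_of_mem {W : C'} (R : Sieve W) (Z : Cᵒᵖ) (a : u.obj Z.unop ⟶ W) (ha : R a) :
    ((sigma J u R).app Z a).1 = (⊤ : Sieve Z.unop) := by
  have h1 : J.close ((R.pullback a).functorPullback u) = (⊤ : Sieve Z.unop) := by
    rw [Sieve.pullback_eq_top_of_mem R ha, Sieve.functorPullback_top, J.close_eq_top_iff_mem]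
    exact J.top_mem _
  exact h1

end Helpers

/-- Let `u : C ⥤ C'` be a functor between small sites. If the right Kan extension along `u` of the
underlying presheaf of every sheaf of sets on `C` is a sheaf on `C'`, then `u` is cocontinuous: for
every object `Y` of `C` and every covering sieve `R` of `u Y`, the sieve of morphisms `g : Z ⟶ Y`
with `u g ∈ R` covers `Y`. -/
theorem result
    {C : Type u} [SmallCategory C] {C' : Type u} [SmallCategory C']
    (J : GrothendieckTopology C) (J' : GrothendieckTopology C') (u : C ⥤ C')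
    (h : ∀ G : Sheaf J (Type u), Presheaf.IsSheaf J' ((u.op.ran).obj G.obj)) :
    u.IsCocontinuous J J' := by
  refine ⟨fun {Y} R hR => ?_⟩
  rw [← J.close_eq_top_iff_mem]
  let G : Sheaf J (Type u) := ⟨(Functor.closedSieves J).toFunctor,
    (isSheaf_iff_isSheaf_of_type _ _).2 (classifier_isSheaf J)⟩
  have hG' : Presieve.IsSheaf J' (u.op.ran.obj G.obj) := (isSheaf_iff_isSheaf_of_type _ _).1 (h G)
  let e := (u.op.ranAdjunction (Type u)).homEquiv (yoneda.obj (u.obj Y)) G.obj
  have key : ∀ (R' : Sieve (u.obj Y)) {W : C'} (b : W ⟶ u.obj Y),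
      yoneda.map b ≫ e (sigma J u R') =
        (u.op.ranAdjunction (Type u)).homEquiv (yoneda.obj W) G.obj
          (Functor.whiskerLeft u.op (yoneda.map b) ≫ sigma J u R') := by
    intro R' W b
    exact ((u.op.ranAdjunction (Type u)).homEquiv_naturality_left (yoneda.map b)
      (sigma J u R')).symm
  have hw : ∀ {W : C'} (b : W ⟶ u.obj Y), R b →
      Functor.whiskerLeft u.op (yoneda.map b) ≫ sigma J u R =
        Functor.whiskerLeft u.op (yoneda.map b) ≫ sigma J u (⊤ : Sieve (u.obj Y)) := by
    intro W b hb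
    ext Z a
    apply Subtype.ext
    exact (sigma_of_mem J u R Z (a ≫ b) (R.downward_closed hb a)).trans
      (sigma_of_mem J u ⊤ Z (a ≫ b) trivial).symm
  have heq : e (sigma J u R) = e (sigma J u (⊤ : Sieve (u.obj Y))) := by
    obtain ⟨g, -, huniq⟩ := (Presieve.isSheafFor_iff_yonedaSheafCondition.1 (hG' R hR))
      (R.functorInclusion ≫ e (sigma J u (⊤ : Sieve (u.obj Y))))
    rw [huniq (e (sigma J u ⊤)) rfl]
    apply huniq
    ext W ⟨b, hb⟩
    have h1 := congr_arg yonedaEquiv (key R b)
    have h2 := congr_arg yonedaEquiv (key ⊤ b)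
    rw [hw b hb] at h1
    rw [yonedaEquiv_comp, yonedaEquiv_yoneda_map] at h1 h2
    exact h1.trans h2.symm
  have hσ : sigma J u R = sigma J u (⊤ : Sieve (u.obj Y)) := e.injective heq
  have h3 : ((sigma J u R).app (op Y) (𝟙 (u.obj Y))).1 =
      ((sigma J u (⊤ : Sieve (u.obj Y))).app (op Y) (𝟙 (u.obj Y))).1 := by rw [hσ]
  rw [sigma_of_mem J u ⊤ (op Y) (𝟙 _) trivial, sigma_app_val, Sieve.pullback_id] at h3
  exact h3

end Groth.Agent.S6128
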