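import Groth.Statements.S6129
import Mathlib.CategoryTheory.Functor.KanExtension.Pointwise
import Mathlib.CategoryTheory.Limits.Types.Pullbacks
import Mathlib.CategoryTheory.Limits.Types.Colimits
import Mathlib.CategoryTheory.Limits.FunctorCategory.EpiMono

set_option autoImplicit false
open CategoryTheory CategoryTheory.Limits
universe u
open SGA4

namespace Groth.Agent.S6129

open Opposite

section helpers

variable {C : Type u} [SmallCategory C] {C' : Type u} [SmallCategory C'] (u : C ⥤ C')

/-- the value on an element of the component of the colimit diagram -/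
noncomputable def sFun (H : Cᵒᵖ ⥤ Type u) (X₀ : C)
    (g : CostructuredArrow u.op (op (u.obj X₀))) (h : H.obj g.left) :
    Option (H.obj (op X₀)) := by
  classical
  exact if hb : ∃ b : X₀ ⟶ g.left.unop, u.map b = g.hom.unop then
    some (H.map hb.choose.op h) else none

lemma sFun_eq [u.Faithful] (H : Cᵒᵖ ⥤ Type u) (X₀ : C)
    (g : CostructuredArrow u.op (op (u.obj X₀))) (h : H.obj g.left)
    (b : X₀ ⟶ g.left.unop) (hb : u.map b = g.hom.unop) :
    sFun u H X₀ g h = some (H.map b.op h) := by
  classical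
  have hex : ∃ b : X₀ ⟶ g.left.unop, u.map b = g.hom.unop := ⟨b, hb⟩
  have hc : hex.choose = b := u.map_injective (hex.choose_spec.trans hb.symm)
  unfold sFun
  rw [dif_pos hex, hc]

lemma sFun_none (H : Cᵒᵖ ⥤ Type u) (X₀ : C)
    (g : CostructuredArrow u.op (op (u.obj X₀))) (h : H.obj g.left)
    (hb : ¬ ∃ b : X₀ ⟶ g.left.unop, u.map b = g.hom.unop) :
    sFun u H X₀ g h = none := by
  classical
  unfold sFun
  rw [dif_neg hb]

lemma sFun_nat [u.Faithful]
    (hu : ∀ X : C, (Over.post (X := X) u).Full ∧ (Over.post (X := X) u).Faithful)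
    (H : Cᵒᵖ ⥤ Type u) (X₀ : C)
    {g₁ g₂ : CostructuredArrow u.op (op (u.obj X₀))} (φ : g₁ ⟶ g₂) (h : H.obj g₁.left) :
    sFun u H X₀ g₂ (H.map φ.left h) = sFun u H X₀ g₁ h := by
  have hw : g₂.hom.unop ≫ u.map φ.left.unop = g₁.hom.unop := by
    have := congrArg Quiver.Hom.unop (CostructuredArrow.w φ)
    simpa using this
  by_cases hb : ∃ b : X₀ ⟶ g₂.left.unop, u.map b = g₂.hom.unop
  · obtain ⟨b₂, hb₂⟩ := hb
    have hb₁ : u.map (b₂ ≫ φ.left.unop) = g₁.hom.unop := by
      rw [u.map_comp, hb₂, hw]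
    rw [sFun_eq u H X₀ g₂ _ b₂ hb₂, sFun_eq u H X₀ g₁ _ (b₂ ≫ φ.left.unop) hb₁]
    congr 1
    have h1 : H.map (b₂ ≫ φ.left.unop).op = H.map φ.left ≫ H.map b₂.op := by
      rw [op_comp, CategoryTheory.Functor.map_comp]
      rfl
    exact (ConcreteCategory.congr_hom h1 h).symm
  · rw [sFun_none u H X₀ g₂ _ hb, sFun_none u H X₀ g₁ _]
    rintro ⟨b₁, hb₁⟩
    apply hb
    have := (hu g₁.left.unop).1
    have w : g₂.hom.unop ≫ u.map φ.left.unop = u.map b₁ := by rw [hw, hb₁]
    obtain ⟨ψ, hψ⟩ := (Over.post (X := g₁.left.unop) u).map_surjective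
      (Over.homMk (U := (Over.post u).obj (Over.mk b₁))
        (V := (Over.post u).obj (Over.mk φ.left.unop)) g₂.hom.unop w)
    refine ⟨ψ.left, ?_⟩
    show u.map ψ.left = g₂.hom.unop
    exact congrArg CommaMorphism.left hψ

/-- the cocone detecting the component of the identity -/
noncomputable def sCocone [u.Faithful]
    (hu : ∀ X : C, (Over.post (X := X) u).Full ∧ (Over.post (X := X) u).Faithful)
    (H : Cᵒᵖ ⥤ Type u) (X₀ : C) :
    Cocone (CostructuredArrow.proj u.op (op (u.obj X₀)) ⋙ H) where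
  pt := Option (H.obj (op X₀))
  ι :=
    { app := fun g => TypeCat.ofHom (fun h => sFun u H X₀ g h)
      naturality := fun g₁ g₂ φ => by
        apply ConcreteCategory.hom_ext
        intro h
        exact sFun_nat u hu H X₀ φ h }

/-- the pointwise colimit property of `u_! H` -/
noncomputable def hcol (H : Cᵒᵖ ⥤ Type u) :
    (Functor.LeftExtension.mk _ (u.op.lanUnit.app H)).IsPointwiseLeftKanExtension :=
  Functor.isPointwiseLeftKanExtensionOfIsLeftKanExtension (u.op.lan.obj H) (u.op.lanUnit.app H)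

/-- the retraction-like map `(u_! H)(u X₀) → Option (H X₀)` -/
noncomputable def rho [u.Faithful]
    (hu : ∀ X : C, (Over.post (X := X) u).Full ∧ (Over.post (X := X) u).Faithful)
    (H : Cᵒᵖ ⥤ Type u) (X₀ : C) :
    (u.op.lan.obj H).obj (op (u.obj X₀)) ⟶ Option (H.obj (op X₀)) :=
  (hcol u H (op (u.obj X₀))).desc (sCocone u hu H X₀)

lemma rho_ι [u.Faithful]
    (hu : ∀ X : C, (Over.post (X := X) u).Full ∧ (Over.post (X := X) u).Faithful)
    (H : Cᵒᵖ ⥤ Type u) (X₀ : C) (g : CostructuredArrow u.op (op (u.obj X₀)))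
    (h : H.obj g.left) :
    rho u hu H X₀ ((u.op.lan.obj H).map g.hom ((u.op.lanUnit.app H).app g.left h)) =
      sFun u H X₀ g h :=
  ConcreteCategory.congr_hom ((hcol u H (op (u.obj X₀))).fac (sCocone u hu H X₀) g) h

lemma rho_unit [u.Faithful]
    (hu : ∀ X : C, (Over.post (X := X) u).Full ∧ (Over.post (X := X) u).Faithful)
    (H : Cᵒᵖ ⥤ Type u) (X₀ : C) (h : H.obj (op X₀)) :
    rho u hu H X₀ ((u.op.lanUnit.app H).app (op X₀) h) = some h := by
  let g₀ : CostructuredArrow u.op (op (u.obj X₀)) :=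
    CostructuredArrow.mk (Y := op X₀) (𝟙 (op (u.obj X₀)))
  have h1 := rho_ι u hu H X₀ g₀ h
  have h2 : (u.op.lan.obj H).map g₀.hom ((u.op.lanUnit.app H).app g₀.left h) =
      (u.op.lanUnit.app H).app (op X₀) h := by
    have : (u.op.lan.obj H).map g₀.hom = 𝟙 _ := (u.op.lan.obj H).map_id _
    rw [this]
    rfl
  rw [h2] at h1
  rw [h1, sFun_eq u H X₀ g₀ h (𝟙 X₀) (u.map_id X₀)]
  congr 1
  have : H.map (𝟙 X₀).op = 𝟙 _ := by rw [op_id, CategoryTheory.Functor.map_id]
  rw [this]
  rfl

lemma unit_injective [u.Faithful]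
    (hu : ∀ X : C, (Over.post (X := X) u).Full ∧ (Over.post (X := X) u).Faithful)
    (H : Cᵒᵖ ⥤ Type u) (X₀ : C) :
    Function.Injective ((u.op.lanUnit.app H).app (op X₀)) := by
  intro h h' hh
  have := congrArg (rho u hu H X₀) hh
  rw [rho_unit, rho_unit] at this
  exact Option.some.inj this

lemma unit_nat_apply' {H K : Cᵒᵖ ⥤ Type u} (α : H ⟶ K) (Xop : Cᵒᵖ) (a : H.obj Xop) :
    (u.op.lanUnit.app K).app Xop (α.app Xop a) =
      (u.op.lan.map α).app (u.op.obj Xop) ((u.op.lanUnit.app H).app Xop a) :=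
  ConcreteCategory.congr_hom (NatTrans.congr_app (u.op.lanUnit.naturality α) Xop) a

lemma exists_lift [u.Faithful]
    (hu : ∀ X : C, (Over.post (X := X) u).Full ∧ (Over.post (X := X) u).Faithful)
    {H K : Cᵒᵖ ⥤ Type u} (α : H ⟶ K) (X₀ : C)
    (ξ : (u.op.lan.obj H).obj (op (u.obj X₀))) (k : K.obj (op X₀))
    (hξ : (u.op.lan.map α).app (op (u.obj X₀)) ξ = (u.op.lanUnit.app K).app (op X₀) k) :
    ∃ h : H.obj (op X₀), (u.op.lanUnit.app H).app (op X₀) h = ξ ∧ α.app (op X₀) h = k := by
  obtain ⟨g, h₁, hg⟩ := Types.jointly_surjective_of_isColimit (hcol u H (op (u.obj X₀))) ξ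
  have hg' : (u.op.lan.obj H).map g.hom ((u.op.lanUnit.app H).app g.left h₁) = ξ := hg
  -- compute rho_K of both sides
  have e1 : (u.op.lan.map α).app (op (u.obj X₀)) ξ =
      (u.op.lan.obj K).map g.hom ((u.op.lanUnit.app K).app g.left (α.app g.left h₁)) := by
    rw [← hg', unit_nat_apply']
    exact ConcreteCategory.congr_hom ((u.op.lan.map α).naturality g.hom)
      ((u.op.lanUnit.app H).app g.left h₁)
  have e2 : sFun u K X₀ g (α.app g.left h₁) = some k := by
    rw [← rho_ι u hu K X₀ g, ← e1, hξ, rho_unit]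
  by_cases hb : ∃ b : X₀ ⟶ g.left.unop, u.map b = g.hom.unop
  · obtain ⟨b, hb⟩ := hb
    rw [sFun_eq u K X₀ g _ b hb] at e2
    have e3 : K.map b.op (α.app g.left h₁) = k := Option.some.inj e2
    refine ⟨H.map b.op h₁, ?_, ?_⟩
    · rw [← hg']
      have n1 := ConcreteCategory.congr_hom ((u.op.lanUnit.app H).naturality b.op) h₁
      have hbo : (u.map b).op = g.hom := by rw [hb]; rfl
      rw [← hbo]
      exact n1
    · rw [← e3]
      exact ConcreteCategory.congr_hom (α.naturality b.op) h₁
  · rw [sFun_none u K X₀ g _ hb] at e2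
    exact absurd e2 (by simp)

end helpers


/-- Let `u : C ⥤ C'` be a faithful functor between small categories such that for every object `X` of
`C` the induced functor on over-categories `C/X ⥤ C'/u X` is full and faithful. Then the left Kan
extension functor `u_!` on presheaves of sets is faithful, the unit `H ⟶ u^* u_! H` of the
adjunction `u_! ⊣ u^*` is a monomorphism for every presheaf `H`, and for every morphism of
presheaves `α : H ⟶ K` the naturality square of the unit at `α` (with sides `α` and `u^* u_! α`) is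
cartesian. (The published statement assumes only the condition on the slice functors, and its proof
uses that `u` is faithful; the slice condition alone does not suffice: for a nontrivial group viewed
as a one-object category mapping to the point every slice functor is an equivalence, while `u_!` is
the orbit-set functor on `G`-sets, which is not faithful, and the unit `G ⟶ G/G` is not a
monomorphism. So `u` is taken faithful here.) -/
theorem result
    {C : Type u} [SmallCategory C] {C' : Type u} [SmallCategory C'] (u : C ⥤ C') [u.Faithful]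
    (hu : ∀ X : C, (Over.post (X := X) u).Full ∧ (Over.post (X := X) u).Faithful) :
    (u.op.lan : (Cᵒᵖ ⥤ Type u) ⥤ (C'ᵒᵖ ⥤ Type u)).Faithful ∧
    (∀ H : Cᵒᵖ ⥤ Type u, Mono ((u.op.lanAdjunction (Type u)).unit.app H)) ∧
    ∀ (H K : Cᵒᵖ ⥤ Type u) (α : H ⟶ K),
      IsPullback ((u.op.lanAdjunction (Type u)).unit.app H) α
        (((Functor.whiskeringLeft Cᵒᵖ C'ᵒᵖ (Type u)).obj u.op).map (u.op.lan.map α))
        ((u.op.lanAdjunction (Type u)).unit.app K) := by
  have hmono : ∀ H : Cᵒᵖ ⥤ Type u, Mono ((u.op.lanAdjunction (Type u)).unit.app H) := by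
    intro H
    rw [Functor.lanAdjunction_unit]
    have : ∀ Xop : Cᵒᵖ, Mono ((u.op.lanUnit.app H).app Xop) := by
      intro Xop
      induction Xop using Opposite.rec with
      | _ X₀ =>
        rw [CategoryTheory.mono_iff_injective]
        exact unit_injective u hu H X₀
    exact NatTrans.mono_of_mono_app _
  refine ⟨⟨fun {H K} α β hαβ => ?_⟩, hmono, fun H K α => ?_⟩
  · have := hmono K
    have nα := (u.op.lanAdjunction (Type u)).unit.naturality α
    have nβ := (u.op.lanAdjunction (Type u)).unit.naturality β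
    rw [← cancel_mono ((u.op.lanAdjunction (Type u)).unit.app K)]
    calc α ≫ (u.op.lanAdjunction (Type u)).unit.app K
        = (u.op.lanAdjunction (Type u)).unit.app H ≫
            ((Functor.whiskeringLeft Cᵒᵖ C'ᵒᵖ (Type u)).obj u.op).map (u.op.lan.map α) := nα
      _ = (u.op.lanAdjunction (Type u)).unit.app H ≫
            ((Functor.whiskeringLeft Cᵒᵖ C'ᵒᵖ (Type u)).obj u.op).map (u.op.lan.map β) := by
          rw [hαβ]
      _ = β ≫ (u.op.lanAdjunction (Type u)).unit.app K := nβ.symm
  · apply IsPullback.of_forall_isPullback_app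
    intro Xop
    induction Xop using Opposite.rec with
    | _ X₀ =>
      rw [Types.isPullback_iff]
      refine ⟨?_, ?_, ?_⟩
      · exact (NatTrans.congr_app ((u.op.lanAdjunction (Type u)).unit.naturality α) (op X₀)).symm
      · rintro x y ⟨h1, -⟩
        rw [Functor.lanAdjunction_unit] at h1
        exact unit_injective u hu H X₀ h1
      · intro ξ k hξ
        rw [Functor.lanAdjunction_unit] at hξ ⊢
        exact exists_lift u hu α X₀ ξ k hξ

end Groth.Agent.S6129
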