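import Groth.Statements.S6131
-- import your own Groth.Agent.* helpers here

set_option autoImplicit false
open CategoryTheory CategoryTheory.Limits
universe u
open SGA4

namespace Groth.Agent.S6131

theorem hom_subsingleton {A B : Type u} [Subsingleton B] (f g : A ⟶ B) : f = g := by
  ext x
  exact Subsingleton.elim _ _

/-- the presheaf `Y ↦ (⊥ ∈ J Y)` -/
def botPresheaf {C : Type u} [SmallCategory C] (J : GrothendieckTopology C) : Cᵒᵖ ⥤ Type u where
  obj Y := ULift.{u} (PLift ((⊥ : Sieve Y.unop) ∈ J Y.unop))
  map {Y Z} f := TypeCat.ofHom (fun h => ⟨⟨by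
    have := J.pullback_stable f.unop h.down.down
    rwa [Sieve.pullback_bot] at this⟩⟩)
  map_id _ := hom_subsingleton _ _
  map_comp _ _ := hom_subsingleton _ _

theorem botPresheaf_isSheaf {C : Type u} [SmallCategory C] (J : GrothendieckTopology C) :
    Presieve.IsSheaf J (botPresheaf J) := by
  intro Y S hS x _
  have ht : (⊥ : Sieve Y) ∈ J Y := by
    refine J.transitive hS ⊥ ?_
    intro Z f hf
    rw [Sieve.pullback_bot]
    exact (x f hf).down.down
  have hsub : ∀ Z : Cᵒᵖ, Subsingleton ((botPresheaf J).obj Z) := fun Z =>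
    inferInstanceAs (Subsingleton (ULift.{u} (PLift ((⊥ : Sieve Z.unop) ∈ J Z.unop))))
  refine ⟨⟨⟨ht⟩⟩, ?_, ?_⟩
  · intro Z f hf
    exact (hsub _).elim _ _
  · intro t _
    exact (hsub _).elim _ _

/-- For a small site `(C, J)` and an object `X` of `C`, the sheaf associated to the presheaf represented
by `X` is an initial object of the category of sheaves of sets if and only if the empty sieve covers
`X`. -/
theorem result
    {C : Type u} [SmallCategory C] (J : GrothendieckTopology C) (X : C) :
    Nonempty (IsInitial ((presheafToSheaf J (Type u)).obj (yoneda.obj X))) ↔ (⊥ : Sieve X) ∈ J X := by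
  constructor
  · rintro ⟨hinit⟩
    let F : Sheaf J (Type u) :=
      ⟨botPresheaf J, (isSheaf_iff_isSheaf_of_type J _).mpr (botPresheaf_isSheaf J)⟩
    let g := hinit.to F
    let g' : yoneda.obj X ⟶ botPresheaf J :=
      ((sheafificationAdjunction J (Type u)).homEquiv (yoneda.obj X) F) g
    exact (yonedaEquiv g').down.down
  · intro h
    have huniq : ∀ F : Sheaf J (Type u), Subsingleton (F.obj.obj (Opposite.op X)) := by
      intro F
      have hF : Presieve.IsSheaf J F.obj := (isSheaf_iff_isSheaf_of_type J _).mp F.property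
      have hs := hF (⊥ : Sieve X) h
      obtain ⟨t, _, ht⟩ := hs (fun W g hg => False.elim hg)
        (fun _ _ _ _ _ _ _ h₁ _ _ => False.elim h₁)
      exact ⟨fun a b => (ht a (fun _ _ hg => False.elim hg)).trans
        (ht b (fun _ _ hg => False.elim hg)).symm⟩
    have hex : ∀ F : Sheaf J (Type u), Nonempty (F.obj.obj (Opposite.op X)) := by
      intro F
      have hF : Presieve.IsSheaf J F.obj := (isSheaf_iff_isSheaf_of_type J _).mp F.property
      have hs := hF (⊥ : Sieve X) h
      obtain ⟨t, _, ht⟩ := hs (fun W g hg => False.elim hg)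
        (fun _ _ _ _ _ _ _ h₁ _ _ => False.elim h₁)
      exact ⟨t⟩
    let e : ∀ F : Sheaf J (Type u),
        ((presheafToSheaf J (Type u)).obj (yoneda.obj X) ⟶ F) ≃ F.obj.obj (Opposite.op X) :=
      fun F => ((sheafificationAdjunction J (Type u)).homEquiv (yoneda.obj X) F).trans yonedaEquiv
    refine ⟨IsInitial.ofUniqueHom (fun F => (e F).symm (hex F).some) ?_⟩
    intro F m
    apply (e F).injective
    exact (huniq F).elim _ _

end Groth.Agent.S6131
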