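import Groth.Statements.S6132
import Groth.Agent.H30.Cop

set_option autoImplicit false
open CategoryTheory CategoryTheory.Limits
universe u
open SGA4

namespace Groth.Agent.S6132

/-- Let `(C, J)` be a small site, `X` an object and `s i : Y i ⟶ X` a family of morphisms all of whose
base changes exist in `C`. If the family is covering, every `s i` is a monomorphism, and for `i ≠ j`
the fibre product `Y i ×_X Y j` is covered by the empty sieve, then the associated sheaf of `X`,
with the maps induced by the `s i`, is a coproduct of the associated sheaves of the `Y i` in the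
category of sheaves of sets. -/
theorem result
    {C : Type u} [SmallCategory C] (J : GrothendieckTopology C) {X : C} {ι : Type u}
    (Y : ι → C) (s : ∀ i, Y i ⟶ X) [∀ (i : ι) (Z : C) (g : Z ⟶ X), HasPullback (s i) g]
    (hcov : Sieve.ofArrows Y s ∈ J X) (hmono : ∀ i, Mono (s i))
    (hdisj : ∀ i j, i ≠ j → (⊥ : Sieve (pullback (s i) (s j))) ∈ J (pullback (s i) (s j))) :
    Nonempty (IsColimit (Cofan.mk ((presheafToSheaf J (Type u)).obj (yoneda.obj X))
      (fun i => (presheafToSheaf J (Type u)).map (yoneda.map (s i))))) := by
  refine (Groth.Agent.H30.Cop.cofan_sheafify_yoneda_iff J Y s).1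
    ⟨hcov, fun i => ?_, fun i j hij => ?_⟩
  · haveI := hmono i
    infer_instance
  · have I0 := Groth.Agent.H30.Cop.isInitialSheafifyYoneda J _ (hdisj i j hij)
    exact ⟨I0.ofIso ((presheafToSheaf J (Type u)).mapIso
      (PreservesPullback.iso yoneda (s i) (s j)))⟩

end Groth.Agent.S6132
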