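import Groth.Statements.S6137
import Mathlib.CategoryTheory.Limits.Elements
import Mathlib.CategoryTheory.Limits.Constructions.WeaklyInitial
import Mathlib.CategoryTheory.Limits.Yoneda
import Mathlib.CategoryTheory.Limits.Types.Colimits
import Mathlib.CategoryTheory.Limits.FunctorCategory.Basic

set_option autoImplicit false
open CategoryTheory CategoryTheory.Limits
universe v u
open SGA4

namespace Groth.Agent.S6137

/-- Let `C` be a category with `v`-small hom-sets admitting all `v`-small limits, and `F : C ⥤ Type v` a
functor. Then `F` is corepresentable if and only if it is pro-representable (viewed as a presheaf on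
`Cᵒᵖ` it is an ind-object, i.e. a small filtered colimit of corepresentable functors) and preserves
all `v`-small limits. -/
theorem result
    {C : Type u} [Category.{v} C] [HasLimitsOfSize.{v, v} C] (F : C ⥤ Type v) :
    F.IsCorepresentable ↔
      IsIndObject (unopUnop C ⋙ F) ∧ PreservesLimitsOfSize.{v, v} F := by
  constructor
  · intro hF
    obtain ⟨X, ⟨e⟩⟩ := hF.has_corepresentation
    constructor
    · have iso : yoneda.obj (Opposite.op X) ≅ unopUnop C ⋙ F :=
        NatIso.ofComponents (fun Y => Equiv.toIso ((opEquiv _ _).trans e.homEquiv)) (by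
          intro Y Y' f
          ext g
          exact e.homEquiv_comp f.unop.unop g.unop)
      exact (isIndObject_yoneda (Opposite.op X)).map iso.hom
    · exact preservesLimits_of_natIso e.toIso
  · rintro ⟨⟨⟨P⟩⟩, hlim⟩
    haveI := hlim
    let B : P.I → F.Elements := fun i =>
      ⟨(P.F.obj i).unop, (P.ι.app i).app (Opposite.op (P.F.obj i)) (𝟙 _)⟩
    have hB : ∀ A : F.Elements, ∃ i, Nonempty (B i ⟶ A) := by
      rintro ⟨Y, y⟩
      have hc := isColimitOfPreserves ((evaluation _ _).obj (Opposite.op (Opposite.op Y))) P.isColimit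
      obtain ⟨i, g, hg⟩ := Types.jointly_surjective _ hc y
      have nat := NatTrans.naturality_apply (P.ι.app i) (Quiver.Hom.op g) (𝟙 (P.F.obj i))
      have e1 : (yoneda.obj (P.F.obj i)).map (Quiver.Hom.op g) (𝟙 (P.F.obj i)) = g :=
        Category.comp_id g
      have e2 : (P.ι.app i).app (Opposite.op (Opposite.op Y))
          ((yoneda.obj (P.F.obj i)).map (Quiver.Hom.op g) (𝟙 (P.F.obj i))) =
          (P.ι.app i).app (Opposite.op (Opposite.op Y)) g := congrArg _ e1
      exact ⟨i, ⟨⟨Quiver.Hom.unop g, nat.symm.trans (e2.trans hg)⟩⟩⟩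
    obtain ⟨T, hT⟩ := has_weakly_initial_of_weakly_initial_set_and_hasProducts hB
    haveI := hasInitial_of_weakly_initial_and_hasWideEqualizers hT
    exact Functor.Elements.isCorepresentable_of_hasInitial F

end Groth.Agent.S6137
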