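import Groth.Statements.S6139
-- import your own Groth.Agent.* helpers here

set_option autoImplicit false
open CategoryTheory CategoryTheory.Limits
universe v u
open SGA4

namespace Groth.Agent.S6139

/-- For an object `X` of a category `C`, the empty sieve on `X` is covering for the canonical topology
of `C` (the finest topology for which every representable presheaf is a sheaf) if and only if `X` is
a strict initial object: `X` is initial and every morphism with target `X` is an isomorphism. (The
source phrases the first condition as: for some topology coarser than the canonical one the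
associated sheaf of `h_X` is initial; that sheaf is initial exactly when the empty sieve covers `X`,
and coverage by the empty sieve passes to the finer canonical topology.) -/
theorem result
    {C : Type u} [Category.{v} C] (X : C) :
    (⊥ : Sieve X) ∈ Sheaf.canonicalTopology C X ↔
      (Nonempty (IsInitial X) ∧ ∀ (Y : C) (f : Y ⟶ X), IsIso f) := by
  constructor
  · intro h
    have hinit : ∀ (Y : C) (f : Y ⟶ X), Nonempty (IsInitial Y) := by
      intro Y f
      have hY : (⊥ : Sieve Y) ∈ Sheaf.canonicalTopology C Y := by
        have := (Sheaf.canonicalTopology C).pullback_stable f h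
        rwa [Sieve.pullback_bot] at this
      have huniq : ∀ Z : C, ∃! t : Y ⟶ Z, True := by
        intro Z
        have hs := Sheaf.isSheaf_yoneda_obj Z (⊥ : Sieve Y) hY
        obtain ⟨t, _, ht⟩ := hs (fun W g hg => False.elim hg) (fun _ _ _ _ _ _ _ h₁ _ _ => False.elim h₁)
        exact ⟨t, trivial, fun t' _ => ht t' (fun _ _ hg => False.elim hg)⟩
      refine ⟨IsInitial.ofUniqueHom (fun Z => (huniq Z).choose) ?_⟩
      intro Z m
      exact (huniq Z).choose_spec.2 m trivial
    refine ⟨hinit X (𝟙 X), ?_⟩
    intro Y f
    obtain ⟨hY⟩ := hinit Y f
    obtain ⟨hX⟩ := hinit X (𝟙 X)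
    have : f = (hY.uniqueUpToIso hX).hom := hY.hom_ext _ _
    rw [this]
    infer_instance
  · rintro ⟨⟨hX⟩, hiso⟩
    apply Sheaf.mem_finestTopology_of_forall_isSheafFor
    rintro _ ⟨Z, rfl⟩ Y f
    have := hiso Y f
    have hY : IsInitial Y := hX.ofIso (asIso f).symm
    rw [Sieve.pullback_bot]
    intro x _
    refine ⟨hY.to Z, fun _ _ hg => False.elim hg, fun t _ => hY.hom_ext _ _⟩

end Groth.Agent.S6139
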