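import Groth.Statements.S6142
import Mathlib.CategoryTheory.Adjunction.FullyFaithful

set_option autoImplicit false
open CategoryTheory
universe u
open SGA4

namespace Groth.Agent.S6142

open Opposite

section Helpers

variable {C : Type u} [SmallCategory C] {C' : Type u} [SmallCategory C']
  (J : GrothendieckTopology C) (K : GrothendieckTopology C') [J.Subcanonical] [K.Subcanonical]
  (u : C ⥤ C') [u.IsContinuous J K]

/-- the comparison map `h_X ⟶ u^* h_{uX}` as a morphism of sheaves -/
noncomputable def mX (X : C) : J.yoneda.obj X ⟶
    (u.sheafPushforwardContinuous (Type u) J K).obj (K.yoneda.obj (u.obj X)) :=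
  ⟨yonedaMap u X⟩

/-- Yoneda for sheaves -/
noncomputable def shYoneda (X : C) (F : Sheaf J (Type u)) :
    (J.yoneda.obj X ⟶ F) ≃ F.obj.obj (op X) where
  toFun f := yonedaEquiv f.hom
  invFun x := ⟨yonedaEquiv.symm x⟩
  left_inv f := by
    apply Sheaf.hom_ext
    exact yonedaEquiv.symm_apply_apply f.hom
  right_inv x := yonedaEquiv.apply_symm_apply x

lemma shYoneda_apply (X : C) (F : Sheaf J (Type u)) (f : J.yoneda.obj X ⟶ F) :
    shYoneda J X F f = f.hom.app (op X) (𝟙 X) := rfl

end Helpers

/-- Let `u : C ⥤ C'` be a continuous and cocontinuous functor between small sites whose topologies are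
subcanonical. If the left adjoint `u_!` of the restriction functor `u^*` on sheaves of sets is full
and faithful, then `u` is full and faithful. -/
theorem result
    {C : Type u} [SmallCategory C] {C' : Type u} [SmallCategory C']
    (J : GrothendieckTopology C) (K : GrothendieckTopology C') [J.Subcanonical] [K.Subcanonical]
    (u : C ⥤ C') [u.IsContinuous J K] [u.IsCocontinuous J K]
    (h : (u.sheafPullback (Type u) J K).Full ∧ (u.sheafPullback (Type u) J K).Faithful) :
    u.Full ∧ u.Faithful := by
  obtain ⟨hfull, hfaith⟩ := h
  let adj := u.sheafAdjunctionContinuous (Type u) J K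
  have hunit : IsIso adj.unit := inferInstance
  have hiso : ∀ X : C, IsIso (mX J K u X) := by
    intro X
    have hψ : IsIso ((adj.homEquiv (J.yoneda.obj X) (K.yoneda.obj (u.obj X))).symm
        (mX J K u X)) := by
      rw [isIso_iff_coyoneda_map_bijective]
      intro G
      have hcomp : (fun g : K.yoneda.obj (u.obj X) ⟶ G =>
          (adj.homEquiv (J.yoneda.obj X) (K.yoneda.obj (u.obj X))).symm (mX J K u X) ≫ g) =
          (adj.homEquiv _ _).symm ∘
            (shYoneda J X ((u.sheafPushforwardContinuous (Type u) J K).obj G)).symm ∘
              (shYoneda K (u.obj X) G) := by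
        funext g
        apply (adj.homEquiv _ _).injective
        apply (shYoneda J X _).injective
        simp only [Function.comp_apply, Equiv.apply_symm_apply]
        rw [adj.homEquiv_naturality_right, Equiv.apply_symm_apply]
        rw [shYoneda_apply, shYoneda_apply]
        change g.hom.app (op (u.obj X)) (u.map (𝟙 X)) = _
        rw [CategoryTheory.Functor.map_id]
      rw [hcomp]
      exact (Equiv.bijective _).comp ((Equiv.bijective _).comp (Equiv.bijective _))
    have hm : mX J K u X = adj.unit.app _ ≫
        (u.sheafPushforwardContinuous (Type u) J K).map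
          ((adj.homEquiv (J.yoneda.obj X) (K.yoneda.obj (u.obj X))).symm (mX J K u X)) := by
      have h0 := adj.homEquiv_unit (X := J.yoneda.obj X) (Y := K.yoneda.obj (u.obj X))
        (f := (adj.homEquiv (J.yoneda.obj X) (K.yoneda.obj (u.obj X))).symm (mX J K u X))
      rw [Equiv.apply_symm_apply] at h0
      exact h0
    rw [hm]
    infer_instance
  have hbij : ∀ X Y : C, Function.Bijective (fun f : Y ⟶ X => u.map f) := by
    intro X Y
    have := hiso X
    have h1 : IsIso ((sheafToPresheaf J (Type u)).map (mX J K u X)) := inferInstance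
    have h2 : IsIso (((sheafToPresheaf J (Type u)).map (mX J K u X)).app (op Y)) := inferInstance
    exact (ConcreteCategory.isIso_iff_bijective _).1 h2
  exact ⟨⟨fun {X Y} f => (hbij Y X).2 f⟩, ⟨fun {X Y} f g hfg => (hbij Y X).1 hfg⟩⟩

end Groth.Agent.S6142
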