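import Groth.Statements.S6144
import Mathlib.CategoryTheory.Subobject.Lattice
import Mathlib.CategoryTheory.Subobject.WellPowered
import Mathlib.CategoryTheory.ObjectProperty.Small
import Mathlib.Logic.Small.Set

set_option autoImplicit false
open CategoryTheory CategoryTheory.Limits
universe w v u
open SGA4

namespace Groth.Agent.S6144

section Helpers

variable {E : Type u} [Category.{v} E] [HasPullbacks E]

/-- `f` is bijective on maps from the members of the family `Z`. -/
def Bij {I : Type w} (Z : I → E) {A B : E} (f : A ⟶ B) : Prop :=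
  ∀ (i : I) (h : Z i ⟶ B), ∃! h' : Z i ⟶ A, h' ≫ f = h

lemma Bij.pullback_fst {I : Type w} {Z : I → E} {A B B' : E} {f : A ⟶ B} (hf : Bij Z f)
    (b : B' ⟶ B) : Bij Z (pullback.fst b f) := by
  intro i h
  obtain ⟨h', hh', huniq⟩ := hf i (h ≫ b)
  refine ⟨pullback.lift h h' hh'.symm, pullback.lift_fst _ _ _, ?_⟩
  intro t ht
  apply pullback.hom_ext
  · rw [ht, pullback.lift_fst]
  · rw [pullback.lift_snd]
    apply huniq
    rw [Category.assoc, ← pullback.condition, ← Category.assoc, ht]

/-- the diagonal -/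
noncomputable def diag {A B : E} (f : A ⟶ B) : A ⟶ pullback f f :=
  pullback.lift (𝟙 A) (𝟙 A) rfl

@[simp] lemma diag_fst {A B : E} (f : A ⟶ B) : diag f ≫ pullback.fst f f = 𝟙 A :=
  pullback.lift_fst _ _ _

@[simp] lemma diag_snd {A B : E} (f : A ⟶ B) : diag f ≫ pullback.snd f f = 𝟙 A :=
  pullback.lift_snd _ _ _

instance {A B : E} (f : A ⟶ B) : Mono (diag f) := mono_of_mono_fac (diag_fst f)

lemma Bij.diag {I : Type w} {Z : I → E} {A B : E} {f : A ⟶ B} (hf : Bij Z f) :
    Bij Z (diag f) := by
  intro i h
  have h12 : h ≫ pullback.fst f f = h ≫ pullback.snd f f := by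
    obtain ⟨h', -, huniq⟩ := hf i (h ≫ pullback.fst f f ≫ f)
    rw [huniq (h ≫ pullback.fst f f) (Category.assoc _ _ _),
      huniq (h ≫ pullback.snd f f) (by
        change (h ≫ pullback.snd f f) ≫ f = _
        rw [Category.assoc, pullback.condition])]
  refine ⟨h ≫ pullback.fst f f, ?_, ?_⟩
  · apply pullback.hom_ext
    · rw [Category.assoc, diag_fst, Category.comp_id]
    · rw [Category.assoc, diag_snd, Category.comp_id, h12]
  · intro t ht
    rw [← ht, Category.assoc, diag_fst, Category.comp_id]

/-- if `x f = y f` and the "equalizer" of `x` and `y` is everything, then `x = y`. -/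
lemma eq_of_isIso_equalizer {T A B : E} (f : A ⟶ B) (x y : T ⟶ A) (hxy : x ≫ f = y ≫ f)
    (hiso : IsIso (pullback.fst (pullback.lift x y hxy) (diag f))) : x = y := by
  have hc := pullback.condition (f := pullback.lift x y hxy) (g := diag f)
  have h1 : pullback.fst (pullback.lift x y hxy) (diag f) ≫ x =
      pullback.snd (pullback.lift x y hxy) (diag f) := by
    have := congr_arg (· ≫ pullback.fst f f) hc
    simpa [pullback.lift_fst] using this
  have h2 : pullback.fst (pullback.lift x y hxy) (diag f) ≫ y =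
      pullback.snd (pullback.lift x y hxy) (diag f) := by
    have := congr_arg (· ≫ pullback.snd f f) hc
    simpa [pullback.lift_snd] using this
  rw [← cancel_epi (pullback.fst (pullback.lift x y hxy) (diag f)), h1, h2]

end Helpers

/-- Let `E` be a category with `v`-small hom-sets and pullbacks, admitting a detecting family of objects
indexed by a `v`-small type (maps out of the family jointly reflect isomorphisms). Then every
detecting family `Y : I → E`, indexed by an arbitrary type, contains a detecting subfamily indexed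
by a `v`-small subset of `I`. -/
theorem result
    {E : Type u} [Category.{v} E] [HasPullbacks E] {κ : Type v} (G : κ → E)
    (hG : (ObjectProperty.ofObj G).IsDetecting) {I : Type w} (Y : I → E)
    (hY : (ObjectProperty.ofObj Y).IsDetecting) :
    ∃ J : Set I, Small.{v} J ∧ (ObjectProperty.ofObj (fun j : J => Y j)).IsDetecting := by
  have : WellPowered.{v} E := wellPowered_of_isDetecting hG
  have hex : ∀ (k : κ) (S : Subobject (G k)), S ≠ ⊤ →
      ∃ (i : I) (y : Y i ⟶ G k), ¬ ∃ t : Y i ⟶ (S : E), t ≫ S.arrow = y := by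
    intro k S hS
    by_contra hcon
    push Not at hcon
    apply hS
    have hiso : IsIso S.arrow := by
      apply hY
      intro Z hZ h
      obtain ⟨i⟩ := hZ
      obtain ⟨t, ht⟩ := hcon i h
      refine ⟨t, ht, ?_⟩
      intro t' ht'
      rw [← cancel_mono S.arrow, ht, ht']
    exact (Subobject.isIso_arrow_iff_eq_top S).1 hiso
  choose idx yy hyy using hex
  let J : Set I := Set.range
    (fun p : Σ k : κ, {S : Subobject (G k) // S ≠ ⊤} => idx p.1 p.2.1 p.2.2)
  refine ⟨J, small_range _, ?_⟩
  have lemA : ∀ (k : κ) (S : E) (m : S ⟶ G k) [Mono m],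
      Bij (fun j : J => Y j) m → IsIso m := by
    intro k S m _ hm
    by_contra hiso
    have hS : Subobject.mk m ≠ ⊤ := fun h => hiso ((Subobject.isIso_iff_mk_eq_top m).2 h)
    obtain ⟨h', hh', -⟩ := hm ⟨idx k _ hS, ⟨⟨k, ⟨_, hS⟩⟩, rfl⟩⟩ (yy k _ hS)
    exact hyy k _ hS ⟨h' ≫ (Subobject.underlyingIso m).inv, by
      rw [Category.assoc, Subobject.underlyingIso_arrow]; exact hh'⟩
  have inj : ∀ {A B : E} (f : A ⟶ B), Bij (fun j : J => Y j) f →
      ∀ (k : κ) (a₁ a₂ : G k ⟶ A), a₁ ≫ f = a₂ ≫ f → a₁ = a₂ := by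
    intro A B f hf k a₁ a₂ h12
    apply eq_of_isIso_equalizer f a₁ a₂ h12
    exact lemA k _ _ ((hf.diag).pullback_fst _)
  have mono_of_bij : ∀ {A B : E} (f : A ⟶ B), Bij (fun j : J => Y j) f → Mono f := by
    intro A B f hf
    refine ⟨fun {T} x y hxy => ?_⟩
    apply eq_of_isIso_equalizer f x y hxy
    apply hG
    intro Z hZ g
    obtain ⟨k⟩ := hZ
    have hg : g ≫ x = g ≫ y :=
      inj f hf k _ _ (by rw [Category.assoc, Category.assoc, hxy])
    refine ⟨pullback.lift g (g ≫ x) ?_, pullback.lift_fst _ _ _, ?_⟩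
    · apply pullback.hom_ext
      · simp [pullback.lift_fst]
      · simp [pullback.lift_snd, hg]
    · intro t ht
      rw [← cancel_mono (pullback.fst (pullback.lift x y hxy) (diag f)), ht, pullback.lift_fst]
  intro A B f hf
  have hbij : Bij (fun j : J => Y j) f := fun j h => hf _ (ObjectProperty.ofObj.mk j) h
  apply hG
  intro Z hZ b
  obtain ⟨k⟩ := hZ
  have hp : Bij (fun j : J => Y j) (pullback.fst b f) := hbij.pullback_fst b
  have := mono_of_bij _ hp
  have := lemA k _ (pullback.fst b f) hp
  refine ⟨inv (pullback.fst b f) ≫ pullback.snd b f, ?_, ?_⟩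
  · change (inv (pullback.fst b f) ≫ pullback.snd b f) ≫ f = b
    rw [Category.assoc, ← pullback.condition, IsIso.inv_hom_id_assoc]
  · intro t ht
    change t ≫ f = b at ht
    exact inj f hbij k _ _ (by
      rw [ht, Category.assoc, ← pullback.condition, IsIso.inv_hom_id_assoc])

end Groth.Agent.S6144
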