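import Groth.Statements.S6152
import Groth.Agent.H53.FreeOn

set_option autoImplicit false
universe u
open CategoryTheory
open ModSite

namespace Groth.Agent.S6152

open Opposite Groth.Agent.H53

section helpers

variable {C : Type u} [SmallCategory C] {J : GrothendieckTopology C} (O : Sheaf J CommRingCat.{u})

lemma isSheafType (M : ModSite.Mod O) :
    Presieve.IsSheaf J (M.val.presheaf ⋙ forget AddCommGrpCat) :=
  (isSheaf_iff_isSheaf_of_type J _).1
    ((Presheaf.isSheaf_iff_isSheaf_forget J M.val.presheaf (forget AddCommGrpCat)).1 M.isSheaf)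

lemma sec_ext (M : ModSite.Mod O) {X : C} {S : Sieve X} (hS : S ∈ J X) (a b : M.val.obj (op X))
    (h : ∀ ⦃Y : C⦄ (g : Y ⟶ X), S g → M.val.map g.op a = M.val.map g.op b) : a = b :=
  ((isSheafType O M) S hS).isSeparatedFor.ext (fun _ g hg => h g hg)

lemma sec_glue (M : ModSite.Mod O) {X : C} {S : Sieve X} (hS : S ∈ J X)
    (x : ∀ ⦃Y : C⦄ (g : Y ⟶ X), S g → M.val.obj (op Y))
    (hx : ∀ ⦃Y Z : C⦄ (g : Y ⟶ X) (k : Z ⟶ Y) (hg : S g),
       x (k ≫ g) (S.downward_closed hg k) = M.val.map k.op (x g hg)) :
    ∃ m : M.val.obj (op X), ∀ ⦃Y : C⦄ (g : Y ⟶ X) (hg : S g), M.val.map g.op m = x g hg := by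
  let x' : Presieve.FamilyOfElements (M.val.presheaf ⋙ forget AddCommGrpCat) S.arrows :=
    fun Y g hg => x g hg
  have hx' : x'.Compatible := by
    rw [Presieve.compatible_iff_sieveCompatible]
    intro Y Z g k hg
    exact hx g k hg
  obtain ⟨m, hm, -⟩ := (isSheafType O M) S hS x' hx'
  exact ⟨m, fun Y g hg => hm g hg⟩

variable (G : Set C)
  (hG : ∀ X : C, ∃ (ι : Type u) (Y : ι → C) (f : ∀ i, Y i ⟶ X), Sieve.ofArrows Y f ∈ J X ∧ ∀ i, Y i ∈ G)

include hG

theorem separating :
    (ObjectProperty.ofObj fun X : G => ModSite.freeOn O (X : C)).IsSeparating := by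
  intro M N f g hfg
  have h1 : ∀ X ∈ G, ∀ m : M.val.obj (op X), f.val.app (op X) m = g.val.app (op X) m := by
    intro X hX m
    have := hfg (ModSite.freeOn O X) (ObjectProperty.ofObj.mk (⟨X, hX⟩ : G))
      ((freeOnHomEquiv O X M).symm m)
    rw [freeOnHomEquiv_symm_comp, freeOnHomEquiv_symm_comp] at this
    exact (freeOnHomEquiv O X N).symm.injective this
  apply SheafOfModules.hom_ext
  apply PresheafOfModules.hom_ext
  intro X
  ext m
  obtain ⟨ι, Y, p, hS, hY⟩ := hG X.unop
  refine sec_ext O N hS _ _ ?_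
  intro Z k hk
  obtain ⟨i, a, rfl⟩ := (Sieve.mem_ofArrows_iff _ _ _).1 hk
  have e1 : N.val.map (p i).op (f.val.app (op X.unop) m) =
      N.val.map (p i).op (g.val.app (op X.unop) m) := by
    rw [← PresheafOfModules.naturality_apply, ← PresheafOfModules.naturality_apply]
    exact h1 _ (hY i) _
  rw [op_comp, PresheafOfModules.map_comp_apply, PresheafOfModules.map_comp_apply]
  exact congrArg _ e1

theorem detecting :
    (ObjectProperty.ofObj fun X : G => ModSite.freeOn O (X : C)).IsDetecting := by
  intro M N f hf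
  have hbijG : ∀ X ∈ G, Function.Bijective (f.val.app (op X)) := by
    intro X hX
    have hX' := hf (ModSite.freeOn O X) (ObjectProperty.ofObj.mk (⟨X, hX⟩ : G))
    constructor
    · intro m1 m2 h
      obtain ⟨h', -, huniq⟩ := hX' ((freeOnHomEquiv O X N).symm (f.val.app (op X) m1))
      have e1 : (freeOnHomEquiv O X M).symm m1 = h' :=
        huniq _ (freeOnHomEquiv_symm_comp O X m1 f)
      have e2 : (freeOnHomEquiv O X M).symm m2 = h' :=
        huniq _ (by show _ ≫ f = _; rw [freeOnHomEquiv_symm_comp O X m2 f, h])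
      exact (freeOnHomEquiv O X M).symm.injective (e1.trans e2.symm)
    · intro n
      obtain ⟨h', hh', -⟩ := hX' ((freeOnHomEquiv O X N).symm n)
      refine ⟨freeOnHomEquiv O X M h', ?_⟩
      rw [← freeOnHomEquiv_comp, hh', Equiv.apply_symm_apply]
  have hinj : ∀ X : C, Function.Injective (f.val.app (op X)) := by
    intro X m1 m2 h
    obtain ⟨ι, Y, p, hS, hY⟩ := hG X
    refine sec_ext O M hS _ _ ?_
    intro Z k hk
    obtain ⟨i, a, rfl⟩ := (Sieve.mem_ofArrows_iff _ _ _).1 hk
    have e1 : M.val.map (p i).op m1 = M.val.map (p i).op m2 := by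
      apply (hbijG _ (hY i)).1
      rw [PresheafOfModules.naturality_apply, PresheafOfModules.naturality_apply, h]
    rw [op_comp, PresheafOfModules.map_comp_apply, PresheafOfModules.map_comp_apply]
    exact congrArg _ e1
  have hsurj : ∀ X : C, Function.Surjective (f.val.app (op X)) := by
    intro X n
    obtain ⟨ι, Y, p, hS, hY⟩ := hG X
    have hex : ∀ ⦃Z : C⦄ (k : Z ⟶ X), (Sieve.ofArrows Y p) k →
        ∃ m : M.val.obj (op Z), f.val.app (op Z) m = N.val.map k.op n := by
      intro Z k hk
      obtain ⟨i, a, rfl⟩ := (Sieve.mem_ofArrows_iff _ _ _).1 hk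
      obtain ⟨mi, hmi⟩ := (hbijG _ (hY i)).2 (N.val.map (p i).op n)
      refine ⟨M.val.map a.op mi, ?_⟩
      rw [PresheafOfModules.naturality_apply, hmi, op_comp, PresheafOfModules.map_comp_apply]
    choose x hx using hex
    obtain ⟨m, hm⟩ := sec_glue O M hS x (by
      intro Z W k l hk
      apply hinj
      rw [hx, PresheafOfModules.naturality_apply, hx, op_comp, PresheafOfModules.map_comp_apply])
    refine ⟨m, ?_⟩
    refine sec_ext O N hS _ _ ?_
    intro Z k hk
    rw [← PresheafOfModules.naturality_apply, hm k hk, hx]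
  have hiso : ∀ X : Cᵒᵖ, IsIso (f.val.app X) := fun X =>
    (ConcreteCategory.isIso_iff_bijective _).2 ⟨hinj X.unop, hsurj X.unop⟩
  have hval : IsIso f.val := by
    let e : M.val ≅ N.val := PresheafOfModules.isoMk (fun X => asIso (f.val.app X))
      (fun X Y g => f.val.naturality g)
    have he : f.val = e.hom := rfl
    rw [he]
    infer_instance
  have : IsIso ((SheafOfModules.forget _).map f) := hval
  exact isIso_of_reflects_iso f (SheafOfModules.forget _)

end helpers

/-- Second assertion (ringed topos of sheaves on a small site (C, J) with commutative structure sheaf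
O): if G is a topologically generating family of objects (every object of C admits a covering family
by members of G), then the free O-modules A_X = j_{X!}(O|X), X in G, form a generating family of the
category of O-modules; stated as: this family detects isomorphisms and is separating. -/
theorem result {C : Type u} [SmallCategory C] {J : GrothendieckTopology C}
    (O : Sheaf J CommRingCat.{u}) (G : Set C)
    (hG : ∀ X : C, ∃ (ι : Type u) (Y : ι → C) (f : ∀ i, Y i ⟶ X), Sieve.ofArrows Y f ∈ J X ∧ ∀ i, Y i ∈ G) :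
    (ObjectProperty.ofObj fun X : G => ModSite.freeOn O (X : C)).IsDetecting ∧
    (ObjectProperty.ofObj fun X : G => ModSite.freeOn O (X : C)).IsSeparating := by
  exact ⟨detecting O G hG, separating O G hG⟩

end Groth.Agent.S6152
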