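import Groth.Statements.S6153
import Groth.Agent.H53.FreeOn

set_option autoImplicit false
universe u
open CategoryTheory
open ModSite

namespace Groth.Agent.S6153

/-- Morphisms of ringed sites between small sites with commutative structure sheaves: for a morphism of
ringed sites f : (C, O_C) -> (D, O_D) given by a functor u : D -> C and every object X of D, the
inverse image f^*(A'_X) of the free O_D-module on X is isomorphic to the free O_C-module A_{u(X)} on
u(X). Existence of an isomorphism of modules only (the source's isomorphism is the canonical one). -/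
theorem result {C D : Type u} [SmallCategory C] [SmallCategory D] {J : GrothendieckTopology C}
    {K : GrothendieckTopology D} {O_C : Sheaf J CommRingCat.{u}} {O_D : Sheaf K CommRingCat.{u}}
    (f : ModSite.RMor O_C O_D) (X : D) :
    Nonempty (f.pull.obj (ModSite.freeOn O_D X) ≅ ModSite.freeOn O_C (f.fn.obj X)) := by
  let A := f.pull.obj (ModSite.freeOn O_D X)
  let B := ModSite.freeOn O_C (f.fn.obj X)
  -- the natural bijection `(A ⟶ M) ≃ (B ⟶ M)`
  let e : ∀ M : ModSite.Mod O_C, (A ⟶ M) ≃ (B ⟶ M) := fun M =>
    ((f.adj.homEquiv _ _).trans (Groth.Agent.H53.freeOnHomEquiv O_D X (f.push.obj M))).trans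
      (Groth.Agent.H53.freeOnHomEquiv O_C (f.fn.obj X) M).symm
  have he : ∀ {M M' : ModSite.Mod O_C} (a : A ⟶ M) (g : M ⟶ M'), e M' (a ≫ g) = e M a ≫ g := by
    intro M M' a g
    simp only [e, Equiv.trans_apply]
    rw [Adjunction.homEquiv_naturality_right, Groth.Agent.H53.freeOnHomEquiv_comp]
    exact (Groth.Agent.H53.freeOnHomEquiv_symm_comp O_C (f.fn.obj X) _ g).symm
  have he' : ∀ {M M' : ModSite.Mod O_C} (b : B ⟶ M) (g : M ⟶ M'),
      (e M').symm (b ≫ g) = (e M).symm b ≫ g := by
    intro M M' b g
    apply (e M').injective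
    rw [he, Equiv.apply_symm_apply, Equiv.apply_symm_apply]
  refine ⟨⟨(e B).symm (𝟙 B), e A (𝟙 A), ?_, ?_⟩⟩
  · rw [← he', Category.id_comp, Equiv.symm_apply_apply]
  · rw [← he, Category.id_comp, Equiv.apply_symm_apply]

end Groth.Agent.S6153
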