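import Groth.Statements.S6164
import Mathlib
import Groth.Agent.H92.RIncl
import Groth.Agent.H92.CechDerived
import Groth.Agent.H5.SpSeq.ExtForm
import Groth.Agent.H67.CechG

set_option autoImplicit false
universe u
open CategoryTheory
open CohSite

namespace Groth.Agent.S6164


open CategoryTheory.Limits Opposite Abelian Groth.Agent.H5.GSS

section

variable {C : Type u} [SmallCategory C] [HasPullbacks C] (J : GrothendieckTopology C)
  {X : C} {ι : Type u} (Y : ι → Over X)
  (hY : Sieve.ofArrows (fun i => (Y i).left) (fun i => (Y i).hom) ∈ J X)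

/-- `Hom(ℤ_X, F) ≃ F(X) ≃ Ȟ⁰(Y, F)` for a sheaf `F` and a covering `Y` of `X`. -/
noncomputable def homEquivCech (F : Sheaf J AddCommGrpCat.{u}) :
    (CohCx.freeSheaf J X ⟶ F) ≃+ CohCx.cechH F.obj Y 0 :=
  (CohFree.homEquivSect J X F).trans
    (AddEquiv.ofBijective (CechEdge.toCech Y F.obj)
      (Groth.Agent.H67.Cech.toCech_bijective J Y F.property hY))

theorem homEquivCech_apply (F : Sheaf J AddCommGrpCat.{u}) (φ : CohCx.freeSheaf J X ⟶ F) :
    homEquivCech J Y hY F φ = CechEdge.toCech Y F.obj (CohFree.evalGen J X F φ) := rfl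

/-- `Hom(ℤ_X, -) ≅ Ȟ⁰(Y, -)` on sheaves. -/
noncomputable def cechIso :
    homF (CohCx.freeSheaf J X) ≅
      sheafToPresheaf J AddCommGrpCat.{u} ⋙ Groth.Agent.H92.CechDerived.H0 Y :=
  NatIso.ofComponents (fun F => AddEquiv.toAddCommGrpIso (homEquivCech J Y hY F))
    (fun {F G} g => by
      apply AddCommGrpCat.ext
      intro φ
      show homEquivCech J Y hY G (φ ≫ g) =
        CechEdge.cechHMap Y g.hom 0 (homEquivCech J Y hY F φ)
      rw [homEquivCech_apply, homEquivCech_apply, Groth.Agent.H67.Cech.toCech_naturality]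
      rfl)

end


open CategoryTheory.Limits in
/-- Existence form of the spectral sequence of a covering; abelian sheaves on a small site with fibre
products: for a covering family (U_i -> X) and an abelian sheaf M there is a bounded E_2 spectral
sequence of abelian groups with E_2^{p,q} isomorphic to the Cech cohomology group H^p((U_i -> X),
H^q(M)) of the family with coefficients in the presheaf V |-> H^q(V, M), for p, q >= 0 and zero
otherwise, with abutment data whose filtrations are finite on H^n(X, M) (n >= 0; zero for n < 0).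
The E_2 identifications and abutment isomorphisms are asserted to exist only, not pinned to the
canonical maps, so edge maps are not part of this statement. -/
theorem result {C : Type u} [SmallCategory C] [HasPullbacks C]
    (J : GrothendieckTopology C) (M : Sheaf J AddCommGrpCat.{u}) {X : C} {ι : Type u} (Y : ι → Over X)
    (hY : Sieve.ofArrows (fun i => (Y i).left) (fun i => (Y i).hom) ∈ J X) :
    ∃ (E : E₂CohomologicalSpectralSequence AddCommGrpCat.{u})
      (a : SpSeq.Abutment E (fun n : ℤ =>
        if 0 ≤ n then AddCommGrpCat.of (CohSite.HU M n.toNat X) else AddCommGrpCat.of PUnit.{u + 1})),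
      (∀ n, a.IsFinite n) ∧ SpSeq.IsBounded E ∧
      ∀ p q : ℤ, Nonempty ((E.page 2 le_rfl).X (p, q) ≅
        (if 0 ≤ p ∧ 0 ≤ q then CohCx.cechH (M.cohomologyPresheaf q.toNat) Y p.toNat
         else AddCommGrpCat.of PUnit.{u + 1})) := by
  have hinj : ∀ Q : Sheaf J AddCommGrpCat.{u}, Injective Q →
      Injective ((sheafToPresheaf J AddCommGrpCat.{u}).obj Q) := by
    intro Q hQ
    exact Injective.injective_of_adjoint (sheafificationAdjunction J AddCommGrpCat.{u}) Q
  refine main' (sheafToPresheaf J AddCommGrpCat.{u}) (Groth.Agent.H92.CechDerived.H0 Y)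
    ?_ M _ _ ?_ ?_ ?_ ?_
  · intro Q hQ q hq
    have := hinj Q hQ
    obtain ⟨q', rfl⟩ : ∃ q', q = q' + 1 := ⟨q - 1, by omega⟩
    exact Functor.isZero_rightDerived_obj_injective_succ _ _ _
  · intro n
    simp only [Int.natCast_nonneg, if_true, Int.toNat_natCast]
    obtain ⟨b⟩ := extBridge (CohCx.freeSheaf J X) M n
    let e := cechIso J Y hY
    let c : ((homF (CohCx.freeSheaf J X)).rightDerived n).obj M ≅
        ((sheafToPresheaf J AddCommGrpCat.{u} ⋙
          Groth.Agent.H92.CechDerived.H0 Y).rightDerived n).obj M :=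
      { hom := (NatTrans.rightDerived e.hom n).app M
        inv := (NatTrans.rightDerived e.inv n).app M
        hom_inv_id := by
          rw [← NatTrans.comp_app, ← NatTrans.rightDerived_comp, e.hom_inv_id,
            NatTrans.rightDerived_id]
          rfl
        inv_hom_id := by
          rw [← NatTrans.comp_app, ← NatTrans.rightDerived_comp, e.inv_hom_id,
            NatTrans.rightDerived_id]
          rfl }
    exact ⟨b.symm ≪≫ c⟩
  · intro n hn
    rw [if_neg (by omega)]
    exact AddCommGrpCat.isZero_of_subsingleton _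
  · intro p q
    simp only [Int.natCast_nonneg, and_self, if_true, Int.toNat_natCast]
    obtain ⟨a⟩ := Groth.Agent.H92.CechDerived.main Y p (Sheaf.cohomologyPresheaf.{u} M q)
    obtain ⟨b⟩ := Groth.Agent.H92.RIncl.main J q M
    exact ⟨a ≪≫ ((Groth.Agent.H92.CechDerived.H0 Y).rightDerived p).mapIso b⟩
  · intro p q hpq
    rw [if_neg (by omega)]
    exact AddCommGrpCat.isZero_of_subsingleton _

end Groth.Agent.S6164
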