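import Groth.Statements.S6166
import Mathlib
import Groth.Agent.S12448
import Groth.Prelude.Def_FreeSh

set_option autoImplicit false
universe u
open CategoryTheory
open CohSite

namespace Groth.Agent.S6166


open CategoryTheory.Limits Opposite Abelian

section

variable {C : Type u} [SmallCategory C] (J : GrothendieckTopology C)

/-- Acyclicity on every object. -/
def Acyc (F : Sheaf J AddCommGrpCat.{u}) : Prop :=
  ∀ (U : C) (q : ℕ), Subsingleton (Ext (CohCx.freeSheaf J U) F (q + 1))

theorem evalGen_comp (U : C) {F G : Sheaf J AddCommGrpCat.{u}} (φ : CohCx.freeSheaf J U ⟶ F)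
    (g : F ⟶ G) :
    CohFree.evalGen J U G (φ ≫ g) = (g.hom.app (op U)).hom (CohFree.evalGen J U F φ) := rfl

/-- If `H¹(U, X₁) = 0` then sections of `X₃` over `U` lift to `X₂`. -/
theorem surj_of_h1 {S : ShortComplex (Sheaf J AddCommGrpCat.{u})} (hS : S.ShortExact) (U : C)
    (h1 : Subsingleton (Ext (CohCx.freeSheaf J U) S.X₁ 1)) (s : S.X₃.obj.obj (op U)) :
    ∃ t : S.X₂.obj.obj (op U), (S.g.hom.app (op U)).hom t = s := by
  let φ : CohCx.freeSheaf J U ⟶ S.X₃ := CohFree.ofSect J U S.X₃ s
  have h0 : (Ext.mk₀ φ).comp hS.extClass (zero_add 1) = 0 := Subsingleton.elim _ _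
  obtain ⟨x₂, hx₂⟩ := Ext.covariant_sequence_exact₃ _ hS (Ext.mk₀ φ) (zero_add 1) h0
  obtain ⟨ψ, rfl⟩ := (Ext.mk₀_bijective _ _).2 x₂
  rw [Ext.mk₀_comp_mk₀] at hx₂
  have hψ : ψ ≫ S.g = φ := (Ext.mk₀_bijective _ _).1 hx₂
  refine ⟨CohFree.evalGen J U S.X₂ ψ, ?_⟩
  rw [← evalGen_comp, hψ]
  exact CohFree.evalGen_ofSect J U S.X₃ s

theorem acyc_X₃ {S : ShortComplex (Sheaf J AddCommGrpCat.{u})} (hS : S.ShortExact)
    (h1 : Acyc J S.X₁) (h2 : Injective S.X₂) : Acyc J S.X₃ := by
  intro U q
  refine ⟨fun x y => ?_⟩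
  have key : ∀ x : Ext (CohCx.freeSheaf J U) S.X₃ (q + 1), x = 0 := by
    intro x
    have := h1 U (q + 1)
    have h0 : x.comp hS.extClass (rfl : q + 1 + 1 = q + 1 + 1) = 0 := Subsingleton.elim _ _
    obtain ⟨x₂, hx₂⟩ := Ext.covariant_sequence_exact₃ _ hS x rfl h0
    rw [← hx₂, Ext.eq_zero_of_injective x₂, Ext.zero_comp]
  rw [key x, key y]

end

section

variable {C D : Type u} [SmallCategory C] [SmallCategory D]
    (J : GrothendieckTopology C) (K : GrothendieckTopology D) (u : D ⥤ C) [u.IsContinuous K J]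

theorem main [PreservesFiniteLimits (u.sheafPullback (Type u) K J)] (q : ℕ) :
    ∀ (F : Sheaf J AddCommGrpCat.{u}), Acyc J F → ∀ V : D,
      ∀ x : Ext (CohCx.freeSheaf K V) ((CohSite.push J K u).obj F) (q + 1), x = 0 := by
  have hex : PreservesFiniteLimits (u.sheafPullback AddCommGrpCat.{u} K J) :=
    Groth.Agent.S12448.result J K u inferInstance
  have hinj : ∀ Q : Sheaf J AddCommGrpCat.{u}, Injective Q → Injective ((CohSite.push J K u).obj Q) := by
    intro Q hQ
    exact Injective.injective_of_adjoint (u.sheafAdjunctionContinuous AddCommGrpCat.{u} K J) Q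
  have hlex : PreservesFiniteLimits (CohSite.push J K u) := by
    have h := (u.sheafAdjunctionContinuous AddCommGrpCat.{u} K J).rightAdjoint_preservesLimits
    exact PreservesLimitsOfSize.preservesFiniteLimits.{0, 0} _
  -- common construction
  have setup : ∀ (F : Sheaf J AddCommGrpCat.{u}), Acyc J F →
      ∃ (S : ShortComplex (Sheaf J AddCommGrpCat.{u})) (_ : S.ShortExact)
        (_ : (S.map (CohSite.push J K u)).ShortExact), S.X₁ = F ∧ Injective S.X₂ ∧ Acyc J S.X₃ ∧
        ∀ (V : D) (s : S.X₃.obj.obj (op (u.obj V))), ∃ t : S.X₂.obj.obj (op (u.obj V)),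
          (S.g.hom.app (op (u.obj V))).hom t = s := by
    intro F hF
    let ι : F ⟶ Injective.under F := Injective.ι F
    let S : ShortComplex (Sheaf J AddCommGrpCat.{u}) :=
      ShortComplex.mk ι (cokernel.π ι) (cokernel.condition ι)
    have hS : S.ShortExact :=
      { exact := ShortComplex.exact_cokernel ι
        mono_f := (inferInstance : Mono ι)
        epi_g := (inferInstance : Epi (cokernel.π ι)) }
    have hI : Injective S.X₂ := (inferInstance : Injective (Injective.under F))
    have hG : Acyc J S.X₃ := acyc_X₃ J hS hF hI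
    have hsurj : ∀ (V : D) (s : S.X₃.obj.obj (op (u.obj V))), ∃ t : S.X₂.obj.obj (op (u.obj V)),
          (S.g.hom.app (op (u.obj V))).hom t = s :=
      fun V s => surj_of_h1 J hS (u.obj V) (hF _ 0) s
    have h1 := ((Functor.preservesFiniteLimits_iff_forall_exact_map_and_mono
      (CohSite.push J K u)).1 hlex) S hS
    have hepi : Epi ((CohSite.push J K u).map S.g) := by
      have : Sheaf.IsLocallySurjective ((CohSite.push J K u).map S.g) := by
        apply Presheaf.isLocallySurjective_of_surjective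
        intro W s
        exact hsurj W.unop s
      infer_instance
    exact ⟨S, hS, { exact := h1.1, mono_f := h1.2, epi_g := hepi }, rfl, hI, hG, hsurj⟩
  induction q with
  | zero =>
    intro F hF V x
    obtain ⟨S, hS, hS', rfl, hI, hG, hsurj⟩ := setup F hF
    have : Injective (S.map (CohSite.push J K u)).X₂ := hinj S.X₂ hI
    have h0 : x.comp (Ext.mk₀ (S.map (CohSite.push J K u)).f) (add_zero 1) = 0 :=
      Ext.eq_zero_of_injective _
    obtain ⟨x₃, hx₃⟩ := Ext.covariant_sequence_exact₁ _ hS' x h0 (zero_add 1)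
    obtain ⟨φ, rfl⟩ := (Ext.mk₀_bijective _ _).2 x₃
    obtain ⟨t, ht⟩ := hsurj V (CohFree.evalGen K V _ φ)
    let ψ : CohCx.freeSheaf K V ⟶ (S.map (CohSite.push J K u)).X₂ :=
      CohFree.ofSect K V ((CohSite.push J K u).obj S.X₂) t
    have hψ : ψ ≫ (S.map (CohSite.push J K u)).g = φ := by
      apply (CohFree.homEquivSect K V _).injective
      rw [CohFree.homEquivSect_apply, CohFree.homEquivSect_apply, evalGen_comp]
      have hev : CohFree.evalGen K V ((CohSite.push J K u).obj S.X₂) ψ = t :=
        CohFree.evalGen_ofSect K V ((CohSite.push J K u).obj S.X₂) t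
      exact (congrArg (fun z => (S.g.hom.app (op (u.obj V))).hom z) hev).trans ht
    rw [← hx₃, ← hψ, ← Ext.mk₀_comp_mk₀, Ext.comp_assoc_of_second_deg_zero, hS'.comp_extClass,
      Ext.comp_zero]
    rfl
  | succ q ih =>
    intro F hF V x
    obtain ⟨S, hS, hS', rfl, hI, hG, hsurj⟩ := setup F hF
    have : Injective (S.map (CohSite.push J K u)).X₂ := hinj S.X₂ hI
    have h0 : x.comp (Ext.mk₀ (S.map (CohSite.push J K u)).f) (add_zero (q + 1 + 1)) = 0 :=
      Ext.eq_zero_of_injective _
    obtain ⟨x₃, hx₃⟩ := Ext.covariant_sequence_exact₁ _ hS' x h0 (rfl : q + 1 + 1 = q + 1 + 1)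
    have hx3 : x₃ = 0 := ih S.X₃ hG V x₃
    rw [← hx₃, hx3, Ext.zero_comp]
    rfl

end


open CategoryTheory.Limits in
/-- Let u : D -> C be a continuous functor between small sites with exact pullback on sheaves of sets (a
morphism of topoi), and take the topologically generating families to be all objects of C, resp. of
D, so that the inverse image of the second lies in the first. For an abelian sheaf F on C: if H^q(U,
F) = 0 for all objects U of C and all q > 0, then H^q(V, u_* F) = 0 for all objects V of D and all q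
> 0, where u_* F = F o u. -/
theorem result {C D : Type u} [SmallCategory C] [SmallCategory D]
    (J : GrothendieckTopology C) (K : GrothendieckTopology D) (u : D ⥤ C) [u.IsContinuous K J]
    [PreservesFiniteLimits (u.sheafPullback (Type u) K J)] (F : Sheaf J AddCommGrpCat.{u})
    (hF : ∀ (U : C) (q : ℕ), Subsingleton (CohSite.HU F (q + 1) U)) (V : D) (q : ℕ) :
    Subsingleton (CohSite.HU ((CohSite.push J K u).obj F) (q + 1) V) := by
  refine ⟨fun x y => ?_⟩
  have h := main J K u q F hF V
  exact (h x).trans (h y).symm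

end Groth.Agent.S6166
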