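import Groth.Statements.S6172
import Mathlib.CategoryTheory.Adjunction.Unique

set_option autoImplicit false
universe u
open CategoryTheory
open SGA4

namespace Groth.Agent.S6172

open CategoryTheory.Limits MonoidalCategory in
/-- Topos E of sheaves of sets on a small site, localised at an object Z: with j_Z : E/Z -> E the
localisation morphism, j_Z^* X = Z x X over Z, and j_{Z*} its right adjoint (taken as an instance
hypothesis, which holds in any topos), j_{Z*} j_Z^* Y is isomorphic to the internal hom Hom(Z, Y)
for every object Y. Existence of an isomorphism only (the source's is canonical). -/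
theorem result {C : Type u} [SmallCategory C] (J : GrothendieckTopology C)
    (Z Y : Sheaf J (Type u)) [(Over.star Z).IsLeftAdjoint] :
    Nonempty (((Over.star Z).rightAdjoint).obj ((Over.star Z).obj Y) ≅ (ihom Z).obj Y) := by
  let iso : ∀ T : Sheaf J (Type u), (Z ⨯ T) ≅ (Z ⊗ T) :=
    fun T => IsLimit.conePointUniqueUpToIso (prodIsProd Z T)
      (CartesianMonoidalCategory.tensorProductIsBinaryProduct Z T)
  have hfst : ∀ T, (iso T).hom ≫ CartesianMonoidalCategory.fst Z T = prod.fst := fun T =>
    IsLimit.conePointUniqueUpToIso_hom_comp (prodIsProd Z T)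
      (CartesianMonoidalCategory.tensorProductIsBinaryProduct Z T) ⟨WalkingPair.left⟩
  have hsnd : ∀ T, (iso T).hom ≫ CartesianMonoidalCategory.snd Z T = prod.snd := fun T =>
    IsLimit.conePointUniqueUpToIso_hom_comp (prodIsProd Z T)
      (CartesianMonoidalCategory.tensorProductIsBinaryProduct Z T) ⟨WalkingPair.right⟩
  have hnat : ∀ (T T' : Sheaf J (Type u)) (g : T ⟶ T'),
      prod.map (𝟙 Z) g ≫ (iso T').hom = (iso T).hom ≫ (Z ◁ g) := by
    intro T T' g
    apply CartesianMonoidalCategory.hom_ext
    · have h1 : (Z ◁ g) ≫ CartesianMonoidalCategory.fst Z T' = CartesianMonoidalCategory.fst Z T :=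
        CartesianMonoidalCategory.whiskerLeft_fst Z g
      rw [Category.assoc, hfst, Category.assoc, h1, hfst, prod.map_fst, Category.comp_id]
    · have h2 : (Z ◁ g) ≫ CartesianMonoidalCategory.snd Z T' =
          CartesianMonoidalCategory.snd Z T ≫ g :=
        CartesianMonoidalCategory.whiskerLeft_snd Z g
      rw [Category.assoc, hsnd, Category.assoc, h2, ← Category.assoc, hsnd, prod.map_snd]
  let e : Over.star Z ⋙ Over.forget Z ≅ tensorLeft Z :=
    NatIso.ofComponents (fun T => iso T) (fun {T T'} g => hnat T T' g)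
  let adj1 : Over.star Z ⋙ Over.forget Z ⊣ Over.star Z ⋙ (Over.star Z).rightAdjoint :=
    (Adjunction.ofIsLeftAdjoint (Over.star Z)).comp (Over.forgetAdjStar Z)
  let adj2 : tensorLeft Z ⊣ ihom Z := ihom.adjunction Z
  exact ⟨(adj1.rightAdjointUniq (adj2.ofNatIsoLeft e.symm)).app Y⟩

end Groth.Agent.S6172
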