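import Groth.Statements.S6176
-- import your own Groth.Agent.* helpers here

set_option autoImplicit false
universe u
open CategoryTheory
open SGA4

namespace Groth.Agent.S6176

open CategoryTheory.Limits in
/-- The clause on products (topos of sheaves of sets on a small site; j : E/U -> E the open embedding
defined by an open U, i.e. a subobject of the final object, so that j_! is the forgetful functor
from objects over U): j_! commutes with products indexed by a nonempty u-small set. (Commutation
with fibre products and cofiltered limits, the other clauses, holds for the forgetful functor of any
slice.) -/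
theorem result {C : Type u} [SmallCategory C] (J : GrothendieckTopology C)
    (U : Sheaf J (Type u)) (hU : SGA4.IsOpen U) (I : Type u) [Nonempty I] :
    PreservesLimitsOfShape (Discrete I) (Over.forget U) := by
  have hU' : Mono (terminal.from U) := hU
  have hsub : ∀ {T : Sheaf J (Type u)} (a b : T ⟶ U), a = b := fun a b =>
    (cancel_mono (terminal.from U)).mp (terminal.hom_ext _ _)
  refine ⟨fun {K} => ⟨fun {c} hc => ⟨?_⟩⟩⟩
  let i₀ : Discrete I := ⟨Classical.arbitrary I⟩
  -- lift a cone over `K ⋙ forget` to a cone over `K`
  let up : Cone (K ⋙ Over.forget U) → Cone K := fun s =>
    { pt := Over.mk (s.π.app i₀ ≫ (K.obj i₀).hom)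
      π :=
        { app := fun i => Over.homMk (s.π.app i) (hsub _ _)
          naturality := by
            intro i j f
            apply Over.OverMorphism.ext
            exact s.π.naturality f } }
  refine
    { lift := fun s => (hc.lift (up s)).left
      fac := ?_
      uniq := ?_ }
  · intro s j
    exact congrArg CommaMorphism.left (hc.fac (up s) j)
  · intro s m hm
    let m' : (up s).pt ⟶ c.pt := Over.homMk m (hsub _ _)
    have : m' = hc.lift (up s) := by
      apply hc.uniq (up s) m'
      intro j
      apply Over.OverMorphism.ext
      exact hm j
    have h2 := congrArg CommaMorphism.left this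
    exact h2

end Groth.Agent.S6176
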