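import Groth.Statements.S6177
import Mathlib.CategoryTheory.Sites.CartesianClosed
import Mathlib.CategoryTheory.Monoidal.Closed.FunctorToTypes
import Mathlib.CategoryTheory.Monoidal.Closed.Types
import Mathlib.CategoryTheory.Limits.Preserves.Shapes.Pullbacks

set_option autoImplicit false
universe u
open CategoryTheory
open SGA4

namespace Groth.Agent.S6177

open CategoryTheory.Limits MonoidalCategory in
/-- `U ⨯ -` is naturally isomorphic to `U ⊗ -`, hence a left adjoint. -/
theorem preservesPushouts_prodFunctor {C : Type u} [SmallCategory C] (J : GrothendieckTopology C)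
    (Z : Sheaf J (Type u)) : PreservesColimitsOfShape WalkingSpan (prod.functor.obj Z) := by
  let iso : ∀ T : Sheaf J (Type u), (Z ⨯ T) ≅ (Z ⊗ T) :=
    fun T => IsLimit.conePointUniqueUpToIso (prodIsProd Z T)
      (CartesianMonoidalCategory.tensorProductIsBinaryProduct Z T)
  have hfst : ∀ T, (iso T).hom ≫ CartesianMonoidalCategory.fst Z T = prod.fst := fun T =>
    IsLimit.conePointUniqueUpToIso_hom_comp (prodIsProd Z T)
      (CartesianMonoidalCategory.tensorProductIsBinaryProduct Z T) ⟨WalkingPair.left⟩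
  have hsnd : ∀ T, (iso T).hom ≫ CartesianMonoidalCategory.snd Z T = prod.snd := fun T =>
    IsLimit.conePointUniqueUpToIso_hom_comp (prodIsProd Z T)
      (CartesianMonoidalCategory.tensorProductIsBinaryProduct Z T) ⟨WalkingPair.right⟩
  have hnat : ∀ (T T' : Sheaf J (Type u)) (g : T ⟶ T'),
      prod.map (𝟙 Z) g ≫ (iso T').hom = (iso T).hom ≫ (Z ◁ g) := by
    intro T T' g
    apply CartesianMonoidalCategory.hom_ext
    · have h1 : (Z ◁ g) ≫ CartesianMonoidalCategory.fst Z T' = CartesianMonoidalCategory.fst Z T :=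
        CartesianMonoidalCategory.whiskerLeft_fst Z g
      rw [Category.assoc, hfst, Category.assoc, h1, hfst, prod.map_fst, Category.comp_id]
    · have h2 : (Z ◁ g) ≫ CartesianMonoidalCategory.snd Z T' =
          CartesianMonoidalCategory.snd Z T ≫ g :=
        CartesianMonoidalCategory.whiskerLeft_snd Z g
      rw [Category.assoc, hsnd, Category.assoc, h2, ← Category.assoc, hsnd, prod.map_snd]
  let e : prod.functor.obj Z ≅ tensorLeft Z :=
    NatIso.ofComponents (fun T => iso T) (fun {T T'} g => hnat T T' g)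
  have : PreservesColimitsOfShape WalkingSpan (tensorLeft Z) :=
    (ihom.adjunction Z).leftAdjoint_preservesColimits.preservesColimitsOfShape
  exact preservesColimitsOfShape_of_natIso e.symm

open CategoryTheory.Limits in
theorem key {C : Type u} [SmallCategory C] (J : GrothendieckTopology C)
    (U : Sheaf J (Type u)) (hU : SGA4.IsOpen U) (Y : Sheaf J (Type u)) :
    IsIso (prod.fst : U ⨯ pushout (prod.fst : U ⨯ Y ⟶ U) (prod.snd : U ⨯ Y ⟶ Y) ⟶ U) := by
  have hU' : Mono (terminal.from U) := hU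
  have hsub : ∀ {T : Sheaf J (Type u)} (a b : T ⟶ U), a = b := fun a b =>
    (cancel_mono (terminal.from U)).mp (terminal.hom_ext _ _)
  have hF : PreservesColimitsOfShape WalkingSpan (prod.functor.obj U) :=
    preservesPushouts_prodFunctor J U
  have hpo : IsPushout (prod.map (𝟙 U) (prod.fst : U ⨯ Y ⟶ U))
      (prod.map (𝟙 U) (prod.snd : U ⨯ Y ⟶ Y))
      (prod.map (𝟙 U) (pushout.inl (prod.fst : U ⨯ Y ⟶ U) (prod.snd : U ⨯ Y ⟶ Y)))
      (prod.map (𝟙 U) (pushout.inr (prod.fst : U ⨯ Y ⟶ U) (prod.snd : U ⨯ Y ⟶ Y))) :=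
    (IsPushout.of_hasPushout (prod.fst : U ⨯ Y ⟶ U) (prod.snd : U ⨯ Y ⟶ Y)).map
      (prod.functor.obj U)
  have h1 : IsIso (prod.map (𝟙 U) (prod.snd : U ⨯ Y ⟶ Y)) := by
    refine ⟨prod.lift prod.fst (𝟙 _), ?_, ?_⟩
    · apply prod.hom_ext
      · rw [Category.assoc, prod.lift_fst, prod.map_fst, Category.comp_id, Category.id_comp]
      · rw [Category.assoc, prod.lift_snd, Category.comp_id, Category.id_comp]
        apply prod.hom_ext
        · exact hsub _ _
        · rw [prod.map_snd]
    · apply prod.hom_ext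
      · rw [Category.assoc, prod.map_fst, Category.comp_id, prod.lift_fst, Category.id_comp]
      · rw [Category.assoc, prod.map_snd, ← Category.assoc, prod.lift_snd, Category.id_comp]
  have h2 : IsIso (prod.map (𝟙 U) (pushout.inl (prod.fst : U ⨯ Y ⟶ U) (prod.snd : U ⨯ Y ⟶ Y))) :=
    hpo.isIso_inl_of_isIso
  have h3 : IsIso (prod.fst : U ⨯ U ⟶ U) := by
    refine ⟨prod.lift (𝟙 U) (𝟙 U), ?_, ?_⟩
    · apply prod.hom_ext
      · rw [Category.assoc, prod.lift_fst, Category.comp_id, Category.id_comp]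
      · rw [Category.assoc, prod.lift_snd, Category.comp_id, Category.id_comp]
        exact hsub _ _
    · rw [prod.lift_fst]
  have h4 : prod.map (𝟙 U) (pushout.inl (prod.fst : U ⨯ Y ⟶ U) (prod.snd : U ⨯ Y ⟶ Y)) ≫ prod.fst =
      prod.fst := by
    rw [prod.map_fst, Category.comp_id]
  have h5 : (prod.fst : U ⨯ pushout (prod.fst : U ⨯ Y ⟶ U) (prod.snd : U ⨯ Y ⟶ Y) ⟶ U) =
      inv (prod.map (𝟙 U) (pushout.inl (prod.fst : U ⨯ Y ⟶ U) (prod.snd : U ⨯ Y ⟶ Y))) ≫
        prod.fst := by
    rw [IsIso.eq_inv_comp, h4]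
  rw [h5]
  infer_instance

open CategoryTheory.Limits in
/-- Topos of sheaves of sets on a small site; U an open, i.e. a subobject of the final object; X_CU the
pushout of U <- U x X -> X along the two projections: (ii) <=> (iii): the canonical map X -> X_CU is
an isomorphism if and only if the projection U x X -> U is an isomorphism (X belongs to the closed
complement of U); and (i) => (iii): if X is isomorphic to Y_CU for some Y then X belongs to the
closed complement of U ((iii) => (i) with Y = X is then immediate from (ii)). -/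
theorem result {C : Type u} [SmallCategory C] (J : GrothendieckTopology C)
    (U : Sheaf J (Type u)) (hU : SGA4.IsOpen U) (X : Sheaf J (Type u)) :
    (SGA4.closedCompl U X ↔ IsIso (pushout.inr (prod.fst : U ⨯ X ⟶ U) (prod.snd : U ⨯ X ⟶ X))) ∧
    ((∃ Y : Sheaf J (Type u), Nonempty (X ≅ pushout (prod.fst : U ⨯ Y ⟶ U) (prod.snd : U ⨯ Y ⟶ Y))) →
      SGA4.closedCompl U X) := by
  have hiso : ∀ (X Y : Sheaf J (Type u)), (X ≅ pushout (prod.fst : U ⨯ Y ⟶ U) (prod.snd : U ⨯ Y ⟶ Y)) →
      SGA4.closedCompl U X := by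
    intro X Y e
    have := key J U hU Y
    have h : (prod.fst : U ⨯ X ⟶ U) = prod.map (𝟙 U) e.hom ≫ prod.fst := by simp
    change IsIso (prod.fst : U ⨯ X ⟶ U)
    rw [h]
    infer_instance
  refine ⟨⟨fun h => ?_, fun h => ?_⟩, ?_⟩
  · have : IsIso (prod.fst : U ⨯ X ⟶ U) := h
    infer_instance
  · exact hiso X X (asIso (pushout.inr (prod.fst : U ⨯ X ⟶ U) (prod.snd : U ⨯ X ⟶ X)))
  · rintro ⟨Y, ⟨e⟩⟩
    exact hiso X Y e

end Groth.Agent.S6177
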