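import Groth.Statements.S6180
import Groth.Agent.H4.StrictHensSection
import Groth.Agent.H4.StalkPull

set_option autoImplicit false
open CategoryTheory CategoryTheory.Limits AlgebraicGeometry Opposite
universe u
open EtDesc

namespace Groth.Agent.S6180

/-- Let X be a scheme, x a point of X, R a strict henselisation of O_{X,x} with strict localisation X̄ =
Spec R -> X and attached geometric point ξ : Spec κ(R) -> X. The fibre functor F ↦ F_ξ on etale
sheaves of sets on X is isomorphic to the functor F ↦ Γ(X̄, F̄), F̄ the inverse image of F on X̄.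
(The published statement gives a canonical isomorphism — global sections of F̄ identified with its
stalk at the closed point of X̄, then with F_ξ; this row asserts only that an isomorphism of
functors exists.) -/
theorem result (X : Scheme.{u}) (x : X)
    (R : Type u) [CommRing R] [IsLocalRing R] [Algebra (X.presheaf.stalk x) R]
    [IsLocalHom (algebraMap (X.presheaf.stalk x) R)] [Hensel.IsStrictHenselization (X.presheaf.stalk x) R]
    [IsSepClosed (IsLocalRing.ResidueField R)] :
    Nonempty ((Scheme.pointSmallEtale (Hens2.geomPt X x R)).sheafFiber (A := Type (u + 1)) ≅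
      EtDesc.pullSh (Hens2.specOf X x R) ⋙
        (sheafSections (Spec (CommRingCat.of R)).smallEtaleTopology (Type (u + 1))).obj
          (op (EtCoh.top (Spec (CommRingCat.of R))))) := by
  haveI hh : HenselianLocalRing R :=
    Hensel.IsStrictHenselization.henselian (R := X.presheaf.stalk x) (S := R)
  let Φ := Scheme.pointSmallEtale (Groth.Agent.H4.closedGeomPt R)
  let Γf : EtDesc.Sh (Spec (CommRingCat.of R)) ⥤ Type (u + 1) :=
    (sheafSections (Spec (CommRingCat.of R)).smallEtaleTopology (Type (u + 1))).obj
      (op (EtCoh.top (Spec (CommRingCat.of R))))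
  let α : Γf ⟶ Φ.sheafFiber (A := Type (u + 1)) :=
    { app := fun F => Φ.toPresheafFiber (EtCoh.top (Spec (CommRingCat.of R)))
        (Groth.Agent.H4.closedGeomPtTop R) F.obj
      naturality := fun F G φ =>
        (Φ.toPresheafFiber_naturality φ.hom (EtCoh.top (Spec (CommRingCat.of R)))
          (Groth.Agent.H4.closedGeomPtTop R)).symm }
  haveI : ∀ F, IsIso (α.app F) := fun F =>
    (isIso_iff_bijective _).2 (Groth.Agent.H4.toPresheafFiber_top_bijective R F.obj)
  haveI : IsIso α := NatIso.isIso_of_isIso_app α
  let e1 := Groth.Agent.H4.stalkPullIso (Hens2.specOf X x R) (Groth.Agent.H4.closedGeomPt R)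
    (Type (u + 1))
  exact ⟨e1 ≪≫ Functor.isoWhiskerLeft (EtDesc.pullSh (Hens2.specOf X x R)) (asIso α).symm⟩

end Groth.Agent.S6180
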