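import Groth.Statements.S6184
import Mathlib.CategoryTheory.Adjunction.Triple
import Mathlib.CategoryTheory.Sites.CoverLifting

set_option autoImplicit false
open CategoryTheory CategoryTheory.Limits AlgebraicGeometry Opposite
universe u
open BigSite

namespace Groth.Agent.S6184

/-- Let X be a scheme, u the inclusion of the small etale site of X into the big etale site (X-schemes
with the etale topology), u_* restriction of sheaves along it and u^* its left adjoint. For every
sheaf of sets G and every abelian sheaf G on the small etale site, the unit G -> u_* u^* G is an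
isomorphism (so u^* is fully faithful). Stated for sheaves of sets (first conjunct, with Mathlib's
sheaf pullback along the inclusion) and for abelian sheaves (second conjunct, the prelude's
adjunction on the big etale site). -/
theorem result (X : Scheme.{u}) :
    (∀ G : EtDesc.Sh X, IsIso (((EtFppf.a X).sheafAdjunctionContinuous (Type (u + 1)) X.smallEtaleTopology
      (QuotSh.J Scheme.etalePrecoverage X)).unit.app G)) ∧
    (∀ G : EtCoh.Ab X, IsIso ((BigSite.piEtAdj Scheme.etalePrecoverage X).unit.app G)) := by
  haveI : (EtFppf.a X).Full := inferInstanceAs (Scheme.Etale.forget X).Full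
  haveI : (EtFppf.a X).Faithful := inferInstanceAs (Scheme.Etale.forget X).Faithful
  haveI : (EtFppf.a X).op.Full := inferInstance
  haveI : (EtFppf.a X).op.Faithful := inferInstance
  -- general statement for a coefficient category with the relevant Kan extensions
  have key : ∀ (A : Type (u + 2)) [Category.{u + 1} A]
      [∀ (F : (X.Etale)ᵒᵖ ⥤ A), (EtFppf.a X).op.HasPointwiseRightKanExtension F]
      [((EtFppf.a X).sheafPushforwardContinuous A X.smallEtaleTopology
        (QuotSh.J Scheme.etalePrecoverage X)).IsRightAdjoint],
      IsIso ((EtFppf.a X).sheafAdjunctionContinuous A X.smallEtaleTopology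
        (QuotSh.J Scheme.etalePrecoverage X)).unit := by
    intro A _ _ _
    let t : Adjunction.Triple
        ((EtFppf.a X).sheafPullback A X.smallEtaleTopology (QuotSh.J Scheme.etalePrecoverage X))
        ((EtFppf.a X).sheafPushforwardContinuous A X.smallEtaleTopology
          (QuotSh.J Scheme.etalePrecoverage X))
        ((EtFppf.a X).sheafPushforwardCocontinuous A X.smallEtaleTopology
          (QuotSh.J Scheme.etalePrecoverage X)) :=
      ⟨(EtFppf.a X).sheafAdjunctionContinuous A X.smallEtaleTopology
          (QuotSh.J Scheme.etalePrecoverage X),
        (EtFppf.a X).sheafAdjunctionCocontinuous A X.smallEtaleTopology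
          (QuotSh.J Scheme.etalePrecoverage X)⟩
    refine t.isIso_unit_iff_isIso_counit.2 ?_
    haveI : ∀ G, IsIso (((EtFppf.a X).sheafAdjunctionCocontinuous A X.smallEtaleTopology
        (QuotSh.J Scheme.etalePrecoverage X)).counit.app G) := by
      intro G
      haveI : IsIso ((sheafToPresheaf _ _).map
          (((EtFppf.a X).sheafAdjunctionCocontinuous A X.smallEtaleTopology
            (QuotSh.J Scheme.etalePrecoverage X)).counit.app G)) := by
        change IsIso (((EtFppf.a X).sheafAdjunctionCocontinuous A X.smallEtaleTopology
            (QuotSh.J Scheme.etalePrecoverage X)).counit.app G).hom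
        rw [Functor.sheafAdjunctionCocontinuous_counit_app_hom]
        haveI : ∀ (F : (X.Etale)ᵒᵖ ⥤ A), (EtFppf.a X).op.HasRightKanExtension F := inferInstance
        rw [Functor.ranAdjunction_counit]
        exact NatIso.isIso_app_of_isIso _ _
      exact isIso_of_fully_faithful (sheafToPresheaf _ _) _
    exact NatIso.isIso_of_isIso_app _
  constructor
  · intro G
    haveI := key (Type (u + 1))
    infer_instance
  · intro G
    haveI := key AddCommGrpCat.{u + 1}
    infer_instance

end Groth.Agent.S6184
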