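import Groth.Statements.S6185
import Groth.Agent.H45.ExtAdjAcy
import Groth.Agent.H45.BigSiteExact
import Groth.Prelude.Def_EtCore
import Mathlib.CategoryTheory.Adjunction.Mates

set_option autoImplicit false
open CategoryTheory CategoryTheory.Limits AlgebraicGeometry Opposite
universe u
open BigSite

namespace Groth.Agent.S6185

/-- For a scheme X and an abelian sheaf F on the big etale site of X, the cohomology groups H^p(X_et,
F|) of the restriction of F to the small etale site and H^p of F on the big etale site are
isomorphic for every p. Existence of an additive isomorphism only (the published statement asserts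
that the canonical comparison homomorphism is an isomorphism; that map is not named here). -/
theorem result (X : Scheme.{u})
    (F : BigSite.Ab Scheme.etalePrecoverage X) (p : ℕ) :
    Nonempty (EtCoh.H X ((BigSite.resEt Scheme.etalePrecoverage X).obj F) p ≃+
      BigSite.H Scheme.etalePrecoverage X F p) := by
  let K := Scheme.etalePrecoverage.{u}
  haveI : PreservesFiniteLimits (BigSite.resEt K X) := by
    haveI := (BigSite.piEtAdj K X).rightAdjoint_preservesLimits
    infer_instance
  haveI : PreservesFiniteColimits (BigSite.resEt K X) := by
    haveI := (BigSite.iEtAdj K X).leftAdjoint_preservesColimits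
    infer_instance
  haveI := Groth.Agent.H45.BigSiteExact.preservesFiniteLimits_piEtPull K X
  haveI : (BigSite.piEtPull K X).Additive := (BigSite.piEtAdj K X).left_adjoint_additive
  have hT' : IsTerminal ((EtFppf.a X).obj (EtCoh.top X)) := Over.mkIdTerminal
  -- the inverse image of the constant sheaf is constant
  let c : constantSheaf X.smallEtaleTopology AddCommGrpCat.{u + 1} ⋙ BigSite.piEtPull K X ≅
      constantSheaf (QuotSh.J K X) AddCommGrpCat.{u + 1} :=
    (conjugateIsoEquiv (constantSheafAdj (QuotSh.J K X) AddCommGrpCat.{u + 1} hT')
      ((constantSheafAdj X.smallEtaleTopology AddCommGrpCat.{u + 1} (EtCore.topIsTerminal X)).comp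
        (BigSite.piEtAdj K X))).symm (Iso.refl _)
  obtain ⟨e⟩ := Groth.Agent.H45.ExtAdj.nonempty_ext_addEquiv_of_rightDerived_isZero
    (BigSite.piEtAdj K X) F
    (fun i hi => Groth.Agent.H45.ExtAdj.isZero_rightDerived_of_exact (BigSite.resEt K X) F i hi)
    ((constantSheaf X.smallEtaleTopology AddCommGrpCat.{u + 1}).obj (AddCommGrpCat.of (ULift ℤ))) p
  exact ⟨((Groth.Agent.H45.ExtAdj.addEquivOfIsoLeft (c.app _).symm F p).trans e).symm⟩

end Groth.Agent.S6185
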