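import Groth.Statements.S6196
import Groth.Agent.H92.StdCx
import Groth.Agent.H92.PerfSpread
import Groth.Agent.H28.TildeAmp
import Groth.Agent.H28.ClosedStalk
import Groth.Agent.H90.TildePerf

set_option autoImplicit false
set_option linter.style.haveILetI false
universe u
open CategoryTheory CategoryTheory.Limits AlgebraicGeometry
attribute [local instance] HasDerivedCategory.standard
open KSix

namespace Groth.Agent.S6196

open Groth.Agent.H92.StdCx Groth.Agent.H92.PerfSpread DRing Groth.Agent.H35.FlatBC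
  Groth.Agent.H31.Stalk Groth.Agent.H90.SPerf Opposite

section Geometry

variable {X : Scheme.{u}} (A : CommRingCat.{u}) (j : Spec A ⟶ X) [IsOpenImmersion j] (p : Spec A)

/-- `M ↦ j_* (M~)` -/
noncomputable abbrev Φ : ModuleCat.{u} A ⥤ X.Modules :=
  tilde.functor A ⋙ Scheme.Modules.pushforward j

/-- the stalk map of `j` at `p` -/
noncomputable abbrev σ : X.presheaf.stalk (j.base p) →+* (Spec A).presheaf.stalk p :=
  (j.stalkMap p).hom

theorem σ_bijective : Function.Bijective (σ A j p) :=
  ConcreteCategory.bijective_of_isIso (j.stalkMap p)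

noncomputable instance instAddComp :
    (ext (ψx A p) ⋙ ModuleCat.restrictScalars (σ A j p)).Additive where
  map_add := by
    intro M N f g
    show (ModuleCat.restrictScalars (σ A j p)).map ((ext (ψx A p)).map (f + g)) =
      (ModuleCat.restrictScalars (σ A j p)).map ((ext (ψx A p)).map f) +
      (ModuleCat.restrictScalars (σ A j p)).map ((ext (ψx A p)).map g)
    rw [Functor.map_add]
    rfl

/-- the stalk of `j_* (M~)` at `j p`, naturally in `M` -/
noncomputable def stalkΦIso :
    Φ A j ⋙ DerSch.stalkFunctor X (j.base p) ≅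
      ext (ψx A p) ⋙ ModuleCat.restrictScalars (σ A j p) :=
  Functor.associator _ _ _ ≪≫
    Functor.isoWhiskerLeft (tilde.functor A)
      (Groth.Agent.H28.ClosedStalk.pushStalkIso j j.isOpenEmbedding.isInducing p) ≪≫
    (Functor.associator _ _ _).symm ≪≫
    Functor.isoWhiskerRight (Groth.Agent.H28.TildeAmp.stalkFunctorTildeIso A p)
      (ModuleCat.restrictScalars (σ A j p))

variable (m : ℤ → ℕ) (D : ∀ n : ℤ, Matrix (Fin (m (n + 1))) (Fin (m n)) A)
  (hD : ∀ n, D (n + 1) * D n = 0)

/-- the complex `j_* (E~)` for the standard complex `E` -/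
noncomputable abbrev Fcx : CochainComplex X.Modules ℤ :=
  ((Φ A j).mapHomologicalComplex (ComplexShape.up ℤ)).obj (stdCx A m D hD)

/-- the matrices over the stalk -/
noncomputable def Dst (n : ℤ) : Matrix (Fin (m (n + 1))) (Fin (m n)) (X.presheaf.stalk (j.base p)) :=
  ((D n).map (ψx A p)).map (invHom (σ A j p) (σ_bijective A j p))

include hD in
theorem Dst_hD (n : ℤ) : Dst A j p m D (n + 1) * Dst A j p m D n = 0 :=
  map_hD (invHom (σ A j p) (σ_bijective A j p)) m (fun n => (D n).map (ψx A p))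
    (map_hD (ψx A p) m D hD) n

/-- the complex of stalks of `j_* (E~)` at `j p` -/
noncomputable def stalkCxIso :
    ((DerSch.stalkFunctor X (j.base p)).mapHomologicalComplex (ComplexShape.up ℤ)).obj
        (Fcx A j m D hD) ≅
      stdCx (X.presheaf.stalk (j.base p)) m (Dst A j p m D) (Dst_hD A j p m D hD) :=
  (NatIso.mapHomologicalComplex (stalkΦIso A j p) (ComplexShape.up ℤ)).app (stdCx A m D hD) ≪≫
    ((ModuleCat.restrictScalars (σ A j p)).mapHomologicalComplex (ComplexShape.up ℤ)).mapIso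
      (extStdIso (ψx A p) m D hD) ≪≫
    resStdIso (σ A j p) (σ_bijective A j p) m (fun n => (D n).map (ψx A p))
      (map_hD (ψx A p) m D hD)

/-- `j_* (E~)` is perfect over the image of `j` -/
theorem isPerfect_restrict (a b : ℤ) (hm : ∀ i : ℤ, i < a ∨ b < i → m i = 0) :
    DCoh.IsPerfect (DerivedCategory.Q.obj
      ((DCoh.restrictCx j.opensRange).obj (Fcx A j m D hD))) := by
  rw [isPerfect_iff]
  intro y
  have hE : DCoh.IsStrictlyPerfect
      (((tilde.functor A).mapHomologicalComplex (ComplexShape.up ℤ)).obj (stdCx A m D hD)) := by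
    refine ⟨⟨a, b, fun i hi => Functor.map_isZero (tilde.functor A)
      (vanishesOutside_stdCx A m D hD a b hm i hi)⟩, fun i => ?_⟩
    exact (Groth.Agent.S12451.result (ModuleCat.of A (Fin (m i) → A))).2
      ⟨(inferInstance : Module.Finite A (Fin (m i) → A)),
        (inferInstance : Module.Projective A (Fin (m i) → A))⟩
  have hy : j.isoOpensRange.hom (j.isoOpensRange.inv y) = y :=
    Scheme.inv_hom_apply j.isoOpensRange y
  rw [← hy]
  let ν : tilde.functor A ≅ ((Φ A j ⋙ Scheme.Modules.restrictFunctor j.opensRange.ι) ⋙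
      Scheme.Modules.restrictFunctor j.isoOpensRange.hom) :=
    (Functor.associator _ _ _ ≪≫
      Functor.isoWhiskerLeft (Φ A j)
        ((Scheme.Modules.restrictFunctorComp j.isoOpensRange.hom j.opensRange.ι).symm ≪≫
          Scheme.Modules.restrictFunctorCongr j.isoOpensRange_hom_ι) ≪≫
      Functor.associator _ _ _ ≪≫
      Functor.isoWhiskerLeft (tilde.functor A) (Scheme.Modules.restrictFunctorAdjCounitIso j) ≪≫
      Functor.rightUnitor _).symm
  let c : ((Scheme.Modules.restrictFunctor j.isoOpensRange.hom).mapHomologicalComplex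
      (ComplexShape.up ℤ)).obj ((DCoh.restrictCx j.opensRange).obj (Fcx A j m D hD)) ≅
      ((tilde.functor A).mapHomologicalComplex (ComplexShape.up ℤ)).obj (stdCx A m D hD) :=
    ((NatIso.mapHomologicalComplex ν (ComplexShape.up ℤ)).app (stdCx A m D hD)).symm
  exact locPerfO_of_immersion j.isoOpensRange.hom (j.isoOpensRange.inv y) hE
    (restrictDObjIso j.isoOpensRange.hom (Iso.refl _) ≪≫ DerivedCategory.Q.mapIso c)

end Geometry

section Affine

variable {X : Scheme.{u}} {U : X.Opens} (hU : IsAffineOpen U)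

/-- the key identity between the maps to the stalks -/
theorem invHom_ψx (p : Spec Γ(X, U)) (hx : hU.fromSpec.base p ∈ U) (s : Γ(X, U)) :
    invHom (σ Γ(X, U) hU.fromSpec p) (σ_bijective Γ(X, U) hU.fromSpec p) (ψx Γ(X, U) p s) =
      X.presheaf.germ U (hU.fromSpec.base p) hx s := by
  have h1 : σ Γ(X, U) hU.fromSpec p (X.presheaf.germ U (hU.fromSpec.base p) hx s) =
      ψx Γ(X, U) p s := by
    have h2 := Scheme.Hom.germ_stalkMap_apply hU.fromSpec U p hx s
    refine h2.trans ?_
    rw [hU.fromSpec_app_self]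
    change (Spec Γ(X, U)).presheaf.germ (hU.fromSpec ⁻¹ᵁ U) p hx
      ((Spec Γ(X, U)).presheaf.map (eqToHom hU.fromSpec_preimage_self).op
        ((Scheme.ΓSpecIso Γ(X, U)).inv.hom s)) = _
    have hx' : p ∈ hU.fromSpec ⁻¹ᵁ U := hx
    exact (TopCat.Presheaf.germ_res_apply (Spec Γ(X, U)).presheaf
      (eqToHom hU.fromSpec_preimage_self) p hx' ((Scheme.ΓSpecIso Γ(X, U)).inv.hom s)).trans rfl
  rw [← h1, invHom_apply]

theorem Dst_eq (p : Spec Γ(X, U)) (hx : hU.fromSpec.base p ∈ U) (m : ℤ → ℕ)
    (D : ∀ n : ℤ, Matrix (Fin (m (n + 1))) (Fin (m n)) Γ(X, U)) :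
    Dst Γ(X, U) hU.fromSpec p m D =
      fun n => (D n).map (X.presheaf.germ U (hU.fromSpec.base p) hx).hom := by
  funext n
  ext k l
  exact invHom_ψx hU p hx (D n k l)

end Affine

/-- transport of the conclusion along an equality of points -/
theorem transport {X : Scheme.{u}} (F' : CochainComplex X.Modules ℤ) (m : ℤ → ℕ) (U : X.Opens)
    (DU : ∀ n : ℤ, Matrix (Fin (m (n + 1))) (Fin (m n)) Γ(X, U))
    (hDU : ∀ n, DU (n + 1) * DU n = 0) (x x' : X) (h : x' = x) (hxU : x ∈ U) (hx'U : x' ∈ U)
    (e : Nonempty (DRing.toD (((DerSch.stalkFunctor X x').mapHomologicalComplex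
        (ComplexShape.up ℤ)).obj F') ≅
      DRing.toD (stdCx (X.presheaf.stalk x') m
        (fun n => (DU n).map (X.presheaf.germ U x' hx'U).hom)
        (map_hD (X.presheaf.germ U x' hx'U).hom m DU hDU)))) :
    Nonempty (DRing.toD (((DerSch.stalkFunctor X x).mapHomologicalComplex
        (ComplexShape.up ℤ)).obj F') ≅
      DRing.toD (stdCx (X.presheaf.stalk x) m
        (fun n => (DU n).map (X.presheaf.germ U x hxU).hom)
        (map_hD (X.presheaf.germ U x hxU).hom m DU hDU))) := by
  subst h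
  exact e

/-- Let X be a scheme, x ∈ X and P a perfect object of the derived category of the local ring of X at x.
Then there are an open neighbourhood U of x and a cochain complex F' of O_X-modules, perfect over U,
whose complex of stalks at x is isomorphic to P in that derived category. (The published statement
is for a point of a ringed topos; this row is the case of schemes, the complex being taken on all of
X and asked to be perfect over U.) -/
theorem result {X : Scheme.{u}} (x : X) (P : Dual.D ((X.presheaf.stalk x) : Type u))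
    (hP : DRing.IsPerfect ((X.presheaf.stalk x) : Type u) P) :
    ∃ (U : X.Opens) (F' : CochainComplex X.Modules ℤ), x ∈ U ∧
      DCoh.IsPerfect (DerivedCategory.Q.obj ((DCoh.restrictCx U).obj F')) ∧
      Nonempty (DRing.toD (((DerSch.stalkFunctor X x).mapHomologicalComplex (ComplexShape.up ℤ)).obj F') ≅ P) := by
  obtain ⟨m, a, b, D, hD, hm, ⟨eP⟩⟩ := exists_std_of_isPerfect (X.presheaf.stalk x) P hP
  obtain ⟨U, hU, hxU, DU, hDU, hgerm⟩ := exists_affine_matrices x m a b hm D hD
  have hp : hU.fromSpec.base (hU.primeIdealOf ⟨x, hxU⟩) = x := hU.fromSpec_primeIdealOf ⟨x, hxU⟩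
  have hx'U : hU.fromSpec.base (hU.primeIdealOf ⟨x, hxU⟩) ∈ U := by rw [hp]; exact hxU
  refine ⟨hU.fromSpec.opensRange, Fcx Γ(X, U) hU.fromSpec m DU hDU,
    ⟨hU.primeIdealOf ⟨x, hxU⟩, hp⟩,
    isPerfect_restrict Γ(X, U) hU.fromSpec m DU hDU a b hm, ?_⟩
  have e0 := stalkCxIso Γ(X, U) hU.fromSpec (hU.primeIdealOf ⟨x, hxU⟩) m DU hDU
  have hDst := Dst_eq hU (hU.primeIdealOf ⟨x, hxU⟩) hx'U m DU
  have e1 : Nonempty (DRing.toD (((DerSch.stalkFunctor X
      (hU.fromSpec.base (hU.primeIdealOf ⟨x, hxU⟩))).mapHomologicalComplex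
        (ComplexShape.up ℤ)).obj (Fcx Γ(X, U) hU.fromSpec m DU hDU)) ≅
      DRing.toD (stdCx (X.presheaf.stalk (hU.fromSpec.base (hU.primeIdealOf ⟨x, hxU⟩))) m
        (fun n => (DU n).map (X.presheaf.germ U _ hx'U).hom)
        (map_hD (X.presheaf.germ U _ hx'U).hom m DU hDU))) :=
    ⟨DerivedCategory.Q.mapIso (e0 ≪≫ eqToIso (stdCx_congr _ m _ _ hDst _ _))⟩
  obtain ⟨e2⟩ := transport (Fcx Γ(X, U) hU.fromSpec m DU hDU) m U DU hDU x _ hp hxU hx'U e1
  have hDD : (fun n => (DU n).map (X.presheaf.germ U x hxU).hom) = D := by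
    funext n
    ext k l
    exact hgerm n k l
  exact ⟨e2 ≪≫ eqToIso (congrArg DRing.toD (stdCx_congr _ m _ _ hDD _ hD)) ≪≫ eP⟩

end Groth.Agent.S6196
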