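import Groth.Statements.S6213
import Groth.Agent.H90.ChartMod
import Groth.Agent.H28.StalkFlatAmp
import Groth.Agent.H35.TorBridge

set_option autoImplicit false
universe u
open CategoryTheory CategoryTheory.Limits AlgebraicGeometry
attribute [local instance] HasDerivedCategory.standard
open KSix

namespace Groth.Agent.S6213

/-- Let f : X ⟶ Y be locally of finite type and M an O_X-module. Then M placed in degree 0 has perfect
amplitude in [0, 0] relative to f (pseudo-coherent relative to f in chart form and of stalkwise tor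
amplitude in [0, 0] over the local rings of Y) if and only if M is flat over Y at every point of X
and M placed in degree 0 is (-1)-pseudo-coherent relative to f (that is, finitely presented relative
to f). -/
theorem result {X Y : Scheme.{u}} (f : X ⟶ Y)
    [LocallyOfFiniteType f] (M : X.Modules) :
    DerSch.HasPerfAmplitudeRel f 0 0 ((HomologicalComplex.single _ (ComplexShape.up ℤ) 0).obj M) ↔
      (FlatMod.IsFlatOver f M ∧ DerSch.IsPseudoCoherentRel f (-1) (DCoh.toD X ((HomologicalComplex.single _ (ComplexShape.up ℤ) 0).obj M))) := by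
  have eS : ∀ x : X, DRing.toD ((DerSch.stalkCxOver f x).obj
      ((HomologicalComplex.single X.Modules (ComplexShape.up ℤ) 0).obj M)) ≅
      (DerivedCategory.singleFunctor (ModuleCat.{u} (Y.presheaf.stalk (f.base x))) 0).obj
        ((DerSch.stalkOver f x).obj M) := fun x =>
    DerivedCategory.Q.mapIso ((HomologicalComplex.singleMapHomologicalComplex
      (DerSch.stalkOver f x) (ComplexShape.up ℤ) 0).app M) ≪≫
      ((DerivedCategory.singleFunctorIsoCompQ _ 0).app _).symm
  have h0 : ∀ x : X, DRing.HasTorAmplitudeIn (Y.presheaf.stalk (f.base x)) 0 0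
      (Dual.inD (Y.presheaf.stalk (f.base x)) ((DerSch.stalkOver f x).obj M)) ↔
      Module.Flat (Y.presheaf.stalk (f.base x)) ((DerSch.stalkOver f x).obj M) := by
    intro x
    rw [← Groth.Agent.H35.TorAmp.hasTorDimLE_zero_iff_flat,
      Groth.Agent.H35.TorAmp.hasTorDimLE_iff]
    simp
  have hamp : ∀ x : X, DerSch.HasTorAmplitudeAt f 0 0
      ((HomologicalComplex.single X.Modules (ComplexShape.up ℤ) 0).obj M) x ↔
      FlatMod.IsFlatOverAt f M x := by
    intro x
    rw [← Groth.Agent.H90.Chart.flat_stalkOver_iff f M x, ← h0 x]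
    exact ⟨fun h => Groth.Agent.H35.TorAmp.hasTorAmplitudeIn_of_iso (eS x) h,
      fun h => Groth.Agent.H35.TorAmp.hasTorAmplitudeIn_of_iso (eS x).symm h⟩
  constructor
  · rintro ⟨hpc, htor⟩
    exact ⟨fun x => (hamp x).1 (htor x), hpc (-1)⟩
  · rintro ⟨hfl, hfp⟩
    exact ⟨fun m => Groth.Agent.H90.Chart.core f M hfl hfp m, fun x => (hamp x).2 (hfl x)⟩

end Groth.Agent.S6213
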