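import Groth.Statements.S6225
import Groth.Agent.H90.Chart

set_option autoImplicit false
universe u
open CategoryTheory CategoryTheory.Limits AlgebraicGeometry
attribute [local instance] HasDerivedCategory.standard
open KSix

namespace Groth.Agent.S6225

/-- Last assertion: a morphism f : X ⟶ Y locally of finite type is (-1)-pseudo-coherent (O_X placed in
degree 0 is (-1)-pseudo-coherent relative to f, in chart form) if and only if f is locally of finite
presentation. -/
theorem result {X Y : Scheme.{u}} (f : X ⟶ Y) [LocallyOfFiniteType f] :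
    DerSch.IsNPseudoCoherent f (-1) ↔ LocallyOfFinitePresentation f := by
  constructor
  · rintro ⟨-, 𝒱, h𝒱, H⟩
    refine (HasRingHomProperty.iff_exists_appLE (P := @LocallyOfFinitePresentation)
      (RingHom.finitePresentation_stableUnderComposition.stableUnderCompositionWithLocalizationAway
        RingHom.finitePresentation_holdsForLocalizationAway).left).2 (fun x => ?_)
    have hx : f.base x ∈ (⨆ V ∈ 𝒱, (V : Y.Opens)) := by
      rw [h𝒱]
      trivial
    rw [TopologicalSpace.Opens.mem_iSup] at hx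
    obtain ⟨V, hx⟩ := hx
    rw [TopologicalSpace.Opens.mem_iSup] at hx
    obtain ⟨hV𝒱, hxV⟩ := hx
    obtain ⟨𝒰, h𝒰, H'⟩ := H V hV𝒱
    have hx' : x ∈ (⨆ U ∈ 𝒰, (U : X.Opens)) := by
      rw [h𝒰]
      exact hxV
    rw [TopologicalSpace.Opens.mem_iSup] at hx'
    obtain ⟨U, hx'⟩ := hx'
    rw [TopologicalSpace.Opens.mem_iSup] at hx'
    obtain ⟨hU𝒰, hxU⟩ := hx'
    have hUV : (U : X.Opens) ≤ f ⁻¹ᵁ (V : Y.Opens) := by
      rw [← h𝒰]
      exact le_iSup₂ (f := fun (U : X.affineOpens) (_ : U ∈ 𝒰) => (U : X.Opens)) U hU𝒰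
    obtain ⟨n, φ, hφ, hPC⟩ := H' U hU𝒰 hUV
    refine ⟨V, U, hxU, hUV, ?_⟩
    refine (Groth.Agent.H90.Chart.fp_iff_of_chart _ φ hφ.1 hφ.2).2 ?_
    refine (Groth.Agent.H90.Chart.fp_restrictScalars_iff φ hφ.1).1 ?_
    refine (Groth.Agent.H56.isPseudoCoherent_negOne_single_iff _).1 ?_
    exact (Groth.Agent.H90.Chart.chartPC_unit_iff U.2 (V : Y.Opens) φ hφ.1 (-1)).1 hPC
  · intro hf
    refine ⟨inferInstance, Set.univ, ?_, ?_⟩
    · simp only [Set.mem_univ, iSup_pos]
      exact iSup_affineOpens_eq_top Y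
    · intro V _
      refine ⟨{U : X.affineOpens | (U : X.Opens) ≤ f ⁻¹ᵁ (V : Y.Opens)}, ?_, ?_⟩
      · apply le_antisymm
        · exact iSup₂_le (fun U hU => hU)
        · intro x hx
          obtain ⟨W, hW, hxW, hWV⟩ :=
            exists_isAffineOpen_mem_and_subset (x := x) (U := f ⁻¹ᵁ (V : Y.Opens)) hx
          rw [TopologicalSpace.Opens.mem_iSup]
          refine ⟨⟨W, hW⟩, ?_⟩
          rw [TopologicalSpace.Opens.mem_iSup]
          exact ⟨fun y hy => hWV hy, hxW⟩
      · intro U _ h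
        have hfp : RingHom.FinitePresentation (f.appLE (V : Y.Opens) (U : X.Opens) h).hom :=
          HasRingHomProperty.appLE (P := @LocallyOfFinitePresentation) f hf V U h
        letI : Algebra Γ(Y, (V : Y.Opens)) Γ(X, (U : X.Opens)) :=
          (f.appLE (V : Y.Opens) (U : X.Opens) h).hom.toAlgebra
        obtain ⟨n, α, hα, hker⟩ := hfp.out
        refine ⟨n, α.toRingHom, ⟨hα, RingHom.ext (fun r => α.commutes r)⟩, ?_⟩
        refine (Groth.Agent.H90.Chart.chartPC_unit_iff U.2 (V : Y.Opens) α.toRingHom hα (-1)).2 ?_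
        refine (Groth.Agent.H56.isPseudoCoherent_negOne_single_iff _).2 ?_
        exact (Groth.Agent.H90.Chart.fp_restrictScalars_iff α.toRingHom hα).2 hker

end Groth.Agent.S6225
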