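import Groth.Statements.S6214
import Groth.Agent.H90.ChartFlat
import Groth.Agent.H90.ClosedPC
import Groth.Agent.S6225
import Groth.Agent.S6946
import Groth.Agent.H28.StalkFlatAmp

set_option autoImplicit false
universe u
open CategoryTheory CategoryTheory.Limits AlgebraicGeometry
attribute [local instance] HasDerivedCategory.standard
open KSix

namespace Groth.Agent.S6214

/-- A morphism f : X ⟶ Y locally of finite type has perfect dimension at most 0 (O_X placed in degree 0
is pseudo-coherent relative to f in chart form and has stalkwise tor amplitude in [0, 0] over the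
local rings of Y) if and only if f is flat and locally of finite presentation. -/
theorem result {X Y : Scheme.{u}} (f : X ⟶ Y) [LocallyOfFiniteType f] :
    DerSch.HasPerfDimLE f 0 ↔ (Flat f ∧ LocallyOfFinitePresentation f) := by
  constructor
  · rintro ⟨hPC, hTor⟩
    refine ⟨?_, (Groth.Agent.S6225.result f).1 (hPC (-1))⟩
    rw [AlgebraicGeometry.Flat.iff_flat_stalkMap]
    intro x
    letI : Algebra (Y.presheaf.stalk (f.base x)) (X.presheaf.stalk x) :=
      (f.stalkMap x).hom.toAlgebra
    have h1 := Groth.Agent.H28.StalkTor.hasTorAmplitudeIn_inD_of_hasTorDimLE f 0 hTor x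
    have h2 := Groth.Agent.S6946.result (Y.presheaf.stalk (f.base x)) (X.presheaf.stalk x) 0
    have h3 : Module.Flat (Y.presheaf.stalk (f.base x)) (X.presheaf.stalk x) :=
      h2.2.1 (h2.1.2 h1)
    exact h3
  · rintro ⟨hfl, hfp⟩
    haveI := hfl
    haveI := hfp
    refine ⟨fun m => Groth.Agent.H90.Chart.isNPseudoCoherent_of_flat_lfp f m, ?_⟩
    have hO : FlatMod.IsFinLocFree (Coh.structureModule X) :=
      Groth.Agent.H8.isFinLocFree_of_iso
        (CategoryTheory.Limits.coproductUniqueIso (fun _ : Fin 1 => Coh.structureModule X))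
        (Groth.Agent.H90.LR.isFinLocFree_freeMod X 1)
    have h : DerSch.HasTorAmplitude f 0 0 (DerSch.unitCx X) := by
      refine Groth.Agent.H28.StalkTor.hasTorAmplitude_of_hasFlatAmplitudeIn f _ 0 0
        ⟨DerSch.unitCx X, ?_, ?_, ⟨Iso.refl _⟩⟩
      · intro i hi
        exact HomologicalComplex.isZero_single_obj_X _ _ _ _ (by omega)
      · intro i
        exact Groth.Agent.H90.QH.isFlat_of_isFinLocFree
          ((Groth.Agent.H90.CPC.isStrictlyPerfect_single' hO 0).2 i)
    simpa using h

end Groth.Agent.S6214
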