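import Groth.Statements.S6218
import Groth.Agent.S6191
import Groth.Agent.S4275
import Groth.Agent.S6201
import Groth.Agent.H31.LocalD
import Groth.Agent.H28.PerfAmp
import Groth.Agent.H90.QCohHom

set_option autoImplicit false
universe u
open CategoryTheory CategoryTheory.Limits AlgebraicGeometry ZeroObject
attribute [local instance] HasDerivedCategory.standard
open KSix

namespace Groth.Agent.S6218

/-- Let i : X ⟶ Y be a closed immersion, g : Y ⟶ S smooth, a and b integers, and F a cochain complex of
O_X-modules such that the termwise direct image i_* F has perfect amplitude in [a, b] on Y in the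
absolute sense (locally isomorphic in D to a complex of finite locally free modules placed in [a,
b]). Then F has perfect amplitude in [a, b] relative to i ≫ g (pseudo-coherent relative to it in
chart form, with stalkwise tor amplitude in [a, b] over the local rings of S). -/
theorem result {X Y S : Scheme.{u}} (i : X ⟶ Y) [IsClosedImmersion i]
    (g : Y ⟶ S) [Smooth g] (a b : ℤ) (F : CochainComplex X.Modules ℤ)
    (hF : KSix.HasPerfectAmplitudeIn a b (DCoh.toD Y (((Scheme.Modules.pushforward i).mapHomologicalComplex (ComplexShape.up ℤ)).obj F))) :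
    DerSch.HasPerfAmplitudeRel (i ≫ g) a b F := by
  have hpc : ∀ k : ℤ, DCoh.IsPseudoCoherentD k (DCoh.toD Y
      (((Scheme.Modules.pushforward i).mapHomologicalComplex (ComplexShape.up ℤ)).obj F)) :=
    fun k => Groth.Agent.H28.PerfAmp.pc_of_hasPerfAmp _ a b k hF
  refine ⟨fun m => (Groth.Agent.S6201.result i g m F).2 (hpc m), ?_⟩
  refine Groth.Agent.S6191.result i g F a b ?_
  by_cases hab : a ≤ b
  · exact ((Groth.Agent.S4275.result Y _ a b hab).1 hF).2
  · have hK : IsZero (DCoh.toD Y
        (((Scheme.Modules.pushforward i).mapHomologicalComplex (ComplexShape.up ℤ)).obj F)) := by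
      rw [Groth.Agent.H31.LocalD.isZero_iff_homology]
      intro j
      refine Groth.Agent.H90.QH.isZero_of_locally _ (fun y => ?_)
      obtain ⟨V, hyV, E, hv, -, ⟨e⟩⟩ := (Groth.Agent.H28.PerfAmp.hasPerfAmp_iff _ a b).1 hF y
      refine ⟨V, hyV, ?_⟩
      have e1 := (Groth.Agent.H90.SPerf.homologyCommIso
        (Scheme.Modules.restrictFunctor V.ι) j).app (DCoh.toD Y
          (((Scheme.Modules.pushforward i).mapHomologicalComplex (ComplexShape.up ℤ)).obj F))
      refine IsZero.of_iso ?_ e1.symm
      have e2 := (DerivedCategory.homologyFunctor _ j).mapIso e ≪≫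
        (DerivedCategory.homologyFunctorFactors _ j).app E
      refine IsZero.of_iso ?_ e2
      exact ShortComplex.isZero_homology_of_isZero_X₂ _ (hv j (by omega))
    have hz : ∀ j : ℤ, IsZero ((0 : CochainComplex Y.Modules ℤ).X j) := fun j =>
      Functor.map_isZero (HomologicalComplex.eval Y.Modules (ComplexShape.up ℤ) j)
        (isZero_zero _)
    refine ⟨0, fun j _ => hz j, fun j y => ?_,
      ⟨(Functor.map_isZero DerivedCategory.Q (isZero_zero _)).iso hK⟩⟩
    haveI := Groth.Agent.H31.LocalD.subsingleton_stalk_of_isZero _ (hz j) y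
    show Module.Flat _ _
    infer_instance

end Groth.Agent.S6218
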