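import Groth.Statements.S6239
-- import your own Groth.Agent.* helpers here

set_option autoImplicit false
universe u
open CategoryTheory CategoryTheory.Limits AlgebraicGeometry
attribute [local instance] HasDerivedCategory.standard
open KSix

namespace Groth.Agent.S6239

/-- monotonicity of ring-level tor amplitude in the interval -/
theorem hasTorAmplitudeIn_mono {A : Type u} [CommRing A] {a b a' b' : ℤ} (ha : a' ≤ a) (hb : b ≤ b')
    {K : Dual.D A} (h : DRing.HasTorAmplitudeIn A a b K) : DRing.HasTorAmplitudeIn A a' b' K := by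
  obtain ⟨E, hE, hfl, hiso⟩ := h
  refine ⟨E, ?_, hfl, hiso⟩
  intro i hi
  apply hE
  rcases hi with hi | hi
  · left; omega
  · right; omega

/-- Let f : X ⟶ Y be a morphism with X quasi-compact and F a cochain complex of O_X-modules which is
perfect relative to f (pseudo-coherent relative to f in chart form, and locally on X of finite
stalkwise tor amplitude over the local rings of Y). Then F has finite perfect amplitude relative to
f: one interval [a, b] works at every point of X. -/
theorem result {X Y : Scheme.{u}} [CompactSpace X] (f : X ⟶ Y)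
    (F : CochainComplex X.Modules ℤ) (hF : DerSch.IsPerfectRel f F) :
    DerSch.HasFinitePerfAmplitudeRel f F := by
  obtain ⟨hpc, hloc⟩ := hF
  choose V a b hxV hV using hloc
  obtain ⟨t, ht⟩ := isCompact_univ.elim_finite_subcover (fun x : X => ((V x : X.Opens) : Set X))
    (fun x => (V x).2) (fun x _ => Set.mem_iUnion.mpr ⟨x, hxV x⟩)
  refine ⟨-(∑ x ∈ t, |a x|), ∑ x ∈ t, |b x|, hpc, ?_⟩
  intro x'
  obtain ⟨x, hx⟩ := Set.mem_iUnion.mp (ht (Set.mem_univ x'))
  obtain ⟨hxt, hx'V⟩ := Set.mem_iUnion.mp hx
  have h1 := hV x x' hx'V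
  have ha : -(∑ x ∈ t, |a x|) ≤ a x := by
    have : |a x| ≤ ∑ x ∈ t, |a x| :=
      Finset.single_le_sum (f := fun x => |a x|) (fun i _ => abs_nonneg _) hxt
    have := neg_abs_le (a x)
    omega
  have hb : b x ≤ ∑ x ∈ t, |b x| := by
    have : |b x| ≤ ∑ x ∈ t, |b x| :=
      Finset.single_le_sum (f := fun x => |b x|) (fun i _ => abs_nonneg _) hxt
    have := le_abs_self (b x)
    omega
  exact hasTorAmplitudeIn_mono ha hb h1

end Groth.Agent.S6239
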