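import Groth.Statements.S6247
import Groth.Agent.H31.KFlatSite
import Groth.Agent.H31.KFlatBounded
import Groth.Agent.H31.TensorSite3
import Groth.Agent.H31.FlatSite
import Mathlib.CategoryTheory.Functor.Derived.PointwiseLeftDerived
import Mathlib.CategoryTheory.Abelian.GrothendieckAxioms.Colim


set_option autoImplicit false
universe u
open CategoryTheory CategoryTheory.Limits AlgebraicGeometry
attribute [local instance] HasDerivedCategory.standard
open KSix

namespace Groth.Agent.S6247

open HomologicalComplex

variable {C : Type u} [SmallCategory C] {J : GrothendieckTopology C} {O : Sheaf J CommRingCat.{u}}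

/-- A colimit of flat modules over a shape with exact colimits is flat (any shape). -/
theorem isFlat_of_isColimit' {K : Type*} [Category K] [HasColimitsOfShape K (ModSite.Mod O)]
    [HasExactColimitsOfShape K (ModSite.Mod O)] (D : K ⥤ ModSite.Mod O)
    (hD : ∀ i, ModSite.IsFlat (D.obj i)) (c : Cocone D) (hc : IsColimit c) :
    ModSite.IsFlat c.pt := by
  rw [Groth.Agent.H31.isFlat_iff_preservesMonomorphisms]
  constructor
  intro M M' u hu
  let φ : D ⋙ (ModSite.tensorBi O).obj M ⟶ D ⋙ (ModSite.tensorBi O).obj M' :=
    Functor.whiskerLeft D ((ModSite.tensorBi O).map u)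
  have hφ : ∀ i, Mono (φ.app i) := fun i =>
    ((Groth.Agent.H31.isFlat_iff_preservesMonomorphisms _).1 (hD i)).preserves u
  have : Mono φ := NatTrans.mono_of_mono_app φ
  exact colim.map_mono' φ (isColimitOfPreserves ((ModSite.tensorBi O).obj M) hc)
    (isColimitOfPreserves ((ModSite.tensorBi O).obj M') hc)
    (((ModSite.tensorBi O).map u).app c.pt)
    (fun j => ((ModSite.tensorBi O).map u).naturality (c.ι.app j))

theorem isFlat_tot_X (P F : CochainComplex (ModSite.Mod O) ℤ)
    (hP : ∀ i, ModSite.IsFlat (P.X i)) (hF : ∀ i, ModSite.IsFlat (F.X i)) (k : ℤ) :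
    ModSite.IsFlat ((((ModSite.tensorCx O).obj P).obj F).X k) := by
  let B := (((ModSite.tensorBi O).mapBifunctorHomologicalComplex (ComplexShape.up ℤ)
    (ComplexShape.up ℤ)).obj P).obj F
  have hc := B.toGradedObject.isColimitCofanMapObj
    (ComplexShape.π (ComplexShape.up ℤ) (ComplexShape.up ℤ) (ComplexShape.up ℤ)) k
  exact isFlat_of_isColimit' _ (fun ⟨⟨⟨p, q⟩, _⟩⟩ =>
    Groth.Agent.H31.isFlat_tensor (P.X p) (F.X q) (hP p) (hF q)) _ hc

theorem isZero_tot_X (P F : CochainComplex (ModSite.Mod O) ℤ) (k : ℤ)
    (h : ∀ p q : ℤ, p + q = k → IsZero (P.X p) ∨ IsZero (F.X q)) :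
    IsZero ((((ModSite.tensorCx O).obj P).obj F).X k) := by
  let B := (((ModSite.tensorBi O).mapBifunctorHomologicalComplex (ComplexShape.up ℤ)
    (ComplexShape.up ℤ)).obj P).obj F
  have hc := B.toGradedObject.isColimitCofanMapObj
    (ComplexShape.π (ComplexShape.up ℤ) (ComplexShape.up ℤ) (ComplexShape.up ℤ)) k
  rw [IsZero.iff_id_eq_zero]
  apply hc.hom_ext
  rintro ⟨⟨⟨p, q⟩, hpq⟩⟩
  have hz : IsZero (B.toGradedObject ⟨p, q⟩) := by
    rcases h p q hpq with h1 | h2
    · exact Functor.map_isZero ((ModSite.tensorBi O).flip.obj (F.X q)) h1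
    · exact Functor.map_isZero ((ModSite.tensorBi O).obj (P.X p)) h2
  exact hz.eq_of_src _ _

/-- One ringed site: let (C, J, O) be a small site with a sheaf of commutative rings O, let E be a
cochain complex of O-modules isomorphic in D(O) to a complex P of flat O-modules which vanishes
outside [m, n] (E has flat amplitude in [m, n]), and let F be a cochain complex of flat O-modules
which vanishes outside [m', n']. Then, the derived tensor product − ⊗^L_O F being assumed to exist,
E ⊗^L_O F is isomorphic in D(O) to a complex of flat O-modules vanishing outside [m + m', n + n']: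
flat amplitudes add, and in particular the derived tensor product of two objects of finite flat
amplitude has finite flat amplitude. (The published statement is for a morphism of ringed topoi f
from S' to S and the external derived tensor product of an object over S' with an object over S,
flatness meaning exactness of the tensor product functor; this row is the case S' = S with f the
identity, on the topos of sheaves on a small site, with the second factor given by its own flat
model.) -/
theorem result {C : Type u} [SmallCategory C]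
    {J : GrothendieckTopology C} (O : Sheaf J CommRingCat.{u}) (E P : CochainComplex (ModSite.Mod O) ℤ)
    (m n : ℤ) (hP : ∀ i : ℤ, ModSite.IsFlat (P.X i)) (hPb : ∀ i : ℤ, i < m ∨ n < i → IsZero (P.X i))
    (eP : DerivedCategory.Q.obj P ≅ DerivedCategory.Q.obj E) (F : CochainComplex (ModSite.Mod O) ℤ)
    (m' n' : ℤ) (hF : ∀ i : ℤ, ModSite.IsFlat (F.X i)) (hFb : ∀ i : ℤ, i < m' ∨ n' < i → IsZero (F.X i))
    [ModSite.HasLTensorCx F] :
    ∃ G : CochainComplex (ModSite.Mod O) ℤ, (∀ i : ℤ, ModSite.IsFlat (G.X i)) ∧
      (∀ i : ℤ, i < m + m' ∨ n + n' < i → IsZero (G.X i)) ∧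
      Nonempty (DerivedCategory.Q.obj G ≅ (ModSite.LTensorCx F).obj (DerivedCategory.Q.obj E)) := by
  have hFK : ModSite.IsKFlat F :=
    Groth.Agent.H31.KFlat.isKFlat_of_bounded_above_flat F n' (fun q hq => hFb q (Or.inr hq)) hF
  have hinv : (HomologicalComplex.quasiIso (ModSite.Mod O) (ComplexShape.up ℤ)).IsInvertedBy
      (ModSite.tensorCxQ F) := by
    intro K K' φ hφ
    have hq : QuasiIso φ := hφ
    have h2 : QuasiIso (((ModSite.tensorCx O).flip.obj F).map φ) :=
      Groth.Agent.H31.KFlat.quasiIso_tensor_of_isKFlat F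
        ((Groth.Agent.H31.KFlat.isKFlat_iff F).1 hFK) φ
    show IsIso (DerivedCategory.Q.map (((ModSite.tensorCx O).flip.obj F).map φ))
    exact (DerivedCategory.isIso_Q_map_iff_quasiIso _ _).2 h2
  have hα : IsIso ((ModSite.tensorCxQ F).totalLeftDerivedCounit DerivedCategory.Q
      (HomologicalComplex.quasiIso (ModSite.Mod O) (ComplexShape.up ℤ))) :=
    Functor.isIso_of_isLeftDerivedFunctor_of_inverts _ _ hinv
  refine ⟨((ModSite.tensorCx O).obj P).obj F, fun i => isFlat_tot_X P F hP hF i, ?_, ⟨?_⟩⟩
  · rintro i (hi | hi)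
    · refine isZero_tot_X P F i fun p q hpq => ?_
      by_cases hp : p < m
      · exact Or.inl (hPb p (Or.inl hp))
      · exact Or.inr (hFb q (Or.inl (by omega)))
    · refine isZero_tot_X P F i fun p q hpq => ?_
      by_cases hp : n < p
      · exact Or.inl (hPb p (Or.inr hp))
      · exact Or.inr (hFb q (Or.inr (by omega)))
  · have hαP : IsIso (((ModSite.tensorCxQ F).totalLeftDerivedCounit DerivedCategory.Q
        (HomologicalComplex.quasiIso (ModSite.Mod O) (ComplexShape.up ℤ))).app P) := inferInstance
    exact (asIso (((ModSite.tensorCxQ F).totalLeftDerivedCounit DerivedCategory.Q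
        (HomologicalComplex.quasiIso (ModSite.Mod O) (ComplexShape.up ℤ))).app P)).symm ≪≫
      (ModSite.LTensorCx F).mapIso eP
end Groth.Agent.S6247
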