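import Groth.Statements.S6249
import Groth.Agent.H40.LTensorInv
import Mathlib.Algebra.Homology.HomologySequence

set_option autoImplicit false
universe u
open CategoryTheory CategoryTheory.Limits AlgebraicGeometry
attribute [local instance] HasDerivedCategory.standard
open KSix

namespace Groth.Agent.S6249

open HomologicalComplex Groth.Agent.H40.SingleTensor in
theorem key2 {C : Type u} [SmallCategory C] {J : GrothendieckTopology C}
    {O : Sheaf J CommRingCat.{u}} (P : CochainComplex (ModSite.Mod O) ℤ)
    (hPf : ∀ i, ModSite.IsFlat (P.X i)) (p : ℤ) :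
    PreservesFiniteColimits (termTensor P ⋙
        HomologicalComplex.homologyFunctor (ModSite.Mod O) (ComplexShape.up ℤ) p) ↔
      PreservesFiniteLimits (termTensor P ⋙
        HomologicalComplex.homologyFunctor (ModSite.Mod O) (ComplexShape.up ℤ) (p + 1)) := by
  rw [Functor.preservesFiniteColimits_iff_forall_exact_map_and_epi,
    Functor.preservesFiniteLimits_iff_forall_exact_map_and_mono]
  have hcommon : ∀ (S : ShortComplex (ModSite.Mod O)) (hS : S.ShortExact),
      Epi (homologyMap ((termTensor P).map S.g) p) ↔
        Mono (homologyMap ((termTensor P).map S.f) (p + 1)) := by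
    intro S hS
    have hGS := termTensor_shortExact P hPf S hS
    exact (hGS.homology_exact₃ p (p + 1) rfl).epi_f_iff.trans
      (hGS.homology_exact₁ p (p + 1) rfl).mono_g_iff.symm
  constructor
  · intro h S hS
    exact ⟨(termTensor_shortExact P hPf S hS).homology_exact₂ (p + 1),
      (hcommon S hS).1 (h S hS).2⟩
  · intro h S hS
    exact ⟨(termTensor_shortExact P hPf S hS).homology_exact₂ p,
      (hcommon S hS).2 (h S hS).2⟩


/-- Let (C, J, O) be a small site with a sheaf of commutative rings O, Mod(O) the category of O-modules,
E ∈ D⁻(O) given by a cochain complex, and p an integer. Then, the derived tensor product − ⊗^L_O E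
being assumed to exist, the functor M ↦ H^p(M ⊗^L E) from Mod(O) to Mod(O) is right exact if and
only if the functor M ↦ H^{p+1}(M ⊗^L E) is left exact. (The published statement is for a
commutative ringed topos and writes E ⊗^L M; this row is the topos of sheaves on a small site, with
the derived tensor product taken with E as the fixed right-hand factor.) -/
theorem result {C : Type u} [SmallCategory C]
    {J : GrothendieckTopology C} (O : Sheaf J CommRingCat.{u}) (E : CochainComplex (ModSite.Mod O) ℤ)
    (e : ℤ) [(DerivedCategory.Q.obj E).IsLE e] (p : ℤ) [ModSite.HasLTensorCx E] :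
    PreservesFiniteColimits (DerivedCategory.singleFunctor (ModSite.Mod O) 0 ⋙ ModSite.LTensorCx E ⋙ DerivedCategory.homologyFunctor (ModSite.Mod O) p) ↔
      PreservesFiniteLimits (DerivedCategory.singleFunctor (ModSite.Mod O) 0 ⋙ ModSite.LTensorCx E ⋙ DerivedCategory.homologyFunctor (ModSite.Mod O) (p + 1)) := by
  obtain ⟨P, q, hPK, hPf, hq, -⟩ := Groth.Agent.H31.KFlat.exists_isKFlat_resolution E
  haveI : ModSite.HasLTensorCx P := (Groth.Agent.H40.LTensorInv.adapted P).hasLeft
  have inv := Groth.Agent.H40.LTensorInv.invIso q hq hPK
  have isoT : ∀ n : ℤ, DerivedCategory.singleFunctor (ModSite.Mod O) 0 ⋙ ModSite.LTensorCx E ⋙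
        DerivedCategory.homologyFunctor (ModSite.Mod O) n ≅
      Groth.Agent.H40.SingleTensor.termTensor P ⋙
        HomologicalComplex.homologyFunctor (ModSite.Mod O) (ComplexShape.up ℤ) n := fun n =>
    Functor.isoWhiskerLeft (DerivedCategory.singleFunctor (ModSite.Mod O) 0)
      (Functor.isoWhiskerRight inv.symm (DerivedCategory.homologyFunctor (ModSite.Mod O) n)) ≪≫
      Groth.Agent.H40.LTensorInv.homologyIso P hPK n
  have h := key2 P hPf p
  constructor
  · intro h1
    have h2 := preservesFiniteColimits_of_natIso (isoT p)
    have h3 := h.1 h2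
    exact preservesFiniteLimits_of_natIso (isoT (p + 1)).symm
  · intro h1
    have h2 := preservesFiniteLimits_of_natIso (isoT (p + 1))
    have h3 := h.2 h2
    exact preservesFiniteColimits_of_natIso (isoT p).symm

end Groth.Agent.S6249
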