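import Groth.Statements.S6254
import Groth.Agent.H40.SingleTensor
import Groth.Agent.H31.KFlatBounded
import Groth.Agent.H31.KFlatQuasiIso
import Mathlib.CategoryTheory.Functor.Derived.PointwiseLeftDerived
import Mathlib.Algebra.Homology.HomologySequence

set_option autoImplicit false
universe u
open CategoryTheory CategoryTheory.Limits AlgebraicGeometry
attribute [local instance] HasDerivedCategory.standard
open KSix

namespace Groth.Agent.S6254

open HomologicalComplex Groth.Agent.H40.SingleTensor

section Abstract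

variable {A : Type*} [Category A] [Abelian A]

theorem opcyclesMap_fromOpcycles {K L : CochainComplex A ℤ} (φ : K ⟶ L) (n m : ℤ) :
    opcyclesMap φ n ≫ L.fromOpcycles n m = K.fromOpcycles n m ≫ φ.f m := by
  rw [← cancel_epi (K.pOpcycles n)]
  simp

theorem mono_homologyMap_iff_mono_opcyclesMap {K L : CochainComplex A ℤ} (φ : K ⟶ L) (n : ℤ)
    (hφ : Mono (φ.f (n + 1))) :
    Mono (homologyMap φ n) ↔ Mono (opcyclesMap φ n) := by
  constructor
  · intro h
    apply Preadditive.mono_of_cancel_zero
    intro W x hx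
    have h1 : x ≫ K.fromOpcycles n (n + 1) = 0 := by
      rw [← cancel_mono (φ.f (n + 1)), Category.assoc, ← opcyclesMap_fromOpcycles,
        ← Category.assoc, hx, zero_comp, zero_comp]
    have hker := K.homologyIsKernel n (n + 1) (by simp)
    obtain ⟨y, hy⟩ := KernelFork.IsLimit.lift' hker x h1
    have hy' : y ≫ K.homologyι n = x := hy
    have h2 : y ≫ homologyMap φ n = 0 := by
      rw [← cancel_mono (L.homologyι n), Category.assoc, homologyι_naturality, ← Category.assoc,
        hy', hx, zero_comp]
    have h3 : y = 0 := by rw [← cancel_mono (homologyMap φ n), h2, zero_comp]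
    rw [← hy', h3, zero_comp]
  · intro h
    have : Mono (homologyMap φ n ≫ L.homologyι n) := by
      rw [homologyι_naturality]
      infer_instance
    exact mono_of_mono _ (L.homologyι n)

end Abstract

variable {C : Type u} [SmallCategory C] {J : GrothendieckTopology C} {O : Sheaf J CommRingCat.{u}}

/-- `M ⊗ E^{p+1} ⟶ M ⊗ coker(d^p)`, typed out of the complex `termTensor E M`. -/
noncomputable def πM (E : CochainComplex (ModSite.Mod O) ℤ) (p : ℤ) (M : ModSite.Mod O) :
    ((termTensor E).obj M).X (p + 1) ⟶
      ((ModSite.tensorBi O).obj M).obj (cokernel (E.d p (p + 1))) :=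
  ((ModSite.tensorBi O).obj M).map (cokernel.π (E.d p (p + 1)))

theorem d_comp_πM (E : CochainComplex (ModSite.Mod O) ℤ) (p : ℤ) (M : ModSite.Mod O) :
    ((termTensor E).obj M).d p (p + 1) ≫ πM E p M = 0 :=
  (by rw [← CategoryTheory.Functor.map_comp, cokernel.condition,
      CategoryTheory.Functor.map_zero] :
    ((ModSite.tensorBi O).obj M).map (E.d p (p + 1)) ≫
      ((ModSite.tensorBi O).obj M).map (cokernel.π (E.d p (p + 1))) = 0)

theorem πM_natural (E : CochainComplex (ModSite.Mod O) ℤ) (p : ℤ) {M N : ModSite.Mod O}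
    (f : M ⟶ N) :
    πM E p M ≫ ((ModSite.tensorBi O).map f).app (cokernel (E.d p (p + 1))) =
      ((termTensor E).map f).f (p + 1) ≫ πM E p N :=
  ((ModSite.tensorBi O).map f).naturality (cokernel.π (E.d p (p + 1)))

/-- `M ⊗ coker(d^p)` is a cokernel of `M ⊗ d^p`. -/
noncomputable def isColimitTensorCokernel (E : CochainComplex (ModSite.Mod O) ℤ) (p : ℤ)
    (M : ModSite.Mod O) :
    IsColimit (CokernelCofork.ofπ (f := ((termTensor E).obj M).d p (p + 1))
      (πM E p M) (d_comp_πM E p M)) :=
  CokernelCofork.mapIsColimit _ (cokernelIsCokernel (E.d p (p + 1)))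
    ((ModSite.tensorBi O).obj M)

/-- `opcycles^{p+1}(M ⊗ E) ≅ M ⊗ coker(d^p)`. -/
noncomputable def opIso (E : CochainComplex (ModSite.Mod O) ℤ) (p : ℤ) (M : ModSite.Mod O) :
    ((termTensor E).obj M).opcycles (p + 1) ≅
      ((ModSite.tensorBi O).obj M).obj (cokernel (E.d p (p + 1))) :=
  IsColimit.coconePointUniqueUpToIso
    (((termTensor E).obj M).opcyclesIsCokernel p (p + 1) (by simp))
    (isColimitTensorCokernel E p M)

theorem p_opIso_hom (E : CochainComplex (ModSite.Mod O) ℤ) (p : ℤ) (M : ModSite.Mod O) :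
    ((termTensor E).obj M).pOpcycles (p + 1) ≫ (opIso E p M).hom = πM E p M :=
  IsColimit.comp_coconePointUniqueUpToIso_hom
    (((termTensor E).obj M).opcyclesIsCokernel p (p + 1) (by simp))
    (isColimitTensorCokernel E p M) WalkingParallelPair.one

theorem opIso_natural (E : CochainComplex (ModSite.Mod O) ℤ) (p : ℤ) {M N : ModSite.Mod O}
    (f : M ⟶ N) :
    (opIso E p M).hom ≫ ((ModSite.tensorBi O).map f).app (cokernel (E.d p (p + 1))) =
      opcyclesMap ((termTensor E).map f) (p + 1) ≫ (opIso E p N).hom := by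
  rw [← cancel_epi (((termTensor E).obj M).pOpcycles (p + 1))]
  have h1 := p_opIso_hom E p M
  have h2 := p_opIso_hom E p N
  have h3 := p_opcyclesMap ((termTensor E).map f) (p + 1)
  rw [reassoc_of% h1, reassoc_of% h3, h2]
  exact πM_natural E p f

theorem mono_opcyclesMap_iff (E : CochainComplex (ModSite.Mod O) ℤ) (p : ℤ) {M N : ModSite.Mod O}
    (f : M ⟶ N) :
    Mono (opcyclesMap ((termTensor E).map f) (p + 1)) ↔
      Mono (((ModSite.tensorBi O).map f).app (cokernel (E.d p (p + 1)))) := by
  have h := opIso_natural E p f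
  constructor
  · intro hm
    have h2 : ((ModSite.tensorBi O).map f).app (cokernel (E.d p (p + 1))) =
        (opIso E p M).inv ≫ opcyclesMap ((termTensor E).map f) (p + 1) ≫ (opIso E p N).hom := by
      rw [← h, Iso.inv_hom_id_assoc]
    rw [h2]
    infer_instance
  · intro hm
    have h2 : opcyclesMap ((termTensor E).map f) (p + 1) =
        (opIso E p M).hom ≫ ((ModSite.tensorBi O).map f).app (cokernel (E.d p (p + 1))) ≫
          (opIso E p N).inv := by
      rw [← Category.assoc, h, Category.assoc, Iso.hom_inv_id, Category.comp_id]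
    rw [h2]
    infer_instance

theorem key (E : CochainComplex (ModSite.Mod O) ℤ) (hEf : ∀ i, ModSite.IsFlat (E.X i)) (p : ℤ) :
    PreservesFiniteColimits (termTensor E ⋙
        HomologicalComplex.homologyFunctor (ModSite.Mod O) (ComplexShape.up ℤ) p) ↔
      ModSite.IsFlat (cokernel (E.d p (p + 1))) := by
  have hcommon : ∀ (S : ShortComplex (ModSite.Mod O)) (hS : S.ShortExact),
      Epi (homologyMap ((termTensor E).map S.g) p) ↔
        Mono (((ModSite.tensorBi O).map S.f).app (cokernel (E.d p (p + 1)))) := by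
    intro S hS
    have hGS := termTensor_shortExact E hEf S hS
    have ex3 := hGS.homology_exact₃ p (p + 1) rfl
    have ex1 := hGS.homology_exact₁ p (p + 1) rfl
    have hm : Mono (((termTensor E).map S.f).f (p + 1 + 1)) := by
      have := hS.mono_f
      have := (hEf (p + 1 + 1)).1
      exact inferInstanceAs (Mono (((ModSite.tensorBi O).flip.obj (E.X (p + 1 + 1))).map S.f))
    rw [← mono_opcyclesMap_iff, ← mono_homologyMap_iff_mono_opcyclesMap _ _ hm]
    exact ex3.epi_f_iff.trans ex1.mono_g_iff.symm
  rw [Functor.preservesFiniteColimits_iff_forall_exact_map_and_epi,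
    Groth.Agent.H31.isFlat_iff_preservesMonomorphisms]
  constructor
  · intro h
    constructor
    intro M N f hf
    let S := ShortComplex.mk f (cokernel.π f) (cokernel.condition f)
    have hS : S.ShortExact :=
      { exact := ShortComplex.exact_cokernel f, mono_f := hf, epi_g := inferInstance }
    exact (hcommon S hS).1 (h S hS).2
  · intro h S hS
    refine ⟨?_, ?_⟩
    · exact (termTensor_shortExact E hEf S hS).homology_exact₂ p
    · have := hS.mono_f
      exact (hcommon S hS).2 (h.preserves S.f)

/-- Let (C, J, O) be a small site with a sheaf of commutative rings O, p an integer, and E a bounded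
above cochain complex of FLAT O-modules (termwise zero above some degree). Then, the derived tensor
product − ⊗^L_O E being assumed to exist, the functor M ↦ H^p(M ⊗^L E) from Mod(O) to Mod(O) is
right exact if and only if the cokernel of the differential E^p ⟶ E^{p+1} is a flat O-module. (The
published statement is for a commutative ringed topos and writes E ⊗^L M; this row is the topos of
sheaves on a small site, with the derived tensor product taken with E as the fixed right-hand
factor.) -/
theorem result {C : Type u} [SmallCategory C]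
    {J : GrothendieckTopology C} (O : Sheaf J CommRingCat.{u}) (E : CochainComplex (ModSite.Mod O) ℤ)
    (e : ℤ) (hEb : ∀ i : ℤ, e < i → IsZero (E.X i)) (hEf : ∀ i : ℤ, ModSite.IsFlat (E.X i)) (p : ℤ)
    [ModSite.HasLTensorCx E] :
    PreservesFiniteColimits (DerivedCategory.singleFunctor (ModSite.Mod O) 0 ⋙ ModSite.LTensorCx E ⋙ DerivedCategory.homologyFunctor (ModSite.Mod O) p) ↔ ModSite.IsFlat (cokernel (E.d p (p + 1))) := by
  have hEK : ModSite.IsKFlat E :=
    Groth.Agent.H31.KFlat.isKFlat_of_bounded_above_flat E e hEb hEf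
  have hinv : (HomologicalComplex.quasiIso (ModSite.Mod O) (ComplexShape.up ℤ)).IsInvertedBy
      (ModSite.tensorCxQ E) := by
    intro K K' φ hφ
    have hq : QuasiIso φ := hφ
    have h2 : QuasiIso (((ModSite.tensorCx O).flip.obj E).map φ) :=
      Groth.Agent.H31.KFlat.quasiIso_tensor_of_isKFlat E
        ((Groth.Agent.H31.KFlat.isKFlat_iff E).1 hEK) φ
    show IsIso (DerivedCategory.Q.map (((ModSite.tensorCx O).flip.obj E).map φ))
    exact (DerivedCategory.isIso_Q_map_iff_quasiIso _ _).2 h2
  have hα : IsIso ((ModSite.tensorCxQ E).totalLeftDerivedCounit DerivedCategory.Q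
      (HomologicalComplex.quasiIso (ModSite.Mod O) (ComplexShape.up ℤ))) :=
    Functor.isIso_of_isLeftDerivedFunctor_of_inverts _ _ hinv
  let α : DerivedCategory.Q ⋙ ModSite.LTensorCx E ≅ ModSite.tensorCxQ E :=
    asIso ((ModSite.tensorCxQ E).totalLeftDerivedCounit DerivedCategory.Q
      (HomologicalComplex.quasiIso (ModSite.Mod O) (ComplexShape.up ℤ)))
  let S := CochainComplex.singleFunctor (ModSite.Mod O) 0
  let L := ModSite.LTensorCx E
  let Hd := DerivedCategory.homologyFunctor (ModSite.Mod O) p
  let i1 : DerivedCategory.singleFunctor (ModSite.Mod O) 0 ⋙ L ⋙ Hd ≅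
      (S ⋙ DerivedCategory.Q) ⋙ L ⋙ Hd :=
    Functor.isoWhiskerRight (DerivedCategory.singleFunctorIsoCompQ (ModSite.Mod O) 0) _
  let i2 : (S ⋙ DerivedCategory.Q) ⋙ L ⋙ Hd ≅
      S ⋙ ((ModSite.tensorCx O).flip.obj E ⋙ DerivedCategory.Q) ⋙ Hd :=
    Functor.isoWhiskerLeft S (Functor.isoWhiskerRight α Hd)
  let i3 : S ⋙ ((ModSite.tensorCx O).flip.obj E ⋙ DerivedCategory.Q) ⋙ Hd ≅
      S ⋙ (ModSite.tensorCx O).flip.obj E ⋙
        HomologicalComplex.homologyFunctor (ModSite.Mod O) (ComplexShape.up ℤ) p :=
    Functor.isoWhiskerLeft S (Functor.isoWhiskerLeft ((ModSite.tensorCx O).flip.obj E)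
      (DerivedCategory.homologyFunctorFactors (ModSite.Mod O) p))
  let i4 : S ⋙ (ModSite.tensorCx O).flip.obj E ⋙
        HomologicalComplex.homologyFunctor (ModSite.Mod O) (ComplexShape.up ℤ) p ≅
      termTensor E ⋙ HomologicalComplex.homologyFunctor (ModSite.Mod O) (ComplexShape.up ℤ) p :=
    Functor.isoWhiskerRight (natIso E).symm
      (HomologicalComplex.homologyFunctor (ModSite.Mod O) (ComplexShape.up ℤ) p)
  let iso := i1 ≪≫ i2 ≪≫ i3 ≪≫ i4
  rw [← key E hEf p]
  constructor
  · intro h
    exact preservesFiniteColimits_of_natIso iso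
  · intro h
    exact preservesFiniteColimits_of_natIso iso.symm

end Groth.Agent.S6254
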