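import Groth.Statements.S6264
import Mathlib.RingTheory.Localization.Ideal

set_option autoImplicit false
universe u
open CAlg

namespace Groth.Agent.S6264

/-- core: if every prime of `S` disjoint from the image of `R - p` lies in `q`, then `S_p = S_q`. -/
theorem core {R S : Type u} [CommRing R] [CommRing S] [Algebra R S] (p : Ideal R) [p.IsPrime]
    (q : Ideal S) [q.IsPrime] [q.LiesOver p]
    (H : ∀ Q' : Ideal S, Q'.IsPrime →
      Disjoint (Algebra.algebraMapSubmonoid S p.primeCompl : Set S) (Q' : Set S) → Q' ≤ q) :
    IsLocalization.AtPrime (Localization (Algebra.algebraMapSubmonoid S p.primeCompl)) q := by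
  let M := Algebra.algebraMapSubmonoid S p.primeCompl
  refine IsLocalization.of_le (M := M) (S := Localization M) q.primeCompl ?_ ?_
  · rintro x ⟨r, hr, rfl⟩ hx
    apply hr
    rw [Ideal.over_def q p]
    exact hx
  · intro t ht
    by_contra hnu
    obtain ⟨m, hm, htm⟩ := exists_max_ideal_of_mem_nonunits (mem_nonunits_iff.mpr hnu)
    have hmp : m.IsPrime := hm.isPrime
    have hQ' := (IsLocalization.isPrime_iff_isPrime_disjoint M (Localization M) m).mp hmp
    have hle := H (m.under S) hQ'.1 hQ'.2
    exact ht (hle htm)

/-- Let R → S be a ring map with the going-up property and p a prime of R such that exactly one prime q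
of S lies over p. Then the localization S_p of S at the image of R - p is a localization of S at q,
i.e. S_p = S_q. -/
theorem result {R S : Type u} [CommRing R] [CommRing S] [Algebra R S] [Algebra.HasGoingUp R S] (p : Ideal R) [p.IsPrime] (q : Ideal S) [q.IsPrime] [q.LiesOver p] (huniq : ∀ q' : Ideal S, q'.IsPrime → q'.under R = p → q' = q) : IsLocalization.AtPrime (Localization (Algebra.algebraMapSubmonoid S p.primeCompl)) q := by
  apply core p q
  intro Q' hQ' hdisj
  have hle : Q'.under R ≤ p := by
    intro x hx
    by_contra hxp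
    exact Set.disjoint_left.mp hdisj ⟨x, hxp, rfl⟩ hx
  have : Q'.LiesOver (Q'.under R) := ⟨rfl⟩
  obtain ⟨Q, hQ'Q, hQ, hQp⟩ := Ideal.exists_ideal_ge_liesOver_of_le (p := Q'.under R) (q := p) Q' hle
  have : Q = q := huniq Q hQ (hQp.over).symm
  rw [← this]
  exact hQ'Q

end Groth.Agent.S6264
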