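import Groth.Statements.S6267
import Mathlib.RingTheory.LocalRing.Module
import Mathlib.RingTheory.Flat.Tensor

set_option autoImplicit false
universe u
open CAlg

namespace Groth.Agent.S6267

theorem step_c {R : Type u} [CommRing R] {M M' C F Q : Type u} [AddCommGroup M] [Module R M]
    [AddCommGroup M'] [Module R M'] [AddCommGroup C] [Module R C] [AddCommGroup F] [Module R F]
    [AddCommGroup Q] [Module R Q] [Module.Flat R C] [Module.Flat R F]
    (f : M →ₗ[R] M') (p : M' →ₗ[R] C) (hfp : Function.Exact f p) (hp : Function.Surjective p)
    (hfinj : Function.Injective f) (π : F →ₗ[R] Q) (hπ : Function.Surjective π) :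
    Function.Injective (f.lTensor Q) := by
  have hKπ : Function.Exact (LinearMap.ker π).subtype π := LinearMap.exact_subtype_ker_map π
  have h31 : Function.Injective ((LinearMap.ker π).subtype.rTensor C) :=
    Module.Flat.rTensor_preserves_injective_linearMap (M := C) (LinearMap.ker π).subtype
      (LinearMap.ker π).injective_subtype
  have h32 : Function.Injective (f.lTensor F) :=
    Module.Flat.lTensor_preserves_injective_linearMap (M := F) f hfinj
  exact lTensor_injective_of_exact_of_exact_of_rTensor_injective hKπ hπ hfp hp h31 h32

theorem step_b {R : Type u} [CommRing R] {M M' C : Type u} [AddCommGroup M] [Module R M]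
    [AddCommGroup M'] [Module R M'] [AddCommGroup C] [Module R C] [Module.Flat R M']
    (f : M →ₗ[R] M') (p : M' →ₗ[R] C) (hfp : Function.Exact f p) (hp : Function.Surjective p)
    (H : ∀ I : Ideal R, I.FG → Function.Injective (f.rTensor (R ⧸ I))) : Module.Flat R C := by
  rw [Module.Flat.iff_lTensor_injective]
  intro I hI
  have h2 : Function.Injective (I.subtype.lTensor M') :=
    Module.Flat.lTensor_preserves_injective_linearMap (M := M') I.subtype I.injective_subtype
  exact lTensor_injective_of_exact_of_exact_of_rTensor_injective hfp hp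
    (LinearMap.exact_subtype_mkQ I) (Submodule.mkQ_surjective I) (H I hI) h2

/-- Let R be a ring and f : M → M' a map of R-modules with M' flat. Then f is universally injective
exactly when, for each finitely generated ideal I of R, the induced map M ⊗ R/I → M' ⊗ R/I (that is,
M/IM → M'/IM') is injective. -/
theorem result {R : Type u} [CommRing R] {M M' : Type u} [AddCommGroup M] [Module R M] [AddCommGroup M'] [Module R M'] [Module.Flat R M'] (f : M →ₗ[R] M') : CAlgX.UniversallyInjective R f ↔ ∀ I : Ideal R, I.FG → Function.Injective (f.rTensor (R ⧸ I)) := by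
  constructor
  · intro hf I _
    exact hf (R ⧸ I)
  · intro H Q _ _
    -- (a) `f` is injective
    have hfinj : Function.Injective f := by
      rw [injective_iff_map_eq_zero]
      intro m hm
      have h0 : (f.rTensor (R ⧸ (⊥ : Ideal R))) (m ⊗ₜ[R] (1 : R ⧸ (⊥ : Ideal R))) = 0 := by
        rw [LinearMap.rTensor_tmul, hm, TensorProduct.zero_tmul]
      have h1 : m ⊗ₜ[R] (1 : R ⧸ (⊥ : Ideal R)) = 0 := by
        apply H ⊥ Submodule.fg_bot
        rw [h0, map_zero]
      let e : (R ⧸ (⊥ : Ideal R)) ≃ₗ[R] R := Submodule.quotEquivOfEqBot ⊥ rfl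
      have h2 := congrArg (fun x => TensorProduct.rid R M ((LinearEquiv.lTensor M e) x)) h1
      have he : e (1 : R ⧸ (⊥ : Ideal R)) = 1 := by
        rw [← LinearEquiv.eq_symm_apply]
        rfl
      simpa [he] using h2
    have hfp : Function.Exact f (LinearMap.range f).mkQ := LinearMap.exact_map_mkQ_range f
    have hp : Function.Surjective (LinearMap.range f).mkQ := Submodule.mkQ_surjective _
    have hC : Module.Flat R (M' ⧸ LinearMap.range f) := step_b f _ hfp hp H
    have h3 : Function.Injective (f.lTensor Q) :=
      step_c (F := Q →₀ R) f _ hfp hp hfinj (Finsupp.linearCombination R id)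
        (Finsupp.linearCombination_id_surjective R Q)
    exact (LinearMap.lTensor_inj_iff_rTensor_inj Q f).mp h3

end Groth.Agent.S6267
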