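import Groth.Statements.S6268
-- import your own Groth.Agent.* helpers here

set_option autoImplicit false
universe u
open CAlg

namespace Groth.Agent.S6268

/-- Suppose the structure map R → S of an R-algebra S is universally injective as an R-linear map. Then
tensoring with S detects injectivity and surjectivity of R-linear maps (and hence reflects
isomorphisms): for an R-linear g : M → N, if S ⊗ g is injective then so is g, and if S ⊗ g is
surjective then so is g. -/
theorem result {R S : Type u} [CommRing R] [CommRing S] [Algebra R S] (hS : CAlgX.UniversallyInjective R (Algebra.linearMap R S)) {M N : Type u} [AddCommGroup M] [Module R M] [AddCommGroup N] [Module R N] (g : M →ₗ[R] N) : (Function.Injective (g.lTensor S) → Function.Injective g) ∧ (Function.Surjective (g.lTensor S) → Function.Surjective g) := by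
  constructor
  · intro hinj
    rw [injective_iff_map_eq_zero]
    intro m hm
    have h1 : (g.lTensor S) ((1 : S) ⊗ₜ[R] m) = 0 := by
      rw [LinearMap.lTensor_tmul, hm, TensorProduct.tmul_zero]
    have h2 : (1 : S) ⊗ₜ[R] m = 0 := by
      apply hinj
      rw [h1, map_zero]
    have h3 : ((Algebra.linearMap R S).rTensor M) ((1 : R) ⊗ₜ[R] m) = 0 := by
      rw [LinearMap.rTensor_tmul, Algebra.linearMap_apply, map_one, h2]
    have h4 : (1 : R) ⊗ₜ[R] m = 0 := by
      apply hS M
      rw [h3, map_zero]
    have h5 := congrArg (TensorProduct.lid R M) h4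
    simpa using h5
  · intro hsurj n
    let Q := N ⧸ LinearMap.range g
    let π : N →ₗ[R] Q := (LinearMap.range g).mkQ
    have hπg : π ∘ₗ g = 0 := by
      ext m
      exact (Submodule.Quotient.mk_eq_zero _).mpr (LinearMap.mem_range_self g m)
    obtain ⟨y, hy⟩ := hsurj ((1 : S) ⊗ₜ[R] n)
    have h1 : (1 : S) ⊗ₜ[R] (π n) = 0 := by
      have : (1 : S) ⊗ₜ[R] (π n) = (π.lTensor S) ((1 : S) ⊗ₜ[R] n) := by
        rw [LinearMap.lTensor_tmul]
      rw [this, ← hy, ← LinearMap.comp_apply, ← LinearMap.lTensor_comp, hπg, LinearMap.lTensor_zero,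
        LinearMap.zero_apply]
    have h3 : ((Algebra.linearMap R S).rTensor Q) ((1 : R) ⊗ₜ[R] (π n)) = 0 := by
      rw [LinearMap.rTensor_tmul, Algebra.linearMap_apply, map_one, h1]
    have h4 : (1 : R) ⊗ₜ[R] (π n) = 0 := by
      apply hS Q
      rw [h3, map_zero]
    have h5 := congrArg (TensorProduct.lid R Q) h4
    have h6 : π n = 0 := by simpa using h5
    have h7 : n ∈ LinearMap.range g := (Submodule.Quotient.mk_eq_zero _).mp h6
    exact h7

end Groth.Agent.S6268
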