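import Groth.Statements.S6269
import Mathlib.LinearAlgebra.TensorProduct.RightExactness

set_option autoImplicit false
universe u
open CAlg

namespace Groth.Agent.S6269

/-- Let 0 → M₁ → M₂ → M₃ → 0 be a universally exact sequence of R-modules (a short exact sequence whose
first map is universally injective) with M₂ flat. Then M₁ and M₃ are flat. -/
theorem result {R : Type u} [CommRing R] {M₁ M₂ M₃ : Type u} [AddCommGroup M₁] [Module R M₁] [AddCommGroup M₂] [Module R M₂] [AddCommGroup M₃] [Module R M₃] (f : M₁ →ₗ[R] M₂) (g : M₂ →ₗ[R] M₃) (hexact : Function.Exact f g) (hg : Function.Surjective g) (hf : CAlgX.UniversallyInjective R f) [Module.Flat R M₂] : Module.Flat R M₁ ∧ Module.Flat R M₃ := by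
  have hsq : ∀ {A B N N' : Type u} [AddCommGroup A] [Module R A] [AddCommGroup B] [Module R B]
      [AddCommGroup N] [Module R N] [AddCommGroup N'] [Module R N'] (a : A →ₗ[R] B)
      (φ : N →ₗ[R] N') (w : TensorProduct R A N),
      (a.rTensor N') ((φ.lTensor A) w) = (φ.lTensor B) ((a.rTensor N) w) := by
    intro A B N N' _ _ _ _ _ _ _ _ a φ w
    have h1 := LinearMap.congr_fun (LinearMap.rTensor_comp_lTensor (f := a) (g := φ)) w
    have h2 := LinearMap.congr_fun (LinearMap.lTensor_comp_rTensor (f := a) (g := φ)) w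
    simp only [LinearMap.comp_apply] at h1 h2
    rw [h1, h2]
  constructor
  · rw [Module.Flat.iff_lTensor_preserves_injective_linearMap]
    intro N N' _ _ _ _ φ hφ
    have h2 : Function.Injective (φ.lTensor M₂) :=
      Module.Flat.lTensor_preserves_injective_linearMap φ hφ
    have hcomp : Function.Injective ((f.rTensor N') ∘ (φ.lTensor M₁)) := by
      have : (f.rTensor N') ∘ (φ.lTensor M₁) = (φ.lTensor M₂) ∘ (f.rTensor N) := by
        funext w
        exact hsq f φ w
      rw [this]
      exact h2.comp (hf N)
    exact Function.Injective.of_comp hcomp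
  · rw [Module.Flat.iff_lTensor_preserves_injective_linearMap]
    intro N N' _ _ _ _ φ hφ
    rw [injective_iff_map_eq_zero]
    intro x hx
    let N'' := N' ⧸ LinearMap.range φ
    let π : N' →ₗ[R] N'' := (LinearMap.range φ).mkQ
    have hφπ : Function.Exact φ π := LinearMap.exact_map_mkQ_range φ
    have hπ : Function.Surjective π := Submodule.mkQ_surjective _
    have hπφ : π ∘ₗ φ = 0 := by
      ext n
      exact (hφπ (φ n)).mpr ⟨n, rfl⟩
    have hgf : g ∘ₗ f = 0 := by
      ext m
      exact (hexact (f m)).mpr ⟨m, rfl⟩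
    have h2 : Function.Injective (φ.lTensor M₂) :=
      Module.Flat.lTensor_preserves_injective_linearMap φ hφ
    -- step 1
    obtain ⟨y, rfl⟩ := LinearMap.rTensor_surjective N hg x
    -- step 2
    have hy' : (g.rTensor N') ((φ.lTensor M₂) y) = 0 := by
      rw [hsq g φ y]; exact hx
    obtain ⟨z, hz⟩ := (rTensor_exact N' hexact hg _).mp hy'
    -- step 3
    have hz0 : (π.lTensor M₁) z = 0 := by
      apply hf N''
      rw [map_zero, hsq f π z, hz, ← LinearMap.comp_apply, ← LinearMap.lTensor_comp, hπφ,
        LinearMap.lTensor_zero, LinearMap.zero_apply]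
    obtain ⟨w, hw⟩ := (lTensor_exact M₁ hφπ hπ _).mp hz0
    -- step 4
    have hwy : (f.rTensor N) w = y := by
      apply h2
      rw [← hsq f φ w, hw, hz]
    -- step 5
    rw [← hwy, ← LinearMap.comp_apply, ← LinearMap.rTensor_comp, hgf, LinearMap.rTensor_zero,
      LinearMap.zero_apply]

end Groth.Agent.S6269
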