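import Groth.Statements.S6271
import Groth.Agent.S15353
import Mathlib.RingTheory.Noetherian.Nilpotent
-- import your own Groth.Agent.* helpers here

set_option autoImplicit false
universe u
open scoped TensorProduct
open CAlg

namespace Groth.Agent.S6271

lemma isNilpotent_of_mem_ker_mapMatrix' {A' A : Type u} [CommRing A'] [CommRing A] [Algebra A' A]
    (hker : ∀ x ∈ RingHom.ker (algebraMap A' A), IsNilpotent x) (n : ℕ)
    (X : Matrix (Fin n) (Fin n) A')
    (hX : X ∈ RingHom.ker ((algebraMap A' A).mapMatrix :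
      Matrix (Fin n) (Fin n) A' →+* Matrix (Fin n) (Fin n) A)) :
    IsNilpotent X := by
  have hXI : ∀ i j, X i j ∈ RingHom.ker (algebraMap A' A) := by
    intro i j
    rw [RingHom.mem_ker] at hX ⊢
    have := congrFun (congrFun hX i) j
    simpa using this
  let J : Ideal A' := Ideal.span (Set.range fun p : Fin n × Fin n => X p.1 p.2)
  have hJfg : J.FG := Submodule.fg_span (Set.finite_range _)
  have hJnil : IsNilpotent J := by
    rw [Ideal.FG.isNilpotent_iff_le_nilradical hJfg, Ideal.span_le]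
    rintro _ ⟨p, rfl⟩
    exact mem_nilradical.mpr (hker _ (hXI p.1 p.2))
  obtain ⟨m, hm⟩ := hJnil
  have hXJ : ∀ i j, X i j ∈ J := fun i j => Ideal.subset_span ⟨(i, j), rfl⟩
  have hpow : ∀ k : ℕ, ∀ i j, (X ^ k) i j ∈ J ^ k := by
    intro k
    induction k with
    | zero => intro i j; simp
    | succ k ih =>
      intro i j
      rw [pow_succ X k, Matrix.mul_apply, pow_succ J k]
      exact Ideal.sum_mem _ fun l _ => Ideal.mul_mem_mul (ih i l) (hXJ l j)
  refine ⟨m, ?_⟩
  ext i j
  have := hpow m i j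
  rw [hm] at this
  simpa using this



/-- Let R be a ring, I ⊆ R a locally nilpotent ideal (every element of I is nilpotent) and P̄ a finite
projective R/I-module. Then there is a finite projective R-module P such that P/IP (that is, R/I ⊗
P) is isomorphic to P̄ as an R/I-module. -/
theorem result {R : Type u} [CommRing R] (I : Ideal R) (hI : ∀ x ∈ I, IsNilpotent x) (Pb : Type u) [AddCommGroup Pb] [Module (R ⧸ I) Pb] [Module.Projective (R ⧸ I) Pb] [Module.Finite (R ⧸ I) Pb] : ∃ (P : Type u) (_ : AddCommGroup P) (_ : Module R P), Module.Projective R P ∧ Module.Finite R P ∧ Nonempty (((R ⧸ I) ⊗[R] P) ≃ₗ[R ⧸ I] Pb) := by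
  classical
  have hf : Function.Surjective (algebraMap R (R ⧸ I)) := Ideal.Quotient.mk_surjective
  have hker : ∀ x ∈ RingHom.ker (algebraMap R (R ⧸ I)), IsNilpotent x := by
    intro x hx
    apply hI
    rwa [Ideal.Quotient.algebraMap_eq, Ideal.mk_ker] at hx
  obtain ⟨n, π, hπ⟩ := Module.Finite.exists_fin' (R ⧸ I) Pb
  obtain ⟨s, hs⟩ := Module.projective_lifting_property π LinearMap.id hπ
  have hs' : ∀ y, π (s y) = y := fun y => LinearMap.congr_fun hs y
  have hidem : IsIdempotentElem (LinearMap.toMatrix' (s ∘ₗ π)) := by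
    show LinearMap.toMatrix' (s ∘ₗ π) * LinearMap.toMatrix' (s ∘ₗ π) = LinearMap.toMatrix' (s ∘ₗ π)
    rw [← LinearMap.toMatrix'_comp]
    congr 1
    refine LinearMap.ext fun v => ?_
    simp only [LinearMap.comp_apply, hs']
  obtain ⟨E', hE', hFE'⟩ := exists_isIdempotentElem_eq_of_ker_isNilpotent
    ((algebraMap R (R ⧸ I)).mapMatrix : Matrix (Fin n) (Fin n) R →+* Matrix (Fin n) (Fin n) (R ⧸ I))
    (isNilpotent_of_mem_ker_mapMatrix' hker n) (LinearMap.toMatrix' (s ∘ₗ π))
    (Groth.Agent.S15353.mem_range_mapMatrix hf n _) hidem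
  have hε'' : ∀ v, Matrix.toLin' E' (Matrix.toLin' E' v) = Matrix.toLin' E' v := by
    intro v
    rw [← LinearMap.comp_apply, ← Matrix.toLin'_mul, hE'.eq]
  refine ⟨↥(LinearMap.range (Matrix.toLin' E')), inferInstance, inferInstance, ?_, ?_, ?_⟩
  · refine Module.Projective.of_split (LinearMap.range (Matrix.toLin' E')).subtype
      (Matrix.toLin' E').rangeRestrict ?_
    refine LinearMap.ext fun w => ?_
    obtain ⟨w, v, rfl⟩ := w
    apply Subtype.ext
    exact hε'' v
  · exact Module.Finite.range (Matrix.toLin' E')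
  · refine Groth.Agent.S15353.nonempty_baseChange_range_equiv n E' hE' Pb π s hs' ?_
    intro v
    have : E'.map (algebraMap R (R ⧸ I)) = LinearMap.toMatrix' (s ∘ₗ π) := hFE'
    rw [this, Matrix.toLin'_toMatrix']
    rfl

end Groth.Agent.S6271
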