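import Groth.Statements.S6272
import Mathlib
-- import your own Groth.Agent.* helpers here

set_option autoImplicit false
universe u
open scoped TensorProduct
open CAlg

namespace Groth.Agent.S6272


section aux

variable {R : Type u} [CommRing R] (J : Ideal R)

theorem one_tmul_surj (A : Type u) [AddCommGroup A] [Module R A] (y : (R ⧸ J) ⊗[R] A) :
    ∃ a : A, (1 : R ⧸ J) ⊗ₜ[R] a = y := by
  obtain ⟨a, ha⟩ := Submodule.Quotient.mk_surjective _
    (TensorProduct.quotTensorEquivQuotSMul A J y)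
  refine ⟨a, ?_⟩
  apply (TensorProduct.quotTensorEquivQuotSMul A J).injective
  rw [TensorProduct.quotTensorEquivQuotSMul_mk_one_tmul, ha]

theorem one_tmul_eq_zero_iff (A : Type u) [AddCommGroup A] [Module R A] (x : A) :
    (1 : R ⧸ J) ⊗ₜ[R] x = 0 ↔ x ∈ J • (⊤ : Submodule R A) := by
  rw [← (TensorProduct.quotTensorEquivQuotSMul A J).map_eq_zero_iff,
    TensorProduct.quotTensorEquivQuotSMul_mk_one_tmul, Submodule.Quotient.mk_eq_zero]

theorem exists_lift_smul_top {A P : Type u} [AddCommGroup A] [Module R A] [AddCommGroup P]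
    [Module R P] (π : A →ₗ[R] P) (hπ : Function.Surjective π) {x : P}
    (hx : x ∈ J • (⊤ : Submodule R P)) : ∃ a ∈ J • (⊤ : Submodule R A), π a = x := by
  have h : J • (⊤ : Submodule R P) = (J • (⊤ : Submodule R A)).map π := by
    rw [Submodule.map_smul'', Submodule.map_top, LinearMap.range_eq_top.2 hπ]
  rw [h] at hx
  exact Submodule.mem_map.1 hx

theorem coeff_mem {P : Type u} (c : P →₀ R) (hc : c ∈ J • (⊤ : Submodule R (P →₀ R))) (q : P) :
    c q ∈ J := by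
  refine Submodule.smul_induction_on (p := fun c : P →₀ R => c q ∈ J) hc
    (fun r hr n _ => ?_) (fun x y hx hy => ?_)
  · show (r • n) q ∈ J
    rw [Finsupp.smul_apply, smul_eq_mul]
    exact J.mul_mem_right _ hr
  · show (x + y) q ∈ J
    rw [Finsupp.add_apply]
    exact J.add_mem hx hy

theorem exists_section {A P : Type u} [AddCommGroup A] [Module R A] [AddCommGroup P]
    [Module R P] (π : A →ₗ[R] P) (hπ : Function.Surjective π)
    (hker : ∀ x : A, x ∈ J • (⊤ : Submodule R A) → π x = 0 → x = 0)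
    [hJ : Module.Projective (R ⧸ J) ((R ⧸ J) ⊗[R] P)] :
    ∃ s : P →ₗ[R] A, ∀ p, π (s p) = p := by
  have hbc : ∀ a : A, π.baseChange (R ⧸ J) ((1 : R ⧸ J) ⊗ₜ[R] a) = (1 : R ⧸ J) ⊗ₜ[R] π a :=
    fun a => by simp
  have hsurj : Function.Surjective (π.baseChange (R ⧸ J)) := by
    intro y
    obtain ⟨p, rfl⟩ := one_tmul_surj J P y
    obtain ⟨a, rfl⟩ := hπ p
    exact ⟨1 ⊗ₜ[R] a, hbc a⟩
  obtain ⟨t, ht⟩ := Module.projective_lifting_property (π.baseChange (R ⧸ J)) LinearMap.id hsurj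
  have ht' : ∀ m, π.baseChange (R ⧸ J) (t m) = m := fun m => LinearMap.congr_fun ht m
  have htadd : ∀ m m', t (m + m') = t m + t m' := fun m m' => map_add t m m'
  have htsmul : ∀ (r : R) m, t (r • m) = r • t m := fun r m => t.map_smul_of_tower r m
  have hex : ∀ p : P, ∃ c : A, π c = p ∧ (1 : R ⧸ J) ⊗ₜ[R] c = t (1 ⊗ₜ[R] p) := by
    intro p
    obtain ⟨c', hc'⟩ := one_tmul_surj J A (t (1 ⊗ₜ[R] p))
    have h1 : (1 : R ⧸ J) ⊗ₜ[R] (π c' - p) = 0 := by
      rw [TensorProduct.tmul_sub, ← hbc, hc', ht', sub_self]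
    obtain ⟨d, hd, hπd⟩ := exists_lift_smul_top J π hπ ((one_tmul_eq_zero_iff J P _).1 h1)
    refine ⟨c' - d, ?_, ?_⟩
    · rw [map_sub, hπd]; abel
    · rw [TensorProduct.tmul_sub, (one_tmul_eq_zero_iff J A d).2 hd, sub_zero, hc']
  have huniq : ∀ p : P, ∀ c₁ c₂ : A, (π c₁ = p ∧ (1 : R ⧸ J) ⊗ₜ[R] c₁ = t (1 ⊗ₜ[R] p)) →
      (π c₂ = p ∧ (1 : R ⧸ J) ⊗ₜ[R] c₂ = t (1 ⊗ₜ[R] p)) → c₁ = c₂ := by
    intro p c₁ c₂ h₁ h₂
    have h3 : (1 : R ⧸ J) ⊗ₜ[R] (c₁ - c₂) = 0 := by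
      rw [TensorProduct.tmul_sub, h₁.2, h₂.2, sub_self]
    have h4 : π (c₁ - c₂) = 0 := by rw [map_sub, h₁.1, h₂.1, sub_self]
    exact sub_eq_zero.1 (hker _ ((one_tmul_eq_zero_iff J A _).1 h3) h4)
  choose s hs using hex
  refine ⟨{ toFun := s, map_add' := ?_, map_smul' := ?_ }, fun p => (hs p).1⟩
  · intro p q
    apply huniq (p + q) _ _ (hs (p + q))
    refine ⟨by rw [map_add, (hs p).1, (hs q).1], ?_⟩
    rw [TensorProduct.tmul_add, TensorProduct.tmul_add, htadd, (hs p).2, (hs q).2]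
  · intro r p
    apply huniq (r • p) _ _ (hs (r • p))
    refine ⟨by rw [RingHom.id_apply, map_smul, (hs p).1], ?_⟩
    rw [RingHom.id_apply, TensorProduct.tmul_smul, TensorProduct.tmul_smul, htsmul, (hs p).2]

end aux



/-- Over a ring R, take two ideals I and J meeting in zero (I ∩ J = 0) and an R-module P. If the
R/I-module P/IP (that is, R/I ⊗ P) and the R/J-module P/JP (that is, R/J ⊗ P) are both projective,
then P itself is projective over R. -/
theorem result {R : Type u} [CommRing R] (I J : Ideal R) (hIJ : I ⊓ J = ⊥) (P : Type u) [AddCommGroup P] [Module R P] (hI : Module.Projective (R ⧸ I) ((R ⧸ I) ⊗[R] P)) (hJ : Module.Projective (R ⧸ J) ((R ⧸ J) ⊗[R] P)) : Module.Projective R P := by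
  classical
  have := hI
  have := hJ
  obtain ⟨π, hπdef⟩ : ∃ π : (P →₀ R) →ₗ[R] P, π = Finsupp.linearCombination R id := ⟨_, rfl⟩
  have hπ : Function.Surjective π := fun p => ⟨Finsupp.single p 1, by
    rw [hπdef, Finsupp.linearCombination_single, one_smul]; rfl⟩
  have hbc : ∀ a : P →₀ R,
      π.baseChange (R ⧸ I) ((1 : R ⧸ I) ⊗ₜ[R] a) = (1 : R ⧸ I) ⊗ₜ[R] π a := fun a => by simp
  have hsurjI : Function.Surjective (π.baseChange (R ⧸ I)) := by
    intro y
    obtain ⟨p, rfl⟩ := one_tmul_surj I P y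
    obtain ⟨a, rfl⟩ := hπ p
    exact ⟨1 ⊗ₜ[R] a, hbc a⟩
  obtain ⟨sI, hsI⟩ :=
    Module.projective_lifting_property (π.baseChange (R ⧸ I)) LinearMap.id hsurjI
  have hsI' : ∀ m, π.baseChange (R ⧸ I) (sI m) = m := fun m => LinearMap.congr_fun hsI m
  obtain ⟨A₁, hA₁⟩ : ∃ A₁ : Submodule R (P →₀ R),
      ∀ c : P →₀ R, c ∈ A₁ ↔ ∃ m, sI m = (1 : R ⧸ I) ⊗ₜ[R] c :=
    ⟨(LinearMap.range (sI.restrictScalars R)).comap (TensorProduct.mk R (R ⧸ I) (P →₀ R) 1),
      fun c => Iff.rfl⟩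
  have hπ' : Function.Surjective (π ∘ₗ A₁.subtype) := by
    intro p
    obtain ⟨c₀, hc₀⟩ := one_tmul_surj I (P →₀ R) (sI (1 ⊗ₜ[R] p))
    have h1 : (1 : R ⧸ I) ⊗ₜ[R] (π c₀ - p) = 0 := by
      rw [TensorProduct.tmul_sub, ← hbc, hc₀, hsI', sub_self]
    obtain ⟨d, hd, hπd⟩ := exists_lift_smul_top I π hπ ((one_tmul_eq_zero_iff I P _).1 h1)
    have hmem : c₀ - d ∈ A₁ := by
      rw [hA₁]
      refine ⟨1 ⊗ₜ[R] p, ?_⟩
      rw [TensorProduct.tmul_sub, (one_tmul_eq_zero_iff I (P →₀ R) d).2 hd, sub_zero, hc₀]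
    refine ⟨⟨c₀ - d, hmem⟩, ?_⟩
    show π (c₀ - d) = p
    rw [map_sub, hπd]; abel
  have key := exists_section (A := A₁) (P := P) J (π ∘ₗ A₁.subtype) hπ'
  obtain ⟨s', hs'⟩ := key (by
      intro x hx hx0
      have hx0' : π (x : P →₀ R) = 0 := hx0
      have hxJ : (x : P →₀ R) ∈ J • (⊤ : Submodule R (P →₀ R)) := by
        have h1 : (x : P →₀ R) ∈ (J • (⊤ : Submodule R A₁)).map A₁.subtype :=
          Submodule.mem_map_of_mem hx
        rw [Submodule.map_smul''] at h1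
        exact Submodule.smul_mono le_rfl le_top h1
      have hxI : (x : P →₀ R) ∈ I • (⊤ : Submodule R (P →₀ R)) := by
        obtain ⟨m, hm⟩ := (hA₁ _).1 x.2
        have hm0 : m = 0 := by
          rw [← hsI' m, hm, hbc, hx0', TensorProduct.tmul_zero]
        rw [hm0, map_zero] at hm
        exact (one_tmul_eq_zero_iff I (P →₀ R) _).1 hm.symm
      apply Subtype.ext
      ext q
      have hq : (x : P →₀ R) q ∈ I ⊓ J := ⟨coeff_mem I _ hxI q, coeff_mem J _ hxJ q⟩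
      rw [hIJ] at hq
      simpa using hq)
  exact Module.Projective.of_split (A₁.subtype ∘ₗ s') π (LinearMap.ext fun p => hs' p)

end Groth.Agent.S6272
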