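import Groth.Statements.S6273
-- import your own Groth.Agent.* helpers here

set_option autoImplicit false
universe u
open CAlg

namespace Groth.Agent.S6273

/-- Let R be a ring, S ⊆ R a multiplicative subset and A = S⁻¹R. If the image of Spec(A) → Spec(R) is
closed, then the localization map R → A is surjective; in particular A is isomorphic to R/I for the
ideal I = ker(R → A). -/
theorem result {R : Type u} [CommRing R] (S : Submonoid R) (A : Type u) [CommRing A] [Algebra R A] [IsLocalization S A] (hcl : IsClosed (Set.range (PrimeSpectrum.comap (algebraMap R A)))) : Function.Surjective (algebraMap R A) := by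
  have hrange : Set.range (PrimeSpectrum.comap (algebraMap R A)) =
      PrimeSpectrum.zeroLocus (RingHom.ker (algebraMap R A)) := by
    rw [← PrimeSpectrum.closure_range_comap, hcl.closure_eq]
  have key : ∀ s ∈ S, ∃ t : R, algebraMap R A s * algebraMap R A t = 1 := by
    intro s hs
    have htop : Ideal.span {s} ⊔ RingHom.ker (algebraMap R A) = ⊤ := by
      by_contra hne
      obtain ⟨m, hm, hle⟩ := Ideal.exists_le_maximal _ hne
      have hmem : (⟨m, hm.isPrime⟩ : PrimeSpectrum R) ∈
          PrimeSpectrum.zeroLocus (RingHom.ker (algebraMap R A)) := by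
        intro x hx
        exact hle (Ideal.mem_sup_right hx)
      rw [← hrange, PrimeSpectrum.localization_comap_range A S] at hmem
      have hsm : s ∈ m := hle (Ideal.mem_sup_left (Ideal.subset_span rfl))
      exact Set.disjoint_left.mp hmem hs hsm
    have h1 : (1 : R) ∈ Ideal.span {s} ⊔ RingHom.ker (algebraMap R A) := by
      rw [htop]; trivial
    obtain ⟨a, ha, j, hj, haj⟩ := Submodule.mem_sup.mp h1
    obtain ⟨t, rfl⟩ := Ideal.mem_span_singleton'.mp ha
    refine ⟨t, ?_⟩
    have := congrArg (algebraMap R A) haj
    rw [map_add, map_mul, (RingHom.mem_ker).mp hj, add_zero, map_one] at this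
    rw [mul_comm]; exact this
  intro a
  obtain ⟨⟨r, s⟩, hrs⟩ := IsLocalization.surj S a
  obtain ⟨t, ht⟩ := key s.1 s.2
  refine ⟨r * t, ?_⟩
  simp only at hrs
  rw [map_mul, ← hrs, mul_assoc, ht, mul_one]

end Groth.Agent.S6273
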