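import Groth.Statements.S6274
import Mathlib
-- import your own Groth.Agent.* helpers here

set_option autoImplicit false
universe u
open CAlg

namespace Groth.Agent.S6274


/-- Let R be a ring, S ⊆ R a multiplicative subset and A = S⁻¹R, and assume the image of Spec(A) →
Spec(R) is closed. If Spec(R) is a Noetherian topological space (which holds when R is Noetherian)
or S is finitely generated as a monoid, then R is isomorphic to A × R' for some ring R', by an
isomorphism whose first component is the localization map R → A. -/
theorem result {R : Type u} [CommRing R] (S : Submonoid R) (A : Type u) [CommRing A] [Algebra R A] [IsLocalization S A] (hcl : IsClosed (Set.range (PrimeSpectrum.comap (algebraMap R A)))) (h : TopologicalSpace.NoetherianSpace (PrimeSpectrum R) ∨ S.FG) : ∃ (R' : Type u) (_ : CommRing R') (e : R ≃+* A × R'), ∀ x : R, (e x).1 = algebraMap R A x := by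
  classical
  set Z : Set (PrimeSpectrum R) := Set.range (PrimeSpectrum.comap (algebraMap R A)) with hZ
  have hZeq : Z = {p | Disjoint (S : Set R) p.asIdeal} :=
    PrimeSpectrum.localization_comap_range A S
  have hopen : IsOpen Z := by
    rcases h with h | h
    · haveI := h
      have hgen : StableUnderGeneralization Z := by
        intro x y hyx hx
        rw [hZeq] at hx ⊢
        rw [← PrimeSpectrum.le_iff_specializes] at hyx
        exact Set.disjoint_of_subset_right hyx hx
      have hc : Topology.IsConstructible Zᶜ :=
        (TopologicalSpace.NoetherianSpace.isCompact Zᶜ).isConstructible hcl.isOpen_compl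
      have hc' : Topology.IsConstructible Z := by
        have := hc.compl
        rwa [compl_compl] at this
      exact PrimeSpectrum.isOpen_of_stableUnderGeneralization_of_isConstructible hgen hc'
    · obtain ⟨t, ht⟩ := h
      have : Z = ⋂ s ∈ t, (PrimeSpectrum.basicOpen s : Set (PrimeSpectrum R)) := by
        rw [hZeq]
        ext p
        simp only [Set.mem_ofPred_eq, Set.mem_iInter, SetLike.mem_coe, PrimeSpectrum.mem_basicOpen]
        constructor
        · intro hd s hs hsp
          exact Set.disjoint_left.mp hd (ht ▸ Submonoid.subset_closure hs) hsp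
        · intro hall
          rw [Set.disjoint_left]
          intro s hsS hsp
          have hle : S ≤ p.asIdeal.primeCompl := by
            rw [← ht, Submonoid.closure_le]
            intro s hs
            exact hall s hs
          exact hle hsS hsp
      rw [this]
      exact t.finite_toSet.isOpen_biInter (fun s _ => (PrimeSpectrum.basicOpen s).isOpen)
  obtain ⟨e, he, hZe⟩ := PrimeSpectrum.isClopen_iff.mp ⟨hcl, hopen⟩
  -- (a) algebraMap e = 1
  have hea : algebraMap R A e = 1 := by
    have hidem : algebraMap R A e * algebraMap R A e = algebraMap R A e := by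
      rw [← map_mul, he.eq]
    have hunit : IsUnit (algebraMap R A e) := by
      by_contra hnu
      obtain ⟨m, hm, hem⟩ := exists_max_ideal_of_mem_nonunits (mem_nonunits_iff.mpr hnu)
      have hmem : PrimeSpectrum.comap (algebraMap R A) ⟨m, hm.isPrime⟩ ∈ Z := ⟨_, rfl⟩
      rw [hZe] at hmem
      exact hmem hem
    exact hunit.mul_left_cancel (by rw [hidem, mul_one])
  -- (b) e ∈ span {s}
  have hes : ∀ s ∈ S, ∃ t, e = s * t := by
    intro s hs
    have hle : PrimeSpectrum.basicOpen e ≤ PrimeSpectrum.basicOpen s := by
      intro p hp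
      have hpZ : p ∈ Z := by rw [hZe]; exact hp
      rw [hZeq] at hpZ
      exact fun hsp => Set.disjoint_left.mp hpZ hs hsp
    rw [PrimeSpectrum.basicOpen_le_basicOpen_iff] at hle
    obtain ⟨n, hn⟩ := hle
    have h1 : e ^ (n + 1) ∈ Ideal.span {s} := by
      rw [pow_succ]
      exact Ideal.mul_mem_right _ _ hn
    rw [he.pow_succ_eq] at h1
    obtain ⟨t, ht⟩ := Ideal.mem_span_singleton'.mp h1
    exact ⟨t, by rw [← ht, mul_comm]⟩
  -- (c) surjectivity of algebraMap
  have hsurjA : Function.Surjective (algebraMap R A) := by
    intro a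
    obtain ⟨u, s, rfl⟩ := IsLocalization.exists_mk'_eq S a
    obtain ⟨t, ht⟩ := hes s s.2
    refine ⟨u * t, ?_⟩
    have h1 : algebraMap R A s * algebraMap R A t = 1 := by
      rw [← map_mul, ← ht, hea]
    have h2 : IsLocalization.mk' A u s * algebraMap R A s = algebraMap R A u :=
      IsLocalization.mk'_spec A u s
    rw [map_mul, ← h2, mul_assoc, h1, mul_one]
  refine ⟨R ⧸ Ideal.span {e}, inferInstance,
    RingEquiv.ofBijective (RingHom.prod (algebraMap R A) (Ideal.Quotient.mk (Ideal.span {e})))
      ⟨?_, ?_⟩, fun x => rfl⟩
  · rw [injective_iff_map_eq_zero]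
    intro x hx
    have hx1 : algebraMap R A x = 0 := congrArg Prod.fst hx
    have hx2 : Ideal.Quotient.mk (Ideal.span {e}) x = 0 := congrArg Prod.snd hx
    rw [Ideal.Quotient.eq_zero_iff_mem] at hx2
    obtain ⟨y, hy⟩ := Ideal.mem_span_singleton'.mp hx2
    obtain ⟨s, hs⟩ := (IsLocalization.map_eq_zero_iff S A x).mp hx1
    obtain ⟨t, ht⟩ := hes s s.2
    have hxe : x * e = x := by
      rw [← hy, mul_assoc, he.eq]
    calc x = x * e := hxe.symm
      _ = (s * x) * t := by rw [ht]; ring
      _ = 0 := by rw [hs, zero_mul]
  · rintro ⟨a, rbar⟩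
    obtain ⟨r, rfl⟩ := Ideal.Quotient.mk_surjective rbar
    obtain ⟨u, rfl⟩ := hsurjA a
    refine ⟨e * u + (1 - e) * r, ?_⟩
    refine Prod.ext ?_ ?_
    · change algebraMap R A (e * u + (1 - e) * r) = algebraMap R A u
      rw [map_add, map_mul, map_mul, map_sub, hea, map_one, sub_self, zero_mul, one_mul, add_zero]
    · change Ideal.Quotient.mk (Ideal.span {e}) (e * u + (1 - e) * r) =
        Ideal.Quotient.mk (Ideal.span {e}) r
      rw [Ideal.Quotient.eq]
      have : e * u + (1 - e) * r - r = (u - r) * e := by ring
      rw [this]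
      exact Ideal.mul_mem_left _ _ (Ideal.mem_span_singleton_self e)


end Groth.Agent.S6274
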