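import Groth.Statements.S6275
-- import your own Groth.Agent.* helpers here

set_option autoImplicit false
universe u
open CAlg

namespace Groth.Agent.S6275

/-- Let R be a Noetherian ring and p ⊆ R a prime. Then there is f ∈ R, f ∉ p, such that R_f → R_p is
injective; equivalently every x ∈ R mapping to zero in R_p maps to zero in R_f. (The cases of a
domain and of a reduced ring with finitely many minimal primes are not included here.) -/
theorem result {R : Type u} [CommRing R] [IsNoetherianRing R] (p : Ideal R) [p.IsPrime] : ∃ f : R, f ∉ p ∧ ∀ x : R, algebraMap R (Localization.AtPrime p) x = 0 → algebraMap R (Localization.Away f) x = 0 := by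
  classical
  have hfin : ∀ (s : Finset R), (∀ x ∈ s, ∃ m : R, m ∉ p ∧ m * x = 0) →
      ∃ f : R, f ∉ p ∧ ∀ x ∈ s, f * x = 0 := by
    intro s
    induction s using Finset.induction_on with
    | empty => intro _; exact ⟨1, fun h => ‹p.IsPrime›.ne_top ((Ideal.eq_top_iff_one p).mpr h), by simp⟩
    | insert a s _ ih =>
      intro h
      obtain ⟨f₀, hf₀, hf₀s⟩ := ih (fun x hx => h x (Finset.mem_insert_of_mem hx))
      obtain ⟨m, hm, hma⟩ := h a (Finset.mem_insert_self a s)
      refine ⟨m * f₀, ?_, ?_⟩
      · intro hmem
        rcases (Ideal.IsPrime.mem_or_mem ‹p.IsPrime› hmem) with h1 | h1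
        · exact hm h1
        · exact hf₀ h1
      · intro x hx
        rcases Finset.mem_insert.mp hx with rfl | hx
        · rw [mul_comm m f₀, mul_assoc, hma, mul_zero]
        · rw [mul_assoc, hf₀s x hx, mul_zero]
  let K : Ideal R := RingHom.ker (algebraMap R (Localization.AtPrime p))
  have hK : K.FG := IsNoetherian.noetherian K
  obtain ⟨s, hs⟩ := hK
  have hsK : ∀ x ∈ s, ∃ m : R, m ∉ p ∧ m * x = 0 := by
    intro x hx
    have hxK : x ∈ K := by rw [← hs]; exact Submodule.subset_span hx
    have h0 : algebraMap R (Localization.AtPrime p) x = 0 := hxK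
    obtain ⟨m, hm⟩ := (IsLocalization.map_eq_zero_iff p.primeCompl (Localization.AtPrime p) x).mp h0
    exact ⟨m.1, m.2, hm⟩
  obtain ⟨f, hfp, hf⟩ := hfin s hsK
  refine ⟨f, hfp, ?_⟩
  intro x hx
  have hxK : x ∈ Submodule.span R (s : Set R) := by
    change x ∈ Ideal.span (s : Set R)
    rw [hs]; exact hx
  clear hx
  have hfx : f * x = 0 := by
    induction hxK using Submodule.span_induction with
    | mem y hy => exact hf y hy
    | zero => simp
    | add y z _ _ hy hz => rw [mul_add, hy, hz, add_zero]
    | smul r y _ hy => rw [smul_eq_mul, mul_left_comm, hy, mul_zero]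
  exact (IsLocalization.map_eq_zero_iff (Submonoid.powers f) (Localization.Away f) x).mpr
    ⟨⟨f, Submonoid.mem_powers f⟩, hfx⟩

end Groth.Agent.S6275
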