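import Groth.Statements.S6281
-- import your own Groth.Agent.* helpers here

set_option autoImplicit false
universe u
open CAlg

namespace Groth.Agent.S6281

/-- For an R-algebra S and an S-module M, flatness of S over R follows once M is both flat over R and
faithfully flat over S. -/
theorem result {R S : Type u} [CommRing R] [CommRing S] [Algebra R S] (M : Type u) [AddCommGroup M] [Module S M] [Module R M] [IsScalarTower R S M] [Module.Flat R M] [Module.FaithfullyFlat S M] : Module.Flat R S := by
  rw [Module.Flat.iff_lTensor_preserves_injective_linearMap]
  intro N P _ _ _ _ f hf
  have h1 : Function.Injective (f.lTensor M) :=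
    Module.Flat.lTensor_preserves_injective_linearMap f hf
  let eN := TensorProduct.AlgebraTensorModule.cancelBaseChange R S S M N
  let eP := TensorProduct.AlgebraTensorModule.cancelBaseChange R S S M P
  have hcomm : ∀ x, eP (((f.baseChange S).lTensor M) x) = (f.lTensor M) (eN x) := by
    intro x
    induction x using TensorProduct.induction_on with
    | zero => simp
    | tmul m y =>
      induction y using TensorProduct.induction_on with
      | zero => simp
      | tmul s n => simp [eN, eP]
      | add y1 y2 h1 h2 => simp only [TensorProduct.tmul_add, map_add, h1, h2]
    | add x1 x2 h1 h2 => simp only [map_add, h1, h2]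
  have h2 : Function.Injective ((f.baseChange S).lTensor M) := by
    intro x y hxy
    apply eN.injective
    apply h1
    rw [← hcomm, ← hcomm, hxy]
  have h3 := (Module.FaithfullyFlat.lTensor_injective_iff_injective S M (f.baseChange S)).mp h2
  intro x y hxy
  apply h3
  simpa [LinearMap.baseChange_eq_ltensor] using hxy

end Groth.Agent.S6281
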