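import Groth.Statements.S6282
-- import your own Groth.Agent.* helpers here

set_option autoImplicit false
universe u
open scoped TensorProduct
open CAlg

namespace Groth.Agent.S6282

open TensorProduct in
/-- the associativity square used in both directions -/
theorem assoc_comm {R S S' : Type u} [CommRing R] [CommRing S] [CommRing S'] [Algebra R S]
    [Algebra R S'] [Algebra S S'] [IsScalarTower R S S'] (M : Type u) [AddCommGroup M] [Module S M]
    [Module R M] [IsScalarTower R S M] {N P : Type u} [AddCommGroup N] [AddCommGroup P] [Module R N]
    [Module R P] (f : N →ₗ[R] P) (x : (S' ⊗[S] M) ⊗[R] N) :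
    AlgebraTensorModule.assoc R S S' S' M P ((f.lTensor (S' ⊗[S] M)) x) =
      ((AlgebraTensorModule.lTensor S M f).lTensor S') (AlgebraTensorModule.assoc R S S' S' M N x) := by
  induction x using TensorProduct.induction_on with
  | zero => simp
  | tmul y n =>
    induction y using TensorProduct.induction_on with
    | zero => simp
    | tmul s m => simp
    | add y1 y2 h1 h2 => simp only [TensorProduct.add_tmul, map_add, h1, h2]
  | add x1 x2 h1 h2 => simp only [map_add, h1, h2]

open TensorProduct in
theorem part1 {R S S' : Type u} [CommRing R] [CommRing S] [CommRing S'] [Algebra R S]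
    [Algebra R S'] [Algebra S S'] [IsScalarTower R S S'] (M : Type u) [AddCommGroup M] [Module S M]
    [Module R M] [IsScalarTower R S M] [Module.Flat S S'] (hM : Module.Flat R M) :
    Module.Flat R (S' ⊗[S] M) := by
  rw [Module.Flat.iff_lTensor_preserves_injective_linearMap]
  intro N P _ _ _ _ f hf
  have hg : Function.Injective (AlgebraTensorModule.lTensor S M f) := by
    rw [AlgebraTensorModule.coe_lTensor]
    exact Module.Flat.lTensor_preserves_injective_linearMap f hf
  have hg' : Function.Injective ((AlgebraTensorModule.lTensor S M f).lTensor S') :=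
    Module.Flat.lTensor_preserves_injective_linearMap _ hg
  intro x y hxy
  apply (AlgebraTensorModule.assoc R S S' S' M N).injective
  apply hg'
  rw [← assoc_comm, ← assoc_comm, hxy]

open TensorProduct in
theorem part2 {R S S' : Type u} [CommRing R] [CommRing S] [CommRing S'] [Algebra R S]
    [Algebra R S'] [Algebra S S'] [IsScalarTower R S S'] (M : Type u) [AddCommGroup M] [Module S M]
    [Module R M] [IsScalarTower R S M] [Module.FaithfullyFlat S S']
    (hM : Module.Flat R (S' ⊗[S] M)) : Module.Flat R M := by
  rw [Module.Flat.iff_lTensor_preserves_injective_linearMap]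
  intro N P _ _ _ _ f hf
  have h1 : Function.Injective (f.lTensor (S' ⊗[S] M)) :=
    Module.Flat.lTensor_preserves_injective_linearMap f hf
  have hg' : Function.Injective ((AlgebraTensorModule.lTensor S M f).lTensor S') := by
    intro x y hxy
    apply (AlgebraTensorModule.assoc R S S' S' M N).symm.injective
    apply h1
    apply (AlgebraTensorModule.assoc R S S' S' M P).injective
    rw [assoc_comm, assoc_comm]
    simpa using hxy
  have hg := (Module.FaithfullyFlat.lTensor_injective_iff_injective S S'
    (AlgebraTensorModule.lTensor S M f)).mp hg'
  rwa [AlgebraTensorModule.coe_lTensor] at hg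

/-- Let S → S' be a homomorphism of R-algebras, M an S-module, and M' = S' ⊗_S M with its induced
R-module structure. (1) When S' is flat over S, R-flatness of M passes to M'. (2) When S' is
faithfully flat over S, M is R-flat exactly when M' is. -/
theorem result {R S S' : Type u} [CommRing R] [CommRing S] [CommRing S'] [Algebra R S] [Algebra R S'] [Algebra S S'] [IsScalarTower R S S'] (M : Type u) [AddCommGroup M] [Module S M] [Module R M] [IsScalarTower R S M] : ([Module.Flat S S'] → Module.Flat R M → Module.Flat R (S' ⊗[S] M)) ∧ ([Module.FaithfullyFlat S S'] → (Module.Flat R M ↔ Module.Flat R (S' ⊗[S] M))) := by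
  refine ⟨fun hM => part1 M hM, ⟨fun hM => part1 M hM, fun hM => part2 M hM⟩⟩

end Groth.Agent.S6282
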