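import Groth.Statements.S6283
import Mathlib.LinearAlgebra.TensorProduct.Tower
import Mathlib.LinearAlgebra.Pi

set_option autoImplicit false
universe u
open scoped TensorProduct
open CAlg

namespace Groth.Agent.S6283

theorem part1 {R S : Type*} [CommRing R] [CommRing S] [Algebra R S] [Module.Flat R S]
    {M : Type*} [AddCommGroup M] [Module R M] (m : M) :
    ((Submodule.span R {m}).annihilator).map (algebraMap R S) =
      (Submodule.span S {(1 : S) ⊗ₜ[R] m}).annihilator := by
  apply le_antisymm
  · rw [Ideal.map_le_iff_le_comap]
    intro r hr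
    rw [Submodule.mem_annihilator_span_singleton] at hr
    rw [Ideal.mem_comap, Submodule.mem_annihilator_span_singleton, algebraMap_smul,
      ← TensorProduct.tmul_smul, hr, TensorProduct.tmul_zero]
  · intro s hs
    rw [Submodule.mem_annihilator_span_singleton] at hs
    have hs' : s ⊗ₜ[R] m = 0 := by
      rwa [TensorProduct.smul_tmul', smul_eq_mul, mul_one] at hs
    have hex := Module.Flat.lTensor_exact S
      (LinearMap.exact_subtype_ker_map (LinearMap.toSpanSingleton R M m))
    have h0 : ((LinearMap.toSpanSingleton R M m).lTensor S) (s ⊗ₜ[R] (1 : R)) = 0 := by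
      simp [hs']
    obtain ⟨z, hz⟩ := (hex _).mp h0
    have key : ∀ z : S ⊗[R] LinearMap.ker (LinearMap.toSpanSingleton R M m),
        TensorProduct.rid R S
          ((LinearMap.ker (LinearMap.toSpanSingleton R M m)).subtype.lTensor S z) ∈
        Ideal.map (algebraMap R S) (Submodule.span R {m}).annihilator := by
      intro z
      induction z using TensorProduct.induction_on with
      | zero => simp
      | tmul s' a =>
        simp only [LinearMap.lTensor_tmul, Submodule.subtype_apply, TensorProduct.rid_tmul]
        rw [Algebra.smul_def]
        apply Ideal.mul_mem_right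
        apply Ideal.mem_map_of_mem
        rw [Submodule.mem_annihilator_span_singleton]
        have h := LinearMap.mem_ker.mp a.2
        rwa [LinearMap.toSpanSingleton_apply] at h
      | add x y hx hy =>
        simp only [map_add]
        exact Ideal.add_mem _ hx hy
    have := key z
    rw [hz, TensorProduct.rid_tmul, one_smul] at this
    exact this

theorem part2 {R S : Type*} [CommRing R] [CommRing S] [Algebra R S] [Module.Flat R S]
    {M : Type*} [AddCommGroup M] [Module R M] [Module.Finite R M] :
    (Module.annihilator R M).map (algebraMap R S) = Module.annihilator S (S ⊗[R] M) := by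
  obtain ⟨n, g, hg⟩ := Module.Finite.exists_fin (R := R) (M := M)
  have h1 : Module.annihilator R M = (Submodule.span R {(g : Fin n → M)}).annihilator := by
    ext r
    rw [Submodule.mem_annihilator_span_singleton, ← Submodule.annihilator_top, ← hg,
      Submodule.mem_annihilator_span]
    constructor
    · intro h
      funext i
      exact h ⟨g i, i, rfl⟩
    · rintro h ⟨_, i, rfl⟩
      exact congrFun h i
  have h2 : Module.annihilator S (S ⊗[R] M) =
      (Submodule.span S {(1 : S) ⊗ₜ[R] (g : Fin n → M)}).annihilator := by
    ext s
    rw [Submodule.mem_annihilator_span_singleton, ← Submodule.annihilator_top,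
      ← Submodule.baseChange_top (R := R) (M := M) S, ← hg, Submodule.baseChange_span,
      Submodule.mem_annihilator_span]
    rw [TensorProduct.smul_tmul', smul_eq_mul, mul_one]
    constructor
    · intro h
      have hsum : (g : Fin n → M) = ∑ i, (LinearMap.single R (fun _ => M) i) (g i) := by
        funext j
        simp [Finset.sum_apply, Pi.single_apply]
      rw [hsum, TensorProduct.tmul_sum]
      apply Finset.sum_eq_zero
      intro i _
      have hi := h ⟨(1 : S) ⊗ₜ[R] g i, g i, ⟨i, rfl⟩, rfl⟩
      simp only [TensorProduct.smul_tmul', smul_eq_mul, mul_one] at hi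
      have : s ⊗ₜ[R] (LinearMap.single R (fun _ => M) i) (g i) =
          (LinearMap.single R (fun _ => M) i).lTensor S (s ⊗ₜ[R] g i) := rfl
      rw [this, hi, map_zero]
    · rintro h ⟨_, _, ⟨i, rfl⟩, rfl⟩
      simp only [TensorProduct.mk_apply, TensorProduct.smul_tmul', smul_eq_mul, mul_one]
      have : s ⊗ₜ[R] g i = (LinearMap.proj (R := R) (φ := fun _ => M) i).lTensor S
          (s ⊗ₜ[R] (g : Fin n → M)) := rfl
      rw [this, h, map_zero]
  rw [h1, h2, part1]

/-- Let R → S be a flat ring map, M an R-module and m ∈ M. Then Ann_R(m)S = Ann_S(1 ⊗ m), the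
annihilator in S of the element 1 ⊗ m of S ⊗_R M. If moreover M is a finite R-module then Ann_R(M)S
= Ann_S(S ⊗_R M). -/
theorem result {R S : Type u} [CommRing R] [CommRing S] [Algebra R S] [Module.Flat R S] (M : Type u) [AddCommGroup M] [Module R M] : (∀ m : M, ((Submodule.span R {m}).annihilator).map (algebraMap R S) = (Submodule.span S {(1 : S) ⊗ₜ[R] m}).annihilator) ∧ (Module.Finite R M → (Module.annihilator R M).map (algebraMap R S) = Module.annihilator S (S ⊗[R] M)) := by
  exact ⟨fun m => part1 m, fun _ => part2⟩

end Groth.Agent.S6283
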