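-- Statement S6287: a directed colimit of valuation rings is a valuation ring.
import Groth.Statements.S6287

set_option autoImplicit false
universe u
open CAlg

namespace Groth.Agent.S6287

/-- Let (A_i) be a directed system of valuation rings. Then the colimit A = colim A_i is a valuation
ring (in particular a domain). -/
theorem result {ι : Type u} [Preorder ι] [Nonempty ι] [IsDirected ι (· ≤ ·)] (G : ι → Type u) [∀ i, CommRing (G i)] [∀ i, IsDomain (G i)] [∀ i, ValuationRing (G i)] (f : ∀ i j, i ≤ j → G i →+* G j) [DirectedSystem G fun i j h => f i j h] : ∃ _ : IsDomain (Ring.DirectLimit G fun i j h => f i j h), ValuationRing (Ring.DirectLimit G fun i j h => f i j h) := by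
  have hpair : ∀ a b : Ring.DirectLimit G fun i j h => f i j h, ∃ (k : ι) (a' b' : G k),
      Ring.DirectLimit.of G (fun i j h => f i j h) k a' = a ∧
      Ring.DirectLimit.of G (fun i j h => f i j h) k b' = b := by
    intro a b
    obtain ⟨i, a', rfl⟩ := Ring.DirectLimit.exists_of a
    obtain ⟨j, b', rfl⟩ := Ring.DirectLimit.exists_of b
    obtain ⟨k, hik, hjk⟩ := exists_ge_ge i j
    exact ⟨k, f i k hik a', f j k hjk b', Ring.DirectLimit.of_f hik a', Ring.DirectLimit.of_f hjk b'⟩
  have hnt : Nontrivial (Ring.DirectLimit G fun i j h => f i j h) := by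
    refine ⟨0, 1, fun h => ?_⟩
    obtain ⟨i⟩ := ‹Nonempty ι›
    have h1 : Ring.DirectLimit.of G (fun i j h => f i j h) i 1 = 0 := by rw [map_one]; exact h.symm
    obtain ⟨k, hik, hk⟩ := Ring.DirectLimit.of.zero_exact h1
    rw [map_one] at hk
    exact one_ne_zero hk
  have hnzd : NoZeroDivisors (Ring.DirectLimit G fun i j h => f i j h) := by
    refine ⟨fun {a b} hab => ?_⟩
    obtain ⟨k, a', b', rfl, rfl⟩ := hpair a b
    rw [← map_mul] at hab
    obtain ⟨m, hkm, hm⟩ := Ring.DirectLimit.of.zero_exact hab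
    rw [map_mul] at hm
    rcases mul_eq_zero.mp hm with h | h
    · left; rw [← Ring.DirectLimit.of_f hkm a', h, map_zero]
    · right; rw [← Ring.DirectLimit.of_f hkm b', h, map_zero]
  refine ⟨NoZeroDivisors.to_isDomain _, ?_⟩
  refine @ValuationRing.mk _ _ (NoZeroDivisors.to_isDomain _) ⟨fun a b => ?_⟩
  obtain ⟨k, a', b', rfl, rfl⟩ := hpair a b
  obtain ⟨c, hc | hc⟩ := ValuationRing.cond a' b'
  · exact ⟨Ring.DirectLimit.of G (fun i j h => f i j h) k c, Or.inl (by rw [← map_mul, hc])⟩
  · exact ⟨Ring.DirectLimit.of G (fun i j h => f i j h) k c, Or.inr (by rw [← map_mul, hc])⟩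

end Groth.Agent.S6287
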