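-- Statement S6289: composite of valuation rings.
import Groth.Statements.S6289

set_option autoImplicit false
universe u
open CAlg

namespace Groth.Agent.S6289

/-- Let A' be a valuation ring with residue field K and A ⊆ K a valuation ring with fraction field K.
Then the subring C of A' consisting of the elements whose residue class lies in A is a valuation
ring. -/
theorem result (A' : Type u) [CommRing A'] [IsDomain A'] [ValuationRing A'] (A : ValuationSubring (IsLocalRing.ResidueField A')) : ValuationRing (A.toSubring.comap (IsLocalRing.residue A')) := by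
  -- key: if `a * c = b` in `A'` with `a b` in the subring then one divides the other in the subring
  have key : ∀ (a b c : A'), IsLocalRing.residue A' a ∈ A.toSubring →
      IsLocalRing.residue A' b ∈ A.toSubring → a * c = b →
      ∃ c' : A', IsLocalRing.residue A' c' ∈ A.toSubring ∧ (a * c' = b ∨ b * c' = a) := by
    intro a b c ha hb hc
    by_cases hcA : IsLocalRing.residue A' c ∈ A.toSubring
    · exact ⟨c, hcA, Or.inl hc⟩
    · have hne : IsLocalRing.residue A' c ≠ 0 := by
        intro h0; apply hcA; rw [h0]; exact A.toSubring.zero_mem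
      have hunit : IsUnit c := by
        by_contra hnu
        exact hne ((IsLocalRing.residue_eq_zero_iff c).mpr ((IsLocalRing.mem_maximalIdeal c).mpr hnu))
      obtain ⟨u, rfl⟩ := hunit
      refine ⟨(↑u⁻¹ : A'), ?_, Or.inr ?_⟩
      · have hinv : IsLocalRing.residue A' (↑u⁻¹ : A') = (IsLocalRing.residue A' (u : A'))⁻¹ := by
          apply eq_inv_of_mul_eq_one_left
          rw [← map_mul, Units.inv_mul, map_one]
        rw [hinv]
        rcases A.mem_or_inv_mem (IsLocalRing.residue A' (u : A')) with h | h
        · exact absurd h hcA
        · exact h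
      · rw [← hc, mul_assoc, Units.mul_inv, mul_one]
  refine @ValuationRing.mk _ _ _ ⟨fun a b => ?_⟩
  obtain ⟨a, ha⟩ := a
  obtain ⟨b, hb⟩ := b
  rw [Subring.mem_comap] at ha hb
  obtain ⟨c, hc | hc⟩ := ValuationRing.cond a b
  · obtain ⟨c', hc', h⟩ := key a b c ha hb hc
    refine ⟨⟨c', hc'⟩, ?_⟩
    rcases h with h | h
    · left; exact Subtype.ext h
    · right; exact Subtype.ext h
  · obtain ⟨c', hc', h⟩ := key b a c hb ha hc
    refine ⟨⟨c', hc'⟩, ?_⟩
    rcases h with h | h
    · right; exact Subtype.ext h
    · left; exact Subtype.ext h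

end Groth.Agent.S6289
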