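import Groth.Statements.S6294
import Mathlib.RingTheory.Ideal.MinimalPrime.Localization
import Mathlib.Algebra.Group.Pi.Units

set_option autoImplicit false
universe u
open CAlg

namespace Groth.Agent.S6294

/-- Let R be a ring with finitely many minimal primes q₁, …, q_t, and assume that the zerodivisors of R
are precisely the elements of q₁ ∪ … ∪ q_t. Then Q(R), the total ring of fractions of R, equals
R_{q₁} × … × R_{q_t}: the diagonal map R → ∏ R_{q_i} is a localization of R at its non-zerodivisors. -/
theorem result {R : Type u} [CommRing R] {ι : Type} [Fintype ι] (q : ι → Ideal R) [∀ i, (q i).IsPrime] (hinj : Function.Injective q) (hmin : ∀ P : Ideal R, P ∈ minimalPrimes R ↔ P ∈ Set.range q) (hzd : ∀ x : R, x ∈ nonZeroDivisors R ↔ ∀ i, x ∉ q i) : IsLocalization (nonZeroDivisors R) (∀ i, Localization.AtPrime (q i)) := by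
  classical
  have hqmin : ∀ i, q i ∈ minimalPrimes R := fun i => (hmin _).mpr ⟨i, rfl⟩
  -- elements of `q j` are nilpotent in the localization at `q j`
  have hnil : ∀ j (t : R), t ∈ q j →
      IsNilpotent (algebraMap R (Localization.AtPrime (q j)) t) := by
    intro j t ht
    have h1 := IsLocalization.AtPrime.radical_map_of_mem_minimalPrimes
      (A := Localization.AtPrime (q j)) (q j) ⊥ (hqmin j)
    rw [Ideal.map_bot] at h1
    have h2 : algebraMap R (Localization.AtPrime (q j)) t ∈
        (q j).map (algebraMap R (Localization.AtPrime (q j))) := Ideal.mem_map_of_mem _ ht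
    rw [← h1] at h2
    exact h2
  -- the approximate idempotents
  have he : ∀ i, ∃ e : R, e ∉ q i ∧
      ∀ j, j ≠ i → algebraMap R (Localization.AtPrime (q j)) e = 0 := by
    intro i
    have hu : ∀ j, ∃ u : R, j ≠ i → (u ∈ q j ∧ u ∉ q i) := by
      intro j
      by_cases hji : j = i
      · exact ⟨0, fun h => absurd hji h⟩
      · by_contra hcon
        push Not at hcon
        have hle : q j ≤ q i := by
          intro u hu
          exact (hcon u).2 hu
        have hge : q i ≤ q j := (hqmin i).2 ⟨inferInstance, bot_le⟩ hle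
        exact hji (hinj (le_antisymm hle hge))
    choose u hu using hu
    let t : R := ∏ j ∈ Finset.univ.erase i, u j
    have ht1 : t ∉ q i := by
      intro h
      rw [Ideal.IsPrime.prod_mem_iff] at h
      obtain ⟨j, hj, hj'⟩ := h
      exact (hu j (Finset.ne_of_mem_erase hj)).2 hj'
    have ht2 : ∀ j, j ≠ i → t ∈ q j := by
      intro j hj
      have hmem : j ∈ Finset.univ.erase i := Finset.mem_erase.mpr ⟨hj, Finset.mem_univ _⟩
      obtain ⟨c, hc⟩ := Finset.dvd_prod_of_mem u hmem
      change t = u j * c at hc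
      rw [hc]
      exact (q j).mul_mem_right _ (hu j hj).1
    have hN : ∀ j, ∃ n : ℕ, j ≠ i → algebraMap R (Localization.AtPrime (q j)) t ^ n = 0 := by
      intro j
      by_cases hji : j = i
      · exact ⟨0, fun h => absurd hji h⟩
      · obtain ⟨n, hn⟩ := hnil j t (ht2 j hji)
        exact ⟨n, fun _ => hn⟩
    choose n hn using hN
    refine ⟨t ^ (∑ j, n j), fun h => ht1 (Ideal.IsPrime.mem_of_pow_mem inferInstance _ h),
      fun j hj => ?_⟩
    rw [map_pow]
    have hle : n j ≤ ∑ j, n j := Finset.single_le_sum (fun _ _ => Nat.zero_le _) (Finset.mem_univ j)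
    rw [← Nat.sub_add_cancel hle, pow_add, hn j hj, mul_zero]
  choose e he1 he2 using he
  have he3 : ∀ i j, j ≠ i → e i ∈ q j := by
    intro i j hj
    have h := he2 i j hj
    rw [IsLocalization.map_eq_zero_iff (q j).primeCompl] at h
    obtain ⟨m, hm⟩ := h
    exact ((inferInstance : (q j).IsPrime).mem_or_mem (hm ▸ (q j).zero_mem)).resolve_left m.2
  -- image of a combination
  have hmap : ∀ (x : ι → R) (i : ι), algebraMap R (Localization.AtPrime (q i)) (∑ j, e j * x j)
      = algebraMap R (Localization.AtPrime (q i)) (e i * x i) := by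
    intro x i
    rw [map_sum]
    apply Finset.sum_eq_single i
    · intro j _ hj
      rw [map_mul, he2 j i (Ne.symm hj), zero_mul]
    · intro h
      exact absurd (Finset.mem_univ i) h
  have hcomb : ∀ x : ι → R, (∀ i, x i ∉ q i) → (∑ j, e j * x j) ∈ nonZeroDivisors R := by
    intro x hx
    rw [hzd]
    intro i hi
    have h1 : e i * x i ∉ q i := fun h =>
      ((inferInstance : (q i).IsPrime).mem_or_mem h).elim (he1 i) (hx i)
    apply h1
    have hsplit : e i * x i = (∑ j, e j * x j) - ∑ j ∈ Finset.univ.erase i, e j * x j := by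
      rw [← Finset.add_sum_erase _ _ (Finset.mem_univ i)]
      ring
    rw [hsplit]
    refine (q i).sub_mem hi (Submodule.sum_mem _ fun j hj => ?_)
    exact (q i).mul_mem_right _ (he3 j i (Ne.symm (Finset.ne_of_mem_erase hj)))
  rw [isLocalization_iff]
  refine ⟨?_, ?_, ?_⟩
  · intro y
    rw [Pi.isUnit_iff]
    intro i
    rw [Pi.algebraMap_apply]
    exact IsLocalization.map_units _ (⟨y.1, (hzd y.1).mp y.2 i⟩ : (q i).primeCompl)
  · intro z
    have hsurj := fun i => IsLocalization.surj (q i).primeCompl (z i)
    choose as has using hsurj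
    refine ⟨⟨∑ j, e j * (as j).1, ⟨∑ j, e j * ((as j).2 : R), hcomb _ fun i => (as i).2.2⟩⟩, ?_⟩
    funext i
    simp only [Pi.mul_apply, Pi.algebraMap_apply]
    rw [hmap, hmap, map_mul, map_mul, mul_left_comm, has i]
  · intro x y hxy
    have hw : ∀ i, ∃ w : R, w ∉ q i ∧ w * (x - y) = 0 := by
      intro i
      have h := congr_fun hxy i
      simp only [Pi.algebraMap_apply] at h
      have h' : algebraMap R (Localization.AtPrime (q i)) (x - y) = 0 := by
        rw [map_sub, h, sub_self]
      rw [IsLocalization.map_eq_zero_iff (q i).primeCompl] at h'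
      obtain ⟨m, hm⟩ := h'
      exact ⟨m.1, m.2, hm⟩
    choose w hw1 hw2 using hw
    refine ⟨⟨∑ j, e j * w j, hcomb _ hw1⟩, ?_⟩
    have : (∑ j, e j * w j) * (x - y) = 0 := by
      rw [Finset.sum_mul]
      apply Finset.sum_eq_zero
      intro j _
      rw [mul_assoc, hw2 j, mul_zero]
    rw [mul_sub, sub_eq_zero] at this
    exact this

end Groth.Agent.S6294
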