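import Groth.Statements.S6298
import Mathlib.RingTheory.Ideal.Operations
import Mathlib.Order.Preorder.Finite

set_option autoImplicit false
universe u
open CAlg

namespace Groth.Agent.S6298

theorem aux {R : Type u} [CommRing R] (x : R) (I : Ideal R) :
    ∀ s : Finset (Ideal R), (∀ P ∈ s, P.IsPrime ∧ ∃ y ∈ I, x + y ∉ P) →
      ∃ y ∈ I, ∀ P ∈ s, x + y ∉ P := by
  classical
  intro s
  induction s using Finset.strongInduction with
  | H s ih =>
    intro hs
    rcases s.eq_empty_or_nonempty with rfl | hne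
    · exact ⟨0, I.zero_mem, by simp⟩
    obtain ⟨m, hm⟩ := s.exists_minimal hne
    have hms : m ∈ s := hm.1
    obtain ⟨y', hy'I, hy'⟩ := ih (s.erase m) (Finset.erase_ssubset hms)
      (fun P hP => hs P (Finset.mem_of_mem_erase hP))
    by_cases hxm : x + y' ∈ m
    swap
    · refine ⟨y', hy'I, fun P hP => ?_⟩
      by_cases hPm : P = m
      · subst hPm; exact hxm
      · exact hy' P (Finset.mem_erase.mpr ⟨hPm, hP⟩)
    · have hmprime : m.IsPrime := (hs m hms).1
      obtain ⟨y0, hy0I, hy0⟩ := (hs m hms).2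
      have ha : ∃ a ∈ I, a ∉ m := by
        refine ⟨y0 - y', I.sub_mem hy0I hy'I, fun h => hy0 ?_⟩
        have : x + y0 = (x + y') + (y0 - y') := by ring
        rw [this]; exact m.add_mem hxm h
      obtain ⟨a, haI, ham⟩ := ha
      have hb : ∀ P : Ideal R, ∃ b : R, P ∈ s.erase m → (b ∈ P ∧ b ∉ m) := by
        intro P
        by_cases hP : P ∈ s.erase m
        · have hPs := Finset.mem_of_mem_erase hP
          have hPm := Finset.ne_of_mem_erase hP
          have hnle : ¬ P ≤ m := fun hle => hPm (le_antisymm hle (hm.2 hPs hle))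
          obtain ⟨b, hbP, hbm⟩ := SetLike.not_le_iff_exists.mp hnle
          exact ⟨b, fun _ => ⟨hbP, hbm⟩⟩
        · exact ⟨0, fun h => absurd h hP⟩
      choose b hb using hb
      have hcm : (∏ P ∈ s.erase m, b P) ∉ m := by
        intro h
        rw [Ideal.IsPrime.prod_mem_iff] at h
        obtain ⟨P, hP, hbP⟩ := h
        exact (hb P hP).2 hbP
      have hcP : ∀ P ∈ s.erase m, (∏ P ∈ s.erase m, b P) ∈ P := by
        intro P hP
        obtain ⟨d, hd⟩ := Finset.dvd_prod_of_mem b hP
        rw [hd]; exact P.mul_mem_right _ (hb P hP).1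
      refine ⟨y' + a * (∏ P ∈ s.erase m, b P), I.add_mem hy'I (I.mul_mem_right _ haI),
        fun P hP => ?_⟩
      by_cases hPm : P = m
      · subst hPm
        intro h
        have h2 : a * (∏ P ∈ s.erase P, b P) ∈ P := by
          have : a * (∏ P ∈ s.erase P, b P)
              = (x + (y' + a * (∏ P ∈ s.erase P, b P))) - (x + y') := by ring
          rw [this]; exact P.sub_mem h hxm
        exact (hmprime.mem_or_mem h2).elim ham hcm
      · have hPe : P ∈ s.erase m := Finset.mem_erase.mpr ⟨hPm, hP⟩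
        intro h
        apply hy' P hPe
        have : x + y' = (x + (y' + a * (∏ P ∈ s.erase m, b P)))
            - a * (∏ P ∈ s.erase m, b P) := by ring
        rw [this]; exact P.sub_mem h (P.mul_mem_left _ (hcP P hPe))

/-- Let R be a ring, x ∈ R, I ⊆ R an ideal and p₁, …, p_r prime ideals such that for each i the coset x
+ I is not contained in p_i. Then there is y ∈ I with x + y ∉ p_i for all i. -/
theorem result {R : Type u} [CommRing R] (x : R) (I : Ideal R) {r : ℕ} (p : Fin r → Ideal R) [∀ i, (p i).IsPrime] (h : ∀ i, ∃ y ∈ I, x + y ∉ p i) : ∃ y ∈ I, ∀ i, x + y ∉ p i := by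
  classical
  obtain ⟨y, hyI, hy⟩ := aux x I (Finset.univ.image p) (by
    intro P hP
    obtain ⟨i, _, rfl⟩ := Finset.mem_image.mp hP
    exact ⟨inferInstance, h i⟩)
  exact ⟨y, hyI, fun i => hy (p i) (Finset.mem_image_of_mem p (Finset.mem_univ i))⟩

end Groth.Agent.S6298
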