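import Groth.Statements.S6301
import Mathlib.RingTheory.Flat.EquationalCriterion

set_option autoImplicit false
universe u
open CAlg

namespace Groth.Agent.S6301

/-- An R-module M is flat exactly when, for every finitely presented R-module P and every surjective
R-module map N → M, the induced map Hom_R(P, N) → Hom_R(P, M) is surjective (modules P, N taken in
the same universe). -/
theorem result {R : Type u} [CommRing R] (M : Type u) [AddCommGroup M] [Module R M] : Module.Flat R M ↔ ∀ (P : Type u) [AddCommGroup P] [Module R P], Module.FinitePresentation R P → ∀ (N : Type u) [AddCommGroup N] [Module R N] (g : N →ₗ[R] M), Function.Surjective g → ∀ h : P →ₗ[R] M, ∃ h' : P →ₗ[R] N, g.comp h' = h := by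
  classical
  constructor
  · intro hflat P _ _ hP N _ _ g hg h
    obtain ⟨k, h₂, h₃, rfl⟩ := Module.Flat.exists_factorization_of_finitePresentation h
    obtain ⟨h₃', hh⟩ := Module.projective_lifting_property g h₃ hg
    exact ⟨h₃' ∘ₗ h₂, by rw [← LinearMap.comp_assoc, hh]⟩
  · intro H
    apply Module.Flat.of_forall_exists_factorization
    intro l f x hxf
    -- the finitely presented module
    let K : Submodule R (Fin l →₀ R) := Submodule.span R {f}
    have hK : K.FG := Submodule.fg_span_singleton f
    have hP : Module.FinitePresentation R ((Fin l →₀ R) ⧸ K) :=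
      Module.finitePresentation_of_surjective K.mkQ K.mkQ_surjective (by simpa using hK)
    have hxK : K ≤ LinearMap.ker x := by
      rw [Submodule.span_le]
      rintro _ rfl
      exact hxf
    let xbar : ((Fin l →₀ R) ⧸ K) →ₗ[R] M := K.liftQ x hxK
    let g : (M →₀ R) →ₗ[R] M := Finsupp.linearCombination R id
    have hg : Function.Surjective g := fun m => ⟨Finsupp.single m 1, by simp [g]⟩
    obtain ⟨h', hh'⟩ := H _ hP (M →₀ R) g hg xbar
    let h'' : (Fin l →₀ R) →ₗ[R] (M →₀ R) := h' ∘ₗ K.mkQ
    have hgh : g ∘ₗ h'' = x := by
      rw [← LinearMap.comp_assoc, hh']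
      exact K.liftQ_mkQ x hxK
    let s : Finset M := Finset.univ.biUnion (fun i : Fin l => (h'' (Finsupp.single i 1)).support)
    let e : Fin s.card ≃ s := s.equivFin.symm
    let emb : Fin s.card → M := fun j => (e j : M)
    have hemb : Function.Injective emb := fun a b hab => e.injective (Subtype.ext hab)
    refine ⟨s.card, Finsupp.lcomapDomain emb hemb ∘ₗ h'', Finsupp.linearCombination R emb, ?_, ?_⟩
    · rw [← hgh]
      apply Finsupp.lhom_ext'
      intro i
      apply LinearMap.ext_ring
      simp only [LinearMap.coe_comp, Function.comp_apply, Finsupp.lsingle_apply]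
      set c := h'' (Finsupp.single i 1) with hc
      have hcs : c.support ⊆ s := by
        intro m hm
        exact Finset.mem_biUnion.mpr ⟨i, Finset.mem_univ _, hm⟩
      have h1 : g c = ∑ m ∈ s, c m • m := by
        simp only [g, Finsupp.linearCombination_apply, Finsupp.sum, id]
        apply Finset.sum_subset hcs
        intro m _ hm
        rw [Finsupp.notMem_support_iff.mp hm, zero_smul]
      have h2 : Finsupp.linearCombination R emb (Finsupp.lcomapDomain (R := R) emb hemb c)
          = ∑ j : Fin s.card, c (emb j) • emb j := by
        rw [Finsupp.linearCombination_apply,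
          Finsupp.sum_fintype (Finsupp.lcomapDomain (R := R) emb hemb c) (fun j r => r • emb j)
            (fun j => zero_smul R (emb j))]
        rfl
      rw [h1, h2]
      rw [← Finset.sum_coe_sort s (fun m => c m • m)]
      exact (Equiv.sum_comp e (fun m : s => c (m : M) • (m : M))).symm ▸ rfl
    · simp only [LinearMap.coe_comp, Function.comp_apply, h'']
      have : K.mkQ f = 0 := by
        rw [Submodule.mkQ_apply, Submodule.Quotient.mk_eq_zero]
        exact Submodule.mem_span_singleton_self f
      rw [this, map_zero, map_zero]

end Groth.Agent.S6301
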