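import Groth.Statements.S6303
import Mathlib.RingTheory.Flat.EquationalCriterion
import Mathlib.RingTheory.Ideal.Operations

set_option autoImplicit false
universe u
open CAlg

namespace Groth.Agent.S6303

/-- Let R be a ring, I, J ⊆ R ideals and M a flat R-module. Then IM ∩ JM = (I ∩ J)M. -/
theorem result {R : Type u} [CommRing R] (I J : Ideal R) (M : Type u) [AddCommGroup M] [Module R M] [Module.Flat R M] : (I • (⊤ : Submodule R M)) ⊓ (J • ⊤) = (I ⊓ J) • (⊤ : Submodule R M) := by
  classical
  apply le_antisymm
  · rintro x ⟨hxI, hxJ⟩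
    have hspan : (⊤ : Submodule R M) = Submodule.span R (Set.range (id : M → M)) := by simp
    rw [SetLike.mem_coe, hspan] at hxI hxJ
    obtain ⟨a, haI, hax⟩ := (Submodule.mem_ideal_smul_span_iff_exists_sum I (id : M → M) x).1 hxI
    obtain ⟨b, hbJ, hbx⟩ := (Submodule.mem_ideal_smul_span_iff_exists_sum J (id : M → M) x).1 hxJ
    let f : a.support ⊕ b.support → R := Sum.elim (fun i => a i) (fun j => - b j)
    let v : a.support ⊕ b.support → M := Sum.elim (fun i => (i : M)) (fun j => (j : M))
    have h1 : ∑ i : a.support, a i • (i : M) = x := by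
      rw [← hax, Finsupp.sum]
      exact Finset.sum_coe_sort a.support (fun m => a m • id m)
    have h2 : ∑ j : b.support, b j • (j : M) = x := by
      rw [← hbx, Finsupp.sum]
      exact Finset.sum_coe_sort b.support (fun m => b m • id m)
    have hrel : ∑ s, f s • v s = 0 := by
      rw [Fintype.sum_sum_type]
      simp only [f, v, Sum.elim_inl, Sum.elim_inr, neg_smul, Finset.sum_neg_distrib]
      rw [h1, h2, add_neg_cancel]
    obtain ⟨k, c, y, hvy, hfc⟩ := Module.Flat.isTrivialRelation_of_sum_smul_eq_zero hrel
    -- e_l = Σ_i a_i c_{il}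
    have hx : x = ∑ l, (∑ i : a.support, a i * c (Sum.inl i) l) • y l := by
      rw [← h1]
      have : ∀ i : a.support, a i • (i : M) = ∑ l, (a i * c (Sum.inl i) l) • y l := by
        intro i
        have := hvy (Sum.inl i)
        simp only [v, Sum.elim_inl] at this
        rw [this, Finset.smul_sum]
        exact Finset.sum_congr rfl fun l _ => by rw [mul_smul]
      simp_rw [this]
      rw [Finset.sum_comm]
      exact Finset.sum_congr rfl fun l _ => by rw [Finset.sum_smul]
    rw [hx]
    refine Submodule.sum_mem _ fun l _ => Submodule.smul_mem_smul ⟨?_, ?_⟩ Submodule.mem_top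
    · exact sum_mem fun i _ => Ideal.mul_mem_right _ _ (haI i)
    · have h3 := hfc l
      rw [Fintype.sum_sum_type] at h3
      simp only [f, Sum.elim_inl, Sum.elim_inr, neg_mul, Finset.sum_neg_distrib] at h3
      have h4 : ∑ i : a.support, a i * c (Sum.inl i) l = ∑ j : b.support, b j * c (Sum.inr j) l := by
        rw [← sub_eq_zero, sub_eq_add_neg]; exact h3
      rw [SetLike.mem_coe, h4]
      exact sum_mem fun j _ => Ideal.mul_mem_right _ _ (hbJ j)
  · apply le_inf
    · exact Submodule.smul_mono_left inf_le_left
    · exact Submodule.smul_mono_left inf_le_right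

end Groth.Agent.S6303
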