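import Groth.Statements.S6305
import Groth.Agent.S6304
import Mathlib.RingTheory.LocalRing.Module
import Mathlib.RingTheory.Flat.Basic

set_option autoImplicit false
universe u
open CAlg

namespace Groth.Agent.S6305

/-- An R-module M is flat exactly when every short exact sequence 0 → M₁ → M₂ → M → 0 of R-modules is
universally exact, i.e. its first map M₁ → M₂ is universally injective. -/
theorem result {R : Type u} [CommRing R] (M : Type u) [AddCommGroup M] [Module R M] : Module.Flat R M ↔ ∀ (M₁ M₂ : Type u) [AddCommGroup M₁] [Module R M₁] [AddCommGroup M₂] [Module R M₂] (f : M₁ →ₗ[R] M₂) (g : M₂ →ₗ[R] M), Function.Injective f → Function.Exact f g → Function.Surjective g → CAlgX.UniversallyInjective R f := by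
  constructor
  · intro hM M₁ M₂ _ _ _ _ f g hf hex hg Q _ _
    rw [← LinearMap.lTensor_inj_iff_rTensor_inj]
    exact Groth.Agent.S6304.lTensor_injective_of_flat_quotient f g hex hg hf Q
  · intro H
    let π : (M →₀ R) →ₗ[R] M := Finsupp.linearCombination R id
    have hπ : Function.Surjective π := Finsupp.linearCombination_id_surjective R M
    have hK := H (LinearMap.ker π) (M →₀ R) (LinearMap.ker π).subtype π
      (Submodule.injective_subtype _) (LinearMap.exact_subtype_ker_map π) hπ
    rw [Module.Flat.iff_lTensor_preserves_injective_linearMap]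
    intro P Q _ _ _ _ u hu
    refine lTensor_injective_of_exact_of_exact_of_rTensor_injective
      (M₁ := LinearMap.ker π) (M₂ := M →₀ R) (M₃ := M) (f₁ := (LinearMap.ker π).subtype) (f₂ := π)
      (g₁ := u) (g₂ := (LinearMap.range u).mkQ) (LinearMap.exact_subtype_ker_map π) hπ
      (LinearMap.exact_map_mkQ_range u) (Submodule.mkQ_surjective _) ?_ ?_
    · exact hK (Q ⧸ LinearMap.range u)
    · exact Module.Flat.lTensor_preserves_injective_linearMap u hu

end Groth.Agent.S6305
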