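import Groth.Statements.S6308
import Mathlib.RingTheory.Support
import Mathlib.RingTheory.Spectrum.Prime.Module
import Mathlib.RingTheory.LocalRing.Module

set_option autoImplicit false
universe u
open scoped TensorProduct
open CAlg

namespace Groth.Agent.S6308

section
variable {R : Type u} [CommRing R] {M N : Type u} [AddCommGroup M] [Module R M]
  [AddCommGroup N] [Module R N]

theorem surj_iff (S : Submonoid R) (φ : M →ₗ[R] N) :
    Function.Surjective (LocalizedModule.map S φ) ↔
      ∀ n : N, ∃ s ∈ S, s • n ∈ LinearMap.range φ := by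
  constructor
  · intro h n
    obtain ⟨x, hx⟩ := h (LocalizedModule.mk n 1)
    induction x using LocalizedModule.induction_on with
    | h m t =>
      rw [LocalizedModule.map_mk, LocalizedModule.mk_eq] at hx
      obtain ⟨u, hu⟩ := hx
      have hu' : (u : R) • φ m = (u : R) • (t : R) • n := by
        simpa only [Submonoid.smul_def, OneMemClass.coe_one, one_smul] using hu
      refine ⟨((u * t : S) : R), (u * t).2, ⟨(u : R) • m, ?_⟩⟩
      rw [map_smul, hu', Submonoid.coe_mul, mul_smul]
  · intro h x
    induction x using LocalizedModule.induction_on with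
    | h n t =>
      obtain ⟨s, hs, m, hm⟩ := h n
      refine ⟨LocalizedModule.mk m (⟨s, hs⟩ * t), ?_⟩
      rw [LocalizedModule.map_mk, hm]
      exact LocalizedModule.mk_cancel_common_left ⟨s, hs⟩ t n

theorem surj_iff_support (φ : M →ₗ[R] N) (p : PrimeSpectrum R) :
    Function.Surjective (LocalizedModule.map p.asIdeal.primeCompl φ) ↔
      p ∉ Module.support R (N ⧸ LinearMap.range φ) := by
  rw [surj_iff, Module.notMem_support_iff']
  constructor
  · intro h q
    obtain ⟨n, rfl⟩ := (LinearMap.range φ).mkQ_surjective q
    obtain ⟨s, hs, hsn⟩ := h n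
    refine ⟨s, hs, ?_⟩
    rw [← map_smul, Submodule.mkQ_apply, Submodule.Quotient.mk_eq_zero]
    exact hsn
  · intro h n
    obtain ⟨r, hr, hrn⟩ := h ((LinearMap.range φ).mkQ n)
    refine ⟨r, hr, ?_⟩
    rw [← map_smul, Submodule.mkQ_apply, Submodule.Quotient.mk_eq_zero] at hrn
    exact hrn

theorem part1 [Module.Finite R N] (φ : M →ₗ[R] N) (p : PrimeSpectrum R) :
    Function.Surjective (LocalizedModule.map p.asIdeal.primeCompl φ) ↔
      Function.Surjective (φ.lTensor p.asIdeal.ResidueField) := by
  constructor
  · intro h0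
    have h := (surj_iff _ φ).mp h0
    intro x
    induction x using TensorProduct.induction_on with
    | zero => exact ⟨0, map_zero _⟩
    | tmul k n =>
      obtain ⟨s, hs, m, hm⟩ := h n
      have hs0 : algebraMap R p.asIdeal.ResidueField s ≠ 0 := by
        intro h0
        exact hs (Ideal.algebraMap_residueField_eq_zero.mp h0)
      refine ⟨(k * (algebraMap R p.asIdeal.ResidueField s)⁻¹) ⊗ₜ m, ?_⟩
      rw [LinearMap.lTensor_tmul, hm, TensorProduct.tmul_smul, TensorProduct.smul_tmul',
        Algebra.smul_def, mul_comm k, ← mul_assoc, mul_inv_cancel₀ hs0, one_mul]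
    | add x y hx hy =>
      obtain ⟨a, ha⟩ := hx
      obtain ⟨b, hb⟩ := hy
      exact ⟨a + b, by rw [map_add, ha, hb]⟩
  · intro h
    rw [surj_iff_support]
    have hsub : Subsingleton (p.asIdeal.ResidueField ⊗[R] (N ⧸ LinearMap.range φ)) := by
      suffices hz : ∀ z : p.asIdeal.ResidueField ⊗[R] (N ⧸ LinearMap.range φ), z = 0 from
        ⟨fun x y => by rw [hz x, hz y]⟩
      intro z
      obtain ⟨w, rfl⟩ := LinearMap.lTensor_surjective p.asIdeal.ResidueField
        (LinearMap.range φ).mkQ_surjective z
      obtain ⟨v, rfl⟩ := h w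
      rw [← LinearMap.comp_apply, ← LinearMap.lTensor_comp]
      have hcomp : (LinearMap.range φ).mkQ ∘ₗ φ = 0 := by
        ext m
        simp
      rw [hcomp, LinearMap.lTensor_zero, LinearMap.zero_apply]
    rw [Module.mem_support_iff_nontrivial_residueField_tensorProduct]
    exact not_nontrivial_iff_subsingleton.mpr hsub

end

/-- Let R be a ring and φ : M → N a map of R-modules with N finite. For a prime p, the localization φ_p
: M_p → N_p is surjective if and only if φ ⊗ κ(p) : M ⊗ κ(p) → N ⊗ κ(p) is surjective; the set U of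
such primes is open in Spec(R); and for every f ∈ R with D(f) ⊆ U the map M_f → N_f is surjective. -/
theorem result {R : Type u} [CommRing R] {M N : Type u} [AddCommGroup M] [Module R M] [AddCommGroup N] [Module R N] [Module.Finite R N] (φ : M →ₗ[R] N) : (∀ p : PrimeSpectrum R, Function.Surjective (LocalizedModule.map p.asIdeal.primeCompl φ) ↔ Function.Surjective (φ.lTensor p.asIdeal.ResidueField)) ∧ IsOpen {p : PrimeSpectrum R | Function.Surjective (LocalizedModule.map p.asIdeal.primeCompl φ)} ∧ (∀ f : R, (↑(PrimeSpectrum.basicOpen f) : Set (PrimeSpectrum R)) ⊆ {p : PrimeSpectrum R | Function.Surjective (LocalizedModule.map p.asIdeal.primeCompl φ)} → Function.Surjective (LocalizedModule.map (Submonoid.powers f) φ)) := by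
  refine ⟨part1 φ, ?_, ?_⟩
  · have hset : {p : PrimeSpectrum R | Function.Surjective
        (LocalizedModule.map p.asIdeal.primeCompl φ)} =
        (Module.support R (N ⧸ LinearMap.range φ))ᶜ := by
      ext p
      rw [Set.mem_ofPred_eq, Set.mem_compl_iff, surj_iff_support]
    rw [hset]
    exact Module.isClosed_support.isOpen_compl
  · intro f hf
    rw [surj_iff]
    intro n
    by_contra hcon
    push Not at hcon
    have hdisj : Disjoint
        (((LinearMap.range φ).comap (LinearMap.toSpanSingleton R N n) : Ideal R) : Set R)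
        (Submonoid.powers f) := by
      rw [Set.disjoint_left]
      intro r hrI hrf
      refine hcon r hrf ?_
      have := hrI
      rw [SetLike.mem_coe, Submodule.mem_comap, LinearMap.toSpanSingleton_apply] at this
      exact this
    obtain ⟨q, hq, hIq, hqf⟩ := Ideal.exists_le_prime_disjoint _ (Submonoid.powers f) hdisj
    have hfq : f ∉ q := fun hfq => Set.disjoint_left.mp hqf hfq (Submonoid.mem_powers f)
    have hmem : (⟨q, hq⟩ : PrimeSpectrum R) ∈
        (↑(PrimeSpectrum.basicOpen f) : Set (PrimeSpectrum R)) := by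
      rw [SetLike.mem_coe, PrimeSpectrum.mem_basicOpen]
      exact hfq
    have hqU := hf hmem
    rw [Set.mem_ofPred_eq, surj_iff] at hqU
    obtain ⟨s, hs, hsn⟩ := hqU n
    refine hs (hIq ?_)
    rw [Submodule.mem_comap, LinearMap.toSpanSingleton_apply]
    exact hsn

end Groth.Agent.S6308
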