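import Groth.Statements.S6309
import Groth.Agent.H76.LeftInv
import Mathlib.RingTheory.LocalProperties.Projective
import Mathlib.RingTheory.Localization.Finiteness
import Mathlib.RingTheory.Localization.Module
-- import your own Groth.Agent.* helpers here

set_option autoImplicit false
universe u
open scoped TensorProduct
open CAlg

namespace Groth.Agent.S6309

/-- Let R be a ring and φ : P₁ → P₂ a map of finite projective R-modules. The set U of primes p of R
such that φ ⊗ κ(p) is injective is open, and for every f ∈ R with D(f) ⊆ U the map (P₁)_f → (P₂)_f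
is injective and Coker(φ)_f is a finite projective module over R_f. -/
theorem result {R : Type u} [CommRing R] {P₁ P₂ : Type u} [AddCommGroup P₁] [Module R P₁] [AddCommGroup P₂] [Module R P₂] [Module.Finite R P₁] [Module.Projective R P₁] [Module.Finite R P₂] [Module.Projective R P₂] (φ : P₁ →ₗ[R] P₂) : IsOpen {p : PrimeSpectrum R | Function.Injective (φ.lTensor p.asIdeal.ResidueField)} ∧ ∀ f : R, (↑(PrimeSpectrum.basicOpen f) : Set (PrimeSpectrum R)) ⊆ {p : PrimeSpectrum R | Function.Injective (φ.lTensor p.asIdeal.ResidueField)} → Function.Injective (LocalizedModule.map (Submonoid.powers f) φ) ∧ Module.Finite (Localization.Away f) (LocalizedModule (Submonoid.powers f) (P₂ ⧸ LinearMap.range φ)) ∧ Module.Projective (Localization.Away f) (LocalizedModule (Submonoid.powers f) (P₂ ⧸ LinearMap.range φ)) := by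
  classical
  have hfp : Module.FinitePresentation R P₂ := Module.finitePresentation_of_projective R P₂
  have hS := Groth.Agent.S4530.result φ
  have hset : {p : PrimeSpectrum R | Function.Injective (φ.lTensor p.asIdeal.ResidueField)} =
      {p : PrimeSpectrum R | ∃ w : LocalizedModule p.asIdeal.primeCompl P₂ →ₗ[R]
          LocalizedModule p.asIdeal.primeCompl P₁,
        w ∘ₗ LocalizedModule.map p.asIdeal.primeCompl φ = LinearMap.id} := by
    ext p
    exact ((hS.1 p).out 0 1).symm
  refine ⟨by rw [hset]; exact hS.2, ?_⟩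
  intro f hf
  have hrad : f ∈ (Groth.Agent.H76.factorIdeal φ).radical := by
    rw [Ideal.radical_eq_sInf, Ideal.mem_sInf]
    rintro J ⟨hIJ, hJ⟩
    by_contra hfJ
    have hp : (⟨J, hJ⟩ : PrimeSpectrum R) ∈
        {p : PrimeSpectrum R | Function.Injective (φ.lTensor p.asIdeal.ResidueField)} :=
      hf ((PrimeSpectrum.mem_basicOpen f _).2 hfJ)
    have h1 : Groth.Agent.S4530.LeftInvLoc J.primeCompl φ := ((hS.1 ⟨J, hJ⟩).out 0 1).2 hp
    obtain ⟨v, s, t, hv⟩ := (Groth.Agent.S4530.leftInvLoc_iff_condS J.primeCompl φ).1 h1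
    have hv2 : (t : R) • (v ∘ₗ φ) = (t : R) • ((s : R) • (LinearMap.id : P₁ →ₗ[R] P₁)) := by
      simpa only [Submonoid.smul_def] using hv
    have hmem : (t : R) * (s : R) ∈ Groth.Agent.H76.factorIdeal φ := by
      rw [Groth.Agent.H76.mem_factorIdeal]
      refine ⟨(t : R) • v, ?_⟩
      rw [LinearMap.smul_comp, hv2, mul_smul]
    rcases hJ.mem_or_mem (hIJ hmem) with h2 | h2
    exacts [t.2 h2, s.2 h2]
  obtain ⟨k, hk⟩ := hrad
  obtain ⟨v', hv'⟩ := (Groth.Agent.H76.mem_factorIdeal φ (f ^ k)).1 hk
  have hfk : f ^ k ∈ Submonoid.powers f := ⟨k, rfl⟩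
  refine ⟨?_, inferInstance, ?_⟩
  · have hcond : Groth.Agent.S4530.CondS (Submonoid.powers f) φ := by
      refine ⟨v', ⟨f ^ k, hfk⟩, 1, ?_⟩
      rw [hv']
      rfl
    obtain ⟨w, hw⟩ := (Groth.Agent.S4530.leftInvLoc_iff_condS (Submonoid.powers f) φ).2 hcond
    exact Function.LeftInverse.injective (g := w) (fun x => LinearMap.congr_fun hw x)
  · have he' : LinearMap.range φ ≤ LinearMap.ker ((f ^ k) • LinearMap.id - φ ∘ₗ v') := by
      rintro _ ⟨x, rfl⟩
      rw [LinearMap.mem_ker]
      have h1 : v' (φ x) = f ^ k • x := LinearMap.congr_fun hv' x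
      show (f ^ k) • φ x - φ (v' (φ x)) = 0
      rw [h1, map_smul, sub_self]
    have hσ : ∀ c : P₂ ⧸ LinearMap.range φ,
        (LinearMap.range φ).mkQ ((LinearMap.range φ).liftQ _ he' c) = f ^ k • c := by
      intro c
      obtain ⟨y, rfl⟩ := (LinearMap.range φ).mkQ_surjective c
      have h2 : (LinearMap.range φ).liftQ _ he' ((LinearMap.range φ).mkQ y) =
          f ^ k • y - φ (v' y) := Submodule.liftQ_apply _ _ y
      rw [h2, map_sub, map_smul]
      have h3 : (LinearMap.range φ).mkQ (φ (v' y)) = 0 := by
        rw [Submodule.mkQ_apply, Submodule.Quotient.mk_eq_zero]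
        exact ⟨_, rfl⟩
      rw [h3, sub_zero]
    have H : (LocalizedModule.map (Submonoid.powers f) (LinearMap.range φ).mkQ) ∘ₗ
        ((Localization.mk 1 ⟨f ^ k, hfk⟩ : Localization (Submonoid.powers f)) •
          LocalizedModule.map (Submonoid.powers f) ((LinearMap.range φ).liftQ _ he')) =
        LinearMap.id := by
      refine LinearMap.ext fun x => ?_
      induction x using LocalizedModule.induction_on with
      | h c t =>
        show (LocalizedModule.map (Submonoid.powers f) (LinearMap.range φ).mkQ)
          ((Localization.mk 1 ⟨f ^ k, hfk⟩ : Localization (Submonoid.powers f)) •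
            (LocalizedModule.map (Submonoid.powers f) ((LinearMap.range φ).liftQ _ he')
              (LocalizedModule.mk c t))) = LocalizedModule.mk c t
        rw [LocalizedModule.map_mk, LocalizedModule.mk_smul_mk, LocalizedModule.map_mk, one_smul,
          hσ]
        exact LocalizedModule.mk_cancel_common_left ⟨f ^ k, hfk⟩ t c
    exact Module.Projective.of_split _ _ H

end Groth.Agent.S6309
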