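import Groth.Statements.S6310
import Mathlib.Algebra.Module.LocalizedModule.Submodule
import Mathlib.LinearAlgebra.Matrix.Charpoly.LinearMap
import Mathlib.RingTheory.Ideal.Operations
import Mathlib.RingTheory.Ideal.BigOperators

set_option autoImplicit false
universe u
open CAlg

namespace Groth.Agent.S6310

/-- Let R be a ring, S ⊆ R a multiplicative subset, I ⊆ R an ideal and M a finite R-module. If x₁, …,
x_r ∈ M have images generating S⁻¹(M/IM) as an S⁻¹R-module, then there is f ∈ S + I (f = s + i with
s ∈ S, i ∈ I) such that x₁, …, x_r generate M_f as an R_f-module. -/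
theorem result {R : Type u} [CommRing R] (S : Submonoid R) (I : Ideal R) (M : Type u) [AddCommGroup M] [Module R M] [Module.Finite R M] {r : ℕ} (x : Fin r → M) (hx : Submodule.span (Localization S) (Set.range fun j => LocalizedModule.mkLinearMap S (M ⧸ (I • (⊤ : Submodule R M))) (Submodule.Quotient.mk (x j))) = ⊤) : ∃ (s : R) (i : R), s ∈ S ∧ i ∈ I ∧ Submodule.span (Localization.Away (s + i)) (Set.range fun j => LocalizedModule.mkLinearMap (Submonoid.powers (s + i)) M (x j)) = ⊤ := by
  classical
  set N : Submodule R M := Submodule.span R (Set.range x) with hN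
  -- final step, for any f killing M/N
  have key : ∀ f : R, (∀ m : M, f • m ∈ N) →
      Submodule.span (Localization.Away f) (Set.range fun j =>
        LocalizedModule.mkLinearMap (Submonoid.powers f) M (x j)) = ⊤ := by
    intro f hf
    have hrange : (Set.range fun j => LocalizedModule.mkLinearMap (Submonoid.powers f) M (x j)) =
        (LocalizedModule.mkLinearMap (Submonoid.powers f) M) '' Set.range x := by
      rw [← Set.range_comp]
      rfl
    rw [hrange, ← Submodule.localized'_span (Localization.Away f) (Submonoid.powers f)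
      (LocalizedModule.mkLinearMap (Submonoid.powers f) M) (Set.range x), eq_top_iff]
    intro y _
    induction y using LocalizedModule.induction_on with
    | h m t =>
      rw [Submodule.mem_localized']
      refine ⟨f • m, hf m, ⟨f, Submonoid.mem_powers f⟩ * t, ?_⟩
      rw [IsLocalizedModule.mk_eq_mk']
      exact IsLocalizedModule.mk'_cancel_left _ m ⟨f, Submonoid.mem_powers f⟩ t
  -- Step 1
  have hloc : (Submodule.span R (Set.range fun j =>
      (Submodule.Quotient.mk (x j) : M ⧸ (I • (⊤ : Submodule R M))))).localized'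
      (Localization S) S (LocalizedModule.mkLinearMap S (M ⧸ (I • (⊤ : Submodule R M)))) = ⊤ := by
    rw [Submodule.localized'_span, ← Set.range_comp]
    exact hx
  have hspan : Submodule.span R (Set.range fun j =>
      (Submodule.Quotient.mk (x j) : M ⧸ (I • (⊤ : Submodule R M)))) =
      N.map (I • (⊤ : Submodule R M)).mkQ := by
    rw [hN, Submodule.map_span, ← Set.range_comp]
    rfl
  have h1 : ∀ m : M, ∃ s ∈ S, s • m ∈ N ⊔ I • (⊤ : Submodule R M) := by
    intro m
    have hm : LocalizedModule.mkLinearMap S (M ⧸ (I • (⊤ : Submodule R M)))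
        (Submodule.Quotient.mk m) ∈ (⊤ : Submodule (Localization S) _) := Submodule.mem_top
    rw [← hloc, Submodule.mem_localized'] at hm
    obtain ⟨n, hn, t, hnt⟩ := hm
    rw [IsLocalizedModule.mk'_eq_iff, Submonoid.smul_def, ← map_smul] at hnt
    obtain ⟨c, hc⟩ := (IsLocalizedModule.eq_iff_exists S _).mp hnt
    have hc' : (c : R) • n = (c : R) • (t : R) •
        (Submodule.Quotient.mk m : M ⧸ (I • (⊤ : Submodule R M))) := by
      simpa only [Submonoid.smul_def] using hc
    refine ⟨((c * t : S) : R), (c * t).2, ?_⟩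
    have hmem : (I • (⊤ : Submodule R M)).mkQ (((c * t : S) : R) • m) ∈
        N.map (I • (⊤ : Submodule R M)).mkQ := by
      rw [← hspan, map_smul, Submodule.mkQ_apply, Submonoid.coe_mul, mul_smul, ← hc']
      exact Submodule.smul_mem _ _ hn
    have h2 := Submodule.mem_comap.mpr hmem
    rw [Submodule.comap_map_mkQ] at h2
    rw [sup_comm]
    exact h2
  obtain ⟨s, hsS, hs⟩ : ∃ s ∈ S, ∀ m : M, s • m ∈ N ⊔ I • (⊤ : Submodule R M) := by
    obtain ⟨G, hG⟩ := (Module.Finite.fg_top : (⊤ : Submodule R M).FG)
    choose sf hsfS hsf using h1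
    refine ⟨∏ g ∈ G, sf g, Submonoid.prod_mem S (fun g _ => hsfS g), ?_⟩
    intro m
    have hm : m ∈ Submodule.span R (G : Set M) := by
      rw [hG]
      trivial
    refine Submodule.span_induction
      (p := fun m _ => (∏ g ∈ G, sf g) • m ∈ N ⊔ I • (⊤ : Submodule R M)) ?_ ?_ ?_ ?_ hm
    · intro g hg
      have hprod : (∏ g' ∈ G, sf g') = (∏ g' ∈ G.erase g, sf g') * sf g :=
        (Finset.prod_erase_mul G sf hg).symm
      rw [hprod, mul_smul]
      exact Submodule.smul_mem _ _ (hsf g)
    · rw [smul_zero]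
      exact zero_mem _
    · intro a b _ _ ha hb
      rw [smul_add]
      exact add_mem ha hb
    · intro c a _ ha
      rw [smul_comm]
      exact Submodule.smul_mem _ _ ha
  -- Step 2: Cayley–Hamilton on M ⧸ N
  have hφ : LinearMap.range (algebraMap R (Module.End R (M ⧸ N)) s) ≤
      I • (⊤ : Submodule R (M ⧸ N)) := by
    rintro _ ⟨m', rfl⟩
    obtain ⟨m, rfl⟩ := N.mkQ_surjective m'
    rw [Module.algebraMap_end_apply, ← map_smul]
    obtain ⟨n, hn, y, hy, hny⟩ := Submodule.mem_sup.mp (hs m)
    rw [← hny, map_add, Submodule.mkQ_apply, Submodule.mkQ_apply,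
      (Submodule.Quotient.mk_eq_zero N).mpr hn, zero_add]
    have hy' : (Submodule.Quotient.mk y : M ⧸ N) ∈ (I • (⊤ : Submodule R M)).map N.mkQ :=
      Submodule.mem_map_of_mem hy
    rw [Submodule.map_smul''] at hy'
    exact Submodule.smul_mono le_rfl le_top hy'
  obtain ⟨p, hpm, -, hpc, hp0⟩ :=
    LinearMap.exists_monic_and_natDegree_eq_and_coeff_mem_pow_and_aeval_eq_zero R
      (algebraMap R (Module.End R (M ⧸ N)) s) I hφ
  have hkill : ∀ m : M, (p.eval s) • m ∈ N := by
    intro m
    have h0 : Polynomial.aeval (algebraMap R (Module.End R (M ⧸ N)) s) p (N.mkQ m) = 0 := by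
      rw [hp0]
      rfl
    rw [Polynomial.aeval_algebraMap_apply_eq_algebraMap_eval,
      Module.algebraMap_end_apply, ← map_smul, Submodule.mkQ_apply,
      Submodule.Quotient.mk_eq_zero] at h0
    exact h0
  have hsum : p.eval s = (∑ k ∈ Finset.range p.natDegree, p.coeff k * s ^ k) + s ^ p.natDegree := by
    rw [Polynomial.eval_eq_sum_range, Finset.sum_range_succ, hpm.coeff_natDegree, one_mul]
  have hi : (∑ k ∈ Finset.range p.natDegree, p.coeff k * s ^ k) ∈ I := by
    refine Ideal.sum_mem _ fun k hk => Ideal.mul_mem_right _ _ ?_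
    have hk' : p.natDegree - k ≠ 0 := by
      have := Finset.mem_range.mp hk
      omega
    exact Ideal.pow_le_self hk' (hpc k)
  refine ⟨s ^ p.natDegree, ∑ k ∈ Finset.range p.natDegree, p.coeff k * s ^ k,
    pow_mem hsS _, hi, key _ ?_⟩
  intro m
  rw [add_comm, ← hsum]
  exact hkill m

end Groth.Agent.S6310
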