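import Groth.Statements.S6321
import Mathlib.RingTheory.Flat.Tensor
import Mathlib.RingTheory.RingHom.FaithfullyFlat
import Mathlib.Algebra.Colimit.Ring

set_option autoImplicit false
universe u
open CAlg
open scoped TensorProduct

namespace Groth.Agent.S6321

/-- Let R be a ring and (Sᵢ, φᵢⱼ) a directed system of faithfully flat R-algebras whose transition maps
are R-algebra maps. Then S = colim Sᵢ is a faithfully flat R-algebra: for any index i the composite
R → Sᵢ → S is faithfully flat. -/
theorem result {R : Type u} [CommRing R] {ι : Type u} [Preorder ι] [Nonempty ι] [IsDirected ι (· ≤ ·)] (G : ι → Type u) [∀ i, CommRing (G i)] [∀ i, Algebra R (G i)] (f : ∀ i j, i ≤ j → G i →+* G j) [DirectedSystem G fun i j h => f i j h] (hcompat : ∀ i j (h : i ≤ j), (f i j h).comp (algebraMap R (G i)) = algebraMap R (G j)) (hff : ∀ i, (algebraMap R (G i)).FaithfullyFlat) (i : ι) : ((Ring.DirectLimit.of G (fun i j h => f i j h) i).comp (algebraMap R (G i))).FaithfullyFlat := by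
  classical
  letI alg : Algebra R (Ring.DirectLimit G fun i j h => f i j h) :=
    ((Ring.DirectLimit.of G (fun i j h => f i j h) i).comp (algebraMap R (G i))).toAlgebra
  show Module.FaithfullyFlat R (Ring.DirectLimit G fun i j h => f i j h)
  have hffM : ∀ j, Module.FaithfullyFlat R (G j) :=
    fun j => RingHom.faithfullyFlat_algebraMap_iff.mp (hff j)
  have hcompat' : ∀ j k (h : j ≤ k) (r : R),
      f j k h (algebraMap R (G j) r) = algebraMap R (G k) r := fun j k h r => by
    rw [← hcompat j k h]
    rfl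
  have hoff : ∀ j k (h : j ≤ k) (x : G j),
      Ring.DirectLimit.of G (fun i j h => f i j h) k (f j k h x) =
        Ring.DirectLimit.of G (fun i j h => f i j h) j x :=
    fun j k h x => Ring.DirectLimit.of_f (G := G) (f := fun i j h => f i j h) h x
  have hof : ∀ j (r : R), Ring.DirectLimit.of G (fun i j h => f i j h) j (algebraMap R (G j) r) =
      algebraMap R (Ring.DirectLimit G fun i j h => f i j h) r := by
    intro j r
    obtain ⟨k, hik, hjk⟩ := exists_ge_ge i j
    have e1 : Ring.DirectLimit.of G (fun i j h => f i j h) j (algebraMap R (G j) r) =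
        Ring.DirectLimit.of G (fun i j h => f i j h) k (algebraMap R (G k) r) := by
      rw [← hcompat' j k hjk r, hoff]
    have e2 : Ring.DirectLimit.of G (fun i j h => f i j h) i (algebraMap R (G i) r) =
        Ring.DirectLimit.of G (fun i j h => f i j h) k (algebraMap R (G k) r) := by
      rw [← hcompat' i k hik r, hoff]
    rw [e1, ← e2]
    rfl
  let ofL : ∀ j, G j →ₗ[R] (Ring.DirectLimit G fun i j h => f i j h) := fun j =>
    { toFun := Ring.DirectLimit.of G (fun i j h => f i j h) j
      map_add' := map_add _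
      map_smul' := fun r x => by
        rw [Algebra.smul_def, map_mul, hof, RingHom.id_apply, Algebra.smul_def] }
  let fL : ∀ j k (_ : j ≤ k), G j →ₗ[R] G k := fun j k h =>
    { toFun := f j k h
      map_add' := map_add _
      map_smul' := fun r x => by
        rw [Algebra.smul_def, map_mul, hcompat', RingHom.id_apply, Algebra.smul_def] }
  have hofL : ∀ j x, ofL j x = Ring.DirectLimit.of G (fun i j h => f i j h) j x := fun j x => rfl
  have hfL : ∀ j k h x, fL j k h x = f j k h x := fun _ _ _ _ => rfl
  have hcomp : ∀ j k (h : j ≤ k), (ofL k) ∘ₗ (fL j k h) = ofL j := by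
    intro j k h
    ext x
    exact hoff j k h x
  have hmapf : ∀ (m : Ideal R) j k (h : j ≤ k) g, g ∈ Ideal.map (algebraMap R (G j)) m →
      f j k h g ∈ Ideal.map (algebraMap R (G k)) m := by
    intro m j k h g hg
    have := Ideal.mem_map_of_mem (f j k h) hg
    rwa [Ideal.map_map, hcompat j k h] at this
  have liftA : ∀ (I : Ideal R) (x : I ⊗[R] (Ring.DirectLimit G fun i j h => f i j h)),
      ∃ j, ∃ y : I ⊗[R] G j, (ofL j).lTensor I y = x := by
    intro I x
    induction x using TensorProduct.induction_on with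
    | zero => exact ⟨i, 0, map_zero _⟩
    | tmul a s =>
      obtain ⟨j, g, rfl⟩ := Ring.DirectLimit.exists_of s
      exact ⟨j, a ⊗ₜ g, rfl⟩
    | add x₁ x₂ h₁ h₂ =>
      obtain ⟨j₁, y₁, rfl⟩ := h₁
      obtain ⟨j₂, y₂, rfl⟩ := h₂
      obtain ⟨k, h1k, h2k⟩ := exists_ge_ge j₁ j₂
      refine ⟨k, (fL j₁ k h1k).lTensor I y₁ + (fL j₂ k h2k).lTensor I y₂, ?_⟩
      rw [map_add, ← LinearMap.comp_apply, ← LinearMap.comp_apply, ← LinearMap.lTensor_comp,
        ← LinearMap.lTensor_comp, hcomp, hcomp]
  have hflat : Module.Flat R (Ring.DirectLimit G fun i j h => f i j h) := by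
    rw [Module.Flat.iff_lift_lsmul_comp_subtype_injective]
    intro I hI
    rw [injective_iff_map_eq_zero]
    intro x hx
    obtain ⟨j, y, rfl⟩ := liftA I x
    have nat : ∀ (j : ι) (y : I ⊗[R] G j),
        TensorProduct.lift ((LinearMap.lsmul R (Ring.DirectLimit G fun i j h => f i j h)).comp
          I.subtype) ((ofL j).lTensor I y) =
        ofL j (TensorProduct.lift ((LinearMap.lsmul R (G j)).comp I.subtype) y) := by
      intro j y
      induction y using TensorProduct.induction_on with
      | zero => simp only [map_zero]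
      | tmul a g =>
        rw [LinearMap.lTensor_tmul, TensorProduct.lift.tmul, TensorProduct.lift.tmul]
        simp only [LinearMap.comp_apply, Submodule.subtype_apply, LinearMap.lsmul_apply, map_smul]
      | add y₁ y₂ h₁ h₂ => rw [map_add, map_add, h₁, h₂, map_add, map_add]
    have nat' : ∀ (j k : ι) (h : j ≤ k) (y : I ⊗[R] G j),
        TensorProduct.lift ((LinearMap.lsmul R (G k)).comp I.subtype) ((fL j k h).lTensor I y) =
        fL j k h (TensorProduct.lift ((LinearMap.lsmul R (G j)).comp I.subtype) y) := by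
      intro j k h y
      induction y using TensorProduct.induction_on with
      | zero => simp only [map_zero]
      | tmul a g =>
        rw [LinearMap.lTensor_tmul, TensorProduct.lift.tmul, TensorProduct.lift.tmul]
        simp only [LinearMap.comp_apply, Submodule.subtype_apply, LinearMap.lsmul_apply, map_smul]
      | add y₁ y₂ h₁ h₂ => rw [map_add, map_add, h₁, h₂, map_add, map_add]
    rw [nat, hofL] at hx
    obtain ⟨k, hjk, hk⟩ := Ring.DirectLimit.of.zero_exact hx
    have hy' : (fL j k hjk).lTensor I y = 0 := by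
      have hinj := Module.Flat.iff_lift_lsmul_comp_subtype_injective.mp (hffM k).toFlat hI
      apply hinj
      rw [nat', map_zero, hfL]
      exact hk
    rw [← hcomp j k hjk, LinearMap.lTensor_comp, LinearMap.comp_apply, hy', map_zero]
  have liftB : ∀ (m : Ideal R) (x : Ring.DirectLimit G fun i j h => f i j h),
      x ∈ Ideal.map (algebraMap R (Ring.DirectLimit G fun i j h => f i j h)) m →
      ∃ j, ∃ g ∈ Ideal.map (algebraMap R (G j)) m,
        Ring.DirectLimit.of G (fun i j h => f i j h) j g = x := by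
    intro m x hx
    have hx' : x ∈ Submodule.span (Ring.DirectLimit G fun i j h => f i j h)
        ((algebraMap R (Ring.DirectLimit G fun i j h => f i j h)) '' (m : Set R)) := hx
    refine Submodule.span_induction (p := fun x _ => ∃ j, ∃ g ∈ Ideal.map (algebraMap R (G j)) m,
      Ring.DirectLimit.of G (fun i j h => f i j h) j g = x) ?_ ?_ ?_ ?_ hx'
    · rintro _ ⟨a, ha, rfl⟩
      exact ⟨i, algebraMap R (G i) a, Ideal.mem_map_of_mem _ ha, hof i a⟩
    · exact ⟨i, 0, zero_mem _, map_zero _⟩
    · rintro _ _ _ _ ⟨j₁, g₁, hg₁, rfl⟩ ⟨j₂, g₂, hg₂, rfl⟩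
      obtain ⟨k, h1k, h2k⟩ := exists_ge_ge j₁ j₂
      refine ⟨k, f j₁ k h1k g₁ + f j₂ k h2k g₂,
        add_mem (hmapf m _ _ _ _ hg₁) (hmapf m _ _ _ _ hg₂), ?_⟩
      rw [map_add, hoff, hoff]
    · rintro s _ _ ⟨j, g, hg, rfl⟩
      obtain ⟨j', g', rfl⟩ := Ring.DirectLimit.exists_of s
      obtain ⟨k, h1k, h2k⟩ := exists_ge_ge j' j
      refine ⟨k, f j' k h1k g' * f j k h2k g, Ideal.mul_mem_left _ _ (hmapf m _ _ _ _ hg), ?_⟩
      rw [map_mul, hoff, hoff, smul_eq_mul]
  refine { toFlat := hflat, submodule_ne_top := fun m hm htop => ?_ }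
  rw [Ideal.smul_top_eq_map, Submodule.restrictScalars_eq_top_iff, Ideal.eq_top_iff_one] at htop
  obtain ⟨j, g, hg, hg1⟩ := liftB m 1 htop
  have h0 : Ring.DirectLimit.of G (fun i j h => f i j h) j (1 - g) = 0 := by
    rw [map_sub, map_one, hg1, sub_self]
  obtain ⟨k, hjk, hk⟩ := Ring.DirectLimit.of.zero_exact h0
  rw [map_sub, map_one, sub_eq_zero] at hk
  have h1 : (1 : G k) ∈ Ideal.map (algebraMap R (G k)) m := by
    rw [hk]
    exact hmapf m _ _ _ _ hg
  refine (hffM k).submodule_ne_top hm ?_
  rw [Ideal.smul_top_eq_map, Submodule.restrictScalars_eq_top_iff, Ideal.eq_top_iff_one]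
  exact h1

end Groth.Agent.S6321
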