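import Groth.Statements.S6322
import Mathlib

set_option autoImplicit false
set_option linter.style.haveILetI false
set_option linter.unusedSectionVars false
universe u
open CategoryTheory
open CAlg

namespace Groth.Agent.S6322

section Generic

open CategoryTheory Category Limits ChainComplex HomologicalComplex

universe v' u'
variable {C : Type u'} [Category.{v'} C] [Abelian C]

section Res
variable {Z : C} (Q : ChainComplex C ℕ) (π : Q ⟶ (ChainComplex.single₀ C).obj Z)

theorem d_comp_π_f_zero : Q.d 1 0 ≫ π.f 0 = 0 := by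
  rw [← π.comm 1 0, single_obj_d, comp_zero]

variable [QuasiIso π]

include π in
theorem exactAt_succ' (n : ℕ) : Q.ExactAt (n + 1) := by
  rw [← quasiIsoAt_iff_exactAt' π (n + 1) (exactAt_succ_single_obj _ _)]
  infer_instance

include π in
theorem exact_succ' (n : ℕ) :
    (ShortComplex.mk _ _ (Q.d_comp_d (n + 2) (n + 1) n)).Exact :=
  ((HomologicalComplex.exactAt_iff' _ (n + 2) (n + 1) n) (by simp only [ChainComplex.prev]; rfl)
    (by simp)).1 (exactAt_succ' Q π n)

set_option backward.isDefEq.respectTransparency.types false in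
set_option backward.defeqAttrib.useBackward true in
noncomputable def isColimitCokernelCofork' :
    IsColimit (CokernelCofork.ofπ _ (d_comp_π_f_zero Q π)) := by
  refine IsColimit.ofIsoColimit (Q.opcyclesIsCokernel 1 0 (by simp)) ?_
  refine Cofork.ext (Q.isoHomologyι₀.symm ≪≫ isoOfQuasiIsoAt π 0 ≪≫
    singleObjHomologySelfIso _ _ _) ?_
  rw [← cancel_mono (singleObjHomologySelfIso (ComplexShape.down ℕ) 0 _).inv,
    ← cancel_mono (isoHomologyι₀ _).hom]
  dsimp
  simp only [isoHomologyι₀_inv_naturality_assoc, p_opcyclesMap_assoc, single₀_obj_zero, assoc,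
    Iso.hom_inv_id, comp_id, isoHomologyι_inv_hom_id, singleObjHomologySelfIso_inv_homologyι,
    singleObjOpcyclesSelfIso_hom, single₀ObjXSelf, Iso.refl_inv, id_comp]

theorem exact₀' : (ShortComplex.mk _ _ (d_comp_π_f_zero Q π)).Exact :=
  ShortComplex.exact_of_g_is_cokernel _ (isColimitCokernelCofork' Q π)

set_option backward.isDefEq.respectTransparency false in
theorem epi_π_f_zero : Epi (π.f 0) :=
  epi_of_isColimit_cofork (isColimitCokernelCofork' Q π)

end Res

section Lift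
variable {Y Z : C} (f : Y ⟶ Z) (F Q : ChainComplex C ℕ) [∀ n, Projective (F.X n)]
  (εF : F ⟶ (ChainComplex.single₀ C).obj Y) (π : Q ⟶ (ChainComplex.single₀ C).obj Z)
  [QuasiIso π]

theorem exists_lift : ∃ φ : F ⟶ Q, φ ≫ π = εF ≫ (ChainComplex.single₀ C).map f := by
  haveI : Epi (π.f 0) := epi_π_f_zero Q π
  let φ0 : F.X 0 ⟶ Q.X 0 :=
    Projective.factorThru (εF.f 0 ≫ ((ChainComplex.single₀ C).map f).f 0) (π.f 0)
  have hφ0 : φ0 ≫ π.f 0 = εF.f 0 ≫ ((ChainComplex.single₀ C).map f).f 0 :=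
    Projective.factorThru_comp _ _
  have h1 : (F.d 1 0 ≫ φ0) ≫ π.f 0 = 0 := by
    rw [assoc, hφ0, ← assoc, d_comp_π_f_zero F εF, zero_comp]
  let φ1 : F.X 1 ⟶ Q.X 1 := (exact₀' Q π).liftFromProjective (F.d 1 0 ≫ φ0) h1
  have hφ1 : φ1 ≫ Q.d 1 0 = F.d 1 0 ≫ φ0 := (exact₀' Q π).liftFromProjective_comp _ _
  let φ : F ⟶ Q := ChainComplex.mkHom F Q φ0 φ1 hφ1 fun n p =>
    ⟨(exact_succ' Q π n).liftFromProjective (F.d (n + 2) (n + 1) ≫ p.2.1) (by simp [p.2.2]),
      (exact_succ' Q π n).liftFromProjective_comp _ _⟩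
  refine ⟨φ, ?_⟩
  apply HomologicalComplex.to_single_hom_ext
  rw [HomologicalComplex.comp_f, HomologicalComplex.comp_f]
  exact hφ0

end Lift

section Homot
variable {Z : C} {F Q : ChainComplex C ℕ} [∀ n, Projective (F.X n)]
  (π : Q ⟶ (ChainComplex.single₀ C).obj Z) [QuasiIso π]

noncomputable def hZeroZero (e : F ⟶ Q) (comm : e ≫ π = 0) : F.X 0 ⟶ Q.X 1 :=
  (exact₀' Q π).liftFromProjective (e.f 0)
    (congr_fun (congr_arg HomologicalComplex.Hom.f comm) 0)

theorem hZeroZero_comp (e : F ⟶ Q) (comm : e ≫ π = 0) :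
    hZeroZero π e comm ≫ Q.d 1 0 = e.f 0 :=
  (exact₀' Q π).liftFromProjective_comp _ _

noncomputable def hZeroOne (e : F ⟶ Q) (comm : e ≫ π = 0) : F.X 1 ⟶ Q.X 2 :=
  (exact_succ' Q π 0).liftFromProjective (e.f 1 - F.d 1 0 ≫ hZeroZero π e comm)
    (by rw [Preadditive.sub_comp, assoc, HomologicalComplex.Hom.comm,
              hZeroZero_comp, sub_self])

theorem hZeroOne_comp (e : F ⟶ Q) (comm : e ≫ π = 0) :
    hZeroOne π e comm ≫ Q.d 2 1 = e.f 1 - F.d 1 0 ≫ hZeroZero π e comm :=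
  (exact_succ' Q π 0).liftFromProjective_comp _ _

noncomputable def hZeroSucc (e : F ⟶ Q) (n : ℕ) (g : F.X n ⟶ Q.X (n + 1))
    (g' : F.X (n + 1) ⟶ Q.X (n + 2))
    (w : e.f (n + 1) = F.d (n + 1) n ≫ g + g' ≫ Q.d (n + 2) (n + 1)) :
    F.X (n + 2) ⟶ Q.X (n + 3) :=
  (exact_succ' Q π (n + 1)).liftFromProjective (e.f (n + 2) - F.d _ _ ≫ g') (by simp [w])

theorem hZeroSucc_comp (e : F ⟶ Q) (n : ℕ) (g : F.X n ⟶ Q.X (n + 1))
    (g' : F.X (n + 1) ⟶ Q.X (n + 2))
    (w : e.f (n + 1) = F.d (n + 1) n ≫ g + g' ≫ Q.d (n + 2) (n + 1)) :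
    hZeroSucc π e n g g' w ≫ Q.d (n + 3) (n + 2) = e.f (n + 2) - F.d _ _ ≫ g' :=
  (exact_succ' Q π (n + 1)).liftFromProjective_comp _ _

noncomputable def homotopyZero (e : F ⟶ Q) (comm : e ≫ π = 0) : Homotopy e 0 :=
  Homotopy.mkInductive _ (hZeroZero π e comm) (by rw [hZeroZero_comp])
    (hZeroOne π e comm) (by rw [hZeroOne_comp, add_sub_cancel]) fun n ⟨g, g', w⟩ =>
    ⟨hZeroSucc π e n g g' w, by rw [hZeroSucc_comp, add_sub_cancel]⟩

theorem nonempty_homotopy {Y : C} (f : Y ⟶ Z) (εF : F ⟶ (ChainComplex.single₀ C).obj Y)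
    (α β : F ⟶ Q) (hα : α ≫ π = εF ≫ (ChainComplex.single₀ C).map f)
    (hβ : β ≫ π = εF ≫ (ChainComplex.single₀ C).map f) : Nonempty (Homotopy α β) :=
  ⟨Homotopy.equivSubZero.invFun
    (homotopyZero π (α - β) (by rw [Preadditive.sub_comp, hα, hβ, sub_self]))⟩

end Homot

end Generic


/-- Let R be a ring, M → N a map of R-modules, N• → N a resolution (a chain complex with a
quasi-isomorphism onto N placed in degree 0) and … → F₁ → F₀ → M a complex with every Fᵢ free (F• a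
chain complex with an augmentation to M in degree 0, exactness not required). Then (1) there is a
map of complexes F• → N• compatible with M → N through the augmentations, and (2) any two such maps
are homotopic. -/
theorem result (R : Type u) [CommRing R] (M N : ModuleCat.{u} R) (g : M ⟶ N) (F Nc : ChainComplex (ModuleCat.{u} R) ℕ) (hF : ∀ i, Module.Free R (F.X i)) (εF : F ⟶ (ChainComplex.single₀ (ModuleCat.{u} R)).obj M) (εN : Nc ⟶ (ChainComplex.single₀ (ModuleCat.{u} R)).obj N) [QuasiIso εN] : (∃ φ : F ⟶ Nc, φ ≫ εN = εF ≫ (ChainComplex.single₀ (ModuleCat.{u} R)).map g) ∧ ∀ α β : F ⟶ Nc, α ≫ εN = εF ≫ (ChainComplex.single₀ (ModuleCat.{u} R)).map g → β ≫ εN = εF ≫ (ChainComplex.single₀ (ModuleCat.{u} R)).map g → Nonempty (Homotopy α β) := by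
  haveI : ∀ n, CategoryTheory.Projective (F.X n) := fun n => by
    haveI := hF n
    exact ModuleCat.projective_of_categoryTheory_projective (F.X n)
  exact ⟨exists_lift g F Nc εF εN, fun α β hα hβ => nonempty_homotopy εN g εF α β hα hβ⟩

end Groth.Agent.S6322
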