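import Groth.Statements.S6323
import Mathlib.RingTheory.Localization.BaseChange

set_option autoImplicit false
universe u
open CAlg
open scoped TensorProduct

namespace Groth.Agent.S6323

/-- Let A → B be a ring homomorphism and S ⊆ A, S' ⊆ B multiplicative subsets with S carried into S', so
that there is an induced homomorphism S⁻¹A → (S')⁻¹B. For a linear map f : M → M' between
(S')⁻¹B-modules, f is universally injective over A (scalars restricted along A → (S')⁻¹B) precisely
when it is universally injective over S⁻¹A (scalars restricted along S⁻¹A → (S')⁻¹B). -/
theorem result {A B : Type u} [CommRing A] [CommRing B] [Algebra A B] (S : Submonoid A) (S' : Submonoid B) (hSS' : ∀ s ∈ S, algebraMap A B s ∈ S') (As Bs : Type u) [CommRing As] [CommRing Bs] [Algebra A As] [IsLocalization S As] [Algebra B Bs] [IsLocalization S' Bs] [Algebra As Bs] [Algebra A Bs] [IsScalarTower A B Bs] [IsScalarTower A As Bs] {M M' : Type u} [AddCommGroup M] [AddCommGroup M'] [Module Bs M] [Module Bs M'] [Module As M] [Module As M'] [Module A M] [Module A M'] [IsScalarTower As Bs M] [IsScalarTower As Bs M'] [IsScalarTower A As M] [IsScalarTower A As M'] [IsScalarTower A Bs M] [IsScalarTower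 A Bs M'] (f : M →ₗ[Bs] M') : CAlgX.UniversallyInjective A (f.restrictScalars A) ↔ CAlgX.UniversallyInjective As (f.restrictScalars As) := by
  constructor
  · intro h Q' _ _
    letI : Module A Q' := Module.compHom Q' (algebraMap A As)
    haveI : IsScalarTower A As Q' := IsScalarTower.of_algebraMap_smul fun r x => rfl
    have hsq : ∀ z : M ⊗[As] Q',
        IsLocalization.moduleTensorEquiv S As M' Q' (((f.restrictScalars As).rTensor Q') z) =
          ((f.restrictScalars A).rTensor Q') (IsLocalization.moduleTensorEquiv S As M Q' z) := by
      intro z
      induction z using TensorProduct.induction_on with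
      | zero => simp only [map_zero]
      | tmul m q => rfl
      | add x y hx hy => rw [map_add, map_add, hx, hy, map_add, map_add]
    intro x y hxy
    apply (IsLocalization.moduleTensorEquiv S As M Q').injective
    apply h Q'
    rw [← hsq, ← hsq, hxy]
  · intro h Q _ _
    have hsq : ∀ z : M ⊗[As] (As ⊗[A] Q),
        TensorProduct.AlgebraTensorModule.cancelBaseChange A As As M' Q
            (((f.restrictScalars As).rTensor (As ⊗[A] Q)) z) =
          ((f.restrictScalars A).rTensor Q)
            (TensorProduct.AlgebraTensorModule.cancelBaseChange A As As M Q z) := by
      intro z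
      induction z using TensorProduct.induction_on with
      | zero => simp only [map_zero]
      | tmul m y =>
        induction y using TensorProduct.induction_on with
        | zero => simp only [TensorProduct.tmul_zero, map_zero]
        | tmul a q =>
          have key : (f.restrictScalars A) (a • m) = a • (f.restrictScalars As) m :=
            (f.restrictScalars As).map_smul a m
          rw [LinearMap.rTensor_tmul,
            TensorProduct.AlgebraTensorModule.cancelBaseChange_tmul,
            TensorProduct.AlgebraTensorModule.cancelBaseChange_tmul, LinearMap.rTensor_tmul, key]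
        | add y₁ y₂ h₁ h₂ =>
          rw [TensorProduct.tmul_add, map_add, map_add, map_add, map_add, h₁, h₂]
      | add x y hx hy => rw [map_add, map_add, hx, hy, map_add, map_add]
    intro x y hxy
    obtain ⟨x', rfl⟩ :=
      (TensorProduct.AlgebraTensorModule.cancelBaseChange A As As M Q).surjective x
    obtain ⟨y', rfl⟩ :=
      (TensorProduct.AlgebraTensorModule.cancelBaseChange A As As M Q).surjective y
    rw [← hsq, ← hsq] at hxy
    rw [h (As ⊗[A] Q)
      ((TensorProduct.AlgebraTensorModule.cancelBaseChange A As As M' Q).injective hxy)]

end Groth.Agent.S6323
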