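import Groth.Statements.S6324
import Mathlib.RingTheory.ReesAlgebra
import Mathlib.Algebra.Polynomial.Eval.Degree
import Mathlib.Algebra.Polynomial.Degree.Operations
import Mathlib.Algebra.Polynomial.Monic

set_option autoImplicit false
universe u
open CAlg

namespace Groth.Agent.S6324

open Polynomial in
theorem aux {T : Type*} [CommRing T] (n : ℕ) (c : ℕ → T) :
    (X ^ n + ∑ j ∈ Finset.range n, C (c j) * X ^ j : T[X]).Monic ∧
    (Nontrivial T → (X ^ n + ∑ j ∈ Finset.range n, C (c j) * X ^ j : T[X]).natDegree = n) ∧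
    (∀ j < n, (X ^ n + ∑ j ∈ Finset.range n, C (c j) * X ^ j : T[X]).coeff j = c j) ∧
    (∀ {U : Type*} [CommRing U] (g : T →+* U) (y : U),
      eval₂ g y (X ^ n + ∑ j ∈ Finset.range n, C (c j) * X ^ j : T[X]) =
        y ^ n + ∑ j ∈ Finset.range n, g (c j) * y ^ j) := by
  have hdeg : degree (∑ j ∈ Finset.range n, C (c j) * X ^ j : T[X]) < n := by
    refine lt_of_le_of_lt (degree_sum_le _ _) ?_
    refine (Finset.sup_lt_iff (WithBot.bot_lt_coe n)).mpr ?_
    intro j hj
    exact lt_of_le_of_lt (degree_C_mul_X_pow_le j _) (WithBot.coe_lt_coe.mpr (Finset.mem_range.mp hj))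
  refine ⟨monic_X_pow_add hdeg, fun _ => ?_, fun j hj => ?_, fun g y => ?_⟩
  · apply natDegree_eq_of_degree_eq_some
    rw [degree_add_eq_left_of_degree_lt, degree_X_pow]
    rw [degree_X_pow]
    exact hdeg
  · rw [coeff_add, coeff_X_pow, if_neg (ne_of_lt hj), zero_add, finsetSum_coeff]
    simp_rw [coeff_C_mul_X_pow]
    rw [Finset.sum_ite_eq, if_pos (Finset.mem_range.mpr hj)]
  · simp only [eval₂_add, eval₂_pow, eval₂_X, eval₂_finsetSum, eval₂_mul, eval₂_C]

open Polynomial in
/-- Let R → S be a ring map, I ⊆ R an ideal and A = Σ Iⁿtⁿ ⊆ R[t] the Rees algebra of I. For s ∈ S,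
being integral over I is equivalent to s·t ∈ S[t] being integral over A (via A ⊆ R[t] → S[t]). -/
theorem result {R S : Type u} [CommRing R] [CommRing S] [Algebra R S] (I : Ideal R) (s : S) : W4stkalgebra1.IsIntegralOverIdeal I s ↔ ((Polynomial.mapRingHom (algebraMap R S)).comp (reesAlgebra I).val.toRingHom).IsIntegralElem (Polynomial.C s * Polynomial.X) := by
  have hy : ∀ j, (C s * X : S[X]) ^ j = monomial j (s ^ j) := fun j => by
    rw [mul_pow, ← C_pow, C_mul_X_pow_eq_monomial]
  constructor
  · rintro ⟨p, hpm, hcoef, hp0⟩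
    have hmem : ∀ j, p.coeff j ∈ I ^ (p.natDegree - j) := by
      intro j
      by_cases hj : j < p.natDegree
      · exact hcoef j hj
      · have h0 : p.natDegree - j = 0 := by omega
        rw [h0, pow_zero, Ideal.one_eq_top]
        trivial
    let α : ℕ → ↥(reesAlgebra I) := fun j =>
      ⟨monomial (p.natDegree - j) (p.coeff j), reesAlgebra.monomial_mem.mpr (hmem j)⟩
    obtain ⟨hmonic, -, -, heval⟩ := aux p.natDegree α
    refine ⟨_, hmonic, ?_⟩
    rw [heval]
    have hφ : ∀ j, ((Polynomial.mapRingHom (algebraMap R S)).comp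
        (reesAlgebra I).val.toRingHom) (α j) =
        monomial (p.natDegree - j) (algebraMap R S (p.coeff j)) := fun j => by
      show Polynomial.map (algebraMap R S) (monomial (p.natDegree - j) (p.coeff j)) = _
      rw [map_monomial]
    have hterm : ∀ j ∈ Finset.range p.natDegree,
        ((Polynomial.mapRingHom (algebraMap R S)).comp (reesAlgebra I).val.toRingHom) (α j) *
          (C s * X) ^ j = monomial p.natDegree (algebraMap R S (p.coeff j) * s ^ j) := by
      intro j hj
      rw [hφ, hy, monomial_mul_monomial, Nat.sub_add_cancel (le_of_lt (Finset.mem_range.mp hj))]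
    rw [Finset.sum_congr rfl hterm, hy, ← map_sum, ← map_add]
    have hzero : s ^ p.natDegree +
        ∑ j ∈ Finset.range p.natDegree, algebraMap R S (p.coeff j) * s ^ j = 0 := by
      rw [eval₂_eq_sum_range, Finset.sum_range_succ, hpm.coeff_natDegree, map_one, one_mul] at hp0
      rw [add_comm]
      exact hp0
    rw [hzero, map_zero]
  · rintro ⟨P, hPm, hP0⟩
    rcases subsingleton_or_nontrivial R with hsub | hnt
    · haveI : Subsingleton S := (algebraMap R S).codomain_trivial
      refine ⟨1, monic_one, ?_, Subsingleton.elim _ _⟩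
      intro j hj
      simp at hj
    · let c : ℕ → R := fun j => ((P.coeff j : ↥(reesAlgebra I)) : R[X]).coeff (P.natDegree - j)
      obtain ⟨hmonic, hnat, hcoeffq, heval⟩ := aux P.natDegree c
      have hnat' := hnat hnt
      refine ⟨_, hmonic, ?_, ?_⟩
      · intro j hj
        rw [hnat'] at hj ⊢
        rw [hcoeffq j hj]
        exact (mem_reesAlgebra_iff I _).mp (P.coeff j).2 (P.natDegree - j)
      · rw [heval]
        have hcoef := congrArg (fun r : S[X] => r.coeff P.natDegree) hP0
        simp only [coeff_zero] at hcoef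
        rw [eval₂_eq_sum_range, finsetSum_coeff] at hcoef
        have hterm : ∀ j ∈ Finset.range (P.natDegree + 1),
            (((Polynomial.mapRingHom (algebraMap R S)).comp (reesAlgebra I).val.toRingHom)
              (P.coeff j) * (C s * X) ^ j).coeff P.natDegree = algebraMap R S (c j) * s ^ j := by
          intro j hj
          have hjn : j ≤ P.natDegree := Nat.lt_succ_iff.mp (Finset.mem_range.mp hj)
          rw [mul_pow, ← C_pow, ← mul_assoc, coeff_mul_X_pow', if_pos hjn, coeff_mul_C]
          show (Polynomial.map (algebraMap R S) ((P.coeff j : ↥(reesAlgebra I)) : R[X])).coeff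
            (P.natDegree - j) * s ^ j = _
          rw [coeff_map]
        rw [Finset.sum_congr rfl hterm, Finset.sum_range_succ] at hcoef
        have hcn : c P.natDegree = 1 := by
          show ((P.coeff P.natDegree : ↥(reesAlgebra I)) : R[X]).coeff
            (P.natDegree - P.natDegree) = 1
          rw [hPm.coeff_natDegree, Nat.sub_self, OneMemClass.coe_one, coeff_one_zero]
        rw [hcn, map_one, one_mul, add_comm] at hcoef
        exact hcoef

end Groth.Agent.S6324
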