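import Groth.Statements.S6325
import Groth.Agent.S6324
import Mathlib.RingTheory.IntegralClosure.Algebra.Basic

set_option autoImplicit false
universe u
open CAlg

namespace Groth.Agent.S6325

open Polynomial in
/-- Let R → S be a ring map and I ⊆ R an ideal. The elements of S integral over I form an R-submodule of
S; moreover, the product s s' is integral over I for any s ∈ S integral over R and any s' ∈ S
integral over I. -/
theorem result {R S : Type u} [CommRing R] [CommRing S] [Algebra R S] (I : Ideal R) : (∃ N : Submodule R S, ∀ s : S, s ∈ N ↔ W4stkalgebra1.IsIntegralOverIdeal I s) ∧ (∀ s s' : S, IsIntegral R s → W4stkalgebra1.IsIntegralOverIdeal I s' → W4stkalgebra1.IsIntegralOverIdeal I (s * s')) := by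
  have key := fun s : S => Groth.Agent.S6324.result (R := R) (S := S) I s
  -- constants from R are integral
  have hconst : ∀ r : R, ((Polynomial.mapRingHom (algebraMap R S)).comp
      (reesAlgebra I).val.toRingHom).IsIntegralElem (C (algebraMap R S r)) := by
    intro r
    have h1 : ((Polynomial.mapRingHom (algebraMap R S)).comp (reesAlgebra I).val.toRingHom)
        (algebraMap R ↥(reesAlgebra I) r) = C (algebraMap R S r) := by
      show Polynomial.map (algebraMap R S) (C r) = _
      rw [map_C]
    rw [← h1]
    exact RingHom.isIntegralElem_map _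
  refine ⟨⟨{ carrier := {s | W4stkalgebra1.IsIntegralOverIdeal I s}
             zero_mem' := ?_
             add_mem' := ?_
             smul_mem' := ?_ }, fun s => Iff.rfl⟩, ?_⟩
  · intro a b ha hb
    show W4stkalgebra1.IsIntegralOverIdeal I (a + b)
    have ha' : W4stkalgebra1.IsIntegralOverIdeal I a := ha
    have hb' : W4stkalgebra1.IsIntegralOverIdeal I b := hb
    rw [key] at ha' hb' ⊢
    rw [map_add, add_mul]
    exact RingHom.IsIntegralElem.add _ ha' hb'
  · show W4stkalgebra1.IsIntegralOverIdeal I (0 : S)
    rw [key, map_zero, zero_mul]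
    exact RingHom.isIntegralElem_zero _
  · intro r a ha
    show W4stkalgebra1.IsIntegralOverIdeal I (r • a)
    have ha' : W4stkalgebra1.IsIntegralOverIdeal I a := ha
    rw [key] at ha' ⊢
    rw [Algebra.smul_def, map_mul, mul_assoc]
    exact RingHom.IsIntegralElem.mul _ (hconst r) ha'
  · intro s s' hs hs'
    rw [key] at hs' ⊢
    rw [map_mul, mul_assoc]
    refine RingHom.IsIntegralElem.mul _ ?_ hs'
    obtain ⟨p, hpm, hp0⟩ := hs
    refine ⟨p.map (algebraMap R ↥(reesAlgebra I)), hpm.map _, ?_⟩
    rw [eval₂_map]
    have hcomp : ((Polynomial.mapRingHom (algebraMap R S)).comp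
        (reesAlgebra I).val.toRingHom).comp (algebraMap R ↥(reesAlgebra I)) =
        (C : S →+* S[X]).comp (algebraMap R S) := by
      refine RingHom.ext fun r => ?_
      show Polynomial.map (algebraMap R S) (C r) = _
      rw [map_C]
      rfl
    rw [hcomp, ← Polynomial.hom_eval₂, hp0, map_zero]

end Groth.Agent.S6325
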