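import Groth.Statements.S6326
import Mathlib

set_option autoImplicit false
universe u
open CategoryTheory CategoryTheory.Limits
open CAlg

namespace Groth.Agent.S6326

section Lib

variable {R : Type u} [CommRing R] {P : Type u} [AddCommGroup P] [Module R P]

/-- Finitely generated submodules contained in `K`. -/
structure FGSubLe (K : Submodule R P) : Type u where
  /-- the submodule -/
  val : Submodule R P
  fg : val.FG
  le : val ≤ K

instance (K : Submodule R P) : Preorder (FGSubLe K) where
  le S T := S.val ≤ T.val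
  le_refl S := le_refl S.val
  le_trans S T U h1 h2 := le_trans (α := Submodule R P) h1 h2

instance (K : Submodule R P) : IsDirected (FGSubLe K) (· ≤ ·) :=
  ⟨fun S T => ⟨⟨S.val ⊔ T.val, S.fg.sup T.fg, sup_le S.le T.le⟩,
    (le_sup_left : S.val ≤ S.val ⊔ T.val), (le_sup_right : T.val ≤ S.val ⊔ T.val)⟩⟩

instance (K : Submodule R P) : Nonempty (FGSubLe K) := ⟨⟨⊥, Submodule.fg_bot, bot_le⟩⟩

/-- The bottom element. -/
def botS (K : Submodule R P) : FGSubLe K := ⟨⊥, Submodule.fg_bot, bot_le⟩

lemma le_iff {K : Submodule R P} (S T : FGSubLe K) : S ≤ T ↔ S.val ≤ T.val := Iff.rfl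

/-- The diagram of quotients `P ⧸ S`. -/
noncomputable def quotF (K : Submodule R P) : FGSubLe K ⥤ ModuleCat.{u} R where
  obj S := ModuleCat.of R (P ⧸ S.val)
  map {S T} f := ModuleCat.ofHom (Submodule.factor ((le_iff S T).mp (leOfHom f)))
  map_id S := by
    apply ModuleCat.hom_ext
    apply Submodule.linearMap_qext
    apply LinearMap.ext
    intro x
    exact Submodule.factor_mk (p := S.val) (p' := S.val) (le_refl _) x
  map_comp {S T U} f g := by
    apply ModuleCat.hom_ext
    apply Submodule.linearMap_qext
    apply LinearMap.ext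
    intro x
    have h1 := Submodule.factor_mk ((le_iff S U).mp (leOfHom (f ≫ g))) x
    have h2 := Submodule.factor_mk ((le_iff S T).mp (leOfHom f)) x
    have h3 := Submodule.factor_mk ((le_iff T U).mp (leOfHom g)) x
    show Submodule.factor ((le_iff S U).mp (leOfHom (f ≫ g))) (Submodule.mkQ S.val x) =
      Submodule.factor ((le_iff T U).mp (leOfHom g))
        (Submodule.factor ((le_iff S T).mp (leOfHom f)) (Submodule.mkQ S.val x))
    rw [h1, h2, h3]

lemma quotF_map_mk {K : Submodule R P} {S T : FGSubLe K} (f : S ⟶ T) (x : P) :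
    ((quotF K).map f).hom (Submodule.mkQ S.val x) = Submodule.mkQ T.val x :=
  Submodule.factor_mk ((le_iff S T).mp (leOfHom f)) x

/-- The comparison map on an element coming from a stage. -/
lemma post_ι {J : Type u} [SmallCategory J] (F : J ⥤ ModuleCat.{u} R) (X : ModuleCat.{u} R)
    (j : J) (c : X ⟶ F.obj j) :
    colimit.post F (coyoneda.obj (Opposite.op X))
      (colimit.ι (F ⋙ coyoneda.obj (Opposite.op X)) j c) = c ≫ colimit.ι F j :=
  ConcreteCategory.congr_hom (colimit.ι_post F (coyoneda.obj (Opposite.op X)) j) c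

/-- In the colimit of the quotients, the class of `x` at stage `S` vanishes as soon as `x ∈ K`. -/
lemma ι_mk_eq_zero {K : Submodule R P} (S : FGSubLe K) (x : P) (hx : x ∈ K) :
    (colimit.ι (quotF K) S).hom (Submodule.mkQ S.val x) = 0 := by
  let T : FGSubLe K := ⟨S.val ⊔ Submodule.span R {x},
    S.fg.sup (Submodule.fg_span_singleton x),
    sup_le S.le ((Submodule.span_singleton_le_iff_mem x K).mpr hx)⟩
  let f : S ⟶ T := homOfLE ((le_iff S T).mpr le_sup_left)
  have hw := colimit.w (quotF K) f
  have h1 : (colimit.ι (quotF K) S).hom (Submodule.mkQ S.val x) =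
      (colimit.ι (quotF K) T).hom (((quotF K).map f).hom (Submodule.mkQ S.val x)) := by
    rw [← hw]
    rfl
  have h2 : Submodule.mkQ T.val x = 0 :=
    (Submodule.Quotient.mk_eq_zero _).mpr
      (Submodule.mem_sup_right (Submodule.mem_span_singleton_self x))
  rw [h1, quotF_map_mk, h2]
  exact map_zero _

end Lib


/-- Let R be a ring and N an R-module such that whenever M is the colimit of a filtered diagram (Mᵢ) of
R-modules (indexed by a filtered category in the same universe), the comparison map colim Hom_R(N,
Mᵢ) → Hom_R(N, M) is injective. Then N is finitely generated. (The implication from finite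
generation back to this injectivity also holds; only the characterizing direction is stated here.) -/
theorem result (R : Type u) [CommRing R] (N : Type u) [AddCommGroup N] [Module R N] (h : ∀ (J : Type u) [SmallCategory J] [IsFiltered J] (F : J ⥤ ModuleCat.{u} R), Function.Injective (colimit.post F (coyoneda.obj (Opposite.op (ModuleCat.of R N))))) : Module.Finite R N := by
  classical
  have hinj := h (FGSubLe (⊤ : Submodule R N)) (quotF (⊤ : Submodule R N))
  have hzero : (ModuleCat.ofHom (Submodule.mkQ (⊥ : Submodule R N)) :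
      ModuleCat.of R N ⟶ (quotF (⊤ : Submodule R N)).obj (botS ⊤)) ≫
        colimit.ι (quotF (⊤ : Submodule R N)) (botS ⊤) = 0 := by
    apply ModuleCat.hom_ext
    apply LinearMap.ext
    intro x
    exact ι_mk_eq_zero (botS (⊤ : Submodule R N)) x Submodule.mem_top
  have hab : colimit.post (quotF (⊤ : Submodule R N))
      (coyoneda.obj (Opposite.op (ModuleCat.of R N)))
      (colimit.ι (quotF (⊤ : Submodule R N) ⋙ coyoneda.obj (Opposite.op (ModuleCat.of R N)))
        (botS ⊤) (ModuleCat.ofHom (Submodule.mkQ (⊥ : Submodule R N)))) =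
      colimit.post (quotF (⊤ : Submodule R N))
      (coyoneda.obj (Opposite.op (ModuleCat.of R N)))
      (colimit.ι (quotF (⊤ : Submodule R N) ⋙ coyoneda.obj (Opposite.op (ModuleCat.of R N)))
        (botS ⊤) (0 : ModuleCat.of R N ⟶ (quotF (⊤ : Submodule R N)).obj (botS ⊤))) := by
    rw [post_ι, post_ι, zero_comp]
    exact hzero
  have h1 := hinj hab
  obtain ⟨k, f, g, hk⟩ := (CategoryTheory.Limits.Types.FilteredColimit.colimit_eq_iff _).mp h1
  have hk' : (ModuleCat.ofHom (Submodule.mkQ (⊥ : Submodule R N)) :
      ModuleCat.of R N ⟶ (quotF (⊤ : Submodule R N)).obj (botS ⊤)) ≫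
        (quotF (⊤ : Submodule R N)).map f =
      (0 : ModuleCat.of R N ⟶ (quotF (⊤ : Submodule R N)).obj (botS ⊤)) ≫
        (quotF (⊤ : Submodule R N)).map g := hk
  rw [zero_comp] at hk'
  have htop : k.val = ⊤ := by
    rw [eq_top_iff]
    intro x _
    have h3 := congrArg (fun φ => φ.hom x) hk'
    have h4 : Submodule.mkQ k.val x = 0 := by
      rw [← quotF_map_mk f x]
      exact h3
    exact (Submodule.Quotient.mk_eq_zero _).mp h4
  exact ⟨htop ▸ k.fg⟩

end Groth.Agent.S6326
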