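import Groth.Statements.S6327
import Mathlib
import Groth.Agent.S6326

set_option autoImplicit false
universe u
open CategoryTheory CategoryTheory.Limits
open CAlg

namespace Groth.Agent.S6327

open Groth.Agent.S6326

lemma fp_of_split {R : Type u} [CommRing R] {M Q : Type u} [AddCommGroup M] [Module R M]
    [AddCommGroup Q] [Module R Q] [Module.FinitePresentation R Q]
    (p : Q →ₗ[R] M) (s : M →ₗ[R] Q) (h : p ∘ₗ s = LinearMap.id) :
    Module.FinitePresentation R M := by
  have hsurj : Function.Surjective p := fun m => ⟨s m, LinearMap.congr_fun h m⟩
  refine Module.finitePresentation_of_surjective p hsurj ?_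
  have hps : ∀ m, p (s m) = m := fun m => LinearMap.congr_fun h m
  have hker : LinearMap.ker p = LinearMap.range (LinearMap.id - s ∘ₗ p) := by
    ext x
    constructor
    · intro hx
      rw [LinearMap.mem_ker] at hx
      refine ⟨x, ?_⟩
      rw [LinearMap.sub_apply, LinearMap.id_apply, LinearMap.comp_apply, hx, map_zero, sub_zero]
    · rintro ⟨y, rfl⟩
      rw [LinearMap.mem_ker, LinearMap.sub_apply, LinearMap.id_apply, LinearMap.comp_apply,
        map_sub, hps, sub_self]
  rw [hker]
  exact Submodule.fg_range _


/-- Let R be a ring and N an R-module such that whenever M is the colimit of a filtered diagram (Mᵢ) of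
R-modules (indexed by a filtered category in the same universe), the comparison map colim Hom_R(N,
Mᵢ) → Hom_R(N, M) is bijective. Then N is finitely presented. (The implication from finite
presentation back to this bijectivity also holds; only the characterizing direction is stated here.) -/
theorem result (R : Type u) [CommRing R] (N : Type u) [AddCommGroup N] [Module R N] (h : ∀ (J : Type u) [SmallCategory J] [IsFiltered J] (F : J ⥤ ModuleCat.{u} R), Function.Bijective (colimit.post F (coyoneda.obj (Opposite.op (ModuleCat.of R N))))) : Module.FinitePresentation R N := by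
  classical
  haveI : Module.Finite R N := Groth.Agent.S6326.result R N (fun J _ _ F => (h J F).1)
  obtain ⟨n, π, hπ⟩ := Module.Finite.exists_fin' R N
  -- the cocone of quotients of `Fin n → R` by f.g. submodules of the kernel
  let cc : Cocone (quotF (LinearMap.ker π)) :=
    { pt := ModuleCat.of R N
      ι :=
        { app := fun S => ModuleCat.ofHom (S.val.liftQ π S.le)
          naturality := by
            intro S T f
            apply ModuleCat.hom_ext
            apply Submodule.linearMap_qext
            apply LinearMap.ext
            intro x
            have h2 := quotF_map_mk f x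
            show (T.val.liftQ π T.le) (((quotF (LinearMap.ker π)).map f).hom
              (Submodule.mkQ S.val x)) = (S.val.liftQ π S.le) (Submodule.mkQ S.val x)
            rw [h2]
            rfl } }
  have hcc : ∀ (S : FGSubLe (LinearMap.ker π)) (x : Fin n → R),
      (colimit.desc (quotF (LinearMap.ker π)) cc).hom
        ((colimit.ι (quotF (LinearMap.ker π)) S).hom (Submodule.mkQ S.val x)) = π x := by
    intro S x
    have h1 := colimit.ι_desc cc S
    have h2 := congrArg (fun φ => φ.hom (Submodule.mkQ S.val x)) h1
    exact h2
  have ht : Function.Bijective (colimit.desc (quotF (LinearMap.ker π)) cc).hom := by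
    constructor
    · rw [injective_iff_map_eq_zero]
      intro y hy
      obtain ⟨S, x, rfl⟩ := Concrete.colimit_exists_rep (quotF (LinearMap.ker π)) y
      obtain ⟨p, rfl⟩ := Submodule.mkQ_surjective S.val x
      have h3 : π p = 0 := by
        rw [← hcc S p]
        exact hy
      exact ι_mk_eq_zero S p (LinearMap.mem_ker.mpr h3)
    · intro m
      obtain ⟨p, rfl⟩ := hπ m
      exact ⟨_, hcc (botS _) p⟩
  haveI : IsIso (colimit.desc (quotF (LinearMap.ker π)) cc) :=
    (ConcreteCategory.isIso_iff_bijective _).mpr ht
  obtain ⟨z, hz⟩ := (h _ (quotF (LinearMap.ker π))).2 (inv (colimit.desc (quotF (LinearMap.ker π)) cc))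
  obtain ⟨S, s, rfl⟩ := Types.jointly_surjective' z
  rw [post_ι] at hz
  have hsplit : s ≫ cc.ι.app S = 𝟙 _ := by
    have h1 : colimit.ι (quotF (LinearMap.ker π)) S ≫ colimit.desc (quotF (LinearMap.ker π)) cc =
        cc.ι.app S := colimit.ι_desc cc S
    rw [← h1, ← Category.assoc, hz, IsIso.inv_hom_id]
  haveI : Module.FinitePresentation R ((Fin n → R) ⧸ S.val) :=
    Module.finitePresentation_of_surjective (Submodule.mkQ S.val) (Submodule.mkQ_surjective _)
      (by rw [Submodule.ker_mkQ]; exact S.fg)
  exact fp_of_split (S.val.liftQ π S.le) s.hom (congrArg ModuleCat.Hom.hom hsplit)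

end Groth.Agent.S6327
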