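import Groth.Statements.S6329
import Groth.Agent.H79.LenLoc
import Mathlib

set_option autoImplicit false
universe u
open CAlg

namespace Groth.Agent.S6329

open Groth.Agent.H79.LenLoc in
theorem key {R : Type u} [CommRing R] (M : Type u) [AddCommGroup M] [Module R M]
    (s : CompositionSeries (Submodule R M)) (h0 : s.head = ⊥) (m : Ideal R) [m.IsMaximal]
    (k : Fin (s.length + 1)) :
    Module.length (Localization.AtPrime m) (LocalizedModule m.primeCompl (s k)) =
      ∑ i ∈ Finset.univ.filter (fun i : Fin s.length => i.castSucc < k),
        (if (s i.castSucc).colon (s i.succ : Set M) = m then (1 : ℕ∞) else 0) := by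
  classical
  induction k using Fin.induction with
  | zero =>
    haveI : Subsingleton ↥(s 0) := by
      rw [show s 0 = ⊥ from h0]; infer_instance
    rw [Module.length_eq_zero]
    symm
    apply Finset.sum_eq_zero
    intro i hi
    simp at hi
  | succ j ih =>
    have hcov : s j.castSucc ⋖ s j.succ := s.step j
    haveI hs : IsSimpleModule R (↥(s j.succ) ⧸ (s j.castSucc).comap (s j.succ).subtype) :=
      (covBy_iff_quot_is_simple hcov.le).1 hcov
    have e1 := length_localized_submodule m.primeCompl
      ((s j.castSucc).comap (s j.succ).subtype)
    have e2 := length_localized_congr m.primeCompl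
      (Submodule.comapSubtypeEquivOfLe hcov.le)
    have e3 := length_localized_simple
      (↥(s j.succ) ⧸ (s j.castSucc).comap (s j.succ).subtype) m
    have hann : Module.annihilator R (↥(s j.succ) ⧸ (s j.castSucc).comap (s j.succ).subtype) =
        (s j.castSucc).colon (s j.succ : Set M) := by
      ext r
      rw [Module.mem_annihilator, Submodule.mem_colon]
      constructor
      · intro h x hx
        have h2 := h (Submodule.Quotient.mk ⟨x, hx⟩)
        rw [← Submodule.Quotient.mk_smul, Submodule.Quotient.mk_eq_zero] at h2
        exact h2
      · intro h y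
        obtain ⟨⟨x, hx⟩, rfl⟩ := Submodule.Quotient.mk_surjective _ y
        rw [← Submodule.Quotient.mk_smul, Submodule.Quotient.mk_eq_zero]
        exact h x hx
    have hset : Finset.univ.filter (fun i : Fin s.length => i.castSucc < j.succ) =
        insert j (Finset.univ.filter (fun i : Fin s.length => i.castSucc < j.castSucc)) := by
      ext i
      simp only [Finset.mem_filter, Finset.mem_univ, true_and, Finset.mem_insert,
        Fin.castSucc_lt_castSucc_iff, Fin.castSucc_lt_succ_iff]
      exact le_iff_eq_or_lt
    rw [e1, e2, ih, e3, hann, hset, Finset.sum_insert (by simp), add_comm]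

/-- Let R be a ring, M an R-module and 0 = M₀ ⊂ M₁ ⊂ … ⊂ Mₙ = M a maximal chain of submodules (a
composition series; each Mᵢ/Mᵢ₋₁ is simple, of the form R/mᵢ with mᵢ = (Mᵢ₋₁ : Mᵢ) maximal). Then
for every maximal ideal m of R the number of indices i with mᵢ = m equals length_{R_m}(M_m). -/
theorem result {R : Type u} [CommRing R] (M : Type u) [AddCommGroup M] [Module R M] (s : CompositionSeries (Submodule R M)) (h0 : s.head = ⊥) (h1 : s.last = ⊤) (m : Ideal R) [m.IsMaximal] : ((Finset.univ.filter fun i : Fin s.length => (s i.castSucc).colon (s i.succ : Set M) = m).card : ℕ∞) = Module.length (Localization.AtPrime m) (LocalizedModule m.primeCompl M) := by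
  classical
  have hlast := key M s h0 m (Fin.last s.length)
  have htop : s (Fin.last s.length) = ⊤ := h1
  have hall : Finset.univ.filter (fun i : Fin s.length => i.castSucc < Fin.last s.length) =
      Finset.univ := by
    ext i; simp [Fin.castSucc_lt_last]
  symm
  calc Module.length (Localization.AtPrime m) (LocalizedModule m.primeCompl M)
      = Module.length (Localization.AtPrime m)
          (LocalizedModule m.primeCompl (⊤ : Submodule R M)) :=
        (Groth.Agent.H79.LenLoc.length_localized_congr m.primeCompl Submodule.topEquiv).symm
    _ = Module.length (Localization.AtPrime m)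
          (LocalizedModule m.primeCompl (s (Fin.last s.length))) :=
        (Groth.Agent.H79.LenLoc.length_localized_congr m.primeCompl
          (LinearEquiv.ofEq _ _ htop)).symm
    _ = _ := hlast
    _ = _ := by
        rw [hall, Finset.card_filter, Nat.cast_sum]
        refine Finset.sum_congr rfl fun i _ => ?_
        split_ifs <;> simp

end Groth.Agent.S6329
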