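import Groth.Statements.S6330
import Mathlib
import Groth.Agent.S6308

set_option autoImplicit false
universe u
open CAlg

namespace Groth.Agent.S6330

theorem ker_of_surj {A : Type u} [CommRing A] {P Q : Type u} [AddCommGroup P] [Module A P]
    [AddCommGroup Q] [Module A Q] [Module.Finite A P] [Module.Projective A P]
    [Module.Projective A Q] (ψ : P →ₗ[A] Q) (hψ : Function.Surjective ψ) :
    Module.Finite A (LinearMap.ker ψ) ∧ Module.Projective A (LinearMap.ker ψ) := by
  obtain ⟨σ, hσ⟩ := Module.projective_lifting_property ψ LinearMap.id hψ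
  have hσ' : ∀ y, ψ (σ y) = y := fun y => LinearMap.congr_fun hσ y
  let π : P →ₗ[A] LinearMap.ker ψ :=
    LinearMap.codRestrict (LinearMap.ker ψ) (LinearMap.id - σ.comp ψ) (by
      intro x
      rw [LinearMap.mem_ker, LinearMap.sub_apply, map_sub, LinearMap.id_apply,
        LinearMap.comp_apply, hσ', sub_self])
  have hπ : π.comp (LinearMap.ker ψ).subtype = LinearMap.id := by
    apply LinearMap.ext
    rintro ⟨x, hx⟩
    apply Subtype.ext
    show x - σ (ψ x) = x
    rw [LinearMap.mem_ker.mp hx, map_zero, sub_zero]
  refine ⟨Module.Finite.of_surjective π ?_,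
    Module.Projective.of_split (LinearMap.ker ψ).subtype π hπ⟩
  intro y
  exact ⟨y.1, LinearMap.congr_fun hπ y⟩

theorem result {R : Type u} [CommRing R] {P₁ P₂ : Type u} [AddCommGroup P₁] [Module R P₁] [AddCommGroup P₂] [Module R P₂] [Module.Finite R P₁] [Module.Projective R P₁] [Module.Finite R P₂] [Module.Projective R P₂] (φ : P₁ →ₗ[R] P₂) : IsOpen {p : PrimeSpectrum R | Function.Surjective (φ.lTensor p.asIdeal.ResidueField)} ∧ ∀ f : R, (↑(PrimeSpectrum.basicOpen f) : Set (PrimeSpectrum R)) ⊆ {p : PrimeSpectrum R | Function.Surjective (φ.lTensor p.asIdeal.ResidueField)} → Function.Surjective (LocalizedModule.map (Submonoid.powers f) φ) ∧ Module.Finite (Localization.Away f) (LocalizedModule (Submonoid.powers f) (LinearMap.ker φ)) ∧ Module.Projective (Localization.Away f) (LocalizedModule (Submonoid.powers f) (LinearMap.ker φ)) := by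
  obtain ⟨h1, h2, h3⟩ := Groth.Agent.S6308.result φ
  have hset : {p : PrimeSpectrum R | Function.Surjective (φ.lTensor p.asIdeal.ResidueField)} =
      {p : PrimeSpectrum R | Function.Surjective
        (LocalizedModule.map p.asIdeal.primeCompl φ)} := by
    ext p
    exact (h1 p).symm
  rw [hset]
  refine ⟨h2, ?_⟩
  intro f hf
  have hsurj : Function.Surjective (LocalizedModule.map (Submonoid.powers f) φ) := h3 f hf
  refine ⟨hsurj, ?_⟩
  obtain ⟨hfin, hproj⟩ := ker_of_surj (LocalizedModule.map (Submonoid.powers f) φ) hsurj
  have hker : (LinearMap.ker φ).localized' (Localization (Submonoid.powers f))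
      (Submonoid.powers f) (LocalizedModule.mkLinearMap (Submonoid.powers f) P₁) =
      LinearMap.ker (LocalizedModule.map (Submonoid.powers f) φ) :=
    LinearMap.localized'_ker_eq_ker_localizedMap (Localization (Submonoid.powers f))
      (Submonoid.powers f) (LocalizedModule.mkLinearMap (Submonoid.powers f) P₁)
      (LocalizedModule.mkLinearMap (Submonoid.powers f) P₂) φ
  let e1 : LocalizedModule (Submonoid.powers f) (LinearMap.ker φ) ≃ₗ[R]
      ↥((LinearMap.ker φ).localized' (Localization (Submonoid.powers f))
        (Submonoid.powers f) (LocalizedModule.mkLinearMap (Submonoid.powers f) P₁)) :=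
    IsLocalizedModule.linearEquiv (Submonoid.powers f)
      (LocalizedModule.mkLinearMap (Submonoid.powers f) (LinearMap.ker φ))
      (Submodule.toLocalized' (Localization (Submonoid.powers f)) (Submonoid.powers f)
        (LocalizedModule.mkLinearMap (Submonoid.powers f) P₁) (LinearMap.ker φ))
  let e2 := e1.extendScalarsOfIsLocalization (Submonoid.powers f)
    (Localization (Submonoid.powers f))
  let e3 : ↥((LinearMap.ker φ).localized' (Localization (Submonoid.powers f))
        (Submonoid.powers f) (LocalizedModule.mkLinearMap (Submonoid.powers f) P₁))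
      ≃ₗ[Localization (Submonoid.powers f)]
      ↥(LinearMap.ker (LocalizedModule.map (Submonoid.powers f) φ)) :=
    LinearEquiv.ofEq _ _ hker
  haveI := hfin
  haveI := hproj
  exact ⟨Module.Finite.equiv (e2.trans e3).symm, Module.Projective.of_equiv (e2.trans e3).symm⟩

end Groth.Agent.S6330
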