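import Groth.Statements.S6331
import Mathlib.Dynamics.Newton
import Mathlib.RingTheory.Nilpotent.Lemmas
import Mathlib.RingTheory.Nilpotent.Basic
import Mathlib.Algebra.Ring.GeomSum
import Mathlib.RingTheory.Ideal.Quotient.Operations

set_option autoImplicit false
universe u
open CAlg

namespace Groth.Agent.S6331

/-- Units lift along a quotient by a nil ideal. -/
theorem isUnit_of_isUnit_mk {R : Type u} [CommRing R] (J : Ideal R) (hJ : ∀ x ∈ J, IsNilpotent x)
    (r : R) (hr : IsUnit (Ideal.Quotient.mk J r)) : IsUnit r := by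
  obtain ⟨s, hs⟩ := hr.exists_right_inv
  obtain ⟨s, rfl⟩ := Ideal.Quotient.mk_surjective s
  have h1 : r * s - 1 ∈ J := by
    rw [← Ideal.Quotient.eq, map_mul, map_one]
    exact hs
  have h2 : IsUnit (r * s) := by
    have : r * s = (r * s - 1) + 1 := by ring
    rw [this]
    exact (hJ _ h1).isUnit_add_one
  exact isUnit_of_mul_isUnit_left h2

open Polynomial in
theorem part1 {R : Type u} [CommRing R] (I : Ideal R) (hI : ∀ x ∈ I, IsNilpotent x) (n : ℕ)
    (hn : 1 ≤ n) (hinv : IsUnit ((n : ℕ) : R ⧸ I)) :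
    ∀ y ∈ I, ∃! x : R, x ∈ I ∧ (1 + x) ^ n = 1 + y := by
  have hnu : IsUnit (n : R) := by
    apply isUnit_of_isUnit_mk I hI
    rwa [map_natCast]
  intro y hy
  let P : R[X] := (1 + X) ^ n - C (1 + y)
  have hP0 : aeval (0 : R) P = -y := by
    simp [P]
  have hP0' : aeval (0 : R) (derivative P) = (n : R) := by
    simp [P, derivative_pow]
  have hPr : ∀ r : R, aeval r P = (1 + r) ^ n - (1 + y) := by
    intro r
    simp [P]
  have key := Polynomial.existsUnique_nilpotent_sub_and_aeval_eq_zero (P := P) (x := (0 : R))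
    (by rw [hP0]; exact (hI y hy).neg) (by rw [hP0']; exact hnu)
  obtain ⟨r, ⟨hr1, hr2⟩, hruniq⟩ := key
  have hrnil : IsNilpotent r := by
    have : r = -(0 - r) := by ring
    rw [this]; exact hr1.neg
  have hreq : (1 + r) ^ n = 1 + y := by
    rw [hPr] at hr2
    exact sub_eq_zero.mp hr2
  -- `r ∈ I`
  have hrI : r ∈ I := by
    let g : R := ∑ i ∈ Finset.range n, (1 + r) ^ i
    have hg : r * g = y := by
      have := mul_geom_sum (1 + r) n
      have e : (1 + r) - 1 = r := by ring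
      rw [e] at this
      rw [this, hreq]; ring
    have hgu : IsUnit g := by
      apply isUnit_of_isUnit_mk (nilradical R) (fun x hx => mem_nilradical.mp hx)
      have hr0 : Ideal.Quotient.mk (nilradical R) r = 0 :=
        Ideal.Quotient.eq_zero_iff_mem.mpr (mem_nilradical.mpr hrnil)
      have : Ideal.Quotient.mk (nilradical R) g = ((n : R) : R ⧸ nilradical R) := by
        simp only [g, map_sum, map_pow, map_add, map_one, hr0, add_zero, one_pow,
          Finset.sum_const, Finset.card_range, nsmul_eq_mul, mul_one, map_natCast]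
      rw [this]
      exact hnu.map _
    obtain ⟨G, hG⟩ := hgu
    have : r = y * (G⁻¹ : Rˣ) := by
      rw [← hg, ← hG, mul_assoc, Units.mul_inv, mul_one]
    rw [this]
    exact I.mul_mem_right _ hy
  refine ⟨r, ⟨hrI, hreq⟩, ?_⟩
  rintro x ⟨hxI, hx⟩
  apply hruniq
  refine ⟨?_, ?_⟩
  · have : (0 : R) - x = -x := by ring
    rw [this]; exact (hI x hxI).neg
  · rw [hPr, hx, sub_self]

/-- n-th roots along a nil ideal. -/
theorem result {R : Type u} [CommRing R] (I : Ideal R) (hI : ∀ x ∈ I, IsNilpotent x) (n : ℕ) (hn : 1 ≤ n) (hinv : IsUnit ((n : ℕ) : R ⧸ I)) : (∀ y ∈ I, ∃! x : R, x ∈ I ∧ (1 + x) ^ n = 1 + y) ∧ (∀ u : Rˣ, (∃ v : R, v ^ n = (u : R)) ↔ ∃ w : R ⧸ I, w ^ n = Ideal.Quotient.mk I (u : R)) := by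
  have h1 := part1 I hI n hn hinv
  refine ⟨h1, fun u => ⟨?_, ?_⟩⟩
  · rintro ⟨v, hv⟩
    exact ⟨Ideal.Quotient.mk I v, by rw [← map_pow, hv]⟩
  · rintro ⟨w, hw⟩
    obtain ⟨v₀, rfl⟩ := Ideal.Quotient.mk_surjective w
    have hv₀ : IsUnit v₀ := by
      apply isUnit_of_isUnit_mk I hI
      have : IsUnit ((Ideal.Quotient.mk I v₀) ^ n) := by
        rw [hw]; exact u.isUnit.map _
      exact (isUnit_pow_iff (by omega)).mp this
    obtain ⟨V, rfl⟩ := hv₀
    have hi : (V : R) ^ n - u ∈ I := by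
      rw [← Ideal.Quotient.eq, map_pow]; exact hw
    set c : R := ((V⁻¹ : Rˣ) : R) ^ n with hc
    have hVc : (V : R) ^ n * c = 1 := by
      rw [hc, ← mul_pow, Units.mul_inv, one_pow]
    have hy : -(((V : R) ^ n - u) * c) ∈ I := I.neg_mem (I.mul_mem_right _ hi)
    obtain ⟨x, ⟨-, hx⟩, -⟩ := h1 _ hy
    refine ⟨V * (1 + x), ?_⟩
    rw [mul_pow, hx]
    have : (V : R) ^ n * (1 + -(((V : R) ^ n - u) * c)) =
        (V : R) ^ n + ((u : R) - (V : R) ^ n) * ((V : R) ^ n * c) := by ring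
    rw [this, hVc]; ring

end Groth.Agent.S6331
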