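import Groth.Statements.S6332
import Mathlib

set_option autoImplicit false
set_option linter.style.haveILetI false
universe u
open Fields

namespace Groth.Agent.S6332

open IntermediateField in
/-- Let L/K be a finite Galois extension of fields of characteristic p > 0 whose degree equals the prime
p (equivalently, the Galois group is cyclic of order p). Then there is an element z of L with z ^ p
- z in K which generates L over K. -/
theorem result {K L : Type u} [Field K] [Field L] [Algebra K L] (p : ℕ)
    [Fact p.Prime] [CharP K p] [FiniteDimensional K L] [IsGalois K L]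
    (hdeg : Module.finrank K L = p) :
    ∃ z : L, z ^ p - z ∈ Set.range (algebraMap K L) ∧ K⟮z⟯ = ⊤ := by
  classical
  have hpp : p.Prime := Fact.out
  haveI : CharP L p := charP_of_injective_algebraMap (algebraMap K L).injective p
  have hcard : Nat.card (L ≃ₐ[K] L) = p := by rw [IsGalois.card_aut_eq_finrank, hdeg]
  haveI : IsCyclic (L ≃ₐ[K] L) := isCyclic_of_prime_card hcard
  obtain ⟨σ, hσ⟩ := IsCyclic.exists_generator (α := L ≃ₐ[K] L)
  have hord : orderOf σ = p := by rw [orderOf_eq_card_of_forall_mem_zpowers hσ, hcard]
  -- fixed points of σ lie in K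
  have hfix : ∀ x : L, σ x = x → x ∈ Set.range (algebraMap K L) := by
    intro x hx
    rw [IsGalois.mem_range_algebraMap_iff_fixed]
    intro τ
    obtain ⟨k, rfl⟩ := Subgroup.mem_zpowers_iff.mp (hσ τ)
    have hmem : σ ∈ MulAction.stabilizer (L ≃ₐ[K] L) x := by
      rw [MulAction.mem_stabilizer_iff]; exact hx
    have := Subgroup.zpow_mem _ hmem k
    rwa [MulAction.mem_stabilizer_iff] at this
  -- the endomorphism S = σ and T = S - 1
  set S : Module.End K L := σ.toLinearMap with hS
  have hSpow : ∀ (k : ℕ) (x : L), (S ^ k) x = (σ ^ k) x := by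
    intro k
    induction k with
    | zero => intro x; simp
    | succ k ih =>
      intro x
      rw [pow_succ, pow_succ, Module.End.mul_apply, AlgEquiv.mul_apply, ih]
      rfl
  have hSp : S ^ p = 1 := by
    apply LinearMap.ext
    intro x
    rw [hSpow, ← hord, pow_orderOf_eq_one]
    rfl
  have hpoly : ((Polynomial.X : Polynomial K) - 1) ^ p = Polynomial.X ^ p - 1 := by
    rw [sub_pow_char, one_pow]
  have hTp : (S - 1) ^ p = 0 := by
    have := congrArg (Polynomial.aeval S) hpoly
    simp only [map_pow, map_sub, Polynomial.aeval_X, map_one] at this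
    rw [this, hSp, sub_self]
  set T : Module.End K L := S - 1 with hT
  have hTapp : ∀ x : L, T x = σ x - x := by
    intro x
    simp [hT, hS]
  have hex : ∃ m : ℕ, T ^ m = 0 := ⟨p, hTp⟩
  set m := Nat.find hex with hm
  have hm0 : T ^ m = 0 := Nat.find_spec hex
  have hT0 : T ≠ 0 := by
    intro h0
    have h1 : σ = 1 := by
      apply AlgEquiv.ext
      intro x
      have := hTapp x
      rw [h0, LinearMap.zero_apply] at this
      rw [AlgEquiv.one_apply]
      exact (sub_eq_zero.mp this.symm)
    rw [h1, orderOf_one] at hord
    exact hpp.one_lt.ne hord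
  have hm2 : 2 ≤ m := by
    by_contra hlt
    push Not at hlt
    interval_cases m
    · rw [pow_zero] at hm0
      have : (1 : Module.End K L) (1 : L) = (0 : Module.End K L) (1 : L) := by rw [hm0]
      simp at this
    · rw [pow_one] at hm0
      exact hT0 hm0
  have hm1 : T ^ (m - 1) ≠ 0 := Nat.find_min hex (by omega)
  obtain ⟨v, hv⟩ : ∃ v : L, (T ^ (m - 1)) v ≠ 0 := by
    by_contra hne
    push Not at hne
    apply hm1
    apply LinearMap.ext
    intro x
    rw [hne x, LinearMap.zero_apply]
  set w : L := (T ^ (m - 1)) v with hw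
  set u : L := (T ^ (m - 2)) v with hu
  have hTu : T u = w := by
    rw [hu, hw, ← Module.End.mul_apply, ← pow_succ']
    congr 2
    omega
  have hTw : T w = 0 := by
    rw [hw, ← Module.End.mul_apply, ← pow_succ']
    have : m - 1 + 1 = m := by omega
    rw [this, hm0, LinearMap.zero_apply]
  obtain ⟨c, hc⟩ := hfix w (by
    have := hTapp w
    rw [hTw] at this
    exact (sub_eq_zero.mp this.symm))
  have hc0 : c ≠ 0 := by
    rintro rfl
    rw [map_zero] at hc
    exact hv hc.symm
  set z : L := c⁻¹ • u with hz
  have hTz : T z = 1 := by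
    rw [hz, map_smul, hTu, ← hc, Algebra.smul_def, ← map_mul, inv_mul_cancel₀ hc0, map_one]
  have hσz : σ z = z + 1 := by
    have := hTapp z
    rw [hTz] at this
    rw [eq_sub_iff_add_eq] at this
    rw [← this, add_comm]
  refine ⟨z, ?_, ?_⟩
  · apply hfix
    rw [map_sub, map_pow, hσz, add_pow_char, one_pow]
    ring
  · haveI := IntermediateField.isSimpleOrder_of_finrank_prime K L (hdeg ▸ hpp)
    rcases eq_bot_or_eq_top K⟮z⟯ with h | h
    · exfalso
      rw [IntermediateField.adjoin_simple_eq_bot_iff, IntermediateField.mem_bot] at h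
      obtain ⟨a, ha⟩ := h
      have h1 : σ z = z := by rw [← ha, AlgEquiv.commutes]
      rw [hσz] at h1
      have : (1 : L) = 0 := by
        have := congrArg (fun t => t - z) h1
        simpa using this
      exact one_ne_zero this
    · exact h

end Groth.Agent.S6332
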