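import Groth.Statements.S6334
import Mathlib.FieldTheory.KummerPolynomial
import Mathlib.FieldTheory.PurelyInseparable.Basic
import Mathlib.Algebra.CharP.IntermediateField
import Mathlib.Algebra.CharP.Reduced

set_option autoImplicit false
universe u
open Fields

namespace Groth.Agent.S6334

open IntermediateField Polynomial in
theorem aux (p : ℕ) [hp : Fact p.Prime] (E : Type u) [Field E] :
    ∀ (d : ℕ) (F : Type u) [Field F] [Algebra F E] [CharP F p] [FiniteDimensional F E]
      [IsPurelyInseparable F E], Module.finrank F E = d →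
      ∃ (n : ℕ) (a : Fin n → E), adjoin F (Set.range a) = ⊤ ∧
        (∀ i : Fin n, a i ^ p ∈ adjoin F (a '' {j | j < i}) ∧
          a i ∉ adjoin F (a '' {j | j < i})) ∧
        d = p ^ n := by
  intro d
  induction d using Nat.strong_induction_on with
  | _ d ih =>
  intro F _ _ _ _ _ hd
  by_cases htop : (⊥ : IntermediateField F E) = ⊤
  · refine ⟨0, Fin.elim0, ?_, fun i => i.elim0, ?_⟩
    · rw [show Set.range (Fin.elim0 : Fin 0 → E) = ∅ from Set.range_eq_empty _, adjoin_empty]
      exact htop
    · rw [← hd, pow_zero]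
      exact bot_eq_top_iff_finrank_eq_one.mp htop
  · have hex : ∃ b : E, b ∉ (⊥ : IntermediateField F E) := by
      by_contra hcon
      push_neg at hcon
      exact htop (eq_top_iff.mpr fun x _ => hcon x)
    obtain ⟨b, hb⟩ := hex
    haveI : ExpChar F p := ExpChar.prime hp.out
    have hpow : ∃ n : ℕ, b ^ p ^ n ∈ (algebraMap F E).range := IsPurelyInseparable.pow_mem F p b
    classical
    have hk : b ^ p ^ (Nat.find hpow) ∈ (algebraMap F E).range := Nat.find_spec hpow
    have hk0 : Nat.find hpow ≠ 0 := by
      intro h0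
      rw [h0, pow_zero, pow_one] at hk
      obtain ⟨c, hc⟩ := hk
      exact hb (IntermediateField.mem_bot.mpr ⟨c, hc⟩)
    obtain ⟨k', hk'⟩ := Nat.exists_eq_succ_of_ne_zero hk0
    obtain ⟨a₁, ha₁⟩ : ∃ a₁ : E, a₁ = b ^ p ^ k' := ⟨_, rfl⟩
    have ha₁p : ∃ c : F, algebraMap F E c = a₁ ^ p := by
      obtain ⟨c, hc⟩ := hk
      refine ⟨c, ?_⟩
      rw [hc, ha₁, hk', ← pow_mul, ← pow_succ]
    have ha₁n : ∀ c : F, algebraMap F E c ≠ a₁ := by
      intro c hc
      have hlt : k' < Nat.find hpow := by omega
      exact Nat.find_min hpow hlt ⟨c, by rw [hc, ha₁]⟩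
    obtain ⟨c, hc⟩ := ha₁p
    haveI : CharP E p := charP_of_injective_algebraMap (algebraMap F E).injective p
    have hirr : Irreducible (X ^ p - C c : F[X]) := by
      refine X_pow_sub_C_irreducible_of_prime hp.out (fun y hy => ?_)
      refine ha₁n y (frobenius_inj E p ?_)
      rw [frobenius_def, frobenius_def, ← hc, ← hy, map_pow]
    have hmin : (X ^ p - C c : F[X]) = minpoly F a₁ :=
      minpoly.eq_of_irreducible_of_monic hirr (by simp [hc])
        (monic_X_pow_sub_C c hp.out.ne_zero)
    have hint : IsIntegral F a₁ := Algebra.IsIntegral.isIntegral a₁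
    have hfinK : Module.finrank F F⟮a₁⟯ = p := by
      rw [adjoin.finrank hint, ← hmin, natDegree_X_pow_sub_C]
    have hmul : Module.finrank F F⟮a₁⟯ * Module.finrank F⟮a₁⟯ E = Module.finrank F E :=
      Module.finrank_mul_finrank F F⟮a₁⟯ E
    haveI : IsPurelyInseparable F⟮a₁⟯ E := IsPurelyInseparable.tower_top F F⟮a₁⟯ E
    have hpos : 0 < Module.finrank F⟮a₁⟯ E := Module.finrank_pos
    have hlt : Module.finrank F⟮a₁⟯ E < d := by
      have h2 : 2 * Module.finrank F⟮a₁⟯ E ≤ p * Module.finrank F⟮a₁⟯ E :=
        Nat.mul_le_mul_right _ hp.out.two_le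
      have h3 : p * Module.finrank F⟮a₁⟯ E = d := by rw [← hfinK, hmul, hd]
      omega
    obtain ⟨n', b', hb1, hb2, hb3⟩ := ih _ hlt F⟮a₁⟯ rfl
    refine ⟨n' + 1, Fin.cons a₁ b', ?_, ?_, ?_⟩
    · rw [Fin.range_cons, Set.insert_eq, ← adjoin_adjoin_left, hb1, restrictScalars_top]
    · intro i
      refine Fin.cases ?_ (fun k => ?_) i
      · have hempty : {j : Fin (n' + 1) | j < 0} = ∅ := by
          ext j
          simp
        rw [Fin.cons_zero, hempty, Set.image_empty, adjoin_empty]
        refine ⟨IntermediateField.mem_bot.mpr ⟨c, hc⟩, ?_⟩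
        intro h
        obtain ⟨c', hc'⟩ := IntermediateField.mem_bot.mp h
        exact ha₁n c' hc'
      · have hset : (Fin.cons a₁ b' : Fin (n' + 1) → E) '' {j | j < k.succ} =
            {a₁} ∪ b' '' {j | j < k} := by
          ext x
          constructor
          · rintro ⟨j, hj, rfl⟩
            revert hj
            refine Fin.cases ?_ (fun j' => ?_) j
            · intro _
              exact Or.inl (by simp)
            · intro hj
              exact Or.inr ⟨j', Fin.succ_lt_succ_iff.mp hj, by simp⟩
          · rintro (h | ⟨j', hj', rfl⟩)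
            · exact ⟨0, Fin.succ_pos k, by simpa using h.symm⟩
            · exact ⟨j'.succ, Fin.succ_lt_succ_iff.mpr hj', by simp⟩
        rw [Fin.cons_succ, hset, ← adjoin_adjoin_left]
        simp only [IntermediateField.mem_restrictScalars]
        exact hb2 k
    · rw [pow_succ, ← hb3, ← hd, ← hmul, hfinK, mul_comm]

open IntermediateField in
/-- Let E/F be a finite purely inseparable extension of fields of characteristic p > 0. Then there are
elements a_1, ..., a_n of E generating E over F such that for each i the p-th power of a_i lies in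
F(a_1, ..., a_{i-1}) while a_i itself does not (so each step adjoins a p-th root and has degree p);
in particular [E : F] = p ^ n. -/
theorem result {F E : Type u} [Field F] [Field E] [Algebra F E] (p : ℕ)
    [Fact p.Prime] [CharP F p] [FiniteDimensional F E] [IsPurelyInseparable F E] :
    ∃ (n : ℕ) (a : Fin n → E), adjoin F (Set.range a) = ⊤ ∧
      (∀ i : Fin n, a i ^ p ∈ adjoin F (a '' {j | j < i}) ∧ a i ∉ adjoin F (a '' {j | j < i})) ∧
      Module.finrank F E = p ^ n := by
  obtain ⟨n, a, h1, h2, h3⟩ := aux p E (Module.finrank F E) F rfl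
  exact ⟨n, a, h1, h2, h3⟩

end Groth.Agent.S6334
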