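import Groth.Statements.S6335
import Mathlib.FieldTheory.PurelyInseparable.PerfectClosure
import Mathlib.FieldTheory.IsAlgClosed.AlgebraicClosure
import Mathlib.Algebra.Polynomial.Expand

set_option autoImplicit false
universe u
open Fields

namespace Groth.Agent.S6335

/-- Let K be a field of characteristic p > 0, L/K a separable algebraic extension and a an element of L.
If a is a root of a polynomial P over K which is separable (pairwise distinct roots in an algebraic
closure) and all of whose coefficients are p-th powers in K, then a is a p-th power in L. (Part (1),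
the case where P is the minimal polynomial of a, is a special case.) -/
theorem result {K L : Type u} [Field K] [Field L] [Algebra K L]
    (p : ℕ) [Fact p.Prime] [CharP K p] [Algebra.IsSeparable K L] (a : L) (P : Polynomial K)
    (hroot : Polynomial.aeval a P = 0) (hsep : P.Separable) (hcoeff : ∀ i : ℕ, ∃ b : K, b ^ p = P.coeff i) :
    ∃ c : L, c ^ p = a := by
  classical
  have hp : p.Prime := Fact.out
  haveI : ExpChar K p := ExpChar.prime hp
  haveI : CharP L p := charP_of_injective_algebraMap (algebraMap K L).injective p
  haveI : ExpChar L p := ExpChar.prime hp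
  choose b hb using hcoeff
  have hQ : ∃ Q : Polynomial K, Q.map (frobenius K p) = P := by
    refine ⟨∑ i ∈ P.support, Polynomial.monomial i (b i), ?_⟩
    rw [Polynomial.map_sum]
    conv_rhs => rw [P.as_sum_support]
    refine Finset.sum_congr rfl (fun i _ => ?_)
    rw [Polynomial.map_monomial, frobenius_def, hb]
  obtain ⟨Q, hQP⟩ := hQ
  have hQsep : Q.Separable :=
    (Polynomial.separable_map (frobenius K p)).mp (by rw [hQP]; exact hsep)
  have hQpow : Q ^ p = Polynomial.expand K p P := by
    rw [← Polynomial.map_frobenius_expand p Q, Polynomial.map_expand, hQP]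
  obtain ⟨c, hc⟩ := IsAlgClosed.exists_pow_nat_eq (algebraMap L (AlgebraicClosure L) a) hp.pos
  have hQc : Polynomial.aeval c Q = 0 := by
    have h1 : (Polynomial.aeval c Q) ^ p = 0 := by
      rw [← map_pow, hQpow, Polynomial.expand_aeval, hc, Polynomial.aeval_algebraMap_apply, hroot,
        map_zero]
    exact (pow_eq_zero_iff hp.ne_zero).mp h1
  have hsepK : IsSeparable K c := hQsep.of_dvd (minpoly.dvd K c hQc)
  have hsepL : IsSeparable L c := IsSeparable.tower_top L hsepK
  have h1 := IntermediateField.adjoin_simple_eq_adjoin_pow_expChar_of_isSeparable L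
    (AlgebraicClosure L) hsepL p
  have h2 : IntermediateField.adjoin L {c ^ p} = ⊥ := by
    rw [IntermediateField.adjoin_simple_eq_bot_iff, hc, IntermediateField.mem_bot]
    exact ⟨a, rfl⟩
  rw [h2] at h1
  have h3 : c ∈ (⊥ : IntermediateField L (AlgebraicClosure L)) := by
    rw [← h1]
    exact IntermediateField.mem_adjoin_simple_self L c
  obtain ⟨c₀, hc₀⟩ := IntermediateField.mem_bot.mp h3
  refine ⟨c₀, (algebraMap L (AlgebraicClosure L)).injective ?_⟩
  rw [map_pow, hc₀, hc]

end Groth.Agent.S6335
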