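import Groth.Statements.S6336
import Mathlib

set_option autoImplicit false
universe u
open Fields

namespace Groth.Agent.S6336

open IntermediateField Polynomial in
/-- With an added hypothesis: let L/K be a finite extension of degree e generated by a single element a
whose e-th power lies in K, and assume that the polynomial X ^ e - 1 splits into linear factors over
K (so every e-th root of unity of any extension of K already lies in K; this holds when K contains a
primitive e-th root of unity, and when e is a power of the characteristic). Then every intermediate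
field of L/K is generated by a ^ d for some divisor d of e. (The published statement has no
hypothesis on roots of unity; for K the rationals and a a primitive 8-th root of unity, e = 4 and a
^ 4 = -1, the intermediate field generated by a + a⁻¹, a square root of 2, is none of K(a), K(a ^
2), K(a ^ 4); the published proof uses that the e-th roots of unity met are fixed by the
automorphisms it constructs, which the splitting hypothesis guarantees.) -/
theorem result {K L : Type u} [Field K] [Field L] [Algebra K L]
    [FiniteDimensional K L] (a : L) (ha : K⟮a⟯ = ⊤)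
    (hpow : a ^ Module.finrank K L ∈ Set.range (algebraMap K L))
    (hroots : (X ^ Module.finrank K L - 1 : K[X]).Splits) (L' : IntermediateField K L) :
    ∃ d : ℕ, d ∣ Module.finrank K L ∧ L' = K⟮a ^ d⟯ := by
  classical
  set e := Module.finrank K L with he
  have hepos : 0 < e := Module.finrank_pos
  obtain ⟨c, hc⟩ := hpow
  by_cases ha0 : a = 0
  · refine ⟨1, one_dvd _, ?_⟩
    subst ha0
    rw [adjoin_zero] at ha
    have h1 : L' = ⊤ := top_le_iff.mp (by rw [← ha]; exact bot_le)
    rw [pow_one, adjoin_zero, ha]
    exact h1
  · set d := Module.finrank L' L with hd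
    have hdpos : 0 < d := Module.finrank_pos
    have hde : d ∣ e := Dvd.intro_left _ (Module.finrank_mul_finrank K L' L)
    refine ⟨d, hde, ?_⟩
    set N : L' := Algebra.norm L' a with hN
    have hNe : N ^ e = (algebraMap K L' c) ^ d := by
      have h1 : Algebra.norm L' (a ^ e) = N ^ e := map_pow _ _ _
      have h2 : a ^ e = algebraMap L' L (algebraMap K L' c) := by
        rw [← hc]
        exact IsScalarTower.algebraMap_apply K L' L c
      rw [← h1, h2, Algebra.norm_algebraMap]
    have hNe' : (algebraMap L' L N) ^ e = (a ^ d) ^ e := by
      have h3 : algebraMap L' L (N ^ e) = algebraMap L' L ((algebraMap K L' c) ^ d) := by rw [hNe]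
      rw [map_pow, map_pow, ← IsScalarTower.algebraMap_apply, hc] at h3
      rw [h3, ← pow_mul, ← pow_mul, mul_comm]
    have hadne : a ^ d ≠ 0 := pow_ne_zero _ ha0
    set ζ : L := algebraMap L' L N / a ^ d with hζ
    have hζe : ζ ^ e = 1 := by
      rw [hζ, div_pow, hNe', div_self (pow_ne_zero _ hadne)]
    have hf0 : (X ^ e - 1 : K[X]) ≠ 0 := by
      simpa using X_pow_sub_C_ne_zero hepos (1 : K)
    have hζmem : ζ ∈ (algebraMap K L).range := by
      refine hroots.mem_range_of_isRoot hf0 ?_
      simp [IsRoot.def, hζe]
    obtain ⟨z, hz⟩ := hζmem
    have hζne : ζ ≠ 0 := by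
      intro h
      rw [h, zero_pow hepos.ne'] at hζe
      exact zero_ne_one hζe
    have hNmem : algebraMap L' L N ∈ L' := N.2
    have hadmem : a ^ d ∈ L' := by
      have h4 : a ^ d = algebraMap L' L N / ζ := by
        rw [eq_div_iff hζne, hζ]
        field_simp
      rw [h4]
      refine L'.div_mem hNmem ?_
      rw [← hz]
      exact L'.algebraMap_mem z
    set F : IntermediateField K L := K⟮a ^ d⟯ with hF
    have hFle : F ≤ L' := adjoin_simple_le_iff.mpr hadmem
    symm
    refine eq_of_le_of_finrank_le' hFle ?_
    have htop : adjoin F {a} = ⊤ := adjoin_eq_top_of_adjoin_eq_top K ha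
    have hfin := adjoin.finrank (K := F) (x := a) (.of_finite F a)
    rw [htop, finrank_top'] at hfin
    rw [hfin]
    let b : F := ⟨a ^ d, mem_adjoin_simple_self K (a ^ d)⟩
    have hdvd : minpoly F a ∣ (X ^ d - C b : F[X]) := by
      apply minpoly.dvd
      simp [b]
    calc (minpoly F a).natDegree ≤ (X ^ d - C b : F[X]).natDegree :=
          natDegree_le_of_dvd hdvd (X_pow_sub_C_ne_zero hdpos b)
      _ = d := natDegree_X_pow_sub_C

end Groth.Agent.S6336
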