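-- Statement S6344: restriction of scalars for Mittag-Leffler modules along a finite, finitely presented map.
import Groth.Statements.S6344
import Groth.Agent.H99.ML3

set_option autoImplicit false
universe u
open CAlg

namespace Groth.Agent.S6344

/-- Let R → S be a finite and finitely presented ring map and M an S-module. If M is Mittag-Leffler over
S then M is Mittag-Leffler over R. -/
theorem result (R S : Type u) [CommRing R] [CommRing S]
    [Algebra R S] [Module.Finite R S] [Algebra.FinitePresentation R S]
    (M : Type u) [AddCommGroup M] [Module S M] [Module R M] [IsScalarTower R S M]
    (hM : CAlg.IsMittagLeffler S M) : CAlg.IsMittagLeffler R M := by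
  have : Module.FinitePresentation R S :=
    Module.FinitePresentation.of_finite_of_finitePresentation (R := R) (S := S)
  exact Groth.Agent.H99.ML.ml_restrictScalars_of_fp R S M hM

end Groth.Agent.S6344
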