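import Groth.Statements.S6350
import Groth.Agent.S4853
import Mathlib.RingTheory.TensorProduct.Free
import Mathlib.LinearAlgebra.TensorProduct.Basis

set_option autoImplicit false
universe u
open scoped TensorProduct
open CAlg

namespace Groth.Agent.S6350

/-- Let (R, m) be a local ring with nilpotent maximal ideal and M a flat R-module. A family of elements
of M is a basis of M over R if and only if its image is a basis of the R/m-vector space M/mM = R/m ⊗
M. -/
theorem result (R : Type u) [CommRing R] [IsLocalRing R]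
    (hnil : IsNilpotent (IsLocalRing.maximalIdeal R)) (M : Type u) [AddCommGroup M] [Module R M] [Module.Flat R M]
    {A : Type u} (x : A → M) :
    (LinearIndependent R x ∧ Submodule.span R (Set.range x) = ⊤) ↔
      (LinearIndependent (R ⧸ IsLocalRing.maximalIdeal R)
          (fun a => (1 : R ⧸ IsLocalRing.maximalIdeal R) ⊗ₜ[R] x a) ∧
        Submodule.span (R ⧸ IsLocalRing.maximalIdeal R)
          (Set.range fun a => (1 : R ⧸ IsLocalRing.maximalIdeal R) ⊗ₜ[R] x a) = ⊤) := by
  classical
  constructor
  · rintro ⟨hli, hspan⟩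
    let b : Module.Basis A R M := Module.Basis.mk hli hspan.ge
    have hb : ∀ a, b a = x a := fun a => by simp [b]
    let b' := Algebra.TensorProduct.basis (R ⧸ IsLocalRing.maximalIdeal R) b
    have hb' : (⇑b' : A → (R ⧸ IsLocalRing.maximalIdeal R) ⊗[R] M) =
        fun a => (1 : R ⧸ IsLocalRing.maximalIdeal R) ⊗ₜ[R] x a := by
      funext a
      rw [Algebra.TensorProduct.basis_apply, hb]
    rw [← hb']
    exact ⟨b'.linearIndependent, b'.span_eq⟩
  · rintro ⟨hli, hspan⟩
    let b : Module.Basis A (R ⧸ IsLocalRing.maximalIdeal R)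
        ((R ⧸ IsLocalRing.maximalIdeal R) ⊗[R] M) := Module.Basis.mk hli hspan.ge
    have hb : ∀ a, b a = (1 : R ⧸ IsLocalRing.maximalIdeal R) ⊗ₜ[R] x a := fun a => by simp [b]
    -- spanning
    have hker : ∀ z : M, (1 : R ⧸ IsLocalRing.maximalIdeal R) ⊗ₜ[R] z = 0 →
        z ∈ IsLocalRing.maximalIdeal R • (⊤ : Submodule R M) := by
      intro z hz
      have := congrArg (TensorProduct.quotTensorEquivQuotSMul M (IsLocalRing.maximalIdeal R)) hz
      rw [TensorProduct.quotTensorEquivQuotSMul_mk_one_tmul, map_zero,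
        Submodule.Quotient.mk_eq_zero] at this
      exact this
    have hsup : Submodule.span R (Set.range x) ⊔
        IsLocalRing.maximalIdeal R • (⊤ : Submodule R M) = ⊤ := by
      rw [eq_top_iff]
      intro z _
      have hmem : (1 : R ⧸ IsLocalRing.maximalIdeal R) ⊗ₜ[R] z ∈
          Submodule.span (R ⧸ IsLocalRing.maximalIdeal R)
            (Set.range fun a => (1 : R ⧸ IsLocalRing.maximalIdeal R) ⊗ₜ[R] x a) := by
        rw [hspan]; trivial
      have hex : ∃ n ∈ Submodule.span R (Set.range x),
          (1 : R ⧸ IsLocalRing.maximalIdeal R) ⊗ₜ[R] n =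
            (1 : R ⧸ IsLocalRing.maximalIdeal R) ⊗ₜ[R] z := by
        refine Submodule.span_induction
          (p := fun t _ => ∃ n ∈ Submodule.span R (Set.range x),
            (1 : R ⧸ IsLocalRing.maximalIdeal R) ⊗ₜ[R] n = t) ?_ ?_ ?_ ?_ hmem
        · rintro _ ⟨a, rfl⟩
          exact ⟨x a, Submodule.subset_span ⟨a, rfl⟩, rfl⟩
        · exact ⟨0, Submodule.zero_mem _, TensorProduct.tmul_zero _ _⟩
        · rintro _ _ _ _ ⟨n₁, hn₁, rfl⟩ ⟨n₂, hn₂, rfl⟩
          exact ⟨n₁ + n₂, Submodule.add_mem _ hn₁ hn₂, TensorProduct.tmul_add _ _ _⟩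
        · rintro c _ _ ⟨n, hn, rfl⟩
          obtain ⟨c, rfl⟩ := Ideal.Quotient.mk_surjective c
          refine ⟨c • n, Submodule.smul_mem _ c hn, ?_⟩
          rw [← TensorProduct.smul_tmul, TensorProduct.smul_tmul', Algebra.smul_def, mul_one,
            smul_eq_mul, mul_one]
          rfl
      obtain ⟨n, hn, hnz⟩ := hex
      have hz : z - n ∈ IsLocalRing.maximalIdeal R • (⊤ : Submodule R M) := by
        apply hker
        rw [TensorProduct.tmul_sub, hnz, sub_self]
      have : z = n + (z - n) := by abel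
      rw [this]
      exact Submodule.add_mem_sup hn hz
    have hspanR : Submodule.span R (Set.range x) = ⊤ :=
      Groth.Agent.S2563.nak_top (IsLocalRing.maximalIdeal R) hnil _ hsup
    refine ⟨?_, hspanR⟩
    -- linear independence
    let ψ : A → M →ₗ[R] (R ⧸ IsLocalRing.maximalIdeal R) := fun k =>
      ((b.coord k).restrictScalars R) ∘ₗ
        (TensorProduct.mk R (R ⧸ IsLocalRing.maximalIdeal R) M 1)
    have hψ : ∀ k l, ψ k (x l) = if l = k then 1 else 0 := by
      intro k l
      simp only [ψ, LinearMap.comp_apply, LinearMap.restrictScalars_apply,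
        TensorProduct.mk_apply]
      rw [← hb l, Module.Basis.coord_apply, Module.Basis.repr_self, Finsupp.single_apply]
    exact Groth.Agent.S4853.key_injective_flat (IsLocalRing.maximalIdeal R) hnil x hspanR ψ hψ

end Groth.Agent.S6350
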