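import Groth.Statements.S6351
import Mathlib
-- import your own Groth.Agent.* helpers here

set_option autoImplicit false
universe u
open scoped TensorProduct
open CAlg

namespace Groth.Agent.S6351

open Function

/-- Nakayama for a nilpotent ideal. -/
theorem nak {R : Type*} [CommRing R] (I : Ideal R) (hI : IsNilpotent I) {N : Type*}
    [AddCommGroup N] [Module R N]
    (P : Submodule R N) (h : P ⊔ I • (⊤ : Submodule R N) = ⊤) : P = ⊤ := by
  obtain ⟨k, hk⟩ := hI
  have key : ∀ j : ℕ, P ⊔ I ^ j • (⊤ : Submodule R N) = ⊤ := by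
    intro j
    induction j with
    | zero => rw [pow_zero, Ideal.one_eq_top, Submodule.top_smul, sup_top_eq]
    | succ j ih =>
      have hle : I ^ j • (⊤ : Submodule R N) ≤ P ⊔ I ^ (j + 1) • (⊤ : Submodule R N) := by
        calc I ^ j • (⊤ : Submodule R N) = I ^ j • (P ⊔ I • (⊤ : Submodule R N)) := by rw [h]
          _ = I ^ j • P ⊔ I ^ j • (I • (⊤ : Submodule R N)) := Submodule.smul_sup _ _ _
          _ ≤ P ⊔ I ^ (j + 1) • (⊤ : Submodule R N) := by
              refine sup_le_sup Submodule.smul_le_right ?_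
              rw [← Submodule.mul_smul, pow_succ]
      apply le_antisymm le_top
      calc (⊤ : Submodule R N) = P ⊔ I ^ j • (⊤ : Submodule R N) := ih.symm
        _ ≤ P ⊔ I ^ (j + 1) • (⊤ : Submodule R N) := sup_le le_sup_left hle
  have := key k
  rwa [hk, Ideal.zero_eq_bot, Submodule.bot_smul, sup_bot_eq] at this

/-- If `(R/I) ⊗ N = 0` with `I` nilpotent then `N = 0`. -/
theorem eq_zero_of_tensor {R : Type*} [CommRing R] (I : Ideal R) (hI : IsNilpotent I) {N : Type*}
    [AddCommGroup N] [Module R N]
    (h : ∀ w : (R ⧸ I) ⊗[R] N, w = 0) : ∀ n : N, n = 0 := by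
  have h1 : I • (⊤ : Submodule R N) = ⊤ := by
    rw [← LinearMap.ker_tensorProductMk (R := R) (Q := N) (I := I), LinearMap.ker_eq_top]
    ext n
    exact h _
  have h2 : (⊥ : Submodule R N) = ⊤ := nak I hI ⊥ (by rw [bot_sup_eq, h1])
  intro n
  have : n ∈ (⊥ : Submodule R N) := h2 ▸ Submodule.mem_top
  simpa using this

theorem aux (R : Type u) [CommRing R] (I : Ideal R) (hI : IsNilpotent I) (M : Type u)
    [AddCommGroup M] [Module R M]
    (htor : Injective ((Submodule.subtype I).rTensor M))
    {F K : Type u} [AddCommGroup F] [Module R F] [AddCommGroup K] [Module R K]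
    (ι : K →ₗ[R] F) (φ : F →ₗ[R] M) (hι : Injective ι) (hex : Function.Exact ι φ)
    (hinj : Injective (φ.lTensor (R ⧸ I))) (hsurj : Surjective (φ.lTensor (R ⧸ I))) :
    Injective φ ∧ Surjective φ := by
  -- surjectivity
  have hφs : Surjective φ := by
    have hC : ∀ c : M ⧸ LinearMap.range φ, c = 0 := by
      apply eq_zero_of_tensor I hI
      intro w
      obtain ⟨y, rfl⟩ := LinearMap.lTensor_surjective (R ⧸ I)
        (Submodule.mkQ_surjective (LinearMap.range φ)) w
      obtain ⟨z, rfl⟩ := hsurj y
      rw [← LinearMap.comp_apply, ← LinearMap.lTensor_comp]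
      have : (LinearMap.range φ).mkQ ∘ₗ φ = 0 := by
        ext f
        simp
      rw [this, LinearMap.lTensor_zero, LinearMap.zero_apply]
    intro m
    have := hC (Submodule.Quotient.mk m)
    rw [Submodule.Quotient.mk_eq_zero] at this
    exact this
  refine ⟨?_, hφs⟩
  -- injectivity
  have hginj : Injective (ι.lTensor R) :=
    Module.Flat.lTensor_preserves_injective_linearMap (M := R) ι hι
  have hTI : Injective (ι.lTensor (R ⧸ I)) :=
    lTensor_injective_of_exact_of_exact_of_rTensor_injective
      (LinearMap.exact_subtype_mkQ I) (Submodule.mkQ_surjective I) hex hφs htor hginj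
  have hK : ∀ k : K, k = 0 := by
    apply eq_zero_of_tensor I hI
    intro w
    apply hTI
    apply hinj
    rw [map_zero, map_zero, ← LinearMap.comp_apply, ← LinearMap.lTensor_comp]
    have : φ ∘ₗ ι = 0 := by
      ext k
      exact hex.apply_apply_eq_zero k
    rw [this, LinearMap.lTensor_zero, LinearMap.zero_apply]
  rw [injective_iff_map_eq_zero]
  intro f hf
  obtain ⟨k, rfl⟩ := (hex f).mp hf
  rw [hK k, map_zero]

/-- Let I be a nilpotent ideal of a commutative ring R and M an R-module with Tor_1^R(R/I, M) = 0, i.e.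
I ⊗_R M → M injective. If a family of elements of M maps to a basis of the R/I-module M/IM = R/I ⊗
M, then it is a basis of M over R. -/
theorem result (R : Type u) [CommRing R] (I : Ideal R)
    (hI : IsNilpotent I) (M : Type u) [AddCommGroup M] [Module R M]
    (htor : Function.Injective ((Submodule.subtype I).rTensor M)) {A : Type u} (x : A → M)
    (hli : LinearIndependent (R ⧸ I) (fun a => (1 : R ⧸ I) ⊗ₜ[R] x a))
    (hsp : Submodule.span (R ⧸ I) (Set.range fun a => (1 : R ⧸ I) ⊗ₜ[R] x a) = ⊤) :
    LinearIndependent R x ∧ Submodule.span R (Set.range x) = ⊤ := by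
  classical
  have hfun : ⇑(Finsupp.linearCombination (R ⧸ I) (fun a => (1 : R ⧸ I) ⊗ₜ[R] x a)) =
      ⇑((Finsupp.linearCombination R x).lTensor (R ⧸ I)) ∘
        ⇑(TensorProduct.finsuppScalarRight R R (R ⧸ I) A).symm := by
    have := Finsupp.linearCombination_one_tmul R (R ⧸ I) M A (v := x)
    ext t
    exact LinearMap.congr_fun this t
  have hinj : Injective ((Finsupp.linearCombination R x).lTensor (R ⧸ I)) := by
    have h1 : Injective (Finsupp.linearCombination (R ⧸ I) (fun a => (1 : R ⧸ I) ⊗ₜ[R] x a)) := hli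
    rw [hfun] at h1
    intro a b hab
    obtain ⟨a', rfl⟩ := (TensorProduct.finsuppScalarRight R R (R ⧸ I) A).symm.surjective a
    obtain ⟨b', rfl⟩ := (TensorProduct.finsuppScalarRight R R (R ⧸ I) A).symm.surjective b
    rw [h1 hab]
  have hsurj : Surjective ((Finsupp.linearCombination R x).lTensor (R ⧸ I)) := by
    have h1 : Surjective (Finsupp.linearCombination (R ⧸ I) (fun a => (1 : R ⧸ I) ⊗ₜ[R] x a)) := by
      rw [← LinearMap.range_eq_top, Finsupp.range_linearCombination, hsp]
    rw [hfun] at h1
    exact h1.of_comp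
  obtain ⟨h1, h2⟩ := aux R I hI M htor (K := ↥(LinearMap.ker (Finsupp.linearCombination R x)))
    (LinearMap.ker (Finsupp.linearCombination R x)).subtype (Finsupp.linearCombination R x)
    (Submodule.injective_subtype _) (LinearMap.exact_subtype_ker_map _) hinj hsurj
  refine ⟨h1, ?_⟩
  rw [← Finsupp.range_linearCombination, LinearMap.range_eq_top]
  exact h2

end Groth.Agent.S6351
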