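import Groth.Statements.S6353
import Mathlib

set_option autoImplicit false
universe u
open CAlg

namespace Groth.Agent.S6353

open PrimeSpectrum in
/-- For a commutative ring R, I ↦ V(I) is a bijection between pure ideals (R/I flat over R) and closed
subsets of Spec R stable under generalization. Stated here as: V(I) is stable under generalization
for I pure, and every closed generalization-stable subset is V(I) for some pure I (injectivity on
pure ideals being the standard fact that pure ideals with the same zero locus coincide). -/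
theorem result (R : Type u) [CommRing R] :
    (∀ I : Ideal R, I.Pure → StableUnderGeneralization (zeroLocus (I : Set R))) ∧
      ∀ Z : Set (PrimeSpectrum R), IsClosed Z → StableUnderGeneralization Z →
        ∃ I : Ideal R, I.Pure ∧ zeroLocus (I : Set R) = Z := by
  constructor
  · intro I hI x y hyx hx
    rw [mem_zeroLocus] at hx ⊢
    have hle : y.asIdeal ≤ x.asIdeal := (PrimeSpectrum.le_iff_specializes y x).2 hyx
    intro a ha
    haveI : I.Pure := hI
    obtain ⟨b, hb, hab⟩ := Ideal.exists_eq_mul_of_pure (I := I) ha
    have h0 : a * (1 - b) = 0 := by linear_combination hab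
    have h1 : a * (1 - b) ∈ y.asIdeal := h0 ▸ y.asIdeal.zero_mem
    rcases y.2.mem_or_mem h1 with h | h
    · exact h
    · exfalso
      refine x.2.ne_top ((Ideal.eq_top_iff_one _).2 ?_)
      have := x.asIdeal.add_mem (hle h) (hx hb)
      simpa using this
  · intro Z hZc hZg
    set J : Ideal R := vanishingIdeal Z with hJ
    have hZJ : zeroLocus (J : Set R) = Z := by
      rw [hJ, zeroLocus_vanishingIdeal_eq_closure, hZc.closure_eq]
    let I : Ideal R :=
      { carrier := {x | ∃ y ∈ J, x = x * y}
        zero_mem' := ⟨0, J.zero_mem, by simp⟩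
        add_mem' := by
          rintro x x' ⟨y, hy, hx⟩ ⟨y', hy', hx'⟩
          refine ⟨y + y' - y * y', J.sub_mem (J.add_mem hy hy') (J.mul_mem_left _ hy'), ?_⟩
          linear_combination (1 - y') * hx + (1 - y) * hx'
        smul_mem' := by
          rintro c x ⟨y, hy, hx⟩
          refine ⟨y, hy, ?_⟩
          show c * x = c * x * y
          rw [mul_assoc, ← hx] }
    have hIJ : I ≤ J := by
      rintro x ⟨y, hy, hx⟩
      rw [hx]
      exact J.mul_mem_left x hy
    have hZI : zeroLocus (I : Set R) = Z := by
      apply Set.Subset.antisymm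
      · intro p hp
        rw [mem_zeroLocus] at hp
        by_contra hpZ
        let S' : Submonoid R :=
          { carrier := {z | ∃ s, s ∉ p.asIdeal ∧ ∃ y ∈ J, z = s * (1 + y)}
            one_mem' := ⟨1, fun h => p.2.ne_top ((Ideal.eq_top_iff_one _).2 h), 0, J.zero_mem,
              by simp⟩
            mul_mem' := by
              rintro _ _ ⟨s, hs, y, hy, rfl⟩ ⟨s', hs', y', hy', rfl⟩
              refine ⟨s * s', fun h => (p.2.mem_or_mem h).elim hs hs', y + y' + y * y',
                J.add_mem (J.add_mem hy hy') (J.mul_mem_left _ hy'), ?_⟩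
              ring }
        by_cases h0 : (0 : R) ∈ S'
        · obtain ⟨s, hs, y, hy, h⟩ := h0
          refine hs (hp ⟨-y, J.neg_mem hy, ?_⟩)
          linear_combination (-1 : R) * h
        · have hdisj : Disjoint ((⊥ : Ideal R) : Set R) (S' : Set R) := by
            rw [Set.disjoint_left]
            intro z hz hz'
            have : z = 0 := hz
            exact h0 (this ▸ hz')
          obtain ⟨q, hq, -, hqd⟩ := Ideal.exists_le_prime_disjoint _ _ hdisj
          have hqp : q ≤ p.asIdeal := by
            intro z hz
            by_contra hzp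
            exact Set.disjoint_left.1 hqd hz ⟨z, hzp, 0, J.zero_mem, by simp⟩
          have hqJ : q ⊔ J ≠ ⊤ := by
            intro htop
            have h1 : (1 : R) ∈ q ⊔ J := htop ▸ Submodule.mem_top
            obtain ⟨a, ha, y, hy, hay⟩ := Submodule.mem_sup.1 h1
            refine Set.disjoint_left.1 hqd ha ⟨1, fun h => p.2.ne_top
              ((Ideal.eq_top_iff_one _).2 h), -y, J.neg_mem hy, ?_⟩
            linear_combination hay
          obtain ⟨m, hm, hle⟩ := Ideal.exists_le_maximal _ hqJ
          have hmZ : (⟨m, hm.isPrime⟩ : PrimeSpectrum R) ∈ Z := by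
            rw [← hZJ, mem_zeroLocus]
            exact fun z hz => hle (Ideal.mem_sup_right hz)
          have hqm : (⟨q, hq⟩ : PrimeSpectrum R) ⤳ ⟨m, hm.isPrime⟩ :=
            (PrimeSpectrum.le_iff_specializes _ _).1
              (show q ≤ m from fun z hz => hle (Ideal.mem_sup_left hz))
          have hqZ : (⟨q, hq⟩ : PrimeSpectrum R) ∈ Z := hZg hqm hmZ
          have hqp' : (⟨q, hq⟩ : PrimeSpectrum R) ⤳ p :=
            (PrimeSpectrum.le_iff_specializes _ _).1 hqp
          exact hpZ (hZc.stableUnderSpecialization hqp' hqZ)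
      · rw [← hZJ]
        exact zeroLocus_anti_mono hIJ
    refine ⟨I, ?_, hZI⟩
    refine Ideal.Pure.of_inf_eq_mul I (fun K _ => le_antisymm ?_ Ideal.mul_le_inf)
    rintro x ⟨hxI, hxK⟩
    obtain ⟨y, hy, hxy⟩ := hxI
    have htop : I ⊔ Ideal.span {1 - y} = ⊤ := by
      by_contra hne
      obtain ⟨m, hm, hle⟩ := Ideal.exists_le_maximal _ hne
      have hmZ : (⟨m, hm.isPrime⟩ : PrimeSpectrum R) ∈ zeroLocus (I : Set R) := by
        rw [mem_zeroLocus]
        exact fun z hz => hle (Ideal.mem_sup_left hz)
      rw [hZI, ← hZJ, mem_zeroLocus] at hmZ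
      have h1 : y ∈ m := hmZ hy
      have h2 : 1 - y ∈ m := hle (Ideal.mem_sup_right (Ideal.mem_span_singleton_self _))
      refine hm.ne_top ((Ideal.eq_top_iff_one _).2 ?_)
      have := m.add_mem h1 h2
      simpa using this
    have h1 : (1 : R) ∈ I ⊔ Ideal.span {1 - y} := htop ▸ Submodule.mem_top
    obtain ⟨a, ha, c, hc, hac⟩ := Submodule.mem_sup.1 h1
    obtain ⟨b, rfl⟩ := Ideal.mem_span_singleton'.1 hc
    have hx : x = a * x := by
      linear_combination (-x) * hac + b * hxy
    rw [hx]
    exact Ideal.mul_mem_mul ha hxK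

end Groth.Agent.S6353
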