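import Groth.Statements.S6354
import Mathlib.RingTheory.Ideal.Pure
import Mathlib.RingTheory.Ideal.IdempotentFG

set_option autoImplicit false
universe u
open CAlg

namespace Groth.Agent.S6354

open PrimeSpectrum in
/-- For an ideal I of a commutative ring R these four conditions are equivalent: (1) I is finitely
generated and pure; (2) I = (e) for some idempotent e; (3) I is pure with V(I) open in Spec R; (4)
R/I is projective as an R-module. -/
theorem result (R : Type u) [CommRing R] (I : Ideal R) :
    List.TFAE [I.Pure ∧ I.FG, ∃ e : R, IsIdempotentElem e ∧ I = Ideal.span {e},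
      I.Pure ∧ IsOpen (zeroLocus (I : Set R)), Module.Projective R (R ⧸ I)] := by
  have pure_span : ∀ e : R, IsIdempotentElem e → (Ideal.span {e}).Pure := by
    intro e he
    refine Ideal.Pure.of_isIdempotentElem (Submodule.fg_span_singleton e) ?_
    rw [IsIdempotentElem, Ideal.span_singleton_mul_span_singleton, he.eq]
  tfae_have 1 → 2 := by
    rintro ⟨hp, hfg⟩
    have := hp
    exact (Ideal.isIdempotentElem_iff_of_fg I hfg).mp (Ideal.isIdempotentElem_of_pure I)
  tfae_have 2 → 3 := by
    rintro ⟨e, he, rfl⟩
    refine ⟨pure_span e he, ?_⟩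
    rw [PrimeSpectrum.zeroLocus_span, PrimeSpectrum.zeroLocus_eq_basicOpen_of_isIdempotentElem e he]
    exact (PrimeSpectrum.basicOpen (1 - e)).2
  tfae_have 3 → 2 := by
    rintro ⟨hp, hopen⟩
    have hclopen : IsClopen (zeroLocus (I : Set R)) := ⟨PrimeSpectrum.isClosed_zeroLocus _, hopen⟩
    obtain ⟨e, he, hs⟩ := PrimeSpectrum.isClopen_iff_zeroLocus.mp hclopen
    refine ⟨e, he, ?_⟩
    have := hp
    have := pure_span e he
    apply Ideal.zeroLocus_inj_of_pure.mp
    rw [hs, PrimeSpectrum.zeroLocus_span]
  tfae_have 2 → 4 := by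
    rintro ⟨e, he, rfl⟩
    have hker : Ideal.span {e} ≤ LinearMap.ker (LinearMap.toSpanSingleton R R (1 - e)) := by
      rw [Ideal.span_le, Set.singleton_subset_iff]
      show e ∈ LinearMap.ker (LinearMap.toSpanSingleton R R (1 - e))
      rw [LinearMap.mem_ker, LinearMap.toSpanSingleton_apply, smul_eq_mul, mul_sub, mul_one,
        he.eq, sub_self]
    refine Module.Projective.of_split
      (Submodule.liftQ (Ideal.span {e}) (LinearMap.toSpanSingleton R R (1 - e)) hker)
      (Submodule.mkQ (Ideal.span {e})) ?_
    apply Submodule.linearMap_qext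
    ext
    simp only [LinearMap.coe_comp, Function.comp_apply, Submodule.mkQ_apply, Submodule.liftQ_apply,
      LinearMap.toSpanSingleton_apply, smul_eq_mul, one_mul, LinearMap.id_comp]
    rw [Submodule.Quotient.eq]
    have : 1 - e - 1 = -e := by ring
    rw [this]
    exact neg_mem (Ideal.mem_span_singleton_self e)
  tfae_have 4 → 1 := by
    intro hproj
    refine ⟨inferInstance, ?_⟩
    obtain ⟨s, hs⟩ := Module.projective_lifting_property (Submodule.mkQ I) LinearMap.id
      (Submodule.mkQ_surjective I)
    have hs' : ∀ y : R ⧸ I, Submodule.Quotient.mk (s y) = y := fun y => LinearMap.congr_fun hs y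
    have hI : I = Ideal.span {1 - s (Submodule.Quotient.mk 1)} := by
      apply le_antisymm
      · intro x hx
        rw [Ideal.mem_span_singleton']
        refine ⟨x, ?_⟩
        have h0 : (Submodule.Quotient.mk x : R ⧸ I) = 0 := (Submodule.Quotient.mk_eq_zero I).mpr hx
        have h1 : x * s (Submodule.Quotient.mk 1) = s (Submodule.Quotient.mk x) := by
          rw [← smul_eq_mul, ← map_smul, ← Submodule.Quotient.mk_smul, smul_eq_mul, mul_one]
        rw [mul_sub, mul_one, h1, h0, map_zero, sub_zero]
      · rw [Ideal.span_le, Set.singleton_subset_iff]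
        show 1 - s (Submodule.Quotient.mk 1) ∈ I
        rw [← Submodule.Quotient.mk_eq_zero I, Submodule.Quotient.mk_sub, hs', sub_self]
    rw [hI]
    exact Submodule.fg_span_singleton _
  tfae_finish

end Groth.Agent.S6354
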