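import Groth.Statements.S6360
import Groth.Agent.H34.FPColim
import Mathlib.LinearAlgebra.TensorProduct.DirectLimit
import Mathlib.Tactic

set_option autoImplicit false
universe u
open CAlg

namespace Groth.Agent.S6360

section Aux

open TensorProduct

theorem comm_sq {R : Type u} [CommRing R] {M N A B : Type u}
    [AddCommGroup M] [Module R M] [AddCommGroup N] [Module R N]
    [AddCommGroup A] [Module R A] [AddCommGroup B] [Module R B]
    (f : M →ₗ[R] N) (π : A →ₗ[R] B) (z : M ⊗[R] A) :
    f.rTensor B (π.lTensor M z) = π.lTensor N (f.rTensor A z) := by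
  rw [← LinearMap.comp_apply, ← LinearMap.comp_apply, LinearMap.rTensor_comp_lTensor,
    LinearMap.lTensor_comp_rTensor]

theorem dlr_lTensor_of {R : Type u} [CommRing R] {ι : Type u} [Preorder ι] [DecidableEq ι]
    (G : ι → Type u) [∀ i, AddCommGroup (G i)] [∀ i, Module R (G i)]
    (fm : ∀ i j, i ≤ j → G i →ₗ[R] G j)
    (P : Type u) [AddCommGroup P] [Module R P] {i : ι} (y : P ⊗[R] G i) :
    TensorProduct.directLimitRight fm P
        (LinearMap.lTensor P (Module.DirectLimit.of R ι G fm i) y) =
      Module.DirectLimit.of R ι (fun i => P ⊗[R] G i)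
        (fun i j h => LinearMap.lTensor P (fm i j h)) i y := by
  induction y using TensorProduct.induction_on with
  | zero => simp
  | tmul p g => simp
  | add a b ha hb => simp only [map_add, ha, hb]

theorem core {R : Type u} [CommRing R] {ι : Type u} [Preorder ι] [IsDirected ι (· ≤ ·)]
    [Nonempty ι] [DecidableEq ι]
    (G : ι → Type u) [∀ i, AddCommGroup (G i)] [∀ i, Module R (G i)]
    (fm : ∀ i j, i ≤ j → G i →ₗ[R] G j) [DirectedSystem G fun i j h => fm i j h]
    {Q : Type u} [AddCommGroup Q] [Module R Q] (e : Module.DirectLimit G fm ≃ₗ[R] Q)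
    {M N M' : Type u} [AddCommGroup M] [Module R M] [AddCommGroup N] [Module R N]
    [AddCommGroup M'] [Module R M']
    (f : M →ₗ[R] N) (g : M →ₗ[R] M')
    (h : ∀ i, LinearMap.ker (f.rTensor (G i)) ≤ LinearMap.ker (g.rTensor (G i))) :
    LinearMap.ker (f.rTensor Q) ≤ LinearMap.ker (g.rTensor Q) := by
  classical
  let π : ∀ i, G i →ₗ[R] Q := fun i =>
    (e : Module.DirectLimit G fm →ₗ[R] Q) ∘ₗ Module.DirectLimit.of R ι G fm i
  have hπ : ∀ i j (hij : i ≤ j), π j ∘ₗ fm i j hij = π i := by
    intro i j hij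
    ext x
    simp only [π, LinearMap.comp_apply, Module.DirectLimit.of_f]
  have K : ∀ (P : Type u) [AddCommGroup P] [Module R P] (i : ι) (y : P ⊗[R] G i),
      (LinearMap.lTensor P (π i)) y = 0 →
      ∃ j, ∃ hij : i ≤ j, LinearMap.lTensor P (fm i j hij) y = 0 := by
    intro P _ _ i y hy
    simp only [π] at hy
    rw [LinearMap.lTensor_comp, LinearMap.comp_apply] at hy
    have hinj : Function.Injective
        (LinearMap.lTensor P (e : Module.DirectLimit G fm →ₗ[R] Q)) :=
      (LinearEquiv.lTensor P e).injective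
    have h0 : LinearMap.lTensor P (Module.DirectLimit.of R ι G fm i) y = 0 :=
      hinj (by rw [hy, map_zero])
    have h1 := dlr_lTensor_of G fm P y
    rw [h0, map_zero] at h1
    exact Module.DirectLimit.of.zero_exact h1.symm
  have A : ∀ x : M ⊗[R] Q, ∃ i, ∃ xi : M ⊗[R] G i, LinearMap.lTensor M (π i) xi = x := by
    intro x
    obtain ⟨i, xi, hxi⟩ := Module.DirectLimit.exists_of
      (TensorProduct.directLimitRight fm M
        (LinearMap.lTensor M (e.symm : Q →ₗ[R] Module.DirectLimit G fm) x))
    refine ⟨i, xi, ?_⟩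
    rw [← dlr_lTensor_of G fm M xi] at hxi
    have h2 := (TensorProduct.directLimitRight fm M).injective hxi
    simp only [π]
    rw [LinearMap.lTensor_comp, LinearMap.comp_apply, h2, ← LinearMap.comp_apply,
      ← LinearMap.lTensor_comp]
    have : (e : Module.DirectLimit G fm →ₗ[R] Q) ∘ₗ
        (e.symm : Q →ₗ[R] Module.DirectLimit G fm) = LinearMap.id := by
      ext q; simp
    rw [this, LinearMap.lTensor_id, LinearMap.id_apply]
  intro x hx
  rw [LinearMap.mem_ker] at hx ⊢
  obtain ⟨i, xi, rfl⟩ := A x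
  rw [comm_sq] at hx
  obtain ⟨j, hij, hj⟩ := K N i _ hx
  have hxj : f.rTensor (G j) (LinearMap.lTensor M (fm i j hij) xi) = 0 := by
    rw [comm_sq]; exact hj
  have hgj : g.rTensor (G j) (LinearMap.lTensor M (fm i j hij) xi) = 0 :=
    LinearMap.mem_ker.mp (h j (LinearMap.mem_ker.mpr hxj))
  rw [← hπ i j hij, LinearMap.lTensor_comp, LinearMap.comp_apply, comm_sq, hgj, map_zero]

end Aux

/-- For maps of R-modules f : M → N and g : M → M', g dominates f (the kernel of f ⊗ id_Q is contained
in that of g ⊗ id_Q for every module Q) if and only if this containment holds for every finitely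
presented module Q. -/
theorem result (R : Type u) [CommRing R] {M N M' : Type u}
    [AddCommGroup M] [Module R M] [AddCommGroup N] [Module R N] [AddCommGroup M'] [Module R M']
    (f : M →ₗ[R] N) (g : M →ₗ[R] M') :
    (∀ (Q : Type u) [AddCommGroup Q] [Module R Q], LinearMap.ker (f.rTensor Q) ≤ LinearMap.ker (g.rTensor Q)) ↔
      ∀ (Q : Type u) [AddCommGroup Q] [Module R Q], Module.FinitePresentation R Q →
        LinearMap.ker (f.rTensor Q) ≤ LinearMap.ker (g.rTensor Q) := by
  constructor
  · intro h Q _ _ _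
    exact h Q
  · intro h Q _ _
    obtain ⟨ι, _, _, _, _, G, _, _, fm, _, hfp, ⟨e⟩⟩ := Groth.Agent.H34.FPColim.main R Q
    exact core G fm e f g (fun i => h (G i) (hfp i))

end Groth.Agent.S6360
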