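import Groth.Statements.S6362
import Mathlib

set_option autoImplicit false
set_option linter.style.haveILetI false
universe u
open scoped TensorProduct
open Fields

namespace Groth.Agent.S6362

section aux
variable {F K L : Type u} [Field F] [Field K] [Field L]
    [Algebra F K] [Algebra F L]

/-- The `L`-algebra map `L ⊗ K → (σ → L)`. -/
noncomputable def Φ' : L ⊗[F] K →ₐ[L] ((K →ₐ[F] L) → L) :=
  Algebra.TensorProduct.lift (Algebra.ofId L _)
    (AlgHom.pi (fun σ : K →ₐ[F] L => σ)) (fun _ _ => Commute.all _ _)

theorem Φ'_tmul (b : L) (a : K) (σ : K →ₐ[F] L) :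
    (Φ' (F := F) (K := K) (L := L)) (b ⊗ₜ a) σ = b * σ a := by
  simp [Φ', Algebra.ofId_apply]

theorem Φ'_surjective [FiniteDimensional F K] :
    Function.Surjective (Φ' (F := F) (K := K) (L := L)) := by
  classical
  haveI : Fintype (K →ₐ[F] L) := inferInstance
  by_contra hns
  have hlt : LinearMap.range (Φ' (F := F) (K := K) (L := L)).toLinearMap < ⊤ := by
    rw [lt_top_iff_ne_top]
    intro h
    apply hns
    intro y
    have : y ∈ LinearMap.range (Φ' (F := F) (K := K) (L := L)).toLinearMap := by rw [h]; trivial
    obtain ⟨x, hx⟩ := this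
    exact ⟨x, hx⟩
  obtain ⟨f, hf0, hle⟩ := Submodule.exists_le_ker_of_lt_top _ hlt
  apply hf0
  set c : (K →ₐ[F] L) → L := fun σ => f (fun j => if σ = j then 1 else 0) with hc
  have hsum : ∑ σ : K →ₐ[F] L, c σ • (σ.toLinearMap : K →ₗ[F] L) = 0 := by
    apply LinearMap.ext
    intro a
    have h1 : (Φ' (F := F) (K := K) (L := L)) ((1 : L) ⊗ₜ a) ∈
        LinearMap.range (Φ' (F := F) (K := K) (L := L)).toLinearMap := ⟨(1 : L) ⊗ₜ a, rfl⟩
    have h2 := hle h1
    rw [LinearMap.mem_ker, LinearMap.pi_apply_eq_sum_univ] at h2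
    simp only [LinearMap.sum_apply, LinearMap.smul_apply, AlgHom.toLinearMap_apply,
      LinearMap.zero_apply, smul_eq_mul]
    rw [← h2]
    apply Finset.sum_congr rfl
    intro σ _
    rw [Φ'_tmul, one_mul, smul_eq_mul, mul_comm]
  have hc0 := Fintype.linearIndependent_iff.mp (linearIndependent_toLinearMap F K L) c hsum
  apply LinearMap.ext
  intro v
  rw [LinearMap.pi_apply_eq_sum_univ]
  simp only [LinearMap.zero_apply]
  apply Finset.sum_eq_zero
  intro σ _
  have := hc0 σ
  simp only [hc] at this
  rw [this, smul_zero]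

theorem Φ'_bijective [FiniteDimensional F K] [Algebra.IsSeparable F K] [IsAlgClosed L] :
    Function.Bijective (Φ' (F := F) (K := K) (L := L)) := by
  classical
  have hrank : Module.finrank L (L ⊗[F] K) = Module.finrank L ((K →ₐ[F] L) → L) := by
    rw [Module.finrank_baseChange, Module.finrank_fintype_fun_eq_card, AlgHom.card]
  have hiff := LinearMap.injective_iff_surjective_of_finrank_eq_finrank hrank
    (f := (Φ' (F := F) (K := K) (L := L)).toLinearMap)
  exact ⟨hiff.mpr Φ'_surjective, Φ'_surjective⟩

end aux

/-- Let K/F be a finite separable extension and L/F an extension with L algebraically closed. Then the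
L-algebra map K ⊗_F L → ∏_σ L, indexed by the F-algebra maps σ : K → L and sending a ⊗ b to (σ(a)
b)_σ, is an isomorphism; stated as bijectivity of that map. -/
theorem result {F K L : Type u} [Field F] [Field K] [Field L]
    [Algebra F K] [Algebra F L] [FiniteDimensional F K] [Algebra.IsSeparable F K] [IsAlgClosed L] :
    Function.Bijective (fun x : K ⊗[F] L => fun σ : K →ₐ[F] L =>
      Algebra.TensorProduct.lift σ (AlgHom.id F L) (fun a b => Commute.all (σ a) b) x) := by
  have heq : (fun x : K ⊗[F] L => fun σ : K →ₐ[F] L =>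
      Algebra.TensorProduct.lift σ (AlgHom.id F L) (fun a b => Commute.all (σ a) b) x) =
      (Φ' (F := F) (K := K) (L := L)) ∘ (TensorProduct.comm F K L) := by
    funext x σ
    induction x using TensorProduct.induction_on with
    | zero => simp
    | tmul a b =>
      simp only [Function.comp_apply, TensorProduct.comm_tmul]
      rw [Φ'_tmul, mul_comm]
      rfl
    | add x y hx hy =>
      simp only [Function.comp_apply, map_add, Pi.add_apply] at hx hy ⊢
      rw [hx, hy]
  rw [heq]
  exact Φ'_bijective.comp (TensorProduct.comm F K L).bijective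

end Groth.Agent.S6362
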