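import Groth.Statements.S6363
import Mathlib

set_option autoImplicit false
universe u
open scoped TensorProduct
open Fields

namespace Groth.Agent.S6363


section aux
variable {K L M : Type u} [Field K] [Field L] [Field M] [Algebra K L] [Algebra K M]
  {n : ℕ} (e : Fin n → (L →ₐ[K] M))

noncomputable def mm : MultilinearMap K (fun _ : Fin n => L) M :=
  (MultilinearMap.mkPiAlgebra K (Fin n) M).compLinearMap (fun i => (e i).toLinearMap)

theorem mm_apply (x : Fin n → L) : mm e x = ∏ i, e i (x i) := by
  simp [mm, MultilinearMap.compLinearMap_apply, MultilinearMap.mkPiAlgebra_apply]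

theorem mm_one : mm e 1 = 1 := by
  rw [mm_apply]
  simp

theorem mm_mul (x y : Fin n → L) : mm e (x * y) = mm e x * mm e y := by
  rw [mm_apply, mm_apply, mm_apply, ← Finset.prod_mul_distrib]
  apply Finset.prod_congr rfl
  intro i _
  rw [Pi.mul_apply, map_mul]

noncomputable def ff : (⨂[K] _ : Fin n, L) →ₐ[K] M :=
  PiTensorProduct.liftAlgHom (mm e) (mm_one e) (mm_mul e)

theorem ff_single (i : Fin n) (a : L) :
    ff e (PiTensorProduct.singleAlgHom (R := K) (A := fun _ : Fin n => L) i a) = e i a := by
  rw [ff, PiTensorProduct.liftAlgHom_apply, PiTensorProduct.singleAlgHom_apply,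
    PiTensorProduct.lift.tprod, mm_apply]
  rw [Fintype.prod_eq_single i]
  · simp
  · intro j hj
    simp [Pi.mulSingle_eq_of_ne hj]

end aux


/-- For a finite field extension L/K and a normal closure M of L/K, some K-algebra homomorphism from the
n-fold tensor power L ⊗_K ⋯ ⊗_K L to M is surjective, where n = [L : K]_s is the separable degree
(so n ≤ [L : K]). -/
theorem result {K L M : Type u} [Field K] [Field L] [Field M]
    [Algebra K L] [Algebra K M] [Algebra L M] [IsScalarTower K L M] [FiniteDimensional K L]
    [IsNormalClosure K L M] :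
    ∃ f : (⨂[K] _ : Fin (Field.finSepDegree K L), L) →ₐ[K] M, Function.Surjective f := by
  classical
  have hnc : IsNormalClosure K L M := inferInstance
  have hsplits := hnc.splits
  have htop : IntermediateField.normalClosure K L M = ⊤ := (Algebra.IsAlgebraic.isNormalClosure_iff.mp hnc).2
  have hcard : Field.finSepDegree K L = Nat.card (L →ₐ[K] M) :=
    Field.finSepDegree_eq_of_adjoin_splits K L M (IntermediateField.adjoin_univ K L)
      (fun s _ => ⟨Algebra.IsIntegral.isIntegral s, hsplits s⟩)
  obtain ⟨e⟩ : Nonempty (Fin (Field.finSepDegree K L) ≃ (L →ₐ[K] M)) := by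
    rw [hcard]; exact ⟨(Finite.equivFin _).symm⟩
  have hnormal : Normal K M := IsNormalClosure.normal (K := L)
  have halg : Algebra.IsAlgebraic K M := inferInstance
  refine ⟨ff (fun i => e i), ?_⟩
  let R : Subalgebra K M := (ff (fun i => e i)).range
  let Fld : IntermediateField K M := R.toIntermediateField
    (fun x hx => R.inv_mem_of_algebraic (x := ⟨x, hx⟩) (Algebra.IsAlgebraic.isAlgebraic x))
  have hle : ∀ σ : L →ₐ[K] M, σ.fieldRange ≤ Fld := by
    intro σ m hm
    obtain ⟨a, rfl⟩ := hm
    change σ a ∈ (ff (fun i => e i)).range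
    refine ⟨PiTensorProduct.singleAlgHom (R := K) (A := fun _ : Fin _ => L) (e.symm σ) a, ?_⟩
    change ff (fun i => e i) (PiTensorProduct.singleAlgHom (R := K) (A := fun _ : Fin _ => L)
      (e.symm σ) a) = σ a
    rw [ff_single]
    simp
  have htop' : (⊤ : IntermediateField K M) ≤ Fld := by
    rw [← htop, normalClosure_def]
    exact iSup_le hle
  intro m
  have hm : m ∈ Fld := htop' IntermediateField.mem_top
  exact hm

end Groth.Agent.S6363
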