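import Groth.Statements.S6364
import Mathlib.LinearAlgebra.Charpoly.ToMatrix
import Mathlib.LinearAlgebra.Matrix.Charpoly.Minpoly

set_option autoImplicit false
universe u
open Fields

namespace Groth.Agent.S6364


theorem charpoly_blockDiagonal_const {R : Type*} [CommRing R] {n o : Type*} [Fintype n]
    [DecidableEq n] [Fintype o] [DecidableEq o] (M : Matrix n n R) :
    (Matrix.blockDiagonal (fun _ : o => M)).charpoly = M.charpoly ^ Fintype.card o := by
  have h : Matrix.charmatrix (Matrix.blockDiagonal (fun _ : o => M)) =
      Matrix.blockDiagonal (fun _ : o => Matrix.charmatrix M) := by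
    ext ⟨i, k⟩ ⟨j, k'⟩
    simp only [Matrix.charmatrix_apply, Matrix.blockDiagonal_apply', Matrix.diagonal_apply,
      Prod.mk.injEq]
    by_cases hk : k = k'
    · subst hk
      by_cases hij : i = j <;> simp [hij]
    · simp [hk]
  rw [Matrix.charpoly, h, Matrix.det_blockDiagonal, Finset.prod_const, Finset.card_univ]
  rfl

open IntermediateField in
/-- Let L/K be a finite extension and a ∈ L with minimal polynomial P over K. Then P ^ e, with e = [L :
K(a)], is the characteristic polynomial of multiplication by a (the K-linear map x ↦ a x on L), and
e · deg P = [L : K]. -/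
theorem result {K L : Type u} [Field K] [Field L] [Algebra K L] [FiniteDimensional K L]
    (a : L) :
    (Algebra.lmul K L a).charpoly = minpoly K a ^ Module.finrank K⟮a⟯ L ∧
      Module.finrank K⟮a⟯ L * (minpoly K a).natDegree = Module.finrank K L := by
  classical
  have hint : IsIntegral K a := Algebra.IsIntegral.isIntegral a
  constructor
  · let pb := IntermediateField.adjoin.powerBasis hint
    let c := Module.finBasis K⟮a⟯ L
    have h1 : (Algebra.lmul K L a).charpoly =
        (Algebra.leftMulMatrix (pb.basis.smulTower c) a).charpoly := by
      rw [Algebra.leftMulMatrix_apply]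
      exact (LinearMap.charpoly_toMatrix (Algebra.lmul K L a) (pb.basis.smulTower c)).symm
    have h2 : algebraMap K⟮a⟯ L pb.gen = a := by
      rw [IntermediateField.adjoin.powerBasis_gen, IntermediateField.AdjoinSimple.algebraMap_gen]
    have h3 := Algebra.smulTower_leftMulMatrix_algebraMap pb.basis c pb.gen
    rw [h2] at h3
    rw [h1, h3, charpoly_blockDiagonal_const,
      charpoly_leftMulMatrix, IntermediateField.adjoin.powerBasis_gen,
      IntermediateField.minpoly_gen, Fintype.card_fin]
  · rw [← IntermediateField.adjoin.finrank hint, mul_comm, Module.finrank_mul_finrank]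

end Groth.Agent.S6364
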