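import Groth.Statements.S6368


set_option autoImplicit false
universe u
open scoped TensorProduct
open CAlg

namespace Groth.Agent.S6368

/-- Let R → S be faithfully flat and M an R-module. If the S-module S ⊗_R M is countably generated then
M is countably generated. -/
theorem result (R S : Type u) [CommRing R] [CommRing S] [Algebra R S]
    [Module.FaithfullyFlat R S] (M : Type u) [AddCommGroup M] [Module R M]
    (h : CAlg.IsCountablyGenerated S (S ⊗[R] M)) : CAlg.IsCountablyGenerated R M := by
  classical
  obtain ⟨s, hs, hspan⟩ := h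
  choose F hF using fun y : S ⊗[R] M => TensorProduct.exists_finset y
  have hT : (⋃ y ∈ s, ((F y).image Prod.snd : Set M)).Countable :=
    hs.biUnion (fun y _ => Finset.countable_toSet _)
  refine ⟨_, hT, ?_⟩
  have hsurj : Function.Surjective (LinearMap.lTensor S
      (Submodule.span R (⋃ y ∈ s, ((F y).image Prod.snd : Set M))).subtype) := by
    have hr : LinearMap.range (LinearMap.baseChange S
        (Submodule.span R (⋃ y ∈ s, ((F y).image Prod.snd : Set M))).subtype) = ⊤ := by
      rw [eq_top_iff, ← hspan, Submodule.span_le]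
      intro y hy
      rw [SetLike.mem_coe, hF y]
      refine Submodule.sum_mem _ (fun i hi => ?_)
      have hi2 : i.2 ∈ Submodule.span R (⋃ y ∈ s, ((F y).image Prod.snd : Set M)) :=
        Submodule.subset_span (Set.mem_biUnion hy
          (Finset.mem_coe.2 (Finset.mem_image_of_mem Prod.snd hi)))
      exact ⟨i.1 ⊗ₜ[R] ⟨i.2, hi2⟩, by simp⟩
    intro z
    have hz : z ∈ LinearMap.range (LinearMap.baseChange S
        (Submodule.span R (⋃ y ∈ s, ((F y).image Prod.snd : Set M))).subtype) := by
      rw [hr]; trivial
    obtain ⟨w, hw⟩ := hz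
    exact ⟨w, hw⟩
  rw [Module.FaithfullyFlat.lTensor_surjective_iff_surjective] at hsurj
  rw [eq_top_iff]
  intro m _
  obtain ⟨w, rfl⟩ := hsurj m
  exact w.2

end Groth.Agent.S6368
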