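import Groth.Statements.S6369
import Mathlib.RingTheory.DedekindDomain.Ideal.Basic
import Mathlib.RingTheory.Ideal.Operations
import Mathlib.RingTheory.FractionalIdeal.Inverse
import Mathlib.Order.Preorder.Finite

set_option autoImplicit false
universe u
open CAlg

namespace Groth.Agent.S6369

open scoped nonZeroDivisors

/-- cancellation ideals -/
def Canc {S : Type*} [CommRing S] (I : Ideal S) : Prop :=
  ∀ J J' : Ideal S, I * J = I * J' → J = J'

theorem canc_of_mul_eq_span {S : Type*} [CommRing S] [IsDomain S] {I I' : Ideal S} {a : S}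
    (ha : a ≠ 0) (h : I * I' = Ideal.span {a}) : Canc I := by
  intro J J' hJ
  have h1 : Ideal.span {a} * J = Ideal.span {a} * J' := by
    rw [← h, mul_comm I I', mul_assoc, mul_assoc, hJ]
  exact (Ideal.span_singleton_mul_right_inj ha).mp h1

theorem map_multiset_prod' {R S : Type*} [CommRing R] [CommRing S] (f : R →+* S)
    (s : Multiset (Ideal R)) :
    Ideal.map f s.prod = (s.map (Ideal.map f)).prod := by
  induction s using Multiset.induction_on with
  | empty => simp [Ideal.one_eq_top, Ideal.map_top]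
  | cons a s ih =>
    rw [Multiset.prod_cons, Ideal.map_mul, ih, Multiset.map_cons, Multiset.prod_cons]

theorem prod_le_of_mem {S : Type*} [CommRing S] {s : Multiset (Ideal S)} {Q : Ideal S}
    (hQ : Q ∈ s) : s.prod ≤ Q :=
  Ideal.multiset_prod_le_inf.trans (Multiset.inf_le hQ)

theorem multiset_eq_of_prod_eq {S : Type*} [CommRing S] :
    ∀ (n : ℕ) (s t : Multiset (Ideal S)), s.card = n →
      (∀ P ∈ s, P.IsPrime ∧ Canc P) → (∀ P ∈ t, P.IsPrime ∧ Canc P) → s.prod = t.prod →
      s = t := by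
  classical
  intro n
  induction n with
  | zero =>
    intro s t hs hS hT hprod
    rw [Multiset.card_eq_zero] at hs
    subst hs
    rw [Multiset.prod_zero] at hprod
    by_contra hne
    obtain ⟨Q, hQ⟩ := Multiset.exists_mem_of_ne_zero (Ne.symm hne)
    have h1 : t.prod ≤ Q := prod_le_of_mem hQ
    rw [← hprod, Ideal.one_eq_top, top_le_iff] at h1
    exact (hT Q hQ).1.ne_top h1
  | succ n ih =>
    intro s t hs hS hT hprod
    have hsne : s ≠ 0 := by
      intro h0
      rw [h0, Multiset.card_zero] at hs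
      exact absurd hs (Nat.succ_ne_zero n).symm
    obtain ⟨Q0, hQ0⟩ := Multiset.exists_mem_of_ne_zero hsne
    obtain ⟨P, hPmin⟩ := s.toFinset.exists_minimal ⟨Q0, Multiset.mem_toFinset.mpr hQ0⟩
    have hPs : P ∈ s := Multiset.mem_toFinset.mp hPmin.1
    have hPprime := (hS P hPs).1
    have h1 : t.prod ≤ P := by
      rw [← hprod]; exact prod_le_of_mem hPs
    obtain ⟨Q, hQt, hQP⟩ := hPprime.multiset_prod_le.mp h1
    have hQprime := (hT Q hQt).1
    have h2 : s.prod ≤ Q := by
      rw [hprod]; exact prod_le_of_mem hQt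
    obtain ⟨P', hP's, hP'Q⟩ := hQprime.multiset_prod_le.mp h2
    have hPP' : P ≤ P' := hPmin.2 (Multiset.mem_toFinset.mpr hP's) (hP'Q.trans hQP)
    obtain rfl : Q = P := le_antisymm hQP (hPP'.trans hP'Q)
    obtain ⟨s', rfl⟩ := Multiset.exists_cons_of_mem hPs
    obtain ⟨t', rfl⟩ := Multiset.exists_cons_of_mem hQt
    rw [Multiset.prod_cons, Multiset.prod_cons] at hprod
    have hprod' := (hS Q (Multiset.mem_cons_self _ _)).2 _ _ hprod
    have hs' : s'.card = n := by simpa using hs
    rw [ih s' t' hs' (fun P hP => hS P (Multiset.mem_cons_of_mem hP))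
      (fun P hP => hT P (Multiset.mem_cons_of_mem hP)) hprod']

theorem isMaximal_of_canc {R : Type*} [CommRing R] [IsDomain R]
    (hfac : ∀ I : Ideal R, I ≠ ⊥ →
      ∃ s : Multiset (Ideal R), (∀ p ∈ s, p.IsPrime ∧ p ≠ ⊥) ∧ s.prod = I)
    (P : Ideal R) [hP : P.IsPrime] (hc : Canc P) : P.IsMaximal := by
  rw [Ideal.isMaximal_iff]
  refine ⟨fun h1 => hP.ne_top ((Ideal.eq_top_iff_one P).mpr h1), ?_⟩
  intro J a hPJ haP haJ
  suffices hkey : P ⊔ Ideal.span {a} = ⊤ by
    have h1 : P ⊔ Ideal.span {a} ≤ J := sup_le hPJ ((Ideal.span_singleton_le_iff_mem J).mpr haJ)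
    rw [hkey] at h1
    exact h1 Submodule.mem_top
  set π := Ideal.Quotient.mk P with hπ
  have hsurj : Function.Surjective π := Ideal.Quotient.mk_surjective
  have hker : RingHom.ker π = P := Ideal.mk_ker
  -- sublemma
  have hsub : ∀ b : R, b ∉ P → ∃ s : Multiset (Ideal R),
      (∀ Q ∈ s, Q.IsPrime ∧ P ≤ Q) ∧ s.prod = P ⊔ Ideal.span {b} ∧
      (∀ Q ∈ s, Canc (Ideal.map π Q)) ∧ (s.map (Ideal.map π)).prod = Ideal.span {π b} := by
    intro b hb
    have hb0 : b ≠ 0 := fun h0 => hb (h0 ▸ P.zero_mem)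
    have hbmem : b ∈ P ⊔ Ideal.span {b} :=
      (le_sup_right : Ideal.span {b} ≤ P ⊔ Ideal.span {b}) (Ideal.mem_span_singleton_self b)
    have hIne : P ⊔ Ideal.span {b} ≠ ⊥ := by
      intro h0
      rw [h0, Ideal.mem_bot] at hbmem
      exact hb0 hbmem
    obtain ⟨s, hs, hprod⟩ := hfac _ hIne
    have hπb : π b ≠ 0 := by
      rw [hπ, Ne, Ideal.Quotient.eq_zero_iff_mem]; exact hb
    have hmapprod : (s.map (Ideal.map π)).prod = Ideal.span {π b} := by
      rw [← map_multiset_prod', hprod, Ideal.map_sup, Ideal.map_span, Set.image_singleton, hπ,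
        Ideal.map_quotient_self, bot_sup_eq]
    refine ⟨s, ?_, hprod, ?_, hmapprod⟩
    · intro Q hQ
      refine ⟨(hs Q hQ).1, ?_⟩
      have : s.prod ≤ Q := prod_le_of_mem hQ
      rw [hprod] at this
      exact le_sup_left.trans this
    · intro Q hQ
      obtain ⟨s', rfl⟩ := Multiset.exists_cons_of_mem hQ
      rw [Multiset.map_cons, Multiset.prod_cons] at hmapprod
      exact canc_of_mul_eq_span hπb hmapprod
  have haa : a * a ∉ P := fun h => (hP.mem_or_mem h).elim haP haP
  obtain ⟨s₁, hs₁, hprod₁, hcanc₁, hmap₁⟩ := hsub a haP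
  obtain ⟨s₂, hs₂, hprod₂, hcanc₂, hmap₂⟩ := hsub (a * a) haa
  have hprime : ∀ (s : Multiset (Ideal R)), (∀ Q ∈ s, Q.IsPrime ∧ P ≤ Q) →
      (∀ Q ∈ s, Canc (Ideal.map π Q)) →
      ∀ Q' ∈ s.map (Ideal.map π), Q'.IsPrime ∧ Canc Q' := by
    intro s hs hcanc Q' hQ'
    obtain ⟨Q, hQ, rfl⟩ := Multiset.mem_map.mp hQ'
    refine ⟨?_, hcanc Q hQ⟩
    have := (hs Q hQ).1
    exact Ideal.map_isPrime_of_surjective hsurj (by rw [hker]; exact (hs Q hQ).2)
  have hback : ∀ (s : Multiset (Ideal R)), (∀ Q ∈ s, Q.IsPrime ∧ P ≤ Q) →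
      (s.map (Ideal.map π)).map (Ideal.comap π) = s := by
    intro s hs
    rw [Multiset.map_map]
    conv_rhs => rw [← Multiset.map_id s]
    apply Multiset.map_congr rfl
    intro Q hQ
    simp only [Function.comp_apply, id]
    rw [Ideal.comap_map_of_surjective π hsurj, ← RingHom.ker_eq_comap_bot, hker]
    exact sup_eq_left.mpr (hs Q hQ).2
  have heq : s₁.map (Ideal.map π) + s₁.map (Ideal.map π) = s₂.map (Ideal.map π) := by
    apply multiset_eq_of_prod_eq _ _ _ rfl
    · intro Q' hQ'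
      rcases Multiset.mem_add.mp hQ' with h | h <;> exact hprime s₁ hs₁ hcanc₁ Q' h
    · exact hprime s₂ hs₂ hcanc₂
    · rw [Multiset.prod_add, hmap₁, hmap₂, Ideal.span_singleton_mul_span_singleton, map_mul]
  have heq' : s₁ + s₁ = s₂ := by
    have := congrArg (Multiset.map (Ideal.comap π)) heq
    rw [Multiset.map_add, hback s₁ hs₁, hback s₂ hs₂] at this
    exact this
  have hsq : P ⊔ Ideal.span {a * a} = (P ⊔ Ideal.span {a}) * (P ⊔ Ideal.span {a}) := by
    rw [← hprod₂, ← heq', Multiset.prod_add, hprod₁]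
  have hexp : (P ⊔ Ideal.span {a}) * (P ⊔ Ideal.span {a}) ≤ P * P ⊔ Ideal.span {a} := by
    rw [Ideal.sup_mul, Ideal.mul_sup, Ideal.mul_sup]
    exact sup_le (sup_le le_sup_left (le_sup_of_le_right Ideal.mul_le_right))
      (sup_le (le_sup_of_le_right Ideal.mul_le_left) (le_sup_of_le_right Ideal.mul_le_left))
  have hPle : P ≤ P * (P ⊔ Ideal.span {a}) := by
    intro x hx
    have hx1 : x ∈ P * P ⊔ Ideal.span {a} := by
      apply hexp
      rw [← hsq]
      exact (le_sup_left : P ≤ P ⊔ Ideal.span {a * a}) hx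
    obtain ⟨y, hy, z, hz, rfl⟩ := Submodule.mem_sup.mp hx1
    obtain ⟨c, rfl⟩ := Ideal.mem_span_singleton'.mp hz
    have hyP : y ∈ P := Ideal.mul_le_right hy
    have hcaP : c * a ∈ P := by
      have := P.sub_mem hx hyP
      simpa using this
    have hcP : c ∈ P := (hP.mem_or_mem hcaP).resolve_right haP
    refine Ideal.add_mem _ (Ideal.mul_mono_right le_sup_left hy) ?_
    exact Ideal.mul_mem_mul hcP
      ((le_sup_right : Ideal.span {a} ≤ P ⊔ Ideal.span {a}) (Ideal.mem_span_singleton_self a))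
  have hPeq : P * (P ⊔ Ideal.span {a}) = P * ⊤ := by
    rw [Ideal.mul_top]
    exact le_antisymm Ideal.mul_le_left hPle
  exact hc _ _ hPeq

/-- (1) ⇒ (3): let R be a domain such that every nonzero ideal is a product of nonzero prime ideals,
uniquely up to permutation of the factors. Then R is Noetherian, integrally closed and of dimension
at most one, i.e. a Dedekind domain in the Noetherian sense. (The converse and the description by
discrete valuation rings at maximal ideals are the standard equivalences.) -/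
theorem result (R : Type u) [CommRing R] [IsDomain R]
    (h : ∀ I : Ideal R, I ≠ ⊥ → ∃! s : Multiset (Ideal R), (∀ p ∈ s, p.IsPrime ∧ p ≠ ⊥) ∧ s.prod = I) :
    IsDedekindDomain R := by
  have hfac : ∀ I : Ideal R, I ≠ ⊥ →
      ∃ s : Multiset (Ideal R), (∀ p ∈ s, p.IsPrime ∧ p ≠ ⊥) ∧ s.prod = I :=
    fun I hI => (h I hI).exists
  -- every nonzero prime divides a principal ideal
  have hD : ∀ P : Ideal R, P.IsPrime → P ≠ ⊥ →
      ∃ (I' : Ideal R) (a : R), a ≠ 0 ∧ P * I' = Ideal.span {a} := by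
    intro P hP hP0
    obtain ⟨a, haP, ha0⟩ := Submodule.exists_mem_ne_zero_of_ne_bot hP0
    have hspan : Ideal.span {a} ≠ ⊥ := by rwa [Ne, Ideal.span_singleton_eq_bot]
    obtain ⟨s, hs, hprod⟩ := hfac _ hspan
    have hle : s.prod ≤ P := by
      rw [hprod]; exact (Ideal.span_singleton_le_iff_mem P).mpr haP
    obtain ⟨Q, hQs, hQP⟩ := hP.multiset_prod_le.mp hle
    obtain ⟨s', rfl⟩ := Multiset.exists_cons_of_mem hQs
    rw [Multiset.prod_cons] at hprod
    have hQc : Canc Q := canc_of_mul_eq_span ha0 hprod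
    have := (hs Q (Multiset.mem_cons_self _ _)).1
    have hQmax : Q.IsMaximal := isMaximal_of_canc hfac Q hQc
    obtain rfl : Q = P := hQmax.eq_of_le hP.ne_top hQP
    exact ⟨s'.prod, a, ha0, hprod⟩
  rw [isDedekindDomain_iff_mul_inv_cancel (K := FractionRing R)]
  intro I hI
  rw [FractionalIdeal.mul_inv_cancel_iff_isUnit]
  have hunitS : ∀ a : R, a ≠ 0 → ∀ x : FractionRing R, x = algebraMap R (FractionRing R) a →
      IsUnit (FractionalIdeal.spanSingleton R⁰ x) ∧ IsUnit (FractionalIdeal.spanSingleton R⁰ x⁻¹) := by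
    intro a ha0 x hx
    have hne : x ≠ 0 := by
      rw [hx, Ne, IsFractionRing.to_map_eq_zero_iff]; exact ha0
    have h1 : FractionalIdeal.spanSingleton R⁰ x * FractionalIdeal.spanSingleton R⁰ x⁻¹ = 1 := by
      rw [FractionalIdeal.spanSingleton_mul_spanSingleton, mul_inv_cancel₀ hne,
        FractionalIdeal.spanSingleton_one]
    exact ⟨IsUnit.of_mul_eq_one _ h1, IsUnit.of_mul_eq_one_right _ h1⟩
  have hunitP : ∀ P : Ideal R, P.IsPrime → P ≠ ⊥ →
      IsUnit (P : FractionalIdeal R⁰ (FractionRing R)) := by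
    intro P hP hP0
    obtain ⟨I', a, ha0, hmul⟩ := hD P hP hP0
    have h1 : (P : FractionalIdeal R⁰ (FractionRing R)) *
        (I' : FractionalIdeal R⁰ (FractionRing R)) =
        FractionalIdeal.spanSingleton R⁰ (algebraMap R (FractionRing R) a) := by
      rw [← FractionalIdeal.coeIdeal_mul, hmul, FractionalIdeal.coeIdeal_span_singleton]
    have h2 := (hunitS a ha0 _ rfl).1
    rw [← h1] at h2
    exact isUnit_of_mul_isUnit_left h2
  have hunitI : ∀ J : Ideal R, J ≠ ⊥ → IsUnit (J : FractionalIdeal R⁰ (FractionRing R)) := by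
    intro J hJ
    obtain ⟨s, hs, hprod⟩ := hfac J hJ
    rw [← hprod]
    have h3 : ((s.prod : Ideal R) : FractionalIdeal R⁰ (FractionRing R)) =
        (s.map (FractionalIdeal.coeIdealHom R⁰ (FractionRing R))).prod :=
      map_multiset_prod (FractionalIdeal.coeIdealHom R⁰ (FractionRing R)) s
    rw [h3]
    apply Multiset.prod_induction IsUnit
    · intro a b ha hb; exact ha.mul hb
    · exact isUnit_one
    · intro x hx
      obtain ⟨Q, hQ, rfl⟩ := Multiset.mem_map.mp hx
      exact hunitP Q (hs Q hQ).1 (hs Q hQ).2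
  obtain ⟨a, J, ha, rfl⟩ := FractionalIdeal.exists_eq_spanSingleton_mul I
  refine IsUnit.mul (hunitS a ha _ rfl).2 (hunitI J ?_)
  rintro rfl
  apply hI
  rw [FractionalIdeal.coeIdeal_bot, mul_zero, FractionalIdeal.bot_eq_zero]

end Groth.Agent.S6369
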