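import Groth.Statements.S6370
import Mathlib
import Groth.Agent.H46.KrullAkizuki

set_option autoImplicit false
set_option linter.style.haveILetI false
universe u
open CAlg

namespace Groth.Agent.S6370

/-- For a one-dimensional Noetherian domain A with fraction field K, a finite field extension L of K
(separable or not) and B the integral closure of A in L: B is a Dedekind domain, Spec B → Spec A is
surjective and has finite fibres, and at every maximal ideal Q of B the residue field B/Q is finite
over A/(Q ∩ A). -/
theorem result (A K L B : Type u) [CommRing A] [IsDomain A]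
    [IsNoetherianRing A] (hdim : ringKrullDim A = 1) [Field K] [Algebra A K] [IsFractionRing A K]
    [Field L] [Algebra K L] [FiniteDimensional K L] [Algebra A L] [IsScalarTower A K L]
    [CommRing B] [IsDomain B] [Algebra A B] [Algebra B L] [IsScalarTower A B L] [IsIntegralClosure B A L] :
    IsDedekindDomain B ∧ Function.Surjective (PrimeSpectrum.comap (algebraMap A B)) ∧
      (∀ p : PrimeSpectrum A, (PrimeSpectrum.comap (algebraMap A B) ⁻¹' {p}).Finite) ∧
      ∀ Q : Ideal B, Q.IsMaximal → Module.Finite (A ⧸ Q.comap (algebraMap A B)) (B ⧸ Q) := by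
  classical
  haveI : Ring.KrullDimLE 1 A := Ring.krullDimLE_iff.mpr (by rw [hdim, Nat.cast_one])
  have hBL : Function.Injective (algebraMap B L) := IsIntegralClosure.algebraMap_injective B A L
  haveI hint : Algebra.IsIntegral A B := IsIntegralClosure.isIntegral_algebra A L
  have hAB : Function.Injective (algebraMap A B) :=
    Groth.Agent.H46.KA.algebraMap_injective_of_between A K L B
  have hnf : ¬ IsField A := by
    intro hf
    have h0 := ringKrullDim_eq_zero_of_isField hf
    rw [hdim] at h0
    exact one_ne_zero h0
  refine ⟨Groth.Agent.H46.KA.isDedekindDomain_of_isIntegralClosure A K L B, ?_, ?_, ?_⟩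
  · intro p
    obtain ⟨Q, -, hQ, hQp⟩ := Ideal.exists_ideal_over_prime_of_isIntegral p.asIdeal (⊥ : Ideal B)
      (by rw [Ideal.comap_bot_of_injective _ hAB]; exact bot_le)
    exact ⟨⟨Q, hQ⟩, PrimeSpectrum.ext hQp⟩
  · intro p
    have hfin := Groth.Agent.H46.KA.finite_primes_over A K L B p.asIdeal
    refine Set.Finite.subset (hfin.preimage (f := PrimeSpectrum.asIdeal)
      (fun q₁ _ q₂ _ h => PrimeSpectrum.ext h)) ?_
    intro q hq
    rw [Set.mem_preimage, Set.mem_singleton_iff] at hq
    exact ⟨q.isPrime, congrArg PrimeSpectrum.asIdeal hq⟩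
  · intro Q hQmax
    haveI := hQmax
    have hQ0 : Q ≠ ⊥ := by
      intro hbot
      have hp := Ideal.isMaximal_comap_of_isIntegral_of_isMaximal (R := A) Q
      rw [hbot, Ideal.comap_bot_of_injective _ hAB] at hp
      exact Ring.ne_bot_of_isMaximal_of_not_isField hp hnf rfl
    haveI : Module.Finite A (B ⧸ Q) := Groth.Agent.H46.KA.finite_quotient A K L B hBL Q hQ0
    exact Module.Finite.of_restrictScalars_finite A (A ⧸ Q.comap (algebraMap A B)) (B ⧸ Q)

end Groth.Agent.S6370
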