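import Groth.Statements.S6371
import Mathlib.RingTheory.Localization.BaseChange
import Mathlib.RingTheory.LocalProperties.Submodule
import Mathlib.Algebra.Module.LocalizedModule.IsLocalization
-- import your own Groth.Agent.* helpers here

set_option autoImplicit false
universe u
open CAlg

namespace Groth.Agent.S6371

/-- A ring map R → S is an epimorphism of rings if and only if for every prime p of R the localized map
R_p → S_p is an epimorphism, where S_p is S localized at the image of R ∖ p. -/
theorem result (R S : Type u) [CommRing R] [CommRing S] [Algebra R S] :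
    Algebra.IsEpi R S ↔ ∀ (p : Ideal R) [p.IsPrime],
      Algebra.IsEpi (Localization.AtPrime p) (Localization (Algebra.algebraMapSubmonoid S p.primeCompl)) := by
  open TensorProduct in
  constructor
  · intro h p _
    rw [Algebra.isEpi_iff_forall_one_tmul_eq]
    set Rp := Localization.AtPrime p
    set Sp := Localization (Algebra.algebraMapSubmonoid S p.primeCompl)
    -- the elements coming from `S`
    have key : ∀ s : S, (1 : Sp) ⊗ₜ[Rp] (algebraMap S Sp s) = (algebraMap S Sp s) ⊗ₜ[Rp] (1 : Sp) := by
      intro s
      have h1 := (Algebra.isEpi_iff_forall_one_tmul_eq R S).mp h s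
      let ψ : S ⊗[R] S →ₗ[R] Sp ⊗[Rp] Sp :=
        (TensorProduct.mapOfCompatibleSMul Rp R R Sp Sp) ∘ₗ
          (TensorProduct.map (IsScalarTower.toAlgHom R S Sp).toLinearMap
            (IsScalarTower.toAlgHom R S Sp).toLinearMap)
      have h2 := congrArg ψ h1
      simpa [ψ] using h2
    intro x
    obtain ⟨⟨s, t⟩, hst⟩ := IsLocalization.surj (Algebra.algebraMapSubmonoid S p.primeCompl) x
    obtain ⟨r, hr, hrt⟩ := t.2
    have hu : IsUnit (algebraMap R Rp r) := IsLocalization.map_units Rp ⟨r, hr⟩
    have hx : (algebraMap R Rp r) • x = algebraMap S Sp s := by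
      rw [algebraMap_smul, Algebra.smul_def, IsScalarTower.algebraMap_apply R S Sp, hrt, mul_comm]
      exact hst
    have := key s
    rw [← hx, TensorProduct.tmul_smul, ← TensorProduct.smul_tmul'] at this
    exact hu.smul_left_cancel.mp this
  · intro h
    rw [Algebra.isEpi_iff_forall_one_tmul_eq]
    intro s
    refine Module.eq_of_localization_maximal
      (fun P _ => Localization (Algebra.algebraMapSubmonoid S P.primeCompl) ⊗[R]
        Localization (Algebra.algebraMapSubmonoid S P.primeCompl))
      (fun P _ => TensorProduct.map
        (IsScalarTower.toAlgHom R S (Localization (Algebra.algebraMapSubmonoid S P.primeCompl))).toLinearMap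
        (IsScalarTower.toAlgHom R S (Localization (Algebra.algebraMapSubmonoid S P.primeCompl))).toLinearMap)
      _ _ ?_
    intro P hP
    have hP' : P.IsPrime := hP.isPrime
    set Rp := Localization.AtPrime P
    set Sp := Localization (Algebra.algebraMapSubmonoid S P.primeCompl)
    have h1 := (Algebra.isEpi_iff_forall_one_tmul_eq Rp Sp).mp (h P) (algebraMap S Sp s)
    have : TensorProduct.CompatibleSMul R Rp Sp Sp :=
      IsLocalization.tensorProduct_compatibleSMul P.primeCompl Rp Sp Sp
    have h2 := congrArg (TensorProduct.mapOfCompatibleSMul R Rp R Sp Sp) h1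
    simpa using h2

end Groth.Agent.S6371
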