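import Groth.Statements.S6372
import Mathlib.RingTheory.Flat.FaithfullyFlat.Algebra

set_option autoImplicit false
universe u
open CAlg

namespace Groth.Agent.S6372

open TensorProduct in
/-- A faithfully flat epimorphism of rings is an isomorphism: if R → S is faithfully flat and an
epimorphism in the category of rings then it is bijective. -/
theorem result (R S : Type u) [CommRing R] [CommRing S] [Algebra R S]
    [Module.FaithfullyFlat R S] [Algebra.IsEpi R S] : Function.Bijective (algebraMap R S) := by
  refine ⟨FaithfulSMul.algebraMap_injective R S, ?_⟩
  have hs : Function.Surjective (Algebra.linearMap R S) := by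
    rw [← Module.FaithfullyFlat.lTensor_surjective_iff_surjective R S]
    intro x
    refine ⟨(TensorProduct.lift (LinearMap.mul R S) x) ⊗ₜ[R] (1 : R), ?_⟩
    apply Algebra.IsEpi.injective_lift_mul (R := R) (A := S)
    simp
  exact hs

end Groth.Agent.S6372
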