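import Groth.Statements.S6374
import Groth.Agent.S6373
import Mathlib.RingTheory.LocalRing.ResidueField.Fiber
-- import your own Groth.Agent.* helpers here

set_option autoImplicit false
universe u
open CAlg

namespace Groth.Agent.S6374

theorem isEpi_baseChange (R A S : Type*) [CommRing R] [CommRing A] [CommRing S] [Algebra R A]
    [Algebra R S] [Algebra.IsEpi R S] : Algebra.IsEpi A (TensorProduct R A S) := by
  open TensorProduct in
  rw [Algebra.isEpi_iff_forall_one_tmul_eq]
  let f : S →ₐ[R] (A ⊗[R] S) ⊗[A] (A ⊗[R] S) :=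
    ((Algebra.TensorProduct.includeLeft :
      (A ⊗[R] S) →ₐ[A] (A ⊗[R] S) ⊗[A] (A ⊗[R] S)).restrictScalars R).comp
      (Algebra.TensorProduct.includeRight : S →ₐ[R] A ⊗[R] S)
  let g : S →ₐ[R] (A ⊗[R] S) ⊗[A] (A ⊗[R] S) :=
    ((Algebra.TensorProduct.includeRight :
      (A ⊗[R] S) →ₐ[A] (A ⊗[R] S) ⊗[A] (A ⊗[R] S)).restrictScalars R).comp
      (Algebra.TensorProduct.includeRight : S →ₐ[R] A ⊗[R] S)
  let φ : S ⊗[R] S →ₐ[R] (A ⊗[R] S) ⊗[A] (A ⊗[R] S) :=
    Algebra.TensorProduct.lift f g (fun _ _ => Commute.all _ _)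
  have key : ∀ s : S, (1 : A ⊗[R] S) ⊗ₜ[A] ((1 : A) ⊗ₜ[R] s) = ((1 : A) ⊗ₜ[R] s) ⊗ₜ[A] 1 := by
    intro s
    have h1 := (Algebra.isEpi_iff_forall_one_tmul_eq R S).mp inferInstance s
    have h2 := congrArg φ h1
    simpa [φ, f, g, Algebra.TensorProduct.lift_tmul, Algebra.TensorProduct.one_def] using h2
  intro b
  induction b using TensorProduct.induction_on with
  | zero => simp
  | tmul a s =>
    have : a ⊗ₜ[R] s = a • ((1 : A) ⊗ₜ[R] s) := by
      rw [TensorProduct.smul_tmul', smul_eq_mul, mul_one]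
    rw [this, TensorProduct.tmul_smul, key s, TensorProduct.smul_tmul']
  | add x y hx hy => rw [TensorProduct.tmul_add, TensorProduct.add_tmul, hx, hy]


/-- For an epimorphism of rings R → S, the induced map Spec S → Spec R is injective and induces trivial
residue field extensions; stated in the form the proof gives: for every prime p of R the fibre ring
S ⊗_R κ(p) is either zero or κ(p) → S ⊗_R κ(p) is bijective, together with injectivity of Spec S →
Spec R. -/
theorem result (R S : Type u) [CommRing R] [CommRing S] [Algebra R S]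
    [Algebra.IsEpi R S] :
    Function.Injective (PrimeSpectrum.comap (algebraMap R S)) ∧
      ∀ (p : Ideal R) [p.IsPrime],
        Subsingleton (p.Fiber S) ∨ Function.Bijective (algebraMap p.ResidueField (p.Fiber S)) := by
  have hfib : ∀ (p : Ideal R) [p.IsPrime],
      Subsingleton (p.Fiber S) ∨ Function.Bijective (algebraMap p.ResidueField (p.Fiber S)) := by
    intro p _
    have : Algebra.IsEpi p.ResidueField (p.Fiber S) := isEpi_baseChange R p.ResidueField S
    exact Groth.Agent.S6373.result p.ResidueField (p.Fiber S)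
  refine ⟨?_, hfib⟩
  intro q1 q2 h
  set p := PrimeSpectrum.comap (algebraMap R S) q1 with hp
  have h1 : q1 ∈ PrimeSpectrum.comap (algebraMap R S) ⁻¹' {p} := rfl
  have h2 : q2 ∈ PrimeSpectrum.comap (algebraMap R S) ⁻¹' {p} := h.symm
  have hsub : Subsingleton (PrimeSpectrum (p.asIdeal.Fiber S)) := by
    rcases hfib p.asIdeal with hs | hb
    · exact ⟨fun a b => (a.isPrime.ne_top (Ideal.eq_top_of_isUnit_mem _ (Submodule.zero_mem _)
        (by rw [Subsingleton.elim (0 : p.asIdeal.Fiber S) 1]; exact isUnit_one))).elim⟩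
    · let e : p.asIdeal.ResidueField ≃+* p.asIdeal.Fiber S := RingEquiv.ofBijective _ hb
      exact (PrimeSpectrum.comapEquiv e).symm.subsingleton
  have := (PrimeSpectrum.preimageEquivFiber R S p).injective
    (Subsingleton.elim ((PrimeSpectrum.preimageEquivFiber R S p) ⟨q1, h1⟩)
      ((PrimeSpectrum.preimageEquivFiber R S p) ⟨q2, h2⟩))
  exact congrArg Subtype.val this

end Groth.Agent.S6374
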