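import Groth.Statements.S6378
import Groth.Agent.H82.TorFlat

set_option autoImplicit false
universe u
open CategoryTheory
open CAlg

namespace Groth.Agent.S6378

/-- Let (R, m, κ) be a local ring and M an R-module with Tor_1^R(κ, M) = 0. Then Tor_1^R(N, M) = 0 for
every finite length R-module N. -/
theorem result (R : Type u) [CommRing R] [IsLocalRing R]
    (M : Type u) [AddCommGroup M] [Module R M]
    (h : Limits.IsZero (((CategoryTheory.Tor (ModuleCat.{u} R) 1).obj (ModuleCat.of R (IsLocalRing.ResidueField R))).obj (ModuleCat.of R M)))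
    (N : Type u) [AddCommGroup N] [Module R N] (hN : IsFiniteLength R N) :
    Limits.IsZero (((CategoryTheory.Tor (ModuleCat.{u} R) 1).obj (ModuleCat.of R N)).obj (ModuleCat.of R M)) := by
  have T := Groth.Agent.H82.TorLib.hasLES_tor_flip (ModuleCat.of R M)
  induction hN with
  | of_subsingleton =>
    exact Groth.Agent.H82.TorFlat.isZero_of_hasLES T 1 (ModuleCat.isZero_of_subsingleton _)
  | @of_simple_quotient N _ _ K hsimp hK ih =>
    have hS := Groth.Agent.H82.TorFlat.shortExact_of (A := R) K.subtype K.mkQ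
      K.injective_subtype K.mkQ_surjective (LinearMap.exact_subtype_mkQ K)
    obtain ⟨h0, h1, -⟩ := T _ hS 1
    refine (h1 h0).isZero_of_both_isZero ih ?_
    obtain ⟨I, hI, ⟨e⟩⟩ := isSimpleModule_iff_quot_maximal.mp hsimp
    have hI' : I = IsLocalRing.maximalIdeal R := IsLocalRing.eq_maximalIdeal hI
    subst hI'
    let e' : (N ⧸ K) ≃ₗ[R] IsLocalRing.ResidueField R := e
    exact h.of_iso (((Tor (ModuleCat.{u} R) 1).flip.obj (ModuleCat.of R M)).mapIso
      e'.toModuleIso)

end Groth.Agent.S6378
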