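import Groth.Statements.S6381
import Mathlib
-- import your own Groth.Agent.* helpers here

set_option autoImplicit false
universe u
open CAlg

namespace Groth.Agent.S6381

open Polynomial in
/-- common denominator for finitely many elements of the subfield generated by the image of `φ`. -/
theorem exists_denominator {R L : Type*} [CommRing R] [Field L] (φ : R →+* L) (T : Finset L)
    (hT : ∀ c ∈ T, c ∈ Subfield.closure (Set.range φ)) :
    ∃ b : R, φ b ≠ 0 ∧ ∀ c ∈ T, ∃ r : R, φ b * c = φ r := by
  classical
  induction T using Finset.induction_on with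
  | empty => exact ⟨1, by simp, by simp⟩
  | insert a T ha ih =>
    obtain ⟨b, hb, hbT⟩ := ih (fun c hc => hT c (Finset.mem_insert_of_mem hc))
    have haa := hT a (Finset.mem_insert_self a T)
    rw [Subfield.mem_closure_iff] at haa
    obtain ⟨y, hy, z, hz, hyz⟩ := haa
    rw [← RingHom.coe_range, Subring.closure_eq, RingHom.mem_range] at hy hz
    obtain ⟨y', rfl⟩ := hy
    obtain ⟨z', rfl⟩ := hz
    by_cases hz0 : φ z' = 0
    · refine ⟨b, hb, ?_⟩
      intro c hc
      rcases Finset.mem_insert.mp hc with hca | hc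
      · refine ⟨0, ?_⟩
        rw [hca, ← hyz, hz0, div_zero, mul_zero, map_zero]
      · exact hbT c hc
    · refine ⟨b * z', by rw [map_mul]; exact mul_ne_zero hb hz0, ?_⟩
      intro c hc
      rcases Finset.mem_insert.mp hc with hca | hc
      · refine ⟨b * y', ?_⟩
        rw [hca, ← hyz, map_mul, map_mul]
        field_simp
      · obtain ⟨r, hr⟩ := hbT c hc
        refine ⟨r * z', ?_⟩
        rw [map_mul, map_mul, ← hr]; ring

theorem isAlgebraic_mono {L : Type*} [Field L] {F F' : Subfield L} (h : F ≤ F') {x : L}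
    (hx : IsAlgebraic F x) : IsAlgebraic F' x := by
  obtain ⟨P, hP, hPx⟩ := hx
  refine ⟨P.map (Subfield.inclusion h),
    (Polynomial.map_ne_zero_iff (Subfield.inclusion h).injective).mpr hP, ?_⟩
  have hc : (algebraMap F' L).comp (Subfield.inclusion h) = algebraMap F L :=
    RingHom.ext fun _ => rfl
  rw [Polynomial.aeval_def, Polynomial.eval₂_map, hc, ← Polynomial.aeval_def]; exact hPx

open Polynomial in
theorem one_step {R L : Type u} [CommRing R] [Field L] (φ : R →+* L) (a : L)
    (ha : IsAlgebraic (Subfield.closure (Set.range φ)) a) :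
    ∃ (S : Type u) (_ : CommRing S) (_ : Algebra R S) (_ : Module.Finite R S) (_ : Module.Free R S)
      (ψ : S →+* L), ψ.comp (algebraMap R S) = φ ∧
        RingHom.ker ψ = (RingHom.ker φ).map (algebraMap R S) ∧
        a ∈ Subfield.closure (Set.range ψ) := by
  classical
  have hφF : ∀ r, φ r ∈ Subfield.closure (Set.range φ) := fun r => Subfield.subset_closure ⟨r, rfl⟩
  obtain ⟨F, hF⟩ : ∃ F : Subfield L, F = Subfield.closure (Set.range φ) := ⟨_, rfl⟩
  rw [← hF] at ha hφF
  let φ' : R →+* F := φ.codRestrict F hφF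
  have hφ' : (algebraMap F L).comp φ' = φ := RingHom.ext fun r => rfl
  have hint : IsIntegral F a := ha.isIntegral
  obtain ⟨f, hf⟩ : ∃ f : F[X], f = minpoly F a := ⟨_, rfl⟩
  have hfm : f.Monic := hf ▸ minpoly.monic hint
  have hfa : Polynomial.aeval a f = 0 := hf ▸ minpoly.aeval F a
  obtain ⟨b, hb, hbT⟩ := exists_denominator φ
    ((Finset.range f.natDegree).image (fun i => ((f.coeff i : F) : L)))
    (by
      intro c hc
      obtain ⟨i, -, rfl⟩ := Finset.mem_image.mp hc
      rw [← hF]
      exact (f.coeff i).2)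
  have hb' : φ' b ≠ 0 := by
    intro h
    apply hb
    exact congrArg Subtype.val h
  obtain ⟨β, hβ⟩ : ∃ β : L, β = φ b * a := ⟨_, rfl⟩
  obtain ⟨g, hg⟩ : ∃ g : F[X], g = Polynomial.scaleRoots f (φ' b) := ⟨_, rfl⟩
  have hgm : g.Monic := hg ▸ (Polynomial.monic_scaleRoots_iff _).mpr hfm
  have hglift : g ∈ Polynomial.lifts φ' := by
    rw [Polynomial.lifts_iff_coeff_lifts]
    intro i
    rw [hg, Polynomial.coeff_scaleRoots]
    rcases lt_trichotomy i f.natDegree with hi | hi | hi
    · obtain ⟨r, hr⟩ := hbT _ (Finset.mem_image.mpr ⟨i, Finset.mem_range.mpr hi, rfl⟩)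
      obtain ⟨k, hk⟩ : ∃ k, f.natDegree - i = k + 1 := ⟨f.natDegree - i - 1, by omega⟩
      refine ⟨r * b ^ k, ?_⟩
      have hr' : φ' b * f.coeff i = φ' r := Subtype.ext hr
      rw [hk, pow_succ, map_mul, map_pow, ← hr']
      ring
    · refine ⟨1, ?_⟩
      rw [hi, map_one, Polynomial.coeff_natDegree, hfm.leadingCoeff, Nat.sub_self, pow_zero, mul_one]
    · refine ⟨0, ?_⟩
      rw [map_zero, Polynomial.coeff_eq_zero_of_natDegree_lt hi, zero_mul]
  obtain ⟨G, hGmap, hGdeg, hGm⟩ := Polynomial.lifts_and_natDegree_eq_and_monic hglift hgm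
  have hroot : Polynomial.aeval β g = 0 := by
    rw [hβ, hg]
    exact Polynomial.scaleRoots_aeval_eq_zero (r := φ' b) hfa
  have hG0 : Polynomial.eval₂ φ β G = 0 := by
    have h1 : Polynomial.eval₂ φ β G = Polynomial.aeval β (G.map φ') := by
      rw [Polynomial.aeval_def, Polynomial.eval₂_map, hφ']
    rw [h1, hGmap]; exact hroot
  have hmin : ∀ P : F[X], P ≠ 0 → Polynomial.aeval β P = 0 → f.degree ≤ P.degree := by
    intro P hP hPβ
    have h1 : Polynomial.aeval a (Polynomial.scaleRoots P (φ' b)⁻¹) = 0 := by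
      have h0 := Polynomial.scaleRoots_aeval_eq_zero (r := (φ' b)⁻¹) hPβ
      have h2 : algebraMap F L (φ' b)⁻¹ * β = a := by
        rw [map_inv₀, hβ]
        have h3 : algebraMap F L (φ' b) = φ b := rfl
        rw [h3]
        field_simp
      rwa [h2] at h0
    have h3 := minpoly.degree_le_of_ne_zero F a (Polynomial.scaleRoots_ne_zero hP _) h1
    rwa [Polynomial.degree_scaleRoots, ← hf] at h3
  refine ⟨AdjoinRoot G, inferInstance, inferInstance, hGm.finite_adjoinRoot, hGm.free_adjoinRoot,
    AdjoinRoot.lift φ β hG0, ?_, ?_, ?_⟩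
  · ext r
    rw [RingHom.comp_apply, AdjoinRoot.algebraMap_eq, AdjoinRoot.lift_of]
  · apply le_antisymm
    · intro z hz
      rw [RingHom.mem_ker] at hz
      obtain ⟨H, rfl⟩ := AdjoinRoot.mk_surjective z
      haveI : Nontrivial R := φ.domain_nontrivial
      have hmk : AdjoinRoot.mk G H = AdjoinRoot.mk G (H %ₘ G) := by
        rw [AdjoinRoot.mk_eq_mk]
        refine ⟨H /ₘ G, ?_⟩
        have h0 := Polynomial.modByMonic_add_div H G
        linear_combination (-1 : R[X]) * h0
      have hdeg : (H %ₘ G).degree < G.degree := Polynomial.degree_modByMonic_lt H hGm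
      have hev : Polynomial.aeval β ((H %ₘ G).map φ') = 0 := by
        rw [Polynomial.aeval_def, Polynomial.eval₂_map, hφ']
        rw [hmk, AdjoinRoot.lift_mk] at hz
        exact hz
      have hzero : (H %ₘ G).map φ' = 0 := by
        by_contra hne
        have h1 := hmin _ hne hev
        have h2 : ((H %ₘ G).map φ').degree ≤ (H %ₘ G).degree := Polynomial.degree_map_le
        have h3 : G.degree = f.degree := by
          rw [Polynomial.degree_eq_natDegree hGm.ne_zero,
            Polynomial.degree_eq_natDegree hfm.ne_zero, hGdeg, hg, Polynomial.natDegree_scaleRoots]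
        rw [h3] at hdeg
        exact absurd (lt_of_le_of_lt (h1.trans h2) hdeg) (lt_irrefl _)
      have hcoef : ∀ i, (H %ₘ G).coeff i ∈ RingHom.ker φ := by
        intro i
        rw [RingHom.mem_ker]
        have h1 : φ' ((H %ₘ G).coeff i) = 0 := by
          have h0 := congrArg (fun P => Polynomial.coeff P i) hzero
          simpa [Polynomial.coeff_map] using h0
        exact congrArg Subtype.val h1
      rw [hmk, Polynomial.as_sum_range_C_mul_X_pow (H %ₘ G), map_sum]
      refine Ideal.sum_mem _ (fun i _ => ?_)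
      rw [map_mul]
      exact Ideal.mul_mem_right _ _ (Ideal.mem_map_of_mem _ (hcoef i))
    · rw [Ideal.map_le_iff_le_comap]
      intro r hr
      rw [Ideal.mem_comap, RingHom.mem_ker, AdjoinRoot.algebraMap_eq, AdjoinRoot.lift_of]
      exact RingHom.mem_ker.mp hr
  · have h1 : β ∈ Subfield.closure (Set.range (AdjoinRoot.lift φ β hG0)) :=
      Subfield.subset_closure ⟨AdjoinRoot.root G, AdjoinRoot.lift_root hG0⟩
    have h2 : φ b ∈ Subfield.closure (Set.range (AdjoinRoot.lift φ β hG0)) :=
      Subfield.subset_closure ⟨AdjoinRoot.of G b, AdjoinRoot.lift_of hG0⟩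
    have h3 : a = β / φ b := by rw [hβ]; field_simp
    rw [h3]; exact div_mem h1 h2

theorem main_step {L : Type u} [Field L] (k : ℕ) :
    ∀ (R : Type u) [CommRing R] (φ : R →+* L) (α : Fin k → L),
      (∀ x : L, IsAlgebraic (Subfield.closure (Set.range φ)) x) →
      Subfield.closure (Set.range φ ∪ Set.range α) = ⊤ →
      ∃ (S : Type u) (_ : CommRing S) (_ : Algebra R S) (_ : Module.Finite R S)
        (_ : Module.Free R S) (ψ : S →+* L), ψ.comp (algebraMap R S) = φ ∧
          RingHom.ker ψ = (RingHom.ker φ).map (algebraMap R S) ∧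
          Subfield.closure (Set.range ψ) = ⊤ := by
  induction k with
  | zero =>
    intro R _ φ α halg hgen
    refine ⟨R, inferInstance, inferInstance, inferInstance, inferInstance, φ, rfl, ?_, ?_⟩
    · rw [Algebra.algebraMap_self, Ideal.map_id]
    · rw [← hgen]
      have h0 : Set.range α = ∅ := Set.range_eq_empty α
      rw [h0, Set.union_empty]
  | succ k ih =>
    intro R _ φ α halg hgen
    obtain ⟨S₁, _, _, hfin₁, hfree₁, ψ₁, hcomp₁, hker₁, hmem₁⟩ :=
      one_step φ (α (Fin.last k)) (halg _)
    have hle : Subfield.closure (Set.range φ) ≤ Subfield.closure (Set.range ψ₁) := by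
      apply Subfield.closure_mono
      rintro _ ⟨r, rfl⟩
      exact ⟨algebraMap R S₁ r, by rw [← hcomp₁]; rfl⟩
    obtain ⟨S₂, _, _, hfin₂, hfree₂, ψ₂, hcomp₂, hker₂, hgen₂⟩ :=
      ih S₁ ψ₁ (fun i => α (Fin.castSucc i))
      (fun x => isAlgebraic_mono hle (halg x))
      (by
        rw [eq_top_iff, ← hgen, Subfield.closure_le]
        rintro x (hx | ⟨i, rfl⟩)
        · exact Subfield.closure_mono Set.subset_union_left (hle (Subfield.subset_closure hx))
        · refine Fin.lastCases ?_ (fun j => ?_) i
          · exact Subfield.closure_mono Set.subset_union_left hmem₁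
          · exact Subfield.subset_closure (Or.inr ⟨j, rfl⟩))
    letI : Algebra R S₂ := ((algebraMap S₁ S₂).comp (algebraMap R S₁)).toAlgebra
    haveI : IsScalarTower R S₁ S₂ := IsScalarTower.of_algebraMap_eq (fun _ => rfl)
    haveI : Module.Finite R S₂ := Module.Finite.trans S₁ S₂
    haveI : Module.Free R S₂ := Module.Free.of_basis
      ((Module.Free.chooseBasis R S₁).smulTower (Module.Free.chooseBasis S₁ S₂))
    refine ⟨S₂, inferInstance, inferInstance, inferInstance, inferInstance, ψ₂, ?_, ?_, hgen₂⟩
    · ext r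
      have h1 : ψ₂ (algebraMap S₁ S₂ (algebraMap R S₁ r)) = ψ₁ (algebraMap R S₁ r) := by
        rw [← hcomp₂]; rfl
      have h2 : ψ₁ (algebraMap R S₁ r) = φ r := by rw [← hcomp₁]; rfl
      exact h1.trans h2
    · rw [hker₂, hker₁, Ideal.map_map]
      try rfl

/-- Let R be a ring, p ⊆ R a prime and L a finite extension of the residue field κ(p). Then one can find
a ring map R → S, with S finite free over R, for which q = pS is a prime of S and the residue field
κ(q) is isomorphic to L over κ(p) (stated as a ring isomorphism κ(q) ≅ L compatible with the maps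
from R, which determines compatibility with κ(p)). -/
theorem result (R : Type u) [CommRing R] (p : Ideal R) [p.IsPrime]
    (L : Type u) [Field L] [Algebra p.ResidueField L] [FiniteDimensional p.ResidueField L]
    [Algebra R L] [IsScalarTower R p.ResidueField L] :
    ∃ (S : Type u) (_ : CommRing S) (_ : Algebra R S) (_ : Module.Finite R S) (_ : Module.Free R S)
      (_ : (p.map (algebraMap R S)).IsPrime)
      (e : (p.map (algebraMap R S)).ResidueField ≃+* L),
      ∀ r : R, e (algebraMap R (p.map (algebraMap R S)).ResidueField r) = algebraMap R L r := by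
  classical
  have hker : RingHom.ker (algebraMap R L) = p := by
    ext r
    rw [RingHom.mem_ker, IsScalarTower.algebraMap_apply R p.ResidueField L, map_eq_zero,
      ← RingHom.mem_ker, Ideal.ker_algebraMap_residueField]
  have hκ : ∀ x : p.ResidueField,
      algebraMap p.ResidueField L x ∈ Subfield.closure (Set.range (algebraMap R L)) := by
    intro x
    obtain ⟨a, b, hb, rfl⟩ := IsFractionRing.div_surjective (A := R ⧸ p) x
    obtain ⟨a, rfl⟩ := Ideal.Quotient.mk_surjective a
    obtain ⟨b, rfl⟩ := Ideal.Quotient.mk_surjective b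
    rw [map_div₀]
    have h1 : ∀ r : R, algebraMap p.ResidueField L
        (algebraMap (R ⧸ p) p.ResidueField (Ideal.Quotient.mk p r)) = algebraMap R L r := by
      intro r
      rw [IsScalarTower.algebraMap_apply R p.ResidueField L]
      rfl
    rw [h1, h1]
    exact div_mem (Subfield.subset_closure ⟨a, rfl⟩) (Subfield.subset_closure ⟨b, rfl⟩)
  have halg : ∀ x : L, IsAlgebraic (Subfield.closure (Set.range (algebraMap R L))) x := by
    intro x
    obtain ⟨P, hPm, hPx⟩ := IsIntegral.of_finite p.ResidueField x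
    let ρ : p.ResidueField →+* Subfield.closure (Set.range (algebraMap R L)) :=
      (algebraMap p.ResidueField L).codRestrict _ hκ
    refine ⟨P.map ρ, (hPm.map ρ).ne_zero, ?_⟩
    have hc : (algebraMap (Subfield.closure (Set.range (algebraMap R L))) L).comp ρ =
        algebraMap p.ResidueField L := RingHom.ext fun _ => rfl
    rw [Polynomial.aeval_def, Polynomial.eval₂_map, hc]
    exact hPx
  obtain ⟨k, α, hα⟩ := Module.Finite.exists_fin (R := p.ResidueField) (M := L)
  have hgen : Subfield.closure (Set.range (algebraMap R L) ∪ Set.range α) = ⊤ := by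
    rw [eq_top_iff]
    intro y hy0
    clear hy0
    have hy : y ∈ Submodule.span p.ResidueField (Set.range α) := by rw [hα]; trivial
    induction hy using Submodule.span_induction with
    | mem x hx => exact Subfield.subset_closure (Or.inr hx)
    | zero => exact zero_mem _
    | add x y _ _ hx hy => exact add_mem hx hy
    | smul c x _ hx =>
      rw [Algebra.smul_def]
      exact mul_mem (Subfield.closure_mono Set.subset_union_left (hκ c)) hx
  obtain ⟨S, _, _, hfin, hfree, ψ, hcomp, hkerψ, hgenψ⟩ :=
    main_step k R (algebraMap R L) α halg hgen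
  rw [hker] at hkerψ
  have hprime : (p.map (algebraMap R S)).IsPrime := by
    rw [← hkerψ]; exact RingHom.ker_isPrime ψ
  have hf₂ : (p.map (algebraMap R S)).primeCompl ≤ (IsUnit.submonoid L).comap ψ := by
    intro s hs
    change IsUnit (ψ s)
    rw [isUnit_iff_ne_zero]
    intro h0
    apply hs
    rw [← hkerψ]
    exact h0
  let e₀ : (p.map (algebraMap R S)).ResidueField →+* L :=
    Ideal.ResidueField.lift (p.map (algebraMap R S)) ψ (le_of_eq hkerψ.symm) hf₂
  have he₀ : ∀ s : S, e₀ (algebraMap S _ s) = ψ s := fun s =>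
    Ideal.ResidueField.lift_algebraMap _ _ _ hf₂ s
  have hsurj : Function.Surjective e₀ := by
    intro y
    have hy : y ∈ Subfield.closure (Set.range ψ) := by rw [hgenψ]; trivial
    rw [Subfield.mem_closure_iff] at hy
    obtain ⟨u, hu, v, hv, rfl⟩ := hy
    rw [← RingHom.coe_range, Subring.closure_eq, RingHom.mem_range] at hu hv
    obtain ⟨u', rfl⟩ := hu
    obtain ⟨v', rfl⟩ := hv
    refine ⟨algebraMap S _ u' / algebraMap S _ v', ?_⟩
    rw [map_div₀, he₀, he₀]
  refine ⟨S, inferInstance, inferInstance, hfin, hfree, hprime,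
    RingEquiv.ofBijective e₀ ⟨e₀.injective, hsurj⟩, ?_⟩
  intro r
  change e₀ (algebraMap R (p.map (algebraMap R S)).ResidueField r) = algebraMap R L r
  rw [IsScalarTower.algebraMap_apply R S (p.map (algebraMap R S)).ResidueField, he₀]
  exact RingHom.congr_fun hcomp r

end Groth.Agent.S6381
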