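import Groth.Statements.S6385
import Mathlib
import Groth.Agent.S10843

set_option autoImplicit false
universe u
open CAlg

namespace Groth.Agent.S6385

/-- Let k be a field, S a finite type k-algebra, q a prime of S and x the corresponding point of X =
Spec S. Then there is g ∈ S, g ∉ q, such that dim S_g equals dim_x X — the minimum of dim S_{g'}
over all g' ∉ q — and, writing d for this dimension, a finite injective k-algebra map from the
polynomial ring k[y_1, ..., y_d] to S_g. -/
theorem result (k S : Type u) [Field k] [CommRing S] [Algebra k S]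
    [Algebra.FiniteType k S] (q : Ideal S) [q.IsPrime] :
    ∃ (g : S) (d : ℕ), g ∉ q ∧ ringKrullDim (Localization.Away g) = d ∧
      (∀ g' : S, g' ∉ q → ringKrullDim (Localization.Away g) ≤ ringKrullDim (Localization.Away g')) ∧
      ∃ φ : MvPolynomial (Fin d) k →ₐ[k] Localization.Away g, Function.Injective φ ∧ φ.toRingHom.Finite := by
  classical
  have hne : ({g' : S | g' ∉ q}).Nonempty :=
    ⟨1, fun h => (Ideal.IsPrime.ne_top ‹_›) ((Ideal.eq_top_iff_one q).mpr h)⟩
  obtain ⟨g, hgq, hmin⟩ : ∃ g : S, g ∉ q ∧ ∀ g' : S, g' ∉ q →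
      ringKrullDim (Localization.Away g) ≤ ringKrullDim (Localization.Away g') :=
    ⟨Function.argminOn (fun g' : S => ringKrullDim (Localization.Away g')) {g' : S | g' ∉ q} hne,
      Function.argminOn_mem _ _ hne,
      fun g' hg' => Function.argminOn_le (fun g' : S => ringKrullDim (Localization.Away g')) _ hg'⟩
  haveI : Nontrivial (Localization.Away g) := by
    have hu : IsUnit (algebraMap S (Localization.AtPrime q) g) :=
      IsLocalization.map_units (Localization.AtPrime q) (⟨g, hgq⟩ : q.primeCompl)
    exact RingHom.domain_nontrivial (IsLocalization.Away.lift g hu)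
  obtain ⟨s, φ, hinj, hfin⟩ := exists_finite_inj_algHom_of_fg k (Localization.Away g)
  have hdim : ringKrullDim (Localization.Away g) = (s : WithBot ℕ∞) :=
    (Groth.Agent.S10843.result k (Localization.Away g) s).mpr ⟨φ, hfin, hinj⟩
  exact ⟨g, s, hgq, hdim, hmin, φ, hinj, hfin⟩

end Groth.Agent.S6385
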