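import Groth.Statements.S6386
import Mathlib

set_option autoImplicit false
set_option linter.style.haveILetI false
universe u
open CAlg

namespace Groth.Agent.S6386


open Cardinal

section
variable {A B : Type u} [CommRing A] [CommRing B] [Algebra A B] [Module.Flat A B]

open Classical in
/-- witnesses chosen by the equational criterion for the relation `p`. -/
noncomputable def wit (S : Subalgebra A B) (p : Σ l : ℕ, Fin l → A × S) : Set B :=
  if h : ∑ i : Fin p.1, (p.2 i).1 • ((p.2 i).2 : B) = 0 then
    Set.range (Module.Flat.isTrivialRelation_of_sum_smul_eq_zero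
      (f := fun i => (p.2 i).1) (x := fun i => ((p.2 i).2 : B)) h).choose_spec.choose_spec.choose
  else ∅

theorem wit_finite (S : Subalgebra A B) (p : Σ l : ℕ, Fin l → A × S) : (wit S p).Finite := by
  unfold wit
  split_ifs
  · exact Set.finite_range _
  · exact Set.finite_empty

theorem wit_spec (S : Subalgebra A B) (l : ℕ) (f : Fin l → A) (x : Fin l → S)
    (h : ∑ i, f i • (x i : B) = 0) :
    ∃ (k : ℕ) (a : Fin l → Fin k → A) (y : Fin k → B),
      (∀ j, y j ∈ wit S ⟨l, fun i => (f i, x i)⟩) ∧ (∀ i, (x i : B) = ∑ j, a i j • y j) ∧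
        ∀ j, ∑ i, f i * a i j = 0 := by
  have h' : ∑ i : Fin (⟨l, fun i => (f i, x i)⟩ : Σ l : ℕ, Fin l → A × S).1,
      ((⟨l, fun i => (f i, x i)⟩ : Σ l : ℕ, Fin l → A × S).2 i).1 •
        (((⟨l, fun i => (f i, x i)⟩ : Σ l : ℕ, Fin l → A × S).2 i).2 : B) = 0 := h
  have hT := Module.Flat.isTrivialRelation_of_sum_smul_eq_zero
      (f := fun i => f i) (x := fun i => ((x i : S) : B)) h
  refine ⟨hT.choose, hT.choose_spec.choose, hT.choose_spec.choose_spec.choose, ?_,
    hT.choose_spec.choose_spec.choose_spec.1, hT.choose_spec.choose_spec.choose_spec.2⟩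
  intro j
  unfold wit
  rw [dif_pos h']
  exact ⟨j, rfl⟩

/-- one step of the closure. -/
noncomputable def next (S : Subalgebra A B) : Subalgebra A B :=
  Algebra.adjoin A ((S : Set B) ∪ ⋃ p, wit S p)

theorem le_next (S : Subalgebra A B) : S ≤ next S := fun _ hx =>
  Algebra.subset_adjoin (Or.inl hx)

theorem wit_le_next (S : Subalgebra A B) (p) : wit S p ⊆ next S := fun _ hx =>
  Algebra.subset_adjoin (Or.inr (Set.mem_iUnion.2 ⟨p, hx⟩))

theorem card_next (S : Subalgebra A B) (hS : #S ≤ max #A ℵ₀) : #(next S) ≤ max #A ℵ₀ := by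
  have hκ : ℵ₀ ≤ max #A ℵ₀ := le_max_right _ _
  have hA : #A ≤ max #A ℵ₀ := le_max_left _ _
  have h1 : #(Σ l : ℕ, Fin l → A × S) ≤ max #A ℵ₀ := by
    rw [← Cardinal.mk_congr (List.equivSigmaTuple (α := A × S))]
    refine (Cardinal.mk_list_le_max _).trans (max_le hκ ?_)
    rw [Cardinal.mk_prod, Cardinal.lift_id, Cardinal.lift_id]
    exact Cardinal.mul_le_of_le hκ hA hS
  have h2 : #(⋃ p, wit S p) ≤ max #A ℵ₀ := by
    refine (Cardinal.mk_iUnion_le _).trans ?_
    refine Cardinal.mul_le_of_le hκ h1 ?_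
    refine (ciSup_le' fun p => ?_).trans hκ
    exact (wit_finite S p).lt_aleph0.le
  have h3 : #((S : Set B) ∪ ⋃ p, wit S p : Set B) ≤ max #A ℵ₀ :=
    (Cardinal.mk_union_le _ _).trans (Cardinal.add_le_of_le hκ hS h2)
  refine (Algebra.cardinalMk_adjoin_le A _).trans ?_
  exact sup_le (sup_le hA h3) hκ

/-- the chain. -/
noncomputable def chain (E : Subalgebra A B) : ℕ → Subalgebra A B
  | 0 => E
  | n + 1 => next (chain E n)

theorem chain_mono (E : Subalgebra A B) : Monotone (chain E) :=
  monotone_nat_of_le_succ fun n => le_next (chain E n)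

theorem card_chain (E : Subalgebra A B) (hE : #E ≤ max #A ℵ₀) (n : ℕ) :
    #(chain E n) ≤ max #A ℵ₀ := by
  induction n with
  | zero => exact hE
  | succ n ih => exact card_next _ ih

end


/-- The key step of its proof: let A be a ring, κ = max(|A|, ℵ₀), and B a flat A-algebra. Then every
A-subalgebra E ⊆ B with at most κ elements lies inside a flat A-subalgebra B' ⊆ B with at most κ
elements. Consequently B is the filtered colimit (union) of its flat A-subalgebras of cardinality at
most κ. -/
theorem result (A B : Type u) [CommRing A] [CommRing B] [Algebra A B]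
    [Module.Flat A B] (E : Subalgebra A B) (hE : Cardinal.mk E ≤ max (Cardinal.mk A) Cardinal.aleph0) :
    ∃ B' : Subalgebra A B, E ≤ B' ∧ Module.Flat A B' ∧ Cardinal.mk B' ≤ max (Cardinal.mk A) Cardinal.aleph0 := by
  classical
  have hdir : Directed (· ≤ ·) (chain E) := (chain_mono E).directed_le
  refine ⟨⨆ n, chain E n, le_iSup (chain E) 0, ?_, ?_⟩
  · refine Module.Flat.of_forall_isTrivialRelation ?_
    intro l f x h
    -- all x i in a common stage
    have hx : ∀ i, ∃ n, (x i : B) ∈ chain E n := fun i => by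
      have h1 : (x i : B) ∈ ((⨆ n, chain E n : Subalgebra A B) : Set B) := (x i).2
      rw [Subalgebra.coe_iSup_of_directed hdir] at h1
      simpa using h1
    choose ni hni using hx
    set n := Finset.univ.sup ni with hn
    have hxn : ∀ i, (x i : B) ∈ chain E n := fun i =>
      chain_mono E (Finset.le_sup (Finset.mem_univ i)) (hni i)
    have hB : ∑ i, f i • ((⟨x i, hxn i⟩ : chain E n) : B) = 0 := by
      have := congrArg (fun z : (⨆ n, chain E n : Subalgebra A B) => (z : B)) h
      simpa using this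
    obtain ⟨k, a, y, hy, hxy, hfa⟩ := wit_spec (chain E n) l f (fun i => ⟨x i, hxn i⟩) hB
    have hy' : ∀ j, y j ∈ (⨆ n, chain E n : Subalgebra A B) := fun j =>
      (le_iSup (chain E) (n + 1)) (wit_le_next _ _ (hy j))
    refine ⟨k, a, fun j => ⟨y j, hy' j⟩, ?_, hfa⟩
    intro i
    apply Subtype.ext
    have := hxy i
    simpa using this
  · have : ((⨆ n, chain E n : Subalgebra A B) : Set B) = ⋃ n, (chain E n : Set B) :=
      Subalgebra.coe_iSup_of_directed hdir
    have hκ : ℵ₀ ≤ max #A ℵ₀ := le_max_right _ _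
    change #((⨆ n, chain E n : Subalgebra A B) : Set B) ≤ _
    rw [this]
    have h4 := Cardinal.mk_iUnion_le_lift (fun n => (chain E n : Set B))
    rw [Cardinal.lift_uzero] at h4
    refine h4.trans ?_
    refine Cardinal.mul_le_of_le hκ (by simp) ?_
    refine ciSup_le' fun n => ?_
    rw [Cardinal.lift_uzero]
    exact card_chain E hE n

end Groth.Agent.S6386
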