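import Groth.Statements.S6390
import Mathlib
import Groth.Agent.H46.Kaplansky3

set_option autoImplicit false
set_option linter.style.haveILetI false
universe u
open scoped Classical
open CAlg

namespace Groth.Agent.S6390

/-- An R-module M is a direct sum of countably generated modules if and only if it admits a Kaplansky
dévissage, i.e. an increasing family of submodules (M_s) indexed by a well-ordered set S with M_s =
⋃_{t<s} M_t at non-successor indices (so the first term is 0), ⋃_s M_s = M, and, whenever t is the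
successor of s, M_s a direct summand of M_t with M_t/M_s countably generated. -/
theorem result (R : Type u) [CommRing R] (M : Type u)
    [AddCommGroup M] [Module R M] :
    (∃ (ι : Type u) (N : ι → Submodule R M), DirectSum.IsInternal N ∧ ∀ i, CAlg.IsCountablyGenerated R (N i)) ↔
      ∃ (S : Type u) (_ : LinearOrder S) (_ : WellFoundedLT S) (Mf : S → Submodule R M), Monotone Mf ∧
        (∀ s : S, Order.IsSuccPrelimit s → Mf s = ⨆ t : {t : S // t < s}, Mf t.1) ∧
        (⨆ s, Mf s) = ⊤ ∧
        (∀ s t : S, s ⋖ t → ∃ C : Submodule R M, Mf s ⊓ C = ⊥ ∧ Mf s ⊔ C = Mf t ∧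
          CAlg.IsCountablyGenerated R (↥(Mf t) ⧸ Submodule.comap (Mf t).subtype (Mf s))) := by
  constructor
  · rintro ⟨ι, N, hN, hcg⟩
    have hind := hN.submodule_iSupIndep
    have htop := hN.submodule_iSup_eq_top
    obtain ⟨instLO, instWF⟩ := exists_wellFoundedLT ι
    have hmonoMf : Monotone (fun s : WithTop ι => ⨆ i : ι, ⨆ (_ : (i : WithTop ι) < s), N i) :=
      fun s t hst => iSup₂_mono' fun i h => ⟨i, lt_of_lt_of_le h hst, le_rfl⟩
    refine ⟨WithTop ι, inferInstance, inferInstance,
      fun s => ⨆ i : ι, ⨆ (_ : (i : WithTop ι) < s), N i, hmonoMf, ?_, ?_, ?_⟩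
    · intro s hs
      apply le_antisymm
      · apply iSup₂_le
        intro i hi
        obtain ⟨t, hit, hts⟩ := (not_covBy_iff hi).mp (hs _)
        exact (le_iSup₂ (f := fun (j : ι) (_ : (j : WithTop ι) < t) => N j) i hit).trans
          (le_iSup (fun t : {t : WithTop ι // t < s} =>
            ⨆ i : ι, ⨆ (_ : (i : WithTop ι) < t.1), N i) ⟨t, hts⟩)
      · exact iSup_le fun t => hmonoMf t.2.le
    · rw [eq_top_iff, ← htop]
      exact iSup_le fun i =>
        (le_iSup₂ (f := fun (j : ι) (_ : (j : WithTop ι) < ⊤) => N j) i (WithTop.coe_lt_top i)).trans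
          (le_iSup (fun s : WithTop ι => ⨆ i : ι, ⨆ (_ : (i : WithTop ι) < s), N i) ⊤)
    · intro s t hst
      obtain ⟨i0, rfl⟩ := WithTop.ne_top_iff_exists.mp (ne_top_of_lt hst.lt)
      have hle0 : N i0 ≤ ⨆ i : ι, ⨆ (_ : (i : WithTop ι) < t), N i :=
        le_iSup₂ (f := fun (j : ι) (_ : (j : WithTop ι) < t) => N j) i0 hst.lt
      have hsupeq : (⨆ i : ι, ⨆ (_ : (i : WithTop ι) < (i0 : WithTop ι)), N i) ⊔ N i0 =
          ⨆ i : ι, ⨆ (_ : (i : WithTop ι) < t), N i := by
        apply le_antisymm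
        · exact sup_le (hmonoMf hst.le) hle0
        · apply iSup₂_le
          intro j hj
          have hj' : (j : WithTop ι) ≤ (i0 : WithTop ι) := hst.le_of_lt hj
          rcases lt_or_eq_of_le hj' with h | h
          · exact (le_iSup₂ (f := fun (j : ι) (_ : (j : WithTop ι) < (i0 : WithTop ι)) => N j)
              j h).trans le_sup_left
          · have : j = i0 := WithTop.coe_injective h
            rw [this]
            exact le_sup_right
      refine ⟨N i0, ?_, hsupeq, ?_⟩
      · have hle : (⨆ i : ι, ⨆ (_ : (i : WithTop ι) < (i0 : WithTop ι)), N i) ≤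
            ⨆ j : ι, ⨆ (_ : j ≠ i0), N j :=
          iSup₂_mono' fun j hj => ⟨j, ne_of_lt (WithTop.coe_lt_coe.mp hj), le_rfl⟩
        exact ((hind i0).mono_right hle).symm.eq_bot
      · refine Groth.Agent.H46.Kap.cg_of_surjective
          ((Submodule.mkQ _) ∘ₗ (Submodule.inclusion hle0)) ?_ (hcg i0)
        intro y
        obtain ⟨⟨x, hx⟩, rfl⟩ := Submodule.mkQ_surjective _ y
        have hx' : x ∈ (⨆ i : ι, ⨆ (_ : (i : WithTop ι) < (i0 : WithTop ι)), N i) ⊔ N i0 := by
          rw [hsupeq]; exact hx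
        obtain ⟨a, ha, b, hb, hab⟩ := Submodule.mem_sup.mp hx'
        refine ⟨⟨b, hb⟩, ?_⟩
        rw [LinearMap.comp_apply, Submodule.mkQ_apply, Submodule.mkQ_apply,
          Submodule.Quotient.eq]
        rw [Submodule.mem_comap]
        show (b - x) ∈ (⨆ i : ι, ⨆ (_ : (i : WithTop ι) < (i0 : WithTop ι)), N i)
        rw [← hab, sub_add_cancel_right]
        exact Submodule.neg_mem _ ha
  · rintro ⟨S, instLO, instWF, Mf, hmono, hlim, hsup, hsucc⟩
    choose! C hC using hsucc
    have hC1 : ∀ s t, s ⋖ t → Mf s ⊓ C s t = ⊥ := fun s t h => (hC s t h).1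
    have hC2 : ∀ s t, s ⋖ t → Mf s ⊔ C s t = Mf t := fun s t h => (hC s t h).2.1
    have hC3 := fun s t h => (hC s t h).2.2
    refine ⟨{p : S × S // p.1 ⋖ p.2}, fun p => C p.1.1 p.1.2,
      by convert Groth.Agent.H46.Kap.devissage_internal Mf hmono hlim hsup C hC1 hC2, ?_⟩
    intro p
    obtain ⟨e⟩ := Groth.Agent.H46.Kap.devissage_quotEquiv Mf hmono C hC1 hC2 p.1.1 p.1.2 p.2
    exact Groth.Agent.H46.Kap.cg_of_surjective e.symm.toLinearMap e.symm.surjective (hC3 _ _ p.2)

end Groth.Agent.S6390
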