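import Groth.Statements.S6391
import Groth.Agent.H14.HenselLift
import Groth.Agent.S2782

set_option autoImplicit false
universe u
open CAlg

namespace Groth.Agent.S6391

open CategoryTheory CategoryTheory.Limits IsLocalRing

section Aux

/-- Unique lifting of points of étale algebras to a henselian local ring with residue field `K`. -/
theorem existsUnique_lift_of_etale {R A T K : Type u} [CommRing R] [CommRing A] [Algebra R A]
    [Algebra.Etale R A] [CommRing T] [HenselianLocalRing T] [Algebra R T] [Field K] [Algebra R K]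
    (v : T →ₐ[R] K) (hv : Function.Surjective v)
    (hkv : RingHom.ker v.toRingHom = maximalIdeal T) (α : A →ₐ[R] K) :
    ∃! φ : A →ₐ[R] T, v.comp φ = α := by
  haveI : IsLocalHom v.toRingHom := ⟨fun x hx => by
    by_contra h
    have hm : x ∈ maximalIdeal T := (mem_maximalIdeal x).mpr h
    rw [← hkv, RingHom.mem_ker] at hm
    rw [hm] at hx
    exact not_isUnit_zero hx⟩
  let vbar : ResidueField T →+* K := ResidueField.lift v.toRingHom
  have hvbar : ∀ t, vbar (residue T t) = v t := fun t => rfl
  have hvbar_surj : Function.Surjective vbar := fun k => by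
    obtain ⟨t, rfl⟩ := hv k
    exact ⟨residue T t, rfl⟩
  let E : ResidueField T ≃+* K := RingEquiv.ofBijective vbar ⟨vbar.injective, hvbar_surj⟩
  let ρ : A →ₐ[R] ResidueField T :=
    { toRingHom := (E.symm : K →+* ResidueField T).comp α.toRingHom
      commutes' := fun r => by
        show E.symm (α (algebraMap R A r)) = algebraMap R (ResidueField T) r
        rw [RingEquiv.symm_apply_eq, α.commutes]
        show algebraMap R K r = vbar (residue T (algebraMap R T r))
        rw [hvbar, v.commutes] }
  have hρ : ∀ a, vbar (ρ a) = α a := fun a => E.apply_symm_apply (α a)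
  obtain ⟨φ, hφ⟩ := Groth.Agent.H14.exists_lift_of_etale ρ
  have hφα : ∀ a, v (φ a) = α a := fun a => by rw [← hvbar, hφ, hρ]
  refine ⟨φ, AlgHom.ext hφα, fun ψ hψ => ?_⟩
  apply Groth.Agent.S2782.algHom_eq_of_residue_eq
  intro x
  apply vbar.injective
  rw [hvbar, hvbar, hφα]
  exact AlgHom.congr_fun hψ x

variable {R : Type u} [CommRing R]

/-- The object of `Under R` attached to an algebra. -/
abbrev U (T : Type u) [CommRing T] [Algebra R T] : Under (CommRingCat.of R) :=
  Under.mk (CommRingCat.ofHom (algebraMap R T))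

/-- The morphism attached to an algebra map. -/
def toU {S T : Type u} [CommRing S] [CommRing T] [Algebra R S] [Algebra R T] (h : S →ₐ[R] T) :
    U (R := R) S ⟶ U T :=
  Under.homMk (CommRingCat.ofHom h.toRingHom) (by
    apply CommRingCat.hom_ext
    apply RingHom.ext
    intro r
    exact h.commutes r)

theorem toU_injective {S T : Type u} [CommRing S] [CommRing T] [Algebra R S] [Algebra R T]
    {h₁ h₂ : S →ₐ[R] T} (H : toU h₁ = toU h₂) : h₁ = h₂ :=
  AlgHom.ext fun s => congrArg (fun t => t.right.hom s) H

/-- Morphisms into `U T` give algebra maps. -/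
def ofU (X : Under (CommRingCat.of R)) (T : Type u) [CommRing T] [Algebra R T] (f : X ⟶ U T) :
    @AlgHom R X.right T _ _ _ X.hom.hom.toAlgebra _ :=
  letI := X.hom.hom.toAlgebra
  { toRingHom := f.right.hom
    commutes' := fun r => congrArg (fun t => t.hom r) (Under.w f) }

/-- Algebra maps give morphisms into `U T`. -/
def mkU (X : Under (CommRingCat.of R)) (T : Type u) [CommRing T] [Algebra R T]
    (φ : @AlgHom R X.right T _ _ _ X.hom.hom.toAlgebra _) : X ⟶ U T :=
  letI := X.hom.hom.toAlgebra
  Under.homMk (CommRingCat.ofHom φ.toRingHom) (by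
    apply CommRingCat.hom_ext
    apply RingHom.ext
    intro r
    exact φ.commutes r)

/-- Morphisms of `Under R` as algebra maps. -/
def mapAlg {X Y : Under (CommRingCat.of R)} (f : X ⟶ Y) :
    @AlgHom R X.right Y.right _ _ _ X.hom.hom.toAlgebra Y.hom.hom.toAlgebra :=
  letI := X.hom.hom.toAlgebra
  letI := Y.hom.hom.toAlgebra
  { toRingHom := f.right.hom
    commutes' := fun r => congrArg (fun t => t.hom r) (Under.w f) }

theorem existsUnique_lift_of_colimit {J : Type u} [SmallCategory J]
    (D : J ⥤ Under (CommRingCat.of R)) (c : Cocone D) (hc : IsColimit c)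
    (hD : ∀ j, letI := (D.obj j).hom.hom.toAlgebra; Algebra.Etale R (D.obj j).right)
    (S : Type u) [CommRing S] [Algebra R S] (e : c.pt ≅ U S)
    (T : Type u) [CommRing T] [HenselianLocalRing T] [Algebra R T] (K : Type u) [Field K]
    [Algebra R K] (v : T →ₐ[R] K) (hv : Function.Surjective v)
    (hkv : RingHom.ker v.toRingHom = maximalIdeal T) (u : S →ₐ[R] K) :
    ∃! g : S →ₐ[R] T, v.comp g = u := by
  classical
  letI inst : ∀ j, Algebra R (D.obj j).right := fun j => (D.obj j).hom.hom.toAlgebra
  haveI het : ∀ j, Algebra.Etale R (D.obj j).right := hD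
  let leg : ∀ j, (D.obj j).right →ₐ[R] S := fun j => ofU (D.obj j) S (c.ι.app j ≫ e.hom)
  have hleg_nat : ∀ {j k : J} (a : j ⟶ k) (x : (D.obj j).right),
      leg k ((D.map a).right.hom x) = leg j x := by
    intro j k a x
    exact congrArg (fun t => (t ≫ e.hom).right.hom x) (c.w a)
  have hext : ∀ (W : Type u) [CommRing W] [Algebra R W] (h₁ h₂ : S →ₐ[R] W),
      (∀ j x, h₁ (leg j x) = h₂ (leg j x)) → h₁ = h₂ := by
    intro W _ _ h₁ h₂ H
    apply toU_injective
    have h3 : e.hom ≫ toU h₁ = e.hom ≫ toU h₂ := by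
      apply hc.hom_ext
      intro j
      apply Under.UnderMorphism.ext
      apply CommRingCat.hom_ext
      apply RingHom.ext
      intro x
      exact H j x
    exact (cancel_epi e.hom).mp h3
  have hφ : ∀ j, ∃! φ : (D.obj j).right →ₐ[R] T, v.comp φ = u.comp (leg j) := fun j =>
    existsUnique_lift_of_etale v hv hkv _
  choose φ hφ1' hφ2' using hφ
  have hφ1 : ∀ j, v.comp (φ j) = u.comp (leg j) := hφ1'
  have hφ2 : ∀ j (ψ : (D.obj j).right →ₐ[R] T), v.comp ψ = u.comp (leg j) → ψ = φ j := hφ2'
  have hφ_nat : ∀ {j k : J} (a : j ⟶ k) (x : (D.obj j).right),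
      φ k ((D.map a).right.hom x) = φ j x := by
    intro j k a x
    have h4 : (φ k).comp (mapAlg (D.map a)) = φ j := hφ2 j _ (by
      rw [← AlgHom.comp_assoc, hφ1 k]
      exact AlgHom.ext fun y => congrArg u (hleg_nat a y))
    exact AlgHom.congr_fun h4 x
  let s : Cocone D :=
    { pt := U T
      ι :=
        { app := fun j => mkU (D.obj j) T (φ j)
          naturality := fun j k a => by
            apply Under.UnderMorphism.ext
            apply CommRingCat.hom_ext
            apply RingHom.ext
            intro x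
            exact hφ_nat a x } }
  let gU : U S ⟶ U T := e.inv ≫ hc.desc s
  let g : S →ₐ[R] T :=
    { toRingHom := gU.right.hom
      commutes' := fun r => congrArg (fun t => t.hom r) (Under.w gU) }
  have hg_leg : ∀ j x, g (leg j x) = φ j x := by
    intro j x
    have h5 : (c.ι.app j ≫ e.hom) ≫ gU = s.ι.app j := by
      show (c.ι.app j ≫ e.hom) ≫ (e.inv ≫ hc.desc s) = s.ι.app j
      rw [Category.assoc, Iso.hom_inv_id_assoc]
      exact hc.fac s j
    exact congrArg (fun t => t.right.hom x) h5
  refine ⟨g, ?_, ?_⟩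
  · apply hext K
    intro j x
    show v (g (leg j x)) = u (leg j x)
    rw [hg_leg]
    exact AlgHom.congr_fun (hφ1 j) x
  · intro g₂ hg₂
    apply hext T
    intro j x
    rw [hg_leg]
    have h6 : g₂.comp (leg j) = φ j := hφ2 j _ (by rw [← AlgHom.comp_assoc, hg₂])
    exact AlgHom.congr_fun h6 x

end Aux


/-- Let R be a ring, S and S' henselian local rings which are filtered colimits of étale R-algebras, and
K a field together with R-algebra maps S → K and S' → K identifying K with the residue field of each
(surjective with kernel the maximal ideal). Then exactly one isomorphism of R-algebras S → S'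
commutes with the two maps to K. -/
theorem result (R S S' K : Type u) [CommRing R]
    [CommRing S] [CommRing S'] [Field K] [HenselianLocalRing S] [HenselianLocalRing S']
    [Algebra R S] [Algebra R S'] [Algebra R K] (hS : EtPBC.IsIndEtale R S) (hS' : EtPBC.IsIndEtale R S')
    (u : S →ₐ[R] K) (u' : S' →ₐ[R] K) (hu : Function.Surjective u) (hu' : Function.Surjective u')
    (hku : RingHom.ker u.toRingHom = IsLocalRing.maximalIdeal S)
    (hku' : RingHom.ker u'.toRingHom = IsLocalRing.maximalIdeal S') :
    ∃! e : S ≃ₐ[R] S', u'.comp (e : S →ₐ[R] S') = u := by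
  obtain ⟨J, iJ, iF, D, c, hc, hD, ⟨e⟩⟩ := hS
  obtain ⟨J', iJ', iF', D', c', hc', hD', ⟨e'⟩⟩ := hS'
  have M1 := existsUnique_lift_of_colimit D c hc hD S e S' K u' hu' hku' u
  have M2 := existsUnique_lift_of_colimit D' c' hc' hD' S' e' S K u hu hku u'
  have M3 := existsUnique_lift_of_colimit D c hc hD S e S K u hu hku u
  have M4 := existsUnique_lift_of_colimit D' c' hc' hD' S' e' S' K u' hu' hku' u'
  obtain ⟨g, hg, hgu⟩ := M1
  obtain ⟨g', hg', -⟩ := M2
  have h1 : g'.comp g = AlgHom.id R S :=
    M3.unique (by rw [← AlgHom.comp_assoc, hg', hg]) (AlgHom.comp_id u)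
  have h2 : g.comp g' = AlgHom.id R S' :=
    M4.unique (by rw [← AlgHom.comp_assoc, hg, hg']) (AlgHom.comp_id u')
  refine ⟨AlgEquiv.ofAlgHom g g' h2 h1, ?_, ?_⟩
  · exact hg
  · intro e₂ he₂
    have h3 : (e₂ : S →ₐ[R] S') = g := hgu _ he₂
    exact AlgEquiv.ext fun x => AlgHom.congr_fun h3 x

end Groth.Agent.S6391
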