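import Groth.Statements.S6395
import Groth.Agent.S5139
-- import your own Groth.Agent.* helpers here

set_option autoImplicit false
open CategoryTheory
universe v u
open FibCat

namespace Groth.Agent.S6395

universe v₂ u₂ v₃ u₃

/-- A fully faithful functor over `C` which is essentially surjective over identities preserves
strongly cartesian morphisms. -/
theorem sc_map_of_ff {C : Type u} [Category.{v} C] {𝒳 : BasedCategory.{v₂, u₂} C}
    {𝒴 : BasedCategory.{v₃, u₃} C} (F : 𝒳 ⥤ᵇ 𝒴) [F.toFunctor.Full] [F.toFunctor.Faithful]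
    (hess : ∀ η : 𝒴.obj, ∃ (ξ : 𝒳.obj) (e : F.toFunctor.obj ξ ≅ η),
      𝒴.p.IsHomLift (𝟙 (𝒴.p.obj η)) e.hom)
    {R S : C} (f : R ⟶ S) {a b : 𝒳.obj} (φ : a ⟶ b) [𝒳.p.IsStronglyCartesian f φ] :
    𝒴.p.IsStronglyCartesian f (F.map φ) := by
  refine ⟨?_⟩
  intro a' g φ' hφ'
  obtain ⟨ξ, e, he⟩ := hess a'
  have h1 : 𝒴.p.IsHomLift (g ≫ f) (e.hom ≫ φ') := inferInstance
  let θ : ξ ⟶ b := F.toFunctor.preimage (e.hom ≫ φ')
  have hθ : F.map θ = e.hom ≫ φ' := F.toFunctor.map_preimage _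
  have h2 : 𝒴.p.IsHomLift (g ≫ f) (F.map θ) := by rw [hθ]; exact h1
  have h3 : 𝒳.p.IsHomLift (g ≫ f) θ := F.isHomLift_map (g ≫ f) θ
  let χ₀ : ξ ⟶ a := Functor.IsStronglyCartesian.map 𝒳.p f φ (f' := g ≫ f) rfl θ
  have hχ₀ : 𝒳.p.IsHomLift g χ₀ := inferInstance
  have hfac : χ₀ ≫ φ = θ := Functor.IsStronglyCartesian.fac 𝒳.p f φ rfl θ
  have hinv : 𝒴.p.IsHomLift (𝟙 (𝒴.p.obj a')) e.inv := inferInstance
  have h4 : 𝒴.p.IsHomLift g (F.map χ₀) := inferInstance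
  refine ⟨e.inv ≫ F.map χ₀, ⟨inferInstance, ?_⟩, ?_⟩
  · rw [Category.assoc, ← F.toFunctor.map_comp, hfac]
    change e.inv ≫ F.map θ = φ'
    rw [hθ, Iso.inv_hom_id_assoc]
  · rintro χ' ⟨hχ'1, hχ'2⟩
    have h5 : 𝒴.p.IsHomLift g (e.hom ≫ χ') := inferInstance
    let χ₁ : ξ ⟶ a := F.toFunctor.preimage (e.hom ≫ χ')
    have hχ₁ : F.map χ₁ = e.hom ≫ χ' := F.toFunctor.map_preimage _
    have h6 : 𝒴.p.IsHomLift g (F.map χ₁) := by rw [hχ₁]; exact h5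
    have h7 : 𝒳.p.IsHomLift g χ₁ := F.isHomLift_map g χ₁
    have h8 : χ₁ ≫ φ = θ := by
      apply F.toFunctor.map_injective
      rw [F.toFunctor.map_comp]
      rw [hχ₁, hθ, Category.assoc, hχ'2]
    have h9 : χ₁ = χ₀ := Functor.IsStronglyCartesian.map_uniq 𝒳.p f φ rfl θ χ₁ h8
    rw [← h9, hχ₁, Iso.inv_hom_id_assoc]


/-- An equivalence `F : 𝒳 ⟶ 𝒴` in the 2-category of categories over `C` maps strongly cartesian
morphisms to strongly cartesian morphisms. -/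
theorem result {C : Type u} [Category.{v} C] {𝒳 𝒴 : BasedCategory.{v, max u v} C} (F : 𝒳 ⥤ᵇ 𝒴) (hF : FibCat.IsEquivOver F)
    {R S : C} (f : R ⟶ S) {a b : 𝒳.obj} (φ : a ⟶ b) [𝒳.p.IsStronglyCartesian f φ] :
    𝒴.p.IsStronglyCartesian f (F.map φ) := by
  obtain ⟨⟨hfull, hfaith⟩, hess⟩ := (Groth.Agent.S5139.result F).mp hF
  exact sc_map_of_ff F hess f φ

end Groth.Agent.S6395
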