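import Groth.Statements.S6394
import Groth.Agent.S6395
-- import your own Groth.Agent.* helpers here

set_option autoImplicit false
open CategoryTheory
universe v u
open FibCat

namespace Groth.Agent.S6394

universe v₂ u₂ v₃ u₃

theorem isFibered_of_ff {C : Type u} [Category.{v} C] {𝒳 : BasedCategory.{v₂, u₂} C}
    {𝒴 : BasedCategory.{v₃, u₃} C} (F : 𝒳 ⥤ᵇ 𝒴) [F.toFunctor.Full] [F.toFunctor.Faithful]
    (hess : ∀ η : 𝒴.obj, ∃ (ξ : 𝒳.obj) (e : F.toFunctor.obj ξ ≅ η),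
      𝒴.p.IsHomLift (𝟙 (𝒴.p.obj η)) e.hom) [𝒳.p.IsFibered] : 𝒴.p.IsFibered := by
  apply Functor.IsFibered.of_exists_isStronglyCartesian
  intro a R f
  obtain ⟨ξ, e, he⟩ := hess a
  have hξ : 𝒳.p.obj ξ = 𝒴.p.obj a :=
    (F.w_obj ξ).symm.trans (IsHomLift.domain_eq 𝒴.p (𝟙 (𝒴.p.obj a)) e.hom)
  obtain ⟨b, φ, hφ⟩ := IsPreFibered.exists_isCartesian 𝒳.p hξ f
  have hsc : 𝒳.p.IsStronglyCartesian f φ := inferInstance
  have h1 : 𝒴.p.IsStronglyCartesian f (F.map φ) := Groth.Agent.S6395.sc_map_of_ff F hess f φ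
  have h2 : 𝒴.p.IsStronglyCartesian (𝟙 (𝒴.p.obj a)) e.hom := inferInstance
  have h3 : 𝒴.p.IsStronglyCartesian (f ≫ 𝟙 (𝒴.p.obj a)) (F.map φ ≫ e.hom) := inferInstance
  rw [Category.comp_id] at h3
  exact ⟨_, _, h3⟩


/-- If `F : 𝒳 ⟶ 𝒴` is an equivalence in the 2-category of categories over `C`, then `𝒳` is fibred over
`C` if and only if `𝒴` is. -/
theorem result {C : Type u} [Category.{v} C] {𝒳 𝒴 : BasedCategory.{v, max u v} C} (F : 𝒳 ⥤ᵇ 𝒴) (hF : FibCat.IsEquivOver F) :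
    𝒳.p.IsFibered ↔ 𝒴.p.IsFibered := by
  constructor
  · intro h
    obtain ⟨⟨hfull, hfaith⟩, hess⟩ := (Groth.Agent.S5139.result F).mp hF
    exact isFibered_of_ff F hess
  · intro h
    obtain ⟨G, e₁, e₂⟩ := hF
    have hG : FibCat.IsEquivOver G := ⟨F, e₂, e₁⟩
    obtain ⟨⟨hfull, hfaith⟩, hess⟩ := (Groth.Agent.S5139.result G).mp hG
    exact isFibered_of_ff G hess

end Groth.Agent.S6394
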