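import Groth.Statements.S6396
import Groth.Agent.S6393
-- import your own Groth.Agent.* helpers here

set_option autoImplicit false
open CategoryTheory
universe v u
open FibCat

namespace Groth.Agent.S6396

/-- A functor `G` over `C` between categories fibred in groupoids is faithful if and only if each
induced functor of fibre categories `𝒳_U ⥤ 𝒴_U` is faithful. -/
theorem result {C : Type u} [Category.{v} C] {𝒳 𝒴 : BasedCategory.{v, max u v} C} (G : 𝒳 ⥤ᵇ 𝒴) (h𝒳 : FibCat.IsFibGrpd 𝒳.p) (h𝒴 : FibCat.IsFibGrpd 𝒴.p) :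
    G.toFunctor.Faithful ↔ ∀ U : C, (FibCat.fiberFunctor G U).Faithful := by
  constructor
  · intro hG U
    refine ⟨fun {x y} φ ψ h => ?_⟩
    apply Functor.Fiber.hom_ext
    apply G.toFunctor.map_injective
    have := congrArg Subtype.val h
    exact this
  · intro hfib
    refine ⟨fun {x y} φ ψ h => ?_⟩
    have h0 : 𝒴.p.IsHomLift (𝒳.p.map ψ) (G.map φ) := by
      rw [h]
      exact inferInstanceAs (𝒴.p.IsHomLift (𝒳.p.map ψ) (G.map ψ))
    have hφ : 𝒳.p.IsHomLift (𝒳.p.map ψ) φ := G.isHomLift_map _ _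
    have hsc : 𝒳.p.IsStronglyCartesian (𝒳.p.map ψ) ψ := h𝒳.isStronglyCartesian ψ
    have hid : 𝒳.p.map ψ = 𝟙 (𝒳.p.obj x) ≫ 𝒳.p.map ψ := (Category.id_comp _).symm
    let χ : x ⟶ x := Functor.IsStronglyCartesian.map 𝒳.p (𝒳.p.map ψ) ψ hid φ
    have hχ : 𝒳.p.IsHomLift (𝟙 (𝒳.p.obj x)) χ := inferInstance
    have hfac : χ ≫ ψ = φ := Functor.IsStronglyCartesian.fac 𝒳.p (𝒳.p.map ψ) ψ hid φ
    have hscY : 𝒴.p.IsStronglyCartesian (𝒳.p.map ψ) (G.map ψ) :=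
      Groth.Agent.S6393.sc_of_homLift 𝒴.p (𝒳.p.map ψ) (G.map ψ) (h𝒴.isStronglyCartesian _)
    have h1 : 𝒴.p.IsHomLift (𝟙 (𝒳.p.obj x)) (G.map χ) := inferInstance
    have h2 : 𝒴.p.IsHomLift (𝟙 (𝒳.p.obj x)) (𝟙 (G.obj x)) := inferInstance
    have h3 : G.map χ ≫ G.map ψ = 𝟙 (G.obj x) ≫ G.map ψ := by
      rw [Category.id_comp]
      rw [← G.toFunctor.map_comp, hfac, h]
    have h4 : G.map χ = 𝟙 (G.obj x) :=
      Functor.IsStronglyCartesian.ext 𝒴.p (𝒳.p.map ψ) (G.map ψ) (𝟙 (𝒳.p.obj x)) h3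
    have := hfib (𝒳.p.obj x)
    let X₀ : 𝒳.p.Fiber (𝒳.p.obj x) := Functor.Fiber.mk (p := 𝒳.p) (S := 𝒳.p.obj x) (a := x) rfl
    let χf : X₀ ⟶ X₀ := ⟨χ, hχ⟩
    have h5 : (FibCat.fiberFunctor G (𝒳.p.obj x)).map χf =
        (FibCat.fiberFunctor G (𝒳.p.obj x)).map (𝟙 X₀) := by
      apply Functor.Fiber.hom_ext
      change G.toFunctor.map χ = G.toFunctor.map (𝟙 x)
      rw [G.toFunctor.map_id]
      exact h4
    have h6 : χf = 𝟙 X₀ := (FibCat.fiberFunctor G (𝒳.p.obj x)).map_injective h5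
    have h7 : χ = 𝟙 x := congrArg Subtype.val h6
    rw [← hfac, h7, Category.id_comp]

end Groth.Agent.S6396
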