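import Groth.Statements.S6397
import Groth.Agent.H32.FibFull
import Groth.Agent.S6396
-- import your own Groth.Agent.* helpers here

set_option autoImplicit false
open CategoryTheory
universe v u
open FibCat

namespace Groth.Agent.S6397

/-- A functor `G` over `C` between categories fibred in groupoids is fully faithful if and only if each
induced functor of fibre categories `𝒳_U ⥤ 𝒴_U` is fully faithful. -/
theorem result {C : Type u} [Category.{v} C] {𝒳 𝒴 : BasedCategory.{v, max u v} C} (G : 𝒳 ⥤ᵇ 𝒴) (h𝒳 : FibCat.IsFibGrpd 𝒳.p) (h𝒴 : FibCat.IsFibGrpd 𝒴.p) :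
    (G.toFunctor.Full ∧ G.toFunctor.Faithful) ↔ ∀ U : C, (FibCat.fiberFunctor G U).Full ∧ (FibCat.fiberFunctor G U).Faithful := by
  open Groth.Agent.H32.FibProd in
  constructor
  · rintro ⟨hfull, hfaith⟩ U
    refine ⟨⟨fun {a b} h => ?_⟩, ⟨fun {a b} φ ψ h => ?_⟩⟩
    · obtain ⟨φ, hφ⟩ := G.toFunctor.map_surjective (X := a.1) (Y := b.1) h.1
      have h2 : 𝒴.p.IsHomLift (𝟙 U) h.1 := h.2
      have h3 : 𝒴.p.IsHomLift (𝟙 U) (G.map φ) := by
        rw [hφ]; exact h2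
      have h4 : 𝒳.p.IsHomLift (𝟙 U) φ := G.isHomLift_map _ _
      exact ⟨⟨φ, h4⟩, Functor.Fiber.hom_ext hφ⟩
    · apply Functor.Fiber.hom_ext
      apply G.toFunctor.map_injective
      exact congrArg Subtype.val h
  · intro H
    refine ⟨?_, (Groth.Agent.S6396.result G h𝒳 h𝒴).mpr (fun U => (H U).2)⟩
    apply full_of_fiberwise G h𝒳 h𝒴
    intro x x' hx χ hχ
    let a : 𝒳.p.Fiber (𝒳.p.obj x) := ⟨x, rfl⟩
    let b : 𝒳.p.Fiber (𝒳.p.obj x) := ⟨x', hx⟩
    let χf : (FibCat.fiberFunctor G (𝒳.p.obj x)).obj a ⟶ (FibCat.fiberFunctor G (𝒳.p.obj x)).obj b :=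
      ⟨χ, hχ⟩
    have := (H (𝒳.p.obj x)).1
    obtain ⟨χ₀, h⟩ := (FibCat.fiberFunctor G (𝒳.p.obj x)).map_surjective χf
    exact ⟨χ₀.1, congrArg Subtype.val h⟩

end Groth.Agent.S6397
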