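import Groth.Statements.S6398
import Groth.Agent.H32.FibFull
import Groth.Agent.S6396
-- import your own Groth.Agent.* helpers here

set_option autoImplicit false
open CategoryTheory
universe v u
open FibCat

namespace Groth.Agent.S6398

/-- A functor `G` over `C` between categories fibred in groupoids is an equivalence of categories if and
only if each induced functor of fibre categories `𝒳_U ⥤ 𝒴_U` is an equivalence of categories. -/
theorem result {C : Type u} [Category.{v} C] {𝒳 𝒴 : BasedCategory.{v, max u v} C} (G : 𝒳 ⥤ᵇ 𝒴) (h𝒳 : FibCat.IsFibGrpd 𝒳.p) (h𝒴 : FibCat.IsFibGrpd 𝒴.p) :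
    G.toFunctor.IsEquivalence ↔ ∀ U : C, (FibCat.fiberFunctor G U).IsEquivalence := by
  open Groth.Agent.H32.FibProd in
  constructor
  · intro hE U
    refine { faithful := ?_, full := ?_, essSurj := ?_ }
    · refine ⟨fun {a b} φ ψ h => ?_⟩
      apply Functor.Fiber.hom_ext
      apply G.toFunctor.map_injective
      exact congrArg Subtype.val h
    · refine ⟨fun {a b} h => ?_⟩
      obtain ⟨φ, hφ⟩ := G.toFunctor.map_surjective (X := a.1) (Y := b.1) h.1
      have h2 : 𝒴.p.IsHomLift (𝟙 U) h.1 := h.2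
      have h3 : 𝒴.p.IsHomLift (𝟙 U) (G.map φ) := by
        rw [hφ]; exact h2
      have h4 : 𝒳.p.IsHomLift (𝟙 U) φ := G.isHomLift_map _ _
      exact ⟨⟨φ, h4⟩, Functor.Fiber.hom_ext hφ⟩
    · refine ⟨fun η => ?_⟩
      let ξ := G.toFunctor.objPreimage η.1
      let e : G.obj ξ ≅ η.1 := G.toFunctor.objObjPreimageIso η.1
      let u : 𝒳.p.obj ξ ⟶ U := eqToHom (G.w_obj ξ).symm ≫ 𝒴.p.map e.hom ≫ eqToHom η.2
      have hu : 𝒴.p.IsHomLift u e.hom := inferInstance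
      have huiso : IsIso u := inferInstance
      obtain ⟨ξ', φ, hφ⟩ := h𝒳.exists_lift (x := ξ) (inv u)
      have hφiso : IsIso φ := isIso_of_isFibGrpd 𝒳.p h𝒳 (inv u) φ
      have hGφ : 𝒴.p.IsHomLift (inv u) (G.map φ) := inferInstance
      have ht0 : 𝒴.p.IsHomLift (inv u ≫ u) (G.map φ ≫ e.hom) := inferInstance
      rw [IsIso.inv_hom_id] at ht0
      have hGφiso : IsIso (G.map φ) := Functor.map_isIso G.toFunctor φ
      have htiso : IsIso (G.map φ ≫ e.hom) := inferInstance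
      let ξ'₀ : 𝒳.p.Fiber U := ⟨ξ', IsHomLift.domain_eq 𝒳.p (inv u) φ⟩
      exact ⟨ξ'₀, ⟨@fiberIso _ _ _ _ 𝒴.p U ((FibCat.fiberFunctor G U).obj ξ'₀) η
        (G.map φ ≫ e.hom) htiso ht0⟩⟩
  · intro H
    refine { faithful := ?_, full := ?_, essSurj := ?_ }
    · exact (Groth.Agent.S6396.result G h𝒳 h𝒴).mpr (fun U => (H U).faithful)
    · apply full_of_fiberwise G h𝒳 h𝒴
      intro x x' hx χ hχ
      let a : 𝒳.p.Fiber (𝒳.p.obj x) := ⟨x, rfl⟩
      let b : 𝒳.p.Fiber (𝒳.p.obj x) := ⟨x', hx⟩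
      let χf : (FibCat.fiberFunctor G (𝒳.p.obj x)).obj a ⟶ (FibCat.fiberFunctor G (𝒳.p.obj x)).obj b :=
        ⟨χ, hχ⟩
      have := (H (𝒳.p.obj x)).full
      obtain ⟨χ₀, h⟩ := (FibCat.fiberFunctor G (𝒳.p.obj x)).map_surjective χf
      exact ⟨χ₀.1, congrArg Subtype.val h⟩
    · refine ⟨fun η => ?_⟩
      let η₀ : 𝒴.p.Fiber (𝒴.p.obj η) := ⟨η, rfl⟩
      have := (H (𝒴.p.obj η)).essSurj
      let ξ₀ := (FibCat.fiberFunctor G (𝒴.p.obj η)).objPreimage η₀
      let i : (FibCat.fiberFunctor G (𝒴.p.obj η)).obj ξ₀ ≅ η₀ :=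
        (FibCat.fiberFunctor G (𝒴.p.obj η)).objObjPreimageIso η₀
      exact ⟨ξ₀.1, ⟨Functor.Fiber.fiberInclusion.mapIso i⟩⟩

end Groth.Agent.S6398
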