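import Groth.Statements.S6399
import Groth.Agent.H32.FibFull
import Groth.Agent.S5139
-- import your own Groth.Agent.* helpers here

set_option autoImplicit false
open CategoryTheory
universe v u
open FibCat

namespace Groth.Agent.S6399

open Groth.Agent.H32.FibProd in
theorem diag_iso_hom {C : Type u} [Category.{v} C] {𝒳 𝒴 : BasedCategory.{v, max u v} C}
    (G : 𝒳 ⥤ᵇ 𝒴) (x : 𝒳.obj) : ((FibCat.diag G).obj x).obj.iso.hom = 𝟙 (G.obj x) := rfl


/-- A functor `G : 𝒳 ⟶ 𝒴` over `C` between categories fibred in groupoids is fully faithful if and only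
if the diagonal `𝒳 ⟶ 𝒳 ×_𝒴 𝒳` is an equivalence over `C`. -/
theorem result {C : Type u} [Category.{v} C] {𝒳 𝒴 : BasedCategory.{v, max u v} C} (G : 𝒳 ⥤ᵇ 𝒴) (h𝒳 : FibCat.IsFibGrpd 𝒳.p) (h𝒴 : FibCat.IsFibGrpd 𝒴.p) :
    (G.toFunctor.Full ∧ G.toFunctor.Faithful) ↔ FibCat.IsEquivOver (FibCat.diag G) := by
  open Groth.Agent.H32.FibProd in
  rw [Groth.Agent.S5139.result]
  constructor
  · rintro ⟨hfull, hfaith⟩
    refine ⟨⟨⟨fun {x x'} m => ?_⟩, ⟨fun {x x'} a b h => ?_⟩⟩, fun z => ?_⟩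
    · obtain ⟨a, b, hab, ha, hb⟩ : ∃ (a b : x ⟶ x'),
          G.map a ≫ 𝟙 (G.obj x') = 𝟙 (G.obj x) ≫ G.map b ∧ m.hom.fst = a ∧ m.hom.snd = b :=
        ⟨m.hom.fst, m.hom.snd, m.hom.w, rfl, rfl⟩
      rw [Category.comp_id, Category.id_comp] at hab
      have h1 : a = b := G.toFunctor.map_injective hab
      refine ⟨a, ?_⟩
      exact fp_hom_ext G G ha.symm (h1.trans hb.symm)
    · have := congrArg (fun k => k.hom.fst) h
      exact this
    · let t : z.obj.fst ⟶ z.obj.snd := G.toFunctor.preimage z.obj.iso.hom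
      have ht : G.map t = z.obj.iso.hom := G.toFunctor.map_preimage _
      have hti : IsIso (G.toFunctor.map t) := by
        rw [ht]; infer_instance
      have htiso : IsIso t := isIso_of_fully_faithful G.toFunctor t
      let tinv : z.obj.snd ⟶ z.obj.fst := inv t
      have ht' : G.map tinv = z.obj.iso.inv := by
        have : G.map (inv t) = inv (G.map t) := G.toFunctor.map_inv t
        change G.map (inv t) = _
        rw [this]
        apply IsIso.inv_eq_of_hom_inv_id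
        rw [ht]; exact z.obj.iso.hom_inv_id
      have w₁ : G.map (𝟙 z.obj.fst) ≫ z.obj.iso.hom = 𝟙 (G.obj z.obj.fst) ≫ G.map t := by
        rw [Category.id_comp, ht]
        rw [G.toFunctor.map_id, Category.id_comp]
      have w₂ : G.map (𝟙 z.obj.fst) ≫ 𝟙 (G.obj z.obj.fst) = z.obj.iso.hom ≫ G.map tinv := by
        rw [Category.comp_id, ht', Iso.hom_inv_id]
        exact G.toFunctor.map_id _
      let e₁ : (FibCat.diag G).obj z.obj.fst ⟶ z :=
        mkHom G G (z' := (FibCat.diag G).obj z.obj.fst) (z := z) (𝟙 z.obj.fst) t w₁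
      let e₂ : z ⟶ (FibCat.diag G).obj z.obj.fst :=
        mkHom G G (z' := z) (z := (FibCat.diag G).obj z.obj.fst) (𝟙 z.obj.fst) tinv w₂
      have c1 : (𝟙 z.obj.fst) ≫ (𝟙 z.obj.fst) = 𝟙 z.obj.fst := Category.id_comp _
      have c2 : t ≫ tinv = 𝟙 z.obj.fst := IsIso.hom_inv_id t
      have c3 : tinv ≫ t = 𝟙 z.obj.snd := IsIso.inv_hom_id t
      refine ⟨z.obj.fst, ⟨e₁, e₂, ?_, ?_⟩, ?_⟩
      · exact fp_hom_ext G G c1 c2
      · exact fp_hom_ext G G c1 c3
      · rw [fp_isHomLift_iff]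
        change 𝒳.p.IsHomLift (𝟙 (𝒳.p.obj z.obj.fst)) (𝟙 z.obj.fst)
        infer_instance
  · rintro ⟨⟨hfull, hfaith⟩, hess⟩
    have hfaithG : G.toFunctor.Faithful := by
      refine ⟨fun {x y} a b h => ?_⟩
      have w : G.map a ≫ 𝟙 (G.obj y) = 𝟙 (G.obj x) ≫ G.map b := by
        rw [Category.comp_id, Category.id_comp]; exact h
      let m : (FibCat.diag G).obj x ⟶ (FibCat.diag G).obj y :=
        mkHom G G (z' := (FibCat.diag G).obj x) (z := (FibCat.diag G).obj y) a b w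
      obtain ⟨c, hc⟩ := (FibCat.diag G).toFunctor.map_surjective m
      have h1 : c = a := congrArg (fun k => k.hom.fst) hc
      have h2 : c = b := congrArg (fun k => k.hom.snd) hc
      exact h1.symm.trans h2
    refine ⟨?_, hfaithG⟩
    apply full_of_fiberwise G h𝒳 h𝒴
    intro x x' hx χ hχ
    have hχiso : IsIso χ := isIso_of_isFibGrpd 𝒴.p h𝒴 (𝟙 (𝒳.p.obj x)) χ
    let z : (FibCat.fp G G).obj := mkObj G G x x' (asIso χ) hχ
    obtain ⟨ξ, e, he⟩ := hess z
    obtain ⟨a, b, hw, ha⟩ : ∃ (a : ξ ⟶ x) (b : ξ ⟶ x'),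
        G.map a ≫ χ = 𝟙 (G.obj ξ) ≫ G.map b ∧ e.hom.hom.fst = a :=
      ⟨e.hom.hom.fst, e.hom.hom.snd, e.hom.hom.w, rfl⟩
    rw [Category.id_comp] at hw
    have haiso0 : IsIso ((FibCat.fpFst G G).toFunctor.map e.hom) :=
      Functor.map_isIso (FibCat.fpFst G G).toFunctor e.hom
    have haiso : IsIso a := by rw [← ha]; exact haiso0
    refine ⟨inv a ≫ b, ?_⟩
    have h3 : G.map (inv a) = inv (G.map a) := G.toFunctor.map_inv a
    have h4 : G.map (inv a ≫ b) = G.map (inv a) ≫ G.map b := G.toFunctor.map_comp _ _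
    rw [h4, h3, ← hw, IsIso.inv_hom_id_assoc]

end Groth.Agent.S6399
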