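import Groth.Statements.S6400
import Groth.Agent.H32.FibProd
-- import your own Groth.Agent.* helpers here

set_option autoImplicit false
open CategoryTheory
universe v u
open FibCat

namespace Groth.Agent.S6400

/-- For fibred categories `𝒳, 𝒴, 𝒮` over `C` and functors `F : 𝒳 ⟶ 𝒮`, `G : 𝒴 ⟶ 𝒮` over `C` preserving
strongly cartesian morphisms, the 2-fibre product `𝒳 ×_𝒮 𝒴` over `C` is fibred over `C`. (The
published statement also says that this category, with its two projections, is a 2-fibre product in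
the 2-category of fibred categories over `C`; this row states only that it is fibred.) -/
theorem result {C : Type u} [Category.{v} C] {𝒳 𝒴 𝒮 : BasedCategory.{v, max u v} C} (F : 𝒳 ⥤ᵇ 𝒮) (G : 𝒴 ⥤ᵇ 𝒮) [𝒳.p.IsFibered] [𝒴.p.IsFibered] [𝒮.p.IsFibered]
    (hF : ∀ {R S : C} (f : R ⟶ S) {a b : 𝒳.obj} (φ : a ⟶ b), 𝒳.p.IsStronglyCartesian f φ → 𝒮.p.IsStronglyCartesian f (F.map φ))
    (hG : ∀ {R S : C} (f : R ⟶ S) {a b : 𝒴.obj} (φ : a ⟶ b), 𝒴.p.IsStronglyCartesian f φ → 𝒮.p.IsStronglyCartesian f (G.map φ)) :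
    (FibCat.fp F G).p.IsFibered := by
  open Groth.Agent.H32.FibProd in
  apply Functor.IsFibered.of_exists_isStronglyCartesian
  intro z R f
  change R ⟶ 𝒳.p.obj z.obj.fst at f
  obtain ⟨x', φ, hφ⟩ := Functor.IsPreFibered.exists_isCartesian' (p := 𝒳.p) (a := z.obj.fst) f
  obtain ⟨y', ψ, hψ⟩ := IsPreFibered.exists_isCartesian 𝒴.p (fp_snd_obj_eq F G z) f
  have hφsc : 𝒳.p.IsStronglyCartesian f φ := inferInstance
  have hψsc : 𝒴.p.IsStronglyCartesian f ψ := inferInstance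
  have hGψ : 𝒮.p.IsStronglyCartesian f (G.map ψ) := hG f ψ hψsc
  have hFφ : 𝒮.p.IsStronglyCartesian f (F.map φ) := hF f φ hφsc
  have hz := fp_iso_isHomLift F G z
  have hzsc : 𝒮.p.IsStronglyCartesian (𝟙 (𝒳.p.obj z.obj.fst)) z.obj.iso.hom := inferInstance
  have h1 : 𝒮.p.IsStronglyCartesian (f ≫ 𝟙 (𝒳.p.obj z.obj.fst)) (F.map φ ≫ z.obj.iso.hom) :=
    inferInstance
  rw [Category.comp_id] at h1
  let θ' : F.obj x' ≅ G.obj y' :=
    Functor.IsCartesian.domainUniqueUpToIso 𝒮.p f (G.map ψ) (F.map φ ≫ z.obj.iso.hom)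
  have ht : 𝒮.p.IsHomLift (𝟙 R) θ'.hom := inferInstance
  have hfac : θ'.hom ≫ G.map ψ = F.map φ ≫ z.obj.iso.hom :=
    Functor.IsCartesian.fac 𝒮.p f (G.map ψ) (F.map φ ≫ z.obj.iso.hom)
  have hθ' : 𝒮.p.IsHomLift (𝟙 (𝒳.p.obj x')) θ'.hom :=
    isHomLift_id_of_eq 𝒮.p (IsHomLift.domain_eq 𝒳.p f φ).symm θ'.hom ht
  let z' : (FibCat.fp F G).obj := mkObj F G x' y' θ' hθ'
  let m : z' ⟶ z := mkHom F G (z' := z') (z := z) φ ψ hfac.symm
  have h1' : 𝒳.p.IsStronglyCartesian f m.hom.fst := hφsc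
  have h2' : 𝒴.p.IsStronglyCartesian f m.hom.snd := hψsc
  have h3' : 𝒮.p.IsStronglyCartesian f (G.map m.hom.snd) := hGψ
  exact ⟨z', m, fp_isStronglyCartesian F G f m⟩

end Groth.Agent.S6400
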