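import Groth.Statements.S6403
import Groth.Agent.H32.Inertia
-- import your own Groth.Agent.* helpers here

set_option autoImplicit false
open CategoryTheory
universe v u
open FibCat

namespace Groth.Agent.S6403

/-- For a functor `F : 𝒳 ⟶ 𝒴` of fibred categories over `C` preserving strongly cartesian morphisms, the
relative inertia `I_{𝒳/𝒴}` is a fibred category over `C`. -/
theorem result {C : Type u} [Category.{v} C] {𝒳 𝒴 : BasedCategory.{v, max u v} C} [𝒳.p.IsFibered] [𝒴.p.IsFibered] (F : 𝒳 ⥤ᵇ 𝒴) (hF : FibCat.PreservesStronglyCartesian F) :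
    (FibCat.inertia F).p.IsFibered := by
  open Groth.Agent.H32.FibProd Groth.Agent.H32.Inertia in
  apply Functor.IsFibered.of_exists_isStronglyCartesian
  intro Y R f
  change R ⟶ 𝒳.p.obj Y.pt at f
  obtain ⟨x, φ, hφ⟩ := Functor.IsPreFibered.exists_isCartesian' (p := 𝒳.p) (a := Y.pt) f
  have hsc : 𝒳.p.IsStronglyCartesian f φ := inferInstance
  have hFφ : 𝒴.p.IsStronglyCartesian f (F.map φ) := hF f φ hsc
  obtain ⟨X, m, hm⟩ := inertia_exists_lift F Y f φ (by
    intro β hβl fac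
    have l1 : 𝒴.p.IsHomLift (𝟙 R) (F.map β) := inferInstance
    have l2 : 𝒴.p.IsHomLift (𝟙 R) (𝟙 (F.obj x)) :=
      IsHomLift.id ((F.w_obj x).trans (IsHomLift.domain_eq 𝒳.p f φ))
    refine Functor.IsStronglyCartesian.ext 𝒴.p f (F.map φ) (𝟙 R) ?_
    have e1 : F.map β ≫ F.map φ = F.map (β ≫ φ) := (F.toFunctor.map_comp _ _).symm
    have e2 : F.map (φ ≫ Y.aut.hom) = F.map φ ≫ F.map Y.aut.hom := F.toFunctor.map_comp _ _
    rw [e1, fac, e2, Y.map_aut, Category.comp_id, Category.id_comp])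
  exact ⟨X, m, inertia_sc F f m⟩

end Groth.Agent.S6403
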