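import Groth.Statements.S6404
import Groth.Agent.H32.Inertia
-- import your own Groth.Agent.* helpers here

set_option autoImplicit false
open CategoryTheory
universe v u
open FibCat

namespace Groth.Agent.S6404

/-- The inertia of a category fibred in groupoids over `C` is fibred in groupoids over `C`. -/
theorem result {C : Type u} [Category.{v} C] {𝒳 : BasedCategory.{v, max u v} C} (h𝒳 : FibCat.IsFibGrpd 𝒳.p) :
    FibCat.IsFibGrpd (FibCat.inertia (FibCat.toSelf 𝒳)).p := by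
  open Groth.Agent.H32.FibProd Groth.Agent.H32.Inertia in
  refine ⟨?_, ?_⟩
  · intro Y V f
    change V ⟶ 𝒳.p.obj Y.pt at f
    obtain ⟨x, φ, hφ⟩ := h𝒳.exists_lift (x := Y.pt) f
    have hsc : 𝒳.p.IsStronglyCartesian f φ := sc_of_isFibGrpd 𝒳.p h𝒳 f φ
    obtain ⟨X, m, hm⟩ := inertia_exists_lift (FibCat.toSelf 𝒳) Y f φ (by
      intro β hβl fac
      change 𝒳.p.map β = 𝟙 (𝒳.p.obj x)
      have := IsHomLift.fac' 𝒳.p (𝟙 V) β
      rw [this]
      simp)
    exact ⟨X, m, (inertia_isHomLift_iff (FibCat.toSelf 𝒳) f m).mpr hm.toIsHomLift⟩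
  · intro X Y m
    have hm : 𝒳.p.IsStronglyCartesian ((FibCat.inertia (FibCat.toSelf 𝒳)).p.map m) m.hom :=
      h𝒳.isStronglyCartesian m.hom
    exact inertia_sc (FibCat.toSelf 𝒳) _ m

end Groth.Agent.S6404
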