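import Groth.Statements.S6405
import Groth.Agent.S6393
import Groth.Agent.S5139
-- import your own Groth.Agent.* helpers here

set_option autoImplicit false
open CategoryTheory
universe v u
open FibCat

namespace Groth.Agent.S6405

/-- (2) ⇒ (1): if `𝒳` is fibred in groupoids over `C` and the canonical functor `I_𝒳 ⟶ 𝒳` from its
inertia is an equivalence over `C`, then `𝒳` is fibred in setoids. (The published statement is an
equivalence; this row states only that the inertia condition implies that `𝒳` is fibred in setoids.) -/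
theorem result {C : Type u} [Category.{v} C] {𝒳 : BasedCategory.{v, max u v} C} (h𝒳 : FibCat.IsFibGrpd 𝒳.p)
    (h : FibCat.IsEquivOver (FibCat.inertiaToBase (FibCat.toSelf 𝒳))) : FibCat.IsFibSetoid 𝒳.p := by
  obtain ⟨⟨hfull, hfaith⟩, _⟩ := (Groth.Agent.S5139.result _).mp h
  -- every automorphism over an identity is trivial
  have key : ∀ (x : 𝒳.obj) (α : x ≅ x), 𝒳.p.map α.hom = 𝟙 (𝒳.p.obj x) → α.hom = 𝟙 x := by
    intro x α hα
    let A : (FibCat.inertia (FibCat.toSelf 𝒳)).obj := ⟨x, α, hα⟩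
    let B : (FibCat.inertia (FibCat.toSelf 𝒳)).obj := ⟨x, Iso.refl x, (FibCat.toSelf 𝒳).map_id x⟩
    obtain ⟨f, hf⟩ := (FibCat.inertiaToBase (FibCat.toSelf 𝒳)).toFunctor.map_surjective
      (X := A) (Y := B) (𝟙 x)
    have hf' : f.hom = 𝟙 x := hf
    have := f.comm
    rw [hf'] at this
    simpa [A, B] using this
  refine ⟨h𝒳, fun U => fun a b => ⟨fun φ ψ => ?_⟩⟩
  obtain ⟨a, rfl⟩ := a
  obtain ⟨b, hb⟩ := b
  obtain ⟨φ, hφ⟩ := φ
  obtain ⟨ψ, hψ⟩ := ψ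
  apply Functor.Fiber.hom_ext
  change φ = ψ
  change 𝒳.p.IsHomLift (𝟙 (𝒳.p.obj a)) φ at hφ
  change 𝒳.p.IsHomLift (𝟙 (𝒳.p.obj a)) ψ at hψ
  have hscφ : 𝒳.p.IsStronglyCartesian (𝟙 (𝒳.p.obj a)) φ :=
    Groth.Agent.S6393.sc_of_homLift 𝒳.p _ φ (h𝒳.isStronglyCartesian φ)
  have hscψ : 𝒳.p.IsStronglyCartesian (𝟙 (𝒳.p.obj a)) ψ :=
    Groth.Agent.S6393.sc_of_homLift 𝒳.p _ ψ (h𝒳.isStronglyCartesian ψ)
  have hisoφ : IsIso φ := Functor.IsStronglyCartesian.isIso_of_base_isIso 𝒳.p (𝟙 (𝒳.p.obj a)) φ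
  have hisoψ : IsIso ψ := Functor.IsStronglyCartesian.isIso_of_base_isIso 𝒳.p (𝟙 (𝒳.p.obj a)) ψ
  have hinv : 𝒳.p.IsHomLift (𝟙 (𝒳.p.obj a)) (inv ψ) := inferInstance
  have hcomp : 𝒳.p.IsHomLift (𝟙 (𝒳.p.obj a)) (φ ≫ inv ψ) := inferInstance
  have hmap : 𝒳.p.map (φ ≫ inv ψ) = 𝟙 (𝒳.p.obj a) :=
    (IsHomLift.eq_of_isHomLift 𝒳.p (𝟙 (𝒳.p.obj a)) (φ ≫ inv ψ)).symm
  have := key a (asIso φ ≪≫ (asIso ψ).symm) hmap
  have h2 : φ ≫ inv ψ = 𝟙 a := this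
  calc φ = (φ ≫ inv ψ) ≫ ψ := by simp
    _ = ψ := by rw [h2, Category.id_comp]

end Groth.Agent.S6405
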