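import Groth.Statements.S6406
import Groth.Agent.H32.FibFull
import Groth.Agent.S5139
import Mathlib.CategoryTheory.InducedCategory
-- import your own Groth.Agent.* helpers here

set_option autoImplicit false
open CategoryTheory
universe v u
open FibCat

namespace Groth.Agent.S6406

open Groth.Agent.H32.FibProd

section
variable {C : Type u} [Category.{v} C] (𝒳 : BasedCategory.{v, max u v} C)

/-- isomorphic over an identity of `C`. -/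
def isoRel (x y : 𝒳.obj) : Prop := ∃ e : x ≅ y, 𝒳.p.IsHomLift (𝟙 (𝒳.p.obj x)) e.hom

theorem isoRel_refl (x : 𝒳.obj) : isoRel 𝒳 x x := ⟨Iso.refl x, inferInstanceAs (𝒳.p.IsHomLift _ (𝟙 x))⟩

theorem isoRel_symm {x y : 𝒳.obj} (h : isoRel 𝒳 x y) : isoRel 𝒳 y x := by
  obtain ⟨e, he⟩ := h
  have h1 : 𝒳.p.IsHomLift (𝟙 (𝒳.p.obj x)) e.inv := inferInstance
  exact ⟨e.symm, isHomLift_id_of_eq 𝒳.p (IsHomLift.domain_eq 𝒳.p (𝟙 (𝒳.p.obj x)) e.inv).symm _ h1⟩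

theorem isoRel_trans {x y z : 𝒳.obj} (h : isoRel 𝒳 x y) (h' : isoRel 𝒳 y z) : isoRel 𝒳 x z := by
  obtain ⟨e, he⟩ := h
  obtain ⟨e', he'⟩ := h'
  have h1 : 𝒳.p.IsHomLift (𝟙 (𝒳.p.obj x)) e'.hom :=
    isHomLift_id_of_eq 𝒳.p (IsHomLift.codomain_eq 𝒳.p (𝟙 (𝒳.p.obj x)) e.hom) _ he'
  exact ⟨e ≪≫ e', inferInstanceAs (𝒳.p.IsHomLift (𝟙 (𝒳.p.obj x)) (e.hom ≫ e'.hom))⟩

/-- the setoid of objects up to isomorphism over identities. -/
def isoSetoid : Setoid 𝒳.obj := ⟨isoRel 𝒳, isoRel_refl 𝒳, isoRel_symm 𝒳, isoRel_trans 𝒳⟩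

/-- chosen representative. -/
noncomputable def rep (a : Quotient (isoSetoid 𝒳)) : 𝒳.obj := a.out

theorem rep_rel (x : 𝒳.obj) : isoRel 𝒳 (rep 𝒳 (Quotient.mk (isoSetoid 𝒳) x)) x :=
  Quotient.exact (Quotient.out_eq (Quotient.mk (isoSetoid 𝒳) x))

/-- the skeleton over `C`: full subcategory of `𝒳` on chosen representatives. -/
noncomputable def skel : BasedCategory.{v, max u v} C where
  obj := InducedCategory 𝒳.obj (rep 𝒳)
  p := inducedFunctor (rep 𝒳) ⋙ 𝒳.p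

/-- the inclusion of the skeleton. -/
noncomputable def skelIncl : skel 𝒳 ⥤ᵇ 𝒳 where
  toFunctor := inducedFunctor (rep 𝒳)
  w := rfl

instance : (skelIncl 𝒳).toFunctor.Full := InducedCategory.full (rep 𝒳)
instance : (skelIncl 𝒳).toFunctor.Faithful := InducedCategory.faithful (rep 𝒳)

theorem skelIncl_isEquivOver : FibCat.IsEquivOver (skelIncl 𝒳) := by
  rw [Groth.Agent.S5139.result]
  refine ⟨⟨inferInstance, inferInstance⟩, fun x => ?_⟩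
  obtain ⟨e, he⟩ := rep_rel 𝒳 x
  refine ⟨Quotient.mk (isoSetoid 𝒳) x, e, ?_⟩
  exact isHomLift_id_of_eq 𝒳.p
    (IsHomLift.codomain_eq 𝒳.p (𝟙 (𝒳.p.obj (rep 𝒳 (Quotient.mk (isoSetoid 𝒳) x)))) e.hom).symm _ he

/-- morphism constructor. -/
noncomputable def skelHomMk {b a : (skel 𝒳).obj} (φ : rep 𝒳 b ⟶ rep 𝒳 a) : b ⟶ a :=
  InducedCategory.homMk φ

@[simp] theorem skelHomMk_hom {b a : (skel 𝒳).obj} (φ : rep 𝒳 b ⟶ rep 𝒳 a) :
    (skelHomMk 𝒳 φ).hom = φ := rfl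

theorem skel_isHomLift_iff {R S : C} (f : R ⟶ S) {b a : (skel 𝒳).obj} (m : b ⟶ a) :
    (skel 𝒳).p.IsHomLift f m ↔ 𝒳.p.IsHomLift f m.hom :=
  isHomLift_comp_iff 𝒳.p (inducedFunctor (rep 𝒳)) f m

theorem skel_isFibGrpd (h𝒳 : FibCat.IsFibGrpd 𝒳.p) : FibCat.IsFibGrpd (skel 𝒳).p := by
  refine ⟨?_, ?_⟩
  · intro a V f
    change V ⟶ 𝒳.p.obj (rep 𝒳 a) at f
    obtain ⟨y, φ, hφ⟩ := h𝒳.exists_lift (x := rep 𝒳 a) f
    obtain ⟨e, he⟩ := rep_rel 𝒳 y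
    have he' : 𝒳.p.IsHomLift (𝟙 V) e.hom :=
      isHomLift_id_of_eq 𝒳.p ((IsHomLift.codomain_eq 𝒳.p
        (𝟙 (𝒳.p.obj (rep 𝒳 (Quotient.mk (isoSetoid 𝒳) y)))) e.hom).symm.trans
        (IsHomLift.domain_eq 𝒳.p f φ)) _ he
    have h1 : 𝒳.p.IsHomLift f (e.hom ≫ φ) := inferInstance
    refine ⟨Quotient.mk (isoSetoid 𝒳) y,
      skelHomMk 𝒳 (b := Quotient.mk (isoSetoid 𝒳) y) (a := a) (e.hom ≫ φ), ?_⟩
    exact (skel_isHomLift_iff 𝒳 f _).mpr h1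
  · intro b a m
    have hm : 𝒳.p.IsStronglyCartesian ((skel 𝒳).p.map m) m.hom := h𝒳.isStronglyCartesian m.hom
    refine ⟨?_⟩
    intro c g m' hm'
    have h1 : 𝒳.p.IsHomLift (g ≫ (skel 𝒳).p.map m) m'.hom := (skel_isHomLift_iff 𝒳 _ m').mp hm'
    refine ⟨skelHomMk 𝒳 (Functor.IsStronglyCartesian.map 𝒳.p ((skel 𝒳).p.map m) m.hom
      (f' := g ≫ (skel 𝒳).p.map m) rfl m'.hom), ⟨?_, ?_⟩, ?_⟩
    · refine (skel_isHomLift_iff 𝒳 g _).mpr ?_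
      exact inferInstanceAs (𝒳.p.IsHomLift g (Functor.IsStronglyCartesian.map 𝒳.p
        ((skel 𝒳).p.map m) m.hom (f' := g ≫ (skel 𝒳).p.map m) rfl m'.hom))
    · apply InducedCategory.hom_ext
      exact Functor.IsStronglyCartesian.fac 𝒳.p ((skel 𝒳).p.map m) m.hom rfl m'.hom
    · rintro n ⟨hn1, hn2⟩
      apply InducedCategory.hom_ext
      have hn1' : 𝒳.p.IsHomLift g n.hom := (skel_isHomLift_iff 𝒳 g n).mp hn1
      have hn2' : n.hom ≫ m.hom = m'.hom := congrArg InducedCategory.Hom.hom hn2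
      exact Functor.IsStronglyCartesian.map_uniq 𝒳.p ((skel 𝒳).p.map m) m.hom rfl m'.hom n.hom hn2'

theorem skel_isFibSet (h𝒳 : FibCat.IsFibSetoid 𝒳.p) : FibCat.IsFibSet (skel 𝒳).p := by
  obtain ⟨hg, hthin⟩ := h𝒳
  refine ⟨skel_isFibGrpd 𝒳 hg, fun U => ?_⟩
  refine { subsingleton := fun a b => ⟨fun m n => ?_⟩, eq_of_hom := fun {a b} m => ?_ }
  · have hm : 𝒳.p.IsHomLift (𝟙 U) m.1.hom := (skel_isHomLift_iff 𝒳 _ m.1).mp m.2
    have hn : 𝒳.p.IsHomLift (𝟙 U) n.1.hom := (skel_isHomLift_iff 𝒳 _ n.1).mp n.2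
    have ha : 𝒳.p.obj (rep 𝒳 a.1) = U := a.2
    have hb : 𝒳.p.obj (rep 𝒳 b.1) = U := b.2
    let a' : 𝒳.p.Fiber U := ⟨rep 𝒳 a.1, ha⟩
    let b' : 𝒳.p.Fiber U := ⟨rep 𝒳 b.1, hb⟩
    let m' : a' ⟶ b' := ⟨m.1.hom, hm⟩
    let n' : a' ⟶ b' := ⟨n.1.hom, hn⟩
    have := hthin U a' b'
    have h1 : m' = n' := Subsingleton.elim _ _
    apply Functor.Fiber.hom_ext
    apply InducedCategory.hom_ext
    exact congrArg Subtype.val h1
  · have hm : 𝒳.p.IsHomLift (𝟙 U) m.1.hom := (skel_isHomLift_iff 𝒳 _ m.1).mp m.2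
    have hiso : IsIso m.1.hom := isIso_of_isFibGrpd 𝒳.p hg (𝟙 U) m.1.hom
    have ha : 𝒳.p.obj (rep 𝒳 a.1) = U := a.2
    have hrel : isoRel 𝒳 (rep 𝒳 a.1) (rep 𝒳 b.1) :=
      ⟨asIso m.1.hom, isHomLift_id_of_eq 𝒳.p ha.symm _ hm⟩
    have h2 : (a.1 : Quotient (isoSetoid 𝒳)) = b.1 := by
      have e1 := Quotient.out_eq (a.1 : Quotient (isoSetoid 𝒳))
      have e2 := Quotient.out_eq (b.1 : Quotient (isoSetoid 𝒳))
      rw [← e1, ← e2]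
      exact Quotient.sound hrel
    exact Subtype.ext h2

end


/-- A category fibred in setoids over `C` admits an equivalence over `C` to a category fibred in sets
over `C`. (The target is taken in the same universes as the slices `C/U`; its morphism sets are
essentially as small as those of `C`.) -/
theorem result {C : Type u} [Category.{v} C] {𝒳 : BasedCategory.{v, max u v} C} (h𝒳 : FibCat.IsFibSetoid 𝒳.p) :
    ∃ (𝒴 : BasedCategory.{v, max u v} C) (F : 𝒳 ⥤ᵇ 𝒴), FibCat.IsFibSet 𝒴.p ∧ FibCat.IsEquivOver F := by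
  obtain ⟨G, e₁, e₂⟩ := skelIncl_isEquivOver 𝒳
  exact ⟨skel 𝒳, G, skel_isFibSet 𝒳 h𝒳, ⟨skelIncl 𝒳, e₂, e₁⟩⟩

end Groth.Agent.S6406
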