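import Groth.Statements.S6407
import Groth.Agent.H32.FibFull
-- import your own Groth.Agent.* helpers here

set_option autoImplicit false
open CategoryTheory
universe v u
open FibCat

namespace Groth.Agent.S6407

open Groth.Agent.H32.FibProd in
/-- in a category fibred in setoids, two morphisms with the same source and target lying over the
same morphism of the base are equal. -/
theorem hom_unique {C : Type u} [Category.{v} C] {𝒴 : BasedCategory.{v, max u v} C}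
    (h𝒴 : FibCat.IsFibSetoid 𝒴.p) {R S : C} (u : R ⟶ S) {a b : 𝒴.obj} (φ ψ : a ⟶ b)
    [hφ : 𝒴.p.IsHomLift u φ] [hψ : 𝒴.p.IsHomLift u ψ] : φ = ψ := by
  obtain ⟨hg, hthin⟩ := h𝒴
  have hsc : 𝒴.p.IsStronglyCartesian u ψ := sc_of_isFibGrpd 𝒴.p hg u ψ
  have hid : u = 𝟙 R ≫ u := (Category.id_comp u).symm
  let χ : a ⟶ a := Functor.IsStronglyCartesian.map 𝒴.p u ψ hid φ
  have hχ : 𝒴.p.IsHomLift (𝟙 R) χ := inferInstance
  have hfac : χ ≫ ψ = φ := Functor.IsStronglyCartesian.fac 𝒴.p u ψ hid φ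
  have ha : 𝒴.p.obj a = R := IsHomLift.domain_eq 𝒴.p u ψ
  let a' : 𝒴.p.Fiber R := ⟨a, ha⟩
  let m : a' ⟶ a' := ⟨χ, hχ⟩
  have := hthin R a' a'
  have h1 : m = 𝟙 a' := Subsingleton.elim _ _
  have h2 : χ = 𝟙 a := congrArg Subtype.val h1
  rw [← hfac, h2, Category.id_comp]


/-- For categories `𝒳, 𝒴` fibred in setoids over `C` and functors `f, g : 𝒳 ⟶ 𝒴` over `C` that agree on
isomorphism classes of objects of each fibre category, there is a unique 2-isomorphism `f ≅ g` over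
`C`. -/
theorem result {C : Type u} [Category.{v} C] {𝒳 𝒴 : BasedCategory.{v, max u v} C} (h𝒳 : FibCat.IsFibSetoid 𝒳.p) (h𝒴 : FibCat.IsFibSetoid 𝒴.p) (f g : 𝒳 ⥤ᵇ 𝒴)
    (hfg : ∀ (U : C) (x : 𝒳.p.Fiber U), Nonempty ((FibCat.fiberFunctor f U).obj x ≅ (FibCat.fiberFunctor g U).obj x)) :
    Nonempty (Unique (f ≅ g)) := by
  let θ : ∀ x : 𝒳.obj, f.obj x ≅ g.obj x := fun x =>
    Functor.Fiber.fiberInclusion.mapIso (Classical.choice (hfg (𝒳.p.obj x) ⟨x, rfl⟩))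
  have hθ : ∀ x, 𝒴.p.IsHomLift (𝟙 (𝒳.p.obj x)) (θ x).hom := fun x =>
    (Classical.choice (hfg (𝒳.p.obj x) ⟨x, rfl⟩)).hom.2
  have nat : ∀ {x x' : 𝒳.obj} (φ : x ⟶ x'), f.map φ ≫ (θ x').hom = (θ x).hom ≫ g.map φ := by
    intro x x' φ
    have := hθ x
    have := hθ x'
    have l1 : 𝒴.p.IsHomLift (𝒳.p.map φ) (f.map φ ≫ (θ x').hom) := inferInstance
    have l2 : 𝒴.p.IsHomLift (𝒳.p.map φ) ((θ x).hom ≫ g.map φ) := inferInstance
    exact hom_unique h𝒴 (𝒳.p.map φ) _ _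
  let Θ : f ≅ g := BasedNatIso.mkNatIso (NatIso.ofComponents θ (fun φ => nat φ)) hθ
  refine ⟨⟨⟨Θ⟩, fun Θ' => ?_⟩⟩
  apply Iso.ext
  apply BasedNatTrans.ext
  ext x
  have l1 : 𝒴.p.IsHomLift (𝟙 (𝒳.p.obj x)) (Θ'.hom.toNatTrans.app x) := Θ'.hom.isHomLift' x
  have l2 : 𝒴.p.IsHomLift (𝟙 (𝒳.p.obj x)) (Θ.hom.toNatTrans.app x) := Θ.hom.isHomLift' x
  exact hom_unique h𝒴 (𝟙 (𝒳.p.obj x)) _ _

end Groth.Agent.S6407
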