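import Groth.Statements.S6408
-- import your own Groth.Agent.* helpers here

set_option autoImplicit false
open CategoryTheory
universe v u
open FibCat

namespace Groth.Agent.S6408

/-- Between categories fibred in sets over `C` the only 2-morphisms over `C` are identities. -/
theorem result {C : Type u} [Category.{v} C] {𝒳 𝒴 : BasedCategory.{v, max u v} C} (h𝒳 : FibCat.IsFibSet 𝒳.p) (h𝒴 : FibCat.IsFibSet 𝒴.p) {F G : 𝒳 ⥤ᵇ 𝒴} (α : F ⟶ G) :
    ∃ h : F = G, α = eqToHom h := by
  obtain ⟨h𝒳g, _⟩ := h𝒳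
  obtain ⟨h𝒴g, hdisc⟩ := h𝒴
  -- each component is a morphism of a (discrete) fibre
  have key : ∀ x : 𝒳.obj, ∃ hx : F.obj x = G.obj x, α.toNatTrans.app x = eqToHom hx := by
    intro x
    have := hdisc (𝒳.p.obj x)
    let a : 𝒴.p.Fiber (𝒳.p.obj x) := Functor.Fiber.mk (p := 𝒴.p) (a := F.obj x) (F.w_obj x)
    let b : 𝒴.p.Fiber (𝒳.p.obj x) := Functor.Fiber.mk (p := 𝒴.p) (a := G.obj x) (G.w_obj x)
    let m : a ⟶ b := ⟨α.toNatTrans.app x, α.isHomLift' x⟩
    have hab : a = b := IsDiscrete.eq_of_hom m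
    have hx : F.obj x = G.obj x := congrArg Subtype.val hab
    refine ⟨hx, ?_⟩
    have hm : m = eqToHom hab := Subsingleton.elim _ _
    have h1 : ∀ (a' b' : 𝒴.p.Fiber (𝒳.p.obj x)) (e : a' = b'),
        (eqToHom e : a' ⟶ b').1 = eqToHom (congrArg Subtype.val e) := by
      intro a' b' e; subst e; rfl
    have := congrArg Subtype.val hm
    rw [h1] at this
    exact this
  have hFG : F.toFunctor = G.toFunctor := by
    refine Functor.ext (fun x => (key x).1) ?_
    intro x y f
    have nat := α.toNatTrans.naturality f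
    rw [(key x).2, (key y).2] at nat
    rw [← Category.assoc, ← nat]
    simp
  have hFG' : F = G := by
    cases F; cases G
    simp only at hFG
    subst hFG
    rfl
  subst hFG'
  refine ⟨rfl, ?_⟩
  apply BasedNatTrans.ext
  ext x
  obtain ⟨hx, e⟩ := key x
  rw [e]
  rfl

end Groth.Agent.S6408
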