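import Groth.Statements.S6410
import Groth.Agent.H32.Yoneda2
-- import your own Groth.Agent.* helpers here

set_option autoImplicit false
open CategoryTheory
universe v u
open FibCat

namespace Groth.Agent.S6410

/-- For `𝒳` fibred over `C`, evaluation at `𝟙_U` restricted to the functors `C/U ⟶ 𝒳` over `C` that
preserve strongly cartesian morphisms is an equivalence of categories onto the fibre category `𝒳_U`. -/
theorem result {C : Type u} [Category.{v} C] {𝒳 : BasedCategory.{v, max u v} C} [𝒳.p.IsFibered] (U : C) :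
    ((ObjectProperty.ι (FibCat.PreservesStronglyCartesian (𝒳 := FibCat.overCat U) (𝒴 := 𝒳))) ⋙ FibCat.evalAtId 𝒳 U).IsEquivalence := by
  open Groth.Agent.H32.FibProd Groth.Agent.H32.Yoneda2 in
  let T : (FibCat.overCat U).obj := Over.mk (𝟙 U)
  have hT : Limits.IsTerminal T := Over.mkIdTerminal
  have hsc : ∀ (H : FibCat.overCat U ⥤ᵇ 𝒳), FibCat.PreservesStronglyCartesian H → ∀ X,
      𝒳.p.IsStronglyCartesian ((FibCat.overCat U).p.map (hT.from X)) (H.map (hT.from X)) :=
    fun H hH X => hH _ _ (over_sc (hT.from X))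
  refine { faithful := ?_, full := ?_, essSurj := ?_ }
  · refine ⟨fun {G H} α β h => ?_⟩
    apply ObjectProperty.hom_ext
    exact natTrans_ext hT (hsc H.obj H.property) α.hom β.hom (congrArg Subtype.val h)
  · refine ⟨fun {G H} t => ?_⟩
    obtain ⟨α, hα⟩ := @exists_natTrans _ _ _ _ hT _ G.obj H.obj (hsc H.obj H.property) t.1 t.2
    exact ⟨ObjectProperty.homMk α, Functor.Fiber.hom_ext hα⟩
  · refine ⟨fun a => ?_⟩
    obtain ⟨G, hG, t, htiso, htlift⟩ := exists_based_functor hT a.1 a.2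
    exact ⟨⟨G, hG⟩, ⟨@fiberIso _ _ _ _ 𝒳.p U
      ((ObjectProperty.ι _ ⋙ FibCat.evalAtId 𝒳 U).obj ⟨G, hG⟩) a t htiso htlift⟩⟩

end Groth.Agent.S6410
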