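import Groth.Statements.S6412
import Groth.Agent.H32.Repr
import Mathlib.CategoryTheory.Limits.Constructions.Equalizers

set_option autoImplicit false
open CategoryTheory CategoryTheory.Limits
universe v u
open FibCat

namespace Groth.Agent.S6412

open Groth.Agent.H32.FibProd Groth.Agent.H32.Repr

noncomputable section

/-! ### pure category theory computations -/

section pure
universe w₁ w₂
variable {D : Type w₁} [Category.{w₂} D]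

theorem aux_KF {X Y Z : D} (h : Y = X) (a : X ⟶ Z) (b : Y ⟶ Z) (hz : Z = Z)
    (e : b = eqToHom h ≫ a ≫ eqToHom hz) : a = eqToHom h.symm ≫ b := by
  subst h
  simp at e ⊢
  exact e.symm

theorem aux_KF' {X Y Z : D} (a : X ⟶ Y) (b : X ⟶ Z) (hx : X = X) (h : Y = Z)
    (e : b = eqToHom hx ≫ a ≫ eqToHom h) : b = a ≫ eqToHom h := by
  simpa using e

theorem eqToHom_aux {X Y : D} (h : X = Y) (h0 : X = X) (h' : Y = X) :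
    eqToHom h = eqToHom h0 ≫ 𝟙 X ≫ eqToHom h'.symm := by
  subst h
  simp

theorem aux_id {X Y : D} (f : X ⟶ Y) (h0 : X = X) (h1 : Y = Y) :
    f = eqToHom h0 ≫ f ≫ eqToHom h1.symm := by
  simp

theorem eqToHom_aux0 {X : D} (h0 : X = X) (h1 : X = X) :
    𝟙 X = eqToHom h0 ≫ 𝟙 X ≫ eqToHom h1.symm := by
  simp

theorem calc1 {X₁ X₂ X₃ Y₁ Y₂ Y₃ s₀ : D} (a : X₁ ⟶ X₂) (a' : X₂ ⟶ X₁) (x : X₁ ⟶ X₃)
    (P : X₃ ⟶ s₀) (Q : Y₃ ≅ s₀) (t : X₂ ⟶ Y₂) (b : Y₁ ⟶ Y₂) (b' : Y₂ ⟶ Y₁) (y : Y₁ ⟶ Y₃)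
    (m : Y₂ ⟶ s₀) (ha : a' ≫ a = 𝟙 X₂) (hb : b' ≫ b = 𝟙 Y₂) (e1 : x ≫ P = (a ≫ t) ≫ m)
    (e2 : y ≫ Q.hom = b ≫ m) : (a' ≫ x) ≫ (P ≫ Q.inv) = t ≫ (b' ≫ y) := by
  have hy : y = b ≫ m ≫ Q.inv := by
    rw [← Category.assoc, ← e2, Category.assoc, Iso.hom_inv_id, Category.comp_id]
  calc (a' ≫ x) ≫ (P ≫ Q.inv) = a' ≫ (x ≫ P) ≫ Q.inv := by simp only [Category.assoc]
    _ = a' ≫ ((a ≫ t) ≫ m) ≫ Q.inv := by rw [e1]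
    _ = (a' ≫ a) ≫ t ≫ m ≫ Q.inv := by simp only [Category.assoc]
    _ = t ≫ (b' ≫ b) ≫ m ≫ Q.inv := by rw [ha, hb, Category.id_comp, Category.id_comp]
    _ = t ≫ b' ≫ y := by rw [hy]; simp only [Category.assoc]

theorem calc2 {X₁ X₂ X₃ Y₂ Y₃ s₀ : D} (a : X₁ ⟶ X₂) (n₁ : X₂ ⟶ X₃) (P : X₃ ⟶ s₀) (Q : Y₃ ≅ s₀)
    (t : X₂ ⟶ Y₂) (n₂ : Y₂ ⟶ Y₃) (hw : n₁ ≫ (P ≫ Q.inv) = t ≫ n₂) :
    (a ≫ n₁) ≫ P = (a ≫ t) ≫ (n₂ ≫ Q.hom) := by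
  have e : n₁ ≫ P = t ≫ n₂ ≫ Q.hom := by
    calc n₁ ≫ P = (n₁ ≫ (P ≫ Q.inv)) ≫ Q.hom := by simp
      _ = (t ≫ n₂) ≫ Q.hom := by rw [hw]
      _ = _ := Category.assoc _ _ _
  rw [Category.assoc, e]
  simp only [Category.assoc]

theorem calc3 {X X₀ Y₀ YB XA s Y : D} (x : X ⟶ X₀) (P₀ : X₀ ⟶ Y₀) (j₂ : Y₀ ⟶ YB) (j₁ : X₀ ⟶ XA)
    (t₀ : XA ⟶ YB) (fac : P₀ ≫ j₂ = j₁ ≫ t₀) (p₁ : X ⟶ s) (p₂ : Y ≅ s) (y : Y ⟶ Y₀)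
    (x₁ : X ⟶ XA) (y₂ : Y ⟶ YB) (hx : x ≫ j₁ = x₁) (hy : y ≫ j₂ = y₂)
    (hν : x₁ ≫ t₀ = (p₁ ≫ p₂.inv) ≫ y₂) :
    (x ≫ P₀) ≫ j₂ = (p₁ ≫ (p₂.inv ≫ y)) ≫ j₂ := by
  calc (x ≫ P₀) ≫ j₂ = x ≫ (P₀ ≫ j₂) := Category.assoc _ _ _
    _ = (x ≫ j₁) ≫ t₀ := by rw [fac, Category.assoc]
    _ = (p₁ ≫ p₂.inv) ≫ y₂ := by rw [hx, hν]
    _ = (p₁ ≫ (p₂.inv ≫ y)) ≫ j₂ := by rw [← hy]; simp only [Category.assoc]

theorem calc4 {X X₀ Y₀ YB XA s Y : D} (x : X ⟶ X₀) (P₀ : X₀ ⟶ Y₀) (j₂ : Y₀ ⟶ YB) (j₁ : X₀ ⟶ XA)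
    (t₀ : XA ⟶ YB) (fac : P₀ ≫ j₂ = j₁ ≫ t₀) (p₁ : X ⟶ s) (p₂ : Y ≅ s) (y : Y ⟶ Y₀)
    (msnd : s ⟶ Y₀) (hw1 : x ≫ P₀ = p₁ ≫ msnd) (hw2 : y = p₂.hom ≫ msnd) :
    (x ≫ j₁) ≫ t₀ = (p₁ ≫ p₂.inv) ≫ (y ≫ j₂) := by
  have hm : msnd = p₂.inv ≫ y := by rw [hw2, Iso.inv_hom_id_assoc]
  calc (x ≫ j₁) ≫ t₀ = x ≫ (j₁ ≫ t₀) := Category.assoc _ _ _
    _ = (x ≫ P₀) ≫ j₂ := by rw [← fac, Category.assoc]
    _ = (p₁ ≫ msnd) ≫ j₂ := by rw [hw1]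
    _ = (p₁ ≫ p₂.inv) ≫ (y ≫ j₂) := by rw [hm]; simp only [Category.assoc]

end pure

/-! ### the forward direction -/

section forward
variable {C : Type u} [Category.{v} C] [HasBinaryProducts C] {𝒮 : BasedCategory.{v, max u v} C}
  {V U : C} (G' : overCat V ⥤ᵇ 𝒮) (G : overCat U ⥤ᵇ 𝒮)

/-- the projection `C/(V × U) ⥤ C/V`. -/
def prV : overCat (V ⨯ U) ⥤ᵇ overCat V := ⟨Over.map prod.fst, Over.mapForget_eq _⟩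
/-- the projection `C/(V × U) ⥤ C/U`. -/
def prU : overCat (V ⨯ U) ⥤ᵇ overCat U := ⟨Over.map prod.snd, Over.mapForget_eq _⟩

/-- the functor `C/(V × U) ⥤ 𝒮 ×_C 𝒮`. -/
def HH : overCat (V ⨯ U) ⥤ᵇ PP 𝒮 :=
  fpLift (BasedFunctor.comp prV G') (BasedFunctor.comp prU G) (selfIso _ _)

variable (ω : (fp G' G).obj)

theorem hAB : ω.obj.snd.left = ω.obj.fst.left := fp_snd_obj_eq G' G ω

/-- the object of `C/(V × U)` attached to an object of the fibre product. -/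
abbrev Tω : Over (V ⨯ U) :=
  Over.mk (prod.lift (ω.obj.fst.hom : ω.obj.fst.left ⟶ V)
    (eqToHom (hAB G' G ω).symm ≫ (ω.obj.snd.hom : ω.obj.snd.left ⟶ U)))

/-- first projection of `Tω`. -/
def iA : (Over.map prod.fst).obj (Tω G' G ω) ≅ ω.obj.fst :=
  Over.isoMk (Iso.refl _) ((Category.id_comp _).trans (prod.lift_fst _ _).symm)

/-- second projection of `Tω`. -/
def iB : (Over.map prod.snd).obj (Tω G' G ω) ≅ ω.obj.snd :=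
  Over.isoMk (eqToIso (hAB G' G ω).symm) (prod.lift_snd _ _).symm

theorem iA_lift : (overCat V).p.IsHomLift (𝟙 ω.obj.fst.left) (iA G' G ω).hom := by
  refine IsHomLift.of_fac' (Over.forget V) _ _ rfl rfl ?_
  exact eqToHom_aux0 (X := ω.obj.fst.left) rfl rfl

theorem iB_lift : (overCat U).p.IsHomLift (𝟙 ω.obj.fst.left) (iB G' G ω).hom := by
  refine IsHomLift.of_fac' (Over.forget U) _ _ rfl (hAB G' G ω) ?_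
  exact eqToHom_aux (hAB G' G ω).symm rfl (hAB G' G ω)

/-- first isomorphism. -/
def p₁ω : (G₁ (HH G' G)).obj (Tω G' G ω) ≅ G.obj ω.obj.snd :=
  G'.toFunctor.mapIso (iA G' G ω) ≪≫ ω.obj.iso

/-- second isomorphism. -/
def p₂ω : (G₂ (HH G' G)).obj (Tω G' G ω) ≅ G.obj ω.obj.snd :=
  G.toFunctor.mapIso (iB G' G ω)

theorem p₁ω_lift : 𝒮.p.IsHomLift (𝟙 ω.obj.fst.left) (p₁ω G' G ω).hom := by
  have h1 := iA_lift G' G ω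
  have h2 : 𝒮.p.IsHomLift (𝟙 ω.obj.fst.left) (G'.map (iA G' G ω).hom) :=
    BasedFunctor.preserves_isHomLift G' (𝟙 ω.obj.fst.left) (iA G' G ω).hom
  have h3 : 𝒮.p.IsHomLift (𝟙 ω.obj.fst.left) ω.obj.iso.hom := ω.property
  exact IsHomLift.comp_of_lift_id 𝒮.p _ (G'.map (iA G' G ω).hom) ω.obj.iso.hom

theorem p₂ω_lift : 𝒮.p.IsHomLift (𝟙 ω.obj.fst.left) (p₂ω G' G ω).hom := by
  have h1 := iB_lift G' G ω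
  have h2 : 𝒮.p.IsHomLift (𝟙 ω.obj.fst.left) (G.map (iB G' G ω).hom) :=
    BasedFunctor.preserves_isHomLift G (𝟙 ω.obj.fst.left) (iB G' G ω).hom
  exact h2

/-- the object of `C/(V × U) ×_{𝒮 ×_C 𝒮} 𝒮` attached to `ω`. -/
def ζω : (fp (HH G' G) (DD (𝒮 := 𝒮))).obj :=
  mkζ (HH G' G) (Tω G' G ω) (G.obj ω.obj.snd) (p₁ω G' G ω) (p₂ω G' G ω) (p₁ω_lift G' G ω)
    (p₂ω_lift G' G ω)

variable (ζ₀ : (fp (HH G' G) (DD (𝒮 := 𝒮))).obj)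

/-- the candidate terminal object. -/
def ω₀ : (fp G' G).obj :=
  mkObj G' G ((Over.map prod.fst).obj ζ₀.obj.fst) ((Over.map prod.snd).obj ζ₀.obj.fst)
    (θ (HH G' G) ζ₀) (θ_lift (HH G' G) ζ₀)

variable {ω}

theorem KF (n : ω ⟶ ω₀ G' G ζ₀) :
    n.hom.fst.left = eqToHom (hAB G' G ω).symm ≫ n.hom.snd.left :=
  aux_KF _ _ _ _ (fp_map_snd_eq G' G n)

/-- the morphism `Tω ⟶ T₀` induced by a morphism `ω ⟶ ω₀`. -/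
def kn (n : ω ⟶ ω₀ G' G ζ₀) : Tω G' G ω ⟶ ζ₀.obj.fst :=
  Over.homMk n.hom.fst.left (by
    apply Limits.prod.hom_ext
    · calc (n.hom.fst.left ≫ ζ₀.obj.fst.hom) ≫ prod.fst
          = n.hom.fst.left ≫ (ζ₀.obj.fst.hom ≫ prod.fst) := Category.assoc _ _ _
        _ = ω.obj.fst.hom := Over.w n.hom.fst
        _ = (Tω G' G ω).hom ≫ prod.fst := (prod.lift_fst _ _).symm
    · calc (n.hom.fst.left ≫ ζ₀.obj.fst.hom) ≫ prod.snd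
          = n.hom.fst.left ≫ (ζ₀.obj.fst.hom ≫ prod.snd) := Category.assoc _ _ _
        _ = (eqToHom (hAB G' G ω).symm ≫ n.hom.snd.left) ≫ (ζ₀.obj.fst.hom ≫ prod.snd) :=
            congrArg (fun t => t ≫ (ζ₀.obj.fst.hom ≫ prod.snd)) (KF G' G ζ₀ n)
        _ = eqToHom (hAB G' G ω).symm ≫ (n.hom.snd.left ≫ (ζ₀.obj.fst.hom ≫ prod.snd)) :=
            Category.assoc _ _ _
        _ = eqToHom (hAB G' G ω).symm ≫ ω.obj.snd.hom :=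
            congrArg (fun t => eqToHom (hAB G' G ω).symm ≫ t) (Over.w n.hom.snd)
        _ = (Tω G' G ω).hom ≫ prod.snd := (prod.lift_snd _ _).symm)

theorem fst_kn (n : ω ⟶ ω₀ G' G ζ₀) :
    (Over.map prod.fst).map (kn G' G ζ₀ n) = (iA G' G ω).hom ≫ n.hom.fst := by
  apply Over.OverMorphism.ext
  have h1 : ((Over.map prod.fst).map (kn G' G ζ₀ n)).left = n.hom.fst.left := rfl
  have h2 : ((iA G' G ω).hom ≫ n.hom.fst).left = 𝟙 _ ≫ n.hom.fst.left := rfl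
  rw [h1, h2, Category.id_comp]

theorem snd_kn (n : ω ⟶ ω₀ G' G ζ₀) :
    (Over.map prod.snd).map (kn G' G ζ₀ n) = (iB G' G ω).hom ≫ n.hom.snd := by
  apply Over.OverMorphism.ext
  have h1 : ((Over.map prod.snd).map (kn G' G ζ₀ n)).left = n.hom.fst.left := rfl
  have h2 : ((iB G' G ω).hom ≫ n.hom.snd).left =
      eqToHom (hAB G' G ω).symm ≫ n.hom.snd.left := rfl
  rw [h1, h2]
  exact KF G' G ζ₀ n

/-- the morphism `ζω ⟶ ζ₀` induced by a morphism `ω ⟶ ω₀`. -/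
def μn (n : ω ⟶ ω₀ G' G ζ₀) : ζω G' G ω ⟶ ζ₀ :=
  mkμ (HH G' G) (kn G' G ζ₀ n) (G.map n.hom.snd ≫ (ψ₂ (HH G' G) ζ₀).hom)
    (by
      have hw : G'.map n.hom.fst ≫ ((ψ₁ (HH G' G) ζ₀).hom ≫ (ψ₂ (HH G' G) ζ₀).inv) =
          ω.obj.iso.hom ≫ G.map n.hom.snd := n.hom.w
      have h := calc2 (G'.map (iA G' G ω).hom) (G'.map n.hom.fst) (ψ₁ (HH G' G) ζ₀).hom
        (ψ₂ (HH G' G) ζ₀) ω.obj.iso.hom (G.map n.hom.snd) hw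
      have e : (G₁ (HH G' G)).map (kn G' G ζ₀ n) =
          G'.map (iA G' G ω).hom ≫ G'.map n.hom.fst := by
        change G'.map ((Over.map prod.fst).map (kn G' G ζ₀ n)) = _
        rw [fst_kn]
        exact G'.toFunctor.map_comp _ _
      exact (congrArg (fun t => t ≫ (ψ₁ (HH G' G) ζ₀).hom) e).trans h)
    (by
      have e : (G₂ (HH G' G)).map (kn G' G ζ₀ n) =
          G.map (iB G' G ω).hom ≫ G.map n.hom.snd := by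
        change G.map ((Over.map prod.snd).map (kn G' G ζ₀ n)) = _
        rw [snd_kn]
        exact G.toFunctor.map_comp _ _
      exact (congrArg (fun t => t ≫ (ψ₂ (HH G' G) ζ₀).hom) e).trans (Category.assoc _ _ _))

variable {ζ₀} (hζ₀ : IsTerminal ζ₀)
include hζ₀

theorem uniq_fwd (n n' : ω ⟶ ω₀ G' G ζ₀) : n = n' := by
  have h := hζ₀.hom_ext (μn G' G ζ₀ n) (μn G' G ζ₀ n')
  have h1 : kn G' G ζ₀ n = kn G' G ζ₀ n' := congrArg (fun t => t.hom.fst) h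
  have h2 : n.hom.fst.left = n'.hom.fst.left := congrArg (fun t => t.left) h1
  have k1 := KF G' G ζ₀ n
  have k2 := KF G' G ζ₀ n'
  apply fp_hom_ext
  · apply Over.OverMorphism.ext
    exact h2
  · apply Over.OverMorphism.ext
    exact (cancel_epi (eqToHom (hAB G' G ω).symm)).1 ((k1.symm.trans h2).trans k2)

variable (ω) in
theorem exists_hom_fwd : Nonempty (ω ⟶ ω₀ G' G ζ₀) := by
  let μ := hζ₀.from (ζω G' G ω)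
  have e1 : G'.map ((Over.map prod.fst).map μ.hom.fst) ≫ (ψ₁ (HH G' G) ζ₀).hom =
      (G'.map (iA G' G ω).hom ≫ ω.obj.iso.hom) ≫ μ.hom.snd := w₁ (HH G' G) μ
  have e2 : G.map ((Over.map prod.snd).map μ.hom.fst) ≫ (ψ₂ (HH G' G) ζ₀).hom =
      G.map (iB G' G ω).hom ≫ μ.hom.snd := w₂ (HH G' G) μ
  have ha : G'.map (iA G' G ω).inv ≫ G'.map (iA G' G ω).hom = 𝟙 _ :=
    (G'.toFunctor.mapIso (iA G' G ω)).inv_hom_id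
  have hb : G.map (iB G' G ω).inv ≫ G.map (iB G' G ω).hom = 𝟙 _ :=
    (G.toFunctor.mapIso (iB G' G ω)).inv_hom_id
  have h := calc1 (G'.map (iA G' G ω).hom) (G'.map (iA G' G ω).inv)
    (G'.map ((Over.map prod.fst).map μ.hom.fst)) (ψ₁ (HH G' G) ζ₀).hom (ψ₂ (HH G' G) ζ₀)
    ω.obj.iso.hom (G.map (iB G' G ω).hom) (G.map (iB G' G ω).inv)
    (G.map ((Over.map prod.snd).map μ.hom.fst)) μ.hom.snd ha hb e1 e2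
  refine ⟨mkHom G' G ((iA G' G ω).inv ≫ (Over.map prod.fst).map μ.hom.fst)
    ((iB G' G ω).inv ≫ (Over.map prod.snd).map μ.hom.fst) ?_⟩
  have c1 : G'.map ((iA G' G ω).inv ≫ (Over.map prod.fst).map μ.hom.fst) =
      G'.map (iA G' G ω).inv ≫ G'.map ((Over.map prod.fst).map μ.hom.fst) :=
    G'.toFunctor.map_comp _ _
  have c2 : G.map ((iB G' G ω).inv ≫ (Over.map prod.snd).map μ.hom.fst) =
      G.map (iB G' G ω).inv ≫ G.map ((Over.map prod.snd).map μ.hom.fst) :=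
    G.toFunctor.map_comp _ _
  exact (congrArg (fun z => z ≫ (ω₀ G' G ζ₀).obj.iso.hom) c1).trans
    (h.trans (congrArg (fun z => ω.obj.iso.hom ≫ z) c2.symm))

theorem forward (h𝒮 : IsFibGrpd 𝒮.p) : IsRepresentable (fp G' G) := by
  have ht : IsTerminal (ω₀ G' G ζ₀) :=
    IsTerminal.ofUniqueHom (fun ω => (exists_hom_fwd G' G ω hζ₀).some)
      (fun ω m => uniq_fwd G' G hζ₀ m _)
  exact isRepresentable_of_isTerminal (fp_isFibGrpd G' G (Groth.Agent.S6411.over_isFibGrpd V)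
    (Groth.Agent.S6411.over_isFibGrpd U) h𝒮) ht

end forward

/-! ### the backward direction -/

section backward
variable {C : Type u} [Category.{v} C] [HasEqualizers C] {𝒮 : BasedCategory.{v, max u v} C}
  {W : C} (H : overCat W ⥤ᵇ PP 𝒮) (ω₀ : (fp (G₁ H) (G₂ H)).obj)

theorem hAB₀ : ω₀.obj.snd.left = ω₀.obj.fst.left := fp_snd_obj_eq (G₁ H) (G₂ H) ω₀

/-- first leg. -/
abbrev a₀ : ω₀.obj.fst.left ⟶ W := ω₀.obj.fst.hom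
/-- second leg. -/
abbrev b₀ : ω₀.obj.fst.left ⟶ W := eqToHom (hAB₀ H ω₀).symm ≫ ω₀.obj.snd.hom
/-- the equalizer of the two legs. -/
abbrev EE : C := equalizer (a₀ H ω₀) (b₀ H ω₀)
/-- the inclusion of the equalizer. -/
abbrev ι : EE H ω₀ ⟶ ω₀.obj.fst.left := equalizer.ι (a₀ H ω₀) (b₀ H ω₀)

theorem ι_cond : ι H ω₀ ≫ a₀ H ω₀ = ι H ω₀ ≫ b₀ H ω₀ := equalizer.condition _ _

/-- the equalizer as an object over `W`. -/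
abbrev T₀ : Over W := Over.mk (ι H ω₀ ≫ a₀ H ω₀)

/-- the map to the first leg. -/
def jA : T₀ H ω₀ ⟶ ω₀.obj.fst := Over.homMk (ι H ω₀) rfl

/-- the map to the second leg. -/
def jB : T₀ H ω₀ ⟶ ω₀.obj.snd :=
  Over.homMk (ι H ω₀ ≫ eqToHom (hAB₀ H ω₀).symm)
    ((Category.assoc _ _ _).trans (ι_cond H ω₀).symm)

theorem jA_lift : (overCat W).p.IsHomLift (ι H ω₀) (jA H ω₀) := by
  refine IsHomLift.of_fac' (Over.forget W) _ _ rfl rfl ?_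
  exact aux_id (ι H ω₀) rfl rfl

theorem jB_lift : (overCat W).p.IsHomLift (ι H ω₀) (jB H ω₀) := by
  refine IsHomLift.of_fac' (Over.forget W) _ _ rfl (hAB₀ H ω₀) ?_
  have h : (Over.forget W).map (jB H ω₀) = ι H ω₀ ≫ eqToHom (hAB₀ H ω₀).symm := rfl
  rw [h]
  exact (Category.id_comp _).symm

/-- the composite to be factored. -/
def g₀ : (G₁ H).obj (T₀ H ω₀) ⟶ (G₂ H).obj ω₀.obj.snd :=
  (G₁ H).map (jA H ω₀) ≫ ω₀.obj.iso.hom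

theorem g₀_lift : 𝒮.p.IsHomLift (ι H ω₀) (g₀ H ω₀) := by
  have h1 := jA_lift H ω₀
  have h2 : 𝒮.p.IsHomLift (ι H ω₀) ((G₁ H).map (jA H ω₀)) :=
    BasedFunctor.preserves_isHomLift (G₁ H) (ι H ω₀) (jA H ω₀)
  have h3 : 𝒮.p.IsHomLift (𝟙 ω₀.obj.fst.left) ω₀.obj.iso.hom := ω₀.property
  exact IsHomLift.comp_lift_id_right 𝒮.p (ι H ω₀) ((G₁ H).map (jA H ω₀)) ω₀.obj.iso.hom

theorem jB_map_lift : 𝒮.p.IsHomLift (ι H ω₀) ((G₂ H).map (jB H ω₀)) := by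
  have h1 := jB_lift H ω₀
  exact BasedFunctor.preserves_isHomLift (G₂ H) (ι H ω₀) (jB H ω₀)

variable (h𝒮 : IsFibGrpd 𝒮.p)
include h𝒮

theorem sc_jB : 𝒮.p.IsStronglyCartesian (ι H ω₀) ((G₂ H).map (jB H ω₀)) := by
  have h2 := jB_map_lift H ω₀
  exact sc_of_isFibGrpd 𝒮.p h𝒮 _ _

theorem exists_P₀ : ∃ P : (G₁ H).obj (T₀ H ω₀) ⟶ (G₂ H).obj (T₀ H ω₀),
    𝒮.p.IsHomLift (𝟙 (EE H ω₀)) P ∧ P ≫ (G₂ H).map (jB H ω₀) = g₀ H ω₀ := by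
  have h1 := sc_jB H ω₀ h𝒮
  have h2 := g₀_lift H ω₀
  have hid : ι H ω₀ = 𝟙 (EE H ω₀) ≫ ι H ω₀ := (Category.id_comp _).symm
  exact ⟨Functor.IsStronglyCartesian.map 𝒮.p (ι H ω₀) ((G₂ H).map (jB H ω₀)) hid (g₀ H ω₀),
    inferInstance,
    Functor.IsStronglyCartesian.fac 𝒮.p (ι H ω₀) ((G₂ H).map (jB H ω₀)) hid (g₀ H ω₀)⟩

/-- the comparison isomorphism over the equalizer. -/
def P₀ : (G₁ H).obj (T₀ H ω₀) ⟶ (G₂ H).obj (T₀ H ω₀) := (exists_P₀ H ω₀ h𝒮).choose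

theorem P₀_lift : 𝒮.p.IsHomLift (𝟙 (EE H ω₀)) (P₀ H ω₀ h𝒮) := (exists_P₀ H ω₀ h𝒮).choose_spec.1

theorem P₀_fac : P₀ H ω₀ h𝒮 ≫ (G₂ H).map (jB H ω₀) = (G₁ H).map (jA H ω₀) ≫ ω₀.obj.iso.hom :=
  (exists_P₀ H ω₀ h𝒮).choose_spec.2

theorem P₀_isIso : IsIso (P₀ H ω₀ h𝒮) := by
  have := P₀_lift H ω₀ h𝒮
  exact isIso_of_isFibGrpd 𝒮.p h𝒮 (𝟙 (EE H ω₀)) (P₀ H ω₀ h𝒮)

/-- `P₀` as an isomorphism. -/
def P₀iso : (G₁ H).obj (T₀ H ω₀) ≅ (G₂ H).obj (T₀ H ω₀) :=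
  @asIso _ _ _ _ (P₀ H ω₀ h𝒮) (P₀_isIso H ω₀ h𝒮)

/-- the candidate terminal object. -/
def ζ₀ : (fp H (DD (𝒮 := 𝒮))).obj :=
  mkζ H (T₀ H ω₀) ((G₂ H).obj (T₀ H ω₀)) (P₀iso H ω₀ h𝒮) (Iso.refl _) (P₀_lift H ω₀ h𝒮)
    (IsHomLift.id ((G₂ H).w_obj (T₀ H ω₀)))

theorem ζ₀_ψ₁ : (ψ₁ H (ζ₀ H ω₀ h𝒮)).hom = P₀ H ω₀ h𝒮 := rfl
theorem ζ₀_ψ₂ : (ψ₂ H (ζ₀ H ω₀ h𝒮)).hom = 𝟙 _ := rfl

variable (ζ : (fp H (DD (𝒮 := 𝒮))).obj)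

omit h𝒮 in
/-- the object of the fibre product of the two components attached to `ζ`. -/
def ωζ : (fp (G₁ H) (G₂ H)).obj :=
  mkObj (G₁ H) (G₂ H) ζ.obj.fst ζ.obj.fst (θ H ζ) (θ_lift H ζ)

variable {ζ}

omit h𝒮 in
theorem KF' (ν : ωζ H ζ ⟶ ω₀) :
    ν.hom.snd.left = ν.hom.fst.left ≫ eqToHom (hAB₀ H ω₀).symm :=
  aux_KF' _ _ _ _ (fp_map_snd_eq (G₁ H) (G₂ H) ν)

omit h𝒮 in
theorem eq_cond (ν : ωζ H ζ ⟶ ω₀) :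
    ν.hom.fst.left ≫ a₀ H ω₀ = ν.hom.fst.left ≫ b₀ H ω₀ := by
  have h1 : ν.hom.fst.left ≫ a₀ H ω₀ = ζ.obj.fst.hom := Over.w ν.hom.fst
  have h2 : ν.hom.snd.left ≫ ω₀.obj.snd.hom = ζ.obj.fst.hom := Over.w ν.hom.snd
  exact h1.trans (h2.symm.trans ((congrArg (fun t => t ≫ ω₀.obj.snd.hom) (KF' H ω₀ ν)).trans
    (Category.assoc _ _ _)))

omit h𝒮 in
/-- the induced map to the equalizer. -/
def kk (ν : ωζ H ζ ⟶ ω₀) : ζ.obj.fst ⟶ T₀ H ω₀ :=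
  Over.homMk (equalizer.lift ν.hom.fst.left (eq_cond H ω₀ ν)) (by
    have h1 : ν.hom.fst.left ≫ a₀ H ω₀ = ζ.obj.fst.hom := Over.w ν.hom.fst
    exact (Category.assoc _ _ _).symm.trans
      ((congrArg (fun t => t ≫ a₀ H ω₀) (equalizer.lift_ι _ _)).trans h1))

omit h𝒮 in
theorem kk_left_ι (ν : ωζ H ζ ⟶ ω₀) : (kk H ω₀ ν).left ≫ ι H ω₀ = ν.hom.fst.left :=
  equalizer.lift_ι _ _

omit h𝒮 in
theorem kk_jA (ν : ωζ H ζ ⟶ ω₀) : kk H ω₀ ν ≫ jA H ω₀ = ν.hom.fst := by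
  apply Over.OverMorphism.ext
  exact kk_left_ι H ω₀ ν

omit h𝒮 in
theorem kk_jB (ν : ωζ H ζ ⟶ ω₀) : kk H ω₀ ν ≫ jB H ω₀ = ν.hom.snd := by
  apply Over.OverMorphism.ext
  have h : (kk H ω₀ ν ≫ jB H ω₀).left =
      (kk H ω₀ ν).left ≫ (ι H ω₀ ≫ eqToHom (hAB₀ H ω₀).symm) := rfl
  rw [h, ← Category.assoc, kk_left_ι]
  exact (KF' H ω₀ ν).symm

omit h𝒮 in
theorem kk_lift (ν : ωζ H ζ ⟶ ω₀) :
    (overCat W).p.IsHomLift (kk H ω₀ ν).left (kk H ω₀ ν) := by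
  refine IsHomLift.of_fac' (Over.forget W) _ _ rfl rfl ?_
  exact aux_id (kk H ω₀ ν).left rfl rfl

theorem h₁_bwd (ν : ωζ H ζ ⟶ ω₀) :
    (G₁ H).map (kk H ω₀ ν) ≫ (ψ₁ H (ζ₀ H ω₀ h𝒮)).hom =
      (ψ₁ H ζ).hom ≫ ((ψ₂ H ζ).inv ≫ (G₂ H).map (kk H ω₀ ν)) := by
  have sc := sc_jB H ω₀ h𝒮
  have hk := kk_lift H ω₀ ν
  have l0 : 𝒮.p.IsHomLift (kk H ω₀ ν).left ((G₁ H).map (kk H ω₀ ν)) :=
    BasedFunctor.preserves_isHomLift (G₁ H) (kk H ω₀ ν).left (kk H ω₀ ν)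
  have l0' : 𝒮.p.IsHomLift (kk H ω₀ ν).left ((G₂ H).map (kk H ω₀ ν)) :=
    BasedFunctor.preserves_isHomLift (G₂ H) (kk H ω₀ ν).left (kk H ω₀ ν)
  have lP : 𝒮.p.IsHomLift (𝟙 (T₀ H ω₀).left) (P₀ H ω₀ h𝒮) := P₀_lift H ω₀ h𝒮
  have l1' : 𝒮.p.IsHomLift (kk H ω₀ ν).left ((G₁ H).map (kk H ω₀ ν) ≫ P₀ H ω₀ h𝒮) :=
    IsHomLift.comp_lift_id_right 𝒮.p (kk H ω₀ ν).left ((G₁ H).map (kk H ω₀ ν)) (P₀ H ω₀ h𝒮)
  have l1 : 𝒮.p.IsHomLift (kk H ω₀ ν).left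
      ((G₁ H).map (kk H ω₀ ν) ≫ (ψ₁ H (ζ₀ H ω₀ h𝒮)).hom) := l1'
  have lψ₁ : 𝒮.p.IsHomLift (𝟙 ζ.obj.fst.left) (ψ₁ H ζ).hom := ψ₁_lift H ζ
  have lψ₂ : 𝒮.p.IsHomLift (𝟙 ζ.obj.fst.left) (ψ₂ H ζ).inv := by
    have h0 : 𝒮.p.IsHomLift (𝟙 ζ.obj.fst.left) (ψ₂ H ζ).hom := ψ₂_lift H ζ
    exact IsHomLift.lift_id_inv 𝒮.p _ (ψ₂ H ζ)
  have l2a : 𝒮.p.IsHomLift (kk H ω₀ ν).left ((ψ₂ H ζ).inv ≫ (G₂ H).map (kk H ω₀ ν)) :=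
    IsHomLift.comp_lift_id_left 𝒮.p (kk H ω₀ ν).left ((G₂ H).map (kk H ω₀ ν)) (ψ₂ H ζ).inv
  have l2 : 𝒮.p.IsHomLift (kk H ω₀ ν).left
      ((ψ₁ H ζ).hom ≫ ((ψ₂ H ζ).inv ≫ (G₂ H).map (kk H ω₀ ν))) :=
    IsHomLift.comp_lift_id_left 𝒮.p (kk H ω₀ ν).left
      ((ψ₂ H ζ).inv ≫ (G₂ H).map (kk H ω₀ ν)) (ψ₁ H ζ).hom
  let c : ζ.obj.fst.left ⟶ EE H ω₀ := (kk H ω₀ ν).left
  let lhs : (G₁ H).obj ζ.obj.fst ⟶ (G₂ H).obj (T₀ H ω₀) :=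
    (G₁ H).map (kk H ω₀ ν) ≫ (ψ₁ H (ζ₀ H ω₀ h𝒮)).hom
  let rhs : (G₁ H).obj ζ.obj.fst ⟶ (G₂ H).obj (T₀ H ω₀) :=
    (ψ₁ H ζ).hom ≫ ((ψ₂ H ζ).inv ≫ (G₂ H).map (kk H ω₀ ν))
  have l1c : 𝒮.p.IsHomLift c lhs := l1
  have l2c : 𝒮.p.IsHomLift c rhs := l2
  have hx : (G₁ H).map (kk H ω₀ ν) ≫ (G₁ H).map (jA H ω₀) = (G₁ H).map ν.hom.fst :=
    ((G₁ H).toFunctor.map_comp _ _).symm.trans (congrArg (G₁ H).toFunctor.map (kk_jA H ω₀ ν))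
  have hy : (G₂ H).map (kk H ω₀ ν) ≫ (G₂ H).map (jB H ω₀) = (G₂ H).map ν.hom.snd :=
    ((G₂ H).toFunctor.map_comp _ _).symm.trans (congrArg (G₂ H).toFunctor.map (kk_jB H ω₀ ν))
  have hν : (G₁ H).map ν.hom.fst ≫ ω₀.obj.iso.hom =
      ((ψ₁ H ζ).hom ≫ (ψ₂ H ζ).inv) ≫ (G₂ H).map ν.hom.snd := ν.hom.w
  have hc : lhs ≫ (G₂ H).map (jB H ω₀) = rhs ≫ (G₂ H).map (jB H ω₀) :=
    calc3 ((G₁ H).map (kk H ω₀ ν)) (P₀ H ω₀ h𝒮) ((G₂ H).map (jB H ω₀))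
      ((G₁ H).map (jA H ω₀)) ω₀.obj.iso.hom (P₀_fac H ω₀ h𝒮) (ψ₁ H ζ).hom (ψ₂ H ζ)
      ((G₂ H).map (kk H ω₀ ν)) ((G₁ H).map ν.hom.fst) ((G₂ H).map ν.hom.snd) hx hy hν
  have key : lhs = rhs :=
    Functor.IsStronglyCartesian.ext 𝒮.p (ι H ω₀) ((G₂ H).map (jB H ω₀)) c hc
  exact key

theorem h₂_bwd (ν : ωζ H ζ ⟶ ω₀) :
    (G₂ H).map (kk H ω₀ ν) ≫ (ψ₂ H (ζ₀ H ω₀ h𝒮)).hom =
      (ψ₂ H ζ).hom ≫ ((ψ₂ H ζ).inv ≫ (G₂ H).map (kk H ω₀ ν)) := by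
  rw [Iso.hom_inv_id_assoc]
  exact Category.comp_id _

/-- a morphism to `ω₀` induced by a morphism to `ζ₀`. -/
def νμ (μ : ζ ⟶ ζ₀ H ω₀ h𝒮) : ωζ H ζ ⟶ ω₀ :=
  mkHom (G₁ H) (G₂ H) (μ.hom.fst ≫ jA H ω₀) (μ.hom.fst ≫ jB H ω₀) (by
    have hw1 : (G₁ H).map μ.hom.fst ≫ P₀ H ω₀ h𝒮 = (ψ₁ H ζ).hom ≫ μ.hom.snd := w₁ H μ
    have hw2' : (G₂ H).map μ.hom.fst ≫ 𝟙 _ = (ψ₂ H ζ).hom ≫ μ.hom.snd := w₂ H μ
    have hw2 : (G₂ H).map μ.hom.fst = (ψ₂ H ζ).hom ≫ μ.hom.snd :=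
      (Category.comp_id _).symm.trans hw2'
    have h := calc4 ((G₁ H).map μ.hom.fst) (P₀ H ω₀ h𝒮) ((G₂ H).map (jB H ω₀))
      ((G₁ H).map (jA H ω₀)) ω₀.obj.iso.hom (P₀_fac H ω₀ h𝒮) (ψ₁ H ζ).hom (ψ₂ H ζ)
      ((G₂ H).map μ.hom.fst) μ.hom.snd hw1 hw2
    have c1 : (G₁ H).map (μ.hom.fst ≫ jA H ω₀) =
        (G₁ H).map μ.hom.fst ≫ (G₁ H).map (jA H ω₀) := (G₁ H).toFunctor.map_comp _ _
    have c2 : (G₂ H).map (μ.hom.fst ≫ jB H ω₀) =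
        (G₂ H).map μ.hom.fst ≫ (G₂ H).map (jB H ω₀) := (G₂ H).toFunctor.map_comp _ _
    exact (congrArg (fun z => z ≫ ω₀.obj.iso.hom) c1).trans
      (h.trans (congrArg (fun z => ((ψ₁ H ζ).hom ≫ (ψ₂ H ζ).inv) ≫ z) c2.symm)))

theorem snd_eq (μ : ζ ⟶ ζ₀ H ω₀ h𝒮) :
    μ.hom.snd = (ψ₂ H ζ).inv ≫ (G₂ H).map μ.hom.fst := by
  have hw2' : (G₂ H).map μ.hom.fst ≫ 𝟙 _ = (ψ₂ H ζ).hom ≫ μ.hom.snd := w₂ H μ
  have hw2 : (G₂ H).map μ.hom.fst = (ψ₂ H ζ).hom ≫ μ.hom.snd :=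
    (Category.comp_id _).symm.trans hw2'
  exact ((Iso.inv_comp_eq (ψ₂ H ζ)).mpr hw2).symm

variable (hω₀ : IsTerminal ω₀)
include hω₀

theorem uniq_bwd (μ μ' : ζ ⟶ ζ₀ H ω₀ h𝒮) : μ = μ' := by
  have h := hω₀.hom_ext (νμ H ω₀ h𝒮 μ) (νμ H ω₀ h𝒮 μ')
  have h1 : μ.hom.fst ≫ jA H ω₀ = μ'.hom.fst ≫ jA H ω₀ := congrArg (fun t => t.hom.fst) h
  have h2 : μ.hom.fst.left ≫ ι H ω₀ = μ'.hom.fst.left ≫ ι H ω₀ :=
    congrArg (fun t => t.left) h1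
  have h3 : μ.hom.fst.left = μ'.hom.fst.left := (cancel_mono (ι H ω₀)).1 h2
  have h4 : μ.hom.fst = μ'.hom.fst := Over.OverMorphism.ext h3
  apply fp_hom_ext
  · exact h4
  · rw [snd_eq H ω₀ h𝒮 μ, snd_eq H ω₀ h𝒮 μ', h4]

variable (ζ) in
theorem exists_hom_bwd : Nonempty (ζ ⟶ ζ₀ H ω₀ h𝒮) :=
  ⟨mkμ H (kk H ω₀ (hω₀.from (ωζ H ζ)))
    ((ψ₂ H ζ).inv ≫ (G₂ H).map (kk H ω₀ (hω₀.from (ωζ H ζ))))
    (h₁_bwd H ω₀ h𝒮 _) (h₂_bwd H ω₀ h𝒮 _)⟩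

theorem backward : IsRepresentable (fp H (DD (𝒮 := 𝒮))) := by
  have ht : IsTerminal (ζ₀ H ω₀ h𝒮) :=
    IsTerminal.ofUniqueHom (fun ζ => (exists_hom_bwd H ω₀ h𝒮 ζ hω₀).some)
      (fun ζ m => uniq_bwd H ω₀ h𝒮 hω₀ m _)
  exact isRepresentable_of_isTerminal (fp_isFibGrpd H (DD (𝒮 := 𝒮))
    (Groth.Agent.S6411.over_isFibGrpd W) h𝒮 (PP_isFibGrpd h𝒮)) ht

end backward


/-- For `C` with binary products and fibre products and `𝒮` fibred in groupoids over `C`, the diagonal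
`𝒮 ⟶ 𝒮 ×_C 𝒮` is representable if and only if every functor `C/U ⟶ 𝒮` over `C` is representable.
(Representability of each base change to a slice `C/V` is taken as a category over `C`; for
categories fibred in groupoids this agrees with representability over `C/V`.) -/
theorem result {C : Type u} [Category.{v} C] [HasBinaryProducts C] [HasPullbacks C] {𝒮 : BasedCategory.{v, max u v} C} (h𝒮 : FibCat.IsFibGrpd 𝒮.p) :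
    FibCat.IsRepresentable1 (FibCat.diag (FibCat.toSelf 𝒮)) ↔ ∀ (U : C) (G : FibCat.overCat U ⥤ᵇ 𝒮), FibCat.IsRepresentable1 G := by
  constructor
  · intro hΔ U G V G'
    obtain ⟨ζ₀, ⟨hζ₀⟩⟩ := exists_terminal_of_isRepresentable (hΔ (V ⨯ U) (HH G' G))
    exact forward G' G hζ₀ h𝒮
  · intro hyp W H
    have : HasEqualizers C := hasEqualizers_of_hasPullbacks_and_binary_products
    obtain ⟨ω₀, ⟨hω₀⟩⟩ := exists_terminal_of_isRepresentable (hyp W (G₂ H) W (G₁ H))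
    exact backward H ω₀ h𝒮 hω₀

end

end Groth.Agent.S6412
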