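import Groth.Statements.S6413
import Groth.Agent.H32.FibProd

set_option autoImplicit false
open CategoryTheory
universe v u
open FibCat

namespace Groth.Agent.S6413

open Groth.Agent.H32.FibProd

section generic
universe w₁ w₂ w₃ w₄ w₅ w₆
variable {ℰ : Type w₁} [Category.{w₂} ℰ] {𝒴 : Type w₃} [Category.{w₄} 𝒴] {C : Type w₅}
  [Category.{w₆} C]

/-- if `φ` is strongly cartesian for `q ⋙ p` and `q φ` is strongly cartesian for `p`, then `φ` is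
strongly cartesian for `q`. -/
theorem sc_of_comp (q : ℰ ⥤ 𝒴) (p : 𝒴 ⥤ C) {a b : ℰ} (φ : a ⟶ b)
    (h1 : (q ⋙ p).IsStronglyCartesian ((q ⋙ p).map φ) φ)
    (h2 : p.IsStronglyCartesian (p.map (q.map φ)) (q.map φ)) :
    q.IsStronglyCartesian (q.map φ) φ := by
  have hm : q.IsHomLift (q.map φ) φ := inferInstance
  refine ⟨?_⟩
  intro a'' g ψ hψ
  have e1 : q.map ψ = g ≫ q.map φ := (IsHomLift.eq_of_isHomLift q (g ≫ q.map φ) ψ).symm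
  have e2 : p.map g ≫ (q ⋙ p).map φ = (q ⋙ p).map ψ := by
    change p.map g ≫ p.map (q.map φ) = p.map (q.map ψ)
    rw [e1, p.map_comp]
  have l0 : (q ⋙ p).IsHomLift (p.map g ≫ (q ⋙ p).map φ) ψ := by
    rw [e2]; infer_instance
  let χ : a'' ⟶ a := Functor.IsStronglyCartesian.map (q ⋙ p) ((q ⋙ p).map φ) φ
    (f' := p.map g ≫ (q ⋙ p).map φ) rfl ψ
  have hχ : (q ⋙ p).IsHomLift (p.map g) χ := inferInstance
  have fac : χ ≫ φ = ψ := Functor.IsStronglyCartesian.fac (q ⋙ p) ((q ⋙ p).map φ) φ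
    (f' := p.map g ≫ (q ⋙ p).map φ) rfl ψ
  have hqχ : q.map χ = g := by
    have l1 : p.IsHomLift (p.map g) (q.map χ) := (isHomLift_comp_iff p q (p.map g) χ).mp hχ
    have l2 : p.IsHomLift (p.map g) g := inferInstance
    refine Functor.IsStronglyCartesian.ext p (p.map (q.map φ)) (q.map φ) (p.map g) ?_
    rw [← q.map_comp, fac, e1]
  refine ⟨χ, ⟨?_, fac⟩, ?_⟩
  · rw [← hqχ]; infer_instance
  · rintro χ' ⟨h1', h2'⟩
    have e3 : q.map χ' = g := (IsHomLift.eq_of_isHomLift q g χ').symm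
    have l3 : (q ⋙ p).IsHomLift (p.map g) χ' := by
      rw [← e3]
      exact inferInstanceAs ((q ⋙ p).IsHomLift ((q ⋙ p).map χ') χ')
    exact Functor.IsStronglyCartesian.map_uniq (q ⋙ p) ((q ⋙ p).map φ) φ
      (f' := p.map g ≫ (q ⋙ p).map φ) rfl ψ χ' h2'

end generic


/-- For `𝒳, 𝒴` fibred in groupoids over `C` and `F : 𝒳 ⟶ 𝒴` over `C`, the projection `𝒳 ×_{F, 𝒴, id} 𝒴 ⟶
𝒴` is a category fibred in groupoids over `𝒴`. -/
theorem result {C : Type u} [Category.{v} C] {𝒳 𝒴 : BasedCategory.{v, max u v} C} (h𝒳 : FibCat.IsFibGrpd 𝒳.p) (h𝒴 : FibCat.IsFibGrpd 𝒴.p) (F : 𝒳 ⥤ᵇ 𝒴) :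
    FibCat.IsFibGrpd (FibCat.fpSnd F (BasedFunctor.id 𝒴)).toFunctor := by
  refine ⟨?_, ?_⟩
  · -- existence of lifts
    intro z y' f
    have hzy : 𝒴.p.obj z.obj.snd = 𝒳.p.obj z.obj.fst := fp_snd_obj_eq F (BasedFunctor.id 𝒴) z
    let f₀ : y' ⟶ z.obj.snd := f
    let u : 𝒴.p.obj y' ⟶ 𝒴.p.obj z.obj.snd := 𝒴.p.map f₀
    obtain ⟨x', a, ha⟩ := exists_lift_of_eq 𝒳.p h𝒳 (x := z.obj.fst) hzy.symm u
    have l1 : 𝒴.p.IsHomLift u (F.map a) := inferInstance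
    have l2 : 𝒴.p.IsHomLift (𝟙 (𝒳.p.obj z.obj.fst)) z.obj.iso.hom := z.property
    have l2' : 𝒴.p.IsHomLift (𝟙 (𝒴.p.obj z.obj.snd)) z.obj.iso.hom :=
      isHomLift_id_of_eq 𝒴.p hzy.symm _ l2
    let θ₀ : F.obj z.obj.fst ⟶ z.obj.snd := z.obj.iso.hom
    have l2'' : 𝒴.p.IsHomLift (𝟙 (𝒴.p.obj z.obj.snd)) θ₀ := l2'
    have l3 : 𝒴.p.IsHomLift u (F.map a ≫ θ₀) := inferInstance
    have scf : 𝒴.p.IsStronglyCartesian u f₀ := h𝒴.isStronglyCartesian f₀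
    have hu : u = 𝟙 _ ≫ u := (Category.id_comp u).symm
    let θ' : F.obj x' ⟶ y' := Functor.IsStronglyCartesian.map 𝒴.p u f₀ hu (F.map a ≫ θ₀)
    have hθ' : 𝒴.p.IsHomLift (𝟙 (𝒴.p.obj y')) θ' := inferInstance
    have fac : θ' ≫ f₀ = F.map a ≫ θ₀ := Functor.IsStronglyCartesian.fac 𝒴.p u f₀ hu (F.map a ≫ θ₀)
    have iso' : IsIso θ' := isIso_of_isFibGrpd 𝒴.p h𝒴 (𝟙 (𝒴.p.obj y')) θ'
    have hx' : 𝒳.p.obj x' = 𝒴.p.obj y' := IsHomLift.domain_eq 𝒳.p u a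
    let θiso : F.obj x' ≅ y' := @asIso _ _ _ _ θ' iso'
    let z' : (fp F (BasedFunctor.id 𝒴)).obj :=
      mkObj F (BasedFunctor.id 𝒴) x' y' θiso (isHomLift_id_of_eq 𝒴.p hx'.symm _ hθ')
    let φ : z' ⟶ z := mkHom F (BasedFunctor.id 𝒴) a f₀ fac.symm
    exact ⟨z', φ, inferInstanceAs ((fpSnd F (BasedFunctor.id 𝒴)).toFunctor.IsHomLift
      ((fpSnd F (BasedFunctor.id 𝒴)).toFunctor.map φ) φ)⟩
  · -- every morphism is strongly cartesian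
    intro z' z φ
    have s1 : 𝒳.p.IsStronglyCartesian ((fp F (BasedFunctor.id 𝒴)).p.map φ) φ.hom.fst :=
      h𝒳.isStronglyCartesian φ.hom.fst
    have s2 : 𝒴.p.IsStronglyCartesian ((fp F (BasedFunctor.id 𝒴)).p.map φ) φ.hom.snd :=
      sc_of_isFibGrpd 𝒴.p h𝒴 _ φ.hom.snd
    have s3 : 𝒴.p.IsStronglyCartesian ((fp F (BasedFunctor.id 𝒴)).p.map φ)
        ((BasedFunctor.id 𝒴).map φ.hom.snd) := s2
    have s4 : (fp F (BasedFunctor.id 𝒴)).p.IsStronglyCartesian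
        ((fp F (BasedFunctor.id 𝒴)).p.map φ) φ :=
      fp_isStronglyCartesian F (BasedFunctor.id 𝒴) _ φ
    have s5 : ((fpSnd F (BasedFunctor.id 𝒴)).toFunctor ⋙ 𝒴.p).IsStronglyCartesian
        ((fp F (BasedFunctor.id 𝒴)).p.map φ) φ := by
      rw [(fpSnd F (BasedFunctor.id 𝒴)).w]; exact s4
    have s6 := sc_map_of_sc ((fpSnd F (BasedFunctor.id 𝒴)).toFunctor ⋙ 𝒴.p)
      ((fp F (BasedFunctor.id 𝒴)).p.map φ) φ
    exact sc_of_comp (fpSnd F (BasedFunctor.id 𝒴)).toFunctor 𝒴.p φ s6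
      (h𝒴.isStronglyCartesian _)

end Groth.Agent.S6413
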