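import Groth.Statements.S6420
-- import your own Groth.Agent.* helpers here

set_option autoImplicit false
open CategoryTheory CategoryTheory.Limits
universe v u
open FibCat

namespace Groth.Agent.S6420

variable {X Y Z A B C : Type u} [Category.{v} X] [Category.{v} Y] [Category.{v} Z] [Category.{v} A]
  [Category.{v} B] [Category.{v} C] {H : X ⥤ Z} {I : Y ⥤ Z} {F : A ⥤ C} {G : B ⥤ C}
  (ψ : CatCospanTransform H I F G)

theorem map_fst {x y : CategoricalPullback H I} (f : x ⟶ y) :
    ((FibCat.categoricalPullbackMap ψ).map f).fst = ψ.left.map f.fst := rfl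

theorem map_snd {x y : CategoricalPullback H I} (f : x ⟶ y) :
    ((FibCat.categoricalPullbackMap ψ).map f).snd = ψ.right.map f.snd := rfl

theorem obj_iso_hom (x : CategoricalPullback H I) :
    ((FibCat.categoricalPullbackMap ψ).obj x).iso.hom =
      ψ.squareLeft.iso.inv.app x.fst ≫ ψ.base.map x.iso.hom ≫ ψ.squareRight.iso.hom.app x.snd := by
  simp [FibCat.categoricalPullbackMap]
  rfl

theorem faithful_aux [ψ.left.Faithful] [ψ.right.Faithful] :
    (FibCat.categoricalPullbackMap ψ).Faithful := by
  refine ⟨fun {x y} f g h => ?_⟩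
  apply CategoricalPullback.hom_ext
  · apply ψ.left.map_injective
    have := congrArg CategoricalPullback.Hom.fst h
    exact this
  · apply ψ.right.map_injective
    have := congrArg CategoricalPullback.Hom.snd h
    exact this


/-- For a 2-commutative morphism of cospans of categories whose outer functors `X ⥤ A` and `Y ⥤ B` are
faithful, the induced functor `X ×_Z Y ⥤ A ×_C B` of 2-fibre products is faithful. -/
theorem result {X Y Z A B C : Type u} [Category.{v} X] [Category.{v} Y] [Category.{v} Z] [Category.{v} A] [Category.{v} B] [Category.{v} C] {H : X ⥤ Z} {I : Y ⥤ Z} {F : A ⥤ C} {G : B ⥤ C} (ψ : CatCospanTransform H I F G) [ψ.left.Faithful] [ψ.right.Faithful] :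
    (FibCat.categoricalPullbackMap ψ).Faithful := by
  exact faithful_aux ψ

end Groth.Agent.S6420
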