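import Groth.Statements.S6421
import Groth.Agent.S6420
-- import your own Groth.Agent.* helpers here

set_option autoImplicit false
open CategoryTheory CategoryTheory.Limits
universe v u
open FibCat

namespace Groth.Agent.S6421

/-- For a 2-commutative morphism of cospans of categories whose outer functors `X ⥤ A`, `Y ⥤ B` are
fully faithful and whose middle functor `Z ⥤ C` is faithful, the induced functor `X ×_Z Y ⥤ A ×_C B`
is fully faithful. -/
theorem result {X Y Z A B C : Type u} [Category.{v} X] [Category.{v} Y] [Category.{v} Z] [Category.{v} A] [Category.{v} B] [Category.{v} C] {H : X ⥤ Z} {I : Y ⥤ Z} {F : A ⥤ C} {G : B ⥤ C} (ψ : CatCospanTransform H I F G) [ψ.left.Full] [ψ.left.Faithful] [ψ.right.Full] [ψ.right.Faithful] [ψ.base.Faithful] :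
    (FibCat.categoricalPullbackMap ψ).Full ∧ (FibCat.categoricalPullbackMap ψ).Faithful := by
  refine ⟨⟨fun {x y} h => ?_⟩, Groth.Agent.S6420.faithful_aux ψ⟩
  obtain ⟨hf, hs, hw, hh⟩ : ∃ (hf : ψ.left.obj x.fst ⟶ ψ.left.obj y.fst)
      (hs : ψ.right.obj x.snd ⟶ ψ.right.obj y.snd),
      F.map hf ≫ (ψ.squareLeft.iso.inv.app y.fst ≫ ψ.base.map y.iso.hom ≫
        ψ.squareRight.iso.hom.app y.snd) =
      (ψ.squareLeft.iso.inv.app x.fst ≫ ψ.base.map x.iso.hom ≫
        ψ.squareRight.iso.hom.app x.snd) ≫ G.map hs ∧ (h.fst = hf ∧ h.snd = hs) := by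
    refine ⟨h.fst, h.snd, ?_, rfl, rfl⟩
    have := h.w
    rw [Groth.Agent.S6420.obj_iso_hom, Groth.Agent.S6420.obj_iso_hom] at this
    exact this
  let a : x.fst ⟶ y.fst := ψ.left.preimage hf
  let b : x.snd ⟶ y.snd := ψ.right.preimage hs
  have ha : ψ.left.map a = hf := ψ.left.map_preimage hf
  have hb : ψ.right.map b = hs := ψ.right.map_preimage hs
  have e1 : ψ.base.map (H.map a) ≫ ψ.squareLeft.iso.hom.app y.fst =
      ψ.squareLeft.iso.hom.app x.fst ≫ F.map hf := by
    have := ψ.squareLeft.iso.hom.naturality a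
    simp only [Functor.comp_map] at this
    rw [this, ha]
  have e2 : ψ.base.map (I.map b) ≫ ψ.squareRight.iso.hom.app y.snd =
      ψ.squareRight.iso.hom.app x.snd ≫ G.map hs := by
    have := ψ.squareRight.iso.hom.naturality b
    simp only [Functor.comp_map] at this
    rw [this, hb]
  have w : H.map a ≫ y.iso.hom = x.iso.hom ≫ I.map b := by
    apply ψ.base.map_injective
    rw [Functor.map_comp, Functor.map_comp, ← cancel_mono (ψ.squareRight.iso.hom.app y.snd),
      Category.assoc, Category.assoc, e2]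
    have e3 : ψ.base.map y.iso.hom ≫ ψ.squareRight.iso.hom.app y.snd =
        ψ.squareLeft.iso.hom.app y.fst ≫ (ψ.squareLeft.iso.inv.app y.fst ≫ ψ.base.map y.iso.hom ≫
        ψ.squareRight.iso.hom.app y.snd) := by simp
    rw [e3, ← Category.assoc, e1, Category.assoc, hw]
    simp
  refine ⟨⟨a, b, w⟩, ?_⟩
  apply CategoricalPullback.hom_ext
  · exact ha.trans hh.1.symm
  · exact hb.trans hh.2.symm

end Groth.Agent.S6421
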