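import Groth.Statements.S6422
import Groth.Agent.S6421
-- import your own Groth.Agent.* helpers here

set_option autoImplicit false
open CategoryTheory CategoryTheory.Limits
universe v u
open FibCat

namespace Groth.Agent.S6422

/-- For a 2-commutative morphism of cospans of categories whose outer functors `X ⥤ A`, `Y ⥤ B` are
equivalences and whose middle functor `Z ⥤ C` is fully faithful, the induced functor `X ×_Z Y ⥤ A
×_C B` is an equivalence of categories. -/
theorem result {X Y Z A B C : Type u} [Category.{v} X] [Category.{v} Y] [Category.{v} Z] [Category.{v} A] [Category.{v} B] [Category.{v} C] {H : X ⥤ Z} {I : Y ⥤ Z} {F : A ⥤ C} {G : B ⥤ C} (ψ : CatCospanTransform H I F G) [ψ.left.IsEquivalence] [ψ.right.IsEquivalence] [ψ.base.Full] [ψ.base.Faithful] :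
    (FibCat.categoricalPullbackMap ψ).IsEquivalence := by
  have hff := Groth.Agent.S6421.result ψ
  refine { faithful := hff.2, full := hff.1, essSurj := ⟨fun z => ?_⟩ }
  let x := ψ.left.objPreimage z.fst
  let ea : ψ.left.obj x ≅ z.fst := ψ.left.objObjPreimageIso z.fst
  let y := ψ.right.objPreimage z.snd
  let eb : ψ.right.obj y ≅ z.snd := ψ.right.objObjPreimageIso z.snd
  let κ : ψ.base.obj (H.obj x) ≅ ψ.base.obj (I.obj y) :=
    (ψ.squareLeft.iso.app x) ≪≫ F.mapIso ea ≪≫ z.iso ≪≫ (G.mapIso eb).symm ≪≫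
      (ψ.squareRight.iso.app y).symm
  let τ : H.obj x ≅ I.obj y := ψ.base.preimageIso κ
  have hτ : ψ.base.map τ.hom = κ.hom := by simp [τ]
  let w : CategoricalPullback H I := ⟨x, y, τ⟩
  have hw : ((FibCat.categoricalPullbackMap ψ).obj w).iso.hom =
      F.map ea.hom ≫ z.iso.hom ≫ G.map eb.inv := by
    rw [Groth.Agent.S6420.obj_iso_hom]
    change ψ.squareLeft.iso.inv.app x ≫ ψ.base.map τ.hom ≫ ψ.squareRight.iso.hom.app y = _
    rw [hτ]
    simp [κ]
  have hc' : ∀ (ι : F.obj (ψ.left.obj x) ⟶ G.obj (ψ.right.obj y)),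
      ι = F.map ea.hom ≫ z.iso.hom ≫ G.map eb.inv →
      F.map ea.hom ≫ z.iso.hom = ι ≫ G.map eb.hom := by
    intro ι h
    rw [h]
    simp only [Category.assoc]
    rw [← G.map_comp, Iso.inv_hom_id, G.map_id, Category.comp_id]
  have hc : F.map ea.hom ≫ z.iso.hom =
      ((FibCat.categoricalPullbackMap ψ).obj w).iso.hom ≫ G.map eb.hom := hc' _ hw
  exact ⟨w, ⟨CategoricalPullback.mkIso (x := (FibCat.categoricalPullbackMap ψ).obj w) (y := z)
    ea eb hc⟩⟩

end Groth.Agent.S6422
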