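import Groth.Statements.S6423
import Mathlib.Data.Fintype.Sigma
import Mathlib.Data.Fintype.Powerset
import Mathlib.Data.Finset.Max
import Mathlib.CategoryTheory.IsConnected
import Mathlib.CategoryTheory.FinCategory.Basic

set_option autoImplicit false
open CategoryTheory CategoryTheory.Limits
universe v u
open CatLim

namespace Groth.Agent.S6423

section helpers

variable {C : Type u} [Category.{v} C]

/-- joint equalizer of a finite family of parallel pairs out of `P` -/
lemma exists_joint_equalizer [HasEqualizers C] {P : C} {ι : Type} [DecidableEq ι]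
    (Y : ι → C) (f g : ∀ i, P ⟶ Y i) (s : Finset ι) :
    ∃ (E : C) (e : E ⟶ P), Mono e ∧ (∀ i ∈ s, e ≫ f i = e ≫ g i) ∧
      ∀ (T : C) (t : T ⟶ P), (∀ i ∈ s, t ≫ f i = t ≫ g i) → ∃ t' : T ⟶ E, t' ≫ e = t := by
  induction s using Finset.induction_on with
  | empty =>
    exact ⟨P, 𝟙 P, inferInstance, by simp, fun T t _ => ⟨t, by simp⟩⟩
  | insert a s ha ih =>
    obtain ⟨E, e, he, heq, huniv⟩ := ih
    refine ⟨equalizer (e ≫ f a) (e ≫ g a), equalizer.ι _ _ ≫ e, mono_comp _ _, ?_, ?_⟩
    · intro i hi
      rcases Finset.mem_insert.1 hi with rfl | hi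
      · simp only [Category.assoc]
        exact equalizer.condition _ _
      · simp only [Category.assoc]
        rw [heq i hi]
    · intro T t ht
      obtain ⟨t', ht'⟩ := huniv T t (fun i hi => ht i (Finset.mem_insert_of_mem hi))
      have h2 : t' ≫ (e ≫ f a) = t' ≫ (e ≫ g a) := by
        rw [← Category.assoc, ← Category.assoc, ht']
        exact ht a (Finset.mem_insert_self a s)
      exact ⟨equalizer.lift t' h2, by rw [← Category.assoc, equalizer.lift_ι, ht']⟩

variable {J : Type} [SmallCategory J] [FinCategory J]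

open Classical in
lemma hasLimit_of_weak [HasEqualizers C] (D : J ⥤ C)
    (P : C) (π : ∀ j, P ⟶ D.obj j)
    (hmono : ∀ (T : C) (a b : T ⟶ P), (∀ j, a ≫ π j = b ≫ π j) → a = b)
    (hfac : ∀ c : Cone D, ∃ g : c.pt ⟶ P, ∀ j, g ≫ π j = c.π.app j) : HasLimit D := by
  obtain ⟨E, e, he, heq, huniv⟩ := exists_joint_equalizer
    (ι := Σ (a : J) (b : J), (a ⟶ b)) (P := P) (fun x => D.obj x.2.1)
    (fun x => π x.1 ≫ D.map x.2.2) (fun x => π x.2.1) Finset.univ
  let cone : Cone D :=
    { pt := E
      π :=
        { app := fun j => e ≫ π j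
          naturality := by
            intro a b f
            have := heq ⟨a, b, f⟩ (Finset.mem_univ _)
            simp only [Functor.const_obj_obj, Functor.const_obj_map, Category.id_comp,
              Category.assoc]
            exact this.symm } }
  have hlift : ∀ c : Cone D, ∃ t' : c.pt ⟶ E, ∀ j, t' ≫ e ≫ π j = c.π.app j := by
    intro c
    obtain ⟨g, hg⟩ := hfac c
    obtain ⟨t', ht'⟩ := huniv c.pt g (by
      rintro ⟨a, b, f⟩ -
      change g ≫ π a ≫ D.map f = g ≫ π b
      rw [← Category.assoc, hg a, hg b, c.w f])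
    exact ⟨t', fun j => by rw [← Category.assoc, ht', hg j]⟩
  choose lift hl using hlift
  refine ⟨⟨⟨cone, ?_⟩⟩⟩
  refine
    { lift := lift
      fac := fun c j => hl c j
      uniq := ?_ }
  intro c m hm
  have := he
  rw [← cancel_mono e]
  apply hmono
  intro j
  rw [Category.assoc, Category.assoc, hl c j]
  exact hm j

/-- partial "tree products" -/
def Good (D : J ⥤ C) (S : Finset J) : Prop :=
  ∃ (P : C) (π : ∀ j, j ∈ S → (P ⟶ D.obj j)),
    (∀ (T : C) (a b : T ⟶ P), (∀ j (hj : j ∈ S), a ≫ π j hj = b ≫ π j hj) → a = b) ∧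
    (∀ c : Cone D, ∃ g : c.pt ⟶ P, ∀ j (hj : j ∈ S), g ≫ π j hj = c.π.app j)

lemma good_singleton (D : J ⥤ C) (j0 : J) : Good D {j0} := by
  refine ⟨D.obj j0, fun j hj => eqToHom (by rw [Finset.mem_singleton.1 hj]), ?_, ?_⟩
  · intro T a b h
    have := h j0 (Finset.mem_singleton_self j0)
    simpa using this
  · intro c
    refine ⟨c.π.app j0, ?_⟩
    intro j hj
    obtain rfl := Finset.mem_singleton.1 hj
    simp

open Classical in
lemma good_insert_out (D : J ⥤ C) {S : Finset J} (hS : Good D S) {s j : J} (hs : s ∈ S)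
    (u : s ⟶ j) : Good D (insert j S) := by
  by_cases hj : j ∈ S
  · rwa [Finset.insert_eq_of_mem hj]
  obtain ⟨P, π, hmono, hfac⟩ := hS
  have key : ∀ j', j' ∈ insert j S → j' ∉ S → j = j' := by
    intro j' h1 h2
    rcases Finset.mem_insert.1 h1 with h | h
    · exact h.symm
    · exact absurd h h2
  refine ⟨P, fun j' hj' => if h : j' ∈ S then π j' h else
    π s hs ≫ D.map u ≫ eqToHom (by rw [key j' hj' h]), ?_, ?_⟩
  · intro T a b h
    apply hmono
    intro j' hj'
    have := h j' (Finset.mem_insert_of_mem hj')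
    simpa only [dif_pos hj'] using this
  · intro c
    obtain ⟨g, hg⟩ := hfac c
    refine ⟨g, ?_⟩
    intro j' hj'
    by_cases h : j' ∈ S
    · simp only [dif_pos h]
      exact hg j' h
    · simp only [dif_neg h]
      obtain rfl := key j' hj' h
      rw [← Category.assoc, hg s hs]
      simp

open Classical in
lemma good_insert_in [HasPullbacks C] (D : J ⥤ C) {S : Finset J} (hS : Good D S) {s j : J}
    (hs : s ∈ S) (u : j ⟶ s) : Good D (insert j S) := by
  by_cases hj : j ∈ S
  · rwa [Finset.insert_eq_of_mem hj]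
  obtain ⟨P, π, hmono, hfac⟩ := hS
  have key : ∀ j', j' ∈ insert j S → j' ∉ S → j = j' := by
    intro j' h1 h2
    rcases Finset.mem_insert.1 h1 with h | h
    · exact h.symm
    · exact absurd h h2
  refine ⟨pullback (π s hs) (D.map u), fun j' hj' => if h : j' ∈ S then pullback.fst _ _ ≫ π j' h else
    pullback.snd _ _ ≫ eqToHom (by rw [key j' hj' h]), ?_, ?_⟩
  · intro T a b h
    apply pullback.hom_ext
    · apply hmono
      intro j' hj'
      have := h j' (Finset.mem_insert_of_mem hj')
      simpa only [dif_pos hj', Category.assoc] using this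
    · have := h j (Finset.mem_insert_self j S)
      simpa only [dif_neg hj, eqToHom_refl, Category.comp_id] using this
  · intro c
    obtain ⟨g, hg⟩ := hfac c
    refine ⟨pullback.lift g (c.π.app j) (by rw [hg s hs, c.w u]), ?_⟩
    intro j' hj'
    by_cases h : j' ∈ S
    · simp only [dif_pos h]
      rw [← Category.assoc, pullback.lift_fst]
      exact hg j' h
    · simp only [dif_neg h]
      obtain rfl := key j' hj' h
      rw [← Category.assoc, pullback.lift_snd]
      simp

open Classical in
lemma good_univ [HasPullbacks C] [IsConnected J] (D : J ⥤ C) : Good D Finset.univ := by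
  obtain ⟨j0⟩ := (inferInstance : Nonempty J)
  have hne : (Finset.univ.filter (fun S : Finset J => Good D S)).Nonempty :=
    ⟨{j0}, by simp [good_singleton D j0]⟩
  obtain ⟨S, hS, hmax⟩ := Finset.exists_max_image _ Finset.card hne
  have hSgood : Good D S := (Finset.mem_filter.1 hS).2
  have hcard : 1 ≤ S.card := by
    have := hmax {j0} (by simp [good_singleton D j0])
    simpa using this
  obtain ⟨s0, hs0⟩ : S.Nonempty := Finset.card_pos.1 hcard
  have hclosed : ∀ j, Good D (insert j S) → j ∈ S := by
    intro j hj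
    by_contra hnot
    have := hmax (insert j S) (by simp [hj])
    rw [Finset.card_insert_of_notMem hnot] at this
    omega
  have hall : ∀ j, j ∈ (S : Set J) := by
    intro j
    refine induct_on_objects (S : Set J) (j₀ := s0) hs0 ?_ j
    intro j1 j2 f
    constructor
    · intro h1
      exact hclosed j2 (good_insert_out D hSgood h1 f)
    · intro h2
      exact hclosed j1 (good_insert_in D hSgood h2 f)
  have : S = Finset.univ := Finset.eq_univ_iff_forall.2 (fun j => hall j)
  rwa [this] at hSgood

end helpers

/-- (2) ⇒ (1): a category with equalizers and fibre products has all finite connected limits. -/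
theorem result {C : Type u} [Category.{v} C] [HasEqualizers C] [HasPullbacks C]
    (J : Type) [SmallCategory J] [FinCategory J] [IsConnected J] : HasLimitsOfShape J C := by
  refine ⟨fun D => ?_⟩
  obtain ⟨P, π, hmono, hfac⟩ := good_univ D
  exact hasLimit_of_weak D P (fun j => π j (Finset.mem_univ j))
    (fun T a b h => hmono T a b (fun j _ => h j))
    (fun c => by
      obtain ⟨g, hg⟩ := hfac c
      exact ⟨g, fun j => hg j _⟩)

end Groth.Agent.S6423
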