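import Groth.Statements.S6424
import Mathlib.CategoryTheory.Limits.Constructions.FiniteProductsOfBinaryProducts
import Mathlib.CategoryTheory.Limits.Constructions.LimitsOfProductsAndEqualizers
import Mathlib.CategoryTheory.FinCategory.Basic

set_option autoImplicit false
open CategoryTheory CategoryTheory.Limits
universe v u
open CatLim

namespace Groth.Agent.S6424

theorem hasProduct_fin_succ {C : Type u} [Category.{v} C] [HasBinaryProducts C] :
    ∀ (n : ℕ) (f : Fin (n + 1) → C), HasProduct f
  | 0, f => by
    haveI : Nonempty (Fin (0 + 1)) := ⟨0⟩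
    haveI : Subsingleton (Fin (0 + 1)) := inferInstanceAs (Subsingleton (Fin 1))
    exact hasProduct_unique f
  | n + 1, f => by
    haveI := hasProduct_fin_succ n (fun i : Fin (n + 1) => f i.succ)
    exact HasLimit.mk ⟨_, extendFanIsLimit f
      (limit.isLimit (Discrete.functor fun i : Fin (n + 1) => f i.succ))
      (limit.isLimit (pair (f 0) _))⟩

/-- (2) ⇒ (1): a category with products of pairs and equalizers has all finite nonempty limits. -/
theorem result {C : Type u} [Category.{v} C] [HasBinaryProducts C] [HasEqualizers C]
    (J : Type) [SmallCategory J] [FinCategory J] [Nonempty J] : HasLimitsOfShape J C := by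
  have hprod : ∀ (ι : Type) [Finite ι] [Nonempty ι] (f : ι → C), HasProduct f := by
    intro ι _ _ f
    obtain ⟨n, ⟨e⟩⟩ := Finite.exists_equiv_fin ι
    cases n with
    | zero => exact (e (Classical.arbitrary ι)).elim0
    | succ m =>
      haveI := hasProduct_fin_succ m (fun i => f (e.symm i))
      exact hasProduct_of_equiv_of_iso (fun i => f (e.symm i)) f e (fun j => eqToIso (by simp))
  constructor
  intro F
  haveI := hprod J F.obj
  haveI : Nonempty (Σ p : J × J, p.1 ⟶ p.2) :=
    ⟨⟨(Classical.arbitrary J, Classical.arbitrary J), 𝟙 _⟩⟩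
  haveI := hprod (Σ p : J × J, p.1 ⟶ p.2) (fun f => F.obj f.1.2)
  exact hasLimit_of_equalizer_and_product F

end Groth.Agent.S6424
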