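-- Statement S6425: comparison map for colimits of products of sets is surjective.
import Groth.Statements.S6425

set_option autoImplicit false
open CategoryTheory CategoryTheory.Limits
universe v
open CatLim

namespace Groth.Agent.S6425

/-- The concrete product functor. -/
def prodFunctor {I : Type v} [SmallCategory I] (M N : I ⥤ Type v) : I ⥤ Type v where
  obj i := M.obj i × N.obj i
  map u := ↾fun p => (M.map u p.1, N.map u p.2)
  map_id i := by ext p <;> simp
  map_comp u w := by ext p <;> simp

def fstNat {I : Type v} [SmallCategory I] (M N : I ⥤ Type v) : prodFunctor M N ⟶ M where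
  app i := ↾fun p => p.1
  naturality i j u := by ext p; rfl

def sndNat {I : Type v} [SmallCategory I] (M N : I ⥤ Type v) : prodFunctor M N ⟶ N where
  app i := ↾fun p => p.2
  naturality i j u := by ext p; rfl

/-- Over an index category in which any two objects map to a common object, the comparison map `colim (M
× N) → colim M × colim N` for diagrams of sets is surjective. -/
theorem result {I : Type v} [SmallCategory I]
    (hI : ∀ x y : I, ∃ (z : I) (_ : x ⟶ z) (_ : y ⟶ z), True) (M N : I ⥤ Type v) :
    Function.Surjective (prodComparison (colim : (I ⥤ Type v) ⥤ Type v) M N) := by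
  intro p
  set π₁ : colim.obj M ⨯ colim.obj N ⟶ colim.obj M := prod.fst with hπ₁
  set π₂ : colim.obj M ⨯ colim.obj N ⟶ colim.obj N := prod.snd with hπ₂
  obtain ⟨x, m, hm⟩ := Types.jointly_surjective' (F := M) (π₁ p)
  obtain ⟨y, n, hn⟩ := Types.jointly_surjective' (F := N) (π₂ p)
  obtain ⟨z, u, w, -⟩ := hI x y
  let e : (prodFunctor M N).obj z := (M.map u m, N.map w n)
  let q : (M ⨯ N).obj z := (prod.lift (fstNat M N) (sndNat M N)).app z e
  have hq1 : (prod.fst : M ⨯ N ⟶ M).app z q = M.map u m :=
    ConcreteCategory.congr_hom (congr_app (prod.lift_fst (fstNat M N) (sndNat M N)) z) e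
  have hq2 : (prod.snd : M ⨯ N ⟶ N).app z q = N.map w n :=
    ConcreteCategory.congr_hom (congr_app (prod.lift_snd (fstNat M N) (sndNat M N)) z) e
  refine ⟨colimit.ι (M ⨯ N) z q, ?_⟩
  apply Types.limit_ext
  rintro ⟨⟨⟩⟩
  · show π₁ _ = π₁ p
    rw [← hm]
    have h1 := ConcreteCategory.congr_hom
      (prodComparison_fst (colim : (I ⥤ Type v) ⥤ Type v) (A := M) (B := N))
      (colimit.ι (M ⨯ N) z q)
    rw [types_comp_apply] at h1
    rw [h1]
    have h2 := ConcreteCategory.congr_hom (colimit.ι_map (prod.fst : M ⨯ N ⟶ M) z) q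
    rw [types_comp_apply, types_comp_apply] at h2
    rw [h2, hq1]
    exact ConcreteCategory.congr_hom (colimit.w M u) m
  · show π₂ _ = π₂ p
    rw [← hn]
    have h1 := ConcreteCategory.congr_hom
      (prodComparison_snd (colim : (I ⥤ Type v) ⥤ Type v) (A := M) (B := N))
      (colimit.ι (M ⨯ N) z q)
    rw [types_comp_apply] at h1
    rw [h1]
    have h2 := ConcreteCategory.congr_hom (colimit.ι_map (prod.snd : M ⨯ N ⟶ N) z) q
    rw [types_comp_apply, types_comp_apply] at h2
    rw [h2, hq2]
    exact ConcreteCategory.congr_hom (colimit.w N w) n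

end Groth.Agent.S6425
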