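import Groth.Statements.S6429
import Mathlib.CategoryTheory.Monoidal.Category
import Mathlib.CategoryTheory.Equivalence

set_option autoImplicit false
open CategoryTheory CategoryTheory.MonoidalCategory
universe v u
open MonCat

namespace Groth.Agent.S6429

noncomputable def eqvLeft {C : Type u} [Category.{v} C] [MonoidalCategory C] (X X' : C)
    (e₁ : X ⊗ X' ≅ 𝟙_ C) (e₂ : X' ⊗ X ≅ 𝟙_ C) : C ≌ C :=
  CategoryTheory.Equivalence.mk (tensorLeft X) (tensorLeft X')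
    ((leftUnitorNatIso C).symm ≪≫ ((curriedTensor C).mapIso e₂.symm) ≪≫ tensorLeftTensor X' X)
    ((tensorLeftTensor X X').symm ≪≫ ((curriedTensor C).mapIso e₁) ≪≫ leftUnitorNatIso C)

noncomputable def eqvRight {C : Type u} [Category.{v} C] [MonoidalCategory C] (X X' : C)
    (e₁ : X ⊗ X' ≅ 𝟙_ C) (e₂ : X' ⊗ X ≅ 𝟙_ C) : C ≌ C :=
  CategoryTheory.Equivalence.mk (tensorRight X) (tensorRight X')
    ((rightUnitorNatIso C).symm ≪≫ ((tensoringRight C).mapIso e₁.symm) ≪≫ tensorRightTensor X X')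
    ((tensorRightTensor X' X).symm ≪≫ ((tensoringRight C).mapIso e₂) ≪≫ rightUnitorNatIso C)

/-- An object `X` of a monoidal category is invertible (some `X'` has `X ⊗ X' ≅ 𝟙` and `X' ⊗ X ≅ 𝟙`) if
and only if tensoring on the left by `X` is an equivalence, if and only if tensoring on the right by
`X` is an equivalence. -/
theorem result {C : Type u} [Category.{v} C] [MonoidalCategory C] (X : C) :
    ((tensorLeft X).IsEquivalence ↔ ∃ X' : C, Nonempty (X ⊗ X' ≅ 𝟙_ C) ∧ Nonempty (X' ⊗ X ≅ 𝟙_ C)) ∧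
      ((tensorRight X).IsEquivalence ↔ ∃ X' : C, Nonempty (X ⊗ X' ≅ 𝟙_ C) ∧ Nonempty (X' ⊗ X ≅ 𝟙_ C)) := by
  constructor
  · constructor
    · intro h
      have e₁ : X ⊗ (tensorLeft X).objPreimage (𝟙_ C) ≅ 𝟙_ C :=
        (tensorLeft X).objObjPreimageIso (𝟙_ C)
      refine ⟨(tensorLeft X).objPreimage (𝟙_ C), ⟨e₁⟩, ⟨?_⟩⟩
      have e : (tensorLeft X).obj ((tensorLeft X).objPreimage (𝟙_ C) ⊗ X) ≅
          (tensorLeft X).obj (𝟙_ C) :=
        (α_ X ((tensorLeft X).objPreimage (𝟙_ C)) X).symm ≪≫ whiskerRightIso e₁ X ≪≫ λ_ X ≪≫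
          (ρ_ X).symm
      exact (tensorLeft X).preimageIso e
    · rintro ⟨X', ⟨e₁⟩, ⟨e₂⟩⟩
      exact (eqvLeft X X' e₁ e₂).isEquivalence_functor
  · constructor
    · intro h
      have e₂ : (tensorRight X).objPreimage (𝟙_ C) ⊗ X ≅ 𝟙_ C :=
        (tensorRight X).objObjPreimageIso (𝟙_ C)
      refine ⟨(tensorRight X).objPreimage (𝟙_ C), ⟨?_⟩, ⟨e₂⟩⟩
      have e : (tensorRight X).obj (X ⊗ (tensorRight X).objPreimage (𝟙_ C)) ≅
          (tensorRight X).obj (𝟙_ C) :=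
        α_ X ((tensorRight X).objPreimage (𝟙_ C)) X ≪≫ whiskerLeftIso X e₂ ≪≫ ρ_ X ≪≫
          (λ_ X).symm
      exact (tensorRight X).preimageIso e
    · rintro ⟨X', ⟨e₁⟩, ⟨e₂⟩⟩
      exact (eqvRight X X' e₁ e₂).isEquivalence_functor

end Groth.Agent.S6429
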