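import Groth.Statements.S6430
import Groth.Agent.H32.FibProd
-- import your own Groth.Agent.* helpers here

set_option autoImplicit false
open CategoryTheory
universe v₂ u₂ v u
open FibCat

namespace Groth.Agent.S6430

/-- For a fibred category `p : 𝒮 ⥤ C`, the wide subcategory of `𝒮` on the strongly cartesian morphisms
is fibred in groupoids over `C`. -/
theorem result {C : Type u} [Category.{v} C] {𝒮 : Type u₂} [Category.{v₂} 𝒮] (p : 𝒮 ⥤ C) [p.IsFibered] :
    FibCat.IsFibGrpd (FibCat.cartSubProj p) := by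
  open Groth.Agent.H32.FibProd in
  have key : ∀ {R S : C} (f : R ⟶ S) {a b : FibCat.cartSub p} (m : a ⟶ b),
      (FibCat.cartSubProj p).IsHomLift f m ↔ p.IsHomLift f m.1 := by
    intro R S f a b m
    exact isHomLift_comp_iff p (wideSubcategoryInclusion (FibCat.cartMor p)) f m
  refine ⟨?_, ?_⟩
  · intro x V f
    change V ⟶ p.obj x.obj at f
    obtain ⟨y, φ, hφ⟩ := Functor.IsPreFibered.exists_isCartesian' (p := p) (a := x.obj) f
    have hsc : p.IsStronglyCartesian f φ := inferInstance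
    have hsc' : p.IsStronglyCartesian (p.map φ) φ := sc_map_of_sc p f φ
    let m : (⟨y⟩ : FibCat.cartSub p) ⟶ x := ⟨φ, hsc'⟩
    exact ⟨⟨y⟩, m, (key f m).mpr hsc.toIsHomLift⟩
  · intro y x m
    have hm : p.IsStronglyCartesian (p.map m.1) m.1 := m.2
    refine ⟨?_⟩
    intro z g m' hm'
    change p.obj z.obj ⟶ p.obj y.obj at g
    have h1 : p.IsHomLift (g ≫ p.map m.1) m'.1 := (key _ m').mp hm'
    have hm'sc : p.IsStronglyCartesian (p.map m'.1) m'.1 := m'.2
    have hm'sc2 : p.IsStronglyCartesian (g ≫ p.map m.1) m'.1 := sc_of_homLift p _ m'.1 hm'sc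
    let χ : z.obj ⟶ y.obj := Functor.IsStronglyCartesian.map p (p.map m.1) m.1
      (f' := g ≫ p.map m.1) rfl m'.1
    have hχ : p.IsHomLift g χ := inferInstance
    have hfac : χ ≫ m.1 = m'.1 := Functor.IsStronglyCartesian.fac p (p.map m.1) m.1 rfl m'.1
    have h2 : p.IsStronglyCartesian (g ≫ p.map m.1) (χ ≫ m.1) := by rw [hfac]; exact hm'sc2
    have hχsc : p.IsStronglyCartesian g χ :=
      Functor.IsStronglyCartesian.of_comp p (f := g) (g := p.map m.1) (φ := χ) (ψ := m.1)
    have hχsc' : p.IsStronglyCartesian (p.map χ) χ := sc_map_of_sc p g χ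
    refine ⟨⟨χ, hχsc'⟩, ⟨(key g _).mpr hχ, ?_⟩, ?_⟩
    · apply WideSubcategory.hom_ext
      exact hfac
    · rintro n ⟨hn1, hn2⟩
      apply WideSubcategory.hom_ext
      have hn1' : p.IsHomLift g n.1 := (key g n).mp hn1
      have hn2' : n.1 ≫ m.1 = m'.1 := congrArg InducedWideCategory.Hom.hom hn2
      exact Functor.IsStronglyCartesian.map_uniq p (p.map m.1) m.1 rfl m'.1 n.1 hn2'

end Groth.Agent.S6430
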