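import Groth.Statements.S6433
import Mathlib.Data.Fintype.Option

set_option autoImplicit false
open CategoryTheory
universe v u v' u'
open CatLoc

namespace Groth.Agent.S6433

/-- For a left multiplicative system `W` and a localization functor `L`, any finite family of morphisms
`L X_i ⟶ L Y` admits a common denominator: some `s : Y ⟶ Y'` in `W` and morphisms `f_i : X_i ⟶ Y'`
with `g_i = L(s)⁻¹ L(f_i)`. -/
theorem result {C : Type u} [Category.{v} C] {D : Type u'} [Category.{v'} D] (W : MorphismProperty C) (L : C ⥤ D) [L.IsLocalization W] [W.HasLeftCalculusOfFractions]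
    {ι : Type} [Finite ι] (X : ι → C) (Y : C) (g : ∀ i, L.obj (X i) ⟶ L.obj Y) :
    ∃ (Y' : C) (s : Y ⟶ Y') (_ : W s) (f : ∀ i, X i ⟶ Y'), ∀ i, g i ≫ L.map s = L.map (f i) := by
  revert X g
  refine Finite.induction_empty_option
    (P := fun ι : Type => ∀ (X : ι → C) (g : ∀ i, L.obj (X i) ⟶ L.obj Y),
      ∃ (Y' : C) (s : Y ⟶ Y') (_ : W s) (f : ∀ i, X i ⟶ Y'), ∀ i, g i ≫ L.map s = L.map (f i))
    ?_ ?_ ?_ ι
  · intro α β e h X g
    obtain ⟨Y', s, hs, f, hf⟩ := h (fun a => X (e a)) (fun a => g (e a))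
    refine ⟨Y', s, hs, fun b => (eqToHom (by rw [e.apply_symm_apply])) ≫ f (e.symm b), ?_⟩
    intro b
    have := hf (e.symm b)
    obtain ⟨a, rfl⟩ := e.surjective b
    rw [L.map_comp, eqToHom_map]
    have key : ∀ (a' : α) (h : a' = a),
        g (e a) ≫ L.map s = eqToHom (by rw [h]) ≫ L.map (f a') := by
      intro a' h
      subst h
      simpa using hf a'
    exact key _ (e.symm_apply_apply a)
  · intro X g
    exact ⟨Y, 𝟙 Y, W.id_mem Y, fun i => i.elim, fun i => i.elim⟩
  · intro α _ h X g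
    obtain ⟨Y₁, s₁, hs₁, f, hf⟩ := h (fun a => X (some a)) (fun a => g (some a))
    obtain ⟨φ, hφ⟩ := Localization.exists_leftFraction L W (g none)
    obtain ⟨ψ, hψ⟩ := MorphismProperty.HasLeftCalculusOfFractions.exists_leftFraction
      (MorphismProperty.RightFraction.mk s₁ hs₁ φ.s)
    dsimp at hψ
    refine ⟨ψ.Y', φ.s ≫ ψ.s, W.comp_mem _ _ φ.hs ψ.hs,
      fun i => Option.rec (φ.f ≫ ψ.s) (fun a => f a ≫ ψ.f) i, ?_⟩
    intro i
    cases i with
    | none =>
      simp only
      rw [L.map_comp, L.map_comp, hφ, ← Category.assoc,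
        MorphismProperty.LeftFraction.map_comp_map_s]
    | some a =>
      simp only
      rw [hψ, L.map_comp, L.map_comp, ← Category.assoc, hf a]

end Groth.Agent.S6433
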