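import Groth.Statements.S6434
import Mathlib.CategoryTheory.Localization.CalculusOfFractions.Fractions
import Mathlib.CategoryTheory.Limits.Preserves.Finite
import Mathlib.CategoryTheory.FinCategory.Basic
import Mathlib.Data.Fintype.Sigma

set_option autoImplicit false
open CategoryTheory
universe v u v' u'
open CatLoc

namespace Groth.Agent.S6434

open CategoryTheory.Limits

section
variable {C : Type u} [Category.{v} C] {D : Type u'} [Category.{v'} D] (W : MorphismProperty C)
  (L : C ⥤ D) [L.IsLocalization W] [W.HasLeftCalculusOfFractions]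

/-- common denominators for a finite family of morphisms into `L.obj Y`. -/
lemma exists_common_denominator {ι : Type*} [DecidableEq ι] (S : Finset ι) (X : ι → C) (Y : C)
    (a : ∀ i, L.obj (X i) ⟶ L.obj Y) :
    ∃ (Y' : C) (t : Y ⟶ Y') (_ : W t), ∀ i ∈ S, ∃ g : X i ⟶ Y', a i ≫ L.map t = L.map g := by
  induction S using Finset.induction_on with
  | empty => exact ⟨Y, 𝟙 Y, W.id_mem Y, by simp⟩
  | insert i₀ S hi₀ ih =>
    obtain ⟨Y', t, ht, hS⟩ := ih
    obtain ⟨φ, hφ⟩ := Localization.exists_leftFraction L W (a i₀)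
    obtain ⟨ψ, hψ⟩ := (MorphismProperty.RightFraction.mk φ.s φ.hs t).exists_leftFraction
    dsimp at hψ
    refine ⟨ψ.Y', t ≫ ψ.s, W.comp_mem _ _ ht ψ.hs, ?_⟩
    intro i hi
    rw [Finset.mem_insert] at hi
    by_cases h : i = i₀
    · subst h
      refine ⟨φ.f ≫ ψ.f, ?_⟩
      rw [hψ, L.map_comp, L.map_comp, hφ]
      rw [← Category.assoc (φ.map L _), MorphismProperty.LeftFraction.map_comp_map_s]
    · obtain ⟨g, hg⟩ := hS i (hi.resolve_left h)
      refine ⟨g ≫ ψ.s, ?_⟩
      rw [L.map_comp, L.map_comp, ← Category.assoc, hg]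

/-- common equalizing morphism for a finite family of pairs with the same image. -/
lemma exists_common_equalizer {ι : Type*} [DecidableEq ι] (S : Finset ι) (X : ι → C) (Y : C)
    (p q : ∀ i, X i ⟶ Y) (h : ∀ i ∈ S, L.map (p i) = L.map (q i)) :
    ∃ (Y' : C) (r : Y ⟶ Y') (_ : W r), ∀ i ∈ S, p i ≫ r = q i ≫ r := by
  induction S using Finset.induction_on with
  | empty => exact ⟨Y, 𝟙 Y, W.id_mem Y, by simp⟩
  | insert i₀ S hi₀ ih =>
    obtain ⟨Y', r, hr, hS⟩ := ih (fun i hi => h i (Finset.mem_insert_of_mem hi))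
    have h0 : L.map (p i₀ ≫ r) = L.map (q i₀ ≫ r) := by
      rw [L.map_comp, L.map_comp, h i₀ (Finset.mem_insert_self _ _)]
    obtain ⟨Z, s, hs, hps⟩ := (MorphismProperty.map_eq_iff_postcomp L W _ _).1 h0
    refine ⟨Z, r ≫ s, W.comp_mem _ _ hr hs, ?_⟩
    intro i hi
    rw [Finset.mem_insert] at hi
    by_cases hi' : i = i₀
    · subst hi'
      simpa using hps
    · have := hS i (hi.resolve_left hi')
      rw [← Category.assoc, this, Category.assoc]

variable {J : Type} [SmallCategory J] [FinCategory J] {K : J ⥤ C} {c : Cocone K} (hc : IsColimit c)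

include W hc in
lemma uniq_aux (Y : C) (m₁ m₂ : L.obj c.pt ⟶ L.obj Y)
    (h : ∀ j, L.map (c.ι.app j) ≫ m₁ = L.map (c.ι.app j) ≫ m₂) : m₁ = m₂ := by
  classical
  obtain ⟨φ, h₁, h₂⟩ := Localization.exists_leftFraction₂ L W m₁ m₂
  have hs : IsIso (L.map φ.s) := Localization.inverts L W _ φ.hs
  have e₁ : m₁ ≫ L.map φ.s = L.map φ.f := by
    rw [h₁]; exact MorphismProperty.LeftFraction.map_comp_map_s φ.fst L _
  have e₂ : m₂ ≫ L.map φ.s = L.map φ.f' := by
    rw [h₂]; exact MorphismProperty.LeftFraction.map_comp_map_s φ.snd L _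
  have hj : ∀ j ∈ (Finset.univ : Finset J),
      L.map (c.ι.app j ≫ φ.f) = L.map (c.ι.app j ≫ φ.f') := by
    intro j _
    rw [L.map_comp, L.map_comp, ← e₁, ← e₂, ← Category.assoc, ← Category.assoc, h j]
  obtain ⟨Z, r, hr, hrj⟩ := exists_common_equalizer W L (Finset.univ : Finset J)
    (fun j => K.obj j) φ.Y' (fun j => c.ι.app j ≫ φ.f) (fun j => c.ι.app j ≫ φ.f') hj
  have hfr : φ.f ≫ r = φ.f' ≫ r := by
    apply hc.hom_ext
    intro j
    have := hrj j (Finset.mem_univ j)
    simpa using this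
  have hr' : IsIso (L.map r) := Localization.inverts L W _ hr
  have : L.map φ.f = L.map φ.f' := by
    rw [← cancel_mono (L.map r), ← L.map_comp, ← L.map_comp, hfr]
  rw [← cancel_mono (L.map φ.s), e₁, e₂, this]

include W hc in
lemma exists_aux (Y : C) (a : ∀ j, L.obj (K.obj j) ⟶ L.obj Y)
    (ha : ∀ (j j' : J) (u : j ⟶ j'), L.map (K.map u) ≫ a j' = a j) :
    ∃ m : L.obj c.pt ⟶ L.obj Y, ∀ j, L.map (c.ι.app j) ≫ m = a j := by
  classical
  obtain ⟨Y', t, ht, hg⟩ := exists_common_denominator W L (Finset.univ : Finset J)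
    (fun j => K.obj j) Y a
  choose g hg using fun j => hg j (Finset.mem_univ j)
  have hcomp : ∀ x ∈ (Finset.univ : Finset (Σ (j j' : J), (j ⟶ j'))),
      L.map (K.map x.2.2 ≫ g x.2.1) = L.map (g x.1) := by
    rintro ⟨j, j', u⟩ -
    dsimp
    rw [L.map_comp, ← hg j', ← Category.assoc, ha j j' u, hg j]
  obtain ⟨Z, r, hr, hrx⟩ := exists_common_equalizer W L
    (Finset.univ : Finset (Σ (j j' : J), (j ⟶ j')))
    (fun x => K.obj x.1) Y' (fun x => K.map x.2.2 ≫ g x.2.1) (fun x => g x.1) hcomp
  let s : Cocone K :=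
    { pt := Z
      ι :=
        { app := fun j => g j ≫ r
          naturality := by
            intro j j' u
            have := hrx ⟨j, j', u⟩ (Finset.mem_univ _)
            dsimp at this ⊢
            rw [Category.comp_id, ← Category.assoc, this] } }
  have ht' : IsIso (L.map t) := Localization.inverts L W _ ht
  have hr' : IsIso (L.map r) := Localization.inverts L W _ hr
  refine ⟨L.map (hc.desc s) ≫ inv (L.map r) ≫ inv (L.map t), ?_⟩
  intro j
  rw [← Category.assoc, ← L.map_comp, hc.fac s j]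
  change L.map (g j ≫ r) ≫ _ = _
  rw [L.map_comp, Category.assoc, IsIso.hom_inv_id_assoc, ← hg j, Category.assoc,
    IsIso.hom_inv_id, Category.comp_id]

end

/-- The localization functor at a left multiplicative system commutes with finite colimits. -/
theorem result {C : Type u} [Category.{v} C] {D : Type u'} [Category.{v'} D] (W : MorphismProperty C) (L : C ⥤ D) [L.IsLocalization W] [W.HasLeftCalculusOfFractions] :
    Limits.PreservesFiniteColimits L := by
  have hess : L.EssSurj := Localization.essSurj L W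
  refine ⟨fun J _ _ => ⟨fun {K} => ⟨fun {c} hc => ⟨?_⟩⟩⟩⟩
  refine IsColimit.ofExistsUnique (fun s => ?_)
  let e := L.objObjPreimageIso s.pt
  obtain ⟨m, hm⟩ := exists_aux W L hc (L.objPreimage s.pt) (fun j => s.ι.app j ≫ e.inv)
    (by
      intro j j' u
      have := s.w u
      dsimp at this
      rw [← Category.assoc, this])
  refine ⟨m ≫ e.hom, ?_, ?_⟩
  · intro j
    dsimp
    rw [← Category.assoc, hm j, Category.assoc, Iso.inv_hom_id, Category.comp_id]
  · intro m' hm'
    have : m' ≫ e.inv = m := by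
      apply uniq_aux W L hc
      intro j
      rw [hm j, ← Category.assoc]
      have := hm' j
      dsimp at this
      rw [this]
    rw [← this, Category.assoc, Iso.inv_hom_id, Category.comp_id]

end Groth.Agent.S6434
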