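import Groth.Statements.S6436
import Mathlib.CategoryTheory.Adjunction.FullyFaithful

set_option autoImplicit false
open CategoryTheory
universe v₁ u₁ v₂ u₂
open CatLim

namespace Groth.Agent.S6436

/-- For an adjunction `u ⊣ v`, if `v ∘ u` is fully faithful then so is `u`, and if `u ∘ v` is fully
faithful then so is `v`. -/
theorem result {C : Type u₁} [Category.{v₁} C] {D : Type u₂} [Category.{v₂} D] {u : C ⥤ D} {v : D ⥤ C} (adj : u ⊣ v) :
    ((u ⋙ v).Full → (u ⋙ v).Faithful → u.Full ∧ u.Faithful) ∧ ((v ⋙ u).Full → (v ⋙ u).Faithful → v.Full ∧ v.Faithful) := by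
  constructor
  · intro hfull hfaith
    have hiso : ∀ y, IsIso (adj.unit.app y) := by
      intro y
      obtain ⟨t, ht⟩ := (u ⋙ v).map_surjective (X := (u ⋙ v).obj y) (Y := y)
        (v.map (adj.counit.app (u.obj y)))
      refine ⟨t, ?_, ?_⟩
      · apply (u ⋙ v).map_injective
        rw [Functor.map_comp, ht, Functor.map_id]
        simp only [Functor.comp_obj, Functor.comp_map]
        rw [← v.map_comp]
        have h3 : u.map (adj.unit.app y) ≫ adj.counit.app (u.obj y) = 𝟙 _ :=
          adj.left_triangle_components y
        rw [h3, v.map_id]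
      · have hnat := adj.unit.naturality t
        simp only [Functor.id_obj, Functor.id_map] at hnat
        rw [hnat, ht]
        simp
    exact ⟨adj.full_L_of_isSplitEpi_unit_app, adj.faithful_L_of_mono_unit_app⟩
  · intro hfull hfaith
    have hiso : ∀ y, IsIso (adj.counit.app y) := by
      intro y
      obtain ⟨t, ht⟩ := (v ⋙ u).map_surjective (X := y) (Y := (v ⋙ u).obj y)
        (u.map (adj.unit.app (v.obj y)))
      refine ⟨t, ?_, ?_⟩
      · have hnat := adj.counit.naturality t
        simp only [Functor.id_obj, Functor.id_map] at hnat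
        rw [← hnat, ht]
        simp
      · apply (v ⋙ u).map_injective
        rw [Functor.map_comp, ht, Functor.map_id]
        simp only [Functor.comp_obj, Functor.comp_map]
        rw [← u.map_comp, adj.right_triangle_components, u.map_id]
        rfl
    exact ⟨adj.full_R_of_isSplitMono_counit_app, adj.faithful_R_of_epi_counit_app⟩

end Groth.Agent.S6436
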