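import Groth.Statements.S6437
import Mathlib.Data.Fintype.Sigma

set_option autoImplicit false
open CategoryTheory CategoryTheory.Limits
universe v
open CatLim

namespace Groth.Agent.S6437

section helpers

variable {I : Type v} [SmallCategory I]

lemma mc (F : I ⥤ Type v) {X Y Z : I} (f : X ⟶ Y) (g : Y ⟶ Z) (a : F.obj X) :
    F.map (f ≫ g) a = F.map g (F.map f a) := by
  exact ConcreteCategory.congr_hom (F.map_comp f g) a

lemma mi (F : I ⥤ Type v) {X : I} (a : F.obj X) : F.map (𝟙 X) a = a := by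
  exact ConcreteCategory.congr_hom (F.map_id X) a

lemma nat {F G : I ⥤ Type v} (α : F ⟶ G) {X Y : I} (f : X ⟶ Y) (a : F.obj X) :
    α.app Y (F.map f a) = G.map f (α.app X a) := by
  exact ConcreteCategory.congr_hom (α.naturality f) a

lemma ι_map' {F G : I ⥤ Type v} (α : F ⟶ G) (i : I) (x : F.obj i) :
    colim.map α (colimit.ι F i x) = colimit.ι G i (α.app i x) := by
  exact ConcreteCategory.congr_hom (colimit.ι_map α i) x

lemma ι_w {F : I ⥤ Type v} {i k : I} (f : i ⟶ k) (x : F.obj i) :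
    colimit.ι F k (F.map f x) = colimit.ι F i x := by
  exact ConcreteCategory.congr_hom (colimit.w F f) x

lemma rel_of_eq
    (h1 : ∀ ⦃w x y : I⦄ (a : w ⟶ x) (b : w ⟶ y), ∃ (z : I) (c : x ⟶ z) (d : y ⟶ z), a ≫ c = b ≫ d)
    (F : I ⥤ Type v) {i j : I} {x : F.obj i} {y : F.obj j}
    (w : colimit.ι F i x = colimit.ι F j y) :
    ∃ (k : I) (f : i ⟶ k) (g : j ⟶ k), F.map f x = F.map g y := by
  have key : ∀ p q : Σ i, F.obj i, Relation.EqvGen F.ColimitTypeRel p q →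
      ∃ (k : I) (f : p.1 ⟶ k) (g : q.1 ⟶ k), F.map f p.2 = F.map g q.2 := by
    intro p q hpq
    induction hpq with
    | rel p q h =>
      obtain ⟨f, hf⟩ := h
      exact ⟨q.1, f, 𝟙 _, by rw [mi, hf]⟩
    | refl p => exact ⟨p.1, 𝟙 _, 𝟙 _, rfl⟩
    | symm p q _ ih =>
      obtain ⟨k, f, g, h⟩ := ih
      exact ⟨k, g, f, h.symm⟩
    | trans p q r _ _ ih1 ih2 =>
      obtain ⟨k, f, g, h⟩ := ih1
      obtain ⟨k', f', g', h'⟩ := ih2
      obtain ⟨z, c, d, hcd⟩ := h1 g f'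
      refine ⟨z, f ≫ c, g' ≫ d, ?_⟩
      rw [mc, h, ← mc, hcd, mc, h', ← mc]
  exact key _ _ (Types.colimit_eq w)

lemma exists_common_list
    (h1 : ∀ ⦃w x y : I⦄ (a : w ⟶ x) (b : w ⟶ y), ∃ (z : I) (c : x ⟶ z) (d : y ⟶ z), a ≫ c = b ≫ d)
    (k : I) (l : List (Σ t : I, k ⟶ t)) :
    ∃ (z : I) (μ : k ⟶ z), ∀ p ∈ l, ∃ n : p.1 ⟶ z, p.2 ≫ n = μ := by
  induction l with
  | nil => exact ⟨k, 𝟙 k, fun p hp => by simp at hp⟩
  | cons p l ih =>
    obtain ⟨z, μ, hμ⟩ := ih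
    obtain ⟨z', c, d, hcd⟩ := h1 p.2 μ
    refine ⟨z', μ ≫ d, ?_⟩
    intro q hq
    rcases List.mem_cons.1 hq with rfl | hq
    · exact ⟨c, hcd⟩
    · obtain ⟨n, hn⟩ := hμ q hq
      exact ⟨n ≫ d, by rw [← Category.assoc, hn]⟩

lemma exists_common
    (h1 : ∀ ⦃w x y : I⦄ (a : w ⟶ x) (b : w ⟶ y), ∃ (z : I) (c : x ⟶ z) (d : y ⟶ z), a ≫ c = b ≫ d)
    {k : I} {T : Type*} [Fintype T] (tgt : T → I) (m : ∀ t, k ⟶ tgt t) :
    ∃ (z : I) (μ : k ⟶ z), ∀ t, ∃ n : tgt t ⟶ z, m t ≫ n = μ := by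
  obtain ⟨z, μ, h⟩ := exists_common_list h1 k
    ((Finset.univ : Finset T).toList.map (fun t => (⟨tgt t, m t⟩ : Σ t : I, k ⟶ t)))
  refine ⟨z, μ, fun t => ?_⟩
  exact h ⟨tgt t, m t⟩ (List.mem_map.2 ⟨t, Finset.mem_toList.2 (Finset.mem_univ t), rfl⟩)

/-- two objects have a common upper bound -/
def Bdd (a b : I) : Prop := ∃ k : I, Nonempty (a ⟶ k) ∧ Nonempty (b ⟶ k)

lemma Bdd.refl (a : I) : Bdd a a := ⟨a, ⟨𝟙 a⟩, ⟨𝟙 a⟩⟩

lemma Bdd.symm {a b : I} (h : Bdd a b) : Bdd b a := by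
  obtain ⟨k, h1, h2⟩ := h
  exact ⟨k, h2, h1⟩

lemma Bdd.trans
    (h1 : ∀ ⦃w x y : I⦄ (a : w ⟶ x) (b : w ⟶ y), ∃ (z : I) (c : x ⟶ z) (d : y ⟶ z), a ≫ c = b ≫ d)
    {a b c : I} (h : Bdd a b) (h' : Bdd b c) : Bdd a c := by
  obtain ⟨k, ⟨f⟩, ⟨g⟩⟩ := h
  obtain ⟨k', ⟨f'⟩, ⟨g'⟩⟩ := h'
  obtain ⟨z, c', d, -⟩ := h1 g f'
  exact ⟨z, ⟨f ≫ c'⟩, ⟨g' ≫ d⟩⟩

lemma exists_ub
    (h1 : ∀ ⦃w x y : I⦄ (a : w ⟶ x) (b : w ⟶ y), ∃ (z : I) (c : x ⟶ z) (d : y ⟶ z), a ≫ c = b ≫ d)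
    (i0 : I) (l : List I) (hl : ∀ a ∈ l, Bdd i0 a) :
    ∃ k : I, Nonempty (i0 ⟶ k) ∧ ∀ a ∈ l, Nonempty (a ⟶ k) := by
  induction l with
  | nil => exact ⟨i0, ⟨𝟙 i0⟩, fun a ha => by simp at ha⟩
  | cons b l ih =>
    obtain ⟨k, ⟨f⟩, hk⟩ := ih (fun a ha => hl a (List.mem_cons_of_mem _ ha))
    obtain ⟨k', ⟨f'⟩, ⟨g'⟩⟩ := hl b (by simp)
    obtain ⟨z, c, d, -⟩ := h1 f f'
    refine ⟨z, ⟨f ≫ c⟩, ?_⟩
    intro a ha
    rcases List.mem_cons.1 ha with rfl | ha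
    · exact ⟨g' ≫ d⟩
    · obtain ⟨e⟩ := hk a ha
      exact ⟨e ≫ c⟩

end helpers

/-- Over an index category in which spans can be completed to commutative squares and parallel pairs can
be coequalized (a disjoint union of filtered categories), colimits of sets commute with finite
connected limits. -/
theorem result {I : Type v} [SmallCategory I]
    (h1 : ∀ ⦃w x y : I⦄ (a : w ⟶ x) (b : w ⟶ y), ∃ (z : I) (c : x ⟶ z) (d : y ⟶ z), a ≫ c = b ≫ d)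
    (h2 : ∀ ⦃x y : I⦄ (a b : x ⟶ y), ∃ (z : I) (c : y ⟶ z), a ≫ c = b ≫ c)
    (J : Type) [SmallCategory J] [FinCategory J] [IsConnected J] :
    PreservesLimitsOfShape J (colim : (I ⥤ Type v) ⥤ Type v) := by
  classical
  refine ⟨fun {K} => ⟨fun {c} hc => ?_⟩⟩
  rw [Types.isLimit_iff]
  intro s hs
  have hs' : ∀ {j j' : J} (u : j ⟶ j'), colim.map (K.map u) (s j) = s j' := fun u => hs u
  have hev : ∀ i : I, IsLimit (((evaluation I (Type v)).obj i).mapCone c) := fun i =>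
    isLimitOfPreserves ((evaluation I (Type v)).obj i) hc
  obtain ⟨π, hπ⟩ : ∃ π : ∀ j, c.pt ⟶ K.obj j, ∀ j, π j = c.π.app j :=
    ⟨fun j => c.π.app j, fun _ => rfl⟩
  have hglue : ∀ (i : I) (t : ∀ j, (K.obj j).obj i),
      (∀ {j j' : J} (u : j ⟶ j'), (K.map u).app i (t j) = t j') →
      ∃ x : c.pt.obj i, ∀ j, (π j).app i x = t j := by
    intro i t ht
    have hsec : t ∈ (K ⋙ (evaluation I (Type v)).obj i).sections := by
      intro j j' u
      exact ht u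
    obtain ⟨x, hx, -⟩ := (Types.isLimit_iff _).1 ⟨hev i⟩ t hsec
    refine ⟨x, fun j => ?_⟩
    rw [hπ]
    exact hx j
  have hext : ∀ (i : I) (x y : c.pt.obj i),
      (∀ j, (π j).app i x = (π j).app i y) → x = y := by
    intro i x y hxy
    have hxy' : ∀ j, (c.π.app j).app i x = (c.π.app j).app i y := fun j => by
      have := hxy j
      rw [hπ] at this
      exact this
    have hsec : (fun j => (c.π.app j).app i y) ∈
        (K ⋙ (evaluation I (Type v)).obj i).sections := by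
      intro j j' u
      have h : (c.π.app j).app i ≫ (K.map u).app i = (c.π.app j').app i := by
        rw [← NatTrans.comp_app, c.w u]
      exact ConcreteCategory.congr_hom h y
    obtain ⟨z, -, hz⟩ := (Types.isLimit_iff _).1 ⟨hev i⟩ _ hsec
    exact (hz x hxy').trans (hz y (fun _ => rfl)).symm
  obtain ⟨j0⟩ : Nonempty J := IsConnected.is_nonempty
  -- uniqueness statement
  have uniq : ∀ X1 X2 : colimit c.pt,
      (∀ j, colim.map (π j) X1 = colim.map (π j) X2) → X1 = X2 := by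
    intro X1 X2 h12
    obtain ⟨i1, x1, rfl⟩ := Types.jointly_surjective' X1
    obtain ⟨i2, x2, rfl⟩ := Types.jointly_surjective' X2
    have e0 := h12 j0
    rw [ι_map', ι_map'] at e0
    obtain ⟨k, f, g, -⟩ := rel_of_eq h1 _ e0
    have e1 : colimit.ι c.pt i1 x1 = colimit.ι c.pt k (c.pt.map f x1) := (ι_w f x1).symm
    have e2 : colimit.ι c.pt i2 x2 = colimit.ι c.pt k (c.pt.map g x2) := (ι_w g x2).symm
    obtain ⟨p1, hp1⟩ : ∃ p : c.pt.obj k, p = c.pt.map f x1 := ⟨_, rfl⟩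
    obtain ⟨p2, hp2⟩ : ∃ p : c.pt.obj k, p = c.pt.map g x2 := ⟨_, rfl⟩
    rw [← hp1] at e1
    rw [← hp2] at e2
    have h12' : ∀ j, colimit.ι (K.obj j) k ((π j).app k p1) =
        colimit.ι (K.obj j) k ((π j).app k p2) := by
      intro j
      have := h12 j
      rw [e1, e2, ι_map', ι_map'] at this
      exact this
    rw [e1, e2]
    have hstep : ∀ j : J, ∃ (z : I) (m : k ⟶ z),
        (K.obj j).map m ((π j).app k p1) = (K.obj j).map m ((π j).app k p2) := by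
      intro j
      obtain ⟨z, f', g', hfg⟩ := rel_of_eq h1 _ (h12' j)
      obtain ⟨z', c', hc'⟩ := h2 f' g'
      refine ⟨z', f' ≫ c', ?_⟩
      rw [mc, hfg, ← mc, ← hc']
    choose tgt m hm using hstep
    obtain ⟨zs, μ, hμ⟩ := exists_common h1 tgt m
    have hμeq : c.pt.map μ p1 = c.pt.map μ p2 := by
      apply hext
      intro j
      obtain ⟨n, hn⟩ := hμ j
      rw [nat, nat, ← hn, mc, mc, hm j]
    rw [← ι_w μ p1, ← ι_w μ p2, hμeq]
  -- existence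
  have hrep : ∀ j, ∃ (i : I) (x : (K.obj j).obj i), colimit.ι (K.obj j) i x = s j := fun j =>
    Types.jointly_surjective' (s j)
  choose i0 x0 hx0 using hrep
  have hb : ∀ {j j' : J} (u : j ⟶ j'), Bdd (i0 j) (i0 j') := by
    intro j j' u
    have e : colimit.ι (K.obj j') (i0 j) ((K.map u).app (i0 j) (x0 j)) =
        colimit.ι (K.obj j') (i0 j') (x0 j') := by
      rw [← ι_map', hx0 j, hs' u, hx0 j']
    obtain ⟨k, f, g, -⟩ := rel_of_eq h1 _ e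
    exact ⟨k, ⟨f⟩, ⟨g⟩⟩
  have hb0 : ∀ j, Bdd (i0 j0) (i0 j) := by
    intro j
    refine induct_on_objects {j | Bdd (i0 j0) (i0 j)} (Bdd.refl _) ?_ j
    intro j₁ j₂ u
    constructor
    · intro h
      exact Bdd.trans h1 h (hb u)
    · intro h
      exact Bdd.trans h1 h (hb u).symm
  obtain ⟨k, -, hk⟩ := exists_ub h1 (i0 j0) ((Finset.univ : Finset J).toList.map i0) (by
    intro a ha
    obtain ⟨j, -, rfl⟩ := List.mem_map.1 ha
    exact hb0 j)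
  have hk' : ∀ j, Nonempty (i0 j ⟶ k) := fun j =>
    hk _ (List.mem_map.2 ⟨j, Finset.mem_toList.2 (Finset.mem_univ j), rfl⟩)
  obtain ⟨a⟩ : Nonempty (∀ j, i0 j ⟶ k) := ⟨fun j => (hk' j).some⟩
  obtain ⟨y, hy⟩ : ∃ y : ∀ j, (K.obj j).obj k, ∀ j, y j = (K.obj j).map (a j) (x0 j) :=
    ⟨_, fun _ => rfl⟩
  have hy_s : ∀ j, colimit.ι (K.obj j) k (y j) = s j := fun j => by
    rw [hy, ι_w, hx0]
  have hstep : ∀ t : (Σ (j : J) (j' : J), (j ⟶ j')), ∃ (z : I) (m : k ⟶ z),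
      (K.obj t.2.1).map m ((K.map t.2.2).app k (y t.1)) = (K.obj t.2.1).map m (y t.2.1) := by
    rintro ⟨j, j', u⟩
    have e : colimit.ι (K.obj j') k ((K.map u).app k (y j)) = colimit.ι (K.obj j') k (y j') := by
      rw [← ι_map', hy_s j, hs' u, hy_s j']
    obtain ⟨z, f, g, hfg⟩ := rel_of_eq h1 _ e
    obtain ⟨z', c', hc'⟩ := h2 f g
    refine ⟨z', f ≫ c', ?_⟩
    show (K.obj j').map (f ≫ c') ((K.map u).app k (y j)) = (K.obj j').map (f ≫ c') (y j')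
    rw [mc, hfg, ← mc, ← hc']
  choose tgt m hm using hstep
  obtain ⟨zs, μ, hμ⟩ := exists_common h1 tgt m
  obtain ⟨w, hw⟩ : ∃ w : ∀ j, (K.obj j).obj zs, ∀ j, w j = (K.obj j).map μ (y j) :=
    ⟨_, fun _ => rfl⟩
  have hw_c : ∀ {j j' : J} (u : j ⟶ j'), (K.map u).app zs (w j) = w j' := by
    intro j j' u
    obtain ⟨n, hn⟩ := hμ ⟨j, j', u⟩
    have hm' : (K.obj j').map (m ⟨j, j', u⟩) ((K.map u).app k (y j)) =
        (K.obj j').map (m ⟨j, j', u⟩) (y j') := hm ⟨j, j', u⟩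
    have hn' : m ⟨j, j', u⟩ ≫ n = μ := hn
    rw [hw, hw, nat, ← hn', mc, mc, hm']
  obtain ⟨X, hX⟩ := hglue zs w @hw_c
  have hex : ∀ j, colim.map (π j) (colimit.ι c.pt zs X) = s j := by
    intro j
    rw [ι_map', hX, hw, ι_w, hy_s]
  have hconv : ∀ (j : J) (Z : colimit c.pt),
      (colim.mapCone c).π.app j Z = colim.map (π j) Z := by
    intro j Z
    rw [hπ]
    rfl
  refine ⟨colimit.ι c.pt zs X, fun j => (hconv j _).trans (hex j), ?_⟩
  intro X2 hX2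
  exact uniq X2 _ (fun j => ((hconv j X2).symm.trans (hX2 j)).trans (hex j).symm)

end Groth.Agent.S6437
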