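import Groth.Statements.S6438
import Mathlib.CategoryTheory.Limits.IsConnected
import Mathlib.Data.Fintype.EquivFin
import Mathlib.Data.Fintype.Sum
import Mathlib.SetTheory.Cardinal.NatCard

set_option autoImplicit false
open CategoryTheory
universe v u
open CatLim

namespace Groth.Agent.S6438

section construction

variable {I : Type u} [Category.{v} I] {n m : ℕ} (ob : Fin n ≃ I)
  (ar : Fin m → Σ x y : I, x ⟶ y)

/-- objects of the subdivision category: vertices and generating edges -/
def JObj (_ob : Fin n ≃ I) (_ar : Fin m → Σ x y : I, x ⟶ y) : Type := Fin n ⊕ Fin m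

/-- morphisms of the subdivision category -/
inductive JHom : JObj ob ar → JObj ob ar → Type
  | id (x : JObj ob ar) : JHom x x
  | s (k : Fin m) (a : Fin n) (h : (ar k).1 = ob a) : JHom (Sum.inr k) (Sum.inl a)
  | t (k : Fin m) (a : Fin n) (h : (ar k).2.1 = ob a) : JHom (Sum.inr k) (Sum.inl a)

def JHom.comp : ∀ {x y z : JObj ob ar}, JHom ob ar x y → JHom ob ar y z → JHom ob ar x z
  | _, _, _, .id _, g => g
  | _, _, _, .s k a h, .id _ => .s k a h
  | _, _, _, .t k a h, .id _ => .t k a h

instance instCat : SmallCategory (JObj ob ar) where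
  Hom := JHom ob ar
  id := JHom.id
  comp := JHom.comp ob ar
  id_comp := by intro x y f; cases f <;> rfl
  comp_id := by intro x y f; cases f <;> rfl
  assoc := by intro w x y z f g h; cases f <;> cases g <;> cases h <;> rfl

def JHom.code : ∀ {x y : JObj ob ar}, JHom ob ar x y → Fin 3
  | _, _, .id _ => 0
  | _, _, .s _ _ _ => 1
  | _, _, .t _ _ _ => 2

lemma JHom.code_injective {x y : JObj ob ar} :
    Function.Injective (JHom.code ob ar (x := x) (y := y)) := by
  intro f g hfg
  cases f <;> cases g <;> first | rfl | (simp [JHom.code] at hfg)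

noncomputable instance instFin : FinCategory (JObj ob ar) where
  fintypeObj := inferInstanceAs (Fintype (Fin n ⊕ Fin m))
  fintypeHom x y := Fintype.ofInjective (JHom.code ob ar (x := x) (y := y))
    (JHom.code_injective ob ar)

def Φobj : JObj ob ar → I
  | Sum.inl a => ob a
  | Sum.inr k => (ar k).1

def Φmap : ∀ {x y : JObj ob ar}, JHom ob ar x y → (Φobj ob ar x ⟶ Φobj ob ar y)
  | _, _, .id _ => 𝟙 _
  | _, _, .s _ _ h => eqToHom h
  | _, _, .t k _ h => (ar k).2.2 ≫ eqToHom h

def Φ : JObj ob ar ⥤ I where
  obj := Φobj ob ar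
  map f := Φmap ob ar f
  map_id x := rfl
  map_comp f g := by
    cases f <;> cases g <;>
      simp [Φmap, CategoryStruct.comp, JHom.comp]

/-- vertex object -/
abbrev vx (a : Fin n) : JObj ob ar := Sum.inl a
/-- edge object -/
abbrev ed (k : Fin m) : JObj ob ar := Sum.inr k

/-- the source arrow -/
abbrev sHom (k : Fin m) (a : Fin n) (h : (ar k).1 = ob a) : ed ob ar k ⟶ vx ob ar a :=
  JHom.s k a h
/-- the target arrow -/
abbrev tHom (k : Fin m) (a : Fin n) (h : (ar k).2.1 = ob a) : ed ob ar k ⟶ vx ob ar a :=
  JHom.t k a h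

@[simp] lemma Φ_obj_vx (a : Fin n) : (Φ ob ar).obj (vx ob ar a) = ob a := rfl
@[simp] lemma Φ_obj_ed (k : Fin m) : (Φ ob ar).obj (ed ob ar k) = (ar k).1 := rfl
@[simp] lemma Φ_map_s (k : Fin m) (a : Fin n) (h : (ar k).1 = ob a) :
    (Φ ob ar).map (sHom ob ar k a h) = eqToHom h := rfl
@[simp] lemma Φ_map_t (k : Fin m) (a : Fin n) (h : (ar k).2.1 = ob a) :
    (Φ ob ar).map (tHom ob ar k a h) = (ar k).2.2 ≫ eqToHom h := rfl

section final

variable (i : I)

/-- structured arrow at a vertex -/
abbrev SA (a : Fin n) (g : i ⟶ ob a) : StructuredArrow i (Φ ob ar) :=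
  StructuredArrow.mk (Y := vx ob ar a) g

/-- the property used for finality -/
def PF : MorphismProperty I := fun x y f =>
  ∀ (i : I) (a b : Fin n) (ha : ob a = x) (hb : ob b = y) (g : i ⟶ x),
    Zigzag (SA ob ar i a (g ≫ eqToHom ha.symm)) (SA ob ar i b (g ≫ f ≫ eqToHom hb.symm))

instance : (PF ob ar).IsMultiplicative where
  id_mem x := by
    intro i a b ha hb g
    have hab : a = b := ob.injective (ha.trans hb.symm)
    subst hab
    rw [Category.id_comp]
  comp_mem {x y z} f f' hf hf' := by
    intro i a c ha hc g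
    have hb : ob (ob.symm y) = y := ob.apply_symm_apply y
    have h1 := hf i a (ob.symm y) ha hb g
    have h2 := hf' i (ob.symm y) c hb hc (g ≫ f)
    simp only [Category.assoc] at h1 h2 ⊢
    exact h1.trans h2

lemma PF_gen (k : Fin m) : PF ob ar (ar k).2.2 := by
  intro i a b ha hb g
  let E : StructuredArrow i (Φ ob ar) := StructuredArrow.mk (Y := ed ob ar k) g
  let m1 : E ⟶ SA ob ar i a (g ≫ eqToHom ha.symm) :=
    StructuredArrow.homMk (sHom ob ar k a ha.symm) (by simp [E])
  let m2 : E ⟶ SA ob ar i b (g ≫ (ar k).2.2 ≫ eqToHom hb.symm) :=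
    StructuredArrow.homMk (tHom ob ar k b hb.symm) (by simp [E])
  exact (Zigzag.of_inv m1).trans (Zigzag.of_hom m2)

end final

section initial

variable (i : I)

/-- costructured arrow at a vertex -/
abbrev CA (a : Fin n) (g : ob a ⟶ i) : CostructuredArrow (Φ ob ar) i :=
  CostructuredArrow.mk (Y := vx ob ar a) g

/-- the property used for initiality -/
def PI : MorphismProperty I := fun x y f =>
  ∀ (i : I) (a b : Fin n) (ha : ob a = x) (hb : ob b = y) (g : y ⟶ i),
    Zigzag (CA ob ar i b (eqToHom hb ≫ g)) (CA ob ar i a (eqToHom ha ≫ f ≫ g))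

instance : (PI ob ar).IsMultiplicative where
  id_mem x := by
    intro i a b ha hb g
    have hab : a = b := ob.injective (ha.trans hb.symm)
    subst hab
    rw [Category.id_comp]
  comp_mem {x y z} f f' hf hf' := by
    intro i a c ha hc g
    have hb : ob (ob.symm y) = y := ob.apply_symm_apply y
    have h1 := hf' i (ob.symm y) c hb hc g
    have h2 := hf i a (ob.symm y) ha hb (f' ≫ g)
    simp only [Category.assoc] at h1 h2 ⊢
    exact h1.trans h2

lemma PI_gen (k : Fin m) : PI ob ar (ar k).2.2 := by
  intro i a b ha hb g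
  let E : CostructuredArrow (Φ ob ar) i :=
    CostructuredArrow.mk (Y := ed ob ar k) ((ar k).2.2 ≫ g)
  let m1 : E ⟶ CA ob ar i a (eqToHom ha ≫ (ar k).2.2 ≫ g) :=
    CostructuredArrow.homMk (sHom ob ar k a ha.symm) (by simp [E])
  let m2 : E ⟶ CA ob ar i b (eqToHom hb ≫ g) :=
    CostructuredArrow.homMk (tHom ob ar k b hb.symm) (by simp [E])
  exact (Zigzag.of_inv m2).trans (Zigzag.of_hom m1)

end initial

variable (hPF : ∀ {x y : I} (f : x ⟶ y), PF ob ar f) (hPI : ∀ {x y : I} (f : x ⟶ y), PI ob ar f)

include hPF in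
lemma final_of : (Φ ob ar).Final := by
  constructor
  intro i
  have hi : ob (ob.symm i) = i := ob.apply_symm_apply i
  let base : StructuredArrow i (Φ ob ar) := SA ob ar i (ob.symm i) (eqToHom hi.symm)
  have hvx : ∀ (a : Fin n) (g : i ⟶ ob a), Zigzag base (SA ob ar i a g) := by
    intro a g
    have := hPF g i (ob.symm i) a hi rfl (𝟙 i)
    simpa [base] using this
  have hall : ∀ X : StructuredArrow i (Φ ob ar), Zigzag base X := by
    intro X
    obtain ⟨⟨⟨⟩⟩, r, h⟩ := X
    rcases r with a | k
    · exact hvx a h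
    · let X' : StructuredArrow i (Φ ob ar) := StructuredArrow.mk (Y := ed ob ar k) h
      let a := ob.symm (ar k).1
      have ha : (ar k).1 = ob a := (ob.apply_symm_apply _).symm
      let m1 : X' ⟶ SA ob ar i a (h ≫ eqToHom ha) :=
        StructuredArrow.homMk (sHom ob ar k a ha) (by simp [X'])
      exact (hvx a _).trans (Zigzag.of_inv m1)
  have : Nonempty (StructuredArrow i (Φ ob ar)) := ⟨base⟩
  exact zigzag_isConnected (fun X Y => (hall X).symm.trans (hall Y))

include hPI in
lemma initial_of : (Φ ob ar).Initial := by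
  constructor
  intro i
  have hi : ob (ob.symm i) = i := ob.apply_symm_apply i
  let base : CostructuredArrow (Φ ob ar) i := CA ob ar i (ob.symm i) (eqToHom hi)
  have hvx : ∀ (a : Fin n) (g : ob a ⟶ i), Zigzag base (CA ob ar i a g) := by
    intro a g
    have := hPI g i a (ob.symm i) rfl hi (𝟙 i)
    simpa [base] using this
  have hall : ∀ X : CostructuredArrow (Φ ob ar) i, Zigzag base X := by
    intro X
    obtain ⟨l, ⟨⟨⟩⟩, h⟩ := X
    rcases l with a | k
    · exact hvx a h
    · let X' : CostructuredArrow (Φ ob ar) i := CostructuredArrow.mk (Y := ed ob ar k) h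
      let a := ob.symm (ar k).1
      have ha : (ar k).1 = ob a := (ob.apply_symm_apply _).symm
      let m1 : X' ⟶ CA ob ar i a (eqToHom ha.symm ≫ h) :=
        CostructuredArrow.homMk (sHom ob ar k a ha) (by simp [X'])
      exact (hvx a _).trans (Zigzag.of_inv m1)
  have : Nonempty (CostructuredArrow (Φ ob ar) i) := ⟨base⟩
  exact zigzag_isConnected (fun X Y => (hall X).symm.trans (hall Y))

end construction

/-- A category with finitely many objects whose morphisms are generated under composition by finitely
many of them receives a functor from a finite category which is both final and initial, the finite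
category being connected (resp. nonempty) exactly when the given one is. (The published statement
says that limits and colimits of every diagram are computed after restriction along the functor;
this is expressed here through finality and initiality.) -/
theorem result {I : Type u} [Category.{v} I] [Finite I]
    (gen : Finset (Σ x y : I, x ⟶ y))
    (hgen : ∀ P : MorphismProperty I, P.IsMultiplicative → (∀ a ∈ gen, P a.2.2) → P = ⊤) :
    ∃ (J : Type) (_ : SmallCategory J) (_ : FinCategory J) (F : J ⥤ I),
      F.Final ∧ F.Initial ∧ (IsConnected J ↔ IsConnected I) ∧ (Nonempty J ↔ Nonempty I) := by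
  classical
  let ob : Fin (Nat.card I) ≃ I := (Finite.equivFin I).symm
  let eg : gen ≃ Fin gen.card := gen.equivFin
  let ar : Fin gen.card → Σ x y : I, x ⟶ y := fun k => (eg.symm k).1
  have har : ∀ a ∈ gen, ∃ k, ar k = a := by
    intro a ha
    exact ⟨eg ⟨a, ha⟩, by simp [ar]⟩
  have hPF : ∀ {x y : I} (f : x ⟶ y), PF ob ar f := by
    intro x y f
    have h := hgen (PF ob ar) inferInstance (by
      intro a ha
      obtain ⟨k, rfl⟩ := har a ha
      exact PF_gen ob ar k)
    rw [h]
    trivial
  have hPI : ∀ {x y : I} (f : x ⟶ y), PI ob ar f := by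
    intro x y f
    have h := hgen (PI ob ar) inferInstance (by
      intro a ha
      obtain ⟨k, rfl⟩ := har a ha
      exact PI_gen ob ar k)
    rw [h]
    trivial
  have hfin : (Φ ob ar).Final := final_of ob ar hPF
  have hini : (Φ ob ar).Initial := initial_of ob ar hPI
  refine ⟨JObj ob ar, instCat ob ar, instFin ob ar, Φ ob ar, hfin, hini, ?_, ?_⟩
  · exact Functor.isConnected_iff_of_final (Φ ob ar)
  · constructor
    · rintro ⟨j⟩
      exact ⟨(Φ ob ar).obj j⟩
    · rintro ⟨i⟩
      exact ⟨vx ob ar (ob.symm i)⟩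

end Groth.Agent.S6438
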