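import Groth.Statements.S6439
-- import your own Groth.Agent.* helpers here

set_option autoImplicit false
open CategoryTheory
universe v u
open FibCat

namespace Groth.Agent.S6439

section generic
universe w₁ v₁ u₁
variable {B : Type u₁} [Bicategory.{w₁, v₁} B]

theorem precomp_isEquivalence {a b : B} (c : B) (f : a ⟶ b) (g : b ⟶ a)
    (η : f ≫ g ≅ 𝟙 a) (ε : g ≫ f ≅ 𝟙 b) : (Bicategory.precomp c f).IsEquivalence := by
  let unit : 𝟭 (b ⟶ c) ≅ Bicategory.precomp c f ⋙ Bicategory.precomp c g :=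
    (Bicategory.leftUnitorNatIso b c).symm ≪≫ ((Bicategory.precomposing b b c).mapIso ε.symm) ≪≫
      Bicategory.associatorNatIsoRight g f c
  let counit : Bicategory.precomp c g ⋙ Bicategory.precomp c f ≅ 𝟭 (a ⟶ c) :=
    (Bicategory.associatorNatIsoRight f g c).symm ≪≫ ((Bicategory.precomposing a a c).mapIso η) ≪≫
      Bicategory.leftUnitorNatIso a c
  exact (CategoryTheory.Equivalence.mk (Bicategory.precomp c f) (Bicategory.precomp c g) unit counit).isEquivalence_functor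

theorem postcomp_isEquivalence (a : B) {b c : B} (f : b ⟶ c) (g : c ⟶ b)
    (η : f ≫ g ≅ 𝟙 b) (ε : g ≫ f ≅ 𝟙 c) : (Bicategory.postcomp a f).IsEquivalence := by
  let unit : 𝟭 (a ⟶ b) ≅ Bicategory.postcomp a f ⋙ Bicategory.postcomp a g :=
    (Bicategory.rightUnitorNatIso a b).symm ≪≫ ((Bicategory.postcomposing a b b).mapIso η.symm) ≪≫
      (Bicategory.associatorNatIsoLeft a f g).symm
  let counit : Bicategory.postcomp a g ⋙ Bicategory.postcomp a f ≅ 𝟭 (a ⟶ c) :=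
    Bicategory.associatorNatIsoLeft a g f ≪≫ ((Bicategory.postcomposing a c c).mapIso ε) ≪≫
      Bicategory.rightUnitorNatIso a c
  exact (CategoryTheory.Equivalence.mk (Bicategory.postcomp a f) (Bicategory.postcomp a g) unit counit).isEquivalence_functor

end generic

/-- For categories fibred in groupoids over `C` and equivalences `φ : 𝒮₁ ⟶ 𝒮₂`, `ψ : 𝒮₃ ⟶ 𝒮₄` over `C`,
the functor `α ↦ ψ ∘ α ∘ φ` between the categories of functors over `C` is an equivalence of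
categories. -/
theorem result {C : Type u} [Category.{v} C] {𝒮₁ 𝒮₂ 𝒮₃ 𝒮₄ : BasedCategory.{v, max u v} C}
    (h₁ : FibCat.IsFibGrpd 𝒮₁.p) (h₂ : FibCat.IsFibGrpd 𝒮₂.p) (h₃ : FibCat.IsFibGrpd 𝒮₃.p) (h₄ : FibCat.IsFibGrpd 𝒮₄.p)
    (φ : 𝒮₁ ⟶ 𝒮₂) (ψ : 𝒮₃ ⟶ 𝒮₄) (hφ : FibCat.IsEquivOver φ) (hψ : FibCat.IsEquivOver ψ) :
    (Bicategory.precomp 𝒮₃ φ ⋙ Bicategory.postcomp 𝒮₁ ψ).IsEquivalence := by
  obtain ⟨G, ⟨η⟩, ⟨ε⟩⟩ := hφ
  obtain ⟨G', ⟨η'⟩, ⟨ε'⟩⟩ := hψ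
  have e1 : (Bicategory.precomp 𝒮₃ φ).IsEquivalence :=
    precomp_isEquivalence 𝒮₃ φ G η ε
  have e2 : (Bicategory.postcomp 𝒮₁ ψ).IsEquivalence :=
    postcomp_isEquivalence 𝒮₁ ψ G' η' ε'
  infer_instance

end Groth.Agent.S6439
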