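import Groth.Statements.S6441

set_option autoImplicit false
open CategoryTheory CategoryTheory.Limits Opposite
universe u
open SiteMisc

namespace Groth.Agent.S6441

/-- For a continuous and almost cocontinuous functor `u` between small sites and a presheaf of sets `G`
taking singleton values on sheaf theoretically empty objects, sheafification commutes with `u^p`:
the canonical comparison `(u^p G)^# ⟶ u^p(G^#)` is an isomorphism. -/
theorem result {C D : Type u} [SmallCategory C] [SmallCategory D]
    (J : GrothendieckTopology C) (K : GrothendieckTopology D) (u : C ⥤ D) [u.IsContinuous J K]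
    (hu : BigSite.IsAlmostCocontinuous u J K) (G : Dᵒᵖ ⥤ Type u)
    (hG : ∀ V : D, (⊥ : Sieve V) ∈ K V → Nonempty (Unique (G.obj (op V)))) :
    IsIso (((sheafificationAdjunction J (Type u)).homEquiv (u.op ⋙ G)
      ((u.sheafPushforwardContinuous (Type u) J K).obj ((presheafToSheaf K (Type u)).obj G))).symm
        (Functor.whiskerLeft u.op (toSheafify K G))) := by
  classical
  have hsub : ∀ V : D, (⊥ : Sieve V) ∈ K V →
      Subsingleton (((presheafToSheaf K (Type u)).obj G).obj.obj (op V)) := by
    intro V hV
    have hsh := (isSheaf_iff_isSheaf_of_type K _).1 ((presheafToSheaf K (Type u)).obj G).property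
    constructor
    intro a b
    exact (hsh.isSeparated _ hV).ext (fun Y f hf => hf.elim)
  have hinj : Presheaf.IsLocallyInjective J (Functor.whiskerLeft u.op (toSheafify K G)) := by
    constructor
    intro X x y h
    have h1 : Presheaf.equalizerSieve (F := G) (X := op (u.obj X.unop)) x y ∈ K (u.obj X.unop) :=
      Presheaf.equalizerSieve_mem K (toSheafify K G) (X := op (u.obj X.unop)) x y h
    obtain ⟨R', hR', hR'2⟩ := hu X.unop _ h1
    refine J.superset_covering ?_ hR'
    intro V g hg
    rcases hR'2 g hg with h0 | h0
    · obtain ⟨hU⟩ := hG _ h0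
      exact (@Unique.instSubsingleton _ hU).elim _ _
    · exact h0
  have hsurj : Presheaf.IsLocallySurjective J (Functor.whiskerLeft u.op (toSheafify K G)) := by
    constructor
    intro U s
    have h1 : Presheaf.imageSieve (toSheafify K G) (U := u.obj U) s ∈ K (u.obj U) :=
      Presheaf.imageSieve_mem K (toSheafify K G) (U := op (u.obj U)) s
    obtain ⟨R', hR', hR'2⟩ := hu U _ h1
    refine J.superset_covering ?_ hR'
    intro V g hg
    rcases hR'2 g hg with h0 | h0
    · obtain ⟨hU⟩ := hG _ h0
      refine ⟨hU.default, ?_⟩
      exact (hsub _ h0).elim _ _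
    · exact h0
  have hW : J.W (Functor.whiskerLeft u.op (toSheafify K G)) :=
    J.W_of_isLocallyBijective _
  have hiso : IsIso ((presheafToSheaf J (Type u)).map (Functor.whiskerLeft u.op (toSheafify K G))) :=
    (J.W_iff _).1 hW
  rw [Adjunction.homEquiv_counit]
  have hc : IsIso ((sheafificationAdjunction J (Type u)).counit.app
      ((u.sheafPushforwardContinuous (Type u) J K).obj ((presheafToSheaf K (Type u)).obj G))) :=
    inferInstance
  exact @IsIso.comp_isIso _ _ _ _ _ _ _ hiso hc

end Groth.Agent.S6441
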