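import Groth.Statements.S6440
import Groth.Agent.S6441

set_option autoImplicit false
open CategoryTheory CategoryTheory.Limits Opposite
universe u
open SiteMisc

namespace Groth.Agent.S6440

/-- For a continuous and almost cocontinuous functor `u` between small sites, the functor `u^s` on
sheaves of sets preserves finite connected colimits. -/
theorem result {C D : Type u} [SmallCategory C] [SmallCategory D]
    (J : GrothendieckTopology C) (K : GrothendieckTopology D) (u : C ⥤ D) [u.IsContinuous J K]
    (hu : BigSite.IsAlmostCocontinuous u J K) (I : Type) [SmallCategory I] [FinCategory I] [IsConnected I] :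
    PreservesColimitsOfShape I (u.sheafPushforwardContinuous (Type u) J K) := by
  classical
  constructor
  intro F
  let E : Cocone (F ⋙ sheafToPresheaf K (Type u)) := colimit.cocone _
  have hE : IsColimit E := colimit.isColimit _
  have hc : IsColimit (Sheaf.sheafifyCocone E) := Sheaf.isColimitSheafifyCocone E hE
  refine preservesColimit_of_preserves_colimit_cocone hc ?_
  let E' : Cocone ((F ⋙ u.sheafPushforwardContinuous (Type u) J K) ⋙ sheafToPresheaf J (Type u)) :=
    ((Functor.whiskeringLeft Cᵒᵖ Dᵒᵖ (Type u)).obj u.op).mapCocone E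
  have hE' : IsColimit E' :=
    isColimitOfPreserves ((Functor.whiskeringLeft Cᵒᵖ Dᵒᵖ (Type u)).obj u.op) hE
  have hc' : IsColimit (Sheaf.sheafifyCocone E') := Sheaf.isColimitSheafifyCocone E' hE'
  -- singleton values on empty objects
  have hG : ∀ V : D, (⊥ : Sieve V) ∈ K V → Nonempty (Unique (E.pt.obj (op V))) := by
    intro V hV
    have hEv : IsColimit (((evaluation Dᵒᵖ (Type u)).obj (op V)).mapCocone E) :=
      isColimitOfPreserves ((evaluation Dᵒᵖ (Type u)).obj (op V)) hE
    have hU : ∀ (i : I) (a b : (F.obj i).obj.obj (op V)), a = b := by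
      intro i a b
      have hsh := (isSheaf_iff_isSheaf_of_type K _).1 (F.obj i).property
      exact (hsh.isSeparated _ hV).ext (fun Y f hf => hf.elim)
    have hne : ∀ i : I, Nonempty ((F.obj i).obj.obj (op V)) := by
      intro i
      have hsh := (isSheaf_iff_isSheaf_of_type K _).1 (F.obj i).property
      obtain ⟨t, -, -⟩ := hsh (⊥ : Sieve V) hV (fun Y f hf => hf.elim)
        (fun _ _ _ _ _ _ _ h => h.elim)
      exact ⟨t⟩
    have key : ∀ i j : I, ((E.ι.app i).app (op V) (hne i).some : E.pt.obj (op V)) =
        ((E.ι.app j).app (op V) (hne j).some : E.pt.obj (op V)) := by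
      refine constant_of_preserves_morphisms (α := E.pt.obj (op V))
        (fun i => ((E.ι.app i).app (op V) (hne i).some : E.pt.obj (op V))) ?_
      intro i j f
      show ((E.ι.app i).app (op V) (hne i).some : E.pt.obj (op V)) =
        ((E.ι.app j).app (op V) (hne j).some : E.pt.obj (op V))
      have h1 := E.w f
      have h2 : (E.ι.app i).app (op V) (hne i).some =
          (E.ι.app j).app (op V) ((F.map f).hom.app (op V) (hne i).some) := by
        rw [← h1]
        rfl
      rw [h2]
      exact congrArg (fun t => ((E.ι.app j).app (op V) t : E.pt.obj (op V))) (hU j _ _)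
    obtain ⟨i₀⟩ := (inferInstance : Nonempty I)
    refine ⟨⟨⟨(E.ι.app i₀).app (op V) (hne i₀).some⟩, fun y => ?_⟩⟩
    obtain ⟨j, z, rfl⟩ := Types.jointly_surjective_of_isColimit hEv y
    rw [hU j z (hne j).some]
    exact key j i₀
  have hm : IsIso (((sheafificationAdjunction J (Type u)).homEquiv (u.op ⋙ E.pt)
      ((u.sheafPushforwardContinuous (Type u) J K).obj ((presheafToSheaf K (Type u)).obj E.pt))).symm
        (Functor.whiskerLeft u.op (toSheafify K E.pt))) :=
    Groth.Agent.S6441.result J K u hu E.pt hG
  have hm2 : toSheafify J (u.op ⋙ E.pt) ≫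
      (((sheafificationAdjunction J (Type u)).homEquiv (u.op ⋙ E.pt)
      ((u.sheafPushforwardContinuous (Type u) J K).obj ((presheafToSheaf K (Type u)).obj E.pt))).symm
        (Functor.whiskerLeft u.op (toSheafify K E.pt))).hom =
      Functor.whiskerLeft u.op (toSheafify K E.pt) := by
    have := ((sheafificationAdjunction J (Type u)).homEquiv (u.op ⋙ E.pt)
      ((u.sheafPushforwardContinuous (Type u) J K).obj
        ((presheafToSheaf K (Type u)).obj E.pt))).apply_symm_apply
          (Functor.whiskerLeft u.op (toSheafify K E.pt))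
    rw [Adjunction.homEquiv_unit] at this
    exact this
  refine IsColimit.ofIsoColimit hc' (Cocones.ext (@asIso _ _ _ _ _ hm) (fun i => ?_))
  apply Sheaf.hom_ext
  have e1 := Sheaf.sheafifyCocone_ι_app_val E' i
  have e2 := Sheaf.sheafifyCocone_ι_app_val E i
  change ((Sheaf.sheafifyCocone E').ι.app i).hom ≫ _ = Functor.whiskerLeft u.op ((Sheaf.sheafifyCocone E).ι.app i).hom
  rw [e1, e2]
  refine (Category.assoc (E'.ι.app i) (toSheafify J E'.pt) _).trans ?_
  refine (congrArg (fun t => E'.ι.app i ≫ t) hm2).trans ?_
  rfl

end Groth.Agent.S6440
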