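import Groth.Statements.S6442
import Mathlib.CategoryTheory.Sites.LocallyBijective
import Mathlib.CategoryTheory.Sites.LocallySurjective

set_option autoImplicit false
open CategoryTheory CategoryTheory.Limits Opposite
universe u
open SiteMisc

namespace Groth.Agent.S6442

/-- An object `U` of a site is weakly contractible, i.e. for every covering sieve `S` the sheafified map
`(∐_{V → U ∈ S} h_V)^# ⟶ h_U^#` has a section, if and only if taking sections over `U` turns
epimorphisms of sheaves of sets into surjections. (Coverings are taken as covering sieves; the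
coproduct is formed in presheaves and then sheafified.) -/
theorem result {C : Type u} [SmallCategory C] (J : GrothendieckTopology C) (U : C) :
    (∀ S : Sieve U, S ∈ J U →
      IsSplitEpi ((presheafToSheaf J (Type u)).map
        (Sigma.desc (fun i : (Σ V : C, {f : V ⟶ U // S f}) => yoneda.map i.2.1) :
          (∐ fun i : (Σ V : C, {f : V ⟶ U // S f}) => yoneda.obj i.1) ⟶ yoneda.obj U))) ↔
    ∀ (F G : Sheaf J (Type u)) (φ : F ⟶ G), Epi φ → Function.Surjective (φ.hom.app (op U)) := by
  classical
  constructor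
  · intro h F G φ hφ s
    have hls : Sheaf.IsLocallySurjective φ := (Sheaf.isLocallySurjective_iff_epi φ).2 hφ
    have hS : Presheaf.imageSieve φ.hom s ∈ J U := Presheaf.imageSieve_mem J φ.hom (U := op U) s
    obtain ⟨⟨r, hr⟩⟩ := (h _ hS).exists_splitEpi
    let t : ∀ i : (Σ V : C, {f : V ⟶ U // Presheaf.imageSieve φ.hom s f}), F.obj.obj (op i.1) :=
      fun i => (i.2.2 : ∃ t, φ.hom.app _ t = G.obj.map i.2.1.op s).choose
    have ht : ∀ i, φ.hom.app _ (t i) = G.obj.map i.2.1.op s :=
      fun i => (i.2.2 : ∃ t, φ.hom.app _ t = G.obj.map i.2.1.op s).choose_spec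
    let τ : (∐ fun i : (Σ V : C, {f : V ⟶ U // Presheaf.imageSieve φ.hom s f}) => yoneda.obj i.1) ⟶
        F.obj := Sigma.desc (fun i => yonedaEquiv.symm (t i))
    have hτ : τ ≫ φ.hom = Sigma.desc (fun i : (Σ V : C, {f : V ⟶ U // Presheaf.imageSieve φ.hom s f}) =>
        yoneda.map i.2.1) ≫ yonedaEquiv.symm s := by
      apply Sigma.hom_ext
      intro i
      rw [Sigma.ι_desc_assoc, Sigma.ι_desc_assoc]
      apply yonedaEquiv.injective
      rw [yonedaEquiv_comp, Equiv.apply_symm_apply, ← yonedaEquiv_naturality,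
        Equiv.apply_symm_apply]
      exact ht i
    let adj := sheafificationAdjunction J (Type u)
    let τ' := (adj.homEquiv _ F).symm τ
    have h1 : τ' ≫ φ = (presheafToSheaf J (Type u)).map (Sigma.desc
        (fun i : (Σ V : C, {f : V ⟶ U // Presheaf.imageSieve φ.hom s f}) => yoneda.map i.2.1)) ≫
        (adj.homEquiv _ G).symm (yonedaEquiv.symm s) := by
      rw [← Adjunction.homEquiv_naturality_left_symm, ← hτ]
      exact (Adjunction.homEquiv_naturality_right_symm adj τ φ).symm
    have h2 : r ≫ τ' ≫ φ = (adj.homEquiv _ G).symm (yonedaEquiv.symm s) := by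
      rw [h1, ← Category.assoc, hr, Category.id_comp]
    refine ⟨yonedaEquiv (adj.homEquiv _ _ (r ≫ τ')), ?_⟩
    have h3 : adj.homEquiv _ _ (r ≫ τ') ≫ φ.hom = yonedaEquiv.symm s := by
      have := Adjunction.homEquiv_naturality_right adj (r ≫ τ') φ
      rw [Category.assoc, h2, Equiv.apply_symm_apply] at this
      exact this.symm
    rw [← yonedaEquiv_comp, h3, Equiv.apply_symm_apply]
  · intro h S hS
    let adj := sheafificationAdjunction J (Type u)
    let σ : (∐ fun i : (Σ V : C, {f : V ⟶ U // S f}) => yoneda.obj i.1) ⟶ yoneda.obj U :=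
      Sigma.desc (fun i => yoneda.map i.2.1)
    have hσ : Presheaf.IsLocallySurjective J σ := by
      constructor
      intro W s
      refine J.superset_covering ?_ (J.pullback_stable s hS)
      intro W' g hg
      refine ⟨(Sigma.ι (fun i : (Σ V : C, {f : V ⟶ U // S f}) => yoneda.obj i.1)
        ⟨W', g ≫ s, hg⟩).app (op W') (𝟙 W'), ?_⟩
      have := congr_app (Sigma.ι_desc (fun i : (Σ V : C, {f : V ⟶ U // S f}) => yoneda.map i.2.1)
        ⟨W', g ≫ s, hg⟩) (op W')
      have h2 := ConcreteCategory.congr_hom this (𝟙 W')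
      refine h2.trans ?_
      simp
    have hepi : Epi ((presheafToSheaf J (Type u)).map σ) := by
      rw [← Sheaf.isLocallySurjective_iff_epi]
      exact (Presheaf.isLocallySurjective_presheafToSheaf_map_iff (J := J) (φ := σ)).2 hσ
    obtain ⟨t, ht⟩ := h _ _ _ hepi ((toSheafify J (yoneda.obj U)).app (op U) (𝟙 U))
    refine ⟨⟨⟨(adj.homEquiv _ _).symm (yonedaEquiv.symm t), ?_⟩⟩⟩
    apply (adj.homEquiv _ _).injective
    apply yonedaEquiv.injective
    have e1 := Adjunction.homEquiv_naturality_right adj ((adj.homEquiv _ _).symm (yonedaEquiv.symm t))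
      ((presheafToSheaf J (Type u)).map σ)
    rw [Equiv.apply_symm_apply] at e1
    rw [e1, yonedaEquiv_comp, Equiv.apply_symm_apply]
    refine ht.trans ?_
    rw [Adjunction.homEquiv_unit, yonedaEquiv_apply]
    simp
    rfl

end Groth.Agent.S6442
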