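import Groth.Statements.S6443
import Mathlib.CategoryTheory.EqToHom

set_option autoImplicit false
open CategoryTheory
universe v u
open FibCat

namespace Groth.Agent.S6443

section
variable {C : Type u} [Category.{v} C] {X' X : C} (Φ : FibCat.overCat X' ⥤ᵇ FibCat.overCat X)

theorem left_eq (Y : Over X') : (Φ.obj Y).left = Y.left := Φ.w_obj Y

theorem left_eq_T : (Φ.obj (Over.mk (𝟙 X'))).left = X' := Φ.w_obj (Over.mk (𝟙 X'))

/-- the morphism `X' ⟶ X` classified by a functor `C/X' ⥤ C/X` over `C`. -/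
def cls : X' ⟶ X :=
  eqToHom (left_eq_T Φ).symm ≫ (Φ.obj (Over.mk (𝟙 X'))).hom

theorem map_left {Y Y' : Over X'} (k : Y ⟶ Y') :
    (Φ.map k).left = eqToHom (left_eq Φ Y) ≫ k.left ≫ eqToHom (left_eq Φ Y').symm :=
  Functor.congr_hom Φ.w k

theorem obj_hom (Y : Over X') : (Φ.obj Y).hom = eqToHom (left_eq Φ Y) ≫ Y.hom ≫ cls Φ := by
  have h := Over.w (Φ.map (Over.homMk Y.hom : Y ⟶ Over.mk (𝟙 X')))
  rw [map_left] at h
  rw [← h]
  simp [cls]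

/-- the component isomorphisms `Over.map (cls Φ) ≅ Φ`. -/
def compIso (Y : Over X') : (Over.map (cls Φ)).obj Y ≅ Φ.obj Y :=
  Over.isoMk (eqToIso (left_eq Φ Y).symm) (by
    simp [obj_hom Φ Y])

theorem compIso_hom_left (Y : Over X') :
    (compIso Φ Y).hom.left = eqToHom (left_eq Φ Y).symm := rfl

/-- the natural isomorphism `Over.map (cls Φ) ≅ Φ`. -/
def natIso : Over.map (cls Φ) ≅ Φ.toFunctor :=
  NatIso.ofComponents (compIso Φ) (by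
    intro Y Y' k
    apply Over.OverMorphism.ext
    simp [compIso_hom_left, map_left])

/-- the based isomorphism `Over.map (cls Φ) ≅ Φ`. -/
def basedIso :
    (⟨Over.map (cls Φ), Over.mapForget_eq (cls Φ)⟩ : FibCat.overCat X' ⥤ᵇ FibCat.overCat X) ≅ Φ :=
  BasedNatIso.mkNatIso (natIso Φ) (fun Y => by
    refine IsHomLift.of_fac' (Over.forget X) (𝟙 Y.left) ((compIso Φ Y).hom) rfl (left_eq Φ Y) ?_
    have h : (compIso Φ Y).hom.left = eqToHom (left_eq Φ Y).symm := rfl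
    refine h.trans ?_
    simp only [Category.id_comp]
    exact (eqToHom_trans _ _).symm)

theorem aux {L M X' X : C} (a : L = M) (b : M = X') (hL : L = X')
    (f : X' ⟶ X) (g : X ⟶ X') (l : L ⟶ X')
    (h1 : l = eqToHom hL ≫ 𝟙 X' ≫ eqToHom rfl)
    (h2 : l ≫ 𝟙 X' = eqToHom a ≫ (eqToHom b ≫ 𝟙 X' ≫ f) ≫ g) : f ≫ g = 𝟙 X' := by
  subst a
  subst b
  subst h1
  simpa using h2.symm

/-- composing classified morphisms. -/
theorem cls_comp (Ψ : FibCat.overCat X ⥤ᵇ FibCat.overCat X')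
    (α : Ψ.obj (Φ.obj (Over.mk (𝟙 X'))) ⟶ Over.mk (𝟙 X'))
    [hα : (Over.forget X').IsHomLift (𝟙 X') α] : cls Φ ≫ cls Ψ = 𝟙 X' := by
  have hL : (Ψ.obj (Φ.obj (Over.mk (𝟙 X')))).left = X' :=
    IsHomLift.domain_eq (Over.forget X') (𝟙 X') α
  have h1 : α.left = eqToHom hL ≫ 𝟙 X' ≫ eqToHom rfl :=
    IsHomLift.fac' (Over.forget X') (𝟙 X') α
  have h2 : α.left ≫ 𝟙 X' = (Ψ.obj (Φ.obj (Over.mk (𝟙 X')))).hom := Over.w α
  have h4 := obj_hom Ψ (Φ.obj (Over.mk (𝟙 X')))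
  have h5 : (Φ.obj (Over.mk (𝟙 X'))).hom = eqToHom (left_eq_T Φ) ≫ 𝟙 X' ≫ cls Φ :=
    obj_hom Φ (Over.mk (𝟙 X'))
  have h6 : (Ψ.obj (Φ.obj (Over.mk (𝟙 X')))).hom =
      eqToHom (left_eq Ψ (Φ.obj (Over.mk (𝟙 X')))) ≫ (eqToHom (left_eq_T Φ) ≫ 𝟙 X' ≫ cls Φ) ≫ cls Ψ :=
    h4.trans (congrArg (fun t => eqToHom (left_eq Ψ (Φ.obj (Over.mk (𝟙 X')))) ≫ t ≫ cls Ψ) h5)
  exact aux (left_eq Ψ (Φ.obj (Over.mk (𝟙 X')))) (left_eq_T Φ) hL (cls Φ) (cls Ψ) α.left h1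
    (h2.trans h6)

end

/-- If a category `𝒮` fibred in groupoids over `C` is represented by `X` via `j : 𝒮 ⟶ C/X` and by `X'`
via `j' : 𝒮 ⟶ C/X'` (equivalences over `C`), then there is an isomorphism `X' ≅ X` under which `j'`
becomes 2-isomorphic to `j` over `C`. -/
theorem result {C : Type u} [Category.{v} C] {𝒮 : BasedCategory.{v, max u v} C} (h𝒮 : FibCat.IsFibGrpd 𝒮.p)
    {X X' : C} (j : 𝒮 ⥤ᵇ FibCat.overCat X) (j' : 𝒮 ⥤ᵇ FibCat.overCat X') (hj : FibCat.IsEquivOver j) (hj' : FibCat.IsEquivOver j') :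
    ∃ e : X' ≅ X, Nonempty (BasedFunctor.comp j' (⟨Over.map e.hom, Over.mapForget_eq e.hom⟩ : FibCat.overCat X' ⥤ᵇ FibCat.overCat X) ≅ j) := by
  obtain ⟨G, ⟨η⟩, ⟨ε⟩⟩ := hj
  obtain ⟨G', ⟨η'⟩, ⟨ε'⟩⟩ := hj'
  let Φ : FibCat.overCat X' ⥤ᵇ FibCat.overCat X := BasedFunctor.comp G' j
  let Ψ : FibCat.overCat X ⥤ᵇ FibCat.overCat X' := BasedFunctor.comp G j'
  have h1 : cls Φ ≫ cls Ψ = 𝟙 X' := by
    let T' : Over X' := Over.mk (𝟙 X')
    have hT : 𝒮.p.obj (G'.obj T') = X' := G'.w_obj T'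
    have i1 : 𝒮.p.IsHomLift (𝟙 X') (η.hom.toNatTrans.app (G'.obj T')) := η.hom.isHomLift hT
    have i2 : (Over.forget X').IsHomLift (𝟙 X') (j'.map (η.hom.toNatTrans.app (G'.obj T'))) :=
      BasedFunctor.preserves_isHomLift j' (𝟙 X') (η.hom.toNatTrans.app (G'.obj T'))
    have i3 : (Over.forget X').IsHomLift (𝟙 X') (ε'.hom.toNatTrans.app T') :=
      ε'.hom.isHomLift' T'
    have i4 : (Over.forget X').IsHomLift (𝟙 X')
        (j'.map (η.hom.toNatTrans.app (G'.obj T')) ≫ ε'.hom.toNatTrans.app T') :=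
      @IsHomLift.comp_of_lift_id _ _ _ _ (Over.forget X') X' _ _ _ _ _ i2 i3
    exact @cls_comp C _ X' X Φ Ψ
      (j'.map (η.hom.toNatTrans.app (G'.obj T')) ≫ ε'.hom.toNatTrans.app T') i4
  have h2 : cls Ψ ≫ cls Φ = 𝟙 X := by
    let T : Over X := Over.mk (𝟙 X)
    have hT : 𝒮.p.obj (G.obj T) = X := G.w_obj T
    have i1 : 𝒮.p.IsHomLift (𝟙 X) (η'.hom.toNatTrans.app (G.obj T)) := η'.hom.isHomLift hT
    have i2 : (Over.forget X).IsHomLift (𝟙 X) (j.map (η'.hom.toNatTrans.app (G.obj T))) :=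
      BasedFunctor.preserves_isHomLift j (𝟙 X) (η'.hom.toNatTrans.app (G.obj T))
    have i3 : (Over.forget X).IsHomLift (𝟙 X) (ε.hom.toNatTrans.app T) :=
      ε.hom.isHomLift' T
    have i4 : (Over.forget X).IsHomLift (𝟙 X)
        (j.map (η'.hom.toNatTrans.app (G.obj T)) ≫ ε.hom.toNatTrans.app T) :=
      @IsHomLift.comp_of_lift_id _ _ _ _ (Over.forget X) X _ _ _ _ _ i2 i3
    exact @cls_comp C _ X X' Ψ Φ
      (j.map (η'.hom.toNatTrans.app (G.obj T)) ≫ ε.hom.toNatTrans.app T) i4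
  refine ⟨⟨cls Φ, cls Ψ, h1, h2⟩, ⟨?_⟩⟩
  let A : BasedFunctor.comp j' (⟨Over.map (cls Φ), Over.mapForget_eq (cls Φ)⟩ :
      FibCat.overCat X' ⥤ᵇ FibCat.overCat X) ≅ BasedFunctor.comp j' Φ :=
    BasedNatIso.mkNatIso (Functor.isoWhiskerLeft j'.toFunctor (natIso Φ)) (fun a => by
      have := (basedIso Φ).hom.isHomLift (j'.w_obj a)
      exact this)
  let η'₀ : j'.toFunctor ⋙ G'.toFunctor ≅ 𝟭 𝒮.obj :=
    (BasedNatTrans.forgetful _ _).mapIso η'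
  let B₀ : (BasedFunctor.comp j' Φ).toFunctor ≅ j.toFunctor :=
    Functor.isoWhiskerRight η'₀ j.toFunctor
  let B : BasedFunctor.comp j' Φ ≅ j :=
    BasedNatIso.mkNatIso B₀ (fun a => by
      have i1 : 𝒮.p.IsHomLift (𝟙 (𝒮.p.obj a)) (η'.hom.toNatTrans.app a) := η'.hom.isHomLift' a
      have i2 : (Over.forget X).IsHomLift (𝟙 (𝒮.p.obj a)) (j.map (η'.hom.toNatTrans.app a)) :=
        BasedFunctor.preserves_isHomLift j (𝟙 (𝒮.p.obj a)) (η'.hom.toNatTrans.app a)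
      exact i2)
  exact A ≪≫ B

end Groth.Agent.S6443
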