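import Groth.Statements.S6445
import Mathlib.CategoryTheory.EqToHom
-- import your own Groth.Agent.* helpers here

set_option autoImplicit false
open CategoryTheory CategoryTheory.Limits
universe v u
open FibCat

namespace Groth.Agent.S6445

variable {A B C D E : Type u} [Category.{v} A] [Category.{v} B] [Category.{v} C] [Category.{v} D]
  [Category.{v} E] (F : A ⥤ B) (G : C ⥤ B) (H : C ⥤ D) (K : E ⥤ D)

/-- `((a, c, φ), e, ψ) ↦ (a, (c, e, ψ), φ)`. -/
def assocFun : CategoricalPullback (CategoricalPullback.π₂ F G ⋙ H) K ⥤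
    CategoricalPullback F (CategoricalPullback.π₁ H K ⋙ G) where
  obj x :=
    { fst := x.fst.fst
      snd := { fst := x.fst.snd, snd := x.snd, iso := x.iso }
      iso := x.fst.iso }
  map f :=
    { fst := f.fst.fst
      snd := { fst := f.fst.snd, snd := f.snd, w := f.w }
      w := f.fst.w }
  map_id _ := rfl
  map_comp _ _ := rfl

/-- `(a, (c, e, ψ), φ) ↦ ((a, c, φ), e, ψ)`. -/
def assocInv : CategoricalPullback F (CategoricalPullback.π₁ H K ⋙ G) ⥤
    CategoricalPullback (CategoricalPullback.π₂ F G ⋙ H) K where
  obj x :=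
    { fst := { fst := x.fst, snd := x.snd.fst, iso := x.iso }
      snd := x.snd.snd
      iso := x.snd.iso }
  map f :=
    { fst := { fst := f.fst, snd := f.snd.fst, w := f.w }
      snd := f.snd.snd
      w := f.snd.w }
  map_id _ := rfl
  map_comp _ _ := rfl

theorem assocFun_comp_assocInv : assocFun F G H K ⋙ assocInv F G H K = 𝟭 _ :=
  Functor.ext (fun x => rfl) (fun x y f => by
    change f = 𝟙 x ≫ f ≫ 𝟙 y
    rw [Category.comp_id, Category.id_comp])

theorem assocInv_comp_assocFun : assocInv F G H K ⋙ assocFun F G H K = 𝟭 _ :=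
  Functor.ext (fun x => rfl) (fun x y f => by
    change f = 𝟙 x ≫ f ≫ 𝟙 y
    rw [Category.comp_id, Category.id_comp])


/-- Associativity of 2-fibre products of categories: `(A ×_B C) ×_D E` and `A ×_B (C ×_D E)` are
isomorphic categories, by an equivalence whose functor and inverse compose to the identity functors
on both sides and whose functor sends `((a, c, φ), e, ψ)` to an object with components `a`, `c`,
`e`. (The published statement gives the isomorphism by the formula `((a, c, φ), e, ψ) ↦ (a, (c, e,
ψ), φ)`; this row pins the components `a`, `c`, `e` of the functor on objects and asks the functor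
and its inverse to be mutually inverse on the nose.) -/
theorem result {A B C D E : Type u} [Category.{v} A] [Category.{v} B] [Category.{v} C] [Category.{v} D] [Category.{v} E]
    (F : A ⥤ B) (G : C ⥤ B) (H : C ⥤ D) (K : E ⥤ D) :
    ∃ e : CategoricalPullback (CategoricalPullback.π₂ F G ⋙ H) K ≌ CategoricalPullback F (CategoricalPullback.π₁ H K ⋙ G),
      e.functor ⋙ e.inverse = 𝟭 _ ∧ e.inverse ⋙ e.functor = 𝟭 _ ∧
      ∀ x, (e.functor.obj x).fst = x.fst.fst ∧ (e.functor.obj x).snd.fst = x.fst.snd ∧ (e.functor.obj x).snd.snd = x.snd := by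
  refine ⟨CategoryTheory.Equivalence.mk (assocFun F G H K) (assocInv F G H K)
    (NatIso.ofComponents (fun x => Iso.refl _) (fun {x y} f => by
      change f ≫ 𝟙 _ = 𝟙 _ ≫ f
      rw [Category.comp_id, Category.id_comp]))
    (NatIso.ofComponents (fun x => Iso.refl _) (fun {x y} f => by
      change f ≫ 𝟙 _ = 𝟙 _ ≫ f
      rw [Category.comp_id, Category.id_comp])), ?_, ?_, ?_⟩
  · exact assocFun_comp_assocInv F G H K
  · exact assocInv_comp_assocFun F G H K
  · intro x
    exact ⟨rfl, rfl, rfl⟩

end Groth.Agent.S6445
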