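import Groth.Statements.S6447
-- import your own Groth.Agent.* helpers here

set_option autoImplicit false
open CategoryTheory CategoryTheory.Limits
universe v u
open FibCat

namespace Groth.Agent.S6447

section gen
universe v₁ v₂ v₃ v₄ v₅ v₆ u₁ u₂ u₃ u₄ u₅ u₆
variable {X : Type u₁} {Y : Type u₂} {Z : Type u₃} {A : Type u₄} {B : Type u₅} {C : Type u₆}
  [Category.{v₁} X] [Category.{v₂} Y] [Category.{v₃} Z] [Category.{v₄} A]
  [Category.{v₅} B] [Category.{v₆} C] {H : X ⥤ Z} {I : Y ⥤ Z} {F : A ⥤ C} {G : B ⥤ C}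
  (ψ : CatCospanTransform H I F G)

theorem map_fst' {x y : CategoricalPullback H I} (f : x ⟶ y) :
    ((FibCat.categoricalPullbackMap ψ).map f).fst = ψ.left.map f.fst := rfl

theorem map_snd' {x y : CategoricalPullback H I} (f : x ⟶ y) :
    ((FibCat.categoricalPullbackMap ψ).map f).snd = ψ.right.map f.snd := rfl

theorem obj_iso_hom' (x : CategoricalPullback H I) :
    ((FibCat.categoricalPullbackMap ψ).obj x).iso.hom =
      ψ.squareLeft.iso.inv.app x.fst ≫ ψ.base.map x.iso.hom ≫ ψ.squareRight.iso.hom.app x.snd := by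
  simp [FibCat.categoricalPullbackMap]
  rfl

end gen

section
variable {X Y V : Type u} [Category.{v} X] [Category.{v} Y] [Category.{v} V] (p : X ⥤ Y) (q : V ⥤ Y)

abbrev U := CategoricalPullback p q
abbrev P1 : U p q ⥤ X := CategoricalPullback.π₁ p q
abbrev P2 : U p q ⥤ V := CategoricalPullback.π₂ p q
abbrev DU : U p q ⥤ CategoricalPullback (P2 p q) (P2 p q) :=
  (CategoricalPullback.CatCommSqOver.toFunctorToCategoricalPullback (P2 p q) (P2 p q) (U p q)).obj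
    ⟨𝟭 _, 𝟭 _, Iso.refl _⟩
abbrev DX : X ⥤ CategoricalPullback p p :=
  (CategoricalPullback.CatCommSqOver.toFunctorToCategoricalPullback p p X).obj ⟨𝟭 _, 𝟭 _, Iso.refl _⟩
abbrev ψ : CatCospanTransform (P2 p q) (P2 p q) p p :=
  ⟨P1 p q, q, P1 p q, ⟨(CatCommSq.iso (P1 p q) (P2 p q) p q).symm⟩,
    ⟨(CatCommSq.iso (P1 p q) (P2 p q) p q).symm⟩⟩
noncomputable abbrev M : CategoricalPullback (P2 p q) (P2 p q) ⥤ CategoricalPullback p p :=
  FibCat.categoricalPullbackMap (ψ p q)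

theorem M_obj_iso_hom (w : CategoricalPullback (P2 p q) (P2 p q)) :
    ((M p q).obj w).iso.hom =
      (w.fst.iso.hom ≫ q.map (w.iso.hom : w.fst.snd ⟶ w.snd.snd) ≫ w.snd.iso.inv :
        p.obj w.fst.fst ⟶ p.obj w.snd.fst) := by
  have h := obj_iso_hom' (ψ p q) w
  exact h

/-- the filling 2-isomorphism, with identity components. -/
noncomputable def eIso : P1 p q ⋙ DX p ≅ DU p q ⋙ M p q :=
  NatIso.ofComponents
    (fun u => CategoricalPullback.mkIso (x := (P1 p q ⋙ DX p).obj u) (y := (DU p q ⋙ M p q).obj u)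
      (Iso.refl u.fst) (Iso.refl u.fst) (by
        show p.map (𝟙 u.fst) ≫ ((M p q).obj ((DU p q).obj u)).iso.hom = 𝟙 (p.obj u.fst) ≫
          p.map (𝟙 u.fst)
        rw [M_obj_iso_hom]
        show p.map (𝟙 u.fst) ≫ (u.iso.hom ≫ q.map (𝟙 u.snd) ≫ u.iso.inv) = 𝟙 (p.obj u.fst) ≫
          p.map (𝟙 u.fst)
        simp))
    (fun {u u'} f => by
      apply CategoricalPullback.hom_ext
      · change f.fst ≫ 𝟙 _ = 𝟙 _ ≫ f.fst
        rw [Category.comp_id, Category.id_comp]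
      · change f.fst ≫ 𝟙 _ = 𝟙 _ ≫ f.fst
        rw [Category.comp_id, Category.id_comp])

theorem eIso_fst (u : U p q) : ((eIso p q).hom.app u).fst = 𝟙 u.fst := rfl
theorem eIso_snd (u : U p q) : ((eIso p q).hom.app u).snd = 𝟙 u.fst := rfl

/-- the comparison functor. -/
noncomputable abbrev Φ : U p q ⥤ CategoricalPullback (DX p) (M p q) :=
  (CategoricalPullback.CatCommSqOver.toFunctorToCategoricalPullback (DX p) (M p q) (U p q)).obj
    ⟨P1 p q, DU p q, eIso p q⟩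

end

section
variable {X Y V : Type u} [Category.{v} X] [Category.{v} Y] [Category.{v} V] (p : X ⥤ Y) (q : V ⥤ Y)

theorem Φ_faithful : (Φ p q).Faithful := by
  refine ⟨fun {u u'} f f' h => ?_⟩
  have := congrArg (fun g => g.snd.fst) h
  exact this

theorem Φ_full : (Φ p q).Full := by
  refine ⟨fun {u u'} g => ?_⟩
  obtain ⟨x, f₁, f₂, h1, h2, h3, hx, hf₁, hf₂⟩ : ∃ (x : u.fst ⟶ u'.fst) (f₁ f₂ : u ⟶ u'),
      (x ≫ 𝟙 _ = 𝟙 _ ≫ f₁.fst) ∧ (x ≫ 𝟙 _ = 𝟙 _ ≫ f₂.fst) ∧ (f₁.snd ≫ 𝟙 _ = 𝟙 _ ≫ f₂.snd) ∧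
      g.fst = x ∧ g.snd.fst = f₁ ∧ g.snd.snd = f₂ :=
    ⟨g.fst, g.snd.fst, g.snd.snd, congrArg (fun k => k.fst) g.w, congrArg (fun k => k.snd) g.w,
      g.snd.w, rfl, rfl, rfl⟩
  rw [Category.comp_id, Category.id_comp] at h1 h2 h3
  have h12 : f₁ = f₂ := CategoricalPullback.hom_ext (h1.symm.trans h2) h3
  refine ⟨f₁, ?_⟩
  apply CategoricalPullback.hom_ext
  · exact h1.symm.trans hx.symm
  · apply CategoricalPullback.hom_ext
    · exact hf₁.symm
    · exact h12.trans hf₂.symm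

theorem Φ_essSurj : (Φ p q).EssSurj := by
  refine ⟨fun z => ?_⟩
  obtain ⟨x, w, θ⟩ := z
  obtain ⟨u₁, u₂, ν⟩ := w
  change u₁.snd ≅ u₂.snd at ν
  let w : CategoricalPullback (P2 p q) (P2 p q) := ⟨u₁, u₂, ν⟩
  change (DX p).obj x ≅ (M p q).obj w at θ
  obtain ⟨s₁, s₂, hs, hs₁, hs₂⟩ : ∃ (s₁ : x ⟶ u₁.fst) (s₂ : x ⟶ u₂.fst),
      p.map s₁ ≫ (u₁.iso.hom ≫ q.map ν.hom ≫ u₂.iso.inv) = 𝟙 _ ≫ p.map s₂ ∧
      θ.hom.fst = s₁ ∧ θ.hom.snd = s₂ := by
    refine ⟨θ.hom.fst, θ.hom.snd, ?_, rfl, rfl⟩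
    have := θ.hom.w
    rw [M_obj_iso_hom] at this
    exact this
  have hi₁' : IsIso θ.hom.fst := inferInstance
  have hi₂' : IsIso θ.hom.snd := inferInstance
  have hi₁ : IsIso s₁ := by rw [← hs₁]; exact hi₁'
  have hi₂ : IsIso s₂ := by rw [← hs₂]; exact hi₂'
  rw [Category.id_comp] at hs
  let s₁i : u₁.fst ⟶ x := inv s₁
  have c1 : s₁i ≫ s₁ = 𝟙 _ := IsIso.inv_hom_id s₁
  have c2 : s₁ ≫ s₁i = 𝟙 _ := IsIso.hom_inv_id s₁
  let tf : u₁.fst ≅ u₂.fst := (asIso s₁).symm ≪≫ asIso s₂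
  have htf : tf.hom = s₁i ≫ s₂ := rfl
  have hpi : p.map s₁i ≫ p.map s₁ = 𝟙 _ := by rw [← p.map_comp, c1, p.map_id]
  have ht : p.map tf.hom ≫ u₂.iso.hom = u₁.iso.hom ≫ q.map ν.hom := by
    rw [htf, p.map_comp, ← hs]
    simp only [Category.assoc, Iso.inv_hom_id, Category.comp_id]
    rw [← Category.assoc, hpi, Category.id_comp]
  let t : u₁ ≅ u₂ := CategoricalPullback.mkIso tf ν ht
  let b : (DU p q).obj u₁ ≅ w :=
    CategoricalPullback.mkIso (x := (DU p q).obj u₁) (y := w) (Iso.refl u₁) t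
      (show 𝟙 u₁.snd ≫ ν.hom = 𝟙 u₁.snd ≫ ν.hom from rfl)
  let a : u₁.fst ≅ x := (asIso s₁).symm
  have ha : a.hom = s₁i := rfl
  let z : CategoricalPullback (DX p) (M p q) := ⟨x, w, θ⟩
  refine ⟨u₁, ⟨CategoricalPullback.mkIso (x := (Φ p q).obj u₁) (y := z) a b ?_⟩⟩
  have g1 : a.hom ≫ s₁ = 𝟙 u₁.fst ≫ 𝟙 u₁.fst := by rw [ha, c1, Category.id_comp]
  have g2 : a.hom ≫ s₂ = 𝟙 u₁.fst ≫ tf.hom := by rw [ha, htf, Category.id_comp]
  clear_value a tf s₁i
  subst hs₁ hs₂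
  apply CategoricalPullback.hom_ext
  · exact g1
  · exact g2

theorem main : ∃ e : P1 p q ⋙ DX p ≅ DU p q ⋙ M p q,
    (∀ u, (e.hom.app u).fst = 𝟙 _ ∧ (e.hom.app u).snd = 𝟙 _) ∧
      FibCat.IsTwoCart (P1 p q) (DU p q) (DX p) (M p q) e := by
  refine ⟨eIso p q, fun u => ⟨eIso_fst p q u, eIso_snd p q u⟩, ?_⟩
  have h1 := Φ_faithful p q
  have h2 := Φ_full p q
  have h3 := Φ_essSurj p q
  exact { faithful := h1, full := h2, essSurj := h3 }

end

/-- For a 2-fibre product `U = X ×_Y V` of categories, the square formed by `U ⟶ X`, the diagonals `U ⟶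
U ×_V U`, `X ⟶ X ×_Y X` and the induced functor `U ×_V U ⟶ X ×_Y X` is 2-cartesian. (The filling
2-isomorphism is the one whose two components at every object are identities; it exists and is
unique with that property.) -/
theorem result {X Y V : Type u} [Category.{v} X] [Category.{v} Y] [Category.{v} V] (p : X ⥤ Y) (q : V ⥤ Y) :
    ∃ e, (∀ u, (e.hom.app u).fst = 𝟙 _ ∧ (e.hom.app u).snd = 𝟙 _) ∧ FibCat.IsTwoCart
      (CategoricalPullback.π₁ p q)
      ((CategoricalPullback.CatCommSqOver.toFunctorToCategoricalPullback (CategoricalPullback.π₂ p q) (CategoricalPullback.π₂ p q) (CategoricalPullback p q)).obj ⟨𝟭 _, 𝟭 _, Iso.refl _⟩)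
      ((CategoricalPullback.CatCommSqOver.toFunctorToCategoricalPullback p p X).obj ⟨𝟭 _, 𝟭 _, Iso.refl _⟩)
      (FibCat.categoricalPullbackMap (⟨CategoricalPullback.π₁ p q, q, CategoricalPullback.π₁ p q, ⟨(CatCommSq.iso (CategoricalPullback.π₁ p q) (CategoricalPullback.π₂ p q) p q).symm⟩, ⟨(CatCommSq.iso (CategoricalPullback.π₁ p q) (CategoricalPullback.π₂ p q) p q).symm⟩⟩ : CatCospanTransform (CategoricalPullback.π₂ p q) (CategoricalPullback.π₂ p q) p p))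
      e := by
  exact main p q

end Groth.Agent.S6447
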