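import Groth.Statements.S6448
-- import your own Groth.Agent.* helpers here

set_option autoImplicit false
open CategoryTheory
universe v u
open CatLim

namespace Groth.Agent.S6448

/-- In a category where spans complete to commutative squares and parallel pairs are coequalized by a
later arrow, every connected component is filtered (so the category is a disjoint union of filtered
categories). -/
theorem result {I : Type u} [Category.{v} I]
    (h1 : ∀ ⦃w x y : I⦄ (a : w ⟶ x) (b : w ⟶ y), ∃ (z : I) (c : x ⟶ z) (d : y ⟶ z), a ≫ c = b ≫ d)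
    (h2 : ∀ ⦃x y : I⦄ (a b : x ⟶ y), ∃ (z : I) (c : y ⟶ z), a ≫ c = b ≫ c)
    (j : ConnectedComponents I) : IsFiltered j.Component := by
  have key : ∀ X Y : I, Zigzag X Y → ∃ (Z : I) (_ : X ⟶ Z) (_ : Y ⟶ Z), True := by
    intro X Y h
    induction h with
    | refl => exact ⟨X, 𝟙 X, 𝟙 X, trivial⟩
    | tail _ hzag ih =>
      obtain ⟨Z', f, g, -⟩ := ih
      rcases hzag with ⟨⟨a⟩⟩ | ⟨⟨a⟩⟩
      · obtain ⟨Z, c, d, -⟩ := h1 g a
        exact ⟨Z, f ≫ c, d, trivial⟩
      · exact ⟨Z', f, a ≫ g, trivial⟩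
  have : IsFilteredOrEmpty j.Component := by
    refine ⟨?_, ?_⟩
    · rintro ⟨X, hX⟩ ⟨Y, hY⟩
      have hz : Zigzag X Y := Quotient.exact' (hX.trans hY.symm)
      obtain ⟨Z, f, g, -⟩ := key X Y hz
      have hZ : j.objectProperty Z := by
        have : Zigzag Z X := (Zigzag.of_hom f).symm
        exact (Quotient.sound' this : (Quotient.mk'' Z : ConnectedComponents I) = Quotient.mk'' X).trans hX
      exact ⟨⟨Z, hZ⟩, ObjectProperty.homMk f, ObjectProperty.homMk g, trivial⟩
    · rintro ⟨X, hX⟩ ⟨Y, hY⟩ f g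
      obtain ⟨Z, c, hc⟩ := h2 f.hom g.hom
      have hZ : j.objectProperty Z := by
        have : Zigzag Z Y := (Zigzag.of_hom c).symm
        exact (Quotient.sound' this : (Quotient.mk'' Z : ConnectedComponents I) = Quotient.mk'' Y).trans hY
      refine ⟨⟨Z, hZ⟩, ObjectProperty.homMk c, ?_⟩
      apply ObjectProperty.hom_ext
      exact hc
  exact { }

end Groth.Agent.S6448
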