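import Groth.Statements.S6461
import Groth.Agent.H29.CM

set_option autoImplicit false
universe u
open CategoryTheory AlgebraicGeometry
open Cyc

namespace Groth.Agent.S6461

open TopologicalSpace in
theorem exists_open_generic_specializes {T : Type u} [TopologicalSpace T] [QuasiSober T]
    (W : TopologicalSpace.Opens T) [NoetherianSpace W] (x : T) (hx : x ∈ W) :
    ∃ U : TopologicalSpace.Opens T, x ∈ U ∧
      ∀ ξ : T, ξ ∈ U → (∀ ξ' : T, ξ' ⤳ ξ → ξ' = ξ) → ξ ⤳ x := by
  classical
  let x' : W := ⟨x, hx⟩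
  let S : Set (Set W) := {Z | Z ∈ irreducibleComponents W ∧ x' ∉ Z}
  have hSfin : S.Finite :=
    (NoetherianSpace.finite_irreducibleComponents (α := W)).subset (fun Z hZ => hZ.1)
  have hCclosed : IsClosed (⋃ Z ∈ S, Z) :=
    hSfin.isClosed_biUnion (fun Z hZ => isClosed_of_mem_irreducibleComponents Z hZ.1)
  have hUopen : IsOpen (Subtype.val '' (⋃ Z ∈ S, Z)ᶜ : Set T) :=
    W.2.isOpenMap_subtype_val _ hCclosed.isOpen_compl
  haveI : QuasiSober W := W.2.isOpenEmbedding_subtypeVal.quasiSober
  refine ⟨⟨_, hUopen⟩, ⟨x', ?_, rfl⟩, ?_⟩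
  · simp only [Set.mem_compl_iff, Set.mem_iUnion, not_exists]
    intro Z hZ hxZ
    exact hZ.2 hxZ
  · intro ξ hξ hgen
    obtain ⟨ξ', hξ', rfl⟩ := hξ
    have hZmem := irreducibleComponent_mem_irreducibleComponents ξ'
    have hxZ : x' ∈ irreducibleComponent ξ' := by
      by_contra h
      apply hξ'
      simp only [Set.mem_iUnion]
      exact ⟨irreducibleComponent ξ', ⟨hZmem, h⟩, mem_irreducibleComponent⟩
    obtain ⟨η, hη⟩ := QuasiSober.sober (isIrreducible_irreducibleComponent (x := ξ'))
      (isClosed_irreducibleComponent (x := ξ'))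
    have h1 : η ⤳ ξ' := by
      rw [specializes_iff_mem_closure, hη.def]; exact mem_irreducibleComponent
    have h2 : (η : T) = ξ' := hgen _ (h1.map continuous_subtype_val)
    have h3 : η = ξ' := Subtype.ext h2
    have h4 : ξ' ⤳ x' := by
      rw [specializes_iff_mem_closure, ← h3, hη.def]; exact hxZ
    exact h4.map continuous_subtype_val

theorem delta_eq_of_coheight {A : Type u} [CommRing A] [IsLocalRing A] {T : Type u}
    [TopologicalSpace T] (φ : PrimeSpectrum A → T) (hφ : Topology.IsEmbedding φ)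
    (hrange : Set.range φ = {y | y ⤳ φ (IsLocalRing.closedPoint A)}) (δ : T → ℤ)
    (hδ : ∀ a b : T, a ⤳ b → a ≠ b →
      δ b < δ a ∧ ((∀ z : T, a ⤳ z → z ⤳ b → z = a ∨ z = b) → δ a = δ b + 1)) :
    ∀ (n : ℕ) (q : PrimeSpectrum A), Order.coheight q = (n : ℕ∞) →
      δ (φ q) = δ (φ (IsLocalRing.closedPoint A)) + n := by
  intro n
  induction n with
  | zero =>
    intro q hq
    have hmax : IsMax q := by
      rw [← Order.coheight_eq_zero]; simpa using hq
    have hle : q ≤ IsLocalRing.closedPoint A :=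
      (PrimeSpectrum.le_iff_specializes _ _).mpr (IsLocalRing.specializes_closedPoint q)
    have : q = IsLocalRing.closedPoint A := le_antisymm hle (hmax hle)
    rw [this]; simp
  | succ n ih =>
    intro q hq
    have hq' : Order.coheight q = (n : ℕ∞) + 1 := by rw [hq]; push_cast; rfl
    obtain ⟨-, ⟨y, hy, hyn⟩, hall⟩ := Order.coheight_eq_coe_add_one_iff.mp hq'
    have h1 := ih y hyn
    have hspec : φ q ⤳ φ y :=
      hφ.isInducing.specializes_iff.mpr ((PrimeSpectrum.le_iff_specializes q y).mp hy.le)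
    have hne : φ q ≠ φ y := fun h => hy.ne (hφ.injective h)
    have himm : ∀ z : T, φ q ⤳ z → z ⤳ φ y → z = φ q ∨ z = φ y := by
      intro z hz1 hz2
      have hzx : z ⤳ φ (IsLocalRing.closedPoint A) := by
        have : φ y ∈ Set.range φ := ⟨y, rfl⟩
        rw [hrange] at this
        exact hz2.trans this
      have hzr : z ∈ Set.range φ := by rw [hrange]; exact hzx
      obtain ⟨r, rfl⟩ := hzr
      have hqr : q ≤ r :=
        (PrimeSpectrum.le_iff_specializes q r).mpr (hφ.isInducing.specializes_iff.mp hz1)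
      have hry : r ≤ y :=
        (PrimeSpectrum.le_iff_specializes r y).mpr (hφ.isInducing.specializes_iff.mp hz2)
      rcases eq_or_lt_of_le hqr with h | h
      · left; rw [h]
      · right
        rcases eq_or_lt_of_le hry with h' | h'
        · rw [h']
        · exfalso
          have h2 := hall r h
          have h3 := Order.coheight_add_one_le h'
          rw [hyn] at h3
          have h4 : ((n : ℕ∞) + 1) ≤ n := h3.trans h2
          have h5 : (n + 1 : ℕ) ≤ n := by exact_mod_cast h4
          omega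
    have h6 := (hδ _ _ hspec hne).2 himm
    rw [h6, h1]; push_cast; ring

theorem coheight_eq_of_isMin {A : Type u} [CommRing A] [hA : LocCoh.IsCohenMacaulayLocalRing A]
    (q : PrimeSpectrum A) (hq : IsMin q) :
    ((Order.coheight q : ℕ∞) : WithBot ℕ∞) = ringKrullDim A := by
  have hmin : q.asIdeal ∈ (Module.annihilator A A).minimalPrimes := by
    have hann : Module.annihilator A A = ⊥ := Module.annihilator_eq_bot.mpr inferInstance
    rw [hann]
    refine ⟨⟨q.2, bot_le⟩, fun r hr hrq => ?_⟩
    exact hq (show (⟨r, hr.1⟩ : PrimeSpectrum A) ≤ q from hrq)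
  have hass : q.asIdeal ∈ associatedPrimes A A :=
    Module.associatedPrimes.minimalPrimes_annihilator_subset_associatedPrimes A A hmin
  have hM : LocCoh.IsCohenMacaulayModule A A := hA.supportDim_eq_depth
  have h1 := Groth.Agent.H29.CM.ringKrullDim_quotient_eq_supportDim_of_isCM hM hass
  rw [Module.supportDim_self_eq_ringKrullDim] at h1
  rw [← h1, ringKrullDim_quotient]
  have hset : PrimeSpectrum.zeroLocus (q.asIdeal : Set A) = Set.Ici q := by
    ext r
    rw [PrimeSpectrum.mem_zeroLocus, Set.mem_Ici]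
    rfl
  rw [hset, ← Order.coheight_eq_krullDim_Ici]

end Groth.Agent.S6461

namespace Groth.Agent.S6461

/-- If all local rings of X are Cohen–Macaulay then every x ∈ X has an open neighbourhood U and an
integer n with δ(ξ) = n for every generic point ξ of an irreducible component of U (every point of U
maximal under specialization). Here a pair (X, δ) with Cyc.IsSetup plays the role of a scheme
locally of finite type over the base (S, δ) (X locally Noetherian with universally catenary local
rings, δ a dimension function). -/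
theorem result (X : Scheme.{u}) (δ : X → ℤ) (hX : Cyc.IsSetup X δ) (hCM : ∀ x : X, LocCoh.IsCohenMacaulayLocalRing ↑(X.presheaf.stalk x)) (x : X) : ∃ (U : X.Opens) (n : ℤ), x ∈ U ∧ ∀ ξ : X, ξ ∈ U → (∀ ξ' : X, ξ' ⤳ ξ → ξ' = ξ) → δ ξ = n := by
  obtain ⟨hN, -, hδ⟩ := hX
  haveI := hN
  obtain ⟨W, hW, hxW, -⟩ := TopologicalSpace.Opens.isBasis_iff_nbhd.mp X.isBasis_affineOpens
    (show x ∈ (⊤ : X.Opens) from trivial)
  haveI : IsNoetherianRing Γ(X, W) := IsLocallyNoetherian.component_noetherian ⟨W, hW⟩
  obtain ⟨U, hxU, hU⟩ := @exists_open_generic_specializes _ _ _ W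
    (noetherianSpace_of_isAffineOpen W hW) x hxW
  haveI hA := hCM x
  haveI : Nontrivial (X.presheaf.stalk x) := inferInstance
  obtain ⟨d, hd⟩ := Groth.Agent.H29.CM.exists_nat_supportDim (A := X.presheaf.stalk x)
    (M := X.presheaf.stalk x)
  rw [Module.supportDim_self_eq_ringKrullDim] at hd
  refine ⟨U, δ x + d, hxU, fun ξ hξU hgen => ?_⟩
  have hspec : ξ ⤳ x := hU ξ hξU hgen
  let φ : PrimeSpectrum (X.presheaf.stalk x) → X := fun q => X.fromSpecStalk x q
  have hφ : Topology.IsEmbedding φ := (X.fromSpecStalk x).isEmbedding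
  have hφc : φ (IsLocalRing.closedPoint _) = x := Scheme.fromSpecStalk_closedPoint
  have hrange : Set.range φ = {y | y ⤳ x} := Scheme.range_fromSpecStalk
  have hrange' : Set.range φ = {y | y ⤳ φ (IsLocalRing.closedPoint _)} := by
    rw [hφc]; exact hrange
  have hξr : ξ ∈ Set.range φ := by rw [hrange]; exact hspec
  obtain ⟨q, rfl⟩ := hξr
  have hqmin : IsMin q := by
    intro r hrq
    have h1 : φ r ⤳ φ q :=
      hφ.isInducing.specializes_iff.mpr ((PrimeSpectrum.le_iff_specializes r q).mp hrq)
    have h2 : r = q := hφ.injective (hgen _ h1)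
    rw [h2]
  have hco := coheight_eq_of_isMin q hqmin
  rw [hd] at hco
  have hco' : Order.coheight q = (d : ℕ∞) := by exact_mod_cast hco
  have := delta_eq_of_coheight φ hφ hrange' δ hδ d q hco'
  rw [this, hφc]

end Groth.Agent.S6461
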