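import Groth.Statements.S6462
import Groth.Agent.H71.DimFun2

set_option autoImplicit false
universe u
open CategoryTheory AlgebraicGeometry
open Cyc

namespace Groth.Agent.S6462

/-- Assume in addition that X is Jacobson and δ(x) = 0 for every closed point x. For a point ξ of X with
closure Z (an integral closed subscheme whose generic point is ξ) one then has δ(ξ) = dim Z = dim
O_{Z,z} for every closed point z of Z; here Z is the closure of ξ and O_{Z,z} = O_{X,z}/𝔭_ξ
(Cyc.LocQuot). (The published statement takes X locally of finite type over a Jacobson base with δ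
zero on the base's closed points; this row assumes instead that X is Jacobson and δ vanishes on the
closed points of X, which follows from the published hypotheses.) Here a pair (X, δ) with
Cyc.IsSetup plays the role of a scheme locally of finite type over the base (S, δ) (X locally
Noetherian with universally catenary local rings, δ a dimension function). -/
theorem result (X : Scheme.{u}) [JacobsonSpace X] (δ : X → ℤ) (hX : Cyc.IsSetup X δ) (h0 : ∀ x : X, IsClosed ({x} : Set X) → δ x = 0) (ξ : X) : (topologicalKrullDim ↥(closure ({ξ} : Set X)) = ((δ ξ).toNat : WithBot ℕ∞) ∧ 0 ≤ δ ξ) ∧ ∀ (z : X) (h : ξ ⤳ z), IsClosed ({z} : Set X) → ringKrullDim (Cyc.LocQuot z ξ h) = ((δ ξ).toNat : WithBot ℕ∞) := by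
  obtain ⟨hN, -, hδ⟩ := hX
  haveI := hN
  have hnonneg : ∀ y : X, 0 ≤ δ y := fun y => by
    obtain ⟨z, hyz, hz⟩ := Groth.Agent.H71.DimFun.exists_closedPoint_specializes y
    have := Groth.Agent.H71.DimFun.isDimFun_mono X δ hδ hyz
    rw [h0 z hz] at this
    exact this
  have key : ∀ (z : X) (h : ξ ⤳ z), IsClosed ({z} : Set X) →
      ∃ q : PrimeSpectrum (X.presheaf.stalk z), X.fromSpecStalk z q = ξ ∧
        Order.coheight q = (((δ ξ).toNat : ℕ) : ℕ∞) := by
    intro z h hz
    obtain ⟨q, hq⟩ := Groth.Agent.H71.DimFun.exists_of_specializes X h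
    obtain ⟨d, hd, hδd⟩ := Groth.Agent.H71.DimFun.delta_eq_add_coheight X δ hδ z q
    rw [hq, h0 z hz, zero_add] at hδd
    refine ⟨q, hq, ?_⟩
    rw [hd, hδd]
    simp
  refine ⟨⟨?_, hnonneg ξ⟩, ?_⟩
  · apply le_antisymm
    · have := Groth.Agent.H71.DimFun.topKrullDim_closure_le X δ hδ ξ (δ ξ).toNat hnonneg
        (by rw [Int.toNat_of_nonneg (hnonneg ξ)])
      exact_mod_cast this
    · obtain ⟨z, hξz, hz⟩ := Groth.Agent.H71.DimFun.exists_closedPoint_specializes ξ
      obtain ⟨q, hq, hco⟩ := key z hξz hz
      have := Groth.Agent.H71.DimFun.le_topKrullDim_closure X ξ z q hq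
      rw [hco] at this
      exact_mod_cast this
  · intro z h hz
    obtain ⟨q, hq, hco⟩ := key z h hz
    rw [Groth.Agent.H71.DimFun.locQuot_dim X z ξ h q hq, hco]
    norm_cast

end Groth.Agent.S6462
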