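import Groth.Statements.S6463
import Mathlib
import Groth.Agent.H8.FlatBCStruct

set_option autoImplicit false
universe u
open CategoryTheory CategoryTheory.Limits AlgebraicGeometry
open PicF

namespace Groth.Agent.S6463

/-- For a field k and a smooth projective curve X over k that has a k-rational point σ, the conditions
under which the Picard functor is computed through the section are met: f : X → Spec k is flat,
proper and of finite presentation with a section, and O_T → f_{T,*} O_{X_T} is an isomorphism for
every scheme T over k. Only the last assertion is stated (the others are part of the hypotheses or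
immediate): for every t : T → Spec k, the sheaf map of the base change X ×_k T → T is an
isomorphism. Proper replaces projective (they agree for curves over a field). -/
theorem result (k : Type u) [Field k] (X : Scheme.{u}) (f : X ⟶ Spec (CommRingCat.of k)) (hX : Curve.IsSmoothProperCurve k X f) (σ : Spec (CommRingCat.of k) ⟶ X) (hσ : σ ≫ f = 𝟙 (Spec (CommRingCat.of k))) (T : Scheme.{u}) (t : T ⟶ Spec (CommRingCat.of k)) : IsIso (pullback.snd f t).c := by
  obtain ⟨hprop, hsm, hint, hdim⟩ := hX
  haveI := hprop
  haveI := hint
  have hfield : IsField Γ(X, ⊤) := isField_of_universallyClosed k f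
  have hcomp : ∀ a, σ.appTop.hom (f.appTop.hom a) = a := by
    intro a
    have h1 : (σ ≫ f).appTop = f.appTop ≫ σ.appTop := Scheme.Hom.comp_appTop σ f
    rw [hσ] at h1
    have h2 := congrArg (fun φ => φ.hom a) h1
    simp only [CommRingCat.hom_comp, RingHom.comp_apply] at h2
    rw [← h2]
    simp
  have hσinj : Function.Injective σ.appTop.hom := by
    letI := hfield.toField
    exact RingHom.injective σ.appTop.hom
  have htop : Function.Bijective f.appTop.hom := by
    constructor
    · intro a b hab
      have := congrArg σ.appTop.hom hab
      rwa [hcomp, hcomp] at this
    · intro y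
      refine ⟨σ.appTop.hom y, ?_⟩
      apply hσinj
      rw [hcomp]
  have hf : ∀ V : (Spec (CommRingCat.of k)).Opens, Function.Bijective (f.app V) := by
    intro V
    by_cases hV : V = ⊤
    · subst hV
      exact htop
    · have hbot : V = ⊥ := by
        ext x
        simp only [TopologicalSpace.Opens.coe_bot, Set.mem_empty_iff_false, iff_false]
        intro hx
        apply hV
        ext y
        simp only [TopologicalSpace.Opens.coe_top, Set.mem_univ, iff_true]
        rw [Subsingleton.elim y x]
        exact hx
      subst hbot
      haveI : Subsingleton Γ(X, f ⁻¹ᵁ ⊥) := by
        rw [Scheme.Hom.preimage_bot]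
        infer_instance
      constructor
      · intro a b _
        exact Subsingleton.elim a b
      · intro b
        exact ⟨0, Subsingleton.elim _ _⟩
  have hb := fun V' => Groth.Agent.H8.app_bijective_of_flat_baseChange
    (IsPullback.of_hasPullback f t) hf V'
  rw [NatTrans.isIso_iff_isIso_app]
  intro V
  induction V using Opposite.rec with
  | _ V => exact (ConcreteCategory.isIso_iff_bijective _).mpr (hb V)

end Groth.Agent.S6463
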