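import Groth.Statements.S6473
import Mathlib
import Groth.Agent.H54.RegInter

set_option autoImplicit false
universe u
open CategoryTheory CategoryTheory.Limits AlgebraicGeometry
open IntMult

namespace Groth.Agent.S6473


section Helpers
open AlgebraicGeometry CategoryTheory CategoryTheory.Limits TopologicalSpace Topology Groth.Agent.H54

theorem main {K : Type u} [Field K] {X Y Z : Scheme.{u}}
    (gY : Y ⟶ Spec (CommRingCat.of K)) [LocallyOfFiniteType gY]
    (f : X ⟶ Y) [IsImmersion f] [QuasiCompact f] (c : ℕ)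
    (hloc : ∀ z : X, ∃ U : Y.affineOpens, f z ∈ U.1 ∧ IsClosedImmersion (f ∣_ U.1) ∧
      ∃ rs : List Γ(Y, U.1), rs.length = c ∧ RingHom.ker (f.app U.1).hom = Ideal.ofList rs)
    (ι : Z ⟶ Y) [IsClosedImmersion ι] [IsIntegral Z] (d : ℕ) (hd : topologicalKrullDim Z = d)
    (T : Set ↥(pullback f ι)) (hT : T ∈ irreducibleComponents ↥(pullback f ι)) :
    ((d : ℕ) : WithBot ℕ∞) ≤ topologicalKrullDim ↥T + c := by
  classical
  have hsnd_emb : IsEmbedding (pullback.snd f ι) := (pullback.snd f ι).isEmbedding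
  have hrange : Set.range (pullback.snd f ι) = ι ⁻¹' Set.range f := Scheme.Pullback.range_snd f ι
  have hlc : IsLocallyClosed (ι ⁻¹' Set.range f) := f.isLocallyClosed_range.preimage ι.continuous
  obtain ⟨U₀, Z₀, hU₀, hZ₀, hUZ⟩ := hlc
  have hTcl : IsClosed T := isClosed_of_mem_irreducibleComponents T hT
  have hTirr : IsIrreducible T := hT.1
  obtain ⟨a, ha⟩ := QuasiSober.sober hTirr hTcl
  have ha' : closure ({a} : Set ↥(pullback f ι)) = T := ha
  have haT : a ∈ T := ha' ▸ subset_closure rfl
  have hspecT : ∀ b : ↥(pullback f ι), a ⤳ b → b ∈ T :=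
    fun b h => ha' ▸ specializes_iff_mem_closure.mp h
  have hmaxT : ∀ b : ↥(pullback f ι), b ⤳ a → b = a := by
    intro b hb
    have hirr : IsIrreducible (closure ({b} : Set ↥(pullback f ι))) :=
      isIrreducible_singleton.closure
    have hsub : T ⊆ closure ({b} : Set ↥(pullback f ι)) := by
      rw [← ha']
      exact closure_minimal
        (Set.singleton_subset_iff.mpr (specializes_iff_mem_closure.mp hb)) isClosed_closure
    have hle : closure ({b} : Set ↥(pullback f ι)) ⊆ T := hT.2 hirr hsub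
    have hbT : b ∈ T := hle (subset_closure rfl)
    have hab : a ⤳ b := specializes_iff_mem_closure.mpr (ha' ▸ hbT)
    exact (hb.antisymm hab).eq
  have hfw : f.base ((pullback.fst f ι).base a) = ι.base ((pullback.snd f ι).base a) := by
    have h := congrArg (fun φ : pullback f ι ⟶ Y => φ.base a)
      (pullback.condition (f := f) (g := ι))
    exact h
  have hξ : ∀ z : Z, genericPoint Z ⤳ z := fun z => (genericPoint_spec Z).specializes trivial
  have hdξ : (d : WithBot ℕ∞) ≤ (tdeg (ι ≫ gY) (genericPoint Z) : WithBot ℕ∞) := by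
    rw [← hd]
    exact topologicalKrullDim_le_of_forall_tdeg_le (ι ≫ gY) _
      (fun z => tdeg_le_of_specializes (ι ≫ gY) (hξ z))
  obtain ⟨U, hwU, hcl, rs, hlen, hker⟩ := hloc ((pullback.fst f ι).base a)
  haveI := hcl
  have hmemUZ : (pullback.snd f ι).base a ∈ U₀ ∩ Z₀ := by
    rw [← hUZ, ← hrange]
    exact ⟨a, rfl⟩
  have hKR : tdeg (ι ≫ gY) (genericPoint Z) ≤ tdeg (ι ≫ gY) ((pullback.snd f ι).base a) + c :=
    tdeg_le_tdeg_add_of_minimal (ι ≫ gY) ι f U rs c hlen hker (genericPoint Z)
      ((pullback.snd f ι).base a) (hξ _) (hfw ▸ hwU) ⟨_, hfw⟩ (by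
        intro y _ hyx hyf
        have hy : y ∈ Set.range (pullback.snd f ι) := by rw [hrange]; exact hyf
        obtain ⟨b, rfl⟩ := hy
        have hb : b ⤳ a := hsnd_emb.isInducing.specializes_iff.mp hyx
        rw [hmaxT b hb])
  have hLC : (tdeg (ι ≫ gY) ((pullback.snd f ι).base a) : WithBot ℕ∞) ≤ topologicalKrullDim ↥T :=
    tdeg_le_dim_of_embedding (ι ≫ gY) (fun t : ↥T => (pullback.snd f ι).base t.1)
      (hsnd_emb.isInducing.comp IsInducing.subtypeVal) ⟨a, haT⟩ ⟨U₀, hU₀⟩ hmemUZ.1 (by
        rintro y ⟨hy1, hy2⟩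
        have hsp : (pullback.snd f ι).base a ⤳ y := specializes_iff_mem_closure.mpr hy1
        have hyZ : y ∈ Z₀ := hsp.mem_closed hZ₀ hmemUZ.2
        have hy : y ∈ Set.range (pullback.snd f ι) := by
          rw [hrange, hUZ]
          exact ⟨hy2, hyZ⟩
        obtain ⟨b, rfl⟩ := hy
        have hb : a ⤳ b := hsnd_emb.isInducing.specializes_iff.mp hsp
        exact ⟨⟨b, hspecT b hb⟩, rfl⟩)
  calc ((d : ℕ) : WithBot ℕ∞) ≤ (tdeg (ι ≫ gY) (genericPoint Z) : WithBot ℕ∞) := hdξ
    _ ≤ ((tdeg (ι ≫ gY) ((pullback.snd f ι).base a) + c : ℕ) : WithBot ℕ∞) := by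
        exact_mod_cast hKR
    _ = (tdeg (ι ≫ gY) ((pullback.snd f ι).base a) : WithBot ℕ∞) + (c : WithBot ℕ∞) :=
        Nat.cast_add _ _
    _ ≤ topologicalKrullDim ↥T + (c : WithBot ℕ∞) := add_le_add hLC le_rfl

end Helpers


/-- Let f : X → Y be a morphism of varieties over K which is a regular immersion of codimension c, and Z
⊂ Y a closed subvariety of dimension d. Then each irreducible component T of f⁻¹(Z) = X ×_Y Z
satisfies dim T ≥ d − c; stated as d ≤ dim T + c. Varieties: integral, separated, of finite type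
over the algebraically closed field K. (The published statement takes f to be a closed immersion,
regular immersions being closed there; this row allows any immersion cut out, locally on Y where it
is closed, by a regular sequence of length c, the bound being local on Y. The published statement
also has a second part, for local complete intersection morphisms of a given relative dimension,
which this row does not state.) -/
theorem result (K : Type u) [Field K] [IsAlgClosed K] (X Y Z : Scheme.{u}) (gX : X ⟶ Spec (CommRingCat.of K)) (gY : Y ⟶ Spec (CommRingCat.of K)) [IsSeparated gX] [LocallyOfFiniteType gX] [QuasiCompact gX] [IsIntegral X] [IsSeparated gY] [LocallyOfFiniteType gY] [QuasiCompact gY] [IsIntegral Y] (f : X ⟶ Y) (hf : f ≫ gY = gX) (c : ℕ) (hreg : RegImm.IsRegularImmersionOfCodim RegImm.Kind.regular c f) (ι : Z ⟶ Y) [IsClosedImmersion ι] [IsIntegral Z] (d : ℕ) (hd : topologicalKrullDim Z = d) (T : Set ↥(pullback f ι)) (hT : T ∈ irreducibleComponents ↥(pullback f ι)) : ((d : ℕ) : WithBot ℕ∞)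 ≤ topologicalKrullDim ↥T + c := by
  obtain ⟨himm, hloc⟩ := hreg
  haveI := himm
  haveI : IsLocallyNoetherian X := LocallyOfFiniteType.isLocallyNoetherian gX
  haveI : CompactSpace X := QuasiCompact.compactSpace_of_compactSpace gX
  haveI : IsNoetherian X := {}
  haveI : QuasiCompact f := ⟨fun U _ _ => TopologicalSpace.NoetherianSpace.isCompact _⟩
  refine main gY f c (fun z => ?_) ι d hd T hT
  obtain ⟨U, hzU, hcl, rs, hlen, -, hker⟩ := hloc z
  exact ⟨U, hzU, hcl, rs, hlen, hker⟩

end Groth.Agent.S6473
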