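import Groth.Statements.S6476
import Groth.Agent.S16234
import Mathlib

set_option autoImplicit false
universe u v
open CycAlg

namespace Groth.Agent.S6476

open IsLocalRing in
/-- For a finite module `M` of dimension one over a Noetherian local ring and an injective endomorphism
`θ`, the cokernel `M ⧸ θ M` has finite length. -/
theorem isFiniteLength_quotient_range {A : Type u} [CommRing A] [IsNoetherianRing A] [IsLocalRing A]
    {M : Type v} [AddCommGroup M] [Module A M] [Module.Finite A M]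
    (hdim : Module.supportDim A M = 1) (θ : M →ₗ[A] M) (hθ : Function.Injective θ) :
    IsFiniteLength A (M ⧸ LinearMap.range θ) := by
  rw [← Groth.Agent.S16234.result]
  intro p hp
  by_contra hpmax
  have hntr : Nontrivial M := by
    rw [← Module.supportDim_ne_bot_iff_nontrivial A, hdim]
    exact WithBot.coe_ne_bot
  have hpM : p ∈ Module.support A M :=
    Module.support_subset_of_surjective _ (Submodule.mkQ_surjective _) hp
  have h𝔪 : closedPoint A ∈ Module.support A M := IsLocalRing.closedPoint_mem_support A M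
  have hle : p ≤ closedPoint A := IsLocalRing.le_maximalIdeal p.2.ne_top
  have hne : p ≠ closedPoint A := by
    intro h
    apply hpmax
    rw [h]
    exact maximalIdeal.isMaximal A
  have hlt : p < closedPoint A := lt_of_le_of_ne hle hne
  have hkd : Order.krullDim (Module.support A M) ≤ 1 := by
    show Module.supportDim A M ≤ 1
    rw [hdim]
  rw [Order.krullDim_le_one_iff] at hkd
  have hmin : IsMin (⟨p, hpM⟩ : Module.support A M) := by
    refine (hkd ⟨p, hpM⟩).resolve_right (fun hmax ↦ ?_)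
    have h1 : (⟨closedPoint A, h𝔪⟩ : Module.support A M) ≤ ⟨p, hpM⟩ :=
      hmax (show (⟨p, hpM⟩ : Module.support A M) ≤ ⟨closedPoint A, h𝔪⟩ from hle)
    exact absurd (lt_of_lt_of_le hlt h1) (lt_irrefl _)
  -- localize at `p`
  let S : Submonoid A := p.asIdeal.primeCompl
  let Ap := Localization.AtPrime p.asIdeal
  let Mp := LocalizedModule S M
  let f : M →ₗ[A] Mp := LocalizedModule.mkLinearMap S M
  have hFL : IsFiniteLength Ap Mp := by
    rw [← Groth.Agent.S16234.result]
    intro P hP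
    let q : PrimeSpectrum A := PrimeSpectrum.comap (algebraMap A Ap) P
    have hqM : q ∈ Module.support A M := by
      rw [Module.mem_support_iff_of_finite]
      intro a ha
      have hann : algebraMap A Ap a ∈ Module.annihilator Ap Mp := by
        rw [Module.mem_annihilator]
        intro x
        induction x using LocalizedModule.induction_on with
        | h m s =>
          rw [algebraMap_smul, LocalizedModule.smul'_mk, Module.mem_annihilator.mp ha m,
            LocalizedModule.zero_mk]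
      exact Module.annihilator_le_of_mem_support hP hann
    have hqp : q ≤ p := by
      show q.asIdeal ≤ p.asIdeal
      intro a ha
      have h1 : algebraMap A Ap a ∈ maximalIdeal Ap := IsLocalRing.le_maximalIdeal P.2.ne_top ha
      exact (IsLocalization.AtPrime.to_map_mem_maximal_iff Ap p.asIdeal a).mp h1
    have hqeq : q = p := by
      have h1 : (⟨p, hpM⟩ : Module.support A M) ≤ ⟨q, hqM⟩ :=
        hmin (show (⟨q, hqM⟩ : Module.support A M) ≤ ⟨p, hpM⟩ from hqp)
      exact le_antisymm hqp h1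
    have hPmax : P.asIdeal = maximalIdeal Ap := by
      apply le_antisymm (IsLocalRing.le_maximalIdeal P.2.ne_top)
      rw [← Localization.AtPrime.map_eq_maximalIdeal, Ideal.map_le_iff_le_comap]
      have h1 : p.asIdeal ≤ q.asIdeal := by rw [hqeq]
      have h2 : q.asIdeal ≤ Ideal.comap (algebraMap A Ap) P.asIdeal := le_rfl
      exact h1.trans h2
    rw [hPmax]
    exact maximalIdeal.isMaximal Ap
  have hArt : IsArtinian Ap Mp := (isFiniteLength_iff_isNoetherian_isArtinian.mp hFL).2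
  let θp : Mp →ₗ[Ap] Mp := (IsLocalizedModule.map S f f θ).extendScalarsOfIsLocalization S Ap
  have hinj : Function.Injective θp := IsLocalizedModule.map_injective S f f θ hθ
  have hsurj : Function.Surjective θp := IsArtinian.surjective_of_injective_endomorphism θp hinj
  rw [Module.mem_support_iff'] at hp
  obtain ⟨x, hx⟩ := hp
  obtain ⟨m, rfl⟩ := Submodule.mkQ_surjective _ x
  obtain ⟨y, hy⟩ := hsurj (f m)
  obtain ⟨⟨n, t⟩, rfl⟩ := IsLocalizedModule.mk'_surjective S f y
  have hy' : IsLocalizedModule.mk' f (θ n) t = f m := by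
    rw [← hy]
    exact (IsLocalizedModule.map_mk' S f f θ n t).symm
  rw [IsLocalizedModule.mk'_eq_iff, Submonoid.smul_def, ← map_smul] at hy'
  obtain ⟨c, hc⟩ := (IsLocalizedModule.eq_iff_exists S f).mp hy'
  apply hx ((c : A) * (t : A)) (S.mul_mem c.2 t.2)
  rw [← map_smul, Submodule.mkQ_apply, Submodule.Quotient.mk_eq_zero, mul_smul]
  rw [Submonoid.smul_def, Submonoid.smul_def] at hc
  rw [← hc, ← map_smul]
  exact LinearMap.mem_range_self θ _

theorem core {A : Type u} [CommRing A] [IsNoetherianRing A] [IsLocalRing A] {M : Type v}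
    [AddCommGroup M] [Module A M] [Module.Finite A M] (hdim : Module.supportDim A M = 1)
    (φ ψ : M →ₗ[A] M) (hφ : Function.Injective φ) (hψ : Function.Injective ψ)
    (hcomm : Submodule.map φ (LinearMap.range ψ) = Submodule.map ψ (LinearMap.range φ))
    (K : Submodule A M) (hK : K = LinearMap.range (φ ∘ₗ ψ))
    (φ' ψ' : (M ⧸ K) →ₗ[A] (M ⧸ K))
    (hφ' : φ' ∘ₗ K.mkQ = K.mkQ ∘ₗ φ) (hψ' : ψ' ∘ₗ K.mkQ = K.mkQ ∘ₗ ψ) :
    Module.length A (M ⧸ K) < ⊤ ∧ CycAlg.IsPeriodic φ' ψ' ∧
      Subsingleton (CycAlg.perH φ' ψ') ∧ Subsingleton (CycAlg.perH ψ' φ') := by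
  have e1 : ∀ m, φ' (K.mkQ m) = K.mkQ (φ m) := fun m ↦ LinearMap.congr_fun hφ' m
  have e2 : ∀ m, ψ' (K.mkQ m) = K.mkQ (ψ m) := fun m ↦ LinearMap.congr_fun hψ' m
  have hK1 : K = Submodule.map φ (LinearMap.range ψ) := hK.trans (LinearMap.range_comp ψ φ)
  have hK2 : K = Submodule.map ψ (LinearMap.range φ) := hK1.trans hcomm
  have hφψ : ∀ m, φ (ψ m) ∈ K := fun m ↦ by
    rw [hK]
    exact ⟨m, rfl⟩
  have hψφ : ∀ m, ψ (φ m) ∈ K := fun m ↦ by
    rw [hK2]
    exact ⟨φ m, ⟨m, rfl⟩, rfl⟩
  have hmk0 : ∀ m, K.mkQ m = 0 ↔ m ∈ K := fun m ↦ by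
    rw [Submodule.mkQ_apply, Submodule.Quotient.mk_eq_zero]
  refine ⟨?_, ⟨?_, ?_⟩, ?_, ?_⟩
  · -- finite length
    have hA1 : IsArtinian A (M ⧸ LinearMap.range ψ) :=
      (isFiniteLength_iff_isNoetherian_isArtinian.mp
        (isFiniteLength_quotient_range hdim ψ hψ)).2
    have hA2 : IsArtinian A (M ⧸ LinearMap.range φ) :=
      (isFiniteLength_iff_isNoetherian_isArtinian.mp
        (isFiniteLength_quotient_range hdim φ hφ)).2
    have h1 : LinearMap.range ψ ≤ K.comap φ := by
      rintro _ ⟨n, rfl⟩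
      exact hφψ n
    have h2 : K ≤ (LinearMap.range φ).comap LinearMap.id := by
      intro x hx
      rw [hK] at hx
      obtain ⟨n, rfl⟩ := hx
      exact ⟨ψ n, rfl⟩
    let ι : (M ⧸ LinearMap.range ψ) →ₗ[A] (M ⧸ K) := Submodule.mapQ _ _ φ h1
    let g : (M ⧸ K) →ₗ[A] (M ⧸ LinearMap.range φ) := Submodule.mapQ _ _ LinearMap.id h2
    have hex : LinearMap.range ι = LinearMap.ker g := by
      apply le_antisymm
      · rintro _ ⟨x, rfl⟩
        obtain ⟨m, rfl⟩ := Submodule.mkQ_surjective _ x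
        rw [LinearMap.mem_ker]
        show g (ι (Submodule.Quotient.mk m)) = 0
        rw [Submodule.mapQ_apply, Submodule.mapQ_apply, Submodule.Quotient.mk_eq_zero]
        exact ⟨m, rfl⟩
      · intro x hx
        obtain ⟨m, rfl⟩ := Submodule.mkQ_surjective _ x
        rw [LinearMap.mem_ker] at hx
        change g (Submodule.Quotient.mk m) = 0 at hx
        rw [Submodule.mapQ_apply, Submodule.Quotient.mk_eq_zero] at hx
        obtain ⟨n, hn⟩ := hx
        refine ⟨Submodule.Quotient.mk n, ?_⟩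
        show ι (Submodule.Quotient.mk n) = Submodule.Quotient.mk m
        rw [Submodule.mapQ_apply, hn]
        rfl
    have hA : IsArtinian A (M ⧸ K) := isArtinian_of_range_eq_ker ι g hex
    have hFL : IsFiniteLength A (M ⧸ K) :=
      isFiniteLength_iff_isNoetherian_isArtinian.mpr ⟨inferInstance, hA⟩
    exact lt_top_iff_ne_top.mpr (Module.length_ne_top_iff.mpr hFL)
  · -- φ' ∘ ψ' = 0
    refine LinearMap.ext fun x ↦ ?_
    obtain ⟨m, rfl⟩ := K.mkQ_surjective x
    show φ' (ψ' (K.mkQ m)) = 0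
    rw [e2, e1, hmk0]
    exact hφψ m
  · refine LinearMap.ext fun x ↦ ?_
    obtain ⟨m, rfl⟩ := K.mkQ_surjective x
    show ψ' (φ' (K.mkQ m)) = 0
    rw [e1, e2, hmk0]
    exact hψφ m
  · -- ker φ' ≤ range ψ'
    rw [Submodule.Quotient.subsingleton_iff, Submodule.submoduleOf_eq_top]
    intro x hx
    obtain ⟨m, rfl⟩ := K.mkQ_surjective x
    rw [LinearMap.mem_ker, e1, hmk0, hK] at hx
    obtain ⟨n, hn⟩ := hx
    have : m = ψ n := hφ (by rw [← hn]; rfl)
    exact ⟨K.mkQ n, by rw [e2, this]⟩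
  · rw [Submodule.Quotient.subsingleton_iff, Submodule.submoduleOf_eq_top]
    intro x hx
    obtain ⟨m, rfl⟩ := K.mkQ_surjective x
    rw [LinearMap.mem_ker, e2, hmk0, hK2] at hx
    obtain ⟨_, ⟨n, rfl⟩, hn⟩ := hx
    have : m = φ n := hψ hn.symm
    exact ⟨K.mkQ n, by rw [e1, this]⟩


/-- Let A be a Noetherian local ring, M a finite A-module of dimension 1, and φ, ψ : M → M injective
with φ(ψ(M)) = ψ(φ(M)) (e.g. φ, ψ commute). Then length_A(M/φψM) is finite and (M/φψM, φ, ψ) is an
exact (2, 1)-periodic complex; here φ', ψ' denote the endomorphisms of M/φψM induced by φ and ψ, and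
exactness says both cohomology modules (CycAlg.perH) are trivial. -/
theorem result {A : Type u} [CommRing A] [IsNoetherianRing A] [IsLocalRing A] {M : Type v} [AddCommGroup M] [Module A M] [Module.Finite A M] (hdim : Module.supportDim A M = 1) (φ ψ : M →ₗ[A] M) (hφ : Function.Injective φ) (hψ : Function.Injective ψ) (hcomm : Submodule.map φ (LinearMap.range ψ) = Submodule.map ψ (LinearMap.range φ)) (φ' ψ' : (M ⧸ LinearMap.range (φ ∘ₗ ψ)) →ₗ[A] (M ⧸ LinearMap.range (φ ∘ₗ ψ))) (hφ' : φ' ∘ₗ (LinearMap.range (φ ∘ₗ ψ)).mkQ = (LinearMap.range (φ ∘ₗ ψ)).mkQ ∘ₗ φ) (hψ' : ψ' ∘ₗ (LinearMap.range (φ ∘ₗ ψ)).mkQ = (LinearMap.range (φ ∘ₗ ψ)).mkQ ∘ₗ ψ) : Module.length A (M ⧸ LinearMap.range (φ ∘ₗ ψ)) < ⊤ ∧ CycAlg.IsPeriodic φ' ψ' ∧ Subsingleton (CycAlg.perH φ' ψ') ∧ Subsingleton (CycAlg.perH ψ' φ') := by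
  exact core hdim φ ψ hφ hψ hcomm _ rfl φ' ψ' hφ' hψ'

end Groth.Agent.S6476
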