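import Groth.Statements.S6481
import Groth.Agent.H27.Glue2.Local
import Groth.Agent.H27.Glue2.Iso

set_option autoImplicit false
universe u
open CycAlg
open Groth.Agent.H27.Glue2

namespace Groth.Agent.S6481

/-- Let (A, 𝔪) be a 2-dimensional Noetherian local ring, t ∈ 𝔪 a nonzerodivisor with V(t) = {𝔪, 𝔮_1, …,
𝔮_r}, and A_{𝔮_i} ⊂ B_i finite ring extensions with B_i/A_{𝔮_i} annihilated by a power of t and with
t a nonzerodivisor on each B_i. Then A admits some finite extension A ⊂ B whose quotient B/A is
killed by some power of t, such that for every i the localization B_{𝔮_i} = B ⊗_A A_{𝔮_i} is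
isomorphic to B_i (existence of an A_{𝔮_i}-algebra isomorphism; B itself is only asserted to exist).
(The published statement allows any finite ring extensions A_{𝔮_i} ⊂ B_i; this row asks t to be a
nonzerodivisor on each B_i, the case its proof treats, where B_i sits inside t^{-n}A_{𝔮_i}. The
published statement also makes B local with the same residue field as A; this row omits that
clause.) Finite extension with quotient killed by a power of t: CycAlg.IsFinExt with the ideal (t). -/
theorem result (A : Type u) [CommRing A] [IsNoetherianRing A] [IsLocalRing A] (hA : ringKrullDim A = 2) (t : A) (ht : t ∈ IsLocalRing.maximalIdeal A) (htnz : t ∈ nonZeroDivisors A) (r : ℕ) (q : Fin r → Ideal A) (hq : ∀ i, (q i).IsPrime) (hinj : Function.Injective q) (hqm : ∀ i, q i ≠ IsLocalRing.maximalIdeal A) (htq : ∀ i, t ∈ q i) (hV : ∀ p : Ideal A, p.IsPrime → t ∈ p → p = IsLocalRing.maximalIdeal A ∨ ∃ i, p = q i) (B : Fin r → Type u) [∀ i, CommRing (B i)] [∀ i, Algebra (Localization.AtPrime (q i)) (B i)] (hB : ∀ i, CycAlg.IsFinExt (Localization.AtPrime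 (q i)) (B i) (Ideal.span {algebraMap A (Localization.AtPrime (q i)) t})) (htB : ∀ i, IsSMulRegular (B i) (algebraMap A (Localization.AtPrime (q i)) t)) : ∃ (C : Type u) (_ : CommRing C) (_ : Algebra A C), CycAlg.IsFinExt A C (Ideal.span {t}) ∧ ∀ i, Nonempty (TensorProduct A (Localization.AtPrime (q i)) C ≃ₐ[Localization.AtPrime (q i)] B i) := by
  classical
  haveI : ∀ i, (q i).IsPrime := hq
  -- the exponent n
  choose nn hnn using fun i => (hB i).2.2
  obtain ⟨n, hn⟩ : ∃ n, ∀ i, nn i ≤ n :=
    ⟨∑ i, nn i, fun i => Finset.single_le_sum (fun _ _ => Nat.zero_le _) (Finset.mem_univ i)⟩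
  have hBinj : ∀ i, Function.Injective (algebraMap (Localization.AtPrime (q i)) (B i)) :=
    fun i => (hB i).1
  have hBcok : ∀ i, ∀ b : B i, ∃ α : Localization.AtPrime (q i),
      algebraMap (Localization.AtPrime (q i)) (B i) α = fB q B i t ^ n * b := by
    intro i b
    have h1 : algebraMap A (Localization.AtPrime (q i)) t ^ n ∈
        Ideal.span {algebraMap A (Localization.AtPrime (q i)) t} ^ nn i :=
      Ideal.pow_le_pow_right (hn i) (Ideal.pow_mem_pow (Ideal.mem_span_singleton_self _) n)
    obtain ⟨α, hα⟩ := hnn i _ h1 b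
    refine ⟨α, ?_⟩
    rw [hα, Algebra.smul_def, map_pow]
    rfl
  have hreg : ∀ i, fB q B i t ∈ nonZeroDivisors (B i) := by
    intro i
    rw [mem_nonZeroDivisors_iff_left]
    intro x hx
    apply htB i
    show algebraMap A (Localization.AtPrime (q i)) t • x =
      algebraMap A (Localization.AtPrime (q i)) t • (0 : B i)
    rw [smul_zero, Algebra.smul_def]
    exact hx
  -- the exponent c
  have hc : ∃ c, IsLocalRing.maximalIdeal A ^ c * J t B (fB q B) (n + n) ≤
      Ideal.span {t ^ n} * J t B (fB q B) n := by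
    let I : Ideal A :=
      { carrier := {m | ∀ a ∈ J t B (fB q B) (n + n),
          m * a ∈ Ideal.span {t ^ n} * J t B (fB q B) n}
        add_mem' := fun {m m'} hm hm' a ha => by
          rw [add_mul]; exact Ideal.add_mem _ (hm a ha) (hm' a ha)
        zero_mem' := fun a _ => by rw [zero_mul]; exact Ideal.zero_mem _
        smul_mem' := fun r m hm a ha => by
          rw [smul_eq_mul, mul_assoc]; exact Ideal.mul_mem_left _ r (hm a ha) }
    have hrad : IsLocalRing.maximalIdeal A ≤ I.radical := by
      rw [Ideal.radical_eq_sInf]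
      refine le_sInf ?_
      rintro P ⟨hIP, hPprime⟩
      have htnI : t ^ n ∈ I := by
        intro a ha
        exact Ideal.mul_mem_mul (Ideal.mem_span_singleton_self _)
          (J_anti t B (fB q B) (Nat.le_add_right n n) ha)
      have htP : t ∈ P := hPprime.mem_of_pow_mem n (hIP htnI)
      rcases hV P hPprime htP with h | ⟨i, rfl⟩
      · exact h.ge
      · exfalso
        obtain ⟨S, hS⟩ := (IsNoetherian.noetherian (J t B (fB q B) (n + n)))
        have key : ∀ S' : Finset A, (∀ g ∈ S', g ∈ J t B (fB q B) (n + n)) →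
            ∃ s, s ∉ q i ∧ ∀ g ∈ S', s * g ∈ Ideal.span {t ^ n} * J t B (fB q B) n := by
          intro S'
          induction S' using Finset.induction_on with
          | empty =>
            exact fun _ => ⟨1, fun h => (hq i).ne_top ((Ideal.eq_top_iff_one _).mpr h),
              fun g hg => absurd hg (Finset.notMem_empty g)⟩
          | insert g S' hg ih =>
            intro h
            obtain ⟨s, hs, hs'⟩ := ih (fun g' hg' => h g' (Finset.mem_insert_of_mem hg'))
            obtain ⟨s₁, hs₁, hs₁'⟩ := exists_mul_mem t q B n hBinj hBcok hreg g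
              (h g (Finset.mem_insert_self g S')) i
            refine ⟨s * s₁, (q i).primeCompl.mul_mem hs hs₁, ?_⟩
            intro g' hg'
            rcases Finset.mem_insert.mp hg' with rfl | hg'
            · rw [mul_assoc]; exact Ideal.mul_mem_left _ s hs₁'
            · rw [mul_comm s s₁, mul_assoc]; exact Ideal.mul_mem_left _ s₁ (hs' g' hg')
        obtain ⟨s, hs, hs'⟩ := key S (fun g hg => hS ▸ Submodule.subset_span hg)
        apply hs
        apply hIP
        intro a ha
        rw [← hS] at ha
        induction ha using Submodule.span_induction with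
        | mem g hg => exact hs' g hg
        | zero => rw [mul_zero]; exact Ideal.zero_mem _
        | add x y _ _ hx hy => rw [mul_add]; exact Ideal.add_mem _ hx hy
        | smul r x _ hx => rw [smul_eq_mul, mul_left_comm]; exact Ideal.mul_mem_left _ r hx
    obtain ⟨c, hc⟩ := Ideal.exists_pow_le_of_le_radical_of_fg hrad (IsNoetherian.noetherian _)
    refine ⟨c, ?_⟩
    rw [Ideal.mul_le]
    intro m hm a ha
    exact hc hm a ha
  obtain ⟨c, hc⟩ := hc
  refine ⟨Csub t B (fB q B) (IsLocalRing.maximalIdeal A) n c hc, inferInstance, inferInstance,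
    ⟨injective_algebraMap_Csub t B (fB q B) _ n c hc htnz, finite_Csub t B (fB q B) _ n c hc,
      n, fun r hr x => coker_Csub t B (fB q B) _ n c hc r hr x⟩, ?_⟩
  intro i
  refine nonempty_algEquiv (q i) (phi t B (fB q B) (IsLocalRing.maximalIdeal A) n c hc hreg i)
    (fun a => phi_algebraMap t B (fB q B) _ n c hc hreg i a) ?_ ?_
  · intro b
    obtain ⟨s, hs, a, ha, hab⟩ := exists_lift_elem hA t htnz q hinj hqm htq B n hBcok i b
    obtain ⟨z, hzm, hzq⟩ : ∃ z ∈ IsLocalRing.maximalIdeal A, z ∉ q i := by
      by_contra hcon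
      push Not at hcon
      exact hqm i ((IsLocalRing.maximalIdeal.isMaximal A).eq_of_le (hq i).ne_top hcon).symm
    have ha' : z ^ (c + 1) * a ∈ I0 t B (fB q B) (IsLocalRing.maximalIdeal A) n c :=
      mul_mem_I0 t B (fB q B) _ n c (Ideal.pow_mem_pow hzm _) ha
    have hzq' : z ^ (c + 1) ∈ (q i).primeCompl :=
      pow_mem (show z ∈ (q i).primeCompl from hzq) (c + 1)
    refine ⟨z ^ (c + 1) * s, (q i).primeCompl.mul_mem hzq' hs,
      ⟨ell t n _, ell_mem t B (fB q B) _ n c hc ha'⟩, ?_⟩
    have h1 := phi_ell t B (fB q B) (IsLocalRing.maximalIdeal A) n c hc hreg i ha'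
    have hnz : fB q B i t ^ n ∈ nonZeroDivisors (B i) := pow_mem (hreg i) n
    apply (mul_cancel_left_mem_nonZeroDivisors hnz).mp
    rw [← h1, map_mul, hab, ← fB_apply, map_mul]
    ring
  · rintro ⟨x, a, ha, hax⟩ hx
    have h1 := phi_key t B (fB q B) (IsLocalRing.maximalIdeal A) n c hc hreg i
      ⟨x, a, ha, hax⟩ a hax
    rw [hx, mul_zero] at h1
    have h2 : algebraMap A (Localization.AtPrime (q i)) a = 0 := by
      apply hBinj i
      rw [map_zero]
      exact h1
    obtain ⟨s, hs⟩ := (IsLocalization.map_eq_zero_iff (q i).primeCompl _ a).mp h2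
    refine ⟨s, s.2, ?_⟩
    apply Subtype.ext
    show (s : A) • x = 0
    apply (isUnit_pow t n).mul_left_cancel
    rw [mul_zero, Algebra.smul_def, mul_left_comm, ← hax, ← map_mul, hs, map_zero]

end Groth.Agent.S6481
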