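import Groth.Statements.S6482
-- import your own Groth.Agent.* helpers here

set_option autoImplicit false
universe u
open CategoryTheory AlgebraicGeometry
open CategoryTheory.Limits
open Cyc

namespace Groth.Agent.S6482

/-- residue degree one at a point with surjective residue field map. -/
theorem residueDegree_eq_one {X Y : Scheme.{u}} (f : Y ⟶ X) (y : Y)
    (h : Function.Surjective (f.residueFieldMap y).hom) : f.residueDegree y = 1 := by
  letI := (f.residueFieldMap y).hom.toAlgebra
  have hb : Function.Bijective (algebraMap (X.residueField (f y)) (Y.residueField y)) :=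
    ⟨(f.residueFieldMap y).hom.injective, h⟩
  exact Module.finrank_of_bijective_algebraMap hb

/-- transcendence degree zero at a point with surjective residue field map. -/
theorem trdeg_eq_zero' {X Y : Scheme.{u}} (f : Y ⟶ X) (y : Y)
    (h : Function.Surjective (f.residueFieldMap y).hom) :
    (letI := (f.residueFieldMap y).hom.toAlgebra
     Algebra.trdeg (X.residueField (f y)) (Y.residueField y)) = 0 := by
  letI := (f.residueFieldMap y).hom.toAlgebra
  have hs : Function.Surjective (algebraMap (X.residueField (f y)) (Y.residueField y)) := h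
  have : Algebra.IsIntegral (X.residueField (f y)) (Y.residueField y) :=
    Algebra.isIntegral_of_surjective hs
  exact _root_.trdeg_eq_zero


/-- Let f : Y → X be an envelope. Then f_* : Z_k(Y) → Z_k(X) is surjective, hence so is f_* : CH_k(Y) →
CH_k(X). An envelope is a proper, completely decomposed morphism (every point of the target has a
point over it with trivial residue field extension; this prelude's Cyc.IsCompletelyDecomposed). Here
a pair (X, δ) with Cyc.IsSetup plays the role of a scheme locally of finite type over the base (S,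
δ) (X locally Noetherian with universally catenary local rings, δ a dimension function), and
Cyc.DeltaCompat records that the dimension function upstairs is the induced one. -/
theorem result (X Y : Scheme.{u}) (δ : X → ℤ) (δY : Y → ℤ) (hX : Cyc.IsSetup X δ) (hY : Cyc.IsSetup Y δY) (f : Y ⟶ X) [IsProper f] (hcd : Cyc.IsCompletelyDecomposed f) (hδ : Cyc.DeltaCompat f δY δ) (k : ℤ) (α : AlgebraicCycle X ℤ) (hα : α ∈ Cyc.Zk X δ k) : ∃ β : AlgebraicCycle Y ℤ, β ∈ Cyc.Zk Y δY k ∧ AlgebraicCycle.map f δY δ β = α := by
  classical
  choose s hs hsurj using hcd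
  let βf : Y → ℤ := fun y => if s (f y) = y then α (f y) else 0
  have hsupp : ∀ y, βf y ≠ 0 → s (f y) = y ∧ α (f y) ≠ 0 := by
    intro y hy
    by_cases h : s (f y) = y
    · refine ⟨h, ?_⟩
      simpa [βf, h] using hy
    · exact absurd (by simp [βf, h]) hy
  have hβs : ∀ x, βf (s x) = α x := by
    intro x
    simp [βf, hs x]
  let β : AlgebraicCycle Y ℤ :=
    { toFun := βf
      supportWithinDomain' := Set.subset_univ _
      supportLocallyFiniteWithinDomain' := fun y' _ => by
        obtain ⟨t, ht, hfin⟩ := α.supportLocallyFiniteWithinDomain' (f y') (Set.mem_univ _)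
        refine ⟨f ⁻¹' t, f.continuous.continuousAt.preimage_mem_nhds ht, ?_⟩
        refine (hfin.image s).subset ?_
        rintro y ⟨hy1, hy2⟩
        obtain ⟨h1, h2⟩ := hsupp y hy2
        exact ⟨f y, ⟨hy1, h2⟩, h1⟩ }
  have hβ : ∀ y, β y = βf y := fun y => rfl
  have hdelta : ∀ x, δY (s x) = δ x := by
    intro x
    obtain ⟨n, hn, hδy⟩ := hδ (s x)
    have h0 := trdeg_eq_zero' f (s x) (hsurj x)
    have hn0 : n = 0 := by
      have : ((n : ℕ) : Cardinal) = 0 := hn.symm.trans h0
      exact_mod_cast this
    rw [hδy, hn0, hs x]
    simp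
  refine ⟨β, ?_, ?_⟩
  · intro y hy
    by_contra hne
    obtain ⟨h1, h2⟩ := hsupp y hne
    have hk : δ (f y) = k := by
      by_contra h
      exact h2 (hα _ h)
    apply hy
    rw [← h1, hdelta, hk]
  · ext x
    simp only [AlgebraicCycle.map, Function.locallyFinsupp.map_apply]
    have hcoef : (AlgebraicCycle.mapCoeff f δY δ (s x) : ℤ) = 1 := by
      unfold AlgebraicCycle.mapCoeff
      rw [if_pos (by rw [hdelta, hs x]), residueDegree_eq_one f (s x) (hsurj x)]
      simp
    rw [finsum_mem_inter_support_eq' _ (f ⁻¹' {x}) {s x}]
    · rw [finsum_mem_singleton, hβ, hβs, hcoef, mul_one]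
    · intro y hy
      have hy' : β y * (AlgebraicCycle.mapCoeff f δY δ y : ℤ) ≠ 0 := hy
      have hβy : βf y ≠ 0 := fun h0 => hy' (by rw [hβ, h0, zero_mul])
      obtain ⟨h1, h2⟩ := hsupp y hβy
      constructor
      · intro hyx
        have : f y = x := hyx
        rw [Set.mem_singleton_iff, ← h1, this]
      · intro hyx
        rw [Set.mem_singleton_iff] at hyx
        change f y = x
        rw [hyx, hs x]

end Groth.Agent.S6482
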