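import Groth.Statements.S6484
-- import your own Groth.Agent.* helpers here

set_option autoImplicit false
universe u
open CategoryTheory AlgebraicGeometry
open CategoryTheory.Limits
open Cyc

namespace Groth.Agent.S6484

/-- If f : Y → X is completely decomposed (this prelude's Cyc.IsCompletelyDecomposed: over every point
of X lies a point of Y with trivial residue field extension) and g : X' → X is any morphism of
schemes, then the base change Y ×_X X' → X' is completely decomposed. Consequently the base change
of an envelope (a proper completely decomposed morphism) is an envelope, properness being preserved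
by base change. (The published envelope statement takes X′ → X between schemes locally of finite
type over a base; this row allows any g.) -/
theorem result (X X' Y : Scheme.{u}) (f : Y ⟶ X) (g : X' ⟶ X) (hcd : Cyc.IsCompletelyDecomposed f) : Cyc.IsCompletelyDecomposed (pullback.snd f g) := by
  intro x'
  obtain ⟨y, hy, hsurj⟩ := hcd (g x')
  have hbij : Function.Bijective (f.residueFieldMap y).hom :=
    ⟨(f.residueFieldMap y).hom.injective, hsurj⟩
  obtain ⟨φ, hφ⟩ : ∃ φ : Y.residueField y ⟶ X'.residueField x',
      f.residueFieldMap y ≫ φ = (X.residueFieldCongr hy).hom ≫ g.residueFieldMap x' := by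
    let e : X.residueField (f y) ≃+* Y.residueField y :=
      RingEquiv.ofBijective (f.residueFieldMap y).hom hbij
    let φ₀ : Y.residueField y ⟶ X.residueField (f y) := CommRingCat.ofHom e.symm.toRingHom
    have hφ₀ : f.residueFieldMap y ≫ φ₀ = 𝟙 _ := by
      ext a
      exact e.symm_apply_apply a
    refine ⟨φ₀ ≫ (X.residueFieldCongr hy).hom ≫ g.residueFieldMap x', ?_⟩
    rw [← Category.assoc, hφ₀, Category.id_comp]
  let K : Type u := X'.residueField x'
  let a : Spec (CommRingCat.of K) ⟶ Y := Spec.map φ ≫ Y.fromSpecResidueField y
  let b : Spec (CommRingCat.of K) ⟶ X' := X'.fromSpecResidueField x'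
  have w : a ≫ f = b ≫ g := by
    calc a ≫ f = Spec.map φ ≫ (Y.fromSpecResidueField y ≫ f) := Category.assoc _ _ _
      _ = Spec.map φ ≫ (Spec.map (f.residueFieldMap y) ≫ X.fromSpecResidueField (f y)) := by
          rw [Scheme.Hom.SpecMap_residueFieldMap_fromSpecResidueField]
      _ = Spec.map (f.residueFieldMap y ≫ φ) ≫ X.fromSpecResidueField (f y) := by
          rw [Spec.map_comp, Category.assoc]
      _ = Spec.map ((X.residueFieldCongr hy).hom ≫ g.residueFieldMap x') ≫
            X.fromSpecResidueField (f y) := by rw [hφ]
      _ = Spec.map (g.residueFieldMap x') ≫ (Spec.map (X.residueFieldCongr hy).hom ≫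
            X.fromSpecResidueField (f y)) := by rw [Spec.map_comp, Category.assoc]
      _ = Spec.map (g.residueFieldMap x') ≫ X.fromSpecResidueField (g x') := by
          rw [Scheme.residueFieldCongr_fromSpecResidueField]
      _ = b ≫ g := Scheme.Hom.SpecMap_residueFieldMap_fromSpecResidueField g x'
  let h : Spec (CommRingCat.of K) ⟶ pullback f g := pullback.lift a b w
  have hsnd : h ≫ pullback.snd f g = b := pullback.lift_snd _ _ _
  have e1 : (Scheme.SpecToEquivOfField K X') (h ≫ pullback.snd f g) = ⟨x', 𝟙 _⟩ := by
    rw [hsnd]
    have hb : b = (Scheme.SpecToEquivOfField K X').symm ⟨x', 𝟙 _⟩ := by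
      change b = Spec.map (𝟙 _) ≫ X'.fromSpecResidueField x'
      rw [Spec.map_id]
      exact (Category.id_comp _).symm
    rw [hb, Equiv.apply_symm_apply]
  rw [Scheme.SpecToEquivOfField_eq_iff] at e1
  obtain ⟨e0, e2⟩ := e1
  have e3 := Scheme.descResidueField_stalkClosedPointTo_comp (f := pullback.snd f g) h
  refine ⟨h (IsLocalRing.closedPoint K), e0, ?_⟩
  intro t
  have e4 : (pullback.snd f g).residueFieldMap (h (IsLocalRing.closedPoint K)) ≫
      Scheme.descResidueField (Scheme.stalkClosedPointTo h) =
      (X'.residueFieldCongr e0).hom ≫ 𝟙 _ := e3.symm.trans e2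
  have hd : Function.Injective (Scheme.descResidueField (Scheme.stalkClosedPointTo h)).hom :=
    (Scheme.descResidueField (Scheme.stalkClosedPointTo h)).hom.injective
  refine ⟨(X'.residueFieldCongr e0).inv
    ((Scheme.descResidueField (Scheme.stalkClosedPointTo h)).hom t), hd ?_⟩
  have e5 := congrArg (fun q => q.hom ((X'.residueFieldCongr e0).inv
    ((Scheme.descResidueField (Scheme.stalkClosedPointTo h)).hom t))) e4
  have e6 : ((X'.residueFieldCongr e0).hom ≫ 𝟙 _).hom ((X'.residueFieldCongr e0).inv
      ((Scheme.descResidueField (Scheme.stalkClosedPointTo h)).hom t)) =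
      (Scheme.descResidueField (Scheme.stalkClosedPointTo h)).hom t := by
    rw [Category.comp_id]
    exact Iso.inv_hom_id_apply (X'.residueFieldCongr e0) _
  exact e5.trans e6

end Groth.Agent.S6484
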