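import Groth.Statements.S6485
import Mathlib

set_option autoImplicit false
universe u
open IntMult

namespace Groth.Agent.S6485

open MvPolynomial

section general
variable {k : Type u} [Field k] {σ : Type*}

theorem aeval_congr_support {A : Type*} [CommRing A] [Algebra k A] (p : MvPolynomial σ k)
    (F G : σ → A) (h : ∀ m ∈ p.support, ∀ w ∈ m.support, F w = G w) :
    aeval F p = aeval G p := by
  rw [aeval_def, aeval_def, eval₂_eq, eval₂_eq]
  refine Finset.sum_congr rfl fun m hm => ?_
  congr 1
  exact Finset.prod_congr rfl fun w hw => by rw [h m hm w hw]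

theorem eval_congr_support (p : MvPolynomial σ k)
    (F G : σ → k) (h : ∀ m ∈ p.support, ∀ w ∈ m.support, F w = G w) :
    eval F p = eval G p := by
  rw [eval_eq, eval_eq]
  refine Finset.sum_congr rfl fun m hm => ?_
  congr 1
  exact Finset.prod_congr rfl fun w hw => by rw [h m hm w hw]

theorem ne_of_degreeOf_eq_zero {p : MvPolynomial σ k} {v : σ} (hv : degreeOf v p = 0)
    {m : σ →₀ ℕ} (hm : m ∈ p.support) {w : σ} (hw : w ∈ m.support) : w ≠ v := by
  rintro rfl
  have h1 := monomial_le_degreeOf w hm
  rw [hv] at h1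
  exact (Finsupp.mem_support_iff.mp hw) (Nat.le_zero.mp h1)

theorem isUnit_of_degreeOf_eq_zero {p : MvPolynomial σ k} (hp : p ≠ 0)
    (h : ∀ v, degreeOf v p = 0) : IsUnit p := by
  classical
  have hpC : p = C (coeff 0 p) := by
    ext m
    rw [coeff_C]
    by_cases hm : 0 = m
    · rw [if_pos hm, hm]
    · rw [if_neg hm]
      by_contra hc
      have hms : m ∈ p.support := mem_support_iff.mpr hc
      have hm0 : m = 0 := by
        ext w
        have h1 := monomial_le_degreeOf w hms
        rw [h w] at h1
        simpa using Nat.le_zero.mp h1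
      exact hm hm0.symm
  have hc : coeff 0 p ≠ 0 := by
    intro h0
    rw [h0, C_0] at hpC
    exact hp hpC
  rw [hpC]
  exact (isUnit_iff_ne_zero.mpr hc).map C

end general

section det
variable (k : Type u) [Field k] (n : ℕ)

theorem detdeg {n : ℕ} {k : Type u} [Field k]
    (Y : Fin n × Fin n → MvPolynomial (Fin n × Fin n) k) (u : Fin n × Fin n)
    (hY1 : ∀ w, degreeOf u (Y w) ≤ 1)
    (hT : ∀ τ : Equiv.Perm (Fin n), ∀ i j, degreeOf u (Y (τ i, i)) ≠ 0 →
      degreeOf u (Y (τ j, j)) ≠ 0 → i = j) :
    degreeOf u (Matrix.det (Matrix.of fun a b => Y (a, b))) ≤ 1 := by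
  classical
  rw [Matrix.det_apply']
  refine (degreeOf_sum_le _ _ _).trans (Finset.sup_le fun τ _ => ?_)
  refine (degreeOf_mul_le _ _ _).trans ?_
  have h0 : degreeOf u ((Equiv.Perm.sign τ : ℤ) : MvPolynomial (Fin n × Fin n) k) = 0 := by
    rw [← map_intCast (C : k →+* MvPolynomial (Fin n × Fin n) k), degreeOf_C]
  rw [h0, zero_add]
  refine (degreeOf_prod_le _ _ _).trans ?_
  simp only [Matrix.of_apply]
  rw [← Finset.sum_filter_ne_zero]
  refine (Finset.sum_le_card_nsmul _ _ 1 fun i _ => hY1 _).trans ?_
  rw [smul_eq_mul, mul_one]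
  refine Finset.card_le_one.mpr fun i hi j hj => ?_
  exact hT τ i j (Finset.mem_filter.mp hi).2 (Finset.mem_filter.mp hj).2

theorem det_eq_of : (Matrix.mvPolynomialX (Fin n) (Fin n) k) =
    Matrix.of fun a b => (X (a, b) : MvPolynomial (Fin n × Fin n) k) := by
  ext i j
  rw [Matrix.mvPolynomialX_apply, Matrix.of_apply]

theorem degreeOf_X_le (u w : Fin n × Fin n) :
    degreeOf u (X w : MvPolynomial (Fin n × Fin n) k) ≤ 1 := by
  classical
  rw [degreeOf_X]
  split_ifs <;> omega

theorem eq_of_degreeOf_X_ne_zero {u w : Fin n × Fin n}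
    (h : degreeOf u (X w : MvPolynomial (Fin n × Fin n) k) ≠ 0) : u = w := by
  classical
  rw [degreeOf_X] at h
  by_contra hne
  rw [if_neg hne] at h
  exact h rfl

theorem degreeOf_det_le (v : Fin n × Fin n) :
    degreeOf v (Matrix.mvPolynomialX (Fin n) (Fin n) k).det ≤ 1 := by
  rw [det_eq_of]
  apply detdeg (fun w => X w) v (fun w => degreeOf_X_le k n v w)
  intro τ i j hi hj
  have h1 := eq_of_degreeOf_X_ne_zero k n hi
  have h2 := eq_of_degreeOf_X_ne_zero k n hj
  have e1 : v.2 = i := congrArg Prod.snd h1
  have e2 : v.2 = j := congrArg Prod.snd h2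
  rw [← e1, ← e2]

theorem degreeOf_det_ne_zero (v : Fin n × Fin n) :
    degreeOf v (Matrix.mvPolynomialX (Fin n) (Fin n) k).det ≠ 0 := by
  classical
  intro h0
  obtain ⟨a, b⟩ := v
  let τ : Equiv.Perm (Fin n) := Equiv.swap a b
  let s : Fin n × Fin n → k := fun w => (1 : Matrix (Fin n) (Fin n) k) (τ w.1) w.2
  let s' : Fin n × Fin n → k := fun w => if w = (a, b) then 0 else s w
  have hcongr : eval s (Matrix.mvPolynomialX (Fin n) (Fin n) k).det =
      eval s' (Matrix.mvPolynomialX (Fin n) (Fin n) k).det := by
    apply eval_congr_support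
    intro m hm w hw
    have hne := ne_of_degreeOf_eq_zero h0 hm hw
    show s w = if w = (a, b) then 0 else s w
    rw [if_neg hne]
  rw [Matrix.eval_det_mvPolynomialX, Matrix.eval_det_mvPolynomialX] at hcongr
  have h1 : (Matrix.of fun i j : Fin n => s (i, j)).det = ((Equiv.Perm.sign τ : ℤ) : k) := by
    have : (Matrix.of fun i j : Fin n => s (i, j)) =
        (1 : Matrix (Fin n) (Fin n) k).submatrix τ id := by
      ext i j
      rfl
    rw [this, Matrix.det_permute, Matrix.det_one, mul_one]
  have h2 : (Matrix.of fun i j : Fin n => s' (i, j)).det = 0 := by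
    apply Matrix.det_eq_zero_of_row_eq_zero a
    intro j
    show (if (a, j) = (a, b) then (0 : k) else s (a, j)) = 0
    by_cases hj : j = b
    · rw [if_pos (by rw [hj])]
    · rw [if_neg (fun h => hj (congrArg Prod.snd h))]
      show (1 : Matrix (Fin n) (Fin n) k) (τ a) j = 0
      have : τ a = b := Equiv.swap_apply_left a b
      rw [this, Matrix.one_apply_ne (Ne.symm hj)]
  rw [h1, h2] at hcongr
  have hu : IsUnit ((Equiv.Perm.sign τ : ℤ) : k) :=
    (Int.castRingHom k).isUnit_map (Units.isUnit _)
  exact hu.ne_zero hcongr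

theorem degreeOf_det (v : Fin n × Fin n) :
    degreeOf v (Matrix.mvPolynomialX (Fin n) (Fin n) k).det = 1 :=
  le_antisymm (degreeOf_det_le k n v) (Nat.one_le_iff_ne_zero.mpr (degreeOf_det_ne_zero k n v))

theorem key (f g : MvPolynomial (Fin n × Fin n) k) (hf : f ≠ 0) (hg : g ≠ 0)
    (hfg : (Matrix.mvPolynomialX (Fin n) (Fin n) k).det = f * g)
    (u v : Fin n × Fin n) (huv : u.1 = v.1 ∨ u.2 = v.2)
    (hfu : degreeOf u f = 1) (hfv : degreeOf v f = 0)
    (hgv : degreeOf v g = 1) (hgu : degreeOf u g = 0) : False := by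
  classical
  have hne : u ≠ v := by
    rintro rfl
    rw [hfu] at hfv
    exact one_ne_zero hfv
  let Yf : Fin n × Fin n → MvPolynomial (Fin n × Fin n) k := fun w => if w = v then X u else X w
  have hθf : aeval Yf f = f := by
    have : aeval Yf f = aeval X f := by
      apply aeval_congr_support
      intro m hm w hw
      have hwv := ne_of_degreeOf_eq_zero hfv hm hw
      show (if w = v then X u else X w) = X w
      rw [if_neg hwv]
    rw [this, aeval_X_left_apply]
  have hθg : aeval Yf g = rename (Equiv.swap u v) g := by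
    rw [rename_eq_aeval]
    apply aeval_congr_support
    intro m hm w hw
    have hwu := ne_of_degreeOf_eq_zero hgu hm hw
    show (if w = v then X u else X w) = X (Equiv.swap u v w)
    by_cases hwv : w = v
    · rw [if_pos hwv, hwv, Equiv.swap_apply_right]
    · rw [if_neg hwv, Equiv.swap_apply_of_ne_of_ne hwu hwv]
  have hrg : rename (Equiv.swap u v) g ≠ 0 := by
    intro h
    apply hg
    apply rename_injective _ (Equiv.swap u v).injective
    rw [h, map_zero]
  have hdeg2 : degreeOf u (aeval Yf (Matrix.mvPolynomialX (Fin n) (Fin n) k).det) = 2 := by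
    rw [hfg, map_mul, hθf, hθg, degreeOf_mul_eq hf hrg, hfu]
    have := degreeOf_rename_of_injective (p := g) (Equiv.swap u v).injective v
    rw [Equiv.swap_apply_right] at this
    rw [this, hgv]
  have hdet : aeval Yf (Matrix.mvPolynomialX (Fin n) (Fin n) k).det =
      Matrix.det (Matrix.of fun a b => Yf (a, b)) := by
    rw [AlgHom.map_det]
    congr 1
    ext i j
    simp [Matrix.mvPolynomialX_apply]
  have hY1 : ∀ w, degreeOf u (Yf w) ≤ 1 := by
    intro w
    show degreeOf u (if w = v then X u else X w) ≤ 1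
    split_ifs
    · exact degreeOf_X_le k n u u
    · exact degreeOf_X_le k n u w
  have hYne : ∀ w, degreeOf u (Yf w) ≠ 0 → w = v ∨ w = u := by
    intro w hw
    by_cases hwv : w = v
    · exact Or.inl hwv
    · right
      have : degreeOf u (X w : MvPolynomial (Fin n × Fin n) k) ≠ 0 := by
        have h' : Yf w = X w := if_neg hwv
        rwa [h'] at hw
      exact (eq_of_degreeOf_X_ne_zero k n this).symm
  have hle := detdeg Yf u hY1 (by
    intro τ i j hi hj
    rcases hYne _ hi with h1 | h1 <;> rcases hYne _ hj with h2 | h2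
    · have e1 : i = v.2 := congrArg Prod.snd h1
      have e2 : j = v.2 := congrArg Prod.snd h2
      rw [e1, e2]
    · have e1 : i = v.2 := congrArg Prod.snd h1
      have e2 : j = u.2 := congrArg Prod.snd h2
      have f1 : τ i = v.1 := congrArg Prod.fst h1
      have f2 : τ j = u.1 := congrArg Prod.fst h2
      rcases huv with h | h
      · have : τ i = τ j := by rw [f1, f2, h]
        exact τ.injective this
      · rw [e1, e2, h]
    · have e1 : i = u.2 := congrArg Prod.snd h1
      have e2 : j = v.2 := congrArg Prod.snd h2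
      have f1 : τ i = u.1 := congrArg Prod.fst h1
      have f2 : τ j = v.1 := congrArg Prod.fst h2
      rcases huv with h | h
      · have : τ i = τ j := by rw [f1, f2, h]
        exact τ.injective this
      · rw [e1, e2, h]
    · have e1 : i = u.2 := congrArg Prod.snd h1
      have e2 : j = u.2 := congrArg Prod.snd h2
      rw [e1, e2])
  rw [← hdet, hdeg2] at hle
  omega

end det

/-- Let k be a field and n ≥ 1. Then the determinant of the generic matrix (x_{ij})_{1 ≤ i, j ≤ n} is an
irreducible element of the polynomial ring k[x_{ij}] (Mathlib's Matrix.mvPolynomialX is the generic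
matrix over MvPolynomial (Fin n × Fin n) k). -/
theorem result (k : Type u) [Field k] (n : ℕ) (hn : 1 ≤ n) : Irreducible (Matrix.mvPolynomialX (Fin n) (Fin n) k).det := by
  classical
  have hdeg := degreeOf_det k n
  have hP0 : (Matrix.mvPolynomialX (Fin n) (Fin n) k).det ≠ 0 :=
    Matrix.det_mvPolynomialX_ne_zero (Fin n) k
  have v0 : Fin n × Fin n := (⟨0, hn⟩, ⟨0, hn⟩)
  rw [irreducible_iff]
  refine ⟨?_, ?_⟩
  · intro hU
    obtain ⟨Q, hQ⟩ := hU.exists_right_inv
    have hQ0 : Q ≠ 0 := by
      rintro rfl
      rw [mul_zero] at hQ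
      exact zero_ne_one hQ
    have h1 := degreeOf_mul_eq (n := v0) hP0 hQ0
    rw [hQ, degreeOf_one, hdeg] at h1
    omega
  · intro f g hfg
    have hf : f ≠ 0 := by
      rintro rfl
      rw [zero_mul] at hfg
      exact hP0 hfg
    have hg : g ≠ 0 := by
      rintro rfl
      rw [mul_zero] at hfg
      exact hP0 hfg
    have hadd : ∀ v, degreeOf v f + degreeOf v g = 1 := by
      intro v
      rw [← degreeOf_mul_eq hf hg, ← hfg]
      exact hdeg v
    by_cases hG : ∃ v, degreeOf v g = 1
    · left
      obtain ⟨⟨a, b⟩, hv⟩ := hG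
      have hfv : degreeOf (a, b) f = 0 := by have := hadd (a, b); omega
      have hrow : ∀ j, degreeOf (a, j) g = 1 := by
        intro j
        by_contra hj
        have h1 := hadd (a, j)
        have hfu : degreeOf (a, j) f = 1 := by omega
        have hgu : degreeOf (a, j) g = 0 := by omega
        exact key k n f g hf hg hfg (a, j) (a, b) (Or.inl rfl) hfu hfv hv hgu
      have hall : ∀ w, degreeOf w g = 1 := by
        rintro ⟨i, j⟩
        by_contra hij
        have h1 := hadd (i, j)
        have hfu : degreeOf (i, j) f = 1 := by omega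
        have hgu : degreeOf (i, j) g = 0 := by omega
        have hfv' : degreeOf (a, j) f = 0 := by have := hadd (a, j); have := hrow j; omega
        exact key k n f g hf hg hfg (i, j) (a, j) (Or.inr rfl) hfu hfv' (hrow j) hgu
      apply isUnit_of_degreeOf_eq_zero hf
      intro w
      have := hadd w
      have := hall w
      omega
    · right
      apply isUnit_of_degreeOf_eq_zero hg
      intro w
      have h1 := hadd w
      have h2 : degreeOf w g ≠ 1 := fun h => hG ⟨w, h⟩
      omega

end Groth.Agent.S6485
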