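import Groth.Statements.S6500
import Groth.Agent.S0563
import Groth.Agent.S14414
import Groth.Agent.H63.SmoothRegular2
import Groth.Agent.H54.Curve2
import Mathlib

set_option autoImplicit false
universe u
open CategoryTheory CategoryTheory.Limits AlgebraicGeometry
attribute [local instance] HasDerivedCategory.standard
open IntMult

namespace Groth.Agent.S6500


/-- Let X be a nonsingular variety of dimension n and F, G coherent O_X-modules. The Tor sheaves
Tor_p^{O_X}(F, G), whose stalks are Tor_p^{O_{X,x}}(F_x, G_x), are nonzero only for p ∈ {0, …, n}: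
for every point x and every p > n, Tor_p^{O_{X,x}}(F_x, G_x) = 0. (Coherence of the Tor sheaves and
the support statement are not restated.) Nonsingular variety: X → Spec K smooth, separated,
quasi-compact, X integral, K algebraically closed; n = dim X. -/
theorem result (K : Type u) [Field K] [IsAlgClosed K] (X : Scheme.{u}) (f : X ⟶ Spec (CommRingCat.of K)) [Smooth f] [IsSeparated f] [QuasiCompact f] [IsIntegral X] (n : ℕ) (hn : topologicalKrullDim X = n) (F G : X.Modules) (hF : Coh.IsCoh F) (hG : Coh.IsCoh G) (x : X) (p : ℕ) (hp : n < p) : Subsingleton (DRing.Tor ↑(X.presheaf.stalk x) p ↑(F.presheaf.stalk x) ↑(G.presheaf.stalk x)) := by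
  haveI hreg : IsRegularLocalRing (X.presheaf.stalk x) :=
    Groth.Agent.H63.SmoothRegular.isRegularLocalRing_stalk_of_smooth f x
  have hle : ringKrullDim (X.presheaf.stalk x) ≤ n := by
    rw [← hn]
    exact H54.ringKrullDim_stalk_le_topologicalKrullDim X x
  have hd : ringKrullDim (X.presheaf.stalk x) =
      ((IsLocalRing.maximalIdeal (X.presheaf.stalk x)).spanFinrank : ℕ) :=
    (IsRegularLocalRing.spanFinrank_maximalIdeal).symm
  set d := (IsLocalRing.maximalIdeal (X.presheaf.stalk x)).spanFinrank with hdd
  have hdn : d ≤ n := by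
    rw [hd] at hle
    exact_mod_cast hle
  have hpd := Groth.Agent.S0563.result (X.presheaf.stalk x) d hd (G.presheaf.stalk x)
  haveI : HasProjectiveDimensionLE (ModuleCat.of (X.presheaf.stalk x) (G.presheaf.stalk x)) d := hpd
  have hz := Groth.Agent.S14414.result (X.presheaf.stalk x)
    (ModuleCat.of (X.presheaf.stalk x) (F.presheaf.stalk x))
    (ModuleCat.of (X.presheaf.stalk x) (G.presheaf.stalk x)) d p (by omega)
  exact ModuleCat.subsingleton_of_isZero hz

end Groth.Agent.S6500
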