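import Groth.Statements.S6501
import Mathlib.RingTheory.DividedPowers.Padic
import Mathlib.RingTheory.Flat.TorsionFree
import Mathlib.RingTheory.Flat.Basic

set_option autoImplicit false
universe u
open DPow

namespace Groth.Agent.S6501

section
open scoped Nat TensorProduct

variable {A : Type u} [CommRing A] [IsAddTorsionFree A]

lemma fact_cancel (n : ℕ) {a b : A} (h : (n ! : A) * a = (n ! : A) * b) : a = b := by
  have h' : (n !) • a = (n !) • b := by simpa [nsmul_eq_mul] using h
  exact nsmul_right_injective (Nat.factorial_ne_zero n) h'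

lemma subsingleton_dp (I : Ideal A) : Subsingleton (DividedPowers I) := ⟨fun h h' => by
  apply DividedPowers.ext
  intro n x hx
  apply fact_cancel n
  rw [h.factorial_mul_dpow_eq_pow hx, h'.factorial_mul_dpow_eq_pow hx]⟩

/-- elements all of whose powers are divisible by factorials -/
def J (I : Ideal A) : Ideal A where
  carrier := {x | x ∈ I ∧ ∀ n : ℕ, 1 ≤ n → ∃ y ∈ I, x ^ n = (n ! : A) * y}
  zero_mem' := ⟨I.zero_mem, fun n hn => ⟨0, I.zero_mem, by
    rw [zero_pow (by omega : n ≠ 0), mul_zero]⟩⟩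
  add_mem' := by
    rintro x y ⟨hx, hx'⟩ ⟨hy, hy'⟩
    refine ⟨I.add_mem hx hy, fun n hn => ?_⟩
    have hxa : ∀ i : ℕ, ∃ a : A, x ^ i = (i ! : A) * a ∧ (1 ≤ i → a ∈ I) := by
      intro i
      rcases Nat.eq_zero_or_pos i with rfl | hi
      · exact ⟨1, by simp, by omega⟩
      · obtain ⟨a, ha, e⟩ := hx' i hi
        exact ⟨a, e, fun _ => ha⟩
    have hyb : ∀ i : ℕ, ∃ a : A, y ^ i = (i ! : A) * a ∧ (1 ≤ i → a ∈ I) := by
      intro i
      rcases Nat.eq_zero_or_pos i with rfl | hi
      · exact ⟨1, by simp, by omega⟩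
      · obtain ⟨a, ha, e⟩ := hy' i hi
        exact ⟨a, e, fun _ => ha⟩
    choose a ha ha' using hxa
    choose b hb hb' using hyb
    refine ⟨∑ m ∈ Finset.range (n + 1), a m * b (n - m), ?_, ?_⟩
    · apply I.sum_mem
      intro m hm
      rcases Nat.eq_zero_or_pos m with rfl | hm0
      · exact I.mul_mem_left _ (hb' _ (by simpa using hn))
      · exact I.mul_mem_right _ (ha' m hm0)
    · rw [add_pow, Finset.mul_sum]
      apply Finset.sum_congr rfl
      intro m hm
      have hmn : m ≤ n := by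
        have := Finset.mem_range.1 hm
        omega
      rw [ha, hb]
      have h1 := Nat.choose_mul_factorial_mul_factorial hmn
      have h2 : (n ! : A) = (n.choose m : A) * (m ! : A) * ((n - m)! : A) := by
        rw [← h1]
        push_cast
        ring
      rw [h2]
      ring
  smul_mem' := by
    rintro c x ⟨hx, hx'⟩
    refine ⟨I.mul_mem_left c hx, fun n hn => ?_⟩
    obtain ⟨y, hy, e⟩ := hx' n hn
    exact ⟨c ^ n * y, I.mul_mem_left _ hy, by rw [smul_eq_mul, mul_pow, e]; ring⟩

lemma J_eq (I : Ideal A) (S : Set A) (hS : Ideal.span S = I)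
    (h : ∀ x ∈ S, ∀ n : ℕ, 1 ≤ n → x ^ n ∈ Ideal.span {(Nat.factorial n : A)} * I) : J I = I := by
  apply le_antisymm (fun x hx => hx.1)
  rw [← hS, Ideal.span_le]
  intro x hx
  refine ⟨hS ▸ Ideal.subset_span hx, fun n hn => ?_⟩
  obtain ⟨y, hy, e⟩ := Ideal.mem_span_singleton_mul.1 (h x hx n hn)
  exact ⟨y, hS ▸ hy, e.symm⟩

lemma flat_int : Module.Flat ℤ A := by
  rw [Module.Flat.flat_iff_torsion_eq_bot_of_isBezout]
  rw [Submodule.eq_bot_iff]
  intro x hx
  rw [Submodule.mem_torsion_iff] at hx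
  obtain ⟨a, ha⟩ := hx
  have ha0 : (a : ℤ) ≠ 0 := nonZeroDivisors.coe_ne_zero a
  have : (a : ℤ) • x = (a : ℤ) • (0 : A) := by rw [smul_zero]; exact ha
  exact zsmul_right_injective ha0 this

lemma exists_dp (I : Ideal A)
    (hI : ∀ x ∈ I, ∀ n : ℕ, 1 ≤ n → ∃ y ∈ I, x ^ n = (n ! : A) * y) :
    Nonempty (DividedPowers I) := by
  classical
  have : Module.Flat ℤ A := flat_int
  let f : A →+* ℚ ⊗[ℤ] A := (Algebra.TensorProduct.includeRight : A →ₐ[ℤ] ℚ ⊗[ℤ] A).toRingHom
  have hf : Function.Injective f :=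
    Algebra.TensorProduct.includeRight_injective (R := ℤ) (A := ℚ) (B := A)
      (by exact Int.cast_injective)
  let hJ : DividedPowers (I.map f) := DividedPowers.RatAlgebra.dividedPowers (I.map f)
  refine ⟨DividedPowers.ofInjective I (I.map f) f hf hJ rfl ?_⟩
  intro n x hx
  rcases Nat.eq_zero_or_pos n with rfl | hn
  · exact ⟨1, fun h => absurd rfl h, by
      rw [hJ.dpow_zero (Ideal.mem_map_of_mem f hx), map_one]⟩
  · obtain ⟨y, hy, e⟩ := hI x hx n hn
    refine ⟨y, fun _ => hy, ?_⟩
    have hu : IsUnit ((n ! : ℕ) : ℚ ⊗[ℤ] A) := IsUnit.natCast_factorial_of_algebra ℚ n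
    apply hu.mul_left_cancel
    rw [hJ.factorial_mul_dpow_eq_pow (Ideal.mem_map_of_mem f hx), ← map_pow, e, map_mul,
      map_natCast]

end

/-- Let A be a commutative ring whose additive group is torsion free and I an ideal of A. Then I carries
at most one divided power structure, and it carries one if and only if I is generated by a set S
such that for every x in S and every n ≥ 1 the power x^n lies in the ideal generated by the products
of n! with elements of I. -/
theorem result {A : Type u} [CommRing A] [IsAddTorsionFree A] (I : Ideal A) :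
    Subsingleton (DividedPowers I) ∧
    (Nonempty (DividedPowers I) ↔ ∃ S : Set A, Ideal.span S = I ∧
      ∀ x ∈ S, ∀ n : ℕ, 1 ≤ n → x ^ n ∈ Ideal.span {(Nat.factorial n : A)} * I) := by
  refine ⟨subsingleton_dp I, ⟨fun ⟨hI⟩ => ⟨(I : Set A), Ideal.span_eq I, fun x hx n hn => ?_⟩, ?_⟩⟩
  · rw [Ideal.mem_span_singleton_mul]
    exact ⟨hI.dpow n x, hI.dpow_mem (by omega) hx, hI.factorial_mul_dpow_eq_pow hx⟩
  · rintro ⟨S, hS, h⟩
    apply exists_dp I
    intro x hx n hn
    have hx' : x ∈ J I := by rw [J_eq I S hS h]; exact hx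
    exact hx'.2 n hn

end Groth.Agent.S6501
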