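import Groth.Statements.S6512
import Groth.Agent.H31.MVGamma
set_option backward.isDefEq.respectTransparency false

set_option autoImplicit false
universe u
open CategoryTheory
attribute [local instance] HasDerivedCategory.standard
open DCoh

namespace Groth.Agent.S6512

open AlgebraicGeometry CategoryTheory.Limits in
/-- If a scheme X is the union of two opens U and V, then for every E ∈ D(O_X) there is a distinguished
triangle RΓ(X, E) → RΓ(U, E) ⊕ RΓ(V, E) → RΓ(U ∩ V, E) → RΓ(X, E)[1] in D(Ab), where RΓ(U, E) means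
RΓ(U, E|_U). The objects are the stated ones; the morphisms are only asserted to exist (the long
exact cohomology sequence follows by applying the homological functor H^0). (The published statement
is for ringed spaces; this row is for schemes.) -/
theorem result {X : Scheme.{u}} (U V : X.Opens) (hUV : U ⊔ V = ⊤)
    [DCoh.HasRΓ X] [DCoh.HasRΓ (U : Scheme.{u})] [DCoh.HasRΓ (V : Scheme.{u})] [DCoh.HasRΓ (U ⊓ V : X.Opens)]
    [PreservesFiniteLimits (Scheme.Modules.restrictFunctor U.ι)]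
    [PreservesFiniteLimits (Scheme.Modules.restrictFunctor V.ι)]
    [PreservesFiniteLimits (Scheme.Modules.restrictFunctor (U ⊓ V).ι)] (E : DCoh.D X) :
    ∃ (a : (DCoh.RΓ X).obj E ⟶ ((DCoh.RΓ (U : Scheme.{u})).obj ((DCoh.restrictD U.ι).obj E) ⊞ (DCoh.RΓ (V : Scheme.{u})).obj ((DCoh.restrictD V.ι).obj E))) (b : ((DCoh.RΓ (U : Scheme.{u})).obj ((DCoh.restrictD U.ι).obj E) ⊞ (DCoh.RΓ (V : Scheme.{u})).obj ((DCoh.restrictD V.ι).obj E)) ⟶ (DCoh.RΓ (U ⊓ V : X.Opens)).obj ((DCoh.restrictD (U ⊓ V).ι).obj E)) (c : (DCoh.RΓ (U ⊓ V : X.Opens)).obj ((DCoh.restrictD (U ⊓ V).ι).obj E) ⟶ ((DCoh.RΓ X).obj E)⟦(1 : ℤ)⟧),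
      Pretriangulated.Triangle.mk a b c ∈ Pretriangulated.distinguishedTriangles := by
  classical
  obtain ⟨I, hK, hinj, ⟨eE⟩⟩ := Groth.Agent.H31.MV.exists_kinj_rep E
  haveI := hK
  have hiso : ∀ (W : X.Opens) [DCoh.HasRΓ (W : Scheme.{u})],
      IsIso ((Groth.Agent.H31.MV.uΓ (W : Scheme.{u})).app
        (((Scheme.Modules.restrictFunctor W.ι).mapHomologicalComplex (ComplexShape.up ℤ)).obj I)) := by
    intro W _
    haveI := Groth.Agent.H31.RpushRestrict.isKInjective_restrict W I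
    exact Groth.Agent.H31.MV.isIso_uΓ_app (W : Scheme.{u}) _
  haveI := Groth.Agent.H31.MV.isIso_uΓ_app X I
  exact Groth.Agent.H31.MV.exists_triangle_general U V (DCoh.gammaAb X) hUV I hinj
    (asIso ((Groth.Agent.H31.MV.uΓ X).app I) ≪≫ (DCoh.RΓ X).mapIso eE.symm)
    (Groth.Agent.H31.MV.isoOfUnit (DCoh.gammaAb X) U (DCoh.gammaAb (U : Scheme.{u}))
      (Groth.Agent.H31.MV.gammaPushIso U) (DCoh.RΓ (U : Scheme.{u}))
      (Groth.Agent.H31.MV.uΓ (U : Scheme.{u})) I (hiso U) E eE)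
    (Groth.Agent.H31.MV.isoOfUnit (DCoh.gammaAb X) V (DCoh.gammaAb (V : Scheme.{u}))
      (Groth.Agent.H31.MV.gammaPushIso V) (DCoh.RΓ (V : Scheme.{u}))
      (Groth.Agent.H31.MV.uΓ (V : Scheme.{u})) I (hiso V) E eE)
    (Groth.Agent.H31.MV.isoOfUnit (DCoh.gammaAb X) (U ⊓ V) (DCoh.gammaAb ((U ⊓ V : X.Opens) : Scheme.{u}))
      (Groth.Agent.H31.MV.gammaPushIso (U ⊓ V)) (DCoh.RΓ ((U ⊓ V : X.Opens) : Scheme.{u}))
      (Groth.Agent.H31.MV.uΓ ((U ⊓ V : X.Opens) : Scheme.{u})) I (hiso (U ⊓ V)) E eE)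

end Groth.Agent.S6512
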