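import Groth.Statements.S6524
import Groth.Agent.H53.BaerFamily
import Mathlib.CategoryTheory.Abelian.GrothendieckCategory.Basic

set_option autoImplicit false
universe u
open CategoryTheory
open CohSite

namespace Groth.Agent.S6524

open Opposite CategoryTheory.Limits Groth.Agent.H53 ZeroObject

section helpers

variable {C : Type u} [SmallCategory C] (J : GrothendieckTopology C)

/-- `Hom(ℤ_X^#, F) ≃ F(X)` -/
noncomputable def freeSheafHomEquiv (X : C) (F : Sheaf J AddCommGrpCat.{u}) :
    (CohCx.freeSheaf J X ⟶ F) ≃ F.obj.obj (op X) :=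
  ((sheafificationAdjunction J AddCommGrpCat.{u}).homEquiv _ _).trans
    (((AddCommGrpCat.adj.whiskerRight Cᵒᵖ).homEquiv (yoneda.obj X) F.obj).trans yonedaEquiv)

lemma freeSheafHomEquiv_comp (X : C) {F F' : Sheaf J AddCommGrpCat.{u}}
    (a : CohCx.freeSheaf J X ⟶ F) (g : F ⟶ F') :
    freeSheafHomEquiv J X F' (a ≫ g) = g.hom.app (op X) (freeSheafHomEquiv J X F a) := by
  simp only [freeSheafHomEquiv, Equiv.trans_apply]
  rw [Adjunction.homEquiv_naturality_right, Adjunction.homEquiv_naturality_right,
    yonedaEquiv_comp]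
  rfl

lemma separating :
    (ObjectProperty.ofObj (fun X : C => CohCx.freeSheaf J X)).IsSeparating := by
  intro F F' f g hfg
  apply Sheaf.hom_ext
  ext X m
  have h1 := hfg _ (ObjectProperty.ofObj.mk X.unop) ((freeSheafHomEquiv J X.unop F).symm m)
  have h2 := congrArg (freeSheafHomEquiv J X.unop F') h1
  rw [freeSheafHomEquiv_comp, freeSheafHomEquiv_comp, Equiv.apply_symm_apply] at h2
  exact h2

/-- the family extended by the zero object -/
noncomputable def fam (o : Option C) : Sheaf J AddCommGrpCat.{u} :=
  o.elim 0 (fun X => CohCx.freeSheaf J X)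

lemma fam_detecting : (ObjectProperty.ofObj (fam J)).IsDetecting := by
  apply ObjectProperty.IsSeparating.isDetecting
  refine (separating J).of_le ?_
  rintro _ ⟨X⟩
  exact ObjectProperty.ofObj.mk (X := fam J) (some X)

end helpers

/-- Let (C, J) be a small site and I an abelian sheaf. Suppose that for every object X of C, every
abelian subsheaf S of the free abelian sheaf Z_X^# on X (given as a monomorphism S → Z_X^#) and
every morphism S → I, the morphism extends to Z_X^# → I. Then I is an injective abelian sheaf. -/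
theorem result {C : Type u} [SmallCategory C]
    (J : GrothendieckTopology C) (I : Sheaf J AddCommGrpCat.{u})
    (h : ∀ (X : C) (S : Sheaf J AddCommGrpCat.{u}) (i : S ⟶ CohCx.freeSheaf J X) [Mono i] (φ : S ⟶ I),
      ∃ ψ : CohCx.freeSheaf J X ⟶ I, i ≫ ψ = φ) :
    Injective I := by
  refine injective_of_extension.{u} (fam_detecting J) none I ?_
  intro o S φ
  cases o with
  | none =>
    have hz : IsZero (S : Sheaf J AddCommGrpCat.{u}) :=
      IsZero.of_mono S.arrow (show IsZero (fam J none) from isZero_zero _)
    exact ⟨0, hz.eq_of_src _ _⟩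
  | some X =>
    have hm : Mono (S.arrow : _ ⟶ CohCx.freeSheaf J X) := inferInstanceAs (Mono S.arrow)
    exact @h X (S : Sheaf J AddCommGrpCat.{u}) S.arrow hm φ

end Groth.Agent.S6524
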