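import Groth.Statements.S6531
import Groth.Agent.H45.CechSh

set_option autoImplicit false
universe u
open CategoryTheory
open CechOX

namespace Groth.Agent.S6531

open AlgebraicGeometry CategoryTheory.Limits in
/-- Let X be a scheme, X = ⋃ U_i an open covering and F an O_X-module. The Čech complex of sheaves 𝔠(𝒰,
F), with 𝔠^p the product over (p+1)-tuples of the direct images of the restrictions of F to U_{i_0}
∩ … ∩ U_{i_p}, together with the canonical coaugmentation F → 𝔠^0, is a resolution of F: the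
coaugmentation is a monomorphism, its composite with the first differential is zero, it is a kernel
of that differential (every map into 𝔠^0 killed by the differential factors uniquely through it),
and the cohomology sheaves of 𝔠(𝒰, F) vanish in all positive degrees. (The published statement is
for ringed spaces; this row is for schemes.) -/
theorem result {X : Scheme.{u}} {ι : Type u} (𝒰 : ι → X.Opens) (h𝒰 : ⨆ i, 𝒰 i = ⊤)
    (F : X.Modules) :
    Mono (CechOX.cechShAug 𝒰 F) ∧
    CechOX.cechShAug 𝒰 F ≫ ((CechOX.cechSh 𝒰).obj F).d 0 1 = 0 ∧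
    (∀ (G : X.Modules) (g : G ⟶ ((CechOX.cechSh 𝒰).obj F).X 0), g ≫ ((CechOX.cechSh 𝒰).obj F).d 0 1 = 0 →
      ∃! g' : G ⟶ F, g' ≫ CechOX.cechShAug 𝒰 F = g) ∧
    ∀ p : ℕ, IsZero (((CechOX.cechSh 𝒰).obj F).homology (p + 1)) := by
  have hm := Groth.Agent.H45.CechSh.mono_aug 𝒰 F h𝒰
  have he := Groth.Agent.H45.CechSh.exact_aug 𝒰 F h𝒰
  refine ⟨hm, Groth.Agent.H45.CechSh.aug_comp_d 𝒰 F, ?_,
    Groth.Agent.H45.CechSh.isZero_homology 𝒰 F h𝒰⟩
  intro G g hg
  haveI : Mono (ShortComplex.mk (CechOX.cechShAug 𝒰 F) (((CechOX.cechSh 𝒰).obj F).d 0 1)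
      (Groth.Agent.H45.CechSh.aug_comp_d 𝒰 F)).f := hm
  refine ⟨he.lift g hg, he.lift_f g hg, ?_⟩
  intro g'' hg''
  exact (cancel_mono (CechOX.cechShAug 𝒰 F)).1 (hg''.trans (he.lift_f g hg).symm)

end Groth.Agent.S6531
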