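import Groth.Statements.S6533
import Groth.Agent.H5.FilKInj.Fib
import Groth.Agent.S0476

set_option autoImplicit false
universe v u
open CategoryTheory
open CohDer

namespace Groth.Agent.S6533

open Limits Groth.Agent.H5.FilKInj SpSeq Opposite

variable {A : Type u} [Category.{v} A] [Abelian A]

/-- The indexing poset `ℤ ∪ {∞}`. -/
abbrev Λ := WithTop ℤ

theorem hasCoproducts_zero [IsGrothendieckAbelian.{v} A] : HasCoproducts.{0} A := by
  have : HasColimitsOfSize.{0, 0} A := hasColimitsOfSizeShrink.{0, 0, v, v} A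
  intro J
  infer_instance

instance instGroth [IsGrothendieckAbelian.{v} A] : IsGrothendieckAbelian.{v} (Λᵒᵖ ⥤ A) := by
  have := hasCoproducts_zero (A := A)
  exact
    { hasSeparator := Presheaf.hasSeparator (C := Λ) A
      ab5OfSize := ⟨fun J _ _ => inferInstance⟩ }

instance : Quiver.IsThin Λᵒᵖ := fun _ _ => inferInstance

/-! ## The filtration indexed by `Λ` and the functor of quotients -/

/-- The filtration extended by `F^∞ = 0`. -/
noncomputable def filΛ (K : FilCx A) : Λ → Subobject K.obj := WithTop.recTopCoe ⊥ K.fil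

theorem filΛ_anti (K : FilCx A) : Antitone (filΛ K) := by
  intro a b h
  induction a using WithTop.recTopCoe with
  | top =>
    induction b using WithTop.recTopCoe with
    | top => exact le_rfl
    | coe q => exact (WithTop.not_top_le_coe q h).elim
  | coe p =>
    induction b using WithTop.recTopCoe with
    | top => exact bot_le
    | coe q => exact K.anti (WithTop.coe_le_coe.1 h)

/-- The functor `λ ↦ K / F^λ K`. -/
noncomputable def quotF (K : FilCx A) : Λᵒᵖ ⥤ CochainComplex A ℤ where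
  obj t := cokernel (filΛ K t.unop).arrow
  map {s t} g := cokernel.desc _ (cokernel.π (filΛ K t.unop).arrow) (by
    have hle : filΛ K s.unop ≤ filΛ K t.unop := filΛ_anti K (leOfHom g.unop)
    rw [← Subobject.ofLE_arrow hle, Category.assoc, cokernel.condition, comp_zero])
  map_id t := by
    apply (cancel_epi (cokernel.π (filΛ K t.unop).arrow)).1
    simp
  map_comp {r s t} g g' := by
    apply (cancel_epi (cokernel.π (filΛ K r.unop).arrow)).1
    simp

/-- The complex of functors attached to a filtered complex. -/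
noncomputable def cxK (K : FilCx A) : CochainComplex (Λᵒᵖ ⥤ A) ℤ := ofFunctor (quotF K)


/-! ## General lemmas -/

theorem injective_cokernel {X Y : A} (g : X ⟶ Y) [Mono g] [Injective X] [Injective Y] :
    Injective (cokernel g) := by
  let S := ShortComplex.mk g (cokernel.π g) (cokernel.condition g)
  have hS : S.ShortExact := { exact := ShortComplex.exact_cokernel g }
  let σ := ShortComplex.Splitting.ofExactOfRetraction S hS.exact
    (Injective.factorThru (𝟙 _) g) (Injective.comp_factorThru _ _) hS.epi_g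
  exact injective_of_retract (Y := Y) σ.s (cokernel.π g) σ.s_g

theorem shortExact_kernelSubobject {C : Type*} [Category C] [Abelian C] {X Y : C} (q : X ⟶ Y)
    [Epi q] :
    (ShortComplex.mk (kernelSubobject q).arrow q (kernelSubobject_arrow_comp q)).ShortExact :=
  { exact := ShortComplex.exact_of_f_is_kernel _
      (IsLimit.ofIsoLimit (kernelIsKernel q)
        (Fork.ext (kernelSubobjectIso q).symm (by simp))) }

theorem quasiIso_cokernel_map {X₁ Y₁ X₂ Y₂ : CochainComplex A ℤ} (i₁ : X₁ ⟶ Y₁) (i₂ : X₂ ⟶ Y₂)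
    [Mono i₁] [Mono i₂] (a : X₁ ⟶ X₂) (b : Y₁ ⟶ Y₂) (w : i₁ ≫ b = a ≫ i₂)
    (ha : QuasiIso a) (hb : QuasiIso b) : QuasiIso (cokernel.map i₁ i₂ a b w) := by
  let S₁ := ShortComplex.mk i₁ (cokernel.π i₁) (cokernel.condition i₁)
  let S₂ := ShortComplex.mk i₂ (cokernel.π i₂) (cokernel.condition i₂)
  have hS₁ : S₁.ShortExact := { exact := ShortComplex.exact_cokernel i₁ }
  have hS₂ : S₂.ShortExact := { exact := ShortComplex.exact_cokernel i₂ }
  let φ : S₁ ⟶ S₂ :=
    { τ₁ := a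
      τ₂ := b
      τ₃ := cokernel.map i₁ i₂ a b w
      comm₁₂ := w.symm
      comm₂₃ := (cokernel.π_desc _ _ _).symm }
  exact HomologicalComplex.HomologySequence.quasiIso_τ₃ φ hS₁ hS₂ ha hb

/-- Part (1) and (2): everything follows from fibrancy of `J` and of the steps. -/
theorem lemmaA (J : FilCx A) (hobj : Fib J.obj) (hstep : ∀ p, Fib (J.step p)) :
    (∀ n p : ℤ, Injective (J.obj.X n) ∧ Injective ((J.XFil n).step p) ∧
        Injective ((J.XFil n).quot p) ∧
        ∀ (p' : ℤ) (h : p ≤ p'), Injective (cokernel ((J.XFil n).stepLE h))) ∧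
      (CochainComplex.IsKInjective J.obj ∧ ∀ p : ℤ, CochainComplex.IsKInjective (J.step p) ∧
        CochainComplex.IsKInjective (J.quot p) ∧
        ∀ (p' : ℤ) (h : p ≤ p'), CochainComplex.IsKInjective (cokernel (J.stepLE h))) := by
  have hX : ∀ n p, Injective ((J.XFil n).step p) := fun n p =>
    Injective.of_iso (Subobject.underlyingIso ((J.fil p).arrow.f n)).symm ((hstep p).2 n)
  refine ⟨fun n p => ?_, hobj.1, fun p => ⟨(hstep p).1,
    (fib_cokernel (J.fil p).arrow (hstep p) hobj).1,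
    fun p' h => (fib_cokernel (J.stepLE h) (hstep p') (hstep p)).1⟩⟩
  have h0 : Injective (J.obj.X n) := hobj.2 n
  have h1 := hX n p
  refine ⟨h0, h1, ?_, fun p' h => ?_⟩
  · have : Injective (J.XFil n).obj := h0
    exact injective_cokernel ((J.XFil n).fil p).arrow
  · have := hX n p'
    exact injective_cokernel ((J.XFil n).stepLE h)

/-- Part (4) and (5): the induced maps on steps being quasi-isomorphisms suffices. -/
theorem lemmaB (K J : FilCx A) (j : K ⟶ J) (hj : QuasiIso j.hom)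
    (jp : ∀ p, K.step p ⟶ J.step p)
    (hjp : ∀ p, jp p ≫ (J.fil p).arrow = (K.fil p).arrow ≫ j.hom)
    (hq : ∀ p, QuasiIso (jp p)) :
    (∀ p : ℤ, ∃ jp : K.step p ⟶ J.step p, jp ≫ (J.fil p).arrow = (K.fil p).arrow ≫ j.hom ∧
        QuasiIso jp ∧
        (∀ (p' : ℤ) (h : p ≤ p'), ∃ (jp' : K.step p' ⟶ J.step p')
          (jg : cokernel (K.stepLE h) ⟶ cokernel (J.stepLE h)),
          jp' ≫ (J.fil p').arrow = (K.fil p').arrow ≫ j.hom ∧
          jp' ≫ J.stepLE h = K.stepLE h ≫ jp ∧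
          cokernel.π (K.stepLE h) ≫ jg = jp ≫ cokernel.π (J.stepLE h) ∧ QuasiIso jg)) ∧
      (∀ p : ℤ, ∃ jq : K.quot p ⟶ J.quot p,
        cokernel.π (K.fil p).arrow ≫ jq = j.hom ≫ cokernel.π (J.fil p).arrow ∧ QuasiIso jq) := by
  have w' : ∀ (p p' : ℤ) (h : p ≤ p'), K.stepLE h ≫ jp p = jp p' ≫ J.stepLE h := by
    intro p p' h
    apply (cancel_mono (J.fil p).arrow).1
    simp only [Category.assoc, hjp, Subobject.ofLE_arrow, Subobject.ofLE_arrow_assoc]
  refine ⟨fun p => ⟨jp p, hjp p, hq p, fun p' h => ⟨jp p',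
    cokernel.map (K.stepLE h) (J.stepLE h) (jp p') (jp p) (w' p p' h), hjp p', (w' p p' h).symm,
    cokernel.π_desc _ _ _, quasiIso_cokernel_map _ _ _ _ _ (hq p') (hq p)⟩⟩, fun p =>
    ⟨cokernel.map (K.fil p).arrow (J.fil p).arrow (jp p) j.hom (hjp p).symm,
      cokernel.π_desc _ _ _, quasiIso_cokernel_map _ _ _ _ _ (hq p) hj⟩⟩

/-! ## The construction -/

section Main

variable (K : FilCx A) (𝒥 : CochainComplex (Λᵒᵖ ⥤ A) ℤ) (f : cxK K ⟶ 𝒥)

/-- The top element of `Λᵒᵖ`. -/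
abbrev tTop : Λᵒᵖ := op (⊤ : Λ)

/-- The integer points of `Λᵒᵖ`. -/
abbrev tPt (p : ℤ) : Λᵒᵖ := op ((p : ℤ) : Λ)

/-- The arrow `∞ ⟶ p` of `Λᵒᵖ`. -/
def toPt (p : ℤ) : tTop ⟶ tPt p := (homOfLE (le_top : ((p : ℤ) : Λ) ≤ ⊤)).op

/-- The arrow `q ⟶ p` of `Λᵒᵖ` for `p ≤ q`. -/
def ptLE {p q : ℤ} (h : p ≤ q) : tPt q ⟶ tPt p :=
  (homOfLE (WithTop.coe_le_coe.2 h : ((p : ℤ) : Λ) ≤ ((q : ℤ) : Λ))).op

/-- Evaluation of `𝒥` at `t`, as the image under the evaluation functor. -/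
noncomputable def evIso (t : Λᵒᵖ) :
    (((evaluation Λᵒᵖ A).obj t).mapHomologicalComplex (ComplexShape.up ℤ)).obj 𝒥 ≅
      𝒥.asFunctor.obj t :=
  HomologicalComplex.Hom.isoOfComponents (fun n => Iso.refl _) (by
    intro i j _
    exact (Category.id_comp _).trans (Category.comp_id _).symm)

theorem fib_Jat [IsGrothendieckAbelian.{v} A] (hk : 𝒥.IsKInjective)
    (hi : ∀ n, Injective (𝒥.X n)) (t : Λᵒᵖ) : Fib (𝒥.asFunctor.obj t) := by
  have := hasCoproducts_zero (A := A)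
  have h1 := isKInjective_eval 𝒥 t
  refine ⟨CochainComplex.isKInjective_of_iso (evIso 𝒥 t), fun n => ?_⟩
  have := hi n
  exact injective_eval (𝒥.X n) t

theorem exists_section_Jat [IsGrothendieckAbelian.{v} A] (hi : ∀ n, Injective (𝒥.X n))
    {s t : Λᵒᵖ} (g : s ⟶ t) (n : ℤ) :
    ∃ σ : (𝒥.asFunctor.obj t).X n ⟶ (𝒥.asFunctor.obj s).X n,
      σ ≫ (𝒥.asFunctor.map g).f n = 𝟙 _ := by
  have := hasCoproducts_zero (A := A)
  have := hi n
  exact exists_section (𝒥.X n) g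

theorem epi_map [IsGrothendieckAbelian.{v} A] (hi : ∀ n, Injective (𝒥.X n))
    {s t : Λᵒᵖ} (g : s ⟶ t) : Epi (𝒥.asFunctor.map g) :=
  HomologicalComplex.epi_of_epi_f _ (fun n => by
    obtain ⟨σ, hσ⟩ := exists_section_Jat 𝒥 hi g n
    exact epi_of_epi_fac hσ)

/-- The filtration on `𝒥(∞)`. -/
noncomputable abbrev Jfil (p : ℤ) : Subobject (𝒥.asFunctor.obj tTop) :=
  kernelSubobject (𝒥.asFunctor.map (toPt p))

theorem Jfil_anti : Antitone (Jfil 𝒥) := by
  intro p q h
  have e : 𝒥.asFunctor.map (toPt q) ≫ 𝒥.asFunctor.map (ptLE h) = 𝒥.asFunctor.map (toPt p) := by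
    rw [← Functor.map_comp]
    congr 1
  apply Subobject.le_of_factors
  apply kernelSubobject_factors
  rw [← e, ← Category.assoc, kernelSubobject_arrow_comp, zero_comp]

/-- The filtered complex `J`. -/
noncomputable def J : FilCx A where
  obj := 𝒥.asFunctor.obj tTop
  fil := Jfil 𝒥
  anti := Jfil_anti 𝒥

theorem fib_step [IsGrothendieckAbelian.{v} A] (hk : 𝒥.IsKInjective)
    (hi : ∀ n, Injective (𝒥.X n)) (p : ℤ) : Fib ((J 𝒥).step p) := by
  have h := fib_kernel (𝒥.asFunctor.map (toPt p)) (fib_Jat 𝒥 hk hi tTop)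
    (fib_Jat 𝒥 hk hi (tPt p)) (fun n => exists_section_Jat 𝒥 hi (toPt p) n)
  exact h.of_iso (kernelSubobjectIso _).symm

/-- The components of `f`, as morphisms of complexes. -/
noncomputable def fC (t : Λᵒᵖ) : (quotF K).obj t ⟶ 𝒥.asFunctor.obj t where
  f n := (f.f n).app t
  comm' i j _ := by
    have h := NatTrans.congr_app (f.comm i j) t
    simp only [NatTrans.comp_app] at h
    exact h

variable {K 𝒥} in
@[reassoc]
theorem fC_naturality {s t : Λᵒᵖ} (g : s ⟶ t) :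
    fC K 𝒥 f s ≫ 𝒥.asFunctor.map g = (quotF K).map g ≫ fC K 𝒥 f t := by
  ext n
  simp only [HomologicalComplex.comp_f]
  exact ((f.f n).naturality g).symm

variable {K 𝒥} in
theorem quasiIso_fC (hq : QuasiIso f) (t : Λᵒᵖ) : QuasiIso (fC K 𝒥 f t) := by
  have h := (HomologicalComplex.quasiIso_iff_evaluation f).1 hq t
  exact h

/-- The projections `K ⟶ K / F^λ K`. -/
noncomputable def πΛ (t : Λᵒᵖ) : K.obj ⟶ (quotF K).obj t := cokernel.π (filΛ K t.unop).arrow

@[reassoc]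
theorem πΛ_map {s t : Λᵒᵖ} (g : s ⟶ t) : πΛ K s ≫ (quotF K).map g = πΛ K t :=
  cokernel.π_desc _ _ _

instance (t : Λᵒᵖ) : Epi (πΛ K t) :=
  inferInstanceAs (Epi (cokernel.π (filΛ K t.unop).arrow))

theorem fil_arrow_πΛ (p : ℤ) : (K.fil p).arrow ≫ πΛ K (tPt p) = 0 := cokernel.condition _

theorem isIso_πΛ_top : IsIso (πΛ K tTop) := cokernel.π_of_zero Subobject.bot_arrow

/-- The underlying morphism of `j`. -/
noncomputable def jhom : K.obj ⟶ 𝒥.asFunctor.obj tTop := πΛ K tTop ≫ fC K 𝒥 f tTop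

theorem jhom_map (t : Λᵒᵖ) (g : tTop ⟶ t) :
    jhom K 𝒥 f ≫ 𝒥.asFunctor.map g = πΛ K t ≫ fC K 𝒥 f t := by
  dsimp only [jhom]
  rw [Category.assoc, fC_naturality, πΛ_map_assoc]

theorem quasiIso_jhom (hq : QuasiIso f) : QuasiIso (jhom K 𝒥 f) := by
  have := isIso_πΛ_top K
  have := quasiIso_fC f hq tTop
  dsimp only [jhom]
  infer_instance

theorem jhom_factors (p : ℤ) : (Jfil 𝒥 p).Factors ((K.fil p).arrow ≫ jhom K 𝒥 f) := by
  apply kernelSubobject_factors
  rw [Category.assoc, jhom_map, ← Category.assoc, fil_arrow_πΛ, zero_comp]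

/-- The morphism of filtered complexes `j : K ⟶ J`. -/
noncomputable def j : K ⟶ J 𝒥 :=
  FilObj.Hom.mk (jhom K 𝒥 f) (fun p =>
    Subobject.le_of_factors (pullback_factors _ _ _ (jhom_factors K 𝒥 f p)))

/-- The induced maps on the steps. -/
noncomputable def jp (p : ℤ) : K.step p ⟶ (J 𝒥).step p :=
  (Jfil 𝒥 p).factorThru ((K.fil p).arrow ≫ jhom K 𝒥 f) (jhom_factors K 𝒥 f p)

theorem jp_arrow (p : ℤ) :
    jp K 𝒥 f p ≫ ((J 𝒥).fil p).arrow = (K.fil p).arrow ≫ (j K 𝒥 f).hom :=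
  Subobject.factorThru_arrow _ _ _

theorem quasiIso_jp [IsGrothendieckAbelian.{v} A] (hi : ∀ n, Injective (𝒥.X n))
    (hq : QuasiIso f) (p : ℤ) : QuasiIso (jp K 𝒥 f p) := by
  have := epi_map 𝒥 hi (toPt p)
  let S₁ := ShortComplex.mk (K.fil p).arrow (πΛ K (tPt p)) (fil_arrow_πΛ K p)
  let S₂ := ShortComplex.mk (kernelSubobject (𝒥.asFunctor.map (toPt p))).arrow
    (𝒥.asFunctor.map (toPt p)) (kernelSubobject_arrow_comp _)
  have hS₁ : S₁.ShortExact := { exact := ShortComplex.exact_cokernel (K.fil p).arrow }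
  have hS₂ : S₂.ShortExact := shortExact_kernelSubobject _
  let φ : S₁ ⟶ S₂ :=
    { τ₁ := jp K 𝒥 f p
      τ₂ := jhom K 𝒥 f
      τ₃ := fC K 𝒥 f (tPt p)
      comm₁₂ := jp_arrow K 𝒥 f p
      comm₂₃ := jhom_map K 𝒥 f (tPt p) (toPt p) }
  exact quasiIso_τ₁ φ hS₁ hS₂ (quasiIso_jhom K 𝒥 f hq) (quasiIso_fC f hq (tPt p))

end Main

open CategoryTheory.Limits in
/-- Let A be a Grothendieck abelian category and K a filtered complex of A. There exist a filtered
complex J and a morphism of filtered complexes j : K → J such that (1) the objects J^n, F^pJ^n,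
J^n/F^pJ^n and F^pJ^n/F^{p'}J^n (p ≤ p') are injective, (2) the complexes J, F^pJ, J/F^pJ and
F^pJ/F^{p'}J are K-injective, and (3) j is a quasi-isomorphism and so are the maps it induces on
F^p, on the quotients by F^p and on F^p/F^{p'} (each induced map is characterised by its
compatibility with the inclusion, respectively the projection). -/
theorem result {A : Type u} [Category.{v} A] [Abelian A]
    [IsGrothendieckAbelian.{v} A] (K : SpSeq.FilCx A) :
    ∃ (J : SpSeq.FilCx A) (j : K ⟶ J),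
      (∀ n p : ℤ, Injective (J.obj.X n) ∧ Injective ((J.XFil n).step p) ∧ Injective ((J.XFil n).quot p) ∧
        ∀ (p' : ℤ) (h : p ≤ p'), Injective (cokernel ((J.XFil n).stepLE h))) ∧
      (CochainComplex.IsKInjective J.obj ∧ ∀ p : ℤ, CochainComplex.IsKInjective (J.step p) ∧
        CochainComplex.IsKInjective (J.quot p) ∧
        ∀ (p' : ℤ) (h : p ≤ p'), CochainComplex.IsKInjective (cokernel (J.stepLE h))) ∧
      QuasiIso j.hom ∧
      (∀ p : ℤ, ∃ jp : K.step p ⟶ J.step p, jp ≫ (J.fil p).arrow = (K.fil p).arrow ≫ j.hom ∧ QuasiIso jp ∧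
        (∀ (p' : ℤ) (h : p ≤ p'), ∃ (jp' : K.step p' ⟶ J.step p') (jg : cokernel (K.stepLE h) ⟶ cokernel (J.stepLE h)),
          jp' ≫ (J.fil p').arrow = (K.fil p').arrow ≫ j.hom ∧ jp' ≫ J.stepLE h = K.stepLE h ≫ jp ∧
          cokernel.π (K.stepLE h) ≫ jg = jp ≫ cokernel.π (J.stepLE h) ∧ QuasiIso jg)) ∧
      (∀ p : ℤ, ∃ jq : K.quot p ⟶ J.quot p,
        cokernel.π (K.fil p).arrow ≫ jq = j.hom ≫ cokernel.π (J.fil p).arrow ∧ QuasiIso jq) := by
  obtain ⟨𝒥, f, hk, hq, -, hi⟩ := Groth.Agent.S0476.result (cxK K)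
  have hj : QuasiIso (j K 𝒥 f).hom := quasiIso_jhom K 𝒥 f hq
  obtain ⟨h1, h2⟩ := lemmaA (J 𝒥) (fib_Jat 𝒥 hk hi tTop) (fib_step 𝒥 hk hi)
  obtain ⟨h4, h5⟩ := lemmaB K (J 𝒥) (j K 𝒥 f) hj (jp K 𝒥 f) (jp_arrow K 𝒥 f)
    (quasiIso_jp K 𝒥 f hi hq)
  exact ⟨J 𝒥, j K 𝒥 f, h1, h2, hj, h4, h5⟩

end Groth.Agent.S6533
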