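import Groth.Statements.S6557
import Groth.Agent.H63.GeomRegAtSmooth
import Groth.Agent.H63.SmoothRegular2
import Groth.Agent.S0565
import Groth.Agent.S10887
import Groth.Agent.H9.SchemeDimStalk
import Mathlib.AlgebraicGeometry.PullbackCarrier

set_option autoImplicit false
universe u
open CategoryTheory CategoryTheory.Limits AlgebraicGeometry
open Curves

namespace Groth.Agent.S6557

/-- Let k be a field and f : X → Y a surjective morphism over k of curves over k (integral, separated,
of finite type over k, of dimension one). If X is smooth over k and every local ring of Y is an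
integrally closed domain, then Y is also smooth over k. -/
theorem result (k : Type u) [Field k]
    (X Y : Scheme.{u}) [X.Over (Spec (CommRingCat.of k))] [Y.Over (Spec (CommRingCat.of k))]
    [IsIntegral X] [IsSeparated (X ↘ (Spec (CommRingCat.of k)))] [LocallyOfFiniteType (X ↘ (Spec (CommRingCat.of k)))] [QuasiCompact (X ↘ (Spec (CommRingCat.of k)))] (hdX : topologicalKrullDim X = 1) [IsIntegral Y] [IsSeparated (Y ↘ (Spec (CommRingCat.of k)))] [LocallyOfFiniteType (Y ↘ (Spec (CommRingCat.of k)))] [QuasiCompact (Y ↘ (Spec (CommRingCat.of k)))] (hdY : topologicalKrullDim Y = 1)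
    (f : X ⟶ Y) (hf : f ≫ (Y ↘ (Spec (CommRingCat.of k))) = X ↘ (Spec (CommRingCat.of k))) [Surjective f]
    [Smooth (X ↘ (Spec (CommRingCat.of k)))] (hY : Pi1.IsNormalScheme Y) :
    Smooth (Y ↘ (Spec (CommRingCat.of k))) := by
  haveI : IsLocallyNoetherian X :=
    LocallyOfFiniteType.isLocallyNoetherian (X ↘ (Spec (CommRingCat.of k)))
  haveI : IsLocallyNoetherian Y :=
    LocallyOfFiniteType.isLocallyNoetherian (Y ↘ (Spec (CommRingCat.of k)))
  haveI : LocallyOfFinitePresentation (Y ↘ (Spec (CommRingCat.of k))) :=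
    LocallyOfFinitePresentation.iff_locallyOfFiniteType.mpr inferInstance
  have hregY : ∀ y : Y, IsRegularLocalRing (Y.presheaf.stalk y) := by
    intro y
    haveI := (hY y).2
    have hdimA : ringKrullDim (Y.presheaf.stalk y) ≤ 1 :=
      (Groth.Agent.H9.FibDim.ringKrullDim_stalk_le Y y).trans hdY.le
    haveI : Ring.KrullDimLE 1 (Y.presheaf.stalk y) :=
      Ring.krullDimLE_iff.mpr (by rw [Nat.cast_one]; exact hdimA)
    have h30 : (IsIntegrallyClosed (Y.presheaf.stalk y) ∧
        ∀ P : Ideal (Y.presheaf.stalk y), P ≠ ⊥ → P.IsPrime →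
          P = IsLocalRing.maximalIdeal (Y.presheaf.stalk y)) ↔
        IsPrincipalIdealRing (Y.presheaf.stalk y) :=
      (tfae_of_isNoetherianRing_of_isLocalRing_of_isDomain (Y.presheaf.stalk y)).out 3 0
    haveI hpid : IsPrincipalIdealRing (Y.presheaf.stalk y) :=
      h30.mp ⟨inferInstance, fun P hP hP' =>
        IsLocalRing.eq_maximalIdeal (hP'.isMaximal_of_ne_bot hP)⟩
    infer_instance
  haveI : CompactSpace Y :=
    QuasiCompact.compactSpace_of_compactSpace (Y ↘ (Spec (CommRingCat.of k)))
  haveI : IsNoetherian Y :=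
    { toIsLocallyNoetherian := inferInstance, toCompactSpace := inferInstance }
  haveI : Flat f := by
    refine (Groth.Agent.S10887.result hregY hdY.le f).mpr ?_
    intro Z hZ
    rw [irreducibleComponents_eq_singleton, Set.mem_singleton_iff] at hZ
    subst hZ
    rw [Set.image_univ]
    exact f.surjective.denseRange
  rw [← Scheme.Hom.smoothLocus_eq_top_iff, ← top_le_iff]
  intro y _
  rw [← Groth.Agent.H63.GeomRegAtSmooth.isGeomRegularAt_iff_mem_smoothLocus]
  intro K _ _ hfg y' hy'
  obtain ⟨fK, h1, h2⟩ : ∃ fK : Curv2.bc k X K ⟶ Curv2.bc k Y K,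
      fK ≫ Curv2.bcFst k Y K = Curv2.bcFst k X K ≫ f ∧
      fK ≫ Curv2.bcSnd k Y K = Curv2.bcSnd k X K :=
    ⟨pullback.lift (Curv2.bcFst k X K ≫ f) (Curv2.bcSnd k X K)
      (by rw [Category.assoc, hf]; exact pullback.condition),
      pullback.lift_fst _ _ _, pullback.lift_snd _ _ _⟩
  have hXp : IsPullback (Curv2.bcFst k X K) (Curv2.bcSnd k X K)
      (X ↘ Spec (CommRingCat.of k)) (Spec.map (CommRingCat.ofHom (algebraMap k K))) :=
    IsPullback.of_hasPullback _ _
  have hYp : IsPullback (Curv2.bcFst k Y K) (Curv2.bcSnd k Y K)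
      (Y ↘ Spec (CommRingCat.of k)) (Spec.map (CommRingCat.ofHom (algebraMap k K))) :=
    IsPullback.of_hasPullback _ _
  have hs : IsPullback (fK ≫ Curv2.bcSnd k Y K) (Curv2.bcFst k X K)
      (Spec.map (CommRingCat.ofHom (algebraMap k K)))
      (f ≫ (Y ↘ Spec (CommRingCat.of k))) := by
    rw [h2, hf]; exact hXp.flip
  have hsq : IsPullback fK (Curv2.bcFst k X K) (Curv2.bcFst k Y K) f :=
    IsPullback.of_right hs h1 hYp.flip
  haveI : Flat fK := MorphismProperty.of_isPullback (P := @Flat) hsq.flip inferInstance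
  haveI : Surjective fK :=
    MorphismProperty.of_isPullback (P := @Surjective) hsq.flip inferInstance
  haveI : IsLocallyNoetherian (Curv2.bc k Y K) :=
    LocallyOfFiniteType.isLocallyNoetherian (Curv2.bcSnd k Y K)
  obtain ⟨x', rfl⟩ := fK.surjective y'
  haveI : IsRegularLocalRing ((Curv2.bc k X K).presheaf.stalk x') :=
    Groth.Agent.H63.SmoothRegular.isRegularLocalRing_stalk_of_smooth (Curv2.bcSnd k X K) x'
  have hfl := Flat.stalkMap fK x'
  algebraize [(fK.stalkMap x').hom]
  haveI : Module.Flat ((Curv2.bc k Y K).presheaf.stalk (fK x'))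
      ((Curv2.bc k X K).presheaf.stalk x') := hfl
  haveI : IsLocalHom (algebraMap ((Curv2.bc k Y K).presheaf.stalk (fK x'))
      ((Curv2.bc k X K).presheaf.stalk x')) := by
    rw [RingHom.algebraMap_toAlgebra]; infer_instance
  exact Groth.Agent.S0565.result ((Curv2.bc k Y K).presheaf.stalk (fK x'))
    ((Curv2.bc k X K).presheaf.stalk x')

end Groth.Agent.S6557
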