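import Groth.Statements.S6564
-- import your own Groth.Agent.* helpers here

set_option autoImplicit false
universe u
open CategoryTheory CategoryTheory.Limits AlgebraicGeometry
open Curves

namespace Groth.Agent.S6564

/-- Let X be proper over the field k of dimension at most 1. If X has a g^r_d (an invertible module L of
degree d with an ordered family of r + 1 global sections linearly independent over k), then X has a
g^s_d for every 0 ≤ s ≤ r. -/
theorem result (k : Type u) [Field k] (X : Scheme.{u}) [X.Over (Spec (CommRingCat.of k))] [IsProper (X ↘ (Spec (CommRingCat.of k)))] (hdim : topologicalKrullDim X ≤ 1)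
    (d r : ℕ) (L : X.Modules) (σ : Fin (r + 1) → LinSer.Sect X L) (hL : LinSer.IsLinSer k X L d r σ)
    (s : ℕ) (hs : s ≤ r) :
    ∃ (L' : X.Modules) (τ : Fin (s + 1) → LinSer.Sect X L'), LinSer.IsLinSer k X L' d s τ := by
  obtain ⟨hinv, hdeg, hli⟩ := hL
  have hs' : s + 1 ≤ r + 1 := Nat.succ_le_succ hs
  refine ⟨L, fun i => σ (Fin.castLE hs' i), hinv, hdeg, ?_⟩
  intro c hc
  have hinj : Function.Injective (Fin.castLE hs') := Fin.castLE_injective hs'
  have key : (∑ i : Fin (s + 1), (Coh.toGlobal (X ↘ Spec (CommRingCat.of k)) (c i)) • σ (Fin.castLE hs' i)) =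
      ∑ j : Fin (r + 1), (Coh.toGlobal (X ↘ Spec (CommRingCat.of k))
        (Function.extend (Fin.castLE hs') c 0 j)) • σ j := by
    apply Fintype.sum_of_injective (Fin.castLE hs') hinj
    · intro j hj
      rw [Function.extend_apply' _ _ _ (by rintro ⟨x, hx⟩; exact hj ⟨x, hx⟩)]
      simp
    · intro i
      rw [hinj.extend_apply]
  have h0 := hli (Function.extend (Fin.castLE hs') c 0) (by rw [← key]; exact hc)
  funext i
  have := congrFun h0 (Fin.castLE hs' i)
  rwa [hinj.extend_apply] at this

end Groth.Agent.S6564
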