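import Groth.Statements.S6580
import Mathlib.Tactic.NoncommRing
import Mathlib.CategoryTheory.Preadditive.Basic

set_option autoImplicit false
universe v u
open CategoryTheory CategoryTheory.Limits
open CohDer

namespace Groth.Agent.S6580

open CategoryTheory.Pretriangulated in
/-- Let (X, Y, Z, f, g, h) be a distinguished triangle of a pretriangulated category, and let a : X ⟶ X
and c : Z ⟶ Z be idempotents with h ≫ a⟦1⟧ = c ≫ h. Then there is an idempotent b : Y ⟶ Y such that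
(a, b, c) is an endomorphism of the triangle. -/
theorem result {D : Type u} [Category.{v} D] [Preadditive D] [HasZeroObject D] [HasShift D ℤ]
    [∀ n : ℤ, (shiftFunctor D n).Additive] [Pretriangulated D]
    (T : Triangle D) (hT : T ∈ distinguishedTriangles) (a : T.obj₁ ⟶ T.obj₁) (c : T.obj₃ ⟶ T.obj₃)
    (ha : a ≫ a = a) (hc : c ≫ c = c) (comm : T.mor₃ ≫ (shiftFunctor D (1 : ℤ)).map a = c ≫ T.mor₃) :
    ∃ b : T.obj₂ ⟶ T.obj₂, b ≫ b = b ∧ T.mor₁ ≫ b = a ≫ T.mor₁ ∧ T.mor₂ ≫ c = b ≫ T.mor₂ := by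
  obtain ⟨b0, hb1, hb2⟩ := complete_distinguished_triangle_morphism₂ T T hT hT a c comm
  let n : T.obj₂ ⟶ T.obj₂ := b0 ≫ b0 - b0
  have hn1 : T.mor₁ ≫ n = 0 := by
    dsimp [n]
    rw [Preadditive.comp_sub, ← Category.assoc, hb1, Category.assoc, hb1, ← Category.assoc, ha,
      sub_self]
  have hn2 : n ≫ T.mor₂ = 0 := by
    dsimp [n]
    rw [Preadditive.sub_comp, Category.assoc, ← hb2, ← Category.assoc, ← hb2, Category.assoc, hc,
      sub_self]
  obtain ⟨u, hu⟩ := Triangle.yoneda_exact₂ T hT n hn1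
  obtain ⟨v, hv⟩ := Triangle.coyoneda_exact₂ T hT n hn2
  have hnn : n ≫ n = 0 := by
    have h1 : n ≫ n = (v ≫ T.mor₁) ≫ (T.mor₂ ≫ u) := by rw [← hv, ← hu]
    rw [h1, Category.assoc, ← Category.assoc T.mor₁, comp_distTriang_mor_zero₁₂ _ hT, zero_comp,
      comp_zero]
  let β : End T.obj₂ := b0
  let ν : End T.obj₂ := β * β - β
  have hνν : ν * ν = 0 := hnn
  let b : End T.obj₂ := β + ν - (ν * β + ν * β)
  have hbb : b * b = b := by
    have h1 : b * b - b = (ν * ν) * (4 * ν - 3) := by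
      simp only [b, ν]
      noncomm_ring
    rw [hνν, zero_mul, sub_eq_zero] at h1
    exact h1
  have hbdef : (b : T.obj₂ ⟶ T.obj₂) = b0 + n - (b0 ≫ n + b0 ≫ n) := rfl
  refine ⟨b, hbb, ?_, ?_⟩
  · rw [hbdef, Preadditive.comp_sub, Preadditive.comp_add, Preadditive.comp_add, hn1,
      ← Category.assoc, hb1, Category.assoc, hn1, comp_zero]
    simp
  · rw [hbdef, Preadditive.sub_comp, Preadditive.add_comp, Preadditive.add_comp, hn2,
      Category.assoc, hn2, comp_zero, hb2]
    simp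

end Groth.Agent.S6580
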