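import Groth.Statements.S6581
import Groth.Agent.H33.TriRetract

set_option autoImplicit false
universe v u
open CategoryTheory CategoryTheory.Limits
open CohDer

namespace Groth.Agent.S6581

set_option backward.defeqAttrib.useBackward true in
set_option backward.isDefEq.respectTransparency false in
open CategoryTheory.Pretriangulated Groth.Agent.H33 in
/-- Let T = (X, Y, Z, f, g, h) and T' = (X', Y', Z', f', g', h') be triangles in a pretriangulated
category. The direct sum triangle (X ⊞ X', Y ⊞ Y', Z ⊞ Z', f ⊕ f', g ⊕ g', h ⊕ h') (whose third map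
Z ⊞ Z' ⟶ (X ⊞ X')⟦1⟧ has components h ≫ inl⟦1⟧ and h' ≫ inr⟦1⟧) is distinguished if and only if T
and T' are both distinguished. -/
theorem result {D : Type u} [Category.{v} D] [Preadditive D] [HasZeroObject D] [HasShift D ℤ]
    [∀ n : ℤ, (shiftFunctor D n).Additive] [Pretriangulated D]
    (T T' : Triangle D) :
    Triangle.mk (biprod.map T.mor₁ T'.mor₁) (biprod.map T.mor₂ T'.mor₂)
        (biprod.desc (T.mor₃ ≫ (shiftFunctor D (1 : ℤ)).map biprod.inl) (T'.mor₃ ≫ (shiftFunctor D (1 : ℤ)).map biprod.inr)) ∈ distinguishedTriangles ↔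
      (T ∈ distinguishedTriangles ∧ T' ∈ distinguishedTriangles) := by
  have hsh : ∀ {P Q R : D} (u : P ⟶ Q) (w : Q ⟶ R), u⟦(1 : ℤ)⟧' ≫ w⟦(1 : ℤ)⟧' = (u ≫ w)⟦(1 : ℤ)⟧' :=
    fun u w => ((shiftFunctor D (1 : ℤ)).map_comp u w).symm
  constructor
  · intro hS
    constructor
    · refine distinguished_of_retract T _ hS
        { hom₁ := biprod.inl, hom₂ := biprod.inl, hom₃ := biprod.inl, comm₁ := by simp,
          comm₂ := by simp, comm₃ := by simp }
        { hom₁ := biprod.fst, hom₂ := biprod.fst, hom₃ := biprod.fst, comm₁ := by simp,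
          comm₂ := by simp, comm₃ := by
            apply biprod.hom_ext'
            · simp [hsh]
            · simp [hsh] } (by simp) (by simp) (by simp)
    · refine distinguished_of_retract T' _ hS
        { hom₁ := biprod.inr, hom₂ := biprod.inr, hom₃ := biprod.inr, comm₁ := by simp,
          comm₂ := by simp, comm₃ := by simp }
        { hom₁ := biprod.snd, hom₂ := biprod.snd, hom₃ := biprod.snd, comm₁ := by simp,
          comm₂ := by simp, comm₃ := by
            apply biprod.hom_ext'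
            · simp [hsh]
            · simp [hsh] } (by simp) (by simp) (by simp)
  · rintro ⟨hT, hT'⟩
    obtain ⟨Q, g₂, h₂, hT₂⟩ := distinguished_cocone_triangle (biprod.map T.mor₁ T'.mor₁)
    obtain ⟨c₁, hc₁, hc₁'⟩ := complete_distinguished_triangle_morphism T _ hT hT₂
      biprod.inl biprod.inl (by simp)
    obtain ⟨c₂, hc₂, hc₂'⟩ := complete_distinguished_triangle_morphism T' _ hT' hT₂
      biprod.inr biprod.inr (by simp)
    change T.mor₂ ≫ c₁ = biprod.inl ≫ g₂ at hc₁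
    change T.mor₃ ≫ biprod.inl⟦(1 : ℤ)⟧' = c₁ ≫ h₂ at hc₁'
    change T'.mor₂ ≫ c₂ = biprod.inr ≫ g₂ at hc₂
    change T'.mor₃ ≫ biprod.inr⟦(1 : ℤ)⟧' = c₂ ≫ h₂ at hc₂'
    have hid : 𝟙 ((T.obj₁ ⊞ T'.obj₁)⟦(1 : ℤ)⟧) =
        (biprod.fst : T.obj₁ ⊞ T'.obj₁ ⟶ _)⟦(1 : ℤ)⟧' ≫ biprod.inl⟦(1 : ℤ)⟧' +
          (biprod.snd : T.obj₁ ⊞ T'.obj₁ ⟶ _)⟦(1 : ℤ)⟧' ≫ biprod.inr⟦(1 : ℤ)⟧' := by
      rw [hsh, hsh, ← Functor.map_add, biprod.total, CategoryTheory.Functor.map_id]
    refine distinguished_of_exact _ _ _ g₂ h₂ hT₂ (biprod.desc c₁ c₂) ?_ ?_ ?_ ?_ ?_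
    · apply biprod.hom_ext'
      · simp [hc₁]
      · simp [hc₂]
    · apply biprod.hom_ext'
      · simp [hc₁']
      · simp [hc₂']
    · apply biprod.hom_ext'
      · simp [comp_distTriang_mor_zero₁₂_assoc _ hT]
      · simp [comp_distTriang_mor_zero₁₂_assoc _ hT']
    · intro A x hx
      have h1 : (x ≫ biprod.fst) ≫ T.mor₃ = 0 := by
        have := congrArg (fun m => m ≫ (biprod.fst : T.obj₁ ⊞ T'.obj₁ ⟶ _)⟦(1 : ℤ)⟧') hx
        simp only [Category.assoc, zero_comp] at this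
        rw [Category.assoc, ← this]
        congr 1
        apply biprod.hom_ext'
        · simp [hsh]
        · simp [hsh]
      have h2 : (x ≫ biprod.snd) ≫ T'.mor₃ = 0 := by
        have := congrArg (fun m => m ≫ (biprod.snd : T.obj₁ ⊞ T'.obj₁ ⟶ _)⟦(1 : ℤ)⟧') hx
        simp only [Category.assoc, zero_comp] at this
        rw [Category.assoc, ← this]
        congr 1
        apply biprod.hom_ext'
        · simp [hsh]
        · simp [hsh]
      obtain ⟨y, hy⟩ := Triangle.coyoneda_exact₃ _ hT _ h1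
      obtain ⟨y', hy'⟩ := Triangle.coyoneda_exact₃ _ hT' _ h2
      refine ⟨biprod.lift y y', ?_⟩
      apply biprod.hom_ext
      · simp [hy]
      · simp [hy']
    · intro A x hx
      have h1 : (x ≫ (biprod.fst : T.obj₁ ⊞ T'.obj₁ ⟶ _)⟦(1 : ℤ)⟧') ≫ T.mor₁⟦(1 : ℤ)⟧' = 0 := by
        have := congrArg (fun m => m ≫ (biprod.fst : T.obj₂ ⊞ T'.obj₂ ⟶ _)⟦(1 : ℤ)⟧') hx
        simp only [Category.assoc, zero_comp, hsh, biprod.map_fst] at this
        rw [Category.assoc, hsh, this]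
      have h2 : (x ≫ (biprod.snd : T.obj₁ ⊞ T'.obj₁ ⟶ _)⟦(1 : ℤ)⟧') ≫ T'.mor₁⟦(1 : ℤ)⟧' = 0 := by
        have := congrArg (fun m => m ≫ (biprod.snd : T.obj₂ ⊞ T'.obj₂ ⟶ _)⟦(1 : ℤ)⟧') hx
        simp only [Category.assoc, zero_comp, hsh, biprod.map_snd] at this
        rw [Category.assoc, hsh, this]
      obtain ⟨y, hy⟩ := Triangle.coyoneda_exact₁ _ hT _ h1
      obtain ⟨y', hy'⟩ := Triangle.coyoneda_exact₁ _ hT' _ h2
      refine ⟨biprod.lift y y', ?_⟩
      rw [biprod.lift_desc, ← Category.assoc, ← hy, ← Category.assoc, ← hy', Category.assoc,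
        Category.assoc, ← Preadditive.comp_add, ← hid, Category.comp_id]

end Groth.Agent.S6581
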