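import Groth.Statements.S6582
-- import your own Groth.Agent.* helpers here

set_option autoImplicit false
universe v u v' u'
open CategoryTheory CategoryTheory.Limits
open CohDer

namespace Groth.Agent.S6582

section
open CategoryTheory.Pretriangulated ZeroObject

variable {D : Type u} [Category.{v} D] [Preadditive D] [HasZeroObject D] [HasShift D ℤ]
    [∀ n : ℤ, (shiftFunctor D n).Additive] [Pretriangulated D]
    {D' : Type u'} [Category.{v'} D'] [Preadditive D'] [HasZeroObject D'] [HasShift D' ℤ]
    [∀ n : ℤ, (shiftFunctor D' n).Additive] [Pretriangulated D']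
    (F : D ⥤ D') [F.Additive] [F.CommShift ℤ] [F.IsTriangulated]

lemma closedIso : ObjectProperty.IsClosedUnderIsomorphisms (fun X : D => IsZero (F.obj X)) where
  of_iso e h := IsZero.of_iso h (F.mapIso e).symm

set_option backward.defeqAttrib.useBackward true in
set_option backward.isDefEq.respectTransparency false in
lemma isTri : ObjectProperty.IsTriangulated (fun X : D => IsZero (F.obj X)) := by
  have := closedIso F
  have : ObjectProperty.ContainsZero (fun X : D => IsZero (F.obj X)) :=
    ⟨⟨0, isZero_zero _, F.map_isZero (isZero_zero _)⟩⟩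
  have : ObjectProperty.IsStableUnderShift (fun X : D => IsZero (F.obj X)) ℤ :=
    { isStableUnderShiftBy := fun n => ⟨fun X hX => by
        have hX' : IsZero (F.obj X) := hX
        exact IsZero.of_iso ((shiftFunctor D' n).map_isZero hX') ((F.commShiftIso n).app X)⟩ }
  have : ObjectProperty.IsTriangulatedClosed₂ (fun X : D => IsZero (F.obj X)) :=
    .mk' (fun T hT h₁ h₃ => by
      have h₁' : IsZero (F.obj T.obj₁) := h₁
      have h₃' : IsZero (F.obj T.obj₃) := h₃
      have hT' := F.map_distinguished T hT
      exact (Triangle.isZero₂_iff _ hT').2 ⟨h₁'.eq_of_src _ _, h₃'.eq_of_tgt _ _⟩)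
  exact {}

lemma sat (X Y : D) (h : IsZero (F.obj (X ⊞ Y))) : IsZero (F.obj X) ∧ IsZero (F.obj Y) := by
  constructor
  · rw [IsZero.iff_id_eq_zero]
    have : 𝟙 (F.obj X) = F.map (biprod.inl : X ⟶ X ⊞ Y) ≫ F.map biprod.fst := by
      rw [← F.map_comp, biprod.inl_fst, F.map_id]
    rw [this, h.eq_of_tgt (F.map biprod.inl) 0, zero_comp]
  · rw [IsZero.iff_id_eq_zero]
    have : 𝟙 (F.obj Y) = F.map (biprod.inr : Y ⟶ X ⊞ Y) ≫ F.map biprod.snd := by
      rw [← F.map_comp, biprod.inr_snd, F.map_id]
    rw [this, h.eq_of_tgt (F.map biprod.inr) 0, zero_comp]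

end

open CategoryTheory.Pretriangulated in
/-- Let F : D ⥤ D' be an exact functor of pretriangulated categories. The full subcategory of D on the
objects X with F(X) ≅ 0 is a strictly full pretriangulated subcategory (it contains a zero object,
is stable under shifts and isomorphisms and is closed under extensions) and it is saturated:
whenever X ⊞ Y belongs to it, so do X and Y. -/
theorem result {D : Type u} [Category.{v} D] [Preadditive D] [HasZeroObject D] [HasShift D ℤ]
    [∀ n : ℤ, (shiftFunctor D n).Additive] [Pretriangulated D]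
    {D' : Type u'} [Category.{v'} D'] [Preadditive D'] [HasZeroObject D'] [HasShift D' ℤ]
    [∀ n : ℤ, (shiftFunctor D' n).Additive] [Pretriangulated D']
    (F : D ⥤ D') [F.Additive] [F.CommShift ℤ] [F.IsTriangulated] :
    (ObjectProperty.IsTriangulated (fun X : D => IsZero (F.obj X))) ∧
    (ObjectProperty.IsClosedUnderIsomorphisms (fun X : D => IsZero (F.obj X))) ∧
    (∀ X Y : D, IsZero (F.obj (X ⊞ Y)) → IsZero (F.obj X) ∧ IsZero (F.obj Y)) := by
  exact ⟨isTri F, closedIso F, sat F⟩

end Groth.Agent.S6582
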