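import Groth.Statements.S6583
-- import your own Groth.Agent.* helpers here

set_option autoImplicit false
universe v u v' u'
open CategoryTheory CategoryTheory.Limits
open CohDer

namespace Groth.Agent.S6583

section
open CategoryTheory.Pretriangulated ZeroObject

variable {D : Type u} [Category.{v} D] [Preadditive D] [HasZeroObject D] [HasShift D ℤ]
    [∀ n : ℤ, (shiftFunctor D n).Additive] [Pretriangulated D]
    {A : Type u'} [Category.{v'} A] [Abelian A] (H : D ⥤ A) [H.IsHomological]

/-- the property -/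
def PP : ObjectProperty D :=
  fun X : D => ∃ N : ℤ, ∀ n : ℤ, n ≤ N → IsZero (H.obj ((shiftFunctor D n).obj X))

lemma closedIso : ObjectProperty.IsClosedUnderIsomorphisms (PP H) where
  of_iso e := by
    rintro ⟨N, hN⟩
    exact ⟨N, fun n hn => (hN n hn).of_iso ((shiftFunctor D n ⋙ H).mapIso e.symm)⟩

lemma isTri : ObjectProperty.IsTriangulated (PP H) := by
  have := closedIso H
  have : ObjectProperty.ContainsZero (PP H) :=
    ⟨⟨0, isZero_zero _, ⟨0, fun n _ => (shiftFunctor D n ⋙ H).map_isZero (isZero_zero D)⟩⟩⟩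
  have : ObjectProperty.IsStableUnderShift (PP H) ℤ :=
    { isStableUnderShiftBy := fun a => ⟨by
        rintro X ⟨N, hN⟩
        refine ⟨N - a, fun b hb => ?_⟩
        exact (hN (a + b) (by omega)).of_iso (H.mapIso ((shiftFunctorAdd D a b).app X).symm)⟩ }
  have : ObjectProperty.IsTriangulatedClosed₂ (PP H) :=
    .mk' (by
      rintro T hT ⟨N₁, h₁⟩ ⟨N₃, h₃⟩
      refine ⟨min N₁ N₃, fun n hn => ?_⟩
      exact (H.map_distinguished_exact _
        (Triangle.shift_distinguished T hT n)).isZero_of_both_zeros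
          ((h₁ n (le_trans hn (min_le_left _ _))).eq_of_src _ _)
          ((h₃ n (le_trans hn (min_le_right _ _))).eq_of_tgt _ _))
  exact {}

lemma retract_zero {X Y : D} (i : X ⟶ Y) (r : Y ⟶ X) (h : i ≫ r = 𝟙 X) (n : ℤ)
    (hY : IsZero (H.obj ((shiftFunctor D n).obj Y))) :
    IsZero (H.obj ((shiftFunctor D n).obj X)) := by
  rw [IsZero.iff_id_eq_zero]
  have : 𝟙 (H.obj ((shiftFunctor D n).obj X)) =
      H.map ((shiftFunctor D n).map i) ≫ H.map ((shiftFunctor D n).map r) := by
    rw [← H.map_comp, ← CategoryTheory.Functor.map_comp, h, CategoryTheory.Functor.map_id, CategoryTheory.Functor.map_id]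
  rw [this, hY.eq_of_tgt (H.map ((shiftFunctor D n).map i)) 0, zero_comp]

lemma sat (X Y : D) (h : PP H (X ⊞ Y)) : PP H X ∧ PP H Y := by
  obtain ⟨N, hN⟩ := h
  exact ⟨⟨N, fun n hn => retract_zero H biprod.inl biprod.fst (by simp) n (hN n hn)⟩,
    ⟨N, fun n hn => retract_zero H biprod.inr biprod.snd (by simp) n (hN n hn)⟩⟩

end

open CategoryTheory.Pretriangulated in
/-- Let H : D ⥤ A be a homological functor from a pretriangulated category to an abelian category. The
full subcategory of D on the objects X with H(X⟦n⟧) = 0 for all n ≪ 0 is a strictly full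
pretriangulated subcategory (zero object, stable under shifts and isomorphisms, closed under
extensions) and is saturated: if X ⊞ Y belongs to it then so do X and Y. -/
theorem result {D : Type u} [Category.{v} D] [Preadditive D] [HasZeroObject D] [HasShift D ℤ]
    [∀ n : ℤ, (shiftFunctor D n).Additive] [Pretriangulated D]
    {A : Type u'} [Category.{v'} A] [Abelian A] (H : D ⥤ A) [H.IsHomological] :
    (ObjectProperty.IsTriangulated (fun X : D => ∃ N : ℤ, ∀ n : ℤ, n ≤ N → IsZero (H.obj ((shiftFunctor D n).obj X)))) ∧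
    (ObjectProperty.IsClosedUnderIsomorphisms (fun X : D => ∃ N : ℤ, ∀ n : ℤ, n ≤ N → IsZero (H.obj ((shiftFunctor D n).obj X)))) ∧
    (∀ X Y : D, (∃ N : ℤ, ∀ n : ℤ, n ≤ N → IsZero (H.obj ((shiftFunctor D n).obj (X ⊞ Y)))) →
      (∃ N : ℤ, ∀ n : ℤ, n ≤ N → IsZero (H.obj ((shiftFunctor D n).obj X))) ∧
      (∃ N : ℤ, ∀ n : ℤ, n ≤ N → IsZero (H.obj ((shiftFunctor D n).obj Y)))) := by
  exact ⟨isTri H, closedIso H, sat H⟩

end Groth.Agent.S6583
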