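import Groth.Statements.S6585
import Mathlib.CategoryTheory.Triangulated.Orthogonal
-- import your own Groth.Agent.* helpers here

set_option autoImplicit false
universe v u
open CategoryTheory CategoryTheory.Limits
open CohDer

namespace Groth.Agent.S6585

section
open CategoryTheory.Pretriangulated ZeroObject

variable {D : Type u} [Category.{v} D] [Preadditive D] [HasZeroObject D] [HasShift D ℤ]
    [∀ n : ℤ, (shiftFunctor D n).Additive] [Pretriangulated D] [IsTriangulated D]

lemma leftOrth_retracts (P : ObjectProperty D) : P.leftOrthogonal.IsStableUnderRetracts where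
  of_retract {X Y} r hY := by
    intro Z f hZ
    have h1 : r.i ≫ r.r ≫ f = f := by rw [← Category.assoc, r.retract, Category.id_comp]
    rw [← h1, hY (r.r ≫ f) hZ, comp_zero]

set_option backward.defeqAttrib.useBackward true in
set_option backward.isDefEq.respectTransparency false in
lemma aux (E K : D) :
    (∀ (i : ℤ) (f : E ⟶ (shiftFunctor D i).obj K), f = 0) ↔
      ∀ (E' : D), (ObjectProperty.singleton E).triangEnvelope E' → ∀ f : E' ⟶ K, f = 0 := by
  constructor
  · intro h E' hE' f
    let Q : ObjectProperty D := ((ObjectProperty.singleton K).shiftClosure ℤ).leftOrthogonal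
    have : Q.IsStableUnderRetracts := leftOrth_retracts _
    have hQ : ObjectProperty.singleton E ≤ Q := by
      intro X hX
      rw [ObjectProperty.singleton_iff] at hX
      subst hX
      rintro Y g ⟨Z, a, e, hZ⟩
      rw [ObjectProperty.singleton_iff] at hZ
      subst hZ
      have := h a (g ≫ e.hom)
      rw [← cancel_mono e.hom, this, zero_comp]
    have hle : (ObjectProperty.singleton E).triangEnvelope ≤ Q :=
      (ObjectProperty.triangEnvelope_le_iff _).2 hQ
    exact hle _ hE' f (ObjectProperty.le_shiftClosure _ _ (by simp))
  · intro h i f
    have hE : (ObjectProperty.singleton E).triangEnvelope ((shiftFunctor D (-i)).obj E) :=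
      (ObjectProperty.singleton E).triangEnvelope.le_shift (-i) _ (ObjectProperty.le_triangEnvelope _ _ (by simp))
    let e : (shiftFunctor D i).obj ((shiftFunctor D (-i)).obj E) ≅ E :=
      (shiftFunctorCompIsoId D (-i) i (by simp)).app E
    let e' : (shiftFunctor D (-i)).obj ((shiftFunctor D i).obj K) ≅ K :=
      (shiftFunctorCompIsoId D i (-i) (by simp)).app K
    have h0 := h _ hE ((shiftFunctor D (-i)).map f ≫ e'.hom)
    have h1 : (shiftFunctor D (-i)).map f = 0 := by
      rw [← cancel_mono e'.hom, h0, zero_comp]
    apply (shiftFunctor D (-i)).map_injective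
    rw [h1, Functor.map_zero]

end

open CategoryTheory.Pretriangulated in
/-- Let D be a triangulated category and E, K objects of D. Then Hom(E, K⟦i⟧) = 0 for all integers i if
and only if Hom(E', K) = 0 for every E' in ⟨E⟩, the smallest strictly full saturated triangulated
subcategory of D containing E (the objects obtained from E by shifts, finite direct sums, direct
summands and extensions). -/
theorem result {D : Type u} [Category.{v} D] [Preadditive D] [HasZeroObject D] [HasShift D ℤ]
    [∀ n : ℤ, (shiftFunctor D n).Additive] [Pretriangulated D] [IsTriangulated D]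
    (E K : D) :
    (∀ (i : ℤ) (f : E ⟶ (shiftFunctor D i).obj K), f = 0) ↔
      ∀ (E' : D), (ObjectProperty.singleton E).triangEnvelope E' → ∀ f : E' ⟶ K, f = 0 := by
  exact aux E K

end Groth.Agent.S6585
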