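import Groth.Statements.S6587
-- import your own Groth.Agent.* helpers here

set_option autoImplicit false
universe v u
open CategoryTheory CategoryTheory.Limits Opposite
open CohDer

namespace Groth.Agent.S6587

open CategoryTheory.Pretriangulated in
/-- Let D be a triangulated category and let X_n → Y_n → Z_n → X_n⟦1⟧ be an inverse system of
distinguished triangles of D indexed by ℕ (levelwise maps f, g, h of inverse systems, each level
distinguished). If the inverse system (Z_n) is pro-zero, then the levelwise map f : (X_n) → (Y_n) is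
a pro-isomorphism. -/
theorem result {D : Type u} [Category.{v} D] [Preadditive D] [HasZeroObject D] [HasShift D ℤ]
    [∀ n : ℤ, (shiftFunctor D n).Additive] [Pretriangulated D] [IsTriangulated D]
    (X Y Z : ARSys.PS D) (f : X ⟶ Y) (g : Y ⟶ Z) (h : Z ⟶ X ⋙ shiftFunctor D (1 : ℤ))
    (hT : ∀ n : ℕ, Triangle.mk (f.app (op n)) (g.app (op n)) (h.app (op n)) ∈ distinguishedTriangles)
    (hZ : DerCA.IsProZero Z) :
    DerCA.IsProIso f := by
  intro n
  obtain ⟨n', hn', hz1⟩ := hZ n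
  obtain ⟨m, hm, hz2⟩ := hZ n'
  have h1 : ARSys.tr Y hm ≫ g.app (op n') = 0 := by
    have := g.naturality (homOfLE hm).op
    dsimp [ARSys.tr] at this hz2 ⊢
    rw [this, hz2, comp_zero]
  obtain ⟨b1, hb1⟩ := Triangle.coyoneda_exact₂ _ (hT n') (ARSys.tr Y hm) h1
  change Y.obj (op m) ⟶ X.obj (op n') at b1
  change ARSys.tr Y hm = b1 ≫ f.app (op n') at hb1
  have trX : ARSys.tr X (hn'.trans hm) = ARSys.tr X hm ≫ ARSys.tr X hn' := by
    dsimp [ARSys.tr]
    rw [← X.map_comp]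
    rfl
  have trY : ARSys.tr Y (hn'.trans hm) = ARSys.tr Y hm ≫ ARSys.tr Y hn' := by
    dsimp [ARSys.tr]
    rw [← Y.map_comp]
    rfl
  have natf : ∀ {p q : ℕ} (hpq : p ≤ q), ARSys.tr X hpq ≫ f.app (op p) = f.app (op q) ≫ ARSys.tr Y hpq :=
    fun hpq => f.naturality (homOfLE hpq).op
  refine ⟨m, hn'.trans hm, b1 ≫ ARSys.tr X hn', ?_, ?_⟩
  · -- f_m ≫ b1 ≫ tr = tr
    let φ := f.app (op m) ≫ b1 - ARSys.tr X hm
    have hφ : φ ≫ f.app (op n') = 0 := by
      dsimp [φ]
      rw [Preadditive.sub_comp, Category.assoc, ← hb1, natf hm, sub_self]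
    have hφ' : φ⟦(1 : ℤ)⟧' ≫ (f.app (op n'))⟦(1 : ℤ)⟧' = 0 := by
      rw [← Functor.map_comp, hφ, Functor.map_zero]
    obtain ⟨ψ, hψ⟩ := Triangle.coyoneda_exact₁ _ (hT n') (φ⟦(1 : ℤ)⟧') hφ'
    change (X.obj (op m))⟦(1 : ℤ)⟧ ⟶ Z.obj (op n') at ψ
    change φ⟦(1 : ℤ)⟧' = ψ ≫ h.app (op n') at hψ
    have h2 : (φ ≫ ARSys.tr X hn')⟦(1 : ℤ)⟧' = 0 := by
      rw [Functor.map_comp, hψ, Category.assoc]
      have := h.naturality (homOfLE hn').op
      dsimp [ARSys.tr] at this hz1 ⊢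
      rw [← this, hz1, zero_comp, comp_zero]
    have h3 : φ ≫ ARSys.tr X hn' = 0 := (shiftFunctor D (1 : ℤ)).map_injective (by
      rw [h2, Functor.map_zero])
    dsimp [φ] at h3
    rw [Preadditive.sub_comp, sub_eq_zero, Category.assoc] at h3
    rw [h3, trX]
  · rw [Category.assoc, natf hn', ← Category.assoc, ← hb1, trY]

end Groth.Agent.S6587
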