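import Groth.Statements.S6615
import Groth.Agent.H33.ProSys2

set_option autoImplicit false
universe v u
open CategoryTheory CategoryTheory.Limits Opposite
open CohDer

namespace Groth.Agent.S6615

section
open CategoryTheory.Pretriangulated Groth.Agent.H33

variable {D : Type u} [Category.{v} D] [Preadditive D] [HasZeroObject D] [HasShift D ℤ]
    [∀ n : ℤ, (shiftFunctor D n).Additive] [Pretriangulated D]
    (X Y Z : ARSys.PS D) (f : X ⟶ Y) (g : Y ⟶ Z) (h : Z ⟶ X ⋙ shiftFunctor D (1 : ℤ))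
    (hT : ∀ n : ℕ, Triangle.mk (f.app (op n)) (g.app (op n)) (h.app (op n)) ∈ distinguishedTriangles)
    {A B C : D} (f₀ : A ⟶ B) (g₀ : B ⟶ C) (δ₀ : C ⟶ A⟦(1 : ℤ)⟧)
    (hT₀ : Triangle.mk f₀ g₀ δ₀ ∈ distinguishedTriangles)
    (cA : (Functor.const ℕᵒᵖ).obj A ⟶ X) (cC : (Functor.const ℕᵒᵖ).obj C ⟶ Z)
    (k : ℕ) (a : X.obj (op k) ⟶ A) (b : Y.obj (op k) ⟶ B) (c : Z.obj (op k) ⟶ C)
    (comm₁ : f.app (op k) ≫ b = a ≫ f₀) (comm₂ : g.app (op k) ≫ c = b ≫ g₀)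
    (comm₃ : h.app (op k) ≫ a⟦(1 : ℤ)⟧' = c ≫ δ₀)
    (hA : IsRetr X A cA k a) (hC : IsRetr Z C cC k c)

include hT hT₀ comm₁ comm₂ comm₃ hA hC

omit [∀ n : ℤ, (shiftFunctor D n).Additive] [Pretriangulated D] hT hT₀ comm₁ comm₂ comm₃ hA hC in
lemma h_nat {n m : ℕ} (hnm : n ≤ m) :
    ARSys.tr Z hnm ≫ h.app (op n) = h.app (op m) ≫ (ARSys.tr X hnm)⟦(1 : ℤ)⟧' :=
  h.naturality (homOfLE hnm).op

set_option backward.defeqAttrib.useBackward true in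
set_option backward.isDefEq.respectTransparency false in
lemma chase_surj (W : D) (n : ℕ) (w : Y.obj (op n) ⟶ W) :
    ∃ (v : B ⟶ W) (m : ℕ) (hk : k ≤ m) (hn : n ≤ m),
      ARSys.tr Y hn ≫ w = ARSys.tr Y hk ≫ b ≫ v := by
  obtain ⟨m₁, hk₁, hn₁, E1⟩ := hA.surj (f.app (op n) ≫ w)
  set vA : A ⟶ W := cA.app (op n) ≫ f.app (op n) ≫ w with hvA
  have h2 : δ₀ ≫ vA⟦(1 : ℤ)⟧' = 0 := by
    apply hC.inj _ _ hk₁
    rw [comp_zero, comp_zero, ← Category.assoc c, ← comm₃, Category.assoc, ← Category.assoc,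
      h_nat X Z h hk₁, Category.assoc, ← Functor.map_comp, ← Functor.map_comp, ← E1,
      ← Category.assoc, tr_naturality f hn₁, Category.assoc, Functor.map_comp, ← Category.assoc]
    have := comp_distTriang_mor_zero₃₁ _ (hT m₁)
    dsimp at this
    rw [this, zero_comp]
  obtain ⟨v₁, hv₁⟩ : ∃ v₁ : B ⟶ W, vA = f₀ ≫ v₁ := yoneda_exact₁' _ hT₀ vA h2
  have h3 : f.app (op m₁) ≫ (ARSys.tr Y hn₁ ≫ w - ARSys.tr Y hk₁ ≫ b ≫ v₁) = 0 := by
    rw [Preadditive.comp_sub, sub_eq_zero, ← tr_naturality_assoc f hn₁, E1,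
      ← tr_naturality_assoc f hk₁, reassoc_of% comm₁, ← hv₁]
  obtain ⟨u, hu⟩ : ∃ u : Z.obj (op m₁) ⟶ W,
      ARSys.tr Y hn₁ ≫ w - ARSys.tr Y hk₁ ≫ b ≫ v₁ = g.app (op m₁) ≫ u :=
    Triangle.yoneda_exact₂ _ (hT m₁) _ h3
  obtain ⟨m₂, hk₂, hm₂, E5⟩ := hC.surj u
  refine ⟨v₁ + g₀ ≫ cC.app (op m₁) ≫ u, m₂, hk₂, hn₁.trans hm₂, ?_⟩
  have hu' : ARSys.tr Y hn₁ ≫ w = ARSys.tr Y hk₁ ≫ b ≫ v₁ + g.app (op m₁) ≫ u := by
    rw [← hu]
    abel
  rw [← tr_comp_assoc Y hn₁ hm₂, hu', Preadditive.comp_add, Preadditive.comp_add,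
    Preadditive.comp_add, tr_comp_assoc, tr_naturality_assoc g hm₂, E5,
    ← tr_naturality_assoc g hk₂, reassoc_of% comm₂]

set_option backward.defeqAttrib.useBackward true in
set_option backward.isDefEq.respectTransparency false in
lemma chase_inj (W : D) (v : B ⟶ W) (m : ℕ) (hm : k ≤ m)
    (E0 : ARSys.tr Y hm ≫ b ≫ v = 0) : v = 0 := by
  have h1 : f₀ ≫ v = 0 := by
    apply hA.inj _ _ hm
    rw [comp_zero, comp_zero, ← reassoc_of% comm₁, tr_naturality_assoc f hm, E0, comp_zero]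
  obtain ⟨vC, hvC⟩ : ∃ vC : C ⟶ W, v = g₀ ≫ vC := Triangle.yoneda_exact₂ _ hT₀ v h1
  have h3 : g.app (op m) ≫ (ARSys.tr Z hm ≫ c ≫ vC) = 0 := by
    rw [← tr_naturality_assoc g hm, reassoc_of% comm₂, ← hvC, E0]
  obtain ⟨u, hu⟩ : ∃ u : (X.obj (op m))⟦(1 : ℤ)⟧ ⟶ W,
      ARSys.tr Z hm ≫ c ≫ vC = h.app (op m) ≫ u := Triangle.yoneda_exact₃ _ (hT m) _ h3
  obtain ⟨m₂, hk₂, hm₂, E4⟩ := hA.map_surj (shiftFunctor D (1 : ℤ)) u
  set vA' : A⟦(1 : ℤ)⟧ ⟶ W := (cA.app (op m))⟦(1 : ℤ)⟧' ≫ u with hvA'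
  have h5 : vC = δ₀ ≫ vA' := by
    apply hC.inj _ _ hk₂
    rw [← reassoc_of% comm₃, ← tr_comp_assoc Z hm hm₂, hu, ← Category.assoc,
      h_nat X Z h hm₂, Category.assoc, E4, ← Category.assoc, ← h_nat X Z h hk₂, Category.assoc]
  rw [hvC, h5, ← Category.assoc]
  have := comp_distTriang_mor_zero₂₃ _ hT₀
  dsimp at this
  rw [this, zero_comp]

end

set_option backward.defeqAttrib.useBackward true in
set_option backward.isDefEq.respectTransparency false in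
open CategoryTheory.Pretriangulated Groth.Agent.H33 in
/-- Essential constancy of the middle system: in a triangulated category D, take an ℕ-indexed inverse
system of distinguished triangles with vertices A_n, B_n, C_n. When (A_n) and (C_n) are both
essentially constant, the middle system (B_n) is too. (The published statement also says the values
fit in a distinguished triangle receiving a map of triangles from some level; this row asserts only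
the essential constancy of the middle system.) -/
theorem result {D : Type u} [Category.{v} D] [Preadditive D] [HasZeroObject D] [HasShift D ℤ]
    [∀ n : ℤ, (shiftFunctor D n).Additive] [Pretriangulated D] [IsTriangulated D]
    (X Y Z : ARSys.PS D) (f : X ⟶ Y) (g : Y ⟶ Z) (h : Z ⟶ X ⋙ shiftFunctor D (1 : ℤ))
    (hT : ∀ n : ℕ, Triangle.mk (f.app (op n)) (g.app (op n)) (h.app (op n)) ∈ distinguishedTriangles)
    (hX : ∃ (A : D) (cA : (Functor.const ℕᵒᵖ).obj A ⟶ X), DerCA.IsEssConstant X A cA)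
    (hZ : ∃ (C : D) (cC : (Functor.const ℕᵒᵖ).obj C ⟶ Z), DerCA.IsEssConstant Z C cC) :
    ∃ (B : D) (cB : (Functor.const ℕᵒᵖ).obj B ⟶ Y), DerCA.IsEssConstant Y B cB := by
  obtain ⟨A, cA, iA, sA, hA⟩ := hX
  obtain ⟨C, cC, iC, sC, hC⟩ := hZ
  change IsRetr X A cA iA sA at hA
  change IsRetr Z C cC iC sC at hC
  -- common level
  let i := max iA iC
  have hA₁ := hA.move (le_max_left iA iC)
  have hC₁ := hC.move (le_max_right iA iC)
  set a₁ := ARSys.tr X (le_max_left iA iC) ≫ sA with ha₁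
  set c₁ := ARSys.tr Z (le_max_right iA iC) ≫ sC with hc₁
  obtain ⟨k, hik, _, hk⟩ := hC₁.2 i
  have hA₂ := hA₁.move hik
  have hC₂ := hC₁.move hik
  let δ₀ : C ⟶ A⟦(1 : ℤ)⟧ := cC.app (op i) ≫ h.app (op i) ≫ a₁⟦(1 : ℤ)⟧'
  obtain ⟨B, f₀, g₀, hT₀⟩ := distinguished_cocone_triangle₂ δ₀
  have comm₃ : h.app (op k) ≫ (ARSys.tr X hik ≫ a₁)⟦(1 : ℤ)⟧' = (ARSys.tr Z hik ≫ c₁) ≫ δ₀ := by
    have e1 : ARSys.tr Z hik ≫ h.app (op i) = h.app (op k) ≫ (ARSys.tr X hik)⟦(1 : ℤ)⟧' :=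
      h_nat X Z h hik
    rw [Functor.map_comp, ← Category.assoc, ← e1]
    dsimp only [δ₀]
    have e2 : ARSys.tr Z hik = ARSys.tr Z hik ≫ c₁ ≫ cC.app (op i) := by
      rw [← hk]
    conv_lhs => rw [e2]
    simp only [Category.assoc]
  obtain ⟨b, comm₁, comm₂⟩ := complete_distinguished_triangle_morphism₂ _ _ (hT k) hT₀
    (ARSys.tr X hik ≫ a₁) (ARSys.tr Z hik ≫ c₁) comm₃
  refine ⟨B, ?_⟩
  exact essConstant_of_yoneda Y B k b
    (chase_inj X Y Z f g h hT f₀ g₀ δ₀ hT₀ cA cC k _ b _ comm₁ comm₂ comm₃ hA₂ hC₂)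
    (chase_surj X Y Z f g h hT f₀ g₀ δ₀ hT₀ cA cC k _ b _ comm₁ comm₂ comm₃ hA₂ hC₂)

end Groth.Agent.S6615
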