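import Groth.Statements.S6589
import Groth.Agent.H33.DerTrunc
import Groth.Agent.S6615

set_option autoImplicit false
universe w v u
open CategoryTheory CategoryTheory.Limits Opposite
open CohDer

namespace Groth.Agent.S6589

section
open Groth.Agent.H33 DerivedCategory

lemma essConstant_of_homology {A : Type u} [Category.{v} A] [Abelian A] [HasDerivedCategory.{w} A] :
    ∀ (d : ℕ) (X : ARSys.PS (DerivedCategory A)) (a : ℤ),
    (∀ (n : ℕ) (i : ℤ), i < a ∨ a + d < i →
      IsZero ((homologyFunctor A i).obj (X.obj (op n)))) →
    (∀ i : ℤ, a ≤ i → ∃ (B : A) (c : (Functor.const ℕᵒᵖ).obj B ⟶ X ⋙ homologyFunctor A i),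
      DerCA.IsEssConstant (X ⋙ homologyFunctor A i) B c) →
    ∃ (L : DerivedCategory A) (c : (Functor.const ℕᵒᵖ).obj L ⟶ X),
      DerCA.IsEssConstant X L c := by
  intro d
  induction d with
  | zero =>
    intro X a hX hH
    refine essConstant_heart X a (fun n i hi => hX n i ?_) (hH a le_rfl)
    rcases hi with hi | hi
    · exact Or.inl hi
    · exact Or.inr (by push_cast; lia)
  | succ d ih =>
    intro X a hX hH
    have hX' : ∃ (L : DerivedCategory A) (c : (Functor.const ℕᵒᵖ).obj L ⟶ ltSys X (a + 1)),
        DerCA.IsEssConstant (ltSys X (a + 1)) L c := by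
      refine essConstant_heart (ltSys X (a + 1)) a ?_ ?_
      · intro n i hi
        rcases hi with hi | hi
        · exact isZero_homology_truncLT_of_isZero _ _ _ (hX n i (Or.inl hi))
        · exact isZero_homology_truncLT _ _ _ (by lia)
      · obtain ⟨B, c, hc⟩ := hH a le_rfl
        haveI := isIso_whisker_ltι X (a + 1) a (by lia)
        exact ⟨B, _, essConstant_of_iso
          (asIso (Functor.whiskerRight (ltι X (a + 1)) (homologyFunctor A a))).symm hc⟩
    have hX'' : ∃ (L : DerivedCategory A) (c : (Functor.const ℕᵒᵖ).obj L ⟶ geSys X (a + 1)),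
        DerCA.IsEssConstant (geSys X (a + 1)) L c := by
      refine ih (geSys X (a + 1)) (a + 1) ?_ ?_
      · intro n i hi
        rcases hi with hi | hi
        · exact isZero_homology_truncGE _ _ _ hi
        · exact isZero_homology_truncGE_of_isZero _ _ _
            (hX n i (Or.inr (by push_cast; lia)))
      · intro i hi
        obtain ⟨B, c, hc⟩ := hH i (by lia)
        haveI := isIso_whisker_geπ X (a + 1) i hi
        exact ⟨B, _, essConstant_of_iso
          (asIso (Functor.whiskerRight (geπ X (a + 1)) (homologyFunctor A i))) hc⟩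
    exact Groth.Agent.S6615.result (ltSys X (a + 1)) X (geSys X (a + 1)) (ltι X (a + 1))
      (geπ X (a + 1)) (geδ X (a + 1)) (truncSys_distinguished X (a + 1)) hX' hX''

end

/-- Let A be an abelian category and (X_n) an ℕ-indexed inverse system of objects of D(A). Assume (1)
there are a ≤ b with Hⁱ(X_n) = 0 for all n and all i outside [a, b], and (2) for every i the inverse
system Hⁱ(X_n) of A is essentially constant. Then (X_n) is an essentially constant inverse system of
D(A). (The published statement also identifies Hⁱ of the value with the value of the system Hⁱ(X_n);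
this row does not assert that identification.) -/
theorem result {A : Type u} [Category.{v} A] [Abelian A] [HasDerivedCategory.{w} A]
    (X : ARSys.PS (DerivedCategory A)) (a b : ℤ) (hab : a ≤ b)
    (hX : ∀ (n : ℕ) (i : ℤ), i < a ∨ b < i → IsZero ((DerivedCategory.homologyFunctor A i).obj (X.obj (op n))))
    (hH : ∀ i : ℤ, ∃ (B : A) (c : (Functor.const ℕᵒᵖ).obj B ⟶ X ⋙ DerivedCategory.homologyFunctor A i),
      DerCA.IsEssConstant (X ⋙ DerivedCategory.homologyFunctor A i) B c) :
    ∃ (L : DerivedCategory A) (c : (Functor.const ℕᵒᵖ).obj L ⟶ X), DerCA.IsEssConstant X L c := by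
  obtain ⟨d, hd⟩ := Int.eq_ofNat_of_zero_le (show 0 ≤ b - a by lia)
  refine essConstant_of_homology d X a (fun n i hi => hX n i ?_) (fun i _ => hH i)
  rcases hi with hi | hi
  · exact Or.inl hi
  · exact Or.inr (by lia)

end Groth.Agent.S6589
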