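import Mathlib
import Groth.Statements.S6592

set_option autoImplicit false
universe v u
open CategoryTheory CategoryTheory.Limits
open DerLim

namespace Groth.Agent.S6592

open Pretriangulated

section Abstract

variable {D : Type u} [Category.{v} D] [Preadditive D] [HasZeroObject D] [HasShift D ℤ]
    [∀ n : ℤ, (shiftFunctor D n).Additive] [Pretriangulated D]

/-- Two distinguished triangles whose first two terms are related by "homotopy inverse" data
have isomorphic third terms. -/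
lemma exists_iso_of_data {T T' : Triangle D} (hT : T ∈ distTriang D) (hT' : T' ∈ distTriang D)
    (a : T'.obj₂ ⟶ T.obj₂) (b : T'.obj₁ ⟶ T.obj₁) (ρt : T.obj₂ ⟶ T'.obj₂)
    (ρ : T.obj₁ ⟶ T'.obj₁) (h : T.obj₂ ⟶ T.obj₁)
    (I1 : T'.mor₁ ≫ a = b ≫ T.mor₁) (I2 : T.mor₁ ≫ ρt = ρ ≫ T'.mor₁)
    (I3 : b ≫ ρ = 𝟙 _) (I4 : a ≫ ρt = 𝟙 _) (I5 : ρt ≫ a ≫ T.mor₂ = T.mor₂)
    (I6 : ρ ≫ b = 𝟙 _ + T.mor₁ ≫ h) :
    ∃ ℓ : T'.obj₃ ⟶ T.obj₃, IsIso ℓ ∧ T'.mor₂ ≫ ℓ = a ≫ T.mor₂ := by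
  obtain ⟨ℓ, hℓ2, hℓ3⟩ := complete_distinguished_triangle_morphism T' T hT' hT b a I1
  obtain ⟨ℓ', hℓ'2, hℓ'3⟩ := complete_distinguished_triangle_morphism T T' hT hT' ρ ρt I2
  let φ : T' ⟶ T' :=
    { hom₁ := 𝟙 _
      hom₂ := 𝟙 _
      hom₃ := ℓ ≫ ℓ'
      comm₁ := by rw [Category.comp_id, Category.id_comp]
      comm₂ := by
        rw [Category.id_comp, ← Category.assoc, hℓ2, Category.assoc, hℓ'2, ← Category.assoc, I4,
          Category.id_comp]
      comm₃ := by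
        rw [Category.assoc, ← hℓ'3, ← Category.assoc, ← hℓ3, Category.assoc, ← Functor.map_comp,
          I3] }
  let ψ : T ⟶ T :=
    { hom₁ := 𝟙 _
      hom₂ := 𝟙 _
      hom₃ := ℓ' ≫ ℓ
      comm₁ := by rw [Category.comp_id, Category.id_comp]
      comm₂ := by
        rw [Category.id_comp, ← Category.assoc, hℓ'2, Category.assoc, hℓ2, I5]
      comm₃ := by
        rw [Category.assoc, ← hℓ3, ← Category.assoc, ← hℓ'3, Category.assoc, ← Functor.map_comp,
          I6, Functor.map_add, Functor.map_comp, Preadditive.comp_add,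
          ← Category.assoc T.mor₃, comp_distTriang_mor_zero₃₁ _ hT, zero_comp, add_zero] }
  have h1 : IsIso (ℓ ≫ ℓ') :=
    isIso₃_of_isIso₁₂ φ hT' hT' (by dsimp [φ]; infer_instance) (by dsimp [φ]; infer_instance)
  have h2 : IsIso (ℓ' ≫ ℓ) :=
    isIso₃_of_isIso₁₂ ψ hT hT (by dsimp [ψ]; infer_instance) (by dsimp [ψ]; infer_instance)
  have hr : ℓ ≫ (ℓ' ≫ inv (ℓ ≫ ℓ')) = 𝟙 _ := by rw [← Category.assoc, IsIso.hom_inv_id]
  have hl : (inv (ℓ' ≫ ℓ) ≫ ℓ') ≫ ℓ = 𝟙 _ := by rw [Category.assoc, IsIso.inv_hom_id]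
  have hlr : inv (ℓ' ≫ ℓ) ≫ ℓ' = ℓ' ≫ inv (ℓ ≫ ℓ') := by
    have e1 : ((inv (ℓ' ≫ ℓ) ≫ ℓ') ≫ ℓ) ≫ (ℓ' ≫ inv (ℓ ≫ ℓ')) = ℓ' ≫ inv (ℓ ≫ ℓ') := by
      rw [hl, Category.id_comp]
    have e2 : (inv (ℓ' ≫ ℓ) ≫ ℓ') ≫ (ℓ ≫ (ℓ' ≫ inv (ℓ ≫ ℓ'))) = inv (ℓ' ≫ ℓ) ≫ ℓ' := by
      rw [hr, Category.comp_id]
    exact e2.symm.trans ((Category.assoc _ _ _).symm.trans e1)
  refine ⟨ℓ, ⟨⟨ℓ' ≫ inv (ℓ ≫ ℓ'), hr, ?_⟩⟩, hℓ2⟩
  rw [← hlr]
  exact hl

/-- The structure maps of a homotopy colimit are compatible with the transition maps. -/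
lemma cocone_compat {K : ℕ → D} {f : ∀ n, K n ⟶ K (n + 1)} [HasCoproduct K] {L : D}
    {j : ∀ n, K n ⟶ L} (hL : DerLim.IsHocolim K f L j) (n : ℕ) : j n = f n ≫ j (n + 1) := by
  obtain ⟨c, hT⟩ := hL
  have h : (𝟙 (∐ K) - DerLim.shiftMap K f) ≫ Sigma.desc j = 0 :=
    comp_distTriang_mor_zero₁₂ _ hT
  have h2 : Sigma.ι K n ≫ ((𝟙 (∐ K) - DerLim.shiftMap K f) ≫ Sigma.desc j) =
      Sigma.ι K n ≫ 0 := by rw [h]
  rw [Preadditive.sub_comp, Preadditive.comp_sub, Category.id_comp, Sigma.ι_desc,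
    DerLim.shiftMap, Sigma.ι_desc_assoc, Category.assoc, Sigma.ι_desc, Limits.comp_zero,
    sub_eq_zero] at h2
  exact h2

end Abstract

section Shift

variable {D : Type u} [Category.{v} D]

lemma ι_shiftMap (K : ℕ → D) (f : ∀ m, K m ⟶ K (m + 1)) [HasCoproduct K] (m : ℕ) :
    Sigma.ι K m ≫ DerLim.shiftMap K f = f m ≫ Sigma.ι K (m + 1) := by
  rw [DerLim.shiftMap, Sigma.ι_desc]

variable [Preadditive D]

lemma ι_one_sub_shiftMap (K : ℕ → D) (f : ∀ m, K m ⟶ K (m + 1)) [HasCoproduct K] (m : ℕ) :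
    Sigma.ι K m ≫ (𝟙 _ - DerLim.shiftMap K f) = Sigma.ι K m - f m ≫ Sigma.ι K (m + 1) := by
  rw [Preadditive.comp_sub, Category.comp_id, ι_shiftMap]

lemma ι_one_sub_shiftMap_assoc (K : ℕ → D) (f : ∀ m, K m ⟶ K (m + 1)) [HasCoproduct K] (m : ℕ)
    {Z : D} (g : ∐ K ⟶ Z) :
    Sigma.ι K m ≫ (𝟙 _ - DerLim.shiftMap K f) ≫ g =
      Sigma.ι K m ≫ g - f m ≫ Sigma.ι K (m + 1) ≫ g := by
  rw [← Category.assoc, ι_one_sub_shiftMap, Preadditive.sub_comp, Category.assoc]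

end Shift

section Concrete

variable {D : Type u} [Category.{v} D] [Preadditive D] (F : ℕ ⥤ D)

/-- transition maps of the system, zero when `q < p`. -/
noncomputable def tr (p q : ℕ) : F.obj p ⟶ F.obj q :=
  if h : p ≤ q then F.map (homOfLE h) else 0

lemma tr_of_le {p q : ℕ} (h : p ≤ q) : tr F p q = F.map (homOfLE h) := dif_pos h

lemma tr_of_lt {p q : ℕ} (h : q < p) : tr F p q = 0 := dif_neg (not_le.mpr h)

lemma tr_self (p : ℕ) : tr F p p = 𝟙 _ := by
  rw [tr_of_le F le_rfl]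
  have : homOfLE (le_refl p) = 𝟙 p := Subsingleton.elim _ _
  rw [this, F.map_id]

lemma tr_comp {p q r : ℕ} (h1 : p ≤ q) (h2 : q ≤ r) : tr F p q ≫ tr F q r = tr F p r := by
  rw [tr_of_le F h1, tr_of_le F h2, tr_of_le F (h1.trans h2), ← F.map_comp]
  exact congrArg F.map (Subsingleton.elim _ _)

lemma tr_succ (m : ℕ) : tr F m (m + 1) = F.map (homOfLE (Nat.le_succ m)) :=
  tr_of_le F _

lemma tr_comp_cocone {L : D} (ι : ∀ m, F.obj m ⟶ L)
    (hι : ∀ m, ι m = F.map (homOfLE (Nat.le_succ m)) ≫ ι (m + 1)) {p q : ℕ} (h : p ≤ q) :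
    tr F p q ≫ ι q = ι p := by
  induction q, h using Nat.le_induction with
  | base => rw [tr_self, Category.id_comp]
  | succ q hq ih =>
    rw [← tr_comp F hq (by omega : q ≤ q + 1), Category.assoc, tr_succ, ← hι, ih]

variable [HasCoproduct (fun m : ℕ => F.obj m)]

/-- partial sums `∑_{k < q} tr p k ≫ ι_k`. -/
noncomputable def psum (p q : ℕ) : F.obj p ⟶ ∐ (fun m : ℕ => F.obj m) :=
  ∑ k ∈ Finset.range q, tr F p k ≫ Sigma.ι (fun m : ℕ => F.obj m) k

lemma psum_succ (p q : ℕ) :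
    psum F p (q + 1) = psum F p q + tr F p q ≫ Sigma.ι (fun m : ℕ => F.obj m) q :=
  Finset.sum_range_succ _ _

lemma psum_self (p : ℕ) : psum F p p = 0 := by
  apply Finset.sum_eq_zero
  intro k hk
  rw [tr_of_lt F (Finset.mem_range.mp hk), zero_comp]

lemma psum_succ_self (p : ℕ) : psum F p (p + 1) = Sigma.ι (fun m : ℕ => F.obj m) p := by
  rw [psum_succ, psum_self, zero_add, tr_self, Category.id_comp]

lemma psum_comp_one_sub_shift {p q : ℕ} (h : p ≤ q) :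
    psum F p q ≫ (𝟙 _ - DerLim.shiftMap (fun m : ℕ => F.obj m)
      (fun m : ℕ => F.map (homOfLE (Nat.le_succ m)))) =
      Sigma.ι (fun m : ℕ => F.obj m) p - tr F p q ≫ Sigma.ι (fun m : ℕ => F.obj m) q := by
  induction q, h using Nat.le_induction with
  | base => rw [psum_self, zero_comp, tr_self, Category.id_comp, sub_self]
  | succ q hq ih =>
    rw [psum_succ, Preadditive.add_comp, ih, Category.assoc, ι_one_sub_shiftMap,
      Preadditive.comp_sub, ← tr_succ, ← Category.assoc,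
      tr_comp F hq (by omega : q ≤ q + 1)]
    abel

lemma tr_comp_psum {p p' q : ℕ} (h : p ≤ p') (h' : p' ≤ q) :
    tr F p p' ≫ psum F p' q = psum F p q - psum F p p' := by
  induction q, h' using Nat.le_induction with
  | base => rw [psum_self, comp_zero, sub_self]
  | succ q hq ih =>
    rw [psum_succ, psum_succ, Preadditive.comp_add, ih, ← Category.assoc,
      tr_comp F h hq]
    abel

lemma map_comp_psum {m q : ℕ} (h : m + 1 ≤ q) :
    F.map (homOfLE (Nat.le_succ m)) ≫ psum F (m + 1) q =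
      psum F m q - Sigma.ι (fun m : ℕ => F.obj m) m := by
  rw [← tr_succ, tr_comp_psum F (by omega : m ≤ m + 1) h, psum_succ_self]

/-! ### the subsequence -/

variable (n : ℕ → ℕ) (hn : StrictMono n)

include hn in
lemma exists_le (m : ℕ) : ∃ k, m ≤ n k := ⟨m, hn.le_apply⟩

/-- the least index `i` with `m ≤ n i`. -/
noncomputable def idx (m : ℕ) : ℕ := Nat.find (exists_le n hn m)

lemma le_idx (m : ℕ) : m ≤ n (idx n hn m) := Nat.find_spec (exists_le n hn m)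

lemma idx_le {m k : ℕ} (h : m ≤ n k) : idx n hn m ≤ k := Nat.find_min' _ h

lemma idx_apply (k : ℕ) : idx n hn (n k) = k :=
  le_antisymm (idx_le n hn le_rfl) (hn.le_iff_le.mp (le_idx n hn (n k)))

lemma idx_succ_of_lt {m : ℕ} (h : m < n (idx n hn m)) : idx n hn (m + 1) = idx n hn m :=
  le_antisymm (idx_le n hn (Nat.succ_le_of_lt h))
    (idx_le n hn ((Nat.le_succ m).trans (le_idx n hn (m + 1))))

lemma idx_succ_of_eq {m : ℕ} (h : m = n (idx n hn m)) :
    idx n hn (m + 1) = idx n hn m + 1 := by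
  apply le_antisymm
  · apply idx_le
    have h1 : n (idx n hn m) < n (idx n hn m + 1) := hn (Nat.lt_succ_self _)
    omega
  · by_contra hcon
    have hle : idx n hn (m + 1) ≤ idx n hn m := by omega
    have h2 := hn.monotone hle
    have h3 := le_idx n hn (m + 1)
    omega

variable [HasCoproduct (fun i : ℕ => F.obj (n i))]

set_option linter.unusedSectionVars false

/-- the map `K_p ⟶ K_{n i} ⟶ ∐ K'`. -/
noncomputable def gmap (p i : ℕ) : F.obj p ⟶ ∐ (fun i : ℕ => F.obj (n i)) :=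
  tr F p (n i) ≫ Sigma.ι (fun i : ℕ => F.obj (n i)) i

lemma gmap_self (i : ℕ) : gmap F n (n i) i = Sigma.ι (fun i : ℕ => F.obj (n i)) i := by
  rw [gmap, tr_self, Category.id_comp]

include hn in
lemma gmap_comp_one_sub_shift {p i : ℕ} (h : p ≤ n i) :
    gmap F n p i ≫ (𝟙 _ - DerLim.shiftMap (fun i : ℕ => F.obj (n i))
      (fun i : ℕ => F.map (homOfLE (hn.monotone (Nat.le_succ i))))) =
      gmap F n p i - gmap F n p (i + 1) := by
  rw [gmap, gmap, Category.assoc, ι_one_sub_shiftMap, Preadditive.comp_sub,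
    ← tr_of_le F (hn.monotone (Nat.le_succ i)), ← Category.assoc (tr F p (n i)),
    tr_comp F h (hn.monotone (Nat.le_succ i))]

lemma map_comp_gmap {m i : ℕ} (h : m + 1 ≤ n i) :
    F.map (homOfLE (Nat.le_succ m)) ≫ gmap F n (m + 1) i = gmap F n m i := by
  rw [gmap, gmap, ← Category.assoc, ← tr_succ, tr_comp F (by omega : m ≤ m + 1) h]

/-- inclusion of the summands of the subsequence. -/
noncomputable def aMap : ∐ (fun i : ℕ => F.obj (n i)) ⟶ ∐ (fun m : ℕ => F.obj m) :=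
  Sigma.desc (fun i => Sigma.ι (fun m : ℕ => F.obj m) (n i))

/-- the companion of `aMap` on the first terms of the triangles. -/
noncomputable def bMap : ∐ (fun i : ℕ => F.obj (n i)) ⟶ ∐ (fun m : ℕ => F.obj m) :=
  Sigma.desc (fun i => psum F (n i) (n (i + 1)))

/-- push every summand forward to the next term of the subsequence. -/
noncomputable def rtMap : ∐ (fun m : ℕ => F.obj m) ⟶ ∐ (fun i : ℕ => F.obj (n i)) :=
  Sigma.desc (fun m => gmap F n m (idx n hn m))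

/-- projection onto the summands of the subsequence. -/
noncomputable def rMap : ∐ (fun m : ℕ => F.obj m) ⟶ ∐ (fun i : ℕ => F.obj (n i)) :=
  Sigma.desc (fun m => if m = n (idx n hn m) then gmap F n m (idx n hn m) else 0)

/-- the homotopy. -/
noncomputable def hMap : ∐ (fun m : ℕ => F.obj m) ⟶ ∐ (fun m : ℕ => F.obj m) :=
  Sigma.desc (fun m => - psum F m (n (idx n hn m)))

lemma I1 :
    (𝟙 _ - DerLim.shiftMap (fun i : ℕ => F.obj (n i))
      (fun i : ℕ => F.map (homOfLE (hn.monotone (Nat.le_succ i))))) ≫ aMap F n =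
    bMap F n ≫ (𝟙 _ - DerLim.shiftMap (fun m : ℕ => F.obj m)
      (fun m : ℕ => F.map (homOfLE (Nat.le_succ m)))) := by
  apply Sigma.hom_ext
  intro i
  rw [ι_one_sub_shiftMap_assoc, aMap, Sigma.ι_desc, Sigma.ι_desc, bMap, Sigma.ι_desc_assoc,
    psum_comp_one_sub_shift F (hn.monotone (Nat.le_succ i)),
    tr_of_le F (hn.monotone (Nat.le_succ i))]

lemma I2 :
    (𝟙 _ - DerLim.shiftMap (fun m : ℕ => F.obj m)
      (fun m : ℕ => F.map (homOfLE (Nat.le_succ m)))) ≫ rtMap F n hn =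
    rMap F n hn ≫ (𝟙 _ - DerLim.shiftMap (fun i : ℕ => F.obj (n i))
      (fun i : ℕ => F.map (homOfLE (hn.monotone (Nat.le_succ i))))) := by
  apply Sigma.hom_ext
  intro m
  rw [ι_one_sub_shiftMap_assoc, rtMap, Sigma.ι_desc, Sigma.ι_desc, rMap, Sigma.ι_desc_assoc]
  have hle := le_idx n hn m
  by_cases hm : m = n (idx n hn m)
  · have h1 : n (idx n hn m) < n (idx n hn m + 1) := hn (Nat.lt_succ_self _)
    rw [if_pos hm, gmap_comp_one_sub_shift F n hn hle, idx_succ_of_eq n hn hm,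
      map_comp_gmap F n (by omega : m + 1 ≤ n (idx n hn m + 1))]
  · have hlt : m < n (idx n hn m) := lt_of_le_of_ne hle hm
    rw [if_neg hm, zero_comp, idx_succ_of_lt n hn hlt, map_comp_gmap F n hlt, sub_self]

lemma I3 : bMap F n ≫ rMap F n hn = 𝟙 _ := by
  apply Sigma.hom_ext
  intro i
  rw [bMap, Sigma.ι_desc_assoc, Category.comp_id, psum, Preadditive.sum_comp,
    Finset.sum_eq_single (n i)]
  · rw [tr_self, Category.id_comp, rMap, Sigma.ι_desc, idx_apply, if_pos rfl, gmap_self]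
  · intro k hk hne
    rw [Category.assoc, rMap, Sigma.ι_desc]
    by_cases hki : k < n i
    · rw [tr_of_lt F hki, zero_comp]
    · have hk1 : k < n (i + 1) := Finset.mem_range.mp hk
      have hk2 : n i < k := lt_of_le_of_ne (not_lt.mp hki) (Ne.symm hne)
      rw [if_neg, comp_zero]
      intro hk3
      have h1 : n i < n (idx n hn k) := lt_of_lt_of_eq hk2 hk3
      have h2 : n (idx n hn k) < n (i + 1) := lt_of_eq_of_lt hk3.symm hk1
      have h3 := hn.lt_iff_lt.mp h1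
      have h4 := hn.lt_iff_lt.mp h2
      omega
  · intro h
    exact absurd (Finset.mem_range.mpr (hn (Nat.lt_succ_self i))) h

lemma I4 : aMap F n ≫ rtMap F n hn = 𝟙 _ := by
  apply Sigma.hom_ext
  intro i
  rw [aMap, Sigma.ι_desc_assoc, rtMap, Sigma.ι_desc, idx_apply, gmap_self, Category.comp_id]

lemma I5 {L : D} (ι : ∀ m, F.obj m ⟶ L)
    (hι : ∀ m, ι m = F.map (homOfLE (Nat.le_succ m)) ≫ ι (m + 1)) :
    rtMap F n hn ≫ aMap F n ≫ Sigma.desc ι = Sigma.desc ι := by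
  apply Sigma.hom_ext
  intro m
  simp only [rtMap, aMap, gmap, Category.assoc, Sigma.ι_desc, Sigma.ι_desc_assoc]
  exact tr_comp_cocone F ι hι (le_idx n hn m)

lemma I6 :
    rMap F n hn ≫ bMap F n = 𝟙 _ + (𝟙 _ - DerLim.shiftMap (fun m : ℕ => F.obj m)
      (fun m : ℕ => F.map (homOfLE (Nat.le_succ m)))) ≫ hMap F n hn := by
  apply Sigma.hom_ext
  intro m
  rw [Preadditive.comp_add, Category.comp_id, ι_one_sub_shiftMap_assoc, hMap, Sigma.ι_desc,
    Sigma.ι_desc, rMap, Sigma.ι_desc_assoc]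
  have hle := le_idx n hn m
  by_cases hm : m = n (idx n hn m)
  · have h1 : n (idx n hn m) < n (idx n hn m + 1) := hn (Nat.lt_succ_self _)
    rw [if_pos hm, idx_succ_of_eq n hn hm, Preadditive.comp_neg,
      map_comp_psum F (by omega : m + 1 ≤ n (idx n hn m + 1)), gmap, Category.assoc, bMap,
      Sigma.ι_desc, tr_comp_psum F hle (hn.monotone (by omega : idx n hn m ≤ idx n hn m + 1))]
    abel
  · have hlt : m < n (idx n hn m) := lt_of_le_of_ne hle hm
    rw [if_neg hm, zero_comp, idx_succ_of_lt n hn hlt, Preadditive.comp_neg,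
      map_comp_psum F hlt]
    abel

end Concrete

/-- Let D be a triangulated category, (K_m, f_m) a system of objects of D indexed by ℕ (given as a
functor F : ℕ ⥤ D) and n₁ < n₂ < … a strictly increasing sequence. Assume ⨁ K_m and ⨁ K_{n_i} exist.
If L is a homotopy colimit of (K_m) and L' a homotopy colimit of the subsequence (K_{n_i}) (with the
composite transition maps), then there is an isomorphism L' ≅ L under which the structure map
K_{n_i} ⟶ L' corresponds to K_{n_i} ⟶ L for every i. -/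
theorem result {D : Type u} [Category.{v} D] [Preadditive D] [HasZeroObject D] [HasShift D ℤ]
    [∀ n : ℤ, (shiftFunctor D n).Additive] [Pretriangulated D] [IsTriangulated D]
    (F : ℕ ⥤ D) (n : ℕ → ℕ) (hn : StrictMono n)
    [HasCoproduct (fun m : ℕ => F.obj m)] [HasCoproduct (fun i : ℕ => F.obj (n i))]
    (L : D) (ι : ∀ m : ℕ, F.obj m ⟶ L)
    (hL : DerLim.IsHocolim (fun m : ℕ => F.obj m) (fun m : ℕ => F.map (homOfLE (Nat.le_succ m))) L ι)
    (L' : D) (ι' : ∀ i : ℕ, F.obj (n i) ⟶ L')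
    (hL' : DerLim.IsHocolim (fun i : ℕ => F.obj (n i)) (fun i : ℕ => F.map (homOfLE (hn.monotone (Nat.le_succ i)))) L' ι') :
    ∃ e : L' ≅ L, ∀ i : ℕ, ι' i ≫ e.hom = ι (n i) := by
  have hι : ∀ m, ι m = F.map (homOfLE (Nat.le_succ m)) ≫ ι (m + 1) := cocone_compat hL
  obtain ⟨c, hT⟩ := hL
  obtain ⟨c', hT'⟩ := hL'
  obtain ⟨ℓ, hℓ, hℓ2⟩ : ∃ ℓ : L' ⟶ L, IsIso ℓ ∧ Sigma.desc ι' ≫ ℓ = aMap F n ≫ Sigma.desc ι :=
    exists_iso_of_data hT hT' (aMap F n) (bMap F n) (rtMap F n hn)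
      (rMap F n hn) (hMap F n hn) (I1 F n hn) (I2 F n hn) (I3 F n hn) (I4 F n hn)
      (I5 F n hn ι hι) (I6 F n hn)
  refine ⟨@asIso _ _ _ _ ℓ hℓ, fun i => ?_⟩
  have e1 : ι' i ≫ ℓ = Sigma.ι (fun i : ℕ => F.obj (n i)) i ≫ Sigma.desc ι' ≫ ℓ := by
    rw [Sigma.ι_desc_assoc]
  have e2 : Sigma.ι (fun i : ℕ => F.obj (n i)) i ≫ aMap F n ≫ Sigma.desc ι = ι (n i) := by
    rw [aMap, Sigma.ι_desc_assoc, Sigma.ι_desc]
  change ι' i ≫ ℓ = ι (n i)
  rw [e1, hℓ2, e2]

end Groth.Agent.S6592
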