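import Groth.Statements.S6594
-- import your own Groth.Agent.* helpers here

set_option autoImplicit false
universe v u
open CategoryTheory CategoryTheory.Limits
open CohDer

namespace Groth.Agent.S6594

set_option backward.defeqAttrib.useBackward true in
set_option backward.isDefEq.respectTransparency false in
open CategoryTheory.Pretriangulated in
/-- (1) ⇔ (3): let D be a pretriangulated category and f : X ⟶ Y a morphism. Then f has a kernel if and
only if f is isomorphic to a composite K ⊞ Z → Z → Z ⊞ Q of a projection and a coprojection for some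
objects K, Z, Q. -/
theorem result {D : Type u} [Category.{v} D] [Preadditive D] [HasZeroObject D] [HasShift D ℤ]
    [∀ n : ℤ, (shiftFunctor D n).Additive] [Pretriangulated D]
    {X Y : D} (f : X ⟶ Y) :
    HasKernel f ↔ ∃ (K Z Q : D) (e₁ : X ≅ K ⊞ Z) (e₂ : Y ≅ Z ⊞ Q),
      f = e₁.hom ≫ biprod.snd ≫ biprod.inl ≫ e₂.inv := by
  constructor
  · intro hk
    obtain ⟨K, ι, hι0, hιm, hιl⟩ : ∃ (K : D) (ι : K ⟶ X), ι ≫ f = 0 ∧ Mono ι ∧
        ∀ {W : D} (t : W ⟶ X), t ≫ f = 0 → ∃ s : W ⟶ K, s ≫ ι = t :=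
      ⟨kernel f, kernel.ι f, kernel.condition f, inferInstance,
        fun t ht => ⟨kernel.lift f t ht, kernel.lift_ι f t ht⟩⟩
    clear hk
    obtain ⟨X', p, h, hT1⟩ := distinguished_cocone_triangle ι
    have hz1 : h = 0 := Triangle.mor₃_eq_zero_of_mono₁ _ hT1 hιm
    obtain ⟨e, he1, he2⟩ : ∃ (e : X ≅ K ⊞ X'), ι ≫ e.hom = biprod.inl ∧ p = e.hom ≫ biprod.snd :=
      exists_iso_binaryBiproduct_of_distTriang _ hT1 hz1
    obtain ⟨f', hf'⟩ : ∃ f' : X' ⟶ Y, f = p ≫ f' := Triangle.yoneda_exact₂ _ hT1 f hι0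
    have hιp : ι ≫ p = 0 := comp_distTriang_mor_zero₁₂ _ hT1
    have hmono : Mono f' := by
      rw [Preadditive.mono_iff_cancel_zero]
      intro W t ht
      have h1 : (t ≫ biprod.inr ≫ e.inv) ≫ p = t := by
        rw [he2]
        simp
      have h2 : (t ≫ biprod.inr ≫ e.inv) ≫ f = 0 := by
        rw [hf', ← Category.assoc, h1, ht]
      obtain ⟨s, hs⟩ := hιl _ h2
      rw [← h1, ← hs, Category.assoc, hιp, comp_zero]
    obtain ⟨Q, q, h', hT2⟩ := distinguished_cocone_triangle f'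
    have hz2 : h' = 0 := Triangle.mor₃_eq_zero_of_mono₁ _ hT2 hmono
    obtain ⟨e', he1', he2'⟩ : ∃ (e' : Y ≅ X' ⊞ Q), f' ≫ e'.hom = biprod.inl ∧
        q = e'.hom ≫ biprod.snd :=
      exists_iso_binaryBiproduct_of_distTriang _ hT2 hz2
    refine ⟨K, X', Q, e, e', ?_⟩
    rw [hf', he2, ← he1']
    simp
  · rintro ⟨K, Z, Q, e₁, e₂, hf⟩
    have hmono : Mono ((biprod.inl : Z ⟶ Z ⊞ Q) ≫ e₂.inv) := by infer_instance
    have w : (biprod.inl ≫ e₁.inv : K ⟶ X) ≫ f = 0 := by
      rw [hf]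
      simp
    refine HasLimit.mk ⟨KernelFork.ofι (biprod.inl ≫ e₁.inv : K ⟶ X) w,
      KernelFork.IsLimit.ofι _ _ (fun {W} t ht => t ≫ e₁.hom ≫ biprod.fst) ?_ ?_⟩
    · intro W t ht
      have h1 : t ≫ e₁.hom ≫ biprod.snd = 0 := by
        rw [hf] at ht
        have : (t ≫ e₁.hom ≫ biprod.snd) ≫ (biprod.inl ≫ e₂.inv) = 0 := by
          simpa using ht
        rw [← cancel_mono ((biprod.inl : Z ⟶ Z ⊞ Q) ≫ e₂.inv), this, zero_comp]
      have h2 : t ≫ e₁.hom = (t ≫ e₁.hom ≫ biprod.fst) ≫ biprod.inl := by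
        apply biprod.hom_ext
        · simp
        · simp [h1]
      rw [← cancel_mono e₁.hom]
      simp only [Category.assoc, Iso.inv_hom_id, Category.comp_id]
      rw [h2]
      simp
    · intro W t ht m hm
      rw [← hm]
      simp

end Groth.Agent.S6594
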