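import Groth.Statements.S6595
-- import your own Groth.Agent.* helpers here

set_option autoImplicit false
universe v u
open CategoryTheory CategoryTheory.Limits
open CohDer

namespace Groth.Agent.S6595

section
open CategoryTheory.Pretriangulated ZeroObject

variable {D : Type u} [Category.{v} D] [Preadditive D] [HasZeroObject D] [HasShift D ℤ]
    [∀ n : ℤ, (shiftFunctor D n).Additive] [Pretriangulated D] [IsTriangulated D]

lemma hom_shift_zero (A B : D) (m m' p : ℤ) (h : m' + p = m)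
    (H : ∀ ψ : (shiftFunctor D m).obj A ⟶ B, ψ = 0)
    (φ : (shiftFunctor D m').obj A ⟶ (shiftFunctor D (-p)).obj B) : φ = 0 := by
  let e₁ : (shiftFunctor D m).obj A ≅ (shiftFunctor D p).obj ((shiftFunctor D m').obj A) :=
    (shiftFunctorAdd' D m' p m h).app A
  let e₂ : (shiftFunctor D p).obj ((shiftFunctor D (-p)).obj B) ≅ B :=
    (shiftFunctorCompIsoId D (-p) p (by simp)).app B
  have h0 := H (e₁.hom ≫ (shiftFunctor D p).map φ ≫ e₂.hom)
  have h1 : (shiftFunctor D p).map φ = 0 := by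
    rw [← cancel_mono e₂.hom, ← cancel_epi e₁.hom, h0, zero_comp, comp_zero]
  apply (shiftFunctor D p).map_injective
  rw [h1, Functor.map_zero]

set_option backward.defeqAttrib.useBackward true in
set_option backward.isDefEq.respectTransparency false in
lemma aux (X X' : ChainComplex D ℕ) (n : ℕ)
    (Y : ℕ → D) (a : ∀ k, Y k ⟶ X'.X k) (b : ∀ k, X'.X (k + 1) ⟶ Y k)
    (c : ∀ k, Y k ⟶ (shiftFunctor D (1 : ℤ)).obj (Y (k + 1)))
    (h0 : IsIso (a 0))
    (hP : ∀ k, k < n → Triangle.mk (a (k + 1)) (b k) (c k) ∈ distinguishedTriangles ∧ b k ≫ a k = X'.d (k + 1) k)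
    (hX : ∀ i j : ℕ, j + 1 < i → i ≤ n → ∀ ψ : (shiftFunctor D ((i : ℤ) - j - 1)).obj (X.X i) ⟶ X'.X j, ψ = 0)
    (j : ℕ) : ∀ (i : ℕ), j + 1 < i → i ≤ n → ∀ (m : ℤ), m = (i : ℤ) - j - 1 →
      ∀ ψ : (shiftFunctor D m).obj (X.X i) ⟶ Y j, ψ = 0 := by
  induction j with
  | zero =>
    intro i hij hi m hm ψ
    subst hm
    have := hX i 0 hij hi (ψ ≫ a 0)
    rw [← cancel_mono (a 0), this, zero_comp]
  | succ j ih =>
    intro i hij hi m hm ψ
    have hT := (hP j (by omega)).1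
    have h1 : ψ ≫ a (j + 1) = 0 := by
      subst hm
      exact hX i (j + 1) hij hi _
    obtain ⟨φ, hφ⟩ := Triangle.coyoneda_exact₂ _ (inv_rot_of_distTriang _ hT) ψ h1
    have h2 : φ = 0 := by
      refine hom_shift_zero (X.X i) (Y j) ((i : ℤ) - j - 1) m 1 ?_ ?_ φ
      · rw [hm]; push_cast; omega
      · exact ih i (by omega) hi _ rfl
    rw [hφ, h2, zero_comp]

end

open CategoryTheory.Pretriangulated in
/-- Let D be a triangulated category, X and X' chain complexes in D considered in degrees ≤ n, where a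
Postnikov system for the complex X_n → … → X_0 consists of objects Y_k, an isomorphism Y_0 ⟶ X_0,
and for 0 ≤ k < n distinguished triangles Y_{k+1} ⟶ X_{k+1} ⟶ Y_k ⟶ Y_{k+1}⟦1⟧ with X_{k+1} ⟶ Y_k ⟶
X_k the differential. Suppose X' carries a Postnikov system (Y', a', b', c'). If Hom(X_i⟦i - j - 1⟧,
X'_j) = 0 for all j + 1 < i ≤ n, then Hom(X_i⟦i - j - 1⟧, Y'_j) = 0 for all j + 1 < i ≤ n. -/
theorem result {D : Type u} [Category.{v} D] [Preadditive D] [HasZeroObject D] [HasShift D ℤ]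
    [∀ n : ℤ, (shiftFunctor D n).Additive] [Pretriangulated D] [IsTriangulated D]
    (X X' : ChainComplex D ℕ) (n : ℕ)
    (Y : ℕ → D) (a : ∀ k, Y k ⟶ X'.X k) (b : ∀ k, X'.X (k + 1) ⟶ Y k)
    (c : ∀ k, Y k ⟶ (shiftFunctor D (1 : ℤ)).obj (Y (k + 1)))
    (h0 : IsIso (a 0))
    (hP : ∀ k, k < n → Triangle.mk (a (k + 1)) (b k) (c k) ∈ distinguishedTriangles ∧ b k ≫ a k = X'.d (k + 1) k)
    (hX : ∀ i j : ℕ, j + 1 < i → i ≤ n → ∀ ψ : (shiftFunctor D ((i : ℤ) - j - 1)).obj (X.X i) ⟶ X'.X j, ψ = 0)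
    (i j : ℕ) (hij : j + 1 < i) (hi : i ≤ n) (ψ : (shiftFunctor D ((i : ℤ) - j - 1)).obj (X.X i) ⟶ Y j) :
    ψ = 0 := by
  exact aux X X' n Y a b c h0 hP hX j i hij hi _ rfl ψ

end Groth.Agent.S6595
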