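import Groth.Statements.S6596
import Groth.Agent.S6595
-- import your own Groth.Agent.* helpers here

set_option autoImplicit false
universe v u
open CategoryTheory CategoryTheory.Limits
open CohDer

namespace Groth.Agent.S6596

section
open CategoryTheory.Pretriangulated ZeroObject

variable {D : Type u} [Category.{v} D] [Preadditive D] [HasZeroObject D] [HasShift D ℤ]
    [∀ n : ℤ, (shiftFunctor D n).Additive] [Pretriangulated D] [IsTriangulated D]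

lemma hom_unshift_zero (A B : D) (p : ℤ)
    (H : ∀ ψ : (shiftFunctor D p).obj A ⟶ B, ψ = 0)
    (φ : A ⟶ (shiftFunctor D (-p)).obj B) : φ = 0 := by
  let e₂ : (shiftFunctor D p).obj ((shiftFunctor D (-p)).obj B) ≅ B :=
    (shiftFunctorCompIsoId D (-p) p (by simp)).app B
  have h0 := H ((shiftFunctor D p).map φ ≫ e₂.hom)
  have h1 : (shiftFunctor D p).map φ = 0 := by
    rw [← cancel_mono e₂.hom, h0, zero_comp]
  apply (shiftFunctor D p).map_injective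
  rw [h1, Functor.map_zero]

variable (X X' : ChainComplex D ℕ) (φ : X ⟶ X') (n : ℕ)
    (Y : ℕ → D) (a : ∀ k, Y k ⟶ X.X k) (b : ∀ k, X.X (k + 1) ⟶ Y k)
    (c : ∀ k, Y k ⟶ (shiftFunctor D (1 : ℤ)).obj (Y (k + 1)))
    (h0 : IsIso (a 0))
    (hP : ∀ k, k < n → Triangle.mk (a (k + 1)) (b k) (c k) ∈ distinguishedTriangles ∧ b k ≫ a k = X.d (k + 1) k)
    (qY : ℕ → D) (qa : ∀ k, qY k ⟶ X'.X k) (qb : ∀ k, X'.X (k + 1) ⟶ qY k)
    (qc : ∀ k, qY k ⟶ (shiftFunctor D (1 : ℤ)).obj (qY (k + 1)))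
    (qh0 : IsIso (qa 0))
    (qhP : ∀ k, k < n → Triangle.mk (qa (k + 1)) (qb k) (qc k) ∈ distinguishedTriangles ∧ qb k ≫ qa k = X'.d (k + 1) k)
    (hX : ∀ i j : ℕ, j + 1 < i → i ≤ n → ∀ ψ : (shiftFunctor D ((i : ℤ) - j - 1)).obj (X.X i) ⟶ X'.X j, ψ = 0)

include h0 hP qh0 qhP hX in
set_option backward.defeqAttrib.useBackward true in
set_option backward.isDefEq.respectTransparency false in
lemma square (k : ℕ) (hk : k < n) (y : Y k ⟶ qY k) (hy : y ≫ qa k = a k ≫ φ.f k) :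
    b k ≫ y = φ.f (k + 1) ≫ qb k := by
  have hδ : (b k ≫ y - φ.f (k + 1) ≫ qb k) ≫ qa k = 0 := by
    rw [Preadditive.sub_comp, Category.assoc, hy, ← Category.assoc, (hP k hk).2,
      Category.assoc, (qhP k hk).2, φ.comm, sub_self]
  rw [← sub_eq_zero]
  cases k with
  | zero =>
    rw [← cancel_mono (qa 0), hδ, zero_comp]
  | succ j =>
    have hT := (qhP j (by omega)).1
    obtain ⟨ε, hε⟩ := Triangle.coyoneda_exact₂ _ (inv_rot_of_distTriang _ hT) _ hδ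
    have h2 : ε = 0 := by
      refine hom_unshift_zero (X.X (j + 1 + 1)) (qY j) 1 ?_ ε
      exact Groth.Agent.S6595.aux X X' n qY qa qb qc qh0 qhP hX j (j + 1 + 1) (by omega) (by omega)
        1 (by push_cast; omega)
    rw [hε, h2, zero_comp]

include h0 hP qh0 qhP hX in
lemma step (k : ℕ) (y : Y k ⟶ qY k) (hy : k ≤ n → y ≫ qa k = a k ≫ φ.f k) :
    ∃ y' : Y (k + 1) ⟶ qY (k + 1), (k + 1 ≤ n → y' ≫ qa (k + 1) = a (k + 1) ≫ φ.f (k + 1)) ∧
      (k < n → b k ≫ y = φ.f (k + 1) ≫ qb k ∧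
        c k ≫ (shiftFunctor D (1 : ℤ)).map y' = y ≫ qc k) := by
  by_cases hk : k < n
  · have hsq := square X X' φ n Y a b c h0 hP qY qa qb qc qh0 qhP hX k hk y (hy (by omega))
    obtain ⟨y', h1, h2⟩ := complete_distinguished_triangle_morphism₁ _ _ (hP k hk).1 (qhP k hk).1
      (φ.f (k + 1)) y hsq
    exact ⟨y', fun _ => h1.symm, fun _ => ⟨hsq, h2⟩⟩
  · exact ⟨0, fun h => absurd h (by omega), fun h => absurd h hk⟩

include h0 hP qh0 qhP hX in
lemma exists_seq : ∃ y : ∀ k, Y k ⟶ qY k,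
      (∀ k, k ≤ n → y k ≫ qa k = a k ≫ φ.f k) ∧
      (∀ k, k < n → b k ≫ y k = φ.f (k + 1) ≫ qb k ∧ c k ≫ (shiftFunctor D (1 : ℤ)).map (y (k + 1)) = y k ≫ qc k) := by
  let Sg : ℕ → Type _ := fun k => {y : Y k ⟶ qY k // k ≤ n → y ≫ qa k = a k ≫ φ.f k}
  let seq : ∀ k, Sg k := fun k => Nat.rec (motive := Sg)
    ⟨a 0 ≫ φ.f 0 ≫ inv (qa 0), fun _ => by simp⟩
    (fun k yk => ⟨(step X X' φ n Y a b c h0 hP qY qa qb qc qh0 qhP hX k yk.1 yk.2).choose,
      (step X X' φ n Y a b c h0 hP qY qa qb qc qh0 qhP hX k yk.1 yk.2).choose_spec.1⟩) k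
  refine ⟨fun k => (seq k).1, fun k hk => (seq k).2 hk, fun k hk => ?_⟩
  exact (step X X' φ n Y a b c h0 hP qY qa qb qc qh0 qhP hX k (seq k).1 (seq k).2).choose_spec.2 hk

end

open CategoryTheory.Pretriangulated in
/-- Let D be a triangulated category and φ : X ⟶ X' a morphism of chain complexes in D considered in
degrees ≤ n, where a Postnikov system for the complex X_n → … → X_0 consists of objects Y_k, an
isomorphism Y_0 ⟶ X_0, and for 0 ≤ k < n distinguished triangles Y_{k+1} ⟶ X_{k+1} ⟶ Y_k ⟶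
Y_{k+1}⟦1⟧ with X_{k+1} ⟶ Y_k ⟶ X_k the differential. Suppose X and X' carry Postnikov systems (Y,
a, b, c) and (Y', a', b', c'). If Hom(X_i⟦i - j - 1⟧, X'_j) = 0 for all j + 1 < i ≤ n, then φ
extends to a morphism of Postnikov systems: morphisms y_k : Y_k ⟶ Y'_k for k ≤ n forming, with the
φ_k, morphisms of the distinguished triangles and compatible with Y_0 ⟶ X_0 and Y'_0 ⟶ X'_0. -/
theorem result {D : Type u} [Category.{v} D] [Preadditive D] [HasZeroObject D] [HasShift D ℤ]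
    [∀ n : ℤ, (shiftFunctor D n).Additive] [Pretriangulated D] [IsTriangulated D]
    (X X' : ChainComplex D ℕ) (φ : X ⟶ X') (n : ℕ)
    (Y : ℕ → D) (a : ∀ k, Y k ⟶ X.X k) (b : ∀ k, X.X (k + 1) ⟶ Y k)
    (c : ∀ k, Y k ⟶ (shiftFunctor D (1 : ℤ)).obj (Y (k + 1)))
    (h0 : IsIso (a 0))
    (hP : ∀ k, k < n → Triangle.mk (a (k + 1)) (b k) (c k) ∈ distinguishedTriangles ∧ b k ≫ a k = X.d (k + 1) k)
    (qY : ℕ → D) (qa : ∀ k, qY k ⟶ X'.X k) (qb : ∀ k, X'.X (k + 1) ⟶ qY k)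
    (qc : ∀ k, qY k ⟶ (shiftFunctor D (1 : ℤ)).obj (qY (k + 1)))
    (qh0 : IsIso (qa 0))
    (qhP : ∀ k, k < n → Triangle.mk (qa (k + 1)) (qb k) (qc k) ∈ distinguishedTriangles ∧ qb k ≫ qa k = X'.d (k + 1) k)
    (hX : ∀ i j : ℕ, j + 1 < i → i ≤ n → ∀ ψ : (shiftFunctor D ((i : ℤ) - j - 1)).obj (X.X i) ⟶ X'.X j, ψ = 0) :
    ∃ y : ∀ k, Y k ⟶ qY k,
      (∀ k, k ≤ n → y k ≫ qa k = a k ≫ φ.f k) ∧
      (∀ k, k < n → b k ≫ y k = φ.f (k + 1) ≫ qb k ∧ c k ≫ (shiftFunctor D (1 : ℤ)).map (y (k + 1)) = y k ≫ qc k) := by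
  exact exists_seq X X' φ n Y a b c h0 hP qY qa qb qc qh0 qhP hX

end Groth.Agent.S6596
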