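import Groth.Statements.S6597
-- import your own Groth.Agent.* helpers here

set_option autoImplicit false
universe v u
open CategoryTheory CategoryTheory.Limits
open CohDer

namespace Groth.Agent.S6597

section
open CategoryTheory.Pretriangulated ZeroObject

variable {D : Type u} [Category.{v} D] [Preadditive D] [HasZeroObject D] [HasShift D ℤ]
    [∀ n : ℤ, (shiftFunctor D n).Additive] [Pretriangulated D] [IsTriangulated D]

lemma hom_transport_zero (A B : D) (i n m : ℤ) (h : m + i = n)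
    (H : ∀ ψ : (shiftFunctor D i).obj A ⟶ (shiftFunctor D n).obj B, ψ = 0)
    (r : A ⟶ (shiftFunctor D m).obj B) : r = 0 := by
  have h0 := H ((shiftFunctor D i).map r ≫ (shiftFunctorAdd' D m i n h).inv.app B)
  have h1 : (shiftFunctor D i).map r = 0 := by
    rw [← cancel_mono ((shiftFunctorAdd' D m i n h).inv.app B), h0, zero_comp]
  apply (shiftFunctor D i).map_injective
  rw [h1, Functor.map_zero]

variable (X X' : ChainComplex D ℕ) (φ : X ⟶ X') (n : ℕ)
    (Y : ℕ → D) (a : ∀ k, Y k ⟶ X.X k) (b : ∀ k, X.X (k + 1) ⟶ Y k)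
    (c : ∀ k, Y k ⟶ (shiftFunctor D (1 : ℤ)).obj (Y (k + 1)))
    (hP : ∀ k, k < n → Triangle.mk (a (k + 1)) (b k) (c k) ∈ distinguishedTriangles ∧ b k ≫ a k = X.d (k + 1) k)
    (qY : ℕ → D) (qa : ∀ k, qY k ⟶ X'.X k)
    (qc : ∀ k, qY k ⟶ (shiftFunctor D (1 : ℤ)).obj (qY (k + 1)))
    (qh0 : IsIso (qa 0))
    (hv : ∀ i : ℕ, 1 ≤ i → i ≤ n → ∀ ψ : (shiftFunctor D (i : ℤ)).obj (X.X i) ⟶ (shiftFunctor D (n : ℤ)).obj (qY n), ψ = 0)
    (w : ∀ k, Y k ⟶ qY k)
    (hw1 : ∀ k, k ≤ n → w k ≫ qa k = 0)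
    (hw2 : ∀ k, k < n → c k ≫ (shiftFunctor D (1 : ℤ)).map (w (k + 1)) = w k ≫ qc k)

include hP qh0 hv hw1 hw2 in
set_option backward.defeqAttrib.useBackward true in
set_option backward.isDefEq.respectTransparency false in
lemma claim (k : ℕ) : k ≤ n → ∀ (m : ℤ), m + k = n →
    ∀ t : qY k ⟶ (shiftFunctor D m).obj (qY n), w k ≫ t = 0 := by
  induction k with
  | zero =>
    intro hk m hm t
    have : w 0 = 0 := by
      rw [← cancel_mono (qa 0), hw1 0 hk, zero_comp]
    rw [this, zero_comp]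
  | succ k ih =>
    intro hk m hm t
    have hT := (hP k (by omega)).1
    -- s = w (k+1) ≫ t
    have hc : c k ≫ (shiftFunctor D (1 : ℤ)).map (w (k + 1) ≫ t) = 0 := by
      rw [Functor.map_comp, ← Category.assoc, hw2 k (by omega), Category.assoc]
      have := ih (by omega) (m + 1) (by push_cast at hm ⊢; omega)
        (qc k ≫ (shiftFunctor D (1 : ℤ)).map t ≫ (shiftFunctorAdd' D m 1 (m + 1) rfl).inv.app (qY n))
      rw [← Category.assoc, ← Category.assoc] at this
      have h3 := (cancel_mono ((shiftFunctorAdd' D m 1 (m + 1) rfl).inv.app (qY n))).1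
        (this.trans (zero_comp).symm)
      rw [Category.assoc] at h3
      exact h3
    obtain ⟨g, hg⟩ := Triangle.yoneda_exact₃ _ (rot_of_distTriang _ hT) _ hc
    dsimp at g hg
    obtain ⟨r, rfl⟩ := (shiftFunctor D (1 : ℤ)).map_surjective g
    have hr : r = 0 := hom_transport_zero (X.X (k + 1)) (qY n) ((k + 1 : ℕ) : ℤ) n m hm
      (hv (k + 1) (by omega) hk) r
    apply (shiftFunctor D (1 : ℤ)).map_injective
    rw [hg, hr, Functor.map_zero, comp_zero, Functor.map_zero]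

include hP qh0 hv hw1 hw2 in
lemma top_zero : w n = 0 := by
  have := claim X X' n Y a b c hP qY qa qc qh0 hv w hw1 hw2 n le_rfl 0 (by simp)
    ((shiftFunctorZero D ℤ).inv.app (qY n))
  have h := (cancel_mono ((shiftFunctorZero D ℤ).inv.app (qY n))).1 (this.trans (zero_comp).symm)
  exact h

end

open CategoryTheory.Pretriangulated in
/-- Let D be a triangulated category, φ : X ⟶ X' a morphism of chain complexes in D considered in
degrees ≤ n, where a Postnikov system for the complex X_n → … → X_0 consists of objects Y_k, an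
isomorphism Y_0 ⟶ X_0, and for 0 ≤ k < n distinguished triangles Y_{k+1} ⟶ X_{k+1} ⟶ Y_k ⟶
Y_{k+1}⟦1⟧ with X_{k+1} ⟶ Y_k ⟶ X_k the differential; let (Y, a, b, c) and (Y', a', b', c') be
Postnikov systems for X and X'. If Hom(X_i⟦i⟧, Y'_n⟦n⟧) = 0 for i = 1, …, n, then two morphisms of
Postnikov systems extending φ agree on Y_n. (The published statement says there is at most one
morphism of Postnikov systems; the argument, by induction along Y_0 → Y_1⟦1⟧ → … → Y_n⟦n⟧,
determines the component in degree n, which is what is asserted here.) -/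
theorem result {D : Type u} [Category.{v} D] [Preadditive D] [HasZeroObject D] [HasShift D ℤ]
    [∀ n : ℤ, (shiftFunctor D n).Additive] [Pretriangulated D] [IsTriangulated D]
    (X X' : ChainComplex D ℕ) (φ : X ⟶ X') (n : ℕ)
    (Y : ℕ → D) (a : ∀ k, Y k ⟶ X.X k) (b : ∀ k, X.X (k + 1) ⟶ Y k)
    (c : ∀ k, Y k ⟶ (shiftFunctor D (1 : ℤ)).obj (Y (k + 1)))
    (h0 : IsIso (a 0))
    (hP : ∀ k, k < n → Triangle.mk (a (k + 1)) (b k) (c k) ∈ distinguishedTriangles ∧ b k ≫ a k = X.d (k + 1) k)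
    (qY : ℕ → D) (qa : ∀ k, qY k ⟶ X'.X k) (qb : ∀ k, X'.X (k + 1) ⟶ qY k)
    (qc : ∀ k, qY k ⟶ (shiftFunctor D (1 : ℤ)).obj (qY (k + 1)))
    (qh0 : IsIso (qa 0))
    (qhP : ∀ k, k < n → Triangle.mk (qa (k + 1)) (qb k) (qc k) ∈ distinguishedTriangles ∧ qb k ≫ qa k = X'.d (k + 1) k)
    (hv : ∀ i : ℕ, 1 ≤ i → i ≤ n → ∀ ψ : (shiftFunctor D (i : ℤ)).obj (X.X i) ⟶ (shiftFunctor D (n : ℤ)).obj (qY n), ψ = 0)
    (y z : ∀ k, Y k ⟶ qY k)
    (hy : (∀ k, k ≤ n → y k ≫ qa k = a k ≫ φ.f k) ∧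
      (∀ k, k < n → b k ≫ y k = φ.f (k + 1) ≫ qb k ∧ c k ≫ (shiftFunctor D (1 : ℤ)).map (y (k + 1)) = y k ≫ qc k))
    (hz : (∀ k, k ≤ n → z k ≫ qa k = a k ≫ φ.f k) ∧
      (∀ k, k < n → b k ≫ z k = φ.f (k + 1) ≫ qb k ∧ c k ≫ (shiftFunctor D (1 : ℤ)).map (z (k + 1)) = z k ≫ qc k)) :
    y n = z n := by
  have h := top_zero X X' n Y a b c hP qY qa qc qh0 hv (fun k => y k - z k)
    (fun k hk => by rw [Preadditive.sub_comp, hy.1 k hk, hz.1 k hk, sub_self])
    (fun k hk => by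
      rw [Functor.map_sub, Preadditive.comp_sub, (hy.2 k hk).2, (hz.2 k hk).2, Preadditive.sub_comp])
  exact sub_eq_zero.mp h

end Groth.Agent.S6597
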