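import Groth.Statements.S6598
import Mathlib.Algebra.Homology.HomotopyCategory.Pretriangulated
import Mathlib.Algebra.Homology.HomologicalComplexBiprod
import Mathlib.Algebra.Homology.Embedding.CochainComplex

set_option autoImplicit false
universe v u
open CategoryTheory CategoryTheory.Limits
open CohDer

namespace Groth.Agent.S6598

section
open CochainComplex HomComplex

lemma exists_iso_of_split {C : Type*} [Category C] [Preadditive C] [HasBinaryBiproducts C]
    {A B Cc : C} (i : A ⟶ B) (r : B ⟶ A) (j : Cc ⟶ B) (q : B ⟶ Cc) (hir : i ≫ r = 𝟙 A)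
    (hiq : i ≫ q = 0) (hjr : j ≫ r = 0) (hjq : j ≫ q = 𝟙 Cc) (tot : r ≫ i + q ≫ j = 𝟙 B) :
    ∃ e : B ≅ A ⊞ Cc, i ≫ e.hom = biprod.inl :=
  ⟨{ hom := biprod.lift r q
     inv := biprod.desc i j
     hom_inv_id := by rw [biprod.lift_desc, tot]
     inv_hom_id := by
      apply biprod.hom_ext <;> apply biprod.hom_ext' <;> simp [hir, hiq, hjr, hjq] },
    by apply biprod.hom_ext <;> simp [hir, hiq]⟩

variable {V : Type u} [Category.{v} V] [Preadditive V] [HasBinaryBiproducts V]
  (K L : CochainComplex V ℤ) (α : K ⟶ L)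

/-- the middle complex -/
noncomputable abbrev mid : CochainComplex V ℤ := mappingCone (𝟙 K) ⊞ L

/-- the first map -/
noncomputable def α' : K ⟶ mid K L := biprod.lift (mappingCone.inr (𝟙 K)) α

lemma α'_snd : α' K L α ≫ (biprod.snd : mid K L ⟶ L) = α := by simp [α']

lemma α'_fst : α' K L α ≫ (biprod.fst : mid K L ⟶ _) = mappingCone.inr (𝟙 K) := by simp [α']

/-- the homotopy -/
noncomputable def homot : Homotopy ((biprod.snd : mid K L ⟶ L) ≫ biprod.inr) (𝟙 (mid K L)) :=
  let h₀ : Homotopy (𝟙 (mappingCone (𝟙 K))) 0 := mappingCone.homotopyToZeroOfId K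
  let h₁ := (h₀.compRight (biprod.inl : _ ⟶ mid K L)).compLeft (biprod.fst : mid K L ⟶ _)
  let h₂ := Homotopy.add h₁ (Homotopy.refl ((biprod.snd : mid K L ⟶ L) ≫ biprod.inr))
  (Homotopy.ofEq (by simp)).trans (h₂.symm.trans (Homotopy.ofEq (by simp)))

lemma split (n : ℤ) : ∃ (C : V) (e : (mid K L).X n ≅ K.X n ⊞ C), (α' K L α).f n ≫ e.hom = biprod.inl := by
  let P₁ := (biprod.fst : mid K L ⟶ mappingCone (𝟙 K)).f n
  let P₂ := (biprod.snd : mid K L ⟶ L).f n
  let I₁ := (biprod.inl : mappingCone (𝟙 K) ⟶ mid K L).f n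
  let I₂ := (biprod.inr : L ⟶ mid K L).f n
  have I1P1 : I₁ ≫ P₁ = 𝟙 _ := by simp [I₁, P₁, ← HomologicalComplex.comp_f]
  have I1P2 : I₁ ≫ P₂ = 0 := by simp [I₁, P₂, ← HomologicalComplex.comp_f]
  have I2P1 : I₂ ≫ P₁ = 0 := by simp [I₂, P₁, ← HomologicalComplex.comp_f]
  have I2P2 : I₂ ≫ P₂ = 𝟙 _ := by simp [I₂, P₂, ← HomologicalComplex.comp_f]
  have tot : P₁ ≫ I₁ + P₂ ≫ I₂ = 𝟙 _ := by
    simp [I₁, I₂, P₁, P₂, ← HomologicalComplex.comp_f, ← HomologicalComplex.add_f_apply]
  have a1 : (α' K L α).f n ≫ P₁ = (mappingCone.inr (𝟙 K)).f n := by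
    simp only [P₁, ← HomologicalComplex.comp_f, α'_fst]
  have a2 : (α' K L α).f n ≫ P₂ = α.f n := by
    simp only [P₂, ← HomologicalComplex.comp_f, α'_snd]
  let fst' := (mappingCone.fst (𝟙 K)).1.v n (n + 1) rfl
  let snd' := (mappingCone.snd (𝟙 K)).v n n (add_zero n)
  let inl' := (mappingCone.inl (𝟙 K)).v (n + 1) n (by omega)
  let inr' := (mappingCone.inr (𝟙 K)).f n
  have c1 : inl' ≫ fst' = 𝟙 _ := mappingCone.inl_v_fst_v _ _ _ _
  have c2 : inl' ≫ snd' = 0 := mappingCone.inl_v_snd_v _ _ _ _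
  have c3 : inr' ≫ fst' = 0 := mappingCone.inr_f_fst_v _ _ _ _
  have c4 : inr' ≫ snd' = 𝟙 _ := mappingCone.inr_f_snd_v _ _
  have ctot : fst' ≫ inl' + snd' ≫ inr' = 𝟙 _ := mappingCone.id_X _ n (n + 1) rfl
  have hi : (α' K L α).f n = inr' ≫ I₁ + α.f n ≫ I₂ := by
    calc (α' K L α).f n = (α' K L α).f n ≫ (P₁ ≫ I₁ + P₂ ≫ I₂) := by rw [tot, Category.comp_id]
      _ = inr' ≫ I₁ + α.f n ≫ I₂ := by
        rw [Preadditive.comp_add, ← Category.assoc, a1, ← Category.assoc, a2]
  refine ⟨K.X (n + 1) ⊞ L.X n, exists_iso_of_split ((α' K L α).f n) (P₁ ≫ snd')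
    (biprod.desc (inl' ≫ I₁) I₂) (biprod.lift (P₁ ≫ fst') (P₂ - P₁ ≫ snd' ≫ α.f n)) ?_ ?_ ?_ ?_ ?_⟩
  · rw [← Category.assoc, a1, c4]
  · apply biprod.hom_ext
    · simp only [Category.assoc, biprod.lift_fst, zero_comp]
      rw [← Category.assoc, a1, c3]
    · simp only [Category.assoc, biprod.lift_snd, zero_comp, Preadditive.comp_sub]
      rw [← Category.assoc, a1, ← Category.assoc, c4, Category.id_comp, a2, sub_self]
  · apply biprod.hom_ext'
    · simp only [biprod.inl_desc_assoc, Category.assoc, comp_zero]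
      rw [← Category.assoc I₁, I1P1, Category.id_comp, c2]
    · simp only [biprod.inr_desc_assoc, comp_zero]
      rw [← Category.assoc, I2P1, zero_comp]
  · apply biprod.hom_ext <;> apply biprod.hom_ext'
    · simp only [biprod.inl_desc_assoc, Category.assoc, biprod.lift_fst, Category.id_comp,
        biprod.inl_fst]
      rw [← Category.assoc I₁, I1P1, Category.id_comp, c1]
    · simp only [biprod.inr_desc_assoc, Category.assoc, biprod.lift_fst, Category.id_comp,
        biprod.inr_fst]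
      rw [← Category.assoc, I2P1, zero_comp]
    · simp only [biprod.inl_desc_assoc, Category.assoc, biprod.lift_snd, Category.id_comp,
        biprod.inl_snd, Preadditive.comp_sub]
      rw [I1P2, comp_zero, ← Category.assoc I₁, I1P1, Category.id_comp, ← Category.assoc, c2,
        zero_comp, sub_self]
    · simp only [biprod.inr_desc_assoc, Category.assoc, biprod.lift_snd, Category.id_comp,
        biprod.inr_snd, Preadditive.comp_sub]
      rw [I2P2, ← Category.assoc, I2P1, zero_comp, sub_zero]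
  · rw [biprod.lift_desc, hi]
    simp only [Preadditive.comp_add, Preadditive.sub_comp, Category.assoc]
    have e1 : P₁ ≫ snd' ≫ inr' ≫ I₁ + P₁ ≫ fst' ≫ inl' ≫ I₁ = P₁ ≫ I₁ := by
      rw [← Preadditive.comp_add, ← Category.assoc snd', ← Category.assoc fst',
        ← Preadditive.add_comp, add_comm (snd' ≫ inr'), ctot, Category.id_comp]
    rw [← tot, ← e1]
    abel
end

/-- Let α : K ⟶ L be a morphism of cochain complexes over an additive category. There is a factorization
K ⟶ L' ⟶ L of α such that (1) K ⟶ L' is a termwise split injection (in each degree isomorphic to the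
inclusion of a direct summand) and (2) L' ⟶ L admits a section s : L ⟶ L' (s followed by L' ⟶ L is
the identity) such that L' ⟶ L followed by s is homotopic to the identity of L'. Moreover if K and L
are both bounded below, resp. both bounded above, then L' may be chosen bounded below, resp. bounded
above. -/
theorem result {V : Type u} [Category.{v} V] [Preadditive V] [HasBinaryBiproducts V] [HasZeroObject V]
    (K L : CochainComplex V ℤ) (α : K ⟶ L) :
    ∃ (L' : CochainComplex V ℤ) (α' : K ⟶ L') (π : L' ⟶ L) (s : L ⟶ L'),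
      α' ≫ π = α ∧ s ≫ π = 𝟙 L ∧ Nonempty (Homotopy (π ≫ s) (𝟙 L')) ∧
      (∀ n : ℤ, ∃ (C : V) (e : L'.X n ≅ K.X n ⊞ C), α'.f n ≫ e.hom = biprod.inl) ∧
      (∀ a : ℤ, K.IsStrictlyGE a → L.IsStrictlyGE a → ∃ a' : ℤ, L'.IsStrictlyGE a') ∧
      (∀ a : ℤ, K.IsStrictlyLE a → L.IsStrictlyLE a → ∃ a' : ℤ, L'.IsStrictlyLE a') := by
  refine ⟨mid K L, α' K L α, biprod.snd, biprod.inr, α'_snd K L α, by simp, ⟨homot K L⟩,
    fun n => split K L α n, ?_, ?_⟩
  · intro a hK hL
    refine ⟨a - 1, ?_⟩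
    rw [CochainComplex.isStrictlyGE_iff]
    intro i hi
    refine IsZero.of_iso ?_ ((HomologicalComplex.eval V (ComplexShape.up ℤ) i).mapBiprod _ _)
    simp only [HomologicalComplex.eval_obj, biprod_isZero_iff, CochainComplex.mappingCone.isZero_X_iff]
    exact ⟨⟨K.isZero_of_isStrictlyGE a _ (by omega), K.isZero_of_isStrictlyGE a _ (by omega)⟩,
      L.isZero_of_isStrictlyGE a _ (by omega)⟩
  · intro a hK hL
    refine ⟨a, ?_⟩
    rw [CochainComplex.isStrictlyLE_iff]
    intro i hi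
    refine IsZero.of_iso ?_ ((HomologicalComplex.eval V (ComplexShape.up ℤ) i).mapBiprod _ _)
    simp only [HomologicalComplex.eval_obj, biprod_isZero_iff, CochainComplex.mappingCone.isZero_X_iff]
    exact ⟨⟨K.isZero_of_isStrictlyLE a _ (by omega), K.isZero_of_isStrictlyLE a _ (by omega)⟩,
      L.isZero_of_isStrictlyLE a _ (by omega)⟩

end Groth.Agent.S6598
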