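import Groth.Statements.S6599
import Mathlib.Algebra.Homology.HomotopyCategory.MappingCocone
import Mathlib.Algebra.Homology.HomologicalComplexBiprod
import Mathlib.Algebra.Homology.Embedding.CochainComplex

set_option autoImplicit false
universe v u
open CategoryTheory CategoryTheory.Limits
open CohDer

namespace Groth.Agent.S6599

section
open CochainComplex HomComplex

lemma exists_iso_of_split' {C : Type*} [Category C] [Preadditive C] [HasBinaryBiproducts C]
    {A B Cc : C} (j : Cc ⟶ B) (q : B ⟶ Cc) (σ : A ⟶ B) (p : B ⟶ A) (hjq : j ≫ q = 𝟙 Cc)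
    (hjp : j ≫ p = 0) (hσq : σ ≫ q = 0) (hσp : σ ≫ p = 𝟙 A) (tot : q ≫ j + p ≫ σ = 𝟙 B) :
    ∃ e : B ≅ Cc ⊞ A, e.inv ≫ p = biprod.snd :=
  ⟨{ hom := biprod.lift q p
     inv := biprod.desc j σ
     hom_inv_id := by rw [biprod.lift_desc, tot]
     inv_hom_id := by
      apply biprod.hom_ext <;> apply biprod.hom_ext' <;> simp [hjq, hjp, hσq, hσp] },
    by apply biprod.hom_ext' <;> simp [hjp, hσp]⟩

variable {V : Type u} [Category.{v} V] [Preadditive V] [HasBinaryBiproducts V]
  (K L : CochainComplex V ℤ) (α : K ⟶ L)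

/-- the middle complex -/
noncomputable abbrev mid : CochainComplex V ℤ := K ⊞ mappingCocone (𝟙 L)

/-- the second map -/
noncomputable def α' : mid K L ⟶ L := biprod.desc α (mappingCocone.fst (𝟙 L))

lemma inl_α' : (biprod.inl : K ⟶ mid K L) ≫ α' K L α = α := by simp [α']

lemma inr_α' : (biprod.inr : _ ⟶ mid K L) ≫ α' K L α = mappingCocone.fst (𝟙 L) := by simp [α']

/-- contraction of the cocone of the identity -/
noncomputable def h₀ : Homotopy (𝟙 (mappingCocone (𝟙 L))) 0 :=
  (Homotopy.ofEq (by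
    dsimp only [mappingCocone]
    rw [CategoryTheory.Functor.map_id])).trans
    (((mappingCone.homotopyToZeroOfId L).shift (-1 : ℤ)).trans (Homotopy.ofEq (by
      rw [Functor.map_zero]
      rfl)))

/-- the homotopy -/
noncomputable def homot : Homotopy ((biprod.fst : mid K L ⟶ K) ≫ biprod.inl) (𝟙 (mid K L)) :=
  let h₁ := ((h₀ L).compRight (biprod.inr : _ ⟶ mid K L)).compLeft (biprod.snd : mid K L ⟶ _)
  let h₂ := Homotopy.add (Homotopy.refl ((biprod.fst : mid K L ⟶ K) ≫ biprod.inl)) h₁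
  (Homotopy.ofEq (by simp)).trans (h₂.symm.trans (Homotopy.ofEq (by simp)))

lemma split (n : ℤ) : ∃ (C : V) (e : (mid K L).X n ≅ C ⊞ L.X n),
    e.inv ≫ (α' K L α).f n = biprod.snd := by
  let P₁ := (biprod.fst : mid K L ⟶ K).f n
  let P₂ := (biprod.snd : mid K L ⟶ mappingCocone (𝟙 L)).f n
  let I₁ := (biprod.inl : K ⟶ mid K L).f n
  let I₂ := (biprod.inr : mappingCocone (𝟙 L) ⟶ mid K L).f n
  have I1P1 : I₁ ≫ P₁ = 𝟙 _ := by simp [I₁, P₁, ← HomologicalComplex.comp_f]
  have I1P2 : I₁ ≫ P₂ = 0 := by simp [I₁, P₂, ← HomologicalComplex.comp_f]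
  have I2P1 : I₂ ≫ P₁ = 0 := by simp [I₂, P₁, ← HomologicalComplex.comp_f]
  have I2P2 : I₂ ≫ P₂ = 𝟙 _ := by simp [I₂, P₂, ← HomologicalComplex.comp_f]
  have tot : P₁ ≫ I₁ + P₂ ≫ I₂ = 𝟙 _ := by
    simp [I₁, I₂, P₁, P₂, ← HomologicalComplex.comp_f, ← HomologicalComplex.add_f_apply]
  let fst' := (mappingCocone.fst (𝟙 L)).f n
  let snd' := (mappingCocone.snd (𝟙 L)).v n (n - 1) (by omega)
  let inl' := (mappingCocone.inl (𝟙 L)).v n n (add_zero n)
  let inr' := (mappingCocone.inr (𝟙 L)).1.v (n - 1) n (by omega)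
  have a1 : I₁ ≫ (α' K L α).f n = α.f n := by
    simp only [I₁, ← HomologicalComplex.comp_f, inl_α']
  have a2 : I₂ ≫ (α' K L α).f n = fst' := by
    simp only [I₂, ← HomologicalComplex.comp_f, inr_α']
    rfl
  have c1 : inl' ≫ fst' = 𝟙 _ := mappingCocone.inl_v_fst_f _ _
  have c2 : inl' ≫ snd' = 0 := mappingCocone.inl_v_snd_v _ _ _ _
  have c3 : inr' ≫ fst' = 0 := mappingCocone.inr_v_fst_f _ _ _ _
  have c4 : inr' ≫ snd' = 𝟙 _ := mappingCocone.inr_v_snd_v _ _ _ _
  have ctot : fst' ≫ inl' + snd' ≫ inr' = 𝟙 _ := mappingCocone.id_X _ n (n - 1) (by omega)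
  have hp : (α' K L α).f n = P₁ ≫ α.f n + P₂ ≫ fst' := by
    calc (α' K L α).f n = (P₁ ≫ I₁ + P₂ ≫ I₂) ≫ (α' K L α).f n := by rw [tot, Category.id_comp]
      _ = P₁ ≫ α.f n + P₂ ≫ fst' := by
        rw [Preadditive.add_comp, Category.assoc, a1, Category.assoc, a2]
  refine ⟨K.X n ⊞ L.X (n - 1), exists_iso_of_split'
    (biprod.desc (I₁ - α.f n ≫ inl' ≫ I₂) (inr' ≫ I₂)) (biprod.lift P₁ (P₂ ≫ snd'))
    (inl' ≫ I₂) ((α' K L α).f n) ?_ ?_ ?_ ?_ ?_⟩
  · apply biprod.hom_ext <;> apply biprod.hom_ext'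
    · simp only [biprod.inl_desc_assoc, Category.assoc, biprod.lift_fst, Category.id_comp,
        biprod.inl_fst, Preadditive.sub_comp]
      rw [I1P1, I2P1, comp_zero, comp_zero, sub_zero]
    · simp only [biprod.inr_desc_assoc, Category.assoc, biprod.lift_fst, Category.id_comp,
        biprod.inr_fst]
      rw [I2P1, comp_zero]
    · simp only [biprod.inl_desc_assoc, Category.assoc, biprod.lift_snd, Category.id_comp,
        biprod.inl_snd, Preadditive.sub_comp]
      rw [← Category.assoc I₁, I1P2, zero_comp, ← Category.assoc I₂, I2P2, Category.id_comp, c2,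
        comp_zero, sub_zero]
    · simp only [biprod.inr_desc_assoc, Category.assoc, biprod.lift_snd, Category.id_comp,
        biprod.inr_snd]
      rw [← Category.assoc I₂, I2P2, Category.id_comp, c4]
  · apply biprod.hom_ext'
    · simp only [biprod.inl_desc_assoc, comp_zero, Preadditive.sub_comp, Category.assoc]
      rw [a1, a2, c1, Category.comp_id, sub_self]
    · simp only [biprod.inr_desc_assoc, comp_zero, Category.assoc]
      rw [a2, c3]
  · apply biprod.hom_ext
    · simp only [Category.assoc, biprod.lift_fst, zero_comp]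
      rw [I2P1, comp_zero]
    · simp only [Category.assoc, biprod.lift_snd, zero_comp]
      rw [← Category.assoc I₂, I2P2, Category.id_comp, c2]
  · rw [Category.assoc, a2, c1]
  · rw [biprod.lift_desc, hp]
    simp only [Preadditive.comp_sub, Preadditive.add_comp, Category.assoc]
    have e1 : P₂ ≫ snd' ≫ inr' ≫ I₂ + P₂ ≫ fst' ≫ inl' ≫ I₂ = P₂ ≫ I₂ := by
      rw [← Preadditive.comp_add, ← Category.assoc snd', ← Category.assoc fst',
        ← Preadditive.add_comp, add_comm (snd' ≫ inr'), ctot, Category.id_comp]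
    rw [← tot, ← e1]
    abel
end

/-- Let α : K ⟶ L be a morphism of cochain complexes over an additive category. There is a factorization
K ⟶ K' ⟶ L of α such that (1) K' ⟶ L is a termwise split surjection (in each degree isomorphic to
the projection onto a direct summand) and (2) K ⟶ K' admits a retraction s : K' ⟶ K (K ⟶ K' followed
by s is the identity) such that s followed by K ⟶ K' is homotopic to the identity of K'. Moreover if
K and L are both bounded below, resp. both bounded above, then K' may be chosen bounded below, resp.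
bounded above. -/
theorem result {V : Type u} [Category.{v} V] [Preadditive V] [HasBinaryBiproducts V] [HasZeroObject V]
    (K L : CochainComplex V ℤ) (α : K ⟶ L) :
    ∃ (K' : CochainComplex V ℤ) (i : K ⟶ K') (α' : K' ⟶ L) (s : K' ⟶ K),
      i ≫ α' = α ∧ i ≫ s = 𝟙 K ∧ Nonempty (Homotopy (s ≫ i) (𝟙 K')) ∧
      (∀ n : ℤ, ∃ (C : V) (e : K'.X n ≅ C ⊞ L.X n), e.inv ≫ α'.f n = biprod.snd) ∧
      (∀ a : ℤ, K.IsStrictlyGE a → L.IsStrictlyGE a → ∃ a' : ℤ, K'.IsStrictlyGE a') ∧
      (∀ a : ℤ, K.IsStrictlyLE a → L.IsStrictlyLE a → ∃ a' : ℤ, K'.IsStrictlyLE a') := by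
  refine ⟨mid K L, biprod.inl, α' K L α, biprod.fst, inl_α' K L α, by simp, ⟨homot K L⟩,
    fun n => split K L α n, ?_, ?_⟩
  · intro a hK hL
    refine ⟨a, ?_⟩
    rw [CochainComplex.isStrictlyGE_iff]
    intro i hi
    refine IsZero.of_iso ?_ ((HomologicalComplex.eval V (ComplexShape.up ℤ) i).mapBiprod _ _)
    simp only [HomologicalComplex.eval_obj, biprod_isZero_iff]
    refine ⟨K.isZero_of_isStrictlyGE a _ (by omega), ?_⟩
    change IsZero ((CochainComplex.mappingCone (𝟙 L)).X (i + (-1)))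
    rw [CochainComplex.mappingCone.isZero_X_iff]
    exact ⟨L.isZero_of_isStrictlyGE a _ (by omega), L.isZero_of_isStrictlyGE a _ (by omega)⟩
  · intro a hK hL
    refine ⟨a + 1, ?_⟩
    rw [CochainComplex.isStrictlyLE_iff]
    intro i hi
    refine IsZero.of_iso ?_ ((HomologicalComplex.eval V (ComplexShape.up ℤ) i).mapBiprod _ _)
    simp only [HomologicalComplex.eval_obj, biprod_isZero_iff]
    refine ⟨K.isZero_of_isStrictlyLE a _ (by omega), ?_⟩
    change IsZero ((CochainComplex.mappingCone (𝟙 L)).X (i + (-1)))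
    rw [CochainComplex.mappingCone.isZero_X_iff]
    exact ⟨L.isZero_of_isStrictlyLE a _ (by omega), L.isZero_of_isStrictlyLE a _ (by omega)⟩

end Groth.Agent.S6599
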