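import Groth.Statements.S6600
import Mathlib.CategoryTheory.Triangulated.Orthogonal
-- import your own Groth.Agent.* helpers here

set_option autoImplicit false
universe v u
open CategoryTheory CategoryTheory.Limits
open CohDer

namespace Groth.Agent.S6600

section
open CategoryTheory.Pretriangulated

set_option backward.defeqAttrib.useBackward true in
set_option backward.isDefEq.respectTransparency false in
lemma aux {D : Type u} [Category.{v} D] [Preadditive D] [HasZeroObject D] [HasShift D ℤ]
    [∀ n : ℤ, (shiftFunctor D n).Additive] [Pretriangulated D] [IsTriangulated D]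
    (P : ObjectProperty D) [P.IsStableUnderShift ℤ] (T : Triangle D) (hT : T ∈ distinguishedTriangles) :
    P.rightOrthogonal T.obj₃ ↔ ∀ A : D, P A → Function.Bijective (fun u : A ⟶ T.obj₁ => u ≫ T.mor₁) := by
  constructor
  · intro hZ A hA
    constructor
    · intro u₁ u₂ h
      dsimp at h
      suffices ∀ u : A ⟶ T.obj₁, u ≫ T.mor₁ = 0 → u = 0 by
        have := this (u₁ - u₂) (by rw [Preadditive.sub_comp, h, sub_self])
        exact sub_eq_zero.mp this
      intro u hu
      obtain ⟨w, hw⟩ := Triangle.coyoneda_exact₂ _ (inv_rot_of_distTriang _ hT) u hu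
      have hZ' : P.rightOrthogonal (T.invRotate.obj₁) :=
        P.rightOrthogonal.le_shift (-1 : ℤ) _ hZ
      rw [hw, hZ' w hA, zero_comp]
    · intro v
      obtain ⟨u, hu⟩ := Triangle.coyoneda_exact₂ _ hT v (hZ _ hA)
      exact ⟨u, hu.symm⟩
  · intro h A g hA
    have h1 : g ≫ T.mor₃ = 0 := by
      have hA' : P ((shiftFunctor D (-1 : ℤ)).obj A) := P.le_shift (-1 : ℤ) _ hA
      let e : (shiftFunctor D (1 : ℤ)).obj ((shiftFunctor D (-1 : ℤ)).obj A) ≅ A :=
        (shiftFunctorCompIsoId D (-1 : ℤ) 1 (by simp)).app A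
      let u : (shiftFunctor D (-1 : ℤ)).obj A ⟶ T.obj₁ :=
        (shiftFunctor D (1 : ℤ)).preimage (e.hom ≫ g ≫ T.mor₃)
      have hu : (shiftFunctor D (1 : ℤ)).map u = e.hom ≫ g ≫ T.mor₃ := Functor.map_preimage _ _
      have hu0 : u ≫ T.mor₁ = 0 := by
        apply (shiftFunctor D (1 : ℤ)).map_injective
        rw [Functor.map_comp, hu, Functor.map_zero, Category.assoc, Category.assoc,
          comp_distTriang_mor_zero₃₁ _ hT, comp_zero, comp_zero]
      have hu1 : u = 0 := (h _ hA').1 (by simpa using hu0)
      rw [hu1, Functor.map_zero] at hu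
      have : e.hom ≫ (g ≫ T.mor₃) = e.hom ≫ 0 := by rw [← hu, comp_zero]
      exact (cancel_epi e.hom).mp this
    obtain ⟨v, hv⟩ := Triangle.coyoneda_exact₃ _ hT g h1
    obtain ⟨u, hu⟩ := (h _ hA).2 v
    dsimp at hu
    rw [hv, ← hu, Category.assoc, comp_distTriang_mor_zero₁₂ _ hT, comp_zero]

end

open CategoryTheory.Pretriangulated in
/-- Let D be a triangulated category, A ⊂ D a full subcategory invariant under all shifts, and X → Y → Z
→ X⟦1⟧ a distinguished triangle. Then Z lies in the right orthogonal A^⊥ if and only if Hom(A, X) →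
Hom(A, Y) is bijective for every object A of A. -/
theorem result {D : Type u} [Category.{v} D] [Preadditive D] [HasZeroObject D] [HasShift D ℤ]
    [∀ n : ℤ, (shiftFunctor D n).Additive] [Pretriangulated D] [IsTriangulated D]
    (P : ObjectProperty D) [P.IsStableUnderShift ℤ] (T : Triangle D) (hT : T ∈ distinguishedTriangles) :
    P.rightOrthogonal T.obj₃ ↔ ∀ A : D, P A → Function.Bijective (fun u : A ⟶ T.obj₁ => u ≫ T.mor₁) := by
  exact aux P T hT

end Groth.Agent.S6600
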