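import Groth.Statements.S6601
import Mathlib.CategoryTheory.Triangulated.Orthogonal
-- import your own Groth.Agent.* helpers here

set_option autoImplicit false
universe v u
open CategoryTheory CategoryTheory.Limits
open CohDer

namespace Groth.Agent.S6601

section
open CategoryTheory.Pretriangulated

set_option backward.defeqAttrib.useBackward true in
set_option backward.isDefEq.respectTransparency false in
lemma aux {D : Type u} [Category.{v} D] [Preadditive D] [HasZeroObject D] [HasShift D ℤ]
    [∀ n : ℤ, (shiftFunctor D n).Additive] [Pretriangulated D] [IsTriangulated D]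
    (P : ObjectProperty D) [P.IsStableUnderShift ℤ] (T : Triangle D) (hT : T ∈ distinguishedTriangles) :
    P.leftOrthogonal T.obj₁ ↔ ∀ B : D, P B → Function.Bijective (fun u : T.obj₃ ⟶ B => T.mor₂ ≫ u) := by
  constructor
  · intro hX B hB
    constructor
    · intro u₁ u₂ h
      dsimp at h
      suffices ∀ u : T.obj₃ ⟶ B, T.mor₂ ≫ u = 0 → u = 0 by
        have := this (u₁ - u₂) (by rw [Preadditive.comp_sub, h, sub_self])
        exact sub_eq_zero.mp this
      intro u hu
      obtain ⟨w, hw⟩ := Triangle.yoneda_exact₂ _ (rot_of_distTriang _ hT) u hu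
      have hX' : P.leftOrthogonal (T.rotate.obj₃) :=
        P.leftOrthogonal.le_shift (1 : ℤ) _ hX
      rw [hw, hX' w hB, comp_zero]
    · intro v
      obtain ⟨u, hu⟩ := Triangle.yoneda_exact₂ _ hT v (hX _ hB)
      exact ⟨u, hu.symm⟩
  · intro h B g hB
    have hB' : P ((shiftFunctor D (1 : ℤ)).obj B) := P.le_shift (1 : ℤ) _ hB
    have hu0 : T.mor₂ ≫ (T.mor₃ ≫ (shiftFunctor D (1 : ℤ)).map g) = 0 := by
      rw [← Category.assoc, comp_distTriang_mor_zero₂₃ _ hT, zero_comp]
    have hu1 : T.mor₃ ≫ (shiftFunctor D (1 : ℤ)).map g = 0 :=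
      (h _ hB').1 (by simpa using hu0)
    obtain ⟨v', hv'⟩ := Triangle.yoneda_exact₃ _ (rot_of_distTriang _ hT)
      ((shiftFunctor D (1 : ℤ)).map g) hu1
    dsimp at v' hv'
    obtain ⟨v, rfl⟩ := (shiftFunctor D (1 : ℤ)).map_surjective v'
    have hg : g = T.mor₁ ≫ (-v) := by
      apply (shiftFunctor D (1 : ℤ)).map_injective
      rw [hv']
      simp
    obtain ⟨u, hu⟩ := (h _ hB).2 (-v)
    dsimp at hu
    rw [hg, ← hu, ← Category.assoc, comp_distTriang_mor_zero₁₂ _ hT, zero_comp]

end

open CategoryTheory.Pretriangulated in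
/-- Let D be a triangulated category, B ⊂ D a full subcategory invariant under all shifts, and X → Y → Z
→ X⟦1⟧ a distinguished triangle. Then X lies in the left orthogonal ^⊥B if and only if Hom(Z, B) →
Hom(Y, B) is bijective for every object B of B. -/
theorem result {D : Type u} [Category.{v} D] [Preadditive D] [HasZeroObject D] [HasShift D ℤ]
    [∀ n : ℤ, (shiftFunctor D n).Additive] [Pretriangulated D] [IsTriangulated D]
    (P : ObjectProperty D) [P.IsStableUnderShift ℤ] (T : Triangle D) (hT : T ∈ distinguishedTriangles) :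
    P.leftOrthogonal T.obj₁ ↔ ∀ B : D, P B → Function.Bijective (fun u : T.obj₃ ⟶ B => T.mor₂ ≫ u) := by
  exact aux P T hT

end Groth.Agent.S6601
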