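import Groth.Statements.S6602
import Groth.Agent.S6601
import Mathlib.CategoryTheory.Adjunction.Comma
-- import your own Groth.Agent.* helpers here

set_option autoImplicit false
universe v u
open CategoryTheory CategoryTheory.Limits
open CohDer

namespace Groth.Agent.S6602

section
open CategoryTheory.Pretriangulated ZeroObject

variable {D : Type u} [Category.{v} D] [Preadditive D] [HasZeroObject D] [HasShift D ℤ]
    [∀ n : ℤ, (shiftFunctor D n).Additive] [Pretriangulated D] [IsTriangulated D]
    (P : ObjectProperty D) [P.IsTriangulated]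

set_option backward.defeqAttrib.useBackward true in
set_option backward.isDefEq.respectTransparency false in
lemma forward (h : P.ι.IsRightAdjoint) (X : D) :
    ∃ (A B : D) (f : A ⟶ X) (g : X ⟶ B) (h : B ⟶ (shiftFunctor D (1 : ℤ)).obj A),
      Triangle.mk f g h ∈ distinguishedTriangles ∧ P B ∧ P.leftOrthogonal A := by
  have hI : HasInitial (StructuredArrow X P.ι) :=
    (isRightAdjoint_iff_hasInitial_structuredArrow.1 h) X
  let I : StructuredArrow X P.ι := ⊥_ _
  obtain ⟨A, f, h', hT⟩ := distinguished_cocone_triangle₁ I.hom
  refine ⟨A, I.right.obj, f, I.hom, h', hT, I.right.property, ?_⟩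
  refine (Groth.Agent.S6601.result P _ hT).2 ?_
  intro B hB
  let B' : P.FullSubcategory := ⟨B, hB⟩
  constructor
  · intro u₁ u₂ hu
    dsimp at hu u₁ u₂
    let J : StructuredArrow X P.ι :=
      StructuredArrow.mk (Y := B') ((I.hom ≫ u₁ : X ⟶ B) : X ⟶ P.ι.obj B')
    let m₁ : I ⟶ J := StructuredArrow.homMk (P.homMk (Y := B') u₁) (by rfl)
    let m₂ : I ⟶ J := StructuredArrow.homMk (P.homMk (Y := B') u₂) (by exact hu.symm)
    have : m₁ = m₂ := initialIsInitial.hom_ext _ _
    have := congrArg (fun m : I ⟶ J => (CommaMorphism.right m).hom) this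
    exact this
  · intro u
    dsimp at u
    let J : StructuredArrow X P.ι := StructuredArrow.mk (Y := B') (u : X ⟶ P.ι.obj B')
    let m : I ⟶ J := initial.to J
    refine ⟨m.right.hom, ?_⟩
    have := StructuredArrow.w m
    dsimp
    exact this

set_option backward.defeqAttrib.useBackward true in
set_option backward.isDefEq.respectTransparency false in
lemma backward (h : ∀ X : D, ∃ (A B : D) (f : A ⟶ X) (g : X ⟶ B) (h : B ⟶ (shiftFunctor D (1 : ℤ)).obj A),
      Triangle.mk f g h ∈ distinguishedTriangles ∧ P B ∧ P.leftOrthogonal A) :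
    P.ι.IsRightAdjoint := by
  rw [isRightAdjoint_iff_hasInitial_structuredArrow]
  intro X
  obtain ⟨A, B, f, g, h', hT, hB, hA⟩ := h X
  have hbij := (Groth.Agent.S6601.result P _ hT).1 hA
  let I : StructuredArrow X P.ι :=
    StructuredArrow.mk (Y := (⟨B, hB⟩ : P.FullSubcategory)) (g : X ⟶ P.ι.obj ⟨B, hB⟩)
  have hsurj : ∀ J : StructuredArrow X P.ι, ∃ v : B ⟶ J.right.obj, g ≫ v = J.hom :=
    fun J => (hbij _ J.right.property).2 J.hom
  choose v hv using hsurj
  refine (IsInitial.ofUniqueHom (X := I) (fun J => ?_) (fun J m => ?_)).hasInitial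
  · exact StructuredArrow.homMk (P.homMk (v J)) (hv J)
  · apply StructuredArrow.ext
    apply P.hom_ext
    apply (hbij J.right.obj J.right.property).1
    dsimp
    rw [hv J]
    exact StructuredArrow.w m

end

open CategoryTheory.Pretriangulated in
/-- (1) ⇔ (2): let D be a triangulated category and B a full triangulated subcategory. The inclusion
functor B → D has a left adjoint if and only if for every X in D there is a distinguished triangle A
→ X → B → A⟦1⟧ with B in B and A in the left orthogonal ^⊥B. (The published statement further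
asserts that B is then saturated and, when strictly full, equals the right orthogonal of its left
orthogonal; this row asserts only the equivalence.) -/
theorem result {D : Type u} [Category.{v} D] [Preadditive D] [HasZeroObject D] [HasShift D ℤ]
    [∀ n : ℤ, (shiftFunctor D n).Additive] [Pretriangulated D] [IsTriangulated D]
    (P : ObjectProperty D) [P.IsTriangulated] :
    P.ι.IsRightAdjoint ↔ ∀ X : D, ∃ (A B : D) (f : A ⟶ X) (g : X ⟶ B) (h : B ⟶ (shiftFunctor D (1 : ℤ)).obj A),
      Triangle.mk f g h ∈ distinguishedTriangles ∧ P B ∧ P.leftOrthogonal A := by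
  exact ⟨fun h X => forward P h X, backward P⟩

end Groth.Agent.S6602
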