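import Groth.Statements.S6604
import Groth.Agent.H33.LocTri
-- import your own Groth.Agent.* helpers here

set_option autoImplicit false
universe v u v' u'
open CategoryTheory CategoryTheory.Limits
open CohDer

namespace Groth.Agent.S6604

section
open CategoryTheory.Pretriangulated ZeroObject

variable {D : Type u} [Category.{v} D] [Preadditive D] [HasZeroObject D] [HasShift D ℤ]
    [∀ n : ℤ, (shiftFunctor D n).Additive] [Pretriangulated D] [IsTriangulated D]
    (B : ObjectProperty D) [B.IsTriangulated]
    {E : Type u'} [Category.{v'} E] (Q : D ⥤ E) [Q.IsLocalization B.trW]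

set_option backward.defeqAttrib.useBackward true in
set_option backward.isDefEq.respectTransparency false in
lemma aux (Z : D) :
    IsZero (Q.obj Z) ↔ ∃ (Z' Y : D), B Y ∧ Nonempty (Z ⊞ Z' ≅ Y) := by
  constructor
  · intro hZ
    obtain ⟨Z'', W, g, h, hT, hW⟩ :=
      (Groth.Agent.H33.isZero_obj_iff_exists_zero_right B.trW Q Z).1 hZ
    obtain ⟨e, _, _⟩ := exists_iso_binaryBiproduct_of_distTriang _ (rot_of_distTriang _ hT)
      (by simp)
    dsimp at e
    exact ⟨_, W, hW, ⟨e.symm⟩⟩
  · rintro ⟨Z', Y, hY, ⟨e⟩⟩
    have hQY : IsZero (Q.obj Y) := by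
      rw [Groth.Agent.H33.isZero_obj_iff_exists_zero_right B.trW Q Y]
      exact ⟨0, Y, 𝟙 Y, 0, contractible_distinguished₁ Y, hY⟩
    have h2 : IsZero (Q.obj (Z ⊞ Z')) := IsZero.of_iso hQY (Q.mapIso e)
    exact Groth.Agent.H33.isZero_obj_of_retract Q biprod.inl biprod.fst (by simp) h2

end

/-- Let D be a triangulated category, B a full triangulated subcategory and Q : D → D/B the quotient
functor. Q sends an object Z of D to zero (Q(Z) = 0, i.e. Z belongs to the kernel of Q) exactly
when, for a suitable object Z' of D, the direct sum Z ⊞ Z' is isomorphic to some object lying in B;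
put differently, the kernel is the smallest saturated, strictly full triangulated subcategory that
contains B. -/
theorem result {D : Type u} [Category.{v} D] [Preadditive D] [HasZeroObject D] [HasShift D ℤ]
    [∀ n : ℤ, (shiftFunctor D n).Additive] [Pretriangulated D] [IsTriangulated D]
    (B : ObjectProperty D) [B.IsTriangulated]
    {E : Type u'} [Category.{v'} E] (Q : D ⥤ E) [Q.IsLocalization B.trW] (Z : D) :
    IsZero (Q.obj Z) ↔ ∃ (Z' Y : D), B Y ∧ Nonempty (Z ⊞ Z' ≅ Y) := by
  exact aux B Q Z

end Groth.Agent.S6604
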