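import Groth.Statements.S6606
import Mathlib.Algebra.Homology.DerivedCategory.KProjective
import Mathlib.Algebra.Homology.HomotopyCategory.HomologicalFunctor
import Mathlib.Algebra.Homology.HomotopyCategory.ShiftSequence
import Mathlib.Algebra.Homology.Embedding.CochainComplex

set_option autoImplicit false
universe v u
open CategoryTheory CategoryTheory.Limits
open CohDer

namespace Groth.Agent.S6606

section
open CategoryTheory.Pretriangulated

variable {A : Type u} [Category.{v} A] [Abelian A]

set_option backward.defeqAttrib.useBackward true in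
set_option backward.isDefEq.respectTransparency false in
lemma exactAt_cone {E L : CochainComplex A ℤ} (α : E ⟶ L) (i : ℤ)
    (hepi : Epi (HomologicalComplex.homologyMap α i))
    (hmono : Mono (HomologicalComplex.homologyMap α (i + 1))) :
    (CochainComplex.mappingCone α).ExactAt i := by
  let F := HomotopyCategory.homologyFunctor A (ComplexShape.up ℤ) 0
  let Qt := HomotopyCategory.quotient A (ComplexShape.up ℤ)
  let T := CochainComplex.mappingCone.triangleh α
  have hT : T ∈ distTriang _ := HomotopyCategory.mappingCone_triangleh_distinguished α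
  have key : ∀ j : ℤ, Arrow.mk ((HomotopyCategory.homologyFunctor A (ComplexShape.up ℤ) j).map
      (Qt.map α)) ≅ Arrow.mk (HomologicalComplex.homologyMap α j) := fun j =>
    Arrow.isoMk ((HomotopyCategory.homologyFunctorFactors A (ComplexShape.up ℤ) j).app E)
      ((HomotopyCategory.homologyFunctorFactors A (ComplexShape.up ℤ) j).app L)
      ((HomotopyCategory.homologyFunctorFactors A (ComplexShape.up ℤ) j).hom.naturality α).symm
  have e1 : Epi ((F.shift i).map T.mor₁) := by
    change Epi ((HomotopyCategory.homologyFunctor A (ComplexShape.up ℤ) i).map (Qt.map α))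
    exact ((MorphismProperty.epimorphisms A).arrow_mk_iso_iff (key i)).2 hepi
  have m1 : Mono ((F.shift (i + 1)).map T.mor₁) := by
    change Mono ((HomotopyCategory.homologyFunctor A (ComplexShape.up ℤ) (i + 1)).map (Qt.map α))
    exact ((MorphismProperty.monomorphisms A).arrow_mk_iso_iff (key (i + 1))).2 hmono
  have h1 := (F.homologySequence_epi_shift_map_mor₁_iff T hT i).1 e1
  have h2 := (F.homologySequence_mono_shift_map_mor₁_iff T hT i (i + 1) rfl).1 m1
  have hz : IsZero ((F.shift i).obj T.obj₃) :=
    (F.homologySequence_exact₃ T hT i (i + 1) rfl).isZero_X₂ h1 h2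
  rw [HomologicalComplex.exactAt_iff_isZero_homology]
  exact IsZero.of_iso hz
    ((HomotopyCategory.homologyFunctorFactors A (ComplexShape.up ℤ) i).app
      (CochainComplex.mappingCone α)).symm

end

/-- Let A be an abelian category, β : P ⟶ L and α : E ⟶ L morphisms of cochain complexes and n an
integer. Assume P is a bounded complex of projective objects with Pⁱ = 0 for i < n, and that Hⁱ(α)
is an isomorphism for i > n and an epimorphism for i = n. Then there is γ : P ⟶ E such that γ ≫ α is
homotopic to β. -/
theorem result {A : Type u} [Category.{v} A] [Abelian A]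
    (P E L : CochainComplex A ℤ) (β : P ⟶ L) (α : E ⟶ L) (n b : ℤ) [P.IsStrictlyGE n] [P.IsStrictlyLE b]
    (hP : ∀ i : ℤ, Projective (P.X i))
    (hiso : ∀ i : ℤ, n < i → IsIso (HomologicalComplex.homologyMap α i)) (hepi : Epi (HomologicalComplex.homologyMap α n)) :
    ∃ γ : P ⟶ E, Nonempty (Homotopy (γ ≫ α) β) := by
  classical
  letI := HasDerivedCategory.standard A
  let Qt := HomotopyCategory.quotient A (ComplexShape.up ℤ)
  let C := CochainComplex.mappingCone α
  have hP' : ∀ i : ℤ, Projective (P.X i) := hP
  have hKP : P.IsKProjective := CochainComplex.isKProjective_of_projective P b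
  have hC : C.IsLE (n - 1) := by
    rw [CochainComplex.isLE_iff]
    intro i hi
    have hi' : n ≤ i := by omega
    apply exactAt_cone α i
    · rcases hi'.lt_or_eq with h | h
      · have := hiso i h
        infer_instance
      · subst h
        exact hepi
    · have := hiso (i + 1) (by omega)
      infer_instance
  let T := C.truncLE (n - 1)
  let q : T ⟶ C := C.ιTruncLE (n - 1)
  have hq : QuasiIso q := by
    dsimp only [q]
    infer_instance
  have hT : T.IsStrictlyLE (n - 1) := by
    dsimp only [T]
    infer_instance
  let φ : P ⟶ C := β ≫ CochainComplex.mappingCone.inr α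
  have hφ : Qt.map φ = 0 := by
    apply (CochainComplex.IsKProjective.Qh_map_bijective P (Qt.obj C)).injective
    have hq' : IsIso (DerivedCategory.Qh.map (Qt.map q)) :=
      (inferInstance : IsIso (DerivedCategory.Q.map q))
    obtain ⟨ψ', hψ'⟩ := (CochainComplex.IsKProjective.Qh_map_bijective P (Qt.obj T)).surjective
      (DerivedCategory.Qh.map (Qt.map φ) ≫ inv (DerivedCategory.Qh.map (Qt.map q)))
    obtain ⟨ψ, rfl⟩ := Qt.map_surjective ψ'
    have hψ0 : ψ = 0 := by
      ext i
      by_cases hi : i < n
      · exact (P.isZero_of_isStrictlyGE n i hi).eq_of_src _ _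
      · exact (T.isZero_of_isStrictlyLE (n - 1) i (by omega)).eq_of_tgt _ _
    rw [hψ0, Functor.map_zero, Functor.map_zero] at hψ'
    rw [Functor.map_zero]
    have h3 := congrArg (fun m => m ≫ DerivedCategory.Qh.map (Qt.map q)) hψ'
    simp only [zero_comp, Category.assoc, IsIso.inv_hom_id, Category.comp_id] at h3
    exact h3.symm
  have hdist := HomotopyCategory.mappingCone_triangleh_distinguished α
  obtain ⟨g, hg⟩ := CategoryTheory.Pretriangulated.Triangle.coyoneda_exact₂ _ hdist (Qt.map β) (by
    change Qt.map β ≫ Qt.map (CochainComplex.mappingCone.inr α) = 0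
    rw [← Functor.map_comp]
    exact hφ)
  obtain ⟨γ, rfl⟩ := Qt.map_surjective g
  refine ⟨γ, ⟨HomotopyCategory.homotopyOfEq _ _ ?_⟩⟩
  rw [Functor.map_comp]
  exact hg.symm

end Groth.Agent.S6606
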