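import Groth.Statements.S6607
import Mathlib.CategoryTheory.Triangulated.Orthogonal
import Mathlib.CategoryTheory.Triangulated.TriangleShift
-- import your own Groth.Agent.* helpers here

set_option autoImplicit false
universe v u
open CategoryTheory CategoryTheory.Limits
open CohDer

namespace Groth.Agent.S6607

section
open CategoryTheory.Pretriangulated ZeroObject CategoryTheory.Triangulated

variable {D : Type u} [Category.{v} D] [Preadditive D] [HasZeroObject D] [HasShift D ℤ]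
    [∀ n : ℤ, (shiftFunctor D n).Additive] [Pretriangulated D] [IsTriangulated D]
    (B : ObjectProperty D) [B.IsTriangulated]

/-- the property -/
def PP : ObjectProperty D :=
  fun X : D => ∃ (A Y : D) (f : A ⟶ X) (g : X ⟶ Y) (h : Y ⟶ (shiftFunctor D (1 : ℤ)).obj A),
      Triangle.mk f g h ∈ distinguishedTriangles ∧ B Y ∧ B.leftOrthogonal A

set_option backward.defeqAttrib.useBackward true in
set_option backward.isDefEq.respectTransparency false in
lemma closed₂ (T : Triangle D) (hT : T ∈ distTriang D) (h₁ : PP B T.obj₁) (h₃ : PP B T.obj₃) :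
    PP B T.obj₂ := by
  obtain ⟨A₁, Y₁, f₁, g₁, h₁', hT₁, hY₁, hA₁⟩ := h₁
  obtain ⟨A₃, Y₃, f₃, g₃, h₃', hT₃, hY₃, hA₃⟩ := h₃
  obtain ⟨L, v', w', hL⟩ := distinguished_cocone_triangle (f₁ ≫ T.mor₁)
  have O1 := someOctahedron rfl hT₁ hT hL
  have hz : f₃ ≫ (T.mor₃ ≫ (shiftFunctor D (1 : ℤ)).map g₁) = 0 := hA₃ _ (B.le_shift 1 _ hY₁)
  obtain ⟨σ, hσ⟩ := Triangle.coyoneda_exact₃ _ O1.mem f₃ hz
  obtain ⟨Y₂, s', s'', hY₂⟩ := distinguished_cocone_triangle σ
  have hrot1 : Triangle.mk O1.m₃ (T.mor₃ ≫ (shiftFunctor D (1 : ℤ)).map g₁)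
      (-(shiftFunctor D (1 : ℤ)).map O1.m₁) ∈ distTriang D := rot_of_distTriang _ O1.mem
  have O2 := someOctahedron hσ.symm hY₂ hrot1 hT₃
  have hBY₂ : B.isoClosure Y₂ :=
    B.ext_of_isTriangulatedClosed₁' _ O2.mem hY₃ (B.le_shift 1 _ hY₁)
  obtain ⟨C, p', p'', hC⟩ := distinguished_cocone_triangle (v' ≫ s')
  have hrotL : Triangle.mk v' w' (-(shiftFunctor D (1 : ℤ)).map (f₁ ≫ T.mor₁)) ∈ distTriang D :=
    rot_of_distTriang _ hL
  have hrotσ : Triangle.mk s' s'' (-(shiftFunctor D (1 : ℤ)).map σ) ∈ distTriang D :=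
    rot_of_distTriang _ hY₂
  have O3 := someOctahedron rfl hrotL hrotσ hC
  have hC' : B.leftOrthogonal C :=
    B.leftOrthogonal.ext_of_isTriangulatedClosed₂ _ O3.mem
      (B.leftOrthogonal.le_shift 1 _ hA₁) (B.leftOrthogonal.le_shift 1 _ hA₃)
  obtain ⟨Y₂', hY₂', ⟨e⟩⟩ := hBY₂
  have hinv := inv_rot_of_distTriang _ hC
  refine ⟨_, Y₂', (Triangle.mk (v' ≫ s') p' p'').invRotate.mor₁, (v' ≫ s') ≫ e.hom,
    e.inv ≫ (Triangle.mk (v' ≫ s') p' p'').invRotate.mor₃, ?_, hY₂',
    B.leftOrthogonal.le_shift (-1) _ hC'⟩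
  refine isomorphic_distinguished _ hinv _ ?_
  exact Triangle.isoMk _ _ (Iso.refl _) (Iso.refl _) e.symm (by simp) (by simp) (by simp)

lemma isTri : (PP B).IsTriangulated := by
  have h0 : (PP B).ContainsZero := by
    obtain ⟨Z, hZ, hBZ⟩ := B.exists_prop_of_containsZero
    refine ⟨⟨Z, hZ, 0, Z, 0, 𝟙 Z, 0, contractible_distinguished₁ Z, hBZ, ?_⟩⟩
    intro Y f _
    exact (isZero_zero D).eq_of_src _ _
  have h1 : (PP B).IsStableUnderShift ℤ :=
    { isStableUnderShiftBy := fun n => ⟨by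
        rintro X ⟨A, Y, f, g, h, hT, hY, hA⟩
        exact ⟨_, _, _, _, _, Triangle.shift_distinguished _ hT n, B.le_shift n _ hY,
          B.leftOrthogonal.le_shift n _ hA⟩⟩ }
  have h2 : (PP B).IsTriangulatedClosed₂ :=
    ⟨fun T hT h₁ h₃ => ObjectProperty.le_isoClosure _ _ (closed₂ B T hT h₁ h₃)⟩
  exact {}

end

open CategoryTheory.Pretriangulated in
/-- Let D be a triangulated category and B a full triangulated subcategory. Let P(X) be the property:
there is a distinguished triangle A → X → B → A⟦1⟧ with B in B and A in ^⊥B. Then P satisfies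
two-out-of-three in distinguished triangles, i.e. it is stable under all shifts and closed under
extensions (a triangulated object property). -/
theorem result {D : Type u} [Category.{v} D] [Preadditive D] [HasZeroObject D] [HasShift D ℤ]
    [∀ n : ℤ, (shiftFunctor D n).Additive] [Pretriangulated D] [IsTriangulated D]
    (B : ObjectProperty D) [B.IsTriangulated] :
    ObjectProperty.IsTriangulated (fun X : D => ∃ (A Y : D) (f : A ⟶ X) (g : X ⟶ Y) (h : Y ⟶ (shiftFunctor D (1 : ℤ)).obj A),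
      Triangle.mk f g h ∈ distinguishedTriangles ∧ B Y ∧ B.leftOrthogonal A) := by
  exact isTri B

end Groth.Agent.S6607
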