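import Groth.Statements.S6610
import Groth.Agent.H33.LeftRes

set_option autoImplicit false
universe v u
open CategoryTheory CategoryTheory.Limits
open CohDer

namespace Groth.Agent.S6610

/-- Let A be an abelian category with enough projectives and S : 0 → A• → B• → C• → 0 a short exact
sequence of cochain complexes all vanishing above degree n. Then there are a short exact sequence T
: 0 → P₁ → P₂ → P₃ → 0 of complexes of projective objects vanishing above degree n and a morphism of
short exact sequences T ⟶ S whose three components are quasi-isomorphisms (projective resolutions).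
(The published statement is phrased for bounded below complexes; projective resolutions are bounded
above by definition and exist only for complexes with cohomology bounded above, so the statement is
given here for bounded above complexes, the case dual to the injective one.) -/
theorem result {A : Type u} [Category.{v} A] [Abelian A] [EnoughProjectives A]
    (S : ShortComplex (CochainComplex A ℤ)) (hS : S.ShortExact) (n : ℤ)
    [S.X₁.IsStrictlyLE n] [S.X₂.IsStrictlyLE n] [S.X₃.IsStrictlyLE n] :
    ∃ (T : ShortComplex (CochainComplex A ℤ)) (φ : T ⟶ S), T.ShortExact ∧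
      T.X₁.IsStrictlyLE n ∧ T.X₂.IsStrictlyLE n ∧ T.X₃.IsStrictlyLE n ∧
      (∀ k : ℤ, Projective (T.X₁.X k) ∧ Projective (T.X₂.X k) ∧ Projective (T.X₃.X k)) ∧
      QuasiIso φ.τ₁ ∧ QuasiIso φ.τ₂ ∧ QuasiIso φ.τ₃ := by
  have hP : ∀ X : A, ∃ (Y : A) (π : Y ⟶ X), Projective Y ∧ Epi π := fun X =>
    ⟨Projective.over X, Projective.π X, inferInstance, inferInstance⟩
  have hP0 : ∃ Z : A, IsZero Z ∧ Projective Z := by
    obtain ⟨Z, hZ⟩ := HasZeroObject.zero (C := A)
    exact ⟨Z, hZ, ⟨fun f e _ => ⟨0, hZ.eq_of_src _ _⟩⟩⟩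
  have := hS.mono_f
  have := hS.epi_g
  obtain ⟨P₃, γ, hP₃le, hP₃proj, hγepi, hγq⟩ :=
    H33.LeftRes.exists_resolution_int (P := fun X => Projective X) hP hP0 S.X₃ n
  have : Epi γ := HomologicalComplex.epi_of_epi_f γ hγepi
  have : (pullback S.g γ).IsStrictlyLE n := H33.LeftRes.isStrictlyLE_pullback S.g γ n
  obtain ⟨P₂, β, hP₂le, hP₂proj, hβepi, hβq⟩ :=
    H33.LeftRes.exists_resolution_int (P := fun X => Projective X) hP hP0 (pullback S.g γ) n
  have : Epi β := HomologicalComplex.epi_of_epi_f β hβepi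
  have hfst : QuasiIso (pullback.fst S.g γ) := by
    have h1 := H33.LeftRes.pullback_shortExact S.g γ
    have h2 : (kernel γ).Acyclic := by
      have h3 : (ShortComplex.mk (kernel.ι γ) γ (kernel.condition γ)).ShortExact :=
        ShortComplex.ShortExact.mk'
          (ShortComplex.exact_of_f_is_kernel _ (kernelIsKernel γ))
          (by dsimp; infer_instance) (by dsimp; infer_instance)
      exact h3.acyclic_X₁ hγq
    exact H33.LeftRes.quasiIso_g_of_acyclic h1 h2
  obtain ⟨π, hπ⟩ : ∃ π : P₂ ⟶ P₃, π = β ≫ pullback.snd S.g γ := ⟨_, rfl⟩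
  have : Epi π := by rw [hπ]; exact epi_comp _ _
  have hT : (ShortComplex.mk (kernel.ι π) π (kernel.condition π)).ShortExact :=
    ShortComplex.ShortExact.mk'
      (ShortComplex.exact_of_f_is_kernel _ (kernelIsKernel π))
      (by dsimp; infer_instance) (by dsimp; infer_instance)
  have hτ : (kernel.ι π ≫ β ≫ pullback.fst S.g γ) ≫ S.g = 0 := by
    have h0 : kernel.ι π ≫ β ≫ pullback.snd S.g γ = 0 := by
      rw [← hπ]
      exact kernel.condition π
    have h1 := h0 =≫ γ
    simp only [Category.assoc, zero_comp] at h1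
    simp only [Category.assoc]
    rw [pullback.condition]
    exact h1
  obtain ⟨τ₁, hτ₁⟩ : ∃ τ₁ : kernel π ⟶ S.X₁,
      τ₁ ≫ S.f = kernel.ι π ≫ β ≫ pullback.fst S.g γ :=
    ⟨hS.fIsKernel.lift (KernelFork.ofι _ hτ),
      hS.fIsKernel.fac (KernelFork.ofι _ hτ) WalkingParallelPair.zero⟩
  let φ : ShortComplex.mk (kernel.ι π) π (kernel.condition π) ⟶ S :=
    { τ₁ := τ₁
      τ₂ := β ≫ pullback.fst S.g γ
      τ₃ := γ
      comm₁₂ := by
        dsimp
        rw [hτ₁]
      comm₂₃ := by
        dsimp
        rw [hπ, Category.assoc, Category.assoc, pullback.condition] }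
  have hq₂ : QuasiIso φ.τ₂ := quasiIso_comp (hφ := hβq) (hφ' := hfst) _ _
  refine ⟨_, φ, hT, ?_, hP₂le, hP₃le, ?_, ?_, hq₂, hγq⟩
  · exact H33.LeftRes.isStrictlyLE_of_mono (kernel.ι π) n
  · intro k
    exact ⟨H33.LeftRes.projective_X₁ hT k (hP₂proj k) (hP₃proj k), hP₂proj k, hP₃proj k⟩
  · exact H33.LeftRes.quasiIso_τ₁ φ hT hS hq₂ hγq

end Groth.Agent.S6610
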