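import Groth.Statements.S6611
import Mathlib.Algebra.Homology.HomotopyCategory.KInjective
import Mathlib.Algebra.Homology.HomologySequenceLemmas
import Mathlib.Algebra.Homology.HomologicalComplexAbelian

set_option autoImplicit false
universe v u
open CategoryTheory CategoryTheory.Limits
open CohDer

namespace Groth.Agent.S6611

/-- Let A be an abelian category, α : K ⟶ L a quasi-isomorphism of cochain complexes which is injective
in every degree, I a bounded below complex of injective objects and γ : K ⟶ I a morphism. Then there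
is a morphism β : L ⟶ I with α ≫ β = γ. -/
theorem result {A : Type u} [Category.{v} A] [Abelian A]
    (K L I : CochainComplex A ℤ) (α : K ⟶ L) [QuasiIso α] (hα : ∀ n : ℤ, Mono (α.f n))
    (a : ℤ) [I.IsStrictlyGE a] (hI : ∀ n : ℤ, Injective (I.X n)) (γ : K ⟶ I) :
    ∃ β : L ⟶ I, α ≫ β = γ := by
  classical
  open CochainComplex HomComplex in
  have hmono : Mono α := HomologicalComplex.mono_of_mono_f α hα
  let S : ShortComplex (CochainComplex A ℤ) :=
    ShortComplex.mk α (cokernel.π α) (cokernel.condition α)
  have hS : S.ShortExact :=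
    { exact := ShortComplex.exact_cokernel α
      mono_f := hmono
      epi_g := by dsimp [S]; infer_instance }
  have hC : (cokernel α).Acyclic := hS.acyclic_X₃ (by dsimp [S]; infer_instance)
  have hI' : ∀ n, Injective (I.X n) := hI
  have hKI : I.IsKInjective := isKInjective_of_injective I a
  have hSn : ∀ n, (S.map (HomologicalComplex.eval A _ n)).ShortExact :=
    fun n => hS.map_of_exact _
  have hepi : ∀ n, Epi ((cokernel.π α).f n) := fun n => (hSn n).epi_g
  let y : Cochain L I 0 := Cochain.ofHoms (fun n => Injective.factorThru (γ.f n) (α.f n))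
  have hy : (Cochain.ofHom α).comp y (zero_add 0) = Cochain.ofHom γ := by
    ext n
    simp [y, Injective.comp_factorThru]
  let z : Cochain L I 1 := δ 0 1 y
  have hz : (Cochain.ofHom α).comp z (zero_add 1) = 0 := by
    dsimp [z]
    rw [← δ_ofHom_comp, hy, δ_ofHom]
  have hz' : ∀ p q (hpq : p + 1 = q), α.f p ≫ z.v p q hpq = 0 := by
    intro p q hpq
    have := Cochain.congr_v hz p q hpq
    simpa using this
  have hepi' : ∀ n, Epi (S.map (HomologicalComplex.eval A (ComplexShape.up ℤ) n)).g :=
    fun n => (hSn n).epi_g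
  let w : Cochain (cokernel α) I 1 :=
    Cochain.mk (fun p q hpq => (hSn p).exact.desc (z.v p q hpq) (hz' p q hpq))
  have hw : (Cochain.ofHom (cokernel.π α)).comp w (zero_add 1) = z := by
    ext p q hpq
    simp only [Cochain.zero_cochain_comp_v, Cochain.ofHom_v, w, Cochain.mk_v]
    exact (hSn p).exact.g_desc _ _
  have hδw : δ 1 2 w = 0 := by
    have h1 : (Cochain.ofHom (cokernel.π α)).comp (δ 1 2 w) (zero_add 2) = 0 := by
      rw [← δ_ofHom_comp, hw]
      exact δ_δ _ _ _ _
    ext p q hpq
    have := Cochain.congr_v h1 p q hpq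
    rw [← cancel_epi ((cokernel.π α).f p)]
    simpa using this
  obtain ⟨h, hh⟩ := IsKInjective.eq_δ_of_cocycle (Cocycle.mk w 2 rfl hδw) hC 0 (zero_add 1)
  have hh' : δ 0 1 h = w := hh
  let b0 : Cochain L I 0 := y - (Cochain.ofHom (cokernel.π α)).comp h (zero_add 0)
  have hb0 : δ 0 1 b0 = 0 := by
    dsimp [b0]
    rw [δ_sub, δ_ofHom_comp, hh', hw]
    exact sub_self _
  let b : Cocycle L I 0 := Cocycle.mk b0 1 (zero_add 1) hb0
  have hb : (b : Cochain L I 0) = b0 := rfl
  refine ⟨Cocycle.homOf b, ?_⟩
  apply Cochain.ofHom_injective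
  rw [Cochain.ofHom_comp, Cocycle.cochain_ofHom_homOf_eq_coe, hb]
  dsimp [b0]
  rw [Cochain.comp_sub, hy, ← Cochain.comp_assoc_of_first_is_zero_cochain, ← Cochain.ofHom_comp,
    cokernel.condition]
  simp

end Groth.Agent.S6611
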