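import Groth.Statements.S6612
import Mathlib.Algebra.Homology.HomotopyCategory.HomComplex

set_option autoImplicit false
universe v u
open CategoryTheory CategoryTheory.Limits
open CohDer

namespace Groth.Agent.S6612

/-- Let A be an additive category and 0 → A₂ → B₂ → C₂ → 0 a termwise split exact sequence of complexes.
Given a chain map b from a complex B₁ into B₂ and a chain map b' from B₂ into a complex B₃, suppose
that both composites b ≫ (B₂ → C₂) and (A₂ → B₂) ≫ b' are null-homotopic. Then b ≫ b' is homotopic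
to zero. (The published statement has three termwise split sequences Aᵢ → Bᵢ → Cᵢ and asks both
squares of each diagram to commute up to homotopy; this row keeps only the middle sequence and the
two conditions at B₂ that the argument uses, so it is more general.) -/
theorem result {V : Type u} [Category.{v} V] [Preadditive V] [HasBinaryBiproducts V]
    (S : ShortComplex (CochainComplex V ℤ))
    (σ : ∀ n : ℤ, (S.map (HomologicalComplex.eval V (ComplexShape.up ℤ) n)).Splitting)
    {B₁ B₃ : CochainComplex V ℤ} (b : B₁ ⟶ S.X₂) (b' : S.X₂ ⟶ B₃)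
    (hb : Nonempty (Homotopy (b ≫ S.g) 0)) (hb' : Nonempty (Homotopy (S.f ≫ b') 0)) :
    Nonempty (Homotopy (b ≫ b') 0) := by
  open CochainComplex HomComplex in
  obtain ⟨hb⟩ := hb
  obtain ⟨hb'⟩ := hb'
  obtain ⟨h, hh⟩ := Cochain.equivHomotopy _ _ hb
  rw [Cochain.ofHom_zero, add_zero, Cochain.ofHom_comp] at hh
  let ρ : Cochain S.X₂ S.X₁ 0 := Cochain.ofHoms (fun n => (σ n).r)
  let ς : Cochain S.X₃ S.X₂ 0 := Cochain.ofHoms (fun n => (σ n).s)
  have h1 : (Cochain.ofHom S.f).comp ρ (zero_add 0) = Cochain.ofHom (𝟙 _) := by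
    ext n
    simp only [Cochain.zero_cochain_comp_v, Cochain.ofHom_v, ρ, Cochain.ofHoms_v,
      HomologicalComplex.id_f]
    exact (σ n).f_r
  have h2 : ρ.comp (Cochain.ofHom S.f) (zero_add 0) + (Cochain.ofHom S.g).comp ς (zero_add 0) =
      Cochain.ofHom (𝟙 _) := by
    ext n
    simp only [Cochain.add_v, Cochain.zero_cochain_comp_v, Cochain.ofHom_v, ρ, ς,
      Cochain.ofHoms_v, HomologicalComplex.id_f]
    exact (σ n).id
  have h3 : ς.comp (Cochain.ofHom S.g) (zero_add 0) = Cochain.ofHom (𝟙 _) := by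
    ext n
    simp only [Cochain.zero_cochain_comp_v, Cochain.ofHom_v, ς, Cochain.ofHoms_v,
      HomologicalComplex.id_f]
    exact (σ n).s_g
  let Δ' : Cochain S.X₃ S.X₁ 1 := (δ 0 1 ς).comp ρ (add_zero 1)
  have h4 : δ 0 1 ς = Δ'.comp (Cochain.ofHom S.f) (add_zero 1) := by
    have e1 : (δ 0 1 ς).comp (Cochain.ofHom S.g) (add_zero 1) = 0 := by
      rw [← δ_comp_ofHom, h3, δ_ofHom]
    calc δ 0 1 ς = (δ 0 1 ς).comp (Cochain.ofHom (𝟙 _)) (add_zero 1) := by
          rw [Cochain.comp_id]
      _ = (δ 0 1 ς).comp (ρ.comp (Cochain.ofHom S.f) (zero_add 0) +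
            (Cochain.ofHom S.g).comp ς (zero_add 0)) (add_zero 1) := by rw [h2]
      _ = Δ'.comp (Cochain.ofHom S.f) (add_zero 1) := by
          rw [Cochain.comp_add, ← Cochain.comp_assoc_of_third_is_zero_cochain,
            ← Cochain.comp_assoc_of_third_is_zero_cochain, e1, Cochain.zero_comp, add_zero]
  let υ : Cochain B₁ S.X₁ 0 :=
    (Cochain.ofHom b).comp ρ (zero_add 0) - h.comp Δ' (neg_add_cancel 1)
  have key : Cochain.ofHom b = υ.comp (Cochain.ofHom S.f) (zero_add 0) +
      δ (-1) 0 (h.comp ς (add_zero (-1))) := by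
    have e2 : δ (-1) 0 (h.comp ς (add_zero (-1))) =
        h.comp (δ 0 1 ς) (neg_add_cancel 1) + (δ (-1) 0 h).comp ς (add_zero 0) :=
      δ_comp_zero_cochain h ς 0 (neg_add_cancel 1)
    calc Cochain.ofHom b = (Cochain.ofHom b).comp (Cochain.ofHom (𝟙 _)) (add_zero 0) := by
          rw [Cochain.comp_id]
      _ = ((Cochain.ofHom b).comp ρ (zero_add 0)).comp (Cochain.ofHom S.f) (zero_add 0) +
            (δ (-1) 0 h).comp ς (add_zero 0) := by
          rw [← h2, Cochain.comp_add, ← Cochain.comp_assoc_of_third_is_zero_cochain,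
            ← Cochain.comp_assoc_of_third_is_zero_cochain, hh]
      _ = υ.comp (Cochain.ofHom S.f) (zero_add 0) + δ (-1) 0 (h.comp ς (add_zero (-1))) := by
          rw [e2, h4, ← Cochain.comp_assoc_of_third_is_zero_cochain]
          dsimp only [υ]
          rw [Cochain.sub_comp]
          abel
  have hδυ : δ 0 1 υ = 0 := by
    have e3 : (δ 0 1 υ).comp (Cochain.ofHom S.f) (add_zero 1) = 0 := by
      rw [← δ_comp_ofHom]
      have : υ.comp (Cochain.ofHom S.f) (add_zero 0) =
          Cochain.ofHom b - δ (-1) 0 (h.comp ς (add_zero (-1))) := by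
        rw [key]
        abel
      rw [this, δ_sub, δ_ofHom, δ_δ, sub_zero]
    calc δ 0 1 υ = (δ 0 1 υ).comp (Cochain.ofHom (𝟙 _)) (add_zero 1) := by
          rw [Cochain.comp_id]
      _ = 0 := by
          rw [← h1, ← Cochain.comp_assoc_of_third_is_zero_cochain, e3, Cochain.zero_comp]
  let u : B₁ ⟶ S.X₁ := Cocycle.homOf (Cocycle.mk υ 1 (zero_add 1) hδυ)
  have hu : Cochain.ofHom u = υ := Cocycle.cochain_ofHom_homOf_eq_coe _
  have H1 : Homotopy b (u ≫ S.f) := (Cochain.equivHomotopy _ _).symm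
    ⟨h.comp ς (add_zero (-1)), by
      rw [Cochain.ofHom_comp, hu, key]
      abel⟩
  exact ⟨(H1.compRight b').trans ((Homotopy.ofEq (Category.assoc _ _ _)).trans
    ((hb'.compLeft u).trans (Homotopy.ofEq comp_zero)))⟩

end Groth.Agent.S6612
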