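import Groth.Statements.S6613
-- import your own Groth.Agent.* helpers here

set_option autoImplicit false
universe v u v' u'
open CategoryTheory CategoryTheory.Limits
open CohDer

namespace Groth.Agent.S6613

section
open MorphismProperty

variable {D : Type u} [Category.{v} D] (P : ObjectProperty D)
    (S : MorphismProperty D) [S.HasRightCalculusOfFractions]
    (hP : ∀ X : D, ∃ (X' : D) (s : X' ⟶ X), P X' ∧ S s)

include hP in
lemma rightCalc : (S.inverseImage P.ι).HasRightCalculusOfFractions where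
  exists_rightFraction X Y φ := by
    obtain ⟨ψ, hψ⟩ := (LeftFraction.mk (W := S) φ.f.hom φ.s.hom φ.hs).exists_rightFraction
    dsimp at hψ
    obtain ⟨X'', t, hX'', ht⟩ := hP ψ.X'
    refine ⟨RightFraction.mk (X' := (⟨X'', hX''⟩ : P.FullSubcategory)) (P.homMk (t ≫ ψ.s))
      (S.comp_mem _ _ ht ψ.hs) (P.homMk (t ≫ ψ.f)), ?_⟩
    apply P.hom_ext
    dsimp
    simp only [Category.assoc]
    rw [hψ]
  ext X Y Y' f₁ f₂ s hs h := by
    obtain ⟨X', t, ht, hfac⟩ := HasRightCalculusOfFractions.ext f₁.hom f₂.hom s.hom hs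
      (congrArg (fun m => m.hom) h)
    obtain ⟨X'', u, hX'', hu⟩ := hP X'
    refine ⟨⟨X'', hX''⟩, P.homMk (u ≫ t), S.comp_mem _ _ hu ht, ?_⟩
    apply P.hom_ext
    dsimp
    simp only [Category.assoc]
    rw [hfac]

variable {E : Type u'} [Category.{v'} E] (Q : D ⥤ E) [Q.IsLocalization S]

/-- common denominators -/
lemma exists_rightFraction₂' {C : Type*} [Category C] {C' : Type*} [Category C']
    (W : MorphismProperty C) [W.HasRightCalculusOfFractions] (L : C ⥤ C') [L.IsLocalization W]
    {X Y : C} (f g : L.obj X ⟶ L.obj Y) :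
    ∃ (X' : C) (s : X' ⟶ X) (_ : W s) (a b : X' ⟶ Y),
      L.map s ≫ f = L.map a ∧ L.map s ≫ g = L.map b := by
  obtain ⟨φ, hφ⟩ := Localization.exists_rightFraction L W f
  obtain ⟨ψ, hψ⟩ := Localization.exists_rightFraction L W g
  obtain ⟨α, hα⟩ := (LeftFraction.mk (W := W) φ.s ψ.s ψ.hs).exists_rightFraction
  dsimp at hα
  refine ⟨α.X', α.s ≫ φ.s, W.comp_mem _ _ α.hs φ.hs, α.s ≫ φ.f, α.f ≫ ψ.f, ?_, ?_⟩
  · rw [L.map_comp, Category.assoc, hφ, RightFraction.map_s_comp_map, ← L.map_comp]
  · rw [hα, L.map_comp, Category.assoc, hψ, RightFraction.map_s_comp_map, ← L.map_comp]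

include hP in
lemma main : (P.ι ⋙ Q).IsLocalization (S.inverseImage P.ι) := by
  have := rightCalc P S hP
  have hinv : (S.inverseImage P.ι).IsInvertedBy (P.ι ⋙ Q) :=
    fun X Y f hf => Localization.inverts Q S _ hf
  let G := Localization.lift (P.ι ⋙ Q) hinv (S.inverseImage P.ι).Q
  let iso : (S.inverseImage P.ι).Q ⋙ G ≅ P.ι ⋙ Q := Localization.fac _ hinv (S.inverseImage P.ι).Q
  have hnat : ∀ {X Y : P.FullSubcategory} (g : X ⟶ Y),
      G.map ((S.inverseImage P.ι).Q.map g) = iso.hom.app X ≫ Q.map g.hom ≫ iso.inv.app Y := by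
    intro X Y g
    have := iso.hom.naturality g
    dsimp at this
    rw [← Category.assoc, ← this, Category.assoc, Iso.hom_inv_id_app]
    dsimp
    rw [Category.comp_id]
  have hess : G.EssSurj := ⟨fun Y => by
    have := Localization.essSurj Q S
    obtain ⟨X', s, hX', hs⟩ := hP (Q.objPreimage Y)
    have : IsIso (Q.map s) := Localization.inverts Q S s hs
    exact ⟨(S.inverseImage P.ι).Q.obj ⟨X', hX'⟩,
      ⟨iso.app _ ≪≫ asIso (Q.map s) ≪≫ Q.objObjPreimageIso Y⟩⟩⟩
  have hessQ : (S.inverseImage P.ι).Q.EssSurj := Localization.essSurj _ (S.inverseImage P.ι)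
  have hfull : G.Full := by
    refine G.full_of_comp_essSurj (S.inverseImage P.ι).Q (fun X₁ X₂ φ => ?_)
    obtain ⟨ψ, hψ⟩ := Localization.exists_rightFraction Q S
      (iso.inv.app X₁ ≫ φ ≫ iso.hom.app X₂)
    obtain ⟨X'', t, hX'', ht⟩ := hP ψ.X'
    let ψ' : (S.inverseImage P.ι).RightFraction X₁ X₂ :=
      RightFraction.mk (X' := (⟨X'', hX''⟩ : P.FullSubcategory)) (P.homMk (t ≫ ψ.s))
        (S.comp_mem _ _ ht ψ.hs) (P.homMk (t ≫ ψ.f))
    refine ⟨ψ'.map (S.inverseImage P.ι).Q (Localization.inverts _ _), ?_⟩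
    have hiso' : IsIso ((S.inverseImage P.ι).Q.map ψ'.s) :=
      Localization.inverts _ (S.inverseImage P.ι) _ ψ'.hs
    have : IsIso (G.map ((S.inverseImage P.ι).Q.map ψ'.s)) :=
      Functor.map_isIso G _
    rw [← cancel_epi (G.map ((S.inverseImage P.ι).Q.map ψ'.s)), ← G.map_comp,
      RightFraction.map_s_comp_map, hnat, hnat]
    dsimp [ψ']
    have h1 : φ = iso.hom.app X₁ ≫ (iso.inv.app X₁ ≫ φ ≫ iso.hom.app X₂) ≫ iso.inv.app X₂ := by
      simp
    rw [h1, hψ]
    simp only [Category.assoc, Functor.map_comp, Iso.inv_hom_id_app_assoc]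
    congr 2
    rw [← Category.assoc (Q.map ψ.s), RightFraction.map_s_comp_map]
  have hfaith : G.Faithful := by
    refine G.faithful_of_comp_essSurj (S.inverseImage P.ι).Q (fun X₁ X₂ f g hfg => ?_)
    obtain ⟨X', s, hs, a, b, ha, hb⟩ :=
      exists_rightFraction₂' (S.inverseImage P.ι) (S.inverseImage P.ι).Q f g
    have : IsIso ((S.inverseImage P.ι).Q.map s) := Localization.inverts _ _ s hs
    have hab : G.map ((S.inverseImage P.ι).Q.map a) = G.map ((S.inverseImage P.ι).Q.map b) := by
      rw [← ha, ← hb, G.map_comp, G.map_comp, hfg]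
    rw [hnat, hnat] at hab
    have hab' : Q.map a.hom = Q.map b.hom := by
      have := (cancel_epi (iso.hom.app X')).1 hab
      exact (cancel_mono (iso.inv.app X₂)).1 this
    rw [MorphismProperty.map_eq_iff_precomp Q S] at hab'
    obtain ⟨Z, t, ht, hfac⟩ := hab'
    obtain ⟨Z', u, hZ', hu⟩ := hP Z
    have hab'' : (S.inverseImage P.ι).Q.map a = (S.inverseImage P.ι).Q.map b := by
      rw [MorphismProperty.map_eq_iff_precomp (S.inverseImage P.ι).Q (S.inverseImage P.ι)]
      refine ⟨⟨Z', hZ'⟩, P.homMk (u ≫ t), S.comp_mem _ _ hu ht, ?_⟩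
      apply P.hom_ext
      dsimp
      simp only [Category.assoc]
      rw [hfac]
    rw [← cancel_epi ((S.inverseImage P.ι).Q.map s), ha, hb, hab'']
  have : G.IsEquivalence := { }
  exact Functor.IsLocalization.of_equivalence_target (S.inverseImage P.ι).Q (S.inverseImage P.ι)
    (P.ι ⋙ Q) G.asEquivalence iso

end

/-- Let D be a pretriangulated category, D' ⊂ D a full pretriangulated subcategory, S a saturated
multiplicative system of D compatible with the triangulated structure and Q : D → S⁻¹D the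
localization. Assume every X in D admits some s : X' ⟶ X in S with X' in D'. Then, with S' = S ∩
Arrows(D'), the functor (S')⁻¹D' → S⁻¹D is an equivalence; equivalently the composite D' → D → S⁻¹D
is a localization of D' at S'. (The published result additionally claims that the intersection S' =
S ∩ Arrows(D') forms a multiplicative system on D' which is saturated and respects the triangulated
structure of D'; this row asserts only the localization property.) -/
theorem result {D : Type u} [Category.{v} D] [Preadditive D] [HasZeroObject D] [HasShift D ℤ]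
    [∀ n : ℤ, (shiftFunctor D n).Additive] [Pretriangulated D]
    (P : ObjectProperty D) [P.IsTriangulated]
    (S : MorphismProperty D) [S.HasLeftCalculusOfFractions] [S.HasRightCalculusOfFractions] [S.IsCompatibleWithTriangulation]
    {E : Type u'} [Category.{v'} E] (Q : D ⥤ E) [Q.IsLocalization S]
    (hsat : ∀ {X Y : D} (f : X ⟶ Y), IsIso (Q.map f) → S f)
    (hP : ∀ X : D, ∃ (X' : D) (s : X' ⟶ X), P X' ∧ S s) :
    (P.ι ⋙ Q).IsLocalization (S.inverseImage P.ι) := by
  exact main P S hP Q

end Groth.Agent.S6613
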