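import Groth.Statements.S6614
import Groth.Agent.H33.ProSys

set_option autoImplicit false
universe v u
open CategoryTheory CategoryTheory.Limits Opposite
open CohDer

namespace Groth.Agent.S6614

open Groth.Agent.H33 in
/-- Let D be a triangulated category and (A_n) an ℕ-indexed inverse system of D which is essentially
constant with value A relative to the cone c. Then there are an index i and direct sum
decompositions A_{i+j} ≅ A ⊞ Z_j (j ≥ 0) such that (a) c_{i+j} is the inclusion of the summand A and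
the transition maps A_{i+k} → A_{i+j} are 𝟙_A ⊕ (Z_k → Z_j), and (b) for every j there is k ≥ j with
Z_k → Z_j zero. (The published statement is an equivalence whose converse is given without proof;
this row states only the forward implication.) -/
theorem result {D : Type u} [Category.{v} D] [Preadditive D] [HasZeroObject D] [HasShift D ℤ]
    [∀ n : ℤ, (shiftFunctor D n).Additive] [Pretriangulated D] [IsTriangulated D]
    (X : ARSys.PS D) (A : D) (c : (Functor.const ℕᵒᵖ).obj A ⟶ X) (hX : DerCA.IsEssConstant X A c) :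
    ∃ (i : ℕ) (Z : ℕ → D) (e : ∀ j : ℕ, X.obj (op (i + j)) ≅ A ⊞ Z j) (z : ∀ j k : ℕ, j ≤ k → (Z k ⟶ Z j)),
      (∀ j : ℕ, c.app (op (i + j)) ≫ (e j).hom = biprod.inl) ∧
      (∀ (j k : ℕ) (hjk : j ≤ k), (e k).inv ≫ ARSys.tr X (Nat.add_le_add_left hjk i) = biprod.map (𝟙 A) (z j k hjk) ≫ (e j).inv) ∧
      (∀ j : ℕ, ∃ (k : ℕ) (hjk : j ≤ k), z j k hjk = 0) := by
  obtain ⟨i, s, hs, h⟩ := hX
  have hsplit : ∀ j : ℕ, ∃ (Z : D) (e : X.obj (op (i + j)) ≅ A ⊞ Z),
      c.app (op (i + j)) ≫ e.hom = biprod.inl ∧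
        e.hom ≫ biprod.fst = ARSys.tr X (Nat.le_add_right i j) ≫ s := fun j =>
    exists_iso_biprod_of_retraction (c.app (op (i + j))) (ARSys.tr X (Nat.le_add_right i j) ≫ s)
      (by rw [cone_tr_assoc, hs]; rfl)
  choose Z e he1 he2 using hsplit
  have he1' : ∀ j, biprod.inl ≫ (e j).inv = c.app (op (i + j)) := fun j => by
    rw [← he1, Category.assoc, Iso.hom_inv_id, Category.comp_id]
  have he2' : ∀ j, (e j).inv ≫ ARSys.tr X (Nat.le_add_right i j) ≫ s = biprod.fst := fun j => by
    rw [← he2, Iso.inv_hom_id_assoc]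
  refine ⟨i, Z, e, fun j k hjk => biprod.inr ≫ (e k).inv ≫
    ARSys.tr X (Nat.add_le_add_left hjk i) ≫ (e j).hom ≫ biprod.snd, he1, ?_, ?_⟩
  · intro j k hjk
    rw [← cancel_mono (e j).hom]
    simp only [Category.assoc, Iso.inv_hom_id, Category.comp_id]
    apply biprod.hom_ext <;> apply biprod.hom_ext'
    · simp only [Category.assoc, biprod.map_fst, biprod.inl_fst_assoc]
      rw [he2, reassoc_of% (he1' k), tr_comp_assoc, cone_tr_assoc, hs]
    · simp only [Category.assoc, biprod.map_fst, biprod.inr_fst_assoc, zero_comp]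
      rw [he2, tr_comp_assoc]
      have := he2' k
      rw [this, biprod.inr_fst]
    · simp only [Category.assoc, biprod.map_snd, biprod.inl_snd_assoc, zero_comp]
      rw [reassoc_of% (he1' k), cone_tr_assoc, reassoc_of% (he1 j)]
      simp
    · simp only [Category.assoc, biprod.map_snd, biprod.inr_snd_assoc]
  · intro j
    obtain ⟨k', hi, hj, hk⟩ := h (i + j)
    obtain ⟨k, rfl⟩ := Nat.exists_eq_add_of_le hi
    have hjk : j ≤ k := by omega
    refine ⟨k, hjk, ?_⟩
    show biprod.inr ≫ (e k).inv ≫ ARSys.tr X hj ≫ (e j).hom ≫ biprod.snd = 0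
    rw [hk]
    simp only [Category.assoc]
    rw [reassoc_of% (he1 j)]
    simp

end Groth.Agent.S6614
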