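import Groth.Statements.S6616
import Groth.Agent.H33.SplitFactor

set_option autoImplicit false
universe v u
open CategoryTheory CategoryTheory.Limits
open CohDer

namespace Groth.Agent.S6616

section Helpers

variable {A : Type u} [Category.{v} A] [Abelian A]

/-- a stage of the construction -/
structure Stg (K : CochainComplex A ℤ) (I : A → Prop) (n : ℕ) where
  Q : CochainComplex A ℤ
  π : K.truncGE (-(n : ℤ)) ⟶ Q
  a : ℤ
  hge : Q.IsStrictlyGE a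
  hI : ∀ i, I (Q.X i)
  hq : QuasiIso π
  hmono : ∀ i, Mono (π.f i)

lemma step {I : A → Prop} (hI : ∀ X : A, ∃ (Y : A) (ι : X ⟶ Y), I Y ∧ Mono ι)
    (hI0 : ∃ Z : A, IsZero Z ∧ I Z)
    (hiso : ∀ X Y : A, (X ≅ Y) → I X → I Y) (hprod : ∀ X Y : A, I X → I Y → I (X ⊞ Y))
    (K : CochainComplex A ℤ) (n : ℕ) (x : Stg K I n) :
    ∃ (y : Stg K I (n + 1)) (p : y.Q ⟶ x.Q),
      (∀ i, (∃ s : x.Q.X i ⟶ y.Q.X i, s ≫ p.f i = 𝟙 _) ∧ I (kernel (p.f i))) ∧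
      K.πTruncGE (-((n + 1 : ℕ) : ℤ)) ≫ y.π ≫ p = K.πTruncGE (-(n : ℤ)) ≫ x.π := by
  obtain ⟨c, hc⟩ : ∃ c : ℤ, c = min (-((n + 1 : ℕ) : ℤ)) x.a := ⟨_, rfl⟩
  have hc1 : c ≤ -((n + 1 : ℕ) : ℤ) := by rw [hc]; exact min_le_left _ _
  have hc2 : c ≤ x.a := by rw [hc]; exact min_le_right _ _
  have h1 : (K.truncGE (-((n + 1 : ℕ) : ℤ))).IsStrictlyGE c :=
    (K.truncGE (-((n + 1 : ℕ) : ℤ))).isStrictlyGE_of_ge c _ hc1
  have hx := x.hge
  have h2 : x.Q.IsStrictlyGE c := x.Q.isStrictlyGE_of_ge c _ hc2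
  obtain ⟨t, ht⟩ := H33.SplitFactor.exists_truncGE_map K (-((n + 1 : ℕ) : ℤ)) (-(n : ℤ))
    (by push_cast; omega)
  obtain ⟨Q', π', p, hQ'ge, hQ'I, hπ'q, hπ'mono, hp, hfac⟩ :=
    H33.SplitFactor.exists_factorization hI hI0 hiso hprod (t ≫ x.π) c x.hI
  refine ⟨⟨Q', π', c, hQ'ge, hQ'I, hπ'q, hπ'mono⟩, p, hp, ?_⟩
  dsimp only
  rw [hfac, ← Category.assoc, ht]

end Helpers


/-- Let I be a class of objects of an abelian category, closed under isomorphisms, containing 0, closed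
under binary products, and such that every object is a subobject of an object of I. For any cochain
complex K there are bounded below complexes Iₙ (n ≥ 0) with terms in I, termwise injective
quasi-isomorphisms πₙ : τ_{≥ -n}K ⟶ Iₙ and termwise split surjections pₙ : Iₙ₊₁ ⟶ Iₙ with termwise
kernels in I, such that K ⟶ τ_{≥ -(n+1)}K ⟶ Iₙ₊₁ ⟶ Iₙ equals K ⟶ τ_{≥ -n}K ⟶ Iₙ. (The published
system starts at τ_{≥ -1}K; this row starts at n = 0 with τ_{≥ 0}K. Closure of I under isomorphisms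
is assumed so that closure under binary products has a meaning for a class of objects.) -/
theorem result {A : Type u} [Category.{v} A] [Abelian A] (I : ObjectProperty A) [I.IsClosedUnderIsomorphisms]
    (hI0 : ∃ Z : A, IsZero Z ∧ I Z) (hIprod : ∀ X Y : A, I X → I Y → I (X ⊞ Y))
    (hI : ∀ X : A, ∃ (Y : A) (ι : X ⟶ Y), I Y ∧ Mono ι) (K : CochainComplex A ℤ) :
    ∃ (Q : ℕ → CochainComplex A ℤ) (p : ∀ n, Q (n + 1) ⟶ Q n) (π : ∀ n : ℕ, K.truncGE (-(n : ℤ)) ⟶ Q n),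
      (∀ n, QuasiIso (π n) ∧ ∀ i, Mono ((π n).f i)) ∧
      (∀ n, ∃ a : ℤ, (Q n).IsStrictlyGE a) ∧ (∀ n i, I ((Q n).X i)) ∧
      (∀ n i, (∃ s : (Q n).X i ⟶ (Q (n + 1)).X i, s ≫ (p n).f i = 𝟙 _) ∧ I (kernel ((p n).f i))) ∧
      (∀ n : ℕ, K.πTruncGE (-((n + 1 : ℕ) : ℤ)) ≫ π (n + 1) ≫ p n = K.πTruncGE (-(n : ℤ)) ≫ π n) := by
  have hiso : ∀ X Y : A, (X ≅ Y) → I X → I Y := fun X Y e h => I.prop_of_iso e h
  obtain ⟨Q0, π0, hQ0ge, hQ0I, hπ0mono, hπ0q⟩ :=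
    H33.RightRes.exists_resolution_int hI hI0 (K.truncGE (-((0 : ℕ) : ℤ))) (-((0 : ℕ) : ℤ))
  obtain ⟨x0⟩ : Nonempty (Stg K I 0) := ⟨⟨Q0, π0, _, hQ0ge, hQ0I, hπ0q, hπ0mono⟩⟩
  choose nxt pp hpp using step hI hI0 hiso hIprod K
  obtain ⟨stg, hstg⟩ : ∃ stg : ∀ n, Stg K I n, ∀ n, stg (n + 1) = nxt n (stg n) :=
    ⟨fun n => Nat.rec x0 (fun n x => nxt n x) n, fun n => rfl⟩
  refine ⟨fun n => (stg n).Q, fun n => eqToHom (congrArg Stg.Q (hstg n)) ≫ pp n (stg n),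
    fun n => (stg n).π, fun n => ⟨(stg n).hq, (stg n).hmono⟩,
    fun n => ⟨(stg n).a, (stg n).hge⟩, fun n i => (stg n).hI i, ?_, ?_⟩
  · intro n i
    obtain ⟨⟨s, hs⟩, hk⟩ := (hpp n (stg n)).1 i
    have key : ∀ (y : Stg K I (n + 1)) (hy : y = nxt n (stg n)),
        (∃ s : (stg n).Q.X i ⟶ y.Q.X i,
          s ≫ (eqToHom (by rw [hy]) ≫ pp n (stg n) : y.Q ⟶ (stg n).Q).f i = 𝟙 _) ∧
        I (kernel ((eqToHom (by rw [hy]) ≫ pp n (stg n) : y.Q ⟶ (stg n).Q).f i)) := by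
      intro y hy
      subst hy
      simp only [eqToHom_refl, Category.id_comp]
      exact ⟨⟨s, hs⟩, hk⟩
    exact key _ (hstg n)
  · intro n
    have key : ∀ (y : Stg K I (n + 1)) (hy : y = nxt n (stg n)),
        K.πTruncGE (-((n + 1 : ℕ) : ℤ)) ≫ y.π ≫
          (eqToHom (by rw [hy]) ≫ pp n (stg n) : y.Q ⟶ (stg n).Q) =
        K.πTruncGE (-(n : ℤ)) ≫ (stg n).π := by
      intro y hy
      subst hy
      simp only [eqToHom_refl, Category.id_comp]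
      exact (hpp n (stg n)).2
    exact key _ (hstg n)

end Groth.Agent.S6616
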