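import Groth.Statements.S6617
import Groth.Agent.S6598

set_option autoImplicit false
universe v u
open CategoryTheory CategoryTheory.Limits
open CohDer

namespace Groth.Agent.S6617

section

variable {V : Type u} [Category.{v} V] [Preadditive V] [HasBinaryBiproducts V] [HasZeroObject V]

/-- output of one step -/
structure Step (B Xn : CochainComplex V ℤ) (f : B ⟶ Xn) where
  B' : CochainComplex V ℤ
  b : B ⟶ B'
  e : HomotopyEquiv B' Xn
  fac : b ≫ e.hom = f
  split : ∀ n : ℤ, ∃ (C : V) (ε : B'.X n ≅ B.X n ⊞ C), b.f n ≫ ε.hom = biprod.inl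
  ge : ∀ a : ℤ, B.IsStrictlyGE a → Xn.IsStrictlyGE a → ∃ a' : ℤ, B'.IsStrictlyGE a'
  le : ∀ a : ℤ, B.IsStrictlyLE a → Xn.IsStrictlyLE a → ∃ a' : ℤ, B'.IsStrictlyLE a'

lemma step_nonempty (B Xn : CochainComplex V ℤ) (f : B ⟶ Xn) : Nonempty (Step B Xn f) := by
  obtain ⟨L', α', π, s, h1, h2, ⟨h3⟩, h4, h5, h6⟩ := Groth.Agent.S6598.result B Xn f
  exact ⟨{ B' := L', b := α',
           e := { hom := π, inv := s, homotopyHomInvId := h3,
                  homotopyInvHomId := Homotopy.ofEq (by rw [h2]) }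
           fac := h1, split := h4, ge := h5, le := h6 }⟩

/-- chosen step -/
noncomputable def step (B Xn : CochainComplex V ℤ) (f : B ⟶ Xn) : Step B Xn f :=
  (step_nonempty B Xn f).some

variable (X : ℕ → CochainComplex V ℤ) (a : ∀ i, X i ⟶ X (i + 1))

/-- the sequence -/
noncomputable def seq : ∀ i : ℕ, Σ B : CochainComplex V ℤ, HomotopyEquiv B (X i)
  | 0 => ⟨X 0, HomotopyEquiv.refl _⟩
  | (i + 1) => ⟨(step (seq i).1 (X (i + 1)) ((seq i).2.hom ≫ a i)).B',
      (step (seq i).1 (X (i + 1)) ((seq i).2.hom ≫ a i)).e⟩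

end

/-- Let A be an additive category and A₀ → A₁ → A₂ → … a sequence of composable morphisms of complexes.
There are complexes Bᵢ, homotopy equivalences Bᵢ ⟶ Aᵢ and termwise split injections Bᵢ ⟶ Bᵢ₊₁
forming a commutative ladder over the given sequence. Moreover if all Aᵢ are bounded below, resp.
bounded above, then the Bᵢ may be chosen bounded below, resp. bounded above. (The published
statement is for finite sequences A₁ → … → A_n; this row takes a sequence indexed by ℕ, built by the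
same step-by-step construction.) -/
theorem result {V : Type u} [Category.{v} V] [Preadditive V] [HasBinaryBiproducts V] [HasZeroObject V]
    (X : ℕ → CochainComplex V ℤ) (a : ∀ i, X i ⟶ X (i + 1)) :
    ∃ (B : ℕ → CochainComplex V ℤ) (b : ∀ i, B i ⟶ B (i + 1)) (e : ∀ i, HomotopyEquiv (B i) (X i)),
      (∀ i, b i ≫ (e (i + 1)).hom = (e i).hom ≫ a i) ∧
      (∀ (i : ℕ) (n : ℤ), ∃ (C : V) (ε : (B (i + 1)).X n ≅ (B i).X n ⊞ C), (b i).f n ≫ ε.hom = biprod.inl) ∧
      ((∀ i, ∃ m : ℤ, (X i).IsStrictlyGE m) → ∀ i, ∃ m : ℤ, (B i).IsStrictlyGE m) ∧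
      ((∀ i, ∃ m : ℤ, (X i).IsStrictlyLE m) → ∀ i, ∃ m : ℤ, (B i).IsStrictlyLE m) := by
  refine ⟨fun i => (seq X a i).1,
    fun i => (step (seq X a i).1 (X (i + 1)) ((seq X a i).2.hom ≫ a i)).b,
    fun i => (seq X a i).2, ?_, ?_, ?_, ?_⟩
  · intro i
    exact (step (seq X a i).1 (X (i + 1)) ((seq X a i).2.hom ≫ a i)).fac
  · intro i n
    exact (step (seq X a i).1 (X (i + 1)) ((seq X a i).2.hom ≫ a i)).split n
  · intro hX i
    induction i with
    | zero => exact hX 0
    | succ i ih =>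
      obtain ⟨m₁, hm₁⟩ := ih
      obtain ⟨m₂, hm₂⟩ := hX (i + 1)
      have h1 : (seq X a i).1.IsStrictlyGE (min m₁ m₂) :=
        CochainComplex.isStrictlyGE_of_ge _ _ m₁ (min_le_left _ _)
      have h2 : (X (i + 1)).IsStrictlyGE (min m₁ m₂) :=
        CochainComplex.isStrictlyGE_of_ge _ _ m₂ (min_le_right _ _)
      exact (step (seq X a i).1 (X (i + 1)) ((seq X a i).2.hom ≫ a i)).ge _ h1 h2
  · intro hX i
    induction i with
    | zero => exact hX 0
    | succ i ih =>
      obtain ⟨m₁, hm₁⟩ := ih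
      obtain ⟨m₂, hm₂⟩ := hX (i + 1)
      have h1 : (seq X a i).1.IsStrictlyLE (max m₁ m₂) :=
        CochainComplex.isStrictlyLE_of_le _ m₁ _ (le_max_left _ _)
      have h2 : (X (i + 1)).IsStrictlyLE (max m₁ m₂) :=
        CochainComplex.isStrictlyLE_of_le _ m₂ _ (le_max_right _ _)
      exact (step (seq X a i).1 (X (i + 1)) ((seq X a i).2.hom ≫ a i)).le _ h1 h2

end Groth.Agent.S6617
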