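import Groth.Statements.S6622
-- import your own Groth.Agent.* helpers here

set_option autoImplicit false
universe v u
open CategoryTheory CategoryTheory.Limits
open CohDer

namespace Groth.Agent.S6622

section
open CategoryTheory.Pretriangulated ZeroObject HomotopyCategory

variable {V : Type u} [Category.{v} V] [Preadditive V] [HasZeroObject V] [HasBinaryBiproducts V]

lemma isStrictlyLE_cone {K L : CochainComplex V ℤ} (f : K ⟶ L)
    (n₁ n₂ n : ℤ) [K.IsStrictlyLE n₁] [L.IsStrictlyLE n₂] (hn₁ : n₁ ≤ n + 1) (hn₂ : n₂ ≤ n) :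
    (CochainComplex.mappingCone f).IsStrictlyLE n := by
  rw [CochainComplex.isStrictlyLE_iff]
  intro i hi
  simp only [CochainComplex.mappingCone.isZero_X_iff]
  exact ⟨K.isZero_of_isStrictlyLE n₁ _ (by omega), L.isZero_of_isStrictlyLE n₂ _ (by omega)⟩

lemma isStrictlyGE_cone {K L : CochainComplex V ℤ} (f : K ⟶ L)
    (n₁ n₂ n : ℤ) [K.IsStrictlyGE n₁] [L.IsStrictlyGE n₂] (hn₁ : n < n₁) (hn₂ : n ≤ n₂) :
    (CochainComplex.mappingCone f).IsStrictlyGE n := by
  rw [CochainComplex.isStrictlyGE_iff]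
  intro i hi
  simp only [CochainComplex.mappingCone.isZero_X_iff]
  exact ⟨K.isZero_of_isStrictlyGE n₁ _ (by omega), L.isZero_of_isStrictlyGE n₂ _ (by omega)⟩

/-- bounded above -/
def PM : ObjectProperty (HomotopyCategory V (ComplexShape.up ℤ)) :=
  fun K => ∃ n : ℤ, CochainComplex.IsStrictlyLE K.as n

/-- bounded -/
def PB : ObjectProperty (HomotopyCategory V (ComplexShape.up ℤ)) :=
  fun K => ∃ a b : ℤ, CochainComplex.IsStrictlyGE K.as a ∧ CochainComplex.IsStrictlyLE K.as b

lemma PM_quot (K : CochainComplex V ℤ) :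
    PM ((HomotopyCategory.quotient V (ComplexShape.up ℤ)).obj K) ↔ ∃ n : ℤ, K.IsStrictlyLE n :=
  Iff.rfl

lemma PB_quot (K : CochainComplex V ℤ) :
    PB ((HomotopyCategory.quotient V (ComplexShape.up ℤ)).obj K) ↔
      ∃ a b : ℤ, K.IsStrictlyGE a ∧ K.IsStrictlyLE b :=
  Iff.rfl

lemma PM_zero : (PM (V := V)).ContainsZero where
  exists_zero :=
    ⟨(HomotopyCategory.quotient _ _).obj 0, Functor.map_isZero _ (isZero_zero _), by
      rw [PM_quot]
      exact ⟨0, inferInstance⟩⟩

lemma PB_zero : (PB (V := V)).ContainsZero where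
  exists_zero :=
    ⟨(HomotopyCategory.quotient _ _).obj 0, Functor.map_isZero _ (isZero_zero _), by
      rw [PB_quot]
      exact ⟨0, 0, inferInstance, inferInstance⟩⟩

lemma PM_shift : (PM (V := V)).IsStableUnderShift ℤ where
  isStableUnderShiftBy n :=
    { le_shift K hK := by
        obtain ⟨K : CochainComplex _ _, rfl⟩ := K.quotient_obj_surjective
        rw [PM_quot] at hK
        obtain ⟨q, _⟩ := hK
        rw [ObjectProperty.prop_shift_iff, shift_quotient_obj, PM_quot]
        exact ⟨q - n, K.isStrictlyLE_shift q n (q - n) (by omega)⟩ }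

lemma PB_shift : (PB (V := V)).IsStableUnderShift ℤ where
  isStableUnderShiftBy n :=
    { le_shift K hK := by
        obtain ⟨K : CochainComplex _ _, rfl⟩ := K.quotient_obj_surjective
        rw [PB_quot] at hK
        obtain ⟨a, b, _, _⟩ := hK
        rw [ObjectProperty.prop_shift_iff, shift_quotient_obj, PB_quot]
        exact ⟨a - n, b - n, K.isStrictlyGE_shift a n (a - n) (by omega),
          K.isStrictlyLE_shift b n (b - n) (by omega)⟩ }

set_option backward.defeqAttrib.useBackward true in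
set_option backward.isDefEq.respectTransparency false in
lemma PM_closed₃ : (PM (V := V)).IsTriangulatedClosed₃ where
  ext₃' T hT h₁ h₂ := by
    obtain ⟨n₁, _⟩ : ∃ n : ℤ, CochainComplex.IsStrictlyLE T.obj₁.as n := h₁
    obtain ⟨n₂, _⟩ : ∃ n : ℤ, CochainComplex.IsStrictlyLE T.obj₂.as n := h₂
    obtain ⟨f : T.obj₁.as ⟶ T.obj₂.as, hf⟩ := (HomotopyCategory.quotient _ _).map_surjective T.mor₁
    refine ⟨_, ?_,
      ⟨Triangle.π₃.mapIso (isoTriangleOfIso₁₂ T _ hT (mappingCone_triangleh_distinguished f)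
        (Iso.refl _) (Iso.refl _) ?_)⟩⟩
    · dsimp
      rw [PM_quot]
      exact ⟨max (n₁ - 1) n₂, isStrictlyLE_cone f n₁ n₂ _
        (by have := le_max_left (n₁ - 1) n₂; omega) (le_max_right _ _)⟩
    · simp [hf]

set_option backward.defeqAttrib.useBackward true in
set_option backward.isDefEq.respectTransparency false in
lemma PB_closed₃ : (PB (V := V)).IsTriangulatedClosed₃ where
  ext₃' T hT h₁ h₂ := by
    obtain ⟨a₁, b₁, _, _⟩ :
      ∃ a b : ℤ, CochainComplex.IsStrictlyGE T.obj₁.as a ∧ CochainComplex.IsStrictlyLE T.obj₁.as b := h₁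
    obtain ⟨a₂, b₂, _, _⟩ :
      ∃ a b : ℤ, CochainComplex.IsStrictlyGE T.obj₂.as a ∧ CochainComplex.IsStrictlyLE T.obj₂.as b := h₂
    obtain ⟨f : T.obj₁.as ⟶ T.obj₂.as, hf⟩ := (HomotopyCategory.quotient _ _).map_surjective T.mor₁
    refine ⟨_, ?_,
      ⟨Triangle.π₃.mapIso (isoTriangleOfIso₁₂ T _ hT (mappingCone_triangleh_distinguished f)
        (Iso.refl _) (Iso.refl _) ?_)⟩⟩
    · dsimp
      rw [PB_quot]
      exact ⟨min (a₁ - 1) a₂, max (b₁ - 1) b₂, isStrictlyGE_cone f a₁ a₂ _
        (by have := min_le_left (a₁ - 1) a₂; omega) (min_le_right _ _),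
        isStrictlyLE_cone f b₁ b₂ _
        (by have := le_max_left (b₁ - 1) b₂; omega) (le_max_right _ _)⟩
    · simp [hf]

lemma PM_tri : (PM (V := V)).IsTriangulated := by
  have := PM_zero (V := V)
  have := PM_shift (V := V)
  have := PM_closed₃ (V := V)
  exact { toIsTriangulatedClosed₂ := .of_isTriangulatedClosed₃ }

lemma PB_tri : (PB (V := V)).IsTriangulated := by
  have := PB_zero (V := V)
  have := PB_shift (V := V)
  have := PB_closed₃ (V := V)
  exact { toIsTriangulatedClosed₂ := .of_isTriangulatedClosed₃ }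

end

/-- Let A be an additive category. The full subcategories K⁻(A) (complexes K with Kⁿ = 0 for n ≫ 0) and
Kᵇ(A) (Kⁿ = 0 for |n| ≫ 0) of the homotopy category K(A) are full triangulated subcategories. -/
theorem result {V : Type u} [Category.{v} V] [Preadditive V] [HasZeroObject V] [HasBinaryBiproducts V] :
    (ObjectProperty.IsTriangulated (fun K : HomotopyCategory V (ComplexShape.up ℤ) => ∃ n : ℤ, CochainComplex.IsStrictlyLE K.as n)) ∧
    (ObjectProperty.IsTriangulated (fun K : HomotopyCategory V (ComplexShape.up ℤ) =>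
      ∃ a b : ℤ, CochainComplex.IsStrictlyGE K.as a ∧ CochainComplex.IsStrictlyLE K.as b)) := by
  exact ⟨PM_tri, PB_tri⟩

end Groth.Agent.S6622
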