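import Groth.Statements.S6623
-- import your own Groth.Agent.* helpers here

set_option autoImplicit false
universe v u
open CategoryTheory CategoryTheory.Limits
open CohDer

namespace Groth.Agent.S6623

section
open CategoryTheory.Pretriangulated ZeroObject

variable {D : Type u} [Category.{v} D] [Preadditive D] [HasZeroObject D] [HasShift D ℤ]
    [∀ n : ℤ, (shiftFunctor D n).Additive] [Pretriangulated D] [IsTriangulated D]

/-- `Hom(A⟦q⟧, B) = 0` implies `Hom(A, B⟦q'⟧) = 0` when `q + q' = 0`. -/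
lemma hom_to_shift_zero (A B : D) (q q' : ℤ) (h : q' + q = 0)
    (H : ∀ ψ : (shiftFunctor D q).obj A ⟶ B, ψ = 0)
    (φ : A ⟶ (shiftFunctor D q').obj B) : φ = 0 := by
  let e₂ : (shiftFunctor D q).obj ((shiftFunctor D q').obj B) ≅ B :=
    (shiftFunctorCompIsoId D q' q h).app B
  have h0 := H ((shiftFunctor D q).map φ ≫ e₂.hom)
  have h1 : (shiftFunctor D q).map φ = 0 := by
    rw [← cancel_mono e₂.hom, h0, zero_comp]
  apply (shiftFunctor D q).map_injective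
  rw [h1, Functor.map_zero]

/-- `Hom(A, B⟦q'⟧) = 0` implies `Hom(A⟦q⟧, B) = 0` when `q + q' = 0`. -/
lemma hom_from_shift_zero (A B : D) (q q' : ℤ) (h : q' + q = 0)
    (H : ∀ ψ : A ⟶ (shiftFunctor D q').obj B, ψ = 0)
    (φ : (shiftFunctor D q).obj A ⟶ B) : φ = 0 := by
  let e₁ : (shiftFunctor D q').obj ((shiftFunctor D q).obj A) ≅ A :=
    (shiftFunctorCompIsoId D q q' (by omega)).app A
  have h0 := H (e₁.inv ≫ (shiftFunctor D q').map φ)
  have h1 : (shiftFunctor D q').map φ = 0 := by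
    rw [← cancel_epi e₁.inv, h0, comp_zero]
  apply (shiftFunctor D q').map_injective
  rw [h1, Functor.map_zero]

lemma hom_shift_zero' (A B : D) (m m' p : ℤ) (h : m' + p = m)
    (H : ∀ ψ : (shiftFunctor D m).obj A ⟶ B, ψ = 0)
    (φ : (shiftFunctor D m').obj A ⟶ (shiftFunctor D (-p)).obj B) : φ = 0 := by
  let e₁ : (shiftFunctor D m).obj A ≅ (shiftFunctor D p).obj ((shiftFunctor D m').obj A) :=
    (shiftFunctorAdd' D m' p m h).app A
  let e₂ : (shiftFunctor D p).obj ((shiftFunctor D (-p)).obj B) ≅ B :=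
    (shiftFunctorCompIsoId D (-p) p (by simp)).app B
  have h0 := H (e₁.hom ≫ (shiftFunctor D p).map φ ≫ e₂.hom)
  have h1 : (shiftFunctor D p).map φ = 0 := by
    rw [← cancel_mono e₂.hom, ← cancel_epi e₁.hom, h0, zero_comp, comp_zero]
  apply (shiftFunctor D p).map_injective
  rw [h1, Functor.map_zero]

set_option backward.defeqAttrib.useBackward true in
set_option backward.isDefEq.respectTransparency false in
/-- exactness pattern -/
lemma factor_of_mor₃_comp_zero (T : Triangle D) (hT : T ∈ distinguishedTriangles) {W : D}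
    (ψ : T.obj₁ ⟶ W) (h : T.mor₃ ≫ (shiftFunctor D (1 : ℤ)).map ψ = 0) :
    ∃ g : T.obj₂ ⟶ W, ψ = T.mor₁ ≫ g := by
  obtain ⟨g, hg⟩ := Triangle.yoneda_exact₃ _ (rot_of_distTriang _ hT) _ h
  dsimp at g hg
  obtain ⟨r, rfl⟩ := (shiftFunctor D (1 : ℤ)).map_surjective g
  refine ⟨-r, ?_⟩
  apply (shiftFunctor D (1 : ℤ)).map_injective
  rw [hg]
  simp

variable (X X' : ChainComplex D ℕ) (n : ℕ)
    (Y : ℕ → D) (a : ∀ k, Y k ⟶ X.X k) (b : ∀ k, X.X (k + 1) ⟶ Y k)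
    (c : ∀ k, Y k ⟶ (shiftFunctor D (1 : ℤ)).obj (Y (k + 1)))
    (h0 : IsIso (a 0))
    (hP : ∀ k, k < n → Triangle.mk (a (k + 1)) (b k) (c k) ∈ distinguishedTriangles ∧ b k ≫ a k = X.d (k + 1) k)
    (qY : ℕ → D) (qa : ∀ k, qY k ⟶ X'.X k) (qb : ∀ k, X'.X (k + 1) ⟶ qY k)
    (qc : ∀ k, qY k ⟶ (shiftFunctor D (1 : ℤ)).obj (qY (k + 1)))
    (qh0 : IsIso (qa 0))
    (qhP : ∀ k, k < n → Triangle.mk (qa (k + 1)) (qb k) (qc k) ∈ distinguishedTriangles ∧ qb k ≫ qa k = X'.d (k + 1) k)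

include qh0 qhP in
set_option backward.defeqAttrib.useBackward true in
set_option backward.isDefEq.respectTransparency false in
/-- devissage on the target side -/
lemma claimG
    (hB : ∀ i j : ℕ, j < i → i ≤ n → ∀ (m : ℤ), m = (i : ℤ) - j →
      ∀ ψ : (shiftFunctor D m).obj (X.X i) ⟶ X'.X j, ψ = 0)
    (j : ℕ) : ∀ (i : ℕ), j < i → i ≤ n → ∀ (m : ℤ), m = (i : ℤ) - j →
      ∀ ψ : (shiftFunctor D m).obj (X.X i) ⟶ qY j, ψ = 0 := by
  induction j with
  | zero =>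
    intro i hij hi m hm ψ
    have := hB i 0 hij hi m hm (ψ ≫ qa 0)
    rw [← cancel_mono (qa 0), this, zero_comp]
  | succ j ih =>
    intro i hij hi m hm ψ
    have hT := (qhP j (by omega)).1
    have h1 : ψ ≫ qa (j + 1) = 0 := hB i (j + 1) hij hi m hm _
    obtain ⟨φ, hφ⟩ := Triangle.coyoneda_exact₂ _ (inv_rot_of_distTriang _ hT) ψ h1
    have h2 : φ = 0 := by
      refine hom_shift_zero' (X.X i) (qY j) ((i : ℤ) - j) m 1 ?_ ?_ φ
      · rw [hm]; push_cast; omega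
      · exact ih i (by omega) hi _ rfl
    rw [hφ, h2, zero_comp]

include h0 hP in
set_option backward.defeqAttrib.useBackward true in
set_option backward.isDefEq.respectTransparency false in
/-- devissage on the source side -/
lemma claimE
    (hA : ∀ l p j : ℕ, j = l + p + 1 → j ≤ n → ∀ (q : ℤ), q = p →
      ∀ ψ : X.X l ⟶ (shiftFunctor D q).obj (X'.X j), ψ = 0)
    (l : ℕ) : ∀ (p j : ℕ), j = l + p + 1 → j ≤ n → ∀ (q : ℤ), q = p →
      ∀ ψ : Y l ⟶ (shiftFunctor D q).obj (X'.X j), ψ = 0 := by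
  induction l with
  | zero =>
    intro p j hj hjn q hq ψ
    have := hA 0 p j hj hjn q hq (inv (a 0) ≫ ψ)
    rw [← cancel_epi (inv (a 0)), this, comp_zero]
  | succ l ih =>
    intro p j hj hjn q hq ψ
    have hT := (hP l (by omega)).1
    have hc : c l ≫ (shiftFunctor D (1 : ℤ)).map ψ = 0 := by
      have := ih (p + 1) j (by omega) hjn (q + 1) (by push_cast; omega)
        (c l ≫ (shiftFunctor D (1 : ℤ)).map ψ ≫ (shiftFunctorAdd' D q 1 (q + 1) rfl).inv.app (X'.X j))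
      rw [← Category.assoc] at this
      exact (cancel_mono ((shiftFunctorAdd' D q 1 (q + 1) rfl).inv.app (X'.X j))).1
        (this.trans (zero_comp).symm)
    obtain ⟨g, hg⟩ := factor_of_mor₃_comp_zero _ hT ψ hc
    dsimp at g hg
    rw [hg, hA (l + 1) p j hj hjn q hq g, comp_zero]

include h0 hP qh0 qhP in
set_option backward.defeqAttrib.useBackward true in
set_option backward.isDefEq.respectTransparency false in
lemma main
    (hB : ∀ i j : ℕ, j < i → i ≤ n → ∀ (m : ℤ), m = (i : ℤ) - j →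
      ∀ ψ : (shiftFunctor D m).obj (X.X i) ⟶ X'.X j, ψ = 0)
    (hA : ∀ l p j : ℕ, j = l + p + 1 → j ≤ n → ∀ (q : ℤ), q = p →
      ∀ ψ : X.X l ⟶ (shiftFunctor D q).obj (X'.X j), ψ = 0)
    (w : ∀ k, Y k ⟶ qY k)
    (hw1 : ∀ k, k ≤ n → w k ≫ qa k = 0)
    (hw2 : ∀ k, k < n → c k ≫ (shiftFunctor D (1 : ℤ)).map (w (k + 1)) = w k ≫ qc k)
    (k : ℕ) : k ≤ n → w k = 0 := by
  induction k with
  | zero =>
    intro hk
    rw [← cancel_mono (qa 0), hw1 0 hk, zero_comp]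
  | succ k ih =>
    intro hk
    have hT := (hP k (by omega)).1
    have hqT := (qhP k (by omega)).1
    have hc : c k ≫ (shiftFunctor D (1 : ℤ)).map (w (k + 1)) = 0 := by
      rw [hw2 k (by omega), ih (by omega), zero_comp]
    obtain ⟨g, hg⟩ := factor_of_mor₃_comp_zero _ hT (w (k + 1)) hc
    dsimp at g hg
    have h2 : a (k + 1) ≫ (g ≫ qa (k + 1)) = 0 := by
      rw [← Category.assoc, ← hg, hw1 (k + 1) hk]
    obtain ⟨u, hu⟩ := Triangle.yoneda_exact₂ _ hT (g ≫ qa (k + 1)) h2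
    dsimp at u hu
    have hu0 : u = 0 := by
      have := claimE X X' n Y a b c h0 hP hA k 0 (k + 1) (by omega) hk 0 (by simp)
        (u ≫ (shiftFunctorZero D ℤ).inv.app _)
      exact (cancel_mono ((shiftFunctorZero D ℤ).inv.app _)).1 (this.trans (zero_comp).symm)
    rw [hu0, comp_zero] at hu
    obtain ⟨ε, hε⟩ := Triangle.coyoneda_exact₂ _ (inv_rot_of_distTriang _ hqT) g hu
    have hε0 : ε = 0 := by
      refine hom_to_shift_zero (X.X (k + 1)) (qY k) 1 (-1) (by omega) ?_ ε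
      exact claimG X X' n qY qa qb qc qh0 qhP hB k (k + 1) (by omega) hk 1 (by push_cast; omega)
    rw [hg, hε, hε0, zero_comp, comp_zero]

end

open CategoryTheory.Pretriangulated in
/-- Let D be a triangulated category, φ : X ⟶ X' a morphism of chain complexes in D considered in
degrees ≤ n, where a Postnikov system for the complex X_n → … → X_0 consists of objects Y_k, an
isomorphism Y_0 ⟶ X_0, and for 0 ≤ k < n distinguished triangles Y_{k+1} ⟶ X_{k+1} ⟶ Y_k ⟶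
Y_{k+1}⟦1⟧ with X_{k+1} ⟶ Y_k ⟶ X_k the differential; let (Y, a, b, c) and (Y', a', b', c') be
Postnikov systems for X and X'. If Hom(X_{j-i}⟦1-i⟧, X'_j) = 0 and Hom(X_j, X'_{j-i}⟦-i⟧) = 0 for
all 0 < i ≤ j ≤ n, then there is at most one morphism of Postnikov systems extending φ: two such
morphisms agree on Y_k for every k ≤ n. -/
theorem result {D : Type u} [Category.{v} D] [Preadditive D] [HasZeroObject D] [HasShift D ℤ]
    [∀ n : ℤ, (shiftFunctor D n).Additive] [Pretriangulated D] [IsTriangulated D]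
    (X X' : ChainComplex D ℕ) (φ : X ⟶ X') (n : ℕ)
    (Y : ℕ → D) (a : ∀ k, Y k ⟶ X.X k) (b : ∀ k, X.X (k + 1) ⟶ Y k)
    (c : ∀ k, Y k ⟶ (shiftFunctor D (1 : ℤ)).obj (Y (k + 1)))
    (h0 : IsIso (a 0))
    (hP : ∀ k, k < n → Triangle.mk (a (k + 1)) (b k) (c k) ∈ distinguishedTriangles ∧ b k ≫ a k = X.d (k + 1) k)
    (qY : ℕ → D) (qa : ∀ k, qY k ⟶ X'.X k) (qb : ∀ k, X'.X (k + 1) ⟶ qY k)
    (qc : ∀ k, qY k ⟶ (shiftFunctor D (1 : ℤ)).obj (qY (k + 1)))
    (qh0 : IsIso (qa 0))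
    (qhP : ∀ k, k < n → Triangle.mk (qa (k + 1)) (qb k) (qc k) ∈ distinguishedTriangles ∧ qb k ≫ qa k = X'.d (k + 1) k)
    (hv : ∀ i j : ℕ, 0 < i → i ≤ j → j ≤ n →
      (∀ ψ : (shiftFunctor D (1 - (i : ℤ))).obj (X.X (j - i)) ⟶ X'.X j, ψ = 0) ∧
      (∀ ψ : X.X j ⟶ (shiftFunctor D (-(i : ℤ))).obj (X'.X (j - i)), ψ = 0))
    (y z : ∀ k, Y k ⟶ qY k)
    (hy : (∀ k, k ≤ n → y k ≫ qa k = a k ≫ φ.f k) ∧
      (∀ k, k < n → b k ≫ y k = φ.f (k + 1) ≫ qb k ∧ c k ≫ (shiftFunctor D (1 : ℤ)).map (y (k + 1)) = y k ≫ qc k))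
    (hz : (∀ k, k ≤ n → z k ≫ qa k = a k ≫ φ.f k) ∧
      (∀ k, k < n → b k ≫ z k = φ.f (k + 1) ≫ qb k ∧ c k ≫ (shiftFunctor D (1 : ℤ)).map (z (k + 1)) = z k ≫ qc k))
    (k : ℕ) (hk : k ≤ n) :
    y k = z k := by
  have hB : ∀ i j : ℕ, j < i → i ≤ n → ∀ (m : ℤ), m = (i : ℤ) - j →
      ∀ ψ : (shiftFunctor D m).obj (X.X i) ⟶ X'.X j, ψ = 0 := by
    intro i j hji hi m hm ψ
    obtain ⟨d, rfl⟩ : ∃ d, i = j + d := ⟨i - j, by omega⟩
    have h2 := (hv d (j + d) (by omega) (by omega) hi).2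
    have hj : j + d - d = j := by omega
    rw [hj] at h2
    exact hom_from_shift_zero _ _ m (-(d : ℤ)) (by rw [hm]; push_cast; omega) h2 ψ
  have hA : ∀ l p j : ℕ, j = l + p + 1 → j ≤ n → ∀ (q : ℤ), q = p →
      ∀ ψ : X.X l ⟶ (shiftFunctor D q).obj (X'.X j), ψ = 0 := by
    intro l p j hj hjn q hq ψ
    subst hj
    have h1 := (hv (p + 1) (l + p + 1) (by omega) (by omega) hjn).1
    have hl : l + p + 1 - (p + 1) = l := by omega
    rw [hl] at h1
    exact hom_to_shift_zero _ _ (1 - ((p + 1 : ℕ) : ℤ)) q (by rw [hq]; push_cast; omega) h1 ψ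
  have h := main X X' n Y a b c h0 hP qY qa qb qc qh0 qhP hB hA (fun k => y k - z k)
    (fun k hk => by rw [Preadditive.sub_comp, hy.1 k hk, hz.1 k hk, sub_self])
    (fun k hk => by
      rw [Functor.map_sub, Preadditive.comp_sub, (hy.2 k hk).2, (hz.2 k hk).2, Preadditive.sub_comp])
    k hk
  exact sub_eq_zero.mp h

end Groth.Agent.S6623
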