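import Groth.Statements.S6626
import Mathlib
import Groth.Agent.H4.GlueDisjoint

set_option autoImplicit false
open CategoryTheory CategoryTheory.Limits AlgebraicGeometry Opposite
universe u
open EtCore

namespace Groth.Agent.S6626

open Groth.Agent.H4

theorem epi_counit_of_faithful {C D : Type*} [Category C] [Category D] {L : C ⥤ D} {R : D ⥤ C}
    (adj : L ⊣ R) [R.Faithful] (F : D) : Epi (adj.counit.app F) := by
  constructor
  intro Z a b hab
  apply R.map_injective
  have tri := adj.right_triangle_components F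
  calc R.map a = (adj.unit.app _ ≫ R.map (adj.counit.app F)) ≫ R.map a := by
        rw [tri]
        exact (Category.id_comp _).symm
    _ = adj.unit.app _ ≫ R.map (adj.counit.app F ≫ a) := by
        rw [Category.assoc, ← Functor.map_comp]
    _ = adj.unit.app _ ≫ R.map (adj.counit.app F ≫ b) := by rw [hab]
    _ = (adj.unit.app _ ≫ R.map (adj.counit.app F)) ≫ R.map b := by
        rw [Functor.map_comp, Category.assoc]
    _ = R.map b := by
        rw [tri]
        exact Category.id_comp _

/-- The complement of an open and closed subset, as an open. -/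
def compl {T : Scheme.{u}} (W : T.Opens) (hW : IsClosed (W : Set T)) : T.Opens :=
  ⟨(W : Set T)ᶜ, hW.isOpen_compl⟩

/-- Extension by zero of a section over an open and closed subscheme. -/
theorem exists_extZero {X : Scheme.{u}} (F : EtCoh.Ab X) (B : X.Etale) (W : B.left.Opens)
    (hW : IsClosed (W : Set B.left)) (s : F.obj.obj (op (res B W))) :
    ∃ s' : F.obj.obj (op B), F.obj.map (resMap B W).op s' = s ∧
      F.obj.map (resMap B (compl W hW)).op s' = 0 := by
  let Fs : EtDesc.Sh X :=
    (sheafCompose X.smallEtaleTopology (forget AddCommGrpCat.{u + 1})).obj F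
  let O : Bool → B.left.Opens := fun a => cond a W (compl W hW)
  let sfam : ∀ a, Fs.obj.obj (op (res B (O a))) := fun a =>
    match a with
    | true => s
    | false => (0 : F.obj.obj (op (res B (compl W hW))))
  have hdisj : ∀ a b, a ≠ b → ∀ q : B.left, q ∈ O a → q ∈ O b → False := by
    intro a b hab q h1 h2
    cases a <;> cases b
    · exact hab rfl
    · exact h1 h2
    · exact h2 h1
    · exact hab rfl
  have hcov : ∀ q : B.left, ∃ a, q ∈ O a := by
    intro q
    by_cases hq : q ∈ W
    · exact ⟨true, hq⟩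
    · exact ⟨false, hq⟩
  obtain ⟨t, ht⟩ := exists_glue_disjoint Fs B O hdisj hcov sfam
  exact ⟨t, ht true, ht false⟩

theorem exists_local_data {X Y : Scheme.{u}} (f : X ⟶ Y) (hA : BigSite.PropA f) (U : X.Etale)
    (u : U.left) :
    ∃ (V' : Y.Etale) (W : ((EtCoh.bc f).obj V').left.Opens)
      (_ : IsClosed (W : Set ((EtCoh.bc f).obj V').left))
      (h : res ((EtCoh.bc f).obj V') W ⟶ U) (w : ↥W), h.left.base w = u := by
  haveI : Etale U.hom := U.prop
  obtain ⟨V, v, hv, W₀, hW₀, h₀, hh₀, w₀, hw₀⟩ := hA U.left U.hom u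
  haveI := hv
  let V' : Y.Etale := Scheme.Etale.mk v
  let σ : pullback v f ≅ pullback f v := pullbackSymmetry v f
  let W : (pullback v f).Opens := σ.hom ⁻¹ᵁ W₀
  have hW : IsClosed (W : Set ↥(pullback v f)) := hW₀.preimage σ.hom.continuous
  let ρ : (W : Scheme.{u}) ⟶ (W₀ : Scheme.{u}) := σ.hom ∣_ W₀
  have hρ : ρ ≫ W₀.ι = W.ι ≫ σ.hom := morphismRestrict_ι _ _
  let hl : (W : Scheme.{u}) ⟶ U.left := ρ ≫ h₀
  have hlw : hl ≫ U.hom = W.ι ≫ pullback.snd v f := by
    calc hl ≫ U.hom = ρ ≫ (h₀ ≫ U.hom) := Category.assoc _ _ _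
      _ = ρ ≫ (W₀.ι ≫ pullback.fst f v) := by rw [hh₀]
      _ = (ρ ≫ W₀.ι) ≫ pullback.fst f v := (Category.assoc _ _ _).symm
      _ = (W.ι ≫ σ.hom) ≫ pullback.fst f v := by rw [hρ]
      _ = W.ι ≫ (σ.hom ≫ pullback.fst f v) := Category.assoc _ _ _
      _ = W.ι ≫ pullback.snd v f := by rw [pullbackSymmetry_hom_comp_fst]
  haveI : IsIso ρ := inferInstanceAs (IsIso (σ.hom ∣_ W₀))
  obtain ⟨w, hw⟩ := (inferInstance : Surjective ρ).surj w₀
  refine ⟨V', W, hW, MorphismProperty.Over.homMk hl hlw trivial, w, ?_⟩
  show h₀.base (ρ.base w) = u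
  rw [show ρ.base w = w₀ from hw]
  exact hw₀

/-- Let f : X ⟶ Y be a morphism of schemes satisfying condition (A) (for every etale U ⟶ X and every
point u of U there are an etale V ⟶ Y, an open and closed subscheme W of X ×_Y V and an X-morphism W
⟶ U whose image contains u). Then, on abelian sheaves on the small etale sites, f_* reflects
monomorphisms and epimorphisms, the counit f⁻¹ f_* F ⟶ F is an epimorphism for every F, and f_* is
faithful. -/
theorem result {X Y : Scheme.{u}} (f : X ⟶ Y) (hA : BigSite.PropA f) :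
    (EtCoh.push f).ReflectsMonomorphisms ∧ (EtCoh.push f).ReflectsEpimorphisms ∧
      (∀ F : EtCoh.Ab X, Epi ((EtCoh.pullPushAdj f).counit.app F)) ∧ (EtCoh.push f).Faithful := by
  have faithful : (EtCoh.push f).Faithful := by
    constructor
    intro F G a b hab
    apply Sheaf.hom_ext
    apply NatTrans.ext
    funext U
    apply ConcreteCategory.hom_ext
    intro s
    apply eq_of_locally_eq G U.unop
    intro u
    obtain ⟨V', W, hW, h, w, hw⟩ := exists_local_data f hA U.unop u
    obtain ⟨s', hs1, -⟩ := exists_extZero F _ W hW (F.obj.map h.op s)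
    refine ⟨res _ W, h, w, hw, ?_⟩
    have hB : a.hom.app (op ((EtCoh.bc f).obj V')) s' =
        b.hom.app (op ((EtCoh.bc f).obj V')) s' := by
      have h0 := congrArg (fun q => q.hom.app (op V')) hab
      exact ConcreteCategory.congr_hom h0 s'
    calc G.obj.map h.op (a.hom.app U s) = a.hom.app _ (F.obj.map h.op s) :=
          (NatTrans.naturality_apply a.hom h.op s).symm
      _ = a.hom.app _ (F.obj.map (resMap _ W).op s') := by rw [hs1]
      _ = G.obj.map (resMap _ W).op (a.hom.app _ s') := NatTrans.naturality_apply a.hom _ s'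
      _ = G.obj.map (resMap _ W).op (b.hom.app _ s') := by rw [hB]
      _ = b.hom.app _ (F.obj.map (resMap _ W).op s') :=
          (NatTrans.naturality_apply b.hom _ s').symm
      _ = b.hom.app _ (F.obj.map h.op s) := by rw [hs1]
      _ = G.obj.map h.op (b.hom.app U s) := NatTrans.naturality_apply b.hom h.op s
  refine ⟨?_, ?_, fun F => epi_counit_of_faithful (EtCoh.pullPushAdj f) F, faithful⟩
  · constructor
    intro F G φ hφ
    have hinj : ∀ V' : Y.Etale,
        Function.Injective (φ.hom.app (op ((EtCoh.bc f).obj V'))) := by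
      intro V'
      have h1 : Mono ((EtCoh.push f).map φ).hom :=
        (Sheaf.Hom.mono_iff_presheaf_mono _ _ _).1 hφ
      have h2 : Mono (((EtCoh.push f).map φ).hom.app (op V')) :=
        (NatTrans.mono_iff_mono_app _).1 h1 (op V')
      exact (AddCommGrpCat.mono_iff_injective _).1 h2
    apply Sheaf.mono_of_injective
    intro U s t hst
    apply eq_of_locally_eq F U.unop
    intro u
    obtain ⟨V', W, hW, h, w, hw⟩ := exists_local_data f hA U.unop u
    obtain ⟨s', hs1, hs2⟩ := exists_extZero F _ W hW (F.obj.map h.op s)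
    obtain ⟨t', ht1, ht2⟩ := exists_extZero F _ W hW (F.obj.map h.op t)
    refine ⟨res _ W, h, w, hw, ?_⟩
    have hst' : s' = t' := by
      apply hinj V'
      apply eq_of_locally_eq G ((EtCoh.bc f).obj V')
      intro b
      by_cases hb : b ∈ W
      · refine ⟨res _ W, resMap _ W, ⟨b, hb⟩, rfl, ?_⟩
        calc G.obj.map (resMap _ W).op (φ.hom.app _ s')
            = φ.hom.app _ (F.obj.map (resMap _ W).op s') :=
              (NatTrans.naturality_apply φ.hom _ s').symm
          _ = φ.hom.app _ (F.obj.map h.op s) := by rw [hs1]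
          _ = G.obj.map h.op (φ.hom.app U s) := NatTrans.naturality_apply φ.hom h.op s
          _ = G.obj.map h.op (φ.hom.app U t) := by rw [hst]
          _ = φ.hom.app _ (F.obj.map h.op t) := (NatTrans.naturality_apply φ.hom h.op t).symm
          _ = φ.hom.app _ (F.obj.map (resMap _ W).op t') := by rw [ht1]
          _ = G.obj.map (resMap _ W).op (φ.hom.app _ t') :=
              NatTrans.naturality_apply φ.hom _ t'
      · refine ⟨res _ (compl W hW), resMap _ (compl W hW), ⟨b, hb⟩, rfl, ?_⟩
        calc G.obj.map (resMap _ (compl W hW)).op (φ.hom.app _ s')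
            = φ.hom.app _ (F.obj.map (resMap _ (compl W hW)).op s') :=
              (NatTrans.naturality_apply φ.hom _ s').symm
          _ = φ.hom.app _ (F.obj.map (resMap _ (compl W hW)).op t') := by rw [hs2, ht2]
          _ = G.obj.map (resMap _ (compl W hW)).op (φ.hom.app _ t') :=
              NatTrans.naturality_apply φ.hom _ t'
    rw [← hs1, ← ht1, hst']
  · constructor
    intro F G φ hφ
    haveI : Sheaf.IsLocallySurjective ((EtCoh.push f).map φ) :=
      (Sheaf.isLocallySurjective_iff_epi' _ _).2 hφ
    haveI : Sheaf.IsLocallySurjective φ := by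
      constructor
      intro U t
      apply mem_smallEtaleTopology_of_forall
      intro u
      obtain ⟨V', W, hW, h, w, hw⟩ := exists_local_data f hA U u
      let B : X.Etale := (EtCoh.bc f).obj V'
      obtain ⟨t', ht1, -⟩ := exists_extZero G B W hW (G.obj.map h.op t)
      let t'' : ToType (((EtCoh.push f).obj G).obj.obj (op V')) := t'
      have hS : Presheaf.imageSieve ((EtCoh.push f).map φ).hom t'' ∈ Y.smallEtaleTopology V' :=
        Presheaf.imageSieve_mem Y.smallEtaleTopology ((EtCoh.push f).map φ).hom t''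
      have hS' := (EtCoh.coverPreserving_bc f).cover_preserve hS
      obtain ⟨T, k, pt, hk, hpt⟩ := exists_of_mem_smallEtaleTopology _ _ hS' (W.ι.base w)
      obtain ⟨V'', g, l, hg, rfl⟩ := hk
      obtain ⟨s, hs⟩ := hg
      let k' : T ⟶ B := l ≫ (EtCoh.bc f).map g
      let OT : T.left.Opens := k'.left ⁻¹ᵁ W
      let ρ : (res T OT).left ⟶ (res B W).left := k'.left ∣_ W
      let ιT : (res T OT).left ⟶ T.left := OT.ι
      let ιW : (res B W).left ⟶ B.left := W.ι
      have hρ : ρ ≫ ιW = ιT ≫ k'.left := morphismRestrict_ι _ _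
      have hρw : ρ ≫ (res B W).hom = (res T OT).hom := by
        have hk' : k'.left ≫ B.hom = T.hom := Over.w k'.hom
        calc ρ ≫ (ιW ≫ B.hom) = (ρ ≫ ιW) ≫ B.hom := (Category.assoc _ _ _).symm
          _ = (ιT ≫ k'.left) ≫ B.hom := congrArg (fun q => q ≫ B.hom) hρ
          _ = ιT ≫ (k'.left ≫ B.hom) := Category.assoc _ _ _
          _ = ιT ≫ T.hom := congrArg (fun q => ιT ≫ q) hk'
      let ρ' : res T OT ⟶ res B W := MorphismProperty.Over.homMk ρ hρw trivial
      have hsq : ρ' ≫ resMap B W = resMap T OT ≫ k' := by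
        apply MorphismProperty.Over.Hom.ext
        exact hρ
      have hptO : pt ∈ OT := by
        show k'.left.base pt ∈ W
        have hpt' : k'.left.base pt = W.ι.base w := hpt
        rw [hpt']
        exact w.2
      refine ⟨res T OT, ρ' ≫ h, ⟨pt, hptO⟩, ?_, ?_⟩
      · refine ⟨F.obj.map (resMap T OT).op (F.obj.map l.op s), ?_⟩
        have e0 : φ.hom.app (op ((EtCoh.bc f).obj V'')) s =
            G.obj.map ((EtCoh.bc f).map g).op t' := hs
        calc φ.hom.app _ (F.obj.map (resMap T OT).op (F.obj.map l.op s))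
            = G.obj.map (resMap T OT).op (φ.hom.app _ (F.obj.map l.op s)) :=
              NatTrans.naturality_apply φ.hom _ _
          _ = G.obj.map (resMap T OT).op (G.obj.map l.op (φ.hom.app _ s)) := by
              rw [NatTrans.naturality_apply φ.hom l.op s]
          _ = G.obj.map (resMap T OT).op (G.obj.map l.op
                (G.obj.map ((EtCoh.bc f).map g).op t')) := by rw [e0]
          _ = G.obj.map (resMap T OT ≫ k').op t' := by
              simp only [k', op_comp, Functor.map_comp_apply]
          _ = G.obj.map (ρ' ≫ resMap B W).op t' := by rw [hsq]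
          _ = G.obj.map ρ'.op (G.obj.map (resMap B W).op t') := by
              rw [op_comp, Functor.map_comp_apply]
          _ = G.obj.map ρ'.op (G.obj.map h.op t) := by rw [ht1]
          _ = G.obj.map (ρ' ≫ h).op t := by
              rw [op_comp, Functor.map_comp_apply]
      · show h.left.base (ρ.base ⟨pt, hptO⟩) = u
        have e1 : ιW.base (ρ.base ⟨pt, hptO⟩) = ιW.base w := by
          have e2 : ιW.base (ρ.base ⟨pt, hptO⟩) = k'.left.base (ιT.base ⟨pt, hptO⟩) :=
            congrArg (fun q => q.base ⟨pt, hptO⟩) hρ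
          rw [e2]
          exact hpt
        have e3 : ρ.base ⟨pt, hptO⟩ = w := W.ι.isOpenEmbedding.injective e1
        rw [e3]
        exact hw
    infer_instance

end Groth.Agent.S6626
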