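import Groth.Statements.S6631
import Mathlib
import Groth.Agent.H4.SiteBasics

set_option autoImplicit false
open CategoryTheory CategoryTheory.Limits AlgebraicGeometry Opposite
universe u
open EtDesc

namespace Groth.Agent.S6631

open Groth.Agent.H4

/-- Condition (C) gives, for every etale `U` over `X`, a surjection from a base-changed etale
`Y`-scheme. -/
theorem exists_bc_surj {X Y : Scheme.{u}} (f : X ⟶ Y) (hC : BigSite.PropC f) (U : X.Etale) :
    ∃ (V' : Y.Etale) (hX : (EtCoh.bc f).obj V' ⟶ U), Function.Surjective hX.left.base := by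
  haveI : Etale U.hom := U.prop
  obtain ⟨V, v, hv, h, hh, hs⟩ := hC U.left U.hom
  haveI := hv
  let V' : Y.Etale := Scheme.Etale.mk v
  let h' : ((EtCoh.bc f).obj V').left ⟶ U.left := (pullbackSymmetry v f).hom ≫ h
  have hw : h' ≫ U.hom = ((EtCoh.bc f).obj V').hom := by
    show ((pullbackSymmetry v f).hom ≫ h) ≫ U.hom = pullback.snd v f
    rw [Category.assoc, hh, pullbackSymmetry_hom_comp_fst]
  refine ⟨V', MorphismProperty.Over.homMk h' hw trivial, ?_⟩
  haveI : Surjective h' := inferInstanceAs (Surjective ((pullbackSymmetry v f).hom ≫ h))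
  exact (inferInstance : Surjective h').surj

/-- Let f : X ⟶ Y be a morphism of schemes satisfying condition (C) (for every etale U ⟶ X there are an
etale V ⟶ Y and a surjective X-morphism X ×_Y V ⟶ U). Then the direct image of sheaves of sets on
the small etale sites along f reflects monomorphisms and epimorphisms. -/
theorem result {X Y : Scheme.{u}} (f : X ⟶ Y) (hC : BigSite.PropC f) :
    (EtDesc.pushSh f).ReflectsMonomorphisms ∧ (EtDesc.pushSh f).ReflectsEpimorphisms := by
  constructor
  · constructor
    intro F G φ hφ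
    have hinj : ∀ V' : Y.Etale,
        Function.Injective (φ.hom.app (op ((EtCoh.bc f).obj V'))) := by
      intro V'
      have h1 : Mono ((EtDesc.pushSh f).map φ).hom :=
        (Sheaf.Hom.mono_iff_presheaf_mono _ _ _).1 hφ
      have h2 : Mono (((EtDesc.pushSh f).map φ).hom.app (op V')) :=
        (NatTrans.mono_iff_mono_app _).1 h1 (op V')
      exact (mono_iff_injective _).1 h2
    apply Sheaf.mono_of_injective
    intro U s t hst
    obtain ⟨V', hX, hsurj⟩ := exists_bc_surj f hC U.unop
    apply eq_of_locally_eq_type F U.unop s t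
    intro b
    obtain ⟨c, hc⟩ := hsurj b
    refine ⟨(EtCoh.bc f).obj V', hX, c, hc, ?_⟩
    apply hinj V'
    have n1 := NatTrans.naturality_apply φ.hom hX.op s
    have n2 := NatTrans.naturality_apply φ.hom hX.op t
    exact n1.trans ((congrArg (G.obj.map hX.op) hst).trans n2.symm)
  · constructor
    intro F G φ hφ
    haveI : Sheaf.IsLocallySurjective ((EtDesc.pushSh f).map φ) :=
      (Sheaf.isLocallySurjective_iff_epi _).2 hφ
    rw [← Sheaf.isLocallySurjective_iff_epi]
    constructor
    intro U t
    apply mem_smallEtaleTopology_of_forall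
    intro u
    obtain ⟨V', hX, hsurj⟩ := exists_bc_surj f hC U
    obtain ⟨b, hb⟩ := hsurj u
    let t' : ((EtDesc.pushSh f).obj G).obj.obj (op V') := G.obj.map hX.op t
    have hS : Presheaf.imageSieve ((EtDesc.pushSh f).map φ).hom t' ∈ Y.smallEtaleTopology V' :=
      Presheaf.imageSieve_mem Y.smallEtaleTopology ((EtDesc.pushSh f).map φ).hom t'
    have hS' := (EtCoh.coverPreserving_bc f).cover_preserve hS
    obtain ⟨W, k, w, hk, hw⟩ := exists_of_mem_smallEtaleTopology _ _ hS' b
    obtain ⟨V'', g, l, hg, rfl⟩ := hk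
    obtain ⟨s, hs⟩ := hg
    refine ⟨W, (l ≫ (EtCoh.bc f).map g) ≫ hX, w, ?_, ?_⟩
    · refine ⟨F.obj.map l.op s, ?_⟩
      have e1 : φ.hom.app (op W) (F.obj.map l.op s) = G.obj.map l.op (φ.hom.app _ s) :=
        NatTrans.naturality_apply φ.hom l.op s
      have e2 : φ.hom.app (op ((EtCoh.bc f).obj V'')) s =
          G.obj.map ((EtCoh.bc f).map g).op (G.obj.map hX.op t) := hs
      rw [e1, e2]
      simp only [op_comp, Functor.map_comp_apply]
    · exact (congrArg hX.left.base hw).trans hb

end Groth.Agent.S6631
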