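import Groth.Statements.S6632
import Mathlib
import Groth.Agent.H4.SiteBasics
import Groth.Agent.H4.ClosedDense
import Groth.Agent.H4.EtaleRes

set_option autoImplicit false
open CategoryTheory CategoryTheory.Limits AlgebraicGeometry Opposite
universe u
open EtCore

namespace Groth.Agent.S6632


open Groth.Agent.H4

/-- Let f : X ⟶ Y be a morphism of schemes such that, for every etale V ⟶ Y, the base change X ×_Y V ⟶ V
satisfies condition (C) (for every etale U ⟶ X ×_Y V there are an etale V' ⟶ V and a surjective
morphism from the base change of V' to U over X ×_Y V) and is closed as a map of topological spaces.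
Then the base change functor V ↦ X ×_Y V from the small etale site of Y to that of X is almost
cocontinuous: every covering sieve of X ×_Y V contains the images of the members of some covering
sieve of V, except for members V' for which X ×_Y V' is covered by the empty sieve. -/
theorem result {X Y : Scheme.{u}} (f : X ⟶ Y)
    (hC : ∀ (V : Scheme.{u}) (v : V ⟶ Y) [Etale v], BigSite.PropC (pullback.snd f v))
    (hcl : ∀ (V : Scheme.{u}) (v : V ⟶ Y) [Etale v], IsClosedMap (pullback.snd f v).base) :
    BigSite.IsAlmostCocontinuous (EtCoh.bc f) Y.smallEtaleTopology X.smallEtaleTopology := by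
  intro U R hR
  haveI : Etale U.hom := U.prop
  let R' : Sieve U :=
    { arrows := fun V g =>
        (⊥ : Sieve ((EtCoh.bc f).obj V)) ∈ X.smallEtaleTopology _ ∨ R ((EtCoh.bc f).map g)
      downward_closed := by
        intro V V' g hg a
        rcases hg with hg | hg
        · left
          refine X.smallEtaleTopology.superset_covering ?_
            (X.smallEtaleTopology.pullback_stable ((EtCoh.bc f).map a) hg)
          intro W k hk
          exact hk
        · right
          rw [Functor.map_comp]
          exact R.downward_closed hg _ }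
  refine ⟨R', ?_, fun V g hg => hg⟩
  apply mem_smallEtaleTopology_of_forall
  intro y
  let p : pullback f U.hom ⟶ U.left := pullback.snd f U.hom
  let σ : pullback U.hom f ≅ pullback f U.hom := pullbackSymmetry U.hom f
  by_cases hy : y ∈ Set.range p.base
  · obtain ⟨x', hx'⟩ := hy
    let x : ((EtCoh.bc f).obj U).left := σ.inv.base x'
    obtain ⟨W, r, w, hr, hw⟩ := exists_of_mem_smallEtaleTopology _ R hR x
    let rl : W.left ⟶ pullback U.hom f := r.left
    haveI : Etale rl := inferInstanceAs (Etale r.left)
    let g' : W.left ⟶ pullback f U.hom := rl ≫ σ.hom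
    haveI : Etale g' := inferInstanceAs (Etale (rl ≫ σ.hom))
    obtain ⟨V₁, v₁, hv₁, h, hh, hs⟩ := hC U.left U.hom W.left g'
    haveI := hv₁
    let Vx : Y.Etale := Scheme.Etale.mk (v₁ ≫ U.hom)
    let gen : Vx ⟶ U := MorphismProperty.Over.homMk v₁ rfl trivial
    obtain ⟨z, hz⟩ := hs.surj w
    have hz' : h.base z = w := hz
    refine ⟨Vx, gen, (pullback.snd p v₁).base z, Or.inr ?_, ?_⟩
    · have cond : (bcLeft f gen ≫ σ.hom) ≫ p = pullback.fst Vx.hom f ≫ v₁ := by
        rw [Category.assoc]
        show bcLeft f gen ≫ (pullbackSymmetry U.hom f).hom ≫ pullback.snd f U.hom = _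
        rw [pullbackSymmetry_hom_comp_snd, bcLeft_fst]
        rfl
      let θ : pullback Vx.hom f ⟶ pullback p v₁ :=
        pullback.lift (bcLeft f gen ≫ σ.hom) (pullback.fst Vx.hom f) cond
      have hθ : θ ≫ pullback.fst p v₁ = bcLeft f gen ≫ σ.hom := pullback.lift_fst _ _ _
      let ml : pullback Vx.hom f ⟶ W.left := θ ≫ h
      have hml : ml ≫ rl = bcLeft f gen := by
        have h3 : (ml ≫ rl) ≫ σ.hom = bcLeft f gen ≫ σ.hom := by
          calc (ml ≫ rl) ≫ σ.hom = θ ≫ (h ≫ g') := by
                simp only [ml, g', Category.assoc]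
            _ = θ ≫ pullback.fst p v₁ := by rw [hh]
            _ = bcLeft f gen ≫ σ.hom := hθ
        exact (cancel_mono σ.hom).1 h3
      have hmw : ml ≫ W.hom = ((EtCoh.bc f).obj Vx).hom := by
        have hr1 : rl ≫ pullback.snd U.hom f = W.hom := Over.w r.hom
        have hr2 : bcLeft f gen ≫ pullback.snd U.hom f = pullback.snd Vx.hom f :=
          bcLeft_snd f gen
        calc ml ≫ W.hom = ml ≫ (rl ≫ pullback.snd U.hom f) := by rw [hr1]
          _ = (ml ≫ rl) ≫ pullback.snd U.hom f := (Category.assoc _ _ _).symm
          _ = bcLeft f gen ≫ pullback.snd U.hom f := by rw [hml]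
          _ = pullback.snd Vx.hom f := hr2
      let m : (EtCoh.bc f).obj Vx ⟶ W := MorphismProperty.Over.homMk ml hmw trivial
      have hm : m ≫ r = (EtCoh.bc f).map gen := by
        apply MorphismProperty.Over.Hom.ext
        exact hml
      rw [← hm]
      exact R.downward_closed hr m
    · show v₁.base ((pullback.snd p v₁).base z) = y
      have c1 : p.base ((pullback.fst p v₁).base z) = v₁.base ((pullback.snd p v₁).base z) :=
        congrArg (fun q => q.base z) (pullback.condition (f := p) (g := v₁))
      have c2 : (pullback.fst p v₁).base z = x' := by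
        have h4 : σ.hom.base (rl.base (h.base z)) = (pullback.fst p v₁).base z :=
          congrArg (fun q => q.base z) hh
        rw [← h4, hz']
        have hw' : rl.base w = σ.inv.base x' := hw
        rw [hw']
        have h5 : (σ.inv ≫ σ.hom).base x' = x' := by
          rw [Iso.inv_hom_id]
          rfl
        exact h5
      rw [← c1, c2]
      exact hx'
  · let O : U.left.Opens :=
      ⟨(Set.range p.base)ᶜ, (hcl U.left U.hom).isClosed_range.isOpen_compl⟩
    refine ⟨res U O, resMap U O, ⟨y, hy⟩, Or.inl ?_, rfl⟩
    apply mem_smallEtaleTopology_of_forall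
    intro z
    exfalso
    let a : ↥O := (pullback.fst (res U O).hom f).base z
    let x₀ : X := (pullback.snd (res U O).hom f).base z
    have hc : (res U O).hom.base a = f.base x₀ :=
      congrArg (fun q => q.base z) (pullback.condition (f := (res U O).hom) (g := f))
    have hc' : f.base x₀ = U.hom.base (O.ι.base a) := hc.symm
    obtain ⟨x'', -, hx2⟩ := Scheme.Pullback.exists_preimage_pullback
      (f := f) (g := U.hom) x₀ (O.ι.base a) hc'
    exact a.2 ⟨x'', hx2⟩

end Groth.Agent.S6632
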