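import Groth.Statements.S6633
import Mathlib
import Groth.Agent.H68.PropB2

set_option autoImplicit false
open CategoryTheory CategoryTheory.Limits AlgebraicGeometry Opposite
universe u
open EtCore

namespace Groth.Agent.S6633

open Groth.Agent.H68.PropB1 Groth.Agent.H68.PropB2

/-- glue morphisms defined on a disjoint open cover -/
theorem glue {P T : Scheme.{u}} {ι : Type u} (O : ι → P.Opens)
    (hd : ∀ a b, a ≠ b → Disjoint (O a) (O b)) (hc : (⨆ a, O a) = ⊤)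
    (m : ∀ a, ((O a : P.Opens) : Scheme.{u}) ⟶ T) :
    ∃ M : P ⟶ T, ∀ a, (O a).ι ≫ M = m a := by
  classical
  let 𝒰 : P.OpenCover := P.openCoverOfIsOpenCover O hc
  have hcompat : ∀ a b, pullback.fst (𝒰.f a) (𝒰.f b) ≫ m a =
      pullback.snd (𝒰.f a) (𝒰.f b) ≫ m b := by
    intro a b
    by_cases hab : a = b
    · subst hab
      have : pullback.fst (𝒰.f a) (𝒰.f a) = pullback.snd (𝒰.f a) (𝒰.f a) := by
        rw [← cancel_mono (𝒰.f a)]
        exact pullback.condition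
      rw [this]
    · haveI : IsEmpty ↥(pullback (𝒰.f a) (𝒰.f b)) := by
        refine ⟨fun z => ?_⟩
        have h1 : ((pullback.fst (𝒰.f a) (𝒰.f b) ≫ 𝒰.f a) z) ∈ O a := by
          rw [Scheme.Hom.comp_apply]
          exact ((pullback.fst (𝒰.f a) (𝒰.f b)) z).2
        have h2 : ((pullback.fst (𝒰.f a) (𝒰.f b) ≫ 𝒰.f a) z) ∈ O b := by
          rw [pullback.condition, Scheme.Hom.comp_apply]
          exact ((pullback.snd (𝒰.f a) (𝒰.f b)) z).2
        exact (hd a b hab).le_bot ⟨h1, h2⟩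
      exact (isInitialOfIsEmpty).hom_ext _ _
  exact ⟨𝒰.glueMorphisms m hcompat, fun a => 𝒰.ι_glueMorphisms m hcompat a⟩

theorem hom_ext_cover {P T : Scheme.{u}} {ι : Type u} (O : ι → P.Opens) (hc : (⨆ a, O a) = ⊤)
    (A B : P ⟶ T) (h : ∀ a, (O a).ι ≫ A = (O a).ι ≫ B) : A = B :=
  (P.openCoverOfIsOpenCover O hc).hom_ext A B h

theorem glue2 {P T : Scheme.{u}} (O₁ O₂ : P.Opens) (hd : Disjoint O₁ O₂) (hc : O₁ ⊔ O₂ = ⊤)
    (m₁ : (O₁ : Scheme.{u}) ⟶ T) (m₂ : (O₂ : Scheme.{u}) ⟶ T) :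
    ∃ M : P ⟶ T, O₁.ι ≫ M = m₁ ∧ O₂.ι ≫ M = m₂ := by
  let O : ULift.{u} Bool → P.Opens := fun b => match b with
    | ⟨true⟩ => O₁
    | ⟨false⟩ => O₂
  let m : ∀ b, ((O b : P.Opens) : Scheme.{u}) ⟶ T := fun b => match b with
    | ⟨true⟩ => m₁
    | ⟨false⟩ => m₂
  have hd' : ∀ a b, a ≠ b → Disjoint (O a) (O b) := by
    rintro ⟨_ | _⟩ ⟨_ | _⟩ hab
    · exact absurd rfl hab
    · exact hd.symm
    · exact hd
    · exact absurd rfl hab
  have hc' : (⨆ a, O a) = ⊤ := by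
    apply le_antisymm le_top
    rw [← hc]
    exact sup_le (le_iSup O ⟨true⟩) (le_iSup O ⟨false⟩)
  obtain ⟨M, hM⟩ := glue O hd' hc' m
  exact ⟨M, hM ⟨true⟩, hM ⟨false⟩⟩

theorem hom_ext2 {P T : Scheme.{u}} (O₁ O₂ : P.Opens) (hc : O₁ ⊔ O₂ = ⊤) (A B : P ⟶ T)
    (h₁ : O₁.ι ≫ A = O₁.ι ≫ B) (h₂ : O₂.ι ≫ A = O₂.ι ≫ B) : A = B := by
  apply Scheme.hom_ext_of_forall
  intro x
  have hx : x ∈ O₁ ⊔ O₂ := by rw [hc]; trivial
  rcases TopologicalSpace.Opens.mem_sup.mp hx with hx | hx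
  · exact ⟨O₁, hx, h₁⟩
  · exact ⟨O₂, hx, h₂⟩

/-- the core gluing step, given the decomposition of `X ×_Y V₁` -/
theorem core2 {X Y U V₁ : Scheme.{u}} (f : X ⟶ Y) (g : U ⟶ X) [Etale g]
    (hg : Function.Surjective g) (v₁ : V₁ ⟶ Y) [Etale v₁]
    (W W' : (pullback f v₁).Opens) (hWd : Disjoint W W') (hWc : W ⊔ W' = ⊤)
    [IsIntegralHom (W'.ι ≫ pullback.snd f v₁)]
    (h₁ : (W : Scheme.{u}) ⟶ U) (hh₁ : h₁ ≫ g = W.ι ≫ pullback.fst f v₁)
    (w₁ : ↥(W : Scheme.{u})) :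
    ∃ (V : Scheme.{u}) (v : V ⟶ Y) (_ : Etale v) (h : pullback f v ⟶ U),
      h ≫ g = pullback.fst f v ∧ h₁ w₁ ∈ Set.range h := by
  have hcond := pullback.condition (f := W'.ι ≫ pullback.fst f v₁) (g := g)
  have hsurj : ∀ x : ↥(W' : Scheme.{u}), ∃ _ : PUnit.{u+1},
      x ∈ Set.range (pullback.fst (W'.ι ≫ pullback.fst f v₁) g) := by
    intro x
    obtain ⟨u₀, hu₀⟩ := hg ((W'.ι ≫ pullback.fst f v₁) x)
    obtain ⟨z, hz, -⟩ := Scheme.Pullback.exists_preimage_pullback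
      (f := W'.ι ≫ pullback.fst f v₁) (g := g) x u₀ hu₀.symm
    exact ⟨PUnit.unit, z, hz⟩
  obtain ⟨V₂, v₂, hv₂, ⟨y₂, hy₂⟩, μ, Wμ, hdis, hsup, hWμ⟩ :=
    local_integral (W'.ι ≫ pullback.snd f v₁)
      (fun _ : PUnit.{u+1} => pullback.fst (W'.ι ≫ pullback.fst f v₁) g)
      (fun _ => inferInstance) hsurj (pullback.snd f v₁ (W.ι w₁))
  haveI := hv₂
  choose iμ hμ hhμ using hWμ
  obtain ⟨m₂, hm₂⟩ := glue Wμ hdis hsup
    (fun a => hμ a ≫ pullback.snd (W'.ι ≫ pullback.fst f v₁) g)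
  have hm₂g : m₂ ≫ g =
      pullback.fst (W'.ι ≫ pullback.snd f v₁) v₂ ≫ W'.ι ≫ pullback.fst f v₁ := by
    apply hom_ext_cover Wμ hsup
    intro a
    calc (Wμ a).ι ≫ m₂ ≫ g = (hμ a ≫ pullback.snd (W'.ι ≫ pullback.fst f v₁) g) ≫ g := by
          rw [← Category.assoc, hm₂ a]
      _ = (hμ a ≫ pullback.fst (W'.ι ≫ pullback.fst f v₁) g) ≫ (W'.ι ≫ pullback.fst f v₁) := by
          rw [Category.assoc, Category.assoc, hcond]
      _ = ((Wμ a).ι ≫ pullback.fst (W'.ι ≫ pullback.snd f v₁) v₂) ≫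
            (W'.ι ≫ pullback.fst f v₁) :=
          congrArg (· ≫ (W'.ι ≫ pullback.fst f v₁)) (hhμ a)
      _ = _ := Category.assoc _ _ _
  let β : pullback f (v₂ ≫ v₁) ⟶ pullback f v₁ :=
    pullback.lift (pullback.fst f (v₂ ≫ v₁)) (pullback.snd f (v₂ ≫ v₁) ≫ v₂)
      (by rw [Category.assoc]; exact pullback.condition)
  have hβ₁ : β ≫ pullback.fst f v₁ = pullback.fst f (v₂ ≫ v₁) := pullback.lift_fst _ _ _
  have hβ₂ : β ≫ pullback.snd f v₁ = pullback.snd f (v₂ ≫ v₁) ≫ v₂ := pullback.lift_snd _ _ _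
  have Hβ : IsPullback β (pullback.snd f (v₂ ≫ v₁)) (pullback.snd f v₁) v₂ := by
    refine IsPullback.of_right (show IsPullback (β ≫ pullback.fst f v₁)
      (pullback.snd f (v₂ ≫ v₁)) f (v₂ ≫ v₁) from ?_) hβ₂ (IsPullback.of_hasPullback f v₁)
    rw [hβ₁]
    exact IsPullback.of_hasPullback f (v₂ ≫ v₁)
  let θ : ((β ⁻¹ᵁ W' : (pullback f (v₂ ≫ v₁)).Opens) : Scheme.{u}) ⟶
      pullback (W'.ι ≫ pullback.snd f v₁) v₂ :=
    pullback.lift (β ∣_ W') ((β ⁻¹ᵁ W').ι ≫ pullback.snd f (v₂ ≫ v₁)) (by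
      rw [← Category.assoc, morphismRestrict_ι, Category.assoc, hβ₂, Category.assoc])
  have hθ₁ : θ ≫ pullback.fst (W'.ι ≫ pullback.snd f v₁) v₂ = β ∣_ W' :=
    pullback.lift_fst _ _ _
  have hdisj' : Disjoint (β ⁻¹ᵁ W) (β ⁻¹ᵁ W') := by
    rw [disjoint_iff] at hWd ⊢
    rw [← Scheme.Hom.preimage_inf, hWd, Scheme.Hom.preimage_bot]
  have hcov' : (β ⁻¹ᵁ W) ⊔ (β ⁻¹ᵁ W') = ⊤ := by
    rw [← Scheme.Hom.preimage_sup, hWc, Scheme.Hom.preimage_top]
  obtain ⟨M, hM₁, hM₂⟩ := glue2 (β ⁻¹ᵁ W) (β ⁻¹ᵁ W') hdisj' hcov' ((β ∣_ W) ≫ h₁) (θ ≫ m₂)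
  refine ⟨V₂, v₂ ≫ v₁, inferInstance, M, ?_, ?_⟩
  · apply hom_ext2 (β ⁻¹ᵁ W) (β ⁻¹ᵁ W') hcov'
    · rw [← Category.assoc, hM₁]
      calc ((β ∣_ W) ≫ h₁) ≫ g = (β ∣_ W) ≫ W.ι ≫ pullback.fst f v₁ := by
            rw [Category.assoc, hh₁]
        _ = (β ⁻¹ᵁ W).ι ≫ β ≫ pullback.fst f v₁ := by
            rw [← Category.assoc, morphismRestrict_ι, Category.assoc]
        _ = _ := by rw [hβ₁]
    · rw [← Category.assoc, hM₂]
      calc (θ ≫ m₂) ≫ g
          = (θ ≫ pullback.fst (W'.ι ≫ pullback.snd f v₁) v₂) ≫ W'.ι ≫ pullback.fst f v₁ := by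
            rw [Category.assoc, hm₂g, Category.assoc]
        _ = (β ∣_ W') ≫ W'.ι ≫ pullback.fst f v₁ := by rw [hθ₁]
        _ = (β ⁻¹ᵁ W').ι ≫ β ≫ pullback.fst f v₁ := by
            rw [← Category.assoc, morphismRestrict_ι, Category.assoc]
        _ = _ := by rw [hβ₁]
  · obtain ⟨z, hz₁, hz₂⟩ := Groth.Agent.S6628.exists_preimage_of_isPullback Hβ (W.ι w₁) y₂
      hy₂.symm
    have hzW : z ∈ β ⁻¹ᵁ W := by
      show β z ∈ W
      have : β z = W.ι w₁ := hz₁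
      rw [this]
      exact w₁.2
    refine ⟨z, ?_⟩
    have e1 : M z = ((β ⁻¹ᵁ W).ι ≫ M) ⟨z, hzW⟩ := rfl
    rw [e1, hM₁, Scheme.Hom.comp_apply]
    congr 1
    apply Subtype.ext
    have e2 : ((β ∣_ W) ⟨z, hzW⟩ : ↥(W : Scheme.{u})).1 = ((β ∣_ W) ≫ W.ι) ⟨z, hzW⟩ := rfl
    rw [e2, morphismRestrict_ι]
    exact hz₁

theorem core {X Y U : Scheme.{u}} (f : X ⟶ Y) [IsIntegralHom f] (g : U ⟶ X) [Etale g]
    (hg : Function.Surjective g) (u : U) :
    ∃ (V : Scheme.{u}) (v : V ⟶ Y) (_ : Etale v) (h : pullback f v ⟶ U),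
      h ≫ g = pullback.fst f v ∧ u ∈ Set.range h := by
  obtain ⟨V₁, v₁, hv₁, W, hWc, h₁, hh₁, w₁, hw₁⟩ := Groth.Agent.S6628.result f U g u
  haveI := hv₁
  let W' : (pullback f v₁).Opens := ⟨(W : Set ↥(pullback f v₁))ᶜ, hWc.isOpen_compl⟩
  haveI : IsClosedImmersion W'.ι := by
    apply IsClosedImmersion.of_isPreimmersion
    rw [Scheme.Opens.range_ι]
    exact W.isOpen.isClosed_compl
  haveI : IsIntegralHom (W'.ι ≫ pullback.snd f v₁) := inferInstance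
  have hWd : Disjoint W W' := by
    rw [disjoint_iff]
    ext x
    simp [W']
  have hWc' : W ⊔ W' = ⊤ := by
    ext x
    simp [W']
  obtain ⟨V, v, hv, h, hh, hu⟩ := core2 f g hg v₁ W W' hWd hWc' h₁ hh₁ w₁
  refine ⟨V, v, hv, h, hh, ?_⟩
  have : h₁ w₁ = u := hw₁
  rwa [this] at hu

theorem pointwise {X Y U : Scheme.{u}} (f : X ⟶ Y) [IsIntegralHom f]
    (hf : Topology.IsInducing f) (g : U ⟶ X) [Etale g] (u : U) :
    ∃ (V : Scheme.{u}) (v : V ⟶ Y) (_ : Etale v) (h : pullback f v ⟶ U),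
      h ≫ g = pullback.fst f v ∧ u ∈ Set.range h := by
  have hopen : IsOpen (Set.range g) := g.isOpenMap.isOpen_range
  obtain ⟨Y₀s, hY₀s, hpre⟩ := hf.isOpen_iff.mp hopen
  let Y₀ : Y.Opens := ⟨Y₀s, hY₀s⟩
  have hj : Set.range (pullback.fst f Y₀.ι) = Set.range g := by
    rw [Scheme.Pullback.range_fst, Scheme.Opens.range_ι]
    exact hpre
  have hg' : Function.Surjective (pullback.snd g (pullback.fst f Y₀.ι)) := by
    intro x'
    have : pullback.fst f Y₀.ι x' ∈ Set.range g := by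
      rw [← hj]
      exact ⟨x', rfl⟩
    obtain ⟨u₀, hu₀⟩ := this
    obtain ⟨z, -, hz⟩ := Scheme.Pullback.exists_preimage_pullback (f := g)
      (g := pullback.fst f Y₀.ι) u₀ x' hu₀
    exact ⟨z, hz⟩
  have hgu : g u ∈ Set.range (pullback.fst f Y₀.ι) := by
    rw [hj]
    exact ⟨u, rfl⟩
  obtain ⟨x', hx'⟩ := hgu
  obtain ⟨u', hu'₁, -⟩ := Scheme.Pullback.exists_preimage_pullback (f := g)
    (g := pullback.fst f Y₀.ι) u x' hx'.symm
  obtain ⟨V, v, hv, h', hh', ⟨z, hz⟩⟩ := core (pullback.snd f Y₀.ι)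
    (pullback.snd g (pullback.fst f Y₀.ι)) hg' u'
  haveI := hv
  let e := pullbackLeftPullbackSndIso f Y₀.ι v
  refine ⟨V, v ≫ Y₀.ι, inferInstance, e.inv ≫ h' ≫ pullback.fst g (pullback.fst f Y₀.ι), ?_, ?_⟩
  · calc (e.inv ≫ h' ≫ pullback.fst g (pullback.fst f Y₀.ι)) ≫ g
        = e.inv ≫ (h' ≫ pullback.snd g (pullback.fst f Y₀.ι)) ≫ pullback.fst f Y₀.ι := by
          simp only [Category.assoc, pullback.condition]
      _ = e.inv ≫ pullback.fst (pullback.snd f Y₀.ι) v ≫ pullback.fst f Y₀.ι := by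
          rw [hh']
      _ = _ := pullbackLeftPullbackSndIso_inv_fst f Y₀.ι v
  · refine ⟨e.hom z, ?_⟩
    rw [← Scheme.Hom.comp_apply, e.hom_inv_id_assoc, Scheme.Hom.comp_apply, hz]
    exact hu'₁

theorem assemble {X Y U : Scheme.{u}} (f : X ⟶ Y) (g : U ⟶ X)
    (H : ∀ u : U, ∃ (V : Scheme.{u}) (v : V ⟶ Y) (_ : Etale v) (h : pullback f v ⟶ U),
      h ≫ g = pullback.fst f v ∧ u ∈ Set.range h) :
    ∃ (V : Scheme.{u}) (v : V ⟶ Y) (_ : Etale v) (h : pullback f v ⟶ U),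
      h ≫ g = pullback.fst f v ∧ Surjective h := by
  choose Vs vs hvs hs hhs hus using H
  haveI : Etale (Sigma.desc vs) := IsZariskiLocalAtSource.sigmaDesc (P := @Etale) hvs
  have hv_a : ∀ a, Sigma.ι Vs a ≫ Sigma.desc vs = vs a := fun a => Sigma.ι_desc vs a
  let O : ↥U → (pullback f (Sigma.desc vs)).Opens := fun a =>
    (pullback.snd f (Sigma.desc vs)) ⁻¹ᵁ (Sigma.ι Vs a).opensRange
  have hd : ∀ a b, a ≠ b → Disjoint (O a) (O b) := by
    intro a b hab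
    have := disjoint_opensRange_sigmaι Vs a b hab
    rw [disjoint_iff] at this ⊢
    show (pullback.snd f (Sigma.desc vs)) ⁻¹ᵁ _ ⊓ (pullback.snd f (Sigma.desc vs)) ⁻¹ᵁ _ = ⊥
    rw [← Scheme.Hom.preimage_inf, this, Scheme.Hom.preimage_bot]
  have hc : (⨆ a, O a) = ⊤ := by
    show (⨆ a, (pullback.snd f (Sigma.desc vs)) ⁻¹ᵁ (Sigma.ι Vs a).opensRange) = ⊤
    rw [← Scheme.Hom.preimage_iSup]
    have := (sigmaOpenCover Vs).iSup_opensRange
    erw [this]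
    rfl
  let lft : ∀ a, ((O a : (pullback f (Sigma.desc vs)).Opens) : Scheme.{u}) ⟶ Vs a := fun a =>
    IsOpenImmersion.lift (Sigma.ι Vs a) ((O a).ι ≫ pullback.snd f (Sigma.desc vs)) (by
      rintro _ ⟨w, rfl⟩
      exact w.2)
  have hlft : ∀ a, lft a ≫ Sigma.ι Vs a = (O a).ι ≫ pullback.snd f (Sigma.desc vs) :=
    fun a => IsOpenImmersion.lift_fac _ _ _
  let ψ : ∀ a, ((O a : (pullback f (Sigma.desc vs)).Opens) : Scheme.{u}) ⟶ pullback f (vs a) :=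
    fun a => pullback.lift ((O a).ι ≫ pullback.fst f (Sigma.desc vs)) (lft a) (by
      rw [Category.assoc, pullback.condition, ← Category.assoc, ← hlft a, Category.assoc, hv_a])
  have hψ₁ : ∀ a, ψ a ≫ pullback.fst f (vs a) = (O a).ι ≫ pullback.fst f (Sigma.desc vs) :=
    fun a => pullback.lift_fst _ _ _
  have hψ₂ : ∀ a, ψ a ≫ pullback.snd f (vs a) = lft a := fun a => pullback.lift_snd _ _ _
  obtain ⟨M, hM⟩ := glue O hd hc (fun a => ψ a ≫ hs a)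
  refine ⟨∐ Vs, Sigma.desc vs, inferInstance, M, ?_, ⟨fun a => ?_⟩⟩
  · apply hom_ext_cover O hc
    intro a
    rw [← Category.assoc, hM a, Category.assoc, hhs a, hψ₁ a]
  · obtain ⟨z, hz⟩ := hus a
    let c : pullback f (vs a) ⟶ pullback f (Sigma.desc vs) :=
      pullback.lift (pullback.fst f (vs a)) (pullback.snd f (vs a) ≫ Sigma.ι Vs a)
        (by rw [Category.assoc, hv_a, pullback.condition])
    have hc₁ : c ≫ pullback.fst f (Sigma.desc vs) = pullback.fst f (vs a) :=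
      pullback.lift_fst _ _ _
    have hc₂ : c ≫ pullback.snd f (Sigma.desc vs) = pullback.snd f (vs a) ≫ Sigma.ι Vs a :=
      pullback.lift_snd _ _ _
    have hcr : Set.range c ⊆ Set.range (O a).ι := by
      rintro _ ⟨t, rfl⟩
      rw [Scheme.Opens.range_ι]
      show pullback.snd f (Sigma.desc vs) (c t) ∈ (Sigma.ι Vs a).opensRange
      rw [← Scheme.Hom.comp_apply, hc₂, Scheme.Hom.comp_apply]
      exact ⟨_, rfl⟩
    have hc' : IsOpenImmersion.lift (O a).ι c hcr ≫ (O a).ι = c :=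
      IsOpenImmersion.lift_fac _ _ _
    have hid : IsOpenImmersion.lift (O a).ι c hcr ≫ ψ a = 𝟙 _ := by
      apply pullback.hom_ext
      · rw [Category.assoc, hψ₁ a, ← Category.assoc, hc', hc₁, Category.id_comp]
      · rw [Category.assoc, hψ₂ a, Category.id_comp, ← cancel_mono (Sigma.ι Vs a),
          Category.assoc, hlft a, ← Category.assoc, hc', hc₂]
    have hcM : c ≫ M = hs a := by
      calc c ≫ M = IsOpenImmersion.lift (O a).ι c hcr ≫ (O a).ι ≫ M := by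
            rw [← Category.assoc, hc']
        _ = (IsOpenImmersion.lift (O a).ι c hcr ≫ ψ a) ≫ hs a := by
            rw [hM a, Category.assoc]
        _ = hs a := by rw [hid, Category.id_comp]
    refine ⟨c z, ?_⟩
    rw [← Scheme.Hom.comp_apply, hcM]
    exact hz


/-- An integral morphism of schemes whose underlying continuous map is a homeomorphism onto a closed
subset (a closed topological embedding) satisfies condition (C): for every etale U ⟶ X there are an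
etale V ⟶ Y and a surjective X-morphism X ×_Y V ⟶ U. -/
theorem result {X Y : Scheme.{u}} (f : X ⟶ Y) [IsIntegralHom f]
    (hf : Topology.IsClosedEmbedding f.base) : BigSite.PropC f := by
  intro U g _
  exact assemble f g (fun u => pointwise f hf.isInducing g u)

end Groth.Agent.S6633
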