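import Groth.Statements.S6635
import Mathlib
import Groth.Agent.S6628
import Groth.Agent.S0412

set_option autoImplicit false
open CategoryTheory CategoryTheory.Limits AlgebraicGeometry Opposite
universe u
open BigSite

namespace Groth.Agent.S6635

theorem lemE {P T U : Scheme.{u}} (c : P ⟶ T) [IsClosedImmersion c] (g : U ⟶ P) [Etale g]
    (u : U) :
    ∃ (T₂ : Scheme.{u}) (m : T₂ ⟶ T) (_ : Etale m) (t₂ : T₂) (k : pullback c m ⟶ U),
      m t₂ = c (g u) ∧ k ≫ g = pullback.fst c m := by
  haveI : IsIntegralHom c := inferInstance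
  obtain ⟨V₁, v₁, hv₁, W, hWc, h, hh, w, hw⟩ := Groth.Agent.S6628.result c U g u
  haveI := hv₁
  have hcl : IsClosedMap (pullback.snd c v₁) :=
    (pullback.snd c v₁).isClosedEmbedding.isClosedMap
  have hinj : Function.Injective (pullback.snd c v₁) :=
    (pullback.snd c v₁).isClosedEmbedding.injective
  let T₂ : V₁.Opens := ⟨((pullback.snd c v₁) '' (W : Set ↥(pullback c v₁))ᶜ)ᶜ,
    (hcl _ W.isOpen.isClosed_compl).isOpen_compl⟩
  let β : pullback c (T₂.ι ≫ v₁) ⟶ pullback c v₁ :=
    pullback.lift (pullback.fst c (T₂.ι ≫ v₁)) (pullback.snd c (T₂.ι ≫ v₁) ≫ T₂.ι)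
      (by rw [Category.assoc]; exact pullback.condition)
  have hβ₁ : β ≫ pullback.fst c v₁ = pullback.fst c (T₂.ι ≫ v₁) := pullback.lift_fst _ _ _
  have hβ₂ : β ≫ pullback.snd c v₁ = pullback.snd c (T₂.ι ≫ v₁) ≫ T₂.ι :=
    pullback.lift_snd _ _ _
  have hβW : Set.range β ⊆ Set.range W.ι := by
    rintro _ ⟨z, rfl⟩
    rw [Scheme.Opens.range_ι]
    by_contra hz
    have h1 : (pullback.snd c v₁) (β z) ∈ (pullback.snd c v₁) '' (W : Set ↥(pullback c v₁))ᶜ :=
      ⟨β z, hz, rfl⟩
    have h2 : (pullback.snd c v₁) (β z) = T₂.ι (pullback.snd c (T₂.ι ≫ v₁) z) := by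
      rw [← Scheme.Hom.comp_apply, hβ₂, Scheme.Hom.comp_apply]
    rw [h2] at h1
    exact (pullback.snd c (T₂.ι ≫ v₁) z).2 h1
  have hβ' : IsOpenImmersion.lift W.ι β hβW ≫ W.ι = β := IsOpenImmersion.lift_fac _ _ _
  have ht₂ : (pullback.snd c v₁) (W.ι w) ∈ T₂ := by
    rintro ⟨z', hz', hzz⟩
    have := hinj hzz
    exact hz' (this ▸ w.2)
  refine ⟨T₂, T₂.ι ≫ v₁, inferInstance, ⟨(pullback.snd c v₁) (W.ι w), ht₂⟩,
    IsOpenImmersion.lift W.ι β hβW ≫ h, ?_, ?_⟩
  · have e1 : W.ι ≫ pullback.snd c v₁ ≫ v₁ = h ≫ g ≫ c := by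
      rw [← pullback.condition, ← Category.assoc, ← hh, Category.assoc]
    have e2 := congrArg (fun φ : (W : Scheme.{u}) ⟶ T => φ w) e1
    simp only [Scheme.Hom.comp_apply] at e2
    have hw' : h w = u := hw
    rw [hw'] at e2
    exact e2
  · rw [Category.assoc, hh, ← Category.assoc, hβ', hβ₁]

instance : MorphismProperty.IsMultiplicative @Smooth where
  id_mem _ := inferInstance
  comp_mem f g hf hg := MorphismProperty.comp_mem _ f g hf hg

theorem main (P : MorphismProperty Scheme.{u}) [P.IsStableUnderBaseChange] [P.IsMultiplicative]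
    (hP1 : ∀ {A B : Scheme.{u}} (g : A ⟶ B), P g → Smooth g)
    (hP2 : ∀ {A B : Scheme.{u}} (g : A ⟶ B), Etale g → P g)
    {X Y : Scheme.{u}} (f : X ⟶ Y) [IsClosedImmersion f] :
    BigSite.IsAlmostCocontinuous (Over.pullback f) (QuotSh.J (Scheme.precoverage P) Y)
      (QuotSh.J (Scheme.precoverage P) X) := by
  intro V R hR
  have hR' : Sieve.overEquiv _ R ∈ Scheme.grothendieckTopology P (pullback V.hom f) := hR
  obtain ⟨𝒰, h𝒰⟩ := Scheme.mem_grothendieckTopology_iff.mp hR'
  haveI : IsClosedImmersion (pullback.fst V.hom f) := inferInstance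
  have key : ∀ z : ↥(pullback V.hom f), ∃ (T₂ : Scheme.{u}) (m : T₂ ⟶ V.left) (_ : Etale m)
      (t₂ : T₂) (i : 𝒰.I₀) (k : pullback (pullback.fst V.hom f) m ⟶ 𝒰.X i),
      m t₂ = (pullback.fst V.hom f) z ∧ k ≫ 𝒰.f i = pullback.fst (pullback.fst V.hom f) m := by
    intro z
    obtain ⟨i, u, hu⟩ := 𝒰.exists_eq z
    haveI : Smooth (𝒰.f i) := hP1 _ (𝒰.map_prop i)
    obtain ⟨U', e, u', he, heu, s, hs⟩ := Groth.Agent.S0412.result (𝒰.f i) z ⟨u, hu⟩
    haveI := he
    obtain ⟨T₂, m, hm, t₂, k, hmt, hk⟩ := lemE (pullback.fst V.hom f) e u'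
    refine ⟨T₂, m, hm, t₂, i, k ≫ s, ?_, ?_⟩
    · rw [hmt, heu]
    · rw [Category.assoc, hs, hk]
  choose T₂ m hm t₂ idx k hmt hk using key
  let T₀ : V.left.Opens := ⟨(Set.range (pullback.fst V.hom f))ᶜ,
    (pullback.fst V.hom f).isClosedEmbedding.isClosed_range.isOpen_compl⟩
  let obj : Option ↥(pullback V.hom f) → Scheme.{u} := fun j => j.elim (T₀ : Scheme.{u}) T₂
  let mp : ∀ j, obj j ⟶ V.left := fun j =>
    Option.rec (motive := fun j => obj j ⟶ V.left) T₀.ι (fun z => m z) j
  let 𝒱 : V.left.Cover (Scheme.precoverage P) :=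
    Scheme.Cover.mkOfCovers (Option ↥(pullback V.hom f)) obj mp
      (by
        intro y
        by_cases hy : y ∈ Set.range (pullback.fst V.hom f)
        · obtain ⟨z, rfl⟩ := hy
          exact ⟨some z, t₂ z, hmt z⟩
        · exact ⟨none, ⟨y, hy⟩, rfl⟩)
      (by
        rintro (_ | z)
        · exact hP2 _ (inferInstanceAs (Etale T₀.ι))
        · exact hP2 _ (hm z))
  refine ⟨(Sieve.overEquiv V).symm (Sieve.ofArrows 𝒱.X 𝒱.f), ?_, ?_⟩
  · exact GrothendieckTopology.overEquiv_symm_mem_over _ V _ 𝒱.mem_grothendieckTopology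
  · intro W g hg
    rw [Sieve.overEquiv_symm_iff] at hg
    have hcond : pullback.fst W.hom f ≫ W.hom = pullback.snd W.hom f ≫ f := pullback.condition
    have hmapfst : ((Over.pullback f).map g).left ≫ pullback.fst V.hom f =
        pullback.fst W.hom f ≫ g.left := by
      exact pullback.lift_fst _ _ _
    have hpt : ∀ w : ↥(pullback W.hom f),
        V.hom (g.left (pullback.fst W.hom f w)) = f (pullback.snd W.hom f w) := by
      intro w
      have e := congrArg (fun φ : pullback W.hom f ⟶ Y => φ w) hcond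
      have e' : W.hom (pullback.fst W.hom f w) = f (pullback.snd W.hom f w) := e
      have e3 : g.left ≫ V.hom = W.hom := Over.w g
      have e4 := congrArg (fun φ : W.left ⟶ Y => φ (pullback.fst W.hom f w)) e3
      exact (show V.hom (g.left (pullback.fst W.hom f w)) = W.hom (pullback.fst W.hom f w)
        from e4).trans e'
    obtain ⟨Z, a, b, hb, hab⟩ := hg
    obtain ⟨j⟩ := hb
    rcases j with _ | z
    · left
      haveI : IsEmpty ↥(pullback W.hom f) := by
        refine ⟨fun w => ?_⟩
        have h1 : g.left (pullback.fst W.hom f w) ∈ T₀ := by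
          rw [← hab, Scheme.Hom.comp_apply]
          exact (a (pullback.fst W.hom f w)).2
        apply h1
        have h2 := hpt w
        obtain ⟨z, hz, -⟩ := Scheme.Pullback.exists_preimage_pullback (f := V.hom) (g := f) _ _ h2
        exact ⟨z, hz⟩
      show Sieve.overEquiv ((Over.pullback f).obj W) ⊥ ∈
        Scheme.grothendieckTopology P (pullback W.hom f)
      rw [map_bot]
      exact Scheme.bot_mem_grothendieckTopology _
    · right
      have hi : R (Over.homMk (𝒰.f (idx z)) :
          Over.mk (𝒰.f (idx z) ≫ ((Over.pullback f).obj V).hom) ⟶ (Over.pullback f).obj V) := by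
        rw [← Sieve.overEquiv_iff]
        exact h𝒰 _ _ (Presieve.ofArrows.mk (idx z))
      let a' : W.left ⟶ T₂ z := a
      have hab' : a' ≫ m z = g.left := hab
      let θ₀ : pullback W.hom f ⟶ pullback (pullback.fst V.hom f) (m z) :=
        pullback.lift ((Over.pullback f).map g).left (pullback.fst W.hom f ≫ a') (by
          rw [Category.assoc, hab', hmapfst])
      have hθ : θ₀ ≫ pullback.fst (pullback.fst V.hom f) (m z) = ((Over.pullback f).map g).left :=
        pullback.lift_fst _ _ _
      have hleft : ((Over.pullback f).map g).left = (θ₀ ≫ k z) ≫ 𝒰.f (idx z) := by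
        rw [Category.assoc, hk z, hθ]
      have hw : (θ₀ ≫ k z) ≫ 𝒰.f (idx z) ≫ ((Over.pullback f).obj V).hom =
          ((Over.pullback f).obj W).hom := by
        rw [← Category.assoc, ← hleft]
        exact Over.w ((Over.pullback f).map g)
      have hfac : (Over.pullback f).map g =
          (Over.homMk (θ₀ ≫ k z) hw : (Over.pullback f).obj W ⟶
            Over.mk (𝒰.f (idx z) ≫ ((Over.pullback f).obj V).hom)) ≫
          (Over.homMk (𝒰.f (idx z)) :
            Over.mk (𝒰.f (idx z) ≫ ((Over.pullback f).obj V).hom) ⟶ (Over.pullback f).obj V) := by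
        apply Over.OverMorphism.ext
        simp only [Over.comp_left, Over.homMk_left]
        exact hleft
      rw [hfac]
      exact R.downward_closed hi _


/-- For the etale and the smooth topologies: for a closed immersion of schemes f : X ⟶ Y the base change
functor V ↦ X ×_Y V from schemes over Y to schemes over X is almost cocontinuous between the big
sites: every covering sieve of X ×_Y V is answered by a covering sieve of V each of whose members
V_j either has X ×_Y V_j covered by the empty sieve or has X ×_Y V_j ⟶ X ×_Y V in the given sieve.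
(The published statement also covers the syntomic topology; this row treats the etale and smooth
topologies only.) -/
theorem result {X Y : Scheme.{u}} (f : X ⟶ Y) [IsClosedImmersion f]
    (K : Precoverage Scheme.{u}) (hK : K = Scheme.etalePrecoverage ∨ K = Scheme.precoverage @Smooth) :
    BigSite.IsAlmostCocontinuous (Over.pullback f) (QuotSh.J K Y) (QuotSh.J K X) := by
  rcases hK with rfl | rfl
  · exact main @Etale (fun g hg => by haveI := hg; infer_instance) (fun g hg => hg) f
  · exact main @Smooth (fun g hg => hg) (fun g hg => by haveI := hg; infer_instance) f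

end Groth.Agent.S6635
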