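import Groth.Statements.S6636
import Mathlib
import Groth.Agent.S6635

set_option autoImplicit false
open CategoryTheory CategoryTheory.Limits AlgebraicGeometry Opposite
universe u
open BigSite

namespace Groth.Agent.S6636

section General

variable {C : Type (u + 1)} [Category.{u} C] {D : Type (u + 1)} [Category.{u} D]
  (J : GrothendieckTopology C) (K : GrothendieckTopology D) (F : C ⥤ D) [F.IsContinuous J K]

theorem sheafify_comm (hu : BigSite.IsAlmostCocontinuous F J K) (G : Dᵒᵖ ⥤ Type (u + 1))
    (hG : ∀ V : D, (⊥ : Sieve V) ∈ K V → Nonempty (Unique (G.obj (op V)))) :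
    IsIso (((sheafificationAdjunction J (Type (u + 1))).homEquiv (F.op ⋙ G)
      ((F.sheafPushforwardContinuous (Type (u + 1)) J K).obj
        ((presheafToSheaf K (Type (u + 1))).obj G))).symm
        (Functor.whiskerLeft F.op (toSheafify K G))) := by
  classical
  have hsub : ∀ V : D, (⊥ : Sieve V) ∈ K V →
      Subsingleton (((presheafToSheaf K (Type (u + 1))).obj G).obj.obj (op V)) := by
    intro V hV
    have hsh := (isSheaf_iff_isSheaf_of_type K _).1
      ((presheafToSheaf K (Type (u + 1))).obj G).property
    constructor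
    intro a b
    exact (hsh.isSeparated _ hV).ext (fun Y f hf => hf.elim)
  have hinj : Presheaf.IsLocallyInjective J (Functor.whiskerLeft F.op (toSheafify K G)) := by
    constructor
    intro X x y h
    have h1 : Presheaf.equalizerSieve (F := G) (X := op (F.obj X.unop)) x y ∈ K (F.obj X.unop) :=
      Presheaf.equalizerSieve_mem K (toSheafify K G) (X := op (F.obj X.unop)) x y h
    obtain ⟨R', hR', hR'2⟩ := hu X.unop _ h1
    refine J.superset_covering ?_ hR'
    intro V g hg
    rcases hR'2 g hg with h0 | h0
    · obtain ⟨hU⟩ := hG _ h0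
      exact (@Unique.instSubsingleton _ hU).elim _ _
    · exact h0
  have hsurj : Presheaf.IsLocallySurjective J (Functor.whiskerLeft F.op (toSheafify K G)) := by
    constructor
    intro U s
    have h1 : Presheaf.imageSieve (toSheafify K G) (U := F.obj U) s ∈ K (F.obj U) :=
      Presheaf.imageSieve_mem K (toSheafify K G) (U := op (F.obj U)) s
    obtain ⟨R', hR', hR'2⟩ := hu U _ h1
    refine J.superset_covering ?_ hR'
    intro V g hg
    rcases hR'2 g hg with h0 | h0
    · obtain ⟨hU⟩ := hG _ h0
      refine ⟨hU.default, ?_⟩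
      exact (hsub _ h0).elim _ _
    · exact h0
  have hW : J.W (Functor.whiskerLeft F.op (toSheafify K G)) :=
    J.W_of_isLocallyBijective _
  have hiso : IsIso ((presheafToSheaf J (Type (u + 1))).map
      (Functor.whiskerLeft F.op (toSheafify K G))) :=
    (J.W_iff _).1 hW
  rw [Adjunction.homEquiv_counit]
  have hc : IsIso ((sheafificationAdjunction J (Type (u + 1))).counit.app
      ((F.sheafPushforwardContinuous (Type (u + 1)) J K).obj
        ((presheafToSheaf K (Type (u + 1))).obj G))) :=
    inferInstance
  exact @IsIso.comp_isIso _ _ _ _ _ _ _ hiso hc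

theorem preserves_connected (hu : BigSite.IsAlmostCocontinuous F J K) (I : Type) [SmallCategory I]
    [FinCategory I] [IsConnected I] :
    PreservesColimitsOfShape I (F.sheafPushforwardContinuous (Type (u + 1)) J K) := by
  classical
  constructor
  intro Fd
  let E : Cocone (Fd ⋙ sheafToPresheaf K (Type (u + 1))) := colimit.cocone _
  have hE : IsColimit E := colimit.isColimit _
  have hc : IsColimit (Sheaf.sheafifyCocone E) := Sheaf.isColimitSheafifyCocone E hE
  refine preservesColimit_of_preserves_colimit_cocone hc ?_
  let E' : Cocone ((Fd ⋙ F.sheafPushforwardContinuous (Type (u + 1)) J K) ⋙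
      sheafToPresheaf J (Type (u + 1))) :=
    ((Functor.whiskeringLeft Cᵒᵖ Dᵒᵖ (Type (u + 1))).obj F.op).mapCocone E
  have hE' : IsColimit E' :=
    isColimitOfPreserves ((Functor.whiskeringLeft Cᵒᵖ Dᵒᵖ (Type (u + 1))).obj F.op) hE
  have hc' : IsColimit (Sheaf.sheafifyCocone E') := Sheaf.isColimitSheafifyCocone E' hE'
  have hG : ∀ V : D, (⊥ : Sieve V) ∈ K V → Nonempty (Unique (E.pt.obj (op V))) := by
    intro V hV
    have hEv : IsColimit (((evaluation Dᵒᵖ (Type (u + 1))).obj (op V)).mapCocone E) :=
      isColimitOfPreserves ((evaluation Dᵒᵖ (Type (u + 1))).obj (op V)) hE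
    have hU : ∀ (i : I) (a b : (Fd.obj i).obj.obj (op V)), a = b := by
      intro i a b
      have hsh := (isSheaf_iff_isSheaf_of_type K _).1 (Fd.obj i).property
      exact (hsh.isSeparated _ hV).ext (fun Y f hf => hf.elim)
    have hne : ∀ i : I, Nonempty ((Fd.obj i).obj.obj (op V)) := by
      intro i
      have hsh := (isSheaf_iff_isSheaf_of_type K _).1 (Fd.obj i).property
      obtain ⟨t, -, -⟩ := hsh (⊥ : Sieve V) hV (fun Y f hf => hf.elim)
        (fun _ _ _ _ _ _ _ h => h.elim)
      exact ⟨t⟩
    have key : ∀ i j : I, ((E.ι.app i).app (op V) (hne i).some : E.pt.obj (op V)) =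
        ((E.ι.app j).app (op V) (hne j).some : E.pt.obj (op V)) := by
      refine constant_of_preserves_morphisms (α := E.pt.obj (op V))
        (fun i => ((E.ι.app i).app (op V) (hne i).some : E.pt.obj (op V))) ?_
      intro i j f
      show ((E.ι.app i).app (op V) (hne i).some : E.pt.obj (op V)) =
        ((E.ι.app j).app (op V) (hne j).some : E.pt.obj (op V))
      have h1 := E.w f
      have h2 : (E.ι.app i).app (op V) (hne i).some =
          (E.ι.app j).app (op V) ((Fd.map f).hom.app (op V) (hne i).some) := by
        rw [← h1]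
        rfl
      rw [h2]
      exact congrArg (fun t => ((E.ι.app j).app (op V) t : E.pt.obj (op V))) (hU j _ _)
    obtain ⟨i₀⟩ := (inferInstance : Nonempty I)
    refine ⟨⟨⟨(E.ι.app i₀).app (op V) (hne i₀).some⟩, fun y => ?_⟩⟩
    obtain ⟨j, z, rfl⟩ := Types.jointly_surjective_of_isColimit hEv y
    rw [hU j z (hne j).some]
    exact key j i₀
  have hm : IsIso (((sheafificationAdjunction J (Type (u + 1))).homEquiv (F.op ⋙ E.pt)
      ((F.sheafPushforwardContinuous (Type (u + 1)) J K).obj
        ((presheafToSheaf K (Type (u + 1))).obj E.pt))).symm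
        (Functor.whiskerLeft F.op (toSheafify K E.pt))) :=
    sheafify_comm J K F hu E.pt hG
  have hm2 : toSheafify J (F.op ⋙ E.pt) ≫
      (((sheafificationAdjunction J (Type (u + 1))).homEquiv (F.op ⋙ E.pt)
      ((F.sheafPushforwardContinuous (Type (u + 1)) J K).obj
        ((presheafToSheaf K (Type (u + 1))).obj E.pt))).symm
        (Functor.whiskerLeft F.op (toSheafify K E.pt))).hom =
      Functor.whiskerLeft F.op (toSheafify K E.pt) := by
    have := ((sheafificationAdjunction J (Type (u + 1))).homEquiv (F.op ⋙ E.pt)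
      ((F.sheafPushforwardContinuous (Type (u + 1)) J K).obj
        ((presheafToSheaf K (Type (u + 1))).obj E.pt))).apply_symm_apply
          (Functor.whiskerLeft F.op (toSheafify K E.pt))
    rw [Adjunction.homEquiv_unit] at this
    exact this
  refine IsColimit.ofIsoColimit hc' (Cocone.ext (@asIso _ _ _ _ _ hm) (fun i => ?_))
  apply Sheaf.hom_ext
  have e1 := Sheaf.sheafifyCocone_ι_app_val E' i
  have e2 := Sheaf.sheafifyCocone_ι_app_val E i
  change ((Sheaf.sheafifyCocone E').ι.app i).hom ≫ _ =
    Functor.whiskerLeft F.op ((Sheaf.sheafifyCocone E).ι.app i).hom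
  rw [e1, e2]
  refine (Category.assoc (E'.ι.app i) (toSheafify J E'.pt) _).trans ?_
  refine (congrArg (fun t => E'.ι.app i ≫ t) hm2).trans ?_
  rfl

theorem preserves_epi_ab (hu : BigSite.IsAlmostCocontinuous F J K) :
    (F.sheafPushforwardContinuous AddCommGrpCat.{u + 1} J K).PreservesEpimorphisms := by
  constructor
  intro A B φ hφ
  haveI : Sheaf.IsLocallySurjective φ := (Sheaf.isLocallySurjective_iff_epi' _ φ).2 hφ
  rw [← Sheaf.isLocallySurjective_iff_epi']
  constructor
  intro U s
  have h1 : Presheaf.imageSieve φ.hom (U := F.obj U) s ∈ K (F.obj U) :=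
    Presheaf.imageSieve_mem K φ.hom (U := op (F.obj U)) s
  obtain ⟨R', hR', hR'2⟩ := hu U _ h1
  refine J.superset_covering ?_ hR'
  intro V g hg
  rcases hR'2 g hg with h0 | h0
  · refine ⟨0, ?_⟩
    have hsh := (isSheaf_iff_isSheaf_of_type K _).1
      ((Presheaf.isSheaf_iff_isSheaf_forget K B.obj (forget AddCommGrpCat.{u + 1})).1 B.property)
    exact (hsh.isSeparated _ h0).ext (fun Y f hf => hf.elim)
  · exact h0

end General


/-- For the etale and the smooth topologies: for a closed immersion of schemes f : X ⟶ Y the big direct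
image along f preserves coequalizers and pushouts of sheaves of sets, and preserves finite colimits
of abelian sheaves (so it is exact there, being a right adjoint). (The published statement also
covers the syntomic topology; this row treats the etale and smooth topologies only.) -/
theorem result {X Y : Scheme.{u}} (f : X ⟶ Y) [IsClosedImmersion f]
    (K : Precoverage Scheme.{u}) (hK : K = Scheme.etalePrecoverage ∨ K = Scheme.precoverage @Smooth) :
    PreservesColimitsOfShape WalkingParallelPair (BigSite.pushBig K f (Type (u + 1))) ∧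
      PreservesColimitsOfShape WalkingSpan (BigSite.pushBig K f (Type (u + 1))) ∧
      PreservesFiniteColimits (BigSite.pushBig K f AddCommGrpCat.{u + 1}) := by
  have hac := Groth.Agent.S6635.result f K hK
  refine ⟨preserves_connected _ _ _ hac WalkingParallelPair,
    preserves_connected _ _ _ hac WalkingSpan, ?_⟩
  haveI := preserves_epi_ab _ _ _ hac
  haveI : PreservesLimitsOfSize.{0, 0} (BigSite.pushBig K f AddCommGrpCat.{u + 1}) :=
    (BigSite.bigAdj K f AddCommGrpCat.{u + 1}).rightAdjoint_preservesLimits
  haveI : PreservesFiniteLimits (BigSite.pushBig K f AddCommGrpCat.{u + 1}) := inferInstance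
  refine ((Functor.preservesFiniteColimits_tfae (BigSite.pushBig K f AddCommGrpCat.{u + 1})).out
    3 0).mpr ?_
  intro S hS
  have h0 := (Functor.preservesFiniteLimits_iff_forall_exact_map_and_mono
    (BigSite.pushBig K f AddCommGrpCat.{u + 1})).mp inferInstance
  have h1 := h0 S hS
  haveI := hS.epi_g
  exact ⟨h1.1, inferInstance⟩

end Groth.Agent.S6636
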