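import Groth.Statements.S6639
import Groth.Agent.H86.FrobSL3
import Mathlib.RingTheory.Flat.Basic
import Mathlib.FieldTheory.Finite.Basic
import Mathlib.LinearAlgebra.Dimension.Finite
import Mathlib.Algebra.CharP.Algebra

set_option autoImplicit false
universe u
open scoped TensorProduct
open EtBase

namespace Groth.Agent.S6639

/-- Let k ⟶ k' be a homomorphism of algebraically closed fields of characteristic p > 0 (an extension of
algebraically closed fields), V a finite-dimensional k-vector space, F : V ⟶ V additive with F(c •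
v) = c^p • F(v), and F' the additive endomorphism of V' = k' ⊗_k V satisfying F'(c ⊗ v) = c^p ⊗
F(v). Then v ↦ 1 ⊗ v maps the fixed vectors of F bijectively onto the fixed vectors of F'. -/
theorem result {k k' V : Type u} [Field k] [IsAlgClosed k] [Field k']
    [IsAlgClosed k'] [Algebra k k'] (p : ℕ) [Fact p.Prime] [CharP k p]
    [AddCommGroup V] [Module k V] [FiniteDimensional k V] (F : V →+ V)
    (hF : ∀ (c : k) (v : V), F (c • v) = c ^ p • F v)
    (F' : k' ⊗[k] V →+ k' ⊗[k] V) (hF' : ∀ (c : k') (v : V), F' (c ⊗ₜ[k] v) = (c ^ p) ⊗ₜ[k] F v) :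
    Set.BijOn (fun v : V => (1 : k') ⊗ₜ[k] v) {v : V | F v = v} {w : k' ⊗[k] V | F' w = w} := by
  classical
  have hp : p.Prime := Fact.out
  have hq : 2 ≤ p := hp.two_le
  have hq0 : 0 < p := by omega
  have hpk : (p : k) = 0 := CharP.cast_eq_zero k p
  haveI : CharP k' p := charP_of_injective_algebraMap (algebraMap k k').injective p
  refine ⟨?_, ?_, ?_⟩
  · intro v hv
    simp only [Set.mem_ofPred_eq] at hv ⊢
    rw [hF', one_pow, hv]
  · intro v _ v' _ h
    exact Module.Flat.tensorProduct_mk_injective k V k' h
  · intro w hw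
    simp only [Set.mem_ofPred_eq] at hw
    obtain ⟨M, hk, hr⟩ := Groth.Agent.H86.FrobSL.exists_stable F hF hq0
    have hspan := Groth.Agent.H86.FrobSL.span_fixed_eq_rangeIter F hF hq hpk hk hr
    obtain ⟨b, hbsub, hbspan, hbli⟩ := exists_linearIndependent k {v : V | F v = v}
    haveI : Finite b := hbli.finite
    haveI : Fintype b := Fintype.ofFinite b
    let g : b → k' ⊗[k] V := fun e => (1 : k') ⊗ₜ[k] (e : V)
    have hgli : LinearIndependent k' g := Module.Flat.linearIndependent_one_tmul hbli
    set S : Submodule k' (k' ⊗[k] V) := Submodule.span k' (Set.range g) with hS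
    -- semilinearity of F'
    have hF's : ∀ (c : k') (x : k' ⊗[k] V), F' (c • x) = c ^ p • F' x := by
      intro c x
      induction x using TensorProduct.induction_on with
      | zero => simp
      | tmul d v =>
        rw [TensorProduct.smul_tmul', smul_eq_mul, hF', hF', mul_pow, TensorProduct.smul_tmul',
          smul_eq_mul]
      | add x y hx hy => rw [smul_add, map_add, hx, hy, map_add, smul_add]
    have hF'it : ∀ (n : ℕ) (c : k') (v : V),
        (⇑F')^[n] (c ⊗ₜ[k] v) = (c ^ (p ^ n)) ⊗ₜ[k] ((⇑F)^[n] v) := by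
      intro n
      induction n with
      | zero => intro c v; simp
      | succ n ih =>
        intro c v
        rw [Function.iterate_succ_apply', Function.iterate_succ_apply', ih, hF', ← pow_mul,
          pow_succ]
    have hmem : ∀ c' : k', ∀ x ∈ Submodule.span k b, c' ⊗ₜ[k] x ∈ S := by
      intro c' x hx
      induction hx using Submodule.span_induction generalizing c' with
      | mem x hx =>
        have : c' ⊗ₜ[k] x = c' • ((1 : k') ⊗ₜ[k] x) := by
          rw [TensorProduct.smul_tmul', smul_eq_mul, mul_one]
        rw [this]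
        exact S.smul_mem _ (Submodule.subset_span ⟨⟨x, hx⟩, rfl⟩)
      | zero => rw [TensorProduct.tmul_zero]; exact S.zero_mem
      | add x y _ _ hx hy => rw [TensorProduct.tmul_add]; exact S.add_mem (hx c') (hy c')
      | smul a x _ hx =>
        rw [TensorProduct.tmul_smul, TensorProduct.smul_tmul']
        exact hx (a • c')
    have hall : ∀ x : k' ⊗[k] V, (⇑F')^[M] x ∈ S := by
      intro x
      induction x using TensorProduct.induction_on with
      | zero => rw [Groth.Agent.H86.FrobSL.iterate_zero]; exact S.zero_mem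
      | tmul c v =>
        rw [hF'it]
        apply hmem
        rw [hbspan, hspan]
        exact ⟨v, rfl⟩
      | add x y hx hy => rw [Groth.Agent.H86.FrobSL.iterate_add]; exact S.add_mem hx hy
    have hwS : w ∈ S := by
      have h1 : (⇑F')^[M] w = w := Function.iterate_fixed hw M
      rw [← h1]; exact hall w
    obtain ⟨d, hd⟩ := (Submodule.mem_span_range_iff_exists_fun k').mp hwS
    have hgfix : ∀ e : b, F' (g e) = g e := by
      intro e
      show F' ((1 : k') ⊗ₜ[k] (e : V)) = (1 : k') ⊗ₜ[k] (e : V)
      rw [hF', one_pow, hbsub e.2]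
    have hFw : F' w = ∑ e, (d e) ^ p • g e := by
      rw [← hd, map_sum]
      exact Finset.sum_congr rfl fun e _ => by rw [hF's, hgfix]
    have hdp : ∀ e, d e ^ p = d e := by
      intro e
      exact hgli.eq_coords_of_eq (f := fun e => d e ^ p) (g := d) (by rw [← hFw, hd, hw]) e
    have hint : ∀ e, ∃ n : ℤ, (n : k') = d e := by
      intro e
      exact (mem_bot_iff_intCast p k').mp ((Subfield.mem_bot_iff_pow_eq_self k' p).mpr (hdp e))
    choose n hn using hint
    refine ⟨∑ e : b, n e • (e : V), ?_, ?_⟩
    · simp only [Set.mem_ofPred_eq]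
      rw [map_sum]
      exact Finset.sum_congr rfl fun e _ => by rw [map_zsmul, hbsub e.2]
    · show (1 : k') ⊗ₜ[k] (∑ e : b, n e • (e : V)) = w
      rw [TensorProduct.tmul_sum, ← hd]
      refine Finset.sum_congr rfl fun e _ => ?_
      have h1 : (1 : k') ⊗ₜ[k] (n e • (e : V)) = n e • ((1 : k') ⊗ₜ[k] (e : V)) :=
        map_zsmul (TensorProduct.mk k k' V 1) (n e) (e : V)
      rw [h1, ← hn e, Int.cast_smul_eq_zsmul]

end Groth.Agent.S6639
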