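import Groth.Statements.S6646
import Mathlib
import Groth.Agent.H4.LocConstSerreMod

set_option autoImplicit false
open CategoryTheory CategoryTheory.Limits AlgebraicGeometry Opposite
universe u
open EtModW

namespace Groth.Agent.S6646

open Groth.Agent.H4 Groth.Agent.H4.GenStalkMod Groth.Agent.H4.OverConst Groth.Agent.H4.LocConstSerreMod

/-- For a Noetherian coefficient ring Λ, on the small etale site of a scheme, kernels and cokernels of
maps between finite type locally constant sheaves of Λ-modules are finite type locally constant, and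
that property is closed under extensions (a weak Serre subcategory). -/
theorem result (Λ : Type (u + 1)) [CommRing Λ] [IsNoetherianRing Λ] (X : Scheme.{u}) :
    (∀ (F G : EtModW.Mod Λ X) (φ : F ⟶ G), EtModW.IsFTLocConst Λ F → EtModW.IsFTLocConst Λ G →
      EtModW.IsFTLocConst Λ (kernel φ) ∧ EtModW.IsFTLocConst Λ (cokernel φ)) ∧
    ObjectProperty.IsClosedUnderExtensions (fun F : EtModW.Mod Λ X => EtModW.IsFTLocConst Λ F) := by
  refine ⟨fun F G φ hF hG => ?_, ⟨fun {S} hS h₁ h₃ => ?_⟩⟩
  · have key : ∀ x : X, ∃ (W' : X.Etale) (w' : W'.left) (K Q : ModuleCat.{u + 1} Λ),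
        W'.hom.base w' = x ∧ Module.Finite Λ K ∧ Module.Finite Λ Q ∧
        Nonempty ((kernel φ).over W' ≅ (cs (X := X) K).over W') ∧
        Nonempty ((cokernel φ).over W' ≅ (cs (X := X) Q).over W') := by
      intro x
      obtain ⟨W, w, M, N, hw, hM, hN, ⟨a⟩, ⟨b⟩⟩ := exists_common_triv F G hF hG x
      obtain ⟨W', g, w', K, Q, hgw, hK, hQ, hk, hq⟩ := ker_coker_local F G φ w M N a b
      refine ⟨W', w', K, Q, ?_, hK, hQ, hk, hq⟩
      have hw' : g.left ≫ W.hom = W'.hom := MorphismProperty.Over.w g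
      rw [← hw', Scheme.Hom.comp_apply, hgw, hw]
    constructor
    · apply ftlc_of_local
      intro x
      obtain ⟨W', w', K, Q, h1, hK, hQ, hk, hq⟩ := key x
      exact ⟨W', w', K, h1, hK, hk⟩
    · apply ftlc_of_local
      intro x
      obtain ⟨W', w', K, Q, h1, hK, hQ, hk, hq⟩ := key x
      exact ⟨W', w', Q, h1, hQ, hq⟩
  · apply ftlc_of_local
    intro x
    obtain ⟨W, w, A, C, hw, hA, hC, ⟨a₁⟩, ⟨a₃⟩⟩ := exists_common_triv S.X₁ S.X₃ h₁ h₃ x
    obtain ⟨W', g, w', B, hgw, hB, hiso⟩ := ext_local S hS w A C a₁ a₃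
    refine ⟨W', w', B, ?_, hB, hiso⟩
    have hw' : g.left ≫ W.hom = W'.hom := MorphismProperty.Over.w g
    rw [← hw', Scheme.Hom.comp_apply, hgw, hw]

end Groth.Agent.S6646
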