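import Groth.Statements.S6647
import Mathlib
import Groth.Agent.H4.OverConst

set_option autoImplicit false
open CategoryTheory CategoryTheory.Limits AlgebraicGeometry Opposite
universe u
open EtCore

namespace Groth.Agent.S6647

open Groth.Agent.H4 Groth.Agent.H4.SkyH1 Groth.Agent.H4.GenStalk Groth.Agent.H4.OverConst

/-- Let φ : F ⟶ G be a map of locally constant abelian sheaves on the small etale site of a scheme X,
with F finite locally constant. Then on the members of some etale covering of X the restriction of φ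
is, up to isomorphisms with constant sheaves on both sides, the map of constant sheaves induced by a
homomorphism of abelian groups. -/
theorem result {X : Scheme.{u}} (F G : EtCoh.Ab X) (φ : F ⟶ G)
    (hF : EtCoh.IsFiniteLocallyConstant F) (hG : EtRest.IsLocallyConstant G) :
    ∃ (ι : Type u) (U : ι → X.Etale), EtCoh.Covers U ∧ ∀ i, ∃ (M N : Type (u + 1)) (_ : AddCommGroup M) (_ : AddCommGroup N)
      (h : M →+ N)
      (α : EtCoh.restr F (U i) ≅ (constantSheaf (X.smallEtaleTopology.over (U i)) AddCommGrpCat.{u + 1}).obj (AddCommGrpCat.of M))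
      (β : EtCoh.restr G (U i) ≅ (constantSheaf (X.smallEtaleTopology.over (U i)) AddCommGrpCat.{u + 1}).obj (AddCommGrpCat.of N)),
      (X.smallEtaleTopology.overPullback AddCommGrpCat.{u + 1} (U i)).map φ ≫ β.hom = α.hom ≫ (constantSheaf (X.smallEtaleTopology.over (U i)) AddCommGrpCat.{u + 1}).map (AddCommGrpCat.ofHom h) := by
  obtain ⟨ι₁, U, hU, hF'⟩ := hF
  obtain ⟨ι₂, V, hV, hG'⟩ := hG
  have loc : ∀ (i : ι₁) (j : ι₂) (w : (prodEt (U i) (V j)).left),
      ∃ (W' : X.Etale) (w' : W'.left), W'.hom.base w' = (prodEt (U i) (V j)).hom.base w ∧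
      ∃ (M N : Type (u + 1)) (_ : AddCommGroup M) (_ : AddCommGroup N)
      (h : M →+ N)
      (α : EtCoh.restr F W' ≅ (constantSheaf (X.smallEtaleTopology.over W') AddCommGrpCat.{u + 1}).obj (AddCommGrpCat.of M))
      (β : EtCoh.restr G W' ≅ (constantSheaf (X.smallEtaleTopology.over W') AddCommGrpCat.{u + 1}).obj (AddCommGrpCat.of N)),
      (X.smallEtaleTopology.overPullback AddCommGrpCat.{u + 1} W').map φ ≫ β.hom = α.hom ≫ (constantSheaf (X.smallEtaleTopology.over W') AddCommGrpCat.{u + 1}).map (AddCommGrpCat.ofHom h) := by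
    intro i j w
    obtain ⟨M₀, _, _, ⟨α₀⟩⟩ := hF' i
    obtain ⟨N, _, ⟨β₀⟩⟩ := hG' j
    let W := prodEt (U i) (V j)
    let a : F.over W ≅ (cs (X := X) (AddCommGrpCat.of (ULift.{u + 1} M₀))).over W :=
      resIso (prodFst (U i) (V j)) (α₀ ≪≫ constOverIso (U i) (AddCommGrpCat.of (ULift.{u + 1} M₀)))
    let b : G.over W ≅ (cs (X := X) (AddCommGrpCat.of N)).over W :=
      resIso (prodSnd (U i) (V j)) (β₀ ≪≫ constOverIso (V j) (AddCommGrpCat.of N))
    let ψ : (cs (X := X) (AddCommGrpCat.of (ULift.{u + 1} M₀))).over W ⟶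
        (cs (X := X) (AddCommGrpCat.of N)).over W :=
      a.inv ≫ (X.smallEtaleTopology.overPullback AddCommGrpCat.{u + 1} W).map φ ≫ b.hom
    obtain ⟨W', g, w', h, hgw, hψ⟩ := LCmap (ULift.{u + 1} M₀) N W w ψ
    refine ⟨W', w', ?_, ULift.{u + 1} M₀, N, inferInstance, inferInstance, h,
      resIso g a ≪≫ (constOverIso W' (AddCommGrpCat.of (ULift.{u + 1} M₀))).symm,
      resIso g b ≪≫ (constOverIso W' (AddCommGrpCat.of N)).symm, ?_⟩
    · have hw : g.left ≫ W.hom = W'.hom := MorphismProperty.Over.w g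
      rw [← hw, Scheme.Hom.comp_apply, hgw]
    · show (X.smallEtaleTopology.overPullback AddCommGrpCat.{u + 1} W').map φ ≫
          (resHom g b.hom ≫ (constOverIso W' (AddCommGrpCat.of N)).inv) =
        (resHom g a.hom ≫ (constOverIso W' (AddCommGrpCat.of (ULift.{u + 1} M₀))).inv) ≫
          (constantSheaf (X.smallEtaleTopology.over W') AddCommGrpCat.{u + 1}).map
            (AddCommGrpCat.ofHom h)
      rw [Category.assoc, constOverIso_inv_naturality, ← hψ, ← Category.assoc (resHom g a.hom),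
        ← resHom_comp, ← resHom_overPullback_map g φ, ← Category.assoc, ← resHom_comp]
      congr 2
      show _ = a.hom ≫ a.inv ≫ _
      rw [Iso.hom_inv_id_assoc]
  choose W' w' hw' hrest using loc
  refine ⟨Σ i : ι₁, Σ j : ι₂, ↥(prodEt (U i) (V j)).left, fun p => W' p.1 p.2.1 p.2.2, ?_,
    fun p => hrest p.1 p.2.1 p.2.2⟩
  intro x
  obtain ⟨i, y, hy⟩ := hU x
  obtain ⟨j, z, hz⟩ := hV x
  obtain ⟨w, hw⟩ := exists_prod_point (U i) (V j) y z (hy.trans hz.symm)
  exact ⟨⟨i, j, w⟩, w' i j w, (hw' i j w).trans (hw.trans hy)⟩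

end Groth.Agent.S6647
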