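import Groth.Statements.S6648
import Mathlib
import Groth.Agent.H4.GeomPoints

set_option autoImplicit false
open CategoryTheory CategoryTheory.Limits AlgebraicGeometry Opposite
universe u
open EtCore

namespace Groth.Agent.S6648

/-- For a sheaf of (commutative) rings O on the small etale site of a scheme S, the set of points s of S
over which some geometric stalk of O is a nonzero ring is closed in S. (Rings are taken in the
universe of the schemes, as for the structure presheaf of the prelude.) -/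
theorem result {S : Scheme.{u}} (O : Sheaf S.smallEtaleTopology CommRingCat.{u}) :
    IsClosed {s : ↥S | ∃ (Ω : Type u) (_ : Field Ω) (_ : IsSepClosed Ω) (ξ : Spec (CommRingCat.of Ω) ⟶ S),
      ξ.base default = s ∧ Nontrivial ↑((Scheme.pointSmallEtale ξ).presheafFiber.obj O.obj)} := by
  rw [← isOpen_compl_iff, isOpen_iff_forall_mem_open]
  intro s hs
  obtain ⟨Ω, hΩ, hΩ', ξ, t, ht⟩ :=
    Groth.Agent.H4.exists_geometric_point (Scheme.Etale.mk (𝟙 S)) s
  have hw0 : t.left ≫ 𝟙 S = ξ := Over.w t
  have hw : t.left = ξ := (Category.comp_id _).symm.trans hw0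
  have hξs : ξ.base (default : Spec (CommRingCat.of Ω)) = s :=
    (congrArg (fun q : Spec (CommRingCat.of Ω) ⟶ S =>
      q.base (default : Spec (CommRingCat.of Ω))) hw).symm.trans ht
  have htriv : ¬ Nontrivial ↑((Scheme.pointSmallEtale ξ).presheafFiber.obj O.obj) := by
    intro hnt
    exact hs ⟨Ω, hΩ, hΩ', ξ, hξs, hnt⟩
  rw [not_nontrivial_iff_subsingleton] at htriv
  have h1 : (Scheme.pointSmallEtale ξ).toPresheafFiber _ t O.obj 1 =
      (Scheme.pointSmallEtale ξ).toPresheafFiber _ t O.obj 0 := Subsingleton.elim _ _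
  obtain ⟨V, g, v, hv, hg⟩ :=
    ((Scheme.pointSmallEtale ξ).toPresheafFiber_eq_iff' _ t 1 0).1 h1
  rw [map_one, map_zero] at hg
  refine ⟨Set.range V.hom.base, ?_, V.hom.isOpenMap.isOpen_range, ?_⟩
  · rintro s' ⟨v', rfl⟩ ⟨Ω', _, _, ξ', hξ', hnt⟩
    obtain ⟨l, hl1, hl2⟩ :=
      Scheme.exists_fac_of_etale_of_isSepClosed V.hom ξ' v' hξ'.symm
    let τ' : (Over.mk ξ' : Over S) ⟶ (Scheme.Etale.forget S).obj V := Over.homMk l hl1
    have h2 : (1 : ↑((Scheme.pointSmallEtale ξ').presheafFiber.obj O.obj)) = 0 := by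
      have h3 : (Scheme.pointSmallEtale ξ').toPresheafFiber V τ' O.obj 1 =
          (Scheme.pointSmallEtale ξ').toPresheafFiber V τ' O.obj 0 := by
        rw [hg]
      rw [map_one, map_zero] at h3
      exact h3
    exact one_ne_zero h2
  · refine ⟨v.left.base (default : Spec (CommRingCat.of Ω)), ?_⟩
    have hw2 : v.left ≫ V.hom = ξ := Over.w v
    rw [← hξs]
    exact congrArg (fun q : Spec (CommRingCat.of Ω) ⟶ S =>
      q.base (default : Spec (CommRingCat.of Ω))) hw2

end Groth.Agent.S6648
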