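import Groth.Statements.S6649
import Groth.Agent.S0214
import Groth.Agent.S0212
import Groth.Agent.H54.AffineTrdeg
import Groth.Agent.H29.TopDim
import Mathlib.AlgebraicGeometry.Morphisms.FiniteType
import Mathlib.RingTheory.Spectrum.Prime.Topology

set_option autoImplicit false
open CategoryTheory CategoryTheory.Limits AlgebraicGeometry Opposite
universe u
open Curves

namespace Groth.Agent.S6649

/-- For a curve C over an algebraically closed field k (C integral of dimension one, separated and of
finite type over k) the Brauer group of the function field of C is zero: every finite-dimensional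
central division algebra over the function field has dimension one. -/
theorem result (k : Type u) [Field k] [IsAlgClosed k] (C : Scheme.{u})
    (f : C ⟶ Spec (CommRingCat.of k)) [IsSeparated f] [LocallyOfFiniteType f] [QuasiCompact f] [IsIntegral C]
    (hdim : topologicalKrullDim ↥C = 1)
    (D : Type u) [DivisionRing D] [Algebra ↑C.functionField D] [Algebra.IsCentral ↑C.functionField D]
    [FiniteDimensional ↑C.functionField D] : Module.finrank ↑C.functionField D = 1 := by
  classical
  -- an affine open of dimension one
  obtain ⟨p, hp⟩ : ∃ p : LTSeries (TopologicalSpace.IrreducibleCloseds C), p.length = 1 := by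
    apply Order.le_krullDim_iff.mp
    show ((1 : ℕ) : WithBot ℕ∞) ≤ topologicalKrullDim C
    rw [hdim]
    rfl
  obtain ⟨x, hx⟩ := (p.head).isIrreducible.nonempty
  obtain ⟨_, ⟨U, hU, rfl⟩, hxU, -⟩ :=
    C.isBasis_affineOpens.exists_subset_of_mem_open (Set.mem_univ x) isOpen_univ
  haveI : Nonempty U := ⟨⟨x, hxU⟩⟩
  have hdimU : topologicalKrullDim (U : Set C) = 1 := by
    apply le_antisymm
    · rw [← hdim]
      exact topologicalKrullDim_subspace_le C U
    · have h1 := Groth.Agent.H29.length_le_dim_open p x hx U U.isOpen hxU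
      rw [hp] at h1
      exact_mod_cast h1
  have hhomeo : IsHomeomorph (TopCat.homeoOfIso (Scheme.forgetToTop.mapIso hU.isoSpec)) :=
    (TopCat.homeoOfIso (Scheme.forgetToTop.mapIso hU.isoSpec)).isHomeomorph
  have hRing : ringKrullDim Γ(C, U) = 1 := by
    rw [← PrimeSpectrum.topologicalKrullDim_eq_ringKrullDim, ← hdimU]
    exact (IsHomeomorph.topologicalKrullDim_eq _ hhomeo).symm
  -- the coordinate ring is a finitely generated domain over k
  let φ : k →+* Γ(C, U) :=
    (f.appLE ⊤ U (fun _ _ => trivial)).hom.comp (Scheme.ΓSpecIso (CommRingCat.of k)).inv.hom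
  have hφ : φ.FiniteType := by
    refine RingHom.FiniteType.comp ?_ ?_
    · exact HasRingHomProperty.appLE @LocallyOfFiniteType f inferInstance
        ⟨⊤, isAffineOpen_top _⟩ ⟨U, hU⟩ _
    · refine RingHom.FiniteType.of_surjective _ (fun y => ?_)
      exact ⟨(Scheme.ΓSpecIso (CommRingCat.of k)).hom.hom y, by simp⟩
  letI : Algebra k Γ(C, U) := φ.toAlgebra
  haveI : Algebra.FiniteType k Γ(C, U) := hφ
  obtain ⟨n, hn1, hn2⟩ := Groth.Agent.H54.exists_ringKrullDim_eq_trdeg k Γ(C, U)
  have hn : n = 1 := by
    have h2 : (n : WithBot ℕ∞) = 1 := by rw [← hn2, hRing]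
    exact_mod_cast h2
  subst hn
  letI : Algebra k C.functionField :=
    ((algebraMap Γ(C, U) C.functionField).comp (algebraMap k Γ(C, U))).toAlgebra
  haveI : IsScalarTower k Γ(C, U) C.functionField :=
    IsScalarTower.of_algebraMap_eq (fun _ => rfl)
  haveI : IsFractionRing Γ(C, U) C.functionField :=
    functionField_isFractionRing_of_isAffineOpen C U hU
  have htr : Algebra.trdeg k C.functionField = ((1 : ℕ) : Cardinal.{u}) :=
    (Groth.Agent.H54.trdeg_eq_trdeg_of_isFractionRing k Γ(C, U) C.functionField).trans hn1
  have hCi := Groth.Agent.S0212.result k C.functionField 1 htr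
  have hCr : Curves.IsCr C.functionField 1 := by
    intro n d F hF hd hdn
    obtain ⟨a, ha, hz⟩ := hCi 1 n (fun _ => F) (fun _ => d) (fun _ => hF) (fun _ => hd)
      (by simpa using hdn)
    exact ⟨a, ha, hz 0⟩
  exact Groth.Agent.S0214.result C.functionField hCr D

end Groth.Agent.S6649
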