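import Groth.Statements.S6655
import Mathlib
import Groth.Agent.H4.OverConstMod

set_option autoImplicit false
open CategoryTheory CategoryTheory.Limits AlgebraicGeometry Opposite
universe u
open EtModW

namespace Groth.Agent.S6655

open Groth.Agent.H4 Groth.Agent.H4.GenStalkMod Groth.Agent.H4.OverConst Groth.Agent.H4.OverConstMod

/-- Part (3): with both sheaves of finite type: let Λ be a commutative ring and φ : F ⟶ G a map of
finite type locally constant sheaves of Λ-modules on the small etale site of a scheme X. Then on the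
members of some etale covering of X the restriction of φ is, up to isomorphisms with constant
sheaves on both sides, the map of constant sheaves induced by a Λ-linear map. (The published
statement allows G to be any locally constant sheaf of Λ-modules; this row assumes G of finite type
as well.) -/
theorem result (Λ : Type (u + 1)) [CommRing Λ] {X : Scheme.{u}} (F G : EtModW.Mod Λ X)
    (φ : F ⟶ G) (hF : EtModW.IsFTLocConst Λ F) (hG : EtModW.IsFTLocConst Λ G) :
    ∃ (ι : Type u) (U : ι → X.Etale), EtCoh.Covers U ∧ ∀ i, ∃ (M N : Type (u + 1)) (_ : AddCommGroup M) (_ : AddCommGroup N)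
      (_ : Module Λ M) (_ : Module Λ N) (h : M →ₗ[Λ] N)
      (α : EtModW.restr Λ F (U i) ≅ (constantSheaf (X.smallEtaleTopology.over (U i)) (ModuleCat.{u + 1} Λ)).obj (ModuleCat.of Λ M))
      (β : EtModW.restr Λ G (U i) ≅ (constantSheaf (X.smallEtaleTopology.over (U i)) (ModuleCat.{u + 1} Λ)).obj (ModuleCat.of Λ N)),
      (X.smallEtaleTopology.overPullback (ModuleCat.{u + 1} Λ) (U i)).map φ ≫ β.hom =
        α.hom ≫ (constantSheaf (X.smallEtaleTopology.over (U i)) (ModuleCat.{u + 1} Λ)).map (ModuleCat.ofHom h) := by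
  obtain ⟨ι₁, U, hU, hF'⟩ := hF
  obtain ⟨ι₂, V, hV, hG'⟩ := hG
  have loc : ∀ (i : ι₁) (j : ι₂) (w : (prodEt (U i) (V j)).left),
      ∃ (W' : X.Etale) (w' : W'.left), W'.hom.base w' = (prodEt (U i) (V j)).hom.base w ∧
      ∃ (M N : Type (u + 1)) (_ : AddCommGroup M) (_ : AddCommGroup N)
      (_ : Module Λ M) (_ : Module Λ N) (h : M →ₗ[Λ] N)
      (α : EtModW.restr Λ F W' ≅ (constantSheaf (X.smallEtaleTopology.over W') (ModuleCat.{u + 1} Λ)).obj (ModuleCat.of Λ M))
      (β : EtModW.restr Λ G W' ≅ (constantSheaf (X.smallEtaleTopology.over W') (ModuleCat.{u + 1} Λ)).obj (ModuleCat.of Λ N)),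
      (X.smallEtaleTopology.overPullback (ModuleCat.{u + 1} Λ) W').map φ ≫ β.hom =
        α.hom ≫ (constantSheaf (X.smallEtaleTopology.over W') (ModuleCat.{u + 1} Λ)).map (ModuleCat.ofHom h) := by
    intro i j w
    obtain ⟨M, _, _, _, ⟨α₀⟩⟩ := hF' i
    obtain ⟨N, _, _, _, ⟨β₀⟩⟩ := hG' j
    let W := prodEt (U i) (V j)
    let a : F.over W ≅ (cs (X := X) (ModuleCat.of Λ M)).over W :=
      resIso (prodFst (U i) (V j)) (α₀ ≪≫ constOverIso (U i) (ModuleCat.of Λ M))
    let b : G.over W ≅ (cs (X := X) (ModuleCat.of Λ N)).over W :=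
      resIso (prodSnd (U i) (V j)) (β₀ ≪≫ constOverIso (V j) (ModuleCat.of Λ N))
    let ψ : (cs (X := X) (ModuleCat.of Λ M)).over W ⟶
        (cs (X := X) (ModuleCat.of Λ N)).over W :=
      a.inv ≫ (X.smallEtaleTopology.overPullback (ModuleCat.{u + 1} Λ) W).map φ ≫ b.hom
    obtain ⟨W', g, w', h, hgw, hψ⟩ := LCmap M N W w ψ
    refine ⟨W', w', ?_, M, N, inferInstance, inferInstance, inferInstance, inferInstance, h,
      resIso g a ≪≫ (constOverIso W' (ModuleCat.of Λ M)).symm,
      resIso g b ≪≫ (constOverIso W' (ModuleCat.of Λ N)).symm, ?_⟩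
    · have hw : g.left ≫ W.hom = W'.hom := MorphismProperty.Over.w g
      rw [← hw, Scheme.Hom.comp_apply, hgw]
    · show (X.smallEtaleTopology.overPullback (ModuleCat.{u + 1} Λ) W').map φ ≫
          (resHom g b.hom ≫ (constOverIso W' (ModuleCat.of Λ N)).inv) =
        (resHom g a.hom ≫ (constOverIso W' (ModuleCat.of Λ M)).inv) ≫
          (constantSheaf (X.smallEtaleTopology.over W') (ModuleCat.{u + 1} Λ)).map
            (ModuleCat.ofHom h)
      rw [Category.assoc, OverConstMod.constOverIso_inv_naturality, ← hψ, ← Category.assoc (resHom g a.hom),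
        ← resHom_comp, ← resHom_overPullback_map g φ, ← Category.assoc, ← resHom_comp]
      congr 2
      show _ = a.hom ≫ a.inv ≫ _
      rw [Iso.hom_inv_id_assoc]
  choose W' w' hw' hrest using loc
  refine ⟨Σ i : ι₁, Σ j : ι₂, ↥(prodEt (U i) (V j)).left, fun p => W' p.1 p.2.1 p.2.2, ?_,
    fun p => hrest p.1 p.2.1 p.2.2⟩
  intro x
  obtain ⟨i, y, hy⟩ := hU x
  obtain ⟨j, z, hz⟩ := hV x
  obtain ⟨w, hw⟩ := exists_prod_point (U i) (V j) y z (hy.trans hz.symm)
  exact ⟨⟨i, j, w⟩, w' i j w, (hw' i j w).trans (hw.trans hy)⟩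

end Groth.Agent.S6655
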