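import Groth.Statements.S6657
-- import your own Groth.Agent.* helpers here
import Groth.Agent.H45.EtLocCoh
import Groth.Agent.H4.EtaleRes

set_option autoImplicit false
universe u
open CategoryTheory CategoryTheory.Limits AlgebraicGeometry Opposite
open EtDual

namespace Groth.Agent.S6657

section Aux

variable {Z X U : Scheme.{u}} (i : Z ⟶ X) (j : U ⟶ X) [IsOpenImmersion j]

lemma isEmpty_bc (hZU : Set.range j = (Set.range i)ᶜ) (V : U.Etale) :
    IsEmpty ((EtCoh.bc i).obj ((EtShriek.compEtale j).obj V)).left := by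
  constructor
  intro z
  have hcond : pullback.fst (V.hom ≫ j) i ≫ (V.hom ≫ j) = pullback.snd (V.hom ≫ j) i ≫ i :=
    pullback.condition
  have h1 : j (V.hom (pullback.fst (V.hom ≫ j) i z)) = i (pullback.snd (V.hom ≫ j) i z) := by
    rw [← Scheme.Hom.comp_apply, ← Scheme.Hom.comp_apply, ← Scheme.Hom.comp_apply, hcond]
  have h2 : j (V.hom (pullback.fst (V.hom ≫ j) i z)) ∈ Set.range j := ⟨_, rfl⟩
  rw [hZU] at h2
  exact h2 ⟨_, h1.symm⟩

lemma isZero_of_subsingleton (S : EtCoh.Ab U)
    (h : ∀ V : U.Etale, Subsingleton (S.obj.obj (op V))) : IsZero S := by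
  rw [IsZero.iff_id_eq_zero]
  apply Sheaf.hom_ext
  apply NatTrans.ext
  funext V
  apply AddCommGrpCat.hom_ext
  ext x
  haveI := h V.unop
  exact Subsingleton.elim _ _

lemma isZero_pull_push (hZU : Set.range j = (Set.range i)ᶜ) (G : EtCoh.Ab Z) :
    IsZero ((EtCoh.pull j).obj ((EtCoh.push i).obj G)) := by
  refine IsZero.of_iso ?_ ((Groth.Agent.H4.pullIsoRestr j).app _)
  apply isZero_of_subsingleton
  intro V
  haveI := isEmpty_bc i j hZU V
  exact Groth.Agent.H4.subsingleton_sections_of_isEmpty G
    ((EtCoh.bc i).obj ((EtShriek.compEtale j).obj V))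

end Aux

/-- Let i : Z → X be a closed immersion of schemes with open complement j : U → X, and let G be an
injective abelian sheaf on the small etale site of Z. Then for every p > 0 the p-th local cohomology
sheaf with support in Z of the direct image i_* G (the p-th right derived functor of F ↦ ker(F → j_*
j⁻¹ F), kept as a sheaf on X) is zero. -/
theorem result {Z X U : Scheme.{u}} (i : Z ⟶ X) [IsClosedImmersion i]
    (j : U ⟶ X) [IsOpenImmersion j] (hZU : Set.range j = (Set.range i)ᶜ)
    (G : EtCoh.Ab Z) [Injective G] (p : ℕ) (hp : 0 < p) :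
    IsZero ((EtDual.locCoh j p).obj ((EtCoh.push i).obj G)) := by
  have hz := isZero_pull_push i j hZU G
  obtain ⟨n, rfl⟩ := Nat.exists_eq_succ_of_ne_zero hp.ne'
  cases n with
  | zero =>
    refine IsZero.of_iso ?_
      (Groth.Agent.H45.EtLocCoh.cokernelUnitIso j ((EtCoh.push i).obj G)).symm
    exact IsZero.of_epi (cokernel.π _) ((EtCoh.push j).map_isZero hz)
  | succ k =>
    refine IsZero.of_iso ?_
      ((Groth.Agent.H45.EtLocCoh.RpushPullIso j (k + 1) (by omega)).app
        ((EtCoh.push i).obj G)).symm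
    haveI : Injective ((EtCoh.pull j).obj ((EtCoh.push i).obj G)) :=
      Injective.of_iso hz.isoZero.symm inferInstance
    exact Functor.isZero_rightDerived_obj_injective_succ (EtCoh.push j) k _

end Groth.Agent.S6657
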