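import Groth.Statements.S6659
import Mathlib
import Groth.Agent.H4.SuppClosed2
import Groth.Agent.S0067
import Groth.Agent.H45.AdjDerived

set_option autoImplicit false
universe u
open CategoryTheory CategoryTheory.Limits AlgebraicGeometry Opposite
attribute [local instance] HasDerivedCategory.standard
open EtDual

namespace Groth.Agent.S6659

section General

universe v₁ v₂ u₁ u₂

variable {A : Type u₁} [Category.{v₁} A] [Abelian A]
  {B : Type u₂} [Category.{v₂} B] [Abelian B]
  {L : A ⥤ B} {R : B ⥤ A} [L.Additive] [R.Additive]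
  [PreservesFiniteLimits L] [PreservesFiniteColimits L]
  [PreservesFiniteLimits R] [PreservesFiniteColimits R] (adj : L ⊣ R)

theorem isIso_comp_iff_left {C : Type*} [Category C] {X Y Z : C} (f : X ⟶ Y) (g : Y ⟶ Z)
    [IsIso g] : IsIso (f ≫ g) ↔ IsIso f :=
  ⟨fun _ => IsIso.of_isIso_comp_right f g, fun _ => inferInstance⟩

theorem isIso_comp_iff_right {C : Type*} [Category C] {X Y Z : C} (f : X ⟶ Y) (g : Y ⟶ Z)
    [IsIso f] : IsIso (f ≫ g) ↔ IsIso g :=
  ⟨fun _ => IsIso.of_isIso_comp_left f g, fun _ => inferInstance⟩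

theorem isIso_counit_app_Q (C : CochainComplex B ℤ)
    (h : ∀ Y : B, IsIso (adj.counit.app Y)) :
    IsIso ((Groth.Agent.H45.adjMapDerivedCategory adj).counit.app (DerivedCategory.Q.obj C)) := by
  letI i1 : CatCommSq (L.mapHomologicalComplex (ComplexShape.up ℤ)) DerivedCategory.Q
      DerivedCategory.Q L.mapDerivedCategory := ⟨L.mapDerivedCategoryFactors.symm⟩
  letI i2 : CatCommSq (R.mapHomologicalComplex (ComplexShape.up ℤ)) DerivedCategory.Q
      DerivedCategory.Q R.mapDerivedCategory := ⟨R.mapDerivedCategoryFactors.symm⟩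
  have key := Adjunction.localization_counit_app
    (Groth.Agent.H45.adjMapHomologicalComplex adj (ComplexShape.up ℤ))
    DerivedCategory.Q (HomologicalComplex.quasiIso A (ComplexShape.up ℤ))
    DerivedCategory.Q (HomologicalComplex.quasiIso B (ComplexShape.up ℤ))
    L.mapDerivedCategory R.mapDerivedCategory C
  haveI : IsIso ((Groth.Agent.H45.adjMapHomologicalComplex adj
      (ComplexShape.up ℤ)).counit.app C) := by
    haveI : ∀ n, IsIso (((Groth.Agent.H45.adjMapHomologicalComplex adj
        (ComplexShape.up ℤ)).counit.app C).f n) := fun n => h _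
    exact HomologicalComplex.Hom.isIso_of_components _
  have e : (Groth.Agent.H45.adjMapDerivedCategory adj).counit.app (DerivedCategory.Q.obj C) = _ :=
    key
  rw [e]
  infer_instance

theorem isIso_unit_app_Q_iff (C : CochainComplex A ℤ) :
    IsIso ((Groth.Agent.H45.adjMapDerivedCategory adj).unit.app (DerivedCategory.Q.obj C)) ↔
      QuasiIso ((Groth.Agent.H45.adjMapHomologicalComplex adj (ComplexShape.up ℤ)).unit.app C) := by
  letI i1 : CatCommSq (L.mapHomologicalComplex (ComplexShape.up ℤ)) DerivedCategory.Q
      DerivedCategory.Q L.mapDerivedCategory := ⟨L.mapDerivedCategoryFactors.symm⟩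
  letI i2 : CatCommSq (R.mapHomologicalComplex (ComplexShape.up ℤ)) DerivedCategory.Q
      DerivedCategory.Q R.mapDerivedCategory := ⟨R.mapDerivedCategoryFactors.symm⟩
  have key := Adjunction.localization_unit_app
    (Groth.Agent.H45.adjMapHomologicalComplex adj (ComplexShape.up ℤ))
    DerivedCategory.Q (HomologicalComplex.quasiIso A (ComplexShape.up ℤ))
    DerivedCategory.Q (HomologicalComplex.quasiIso B (ComplexShape.up ℤ))
    L.mapDerivedCategory R.mapDerivedCategory C
  have e : (Groth.Agent.H45.adjMapDerivedCategory adj).unit.app (DerivedCategory.Q.obj C) = _ :=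
    key
  rw [e]
  exact (isIso_comp_iff_left _ _).trans (DerivedCategory.isIso_Q_map_iff_quasiIso _ _)

theorem quasiIso_unit_iff (C : CochainComplex A ℤ) :
    QuasiIso ((Groth.Agent.H45.adjMapHomologicalComplex adj (ComplexShape.up ℤ)).unit.app C) ↔
      ∀ n : ℤ, IsIso (adj.unit.app (C.homology n)) := by
  rw [quasiIso_iff]
  refine forall_congr' fun n => ?_
  rw [quasiIsoAt_iff_isIso_homologyMap]
  have e := NatTrans.app_homology adj.unit (C.sc n)
  have e' : IsIso (adj.unit.app (C.homology n)) ↔
      IsIso (ShortComplex.homologyMap ((C.sc n).mapNatTrans adj.unit)) := by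
    show IsIso (adj.unit.app (C.sc n).homology) ↔ _
    rw [e]
    exact (isIso_comp_iff_right _ _).trans (isIso_comp_iff_left _ _)
  rw [e']
  exact Iff.rfl

theorem isIso_unit_app_iff (K : DerivedCategory A) :
    IsIso ((Groth.Agent.H45.adjMapDerivedCategory adj).unit.app K) ↔
      ∀ n : ℤ, IsIso (adj.unit.app ((DerivedCategory.homologyFunctor A n).obj K)) := by
  let C := DerivedCategory.Q.objPreimage K
  let e : DerivedCategory.Q.obj C ≅ K := DerivedCategory.Q.objObjPreimageIso K
  have h1 := NatTrans.isIso_app_iff_of_iso (Groth.Agent.H45.adjMapDerivedCategory adj).unit e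
  refine h1.symm.trans ((isIso_unit_app_Q_iff adj C).trans ((quasiIso_unit_iff adj C).trans ?_))
  refine forall_congr' fun n => ?_
  let e' : C.homology n ≅ (DerivedCategory.homologyFunctor A n).obj K :=
    ((DerivedCategory.homologyFunctorFactors A n).app C).symm ≪≫
      (DerivedCategory.homologyFunctor A n).mapIso e
  exact NatTrans.isIso_app_iff_of_iso adj.unit e'

end General

open Groth.Agent.H4

section Geom

variable {Z X U : Scheme.{u}} (i : Z ⟶ X) [IsClosedImmersion i] (j : U ⟶ X) [IsOpenImmersion j]
  (hZU : Set.range j.base = (Set.range i.base)ᶜ)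

include hZU in
theorem isZero_pull_push (B : EtCoh.Ab Z) :
    IsZero ((EtCoh.pull j).obj ((EtCoh.push i).obj B)) :=
  IsZero.of_iso (isZero_restr_push i j hZU B) ((pullIsoRestr j).app _)

include hZU in
theorem isIso_of_pull {F G : EtCoh.Ab X} (φ : F ⟶ G) (h1 : IsIso ((EtCoh.pull i).map φ))
    (hF : IsZero ((EtCoh.pull j).obj F)) (hG : IsZero ((EtCoh.pull j).obj G)) : IsIso φ := by
  haveI hLi := Groth.Agent.H45.preservesFiniteLimits_pullAb i
  haveI hLj := Groth.Agent.H45.preservesFiniteLimits_pullAb j
  haveI : PreservesLimitsOfShape WalkingCospan (EtCoh.pull i) :=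
    hLi.preservesFiniteLimits WalkingCospan
  haveI : (EtCoh.pull i).PreservesMonomorphisms :=
    preservesMonomorphisms_of_preservesLimitsOfShape (EtCoh.pull i)
  haveI : PreservesLimitsOfShape WalkingCospan (EtCoh.pull j) :=
    hLj.preservesFiniteLimits WalkingCospan
  haveI : (EtCoh.pull j).PreservesMonomorphisms :=
    preservesMonomorphisms_of_preservesLimitsOfShape (EtCoh.pull j)
  haveI := (EtCoh.pullPushAdj i).isLeftAdjoint
  haveI := (EtCoh.pullPushAdj j).isLeftAdjoint
  haveI : PreservesFiniteColimits (EtCoh.pull i) := inferInstance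
  haveI : (EtCoh.pull j).PreservesEpimorphisms := inferInstance
  haveI := h1
  have hzj : ∀ C : EtCoh.Ab X, IsZero ((EtCoh.pull j).obj C) →
      IsZero ((EtShriek.restrAlong j).obj C) :=
    fun C h => IsZero.of_iso h ((pullIsoRestr j).app C).symm
  have hmono : Mono φ := by
    rw [Preadditive.mono_iff_isZero_kernel]
    apply isZero_of_pull_restr i j hZU
    · refine IsZero.of_iso ?_ (PreservesKernel.iso (EtCoh.pull i) φ)
      exact isZero_kernel_of_mono _
    · apply hzj
      exact IsZero.of_mono ((EtCoh.pull j).map (kernel.ι φ)) hF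
  have hepi : Epi φ := by
    rw [Preadditive.epi_iff_isZero_cokernel]
    apply isZero_of_pull_restr i j hZU
    · refine IsZero.of_iso ?_ (PreservesCokernel.iso (EtCoh.pull i) φ)
      exact isZero_cokernel_of_epi _
    · apply hzj
      exact IsZero.of_epi ((EtCoh.pull j).map (cokernel.π φ)) hG
  exact isIso_of_mono_of_epi φ

include hZU in
theorem isIso_unit_of_isZero_pull (F : EtCoh.Ab X) (hF : IsZero ((EtCoh.pull j).obj F)) :
    IsIso ((EtCoh.pullPushAdj i).unit.app F) := by
  obtain ⟨hfull, hfaith⟩ := Groth.Agent.S0067.result i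
  haveI := hfull
  haveI := hfaith
  have hF2 : IsIso ((EtCoh.pull i).map ((EtCoh.pullPushAdj i).unit.app F)) := by
    have ht := (EtCoh.pullPushAdj i).left_triangle_components F
    haveI : IsIso ((EtCoh.pull i).map ((EtCoh.pullPushAdj i).unit.app F) ≫
        (EtCoh.pullPushAdj i).counit.app ((EtCoh.pull i).obj F)) := by
      rw [ht]
      exact IsIso.id _
    exact IsIso.of_isIso_comp_right _
      ((EtCoh.pullPushAdj i).counit.app ((EtCoh.pull i).obj F))
  exact isIso_of_pull i j hZU _ hF2 hF (isZero_pull_push i j hZU _)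

end Geom

/-- Let i : Z → X be a closed immersion of schemes with open complement j : U → X. The direct image i_*
of abelian etale sheaves is exact (its right exactness is carried as an instance hypothesis), and
the induced functor D(Z_et) → D(X_et) is fully faithful; an object K of D(X_et) lies in its
essential image if and only if every cohomology sheaf of K has zero restriction to U, i.e. K has
cohomology sheaves supported on Z. (The identification of the quasi-inverse with the derived functor
of sections supported on Z is not part of this row.) -/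
theorem result {Z X U : Scheme.{u}} (i : Z ⟶ X)
    [IsClosedImmersion i] (j : U ⟶ X) [IsOpenImmersion j] (hZU : Set.range j = (Set.range i)ᶜ)
    [PreservesFiniteColimits (EtCoh.push i)] :
    ((EtCoh.push i).mapDerivedCategory.Full ∧ (EtCoh.push i).mapDerivedCategory.Faithful) ∧
      ∀ K : DCoh.DEt X,
        (EtCoh.push i).mapDerivedCategory.essImage K ↔
          ∀ n : ℤ, IsZero ((EtCoh.pull j).obj (DCoh.HDEt K n)) := by
  have hZU' : Set.range j.base = (Set.range i.base)ᶜ := hZU
  haveI hLi := Groth.Agent.H45.preservesFiniteLimits_pullAb i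
  haveI := (EtCoh.pullPushAdj i).isLeftAdjoint
  haveI : PreservesFiniteColimits (EtCoh.pull i) := inferInstance
  haveI : (EtCoh.pull i).Additive := (EtCoh.pullPushAdj i).left_adjoint_additive
  obtain ⟨hfull, hfaith⟩ := Groth.Agent.S0067.result i
  haveI := hfull
  haveI := hfaith
  have hcounit : ∀ Y : EtCoh.Ab Z, IsIso ((EtCoh.pullPushAdj i).counit.app Y) :=
    fun Y => inferInstance
  let adjD := Groth.Agent.H45.adjMapDerivedCategory (EtCoh.pullPushAdj i)
  haveI hcD : IsIso adjD.counit := by
    haveI : ∀ K, IsIso (adjD.counit.app K) := by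
      intro K
      have h0 := isIso_counit_app_Q (EtCoh.pullPushAdj i) (DerivedCategory.Q.objPreimage K) hcounit
      exact (NatTrans.isIso_app_iff_of_iso adjD.counit
        (DerivedCategory.Q.objObjPreimageIso K)).1 h0
    exact NatIso.isIso_of_isIso_app _
  have hff := adjD.fullyFaithfulROfIsIsoCounit
  refine ⟨⟨hff.full, hff.faithful⟩, fun K => ?_⟩
  have key := isIso_unit_app_iff (EtCoh.pullPushAdj i) K
  constructor
  · rintro ⟨M, ⟨e⟩⟩ n
    have h1 : IsIso (adjD.unit.app ((EtCoh.push i).mapDerivedCategory.obj M)) := by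
      have ht := adjD.right_triangle_components M
      haveI : IsIso (adjD.unit.app ((EtCoh.push i).mapDerivedCategory.obj M) ≫
          (EtCoh.push i).mapDerivedCategory.map (adjD.counit.app M)) := by
        rw [ht]
        exact IsIso.id _
      exact IsIso.of_isIso_comp_right _
        ((EtCoh.push i).mapDerivedCategory.map (adjD.counit.app M))
    have h2 : IsIso (adjD.unit.app K) := (NatTrans.isIso_app_iff_of_iso adjD.unit e).1 h1
    have h3 := key.1 h2 n
    haveI := h3
    exact IsZero.of_iso (isZero_pull_push i j hZU' _)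
      ((EtCoh.pull j).mapIso (asIso ((EtCoh.pullPushAdj i).unit.app (DCoh.HDEt K n))))
  · intro h
    have h2 : IsIso (adjD.unit.app K) :=
      key.2 (fun n => isIso_unit_of_isZero_pull i j hZU' _ (h n))
    haveI := h2
    exact ⟨_, ⟨(asIso (adjD.unit.app K)).symm⟩⟩

end Groth.Agent.S6659
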