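import Groth.Statements.S6685
import Groth.Agent.H45.BigSiteExact

set_option autoImplicit false
universe u
open CategoryTheory CategoryTheory.Limits AlgebraicGeometry Opposite
open BigSite

namespace Groth.Agent.S6685

/-- Let S be a scheme, I an injective abelian sheaf on the big etale site of S and f : T → S a scheme
over S. Then (b) the restriction I|_{S_et} of I to the small etale site of S is injective, and (a)
the restriction i_f⁻¹ I of I to the small etale site of T (sections over an etale U → T are the
sections of I over U → S) is injective. -/
theorem result (S : Scheme.{u}) (I : BigSite.Ab Scheme.etalePrecoverage S) [Injective I]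
    {T : Scheme.{u}} (f : T ⟶ S) :
    Injective ((BigSite.resEt Scheme.etalePrecoverage S).obj I) ∧
      Injective ((BigSite.resEtAlong Scheme.etalePrecoverage f).obj I) := by
  constructor
  · haveI := Groth.Agent.H45.BigSiteExact.preservesFiniteLimits_piEtPull Scheme.etalePrecoverage S
    haveI : PreservesLimitsOfShape WalkingCospan (BigSite.piEtPull Scheme.etalePrecoverage S) :=
      PreservesFiniteLimits.preservesFiniteLimits WalkingCospan
    haveI : (BigSite.piEtPull Scheme.etalePrecoverage S).PreservesMonomorphisms :=
      preservesMonomorphisms_of_preservesLimitsOfShape _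
    exact Injective.injective_of_adjoint (BigSite.piEtAdj Scheme.etalePrecoverage S) I
  · let adj : BigSite.piEtPull Scheme.etalePrecoverage T ⋙ BigSite.shriekAb Scheme.etalePrecoverage f ⊣
        BigSite.resEtAlong Scheme.etalePrecoverage f :=
      (BigSite.piEtAdj Scheme.etalePrecoverage T).comp (BigSite.shriekAbAdj Scheme.etalePrecoverage f)
    haveI := Groth.Agent.H45.BigSiteExact.preservesFiniteLimits_piEtPull Scheme.etalePrecoverage T
    haveI := Groth.Agent.H45.BigSiteExact.preservesFiniteLimits_shriekAb Scheme.etalePrecoverage S f
    haveI : PreservesLimitsOfShape WalkingCospan (BigSite.piEtPull Scheme.etalePrecoverage T) :=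
      PreservesFiniteLimits.preservesFiniteLimits WalkingCospan
    haveI : PreservesLimitsOfShape WalkingCospan (BigSite.shriekAb Scheme.etalePrecoverage f) :=
      PreservesFiniteLimits.preservesFiniteLimits WalkingCospan
    haveI : (BigSite.piEtPull Scheme.etalePrecoverage T).PreservesMonomorphisms :=
      preservesMonomorphisms_of_preservesLimitsOfShape _
    haveI : (BigSite.shriekAb Scheme.etalePrecoverage f).PreservesMonomorphisms :=
      preservesMonomorphisms_of_preservesLimitsOfShape _
    haveI : (BigSite.piEtPull Scheme.etalePrecoverage T ⋙
        BigSite.shriekAb Scheme.etalePrecoverage f).PreservesMonomorphisms := inferInstance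
    exact Injective.injective_of_adjoint adj I

end Groth.Agent.S6685
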