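import Groth.Statements.S6696
import Groth.Agent.H45.OverBaseChange
import Groth.Agent.H45.BigSiteExact
import Groth.Agent.H45.RDerivedExact

set_option autoImplicit false
universe u
open CategoryTheory CategoryTheory.Limits AlgebraicGeometry Opposite
open BigSite

namespace Groth.Agent.S6696

/-- Part (5): for an abelian sheaf and degree by degree: let f : T → S be a morphism of schemes, g : S'
→ S a scheme over S and T' = S' ×_S T with projections g' : T' → T and f' : T' → S'. For an abelian
sheaf F on the big etale site of T and every q ≥ 0, the restriction g_big⁻¹ (R^q f_{big,*} F) of the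
big-site higher direct image to the big etale site of S' is isomorphic to R^q f'_{big,*} (g'_big⁻¹
F). (Existence of an isomorphism only.) -/
theorem result {T S T' S' : Scheme.{u}} (f : T ⟶ S) (g : S' ⟶ S)
    (g' : T' ⟶ T) (f' : T' ⟶ S') (c : IsPullback g' f' f g) (F : BigSite.Ab Scheme.etalePrecoverage T) (q : ℕ) :
    Nonempty ((BigSite.pullBig Scheme.etalePrecoverage g AddCommGrpCat.{u + 1}).obj
        ((BigSite.RpushBig Scheme.etalePrecoverage f q).obj F) ≅
      (BigSite.RpushBig Scheme.etalePrecoverage f' q).obj
        ((BigSite.pullBig Scheme.etalePrecoverage g' AddCommGrpCat.{u + 1}).obj F)) := by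
  have hexact : ∀ {A B : Scheme.{u}} (h : A ⟶ B),
      PreservesFiniteLimits (BigSite.pullBig Scheme.etalePrecoverage h AddCommGrpCat.{u + 1}) ∧
      PreservesFiniteColimits (BigSite.pullBig Scheme.etalePrecoverage h AddCommGrpCat.{u + 1}) := by
    intro A B h
    constructor
    · haveI := (BigSite.shriekAbAdj Scheme.etalePrecoverage h).rightAdjoint_preservesLimits
      infer_instance
    · haveI := (BigSite.bigAdj Scheme.etalePrecoverage h AddCommGrpCat.{u + 1}).leftAdjoint_preservesColimits
      infer_instance
  haveI := (hexact g).1
  haveI := (hexact g).2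
  haveI := (hexact g').1
  haveI := (hexact g').2
  refine Groth.Agent.H45.RDerivedExact.nonempty_rightDerived_iso
    (BigSite.pushBig Scheme.etalePrecoverage f AddCommGrpCat.{u + 1})
    (BigSite.pushBig Scheme.etalePrecoverage f' AddCommGrpCat.{u + 1})
    (BigSite.pullBig Scheme.etalePrecoverage g' AddCommGrpCat.{u + 1})
    (BigSite.pullBig Scheme.etalePrecoverage g AddCommGrpCat.{u + 1}) ?_ ?_ F q
  · intro J hJ
    haveI := Groth.Agent.H45.BigSiteExact.preservesFiniteLimits_shriekAb Scheme.etalePrecoverage T g'
    haveI : PreservesLimitsOfShape WalkingCospan (BigSite.shriekAb Scheme.etalePrecoverage g') :=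
      PreservesFiniteLimits.preservesFiniteLimits WalkingCospan
    haveI : (BigSite.shriekAb Scheme.etalePrecoverage g').PreservesMonomorphisms :=
      preservesMonomorphisms_of_preservesLimitsOfShape _
    exact Injective.injective_of_adjoint (BigSite.shriekAbAdj Scheme.etalePrecoverage g') J
  · exact Groth.Agent.H45.sheafPushforwardContinuousSquareIso _ _ _ _ AddCommGrpCat.{u + 1}
      (Over.map g) (Over.pullback f) (Over.pullback f') (Over.map g')
      (Groth.Agent.H45.overBaseChangeIso c)

end Groth.Agent.S6696
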