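import Groth.Statements.S6697
import Groth.Agent.H45.BigSiteExact

set_option autoImplicit false
universe u
open CategoryTheory CategoryTheory.Limits AlgebraicGeometry Opposite
open BigSite

namespace Groth.Agent.S6697

/-- Let S be a scheme, I a K-injective complex of abelian sheaves on the big etale site of S (every
morphism from an acyclic complex to I is null-homotopic) and f : T → S a scheme over S. Then (b) the
termwise restriction I|_{S_et} to the small etale site of S is K-injective, and (a) the termwise
restriction i_f⁻¹ I to the small etale site of T is K-injective. -/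
theorem result (S : Scheme.{u})
    (I : CochainComplex (BigSite.Ab Scheme.etalePrecoverage S) ℤ) [I.IsKInjective] {T : Scheme.{u}} (f : T ⟶ S) :
    CochainComplex.IsKInjective (((BigSite.resEt Scheme.etalePrecoverage S).mapHomologicalComplex (ComplexShape.up ℤ)).obj I) ∧
      CochainComplex.IsKInjective (((BigSite.resEtAlong Scheme.etalePrecoverage f).mapHomologicalComplex (ComplexShape.up ℤ)).obj I) := by
  constructor
  · haveI := Groth.Agent.H45.BigSiteExact.preservesFiniteLimits_piEtPull Scheme.etalePrecoverage S
    haveI : PreservesFiniteColimits (BigSite.piEtPull Scheme.etalePrecoverage S) := by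
      haveI := (BigSite.piEtAdj Scheme.etalePrecoverage S).leftAdjoint_preservesColimits
      infer_instance
    haveI : (BigSite.resEt Scheme.etalePrecoverage S).Additive := ⟨rfl⟩
    haveI : (BigSite.piEtPull Scheme.etalePrecoverage S).Additive :=
      (BigSite.piEtAdj Scheme.etalePrecoverage S).left_adjoint_additive
    exact Groth.Agent.H45.isKInjective_map_of_adj (BigSite.piEtAdj Scheme.etalePrecoverage S) I
  · let adj : BigSite.piEtPull Scheme.etalePrecoverage T ⋙ BigSite.shriekAb Scheme.etalePrecoverage f ⊣
        BigSite.resEtAlong Scheme.etalePrecoverage f :=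
      (BigSite.piEtAdj Scheme.etalePrecoverage T).comp (BigSite.shriekAbAdj Scheme.etalePrecoverage f)
    haveI := Groth.Agent.H45.BigSiteExact.preservesFiniteLimits_piEtPull Scheme.etalePrecoverage T
    haveI := Groth.Agent.H45.BigSiteExact.preservesFiniteLimits_shriekAb Scheme.etalePrecoverage S f
    haveI : PreservesFiniteColimits
        (BigSite.piEtPull Scheme.etalePrecoverage T ⋙ BigSite.shriekAb Scheme.etalePrecoverage f) := by
      haveI := adj.leftAdjoint_preservesColimits
      infer_instance
    haveI : (BigSite.resEtAlong Scheme.etalePrecoverage f).Additive := ⟨rfl⟩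
    haveI : (BigSite.piEtPull Scheme.etalePrecoverage T ⋙
        BigSite.shriekAb Scheme.etalePrecoverage f).Additive := adj.left_adjoint_additive
    exact Groth.Agent.H45.isKInjective_map_of_adj adj I

end Groth.Agent.S6697
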