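import Groth.Statements.S6703
import Mathlib.CategoryTheory.Adjunction.FullyFaithful
import Mathlib.CategoryTheory.Triangulated.Functor
import Mathlib.CategoryTheory.Triangulated.Pretriangulated

set_option autoImplicit false
universe v v' u u'
open CategoryTheory
open DEquiv

namespace Groth.Agent.S6703

open CategoryTheory.Limits CategoryTheory.Pretriangulated
set_option linter.unusedSectionVars false

section
variable {D : Type u} [Category.{v} D] [Preadditive D] [HasZeroObject D] [HasShift D ℤ]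
    [∀ n : ℤ, (shiftFunctor D n).Additive] [Pretriangulated D]
    {D' : Type u'} [Category.{v'} D'] [Preadditive D'] [HasZeroObject D'] [HasShift D' ℤ]
    [∀ n : ℤ, (shiftFunctor D' n).Additive] [Pretriangulated D']
    (F : D ⥤ D') [F.CommShift ℤ]

/-- `F` is bijective on `Hom(X, Y)`. -/
def Bij (X Y : D) : Prop := Function.Bijective (fun f : X ⟶ Y => F.map f)

lemma bij_of_iso {X X' Y Y' : D} (e : X ≅ X') (e' : Y ≅ Y') (h : Bij F X Y) : Bij F X' Y' := by
  constructor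
  · intro f f' hff
    have : F.map (e.hom ≫ f ≫ e'.inv) = F.map (e.hom ≫ f' ≫ e'.inv) := by
      simp only [Functor.map_comp]
      dsimp only at hff
      rw [hff]
    have h2 := h.1 this
    simpa using h2
  · intro g
    obtain ⟨f, hf⟩ := h.2 (F.map e.hom ≫ g ≫ F.map e'.inv)
    refine ⟨e.inv ≫ f ≫ e'.hom, ?_⟩
    dsimp only at hf ⊢
    rw [Functor.map_comp, Functor.map_comp, hf]
    simp [← Functor.map_comp_assoc, ← Functor.map_comp]

lemma bij_shift {X Y : D} (k : ℤ) (h : Bij F (X⟦k⟧) (Y⟦k⟧)) : Bij F X Y := by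
  have nat : ∀ f : X ⟶ Y, F.map (f⟦k⟧') ≫ (F.commShiftIso k).hom.app Y =
      (F.commShiftIso k).hom.app X ≫ (F.map f)⟦k⟧' := fun f =>
    (F.commShiftIso k).hom.naturality f
  constructor
  · intro f f' hff
    dsimp only at hff
    have : F.map (f⟦k⟧') = F.map (f'⟦k⟧') := by
      rw [← cancel_mono ((F.commShiftIso k).hom.app Y), nat, nat, hff]
    exact (shiftFunctor D k).map_injective (h.1 this)
  · intro g
    obtain ⟨f', hf'⟩ := h.2 ((F.commShiftIso k).hom.app X ≫ g⟦k⟧' ≫ (F.commShiftIso k).inv.app Y)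
    refine ⟨(shiftFunctor D k).preimage f', ?_⟩
    dsimp only at hf' ⊢
    apply (shiftFunctor D' k).map_injective
    rw [← cancel_epi ((F.commShiftIso k).hom.app X), ← nat, Functor.map_preimage, hf']
    simp

variable (S : Set D)

lemma bij_S (h4 : ∀ E ∈ S, ∀ E' ∈ S, ∀ i : ℤ, Bij F E (E'⟦i⟧)) (E : D) (hE : E ∈ S) (E' : D)
    (hE' : E' ∈ S) (n m : ℤ) : Bij F (E⟦n⟧) (E'⟦m⟧) := by
  apply bij_shift F (-n)
  exact bij_of_iso F ((shiftFunctorCompIsoId D n (-n) (by omega)).symm.app E)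
    ((shiftFunctorAdd' D m (-n) (m - n) (by omega)).app E') (h4 E hE E' hE' (m - n))

lemma hom_cone_zero {X Y C : D} (u : X ⟶ Y) (v : Y ⟶ C) (w : C ⟶ X⟦(1 : ℤ)⟧)
    (hT : Triangle.mk u v w ∈ distTriang D) (W : D)
    (h1 : Function.Surjective (fun f : W ⟶ X => f ≫ u))
    (h2 : Function.Injective (fun f : W⟦(-1 : ℤ)⟧ ⟶ X => f ≫ u)) (g : W ⟶ C) : g = 0 := by
  have e12 : u ≫ v = 0 := comp_distTriang_mor_zero₁₂ _ hT
  have e31 : w ≫ u⟦(1 : ℤ)⟧' = 0 := comp_distTriang_mor_zero₃₁ _ hT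
  let φ := shiftFunctorCompIsoId D (1 : ℤ) (-1) (by omega)
  have nat : (u⟦(1 : ℤ)⟧')⟦(-1 : ℤ)⟧' ≫ φ.hom.app Y = φ.hom.app X ≫ u := φ.hom.naturality u
  have hgw : g ≫ w = 0 := by
    have hb : ((g ≫ w)⟦(-1 : ℤ)⟧' ≫ φ.hom.app X) ≫ u = 0 := by
      rw [Category.assoc, ← nat, ← Category.assoc, ← Functor.map_comp, Category.assoc, e31,
        comp_zero, Functor.map_zero, zero_comp]
    have hb' : (g ≫ w)⟦(-1 : ℤ)⟧' ≫ φ.hom.app X = 0 := by
      apply h2
      dsimp only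
      rw [hb, zero_comp]
    have hb'' : (g ≫ w)⟦(-1 : ℤ)⟧' = 0 := by
      rw [← cancel_mono (φ.hom.app X), hb', zero_comp]
    apply (shiftFunctor D (-1 : ℤ)).map_injective
    rw [hb'', Functor.map_zero]
  obtain ⟨g', hg'⟩ : ∃ g' : W ⟶ Y, g = g' ≫ v := Triangle.coyoneda_exact₃ _ hT g hgw
  obtain ⟨g'', rfl⟩ := h1 g'
  rw [hg', Category.assoc, e12, comp_zero]

lemma hom_from_cone_zero {X Y C : D} (u : X ⟶ Y) (v : Y ⟶ C) (w : C ⟶ X⟦(1 : ℤ)⟧)
    (hT : Triangle.mk u v w ∈ distTriang D) (W : D)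
    (h1 : Function.Injective (fun f : Y ⟶ W => u ≫ f))
    (h2 : Function.Surjective (fun f : Y ⟶ W⟦(-1 : ℤ)⟧ => u ≫ f)) (g : C ⟶ W) : g = 0 := by
  have e12 : u ≫ v = 0 := comp_distTriang_mor_zero₁₂ _ hT
  have e31 : w ≫ u⟦(1 : ℤ)⟧' = 0 := comp_distTriang_mor_zero₃₁ _ hT
  let φ := shiftFunctorCompIsoId D (1 : ℤ) (-1) (by omega)
  have nat : (u⟦(1 : ℤ)⟧')⟦(-1 : ℤ)⟧' ≫ φ.hom.app Y = φ.hom.app X ≫ u := φ.hom.naturality u
  have hvg : v ≫ g = 0 := by
    apply h1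
    dsimp only
    rw [comp_zero, ← Category.assoc, e12, zero_comp]
  obtain ⟨g', hg'⟩ : ∃ g' : X⟦(1 : ℤ)⟧ ⟶ W, g = w ≫ g' := Triangle.yoneda_exact₃ _ hT g hvg
  obtain ⟨k, hk⟩ := h2 (φ.inv.app X ≫ g'⟦(-1 : ℤ)⟧')
  dsimp only at hk
  have hg'' : g'⟦(-1 : ℤ)⟧' = φ.hom.app X ≫ u ≫ k := by
    rw [hk, Iso.hom_inv_id_app_assoc]
  apply (shiftFunctor D (-1 : ℤ)).map_injective
  rw [hg', Functor.map_comp, hg'', ← Category.assoc (φ.hom.app X), ← nat, Category.assoc,
    ← Category.assoc, ← Functor.map_comp, e31, Functor.map_zero, zero_comp, Functor.map_zero]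

variable {F}

lemma postcomp_unit_bij_iff {H : D' ⥤ D} (adj : F ⊣ H) (X Y : D) :
    Bij F X Y ↔ Function.Bijective (fun f : X ⟶ Y => f ≫ adj.unit.app Y) := by
  have : (fun f : X ⟶ Y => f ≫ adj.unit.app Y) =
      (adj.homEquiv X (F.obj Y)) ∘ (fun f : X ⟶ Y => F.map f) := by
    funext f
    simp [Adjunction.homEquiv_unit]
  rw [this]
  exact (Equiv.comp_bijective _ _).symm

lemma precomp_counit_bij_iff {G : D' ⥤ D} (adj : G ⊣ F) (X Y : D) :
    Bij F X Y ↔ Function.Bijective (fun f : X ⟶ Y => adj.counit.app X ≫ f) := by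
  have : (fun f : X ⟶ Y => adj.counit.app X ≫ f) =
      (adj.homEquiv (F.obj X) Y).symm ∘ (fun f : X ⟶ Y => F.map f) := by
    funext f
    simp [Adjunction.homEquiv_counit]
  rw [this]
  exact (Equiv.comp_bijective _ _).symm

lemma isIso_unit {H : D' ⥤ D} (adj : F ⊣ H) (Y : D)
    (h2 : ∀ K : D, (∀ E ∈ S, ∀ (i : ℤ) (f : E ⟶ (shiftFunctor D i).obj K), f = 0) → IsZero K)
    (hY : ∀ E ∈ S, ∀ i : ℤ, Bij F (E⟦i⟧) Y) : IsIso (adj.unit.app Y) := by
  obtain ⟨C, v, w, hT⟩ := distinguished_cocone_triangle (adj.unit.app Y)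
  have hC : IsZero C := by
    apply h2
    intro E hE i f
    let φ := shiftFunctorCompIsoId D i (-i) (by omega)
    have hg : f⟦-i⟧' ≫ φ.hom.app C = 0 := by
      apply hom_cone_zero _ _ _ hT (E⟦-i⟧)
      · exact ((postcomp_unit_bij_iff adj _ _).1 (hY E hE (-i))).2
      · refine ((postcomp_unit_bij_iff adj _ _).1 ?_).1
        exact bij_of_iso F ((shiftFunctorAdd' D (-i) (-1) (-i - 1) (by omega)).app E) (Iso.refl _)
          (hY E hE (-i - 1))
    have hg' : f⟦-i⟧' = 0 := by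
      rw [← cancel_mono (φ.hom.app C), hg, zero_comp]
    apply (shiftFunctor D (-i)).map_injective
    rw [hg', Functor.map_zero]
  exact (Triangle.isZero₃_iff_isIso₁ _ hT).1 hC

lemma isIso_counit {G : D' ⥤ D} (adj : G ⊣ F) (A : D)
    (h3 : ∀ K : D, (∀ E ∈ S, ∀ (i : ℤ) (f : K ⟶ (shiftFunctor D i).obj E), f = 0) → IsZero K)
    (hA : ∀ E ∈ S, ∀ i : ℤ, Bij F A (E⟦i⟧)) : IsIso (adj.counit.app A) := by
  obtain ⟨C, v, w, hT⟩ := distinguished_cocone_triangle (adj.counit.app A)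
  have hC : IsZero C := by
    apply h3
    intro E hE i f
    apply hom_from_cone_zero _ _ _ hT (E⟦i⟧)
    · exact ((precomp_counit_bij_iff adj _ _).1 (hA E hE i)).1
    · refine ((precomp_counit_bij_iff adj _ _).1 ?_).2
      exact bij_of_iso F (Iso.refl _) ((shiftFunctorAdd' D i (-1) (i - 1) (by omega)).app E)
        (hA E hE (i - 1))
  exact (Triangle.isZero₃_iff_isIso₁ _ hT).1 hC

end

open CategoryTheory.Limits CategoryTheory.Pretriangulated in
/-- Let F : D ⥤ D' be an exact functor of triangulated categories admitting both a left and a right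
adjoint, and let S be a set of objects of D such that an object K of D is zero as soon as Hom(E,
K⟦i⟧) = 0 for all E ∈ S and i ∈ ℤ, and also as soon as Hom(K, E⟦i⟧) = 0 for all E ∈ S and i ∈ ℤ. If
for all E, E' ∈ S and i ∈ ℤ the map Hom(E, E'⟦i⟧) → Hom(F E, F (E'⟦i⟧)) given by F is bijective,
then F is full and faithful. -/
theorem result
    {D : Type u} [Category.{v} D] [Preadditive D] [HasZeroObject D] [HasShift D ℤ]
    [∀ n : ℤ, (shiftFunctor D n).Additive] [Pretriangulated D] [IsTriangulated D]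
    {D' : Type u'} [Category.{v'} D'] [Preadditive D'] [HasZeroObject D'] [HasShift D' ℤ]
    [∀ n : ℤ, (shiftFunctor D' n).Additive] [Pretriangulated D'] [IsTriangulated D']
    (F : D ⥤ D') [F.CommShift ℤ] [F.IsTriangulated] [F.IsLeftAdjoint] [F.IsRightAdjoint]
    (S : Set D)
    (h2 : ∀ K : D, (∀ E ∈ S, ∀ (i : ℤ) (f : E ⟶ (shiftFunctor D i).obj K), f = 0) → IsZero K)
    (h3 : ∀ K : D, (∀ E ∈ S, ∀ (i : ℤ) (f : K ⟶ (shiftFunctor D i).obj E), f = 0) → IsZero K)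
    (h4 : ∀ E ∈ S, ∀ E' ∈ S, ∀ i : ℤ,
      Function.Bijective (fun f : E ⟶ (shiftFunctor D i).obj E' => F.map f)) :
    F.Full ∧ F.Faithful := by
  let G := F.leftAdjoint
  let adjG : G ⊣ F := Adjunction.ofIsRightAdjoint F
  let H := F.rightAdjoint
  let adjH : F ⊣ H := Adjunction.ofIsLeftAdjoint F
  have hS := bij_S F S h4
  have h1 : ∀ E' ∈ S, ∀ m : ℤ, IsIso (adjH.unit.app (E'⟦m⟧)) := fun E' hE' m =>
    isIso_unit S adjH _ h2 (fun E hE i => hS E hE E' hE' i m)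
  have hA : ∀ A : D, ∀ E' ∈ S, ∀ m : ℤ, Bij F A (E'⟦m⟧) := by
    intro A E' hE' m
    rw [postcomp_unit_bij_iff adjH]
    have := h1 E' hE' m
    constructor
    · intro f f' hff
      exact (cancel_mono _).1 hff
    · intro g
      exact ⟨g ≫ inv (adjH.unit.app (E'⟦m⟧)), by simp⟩
  have hc : ∀ A : D, IsIso (adjG.counit.app A) := fun A => isIso_counit S adjG A h3 (hA A)
  have : IsIso adjG.counit := NatIso.isIso_of_isIso_app _
  have ff := adjG.fullyFaithfulROfIsIsoCounit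
  exact ⟨ff.full, ff.faithful⟩

end Groth.Agent.S6703
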