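import Groth.Statements.S6704
import Groth.Agent.H33.Sib

set_option autoImplicit false
universe w v u v' u'
open CategoryTheory
open DEquiv

namespace Groth.Agent.S6704

section Helpers

open CategoryTheory.Limits CategoryTheory.Pretriangulated CategoryTheory.Category
open Groth.Agent.H33.Sib

variable {A : Type u} [Category.{v} A] [Abelian A] [HasDerivedCategory.{w} A]
    {D : Type u'} [Category.{v'} D] [Preadditive D] [HasZeroObject D] [HasShift D ℤ]
    [∀ n : ℤ, (shiftFunctor D n).Additive] [Pretriangulated D]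
    (G G' : DerivedCategory.Bounded A ⥤ D) [G.CommShift ℤ] [G.IsTriangulated]
    [G'.CommShift ℤ] [G'.IsTriangulated]

lemma hom_eq_zero_of_BT
    (h2 : ∀ (X Y : A) (q : ℤ), q < 0 →
      ∀ f : G.obj ((DEquiv.singleB A).obj X) ⟶
        (shiftFunctor D q).obj (G.obj ((DEquiv.singleB A).obj Y)), f = 0)
    {n : ℤ} {Y : A} {M : DerivedCategory.Bounded A} {j : ((DEquiv.singleB A).obj Y)⟦n⟧ ⟶ M}
    (hM : BT n Y M j) :
    ∀ (s : ℤ), s < n → ∀ (Y₀ : A) (Z : D) (_ : Z ≅ (G.obj ((DEquiv.singleB A).obj Y₀))⟦s⟧)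
      (f : G.obj M ⟶ Z), f = 0 := by
  induction hM with
  | zero n Y M j hM =>
    intro s hs Y₀ Z e f
    exact (G.map_isZero hM).eq_of_src _ _
  | step n Y M j M' π δ hT Y' j' h' ih =>
    intro s hs Y₀ Z e f
    have hj : G.map j ≫ f = 0 := by
      have h0 := vanish_shift (s + -n) (h2 Y Y₀ (s + -n) (by omega)) n s rfl
        ((G.commShiftIso n).inv.app ((DEquiv.singleB A).obj Y) ≫ G.map j ≫ f ≫ e.hom)
      have : G.map j ≫ f = (G.commShiftIso n).hom.app ((DEquiv.singleB A).obj Y) ≫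
          ((G.commShiftIso n).inv.app ((DEquiv.singleB A).obj Y) ≫ G.map j ≫ f ≫ e.hom) ≫
            e.inv := by
        simp
      rw [this, h0, zero_comp, comp_zero]
    obtain ⟨f', hf'⟩ := Triangle.yoneda_exact₂ _ (G.map_distinguished _ hT) f hj
    have : f' = 0 := ih s (by omega) Y₀ Z e f'
    rw [hf', this]
    exact comp_zero

lemma cancel_of_BT
    (h2 : ∀ (X Y : A) (q : ℤ), q < 0 →
      ∀ f : G.obj ((DEquiv.singleB A).obj X) ⟶
        (shiftFunctor D q).obj (G.obj ((DEquiv.singleB A).obj Y)), f = 0)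
    {n : ℤ} {Y : A} {M : DerivedCategory.Bounded A} {j : ((DEquiv.singleB A).obj Y)⟦n⟧ ⟶ M}
    (hM : BT n Y M j) (Y₀ : A) (Z : D)
    (e : Z ≅ (G.obj ((DEquiv.singleB A).obj Y₀))⟦n⟧) (d : G.obj M ⟶ Z)
    (hd : G.map j ≫ d = 0) : d = 0 := by
  cases hM with
  | zero _ _ _ _ hM0 => exact (G.map_isZero hM0).eq_of_src _ _
  | step _ _ _ _ M' π δ hT Y' j' h' =>
    obtain ⟨d', hd'⟩ := Triangle.yoneda_exact₂ _ (G.map_distinguished _ hT) d hd
    have : d' = 0 := hom_eq_zero_of_BT G h2 h' n (by omega) Y₀ Z e d'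
    rw [hd', this]
    exact comp_zero

theorem exists_iso_of_BT (t : DEquiv.singleB A ⋙ G ≅ DEquiv.singleB A ⋙ G')
    (h2 : ∀ (X Y : A) (q : ℤ), q < 0 →
      ∀ f : G.obj ((DEquiv.singleB A).obj X) ⟶
        (shiftFunctor D q).obj (G.obj ((DEquiv.singleB A).obj Y)), f = 0)
    {n : ℤ} {Y : A} {M : DerivedCategory.Bounded A} {j : ((DEquiv.singleB A).obj Y)⟦n⟧ ⟶ M}
    (hM : BT n Y M j) :
    ∃ φ : G.obj M ≅ G'.obj M, (tau G G' t n Y).hom ≫ G'.map j = G.map j ≫ φ.hom := by
  induction hM with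
  | zero n Y M j hM =>
    exact ⟨(G.map_isZero hM).iso (G'.map_isZero hM), (G'.map_isZero hM).eq_of_tgt _ _⟩
  | step n Y M j M' π δ hT Y' j' h' ih =>
    obtain ⟨φ', hφ'⟩ := ih
    have key3 : G.map δ ≫ (tauP G G' t n Y).hom = φ'.hom ≫ G'.map δ := by
      rw [← sub_eq_zero]
      refine cancel_of_BT G h2 h' Y _ ((tauP G G' t n Y).symm ≪≫
        G.mapIso ((shiftFunctorAdd' (DerivedCategory.Bounded A) n 1 (n + 1) rfl).app _).symm ≪≫
        (G.commShiftIso (n + 1)).app _) _ ?_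
      rw [Preadditive.comp_sub, sub_eq_zero, ← G.map_comp_assoc,
        ← tau_nat_shift1 G G' t n (j' ≫ δ), G'.map_comp, reassoc_of% hφ']
    have key3' := key3
    rw [tauP_hom] at key3'
    have hcomm : (G.mapTriangle.obj (Triangle.mk j π δ)).mor₃ ≫
        ((tau G G' t n Y).hom)⟦(1 : ℤ)⟧' = φ'.hom ≫ (G'.mapTriangle.obj (Triangle.mk j π δ)).mor₃ := by
      show (G.map δ ≫ (G.commShiftIso (1 : ℤ)).hom.app _) ≫ ((tau G G' t n Y).hom)⟦(1 : ℤ)⟧' =
        φ'.hom ≫ G'.map δ ≫ (G'.commShiftIso (1 : ℤ)).hom.app _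
      rw [← reassoc_of% key3']
      simp
    obtain ⟨b, hb1, hb2⟩ := complete_distinguished_triangle_morphism₂ _ _
      (G.map_distinguished _ hT) (G'.map_distinguished _ hT) (tau G G' t n Y).hom φ'.hom hcomm
    let ψ : G.mapTriangle.obj (Triangle.mk j π δ) ⟶ G'.mapTriangle.obj (Triangle.mk j π δ) :=
      { hom₁ := (tau G G' t n Y).hom
        hom₂ := b
        hom₃ := φ'.hom
        comm₁ := hb1
        comm₂ := hb2
        comm₃ := hcomm }
    have hbiso : IsIso b := isIso₂_of_isIso₁₃ ψ (G.map_distinguished _ hT)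
      (G'.map_distinguished _ hT)
      (show IsIso (tau G G' t n Y).hom from inferInstance) (show IsIso φ'.hom from inferInstance)
    exact ⟨@asIso _ _ _ _ b hbiso, hb1.symm⟩

end Helpers


open CategoryTheory.Limits CategoryTheory.Pretriangulated in
/-- Let A be an abelian category, D a triangulated category, and F, F' : D^b(A) ⥤ D exact functors of
triangulated categories whose restrictions to A (objects placed in degree 0) are isomorphic. If
Hom(F X, (F Y)⟦q⟧) = 0 for all objects X, Y of A and all q < 0, then F K and F' K are isomorphic for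
every object K of D^b(A); that is, F and F' are siblings. -/
theorem result
    {A : Type u} [Category.{v} A] [Abelian A] [HasDerivedCategory.{w} A]
    {D : Type u'} [Category.{v'} D] [Preadditive D] [HasZeroObject D] [HasShift D ℤ]
    [∀ n : ℤ, (shiftFunctor D n).Additive] [Pretriangulated D] [IsTriangulated D]
    (F F' : DerivedCategory.Bounded A ⥤ D) [F.CommShift ℤ] [F.IsTriangulated]
    [F'.CommShift ℤ] [F'.IsTriangulated]
    (h1 : Nonempty (DEquiv.singleB A ⋙ F ≅ DEquiv.singleB A ⋙ F'))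
    (h2 : ∀ (X Y : A) (q : ℤ), q < 0 →
      ∀ f : F.obj ((DEquiv.singleB A).obj X) ⟶ (shiftFunctor D q).obj (F.obj ((DEquiv.singleB A).obj Y)),
        f = 0)
    (K : DerivedCategory.Bounded A) : Nonempty (F.obj K ≅ F'.obj K) := by
  obtain ⟨t⟩ := h1
  obtain ⟨n, Y, j, hBT⟩ := Groth.Agent.H33.Sib.exists_BT K
  obtain ⟨φ, -⟩ := exists_iso_of_BT F F' t h2 hBT
  exact ⟨φ⟩

end Groth.Agent.S6704
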