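import Groth.Statements.S6708
import Mathlib

set_option autoImplicit false
universe v u
open CategoryTheory
open DEquiv

namespace Groth.Agent.S6708

open CategoryTheory.Limits CategoryTheory.Pretriangulated in
/-- Let D be a pretriangulated category, D' ⊆ D a full triangulated subcategory (given as a property of
objects that is triangulated in Mathlib's sense) and X an object of D. Then the category of arrows E
⟶ X with E in D' is filtered. -/
theorem result
    {D : Type u} [Category.{v} D] [Preadditive D] [HasZeroObject D] [HasShift D ℤ]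
    [∀ n : ℤ, (shiftFunctor D n).Additive] [Pretriangulated D]
    (P : ObjectProperty D) [P.IsTriangulated] (X : D) :
    IsFiltered (CostructuredArrow P.ι X) := by
  have hne : Nonempty (CostructuredArrow P.ι X) := by
    obtain ⟨Z, hZ, hPZ⟩ := P.exists_prop_of_containsZero
    exact ⟨CostructuredArrow.mk (Y := (⟨Z, hPZ⟩ : P.FullSubcategory)) (0 : Z ⟶ X)⟩
  refine @IsFiltered.mk _ _ ⟨?_, ?_⟩ hne
  · intro A B
    obtain ⟨Z, hZ, ⟨e0⟩⟩ := P.ext_of_isTriangulatedClosed₂' _
      (binaryBiproductTriangle_distinguished A.left.obj B.left.obj) A.left.property B.left.property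
    have e : A.left.obj ⊞ B.left.obj ≅ Z := e0
    clear e0
    let C : CostructuredArrow P.ι X :=
      CostructuredArrow.mk (Y := (⟨Z, hZ⟩ : P.FullSubcategory)) (e.inv ≫ biprod.desc A.hom B.hom)
    refine ⟨C, CostructuredArrow.homMk (ObjectProperty.homMk (biprod.inl ≫ e.hom)) ?_,
      CostructuredArrow.homMk (ObjectProperty.homMk (biprod.inr ≫ e.hom)) ?_, trivial⟩
    · show (biprod.inl ≫ e.hom) ≫ e.inv ≫ biprod.desc A.hom B.hom = A.hom
      rw [Category.assoc, e.hom_inv_id_assoc]
      exact biprod.inl_desc _ _
    · show (biprod.inr ≫ e.hom) ≫ e.inv ≫ biprod.desc A.hom B.hom = B.hom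
      rw [Category.assoc, e.hom_inv_id_assoc]
      exact biprod.inr_desc _ _
  · intro A B f g
    have hf : f.left.hom ≫ B.hom = A.hom := by
      have := CostructuredArrow.w f
      simpa using this
    have hg : g.left.hom ≫ B.hom = A.hom := by
      have := CostructuredArrow.w g
      simpa using this
    obtain ⟨Z, hZ, b, c, hT⟩ := P.distinguished_cocone_triangle (f.left.hom - g.left.hom)
      A.left.property B.left.property
    obtain ⟨a3, ha3⟩ := Triangle.yoneda_exact₂ _ hT (show B.left.obj ⟶ X from B.hom) (by
      show (f.left.hom - g.left.hom) ≫ B.hom = 0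
      rw [Preadditive.sub_comp, hf, hg, sub_self])
    replace ha3 : B.hom = b ≫ a3 := ha3
    let C : CostructuredArrow P.ι X :=
      CostructuredArrow.mk (Y := (⟨Z, hZ⟩ : P.FullSubcategory)) a3
    refine ⟨C, CostructuredArrow.homMk (ObjectProperty.homMk b) ?_, ?_⟩
    · exact ha3.symm
    · ext
      have h0 : (f.left.hom - g.left.hom) ≫ b = 0 := comp_distTriang_mor_zero₁₂ _ hT
      rw [Preadditive.sub_comp, sub_eq_zero] at h0
      simpa using h0

end Groth.Agent.S6708
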