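import Groth.Statements.S6718
import Mathlib.LinearAlgebra.Dual.Lemmas
import Mathlib.LinearAlgebra.FiniteDimensional.Lemmas
import Mathlib.CategoryTheory.Equivalence

set_option autoImplicit false
universe w v u
open CategoryTheory
open DEquiv

namespace Groth.Agent.S6718

set_option linter.unusedSectionVars false

section TwoToOne

variable {k : Type w} [Field k] {T : Type u} [Category.{v} T] [Preadditive T] [Linear k T]
  [∀ X Y : T, Module.Finite k (X ⟶ Y)]
  (SO : T → T) (e : ∀ X Y : T, (Y ⟶ SO X) ≃ₗ[k] Module.Dual k (X ⟶ Y))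
  (he : ∀ (X Y Y' : T) (g : Y' ⟶ Y) (f : Y ⟶ SO X),
    e X Y' (g ≫ f) = (e X Y f) ∘ₗ Linear.rightComp k X g)

/-- The trace form. -/
def η (X : T) : Module.Dual k (X ⟶ SO X) := e X (SO X) (𝟙 _)

include he in
lemma e_apply (X Y : T) (f : Y ⟶ SO X) (h : X ⟶ Y) : e X Y f h = η SO e X (h ≫ f) := by
  have := he X (SO X) Y f (𝟙 _)
  rw [Category.comp_id] at this
  rw [this]
  rfl

include he in
lemma ext_S {X Y : T} (u v : Y ⟶ SO X)
    (h : ∀ a : X ⟶ Y, η SO e X (a ≫ u) = η SO e X (a ≫ v)) : u = v := by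
  apply (e X Y).injective
  ext a
  rw [e_apply SO e he, e_apply SO e he, h]

/-- The action of the Serre functor on morphisms. -/
def Smap {X' X : T} (a : X' ⟶ X) : SO X' ⟶ SO X :=
  (e X (SO X')).symm (η SO e X' ∘ₗ Linear.leftComp k (SO X') a)

include he in
lemma Smap_spec {X' X : T} (a : X' ⟶ X) (h : X ⟶ SO X') :
    η SO e X (h ≫ Smap SO e a) = η SO e X' (a ≫ h) := by
  rw [← e_apply SO e he]
  simp [Smap]

/-- The Serre functor. -/
def S : T ⥤ T where
  obj := SO
  map a := Smap SO e a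
  map_id X := by
    apply ext_S SO e he
    intro a
    rw [Smap_spec SO e he]
    simp
  map_comp a b := by
    apply ext_S SO e he
    intro h
    rw [Smap_spec SO e he, ← Category.assoc h, Smap_spec SO e he, ← Category.assoc b h,
      Smap_spec SO e he]
    simp

include he in
lemma Smap_add {X Y : T} (a b : X ⟶ Y) : Smap SO e (a + b) = Smap SO e a + Smap SO e b := by
  apply ext_S SO e he
  intro h
  rw [Smap_spec SO e he, Preadditive.comp_add, map_add, Smap_spec SO e he, Smap_spec SO e he,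
    Preadditive.add_comp, map_add]

include he in
lemma Smap_smul {X Y : T} (r : k) (a : X ⟶ Y) : Smap SO e (r • a) = r • Smap SO e a := by
  apply ext_S SO e he
  intro h
  rw [Smap_spec SO e he, Linear.comp_smul, map_smul, Smap_spec SO e he,
    Linear.smul_comp, map_smul]

lemma S_additive : (S SO e he).Additive where
  map_add {_ _ a b} := Smap_add SO e he a b

lemma S_linear : (S SO e he).Linear k where
  map_smul {_ _} a r := Smap_smul SO e he r a

/-- `Smap` as a linear map. -/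
def SmapLin (X' X : T) : (X' ⟶ X) →ₗ[k] (SO X' ⟶ SO X) where
  toFun := Smap SO e
  map_add' := Smap_add SO e he
  map_smul' := Smap_smul SO e he

/-- The duality isomorphism. -/
noncomputable def c (X Y : T) : (X ⟶ Y) ≃ₗ[k] Module.Dual k (Y ⟶ SO X) :=
  (Module.evalEquiv k (X ⟶ Y)).trans (e X Y).dualMap

include he in
lemma c_apply (X Y : T) (h : X ⟶ Y) (φ : Y ⟶ SO X) : c SO e X Y h φ = η SO e X (h ≫ φ) := by
  rw [← e_apply SO e he]
  rfl

include he in
lemma Smap_injective {X' X : T} : Function.Injective (Smap SO e (X' := X') (X := X)) := by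
  intro a b hab
  apply (c SO e X' X).injective
  ext φ
  rw [c_apply SO e he, c_apply SO e he, ← Smap_spec SO e he a φ, ← Smap_spec SO e he b φ, hab]

include he in
lemma Smap_surjective {X' X : T} : Function.Surjective (Smap SO e (X' := X') (X := X)) := by
  have hinj : Function.Injective (SmapLin SO e he X' X) := Smap_injective SO e he
  have hrank : Module.finrank k (X' ⟶ X) = Module.finrank k (SO X' ⟶ SO X) := by
    rw [(e X (SO X')).finrank_eq, Subspace.dual_finrank_eq, (e X' X).finrank_eq,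
      Subspace.dual_finrank_eq]
  exact (LinearMap.injective_iff_surjective_of_finrank_eq_finrank hrank).1 hinj

lemma S_faithful : (S SO e he).Faithful where
  map_injective {_ _} := Smap_injective SO e he

lemma S_full : (S SO e he).Full where
  map_surjective {_ _} := Smap_surjective SO e he

variable (RO : T → T) (e' : ∀ X Y : T, (RO X ⟶ Y) ≃ₗ[k] Module.Dual k (Y ⟶ X))
  (he' : ∀ (X Y Y' : T) (g : Y ⟶ Y') (f : RO X ⟶ Y),
    e' X Y' (f ≫ g) = (e' X Y f) ∘ₗ Linear.leftComp k X g)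

/-- The other trace form. -/
def θ (X : T) : Module.Dual k (RO X ⟶ X) := e' X (RO X) (𝟙 _)

include he' in
lemma e'_apply (X Y : T) (f : RO X ⟶ Y) (h : Y ⟶ X) : e' X Y f h = θ RO e' X (f ≫ h) := by
  have := he' X (RO X) Y f (𝟙 _)
  rw [Category.id_comp] at this
  rw [this]
  rfl

include he' in
lemma ext_R {Y Z : T} (w w' : Z ⟶ Y)
    (h : ∀ f : RO Y ⟶ Z, θ RO e' Y (f ≫ w) = θ RO e' Y (f ≫ w')) : w = w' := by
  rw [← sub_eq_zero, ← Module.forall_dual_apply_eq_zero_iff k]
  intro ξ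
  obtain ⟨f, rfl⟩ := (e' Y Z).surjective ξ
  rw [e'_apply RO e' he', Preadditive.comp_sub, map_sub, h, sub_self]

/-- `Y ⟶ S (R Y)`. -/
noncomputable def uu (Y : T) : Y ⟶ SO (RO Y) := (e (RO Y) Y).symm (θ RO e' Y)

include he in
lemma uu_spec (Y : T) (h : RO Y ⟶ Y) : η SO e (RO Y) (h ≫ uu SO e RO e' Y) = θ RO e' Y h := by
  rw [← e_apply SO e he]
  simp [uu]

/-- `S (R Y) ⟶ Y`. -/
noncomputable def vv (Y : T) : SO (RO Y) ⟶ Y :=
  (Module.evalEquiv k (SO (RO Y) ⟶ Y)).symm
    (η SO e (RO Y) ∘ₗ (e' Y (SO (RO Y))).symm.toLinearMap)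

include he' in
lemma vv_spec (Y : T) (f : RO Y ⟶ SO (RO Y)) :
    θ RO e' Y (f ≫ vv SO e RO e' Y) = η SO e (RO Y) f := by
  rw [← e'_apply RO e' he']
  have : Module.evalEquiv k (SO (RO Y) ⟶ Y) (vv SO e RO e' Y) =
      η SO e (RO Y) ∘ₗ (e' Y (SO (RO Y))).symm.toLinearMap := by
    simp [vv]
  have h2 := LinearMap.congr_fun this (e' Y (SO (RO Y)) f)
  simpa using h2

include he he' in
lemma vv_uu (Y : T) : vv SO e RO e' Y ≫ uu SO e RO e' Y = 𝟙 (SO (RO Y)) := by
  apply ext_S SO e he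
  intro h
  rw [← Category.assoc, uu_spec SO e he, vv_spec SO e RO e' he', Category.comp_id]

include he he' in
lemma uu_vv (Y : T) : uu SO e RO e' Y ≫ vv SO e RO e' Y = 𝟙 Y := by
  apply ext_R RO e' he'
  intro f
  rw [← Category.assoc, vv_spec SO e RO e' he', uu_spec SO e he, Category.comp_id]

include he' in
lemma S_essSurj : (S SO e he).EssSurj where
  mem_essImage Y :=
    ⟨RO Y, ⟨⟨vv SO e RO e' Y, uu SO e RO e' Y, vv_uu SO e he RO e' he' Y,
      uu_vv SO e he RO e' he' Y⟩⟩⟩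

end TwoToOne

section OneToTwo

variable {k : Type w} [Field k] {T : Type u} [Category.{v} T] [Preadditive T] [Linear k T]
  [∀ X Y : T, Module.Finite k (X ⟶ Y)]

/-- Postcomposition with an isomorphism as a linear equivalence. -/
def postIso (Y : T) {A B : T} (ε : A ≅ B) : (Y ⟶ A) ≃ₗ[k] (Y ⟶ B) :=
  LinearEquiv.ofLinear (Linear.rightComp k Y ε.hom) (Linear.rightComp k Y ε.inv)
    (by ext; simp) (by ext; simp)

lemma oneToTwo (S : T ≌ T)
    (c : ∀ X Y : T, (X ⟶ Y) ≃ₗ[k] Module.Dual k (Y ⟶ S.functor.obj X))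
    (hc1 : ∀ (X Y Y' : T) (f : X ⟶ Y) (g : Y ⟶ Y'),
          c X Y' (f ≫ g) = (c X Y f) ∘ₗ Linear.leftComp k (S.functor.obj X) g) :
    ((∀ X : T, ∃ (SX : T) (e : ∀ Y : T, (Y ⟶ SX) ≃ₗ[k] Module.Dual k (X ⟶ Y)),
        ∀ (Y Y' : T) (g : Y' ⟶ Y) (f : Y ⟶ SX),
          e Y' (g ≫ f) = (e Y f) ∘ₗ Linear.rightComp k X g) ∧
      (∀ X : T, ∃ (RX : T) (e : ∀ Y : T, (RX ⟶ Y) ≃ₗ[k] Module.Dual k (Y ⟶ X)),
        ∀ (Y Y' : T) (g : Y ⟶ Y') (f : RX ⟶ Y),
          e Y' (f ≫ g) = (e Y f) ∘ₗ Linear.leftComp k X g)) := by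
  constructor
  · intro X
    refine ⟨S.functor.obj X,
      fun Y => (Module.evalEquiv k (Y ⟶ S.functor.obj X)).trans (c X Y).dualMap, ?_⟩
    intro Y Y' g f
    ext h'
    have := LinearMap.congr_fun (hc1 X Y' Y h' g) f
    simpa using this.symm
  · intro X
    refine ⟨S.inverse.obj X,
      fun Y => (c (S.inverse.obj X) Y).trans (postIso (k := k) Y (S.counitIso.app X)).symm.dualMap, ?_⟩
    intro Y Y' g f
    ext h'
    have := LinearMap.congr_fun (hc1 (S.inverse.obj X) Y Y' f g) (h' ≫ (S.counitIso.app X).inv)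
    simpa [postIso] using this

end OneToTwo


open CategoryTheory.Limits CategoryTheory.Pretriangulated in
/-- Let k be a field and T a k-linear (pre)triangulated category with dim_k Hom(X, Y) < ∞ for all X, Y.
The following are equivalent: (1) there are a k-linear equivalence S : T ⥤ T and k-linear
isomorphisms c_{X,Y} : Hom(X, Y) ≅ Hom(Y, S X)^∨ natural in X and in Y; (2) for every object X the
functor Y ↦ Hom(X, Y)^∨ is representable and the functor Y ↦ Hom(Y, X)^∨ is corepresentable, by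
k-linear isomorphisms natural in Y. (Here V^∨ is the k-linear dual.) -/
theorem result
    {k : Type w} [Field k]
    {T : Type u} [Category.{v} T] [Preadditive T] [Linear k T] [HasZeroObject T] [HasShift T ℤ]
    [∀ n : ℤ, (shiftFunctor T n).Additive] [∀ n : ℤ, (shiftFunctor T n).Linear k] [Pretriangulated T]
    [∀ X Y : T, Module.Finite k (X ⟶ Y)] :
    (∃ (S : T ≌ T) (_ : S.functor.Additive) (_ : S.functor.Linear k)
        (c : ∀ X Y : T, (X ⟶ Y) ≃ₗ[k] Module.Dual k (Y ⟶ S.functor.obj X)),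
        (∀ (X Y Y' : T) (f : X ⟶ Y) (g : Y ⟶ Y'),
          c X Y' (f ≫ g) = (c X Y f) ∘ₗ Linear.leftComp k (S.functor.obj X) g) ∧
        (∀ (X' X Y : T) (a : X' ⟶ X) (f : X ⟶ Y),
          c X' Y (a ≫ f) = (c X Y f) ∘ₗ Linear.rightComp k Y (S.functor.map a))) ↔
    ((∀ X : T, ∃ (SX : T) (e : ∀ Y : T, (Y ⟶ SX) ≃ₗ[k] Module.Dual k (X ⟶ Y)),
        ∀ (Y Y' : T) (g : Y' ⟶ Y) (f : Y ⟶ SX),
          e Y' (g ≫ f) = (e Y f) ∘ₗ Linear.rightComp k X g) ∧
      (∀ X : T, ∃ (RX : T) (e : ∀ Y : T, (RX ⟶ Y) ≃ₗ[k] Module.Dual k (Y ⟶ X)),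
        ∀ (Y Y' : T) (g : Y ⟶ Y') (f : RX ⟶ Y),
          e Y' (f ≫ g) = (e Y f) ∘ₗ Linear.leftComp k X g)) := by
  constructor
  · rintro ⟨S, _, _, c, hc1, _⟩
    exact oneToTwo S c hc1
  · rintro ⟨h2a, h2b⟩
    choose SO e he using h2a
    choose RO e' he' using h2b
    have he₁ : ∀ (X Y Y' : T) (g : Y' ⟶ Y) (f : Y ⟶ SO X),
        e X Y' (g ≫ f) = (e X Y f) ∘ₗ Linear.rightComp k X g := fun X Y Y' g f => he X Y Y' g f
    have he₂ : ∀ (X Y Y' : T) (g : Y ⟶ Y') (f : RO X ⟶ Y),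
        e' X Y' (f ≫ g) = (e' X Y f) ∘ₗ Linear.leftComp k X g := fun X Y Y' g f => he' X Y Y' g f
    have := S_full SO e he₁
    have := S_faithful SO e he₁
    have := S_essSurj SO e he₁ RO e' he₂
    have : (S SO e he₁).IsEquivalence := {}
    refine ⟨(S SO e he₁).asEquivalence, S_additive SO e he₁, S_linear SO e he₁, c SO e, ?_, ?_⟩
    · intro X Y Y' f g
      ext φ
      exact (c_apply SO e he₁ X Y' (f ≫ g) φ).trans
        ((congrArg (η SO e X) (Category.assoc f g φ)).trans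
          (c_apply SO e he₁ X Y f (g ≫ φ)).symm)
    · intro X' X Y a f
      ext φ
      exact (c_apply SO e he₁ X' Y (a ≫ f) φ).trans
        (((congrArg (η SO e X') (Category.assoc a f φ)).trans
          (Smap_spec SO e he₁ a (f ≫ φ)).symm).trans
          ((congrArg (η SO e X) (Category.assoc f φ (Smap SO e a))).trans
            (c_apply SO e he₁ X Y f (φ ≫ Smap SO e a)).symm))

end Groth.Agent.S6718
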