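import Groth.Statements.S6725
import Groth.Agent.H16.FPFun
import Mathlib.CategoryTheory.Preadditive.LeftExact
import Mathlib.CategoryTheory.Limits.Shapes.Biproducts

set_option autoImplicit false
universe u v' u'
open CategoryTheory CategoryTheory.Limits
open FunMor

namespace Groth.Agent.S6725

open Groth.Agent.H16.FPFun
set_option linter.unusedSectionVars false

section
variable {A : Type u} [CommRing A] {B : Type u'} [Category.{v'} B] [Preadditive B] {K : B}
  (κ : A →+* End K)

/-- `K ⟶ T` as an `A`-module through `κ`. -/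
def HomK (_κ : A →+* End K) (T : B) : Type v' := K ⟶ T

instance (T : B) : AddCommGroup (HomK κ T) := inferInstanceAs (AddCommGroup (K ⟶ T))

/-- the underlying morphism. -/
def HomK.hom {T : B} (f : HomK κ T) : K ⟶ T := f

/-- constructor. -/
def HomK.of {T : B} (f : K ⟶ T) : HomK κ T := f

@[simp] lemma HomK.hom_of {T : B} (f : K ⟶ T) : (HomK.of κ f).hom = f := rfl
@[simp] lemma HomK.hom_add {T : B} (f g : HomK κ T) : (f + g).hom = f.hom + g.hom := rfl
@[simp] lemma HomK.hom_zero {T : B} : (0 : HomK κ T).hom = 0 := rfl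

@[ext] lemma HomK.ext {T : B} {f g : HomK κ T} (h : f.hom = g.hom) : f = g := h

instance (T : B) : SMul A (HomK κ T) := ⟨fun a f => HomK.of κ ((κ a : K ⟶ K) ≫ f.hom)⟩

@[simp] lemma HomK.hom_smul {T : B} (a : A) (f : HomK κ T) :
    (a • f).hom = (κ a : K ⟶ K) ≫ f.hom := rfl

instance (T : B) : Module A (HomK κ T) where
  one_smul f := by
    ext
    rw [HomK.hom_smul, map_one]
    exact Category.id_comp _
  mul_smul a b f := by
    ext
    rw [HomK.hom_smul, HomK.hom_smul, HomK.hom_smul, mul_comm, map_mul, End.mul_def,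
      Category.assoc]
  smul_zero a := by
    ext
    rw [HomK.hom_smul, HomK.hom_zero, comp_zero]
  smul_add a f g := by
    ext
    rw [HomK.hom_smul, HomK.hom_add, HomK.hom_add, HomK.hom_smul, HomK.hom_smul,
      Preadditive.comp_add]
  add_smul a b f := by
    ext
    rw [HomK.hom_smul, HomK.hom_add, HomK.hom_smul, HomK.hom_smul, map_add]
    exact Preadditive.add_comp _ _ _ _ _ _
  zero_smul f := by
    ext
    rw [HomK.hom_smul, map_zero, HomK.hom_zero]
    exact zero_comp

/-- postcomposition as a linear map. -/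
def post {T T' : B} (h : T ⟶ T') : HomK κ T →ₗ[A] HomK κ T' where
  toFun f := HomK.of κ (f.hom ≫ h)
  map_add' f g := by
    ext
    simp [Preadditive.add_comp]
  map_smul' a f := by
    ext
    simp

@[simp] lemma post_hom {T T' : B} (h : T ⟶ T') (f : HomK κ T) : (post κ h f).hom = f.hom ≫ h := rfl

/-- a corepresentation of `T ↦ Hom_A(X, Hom(K, T))`. -/
structure Corep (X : FP A) where
  obj : B
  u : X.obj →ₗ[A] HomK κ obj
  bij : ∀ T : B, Function.Bijective (fun h : obj ⟶ T => (post κ h).comp u)

namespace Corep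
variable {κ} {X : FP A} (c : Corep κ X)

lemma hom_ext {T : B} {h h' : c.obj ⟶ T} (H : ∀ x, (c.u x).hom ≫ h = (c.u x).hom ≫ h') :
    h = h' := by
  apply (c.bij T).1
  apply LinearMap.ext
  intro x
  exact HomK.ext κ (H x)

/-- the morphism attached to a linear map. -/
noncomputable def desc {T : B} (σ : X.obj →ₗ[A] HomK κ T) : c.obj ⟶ T :=
  Classical.choose ((c.bij T).2 σ)

@[simp] lemma u_desc {T : B} (σ : X.obj →ₗ[A] HomK κ T) (x : X.obj) :
    (c.u x).hom ≫ c.desc σ = (σ x).hom := by
  have := Classical.choose_spec ((c.bij T).2 σ)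
  exact congrArg (fun t => (t x).hom) this

/-- uniqueness of corepresentations. -/
noncomputable def iso (c c' : Corep κ X) : c.obj ≅ c'.obj where
  hom := c.desc c'.u
  inv := c'.desc c.u
  hom_inv_id := by
    apply c.hom_ext
    intro x
    rw [← Category.assoc, u_desc, u_desc, Category.comp_id]
  inv_hom_id := by
    apply c'.hom_ext
    intro x
    rw [← Category.assoc, u_desc, u_desc, Category.comp_id]

end Corep

variable [HasFiniteBiproducts B]

/-- the universal element for a free module. -/
noncomputable def freeU (n : ℕ) : (Fin n → A) →ₗ[A] HomK κ (⨁ (fun _ : Fin n => K)) :=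
  ∑ i, (LinearMap.proj (R := A) (φ := fun _ : Fin n => A) i).smulRight
    (HomK.of κ (biproduct.ι (fun _ : Fin n => K) i))

lemma freeU_single (n : ℕ) (i : Fin n) :
    (freeU κ n (Pi.single i 1)).hom = biproduct.ι (fun _ : Fin n => K) i := by
  classical
  have : freeU κ n (Pi.single i 1) = HomK.of κ (biproduct.ι (fun _ : Fin n => K) i) := by
    simp only [freeU, LinearMap.sum_apply, LinearMap.smulRight_apply, LinearMap.proj_apply,
      Pi.single_apply]
    rw [Finset.sum_eq_single i]
    · simp
    · intro j _ hj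
      simp [hj]
    · simp
  rw [this]
  rfl

/-- the corepresentation for a free module. -/
noncomputable def freeCorep (n : ℕ) : Corep κ (free A n) where
  obj := ⨁ (fun _ : Fin n => K)
  u := freeU κ n
  bij T := by
    constructor
    · intro h h' H
      apply biproduct.hom_ext'
      intro i
      have := congrArg (fun t => (t (Pi.single i 1)).hom) H
      simpa [freeU_single] using this
    · intro σ
      refine ⟨biproduct.desc (fun i => (σ (Pi.single i 1)).hom), ?_⟩
      apply LinearMap.pi_ext'
      intro i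
      apply LinearMap.ext_ring
      apply HomK.ext
      simp [freeU_single]

variable [HasCokernels B]

lemma nonempty_corep (X : FP A) : Nonempty (Corep κ X) := by
  obtain ⟨m, n, P, π, hπ, hPπ, hex⟩ := exists_presentation_exact X
  let cm := freeCorep κ m
  let cn := freeCorep κ n
  let M : cm.obj ⟶ cn.obj := cm.desc (cn.u.comp P.hom.hom)
  have hM : ∀ z, (cm.u z).hom ≫ M = (cn.u (P.hom z)).hom := fun z => cm.u_desc _ z
  let g : (Fin n → A) →ₗ[A] HomK κ (cokernel M) := (post κ (cokernel.π M)).comp cn.u
  obtain ⟨uX, huX⟩ := exists_factor π.hom.hom hπ g (by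
    intro y hy
    obtain ⟨z, rfl⟩ := hex y hy
    apply HomK.ext
    change (cn.u (P.hom z)).hom ≫ cokernel.π M = 0
    rw [← hM, Category.assoc, cokernel.condition, comp_zero])
  have huX' : ∀ y, (uX (π.hom.hom y)).hom = (cn.u y).hom ≫ cokernel.π M := fun y =>
    congrArg (HomK.hom κ) (huX y)
  refine ⟨⟨cokernel M, uX, fun T => ⟨?_, ?_⟩⟩⟩
  · intro h h' H
    rw [← cancel_epi (cokernel.π M)]
    apply cn.hom_ext
    intro y
    have := congrArg (fun t => (t (π.hom.hom y)).hom) H
    simp only [LinearMap.comp_apply, post_hom, huX', Category.assoc] at this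
    exact this
  · intro σ
    let hn : cn.obj ⟶ T := cn.desc (σ.comp π.hom.hom)
    have hMn : M ≫ hn = 0 := by
      apply cm.hom_ext
      intro z
      rw [← Category.assoc, hM, cn.u_desc, comp_zero]
      change (σ (π.hom (P.hom z))).hom = 0
      rw [hPπ, map_zero]
      rfl
    refine ⟨cokernel.desc M hn hMn, ?_⟩
    apply LinearMap.ext
    intro x
    obtain ⟨y, rfl⟩ := hπ x
    apply HomK.ext
    simp only [LinearMap.comp_apply, post_hom]
    erw [huX' y]
    rw [Category.assoc, cokernel.π_desc, cn.u_desc]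
    rfl

/-- chosen corepresentations. -/
noncomputable def cor (X : FP A) : Corep κ X := Classical.choice (nonempty_corep κ X)

/-- the functor `K ⊗_A -`. -/
noncomputable def tens : FP A ⥤ B where
  obj X := (cor κ X).obj
  map {X Y} f := (cor κ X).desc ((cor κ Y).u.comp f.hom.hom)
  map_id X := by
    apply (cor κ X).hom_ext
    intro x
    rw [Corep.u_desc, Category.comp_id]
    rfl
  map_comp {X Y Z} f g := by
    apply (cor κ X).hom_ext
    intro x
    rw [Corep.u_desc, ← Category.assoc, Corep.u_desc]
    change _ = ((cor κ Y).u (f.hom x)).hom ≫ _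
    rw [Corep.u_desc]
    rfl

/-- the universal pairing, with values in `(tens κ).obj X`. -/
noncomputable def uT (X : FP A) (x : X.obj) : K ⟶ (tens κ).obj X := ((cor κ X).u x).hom

lemma uT_add (X : FP A) (x y : X.obj) : uT κ X (x + y) = uT κ X x + uT κ X y := by
  change ((cor κ X).u (x + y)).hom = _
  rw [map_add]
  rfl

lemma uT_map {X Y : FP A} (f : X ⟶ Y) (x : X.obj) :
    uT κ X x ≫ (tens κ).map f = uT κ Y (f.hom x) :=
  (cor κ X).u_desc _ x

lemma tens_hom_ext {X : FP A} {T : B} {h h' : (tens κ).obj X ⟶ T}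
    (H : ∀ x, uT κ X x ≫ h = uT κ X x ≫ h') : h = h' :=
  (cor κ X).hom_ext H

/-- descent of a linear map. -/
noncomputable def tensDesc {X : FP A} {T : B} (σ : X.obj →ₗ[A] HomK κ T) :
    (tens κ).obj X ⟶ T := (cor κ X).desc σ

lemma uT_tensDesc {X : FP A} {T : B} (σ : X.obj →ₗ[A] HomK κ T) (x : X.obj) :
    uT κ X x ≫ tensDesc κ σ = (σ x).hom := (cor κ X).u_desc σ x

/-- the linear map attached to a morphism out of `(tens κ).obj X`. -/
noncomputable def tensLin {X : FP A} {T : B} (h : (tens κ).obj X ⟶ T) : X.obj →ₗ[A] HomK κ T :=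
  (post κ h).comp (cor κ X).u

lemma tensLin_apply {X : FP A} {T : B} (h : (tens κ).obj X ⟶ T) (x : X.obj) :
    (tensLin κ h x).hom = uT κ X x ≫ h := rfl

instance : (tens κ).Additive where
  map_add {X Y f g} := by
    apply tens_hom_ext
    intro x
    rw [uT_map, Preadditive.comp_add, uT_map, uT_map, ← uT_add]
    rfl

lemma tens_coker_desc {X Y : FP A} (f : X ⟶ Y) {T : B} (h : (tens κ).obj Y ⟶ T)
    (hh : (tens κ).map f ≫ h = 0) :
    ∃ h' : (tens κ).obj (cokerObj f) ⟶ T, (tens κ).map (cokerπ f) ≫ h' = h := by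
  have hσ : ∀ y, (cokerπ f).hom.hom y = 0 → tensLin κ h y = 0 := by
    intro y hy
    have hy' : y ∈ LinearMap.range f.hom.hom := by
      have : (LinearMap.range f.hom.hom).mkQ y = 0 := hy
      rwa [Submodule.mkQ_apply, Submodule.Quotient.mk_eq_zero] at this
    obtain ⟨x, rfl⟩ := hy'
    apply HomK.ext
    rw [tensLin_apply]
    have := uT_map κ f x
    change uT κ Y (f.hom x) ≫ h = 0
    rw [← this, Category.assoc, hh, comp_zero]
  obtain ⟨σ', hσ'⟩ := exists_factor (cokerπ f).hom.hom (cokerπ_surjective f) (tensLin κ h) hσ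
  refine ⟨tensDesc κ σ', ?_⟩
  apply tens_hom_ext
  intro y
  rw [← Category.assoc, uT_map, uT_tensDesc]
  have := congrArg (HomK.hom κ) (hσ' y)
  rw [tensLin_apply] at this
  exact this

lemma tens_coker_epi {X Y : FP A} (f : X ⟶ Y) : Epi ((tens κ).map (cokerπ f)) := by
  constructor
  intro T m m' hm
  apply tens_hom_ext
  intro z
  obtain ⟨y, rfl⟩ := cokerπ_surjective f z
  have h1 := uT_map κ (cokerπ f) y
  change uT κ _ ((cokerπ f).hom y) ≫ m = uT κ _ ((cokerπ f).hom y) ≫ m'
  rw [← h1, Category.assoc, Category.assoc, hm]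

/-- `tens` sends the concrete cokernel to a cokernel. -/
noncomputable def tensCokerIsColimit {X Y : FP A} (f : X ⟶ Y) :
    IsColimit ((CokernelCofork.ofπ (cokerπ f) (comp_cokerπ f)).map (tens κ)) :=
  CokernelCofork.IsColimit.ofπ ((tens κ).map (cokerπ f))
    (by rw [← Functor.map_comp, comp_cokerπ, Functor.map_zero])
    (fun h hh => Classical.choose (tens_coker_desc κ f h hh))
    (fun h hh => Classical.choose_spec (tens_coker_desc κ f h hh))
    (fun h hh m hm => by
      have := tens_coker_epi κ f
      rw [← cancel_epi ((tens κ).map (cokerπ f)), hm]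
      exact (Classical.choose_spec (tens_coker_desc κ f h hh)).symm)

instance preservesCokernel {X Y : FP A} (f : X ⟶ Y) :
    PreservesColimit (parallelPair f 0) (tens κ) :=
  preservesColimit_of_preserves_colimit_cocone (cokerIsColimit f)
    ((CokernelCofork.isColimitMapCoconeEquiv _ (tens κ)).symm (tensCokerIsColimit κ f))

instance : PreservesFiniteColimits (tens κ) :=
  Functor.preservesFiniteColimits_of_preservesCokernels (tens κ)

/-- the canonical corepresentation for `A`. -/
noncomputable def corepA : Corep κ (objA A) where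
  obj := K
  u := LinearMap.toSpanSingleton A (HomK κ K) (HomK.of κ (𝟙 K))
  bij T := by
    constructor
    · intro h h' H
      have := congrArg (fun t => (t (1 : A)).hom) H
      simpa using this
    · intro σ
      refine ⟨(σ 1).hom, ?_⟩
      apply LinearMap.ext_ring
      apply HomK.ext
      simp

lemma corepA_u (a : A) : ((corepA κ).u a).hom = (κ a : K ⟶ K) := by
  change (a • HomK.of κ (𝟙 K)).hom = _
  rw [HomK.hom_smul, HomK.hom_of, Category.comp_id]

/-- the isomorphism `tens(A) ≅ K`. -/
noncomputable def eA : (tens κ).obj (objA A) ≅ K := (cor κ (objA A)).iso (corepA κ)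

lemma uT_eA (x : A) : uT κ (objA A) x ≫ (eA κ).hom = (κ x : K ⟶ K) := by
  have := (cor κ (objA A)).u_desc (corepA κ).u x
  rw [corepA_u] at this
  exact this

end

/-- Essential surjectivity of the functor F ↦ (F(A), induced A-action): let A be a commutative ring and
B an additive category with cokernels. For every object K of B and ring map κ : A → End(K) there
exist a right exact functor F from the category of finitely presented A-modules to B and an
isomorphism F(A) ≅ K carrying F(multiplication by a) to κ(a) for every a ∈ A. -/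
theorem result
    (A : Type u) [CommRing A] {B : Type u'} [Category.{v'} B] [Preadditive B] [HasFiniteBiproducts B]
    [HasCokernels B] (K : B) (κ : A →+* End K) :
    ∃ (F : (ObjectProperty.FullSubcategory (fun M : ModuleCat.{u} A => Module.FinitePresentation A M)) ⥤ B) (_ : PreservesFiniteColimits F)
      (e : F.obj (⟨ModuleCat.of A A, inferInstance⟩ : (ObjectProperty.FullSubcategory (fun M : ModuleCat.{u} A => Module.FinitePresentation A M))) ≅ K),
      ∀ a : A, F.map (ObjectProperty.homMk (ModuleCat.ofHom (LinearMap.lsmul A A a)) : (⟨ModuleCat.of A A, inferInstance⟩ : (ObjectProperty.FullSubcategory (fun M : ModuleCat.{u} A => Module.FinitePresentation A M))) ⟶ (⟨ModuleCat.of A A, inferInstance⟩ : (ObjectProperty.FullSubcategory (fun M : ModuleCat.{u} A => Module.FinitePresentation A M)))) ≫ e.hom = e.hom ≫ κ a := by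
  refine ⟨tens κ, inferInstance, eA κ, ?_⟩
  intro a
  apply tens_hom_ext
  intro x
  have h1 : uT κ (objA A) x ≫ (tens κ).map (mulBy a) = uT κ (objA A) (a * x) := uT_map κ (mulBy a) x
  calc uT κ (objA A) x ≫ (tens κ).map (mulBy a) ≫ (eA κ).hom
      = (uT κ (objA A) x ≫ (tens κ).map (mulBy a)) ≫ (eA κ).hom := (Category.assoc _ _ _).symm
    _ = uT κ (objA A) (a * x) ≫ (eA κ).hom := by rw [h1]
    _ = (κ (a * x) : K ⟶ K) := uT_eA κ _
    _ = (κ x : K ⟶ K) ≫ (κ a : K ⟶ K) := by rw [map_mul, End.mul_def]
    _ = (uT κ (objA A) x ≫ (eA κ).hom) ≫ (κ a : K ⟶ K) := by rw [uT_eA]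
    _ = _ := Category.assoc _ _ _

end Groth.Agent.S6725
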