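import Groth.Statements.S6726
import Groth.Agent.H16.FPFun

set_option autoImplicit false
universe u v' u'
open CategoryTheory CategoryTheory.Limits
open FunMor

namespace Groth.Agent.S6726

open Groth.Agent.H16.FPFun
set_option linter.unusedSectionVars false

section
variable {A : Type u} [CommRing A] {B : Type u'} [Category.{v'} B] [Preadditive B]
  (F F' : FP A ⥤ B) [F.Additive] [F'.Additive] [F.PreservesEpimorphisms]

/-- `φ`-compatible morphisms. -/
def Compat (φ : F.obj (objA A) ⟶ F'.obj (objA A)) (X : FP A) (ψ : F.obj X ⟶ F'.obj X) : Prop :=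
  ∀ x : X.obj, F.map (elt x) ≫ ψ = φ ≫ F'.map (elt x)

variable {F F'}

lemma compat_natural {φ : F.obj (objA A) ⟶ F'.obj (objA A)} {X Y : FP A}
    {ψX : F.obj X ⟶ F'.obj X} {ψY : F.obj Y ⟶ F'.obj Y}
    (hX : Compat F F' φ X ψX) (hY : Compat F F' φ Y ψY) (f : X ⟶ Y) :
    F.map f ≫ ψY = ψX ≫ F'.map f := by
  apply hom_ext_of_elt F
  intro x
  rw [← Category.assoc, ← F.map_comp, elt_comp, hY, ← Category.assoc, hX, Category.assoc,
    ← F'.map_comp, elt_comp]

lemma compat_free {φ : F.obj (objA A) ⟶ F'.obj (objA A)}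
    (hφ : ∀ a : A, F.map (mulBy a) ≫ φ = φ ≫ F'.map (mulBy a)) (n : ℕ) :
    ∃ ψ, Compat F F' φ (free A n) ψ := by
  refine ⟨∑ i, F.map (prj n i) ≫ φ ≫ F'.map (inc n i), ?_⟩
  intro x
  rw [Preadditive.comp_sum]
  have : ∀ i, F.map (elt (X := free A n) x) ≫ F.map (prj n i) ≫ φ ≫ F'.map (inc n i) =
      φ ≫ F'.map (mulBy (x i) ≫ inc n i) := by
    intro i
    rw [← Category.assoc, ← F.map_comp, elt_comp_prj, ← Category.assoc, hφ, Category.assoc,
      ← F'.map_comp]
  rw [Finset.sum_congr rfl (fun i _ => this i), ← Preadditive.comp_sum, ← F'.map_sum,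
    ← elt_eq_sum]

variable [F.PreservesZeroMorphisms] [F'.PreservesZeroMorphisms] [PreservesFiniteColimits F]

lemma compat_exists {φ : F.obj (objA A) ⟶ F'.obj (objA A)}
    (hφ : ∀ a : A, F.map (mulBy a) ≫ φ = φ ≫ F'.map (mulBy a)) (X : FP A) :
    ∃ ψ, Compat F F' φ X ψ := by
  obtain ⟨m, n, P, π, w, hπ, ⟨hc⟩⟩ := exists_presentation X
  obtain ⟨ψm, hm⟩ := compat_free hφ m
  obtain ⟨ψn, hn⟩ := compat_free hφ n
  have hc' := CokernelCofork.mapIsColimit _ hc F
  have hh : F.map P ≫ ψn ≫ F'.map π = 0 := by
    rw [← Category.assoc, compat_natural hm hn P, Category.assoc, ← F'.map_comp, w, F'.map_zero,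
      comp_zero]
  obtain ⟨ψX, fac⟩ : ∃ ψX : F.obj X ⟶ F'.obj X, F.map π ≫ ψX = ψn ≫ F'.map π :=
    ⟨hc'.desc (CokernelCofork.ofπ (ψn ≫ F'.map π) hh), hc'.fac _ WalkingParallelPair.one⟩
  refine ⟨ψX, ?_⟩
  intro x
  obtain ⟨y, rfl⟩ := hπ x
  rw [← elt_comp, F.map_comp, Category.assoc, fac, ← Category.assoc, hn, Category.assoc,
    ← F'.map_comp]

end

/-- Full faithfulness of the functor F ↦ (F(A), induced A-action): let A be a commutative ring, B an
additive category with cokernels, and F, F' right exact functors from the category of finitely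
presented A-modules to B. Then two natural transformations F ⟶ F' with the same component at A are
equal, and a morphism φ : F(A) ⟶ F'(A) is the component at A of a natural transformation as soon as
it commutes with F and F' applied to multiplication by every a ∈ A. -/
theorem result
    (A : Type u) [CommRing A] {B : Type u'} [Category.{v'} B] [Preadditive B] [HasFiniteBiproducts B]
    [HasCokernels B] (F F' : (ObjectProperty.FullSubcategory (fun M : ModuleCat.{u} A => Module.FinitePresentation A M)) ⥤ B)
    [PreservesFiniteColimits F] [PreservesFiniteColimits F'] :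
    (∀ t t' : F ⟶ F', t.app (⟨ModuleCat.of A A, inferInstance⟩ : (ObjectProperty.FullSubcategory (fun M : ModuleCat.{u} A => Module.FinitePresentation A M))) = t'.app (⟨ModuleCat.of A A, inferInstance⟩ : (ObjectProperty.FullSubcategory (fun M : ModuleCat.{u} A => Module.FinitePresentation A M))) → t = t') ∧
    ∀ φ : F.obj (⟨ModuleCat.of A A, inferInstance⟩ : (ObjectProperty.FullSubcategory (fun M : ModuleCat.{u} A => Module.FinitePresentation A M))) ⟶ F'.obj (⟨ModuleCat.of A A, inferInstance⟩ : (ObjectProperty.FullSubcategory (fun M : ModuleCat.{u} A => Module.FinitePresentation A M))),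
      (∀ a : A, F.map (ObjectProperty.homMk (ModuleCat.ofHom (LinearMap.lsmul A A a)) : (⟨ModuleCat.of A A, inferInstance⟩ : (ObjectProperty.FullSubcategory (fun M : ModuleCat.{u} A => Module.FinitePresentation A M))) ⟶ (⟨ModuleCat.of A A, inferInstance⟩ : (ObjectProperty.FullSubcategory (fun M : ModuleCat.{u} A => Module.FinitePresentation A M)))) ≫ φ = φ ≫ F'.map (ObjectProperty.homMk (ModuleCat.ofHom (LinearMap.lsmul A A a)) : (⟨ModuleCat.of A A, inferInstance⟩ : (ObjectProperty.FullSubcategory (fun M : ModuleCat.{u} A => Module.FinitePresentation A M))) ⟶ (⟨ModuleCat.of A A, inferInstance⟩ : (ObjectProperty.FullSubcategory (fun M : ModuleCat.{u} A => Module.FinitePresentation A M))))) →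
      ∃ t : F ⟶ F', t.app (⟨ModuleCat.of A A, inferInstance⟩ : (ObjectProperty.FullSubcategory (fun M : ModuleCat.{u} A => Module.FinitePresentation A M))) = φ := by
  have hF : F.Additive := additive_of_preservesFiniteColimits F
  have hF' : F'.Additive := additive_of_preservesFiniteColimits F'
  refine ⟨?_, ?_⟩
  · intro t t' h
    ext X
    apply hom_ext_of_elt F
    intro x
    rw [t.naturality, t'.naturality, h]
  · intro φ hφ
    have hex := fun X => compat_exists (F := F) (F' := F') hφ X
    choose ψ hψ using hex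
    refine ⟨{ app := ψ, naturality := fun X Y f => compat_natural (hψ X) (hψ Y) f }, ?_⟩
    apply hom_ext_of_elt F
    intro x
    have h1 := hψ (objA A) x
    dsimp
    rw [h1]
    have : elt (X := objA A) x = mulBy x := by
      apply ObjectProperty.hom_ext
      apply ModuleCat.hom_ext
      apply LinearMap.ext_ring
      simp [elt]
    rw [this, hφ]

end Groth.Agent.S6726
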