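import Groth.Statements.S6732
import Mathlib.LinearAlgebra.Dual.Lemmas
import Mathlib.LinearAlgebra.FiniteDimensional.Lemmas
import Mathlib.CategoryTheory.Triangulated.Yoneda

set_option autoImplicit false
universe w v u
open CategoryTheory
open DEquiv

namespace Groth.Agent.S6732

set_option linter.unusedSectionVars false

lemma LA {K : Type*} [Field K] {U V : Type*} [AddCommGroup U] [Module K U] [AddCommGroup V]
    [Module K V] (L : U →ₗ[K] V) (lam : Module.Dual K U) (h : ∀ u, L u = 0 → lam u = 0) :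
    ∃ Φ : Module.Dual K V, ∀ u, Φ (L u) = lam u := by
  have : lam ∈ LinearMap.range L.dualMap := by
    rw [LinearMap.range_dualMap_eq_dualAnnihilator_ker, Submodule.mem_dualAnnihilator]
    intro u hu
    exact h u (LinearMap.mem_ker.1 hu)
  obtain ⟨Φ, hΦ⟩ := this
  exact ⟨Φ, fun u => by rw [← hΦ]; rfl⟩

section Trace

variable {k : Type w} [Field k] {T : Type u} [Category.{v} T] [Preadditive T] [Linear k T]
  [∀ X Y : T, Module.Finite k (X ⟶ Y)]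
  (F : T ⥤ T) (c : ∀ X Y : T, (X ⟶ Y) ≃ₗ[k] Module.Dual k (Y ⟶ F.obj X))
  (hc₁ : ∀ (X Y Y' : T) (f : X ⟶ Y) (g : Y ⟶ Y'),
      c X Y' (f ≫ g) = (c X Y f) ∘ₗ Linear.leftComp k (F.obj X) g)
  (hc₂ : ∀ (X' X Y : T) (a : X' ⟶ X) (f : X ⟶ Y),
      c X' Y (a ≫ f) = (c X Y f) ∘ₗ Linear.rightComp k Y (F.map a))

/-- The trace. -/
def tr (X : T) : Module.Dual k (X ⟶ F.obj X) := c X X (𝟙 X)

include hc₁ in
lemma c_eq (X Y : T) (f : X ⟶ Y) (φ : Y ⟶ F.obj X) : c X Y f φ = tr F c X (f ≫ φ) := by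
  have := hc₁ X X Y (𝟙 X) f
  rw [Category.id_comp] at this
  rw [this]
  rfl

include hc₁ hc₂ in
lemma key {X' X : T} (a : X' ⟶ X) (ψ : X ⟶ F.obj X') :
    tr F c X' (a ≫ ψ) = tr F c X (ψ ≫ F.map a) := by
  rw [← c_eq F c hc₁]
  have := hc₂ X' X X a (𝟙 X)
  rw [Category.comp_id] at this
  rw [this]
  rfl

include hc₁ in
lemma N1 {X Y : T} (y y' : Y ⟶ F.obj X)
    (h : ∀ p : X ⟶ Y, tr F c X (p ≫ y) = tr F c X (p ≫ y')) : y = y' := by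
  rw [← sub_eq_zero, ← Module.forall_dual_apply_eq_zero_iff k]
  intro ξ
  obtain ⟨p, rfl⟩ := (c X Y).surjective ξ
  rw [c_eq F c hc₁, Preadditive.comp_sub, map_sub, h, sub_self]

include hc₁ in
lemma N2 {X Y : T} (Ξ : Module.Dual k (X ⟶ Y)) :
    ∃ y : Y ⟶ F.obj X, ∀ p, Ξ p = tr F c X (p ≫ y) := by
  refine ⟨(Module.evalEquiv k (Y ⟶ F.obj X)).symm ((c X Y).symm.dualMap Ξ), fun p => ?_⟩
  rw [← c_eq F c hc₁]
  simp

include hc₁ hc₂ in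
lemma F_map_zero (X' X : T) : F.map (0 : X' ⟶ X) = 0 := by
  apply N1 F c hc₁
  intro p
  rw [← key F c hc₁ hc₂, Limits.zero_comp, Limits.comp_zero, map_zero, map_zero]

end Trace

section Shift

variable {k : Type w} [Field k] {T : Type u} [Category.{v} T] [Preadditive T] [Linear k T]
  [HasShift T ℤ] [∀ n : ℤ, (shiftFunctor T n).Additive] [∀ n : ℤ, (shiftFunctor T n).Linear k]
  [∀ X Y : T, Module.Finite k (X ⟶ Y)]
  (F : T ⥤ T) (c : ∀ X Y : T, (X ⟶ Y) ≃ₗ[k] Module.Dual k (Y ⟶ F.obj X))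
  (hc₁ : ∀ (X Y Y' : T) (f : X ⟶ Y) (g : Y ⟶ Y'),
      c X Y' (f ≫ g) = (c X Y f) ∘ₗ Linear.leftComp k (F.obj X) g)
  (hc₂ : ∀ (X' X Y : T) (a : X' ⟶ X) (f : X ⟶ Y),
      c X' Y (a ≫ f) = (c X Y f) ∘ₗ Linear.rightComp k Y (F.map a))

/-- The shift as a linear equivalence on morphisms. -/
noncomputable def σ (P Q : T) : (P ⟶ Q) ≃ₗ[k] (P⟦(1:ℤ)⟧ ⟶ Q⟦(1:ℤ)⟧) :=
  LinearEquiv.ofBijective ((shiftFunctor T (1:ℤ)).mapLinearMap k)
    ⟨(shiftFunctor T (1:ℤ)).map_injective, (shiftFunctor T (1:ℤ)).map_surjective⟩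

@[simp] lemma σ_apply (P Q : T) (f : P ⟶ Q) : σ (k := k) P Q f = f⟦(1:ℤ)⟧' := rfl

lemma σ_symm_shift (P Q : T) (f : P ⟶ Q) : (σ (k := k) P Q).symm (f⟦(1:ℤ)⟧') = f :=
  (σ (k := k) P Q).symm_apply_apply f

lemma shift_σ_symm (P Q : T) (g : P⟦(1:ℤ)⟧ ⟶ Q⟦(1:ℤ)⟧) :
    ((σ (k := k) P Q).symm g)⟦(1:ℤ)⟧' = g :=
  (σ (k := k) P Q).apply_symm_apply g

/-- The shifted trace (with a sign). -/
noncomputable def tr' (X : T) : Module.Dual k (X⟦(1:ℤ)⟧ ⟶ (F.obj X)⟦(1:ℤ)⟧) :=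
  -(tr F c X ∘ₗ (σ (k := k) X (F.obj X)).symm.toLinearMap)

lemma tr'_shift (X : T) (w : X ⟶ F.obj X) : tr' F c X (w⟦(1:ℤ)⟧') = - tr F c X w := by
  simp [tr', σ_symm_shift]

include hc₁ in
lemma R'_inj {X Y : T} (q q' : Y ⟶ (F.obj X)⟦(1:ℤ)⟧)
    (h : ∀ p : X⟦(1:ℤ)⟧ ⟶ Y, tr' F c X (p ≫ q) = tr' F c X (p ≫ q')) : q = q' := by
  rw [← cancel_epi (shiftNegShift Y (1:ℤ)).hom]
  apply (σ (k := k) _ _).symm.injective
  apply N1 F c hc₁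
  intro p'
  have h1 := h (p'⟦(1:ℤ)⟧' ≫ (shiftNegShift Y (1:ℤ)).hom)
  have e1 : ∀ r : Y ⟶ (F.obj X)⟦(1:ℤ)⟧, (p'⟦(1:ℤ)⟧' ≫ (shiftNegShift Y (1:ℤ)).hom) ≫ r =
      (p' ≫ (σ (k := k) _ _).symm ((shiftNegShift Y (1:ℤ)).hom ≫ r))⟦(1:ℤ)⟧' := by
    intro r
    rw [Functor.map_comp, shift_σ_symm, Category.assoc]
  rw [e1, e1, tr'_shift, tr'_shift, neg_inj] at h1
  exact h1

include hc₁ in
lemma R'_ex {X Y : T} (Ξ : Module.Dual k (X⟦(1:ℤ)⟧ ⟶ Y)) :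
    ∃ q : Y ⟶ (F.obj X)⟦(1:ℤ)⟧, ∀ p, Ξ p = tr' F c X (p ≫ q) := by
  obtain ⟨q₁, hq₁⟩ := N2 F c hc₁ (X := X) (Y := Y⟦(-1:ℤ)⟧)
    (-(Ξ ∘ₗ Linear.rightComp k _ (shiftNegShift Y (1:ℤ)).hom ∘ₗ (σ (k := k) X _).toLinearMap))
  refine ⟨(shiftNegShift Y (1:ℤ)).inv ≫ q₁⟦(1:ℤ)⟧', fun p => ?_⟩
  have hp : p = ((σ (k := k) _ _).symm (p ≫ (shiftNegShift Y (1:ℤ)).inv))⟦(1:ℤ)⟧' ≫
      (shiftNegShift Y (1:ℤ)).hom := by
    rw [shift_σ_symm, Category.assoc, Iso.inv_hom_id, Category.comp_id]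
  have e1 : p ≫ (shiftNegShift Y (1:ℤ)).inv ≫ q₁⟦(1:ℤ)⟧' =
      ((σ (k := k) _ _).symm (p ≫ (shiftNegShift Y (1:ℤ)).inv) ≫ q₁)⟦(1:ℤ)⟧' := by
    rw [Functor.map_comp, shift_σ_symm, Category.assoc]
  rw [e1, tr'_shift, ← hq₁]
  simp only [LinearMap.neg_apply, neg_neg, LinearMap.coe_comp, Function.comp_apply,
    LinearEquiv.coe_coe, σ_apply, Linear.rightComp_apply, shift_σ_symm, Category.assoc,
    Iso.inv_hom_id, Category.comp_id]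

/-- `(S X)⟦1⟧ ⟶ S (X⟦1⟧)`. -/
noncomputable def εm (X : T) : (F.obj X)⟦(1:ℤ)⟧ ⟶ F.obj (X⟦(1:ℤ)⟧) :=
  (N2 F c hc₁ (X := X⟦(1:ℤ)⟧) (Y := (F.obj X)⟦(1:ℤ)⟧) (tr' F c X)).choose

lemma εm_spec (X : T) (p : X⟦(1:ℤ)⟧ ⟶ (F.obj X)⟦(1:ℤ)⟧) :
    tr' F c X p = tr F c (X⟦(1:ℤ)⟧) (p ≫ εm F c hc₁ X) :=
  (N2 F c hc₁ (X := X⟦(1:ℤ)⟧) (Y := (F.obj X)⟦(1:ℤ)⟧) (tr' F c X)).choose_spec p

/-- `S (X⟦1⟧) ⟶ (S X)⟦1⟧`. -/
noncomputable def em (X : T) : F.obj (X⟦(1:ℤ)⟧) ⟶ (F.obj X)⟦(1:ℤ)⟧ :=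
  (R'_ex F c hc₁ (X := X) (Y := F.obj (X⟦(1:ℤ)⟧)) (tr F c (X⟦(1:ℤ)⟧))).choose

lemma em_spec (X : T) (q : X⟦(1:ℤ)⟧ ⟶ F.obj (X⟦(1:ℤ)⟧)) :
    tr F c (X⟦(1:ℤ)⟧) q = tr' F c X (q ≫ em F c hc₁ X) :=
  (R'_ex F c hc₁ (X := X) (Y := F.obj (X⟦(1:ℤ)⟧)) (tr F c (X⟦(1:ℤ)⟧))).choose_spec q

lemma em_εm (X : T) : em F c hc₁ X ≫ εm F c hc₁ X = 𝟙 _ := by
  apply N1 F c hc₁
  intro p
  rw [← Category.assoc, ← εm_spec, ← em_spec, Category.comp_id]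

lemma εm_em (X : T) : εm F c hc₁ X ≫ em F c hc₁ X = 𝟙 _ := by
  apply R'_inj F c hc₁
  intro p
  rw [← Category.assoc, ← em_spec, ← εm_spec, Category.comp_id]

include hc₂ in
lemma em_nat {X' X : T} (a : X' ⟶ X) :
    F.map (a⟦(1:ℤ)⟧') ≫ em F c hc₁ X = em F c hc₁ X' ≫ (F.map a)⟦(1:ℤ)⟧' := by
  apply R'_inj F c hc₁
  intro p
  rw [← Category.assoc, ← em_spec, ← key F c hc₁ hc₂]
  have e1 : p ≫ em F c hc₁ X' ≫ (F.map a)⟦(1:ℤ)⟧' =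
      ((σ (k := k) _ _).symm (p ≫ em F c hc₁ X') ≫ F.map a)⟦(1:ℤ)⟧' := by
    rw [Functor.map_comp, shift_σ_symm, Category.assoc]
  rw [e1, tr'_shift, ← key F c hc₁ hc₂, ← tr'_shift, Functor.map_comp, shift_σ_symm,
    ← Category.assoc, ← em_spec]

/-- The commutation isomorphism of the Serre functor with the shift. -/
noncomputable def eIso : shiftFunctor T (1 : ℤ) ⋙ F ≅ F ⋙ shiftFunctor T (1 : ℤ) :=
  NatIso.ofComponents
    (fun X => ⟨em F c hc₁ X, εm F c hc₁ X, em_εm F c hc₁ X, εm_em F c hc₁ X⟩)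
    (fun a => em_nat F c hc₁ hc₂ a)

end Shift

section Main

open CategoryTheory.Limits CategoryTheory.Pretriangulated

variable {k : Type w} [Field k] {T : Type u} [Category.{v} T] [Preadditive T] [Linear k T]
  [HasZeroObject T]
  [HasShift T ℤ] [∀ n : ℤ, (shiftFunctor T n).Additive] [∀ n : ℤ, (shiftFunctor T n).Linear k]
  [Pretriangulated T]
  [∀ X Y : T, Module.Finite k (X ⟶ Y)]
  (F : T ⥤ T) (c : ∀ X Y : T, (X ⟶ Y) ≃ₗ[k] Module.Dual k (Y ⟶ F.obj X))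
  (hc₁ : ∀ (X Y Y' : T) (f : X ⟶ Y) (g : Y ⟶ Y'),
      c X Y' (f ≫ g) = (c X Y f) ∘ₗ Linear.leftComp k (F.obj X) g)
  (hc₂ : ∀ (X' X Y : T) (a : X' ⟶ X) (f : X ⟶ Y),
      c X' Y (a ≫ f) = (c X Y f) ∘ₗ Linear.rightComp k Y (F.map a))

include hc₁ hc₂ in
/-- Dual exactness. -/
lemma dualExact {P Q R : T} (r : P ⟶ Q) (s : Q ⟶ R)
    (H : ∀ (X : T) (q : Q ⟶ X), r ≫ q = 0 → ∃ q' : R ⟶ X, q = s ≫ q')
    {X : T} (y : X ⟶ F.obj Q) (hy : y ≫ F.map s = 0) :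
    ∃ x : X ⟶ F.obj P, y = x ≫ F.map r := by
  obtain ⟨Ξ, hΞ⟩ := LA (Linear.leftComp k X r) (tr F c Q ∘ₗ Linear.rightComp k Q y) (by
    intro q hq
    obtain ⟨q', rfl⟩ := H X q hq
    change tr F c Q ((s ≫ q') ≫ y) = 0
    rw [Category.assoc, key F c hc₁ hc₂, Category.assoc, hy, comp_zero, map_zero])
  obtain ⟨x, hx⟩ := N2 F c hc₁ Ξ
  refine ⟨x, N1 F c hc₁ _ _ fun q => ?_⟩
  have h1 : tr F c Q (q ≫ y) = Ξ (r ≫ q) := (hΞ q).symm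
  rw [h1, hx, Category.assoc, key F c hc₁ hc₂, Category.assoc]

include hc₂ in
/-- The comparison morphism from the cone of `S f` to `S C`. -/
lemma exists_φ {A B C C' : T} (f : A ⟶ B) (g : B ⟶ C) (h : C ⟶ A⟦(1:ℤ)⟧)
    (hT : Triangle.mk f g h ∈ distTriang T)
    (g' : F.obj B ⟶ C') (h' : C' ⟶ (F.obj A)⟦(1:ℤ)⟧)
    (hT₂ : Triangle.mk (F.map f) g' h' ∈ distTriang T) :
    ∃ φ : C' ⟶ F.obj C, g' ≫ φ = F.map g ∧ φ ≫ F.map h = h' ≫ εm F c hc₁ A := by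
  obtain ⟨Φ, hΦ⟩ := LA
    ((Linear.rightComp k C g').coprod (Linear.leftComp k C' h))
    ((tr F c C ∘ₗ Linear.rightComp k C (F.map g)).coprod
      (tr F c (A⟦(1:ℤ)⟧) ∘ₗ Linear.rightComp k (A⟦(1:ℤ)⟧) (h' ≫ εm F c hc₁ A))) (by
    rintro ⟨u, v⟩ huv
    change u ≫ g' + h ≫ v = 0 at huv
    change tr F c C (u ≫ F.map g) + tr F c (A⟦(1:ℤ)⟧) (v ≫ h' ≫ εm F c hc₁ A) = 0
    have huv' : h ≫ (-v) = u ≫ g' := by
      rw [Preadditive.comp_neg, eq_comm, ← sub_eq_zero, sub_neg_eq_add]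
      exact huv
    obtain ⟨a, ha₁, ha₂⟩ : ∃ a : B ⟶ F.obj A, g ≫ u = a ≫ F.map f ∧
        (-f⟦(1:ℤ)⟧') ≫ a⟦(1:ℤ)⟧' = (-v) ≫ h' :=
      complete_distinguished_triangle_morphism₁ _ _
        (rot_of_distTriang _ hT) hT₂ u (-v) huv'
    have e1 : tr F c C (u ≫ F.map g) = tr F c A (f ≫ a) := by
      rw [← key F c hc₁ hc₂, ha₁, ← key F c hc₁ hc₂]
    have e2 : v ≫ h' ≫ εm F c hc₁ A = (f ≫ a)⟦(1:ℤ)⟧' ≫ εm F c hc₁ A := by
      have : v ≫ h' = (f ≫ a)⟦(1:ℤ)⟧' := by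
        rw [Functor.map_comp]
        have := ha₂
        rw [Preadditive.neg_comp, Preadditive.neg_comp, neg_inj] at this
        exact this.symm
      rw [← Category.assoc, this]
    rw [e1, e2, ← εm_spec, tr'_shift, add_neg_cancel])
  obtain ⟨φ, hφ⟩ := N2 F c hc₁ Φ
  refine ⟨φ, ?_, ?_⟩
  · apply N1 F c hc₁
    intro u
    have := hΦ (u, 0)
    simp only [LinearMap.coprod_apply, map_zero, add_zero] at this
    rw [← Category.assoc, ← hφ]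
    exact this
  · apply N1 F c hc₁
    intro v
    have := hΦ (0, v)
    simp only [LinearMap.coprod_apply, map_zero, zero_add] at this
    rw [← Category.assoc, ← key F c hc₁ hc₂, ← Category.assoc, ← hφ]
    exact this

include hc₂ in
lemma isIso_φ {A B C C' : T} (f : A ⟶ B) (g : B ⟶ C) (h : C ⟶ A⟦(1:ℤ)⟧)
    (hT : Triangle.mk f g h ∈ distTriang T)
    (g' : F.obj B ⟶ C') (h' : C' ⟶ (F.obj A)⟦(1:ℤ)⟧)
    (hT₂ : Triangle.mk (F.map f) g' h' ∈ distTriang T)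
    (φ : C' ⟶ F.obj C) (h1 : g' ≫ φ = F.map g) (h2 : φ ≫ F.map h = h' ≫ εm F c hc₁ A) :
    IsIso φ := by
  have inj : ∀ (X : T) (z : X ⟶ C'), z ≫ φ = 0 → z = 0 := by
    intro X z hz
    have hz' : z ≫ h' = 0 := by
      have h3 : z ≫ h' ≫ εm F c hc₁ A = 0 := by rw [← h2, ← Category.assoc, hz, zero_comp]
      have h4 := congrArg (· ≫ em F c hc₁ A) h3
      simpa [εm_em] using h4
    obtain ⟨y, rfl⟩ : ∃ y : X ⟶ F.obj B, z = y ≫ g' := Triangle.coyoneda_exact₃ _ hT₂ z hz'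
    have hy : y ≫ F.map g = 0 := by rw [← h1, ← Category.assoc, hz]
    obtain ⟨x, rfl⟩ := dualExact F c hc₁ hc₂ f g
      (fun X q hq => Triangle.yoneda_exact₂ _ hT q hq) y hy
    have e12 : F.map f ≫ g' = 0 := comp_distTriang_mor_zero₁₂ _ hT₂
    rw [Category.assoc, e12, comp_zero]
  have surj : ∀ (X : T) (z : X ⟶ F.obj C), ∃ z' : X ⟶ C', z' ≫ φ = z := by
    intro X z
    have e31 : h ≫ f⟦(1:ℤ)⟧' = 0 := comp_distTriang_mor_zero₃₁ _ hT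
    have hw : (z ≫ F.map h ≫ em F c hc₁ A) ≫ (F.map f)⟦(1:ℤ)⟧' = 0 := by
      rw [Category.assoc, Category.assoc, ← em_nat F c hc₁ hc₂, ← F.map_comp_assoc, e31,
        F_map_zero F c hc₁ hc₂, zero_comp, comp_zero]
    obtain ⟨z', hz'⟩ : ∃ z' : X ⟶ C', z ≫ F.map h ≫ em F c hc₁ A = z' ≫ h' :=
      Triangle.coyoneda_exact₁ _ hT₂ (z ≫ F.map h ≫ em F c hc₁ A) hw
    have h5 : (z - z' ≫ φ) ≫ F.map h = 0 := by
      rw [Preadditive.sub_comp, Category.assoc, h2, ← Category.assoc z', ← hz', Category.assoc,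
        Category.assoc, em_εm, Category.comp_id, sub_self]
    obtain ⟨y, hy⟩ := dualExact F c hc₁ hc₂ g h
      (fun X q hq => Triangle.yoneda_exact₃ _ hT q hq) (z - z' ≫ φ) h5
    refine ⟨z' + y ≫ g', ?_⟩
    rw [Preadditive.add_comp, Category.assoc, h1, ← hy]
    abel
  obtain ⟨ψ, hψ⟩ := surj _ (𝟙 _)
  refine ⟨ψ, ?_, hψ⟩
  rw [← sub_eq_zero]
  apply inj
  rw [Preadditive.sub_comp, Category.assoc, hψ, Category.comp_id, Category.id_comp, sub_self]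

end Main


open CategoryTheory.Limits CategoryTheory.Pretriangulated in
set_option backward.defeqAttrib.useBackward true in
set_option backward.isDefEq.respectTransparency false in
theorem main
    {k : Type w} [Field k]
    {T : Type u} [Category.{v} T] [Preadditive T] [Linear k T] [HasZeroObject T] [HasShift T ℤ]
    [∀ n : ℤ, (shiftFunctor T n).Additive] [∀ n : ℤ, (shiftFunctor T n).Linear k] [Pretriangulated T]
    [∀ X Y : T, Module.Finite k (X ⟶ Y)]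
    (S : T ≌ T)
    (c : ∀ X Y : T, (X ⟶ Y) ≃ₗ[k] Module.Dual k (Y ⟶ S.functor.obj X))
    (hc₁ : ∀ (X Y Y' : T) (f : X ⟶ Y) (g : Y ⟶ Y'),
      c X Y' (f ≫ g) = (c X Y f) ∘ₗ Linear.leftComp k (S.functor.obj X) g)
    (hc₂ : ∀ (X' X Y : T) (a : X' ⟶ X) (f : X ⟶ Y),
      c X' Y (a ≫ f) = (c X Y f) ∘ₗ Linear.rightComp k Y (S.functor.map a)) :
    ∃ e : shiftFunctor T (1 : ℤ) ⋙ S.functor ≅ S.functor ⋙ shiftFunctor T (1 : ℤ),
      ∀ T' ∈ distTriang T,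
        Triangle.mk (S.functor.map T'.mor₁) (S.functor.map T'.mor₂)
          (S.functor.map T'.mor₃ ≫ e.hom.app T'.obj₁) ∈ distTriang T := by
  refine ⟨eIso S.functor c hc₁ hc₂, ?_⟩
  intro T' hT'
  obtain ⟨C', g', h', hT₂⟩ := distinguished_cocone_triangle (S.functor.map T'.mor₁)
  obtain ⟨φ, h1, h2⟩ := exists_φ S.functor c hc₁ hc₂ T'.mor₁ T'.mor₂ T'.mor₃ hT' g' h' hT₂
  have hiso := isIso_φ S.functor c hc₁ hc₂ T'.mor₁ T'.mor₂ T'.mor₃ hT' g' h' hT₂ φ h1 h2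
  refine isomorphic_distinguished _ hT₂ _ ?_
  refine Triangle.isoMk _ _ (Iso.refl _) (Iso.refl _) (asIso φ).symm ?_ ?_ ?_
  · dsimp
    simp
  · dsimp
    rw [Category.id_comp, ← h1, Category.assoc, IsIso.hom_inv_id, Category.comp_id]
  · dsimp
    rw [CategoryTheory.Functor.map_id, Category.comp_id, IsIso.eq_inv_comp, ← Category.assoc, h2,
      Category.assoc]
    change h' ≫ εm S.functor c hc₁ T'.obj₁ ≫ em S.functor c hc₁ T'.obj₁ = h'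
    rw [εm_em, Category.comp_id]

open CategoryTheory.Limits CategoryTheory.Pretriangulated in
/-- Let k be a field and T a k-linear triangulated category with dim_k Hom(X, Y) < ∞ for all X, Y, and
let (S, c) be a Serre functor: a k-linear equivalence T ⥤ T with k-linear isomorphisms c_{X,Y} :
Hom(X, Y) ≅ Hom(Y, S X)^∨ natural in X and Y. Then S is an exact functor of triangulated categories:
there is an isomorphism of functors S ∘ ⟦1⟧ ≅ ⟦1⟧ ∘ S such that for every distinguished triangle (A,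
B, C, f, g, h) the triangle (S A, S B, S C, S f, S g, S h followed by that isomorphism at A) is
distinguished. -/
theorem result
    {k : Type w} [Field k]
    {T : Type u} [Category.{v} T] [Preadditive T] [Linear k T] [HasZeroObject T] [HasShift T ℤ]
    [∀ n : ℤ, (shiftFunctor T n).Additive] [∀ n : ℤ, (shiftFunctor T n).Linear k] [Pretriangulated T]
    [IsTriangulated T] [∀ X Y : T, Module.Finite k (X ⟶ Y)]
    (S : T ≌ T) [S.functor.Additive] [S.functor.Linear k]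
    (c : ∀ X Y : T, (X ⟶ Y) ≃ₗ[k] Module.Dual k (Y ⟶ S.functor.obj X))
    (hc₁ : ∀ (X Y Y' : T) (f : X ⟶ Y) (g : Y ⟶ Y'),
      c X Y' (f ≫ g) = (c X Y f) ∘ₗ Linear.leftComp k (S.functor.obj X) g)
    (hc₂ : ∀ (X' X Y : T) (a : X' ⟶ X) (f : X ⟶ Y),
      c X' Y (a ≫ f) = (c X Y f) ∘ₗ Linear.rightComp k Y (S.functor.map a)) :
    ∃ e : shiftFunctor T (1 : ℤ) ⋙ S.functor ≅ S.functor ⋙ shiftFunctor T (1 : ℤ),
      ∀ T' ∈ distTriang T,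
        Triangle.mk (S.functor.map T'.mor₁) (S.functor.map T'.mor₂)
          (S.functor.map T'.mor₃ ≫ e.hom.app T'.obj₁) ∈ distTriang T := by
  exact main S c hc₁ hc₂

end Groth.Agent.S6732
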