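import Groth.Statements.S6775
import Mathlib

set_option autoImplicit false
open CategoryTheory CategoryTheory.Limits
universe v u
open CategoryTheory CategoryTheory.Abelian

namespace Groth.Agent.S6775

/-- In an abelian category a cartesian square whose bottom arrow `k` is an epimorphism is also
cocartesian, and the arrow `f` opposite to `k` is an epimorphism. -/
theorem result {A : Type u} [Category.{v} A] [Abelian A] {w x y z : A} (f : w ⟶ y) (g : w ⟶ x) (h : y ⟶ z) (k : x ⟶ z) (sq : IsPullback f g h k) [Epi k] : IsPushout f g h k ∧ Epi f := by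
  have hf : Epi f :=
    MorphismProperty.of_isPullback (P := MorphismProperty.epimorphisms A) sq.flip (inferInstanceAs (Epi k))
  refine ⟨?_, hf⟩
  refine ⟨sq.toCommSq, ⟨PushoutCocone.IsColimit.mk _ (fun s => ?_) (fun s => ?_) (fun s => ?_)
    (fun s m hm₁ hm₂ => ?_)⟩⟩
  · -- construct the descent
    refine Abelian.epiDesc k s.inr ?_
    have e : (0 : kernel k ⟶ y) ≫ h = kernel.ι k ≫ k := by simp
    have h1 : sq.lift 0 (kernel.ι k) e ≫ g = kernel.ι k := sq.lift_snd _ _ _
    have h2 : sq.lift 0 (kernel.ι k) e ≫ f = 0 := sq.lift_fst _ _ _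
    rw [← h1, Category.assoc, ← s.condition, ← Category.assoc, h2, zero_comp]
  · rw [← cancel_epi f]
    have := Abelian.comp_epiDesc k s.inr (by
      have e : (0 : kernel k ⟶ y) ≫ h = kernel.ι k ≫ k := by simp
      have h1 : sq.lift 0 (kernel.ι k) e ≫ g = kernel.ι k := sq.lift_snd _ _ _
      have h2 : sq.lift 0 (kernel.ι k) e ≫ f = 0 := sq.lift_fst _ _ _
      rw [← h1, Category.assoc, ← s.condition, ← Category.assoc, h2, zero_comp])
    rw [← Category.assoc, sq.w, Category.assoc, this, s.condition]
  · exact Abelian.comp_epiDesc k s.inr _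
  · rw [← cancel_epi k, hm₂]
    exact (Abelian.comp_epiDesc k s.inr _).symm

end Groth.Agent.S6775
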