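import Groth.Statements.S6778
import Mathlib

set_option autoImplicit false
open CategoryTheory CategoryTheory.Limits
universe v u
open CategoryTheory CategoryTheory.Abelian

namespace Groth.Agent.S6778

/-- For a commutative diagram with rows `x ⟶ y ⟶ z` and `u ⟶ v ⟶ w` in an abelian category, if the
second row is exact and the second map `g` of the first row is an epimorphism, then the induced
sequence of cokernels of the vertical maps is exact. -/
theorem result {A : Type u} [Category.{v} A] [Abelian A] {x y z u' v' w : A} (f : x ⟶ y) (g : y ⟶ z) (k : u' ⟶ v') (l : v' ⟶ w) (α : x ⟶ u') (β : y ⟶ v') (γ : z ⟶ w) (h₁ : α ≫ k = f ≫ β) (h₂ : β ≫ l = g ≫ γ) (hkl : k ≫ l = 0) (hex : (ShortComplex.mk k l hkl).Exact) [Epi g] : ∃ hc : cokernel.map α β f k h₁ ≫ cokernel.map β γ g l h₂ = 0, (ShortComplex.mk _ _ hc).Exact := by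
  have hc : cokernel.map α β f k h₁ ≫ cokernel.map β γ g l h₂ = 0 := by
    rw [← cancel_epi (cokernel.π α)]
    simp [reassoc_of% hkl]
  refine ⟨hc, ?_⟩
  rw [ShortComplex.exact_iff_exact_up_to_refinements]
  intro T t ht
  dsimp at t ht
  obtain ⟨T1, π1, hπ1, t1, ht1⟩ := surjective_up_to_refinements_of_epi (cokernel.π β) t
  have hγ : (ShortComplex.mk γ (cokernel.π γ) (cokernel.condition γ)).Exact :=
    ShortComplex.exact_of_g_is_cokernel _ (cokernelIsCokernel γ)
  have e1 : (t1 ≫ l) ≫ cokernel.π γ = 0 := by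
    have : t1 ≫ cokernel.π β ≫ cokernel.map β γ g l h₂ = 0 := by
      rw [← Category.assoc, ← ht1, Category.assoc, ht, comp_zero]
    simpa using this
  obtain ⟨T2, π2, hπ2, t2, ht2⟩ := hγ.exact_up_to_refinements (t1 ≫ l) e1
  dsimp at t2 ht2
  obtain ⟨T3, π3, hπ3, t3, ht3⟩ := surjective_up_to_refinements_of_epi g t2
  have e2 : (π3 ≫ π2 ≫ t1 - t3 ≫ β) ≫ l = 0 := by
    rw [Preadditive.sub_comp, sub_eq_zero]
    simp only [Category.assoc]
    rw [ht2, ← Category.assoc π3, ht3, h₂]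
    simp
  obtain ⟨T4, π4, hπ4, t4, ht4⟩ := hex.exact_up_to_refinements _ e2
  dsimp at t4 ht4
  refine ⟨T4, π4 ≫ π3 ≫ π2 ≫ π1, inferInstance, t4 ≫ cokernel.π α, ?_⟩
  dsimp
  have : t4 ≫ k ≫ cokernel.π β = π4 ≫ π3 ≫ π2 ≫ π1 ≫ t := by
    rw [← Category.assoc, ← ht4, Category.assoc, Preadditive.sub_comp]
    simp [ht1]
  simp [this]

end Groth.Agent.S6778
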