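import Groth.Statements.S6779
import Groth.Agent.H92.Moore

set_option autoImplicit false
open CategoryTheory
universe u
open SSet

namespace Groth.Agent.S6779

/-- The underlying simplicial set of a simplicial group is a Kan complex. -/
theorem result (X : SimplicialObject GrpCat.{u}) : SSet.KanComplex (X ⋙ forget GrpCat.{u}) := by
  refine Groth.Agent.H92.Moore.kanComplex_of_fill ?_ ?_
  · intro i x
    obtain ⟨w, -, hw⟩ := Groth.Agent.H92.Moore.exists_filler_zero
      (A := X.obj (Opposite.op (SimplexCategory.mk 1))) (B := X.obj (Opposite.op (SimplexCategory.mk 0)))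
      (A' := PUnit.{1}) (B' := PUnit.{1})
      (fun j => (X.δ j).hom) (X.σ 0).hom (fun _ => 1) 1 1 1
      (by
        intro j b
        fin_cases j
        · exact ConcreteCategory.congr_hom (X.δ_comp_σ_self (i := 0)) b
        · exact ConcreteCategory.congr_hom (X.δ_comp_σ_succ (i := 0)) b)
      (fun _ _ => rfl) (fun _ => rfl) i x PUnit.unit (fun _ _ => rfl) 1 rfl
    exact ⟨w, hw⟩
  · intro n i x hx
    obtain ⟨w, -, hw⟩ := Groth.Agent.H92.Moore.exists_filler
      (A := X.obj (Opposite.op (SimplexCategory.mk (n+2))))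
      (B := X.obj (Opposite.op (SimplexCategory.mk (n+1))))
      (C := X.obj (Opposite.op (SimplexCategory.mk n)))
      (A' := PUnit.{1}) (B' := PUnit.{1})
      (fun j => (X.δ j).hom) (fun j => (X.σ j).hom) (fun j => (X.δ j).hom) (fun j => (X.σ j).hom)
      (fun _ => 1) (fun _ => 1) 1 1 i x PUnit.unit
      (fun i j H a => ConcreteCategory.congr_hom (X.δ_comp_δ H) a)
      (fun i j H b => ConcreteCategory.congr_hom (X.δ_comp_σ_of_le H) b)
      (fun i b => ConcreteCategory.congr_hom (X.δ_comp_σ_self (i := i)) b)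
      (fun i b => ConcreteCategory.congr_hom (X.δ_comp_σ_succ (i := i)) b)
      (fun i j H b => ConcreteCategory.congr_hom (X.δ_comp_σ_of_gt H) b)
      (fun _ _ => rfl) (fun _ _ => rfl)
      hx (fun _ _ => rfl) 1 rfl
    exact ⟨w, hw⟩

end Groth.Agent.S6779
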