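import Groth.Statements.S6780
import Groth.Agent.H92.Moore

set_option autoImplicit false
open CategoryTheory
universe u
open SSet

namespace Groth.Agent.S6780

/-- A degreewise surjective homomorphism of simplicial abelian groups is a Kan fibration of the
underlying simplicial sets. -/
theorem result {X Y : SimplicialObject AddCommGrpCat.{u}} (f : X ⟶ Y) (hf : ∀ n : SimplexCategoryᵒᵖ, Function.Surjective (f.app n)) : SSet.modelCategoryQuillen.J.rlp (X := X ⋙ forget AddCommGrpCat.{u}) (Y := Y ⋙ forget AddCommGrpCat.{u}) (Functor.whiskerRight f (forget AddCommGrpCat.{u})) := by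
  refine Groth.Agent.H92.Moore.rlp_J_of_fill _ ?_ ?_
  · intro i x y hy
    obtain ⟨w₀, hw₀⟩ := hf (Opposite.op (SimplexCategory.mk 1)) y
    exact Groth.Agent.H92.Moore.exists_filler_zero_add
      (A := X.obj (Opposite.op (SimplexCategory.mk 1))) (B := X.obj (Opposite.op (SimplexCategory.mk 0)))
      (A' := Y.obj (Opposite.op (SimplexCategory.mk 1))) (B' := Y.obj (Opposite.op (SimplexCategory.mk 0)))
      (fun j => (X.δ j).hom) (X.σ 0).hom (fun j => (Y.δ j).hom) (Y.σ 0).hom
      (f.app _).hom (f.app _).hom
      (by
        intro j b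
        fin_cases j
        · exact ConcreteCategory.congr_hom (X.δ_comp_σ_self (i := 0)) b
        · exact ConcreteCategory.congr_hom (X.δ_comp_σ_succ (i := 0)) b)
      (fun j a => ConcreteCategory.congr_hom (f.naturality (SimplexCategory.δ j).op) a)
      (fun b => ConcreteCategory.congr_hom (f.naturality (SimplexCategory.σ 0).op) b)
      i x y hy w₀ hw₀
  · intro n i x y hx hy
    obtain ⟨w₀, hw₀⟩ := hf (Opposite.op (SimplexCategory.mk (n+2))) y
    exact Groth.Agent.H92.Moore.exists_filler_add
      (A := X.obj (Opposite.op (SimplexCategory.mk (n+2))))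
      (B := X.obj (Opposite.op (SimplexCategory.mk (n+1))))
      (C := X.obj (Opposite.op (SimplexCategory.mk n)))
      (A' := Y.obj (Opposite.op (SimplexCategory.mk (n+2))))
      (B' := Y.obj (Opposite.op (SimplexCategory.mk (n+1))))
      (fun j => (X.δ j).hom) (fun j => (X.σ j).hom) (fun j => (X.δ j).hom) (fun j => (X.σ j).hom)
      (fun j => (Y.δ j).hom) (fun j => (Y.σ j).hom)
      (f.app _).hom (f.app _).hom i x y
      (fun i j H a => ConcreteCategory.congr_hom (X.δ_comp_δ H) a)
      (fun i j H b => ConcreteCategory.congr_hom (X.δ_comp_σ_of_le H) b)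
      (fun i b => ConcreteCategory.congr_hom (X.δ_comp_σ_self (i := i)) b)
      (fun i b => ConcreteCategory.congr_hom (X.δ_comp_σ_succ (i := i)) b)
      (fun i j H b => ConcreteCategory.congr_hom (X.δ_comp_σ_of_gt H) b)
      (fun j a => ConcreteCategory.congr_hom (f.naturality (SimplexCategory.δ j).op) a)
      (fun j b => ConcreteCategory.congr_hom (f.naturality (SimplexCategory.σ j).op) b)
      hx hy w₀ hw₀

end Groth.Agent.S6780
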