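import Groth.Statements.S6783
import Mathlib
import Groth.Agent.H92.Moore

set_option autoImplicit false
open CategoryTheory
universe u
open SSet

namespace Groth.Agent.S6783


open Simplicial SimplexCategory Opposite CategoryTheory.Limits

section api
variable {A B : Type u} (f : A ⟶ B)

/-- the Čech nerve as a simplicial set -/
noncomputable abbrev E : SSet.{u} := (Arrow.mk f).cechNerve

/-- the `i`-th vertex of a simplex of the Čech nerve -/
noncomputable def πv {m : ℕ} (i : Fin (m + 1)) (w : (E f) _⦋m⦌) : A :=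
  WidePullback.π (fun _ : Fin (m + 1) => (Arrow.mk f).hom) i w

/-- the base point of a simplex of the Čech nerve -/
noncomputable def bs {m : ℕ} (w : (E f) _⦋m⦌) : B :=
  WidePullback.base (fun _ : Fin (m + 1) => (Arrow.mk f).hom) w

theorem f_πv {m : ℕ} (i : Fin (m + 1)) (w : (E f) _⦋m⦌) : f (πv f i w) = bs f w :=
  ConcreteCategory.congr_hom
    (WidePullback.π_arrow (fun _ : Fin (m + 1) => (Arrow.mk f).hom) i) w

theorem πv_map {m m' : ℕ} (θ : (SimplexCategory.mk m') ⟶ (SimplexCategory.mk m))
    (w : (E f) _⦋m⦌) (i : Fin (m' + 1)) :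
    πv f i ((E f).map θ.op w) = πv f (θ.toOrderHom i) w :=
  ConcreteCategory.congr_hom
    (WidePullback.lift_π (fun _ : Fin (m' + 1) => (Arrow.mk f).hom)
      (WidePullback.base (fun _ : Fin (m + 1) => (Arrow.mk f).hom))
      (fun i => WidePullback.π (fun _ : Fin (m + 1) => (Arrow.mk f).hom) (θ.toOrderHom i))
      (by simp) i) w

theorem E_ext {m : ℕ} (w w' : (E f) _⦋m⦌) (h : ∀ i, πv f i w = πv f i w') : w = w' :=
  Concrete.widePullback_ext' (fun _ : Fin (m + 1) => (Arrow.mk f).hom) w w' h

theorem exists_E {m : ℕ} (b : B) (a : Fin (m + 1) → A) (h : ∀ i, f (a i) = b) :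
    ∃ w : (E f) _⦋m⦌, (∀ i, πv f i w = a i) ∧ bs f w = b := by
  let bm : (PUnit.{u + 1} : Type u) ⟶ (Arrow.mk f).right := TypeCat.ofHom fun _ => b
  let am : ∀ _ : Fin (m + 1), (PUnit.{u + 1} : Type u) ⟶ (Arrow.mk f).left :=
    fun i => TypeCat.ofHom fun _ => a i
  have hw : ∀ i, am i ≫ (Arrow.mk f).hom = bm := by
    intro i
    ext x
    exact h i
  refine ⟨(WidePullback.lift (arrows := fun _ : Fin (m + 1) => (Arrow.mk f).hom) bm am hw)
    PUnit.unit, fun i => ?_, ?_⟩
  · exact ConcreteCategory.congr_hom
      (WidePullback.lift_π (fun _ : Fin (m + 1) => (Arrow.mk f).hom) bm am hw i)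
      (PUnit.unit : (PUnit.{u + 1} : Type u))
  · exact ConcreteCategory.congr_hom
      (WidePullback.lift_base (fun _ : Fin (m + 1) => (Arrow.mk f).hom) bm am hw)
      (PUnit.unit : (PUnit.{u + 1} : Type u))

end api


/-- For a surjective map of sets `f : A → B`, the augmentation from the Čech nerve of `f` (with
`n`-simplices the `(n+1)`-fold fibre product of `A` over `B`) to the constant simplicial set `B` is
a trivial Kan fibration. -/
theorem result {A B : Type u} (f : A ⟶ B) (hf : Function.Surjective f) : SSet.modelCategoryQuillen.I.rlp (Arrow.mk f).augmentedCechNerve.hom := by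
  apply Groth.Agent.H92.Moore.rlp_I_of_fill
  · -- surjectivity on vertices
    intro y
    obtain ⟨a, ha⟩ := hf y
    obtain ⟨w, _, hw⟩ := exists_E f (m := 0) y (fun _ => a) (fun _ => ha)
    exact ⟨w, hw⟩
  · -- edges
    intro x y hy
    have hy' : ∀ j, y = bs f (x j) := hy
    obtain ⟨w, hwv, hwb⟩ := exists_E f (m := 1) y
      (fun i => Fin.cases (πv f 0 (x 1)) (fun _ => πv f 0 (x 0)) i) (by
        intro i
        refine Fin.cases ?_ (fun i' => ?_) i
        · rw [Fin.cases_zero, f_πv]; exact (hy' 1).symm
        · rw [Fin.cases_succ, f_πv]; exact (hy' 0).symm)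
    refine ⟨w, hwb, fun j => ?_⟩
    apply E_ext
    intro i
    have h1 : πv f i ((E f).δ j w) = πv f ((SimplexCategory.δ j).toOrderHom i) w :=
      πv_map f (SimplexCategory.δ j) w i
    refine h1.trans ?_
    rw [hwv]
    have hi : i = 0 := Fin.ext (by have := i.isLt; omega)
    subst hi
    refine Fin.cases ?_ (fun j' => ?_) j
    · rfl
    · have hj : j' = 0 := Fin.ext (by have := j'.isLt; omega)
      subst hj
      rfl
  · -- higher simplices
    intro n x y hx hy
    have hy' : ∀ j, y = bs f (x j) := hy
    obtain ⟨w, hwv, hwb⟩ := exists_E f (m := n + 2) y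
      (fun i => Fin.cases (πv f 0 (x 1)) (fun i' => πv f i' (x 0)) i) (by
        intro i
        refine Fin.cases ?_ (fun i' => ?_) i
        · rw [Fin.cases_zero, f_πv]; exact (hy' 1).symm
        · rw [Fin.cases_succ, f_πv]; exact (hy' 0).symm)
    refine ⟨w, hwb, fun j => ?_⟩
    apply E_ext
    intro i
    have h1 : πv f i ((E f).δ j w) = πv f ((SimplexCategory.δ j).toOrderHom i) w :=
      πv_map f (SimplexCategory.δ j) w i
    have h2 : (SimplexCategory.δ j).toOrderHom i = j.succAbove i := rfl
    refine h1.trans ?_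
    rw [hwv, h2]
    -- face relations on vertices
    have hface : ∀ (j0 k0 : Fin (n + 2)) (_ : j0 ≤ k0) (c : Fin (n + 1)),
        πv f (k0.succAbove c) (x j0.castSucc) = πv f (j0.succAbove c) (x k0.succ) := by
      intro j0 k0 hjk c
      have e := congrArg (πv f c) (hx j0 k0 hjk)
      have e1 : πv f c ((E f).δ k0 (x j0.castSucc)) =
          πv f ((SimplexCategory.δ k0).toOrderHom c) (x j0.castSucc) :=
        πv_map f (SimplexCategory.δ k0) _ c
      have e2 : πv f c ((E f).δ j0 (x k0.succ)) =
          πv f ((SimplexCategory.δ j0).toOrderHom c) (x k0.succ) :=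
        πv_map f (SimplexCategory.δ j0) _ c
      exact e1.symm.trans (e.trans e2)
    refine Fin.cases ?_ (fun j' => ?_) j
    · rw [Fin.succAbove_zero, Fin.cases_succ]
    · refine Fin.cases ?_ (fun i'' => ?_) i
      · rw [Fin.succ_succAbove_zero, Fin.cases_zero]
        by_cases hj' : j' = 0
        · subst hj'; rfl
        · have h1j : (1 : Fin (n + 2)) ≤ j' := by
            rw [Fin.le_def]
            have : (j' : ℕ) ≠ 0 := fun h => hj' (Fin.ext h)
            simp only [Fin.val_one]
            omega
          have := hface 1 j' h1j 0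
          rw [Fin.succAbove_ne_zero_zero hj'] at this
          exact this
      · rw [Fin.succ_succAbove_succ, Fin.cases_succ]
        have := hface 0 j' (Fin.zero_le _) i''
        rw [Fin.succAbove_zero] at this
        exact this

end Groth.Agent.S6783
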