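import Groth.Statements.S6784
import Mathlib

set_option autoImplicit false
open CategoryTheory
universe u
open SSet

namespace Groth.Agent.S6784


open Simplicial SimplexCategory

/-- evaluation of a simplex of `Δ[n]` at a vertex -/
def ev {n : ℕ} {k : SimplexCategoryᵒᵖ} (y : (SSet.stdSimplex.{u}.obj (SimplexCategory.mk n)).obj k)
    (c : Fin (k.unop.len + 1)) : Fin (n + 1) :=
  (SSet.stdSimplex.objEquiv y).toOrderHom c

theorem ev_map {n : ℕ} {k k' : SimplexCategoryᵒᵖ} (θ : k ⟶ k')
    (y : (SSet.stdSimplex.{u}.obj (SimplexCategory.mk n)).obj k) (c : Fin (k'.unop.len + 1)) :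
    ev ((SSet.stdSimplex.{u}.obj (SimplexCategory.mk n)).map θ y) c =
      ev y (θ.unop.toOrderHom c) := rfl

theorem ev_mono {n : ℕ} {k : SimplexCategoryᵒᵖ}
    (y : (SSet.stdSimplex.{u}.obj (SimplexCategory.mk n)).obj k) : Monotone (ev y) :=
  (SSet.stdSimplex.objEquiv y).toOrderHom.monotone

theorem ev_ext {n : ℕ} {k : SimplexCategoryᵒᵖ}
    (y y' : (SSet.stdSimplex.{u}.obj (SimplexCategory.mk n)).obj k)
    (h : ∀ c, ev y c = ev y' c) : y = y' := by
  apply SSet.stdSimplex.objEquiv.injective
  apply SimplexCategory.Hom.ext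
  apply OrderHom.ext
  funext c
  exact h c

/-- build a simplex from a monotone map -/
def mkS {n : ℕ} {k : SimplexCategoryᵒᵖ} (φ : Fin (k.unop.len + 1) →o Fin (n + 1)) :
    (SSet.stdSimplex.{u}.obj (SimplexCategory.mk n)).obj k :=
  SSet.stdSimplex.objEquiv.symm (SimplexCategory.Hom.mk φ)

theorem ev_mkS {n : ℕ} {k : SimplexCategoryᵒᵖ} (φ : Fin (k.unop.len + 1) →o Fin (n + 1))
    (c : Fin (k.unop.len + 1)) : ev (mkS.{u} φ) c = φ c := by
  unfold ev mkS
  rw [Equiv.apply_symm_apply]
  rfl

/-- the vertex structured arrow -/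
def g0 (m : ℕ) (a : Fin (m + 1)) :
    StructuredArrow (Opposite.op (SimplexCategory.mk m)) (SimplexCategory.Truncated.inclusion 1).op :=
  StructuredArrow.mk (Y := Opposite.op ⟨SimplexCategory.mk 0, by decide⟩)
    (show Opposite.op (SimplexCategory.mk m) ⟶ (SimplexCategory.Truncated.inclusion 1).op.obj
      (Opposite.op ⟨SimplexCategory.mk 0, by decide⟩) from
    (SimplexCategory.const (SimplexCategory.mk 0) (SimplexCategory.mk m) a).op)

/-- the edge structured arrow -/
def g1 (m : ℕ) (a b : Fin (m + 1)) (h : a ≤ b) :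
    StructuredArrow (Opposite.op (SimplexCategory.mk m)) (SimplexCategory.Truncated.inclusion 1).op :=
  StructuredArrow.mk (Y := Opposite.op ⟨SimplexCategory.mk 1, by decide⟩)
    (show Opposite.op (SimplexCategory.mk m) ⟶ (SimplexCategory.Truncated.inclusion 1).op.obj
      (Opposite.op ⟨SimplexCategory.mk 1, by decide⟩) from
    (SimplexCategory.mkOfLe a b h).op)

/-- from an arbitrary structured arrow to a vertex -/
def toG0 (m : ℕ)
    (g : StructuredArrow (Opposite.op (SimplexCategory.mk m)) (SimplexCategory.Truncated.inclusion 1).op)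
    (c : Fin (g.right.unop.obj.len + 1)) : g ⟶ g0 m (g.hom.unop.toOrderHom c) :=
  StructuredArrow.homMk
    (SimplexCategory.Truncated.Hom.tr (n := 1)
      (SimplexCategory.const (SimplexCategory.mk 0) g.right.unop.obj c) (by decide)
      g.right.unop.property).op
    (by rfl)


/-- The standard simplex `Δ[n]` is `1`-coskeletal, i.e. it is the right Kan extension of its
`1`-truncation. -/
theorem result (n : ℕ) : SimplicialObject.IsCoskeletal (SSet.stdSimplex.{u}.obj (SimplexCategory.mk n)) 1 := by
  constructor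
  have hpt : (Functor.RightExtension.mk (SSet.stdSimplex.{u}.obj (SimplexCategory.mk n))
      (𝟙 ((SimplexCategory.Truncated.inclusion 1).op ⋙
        SSet.stdSimplex.{u}.obj (SimplexCategory.mk n)))).IsPointwiseRightKanExtension := by
    intro Y
    induction Y using Opposite.rec with | _ Y => ?_
    induction Y using SimplexCategory.rec with | _ m => ?_
    refine Nonempty.some ((CategoryTheory.Limits.Types.isLimit_iff _).mpr ?_)
    intro s hs
    -- the vertex function
    have hvert : ∀ (g : StructuredArrow (Opposite.op (SimplexCategory.mk m))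
        (SimplexCategory.Truncated.inclusion 1).op) (c : Fin (g.right.unop.obj.len + 1)),
        ev (s (g0 m (g.hom.unop.toOrderHom c))) 0 = ev (s g) c := by
      intro g c
      have := hs (toG0 m g c)
      rw [← this]
      rfl
    have hmono : Monotone (fun a : Fin (m + 1) => ev (s (g0 m a)) 0) := by
      intro a b hab
      have h0 := hvert (g1 m a b hab) 0
      have h1 := hvert (g1 m a b hab) 1
      have e0 : ev (s (g0 m a)) 0 = ev (s (g1 m a b hab)) 0 := h0
      have e1 : ev (s (g0 m b)) 0 = ev (s (g1 m a b hab)) 1 := h1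
      show ev (s (g0 m a)) 0 ≤ ev (s (g0 m b)) 0
      rw [e0, e1]
      exact ev_mono _ (Fin.zero_le _)
    refine ⟨mkS.{u} ⟨fun a : Fin (m + 1) => ev (s (g0 m a)) 0, hmono⟩, ?_, ?_⟩
    · intro g
      apply ev_ext
      intro c
      rw [← hvert g c]
      exact ev_mkS.{u} _ _
    · intro x' hx'
      apply ev_ext
      intro a
      rw [ev_mkS]
      show ev x' a = ev (s (g0 m a)) 0
      rw [← hx' (g0 m a)]
      rfl
  exact hpt.isRightKanExtension

end Groth.Agent.S6784
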