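import Groth.Statements.S6785
import Mathlib

set_option autoImplicit false
open CategoryTheory
universe u
open SSet

namespace Groth.Agent.S6785


open Simplicial MonoidalCategory Opposite

noncomputable def homotopyMk {X Y : SSet.{u}} {f g : X ⟶ Y} (h : X ⊗ Δ[1] ⟶ Y)
    (h₀ : ι₀ ≫ h = f) (h₁ : ι₁ ≫ h = g) : SSet.Homotopy f g :=
  { h := h, h₀ := h₀, h₁ := h₁,
    rel := by
      ext m ⟨⟨x, hx⟩, _⟩
      exact hx.elim }

/-- A simplex of `Δ[1]` is constant with value `c`. -/
def IsC (c : Fin 2) {m : SimplexCategoryᵒᵖ} (a : (Δ[1] : SSet.{u}).obj m) : Prop :=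
  ∀ k, (stdSimplex.objEquiv a).toOrderHom k = c

theorem isC_map (c : Fin 2) {m m' : SimplexCategoryᵒᵖ} (θ : m ⟶ m') (a : (Δ[1] : SSet.{u}).obj m)
    (ha : IsC c a) : IsC c ((Δ[1] : SSet.{u}).map θ a) := by
  intro k
  exact ha (θ.unop.toOrderHom k)

theorem not_isC_zero_of_isC_one {m : SimplexCategoryᵒᵖ} (a : (Δ[1] : SSet.{u}).obj m)
    (ha : IsC 1 a) : ¬ IsC 0 a := by
  intro h0
  have h1 := ha 0
  rw [h0 0] at h1
  exact absurd h1 (by decide)

/-- The subcomplex of `W ⊗ Δ[1]` consisting of the two ends of the cylinder. -/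
def ends (W : SSet.{u}) : (W ⊗ Δ[1]).Subcomplex where
  obj m := {p | IsC 0 p.2 ∨ IsC 1 p.2}
  map θ := by
    rintro p (hp | hp)
    · exact Or.inl (isC_map 0 θ p.2 hp)
    · exact Or.inr (isC_map 1 θ p.2 hp)

open Classical in
/-- Two morphisms which become equal after composition with a morphism having the right lifting
property with respect to monomorphisms are homotopic. -/
theorem exists_homotopy_of_rlp {W X Y : SSet.{u}} (f : X ⟶ Y)
    (hf : (MorphismProperty.monomorphisms SSet.{u}).rlp f) (u₀ u₁ : W ⟶ X)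
    (h : u₀ ≫ f = u₁ ≫ f) : Nonempty (SSet.Homotopy u₀ u₁) := by
  let t : ((ends W : (W ⊗ Δ[1]).Subcomplex) : SSet.{u}) ⟶ X :=
    { app := fun m => TypeCat.ofHom fun p =>
        if IsC 0 p.1.2 then u₀.app m p.1.1 else u₁.app m p.1.1
      naturality := by
        intro m m' θ
        ext ⟨p, hp⟩
        show (if IsC 0 ((Δ[1] : SSet.{u}).map θ p.2) then u₀.app m' (W.map θ p.1)
          else u₁.app m' (W.map θ p.1)) =
          X.map θ (if IsC 0 p.2 then u₀.app m p.1 else u₁.app m p.1)
        by_cases h0 : IsC 0 p.2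
        · rw [if_pos h0, if_pos (isC_map 0 θ p.2 h0)]
          exact ConcreteCategory.congr_hom (u₀.naturality θ) p.1
        · have h1 : IsC 1 p.2 := hp.resolve_left h0
          rw [if_neg h0, if_neg (not_isC_zero_of_isC_one _ (isC_map 1 θ p.2 h1))]
          exact ConcreteCategory.congr_hom (u₁.naturality θ) p.1 }
  have sq : CommSq t (ends W).ι f (CartesianMonoidalCategory.fst W Δ[1] ≫ u₀ ≫ f) := by
    constructor
    ext m ⟨p, hp⟩
    show f.app m (if IsC 0 p.2 then u₀.app m p.1 else u₁.app m p.1) = f.app m (u₀.app m p.1)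
    by_cases h0 : IsC 0 p.2
    · rw [if_pos h0]
    · rw [if_neg h0]
      exact (ConcreteCategory.congr_hom (NatTrans.congr_app h m) p.1).symm
  have hl : HasLiftingProperty (ends W).ι f := hf _ (MorphismProperty.monomorphisms.infer_property _)
  have hfac : (ends W).ι ≫ sq.lift = t := sq.fac_left
  refine ⟨homotopyMk sq.lift ?_ ?_⟩
  · ext m w
    have hz : IsC 0 (ι₀.app m w).2 := fun k => rfl
    have hmem : (ι₀.app m w : (W ⊗ Δ[1]).obj m) ∈ (ends W).obj m := Or.inl hz
    have := ConcreteCategory.congr_hom (NatTrans.congr_app hfac m) ⟨ι₀.app m w, hmem⟩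
    refine this.trans ?_
    show (if IsC 0 (ι₀.app m w).2 then u₀.app m w else u₁.app m w) = u₀.app m w
    rw [if_pos hz]
  · ext m w
    have hone : IsC 1 (ι₁.app m w).2 := fun k => rfl
    have hmem : (ι₁.app m w : (W ⊗ Δ[1]).obj m) ∈ (ends W).obj m := Or.inr hone
    have := ConcreteCategory.congr_hom (NatTrans.congr_app hfac m) ⟨ι₁.app m w, hmem⟩
    refine this.trans ?_
    show (if IsC 0 (ι₁.app m w).2 then u₀.app m w else u₁.app m w) = u₁.app m w
    rw [if_neg (not_isC_zero_of_isC_one _ hone)]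


/-- A trivial Kan fibration `f : X ⟶ Y` of simplicial sets is a homotopy equivalence; more precisely it
has a section `g`, and `g ∘ f` is homotopic to the identity of `X` by a single homotopy in each
direction. (The published statement only asserts a homotopy equivalence; the section and the
one-step homotopies are what its proof constructs.) -/
theorem result {X Y : SSet.{u}} (f : X ⟶ Y) (hf : SSet.modelCategoryQuillen.I.rlp f) : ∃ g : Y ⟶ X, g ≫ f = 𝟙 Y ∧ Nonempty (SSet.Homotopy (𝟙 X) (f ≫ g)) ∧ Nonempty (SSet.Homotopy (f ≫ g) (𝟙 X)) := by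
  have hf' : (MorphismProperty.monomorphisms SSet.{u}).rlp f := by
    rw [SSet.rlp_monomorphisms]; exact hf
  -- the section
  have hmono : Mono (Limits.initial.to Y) := by
    rw [NatTrans.mono_iff_mono_app]
    intro m
    rw [mono_iff_injective]
    intro a
    have : IsEmpty ((⊥_ SSet.{u}).obj m) := by
      have e : (⊥_ SSet.{u}) ≅ ((⊥ : Y.Subcomplex) : SSet.{u}) :=
        Limits.initialIsoIsInitial (SSet.Subcomplex.isInitialBot)
      exact ⟨fun x => (e.hom.app m x).2.elim⟩
    exact (this.false a).elim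
  have sq : CommSq (Limits.initial.to X) (Limits.initial.to Y) f (𝟙 Y) := ⟨by simp⟩
  have hl : HasLiftingProperty (Limits.initial.to Y) f :=
    hf' _ (MorphismProperty.monomorphisms.infer_property _)
  refine ⟨sq.lift, sq.fac_right, ?_, ?_⟩
  · apply exists_homotopy_of_rlp f hf'
    rw [Category.id_comp, Category.assoc, sq.fac_right, Category.comp_id]
  · apply exists_homotopy_of_rlp f hf'
    rw [Category.id_comp, Category.assoc, sq.fac_right, Category.comp_id]

end Groth.Agent.S6785
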