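import Groth.Statements.S6789
import Mathlib
import Groth.Agent.H92.HomotopyOfH

set_option autoImplicit false
open CategoryTheory CategoryTheory.Limits
universe v u
open CategoryTheory CategoryTheory.SimplicialObject

namespace Groth.Agent.S6789


open Simplicial SimplexCategory Opposite Groth.Agent.H92.CoskHomotopy

section cech
variable {C : Type u} [Category.{v} C] {Y X : C} (f : Y ⟶ X) (s : X ⟶ Y)
  [∀ n : ℕ, HasWidePullback (Arrow.mk f).right (fun _ : Fin (n + 1) => (Arrow.mk f).left)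
    (fun _ => (Arrow.mk f).hom)]

/-- the Čech nerve -/
noncomputable abbrev N : SimplicialObject C := (Arrow.mk f).cechNerve

/-- projection to a factor -/
noncomputable def pj {k : SimplexCategory} (j : Fin (k.len + 1)) :
    (N f).obj (op k) ⟶ (Arrow.mk f).left :=
  WidePullback.π (fun _ : Fin (k.len + 1) => (Arrow.mk f).hom) j

/-- projection to the base -/
noncomputable def pb {k : SimplexCategory} : (N f).obj (op k) ⟶ (Arrow.mk f).right :=
  WidePullback.base (fun _ : Fin (k.len + 1) => (Arrow.mk f).hom)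

theorem pj_f {k : SimplexCategory} (j : Fin (k.len + 1)) :
    pj f j ≫ (Arrow.mk f).hom = pb f (k := k) :=
  WidePullback.π_arrow (fun _ : Fin (k.len + 1) => (Arrow.mk f).hom) j

theorem map_pj {k k' : SimplexCategory} (θ : k' ⟶ k) (j : Fin (k'.len + 1)) :
    (N f).map θ.op ≫ pj f j = pj f (θ.toOrderHom j) := by
  unfold pj
  exact WidePullback.lift_π _ _ _ _ _

theorem map_pb {k k' : SimplexCategory} (θ : k' ⟶ k) :
    (N f).map θ.op ≫ pb f = pb f := by
  unfold pb
  exact WidePullback.lift_base _ _ _ _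

theorem N_hom_ext {k : SimplexCategory} {T : C} (u w : T ⟶ (N f).obj (op k))
    (h : ∀ j, u ≫ pj f j = w ≫ pj f j) (hb : u ≫ pb f = w ≫ pb f) : u = w :=
  WidePullback.hom_ext _ _ _ h hb

variable (hs : s ≫ f = 𝟙 X)

open Classical in
/-- the basic maps -/
noncomputable def Hc (ε : Fin 2) {k k' : SimplexCategory} (ψ : k' ⟶ k) (a : k' ⟶ ⦋1⦌) :
    (N f).obj (op k) ⟶ (N f).obj (op k') :=
  WidePullback.lift (objs := fun _ : Fin (k'.len + 1) => (Arrow.mk f).left)
    (arrows := fun _ : Fin (k'.len + 1) => (Arrow.mk f).hom) (pb f)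
    (fun j => if a.toOrderHom j = ε then pj f (ψ.toOrderHom j) else pb f ≫ s)
    (by
      intro j
      show (if a.toOrderHom j = ε then pj f (ψ.toOrderHom j) else pb f ≫ s) ≫
        (Arrow.mk f).hom = pb f
      split_ifs
      · exact pj_f f _
      · rw [Category.assoc]
        exact (congrArg (fun t => pb f ≫ t) hs).trans (Category.comp_id _))

open Classical in
theorem Hc_pj (ε : Fin 2) {k k' : SimplexCategory} (ψ : k' ⟶ k) (a : k' ⟶ ⦋1⦌)
    (j : Fin (k'.len + 1)) :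
    Hc f s hs ε ψ a ≫ pj f j =
      if a.toOrderHom j = ε then pj f (ψ.toOrderHom j) else pb f ≫ s := by
  unfold Hc pj
  exact WidePullback.lift_π _ _ _ _ _

theorem Hc_pb (ε : Fin 2) {k k' : SimplexCategory} (ψ : k' ⟶ k) (a : k' ⟶ ⦋1⦌) :
    Hc f s hs ε ψ a ≫ pb f = pb f := by
  unfold Hc
  exact WidePullback.lift_base _ _ _ _

theorem Hc_comp_map (ε : Fin 2) {k k' k'' : SimplexCategory} (ψ : k' ⟶ k) (a : k' ⟶ ⦋1⦌)
    (χ : k'' ⟶ k') :
    Hc f s hs ε ψ a ≫ (N f).map χ.op = Hc f s hs ε (χ ≫ ψ) (χ ≫ a) := by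
  apply N_hom_ext
  · intro j
    rw [Category.assoc, map_pj, Hc_pj, Hc_pj]
    rfl
  · rw [Category.assoc, map_pb, Hc_pb, Hc_pb]

theorem map_comp_Hc (ε : Fin 2) {k k' k₀ : SimplexCategory} (ψ : k' ⟶ k) (a : k' ⟶ ⦋1⦌)
    (ρ : k ⟶ k₀) :
    (N f).map ρ.op ≫ Hc f s hs ε ψ a = Hc f s hs ε (ψ ≫ ρ) a := by
  apply N_hom_ext
  · intro j
    rw [Category.assoc, Hc_pj, Hc_pj]
    split_ifs
    · exact map_pj f ρ _
    · rw [← Category.assoc, map_pb]
  · rw [Category.assoc, Hc_pb, Hc_pb, map_pb]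

theorem Hc_of_eq (ε : Fin 2) {k k' : SimplexCategory} (ψ : k' ⟶ k) (a : k' ⟶ ⦋1⦌)
    (ha : ∀ j, a.toOrderHom j = ε) : Hc f s hs ε ψ a = (N f).map ψ.op := by
  apply N_hom_ext
  · intro j
    rw [Hc_pj, if_pos (ha j), map_pj]
  · rw [Hc_pb, map_pb]

theorem Hc_of_ne (ε : Fin 2) {k k' : SimplexCategory} (ψ : k' ⟶ k) (a : k' ⟶ ⦋1⦌)
    (ha : ∀ j, a.toOrderHom j ≠ ε) (φ : Arrow.mk f ⟶ Arrow.mk f) (hφl : φ.left = f ≫ s)
    (hφr : φ.right = 𝟙 X) :
    Hc f s hs ε ψ a = (N f).map ψ.op ≫ (Arrow.mapCechNerve φ).app (op k') := by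
  have h1 : ∀ j : Fin (k'.len + 1), (Arrow.mapCechNerve φ).app (op k') ≫ pj f j =
      pj f j ≫ φ.left := by
    intro j
    unfold pj
    exact WidePullback.lift_π _ _ _ _ _
  have h2 : (Arrow.mapCechNerve φ).app (op k') ≫ pb f = pb f ≫ φ.right := by
    unfold pb
    exact WidePullback.lift_base _ _ _ _
  apply N_hom_ext
  · intro j
    rw [Hc_pj, if_neg (ha j), Category.assoc, h1, hφl, ← Category.assoc, map_pj,
      ← Category.assoc]
    exact congrArg (fun t => t ≫ s) (pj_f f _).symm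
  · rw [Hc_pb, Category.assoc, h2, hφr]
    exact ((congrArg (fun t => (N f).map ψ.op ≫ t) (Category.comp_id (pb f))).trans
      (map_pb f ψ)).symm

end cech


/-- For a morphism `f : Y ⟶ X` with a section `s`, the endomorphism of the Čech nerve of `f` (the
simplicial object of iterated fibre products of `Y` over `X`) that applies `s ∘ f` factorwise admits
simplicial homotopies to and from the identity: the published formula gives one direction and its
mirror image (exchange the roles of the identity and `s ∘ f`) gives the other. -/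
theorem result {C : Type u} [Category.{v} C] {Y X : C} (f : Y ⟶ X) (s : X ⟶ Y) (hs : s ≫ f = 𝟙 X) [∀ n : ℕ, HasWidePullback (Arrow.mk f).right (fun _ : Fin (n + 1) => (Arrow.mk f).left) (fun _ => (Arrow.mk f).hom)] (φ : Arrow.mk f ⟶ Arrow.mk f) (hφl : φ.left = f ≫ s) (hφr : φ.right = 𝟙 X) : Nonempty (SimplicialObject.Homotopy (𝟙 (Arrow.mk f).cechNerve) (Arrow.mapCechNerve φ)) ∧ Nonempty (SimplicialObject.Homotopy (Arrow.mapCechNerve φ) (𝟙 (Arrow.mk f).cechNerve)) := by
  constructor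
  · refine ⟨Groth.Agent.H92.HomotopyOfH.homotopy (𝟙 (Arrow.mk f).cechNerve) (Arrow.mapCechNerve φ)
      (fun ψ a => Hc f s hs 0 ψ a) (Hc_comp_map f s hs 0) (map_comp_Hc f s hs 0) ?_ ?_⟩
    · intro k k' ψ a ha
      rw [Hc_of_eq f s hs 0 ψ a ha]
      simp
    · intro k k' ψ a ha
      exact Hc_of_ne f s hs 0 ψ a (fun j => by rw [ha j]; decide) φ hφl hφr
  · refine ⟨Groth.Agent.H92.HomotopyOfH.homotopy (Arrow.mapCechNerve φ) (𝟙 (Arrow.mk f).cechNerve)
      (fun ψ a => Hc f s hs 1 ψ a) (Hc_comp_map f s hs 1) (map_comp_Hc f s hs 1) ?_ ?_⟩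
    · intro k k' ψ a ha
      exact Hc_of_ne f s hs 1 ψ a (fun j => by rw [ha j]; decide) φ hφl hφr
    · intro k k' ψ a ha
      rw [Hc_of_eq f s hs 1 ψ a ha]
      simp

end Groth.Agent.S6789
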