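import Groth.Statements.S6790
import Mathlib.Tactic.CategoryTheory.Monoidal.Basic
import Mathlib.Tactic.CategoryTheory.Coherence

set_option autoImplicit false
open CategoryTheory CategoryTheory.Limits MonoidalCategory
universe v u
open CategoryTheory CategoryTheory.Monoidal

namespace Groth.Agent.S6790

open ExactPairing HasRightDual

/-- In an idempotent-complete additive monoidal category, a direct summand of an object admitting a dual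
(with coevaluation `𝟙_ A ⟶ X ⊗ Y` and evaluation `Y ⊗ X ⟶ 𝟙_ A`) again admits such a dual. -/
theorem result {A : Type u} [Category.{v} A] [Preadditive A] [HasFiniteBiproducts A] [MonoidalCategory A] [MonoidalPreadditive A] [IsIdempotentComplete A] {X X₁ : A} (i : X₁ ⟶ X) (p : X ⟶ X₁) (hip : i ≫ p = 𝟙 X₁) [HasRightDual X] : Nonempty (HasRightDual X₁) := by
  let e : X ⟶ X := p ≫ i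
  have he : e ≫ e = e := by
    simp only [e, Category.assoc]
    rw [reassoc_of% hip]
  have hie : i ≫ e = i := by simp only [e]; rw [reassoc_of% hip]
  have hep : e ≫ p = p := by simp only [e, Category.assoc]; rw [hip, Category.comp_id]
  have hed : (eᘁ) ≫ (eᘁ) = (eᘁ) := by rw [← comp_rightAdjointMate, he]
  obtain ⟨Y₁, j, q, hjq, hqj⟩ := IsIdempotentComplete.idempotents_split (Xᘁ) (eᘁ) hed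
  -- evaluation absorbs the idempotent
  have hev : (eᘁ) ▷ X₁ ≫ (Xᘁ) ◁ i ≫ ε_ X (Xᘁ) = (Xᘁ) ◁ i ≫ ε_ X (Xᘁ) := by
    rw [← whisker_exchange_assoc, rightAdjointMate_comp_evaluation, ← whiskerLeft_comp_assoc, hie]
  have hcoev : η_ X (Xᘁ) ≫ p ▷ (Xᘁ) ≫ X₁ ◁ (eᘁ) = η_ X (Xᘁ) ≫ p ▷ (Xᘁ) := by
    rw [← whisker_exchange, coevaluation_comp_rightAdjointMate_assoc, ← comp_whiskerRight, hep]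
  refine ⟨{ rightDual := Y₁, exact := ?_ }⟩
  refine
    { coevaluation' := η_ X (Xᘁ) ≫ p ▷ (Xᘁ) ≫ X₁ ◁ q
      evaluation' := j ▷ X₁ ≫ (Xᘁ) ◁ i ≫ ε_ X (Xᘁ)
      coevaluation_evaluation' := ?_
      evaluation_coevaluation' := ?_ }
  · have hev2 : Y₁ ◁ p ≫ j ▷ X₁ ≫ (Xᘁ) ◁ i ≫ ε_ X (Xᘁ) = j ▷ X ≫ ε_ X (Xᘁ) := by
      rw [whisker_exchange_assoc, ← whiskerLeft_comp_assoc]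
      change j ▷ X ≫ (Xᘁ) ◁ e ≫ ε_ X (Xᘁ) = _
      rw [← rightAdjointMate_comp_evaluation, ← comp_whiskerRight_assoc, ← hqj, reassoc_of% hjq]
    calc Y₁ ◁ (η_ X (Xᘁ) ≫ p ▷ (Xᘁ) ≫ X₁ ◁ q) ≫ (α_ Y₁ X₁ Y₁).inv ≫
          (j ▷ X₁ ≫ (Xᘁ) ◁ i ≫ ε_ X (Xᘁ)) ▷ Y₁
        = Y₁ ◁ η_ X (Xᘁ) ⊗≫ Y₁ ◁ p ▷ (Xᘁ) ⊗≫
            ((Y₁ ⊗ X₁) ◁ q ≫ (j ▷ X₁ ≫ (Xᘁ) ◁ i ≫ ε_ X (Xᘁ)) ▷ Y₁) := by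
          monoidal
      _ = Y₁ ◁ η_ X (Xᘁ) ⊗≫ Y₁ ◁ p ▷ (Xᘁ) ⊗≫
            ((j ▷ X₁ ≫ (Xᘁ) ◁ i ≫ ε_ X (Xᘁ)) ▷ (Xᘁ) ≫ (𝟙_ A) ◁ q) := by
          rw [whisker_exchange]
      _ = Y₁ ◁ η_ X (Xᘁ) ⊗≫ (Y₁ ◁ p ≫ j ▷ X₁ ≫ (Xᘁ) ◁ i ≫ ε_ X (Xᘁ)) ▷ (Xᘁ) ⊗≫ (𝟙_ A) ◁ q := by
          monoidal
      _ = (Y₁ ◁ η_ X (Xᘁ) ≫ j ▷ (X ⊗ (Xᘁ))) ⊗≫ ε_ X (Xᘁ) ▷ (Xᘁ) ⊗≫ (𝟙_ A) ◁ q := by
          rw [hev2]; monoidal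
      _ = j ▷ (𝟙_ A) ⊗≫ ((Xᘁ) ◁ η_ X (Xᘁ) ⊗≫ ε_ X (Xᘁ) ▷ (Xᘁ)) ⊗≫ (𝟙_ A) ◁ q := by
          rw [whisker_exchange]; monoidal
      _ = (ρ_ Y₁).hom ≫ (j ≫ q) ≫ (λ_ Y₁).inv := by
          rw [coevaluation_evaluation'']; monoidal
      _ = (ρ_ Y₁).hom ≫ (λ_ Y₁).inv := by
          rw [hjq, Category.id_comp]
  · calc (η_ X (Xᘁ) ≫ p ▷ (Xᘁ) ≫ X₁ ◁ q) ▷ X₁ ≫ (α_ X₁ Y₁ X₁).hom ≫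
          X₁ ◁ (j ▷ X₁ ≫ (Xᘁ) ◁ i ≫ ε_ X (Xᘁ))
        = η_ X (Xᘁ) ▷ X₁ ⊗≫ p ▷ (Xᘁ) ▷ X₁ ⊗≫ X₁ ◁ ((q ≫ j) ▷ X₁ ≫ (Xᘁ) ◁ i ≫ ε_ X (Xᘁ)) := by
          monoidal
      _ = η_ X (Xᘁ) ▷ X₁ ⊗≫ p ▷ (Xᘁ) ▷ X₁ ⊗≫ X₁ ◁ ((Xᘁ) ◁ i ≫ ε_ X (Xᘁ)) := by
          rw [hqj, hev]
      _ = η_ X (Xᘁ) ▷ X₁ ⊗≫ (p ▷ ((Xᘁ) ⊗ X₁) ≫ X₁ ◁ ((Xᘁ) ◁ i)) ⊗≫ X₁ ◁ ε_ X (Xᘁ) := by
          monoidal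
      _ = η_ X (Xᘁ) ▷ X₁ ⊗≫ X ◁ ((Xᘁ) ◁ i) ⊗≫ (p ▷ ((Xᘁ) ⊗ X) ≫ X₁ ◁ ε_ X (Xᘁ)) := by
          rw [← whisker_exchange]; monoidal
      _ = (η_ X (Xᘁ) ▷ X₁ ≫ (X ⊗ (Xᘁ)) ◁ i) ⊗≫ X ◁ ε_ X (Xᘁ) ⊗≫ p ▷ (𝟙_ A) := by
          rw [← whisker_exchange]; monoidal
      _ = (𝟙_ A) ◁ i ⊗≫ (η_ X (Xᘁ) ▷ X ⊗≫ X ◁ ε_ X (Xᘁ)) ⊗≫ p ▷ (𝟙_ A) := by
          rw [← whisker_exchange]; monoidal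
      _ = (λ_ X₁).hom ≫ (i ≫ p) ≫ (ρ_ X₁).inv := by
          rw [evaluation_coevaluation'']; monoidal
      _ = (λ_ X₁).hom ≫ (ρ_ X₁).inv := by
          rw [hip, Category.id_comp]

end Groth.Agent.S6790
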