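import Groth.Statements.S6792
import Mathlib

set_option autoImplicit false
open CategoryTheory
universe v u
open SpSeq SpSeq.FilCx

namespace Groth.Agent.S6792


open CategoryTheory.Limits

section gen
variable {A : Type u} [Category.{v} A] [Abelian A]

theorem isZero_subquot_of_eq {X : A} (Z B : Subobject X) (h : B ≤ Z) (e : B = Z) :
    IsZero (SpSeq.subquot Z B h) := by
  subst e
  unfold SpSeq.subquot
  have : IsIso (B.ofLE B h) := by rw [Subobject.ofLE_refl]; infer_instance
  exact isZero_cokernel_of_epi _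

theorem pullback_bot_le_kernel {X Y : A} (f : X ⟶ Y) :
    (Subobject.pullback f).obj ⊥ ≤ kernelSubobject f := by
  apply le_kernelSubobject
  have := (Subobject.isPullback f ⊥).w
  rw [← this, Subobject.bot_arrow, comp_zero]

theorem epi_homologyMap_of_isIso_of_mono {L M : CochainComplex A ℤ} (φ : L ⟶ M) (n : ℤ)
    [IsIso (φ.f n)] [Mono (φ.f ((ComplexShape.up ℤ).next n))] :
    Epi (HomologicalComplex.homologyMap φ n) := by
  have h2 : IsIso ((HomologicalComplex.shortComplexFunctor A (ComplexShape.up ℤ) n).map φ).τ₂ :=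
    inferInstanceAs (IsIso (φ.f n))
  have h3 : Mono ((HomologicalComplex.shortComplexFunctor A (ComplexShape.up ℤ) n).map φ).τ₃ :=
    inferInstanceAs (Mono (φ.f ((ComplexShape.up ℤ).next n)))
  have := ShortComplex.isIso_cyclesMap_of_isIso_of_mono' _ h2 h3
  exact ShortComplex.epi_homologyMap_of_epi_cyclesMap' _ inferInstance

theorem imageSubobject_eq_top_of_epi {X Y : A} (f : X ⟶ Y) [Epi f] : imageSubobject f = ⊤ := by
  have h1 : Epi (imageSubobject f).arrow := epi_of_epi_fac (imageSubobject_arrow_comp f)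
  have : IsIso (imageSubobject f).arrow := isIso_of_mono_of_epi _
  exact Subobject.eq_top_of_isIso_arrow _

theorem imageSubobject_eq_bot_of_eq_zero {X Y : A} (f : X ⟶ Y) (h : f = 0) :
    imageSubobject f = ⊥ := by
  subst h; exact imageSubobject_zero

theorem isIso_cokernel_π_of_eq_zero {X Y : A} (f : X ⟶ Y) (h : f = 0) : IsIso (cokernel.π f) := by
  subst h; infer_instance

theorem isComplete_of_isFinite (L : SpSeq.FilObj A) (hL : L.IsFinite) : L.IsComplete := by
  obtain ⟨_, b, hb⟩ := hL
  intro T f hf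
  have hbot : ∀ p, b ≤ p → L.fil p = ⊥ := fun p hp => le_bot_iff.mp (hb ▸ L.anti hp)
  have hiso : ∀ p, b ≤ p → IsIso (cokernel.π (L.fil p).arrow) := by
    intro p hp
    apply isIso_cokernel_π_of_eq_zero
    exact Subobject.mk_eq_bot_iff_zero.mp (by rw [Subobject.mk_arrow]; exact hbot p hp)
  have hπ : ∀ {p q : ℤ} (h : p ≤ q),
      cokernel.π (L.fil q).arrow ≫ L.quotMap h = cokernel.π (L.fil p).arrow := by
    intro p q h; unfold FilObj.quotMap; exact cokernel.π_desc _ _ _
  have := hiso b le_rfl
  refine ⟨f b ≫ inv (cokernel.π (L.fil b).arrow), fun p => ?_⟩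
  rcases le_total p b with h | h
  · rw [Category.assoc, ← hπ h, IsIso.inv_hom_id_assoc, hf p b h]
  · have := hiso p h
    rw [← hf b p h, Category.assoc, Category.assoc]
    have e : L.quotMap h ≫ inv (cokernel.π (L.fil b).arrow) =
        inv (cokernel.π (L.fil p).arrow) := by
      rw [IsIso.comp_inv_eq, ← cancel_epi (cokernel.π (L.fil p).arrow), IsIso.hom_inv_id_assoc]
      exact hπ h
    rw [reassoc_of% e, IsIso.inv_hom_id, Category.comp_id]

end gen


/-- For a filtered complex whose filtration is finite in each degree, the associated spectral sequence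
is bounded (from page `0` on), the induced filtration on each cohomology object is finite, and the
spectral sequence converges to the cohomology. -/
theorem result {A : Type u} [Category.{v} A] [Abelian A] (K : SpSeq.FilCx A) (hK : ∀ n : ℤ, (K.XFil n).IsFinite) : K.IsBounded 0 ∧ (∀ n : ℤ, (K.HFil n).IsFinite) ∧ K.Converges := by
  have htop : ∀ n : ℤ, ∃ a : ℤ, ∀ p, p ≤ a → K.filX p n = ⊤ := by
    intro n
    obtain ⟨⟨a, ha⟩, _⟩ := hK n
    refine ⟨a, fun p hp => ?_⟩
    have h1 := K.filX_anti n hp
    have h2 : K.filX a n = ⊤ := ha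
    exact top_le_iff.mp (by rw [← h2]; exact h1)
  have hbot : ∀ n : ℤ, ∃ b : ℤ, ∀ p, b ≤ p → K.filX p n = ⊥ := by
    intro n
    obtain ⟨_, ⟨b, hb⟩⟩ := hK n
    refine ⟨b, fun p hp => ?_⟩
    have h1 := K.filX_anti n hp
    have h2 : K.filX b n = ⊥ := hb
    exact le_bot_iff.mp (by rw [← h2]; exact h1)
  have hHfin : ∀ n : ℤ, (K.HFil n).IsFinite := by
    intro n
    constructor
    · obtain ⟨a, ha⟩ := htop n
      refine ⟨a, ?_⟩
      show K.filH a n = ⊤
      unfold FilCx.filH
      have hiso : IsIso ((K.fil a).arrow.f n) :=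
        (Subobject.isIso_iff_mk_eq_top _).mpr (ha a le_rfl)
      have := epi_homologyMap_of_isIso_of_mono (K.fil a).arrow n
      exact imageSubobject_eq_top_of_epi _
    · obtain ⟨b, hb⟩ := hbot n
      refine ⟨b, ?_⟩
      show K.filH b n = ⊥
      unfold FilCx.filH
      have hz : (K.fil b).arrow.f n = 0 := Subobject.mk_eq_bot_iff_zero.mp (hb b le_rfl)
      have hZ : IsZero ((K.fil b : CochainComplex A ℤ).X n) := by
        rw [IsZero.iff_id_eq_zero, ← cancel_mono ((K.fil b).arrow.f n), hz]; simp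
      have hH : IsZero ((K.fil b : CochainComplex A ℤ).homology n) :=
        ShortComplex.isZero_homology_of_isZero_X₂ _ hZ
      exact imageSubobject_eq_bot_of_eq_zero _ (hH.eq_of_src _ 0)
  refine ⟨?_, hHfin, ?_, ⟨?_, ?_⟩, ?_⟩
  · -- bounded
    intro n
    obtain ⟨a, ha⟩ := htop n
    obtain ⟨b, hb⟩ := hbot n
    apply (Set.finite_Ico a b).subset
    intro p hp
    by_contra hnot
    apply hp
    unfold FilCx.E
    apply isZero_subquot_of_eq
    rw [Set.mem_Ico, not_and_or, not_le, not_lt] at hnot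
    rcases hnot with h | h
    · have h1 : K.filX (p+1) n = ⊤ := ha _ (by omega)
      unfold FilCx.BSub FilCx.ZSub
      rw [h1, sup_top_eq, sup_top_eq]
    · have h0 : K.filX p n = ⊥ := hb _ h
      have h1 : K.filX (p+1) n = ⊥ := hb _ (by omega)
      unfold FilCx.BSub FilCx.ZSub
      rw [h0, h1, bot_inf_eq, bot_inf_eq]
  · -- regular
    intro p n
    obtain ⟨b, hb⟩ := hbot (n+1)
    refine ⟨(b - p).toNat, fun r hr => ?_⟩
    unfold FilCx.ZSub
    have h1 : K.filX (p + (r:ℤ)) (n+1) = ⊥ := hb _ (by omega)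
    have h2 : K.filX (p + ((b-p).toNat : ℤ)) (n+1) = ⊥ := hb _ (by omega)
    rw [h1, h2]
  · -- weakly converges
    intro p n
    constructor
    · obtain ⟨b, hb⟩ := hbot (n+1)
      constructor
      · rintro _ ⟨r, rfl⟩
        exact sup_le_sup_right (inf_le_inf_left _ (FilCx.kernelSubobject_le_pullback _ _)) _
      · intro S hS
        have h1 : K.filX (p + ((b-p).toNat : ℤ)) (n+1) = ⊥ := hb _ (by omega)
        refine (hS ⟨(b-p).toNat, rfl⟩).trans ?_
        show K.ZSub (b-p).toNat p n ≤ K.ZTop p n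
        unfold FilCx.ZSub FilCx.ZTop
        rw [h1]
        exact sup_le_sup_right (inf_le_inf_left _ (pullback_bot_le_kernel _)) _
    · obtain ⟨a, ha⟩ := htop (n-1)
      constructor
      · rintro _ ⟨r, rfl⟩
        exact sup_le_sup_right (inf_le_inf_left _ (imageSubobject_comp_le _ _)) _
      · intro S hS
        have h1 : K.filX (p - ((p + 1 - a).toNat : ℤ) + 1) (n-1) = ⊤ := ha _ (by omega)
        refine le_trans ?_ (hS ⟨(p+1-a).toNat, rfl⟩)
        show K.BBot p n ≤ K.BSub (p+1-a).toNat p n
        unfold FilCx.BSub FilCx.BBot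
        refine sup_le_sup_right (inf_le_inf_left _ ?_) _
        have : IsIso (K.filX (p - ((p + 1 - a).toNat : ℤ) + 1) (n-1)).arrow :=
          (Subobject.isIso_arrow_iff_eq_top _).mpr h1
        rw [imageSubobject_iso_comp]
  · -- separated, exhaustive
    intro n
    constructor
    · refine ⟨fun _ _ => bot_le, fun S hS => ?_⟩
      obtain ⟨b, hb⟩ := (hHfin n).2
      have := hS ⟨b, rfl⟩
      rw [hb] at this
      exact this
    · refine ⟨fun _ _ => le_top, fun S hS => ?_⟩
      obtain ⟨a, ha⟩ := (hHfin n).1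
      have := hS ⟨a, rfl⟩
      rw [ha] at this
      exact this
  · intro n
    exact isComplete_of_isFinite _ (hHfin n)

end Groth.Agent.S6792
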