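import Groth.Statements.S6793
import Groth.Agent.H16.SubQuot

set_option autoImplicit false
open CategoryTheory CategoryTheory.Limits
universe v u
open SpSeq SpSeq.FilCx

namespace Groth.Agent.S6793

set_option linter.unusedVariables false
set_option linter.unusedSectionVars false

open Groth.Agent.H16.SubQuot Groth.Agent.H34 ComposableArrows ZeroObject

section Closure

variable {A : Type u} [Category.{v} A] [Abelian A] (P : ObjectProperty A)
  [P.IsClosedUnderIsomorphisms]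
  (hzero : ∀ Z : A, IsZero Z → P Z)
  (hP : ∀ S : ComposableArrows A 4, S.Exact → P (S.obj 0) → P (S.obj 1) → P (S.obj 3) →
    P (S.obj 4) → P (S.obj 2))

include hzero hP

lemma P_mid (S : ShortComplex A) (hS : S.ShortExact) (h1 : P S.X₁) (h3 : P S.X₃) : P S.X₂ := by
  have := hS.mono_f
  have := hS.epi_g
  have w1 : (0 : (0 : A) ⟶ S.X₁) ≫ S.f = 0 := zero_comp
  have ex1 : (ShortComplex.mk (0 : (0 : A) ⟶ S.X₁) S.f w1).Exact := by
    rw [ShortComplex.exact_iff_mono _ rfl]; infer_instance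
  have w3 : S.g ≫ (0 : S.X₃ ⟶ (0 : A)) = 0 := comp_zero
  have ex3 : (ShortComplex.mk S.g (0 : S.X₃ ⟶ (0 : A)) w3).Exact := by
    rw [ShortComplex.exact_iff_epi _ rfl]; infer_instance
  have hex : (mk₄ (0 : (0 : A) ⟶ S.X₁) S.f S.g (0 : S.X₃ ⟶ (0 : A))).Exact :=
    exact_of_δ₀ ex1.exact_toComposableArrows
      (exact_of_δ₀ hS.exact.exact_toComposableArrows ex3.exact_toComposableArrows)
  exact hP _ hex (hzero _ (isZero_zero A)) h1 h3 (hzero _ (isZero_zero A))

lemma P_left (S : ShortComplex A) (hS : S.ShortExact) (h2 : P S.X₂) (h3 : P S.X₃) : P S.X₁ := by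
  have := hS.mono_f
  have w0 : (0 : (0 : A) ⟶ (0 : A)) ≫ (0 : (0 : A) ⟶ S.X₁) = 0 := comp_zero
  have ex0 : (ShortComplex.mk (0 : (0 : A) ⟶ (0 : A)) (0 : (0 : A) ⟶ S.X₁) w0).Exact :=
    ShortComplex.exact_of_isZero_X₂ _ (isZero_zero A)
  have w1 : (0 : (0 : A) ⟶ S.X₁) ≫ S.f = 0 := zero_comp
  have ex1 : (ShortComplex.mk (0 : (0 : A) ⟶ S.X₁) S.f w1).Exact := by
    rw [ShortComplex.exact_iff_mono _ rfl]; infer_instance
  have hex : (mk₄ (0 : (0 : A) ⟶ (0 : A)) (0 : (0 : A) ⟶ S.X₁) S.f S.g).Exact :=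
    exact_of_δ₀ ex0.exact_toComposableArrows
      (exact_of_δ₀ ex1.exact_toComposableArrows hS.exact.exact_toComposableArrows)
  exact hP _ hex (hzero _ (isZero_zero A)) (hzero _ (isZero_zero A)) h2 h3

lemma P_right (S : ShortComplex A) (hS : S.Exact) [Epi S.g] (h1 : P S.X₁) (h2 : P S.X₂) :
    P S.X₃ := by
  have w3 : S.g ≫ (0 : S.X₃ ⟶ (0 : A)) = 0 := comp_zero
  have ex3 : (ShortComplex.mk S.g (0 : S.X₃ ⟶ (0 : A)) w3).Exact := by
    rw [ShortComplex.exact_iff_epi _ rfl]; infer_instance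
  have w4 : (0 : S.X₃ ⟶ (0 : A)) ≫ (0 : (0 : A) ⟶ (0 : A)) = 0 := comp_zero
  have ex4 : (ShortComplex.mk (0 : S.X₃ ⟶ (0 : A)) (0 : (0 : A) ⟶ (0 : A)) w4).Exact :=
    ShortComplex.exact_of_isZero_X₂ _ (isZero_zero A)
  have hex : (mk₄ S.f S.g (0 : S.X₃ ⟶ (0 : A)) (0 : (0 : A) ⟶ (0 : A))).Exact :=
    exact_of_δ₀ hS.exact_toComposableArrows
      (exact_of_δ₀ ex3.exact_toComposableArrows ex4.exact_toComposableArrows)
  exact hP _ hex h1 h2 (hzero _ (isZero_zero A)) (hzero _ (isZero_zero A))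

end Closure

section Fil

variable {A : Type u} [Category.{v} A] [Abelian A] (K : SpSeq.FilCx A)

lemma ZSub_eq (r : ℕ) (p m n s : ℤ) (h : m + 1 = n) (hs : s = p + r) :
    K.ZSub r p m = (K.filX p m ⊓ (Subobject.pullback (K.obj.d m n)).obj (K.filX s n)) ⊔
      K.filX (p + 1) m := by
  subst h; subst hs; rfl

lemma BSub_eq (r : ℕ) (p n m q : ℤ) (h : m + 1 = n) (hq : q = p - r + 1) :
    K.BSub r p n = (K.filX p n ⊓ imageSubobject ((K.filX q m).arrow ≫ K.obj.d m n)) ⊔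
      K.filX (p + 1) n := by
  obtain rfl : m = n - 1 := by omega
  subst hq; rfl

lemma ZSub_anti (r : ℕ) (p n : ℤ) : K.ZSub (r + 1) p n ≤ K.ZSub r p n := by
  unfold SpSeq.FilCx.ZSub
  exact sup_le_sup_right (inf_le_inf_left _ ((Subobject.pullback _).monotone
    (K.filX_anti (n + 1) (by push_cast; omega)))) _

lemma BSub_mono (r : ℕ) (p n : ℤ) : K.BSub r p n ≤ K.BSub (r + 1) p n := by
  unfold SpSeq.FilCx.BSub
  refine sup_le_sup_right (inf_le_inf_left _ ?_) _
  have hle : K.filX (p - r + 1) (n - 1) ≤ K.filX (p - ((r + 1 : ℕ) : ℤ) + 1) (n - 1) :=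
    K.filX_anti (n - 1) (by push_cast; omega)
  exact SpSeq.FilCx.imageSubobject_le_of_fac (Subobject.ofLE _ _ hle)
    (by rw [← Category.assoc, Subobject.ofLE_arrow])

lemma J_iso (r : ℕ) (p m : ℤ) :
    Nonempty (subquot (K.ZSub r p m) (K.ZSub (r + 1) p m) (ZSub_anti K r p m) ≅
      subquot (K.BSub (r + 1) (p + r) (m + 1)) (K.BSub r (p + r) (m + 1))
        (BSub_mono K r (p + r) (m + 1))) := by
  have hF : K.filX (p + 1) m ≤ K.filX p m := K.filX_anti m (by omega)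
  have hG : K.filX (p + r + 1) (m + 1) ≤ K.filX (p + r) (m + 1) := K.filX_anti (m + 1) (by omega)
  have eZ0 := ZSub_eq K r p m (m + 1) (p + r) rfl rfl
  have eZ1 := ZSub_eq K (r + 1) p m (m + 1) (p + r + 1) rfl (by push_cast; ring)
  have eB1 := BSub_eq K (r + 1) (p + r) (m + 1) m p rfl (by push_cast; ring)
  have eB0 := BSub_eq K r (p + r) (m + 1) m (p + 1) rfl (by ring)
  have hZ : (K.filX p m ⊓ (Subobject.pullback (K.obj.d m (m + 1))).obj (K.filX (p + r + 1) (m + 1))) ⊔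
      K.filX (p + 1) m ≤
      (K.filX p m ⊓ (Subobject.pullback (K.obj.d m (m + 1))).obj (K.filX (p + r) (m + 1))) ⊔
      K.filX (p + 1) m := by
    rw [← eZ0, ← eZ1]; exact ZSub_anti K r p m
  have hB : (K.filX (p + r) (m + 1) ⊓ imageSubobject ((K.filX (p + 1) m).arrow ≫ K.obj.d m (m + 1))) ⊔
      K.filX (p + r + 1) (m + 1) ≤
      (K.filX (p + r) (m + 1) ⊓ imageSubobject ((K.filX p m).arrow ≫ K.obj.d m (m + 1))) ⊔
      K.filX (p + r + 1) (m + 1) := by
    rw [← eB0, ← eB1]; exact BSub_mono K r (p + r) (m + 1)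
  obtain ⟨e⟩ := butterfly_d (K.obj.d m (m + 1)) (K.filX p m) (K.filX (p + 1) m)
    (K.filX (p + r) (m + 1)) (K.filX (p + r + 1) (m + 1)) hF hG hZ hB
  exact ⟨subquotCongr _ _ eZ0 eZ1 ≪≫ e ≪≫ (subquotCongr _ _ eB1 eB0).symm⟩

end Fil

section Page

variable {A : Type u} [Category.{v} A] [Abelian A] (P : ObjectProperty A)
  [P.IsClosedUnderIsomorphisms]
  (hzero : ∀ Z : A, IsZero Z → P Z)
  (hP : ∀ S : ComposableArrows A 4, S.Exact → P (S.obj 0) → P (S.obj 1) → P (S.obj 3) →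
    P (S.obj 4) → P (S.obj 2))
  (K : SpSeq.FilCx A)

include hzero hP

lemma page_succ (r : ℕ) (hr : ∀ p n : ℤ, P (K.E r p n)) : ∀ p n : ℤ, P (K.E (r + 1) p n) := by
  have hE : ∀ p n, P (subquot (K.ZSub r p n) (K.BSub r p n) (K.BSub_le_ZSub r p n)) := hr
  have hBZ : ∀ p n, K.BSub (r + 1) p n ≤ K.ZSub r p n := fun p n =>
    (K.BSub_le_ZSub (r + 1) p n).trans (ZSub_anti K r p n)
  have hBZ' : ∀ p n, K.BSub r p n ≤ K.ZSub (r + 1) p n := fun p n =>
    (BSub_mono K r p n).trans (K.BSub_le_ZSub (r + 1) p n)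
  have hα : ∀ p m : ℤ, P (subquot (K.ZSub r (p + r) (m + 1)) (K.BSub (r + 1) (p + r) (m + 1))
      (hBZ _ _)) := by
    intro p m
    obtain ⟨J⟩ := J_iso K r p m
    let q := sqq (K.BSub r p m) (K.ZSub (r + 1) p m) (K.ZSub r p m) (hBZ' p m) (ZSub_anti K r p m)
    let i := sqι (K.BSub r (p + r) (m + 1)) (K.BSub (r + 1) (p + r) (m + 1))
      (K.ZSub r (p + r) (m + 1)) (BSub_mono K r _ _) (hBZ _ _)
    let q' := sqq (K.BSub r (p + r) (m + 1)) (K.BSub (r + 1) (p + r) (m + 1))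
      (K.ZSub r (p + r) (m + 1)) (BSub_mono K r _ _) (hBZ _ _)
    have hiq : i ≫ q' = 0 := sqι_sqq _ _ _ _ _
    have w : (q ≫ J.hom ≫ i) ≫ q' = 0 := by
      rw [Category.assoc, Category.assoc, hiq, comp_zero, comp_zero]
    have hex : (ShortComplex.mk (q ≫ J.hom ≫ i) q' w).Exact := by
      rw [ShortComplex.exact_iff_exact_up_to_refinements]
      intro T x hx
      dsimp at x hx ⊢
      obtain ⟨T', π, hπ, y, hy⟩ := (sq_exact (K.BSub r (p + r) (m + 1))
        (K.BSub (r + 1) (p + r) (m + 1)) (K.ZSub r (p + r) (m + 1)) (BSub_mono K r _ _)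
        (hBZ _ _)).exact_up_to_refinements x hx
      dsimp at y hy
      have : Epi (q ≫ J.hom) := epi_comp _ _
      obtain ⟨T'', π', hπ', z, hz⟩ := surjective_up_to_refinements_of_epi (q ≫ J.hom) y
      refine ⟨T'', π' ≫ π, inferInstance, z, ?_⟩
      rw [Category.assoc, hy, ← Category.assoc π' y, hz, Category.assoc, Category.assoc]
    have : Epi (ShortComplex.mk (q ≫ J.hom ≫ i) q' w).g := inferInstanceAs (Epi q')
    exact P_right P hzero hP _ hex (hE p m) (hE (p + r) (m + 1))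
  have hβ' : ∀ p m : ℤ, P (subquot (K.BSub (r + 1) (p + r) (m + 1)) (K.BSub r (p + r) (m + 1))
      (BSub_mono K r _ _)) := by
    intro p m
    exact P_left P hzero hP _ (sq_shortExact (K.BSub r (p + r) (m + 1))
      (K.BSub (r + 1) (p + r) (m + 1)) (K.ZSub r (p + r) (m + 1)) (BSub_mono K r _ _) (hBZ _ _))
      (hE (p + r) (m + 1)) (hα p m)
  have hβ : ∀ p n : ℤ, P (subquot (K.BSub (r + 1) p n) (K.BSub r p n) (BSub_mono K r p n)) := by
    intro p n
    obtain ⟨p₀, rfl⟩ : ∃ p₀, p = p₀ + r := ⟨p - r, by ring⟩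
    obtain ⟨m₀, rfl⟩ : ∃ m₀, n = m₀ + 1 := ⟨n - 1, by ring⟩
    exact hβ' p₀ m₀
  have hγ : ∀ p m, P (subquot (K.ZSub r p m) (K.ZSub (r + 1) p m) (ZSub_anti K r p m)) := by
    intro p m
    obtain ⟨J⟩ := J_iso K r p m
    exact P.prop_of_iso J.symm (hβ' p m)
  have hδ : ∀ p m, P (subquot (K.ZSub (r + 1) p m) (K.BSub r p m) (hBZ' p m)) := by
    intro p m
    exact P_left P hzero hP _ (sq_shortExact (K.BSub r p m) (K.ZSub (r + 1) p m) (K.ZSub r p m)
      (hBZ' p m) (ZSub_anti K r p m)) (hE p m) (hγ p m)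
  intro p m
  have hS := sq_shortExact (K.BSub r p m) (K.BSub (r + 1) p m) (K.ZSub (r + 1) p m)
    (BSub_mono K r p m) (K.BSub_le_ZSub (r + 1) p m)
  have := hS.epi_g
  exact P_right P hzero hP _ hS.exact (hβ p m) (hδ p m)

lemma page_add (r : ℕ) (hr : ∀ p n : ℤ, P (K.E r p n)) (k : ℕ) : ∀ p n : ℤ, P (K.E (r + k) p n) := by
  induction k with
  | zero => exact hr
  | succ k ih => exact page_succ P hzero hP K (r + k) ih

end Page

section Abut

variable {A : Type u} [Category.{v} A] [Abelian A]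

lemma pullback_bot_eq_kernel {X Y : A} (f : X ⟶ Y) :
    (Subobject.pullback f).obj ⊥ = kernelSubobject f := by
  apply le_antisymm
  · apply le_kernelSubobject
    have := (Subobject.isPullback f ⊥).w
    rw [← this, Subobject.bot_arrow, comp_zero]
  · exact SpSeq.FilCx.kernelSubobject_le_pullback _ _

variable (P : ObjectProperty A) [P.IsClosedUnderIsomorphisms]
  (hzero : ∀ Z : A, IsZero Z → P Z)
  (hP : ∀ S : ComposableArrows A 4, S.Exact → P (S.obj 0) → P (S.obj 1) → P (S.obj 3) →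
    P (S.obj 4) → P (S.obj 2))
  (K : SpSeq.FilCx A)

include hzero hP

lemma chain_mem {X : A} (W : ℤ → Subobject X) (hW : Antitone W)
    (hgr : ∀ p, P (subquot (W p) (W (p + 1)) (hW (by omega)))) (b : ℤ) :
    ∀ (k : ℕ) (p : ℤ) (hp : p + k = b), P (subquot (W p) (W b) (hW (by omega))) := by
  intro k
  induction k with
  | zero =>
    intro p hp
    obtain rfl : p = b := by simpa using hp
    exact hzero _ (isZero_subquot_self _)
  | succ k ih =>
    intro p hp
    have h1 := ih (p + 1) (by push_cast at hp; omega)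
    exact P_mid P hzero hP _ (sq_shortExact (W b) (W (p + 1)) (W p) (hW (by omega))
      (hW (by omega))) h1 (hgr p)

lemma main (hK : ∀ n : ℤ, (K.XFil n).IsFinite) (r : ℕ) (hr : ∀ p n : ℤ, P (K.E r p n)) (n : ℤ) :
    P (K.obj.homology n) := by
  have htop : ∀ n : ℤ, ∃ a : ℤ, ∀ p, p ≤ a → K.filX p n = ⊤ := by
    intro n
    obtain ⟨⟨a, ha⟩, _⟩ := hK n
    refine ⟨a, fun p hp => ?_⟩
    have h1 := K.filX_anti n hp
    have h2 : K.filX a n = ⊤ := ha
    exact top_le_iff.mp (by rw [← h2]; exact h1)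
  have hbot : ∀ n : ℤ, ∃ b : ℤ, ∀ p, b ≤ p → K.filX p n = ⊥ := by
    intro n
    obtain ⟨_, ⟨b, hb⟩⟩ := hK n
    refine ⟨b, fun p hp => ?_⟩
    have h1 := K.filX_anti n hp
    have h2 : K.filX b n = ⊥ := hb
    exact le_bot_iff.mp (by rw [← h2]; exact h1)
  have hIZ : imageSubobject (K.obj.d (n - 1) n) ≤ kernelSubobject (K.obj.d n (n + 1)) :=
    image_le_kernel (K.obj.sc' (n - 1) n (n + 1))
  have hle : ∀ p, K.BBot p n ≤ K.ZTop p n := fun p =>
    sup_le_sup_right (inf_le_inf_left _ hIZ) _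
  -- E_∞
  have hinf : ∀ p, P (subquot (K.ZTop p n) (K.BBot p n) (hle p)) := by
    intro p
    obtain ⟨b', hb'⟩ := hbot (n + 1)
    obtain ⟨a', ha'⟩ := htop (n - 1)
    have hER := page_add P hzero hP K r hr ((b' - p).toNat + (p + 1 - a').toNat) p n
    set R := r + ((b' - p).toNat + (p + 1 - a').toNat) with hR
    have eZ : K.ZSub R p n = K.ZTop p n := by
      unfold SpSeq.FilCx.ZSub SpSeq.FilCx.ZTop
      rw [hb' (p + (R : ℤ)) (by rw [hR]; push_cast; omega), pullback_bot_eq_kernel]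
    have eB : K.BSub R p n = K.BBot p n := by
      unfold SpSeq.FilCx.BSub SpSeq.FilCx.BBot
      have h1 : K.filX (p - (R : ℤ) + 1) (n - 1) = ⊤ := ha' _ (by rw [hR]; push_cast; omega)
      have : IsIso (K.filX (p - (R : ℤ) + 1) (n - 1)).arrow :=
        (Subobject.isIso_arrow_iff_eq_top _).mpr h1
      rw [imageSubobject_iso_comp]
    exact P.prop_of_iso (subquotCongr (K.BSub_le_ZSub R p n) (hle p) eZ eB) hER
  -- the filtration of `Ker d / Im d`
  let W : ℤ → Subobject (K.obj.X n) := fun p =>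
    (K.filX p n ⊓ kernelSubobject (K.obj.d n (n + 1))) ⊔ imageSubobject (K.obj.d (n - 1) n)
  have hW : Antitone W := fun p q h =>
    sup_le_sup_right (inf_le_inf_right _ (K.filX_anti n h)) _
  have hgr : ∀ p, P (subquot (W p) (W (p + 1)) (hW (by omega))) := by
    intro p
    obtain ⟨e⟩ := gr_iso (K.filX p n) (K.filX (p + 1) n) (kernelSubobject (K.obj.d n (n + 1)))
      (imageSubobject (K.obj.d (n - 1) n)) (K.filX_anti n (by omega)) hIZ
      (hW (by omega : p ≤ p + 1)) (hle p)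
    exact P.prop_of_iso e.symm (hinf p)
  obtain ⟨a, ha⟩ := htop n
  obtain ⟨b, hb⟩ := hbot n
  have hWa : W (min a b) = kernelSubobject (K.obj.d n (n + 1)) := by
    show (K.filX (min a b) n ⊓ _) ⊔ _ = _
    rw [ha _ (min_le_left _ _), top_inf_eq]
    exact sup_eq_left.2 hIZ
  have hWb : W b = imageSubobject (K.obj.d (n - 1) n) := by
    show (K.filX b n ⊓ _) ⊔ _ = _
    rw [hb b le_rfl, bot_inf_eq, bot_sup_eq]
  have h1 := chain_mem P hzero hP W hW hgr b (b - min a b).toNat (min a b)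
    (by have := min_le_right a b; omega)
  have h2 : P (subquot (kernelSubobject (K.obj.d n (n + 1))) (imageSubobject (K.obj.d (n - 1) n))
      hIZ) := P.prop_of_iso (subquotCongr _ _ hWa hWb) h1
  obtain ⟨e⟩ := homology_iso_subquot (K.obj.sc' (n - 1) n (n + 1))
  have h3 : P (K.obj.sc' (n - 1) n (n + 1)).homology := P.prop_of_iso e h2
  exact P.prop_of_iso (K.obj.homologyIsoSc' (n - 1) n (n + 1) (by simp) (by simp)).symm h3

end Abut

/-- For a filtered complex with degreewise finite filtration, if all terms of some page of its spectral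
sequence lie in a weak Serre class `P`, then so does each cohomology object. -/
theorem result {A : Type u} [Category.{v} A] [Abelian A] (K : SpSeq.FilCx A) (hK : ∀ n : ℤ, (K.XFil n).IsFinite) (P : ObjectProperty A) [P.IsClosedUnderIsomorphisms] (h0 : ∃ Z : A, IsZero Z ∧ P Z) (hP : ∀ S : ComposableArrows A 4, S.Exact → P (S.obj 0) → P (S.obj 1) → P (S.obj 3) → P (S.obj 4) → P (S.obj 2)) (r : ℕ) (hr : ∀ p n : ℤ, P (K.E r p n)) (n : ℤ) : P (K.obj.homology n) := by
  have hzero : ∀ Z : A, IsZero Z → P Z := by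
    intro Z hZ
    obtain ⟨Z₀, hZ₀, hP₀⟩ := h0
    exact P.prop_of_iso (hZ₀.iso hZ) hP₀
  exact main P hzero hP K hK r hr n

end Groth.Agent.S6793
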