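import Groth.Statements.S6794
import Groth.Agent.S6792
import Groth.Agent.S6793

set_option autoImplicit false
open CategoryTheory CategoryTheory.Limits
universe v u
open SpSeq SpSeq.FilCx

namespace Groth.Agent.S6794

set_option linter.unusedVariables false
set_option linter.unusedSectionVars false

open Groth.Agent.H16.SubQuot Groth.Agent.H34 HomologicalComplex

section Core

variable {A : Type u} [Category.{v} A] [Abelian A] (K : SpSeq.FilCx A)

/-- the `p`-th step as a complex -/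
noncomputable abbrev L (p : ℤ) : CochainComplex A ℤ := (K.fil p : CochainComplex A ℤ)

/-- its inclusion -/
noncomputable abbrev ι (p : ℤ) : L K p ⟶ K.obj := (K.fil p).arrow

lemma filX_factors_iff (p n : ℤ) {T : A} (x : T ⟶ K.obj.X n) :
    (K.filX p n).Factors x ↔ ∃ y : T ⟶ (L K p).X n, y ≫ (ι K p).f n = x := by
  unfold SpSeq.FilCx.filX
  constructor
  · intro h
    refine ⟨(Subobject.mk ((K.fil p).arrow.f n)).factorThru x h ≫
      (Subobject.underlyingIso _).hom, ?_⟩
    rw [Category.assoc, Subobject.underlyingIso_hom_comp_eq_mk, Subobject.factorThru_arrow]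
  · rintro ⟨y, rfl⟩
    exact Subobject.factors_of_factors_right _ (Subobject.mk_factors_self _)

lemma core_A (q n : ℤ) (hq : IsZero ((L K q).homology (n + 1))) {T : A} (x : T ⟶ K.obj.X n)
    (hx : (K.filX q (n + 1)).Factors (x ≫ K.obj.d n (n + 1))) :
    ∃ (T' : A) (π : T' ⟶ T) (_ : Epi π) (y : T' ⟶ K.obj.X n),
      (K.filX q n).Factors y ∧ (π ≫ x - y) ≫ K.obj.d n (n + 1) = 0 := by
  obtain ⟨u, hu⟩ := (filX_factors_iff K q (n + 1) _).1 hx
  have hu0 : u ≫ (L K q).d (n + 1) (n + 1 + 1) = 0 := by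
    rw [← cancel_mono ((ι K q).f (n + 1 + 1)), Category.assoc, ← (ι K q).comm, ← Category.assoc, hu,
      Category.assoc, K.obj.d_comp_d, comp_zero, zero_comp]
  have hex : (L K q).ExactAt (n + 1) := by rwa [HomologicalComplex.exactAt_iff_isZero_homology]
  rw [(L K q).exactAt_iff_exact_up_to_refinements n (n + 1) (n + 1 + 1) (by simp) (by simp)] at hex
  obtain ⟨T', π, hπ, v, hv⟩ := hex u hu0
  refine ⟨T', π, hπ, v ≫ (ι K q).f n, (filX_factors_iff K q n _).2 ⟨v, rfl⟩, ?_⟩
  rw [Preadditive.sub_comp, Category.assoc, Category.assoc, (ι K q).comm, ← Category.assoc v, ← hv,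
    Category.assoc, hu, sub_self]

lemma ZSub_eq_ZTop (p n : ℤ) (r : ℕ) (hr : 1 ≤ r)
    (hq : IsZero ((L K (p + r)).homology (n + 1))) : K.ZSub r p n = K.ZTop p n := by
  apply le_antisymm
  · unfold SpSeq.FilCx.ZSub SpSeq.FilCx.ZTop
    apply sup_le _ le_sup_right
    apply subobject_le_of_forall_factors
    intro T x hx
    obtain ⟨hx0, hx1⟩ := (Subobject.inf_factors x).1 hx
    rw [pullback_factors_iff] at hx1
    obtain ⟨T', π, hπ, y, hy, hxy⟩ := core_A K (p + r) n hq x hx1
    have h1 : K.filX (p + r) n ≤ K.filX (p + 1) n := K.filX_anti n (by omega)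
    have h2 : K.filX (p + r) n ≤ K.filX p n := K.filX_anti n (by omega)
    apply factors_of_epi_comp _ π
    have e : π ≫ x = (π ≫ x - y) + y := by abel
    rw [e]
    refine sup_factors_of _ _ _ _ ((Subobject.inf_factors _).2 ⟨?_, ?_⟩)
      (Subobject.factors_of_le _ h1 hy)
    · exact factors_sub _ _ _ (factors_precomp _ _ _ hx0) (Subobject.factors_of_le _ h2 hy)
    · exact kernelSubobject_factors _ _ hxy
  · exact sup_le_sup_right (inf_le_inf_left _ (SpSeq.FilCx.kernelSubobject_le_pullback _ _)) _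

lemma BSub_eq_BBot (p n : ℤ) (r : ℕ) (hr : 1 ≤ r)
    (hq : Mono (HomologicalComplex.homologyMap (ι K (p - r + 1)) n)) :
    K.BSub r p n = K.BBot p n := by
  apply le_antisymm
  · exact sup_le_sup_right (inf_le_inf_left _ (imageSubobject_comp_le _ _)) _
  · rw [Groth.Agent.S6793.BSub_eq K r p n (n - 1) (p - r + 1) (by ring) rfl]
    unfold SpSeq.FilCx.BBot
    apply sup_le _ le_sup_right
    apply subobject_le_of_forall_factors
    intro T x hx
    obtain ⟨hx0, hx1⟩ := (Subobject.inf_factors x).1 hx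
    obtain ⟨T₁, π₁, hπ₁, w, hw⟩ := (imageSubobject_factors_iff _ _).1 hx1
    have hqp : K.filX p n ≤ K.filX (p - r + 1) n := K.filX_anti n (by omega)
    obtain ⟨u, hu⟩ := (filX_factors_iff K (p - r + 1) n _).1 (Subobject.factors_of_le _ hqp hx0)
    have hu0 : (π₁ ≫ u) ≫ (L K (p - r + 1)).d n (n + 1) = 0 := by
      rw [← cancel_mono ((ι K (p - r + 1)).f (n + 1)), Category.assoc, Category.assoc,
        ← (ι K (p - r + 1)).comm, ← Category.assoc u, hu, ← Category.assoc, hw, Category.assoc,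
        K.obj.d_comp_d, comp_zero, zero_comp]
    rw [HomologicalComplex.mono_homologyMap_iff_up_to_refinements (ι K (p - r + 1)) (n - 1) n (n + 1)
      (by simp) (by simp)] at hq
    obtain ⟨T₂, π₂, hπ₂, v, hv⟩ := hq (π₁ ≫ u) hu0 w (by rw [Category.assoc, hu, hw])
    apply factors_of_epi_comp _ (π₂ ≫ π₁)
    refine Subobject.sup_factors_of_factors_left
      ((Subobject.inf_factors _).2 ⟨factors_precomp _ _ _ hx0, ?_⟩)
    have e : (π₂ ≫ π₁) ≫ x = (v ≫ (ι K (p - r + 1)).f (n - 1)) ≫ K.obj.d (n - 1) n := by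
      rw [Category.assoc, Category.assoc v, (ι K (p - r + 1)).comm, ← Category.assoc v, ← hv,
        Category.assoc, Category.assoc, hu]
    rw [e]
    exact image_factors_of _ _ _ ((filX_factors_iff K (p - r + 1) (n - 1) _).2 ⟨v, rfl⟩)

end Core

section E1

variable {A : Type u} [Category.{v} A] [Abelian A] (K : SpSeq.FilCx A)

lemma ZSub1_le_BSub1 (p n : ℤ)
    (hm : Mono (homologyMap (K.stepLE (show p ≤ p + 1 by omega)) (n + 1)))
    (he : Epi (homologyMap (K.stepLE (show p ≤ p + 1 by omega)) n)) :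
    K.ZSub 1 p n ≤ K.BSub 1 p n := by
  rw [Groth.Agent.S6793.ZSub_eq K 1 p n (n + 1) (p + 1) rfl (by simp),
    Groth.Agent.S6793.BSub_eq K 1 p n (n - 1) p (by ring) (by simp)]
  apply sup_le _ le_sup_right
  apply subobject_le_of_forall_factors
  intro T x hx
  obtain ⟨hx0, hx1⟩ := (Subobject.inf_factors x).1 hx
  rw [pullback_factors_iff] at hx1
  obtain ⟨a, ha⟩ := (filX_factors_iff K p n _).1 hx0
  obtain ⟨u, hu⟩ := (filX_factors_iff K (p + 1) (n + 1) _).1 hx1
  set j : L K (p + 1) ⟶ L K p := K.stepLE (show p ≤ p + 1 by omega) with hj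
  have hjι : ∀ m, j.f m ≫ (ι K p).f m = (ι K (p + 1)).f m := fun m => by
    rw [← HomologicalComplex.comp_f, Subobject.ofLE_arrow]
  have hu0 : u ≫ (L K (p + 1)).d (n + 1) (n + 1 + 1) = 0 := by
    rw [← cancel_mono ((ι K (p + 1)).f (n + 1 + 1)), Category.assoc, ← (ι K (p + 1)).comm,
      ← Category.assoc, hu, Category.assoc, K.obj.d_comp_d, comp_zero, zero_comp]
  have hja : u ≫ j.f (n + 1) = a ≫ (L K p).d n (n + 1) := by
    rw [← cancel_mono ((ι K p).f (n + 1)), Category.assoc, hjι, hu, Category.assoc,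
      ← (ι K p).comm, ← Category.assoc, ha]
  rw [mono_homologyMap_iff_up_to_refinements j n (n + 1) (n + 1 + 1) (by simp) (by simp)] at hm
  obtain ⟨T₁, π₁, hπ₁, x₁, hx₁⟩ := hm u hu0 a hja
  have hc0 : (π₁ ≫ a - x₁ ≫ j.f n) ≫ (L K p).d n (n + 1) = 0 := by
    rw [Preadditive.sub_comp, Category.assoc, Category.assoc, ← hja, j.comm, ← Category.assoc x₁,
      ← hx₁, Category.assoc, sub_self]
  rw [epi_homologyMap_iff_up_to_refinements j (n - 1) n (n + 1) (by simp) (by simp)] at he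
  obtain ⟨T₂, π₂, hπ₂, x₂, hx₂0, y₁, hy₁⟩ := he _ hc0
  apply factors_of_epi_comp _ (π₂ ≫ π₁)
  have e : (π₂ ≫ π₁) ≫ x = (y₁ ≫ (ι K p).f (n - 1)) ≫ K.obj.d (n - 1) n +
      (π₂ ≫ x₁ + x₂) ≫ (ι K (p + 1)).f n := by
    have e1 : π₂ ≫ π₁ ≫ a = π₂ ≫ (π₁ ≫ a - x₁ ≫ j.f n) + π₂ ≫ x₁ ≫ j.f n := by
      rw [← Preadditive.comp_add, sub_add_cancel]
    rw [Category.assoc, ← ha, ← Category.assoc π₁, ← Category.assoc π₂, e1, hy₁]
    simp only [Preadditive.add_comp, Category.assoc, hjι, (ι K p).comm]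
    abel
  rw [e]
  refine sup_factors_of _ _ _ _ ((Subobject.inf_factors _).2 ⟨?_, ?_⟩)
    ((filX_factors_iff K (p + 1) n _).2 ⟨_, rfl⟩)
  · rw [Category.assoc, (ι K p).comm, ← Category.assoc]
    exact (filX_factors_iff K p n _).2 ⟨_, rfl⟩
  · exact image_factors_of _ _ _ ((filX_factors_iff K p (n - 1) _).2 ⟨y₁, rfl⟩)

end E1

section Main

variable {A : Type u} [Category.{v} A] [Abelian A] (K : SpSeq.FilCx A)

theorem main
    (h0 : ∀ n : ℤ, ∃ p₀ : ℤ, ∀ p : ℤ, p₀ ≤ p → IsZero ((K.fil p : CochainComplex A ℤ).homology n))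
    (h1 : ∀ n : ℤ, ∃ p₁ : ℤ, ∀ p : ℤ, p ≤ p₁ →
      IsIso (HomologicalComplex.homologyMap (K.fil p).arrow n)) :
    K.IsBounded 1 ∧ (∀ n : ℤ, (K.HFil n).IsFinite) ∧ K.Converges := by
  have hHfin : ∀ n : ℤ, (K.HFil n).IsFinite := by
    intro n
    obtain ⟨p₀, hp₀⟩ := h0 n
    obtain ⟨p₁, hp₁⟩ := h1 n
    refine ⟨⟨p₁, ?_⟩, ⟨p₀, ?_⟩⟩
    · show K.filH p₁ n = ⊤
      unfold SpSeq.FilCx.filH
      have := hp₁ p₁ le_rfl
      exact Groth.Agent.S6792.imageSubobject_eq_top_of_epi _
    · show K.filH p₀ n = ⊥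
      unfold SpSeq.FilCx.filH
      exact Groth.Agent.S6792.imageSubobject_eq_bot_of_eq_zero _ ((hp₀ p₀ le_rfl).eq_of_src _ 0)
  have hZ : ∀ p n : ℤ, ∃ r₀ : ℕ, ∀ r, r₀ ≤ r → K.ZSub r p n = K.ZTop p n := by
    intro p n
    obtain ⟨p₀, hp₀⟩ := h0 (n + 1)
    exact ⟨(p₀ - p).toNat + 1, fun r hr =>
      ZSub_eq_ZTop K p n r (by omega) (hp₀ _ (by omega))⟩
  have hB : ∀ p n : ℤ, ∃ r₀ : ℕ, ∀ r, r₀ ≤ r → K.BSub r p n = K.BBot p n := by
    intro p n
    obtain ⟨p₁, hp₁⟩ := h1 n
    refine ⟨(p + 1 - p₁).toNat + 1, fun r hr => BSub_eq_BBot K p n r (by omega) ?_⟩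
    have := hp₁ (p - r + 1) (by omega)
    infer_instance
  refine ⟨?_, hHfin, ?_, ⟨?_, ?_⟩, ?_⟩
  · -- bounded from page 1
    intro n
    obtain ⟨p₀, hp₀⟩ := h0 n
    obtain ⟨p₀', hp₀'⟩ := h0 (n + 1)
    obtain ⟨p₁, hp₁⟩ := h1 n
    obtain ⟨p₁', hp₁'⟩ := h1 (n + 1)
    apply (Set.finite_Ioo (min p₁ p₁' - 1) (max p₀ p₀')).subset
    intro p hp
    by_contra hnot
    apply hp
    unfold SpSeq.FilCx.E
    apply Groth.Agent.S6792.isZero_subquot_of_eq
    apply le_antisymm (K.BSub_le_ZSub 1 p n)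
    rw [Set.mem_Ioo, not_and_or, not_lt, not_lt] at hnot
    rcases hnot with h | h
    · have hp1 : p + 1 ≤ p₁ := by have := min_le_left p₁ p₁'; omega
      have hp1' : p + 1 ≤ p₁' := by have := min_le_right p₁ p₁'; omega
      have key : ∀ (m p₂ : ℤ), (∀ q ≤ p₂, IsIso (homologyMap (ι K q) m)) → p + 1 ≤ p₂ →
          IsIso (homologyMap (K.stepLE (show p ≤ p + 1 by omega)) m) := by
        intro m p₂ hq hle
        have i1 := hq (p + 1) hle
        have i2 := hq p (by omega)
        have e : homologyMap (K.stepLE (show p ≤ p + 1 by omega)) m ≫ homologyMap (ι K p) m =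
            homologyMap (ι K (p + 1)) m := by
          rw [← homologyMap_comp, Subobject.ofLE_arrow]
        exact IsIso.of_isIso_fac_right e
      have := key (n + 1) p₁' hp₁' hp1'
      have := key n p₁ hp₁ hp1
      exact ZSub1_le_BSub1 K p n inferInstance inferInstance
    · have hz1 : IsZero ((L K (p + 1)).homology (n + 1)) :=
        hp₀' _ (by have := le_max_right p₀ p₀'; omega)
      have hz2 : IsZero ((L K p).homology n) := hp₀ _ (by have := le_max_left p₀ p₀'; omega)
      exact ZSub1_le_BSub1 K p n ⟨fun g h _ => hz1.eq_of_tgt g h⟩ ⟨fun g h _ => hz2.eq_of_src g h⟩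
  · -- regular
    intro p n
    obtain ⟨r₀, hr₀⟩ := hZ p n
    exact ⟨r₀, fun r hr => by rw [hr₀ r hr, hr₀ r₀ le_rfl]⟩
  · -- weakly converges
    intro p n
    constructor
    · obtain ⟨r₀, hr₀⟩ := hZ p n
      constructor
      · rintro _ ⟨r, rfl⟩
        exact sup_le_sup_right
          (inf_le_inf_left _ (SpSeq.FilCx.kernelSubobject_le_pullback _ _)) _
      · intro S hS
        exact (hS ⟨r₀, rfl⟩).trans (hr₀ r₀ le_rfl).le
    · obtain ⟨r₀, hr₀⟩ := hB p n
      constructor
      · rintro _ ⟨r, rfl⟩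
        exact sup_le_sup_right (inf_le_inf_left _ (imageSubobject_comp_le _ _)) _
      · intro S hS
        exact (hr₀ r₀ le_rfl).ge.trans (hS ⟨r₀, rfl⟩)
  · -- separated, exhaustive
    intro n
    constructor
    · refine ⟨fun _ _ => bot_le, fun S hS => ?_⟩
      obtain ⟨b, hb⟩ := (hHfin n).2
      have := hS ⟨b, rfl⟩
      rw [hb] at this
      exact this
    · refine ⟨fun _ _ => le_top, fun S hS => ?_⟩
      obtain ⟨a, ha⟩ := (hHfin n).1
      have := hS ⟨a, rfl⟩
      rw [ha] at this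
      exact this
  · intro n
    exact Groth.Agent.S6792.isComplete_of_isFinite _ (hHfin n)

end Main

/-- If the cohomology of the filtration steps of a filtered complex vanishes in each degree for large
filtration index and maps isomorphically to the cohomology of the whole complex for small filtration
index, then the spectral sequence is bounded from page `1` on, the induced filtrations on cohomology
are finite, and the spectral sequence converges. (The published statement asserts boundedness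
without naming a page, which read from page `0` fails for an acyclic complex with an infinite
filtration by acyclic subcomplexes; this row asserts boundedness from page `1`, which is what the
published proof shows.) -/
theorem result {A : Type u} [Category.{v} A] [Abelian A] (K : SpSeq.FilCx A) (h0 : ∀ n : ℤ, ∃ p₀ : ℤ, ∀ p : ℤ, p₀ ≤ p → IsZero ((K.fil p : CochainComplex A ℤ).homology n)) (h1 : ∀ n : ℤ, ∃ p₁ : ℤ, ∀ p : ℤ, p ≤ p₁ → IsIso (HomologicalComplex.homologyMap (K.fil p).arrow n)) : K.IsBounded 1 ∧ (∀ n : ℤ, (K.HFil n).IsFinite) ∧ K.Converges := by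
  exact main K h0 h1

end Groth.Agent.S6794
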