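import Groth.Statements.S6795
import Mathlib

set_option autoImplicit false
open CategoryTheory CategoryTheory.Limits
universe v u
open CategoryTheory CategoryTheory.Preadditive

namespace Groth.Agent.S6795

/-- A preadditive category with countable products in which split epimorphisms have kernels is
idempotent complete (Karoubian). -/
theorem result {D : Type u} [Category.{v} D] [Preadditive D] [HasCountableProducts D] (hk : ∀ ⦃X Y : D⦄ (f : X ⟶ Y), IsSplitEpi f → HasKernel f) : IsIdempotentComplete D := by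
  rw [Idempotents.isIdempotentComplete_iff_idempotents_have_kernels]
  intro X e he
  have he' : e ≫ (𝟙 X - e) = 0 := by rw [comp_sub, Category.comp_id, he, sub_self]
  have he'' : (𝟙 X - e) ≫ e = 0 := by rw [sub_comp, Category.id_comp, he, sub_self]
  have hee : (𝟙 X - e) ≫ (𝟙 X - e) = 𝟙 X - e := Idempotents.idem_of_id_sub_idem e he
  let F : ℕ → D := fun _ => X
  let Φ : ∏ᶜ F ⟶ ∏ᶜ F := Pi.lift (fun n => Pi.π F n ≫ e + Pi.π F (n + 1) ≫ (𝟙 X - e))
  let Ψ : ∏ᶜ F ⟶ ∏ᶜ F := Pi.lift (fun n =>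
    match n with
    | 0 => Pi.π F 0
    | (m + 1) => Pi.π F m ≫ (𝟙 X - e) + Pi.π F (m + 1) ≫ e)
  have hΦ : ∀ n, Φ ≫ Pi.π F n = Pi.π F n ≫ e + Pi.π F (n + 1) ≫ (𝟙 X - e) := fun n =>
    Pi.lift_π _ n
  have hΨ0 : Ψ ≫ Pi.π F 0 = Pi.π F 0 := Pi.lift_π _ 0
  have hΨs : ∀ m, Ψ ≫ Pi.π F (m + 1) = Pi.π F m ≫ (𝟙 X - e) + Pi.π F (m + 1) ≫ e := fun m =>
    Pi.lift_π _ (m + 1)
  have hΨΦ : Ψ ≫ Φ = 𝟙 _ := by
    apply Pi.hom_ext
    intro n
    rw [Category.assoc, hΦ, comp_add, ← Category.assoc, ← Category.assoc, Category.id_comp]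
    cases n with
    | zero =>
      simp only [hΨ0, hΨs, add_comp, Category.assoc, hee, he', he'', he, comp_zero, zero_add,
        add_zero]
      rw [← comp_add, add_sub_cancel, Category.comp_id]
    | succ m =>
      simp only [hΨs, add_comp, Category.assoc, hee, he', he'', he, comp_zero, zero_add,
        add_zero]
      rw [← comp_add, add_sub_cancel, Category.comp_id]
  haveI : IsSplitEpi Φ := ⟨⟨⟨Ψ, hΨΦ⟩⟩⟩
  haveI : HasKernel Φ := hk Φ inferInstance
  -- relations from the kernel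
  have r1 : ∀ n, kernel.ι Φ ≫ Pi.π F n ≫ e = 0 := by
    intro n
    have h0 : kernel.ι Φ ≫ Φ ≫ Pi.π F n ≫ e = 0 := by
      rw [← Category.assoc, kernel.condition, zero_comp]
    rw [← Category.assoc Φ, hΦ, add_comp, Category.assoc, Category.assoc, he, he'', comp_zero,
      add_zero] at h0
    exact h0
  have r2 : ∀ n, kernel.ι Φ ≫ Pi.π F (n + 1) ≫ (𝟙 X - e) = 0 := by
    intro n
    have h0 : kernel.ι Φ ≫ Φ ≫ Pi.π F n ≫ (𝟙 X - e) = 0 := by
      rw [← Category.assoc, kernel.condition, zero_comp]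
    rw [← Category.assoc Φ, hΦ, add_comp, Category.assoc, Category.assoc, hee, he', comp_zero,
      zero_add] at h0
    exact h0
  have r3 : ∀ n, kernel.ι Φ ≫ Pi.π F (n + 1) = 0 := by
    intro n
    have : Pi.π F (n + 1) = Pi.π F (n + 1) ≫ e + Pi.π F (n + 1) ≫ (𝟙 X - e) := by
      rw [← comp_add, add_sub_cancel, Category.comp_id]
    rw [this, comp_add, r1, r2, add_zero]
  refine HasLimit.mk ⟨KernelFork.ofι (kernel.ι Φ ≫ Pi.π F 0) (by rw [Category.assoc]; exact r1 0),
    KernelFork.IsLimit.ofι _ _ (fun {T} g hg => kernel.lift Φ (Pi.lift (fun n =>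
      match n with
      | 0 => g
      | (m + 1) => 0)) ?_) ?_ ?_⟩
  · apply Pi.hom_ext
    intro n
    rw [Category.assoc, hΦ, comp_add, ← Category.assoc, ← Category.assoc, Pi.lift_π, Pi.lift_π,
      zero_comp]
    cases n with
    | zero => simp [hg]
    | succ m => simp
  · intro T g hg
    rw [← Category.assoc, kernel.lift_ι, Pi.lift_π]
  · intro T g hg m hm
    rw [← cancel_mono (kernel.ι Φ), kernel.lift_ι]
    apply Pi.hom_ext
    intro n
    rw [Pi.lift_π]
    cases n with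
    | zero => rw [Category.assoc]; exact hm
    | succ k => rw [Category.assoc, r3, comp_zero]

end Groth.Agent.S6795
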