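import Groth.Statements.S6799
import Groth.Agent.H92.Cosk

set_option autoImplicit false
open CategoryTheory Opposite
universe u
open SSet

namespace Groth.Agent.S6799


open Simplicial MonoidalCategory

noncomputable def homotopyMk {X Y : SSet.{u}} {f g : X ⟶ Y} (h : X ⊗ Δ[1] ⟶ Y)
    (h₀ : ι₀ ≫ h = f) (h₁ : ι₁ ≫ h = g) : SSet.Homotopy f g :=
  { h := h, h₀ := h₀, h₁ := h₁,
    rel := by
      ext m ⟨⟨x, hx⟩, _⟩
      exact hx.elim }

/-- A simplex of `Δ[1]` is constant with value `0`. -/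
def IsZ {m : SimplexCategoryᵒᵖ} (a : (Δ[1] : SSet.{u}).obj m) : Prop :=
  ∀ k, (stdSimplex.objEquiv a).toOrderHom k = 0

theorem isZ_map {m m' : SimplexCategoryᵒᵖ} (θ : m ⟶ m') (a : (Δ[1] : SSet.{u}).obj m)
    (ha : IsZ a) : IsZ ((Δ[1] : SSet.{u}).map θ a) := by
  intro k
  exact ha (θ.unop.toOrderHom k)

theorem not_surjective_of_isZ_map {m m' : SimplexCategoryᵒᵖ} (θ : m ⟶ m')
    (a : (Δ[1] : SSet.{u}).obj m) (ha : ¬ IsZ a) (ha' : IsZ ((Δ[1] : SSet.{u}).map θ a)) :
    ¬ Function.Surjective θ.unop.toOrderHom := by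
  intro hs
  apply ha
  intro k
  obtain ⟨k', rfl⟩ := hs k
  exact ha' k'

open Classical in
theorem key {U V : SSet.{u}} (f₀ f₁ : V ⟶ U) (n : ℕ)
    (h : ∀ i : ℕ, i < n → f₀.app (op (SimplexCategory.mk i)) = f₁.app (op (SimplexCategory.mk i)))
    (k j : SimplexCategory) (hk : k.len ≤ n) (θ : j ⟶ k) (v : V.obj (op k))
    (a : (Δ[1] : SSet.{u}).obj (op k)) :
    (if IsZ ((Δ[1] : SSet.{u}).map θ.op a) then f₀.app _ (V.map θ.op v)
      else f₁.app _ (V.map θ.op v)) =
      U.map θ.op (if IsZ a then f₀.app _ v else f₁.app _ v) := by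
  have nat₀ : ∀ {x y : SimplexCategory} (θ : x ⟶ y) (v : V.obj (op y)),
      f₀.app _ (V.map θ.op v) = U.map θ.op (f₀.app _ v) :=
    fun θ v => ConcreteCategory.congr_hom (f₀.naturality θ.op) v
  have nat₁ : ∀ {x y : SimplexCategory} (θ : x ⟶ y) (v : V.obj (op y)),
      f₁.app _ (V.map θ.op v) = U.map θ.op (f₁.app _ v) :=
    fun θ v => ConcreteCategory.congr_hom (f₁.naturality θ.op) v
  by_cases ha : IsZ a
  · rw [if_pos ha, if_pos (isZ_map θ.op a ha)]
    exact nat₀ θ v
  · rw [if_neg ha]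
    by_cases ha' : IsZ ((Δ[1] : SSet.{u}).map θ.op a)
    · rw [if_pos ha', ← nat₁]
      have hns := not_surjective_of_isZ_map θ.op a ha ha'
      induction k using SimplexCategory.rec with | _ k => ?_
      obtain _ | k := k
      · exfalso
        apply hns
        intro y
        refine ⟨0, ?_⟩
        exact Subsingleton.elim (α := Fin 1) _ _
      · obtain ⟨i, θ', rfl⟩ := SimplexCategory.eq_comp_δ_of_not_surjective θ hns
        have hk' : k < n := hk
        rw [op_comp, V.map_comp, types_comp_apply, nat₀, nat₁]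
        congr 1
        exact ConcreteCategory.congr_hom (h k hk') _
    · rw [if_neg ha']
      exact nat₁ θ v


/-- Two maps between `n`-coskeletal simplicial sets which agree on simplices of dimension `< n` are
homotopic, by a single homotopy. -/
theorem result {U V : SSet.{u}} (f₀ f₁ : V ⟶ U) (n : ℕ) (h : ∀ i : ℕ, i < n → f₀.app (op (SimplexCategory.mk i)) = f₁.app (op (SimplexCategory.mk i))) [SimplicialObject.IsCoskeletal U n] [SimplicialObject.IsCoskeletal V n] : Nonempty (SSet.Homotopy f₀ f₁) := by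
  classical
  let L := (SimplexCategory.Truncated.inclusion n).op
  let φ : L ⋙ (V ⊗ Δ[1]) ⟶ L ⋙ U :=
    { app := fun m => TypeCat.ofHom fun p =>
        if IsZ p.2 then f₀.app (L.obj m) p.1 else f₁.app (L.obj m) p.1
      naturality := by
        intro m m' g
        ext p
        exact key f₀ f₁ n h m.unop.obj m'.unop.obj m.unop.property g.unop.hom p.1 p.2 }
  obtain ⟨H, hH⟩ := Groth.Agent.H92.Cosk.exists_lift (X := U) n φ
  have hHapp : ∀ (k : ℕ) (hk : k ≤ n) (p : (V ⊗ Δ[1]).obj (op (SimplexCategory.mk k))),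
      H.app (op (SimplexCategory.mk k)) p =
        if IsZ p.2 then f₀.app _ p.1 else f₁.app _ p.1 := by
    intro k hk p
    have := congrArg (fun ψ => ψ.app (op ⟨SimplexCategory.mk k, hk⟩)) hH
    exact ConcreteCategory.congr_hom this p
  refine ⟨homotopyMk H ?_ ?_⟩
  · apply Groth.Agent.H92.Cosk.hom_ext n
    intro k hk
    ext v
    show H.app (op (SimplexCategory.mk k)) (ι₀.app (op (SimplexCategory.mk k)) v) = f₀.app _ v
    rw [hHapp k hk, if_pos]
    · rfl
    · intro i
      rfl
  · apply Groth.Agent.H92.Cosk.hom_ext n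
    intro k hk
    ext v
    show H.app (op (SimplexCategory.mk k)) (ι₁.app (op (SimplexCategory.mk k)) v) = f₁.app _ v
    rw [hHapp k hk, if_neg]
    · rfl
    · intro hz
      have h0 := hz 0
      have h1 : (stdSimplex.objEquiv (ι₁.app (op (SimplexCategory.mk k)) v).2).toOrderHom 0 = (1 : Fin 2) := rfl
      rw [h1] at h0
      exact absurd h0 (by decide)

end Groth.Agent.S6799
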