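import Groth.Statements.S6801
import Groth.Agent.H34.SubobjRefine

set_option autoImplicit false
open CategoryTheory
universe v u
open SpSeq SpSeq.FilObj

namespace Groth.Agent.S6801

open CategoryTheory.Limits Groth.Agent.H34

/-- The composite of two strict morphisms of filtered objects is strict when the second one is a
monomorphism. (In general a composite of strict morphisms is not strict.) -/
theorem result {A : Type u} [Category.{v} A] [Abelian A] {K L M : SpSeq.FilObj A} (f : K ⟶ L) (g : L ⟶ M) (hf : SpSeq.FilObj.IsStrict f) (hg : SpSeq.FilObj.IsStrict g) [Mono g.hom] : SpSeq.FilObj.IsStrict (f ≫ g) := by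
  intro p
  show imageSubobject ((K.fil p).arrow ≫ f.hom ≫ g.hom) = imageSubobject (f.hom ≫ g.hom) ⊓ M.fil p
  apply subobject_ext_factors
  intro T x
  rw [Subobject.inf_factors, imageSubobject_factors_iff, imageSubobject_factors_iff]
  constructor
  · rintro ⟨T', π, hπ, y, hy⟩
    refine ⟨⟨T', π, hπ, y ≫ (K.fil p).arrow, by simpa using hy⟩, ?_⟩
    -- x lies in M.fil p
    have h1 : (imageSubobject ((K.fil p).arrow ≫ f.hom ≫ g.hom)).Factors x :=
      (imageSubobject_factors_iff _ _).2 ⟨T', π, hπ, y, hy⟩
    have h2 := hf p
    have h3 := hg p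
    -- image of K_p in L lies in L_p
    have h4 : (imageSubobject ((L.fil p).arrow ≫ g.hom)).Factors x := by
      rw [imageSubobject_factors_iff]
      have h5 : (imageSubobject ((K.fil p).arrow ≫ f.hom)).Factors (y ≫ (K.fil p).arrow ≫ f.hom) :=
        imageSubobject_factors_comp_self _ y
      rw [h2, Subobject.inf_factors] at h5
      refine ⟨T', π, hπ, (L.fil p).factorThru _ h5.2, ?_⟩
      rw [← Category.assoc, Subobject.factorThru_arrow, hy]
      simp
    rw [h3, Subobject.inf_factors] at h4
    exact h4.2
  · rintro ⟨⟨T', π, hπ, y, hy⟩, hx⟩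
    -- y ≫ f is an element of L whose image under g lies in M_p and in im g
    have h1 : (imageSubobject g.hom ⊓ M.fil p).Factors (π ≫ x) := by
      rw [Subobject.inf_factors]
      refine ⟨?_, Subobject.factors_of_factors_right π hx⟩
      rw [hy, ← Category.assoc]
      exact imageSubobject_factors_comp_self _ _
    rw [← hg p, imageSubobject_factors_iff] at h1
    obtain ⟨T1, π1, hπ1, z, hz⟩ := h1
    have h2 : π1 ≫ y ≫ f.hom = z ≫ (L.fil p).arrow := by
      rw [← cancel_mono g.hom]
      simp only [Category.assoc]
      rw [← hz, hy]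
    have h3 : (imageSubobject f.hom ⊓ L.fil p).Factors (π1 ≫ y ≫ f.hom) := by
      rw [Subobject.inf_factors]
      refine ⟨?_, ?_⟩
      · rw [← Category.assoc]
        exact imageSubobject_factors_comp_self _ _
      · rw [h2]
        exact Subobject.factors_comp_arrow z
    rw [← hf p, imageSubobject_factors_iff] at h3
    obtain ⟨T2, π2, hπ2, w, hw⟩ := h3
    refine ⟨T2, π2 ≫ π1 ≫ π, inferInstance, w, ?_⟩
    simp only [Category.assoc]
    rw [hy]
    have := hw =≫ g.hom
    simpa using this

end Groth.Agent.S6801
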