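import Groth.Statements.S6802
import Groth.Agent.H34.SubobjRefine

set_option autoImplicit false
open CategoryTheory
universe v u
open SpSeq SpSeq.FilObj

namespace Groth.Agent.S6802

open CategoryTheory.Limits Groth.Agent.H34

/-- The composite of two strict morphisms of filtered objects is strict when the first one is an
epimorphism. -/
theorem result {A : Type u} [Category.{v} A] [Abelian A] {K L M : SpSeq.FilObj A} (f : K ⟶ L) (g : L ⟶ M) (hf : SpSeq.FilObj.IsStrict f) (hg : SpSeq.FilObj.IsStrict g) [Epi f.hom] : SpSeq.FilObj.IsStrict (f ≫ g) := by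
  intro p
  show imageSubobject ((K.fil p).arrow ≫ f.hom ≫ g.hom) = imageSubobject (f.hom ≫ g.hom) ⊓ M.fil p
  apply subobject_ext_factors
  intro T x
  rw [Subobject.inf_factors, imageSubobject_factors_iff, imageSubobject_factors_iff]
  constructor
  · rintro ⟨T', π, hπ, y, hy⟩
    refine ⟨⟨T', π, hπ, y ≫ (K.fil p).arrow, by simpa using hy⟩, ?_⟩
    have h2 := hf p
    have h3 := hg p
    have h4 : (imageSubobject ((L.fil p).arrow ≫ g.hom)).Factors x := by
      rw [imageSubobject_factors_iff]
      have h5 : (imageSubobject ((K.fil p).arrow ≫ f.hom)).Factors (y ≫ (K.fil p).arrow ≫ f.hom) :=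
        imageSubobject_factors_comp_self _ y
      rw [h2, Subobject.inf_factors] at h5
      refine ⟨T', π, hπ, (L.fil p).factorThru _ h5.2, ?_⟩
      rw [← Category.assoc, Subobject.factorThru_arrow, hy]
      simp
    rw [h3, Subobject.inf_factors] at h4
    exact h4.2
  · rintro ⟨⟨T', π, hπ, y, hy⟩, hx⟩
    have h1 : (imageSubobject g.hom ⊓ M.fil p).Factors (π ≫ x) := by
      rw [Subobject.inf_factors]
      refine ⟨?_, Subobject.factors_of_factors_right π hx⟩
      rw [hy, ← Category.assoc]
      exact imageSubobject_factors_comp_self _ _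
    rw [← hg p, imageSubobject_factors_iff] at h1
    obtain ⟨T1, π1, hπ1, z, hz⟩ := h1
    -- z ≫ L_p.arrow lies in im f after refinement since f is epi
    obtain ⟨T2, π2, hπ2, y2, hy2⟩ := surjective_up_to_refinements_of_epi f.hom (z ≫ (L.fil p).arrow)
    have h3 : (imageSubobject f.hom ⊓ L.fil p).Factors (π2 ≫ z ≫ (L.fil p).arrow) := by
      rw [Subobject.inf_factors]
      refine ⟨?_, ?_⟩
      · rw [hy2]
        exact imageSubobject_factors_comp_self _ _
      · rw [← Category.assoc]
        exact Subobject.factors_comp_arrow _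
    rw [← hf p, imageSubobject_factors_iff] at h3
    obtain ⟨T3, π3, hπ3, w, hw⟩ := h3
    refine ⟨T3, π3 ≫ π2 ≫ π1 ≫ π, inferInstance, w, ?_⟩
    simp only [Category.assoc]
    rw [hz]
    have := hw =≫ g.hom
    simpa using this

end Groth.Agent.S6802
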