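import Groth.Statements.S6803
import Groth.Agent.S6801
import Groth.Agent.H34.SubobjRefine

set_option autoImplicit false
open CategoryTheory CategoryTheory.Limits
universe v u
open SpSeq SpSeq.FilObj

namespace Groth.Agent.S6803

set_option linter.unusedVariables false
set_option linter.style.haveILetI false

open Groth.Agent.H34

section Gen

variable {A : Type u} [Category.{v} A] [Abelian A]

lemma sup_image_eq {X A₁ A₂ : A} (s : A₁ ⟶ X) (t : A₂ ⟶ X) :
    imageSubobject s ⊔ imageSubobject t = imageSubobject (biprod.desc s t) := by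
  apply le_antisymm
  · exact sup_le (SpSeq.FilCx.imageSubobject_le_of_fac biprod.inl (by simp))
      (SpSeq.FilCx.imageSubobject_le_of_fac biprod.inr (by simp))
  · refine imageSubobject_le _ (biprod.desc
      (factorThruImageSubobject s ≫ Subobject.ofLE _ _ le_sup_left)
      (factorThruImageSubobject t ≫ Subobject.ofLE _ _ le_sup_right)) ?_
    ext <;> simp

lemma sup_image_factors {X A₁ A₂ T : A} (s : A₁ ⟶ X) (t : A₂ ⟶ X) (x : T ⟶ X)
    (h : (imageSubobject s ⊔ imageSubobject t).Factors x) :
    ∃ (T' : A) (π : T' ⟶ T) (_ : Epi π) (a : T' ⟶ A₁) (b : T' ⟶ A₂), π ≫ x = a ≫ s + b ≫ t := by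
  rw [sup_image_eq, imageSubobject_factors_iff] at h
  obtain ⟨T', π, hπ, y, hy⟩ := h
  refine ⟨T', π, hπ, y ≫ biprod.fst, y ≫ biprod.snd, ?_⟩
  rw [hy, biprod.desc_eq, Preadditive.comp_add, Category.assoc, Category.assoc]

lemma pushout_exact_refine {X₁ X₂ X₃ T : A} (t : X₁ ⟶ X₂) (l : X₁ ⟶ X₃) (x₂ : T ⟶ X₂)
    (x₃ : T ⟶ X₃) (h : x₂ ≫ pushout.inl t l = x₃ ≫ pushout.inr t l) :
    ∃ (T' : A) (π : T' ⟶ T) (_ : Epi π) (k : T' ⟶ X₁), π ≫ x₂ = k ≫ t ∧ π ≫ x₃ = k ≫ l := by
  have hpo := IsPushout.of_hasPushout t l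
  obtain ⟨T', π, hπ, k, hk⟩ : ∃ (T' : A) (π : T' ⟶ T) (_ : Epi π) (k : T' ⟶ X₁),
      π ≫ biprod.lift x₂ (-x₃) = k ≫ biprod.lift t (-l) :=
    hpo.exact_shortComplex.exact_up_to_refinements
    (biprod.lift x₂ (-x₃)) (by
      change biprod.lift x₂ (-x₃) ≫ biprod.desc (pushout.inl t l) (pushout.inr t l) = 0
      rw [biprod.lift_desc, Preadditive.neg_comp, h, add_neg_cancel])
  refine ⟨T', π, hπ, k, ?_, ?_⟩
  · have := hk =≫ biprod.fst
    rw [Category.assoc, Category.assoc, biprod.lift_fst, biprod.lift_fst] at this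
    exact this
  · have := hk =≫ biprod.snd
    rw [Category.assoc, Category.assoc, biprod.lift_snd, biprod.lift_snd, Preadditive.comp_neg,
      Preadditive.comp_neg, neg_inj] at this
    exact this

end Gen

section Main

variable {A : Type u} [Category.{v} A] [Abelian A] {K L M : SpSeq.FilObj A} (f : K ⟶ L) (g : K ⟶ M)

lemma factors_of_compat {X Y : SpSeq.FilObj A} (a : X ⟶ Y) (p : ℤ) {T : A} (x : T ⟶ X.obj)
    (hx : (X.fil p).Factors x) : (Y.fil p).Factors (x ≫ a.hom) := by
  rw [← pullback_factors_iff]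
  exact Subobject.factors_of_le x (a.compat p) hx

/-- The explicit pushout. -/
noncomputable abbrev P : SpSeq.FilObj A where
  obj := pushout f.hom g.hom
  fil p := imageSubobject ((L.fil p).arrow ≫ pushout.inl f.hom g.hom) ⊔
    imageSubobject ((M.fil p).arrow ≫ pushout.inr f.hom g.hom)
  anti := fun p q h => sup_le_sup
    (SpSeq.FilCx.imageSubobject_le_of_fac (L.stepLE h) (by
      rw [← Category.assoc, Subobject.ofLE_arrow]))
    (SpSeq.FilCx.imageSubobject_le_of_fac (M.stepLE h) (by
      rw [← Category.assoc, Subobject.ofLE_arrow]))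

noncomputable def pinl : L ⟶ P f g := ⟨pushout.inl _ _, fun p => by
  apply subobject_le_of_forall_factors
  intro T x hx
  rw [pullback_factors_iff]
  apply Subobject.sup_factors_of_factors_left
  have : x ≫ pushout.inl f.hom g.hom =
      (L.fil p).factorThru x hx ≫ ((L.fil p).arrow ≫ pushout.inl f.hom g.hom) := by
    rw [← Category.assoc, Subobject.factorThru_arrow]
  rw [this]
  exact imageSubobject_factors_comp_self _ _⟩

noncomputable def pinr : M ⟶ P f g := ⟨pushout.inr _ _, fun p => by
  apply subobject_le_of_forall_factors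
  intro T x hx
  rw [pullback_factors_iff]
  apply Subobject.sup_factors_of_factors_right
  have : x ≫ pushout.inr f.hom g.hom =
      (M.fil p).factorThru x hx ≫ ((M.fil p).arrow ≫ pushout.inr f.hom g.hom) := by
    rw [← Category.assoc, Subobject.factorThru_arrow]
  rw [this]
  exact imageSubobject_factors_comp_self _ _⟩

lemma pw : f ≫ pinl f g = g ≫ pinr f g := Hom.ext pushout.condition

noncomputable def pdesc (s : PushoutCocone f g) : P f g ⟶ s.pt :=
  ⟨pushout.desc s.inl.hom s.inr.hom (congrArg Hom.hom s.condition), fun p => by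
    apply sup_le
    · apply subobject_le_of_forall_factors
      intro T x hx
      rw [imageSubobject_factors_iff] at hx
      obtain ⟨T', π, hπ, y, hy⟩ := hx
      rw [pullback_factors_iff]
      apply factors_of_epi_comp _ π
      rw [← Category.assoc, hy, Category.assoc, Category.assoc, pushout.inl_desc, ← Category.assoc]
      exact factors_of_compat s.inl p _ (Subobject.factors_comp_arrow y)
    · apply subobject_le_of_forall_factors
      intro T x hx
      rw [imageSubobject_factors_iff] at hx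
      obtain ⟨T', π, hπ, y, hy⟩ := hx
      rw [pullback_factors_iff]
      apply factors_of_epi_comp _ π
      rw [← Category.assoc, hy, Category.assoc, Category.assoc, pushout.inr_desc, ← Category.assoc]
      exact factors_of_compat s.inr p _ (Subobject.factors_comp_arrow y)⟩

noncomputable def isColimitP : IsColimit (PushoutCocone.mk (pinl f g) (pinr f g) (pw f g)) :=
  PushoutCocone.IsColimit.mk _ (fun s => pdesc f g s)
    (fun s => Hom.ext (pushout.inl_desc _ _ _))
    (fun s => Hom.ext (pushout.inr_desc _ _ _))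
    (fun s m h₁ h₂ => Hom.ext (pushout.hom_ext
      ((congrArg Hom.hom h₁).trans (pushout.inl_desc _ _ _).symm)
      ((congrArg Hom.hom h₂).trans (pushout.inr_desc _ _ _).symm)))

lemma isPushoutP : IsPushout f g (pinl f g) (pinr f g) := ⟨⟨pw f g⟩, ⟨isColimitP f g⟩⟩

lemma strict_pinr (hf : SpSeq.FilObj.IsStrict f) : SpSeq.FilObj.IsStrict (pinr f g) := by
  intro p
  change imageSubobject ((M.fil p).arrow ≫ pushout.inr f.hom g.hom) =
    imageSubobject (pushout.inr f.hom g.hom) ⊓ (P f g).fil p
  apply le_antisymm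
  · exact le_inf (imageSubobject_comp_le _ _) le_sup_right
  · apply subobject_le_of_forall_factors
    intro T x hx
    rw [Subobject.inf_factors] at hx
    obtain ⟨hx1, hx2⟩ := hx
    obtain ⟨T₁, π₁, hπ₁, a, b, hab⟩ := sup_image_factors _ _ x hx2
    have hx1' : (imageSubobject (pushout.inr f.hom g.hom)).Factors (π₁ ≫ x) :=
      Subobject.factors_of_factors_right π₁ hx1
    rw [imageSubobject_factors_iff] at hx1'
    obtain ⟨T₂, π₂, hπ₂, m, hm⟩ := hx1'
    -- `(π₂ ≫ a ≫ arrow) ≫ inl = (m - π₂ ≫ b ≫ arrow) ≫ inr`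
    have hrel : (π₂ ≫ a ≫ (L.fil p).arrow) ≫ pushout.inl f.hom g.hom =
        (m - π₂ ≫ b ≫ (M.fil p).arrow) ≫ pushout.inr f.hom g.hom := by
      rw [Preadditive.sub_comp, ← hm, hab, Preadditive.comp_add]
      simp only [Category.assoc]
      abel
    obtain ⟨T₃, π₃, hπ₃, k, hk₁, hk₂⟩ := pushout_exact_refine f.hom g.hom _ _ hrel
    -- `k ≫ f` lies in `image f ⊓ F^p L`
    have hstr : (imageSubobject ((K.fil p).arrow ≫ f.hom)).Factors (k ≫ f.hom) := by
      rw [hf p, Subobject.inf_factors]
      refine ⟨imageSubobject_factors_comp_self _ _, ?_⟩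
      rw [← hk₁, ← Category.assoc, ← Category.assoc]
      exact Subobject.factors_comp_arrow _
    rw [imageSubobject_factors_iff] at hstr
    obtain ⟨T₄, π₄, hπ₄, k', hk'⟩ := hstr
    apply factors_of_epi_comp _ (π₄ ≫ π₃ ≫ π₂ ≫ π₁)
    have hgk : (M.fil p).Factors ((k' ≫ (K.fil p).arrow) ≫ g.hom) :=
      factors_of_compat g p _ (Subobject.factors_comp_arrow k')
    have key : (π₄ ≫ π₃ ≫ π₂ ≫ π₁) ≫ x =
        ((M.fil p).factorThru _ hgk + π₄ ≫ π₃ ≫ π₂ ≫ b) ≫
          ((M.fil p).arrow ≫ pushout.inr f.hom g.hom) := by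
      rw [Preadditive.add_comp, ← Category.assoc ((M.fil p).factorThru _ hgk),
        Subobject.factorThru_arrow]
      have e1 : (π₄ ≫ π₃ ≫ π₂ ≫ π₁) ≫ x = π₄ ≫ π₃ ≫ π₂ ≫ (π₁ ≫ x) := by
        simp only [Category.assoc]
      rw [e1, hab, Preadditive.comp_add, Preadditive.comp_add, Preadditive.comp_add]
      congr 1
      · have e2 : π₄ ≫ π₃ ≫ π₂ ≫ a ≫ (L.fil p).arrow ≫ pushout.inl f.hom g.hom =
            π₄ ≫ ((π₃ ≫ π₂ ≫ a ≫ (L.fil p).arrow) ≫ pushout.inl f.hom g.hom) := by
          simp only [Category.assoc]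
        rw [e2, hk₁, ← Category.assoc π₄, hk', Category.assoc, Category.assoc, Category.assoc,
          pushout.condition]
        simp only [Category.assoc]
      · simp only [Category.assoc]
    rw [key]
    exact imageSubobject_factors_comp_self _ _

lemma strict_iso {X Y : SpSeq.FilObj A} (e : X ≅ Y) : SpSeq.FilObj.IsStrict e.hom := by
  intro p
  have hinv : e.inv.hom ≫ e.hom.hom = 𝟙 _ := congrArg Hom.hom e.inv_hom_id
  apply le_antisymm
  · apply le_inf
    · exact imageSubobject_comp_le _ _
    · apply subobject_le_of_forall_factors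
      intro T x hx
      rw [imageSubobject_factors_iff] at hx
      obtain ⟨T', π, hπ, y, hy⟩ := hx
      apply factors_of_epi_comp _ π
      rw [hy, ← Category.assoc]
      exact factors_of_compat e.hom p _ (Subobject.factors_comp_arrow y)
  · apply subobject_le_of_forall_factors
    intro T x hx
    rw [Subobject.inf_factors] at hx
    have h1 : (X.fil p).Factors (x ≫ e.inv.hom) := factors_of_compat e.inv p x hx.2
    have : x = (X.fil p).factorThru _ h1 ≫ ((X.fil p).arrow ≫ e.hom.hom) := by
      rw [← Category.assoc, Subobject.factorThru_arrow, Category.assoc, hinv, Category.comp_id]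
    rw [this]
    exact imageSubobject_factors_comp_self _ _

lemma mono_iso_hom {X Y : SpSeq.FilObj A} (e : X ≅ Y) : Mono e.hom.hom := by
  have : IsIso e.hom.hom := ⟨e.inv.hom, congrArg Hom.hom e.hom_inv_id, congrArg Hom.hom e.inv_hom_id⟩
  infer_instance

end Main


/-- Pushouts exist in the category of filtered objects of an abelian category, and the pushout of a
strict morphism is strict. -/
theorem result {A : Type u} [Category.{v} A] [Abelian A] {K L M : SpSeq.FilObj A} (f : K ⟶ L) (g : K ⟶ M) : HasPushout f g ∧ ∀ (P : SpSeq.FilObj A) (g' : L ⟶ P) (f' : M ⟶ P), IsPushout f g g' f' → SpSeq.FilObj.IsStrict f → SpSeq.FilObj.IsStrict f' := by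
  refine ⟨(isPushoutP f g).hasPushout, ?_⟩
  intro P' g' f' hP hf
  have hinr : pinr f g ≫ ((isPushoutP f g).isoIsPushout _ _ hP).hom = f' :=
    (isPushoutP f g).inr_isoIsPushout_hom _ _ hP
  rw [← hinr]
  haveI := mono_iso_hom ((isPushoutP f g).isoIsPushout _ _ hP)
  exact Groth.Agent.S6801.result _ _ (strict_pinr f g hf) (strict_iso _)

end Groth.Agent.S6803
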