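import Groth.Statements.S6804
import Groth.Agent.S6802
import Groth.Agent.H34.SubobjRefine

set_option autoImplicit false
open CategoryTheory CategoryTheory.Limits
universe v u
open SpSeq SpSeq.FilObj

namespace Groth.Agent.S6804

set_option linter.unusedVariables false
set_option linter.style.haveILetI false

open Groth.Agent.H34

variable {A : Type u} [Category.{v} A] [Abelian A] {K L M : SpSeq.FilObj A} (f : L ⟶ K) (g : M ⟶ K)

/-- The explicit fibre product. -/
noncomputable abbrev P : SpSeq.FilObj A where
  obj := pullback f.hom g.hom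
  fil p := (Subobject.pullback (pullback.fst f.hom g.hom)).obj (L.fil p) ⊓
    (Subobject.pullback (pullback.snd f.hom g.hom)).obj (M.fil p)
  anti := fun _ _ h => inf_le_inf ((Subobject.pullback _).monotone (L.anti h))
    ((Subobject.pullback _).monotone (M.anti h))

noncomputable def pfst : P f g ⟶ L := ⟨pullback.fst _ _, fun _ => inf_le_left⟩
noncomputable def psnd : P f g ⟶ M := ⟨pullback.snd _ _, fun _ => inf_le_right⟩

lemma pw : pfst f g ≫ f = psnd f g ≫ g := Hom.ext pullback.condition

lemma factors_of_compat {X Y : SpSeq.FilObj A} (a : X ⟶ Y) (p : ℤ) {T : A} (x : T ⟶ X.obj)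
    (hx : (X.fil p).Factors x) : (Y.fil p).Factors (x ≫ a.hom) := by
  rw [← pullback_factors_iff]
  exact Subobject.factors_of_le x (a.compat p) hx

noncomputable def plift (s : PullbackCone f g) : s.pt ⟶ P f g :=
  ⟨pullback.lift s.fst.hom s.snd.hom (congrArg Hom.hom s.condition), fun p => by
    apply subobject_le_of_forall_factors
    intro T x hx
    rw [pullback_factors_iff]
    change ((Subobject.pullback (pullback.fst f.hom g.hom)).obj (L.fil p) ⊓
      (Subobject.pullback (pullback.snd f.hom g.hom)).obj (M.fil p)).Factors _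
    rw [Subobject.inf_factors, pullback_factors_iff, pullback_factors_iff, Category.assoc,
      Category.assoc, pullback.lift_fst, pullback.lift_snd]
    exact ⟨factors_of_compat s.fst p x hx, factors_of_compat s.snd p x hx⟩⟩

noncomputable def isLimitP : IsLimit (PullbackCone.mk (pfst f g) (psnd f g) (pw f g)) :=
  PullbackCone.IsLimit.mk _ (fun s => plift f g s)
    (fun s => Hom.ext (pullback.lift_fst _ _ _))
    (fun s => Hom.ext (pullback.lift_snd _ _ _))
    (fun s m h₁ h₂ => Hom.ext (pullback.hom_ext
      ((congrArg Hom.hom h₁).trans (pullback.lift_fst _ _ _).symm)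
      ((congrArg Hom.hom h₂).trans (pullback.lift_snd _ _ _).symm)))

lemma isPullbackP : IsPullback (pfst f g) (psnd f g) f g := ⟨⟨pw f g⟩, ⟨isLimitP f g⟩⟩

lemma strict_psnd (hf : SpSeq.FilObj.IsStrict f) : SpSeq.FilObj.IsStrict (psnd f g) := by
  intro p
  change imageSubobject (((P f g).fil p).arrow ≫ pullback.snd f.hom g.hom) =
    imageSubobject (pullback.snd f.hom g.hom) ⊓ M.fil p
  apply le_antisymm
  · apply le_inf
    · exact imageSubobject_comp_le _ _
    · apply subobject_le_of_forall_factors
      intro T x hx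
      rw [imageSubobject_factors_iff] at hx
      obtain ⟨T', π, hπ, y, hy⟩ := hx
      apply factors_of_epi_comp _ π
      rw [hy, ← Category.assoc]
      exact factors_of_compat (psnd f g) p _ (Subobject.factors_comp_arrow y)
  · apply subobject_le_of_forall_factors
    intro T x hx
    rw [Subobject.inf_factors, imageSubobject_factors_iff] at hx
    obtain ⟨⟨T₁, π₁, hπ₁, y₁, hy₁⟩, hxM⟩ := hx
    -- `l = y₁ ≫ fst`, `m = π₁ ≫ x`
    have hmK : (K.fil p).Factors ((π₁ ≫ x) ≫ g.hom) :=
      factors_of_compat g p _ (Subobject.factors_of_factors_right π₁ hxM)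
    have hcond : (y₁ ≫ pullback.fst f.hom g.hom) ≫ f.hom = (π₁ ≫ x) ≫ g.hom := by
      rw [Category.assoc, pullback.condition, ← Category.assoc, ← hy₁]
    have hstr : (imageSubobject ((L.fil p).arrow ≫ f.hom)).Factors ((π₁ ≫ x) ≫ g.hom) := by
      rw [hf p, Subobject.inf_factors]
      refine ⟨?_, hmK⟩
      rw [← hcond]
      exact imageSubobject_factors_comp_self _ _
    rw [imageSubobject_factors_iff] at hstr
    obtain ⟨T₂, π₂, hπ₂, l', hl'⟩ := hstr
    apply factors_of_epi_comp _ (π₂ ≫ π₁)
    -- the lift into the pullback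
    have hc2 : (l' ≫ (L.fil p).arrow) ≫ f.hom = (π₂ ≫ π₁ ≫ x) ≫ g.hom := by
      rw [Category.assoc, ← hl', Category.assoc, Category.assoc, Category.assoc]
    have hfac : ((P f g).fil p).Factors (pullback.lift (l' ≫ (L.fil p).arrow) (π₂ ≫ π₁ ≫ x) hc2) := by
      rw [Subobject.inf_factors, pullback_factors_iff, pullback_factors_iff, pullback.lift_fst,
        pullback.lift_snd]
      exact ⟨Subobject.factors_comp_arrow l',
        Subobject.factors_of_factors_right π₂ (Subobject.factors_of_factors_right π₁ hxM)⟩
    have : (π₂ ≫ π₁) ≫ x = ((P f g).fil p).factorThru _ hfac ≫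
        (((P f g).fil p).arrow ≫ pullback.snd f.hom g.hom) := by
      rw [← Category.assoc, Subobject.factorThru_arrow, pullback.lift_snd, Category.assoc]
    rw [this]
    exact imageSubobject_factors_comp_self _ _

lemma strict_iso {X Y : SpSeq.FilObj A} (e : X ≅ Y) : SpSeq.FilObj.IsStrict e.hom := by
  intro p
  have hinv : e.inv.hom ≫ e.hom.hom = 𝟙 _ := congrArg Hom.hom e.inv_hom_id
  apply le_antisymm
  · apply le_inf
    · exact imageSubobject_comp_le _ _
    · apply subobject_le_of_forall_factors
      intro T x hx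
      rw [imageSubobject_factors_iff] at hx
      obtain ⟨T', π, hπ, y, hy⟩ := hx
      apply factors_of_epi_comp _ π
      rw [hy, ← Category.assoc]
      exact factors_of_compat e.hom p _ (Subobject.factors_comp_arrow y)
  · apply subobject_le_of_forall_factors
    intro T x hx
    rw [Subobject.inf_factors] at hx
    have h1 : (X.fil p).Factors (x ≫ e.inv.hom) := factors_of_compat e.inv p x hx.2
    have : x = (X.fil p).factorThru _ h1 ≫ ((X.fil p).arrow ≫ e.hom.hom) := by
      rw [← Category.assoc, Subobject.factorThru_arrow, Category.assoc, hinv, Category.comp_id]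
    rw [this]
    exact imageSubobject_factors_comp_self _ _

lemma epi_iso_hom {X Y : SpSeq.FilObj A} (e : X ≅ Y) : Epi e.hom.hom := by
  have : IsIso e.hom.hom := ⟨e.inv.hom, congrArg Hom.hom e.hom_inv_id, congrArg Hom.hom e.inv_hom_id⟩
  infer_instance


/-- Fibre products exist in the category of filtered objects of an abelian category, and the base change
of a strict morphism is strict. -/
theorem result {A : Type u} [Category.{v} A] [Abelian A] {K L M : SpSeq.FilObj A} (f : L ⟶ K) (g : M ⟶ K) : HasPullback f g ∧ ∀ (P : SpSeq.FilObj A) (g' : P ⟶ L) (f' : P ⟶ M), IsPullback g' f' f g → SpSeq.FilObj.IsStrict f → SpSeq.FilObj.IsStrict f' := by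
  refine ⟨(isPullbackP f g).hasPullback, ?_⟩
  intro P' g' f' hP hf
  have e := hP.isoIsPullback _ _ (isPullbackP f g)
  have hsnd : (hP.isoIsPullback _ _ (isPullbackP f g)).hom ≫ psnd f g = f' :=
    hP.isoIsPullback_hom_snd _ _ (isPullbackP f g)
  rw [← hsnd]
  haveI := epi_iso_hom (hP.isoIsPullback _ _ (isPullbackP f g))
  exact Groth.Agent.S6802.result _ _ (strict_iso _) (strict_psnd f g hf)

end Groth.Agent.S6804
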