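import Groth.Statements.S6805
import Mathlib

set_option autoImplicit false
open CategoryTheory
universe u
open SSet

namespace Groth.Agent.S6805

/-- The simplicial set freely generated by an `m`-truncated simplicial set (its image under the left
adjoint of `m`-truncation) has only degenerate simplices above dimension `m`. -/
theorem result (m : ℕ) (U : SSet.Truncated.{u} m) : ((SSet.Truncated.sk m).obj U).HasDimensionLT (m + 1) := by
  set L := (SimplexCategory.Truncated.inclusion m).op with hL
  set W : SSet.{u} := (SSet.Truncated.sk m).obj U with hW
  let α : U ⟶ L ⋙ W := L.leftKanExtensionUnit U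
  have hKan : W.IsLeftKanExtension α := by
    show (L.leftKanExtension U).IsLeftKanExtension (L.leftKanExtensionUnit U)
    infer_instance
  have hP := Functor.isPointwiseLeftKanExtensionOfIsLeftKanExtension W α
  constructor
  intro n hn
  ext x
  simp only [Set.top_eq_univ, Set.mem_univ, iff_true]
  obtain ⟨g, u, hu⟩ := CategoryTheory.Limits.Types.jointly_surjective_of_isColimit (hP (Opposite.op (SimplexCategory.mk n))) x
  have hlen : g.left.unop.obj.len ≤ m := g.left.unop.property
  refine ⟨g.left.unop.obj.len, by omega, g.hom.unop, ?_⟩
  refine ⟨α.app g.left u, ?_⟩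
  exact hu

end Groth.Agent.S6805
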