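import Groth.Statements.S6810
import Groth.Agent.H34.FinStructured

set_option autoImplicit false
open CategoryTheory CategoryTheory.Limits
universe v u
open CategoryTheory CategoryTheory.SimplicialObject CategoryTheory.SimplicialObject.Truncated

namespace Groth.Agent.S6810

/-- In a category with finite colimits every truncated simplicial object has a pointwise left Kan
extension along the inclusion of the truncated simplex category, i.e. the left adjoints `i_{m!}` of
truncation exist and are given by the colimit formula. -/
theorem result {C : Type u} [Category.{v} C] [HasFiniteColimits C] (m : ℕ) (U : (SimplexCategory.Truncated m)ᵒᵖ ⥤ C) : (SimplexCategory.Truncated.inclusion m).op.HasPointwiseLeftKanExtension U := by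
  intro Y
  haveI : Finite (SimplexCategory.Truncated m) := Groth.Agent.H34.finite_truncated m
  haveI : Finite (SimplexCategory.Truncated m)ᵒᵖ := Finite.of_equiv _ Opposite.equivToOpposite
  haveI : ∀ a b : SimplexCategory.Truncated m, Finite (a ⟶ b) :=
    Groth.Agent.H34.finite_truncated_hom m
  haveI : ∀ a b : (SimplexCategory.Truncated m)ᵒᵖ, Finite (a ⟶ b) :=
    Groth.Agent.H34.finite_op_hom
  haveI : ∀ a b : SimplexCategoryᵒᵖ, Finite (a ⟶ b) := Groth.Agent.H34.finite_op_hom
  haveI : Finite (CostructuredArrow (SimplexCategory.Truncated.inclusion m).op Y) :=
    Groth.Agent.H34.finite_costructuredArrow _ _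
  haveI : ∀ x y : CostructuredArrow (SimplexCategory.Truncated.inclusion m).op Y, Finite (x ⟶ y) :=
    Groth.Agent.H34.finite_costructuredArrow_hom _ _
  letI : FinCategory (CostructuredArrow (SimplexCategory.Truncated.inclusion m).op Y) :=
    { fintypeObj := Fintype.ofFinite _
      fintypeHom := fun _ _ => Fintype.ofFinite _ }
  show HasColimit _
  infer_instance

end Groth.Agent.S6810
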