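import Groth.Statements.S6806
import Mathlib
import Groth.Agent.S6810

set_option autoImplicit false
open CategoryTheory CategoryTheory.Limits
universe v u
open CategoryTheory CategoryTheory.Abelian

namespace Groth.Agent.S6806

/-- For an `m`-truncated simplicial object `U` of an abelian category, the normalized Moore complex of
its free extension `i_{m!} U` (left adjoint of truncation) is zero in every degree `n > m`. Here the
normalized complex in degree `n` is the intersection of the kernels of the faces `d_1, …, d_n`; the
published statement intersects the kernels of `d_0, …, d_{n-1}` instead, and the two versions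
correspond under reversal of the ordering of each `[n]`, so both vanish. -/
theorem result {A : Type u} [Category.{v} A] [Abelian A] (m : ℕ) [∀ F : (SimplexCategory.Truncated m)ᵒᵖ ⥤ A, (SimplexCategory.Truncated.inclusion m).op.HasLeftKanExtension F] (U : SimplicialObject.Truncated A m) (n : ℕ) (hn : m < n) : AlgebraicTopology.NormalizedMooreComplex.objX ((SimplicialObject.Truncated.sk m).obj U) n = ⊥ := by
  have hpw : (SimplexCategory.Truncated.inclusion m).op.HasPointwiseLeftKanExtension U :=
    Groth.Agent.S6810.result m U
  set L := (SimplexCategory.Truncated.inclusion m).op with hL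
  set W : SimplicialObject A := (SimplicialObject.Truncated.sk m).obj U with hW
  let α : U ⟶ L ⋙ W := L.leftKanExtensionUnit U
  have hKan : W.IsLeftKanExtension α := by
    show (L.leftKanExtension U).IsLeftKanExtension (L.leftKanExtensionUnit U)
    infer_instance
  have hP := Functor.isPointwiseLeftKanExtensionOfIsLeftKanExtension W α
  set P : W.obj (Opposite.op (SimplexCategory.mk n)) ⟶ W.obj (Opposite.op (SimplexCategory.mk n)) :=
    (AlgebraicTopology.DoldKan.PInfty : AlgebraicTopology.AlternatingFaceMapComplex.obj W ⟶ _).f n
    with hPdef
  have hzero : P = 0 := by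
    apply (hP (Opposite.op (SimplexCategory.mk n))).hom_ext
    intro g
    have hg : ¬ Mono g.hom.unop := by
      intro hmono
      have h1 : n ≤ g.left.unop.obj.len := SimplexCategory.len_le_of_mono g.hom.unop
      have h2 : g.left.unop.obj.len ≤ m := g.left.unop.property
      omega
    have hz : W.map g.hom.unop.op ≫ P = 0 :=
      AlgebraicTopology.DoldKan.degeneracy_comp_PInfty W n g.hom.unop hg
    show (α.app g.left ≫ W.map g.hom) ≫ P = (α.app g.left ≫ W.map g.hom) ≫ 0
    rw [Category.assoc, comp_zero]
    have : W.map g.hom = W.map g.hom.unop.op := rfl
    rw [this, hz, comp_zero]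
  have hN : (AlgebraicTopology.NormalizedMooreComplex.objX W n).arrow ≫ P =
      (AlgebraicTopology.NormalizedMooreComplex.objX W n).arrow := by
    have := congrArg (fun φ => φ.f n)
      (AlgebraicTopology.DoldKan.inclusionOfMooreComplexMap_comp_PInfty W)
    exact this
  rw [hzero, comp_zero] at hN
  rw [← Subobject.mk_arrow (AlgebraicTopology.NormalizedMooreComplex.objX W n),
    Subobject.mk_eq_bot_iff_zero]
  exact hN.symm

end Groth.Agent.S6806
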