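import Groth.Statements.S6808
import Mathlib

set_option autoImplicit false
open CategoryTheory Opposite
universe u
open SSet

namespace Groth.Agent.S6808

open Simplicial in
/-- A map of simplicial sets preserving non-degeneracy of simplices and injective on non-degenerate
simplices is injective in every dimension. -/
theorem result {U V : SSet.{u}} (f : U ⟶ V) (ha : ∀ (n : ℕ) (x : U.obj (op (SimplexCategory.mk n))), x ∈ U.nonDegenerate n → f.app (op (SimplexCategory.mk n)) x ∈ V.nonDegenerate n) (hb : ∀ n : ℕ, Set.InjOn (f.app (op (SimplexCategory.mk n))) (U.nonDegenerate n)) (n : ℕ) : Function.Injective (f.app (op (SimplexCategory.mk n))) := by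
  intro x x' hxx'
  obtain ⟨m, s, hs, y, rfl⟩ := U.exists_nonDegenerate x
  obtain ⟨m', s', hs', y', rfl⟩ := U.exists_nonDegenerate x'
  have e1 : f.app (op ⦋n⦌) (U.map s.op y.1) = V.map s.op (f.app (op ⦋m⦌) y.1) :=
    NatTrans.naturality_apply f s.op y.1
  have e2 : f.app (op ⦋n⦌) (U.map s'.op y'.1) = V.map s'.op (f.app (op ⦋m'⦌) y'.1) :=
    NatTrans.naturality_apply f s'.op y'.1
  have hm : m = m' :=
    V.unique_nonDegenerate_dim (f.app (op ⦋n⦌) (U.map s.op y.1)) s ⟨_, ha m y.1 y.2⟩ e1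
      s' ⟨_, ha m' y'.1 y'.2⟩ (hxx'.trans e2)
  subst hm
  have hy : (⟨_, ha m y.1 y.2⟩ : V.nonDegenerate m) = ⟨_, ha m y'.1 y'.2⟩ :=
    V.unique_nonDegenerate_simplex (f.app (op ⦋n⦌) (U.map s.op y.1)) s ⟨_, ha m y.1 y.2⟩ e1
      s' ⟨_, ha m y'.1 y'.2⟩ (hxx'.trans e2)
  have hs : s = s' :=
    V.unique_nonDegenerate_map (f.app (op ⦋n⦌) (U.map s.op y.1)) s ⟨_, ha m y.1 y.2⟩ e1
      s' ⟨_, ha m y'.1 y'.2⟩ (hxx'.trans e2)
  subst hs
  have hyy : y.1 = y'.1 := hb m y.2 y'.2 (congrArg Subtype.val hy)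
  rw [hyy]

end Groth.Agent.S6808
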