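import Groth.Statements.S6811
import Groth.Agent.S6800

set_option autoImplicit false
open CategoryTheory CategoryTheory.Limits
universe v u
open CategoryTheory CategoryTheory.SimplicialObject

namespace Groth.Agent.S6811

open CategoryTheory.Functor

section Abstract

universe v₁ v₂ v₃ v₄ u₁ u₂ u₃ u₄

variable {A : Type u₁} {B : Type u₂} {D : Type u₃} {H : Type u₄}
  [Category.{v₁} A] [Category.{v₂} B] [Category.{v₃} D] [Category.{v₄} H]

/-- If `X` is the right Kan extension of its restriction along `L₁ ⋙ L₂` with `L₂` fully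
faithful, then `L₂ ⋙ X` is the right Kan extension of that restriction along `L₁`. -/
theorem isRKE_restrict (L₁ : A ⥤ B) (L₂ : B ⥤ D) [L₂.Full] [L₂.Faithful] (X : D ⥤ H)
    [(L₁ ⋙ L₂).HasPointwiseRightKanExtension ((L₁ ⋙ L₂) ⋙ X)]
    [X.IsRightKanExtension (𝟙 ((L₁ ⋙ L₂) ⋙ X))] :
    (L₂ ⋙ X).IsRightKanExtension (show L₁ ⋙ (L₂ ⋙ X) ⟶ (L₁ ⋙ L₂) ⋙ X from 𝟙 _) := by
  have hE : (RightExtension.mk X (𝟙 ((L₁ ⋙ L₂) ⋙ X))).IsPointwiseRightKanExtension :=
    isPointwiseRightKanExtensionOfIsRightKanExtension X (𝟙 _)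
  have hE' : (RightExtension.mk (L₂ ⋙ X)
      (show L₁ ⋙ (L₂ ⋙ X) ⟶ (L₁ ⋙ L₂) ⋙ X from 𝟙 _)).IsPointwiseRightKanExtension := by
    intro c'
    exact (Functor.Initial.isLimitWhiskerEquiv (StructuredArrow.post c' L₁ L₂) _).symm
      (hE (L₂.obj c'))
  exact hE'.isRightKanExtension

/-- Transitivity: in the situation above, `X` is the right Kan extension of `L₂ ⋙ X` along
`L₂`. -/
theorem isRKE_trans (L₁ : A ⥤ B) (L₂ : B ⥤ D) [L₂.Full] [L₂.Faithful] (X : D ⥤ H)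
    [(L₁ ⋙ L₂).HasPointwiseRightKanExtension ((L₁ ⋙ L₂) ⋙ X)]
    [X.IsRightKanExtension (𝟙 ((L₁ ⋙ L₂) ⋙ X))] :
    X.IsRightKanExtension (𝟙 (L₂ ⋙ X)) := by
  have C1 := isRKE_restrict L₁ L₂ X
  let φ : ∀ E : RightExtension L₂ (L₂ ⋙ X), E.left ⟶ X := fun E =>
    X.liftOfIsRightKanExtension (𝟙 ((L₁ ⋙ L₂) ⋙ X)) E.left
      (show (L₁ ⋙ L₂) ⋙ E.left ⟶ (L₁ ⋙ L₂) ⋙ X from whiskerLeft L₁ E.hom)
  have hφ : ∀ (E : RightExtension L₂ (L₂ ⋙ X)) (a : A),
      (φ E).app (L₂.obj (L₁.obj a)) = E.hom.app (L₁.obj a) := by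
    intro E a
    have h1 := X.liftOfIsRightKanExtension_fac_app (𝟙 ((L₁ ⋙ L₂) ⋙ X)) E.left
      (show (L₁ ⋙ L₂) ⋙ E.left ⟶ (L₁ ⋙ L₂) ⋙ X from whiskerLeft L₁ E.hom) a
    simpa using h1
  have hw : ∀ E : RightExtension L₂ (L₂ ⋙ X), whiskerLeft L₂ (φ E) = E.hom := by
    intro E
    apply (L₂ ⋙ X).hom_ext_of_isRightKanExtension
      (show L₁ ⋙ (L₂ ⋙ X) ⟶ (L₁ ⋙ L₂) ⋙ X from 𝟙 _)
    ext a
    simpa using hφ E a
  refine ⟨⟨IsTerminal.ofUniqueHom (fun E => CostructuredArrow.homMk (φ E) (by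
    show whiskerLeft L₂ (φ E) ≫ 𝟙 _ = E.hom
    rw [Category.comp_id]
    exact hw E)) (fun E m => ?_)⟩⟩
  apply CostructuredArrow.hom_ext
  apply X.hom_ext_of_isRightKanExtension (𝟙 ((L₁ ⋙ L₂) ⋙ X))
  ext a
  have h2 : m.left.app (L₂.obj (L₁.obj a)) = E.hom.app (L₁.obj a) := by
    have h3 := congr_app (CostructuredArrow.w m) (L₁.obj a)
    exact (Category.comp_id _).symm.trans h3
  show m.left.app (L₂.obj (L₁.obj a)) ≫ 𝟙 _ = (φ E).app (L₂.obj (L₁.obj a)) ≫ 𝟙 _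
  rw [h2, hφ E a]
  rfl

end Abstract

/-- In a category with finite limits, an `n`-coskeletal simplicial object is `m`-coskeletal for every `m
≥ n`. -/
theorem result {C : Type u} [Category.{v} C] [HasFiniteLimits C] (U : SimplicialObject C) {n m : ℕ} (h : n ≤ m) [U.IsCoskeletal n] : U.IsCoskeletal m := by
  have hpw : ((SimplexCategory.Truncated.incl n m h).op ⋙
      (SimplexCategory.Truncated.inclusion m).op).HasPointwiseRightKanExtension
      (((SimplexCategory.Truncated.incl n m h).op ⋙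
        (SimplexCategory.Truncated.inclusion m).op) ⋙ U) :=
    Groth.Agent.S6800.result n _
  have hU : U.IsRightKanExtension (𝟙 (((SimplexCategory.Truncated.incl n m h).op ⋙
      (SimplexCategory.Truncated.inclusion m).op) ⋙ U)) :=
    (inferInstance : U.IsRightKanExtension
      (𝟙 ((SimplexCategory.Truncated.inclusion n).op ⋙ U)))
  exact ⟨isRKE_trans (SimplexCategory.Truncated.incl n m h).op
    (SimplexCategory.Truncated.inclusion m).op U⟩

end Groth.Agent.S6811
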