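import Groth.Statements.S6812
import Groth.Agent.S6805
import Groth.Agent.S6808

set_option autoImplicit false
open CategoryTheory
universe u
open SSet Simplicial Opposite

namespace Groth.Agent.S6812

/-- For a simplicial set `U`, the counit `i_{n!} sk_n U ⟶ U` of the skeleton adjunction is a
monomorphism whose image is the subcomplex of `U` generated by its simplices of dimension `≤ n`. -/
theorem result (U : SSet.{u}) (n : ℕ) : Mono ((SSet.skAdj n).counit.app U) ∧ SSet.Subcomplex.range ((SSet.skAdj n).counit.app U) = U.skeleton (n + 1) := by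
  set A : SSet.{u} := (SSet.Truncated.sk n).obj ((SSet.truncation n).obj U) with hA
  set ε : A ⟶ U := (SSet.skAdj n).counit.app U with hε
  haveI hdim : A.HasDimensionLT (n + 1) := Groth.Agent.S6805.result n ((SSet.truncation n).obj U)
  have htri := (SSet.skAdj n).right_triangle_components U
  haveI hiso : IsIso ((SSet.truncation n).map ε) := IsIso.of_isIso_fac_left htri
  have hbij : ∀ m : ℕ, m ≤ n → Function.Bijective (ε.app (op ⦋m⦌)) := by
    intro m hm
    have h2 : IsIso (((SSet.truncation n).map ε).app (op ⟨⦋m⦌, hm⟩)) := inferInstance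
    exact (isIso_iff_bijective _).1 h2
  have ha : ∀ (m : ℕ) (x : A.obj (op ⦋m⦌)), x ∈ A.nonDegenerate m →
      ε.app (op ⦋m⦌) x ∈ U.nonDegenerate m := by
    intro m x hx
    have hm : m < n + 1 := A.dim_lt_of_nonDegenerate ⟨x, hx⟩ (n + 1)
    rw [SSet.mem_nonDegenerate_iff_notMem_degenerate] at hx ⊢
    intro hdeg
    obtain ⟨k, hk, σ, y, hy⟩ := hdeg
    obtain ⟨y', rfl⟩ := (hbij k (by omega)).2 y
    have e1 : ε.app (op ⦋m⦌) (A.map σ.op y') = U.map σ.op (ε.app (op ⦋k⦌) y') :=
      NatTrans.naturality_apply ε σ.op y'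
    have e2 : A.map σ.op y' = x := (hbij m (by omega)).1 (e1.trans hy)
    exact hx ⟨k, hk, σ, y', e2⟩
  have hb : ∀ m : ℕ, Set.InjOn (ε.app (op ⦋m⦌)) (A.nonDegenerate m) := by
    intro m x hx x' _ hxx'
    have hm : m < n + 1 := A.dim_lt_of_nonDegenerate ⟨x, hx⟩ (n + 1)
    exact (hbij m (by omega)).1 hxx'
  have hinj : ∀ m : ℕ, Function.Injective (ε.app (op ⦋m⦌)) := Groth.Agent.S6808.result ε ha hb
  have hmono : Mono ε := by
    haveI : ∀ c : SimplexCategoryᵒᵖ, Mono (ε.app c) := by
      rintro ⟨c⟩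
      induction c using SimplexCategory.rec with | _ m =>
      exact (mono_iff_injective _).2 (hinj m)
    exact NatTrans.mono_of_mono_app ε
  refine ⟨hmono, le_antisymm ?_ ?_⟩
  · rw [SSet.Subcomplex.le_iff_contains_nonDegenerate]
    intro m x hx
    have hx' : x.1 ∈ Set.range (ε.app (op ⦋m⦌)) := hx
    obtain ⟨a, ha'⟩ := hx'
    by_cases hm : m < n + 1
    · exact U.mem_skeleton x.1 hm
    · exfalso
      have hdeg : a ∈ A.degenerate m := by
        rw [A.degenerate_eq_univ_of_hasDimensionLT (n + 1) m (by omega)]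
        exact Set.mem_univ _
      have h3 := SSet.degenerate_app_apply hdeg ε
      rw [ha'] at h3
      exact x.2 h3
  · show (⨆ (i : Fin (n + 1)) (x : U.nonDegenerate i), SSet.Subcomplex.ofSimplex x.1) ≤ _
    refine iSup_le fun i => iSup_le fun x => ?_
    rw [SSet.Subcomplex.ofSimplex_le_iff]
    obtain ⟨a, ha'⟩ := (hbij i.1 (by omega)).2 x.1
    exact ⟨a, ha'⟩

end Groth.Agent.S6812
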