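import Groth.Statements.S6813
import Mathlib
import Groth.Agent.S6800

set_option autoImplicit false
open CategoryTheory CategoryTheory.Limits
universe v u
open CategoryTheory CategoryTheory.SimplicialObject

namespace Groth.Agent.S6813

/-- For `k ≥ 1` the forgetful functor from the over category `C/X` to `C` (with `C` having finite
limits) commutes with `cosk_k`; stated as: a `k`-coskeletal simplicial object of `C/X` has
`k`-coskeletal underlying simplicial object in `C`. -/
theorem result {C : Type u} [Category.{v} C] [HasFiniteLimits C] (X : C) (k : ℕ) (hk : 1 ≤ k) (V : SimplicialObject (Over X)) [V.IsCoskeletal k] : SimplicialObject.IsCoskeletal (V ⋙ Over.forget X) k := by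
  have hne : NeZero k := ⟨by omega⟩
  have hpw : ∀ F : (SimplexCategory.Truncated k)ᵒᵖ ⥤ Over X,
      (SimplexCategory.Truncated.inclusion k).op.HasPointwiseRightKanExtension F :=
    fun F => Groth.Agent.S6800.result k F
  have hV : V.IsRightKanExtension (𝟙 ((SimplexCategory.Truncated.inclusion k).op ⋙ V)) :=
    SimplicialObject.IsCoskeletal.isRightKanExtension
  have hpres : ∀ Y, (Over.forget X).PreservesPointwiseRightKanExtensionAt
      ((SimplexCategory.Truncated.inclusion k).op ⋙ V)
      (SimplexCategory.Truncated.inclusion k).op Y := by
    intro Y
    have : IsConnected (StructuredArrow Y (SimplexCategory.Truncated.inclusion k).op) :=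
      Functor.Final.out Y
    infer_instance
  have key := Functor.PreservesRightKanExtension.preserves (G := Over.forget X) V
    (𝟙 ((SimplexCategory.Truncated.inclusion k).op ⋙ V))
  have e : (Functor.associator (SimplexCategory.Truncated.inclusion k).op V (Over.forget X)).inv ≫
      Functor.whiskerRight (𝟙 ((SimplexCategory.Truncated.inclusion k).op ⋙ V)) (Over.forget X) =
      𝟙 ((SimplexCategory.Truncated.inclusion k).op ⋙ (V ⋙ Over.forget X)) := by
    ext
    simp
  constructor
  rw [e] at key
  exact key

end Groth.Agent.S6813
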