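import Groth.Statements.S6815
import Mathlib

set_option autoImplicit false
open CategoryTheory CategoryTheory.Limits
universe w v u
open CategoryTheory CategoryTheory.SimplicialObject

namespace Groth.Agent.S6815

open Simplicial Opposite

/-- Evaluating the product cone of simplicial objects gives a limit cone. -/
noncomputable def evalIsLimit {C : Type u} [Category.{v} C] {T : Type w}
    [HasLimitsOfShape (Discrete T) C] (Y : T → SimplicialObject C) (k : SimplexCategoryᵒᵖ) :
    IsLimit (((evaluation SimplexCategoryᵒᵖ C).obj k).mapCone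
      (limit.cone (Discrete.functor Y))) :=
  isLimitOfPreserves ((evaluation SimplexCategoryᵒᵖ C).obj k) (limit.isLimit (Discrete.functor Y))

theorem homotopy_of_pi {C : Type u} [Category.{v} C] {T : Type w}
    [HasLimitsOfShape (Discrete T) C] {P : SimplicialObject C} (Y : T → SimplicialObject C)
    (f g : P ⟶ ∏ᶜ Y)
    (K : ∀ t, SimplicialObject.Homotopy (f ≫ Pi.π Y t) (g ≫ Pi.π Y t)) :
    Nonempty (SimplicialObject.Homotopy f g) := by
  have hQ := fun k => evalIsLimit Y k
  let mkCone : ∀ (k : SimplexCategoryᵒᵖ) (W : C) (_ : ∀ t, W ⟶ (Y t).obj k),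
      Cone (Discrete.functor Y ⋙ (evaluation SimplexCategoryᵒᵖ C).obj k) :=
    fun k W φ => { pt := W, π := Discrete.natTrans (fun t => φ t.as) }
  let h : ∀ {n : ℕ} (_ : Fin (n + 1)), (P _⦋n⦌ ⟶ (∏ᶜ Y) _⦋n + 1⦌) :=
    fun {n} i => (hQ (op ⦋n + 1⦌)).lift (mkCone _ _ (fun t => (K t).h i))
  have hfac : ∀ {n : ℕ} (i : Fin (n + 1)) (t : T),
      h i ≫ (Pi.π Y t).app (op ⦋n + 1⦌) = (K t).h i :=
    fun i t => (hQ _).fac _ ⟨t⟩
  have hfac_assoc : ∀ {n : ℕ} (i : Fin (n + 1)) (t : T) {Z : C} (q : (Y t) _⦋n + 1⦌ ⟶ Z),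
      h i ≫ (Pi.π Y t).app (op ⦋n + 1⦌) ≫ q = (K t).h i ≫ q := by
    intro n i t Z q
    rw [← Category.assoc, hfac]
  have hext : ∀ (k : SimplexCategoryᵒᵖ) {W : C} (a b : W ⟶ (∏ᶜ Y).obj k),
      (∀ t, a ≫ (Pi.π Y t).app k = b ≫ (Pi.π Y t).app k) → a = b :=
    fun k W a b hab => (hQ k).hom_ext (fun ⟨t⟩ => hab t)
  refine ⟨{
    h := fun {n} i => h i
    h_zero_comp_δ_zero := fun n => hext _ _ _ (fun t => by
      rw [Category.assoc, SimplicialObject.δ_naturality, hfac_assoc,
        (K t).h_zero_comp_δ_zero, NatTrans.comp_app])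
    h_last_comp_δ_last := fun n => hext _ _ _ (fun t => by
      rw [Category.assoc, SimplicialObject.δ_naturality, hfac_assoc,
        (K t).h_last_comp_δ_last, NatTrans.comp_app])
    h_succ_comp_δ_castSucc_of_lt := fun i j hij => hext _ _ _ (fun t => by
      rw [Category.assoc, SimplicialObject.δ_naturality, hfac_assoc,
        (K t).h_succ_comp_δ_castSucc_of_lt i j hij, Category.assoc, hfac])
    h_succ_comp_δ_castSucc_succ := fun j => hext _ _ _ (fun t => by
      rw [Category.assoc, Category.assoc, SimplicialObject.δ_naturality, hfac_assoc, hfac_assoc,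
        (K t).h_succ_comp_δ_castSucc_succ j])
    h_castSucc_comp_δ_succ_of_lt := fun i j hji => hext _ _ _ (fun t => by
      rw [Category.assoc, SimplicialObject.δ_naturality, hfac_assoc,
        (K t).h_castSucc_comp_δ_succ_of_lt i j hji, Category.assoc, hfac])
    h_comp_σ_castSucc_of_le := fun i j hij => hext _ _ _ (fun t => by
      rw [Category.assoc, SimplicialObject.σ_naturality, hfac_assoc,
        (K t).h_comp_σ_castSucc_of_le i j hij, Category.assoc, hfac])
    h_comp_σ_succ_of_lt := fun i j hji => hext _ _ _ (fun t => by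
      rw [Category.assoc, SimplicialObject.σ_naturality, hfac_assoc,
        (K t).h_comp_σ_succ_of_lt i j hji, Category.assoc, hfac]) }⟩

/-- Homotopies between the factors of two product morphisms of simplicial objects assemble to a homotopy
between the products. -/
theorem result {C : Type u} [Category.{v} C] {T : Type w} [HasLimitsOfShape (Discrete T) C] {X Y : T → SimplicialObject C} (a b : ∀ t, X t ⟶ Y t) (h : ∀ t, Nonempty (SimplicialObject.Homotopy (a t) (b t))) : Nonempty (SimplicialObject.Homotopy (Limits.Pi.map a) (Limits.Pi.map b)) := by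
  apply homotopy_of_pi Y (Limits.Pi.map a) (Limits.Pi.map b)
  intro t
  rw [Pi.map_π, Pi.map_π]
  exact (h t).some.precomp (Pi.π X t)

end Groth.Agent.S6815
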