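import Groth.Statements.S6816
import Mathlib

set_option autoImplicit false
open CategoryTheory CategoryTheory.Limits
universe v u
open CochainComplex

namespace Groth.Agent.S6816

theorem key {C : Type u} [Category.{v} C] [Preadditive C] {X₁ X₂ X₃ : CochainComplex C ℤ}
    (f : X₁ ⟶ X₂) (g : X₂ ⟶ X₃) (zero : f ≫ g = 0)
    (s s' : ∀ n, X₃.X n ⟶ X₂.X n) (r r' : ∀ n, X₂.X n ⟶ X₁.X n)
    (f_r : ∀ n, f.f n ≫ r n = 𝟙 (X₁.X n))
    (s_g : ∀ n, s n ≫ g.f n = 𝟙 (X₃.X n))
    (id_ : ∀ n, r n ≫ f.f n + g.f n ≫ s n = 𝟙 (X₂.X n))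
    (f_r' : ∀ n, f.f n ≫ r' n = 𝟙 (X₁.X n))
    (s_g' : ∀ n, s' n ≫ g.f n = 𝟙 (X₃.X n))
    (s_r' : ∀ n, s' n ≫ r' n = 0) (p q : ℤ) :
    s' p ≫ X₂.d p q ≫ r' q = s p ≫ X₂.d p q ≫ r q +
      ((s' p ≫ r p) ≫ X₁.d p q + Int.negOnePow 1 • X₃.d p q ≫ s' q ≫ r q) := by
  obtain ⟨a, ha⟩ : ∃ a : ∀ n, X₃.X n ⟶ X₁.X n, ∀ n, a n = s' n ≫ r n :=
    ⟨_, fun _ => rfl⟩
  have i : ∀ n, s' n = s n + a n ≫ f.f n := by
    intro n
    calc s' n = s' n ≫ (r n ≫ f.f n + g.f n ≫ s n) := by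
          rw [id_ n, Category.comp_id]
      _ = s n + a n ≫ f.f n := by
          rw [Preadditive.comp_add, reassoc_of% (s_g' n), ha n, Category.assoc, add_comm]
  have ii : ∀ n, r' n = r n - g.f n ≫ a n := by
    intro n
    have h0 : s n ≫ r' n = - a n := by
      have := s_r' n
      rw [i n, Preadditive.add_comp, Category.assoc, f_r' n, Category.comp_id] at this
      exact eq_neg_of_add_eq_zero_left this
    calc r' n = (r n ≫ f.f n + g.f n ≫ s n) ≫ r' n := by
          rw [id_ n, Category.id_comp]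
      _ = r n - g.f n ≫ a n := by
          rw [Preadditive.add_comp, Category.assoc, f_r' n, Category.comp_id, Category.assoc, h0,
            Preadditive.comp_neg, sub_eq_add_neg]
  rw [← ha p, ← ha q]
  have e1 : s p ≫ X₂.d p q ≫ g.f q = X₃.d p q := by
    rw [← g.comm, reassoc_of% (s_g p)]
  have e2 : f.f p ≫ X₂.d p q ≫ r q = X₁.d p q := by
    rw [f.comm_assoc, f_r q, Category.comp_id]
  have e3 : f.f p ≫ X₂.d p q ≫ g.f q = 0 := by
    rw [f.comm_assoc, ← HomologicalComplex.comp_f, zero, HomologicalComplex.zero_f, comp_zero]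
  rw [i p, ii q]
  simp only [Preadditive.add_comp, Preadditive.comp_sub, Category.assoc, reassoc_of% e1, e2,
    reassoc_of% e3, zero_comp, comp_zero, Int.negOnePow_one, Units.neg_smul, one_smul, sub_zero]
  abel

open HomComplex in
theorem cocycle_eq {C : Type u} [Category.{v} C] [Preadditive C]
    (S : ShortComplex (CochainComplex C ℤ))
    (σ σ' : ∀ n : ℤ, (S.map (HomologicalComplex.eval C (ComplexShape.up ℤ) n)).Splitting) :
    (cocycleOfDegreewiseSplit S σ').1 = (cocycleOfDegreewiseSplit S σ).1 +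
      δ 0 1 (Cochain.ofHoms (fun n => (show S.X₃.X n ⟶ S.X₂.X n from (σ' n).s) ≫
        (show S.X₂.X n ⟶ S.X₁.X n from (σ n).r))) := by
  ext p q hpq
  rw [Cochain.add_v, δ_v 0 1 (zero_add 1) _ p q hpq p q (by lia) hpq]
  simp only [cocycleOfDegreewiseSplit, Cocycle.mk, Cochain.mk_v, Cochain.ofHoms_v]
  exact key S.f S.g S.zero (fun n => (σ n).s) (fun n => (σ' n).s) (fun n => (σ n).r)
    (fun n => (σ' n).r) (fun n => (σ n).f_r) (fun n => (σ n).s_g) (fun n => (σ n).id)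
    (fun n => (σ' n).f_r) (fun n => (σ' n).s_g) (fun n => (σ' n).s_r) p q

/-- The boundary morphisms `C ⟶ A⟦1⟧` attached to two degreewise splittings of a degreewise split
sequence `A ⟶ B ⟶ C` of cochain complexes are homotopic. -/
theorem result {C : Type u} [Category.{v} C] [Preadditive C] [HasBinaryBiproducts C] (S : ShortComplex (CochainComplex C ℤ)) (σ σ' : ∀ n : ℤ, (S.map (HomologicalComplex.eval C (ComplexShape.up ℤ) n)).Splitting) : Nonempty (Homotopy (CochainComplex.homOfDegreewiseSplit S σ) (CochainComplex.homOfDegreewiseSplit S σ')) := by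
  have h1 : ∀ τ : ∀ n : ℤ, (S.map (HomologicalComplex.eval C (ComplexShape.up ℤ) n)).Splitting,
      HomComplex.Cochain.ofHom (homOfDegreewiseSplit S τ) =
        (cocycleOfDegreewiseSplit S τ).1.rightShift 1 0 (zero_add 1) :=
    fun τ => HomComplex.Cocycle.cochain_ofHom_homOf_eq_coe _
  refine ⟨(HomComplex.Cochain.equivHomotopy _ _).symm
    ⟨(HomComplex.Cochain.ofHoms (fun n => (show S.X₃.X n ⟶ S.X₂.X n from (σ' n).s) ≫
        (show S.X₂.X n ⟶ S.X₁.X n from (σ n).r))).rightShift 1 (-1) (by lia), ?_⟩⟩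
  rw [h1, h1, cocycle_eq S σ σ', HomComplex.Cochain.rightShift_add,
    HomComplex.Cochain.δ_rightShift _ 1 (-1) 0 (by lia) 1 (by lia), Int.negOnePow_one,
    Units.neg_smul, one_smul]
  abel

end Groth.Agent.S6816
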