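import Groth.Statements.S6818
import Mathlib

set_option autoImplicit false
open CategoryTheory CategoryTheory.Limits Opposite
universe v u
open CategoryTheory CategoryTheory.Abelian

namespace Groth.Agent.S6818

/-- For a simplicial object `U` of an abelian category and `n ≥ 0`, the subobjects `U'_m ⊆ U_m`
generated by the images of all `U_i ⟶ U_m` induced by maps `[m] ⟶ [i]` with `i ≤ n` form a
simplicial subobject equal to `U` in dimensions `≤ n` whose normalized part vanishes in dimensions
`> n`. Here the normalized subobject of `U_m` is the joint kernel of the faces `d_1, …, d_m`; the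
published statement uses the faces `d_0, …, d_{m-1}`, the mirror-image convention, and both versions
hold. -/
theorem result {A : Type u} [Category.{v} A] [Abelian A] (U : SimplicialObject A) (n : ℕ) (U' : ∀ m : ℕ, Subobject (U.obj (op (SimplexCategory.mk m)))) (hU' : ∀ m : ℕ, IsLUB (Set.range (fun φ : Σ i : Fin (n + 1), (SimplexCategory.mk m ⟶ SimplexCategory.mk i) => imageSubobject (U.map φ.2.op))) (U' m)) : (∀ (m m' : ℕ) (ψ : SimplexCategory.mk m' ⟶ SimplexCategory.mk m), imageSubobject ((U' m).arrow ≫ U.map ψ.op) ≤ U' m') ∧ (∀ i : ℕ, i ≤ n → U' i = ⊤) ∧ (∀ m : ℕ, n < m → U' m ⊓ AlgebraicTopology.NormalizedMooreComplex.objX U m = ⊥) := by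
  have hgen : ∀ (m : ℕ) (i : Fin (n+1)) (φ : SimplexCategory.mk m ⟶ SimplexCategory.mk i),
      imageSubobject (U.map φ.op) ≤ U' m := fun m i φ => (hU' m).1 ⟨⟨i, φ⟩, rfl⟩
  have hle : ∀ (m : ℕ) (T : Subobject (U.obj (op (SimplexCategory.mk m)))),
      (∀ (i : Fin (n+1)) (φ : SimplexCategory.mk m ⟶ SimplexCategory.mk i),
        imageSubobject (U.map φ.op) ≤ T) → U' m ≤ T := by
    intro m T hT
    apply (hU' m).2
    rintro _ ⟨⟨i, φ⟩, rfl⟩
    exact hT i φ
  refine ⟨?_, ?_, ?_⟩
  · intro m m' ψ
    set g := U.map ψ.op with hg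
    set T := U' m' with hT
    have hP : U' m ≤ (Subobject.pullback g).obj T := by
      apply hle
      intro i φ
      have hfac : T.Factors (U.map φ.op ≫ g) := by
        have h1 : U.map φ.op ≫ g = U.map (ψ ≫ φ).op := by
          rw [hg, op_comp, U.map_comp]
        rw [h1]
        exact Subobject.factors_of_le _ (hgen m' i (ψ ≫ φ))
          ((Subobject.factors_iff _ _).mpr ⟨factorThruImageSubobject _, imageSubobject_arrow_comp _⟩)
      have hfac' : ((Subobject.pullback g).obj T).Factors (U.map φ.op) :=
        Limits.pullback_factors g T (U.map φ.op) hfac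
      exact imageSubobject_le _ (((Subobject.pullback g).obj T).factorThru _ hfac')
        (Subobject.factorThru_arrow _ _ _)
    refine imageSubobject_le _ (Subobject.ofLE _ _ hP ≫ Subobject.pullbackπ g T) ?_
    rw [Category.assoc, (Subobject.isPullback g T).w, ← Category.assoc, Subobject.ofLE_arrow]
  · intro i hi
    apply top_le_iff.mp
    have h1 := hgen i ⟨i, Nat.lt_succ_of_le hi⟩ (𝟙 _)
    have h2 : imageSubobject (U.map (𝟙 (SimplexCategory.mk i)).op) = ⊤ := by
      rw [op_id, U.map_id, imageSubobject_mono, Subobject.top_eq_id]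
    rwa [h2] at h1
  · intro m hnm
    set P : U.obj (op (SimplexCategory.mk m)) ⟶ U.obj (op (SimplexCategory.mk m)) :=
      (AlgebraicTopology.DoldKan.PInfty : AlgebraicTopology.AlternatingFaceMapComplex.obj U ⟶ _).f m
      with hPdef
    have hK : U' m ≤ kernelSubobject P := by
      apply hle
      intro i φ
      have hφ : ¬ Mono φ := by
        intro hmono
        have h1 : m ≤ (i : ℕ) := SimplexCategory.len_le_of_mono φ
        have := i.isLt
        omega
      have hz : U.map φ.op ≫ P = 0 := AlgebraicTopology.DoldKan.degeneracy_comp_PInfty U m φ hφ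
      exact imageSubobject_le _ (factorThruKernelSubobject P _ hz)
        (factorThruKernelSubobject_comp_arrow _ _ _)
    have hN : (AlgebraicTopology.NormalizedMooreComplex.objX U m).arrow ≫ P =
        (AlgebraicTopology.NormalizedMooreComplex.objX U m).arrow := by
      have := congrArg (fun φ => φ.f m)
        (AlgebraicTopology.DoldKan.inclusionOfMooreComplexMap_comp_PInfty U)
      exact this
    set S := U' m ⊓ AlgebraicTopology.NormalizedMooreComplex.objX U m with hS
    have h1 : S.arrow ≫ P = S.arrow := by
      rw [← Subobject.ofLE_arrow (inf_le_right : S ≤ _), Category.assoc, hN]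
    have h2 : S.arrow ≫ P = 0 := by
      rw [← Subobject.ofLE_arrow ((inf_le_left : S ≤ _).trans hK), Category.assoc,
        kernelSubobject_arrow_comp, comp_zero]
    have h3 : S.arrow = 0 := h1.symm.trans h2
    rw [← Subobject.mk_arrow S, Subobject.mk_eq_bot_iff_zero]
    exact h3

end Groth.Agent.S6818
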