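import Groth.Statements.S6819
import Mathlib
import Groth.Agent.S6810
import Groth.Agent.S6806

set_option autoImplicit false
open CategoryTheory CategoryTheory.Limits Opposite
universe v u
open CategoryTheory CategoryTheory.Abelian

namespace Groth.Agent.S6819


theorem mono_counit_app {A : Type u} [Category.{v} A] [Abelian A] (U : SimplicialObject A) (n : ℕ)
    [∀ F : (SimplexCategory.Truncated n)ᵒᵖ ⥤ A,
      (SimplexCategory.Truncated.inclusion n).op.HasLeftKanExtension F] (m : ℕ) :
    Mono (((SimplicialObject.skAdj n).counit.app U).app (op (SimplexCategory.mk m))) := by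
  have hpw : ∀ F : (SimplexCategory.Truncated n)ᵒᵖ ⥤ A,
      (SimplexCategory.Truncated.inclusion n).op.HasPointwiseLeftKanExtension F :=
    fun F => Groth.Agent.S6810.result n F
  have hunit : IsIso ((SimplicialObject.skAdj (C := A) n).unit) :=
    SimplicialObject.Truncated.sk_coreflective n
  have htri := (SimplicialObject.skAdj (C := A) n).right_triangle_components U
  have h1 : IsIso ((SimplicialObject.skAdj (C := A) n).unit.app
      ((SimplicialObject.truncation n).obj U)) :=
    NatIso.isIso_app_of_isIso (SimplicialObject.skAdj (C := A) n).unit _
  have hiso : IsIso ((SimplicialObject.truncation n).map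
      ((SimplicialObject.skAdj n).counit.app U)) := by
    have h2 : IsIso ((SimplicialObject.skAdj (C := A) n).unit.app
        ((SimplicialObject.truncation n).obj U) ≫ (SimplicialObject.truncation n).map
          ((SimplicialObject.skAdj n).counit.app U)) := by
      rw [htri]; exact IsIso.id _
    exact IsIso.of_isIso_comp_left ((SimplicialObject.skAdj (C := A) n).unit.app
        ((SimplicialObject.truncation n).obj U)) _
  have hisok : ∀ k, k ≤ n → IsIso (((SimplicialObject.skAdj n).counit.app U).app
      (op (SimplexCategory.mk k))) := by
    intro k hk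
    have := NatIso.isIso_app_of_isIso ((SimplicialObject.truncation n).map
      ((SimplicialObject.skAdj n).counit.app U)) (op ⟨SimplexCategory.mk k, hk⟩)
    exact this
  have hmonoN : ∀ k, Mono ((AlgebraicTopology.NormalizedMooreComplex.map
      ((SimplicialObject.skAdj n).counit.app U)).f k) := by
    intro k
    by_cases hk : k ≤ n
    · have := hisok k hk
      have hfac : (AlgebraicTopology.NormalizedMooreComplex.map
          ((SimplicialObject.skAdj n).counit.app U)).f k ≫
          (AlgebraicTopology.NormalizedMooreComplex.objX U k).arrow =
          (AlgebraicTopology.NormalizedMooreComplex.objX _ k).arrow ≫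
            ((SimplicialObject.skAdj n).counit.app U).app (op (SimplexCategory.mk k)) := by
        simp [AlgebraicTopology.NormalizedMooreComplex.map]
        exact Subobject.factorThru_arrow _ _ _
      have hm : Mono ((AlgebraicTopology.NormalizedMooreComplex.map
          ((SimplicialObject.skAdj n).counit.app U)).f k ≫
          (AlgebraicTopology.NormalizedMooreComplex.objX U k).arrow) := by
        have hm2 : Mono (((SimplicialObject.skAdj n).counit.app U).app
          (op (SimplexCategory.mk k))) := inferInstance
        rw [hfac]
        have hm3 := Subobject.arrow_mono (AlgebraicTopology.NormalizedMooreComplex.objX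
          ((SimplicialObject.Truncated.sk n).obj ((SimplicialObject.truncation n).obj U)) k)
        exact mono_comp' hm3 hm2
      exact mono_of_mono _ (AlgebraicTopology.NormalizedMooreComplex.objX U k).arrow
    · have hbot : AlgebraicTopology.NormalizedMooreComplex.objX
          ((SimplicialObject.Truncated.sk n).obj ((SimplicialObject.truncation n).obj U)) k = ⊥ :=
        Groth.Agent.S6806.result n ((SimplicialObject.truncation n).obj U) k (not_le.mp hk)
      have hz : IsZero ((AlgebraicTopology.NormalizedMooreComplex.obj
          ((SimplicialObject.Truncated.sk n).obj ((SimplicialObject.truncation n).obj U))).X k) := by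
        have hz0 : IsZero (Subobject.underlying.obj (AlgebraicTopology.NormalizedMooreComplex.objX
          ((SimplicialObject.Truncated.sk n).obj ((SimplicialObject.truncation n).obj U)) k)) := by
          rw [hbot]
          exact IsZero.of_iso (isZero_zero A) Subobject.botCoeIsoZero
        exact hz0
      exact hz.mono _
  have hmonoNε : Mono ((AlgebraicTopology.normalizedMooreComplex A).map
      ((SimplicialObject.skAdj n).counit.app U)) :=
    HomologicalComplex.mono_of_mono_f _ hmonoN
  have hfaith : (AlgebraicTopology.normalizedMooreComplex A).Faithful :=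
    inferInstanceAs ((CategoryTheory.Abelian.DoldKan.equivalence (A := A)).functor.Faithful)
  have hmonoε : Mono ((SimplicialObject.skAdj n).counit.app U) :=
    (AlgebraicTopology.normalizedMooreComplex A).mono_of_mono_map hmonoNε
  exact (NatTrans.mono_iff_mono_app _).1 hmonoε _


/-- For a simplicial object `U` of an abelian category, the counit `i_{n!} sk_n U ⟶ U` of the skeleton
adjunction is a monomorphism in each degree, with image the subobject generated by the images of the
maps `U_i ⟶ U_m` induced by `[m] ⟶ [i]`, `i ≤ n`. -/
theorem result {A : Type u} [Category.{v} A] [Abelian A] (U : SimplicialObject A) (n : ℕ) (U' : ∀ m : ℕ, Subobject (U.obj (op (SimplexCategory.mk m)))) (hU' : ∀ m : ℕ, IsLUB (Set.range (fun φ : Σ i : Fin (n + 1), (SimplexCategory.mk m ⟶ SimplexCategory.mk i) => imageSubobject (U.map φ.2.op))) (U' m)) [∀ F : (SimplexCategory.Truncated n)ᵒᵖ ⥤ A, (SimplexCategory.Truncated.inclusion n).op.HasLeftKanExtension F] (m : ℕ) : Mono (((SimplicialObject.skAdj n).counit.app U).app (op (SimplexCategory.mk m))) ∧ imageSubobject (((SimplicialObject.skAdj n).counit.app U).app (op (SimplexCategory.mk m)))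 = U' m := by
  have hpw : ∀ F : (SimplexCategory.Truncated n)ᵒᵖ ⥤ A,
      (SimplexCategory.Truncated.inclusion n).op.HasPointwiseLeftKanExtension F :=
    fun F => Groth.Agent.S6810.result n F
  set L := (SimplexCategory.Truncated.inclusion n).op with hL
  set T : (SimplexCategory.Truncated n)ᵒᵖ ⥤ A := L ⋙ U with hT
  set W : SimplicialObject A := (SimplicialObject.Truncated.sk n).obj T with hW
  set ε : W ⟶ U := (SimplicialObject.skAdj n).counit.app U with hε
  let α : T ⟶ L ⋙ W := L.lanUnit.app T
  have hKan : W.IsLeftKanExtension α := by
    show (L.leftKanExtension T).IsLeftKanExtension (L.leftKanExtensionUnit T)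
    infer_instance
  have hP := Functor.isPointwiseLeftKanExtensionOfIsLeftKanExtension W α
  have hαε : ∀ x : (SimplexCategory.Truncated n)ᵒᵖ, α.app x ≫ ε.app (L.obj x) = 𝟙 _ :=
    fun x => L.lanUnit_app_app_lanAdjunction_counit_app_app U x
  -- the cocone maps composed with the counit
  have hι : ∀ (Y : SimplexCategoryᵒᵖ) (g : CostructuredArrow L Y),
      ((Functor.LeftExtension.mk W α).coconeAt Y).ι.app g ≫ ε.app Y = U.map g.hom := by
    intro Y g
    show (α.app g.left ≫ W.map g.hom) ≫ ε.app Y = U.map g.hom
    rw [Category.assoc, ε.naturality, ← Category.assoc, hαε, Category.id_comp]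
  have hgen : ∀ (i : Fin (n+1)) (φ : SimplexCategory.mk m ⟶ SimplexCategory.mk i),
      imageSubobject (U.map φ.op) ≤ U' m := fun i φ => (hU' m).1 ⟨⟨i, φ⟩, rfl⟩
  refine ⟨?_, ?_⟩
  · exact mono_counit_app U n m
  · -- the image
    apply le_antisymm
    · -- construct a factorization through `U' m`
      set Y : SimplexCategoryᵒᵖ := op (SimplexCategory.mk m) with hY
      have hfac : ∀ g : CostructuredArrow L Y, (U' m).Factors (U.map g.hom) := by
        intro g
        have hi : g.left.unop.obj.len < n + 1 := Nat.lt_succ_of_le g.left.unop.property
        have := hgen ⟨g.left.unop.obj.len, hi⟩ g.hom.unop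
        exact Subobject.factors_of_le _ this
          ((Subobject.factors_iff _ _).mpr ⟨factorThruImageSubobject _, imageSubobject_arrow_comp _⟩)
      let c : Cocone (CostructuredArrow.proj L Y ⋙ T) :=
        { pt := ((U' m : Subobject _) : A)
          ι :=
            { app := fun g => (U' m).factorThru (U.map g.hom) (hfac g)
              naturality := by
                intro g g' φ
                rw [← cancel_mono (U' m).arrow]
                have hw := CostructuredArrow.w φ
                have e1 : ((CostructuredArrow.proj L Y ⋙ T).map φ ≫
                    (U' m).factorThru (U.map g'.hom) (hfac g')) ≫ (U' m).arrow =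
                    U.map (L.map φ.left) ≫ U.map g'.hom := by
                  rw [Category.assoc, Subobject.factorThru_arrow]; rfl
                have e2 : ((U' m).factorThru (U.map g.hom) (hfac g) ≫
                    ((Functor.const _).obj ((U' m : Subobject _) : A)).map φ) ≫ (U' m).arrow =
                    U.map g.hom := by
                  rw [Category.assoc]
                  show (U' m).factorThru (U.map g.hom) (hfac g) ≫ 𝟙 _ ≫ (U' m).arrow = _
                  rw [Category.id_comp, Subobject.factorThru_arrow]
                refine e1.trans (Eq.trans ?_ e2.symm)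
                rw [← U.map_comp, hw] } }
      have hdesc : (hP Y).desc c ≫ (U' m).arrow = ε.app Y := by
        apply (hP Y).hom_ext
        intro g
        rw [(hP Y).fac_assoc, hι Y g]
        exact (U' m).factorThru_arrow _ (hfac g)
      exact imageSubobject_le _ ((hP Y).desc c) hdesc
    · apply (hU' m).2
      rintro _ ⟨⟨i, φ⟩, rfl⟩
      have hi : (SimplexCategory.mk (i : ℕ)).len ≤ n := Nat.le_of_lt_succ i.isLt
      let g : CostructuredArrow L (op (SimplexCategory.mk m)) :=
        CostructuredArrow.mk (S := L) (Y := op ⟨SimplexCategory.mk (i : ℕ), hi⟩)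
          (show L.obj (op ⟨SimplexCategory.mk (i : ℕ), hi⟩) ⟶ op (SimplexCategory.mk m) from φ.op)
      have := hι _ g
      show imageSubobject (U.map φ.op) ≤ _
      have h2 : U.map φ.op = U.map g.hom := rfl
      rw [h2, ← this]
      exact imageSubobject_comp_le _ _

end Groth.Agent.S6819
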