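import Groth.Statements.S6820
import Mathlib

set_option autoImplicit false
universe u
open Smoothing

namespace Groth.Agent.S6820

theorem exists_kill_torsion {A : Type u} [CommRing A] [IsNoetherianRing A]
    (M : Type u) [AddCommGroup M] [Module A M] [Module.Finite A M] (S : Submonoid A) :
    ∃ s ∈ S, ∀ x : M, (∃ u : S, (u : A) • x = 0) → s • x = 0 := by
  classical
  let T : Submodule A M := Submodule.torsion' A M S
  have hT : T.FG := IsNoetherian.noetherian T
  obtain ⟨G, hG⟩ := hT
  have hmem : ∀ g ∈ G, ∃ a : S, (a : A) • g = 0 := by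
    intro g hg
    have : g ∈ T := by
      rw [← hG]
      exact Submodule.subset_span hg
    obtain ⟨a, ha⟩ := this
    exact ⟨a, ha⟩
  choose! a ha using hmem
  refine ⟨∏ g ∈ G, (a g : A), Submonoid.prod_mem _ (fun g _ => (a g).2), ?_⟩
  intro x hx
  have hxT : x ∈ T := hx
  rw [← hG] at hxT
  clear hx
  induction hxT using Submodule.span_induction with
  | mem y hy =>
    have hy' : y ∈ G := hy
    rw [← Finset.mul_prod_erase G _ hy', mul_comm, mul_smul, ha y hy', smul_zero]
  | zero => simp
  | add y z _ _ hy hz => rw [smul_add, hy, hz, add_zero]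
  | smul r y _ hy => rw [smul_comm, hy, smul_zero]

/-- Let A be a Noetherian ring, M a finite A-module, S a multiplicative subset of A and π an element of
A such that on the localised module S⁻¹M the kernels of multiplication by π and by π² agree. Then
there is an element s of S such that for every n > 0 the kernels of multiplication by sⁿπ and by
(sⁿπ)² on M agree. (Kernel equalities are written as implications, the reverse inclusions being
automatic.) -/
theorem result {A : Type u} [CommRing A] [IsNoetherianRing A]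
    (M : Type u) [AddCommGroup M] [Module A M] [Module.Finite A M] (S : Submonoid A) (π : A)
    (h : ∀ m : LocalizedModule S M, π ^ 2 • m = 0 → π • m = 0) :
    ∃ s ∈ S, ∀ n : ℕ, 0 < n → ∀ m : M, (s ^ n * π) ^ 2 • m = 0 → (s ^ n * π) • m = 0 := by
  obtain ⟨s, hs, hkill⟩ := exists_kill_torsion M S
  refine ⟨s, hs, ?_⟩
  intro n hn m hm
  have h1 : π ^ 2 • (LocalizedModule.mk m (1 : S)) = 0 := by
    rw [LocalizedModule.smul'_mk, ← LocalizedModule.zero_mk (1 : S), LocalizedModule.mk_eq]
    refine ⟨⟨s ^ (2 * n), Submonoid.pow_mem _ hs _⟩, ?_⟩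
    simp only [one_smul, smul_zero]
    show (s ^ (2 * n)) • (π ^ 2 • m) = 0
    rw [← mul_smul, ← hm]
    congr 1
    ring
  have h2 := h _ h1
  rw [LocalizedModule.smul'_mk, ← LocalizedModule.zero_mk (1 : S), LocalizedModule.mk_eq] at h2
  obtain ⟨u, hu⟩ := h2
  simp only [one_smul, smul_zero] at hu
  have h3 : s • (π • m) = 0 := hkill _ ⟨u, hu⟩
  obtain ⟨k, rfl⟩ : ∃ k, n = k + 1 := ⟨n - 1, by omega⟩
  rw [pow_succ, mul_assoc, mul_smul, mul_smul, h3, smul_zero]

end Groth.Agent.S6820
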