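import Groth.Statements.S6827
import Groth.Agent.H3.SL6

set_option autoImplicit false
universe u
open Smoothing

namespace Groth.Agent.S6827

/-- Let R → R₀ be a surjective ring map with kernel I (so R₀ = R/I) and A₀ a smooth R₀-algebra. Then
there is a smooth R-algebra A with A/IA isomorphic to A₀ as an R/I-algebra. -/
theorem result {R A₀ : Type u} [CommRing R] (I : Ideal R) [CommRing A₀]
    [Algebra (R ⧸ I) A₀] [Algebra.Smooth (R ⧸ I) A₀] :
    ∃ (A : Type u) (_ : CommRing A) (_ : Algebra R A), Algebra.Smooth R A ∧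
      Nonempty ((A ⧸ I.map (algebraMap R A)) ≃ₐ[R ⧸ I] A₀) := by
  classical
  letI : Algebra R A₀ := Algebra.compHom A₀ (Ideal.Quotient.mk I)
  haveI : IsScalarTower R (R ⧸ I) A₀ := IsScalarTower.of_algebraMap_eq (fun _ => rfl)
  obtain ⟨A, _, _, hsm, Ψ, hΨsurj, hΨker⟩ := Groth.Agent.H3.SL.exists_smooth_lift (A₀ := A₀) I
  refine ⟨A, inferInstance, inferInstance, hsm, ⟨?_⟩⟩
  let e1 : (A ⧸ RingHom.ker Ψ) ≃ₐ[R] A₀ := Ideal.quotientKerAlgEquivOfSurjective hΨsurj
  let e2 : (A ⧸ I.map (algebraMap R A)) ≃ₐ[R] (A ⧸ RingHom.ker Ψ) :=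
    Ideal.quotientEquivAlgOfEq R hΨker.symm
  refine AlgEquiv.ofRingEquiv (f := (e2.trans e1).toRingEquiv) ?_
  intro x
  obtain ⟨r, rfl⟩ := Ideal.Quotient.mk_surjective x
  have h1 : algebraMap (R ⧸ I) (A ⧸ I.map (algebraMap R A)) (Ideal.Quotient.mk I r) =
      algebraMap R (A ⧸ I.map (algebraMap R A)) r := by
    show Ideal.quotientMap _ (algebraMap R A) Ideal.le_comap_map (Ideal.Quotient.mk I r) = _
    rw [Ideal.quotientMap_mk]
    rfl
  rw [h1]
  show (e2.trans e1) (algebraMap R _ r) = _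
  rw [AlgEquiv.commutes]
  rfl


end Groth.Agent.S6827
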