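import Groth.Statements.S6828
-- import your own Groth.Agent.* helpers here
import Groth.Agent.H13.SymMain

set_option autoImplicit false
universe u
open Smoothing

namespace Groth.Agent.S6828

open Groth.Agent.H13.SymRetract Groth.Agent.H13.SymMain Groth.Agent.H13.Conormal
  Groth.Agent.H66.RelGCI in
/-- Let R → A be a syntomic ring map. Then there are a smooth R-algebra map A → C with an R-algebra
retraction C → A, where C = R[x₁, …, x_n]/(f₁, …, f_c) is a relative global complete intersection
over R (all nonempty fibres of dimension n − c) and flat over R. -/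
theorem result {R A : Type u} [CommRing R] [CommRing A] [Algebra R A]
    (h : Synt.IsSyntomic R A) :
    ∃ (n c : ℕ) (F : Fin c → MvPolynomial (Fin n) R), Synt.IsRelGCI R n c F ∧
      Module.Flat R (Synt.RelGCIRing R n c F) ∧
      ∃ (_ : Algebra A (Synt.RelGCIRing R n c F)) (_ : IsScalarTower R A (Synt.RelGCIRing R n c F)),
        Algebra.Smooth A (Synt.RelGCIRing R n c F) ∧
        ∃ ρ : Synt.RelGCIRing R n c F →ₐ[R] A, ∀ a : A, ρ (algebraMap A (Synt.RelGCIRing R n c F) a) = a := by
  classical
  haveI : Algebra.FinitePresentation R A := h.2.1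
  haveI : Algebra.FiniteType R A := inferInstance
  obtain ⟨n, α, hα⟩ := Algebra.FiniteType.iff_quotient_mvPolynomial''.mp ‹Algebra.FiniteType R A›
  obtain ⟨hfin, hproj⟩ := projective_cotangent h (gensOf α hα)
  haveI := hfin
  haveI := hproj
  obtain ⟨m, e, u, s, he, hspan, hue, hs⟩ :=
    exists_idempotent (A := A) (K := (gensOf α hα).toExtension.Cotangent)
  obtain ⟨F, ⟨Θ⟩⟩ := exists_relGCI_presentation (gensOf α hα) e he u hspan hue
  have hrel : Synt.IsRelGCI R (m + n + 1) (m + 1) F := by
    apply isRelGCI_of_tfd_le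
    intro Q
    refine ⟨by omega, ?_⟩
    rw [Groth.Agent.S9176.tfd_algEquiv Θ Q]
    have h1 := tfd_symC_le h α hα e u s hs
      (PrimeSpectrum.comap (Θ : SymC e →+* Synt.RelGCIRing R (m + n + 1) (m + 1) F) Q)
    have h2 : m + n + 1 - (m + 1) = n := by omega
    rw [h2]
    exact h1
  refine ⟨m + n + 1, m + 1, F, hrel, flat_of_isRelGCI R _ _ F hrel, ?_⟩
  letI algAC : Algebra A (Synt.RelGCIRing R (m + n + 1) (m + 1) F) :=
    ((Θ : SymC e →+* Synt.RelGCIRing R (m + n + 1) (m + 1) F).comp
      (algebraMap A (SymC e))).toAlgebra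
  have htower : IsScalarTower R A (Synt.RelGCIRing R (m + n + 1) (m + 1) F) :=
    IsScalarTower.of_algebraMap_eq (fun r ↦ by
      show algebraMap R _ r = Θ (algebraMap A (SymC e) (algebraMap R A r))
      rw [← IsScalarTower.algebraMap_apply R A (SymC e), AlgEquiv.commutes])
  refine ⟨algAC, htower, ?_, ?_⟩
  · let ΘA : SymC e ≃ₐ[A] Synt.RelGCIRing R (m + n + 1) (m + 1) F :=
      { Θ.toRingEquiv with commutes' := fun a ↦ rfl }
    haveI := smooth e he
    exact Algebra.Smooth.of_equiv ΘA
  · refine ⟨((retr e).restrictScalars R).comp Θ.symm.toAlgHom, fun a ↦ ?_⟩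
    show retr e (Θ.symm (Θ (algebraMap A (SymC e) a))) = a
    rw [AlgEquiv.symm_apply_apply, retr_algebraMap]

end Groth.Agent.S6828
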