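import Groth.Statements.S6831
import Groth.Agent.H92.RSLocalF
import Groth.Agent.H92.RSGerm

set_option autoImplicit false
universe u
open CategoryTheory CategoryTheory.Limits TopologicalSpace
open ModSite

namespace Groth.Agent.S6831

open Groth.Agent.H31 Groth.Agent.H92.EqCrit Groth.Agent.H92.EqCritConv Groth.Agent.H92.RSLocal
set_option backward.isDefEq.respectTransparency false


/-- Let (X, O) be a ringed space, φ : G → F a map of O-modules with F of finite type, and x a point such
that the map of stalks φ_x : G_x → F_x is surjective (stalks are taken at the point of the site of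
opens of X given by x). Then φ|_U is surjective for some open neighbourhood U of x. -/
theorem result {X : TopCat.{u}} (O : TopCat.Sheaf CommRingCat.{u} X)
    {G F : ModSite.Mod O} (φ : G ⟶ F) [SheafOfModules.IsFiniteType (R := ModSite.ringSh O) F] (x : X)
    (hx : Function.Surjective (ModSite.stalkMap (Opens.pointGrothendieckTopology x) φ).hom) :
    ∃ U : Opens X, x ∈ U ∧ Epi ((ModSite.restr O U).map φ) := by
  classical
  obtain ⟨U, hxU, ι, hι, s, hs⟩ := exists_genOn_of_isFiniteType F x
  choose τ hτ using fun i => hx (gmF x F U hxU (s i))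
  obtain ⟨U₁, hU₁, hx₁, t, ht⟩ := gmF_surj_fin x G τ U hxU
  have hg : ∀ i, gmF x F U₁ hx₁ (sF φ U₁ (t i)) = gmF x F U₁ hx₁ (rF F hU₁ (s i)) := by
    intro i
    rw [← stalkMap_gmF, ht, hτ, gmF_res]
  obtain ⟨W, hW, hxW, hWeq⟩ := gmF_eq_fin x F U₁ hx₁ _ _ hg
  refine ⟨W, hxW, (epi_restr_iff W φ).2 ?_⟩
  intro V hV b y hy
  obtain ⟨W', hW', hyW', a, ha⟩ := hs V (hV.trans (hW.trans hU₁)) b y hy
  refine ⟨W', hW', hyW', ∑ i, a i • rF G (hW'.trans (hV.trans hW)) (t i), ?_⟩
  rw [sF_sum_smul, ha]
  refine Finset.sum_congr rfl (fun i _ => ?_)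
  congr 1
  rw [sF_rF, ← rF_rF F hW (hW'.trans hV), hWeq i, rF_rF, rF_rF]

end Groth.Agent.S6831
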