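import Groth.Statements.S6836
import Groth.Agent.H92.RSLocalM

set_option autoImplicit false
universe u
open CategoryTheory CategoryTheory.Limits TopologicalSpace
open ModSite

namespace Groth.Agent.S6836

open Groth.Agent.H31 Groth.Agent.H92.EqCrit Groth.Agent.H92.EqCritConv Groth.Agent.H92.RSLocal
set_option backward.isDefEq.respectTransparency false


/-- On a ringed space (X, O), let r ≥ 0 and let φ : F → G be a map of O-modules which are both finite
locally free of rank r (every point has an open neighbourhood U with F|_U ≅ O_U^r, the free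
O_U-module on r generators, and likewise for G). Then φ is an isomorphism if and only if it is
surjective. -/
theorem result {X : TopCat.{u}} (O : TopCat.Sheaf CommRingCat.{u} X) (r : ℕ)
    {F G : ModSite.Mod O}
    (hF : ∀ x : X, ∃ U : Opens X, x ∈ U ∧
      Nonempty ((ModSite.restr O U).obj F ≅ SheafOfModules.free (ULift.{u} (Fin r))))
    (hG : ∀ x : X, ∃ U : Opens X, x ∈ U ∧
      Nonempty ((ModSite.restr O U).obj G ≅ SheafOfModules.free (ULift.{u} (Fin r))))
    (φ : F ⟶ G) : IsIso φ ↔ Epi φ := by
  classical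
  constructor
  · intro h
    infer_instance
  · intro hepi
    have hmono : Mono φ := by
      refine mono_of_injective φ (fun V => ?_)
      rw [injective_iff_map_eq_zero]
      intro m hm
      refine eq_zero_of_locally F m (fun y hy => ?_)
      obtain ⟨U₁, hy₁, h₁⟩ := hF y
      obtain ⟨U₂, hy₂, h₂⟩ := hG y
      obtain ⟨U, hU⟩ : ∃ U : Opens X, U = U₁ ⊓ U₂ := ⟨_, rfl⟩
      have hU₁ : U ≤ U₁ := hU ▸ inf_le_left
      have hU₂ : U ≤ U₂ := hU ▸ inf_le_right
      have hyU : y ∈ U := hU ▸ ⟨hy₁, hy₂⟩
      obtain ⟨eF⟩ := nonempty_iso_free_of_le F hU₁ (ULift.{u} (Fin r)) h₁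
      obtain ⟨eG⟩ := nonempty_iso_free_of_le G hU₂ (ULift.{u} (Fin r)) h₂
      have hepiU : Epi ((ModSite.restr O U).map φ) :=
        (epi_restr_iff U φ).2 (locSurjOn_of_epi φ U)
      have hψ : Epi (eF.inv ≫ (ModSite.restr O U).map φ ≫ eG.hom) := inferInstance
      have hψm : Mono (eF.inv ≫ (ModSite.restr O U).map φ ≫ eG.hom) :=
        mono_of_epi_free (O := O.over U) (oT U) _
      have hmonoU : Mono ((ModSite.restr O U).map φ) := by
        have h3 : (ModSite.restr O U).map φ =
            eF.hom ≫ (eF.inv ≫ (ModSite.restr O U).map φ ≫ eG.hom) ≫ eG.inv := by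
          simp
        rw [h3]
        infer_instance
      refine ⟨V ⊓ U, inf_le_left, ⟨hy, hyU⟩, ?_⟩
      have hinj := injective_of_mono (O := O.over U) ((ModSite.restr O U).map φ)
        (Over.mk (homOfLE (inf_le_right : V ⊓ U ≤ U)))
      apply hinj
      show sF φ (V ⊓ U) (rF F inf_le_left m) = sF φ (V ⊓ U) 0
      rw [sF_rF, map_zero]
      exact (congrArg (rF G inf_le_left) hm).trans (map_zero _)
    exact isIso_of_mono_of_epi φ

end Groth.Agent.S6836
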