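import Groth.Statements.S6840
import Groth.Agent.H53.GammaColim
import Groth.Agent.H31.Invertible
import Groth.Agent.S9096

set_option autoImplicit false
universe u
open CategoryTheory CategoryTheory.Limits TopologicalSpace
open ModSite

namespace Groth.Agent.S6840

section Helpers

variable {C : Type u} [SmallCategory C] {J : GrothendieckTopology C} (O : Sheaf J CommRingCat.{u})

/-- `O ⊗ G ≅ G`, in the form suited to the internal-hom adjunction. -/
noncomputable def uT (G : ModSite.Mod O) :
    ((ModSite.tensorBi O).flip.obj G).obj (ModSite.unit O) ≅ G :=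
  (Groth.Agent.H31.tensorUnitNatIso O).app G

/-- `Hom(O, ℋom(G, N)) ≃ Hom(G, N)`. -/
noncomputable def homEqv (G N : ModSite.Mod O) [ModSite.HasSheafHom G] :
    (ModSite.unit O ⟶ (ModSite.sheafHom G).obj N) ≃ (G ⟶ N) where
  toFun ψ := (uT O G).inv ≫ ((ModSite.sheafHomAdj G).homEquiv _ _).symm ψ
  invFun φ := (ModSite.sheafHomAdj G).homEquiv _ _ ((uT O G).hom ≫ φ)
  left_inv ψ := by simp
  right_inv φ := by simp

theorem homEqv_comp (G : ModSite.Mod O) [ModSite.HasSheafHom G] {N N' : ModSite.Mod O}
    (g : N ⟶ N') (ψ : ModSite.unit O ⟶ (ModSite.sheafHom G).obj N) :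
    homEqv O G N' (ψ ≫ (ModSite.sheafHom G).map g) = homEqv O G N ψ ≫ g := by
  show (uT O G).inv ≫ ((ModSite.sheafHomAdj G).homEquiv _ _).symm
      (ψ ≫ (ModSite.sheafHom G).map g) =
    ((uT O G).inv ≫ ((ModSite.sheafHomAdj G).homEquiv _ _).symm ψ) ≫ g
  rw [Adjunction.homEquiv_naturality_right_symm, Category.assoc]

/-- `Hom(O, ℋom(G, -)) ≅ Hom(G, -)`. -/
noncomputable def eIso (G : ModSite.Mod O) [ModSite.HasSheafHom G] :
    ModSite.sheafHom G ⋙ coyoneda.obj (Opposite.op (ModSite.unit O)) ≅
      coyoneda.obj (Opposite.op G) :=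
  NatIso.ofComponents (fun N => (homEqv O G N).toIso) (fun {N N'} g => by
    ext ψ
    exact homEqv_comp O G g ψ)

end Helpers

/-- Let (X, O) be a ringed space such that every open covering of X is refined by a finite open covering
X = ⋃ U_j whose pairwise intersections U_j ∩ U_{j'} are quasi-compact. Let I be a directed
preordered set (nonempty, with upper bounds), (F_i) a system of O-modules over I, and G an O-module
of finite presentation. Then colim_i Hom(G, F_i) → Hom(G, colim_i F_i) is bijective, i.e. Hom(G, −)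
preserves the colimit of the system. -/
theorem result {X : TopCat.{u}} (O : TopCat.Sheaf CommRingCat.{u} X)
    (hX : ∀ (ι : Type u) (V : ι → Opens X), iSup V = ⊤ →
      ∃ (J : Type u) (_ : Finite J) (U : J → Opens X), iSup U = ⊤ ∧ (∀ j, ∃ i, U j ≤ V i) ∧
        ∀ j j', IsCompact ((U j ⊓ U j' : Opens X) : Set X))
    {I : Type u} [Preorder I] [Nonempty I] [IsDirected I (· ≤ ·)] (D : I ⥤ ModSite.Mod O)
    (G : ModSite.Mod O) [SheafOfModules.IsFinitePresentation (R := ModSite.ringSh O) G] :
    PreservesColimit D (coyoneda.obj (Opposite.op G)) := by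
  haveI : ModSite.HasSheafHom G := Groth.Agent.H31.hasSheafHom _
  haveI : PreservesColimit D (ModSite.sheafHom G) := Groth.Agent.S9096.result O G D
  haveI : PreservesColimit (D ⋙ ModSite.sheafHom G)
      (coyoneda.obj (Opposite.op (ModSite.unit O))) :=
    Groth.Agent.H53.GammaColim.preservesColimit_coyoneda_unit O hX _
  haveI : PreservesColimit D
      (ModSite.sheafHom G ⋙ coyoneda.obj (Opposite.op (ModSite.unit O))) := inferInstance
  exact preservesColimit_of_natIso D (eIso O G)

end Groth.Agent.S6840
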