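import Groth.Statements.S6841
import Mathlib
import Groth.Agent.H14.FibreSmooth

set_option autoImplicit false
universe u
open Smoothing

namespace Groth.Agent.S6841

open TensorProduct in
/-- Let R ⊆ Λ be an extension of discrete valuation rings of ramification index 1 (m_R Λ = m_Λ), A a
flat R-algebra of finite type with an R-algebra map A → Λ, 𝔮 its kernel and 𝔭 the inverse image of
the maximal ideal of Λ. Assume R → A is smooth at 𝔮. Provided the Λ-module Ω_{A/R} ⊗_A Λ is free,
the map R → A is also smooth at the prime 𝔭. (The published statement phrases the freeness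
hypothesis through a surjection B → A from an R-algebra smooth at the point, with kernel I, as
freeness of the cokernel of I/I² ⊗_A Λ → Ω_{B/R} ⊗_B Λ; that cokernel is Ω_{A/R} ⊗_A Λ, which is how
its proof begins, so the two forms are equivalent.) -/
theorem result {R Λ A : Type u} [CommRing R] [IsDomain R]
    [IsDiscreteValuationRing R] [CommRing Λ] [IsDomain Λ] [IsDiscreteValuationRing Λ] [Algebra R Λ]
    [NoZeroSMulDivisors R Λ] (he : (IsLocalRing.maximalIdeal R).map (algebraMap R Λ) = IsLocalRing.maximalIdeal Λ)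
    [CommRing A] [Algebra R A] [Module.Flat R A] [Algebra.FiniteType R A] [Algebra A Λ] [IsScalarTower R A Λ]
    [(RingHom.ker (algebraMap A Λ)).IsPrime]
    (hq : Algebra.IsSmoothAt R (RingHom.ker (algebraMap A Λ)))
    (hfree : Module.Free Λ (Λ ⊗[A] Ω[A⁄R])) :
    Algebra.IsSmoothAt R ((IsLocalRing.maximalIdeal Λ).comap (algebraMap A Λ)) := by
  classical
  haveI : Algebra.FinitePresentation R A := Algebra.FinitePresentation.of_finiteType.mp inferInstance
  set q : Ideal A := RingHom.ker (algebraMap A Λ) with hqdef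
  set p : Ideal A := (IsLocalRing.maximalIdeal Λ).comap (algebraMap A Λ) with hpdef
  haveI : Algebra.IsSmoothAt R q := hq
  -- `p` lies over the maximal ideal of `R`
  haveI hpm : p.LiesOver (IsLocalRing.maximalIdeal R) := by
    constructor
    have hle : IsLocalRing.maximalIdeal R ≤ p.under R := by
      rw [Ideal.under_def, hpdef, Ideal.comap_comap, ← IsScalarTower.algebraMap_eq,
        ← Ideal.map_le_iff_le_comap, he]
    exact (IsLocalRing.maximalIdeal.isMaximal R).eq_of_le
      (Ideal.IsPrime.ne_top (inferInstance : (p.under R).IsPrime)) hle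
  -- `q ≤ p`
  have hqp : (⟨q, inferInstance⟩ : PrimeSpectrum A) ≤ ⟨p, inferInstance⟩ := by
    show q ≤ p
    rw [hqdef, RingHom.ker_eq_comap_bot]
    exact Ideal.comap_mono bot_le
  -- the ranks at `p` and `q` agree
  have hfin : ∀ (P : Ideal Λ) [P.IsPrime],
      Module.finrank P.ResidueField (P.ResidueField ⊗[Λ] (Λ ⊗[A] Ω[A⁄R])) =
        Module.finrank Λ (Λ ⊗[A] Ω[A⁄R]) := fun P _ => Module.finrank_baseChange
  have h1 := Groth.Agent.H14.KaehlerGen.finrank_fibre_baseChange A Λ Ω[A⁄R] p
    (IsLocalRing.maximalIdeal Λ) rfl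
  haveI : (⊥ : Ideal Λ).IsPrime := Ideal.isPrime_bot
  have h2 := Groth.Agent.H14.KaehlerGen.finrank_fibre_baseChange A Λ Ω[A⁄R] q
    (⊥ : Ideal Λ) (RingHom.ker_eq_comap_bot _)
  rw [hfin] at h1 h2
  have hrank : Module.finrank p.ResidueField (p.ResidueField ⊗[A] Ω[A⁄R]) =
      Module.finrank q.ResidueField (q.ResidueField ⊗[A] Ω[A⁄R]) := by
    rw [← h1, ← h2]
  -- fibre dimensions
  have h3 := Groth.Agent.H14.FibreSmooth.finrank_eq_tfd_of_isSmoothAt R A q
  have h4 := Groth.Agent.H14.FibreSmooth.tfd_mono R A _ _ hqp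
  rw [← h3] at h4
  exact Groth.Agent.H14.FibreSmooth.isSmoothAt_of_finrank_le_tfd R A (IsLocalRing.maximalIdeal R) p
    (Module.finrank q.ResidueField (q.ResidueField ⊗[A] Ω[A⁄R])) h4 hrank.le

end Groth.Agent.S6841
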