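import Groth.Statements.S6851
import Groth.Agent.H92.InvSpace

set_option autoImplicit false
universe u
open CategoryTheory CategoryTheory.Limits TopologicalSpace
open ModSite

namespace Groth.Agent.S6851

set_option backward.isDefEq.respectTransparency false
open MonoidalCategory Opposite
set_option linter.style.haveILetI false
open Groth.Agent.H31 Groth.Agent.H92.EqCrit Groth.Agent.H92.EqCritConv Groth.Agent.H92.RSLocal Groth.Agent.H92.InvPair


/-- Let (X, O) be a ringed space all of whose stalks O_{X,x} are local rings with maximal ideals m_x, L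
an invertible O-module (F ↦ L ⊗_O F is an equivalence of Mod(O)) and s a section of L over an open
U. Then the set X_s of points x ∈ U whose germ s_x does not lie in m_x L_x is open, and for every x
∈ X_s the map O_{X,x} → L_x, a ↦ a s_x, is bijective; that is, s : O_{X_s} → L|_{X_s} is an
isomorphism, isomorphy being checked on stalks. Stalks and germs are taken at the point of the site
of opens of X given by x. (The published statement also produces the section s' of the inverse of L
with s' s = 1; that consequence is not restated here.) -/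
theorem result {X : TopCat.{u}} (O : TopCat.Sheaf CommRingCat.{u} X)
    (hO : ∀ x : X, IsLocalRing (ModSite.stalkRing (Opens.pointGrothendieckTopology x) O)) (L : ModSite.Mod O)
    (hL : ((ModSite.tensorBi O).obj L).IsEquivalence) (U : Opens X) (s : ModSite.sect L U) :
    IsOpen {x : X | ∃ hx : x ∈ U, ModSite.germ (Opens.pointGrothendieckTopology x) L U ⟨⟨hx⟩⟩ s ∉
        (@IsLocalRing.maximalIdeal (ModSite.stalkRing (Opens.pointGrothendieckTopology x) O) _ (hO x)) •
          (⊤ : Submodule (ModSite.stalkRing (Opens.pointGrothendieckTopology x) O)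
            (ModSite.stalkAb (Opens.pointGrothendieckTopology x) L))} ∧
      ∀ (x : X) (hx : x ∈ U), ModSite.germ (Opens.pointGrothendieckTopology x) L U ⟨⟨hx⟩⟩ s ∉
          (@IsLocalRing.maximalIdeal (ModSite.stalkRing (Opens.pointGrothendieckTopology x) O) _ (hO x)) •
            (⊤ : Submodule (ModSite.stalkRing (Opens.pointGrothendieckTopology x) O)
              (ModSite.stalkAb (Opens.pointGrothendieckTopology x) L)) →
        Function.Bijective (fun a : ModSite.stalkRing (Opens.pointGrothendieckTopology x) O =>
          a • ModSite.germ (Opens.pointGrothendieckTopology x) L U ⟨⟨hx⟩⟩ s) := by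
  classical
  haveI := hL
  haveI : ((ModSite.tensorBi O).obj L).EssSurj := inferInstance
  let N : ModSite.Mod O := ((ModSite.tensorBi O).obj L).objPreimage (ModSite.unit O)
  let e : ((ModSite.tensorBi O).obj L).obj N ≅ ModSite.unit O :=
    ((ModSite.tensorBi O).obj L).objObjPreimageIso (ModSite.unit O)
  let μ : (shf O).obj ((toPM O).obj L ⊗ (toPM O).obj N) ⟶
      SheafOfModules.unit (ModSite.ringSh O) := e.hom
  haveI : IsIso μ := e.isIso_hom
  have key : ∀ (x : X) (hx : x ∈ U), ∃ (W : Opens X) (hW : W ≤ U) (_ : x ∈ W)
      (l : ((toPM O).obj L).obj (op W)) (b : O.obj.obj (op W)),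
      (∀ (y : X) (hy : y ∈ W), Function.Bijective
        (fun c : ModSite.stalkRing (Opens.pointGrothendieckTopology y) O => c • gmF y L W hy l)) ∧
      rF L hW s = b • l := by
    intro x hx
    obtain ⟨W, hW, hxW, l, n, h1⟩ := exists_local_generator μ x (hO x) U hx
    refine ⟨W, hW, hxW, l, pr μ (op W) (rF L hW s) n,
      fun y hy => bijective_smul_germ μ l n h1 y hy, ?_⟩
    have h2 := eq_pr_smul μ l n h1 (le_refl W) (rF L hW s)
    rw [rF_self, rF_self] at h2
    exact h2
  have hgerm : ∀ (W : Opens X) (hW : W ≤ U) (l : ((toPM O).obj L).obj (op W))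
      (b : O.obj.obj (op W)) (_ : rF L hW s = b • l) (y : X) (hy : y ∈ W),
      gmF y L U (hW hy) s = gmR y W hy b • gmF y L W hy l := by
    intro W hW l b h y hy
    rw [← gmF_res y L hW hy s, h, gmF_smul]
  constructor
  · rw [isOpen_iff_forall_mem_open]
    rintro x ⟨hx, hxs⟩
    obtain ⟨W, hW, hxW, l, b, hbij, hb⟩ := key x hx
    haveI := hO x
    have hxs' : gmF x L U hx s ∉ IsLocalRing.maximalIdeal
        (ModSite.stalkRing (Opens.pointGrothendieckTopology x) O) •
        (⊤ : Submodule (ModSite.stalkRing (Opens.pointGrothendieckTopology x) O)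
          (ModSite.stalkAb (Opens.pointGrothendieckTopology x) L)) := hxs
    rw [hgerm W hW l b hb x hxW] at hxs'
    have hunit := isUnit_of_smul_notMem (gmF x L W hxW l) (gmR x W hxW b) hxs'
    obtain ⟨W', hW', hxW', v, hv⟩ := exists_local_inverse x hxW b hunit
    refine ⟨W', ?_, W'.2, hxW'⟩
    intro y hy
    have hyW : y ∈ W := hW' hy
    refine ⟨hW hyW, ?_⟩
    haveI := hO y
    show gmF y L U (hW hyW) s ∉ IsLocalRing.maximalIdeal
        (ModSite.stalkRing (Opens.pointGrothendieckTopology y) O) •
        (⊤ : Submodule (ModSite.stalkRing (Opens.pointGrothendieckTopology y) O)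
          (ModSite.stalkAb (Opens.pointGrothendieckTopology y) L))
    rw [hgerm W hW l b hb y hyW]
    refine smul_notMem_of_isUnit (gmF y L W hyW l) (hbij y hyW) (gmR y W hyW b) ?_
    have h3 := congrArg (gmR y W' hy) hv
    rw [map_mul, map_one, gmR_res] at h3
    exact isUnit_iff_exists_inv'.2 ⟨_, h3⟩
  · intro x hx hxs
    obtain ⟨W, hW, hxW, l, b, hbij, hb⟩ := key x hx
    haveI := hO x
    have hxs' : gmF x L U hx s ∉ IsLocalRing.maximalIdeal
        (ModSite.stalkRing (Opens.pointGrothendieckTopology x) O) •
        (⊤ : Submodule (ModSite.stalkRing (Opens.pointGrothendieckTopology x) O)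
          (ModSite.stalkAb (Opens.pointGrothendieckTopology x) L)) := hxs
    rw [hgerm W hW l b hb x hxW] at hxs'
    have hunit := isUnit_of_smul_notMem (gmF x L W hxW l) (gmR x W hxW b) hxs'
    show Function.Bijective (fun a : ModSite.stalkRing (Opens.pointGrothendieckTopology x) O =>
      a • gmF x L U hx s)
    rw [hgerm W hW l b hb x hxW]
    exact bijective_smul_of_isUnit (gmF x L W hxW l) (hbij x hxW) (gmR x W hxW b) hunit

end Groth.Agent.S6851
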