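import Groth.Statements.S6857
-- import your own Groth.Agent.* helpers here
import Groth.Agent.H45.ClosedEmb
import Groth.Agent.H45.CohTopClosed

set_option autoImplicit false
universe u
open CategoryTheory CategoryTheory.Limits TopologicalSpace
open CohTop

namespace Groth.Agent.S6857

/-- Let i : Z → X be the inclusion of a closed subset of a topological space (a closed embedding). Then
i_* : Ab(Z) → Ab(X) is exact (right exactness being the content, i_* is a right adjoint) and fully
faithful, an abelian sheaf on X lies in its essential image exactly when its stalks at points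
outside i(Z) are zero (support contained in Z), and i⁻¹ ∘ i_* is isomorphic to the identity functor
(existence of an isomorphism of functors is asserted). -/
theorem result {Z X : TopCat.{u}} (i : Z ⟶ X)
    (hi : Topology.IsClosedEmbedding i) :
    PreservesFiniteColimits (CohTop.push i) ∧ (CohTop.push i).Full ∧ (CohTop.push i).Faithful ∧
      (∀ F : CohTop.Ab X, (CohTop.push i).essImage F ↔ ∀ x : X, x ∉ Set.range i → IsZero (CohTop.stalk F x)) ∧
      Nonempty (CohTop.push i ⋙ CohTop.pull i ≅ 𝟭 (CohTop.Ab Z)) := by
  haveI hfull : (TopCat.Sheaf.pushforward AddCommGrpCat.{u} i).Full :=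
    Groth.Agent.H45.ClosedEmb.full_sheaf_pushforward i hi AddCommGrpCat.{u}
  haveI hfaith : (TopCat.Sheaf.pushforward AddCommGrpCat.{u} i).Faithful :=
    Groth.Agent.H45.ClosedEmb.faithful_sheaf_pushforward i hi AddCommGrpCat.{u}
  refine ⟨Groth.Agent.H45.CohTopPush.preservesFiniteColimits_push_of_isClosedEmbedding i hi,
    hfull, hfaith, fun F => ?_, ?_⟩
  · refine (Groth.Agent.H45.ClosedEmb.essImage_iff i hi F).trans
      ((Groth.Agent.H45.ClosedEmb.isSupp_iff_stalk i hi F).trans ?_)
    refine forall_congr' (fun x => forall_congr' (fun _ => ?_))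
    constructor
    · rintro ⟨hu⟩
      haveI : Subsingleton (CohTop.stalk F x) := ⟨fun a b => (hu.uniq a).trans (hu.uniq b).symm⟩
      exact AddCommGrpCat.isZero_of_subsingleton _
    · intro hz
      haveI := AddCommGrpCat.subsingleton_of_isZero hz
      exact ⟨⟨⟨0⟩, fun a => Subsingleton.elim _ _⟩⟩
  · have h : IsIso (TopCat.Sheaf.pullbackPushforwardAdjunction AddCommGrpCat.{u} i).counit :=
      Adjunction.counit_isIso_of_R_fully_faithful _
    exact ⟨@asIso _ _ _ _ _ h⟩

end Groth.Agent.S6857
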