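import Groth.Statements.S6862
import Mathlib

set_option autoImplicit false
universe u
open CAlg

namespace Groth.Agent.S6862

section shuffles
variable (R : Type u) [CommRing R] (A B C D : Type u)
  [AddCommGroup A] [Module R A] [AddCommGroup B] [Module R B]
  [AddCommGroup C] [Module R C] [AddCommGroup D] [Module R D]

/-- `A × ((B × C) × D) ≃ ((B × A) × D) × C` -/
def shuffle1 : (A × ((B × C) × D)) ≃ₗ[R] (((B × A) × D) × C) where
  toFun x := (((x.2.1.1, x.1), x.2.2), x.2.1.2)
  invFun y := (y.1.1.2, ((y.1.1.1, y.2), y.1.2))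
  map_add' _ _ := rfl
  map_smul' _ _ := rfl
  left_inv _ := rfl
  right_inv _ := rfl

/-- `A × ((B × C) × D) ≃ ((A × B) × D) × C` -/
def shuffle3 : (A × ((B × C) × D)) ≃ₗ[R] (((A × B) × D) × C) where
  toFun x := (((x.1, x.2.1.1), x.2.2), x.2.1.2)
  invFun y := (y.1.1.1, ((y.1.1.2, y.2), y.1.2))
  map_add' _ _ := rfl
  map_smul' _ _ := rfl
  left_inv _ := rfl
  right_inv _ := rfl

/-- `(A × B) × (C × D) ≃ (A × C) × (B × D)` -/
def shuffle2 : ((A × B) × (C × D)) ≃ₗ[R] ((A × C) × (B × D)) where
  toFun x := ((x.1.1, x.2.1), (x.1.2, x.2.2))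
  invFun y := ((y.1.1, y.2.1), (y.1.2, y.2.2))
  map_add' _ _ := rfl
  map_smul' _ _ := rfl
  left_inv _ := rfl
  right_inv _ := rfl

end shuffles

/-- Let `R` be a commutative ring and `P'`, `P`, `P''` finitely generated projective `R`-modules in an
exact sequence `0 → P' → P → P'' → 0`. Whenever two of the three are stably free, the remaining one
is stably free too (all three cases are stated). -/
theorem result {R : Type u} [CommRing R] {P' P P'' : Type u}
    [AddCommGroup P'] [Module R P'] [Module.Finite R P'] [Module.Projective R P']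
    [AddCommGroup P] [Module R P] [Module.Finite R P] [Module.Projective R P]
    [AddCommGroup P''] [Module R P''] [Module.Finite R P''] [Module.Projective R P'']
    (f : P' →ₗ[R] P) (g : P →ₗ[R] P'') (hf : Function.Injective f) (hg : Function.Surjective g)
    (hfg : Function.Exact f g) :
    (Module.IsStablyFree R P' → Module.IsStablyFree R P → Module.IsStablyFree R P'') ∧
    (Module.IsStablyFree R P' → Module.IsStablyFree R P'' → Module.IsStablyFree R P) ∧
    (Module.IsStablyFree R P → Module.IsStablyFree R P'' → Module.IsStablyFree R P') := by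
  obtain ⟨l, hl⟩ := Module.projective_lifting_property g LinearMap.id hg
  let e : P ≃ₗ[R] P' × P'' := (hfg.splitSurjectiveEquiv hf ⟨l, hl⟩).1
  refine ⟨?_, ?_, ?_⟩
  · intro h' h
    obtain ⟨N', _, _, _, _, _⟩ := Module.IsStablyFree.exist_free_prod R P'
    obtain ⟨N, _, _, _, _, _⟩ := Module.IsStablyFree.exist_free_prod R P
    have e1 : (P'' × ((P' × N') × N)) ≃ₗ[R] ((P × N) × N') :=
      (shuffle1 R P'' P' N' N).trans
        (((e.symm).prodCongr (LinearEquiv.refl R N)).prodCongr (LinearEquiv.refl R N'))
    haveI : Module.Free R (P'' × ((P' × N') × N)) := Module.Free.of_equiv e1.symm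
    exact Module.IsStablyFree.of_free_prod R P'' ((P' × N') × N)
  · intro h' h''
    obtain ⟨N', _, _, _, _, _⟩ := Module.IsStablyFree.exist_free_prod R P'
    obtain ⟨N'', _, _, _, _, _⟩ := Module.IsStablyFree.exist_free_prod R P''
    have e1 : (P × (N' × N'')) ≃ₗ[R] ((P' × N') × (P'' × N'')) :=
      (e.prodCongr (LinearEquiv.refl R (N' × N''))).trans (shuffle2 R P' P'' N' N'')
    haveI : Module.Free R (P × (N' × N'')) := Module.Free.of_equiv e1.symm
    exact Module.IsStablyFree.of_free_prod R P (N' × N'')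
  · intro h h''
    obtain ⟨N, _, _, _, _, _⟩ := Module.IsStablyFree.exist_free_prod R P
    obtain ⟨N'', _, _, _, _, _⟩ := Module.IsStablyFree.exist_free_prod R P''
    have e1 : (P' × ((P'' × N'') × N)) ≃ₗ[R] ((P × N) × N'') :=
      (shuffle3 R P' P'' N'' N).trans
        (((e.symm).prodCongr (LinearEquiv.refl R N)).prodCongr (LinearEquiv.refl R N''))
    haveI : Module.Free R (P' × ((P'' × N'') × N)) := Module.Free.of_equiv e1.symm
    exact Module.IsStablyFree.of_free_prod R P' ((P'' × N'') × N)

end Groth.Agent.S6862
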