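import Groth.Statements.S6864
import Mathlib

set_option autoImplicit false
universe u
open TensorProduct
open CAlg

namespace Groth.Agent.S6864

theorem one_tmul_eq_zero_iff {R : Type u} [CommRing R] (I : Ideal R) {M : Type u} [AddCommGroup M]
    [Module R M] (x : M) :
    ((1 : R ⧸ I) ⊗ₜ[R] x = 0) ↔ x ∈ I • (⊤ : Submodule R M) := by
  rw [← (TensorProduct.quotTensorEquivQuotSMul M I).map_eq_zero_iff,
    TensorProduct.quotTensorEquivQuotSMul_mk_one_tmul, Submodule.Quotient.mk_eq_zero]

/-- Let `I` be an ideal of a commutative ring `R` contained in the Jacobson radical and let `φ : P → P'`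
be an `R`-linear map between finite projective `R`-modules. If the induced map `P/IP → P'/IP'` is
bijective, then `φ` is bijective. -/
theorem result {R : Type u} [CommRing R] (I : Ideal R)
    (hI : I ≤ Ideal.jacobson (⊥ : Ideal R)) {P P' : Type u}
    [AddCommGroup P] [Module R P] [Module.Finite R P] [Module.Projective R P]
    [AddCommGroup P'] [Module R P'] [Module.Finite R P'] [Module.Projective R P'] (φ : P →ₗ[R] P')
    (h : Function.Bijective (φ.baseChange (R ⧸ I))) : Function.Bijective φ := by
  have hsurj : Function.Surjective φ := by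
    apply LinearMap.surjective_of_surjective_comp_mkQ φ I hI
    intro q
    obtain ⟨y, rfl⟩ := Submodule.mkQ_surjective _ q
    obtain ⟨z, hz⟩ := h.2 ((1 : R ⧸ I) ⊗ₜ[R] y)
    obtain ⟨p, rfl⟩ := TensorProduct.mk_surjective R P (R ⧸ I) Ideal.Quotient.mk_surjective z
    refine ⟨p, ?_⟩
    have h1 : (1 : R ⧸ I) ⊗ₜ[R] (φ p - y) = 0 := by
      rw [TensorProduct.tmul_sub, sub_eq_zero, ← hz]
      simp
    rw [one_tmul_eq_zero_iff] at h1
    simp only [LinearMap.coe_comp, Function.comp_apply, Submodule.mkQ_apply]
    rw [← sub_eq_zero, ← Submodule.Quotient.mk_sub, Submodule.Quotient.mk_eq_zero]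
    exact h1
  refine ⟨?_, hsurj⟩
  obtain ⟨s, hs⟩ := Module.projective_lifting_property φ LinearMap.id hsurj
  let π : P →ₗ[R] P := LinearMap.id - s ∘ₗ φ
  have hπφ : ∀ p, φ (π p) = 0 := by
    intro p
    have := LinearMap.congr_fun hs (φ p)
    simp only [LinearMap.coe_comp, Function.comp_apply, LinearMap.id_coe, id_eq] at this
    simp [π, this]
  have hπker : ∀ k, φ k = 0 → π k = k := by
    intro k hk
    simp [π, hk]
  have hrange : LinearMap.range π = LinearMap.ker φ := by
    apply le_antisymm
    · rintro _ ⟨p, rfl⟩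
      exact hπφ p
    · intro k hk
      exact ⟨k, hπker k hk⟩
  have hfg : (LinearMap.ker φ).FG := by
    rw [← hrange, LinearMap.range_eq_map]
    exact (Module.finite_def.mp inferInstance).map π
  have hle : LinearMap.ker φ ≤ I • LinearMap.ker φ := by
    intro k hk
    have h1 : (1 : R ⧸ I) ⊗ₜ[R] k = 0 := by
      apply h.1
      simp [LinearMap.mem_ker.mp hk]
    rw [one_tmul_eq_zero_iff] at h1
    have h2 : π k ∈ Submodule.map π (I • (⊤ : Submodule R P)) := ⟨k, h1, rfl⟩
    rw [Submodule.map_smul'', Submodule.map_top, hrange, hπker k hk] at h2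
    exact h2
  have hbot := Submodule.eq_bot_of_le_smul_of_le_jacobson_bot I _ hfg hle hI
  exact LinearMap.ker_eq_bot.mp hbot

end Groth.Agent.S6864
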