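import Groth.Statements.S6866
import Mathlib

set_option autoImplicit false
universe u
open TensorProduct
open CAlg

namespace Groth.Agent.S6866

/-- If `M` is a torsion free module over a domain `R` and `R → R'` is a flat ring map to another domain,
then `R' ⊗_R M` is torsion free over `R'`. -/
theorem result (R R' : Type u) [CommRing R] [IsDomain R] [CommRing R']
    [IsDomain R'] [Algebra R R'] [Module.Flat R R'] (M : Type u) [AddCommGroup M] [Module R M]
    [Module.IsTorsionFree R M] : Module.IsTorsionFree R' (R' ⊗[R] M) := by
  let S := nonZeroDivisors R
  let N := LocalizedModule S M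
  let f : M →ₗ[R] N := LocalizedModule.mkLinearMap S M
  have hf : Function.Injective f := by
    rw [IsLocalizedModule.injective_iff_isRegular S f]
    intro c
    have hc : IsRegular (c : R) := isRegular_of_ne_zero (nonZeroDivisors.ne_zero c.2)
    exact hc.isSMulRegular
  haveI : Module.Flat R (FractionRing R) := IsLocalization.flat (FractionRing R) S
  haveI : Module.Flat R N := Module.Flat.trans R (FractionRing R) N
  constructor
  intro r' hr'
  have hinj1 : Function.Injective (f.lTensor R') :=
    Module.Flat.lTensor_preserves_injective_linearMap f hf
  have hr'inj : Function.Injective (LinearMap.lsmul R' R' r' |>.restrictScalars R) := by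
    intro a b hab
    exact hr'.1 (by simpa using hab)
  have hinj2 : Function.Injective ((LinearMap.lsmul R' R' r' |>.restrictScalars R).rTensor N) :=
    Module.Flat.rTensor_preserves_injective_linearMap _ hr'inj
  intro x y hxy
  apply hinj1
  apply hinj2
  have key : ∀ z : R' ⊗[R] M,
      ((LinearMap.lsmul R' R' r' |>.restrictScalars R).rTensor N) (f.lTensor R' z)
        = f.lTensor R' (r' • z) := by
    intro z
    induction z using TensorProduct.induction_on with
    | zero => simp
    | tmul a m => simp [TensorProduct.smul_tmul']
    | add a b ha hb => simp only [map_add, smul_add, ha, hb]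
  rw [key, key]
  exact congrArg _ hxy

end Groth.Agent.S6866
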