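import Groth.Statements.S6869
import Groth.Agent.H34.TorsionFreeEmb

set_option autoImplicit false
universe u
open CAlg

namespace Groth.Agent.S6869

theorem dual_isTorsionFree (R : Type u) [CommRing R] (N : Type u) [AddCommGroup N] [Module R N] :
    Module.IsTorsionFree R (Module.Dual R N) := by
  constructor
  intro r hr φ ψ h
  ext x
  have := LinearMap.congr_fun h x
  simp only [LinearMap.smul_apply, smul_eq_mul] at this
  exact hr.1 this

/-- For a domain `R` and a finite `R`-module `M`, the evaluation map `M → M**` into the double dual is
injective exactly when `M` is torsion free. -/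
theorem result (R : Type u) [CommRing R] [IsDomain R] (M : Type u)
    [AddCommGroup M] [Module R M] [Module.Finite R M] :
    Function.Injective (Module.Dual.eval R M) ↔ Module.IsTorsionFree R M := by
  constructor
  · intro h
    haveI := dual_isTorsionFree R (Module.Dual R M)
    exact Function.Injective.moduleIsTorsionFree (Module.Dual.eval R M) h
      (fun r m => map_smul (Module.Dual.eval R M) r m)
  · intro h
    obtain ⟨n, f, hf⟩ := Groth.Agent.H34.exists_injective_into_free R M
    rw [← LinearMap.ker_eq_bot, Submodule.eq_bot_iff]
    intro x hx
    rw [LinearMap.mem_ker] at hx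
    apply hf
    rw [map_zero]
    funext i
    have := LinearMap.congr_fun hx ((LinearMap.proj i) ∘ₗ f)
    simpa using this

end Groth.Agent.S6869
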