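import Groth.Statements.S6875
import Groth.Agent.H34.Reflexive2

set_option autoImplicit false
universe u
open CAlg

namespace Groth.Agent.S6875

/-- Let `R` be a Noetherian domain, `M` a finite `R`-module and `N` a finite reflexive `R`-module. Then
`Hom_R(M, N)` is reflexive. -/
theorem result (R : Type u) [CommRing R] [IsDomain R] [IsNoetherianRing R]
    (M N : Type u) [AddCommGroup M] [Module R M] [Module.Finite R M] [AddCommGroup N] [Module R N] [Module.Finite R N]
    [Module.IsReflexive R N] : Module.IsReflexive R (M →ₗ[R] N) := by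
  obtain ⟨b, π, hπ⟩ := Module.Finite.exists_fin' R M
  have : Module.Finite R (LinearMap.ker π) := inferInstance
  obtain ⟨a, ρ, hρ⟩ := Module.Finite.exists_fin' R (LinearMap.ker π)
  let κ : (Fin a → R) →ₗ[R] (Fin b → R) := (LinearMap.ker π).subtype ∘ₗ ρ
  let F : (M →ₗ[R] N) →ₗ[R] ((Fin b → R) →ₗ[R] N) := LinearMap.lcomp R N π
  let G : ((Fin b → R) →ₗ[R] N) →ₗ[R] ((Fin a → R) →ₗ[R] N) := LinearMap.lcomp R N κ
  have hF : Function.Injective F := LinearMap.lcomp_injective_of_surjective π hπ
  have hFG : Function.Exact F G := by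
    intro h
    constructor
    · intro hG
      have hker : LinearMap.ker π ≤ LinearMap.ker h := by
        intro z hz
        obtain ⟨w, hw⟩ := hρ ⟨z, hz⟩
        have h1 : h (κ w) = 0 := LinearMap.congr_fun hG w
        have hκ : κ w = z := by
          show ((ρ w : LinearMap.ker π) : Fin b → R) = z
          rw [hw]
        rw [LinearMap.mem_ker, ← hκ]
        exact h1
      obtain ⟨h', hh'⟩ := Groth.Agent.H34.exists_factor_of_ker_le π hπ h hker
      exact ⟨h', LinearMap.ext fun z => hh' z⟩
    · rintro ⟨h', rfl⟩
      refine LinearMap.ext fun w => ?_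
      have h1 : π (κ w) = 0 := (ρ w).2
      show h' (π (κ w)) = 0
      rw [h1, map_zero]
  have : Module.IsReflexive R (Fin b → N) := Groth.Agent.H34.isReflexive_pi_fin R N b
  have : Module.IsReflexive R (Fin a → N) := Groth.Agent.H34.isReflexive_pi_fin R N a
  have : Module.IsReflexive R ((Fin b → R) →ₗ[R] N) := Module.equiv (Module.piEquiv (Fin b) R N)
  have : Module.IsReflexive R ((Fin a → R) →ₗ[R] N) := Module.equiv (Module.piEquiv (Fin a) R N)
  have : Module.Finite R (M →ₗ[R] N) := inferInstance
  exact ⟨Groth.Agent.H34.bijective_eval_of_exact F G hF hFG (Module.bijective_dual_eval R _)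
    (Module.bijective_dual_eval R _).1⟩

end Groth.Agent.S6875
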