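import Groth.Statements.S6882
import Mathlib.LinearAlgebra.FreeModule.PID
import Mathlib.Algebra.Module.Torsion.Basic
import Mathlib.LinearAlgebra.Dual.Lemmas
import Mathlib.LinearAlgebra.FreeModule.Finite.Basic

set_option autoImplicit false
universe u
open CAlg

namespace Groth.Agent.S6882

open Submodule in
/-- For a finite module `M` over a discrete valuation ring `R`, the evaluation map from `M` to its
double dual `M**` is surjective. -/
theorem result (R : Type u) [CommRing R] [IsDomain R]
    [IsDiscreteValuationRing R] (M : Type u) [AddCommGroup M] [Module R M] [Module.Finite R M] :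
    Function.Surjective (Module.Dual.eval R M) := by
  classical
  let T := torsion R M
  let F := M ⧸ T
  let π : M →ₗ[R] F := T.mkQ
  have hπ : Function.Surjective π := T.mkQ_surjective
  have hfree : Module.Free R F := Module.free_of_finite_type_torsion_free'
  have hrefl : Module.IsReflexive R F := inferInstance
  -- every functional kills torsion
  have hkill : ∀ (f : Module.Dual R M), T ≤ LinearMap.ker f := by
    intro f t ht
    obtain ⟨a, ha⟩ := (mem_torsion_iff t).mp ht
    rw [LinearMap.mem_ker]
    have h1 : (a : R) • f t = 0 := by
      rw [← map_smul]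
      have : (a : R) • t = 0 := ha
      rw [this, map_zero]
    rcases smul_eq_zero.mp h1 with h | h
    · exact absurd h (nonZeroDivisors.coe_ne_zero a)
    · exact h
  intro ψ
  -- transport `ψ` to the double dual of `F`
  let ψ' : Module.Dual R (Module.Dual R F) := ψ ∘ₗ π.dualMap
  obtain ⟨y, hy⟩ := (Module.bijective_dual_eval R F).2 ψ'
  obtain ⟨x, hx⟩ := hπ y
  refine ⟨x, ?_⟩
  ext f
  let g : Module.Dual R F := T.liftQ f (hkill f)
  have hg : π.dualMap g = f := by
    ext m
    simp only [g, π, LinearMap.dualMap_apply]
    exact Submodule.liftQ_apply T f m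
  rw [Module.Dual.eval_apply, ← hg]
  have h2 : ψ' g = ψ (π.dualMap g) := rfl
  rw [← h2, ← hy, Module.Dual.eval_apply, LinearMap.dualMap_apply, hx]

end Groth.Agent.S6882
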