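import Groth.Statements.S6884
import Groth.Agent.S6883
import Groth.Agent.H48.FlatLimitCol

set_option autoImplicit false
universe u
open TensorProduct
open CAlg

namespace Groth.Agent.S6884

/-- For an injective integral ring map `R → S` and `n ≥ 0`, let `M` be a module of finite presentation
over the polynomial ring `R[x_1, …, x_n]`. Then flatness of `S ⊗_R M` over `S` forces flatness of
`M` over `R`. -/
theorem result (R S : Type u) [CommRing R]
    [CommRing S] [Algebra R S] [Algebra.IsIntegral R S] (hinj : Function.Injective (algebraMap R S)) (n : ℕ)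
    (M : Type u) [AddCommGroup M] [Module (MvPolynomial (Fin n) R) M] [Module R M]
    [IsScalarTower R (MvPolynomial (Fin n) R) M] [Module.FinitePresentation (MvPolynomial (Fin n) R) M]
    [Module.Flat S (S ⊗[R] M)] : Module.Flat R M := by
  classical
  rcases subsingleton_or_nontrivial R with hR | hR
  · haveI : Subsingleton M := Module.subsingleton R M
    infer_instance
  -- Step 1: a model over a finite type `ℤ`-algebra
  obtain ⟨C, _, _, _, S₀, _, _, _, _, _, _, _, _, M₀, _, _, _, _, _, _, _, h, hbc⟩ :=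
    Groth.Agent.H48.FlatLimit.exists_model_data R (MvPolynomial (Fin n) R) M
  let eM : R ⊗[C] M₀ ≃ₗ[R] M :=
    (Algebra.IsPushout.cancelBaseChange C R S₀ (MvPolynomial (Fin n) R) M₀).symm ≪≫ₗ
      (hbc.equiv.restrictScalars R)
  -- Step 2: `S` as a `C`-algebra
  letI : Algebra C S := ((algebraMap R S).comp (algebraMap C R)).toAlgebra
  haveI : IsScalarTower C R S := IsScalarTower.of_algebraMap_eq (fun _ => rfl)
  haveI : Module.Flat S (S ⊗[C] M₀) := by
    let e2 : S ⊗[C] M₀ ≃ₗ[S] S ⊗[R] M :=
      (TensorProduct.AlgebraTensorModule.cancelBaseChange C R S S M₀).symm ≪≫ₗ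
        (TensorProduct.AlgebraTensorModule.congr (LinearEquiv.refl S S) eM)
    exact Module.Flat.of_linearEquiv e2
  -- Step 3: finite stage
  haveI : IsNoetherianRing C := Algebra.FiniteType.isNoetherianRing ℤ C
  obtain ⟨S₁, hS₁fg, hS₁⟩ := Groth.Agent.H48.FlatLimit.exists_fg_flat_module' C S₀ M₀ S
  obtain ⟨t, ht⟩ := hS₁fg
  -- Step 4: integral equations
  choose p hpm hp0 using fun s : S => Algebra.IsIntegral.isIntegral (R := R) s
  let cs : Set R := ⋃ s ∈ t, ((p s).coeffs : Set R)
  have hcs : cs.Finite := Set.Finite.biUnion t.finite_toSet (fun s _ => Finset.finite_toSet _)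
  let R₁ : Subalgebra C R := Algebra.adjoin C cs
  haveI : Algebra.FiniteType C R₁ := Algebra.FiniteType.adjoin_of_finite hcs
  haveI : IsNoetherianRing R₁ := Algebra.FiniteType.isNoetherianRing C R₁
  have hint : ∀ s ∈ (t : Set S), IsIntegral R₁ s := by
    intro s hs
    have hl : p s ∈ Polynomial.lifts (algebraMap R₁ R) := by
      rw [Polynomial.lifts_iff_coeffs_subset_range]
      intro c hc
      have hc' : c ∈ cs := Set.mem_biUnion hs hc
      exact ⟨⟨c, Algebra.subset_adjoin hc'⟩, rfl⟩
    obtain ⟨q, hq, -, hqm⟩ := Polynomial.lifts_and_degree_eq_and_monic hl (hpm s)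
    refine ⟨q, hqm, ?_⟩
    have h0 := hp0 s
    rw [← hq, Polynomial.eval₂_map] at h0
    exact h0
  let Sfin : Subalgebra R₁ S := Algebra.adjoin R₁ (t : Set S)
  haveI : Module.Finite R₁ Sfin := Algebra.finite_adjoin_of_finite_of_isIntegral t.finite_toSet hint
  haveI : IsNoetherianRing Sfin := IsNoetherianRing.of_finite R₁ Sfin
  have hinj' : Function.Injective (algebraMap R₁ Sfin) := by
    intro a b hab
    have h1 : algebraMap R S (a : R) = algebraMap R S (b : R) := congrArg Subtype.val hab
    exact Subtype.ext (hinj h1)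
  have hle : S₁ ≤ Sfin.restrictScalars C := by
    rw [← ht]
    exact Algebra.adjoin_le (fun x hx => Algebra.subset_adjoin (R := R₁) hx)
  have hfg : (Sfin.restrictScalars C).FG := by
    rw [Subalgebra.fg_iff_finiteType]
    haveI : Algebra.FiniteType R₁ Sfin := inferInstance
    exact (Algebra.FiniteType.trans (R := C) (S := R₁) (A := Sfin) inferInstance inferInstance)
  -- Step 5
  have hfl : Module.Flat ↥(Sfin.restrictScalars C) (↥(Sfin.restrictScalars C) ⊗[C] M₀) :=
    hS₁ _ hle hfg
  have hfl' : Module.Flat Sfin (Sfin ⊗[C] M₀) := hfl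
  haveI : Module.Flat Sfin (Sfin ⊗[R₁] (R₁ ⊗[C] M₀)) :=
    Module.Flat.of_linearEquiv
      (TensorProduct.AlgebraTensorModule.cancelBaseChange C R₁ Sfin Sfin M₀)
  have hM₁ : Module.Flat R₁ (R₁ ⊗[C] M₀) :=
    Groth.Agent.S6883.result R₁ Sfin hinj' (R₁ ⊗[C] M₀)
  -- Step 6
  haveI : Module.Flat R (R ⊗[R₁] (R₁ ⊗[C] M₀)) := inferInstance
  haveI : Module.Flat R (R ⊗[C] M₀) :=
    Module.Flat.of_linearEquiv
      (TensorProduct.AlgebraTensorModule.cancelBaseChange C R₁ R R M₀).symm
  exact Module.Flat.of_linearEquiv eM.symm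

end Groth.Agent.S6884
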