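import Groth.Statements.S6887
import Mathlib

set_option autoImplicit false
universe u
open Polynomial
open CAlg

namespace Groth.Agent.S6887

/-- Let `(A, I)` be a Zariski pair (`I` inside the Jacobson radical) and `A → B` a finite ring map.
Suppose `B/IB ≅ B₁ × B₂` as `A`-algebras with `A → B₁` surjective, and `b ∈ B` maps to `(1, 0)`.
Then there is a monic `f ∈ A[x]` with `f(b) = 0` whose reduction modulo `I` is `(x - 1) x^d` for
some `d ≥ 1`. -/
theorem result (A B : Type u) [CommRing A] [CommRing B]
    [Algebra A B] [Module.Finite A B] (I : Ideal A) (hI : I ≤ Ideal.jacobson (⊥ : Ideal A))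
    (B₁ B₂ : Type u) [CommRing B₁] [CommRing B₂] [Algebra A B₁] [Algebra A B₂]
    (e : (B ⧸ I.map (algebraMap A B)) ≃ₐ[A] B₁ × B₂) (h₁ : Function.Surjective (algebraMap A B₁)) (b : B)
    (hb : e (Ideal.Quotient.mk (I.map (algebraMap A B)) b) = (1, 0)) :
    ∃ (f : A[X]) (d : ℕ), f.Monic ∧ Polynomial.aeval b f = 0 ∧ 1 ≤ d ∧
      f.map (Ideal.Quotient.mk I) = (X - 1) * X ^ d := by
  classical
  obtain ⟨n, s, hs⟩ := Module.Finite.exists_fin (R := A) (M := B)
  let q : B →ₐ[A] B ⧸ I.map (algebraMap A B) := Ideal.Quotient.mkₐ A (I.map (algebraMap A B))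
  have hq : ∀ x, q x = Ideal.Quotient.mk (I.map (algebraMap A B)) x := fun x => rfl
  have hb' : e (q b) = (1, 0) := hb
  have hker : ∀ x : B, e (q x) = 0 → x ∈ I.map (algebraMap A B) := by
    intro x hx
    rw [← Ideal.Quotient.eq_zero_iff_mem, ← hq]
    exact e.injective (by rw [hx, map_zero])
  choose a ha using fun i => h₁ (e (q (s i))).1
  let y : Fin n → B := fun i => s i - a i • b
  have hy : ∀ i, b * y i ∈ I.map (algebraMap A B) := by
    intro i
    apply hker
    have h1 : e (q (y i)) = e (q (s i)) - a i • ((1, 0) : B₁ × B₂) := by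
      simp only [y, map_sub, map_smul, hb']
    rw [map_mul, map_mul, hb', h1]
    ext
    · simp only [Prod.fst_mul, Prod.fst_sub, Prod.smul_fst, Prod.fst_zero, one_mul]
      rw [← ha i, Algebra.smul_def, mul_one, sub_self]
    · simp
  have hbb : b * b - b ∈ I.map (algebraMap A B) := by
    apply hker
    rw [map_sub, map_sub, map_mul, map_mul, hb']
    ext <;> simp
  let g : Option (Fin n) → B := fun o => o.elim b y
  have hg : Submodule.span A (Set.range g) = ⊤ := by
    rw [eq_top_iff, ← hs, Submodule.span_le]
    rintro _ ⟨i, rfl⟩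
    have : s i = y i + a i • b := by simp [y]
    rw [this]
    exact add_mem (Submodule.subset_span ⟨some i, rfl⟩)
      (Submodule.smul_mem _ _ (Submodule.subset_span ⟨none, rfl⟩))
  have hmem : ∀ j, b * g j - (if j = none then b else 0) ∈
      I • Submodule.span A (Set.range g) := by
    intro j
    rw [hg, Ideal.smul_top_eq_map]
    cases j with
    | none => simpa [g] using hbb
    | some i => simpa [g] using hy i
  have hex := fun j => (Submodule.mem_ideal_smul_span_iff_exists_sum I g _).mp (hmem j)
  choose c hcI hc using hex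
  let Mat : Matrix (Option (Fin n)) (Option (Fin n)) A :=
    Matrix.of (fun i j => c j i + (if i = none ∧ j = none then 1 else 0))
  have hMat : ∀ i j, Mat i j = c j i + (if i = none ∧ j = none then 1 else 0) := fun i j => rfl
  have hrep : Mat.Represents g (Algebra.lmul A B b) := by
    rw [Matrix.represents_iff']
    intro j
    simp only [hMat, add_smul, Finset.sum_add_distrib]
    have h1 : ∑ i, c j i • g i = b * g j - (if j = none then b else 0) := by
      rw [← hc j, Finsupp.sum_fintype]
      intro i; simp
    rw [h1]
    have h2 : ∑ i : Option (Fin n), (if i = none ∧ j = none then (1 : A) else 0) • g i =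
        if j = none then b else 0 := by
      by_cases hj : j = none
      · subst hj
        simp [Fintype.sum_option, g]
      · simp [hj]
    rw [h2]
    simp
  -- Cayley-Hamilton
  let A' : Matrix.isRepresentation A g := ⟨Mat, Algebra.lmul A B b, hrep⟩
  have hA' : Matrix.isRepresentation.toEnd A g hg A' = Algebra.lmul A B b :=
    Matrix.isRepresentation.eq_toEnd_of_represents A g hg A' hrep
  have hCH : Polynomial.aeval (Algebra.lmul A B b) Mat.charpoly = 0 := by
    rw [← hA', Polynomial.aeval_algHom_apply,
      ← map_zero (Matrix.isRepresentation.toEnd A g hg)]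
    congr 1
    ext1
    rw [Polynomial.aeval_subalgebra_coe, Matrix.aeval_self_charpoly, Subalgebra.coe_zero]
  have hzero : Polynomial.aeval b Mat.charpoly = 0 := by
    rw [Polynomial.aeval_algHom_apply] at hCH
    have := LinearMap.congr_fun hCH 1
    simpa using this
  -- reduction mod I
  have hmap : Mat.charpoly.map (Ideal.Quotient.mk I) = (X - 1) * X ^ n := by
    rw [← Matrix.charpoly_map]
    have : Mat.map (Ideal.Quotient.mk I) =
        Matrix.diagonal (fun i : Option (Fin n) => if i = none then (1 : A ⧸ I) else 0) := by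
      ext i j
      rw [Matrix.map_apply, hMat, map_add, Matrix.diagonal_apply,
        Ideal.Quotient.eq_zero_iff_mem.mpr (hcI j i), zero_add]
      by_cases hi : i = none
      · subst hi
        by_cases hj : j = none
        · subst hj; simp
        · have : none ≠ j := fun h => hj h.symm
          simp [hj, this]
      · by_cases hij : i = j
        · subst hij; simp [hi]
        · simp [hi, hij]
    rw [this, Matrix.charpoly_diagonal, Fintype.prod_option]
    simp
  refine ⟨Mat.charpoly * X, n + 1, (Matrix.charpoly_monic Mat).mul monic_X, ?_, by omega, ?_⟩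
  · rw [map_mul, hzero, zero_mul]
  · rw [Polynomial.map_mul, hmap, Polynomial.map_X, pow_succ, mul_assoc]

end Groth.Agent.S6887
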