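import Groth.Statements.S6888
import Mathlib.Tactic
-- import your own Groth.Agent.* helpers here

set_option autoImplicit false
universe u
open Polynomial
open CAlg

namespace Groth.Agent.S6888

section
variable {A : Type u} [CommRing A]

lemma eq_zero_of_idem_mem_jacobson {e : A} (he : IsIdempotentElem e)
    (hj : e ∈ Ideal.jacobson (⊥ : Ideal A)) : e = 0 := by
  have hu : IsUnit (e * (-1) + 1) := Ideal.mem_jacobson_bot.mp hj (-1)
  have h0 : e * (e * (-1) + 1) = 0 := by
    have h1 : e * e = e := he
    calc e * (e * (-1) + 1) = -(e * e) + e := by ring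
      _ = 0 := by rw [h1]; ring
  exact (hu.mul_left_eq_zero).mp h0

lemma henselian_aux (I : Ideal A) (hI : I ≤ Ideal.jacobson (⊥ : Ideal A))
    (hidem : ∀ e : A ⧸ I, IsIdempotentElem e →
      ∃ e' : A, IsIdempotentElem e' ∧ Ideal.Quotient.mk I e' = e)
    (n : ℕ) (a : Fin n → A) (f : A[X]) (hf : f = ∏ i, (X - C (a i))) (x : A)
    (hx : f.eval x ∈ I) (hu : IsUnit (Ideal.Quotient.mk I (f.derivative.eval x))) :
    ∃ r : A, f.IsRoot r ∧ r - x ∈ I := by
  classical
  set q := Ideal.Quotient.mk I with hq
  let P : Fin n → A := fun j => ∏ i ∈ Finset.univ.erase j, (x - a i)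
  have hF : ∀ y : A, f.eval y = ∏ i, (y - a i) := by
    intro y; rw [hf, eval_prod]; simp
  have hF' : f.derivative.eval x = ∑ j, P j := by
    rw [hf, derivative_prod_finset, eval_finsetSum]
    refine Finset.sum_congr rfl fun j _ => ?_
    rw [derivative_X_sub_C, mul_one, eval_prod]
    simp only [P, eval_sub, eval_X, eval_C]
  have hPj : ∀ j, (x - a j) * P j = f.eval x := fun j => by
    rw [hF]; exact Finset.mul_prod_erase Finset.univ (fun i => x - a i) (Finset.mem_univ j)
  have hPP : ∀ j l, j ≠ l → P j * P l ∈ I := by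
    intro j l hjl
    have hmem : j ∈ Finset.univ.erase l := Finset.mem_erase.mpr ⟨hjl, Finset.mem_univ j⟩
    have h1 : P l = (x - a j) * ∏ i ∈ (Finset.univ.erase l).erase j, (x - a i) :=
      (Finset.mul_prod_erase (Finset.univ.erase l) (fun i => x - a i) hmem).symm
    rw [h1, ← mul_assoc, mul_comm (P j) (x - a j), hPj j]
    exact I.mul_mem_right _ hx
  obtain ⟨u, hu'⟩ := hu
  let v : A ⧸ I := ↑u⁻¹
  have huv : (∑ j, q (P j)) * v = 1 := by
    have h1 : (∑ j, q (P j)) = ↑u := by rw [hu', hF', map_sum]
    rw [h1]; exact Units.mul_inv u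
  let eb : Fin n → A ⧸ I := fun j => q (P j) * v
  have hsum : ∑ j, eb j = 1 := by
    simp only [eb, ← Finset.sum_mul]; exact huv
  have horth : ∀ j l, j ≠ l → eb j * eb l = 0 := by
    intro j l hjl
    have h1 : q (P j) * q (P l) = 0 := by
      rw [← map_mul]; exact Ideal.Quotient.eq_zero_iff_mem.mpr (hPP j l hjl)
    calc eb j * eb l = (q (P j) * q (P l)) * (v * v) := by simp only [eb]; ring
      _ = 0 := by rw [h1, zero_mul]
  have hidemb : ∀ j, IsIdempotentElem (eb j) := by
    intro j
    show eb j * eb j = eb j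
    have h1 : eb j = eb j * ∑ l, eb l := by rw [hsum, mul_one]
    have h2 : eb j * ∑ l, eb l = eb j * eb j := by
      rw [Finset.mul_sum, Finset.sum_eq_single j]
      · intro l _ hlj; exact horth j l (Ne.symm hlj)
      · intro h; exact absurd (Finset.mem_univ j) h
    rw [← h2, ← h1]
  have hkill : ∀ j, eb j * q (x - a j) = 0 := by
    intro j
    have h1 : q (P j) * q (x - a j) = 0 := by
      rw [← map_mul, mul_comm, hPj j]; exact Ideal.Quotient.eq_zero_iff_mem.mpr hx
    calc eb j * q (x - a j) = (q (P j) * q (x - a j)) * v := by simp only [eb]; ring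
      _ = 0 := by rw [h1, zero_mul]
  choose e he_idem he_q using fun j => hidem (eb j) (hidemb j)
  have hzero : ∀ y : A, IsIdempotentElem y → q y = 0 → y = 0 := fun y hy hqy =>
    eq_zero_of_idem_mem_jacobson hy (hI (Ideal.Quotient.eq_zero_iff_mem.mp hqy))
  have horthA : ∀ j l, j ≠ l → e j * e l = 0 := by
    intro j l hjl
    apply hzero _ ((he_idem j).mul (he_idem l))
    rw [map_mul, he_q, he_q, horth j l hjl]
  have hsq : ∀ j, e j * e j = e j := fun j => he_idem j
  have hE : ∑ j, e j = 1 := by
    have hEidem : IsIdempotentElem (∑ j, e j) := by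
      show (∑ j, e j) * (∑ j, e j) = ∑ j, e j
      rw [Finset.sum_mul]
      refine Finset.sum_congr rfl fun j _ => ?_
      rw [Finset.mul_sum, Finset.sum_eq_single j, hsq]
      · intro l _ hlj; exact horthA j l (Ne.symm hlj)
      · intro h; exact absurd (Finset.mem_univ j) h
    have h1 : IsIdempotentElem (1 - ∑ j, e j) := hEidem.one_sub
    have h2 : q (1 - ∑ j, e j) = 0 := by
      rw [map_sub, map_one, map_sum]
      simp only [he_q, hsum, sub_self]
    have h3 := hzero _ h1 h2
    exact (sub_eq_zero.mp h3).symm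
  refine ⟨∑ j, e j * a j, ?_, ?_⟩
  · show f.eval _ = 0
    rw [hF]
    set r := ∑ j, e j * a j with hr
    have hej : ∀ j, e j * (r - a j) = 0 := by
      intro j
      have h1 : e j * r = e j * a j := by
        rw [hr, Finset.mul_sum, Finset.sum_eq_single j]
        · rw [← mul_assoc, hsq]
        · intro l _ hlj; rw [← mul_assoc, horthA j l (Ne.symm hlj), zero_mul]
        · intro h; exact absurd (Finset.mem_univ j) h
      rw [mul_sub, h1, sub_self]
    have hprod : ∀ j, e j * ∏ i, (r - a i) = 0 := by
      intro j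
      rw [← Finset.mul_prod_erase Finset.univ (fun i => r - a i) (Finset.mem_univ j), ← mul_assoc,
        hej j, zero_mul]
    calc ∏ i, (r - a i) = (∑ j, e j) * ∏ i, (r - a i) := by rw [hE, one_mul]
      _ = 0 := by rw [Finset.sum_mul]; exact Finset.sum_eq_zero fun j _ => hprod j
  · have h1 : ∑ j, e j * a j - x = ∑ j, e j * (a j - x) := by
      have hx' : ∑ j, e j * (a j - x) = ∑ j, e j * a j - (∑ j, e j) * x := by
        rw [Finset.sum_mul, ← Finset.sum_sub_distrib]
        refine Finset.sum_congr rfl fun j _ => ?_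
        ring
      rw [hx', hE, one_mul]
    rw [h1]
    refine I.sum_mem fun j _ => ?_
    rw [← Ideal.Quotient.eq_zero_iff_mem, map_mul, he_q]
    have h2 : q (a j - x) = - q (x - a j) := by rw [← map_neg]; congr 1; ring
    rw [h2, mul_neg, hkill j, neg_zero]

end



/-- Let `A` be absolutely integrally closed (every monic polynomial over `A` is a product of linear
factors) and `I ⊆ A` an ideal contained in the Jacobson radical such that `A → A/I` is surjective
(hence bijective) on idempotents. Then `(A, I)` is a henselian pair. (The published statement also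
records the converse, which holds for every henselian pair; this row states the sufficiency only.) -/
theorem result (A : Type u) [CommRing A]
    (hA : ∀ f : A[X], f.Monic → ∃ s : Multiset A, f = (s.map fun a => X - C a).prod) (I : Ideal A)
    (hI : I ≤ Ideal.jacobson (⊥ : Ideal A))
    (hidem : ∀ e : A ⧸ I, IsIdempotentElem e → ∃ e' : A, IsIdempotentElem e' ∧ Ideal.Quotient.mk I e' = e) :
    HenselianRing A I := by
  classical
  refine ⟨hI, ?_⟩
  intro f hf x hx hu
  obtain ⟨s, hs⟩ := hA f hf
  obtain ⟨l, rfl⟩ : ∃ l : List A, (l : Multiset A) = s := ⟨s.toList, Multiset.coe_toList s⟩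
  have hfprod : f = ∏ i : Fin l.length, (X - C (l.get i)) := by
    rw [hs, Multiset.map_coe, Multiset.prod_coe, ← List.prod_ofFn]
    congr 1
    conv_lhs => rw [← List.ofFn_get l]
    rw [List.map_ofFn]; rfl
  exact henselian_aux I hI hidem l.length l.get f hfprod x hx hu

end Groth.Agent.S6888
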