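import Groth.Statements.S6900
import Groth.Agent.H10.MilnorAlg

set_option autoImplicit false
set_option linter.style.haveILetI false
universe u
open TensorProduct
open EtAlg

namespace Groth.Agent.S6900

/-- Let `B' = B ×_A A'` be a fibre square of rings with `A' → A` surjective. Let `D` be a `B`-algebra
and `C'` an `A'`-algebra with a common base change `C = D ⊗_B A = C' ⊗_{A'} A`, and let `D' = D ×_C
C'` be the fibre product ring with its `B'`-algebra structure. Then `B' → D'` is of finite type
(resp. flat, resp. flat and of finite presentation, resp. smooth, resp. étale) if and only if `B →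
D` and `A' → C'` both are. -/
theorem result (B' B A' A : Type u) [CommRing B'] [CommRing B] [CommRing A'] [CommRing A]
    [Algebra B' B] [Algebra B' A'] [Algebra B A] [Algebra A' A] [Algebra B' A] [IsScalarTower B' B A] [IsScalarTower B' A' A]
    (hsq : EtMil.IsFibreSquare B' B A' A)
    (D' D C' C : Type u) [CommRing D'] [CommRing D] [CommRing C'] [CommRing C]
    [Algebra D' D] [Algebra D' C'] [Algebra D C] [Algebra C' C] [Algebra D' C] [IsScalarTower D' D C] [IsScalarTower D' C' C]
    (hsq' : EtMil.IsFibreSquare D' D C' C)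
    [Algebra B' D'] [Algebra B D] [Algebra A' C'] [Algebra A C]
    [Algebra B' D] [IsScalarTower B' B D] [IsScalarTower B' D' D]
    [Algebra B' C'] [IsScalarTower B' A' C'] [IsScalarTower B' D' C']
    [Algebra B C] [IsScalarTower B A C] [IsScalarTower B D C]
    [Algebra A' C] [IsScalarTower A' A C] [IsScalarTower A' C' C]
    [Algebra.IsPushout B D A C] [Algebra.IsPushout A' C' A C] :
    (Algebra.FiniteType B' D' ↔ Algebra.FiniteType B D ∧ Algebra.FiniteType A' C') ∧
    (Module.Flat B' D' ↔ Module.Flat B D ∧ Module.Flat A' C') ∧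
    (Module.Flat B' D' ∧ Algebra.FinitePresentation B' D' ↔
      (Module.Flat B D ∧ Algebra.FinitePresentation B D) ∧ (Module.Flat A' C' ∧ Algebra.FinitePresentation A' C')) ∧
    (Algebra.Smooth B' D' ↔ Algebra.Smooth B D ∧ Algebra.Smooth A' C') ∧
    (Algebra.Etale B' D' ↔ Algebra.Etale B D ∧ Algebra.Etale A' C') := by
  haveI K1 : Algebra.IsPushout B' B D' D :=
    Groth.Agent.H10.MilnorAlg.isPushout_fst B' B A' A D' D C' C hsq hsq'
  haveI K2 : Algebra.IsPushout B' A' D' C' :=
    Groth.Agent.H10.MilnorAlg.isPushout_snd B' B A' A D' D C' C hsq hsq'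
  let eB : B ⊗[B'] D' ≃ₐ[B] D := Algebra.IsPushout.equiv B' B D' D
  let eA : A' ⊗[B'] D' ≃ₐ[A'] C' := Algebra.IsPushout.equiv B' A' D' C'
  have ft_if : Algebra.FiniteType B D → Algebra.FiniteType A' C' → Algebra.FiniteType B' D' := by
    intro h1 h2
    haveI : Algebra.FiniteType B (B ⊗[B'] D') := Algebra.FiniteType.equiv h1 eB.symm
    haveI : Algebra.FiniteType A' (A' ⊗[B'] D') := Algebra.FiniteType.equiv h2 eA.symm
    exact Groth.Agent.H10.MilnorAlg.finiteType_of_baseChange D' hsq
  have flat_if : Module.Flat B D → Module.Flat A' C' → Module.Flat B' D' := by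
    intro h1 h2
    haveI : Module.Flat B (B ⊗[B'] D') := Module.Flat.of_linearEquiv eB.toLinearEquiv
    haveI : Module.Flat A' (A' ⊗[B'] D') := Module.Flat.of_linearEquiv eA.toLinearEquiv
    exact Groth.Agent.H74.Milnor.flat_of_flat_baseChangePair hsq D'
  have flat_onlyif : Module.Flat B' D' → Module.Flat B D ∧ Module.Flat A' C' := by
    intro h
    exact ⟨Module.Flat.of_linearEquiv eB.symm.toLinearEquiv,
      Module.Flat.of_linearEquiv eA.symm.toLinearEquiv⟩
  have fp_if : Module.Flat B' D' → Algebra.FinitePresentation B D →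
      Algebra.FinitePresentation A' C' → Algebra.FinitePresentation B' D' := by
    intro h0 h1 h2
    haveI : Algebra.FinitePresentation B (B ⊗[B'] D') := Algebra.FinitePresentation.equiv eB.symm
    haveI : Algebra.FinitePresentation A' (A' ⊗[B'] D') :=
      Algebra.FinitePresentation.equiv eA.symm
    exact Groth.Agent.H10.MilnorAlg.finitePresentation_of_baseChange D' hsq
  have fp_onlyif : Algebra.FinitePresentation B' D' →
      Algebra.FinitePresentation B D ∧ Algebra.FinitePresentation A' C' := by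
    intro h
    exact ⟨Algebra.FinitePresentation.equiv eB, Algebra.FinitePresentation.equiv eA⟩
  have sm_if : Algebra.Smooth B D → Algebra.Smooth A' C' → Algebra.Smooth B' D' := by
    intro h1 h2
    haveI : Module.Flat B' D' := flat_if inferInstance inferInstance
    haveI : Algebra.FinitePresentation B' D' := fp_if inferInstance inferInstance inferInstance
    haveI : Algebra.FormallySmooth B (B ⊗[B'] D') := Algebra.FormallySmooth.of_equiv eB.symm
    haveI : Algebra.FormallySmooth A' (A' ⊗[B'] D') := Algebra.FormallySmooth.of_equiv eA.symm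
    exact Groth.Agent.H10.MilnorAlg.smooth_of_baseChange D' hsq
  refine ⟨⟨?_, ?_⟩, ⟨flat_onlyif, ?_⟩, ⟨?_, ?_⟩, ⟨?_, ?_⟩, ⟨?_, ?_⟩⟩
  · intro h
    exact ⟨Algebra.FiniteType.equiv inferInstance eB, Algebra.FiniteType.equiv inferInstance eA⟩
  · rintro ⟨h1, h2⟩
    exact ft_if h1 h2
  · rintro ⟨h1, h2⟩
    exact flat_if h1 h2
  · rintro ⟨h1, h2⟩
    exact ⟨⟨(flat_onlyif h1).1, (fp_onlyif h2).1⟩, ⟨(flat_onlyif h1).2, (fp_onlyif h2).2⟩⟩
  · rintro ⟨⟨h1, h2⟩, ⟨h3, h4⟩⟩
    have hf := flat_if h1 h3
    exact ⟨hf, fp_if hf h2 h4⟩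
  · intro h
    exact ⟨Algebra.Smooth.of_equiv eB, Algebra.Smooth.of_equiv eA⟩
  · rintro ⟨h1, h2⟩
    exact sm_if h1 h2
  · intro h
    exact ⟨Algebra.Etale.of_equiv eB, Algebra.Etale.of_equiv eA⟩
  · rintro ⟨h1, h2⟩
    haveI : Algebra.Smooth B' D' := sm_if inferInstance inferInstance
    haveI : Algebra.FormallyUnramified B (B ⊗[B'] D') :=
      Algebra.FormallyUnramified.of_equiv eB.symm
    haveI : Algebra.FormallyUnramified A' (A' ⊗[B'] D') :=
      Algebra.FormallyUnramified.of_equiv eA.symm
    haveI : Algebra.FormallyUnramified B' D' :=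
      Groth.Agent.H10.MilnorAlg.formallyUnramified_of_baseChange D' hsq
    exact Algebra.Etale.iff_formallyUnramified_and_smooth.mpr ⟨inferInstance, inferInstance⟩

end Groth.Agent.S6900
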