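import Groth.Statements.S6909
import Mathlib.RingTheory.Filtration

set_option autoImplicit false
universe u
open CAlg

namespace Groth.Agent.S6909

theorem map_mem_pow_smul {A : Type u} [CommRing A] {M N : Type u} [AddCommGroup M] [Module A M]
    [AddCommGroup N] [Module A N] (I : Ideal A) (h : M →ₗ[A] N) (j : ℕ)
    (hh : ∀ y, h y ∈ I ^ j • (⊤ : Submodule A N)) (k : ℕ) (x : M)
    (hx : x ∈ I ^ k • (⊤ : Submodule A M)) : h x ∈ I ^ (k + j) • (⊤ : Submodule A N) := by
  refine Submodule.smul_induction_on hx (fun a ha m _ => ?_) (fun u v hu hv => ?_)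
  · rw [map_smul, pow_add, Submodule.mul_smul]
    exact Submodule.smul_mem_smul ha (hh m)
  · rw [map_add]; exact Submodule.add_mem _ hu hv

theorem pow_smul_top_mono {A : Type u} [CommRing A] {M : Type u} [AddCommGroup M] [Module A M]
    (I : Ideal A) {m n : ℕ} (h : m ≤ n) :
    I ^ n • (⊤ : Submodule A M) ≤ I ^ m • (⊤ : Submodule A M) :=
  Submodule.smul_mono_left (Ideal.pow_le_pow_right h)

/-- the common step: an element of `ker g ∩ I^k M` is `f l` with `(f - f') l ∈ I^(k+1) M`. -/
theorem key_step {A : Type u} [CommRing A] (I : Ideal A) {L M N : Type u}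
    [AddCommGroup L] [Module A L] [AddCommGroup M] [Module A M] [AddCommGroup N] [Module A N]
    (f f' : L →ₗ[A] M) (g : M →ₗ[A] N) (c : ℕ)
    (hf : (∀ n : ℕ, c ≤ n → LinearMap.range f ⊓ (I ^ n • (⊤ : Submodule A M)) ≤
      Submodule.map f (I ^ (n - c) • (⊤ : Submodule A L))))
    (hex : Function.Exact f g)
    (hff' : ∀ x : L, f x - f' x ∈ I ^ (c + 1) • (⊤ : Submodule A M))
    (k : ℕ) (z : M) (hz0 : g z = 0) (hzk : z ∈ I ^ k • (⊤ : Submodule A M)) :
    ∃ l : L, f l = z ∧ f l - f' l ∈ I ^ (k + 1) • (⊤ : Submodule A M) := by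
  have hzr : z ∈ LinearMap.range f := (hex z).mp hz0
  by_cases hck : c ≤ k
  · obtain ⟨l, hl, hlz⟩ := hf k hck ⟨hzr, hzk⟩
    refine ⟨l, hlz, ?_⟩
    have h1 := map_mem_pow_smul I (f - f') (c + 1) (fun y => by simpa using hff' y) (k - c) l hl
    have h2 : k - c + (c + 1) = k + 1 := by omega
    rw [h2] at h1
    simpa using h1
  · obtain ⟨l, hl⟩ := hzr
    refine ⟨l, hl, ?_⟩
    exact pow_smul_top_mono I (by omega) (hff' l)


/-- Let `A` be a Noetherian ring, `I ⊆ A` an ideal inside the Jacobson radical, and `L → M → N` two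
complexes `(f, g)` and `(f', g')` of finite `A`-modules with `f' ≡ f` modulo `I^{c+1}M` and `g' ≡ g`
modulo `I^{c+1}N`. If `c` works in the Artin–Rees lemma for `f` and for `g` (that is `f(L) ∩ IⁿM ⊆
f(I^{n-c}L)` for `n ≥ c`, and likewise for `g`) and `(f, g)` is exact, then `c` works for `g'` and
`(f', g')` is exact. -/
theorem result {A : Type u} [CommRing A] [IsNoetherianRing A] (I : Ideal A)
    (hI : I ≤ Ideal.jacobson (⊥ : Ideal A)) {L M N : Type u} [AddCommGroup L] [Module A L] [Module.Finite A L]
    [AddCommGroup M] [Module A M] [Module.Finite A M] [AddCommGroup N] [Module A N] [Module.Finite A N]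
    (f f' : L →ₗ[A] M) (g g' : M →ₗ[A] N) (c : ℕ) (hgf : g.comp f = 0) (hgf' : g'.comp f' = 0)
    (hf : (∀ n : ℕ, c ≤ n → LinearMap.range f ⊓ (I ^ n • (⊤ : Submodule A M)) ≤ Submodule.map f (I ^ (n - c) • (⊤ : Submodule A L))))
    (hg : (∀ n : ℕ, c ≤ n → LinearMap.range g ⊓ (I ^ n • (⊤ : Submodule A N)) ≤ Submodule.map g (I ^ (n - c) • (⊤ : Submodule A M))))
    (hex : Function.Exact f g)
    (hff' : ∀ x : L, f x - f' x ∈ I ^ (c + 1) • (⊤ : Submodule A M))
    (hgg' : ∀ y : M, g y - g' y ∈ I ^ (c + 1) • (⊤ : Submodule A N)) :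
    (∀ n : ℕ, c ≤ n → LinearMap.range g' ⊓ (I ^ n • (⊤ : Submodule A N)) ≤ Submodule.map g' (I ^ (n - c) • (⊤ : Submodule A M))) ∧
    Function.Exact f' g' := by
  have hd : ∀ y : M, (g - g') y ∈ I ^ (c + 1) • (⊤ : Submodule A N) := fun y => by
    simpa using hgg' y
  have hg'f' : ∀ l, g' (f' l) = 0 := fun l => by
    have := congrArg (fun t => t l) hgf'
    simpa using this
  constructor
  · intro n hn
    induction n, hn using Nat.le_induction with
    | base =>
      rw [Nat.sub_self, pow_zero, Ideal.one_eq_top, Submodule.top_smul, Submodule.map_top]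
      exact inf_le_left
    | succ n hn ih =>
      rintro y ⟨hy1, hy2⟩
      obtain ⟨x', hx', rfl⟩ := ih ⟨hy1, pow_smul_top_mono I (Nat.le_succ n) hy2⟩
      have h1 : (g - g') x' ∈ I ^ (n + 1) • (⊤ : Submodule A N) := by
        have := map_mem_pow_smul I (g - g') (c + 1) hd (n - c) x' hx'
        have h2 : n - c + (c + 1) = n + 1 := by omega
        rwa [h2] at this
      have h3 : g x' ∈ I ^ (n + 1) • (⊤ : Submodule A N) := by
        have : g x' = g' x' + (g - g') x' := by simp
        rw [this]
        exact Submodule.add_mem _ hy2 h1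
      obtain ⟨x₁, hx₁, hx₁g⟩ := hg (n + 1) (by omega) ⟨LinearMap.mem_range_self g x', h3⟩
      have hz0 : g (x' - x₁) = 0 := by rw [map_sub, hx₁g, sub_self]
      have hzk : x' - x₁ ∈ I ^ (n - c) • (⊤ : Submodule A M) :=
        Submodule.sub_mem _ hx' (pow_smul_top_mono I (by omega) hx₁)
      obtain ⟨l, hl, hle⟩ := key_step I f f' g c hf hex hff' (n - c) (x' - x₁) hz0 hzk
      have h4 : n - c + 1 = n + 1 - c := by omega
      rw [h4] at hle
      refine ⟨x₁ + (f l - f' l), Submodule.add_mem _ hx₁ hle, ?_⟩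
      have h5 : x' = x₁ + f l := by rw [hl]; abel
      rw [h5, map_add, map_add, map_sub, hg'f', sub_zero]
  · intro x
    constructor
    · intro hx
      -- approximate x by elements of range f' modulo I^k M
      have step : ∀ k : ℕ, ∀ z : M, g' z = 0 → z ∈ I ^ k • (⊤ : Submodule A M) →
          ∃ l : L, z - f' l ∈ I ^ (k + 1) • (⊤ : Submodule A M) := by
        intro k z hz0 hzk
        have h1 : (g - g') z ∈ I ^ (k + (c + 1)) • (⊤ : Submodule A N) :=
          map_mem_pow_smul I (g - g') (c + 1) hd k z hzk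
        have h2 : g z ∈ I ^ (k + (c + 1)) • (⊤ : Submodule A N) := by
          have : g z = (g - g') z := by simp [hz0]
          rwa [this]
        obtain ⟨z', hz', hz'g⟩ := hg (k + (c + 1)) (by omega) ⟨LinearMap.mem_range_self g z, h2⟩
        have h3 : k + (c + 1) - c = k + 1 := by omega
        rw [h3] at hz'
        have hw0 : g (z - z') = 0 := by rw [map_sub, hz'g, sub_self]
        have hwk : z - z' ∈ I ^ k • (⊤ : Submodule A M) :=
          Submodule.sub_mem _ hzk (pow_smul_top_mono I (Nat.le_succ k) hz')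
        obtain ⟨l, hl, hle⟩ := key_step I f f' g c hf hex hff' k (z - z') hw0 hwk
        refine ⟨l, ?_⟩
        have h5 : z - f' l = z' + (f l - f' l) := by rw [hl]; abel
        rw [h5]
        exact Submodule.add_mem _ hz' hle
      have approx : ∀ k : ℕ, ∃ l : L, x - f' l ∈ I ^ k • (⊤ : Submodule A M) := by
        intro k
        induction k with
        | zero => exact ⟨0, by simp⟩
        | succ k ih =>
          obtain ⟨l, hl⟩ := ih
          have h0 : g' (x - f' l) = 0 := by rw [map_sub, hx, hg'f', sub_zero]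
          obtain ⟨l', hl'⟩ := step k (x - f' l) h0 hl
          refine ⟨l + l', ?_⟩
          have : x - f' (l + l') = x - f' l - f' l' := by rw [map_add]; abel
          rwa [this]
      have hkrull := Ideal.iInf_pow_smul_eq_bot_of_le_jacobson (R := A)
        (M := M ⧸ LinearMap.range f') I hI
      have hmem : (LinearMap.range f').mkQ x ∈
          (⨅ i : ℕ, I ^ i • ⊤ : Submodule A (M ⧸ LinearMap.range f')) := by
        rw [Submodule.mem_iInf]
        intro k
        obtain ⟨l, hl⟩ := approx k
        have h1 : (LinearMap.range f').mkQ x = (LinearMap.range f').mkQ (x - f' l) := by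
          rw [map_sub]
          have : (LinearMap.range f').mkQ (f' l) = 0 := by
            simp
          rw [this, sub_zero]
        rw [h1]
        have h2 : (LinearMap.range f').mkQ (x - f' l) ∈
            Submodule.map (LinearMap.range f').mkQ (I ^ k • (⊤ : Submodule A M)) :=
          Submodule.mem_map_of_mem hl
        rw [Submodule.map_smul''] at h2
        exact Submodule.smul_mono le_rfl le_top h2
      rw [hkrull, Submodule.mem_bot] at hmem
      have : x ∈ LinearMap.range f' := by
        simpa using hmem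
      exact this
    · rintro ⟨l, rfl⟩
      exact hg'f' l

end Groth.Agent.S6909
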