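import Groth.Statements.S6910
import Groth.Agent.S6909

set_option autoImplicit false
universe u
open CAlg

namespace Groth.Agent.S6910

/-- Let `A` be a Noetherian ring, `I ⊆ A` an ideal inside the Jacobson radical, and `L → M → N` two
complexes `(f, g)` and `(f', g')` of finite `A`-modules with `f' ≡ f` modulo `I^{c+1}M` and `g' ≡ g`
modulo `I^{c+1}N`, such that the Artin–Rees bound holds with constant `c` for both `f` and `g`, and
`(f, g)` is exact. Then for every `n` the submodules `I^{n+1}N + g(M) ∩ IⁿN` and `I^{n+1}N + g'(M) ∩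
IⁿN` of `N` are equal; consequently the associated graded modules of `Coker g` and `Coker g'` with
respect to `I` coincide degreewise as subquotients of `N`. -/
theorem result {A : Type u} [CommRing A] [IsNoetherianRing A] (I : Ideal A)
    (hI : I ≤ Ideal.jacobson (⊥ : Ideal A)) {L M N : Type u} [AddCommGroup L] [Module A L] [Module.Finite A L]
    [AddCommGroup M] [Module A M] [Module.Finite A M] [AddCommGroup N] [Module A N] [Module.Finite A N]
    (f f' : L →ₗ[A] M) (g g' : M →ₗ[A] N) (c : ℕ) (hgf : g.comp f = 0) (hgf' : g'.comp f' = 0)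
    (hf : (∀ n : ℕ, c ≤ n → LinearMap.range f ⊓ (I ^ n • (⊤ : Submodule A M)) ≤ Submodule.map f (I ^ (n - c) • (⊤ : Submodule A L))))
    (hg : (∀ n : ℕ, c ≤ n → LinearMap.range g ⊓ (I ^ n • (⊤ : Submodule A N)) ≤ Submodule.map g (I ^ (n - c) • (⊤ : Submodule A M))))
    (hex : Function.Exact f g)
    (hff' : ∀ x : L, f x - f' x ∈ I ^ (c + 1) • (⊤ : Submodule A M))
    (hgg' : ∀ y : M, g y - g' y ∈ I ^ (c + 1) • (⊤ : Submodule A N)) (n : ℕ) :
    I ^ (n + 1) • (⊤ : Submodule A N) ⊔ (LinearMap.range g ⊓ I ^ n • (⊤ : Submodule A N)) =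
      I ^ (n + 1) • (⊤ : Submodule A N) ⊔ (LinearMap.range g' ⊓ I ^ n • (⊤ : Submodule A N)) := by
  have hg' := (Groth.Agent.S6909.result I hI f f' g g' c hgf hgf' hf hg hex hff' hgg').1
  -- one inclusion, for any pair (g₁, g₂) with g₁ ≡ g₂ and AR for g₁
  have key : ∀ (g₁ g₂ : M →ₗ[A] N),
      (∀ n : ℕ, c ≤ n → LinearMap.range g₁ ⊓ (I ^ n • (⊤ : Submodule A N)) ≤
        Submodule.map g₁ (I ^ (n - c) • (⊤ : Submodule A M))) →
      (∀ y : M, g₁ y - g₂ y ∈ I ^ (c + 1) • (⊤ : Submodule A N)) →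
      LinearMap.range g₁ ⊓ I ^ n • (⊤ : Submodule A N) ≤
        I ^ (n + 1) • (⊤ : Submodule A N) ⊔ (LinearMap.range g₂ ⊓ I ^ n • (⊤ : Submodule A N)) := by
    intro g₁ g₂ har hd
    rintro y ⟨hy1, hy2⟩
    have hd' : ∀ y : M, (g₁ - g₂) y ∈ I ^ (c + 1) • (⊤ : Submodule A N) := fun y => by
      simpa using hd y
    -- find x with g₁ x = y and (g₁ - g₂) x ∈ I^(n+1) N
    have hx : ∃ x : M, g₁ x = y ∧ (g₁ - g₂) x ∈ I ^ (n + 1) • (⊤ : Submodule A N) := by
      by_cases hcn : c ≤ n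
      · obtain ⟨x, hx, hxy⟩ := har n hcn ⟨hy1, hy2⟩
        refine ⟨x, hxy, ?_⟩
        have := Groth.Agent.S6909.map_mem_pow_smul I (g₁ - g₂) (c + 1) hd' (n - c) x hx
        have h2 : n - c + (c + 1) = n + 1 := by omega
        rwa [h2] at this
      · obtain ⟨x, hxy⟩ := hy1
        exact ⟨x, hxy, Groth.Agent.S6909.pow_smul_top_mono I (by omega) (hd' x)⟩
    obtain ⟨x, hxy, hdx⟩ := hx
    have h3 : y = (g₁ - g₂) x + g₂ x := by rw [← hxy]; simp
    rw [h3]
    refine Submodule.add_mem_sup hdx ⟨LinearMap.mem_range_self g₂ x, ?_⟩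
    have h4 : g₂ x = y - (g₁ - g₂) x := by rw [← hxy]; simp
    rw [h4]
    exact Submodule.sub_mem _ hy2 (Groth.Agent.S6909.pow_smul_top_mono I (Nat.le_succ n) hdx)
  apply le_antisymm
  · exact sup_le le_sup_left (key g g' hg hgg')
  · refine sup_le le_sup_left (key g' g hg' (fun y => ?_))
    have := Submodule.neg_mem _ (hgg' y)
    simpa using this

end Groth.Agent.S6910
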