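import Groth.Statements.S6911
import Mathlib.Algebra.Exact.Basic
import Mathlib.LinearAlgebra.TensorProduct.Tower

set_option autoImplicit false
universe u
open TensorProduct
open CAlg

namespace Groth.Agent.S6911

theorem tmul_mem_pow_smul {A B : Type u} [CommRing A] [CommRing B] [Algebra A B] (I : Ideal A)
    {M : Type u} [AddCommGroup M] [Module A M] (k : ℕ) (b : B) (m : M)
    (hm : m ∈ I ^ k • (⊤ : Submodule A M)) :
    b ⊗ₜ[A] m ∈ (I.map (algebraMap A B)) ^ k • (⊤ : Submodule B (B ⊗[A] M)) := by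
  refine Submodule.smul_induction_on hm (fun a ha m' _ => ?_) (fun u v hu hv => ?_)
  · have h1 : b ⊗ₜ[A] (a • m') = (algebraMap A B a) • (b ⊗ₜ[A] m' : B ⊗[A] M) := by
      rw [TensorProduct.smul_tmul', smul_eq_mul, ← Algebra.smul_def, TensorProduct.smul_tmul]
    rw [h1]
    refine Submodule.smul_mem_smul ?_ trivial
    rw [← Ideal.map_pow]
    exact Ideal.mem_map_of_mem _ ha
  · rw [TensorProduct.tmul_add]; exact Submodule.add_mem _ hu hv

theorem smul_quot_eq_zero {A B : Type u} [CommRing A] [CommRing B] [Algebra A B] (I : Ideal A)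
    {N : Type u} [AddCommGroup N] [Module A N] (n : ℕ) (β : B)
    (hβ : β ∈ (I.map (algebraMap A B)) ^ n)
    (t : B ⊗[A] (N ⧸ (I ^ n • (⊤ : Submodule A N)))) : β • t = 0 := by
  rw [← Ideal.map_pow, Ideal.map] at hβ
  induction hβ using Submodule.span_induction with
  | mem β hβ =>
    obtain ⟨a, ha, rfl⟩ := hβ
    induction t using TensorProduct.induction_on with
    | zero => simp
    | tmul b nbar =>
      obtain ⟨x, rfl⟩ := Submodule.Quotient.mk_surjective _ nbar
      rw [TensorProduct.smul_tmul', smul_eq_mul, ← Algebra.smul_def, TensorProduct.smul_tmul,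
        ← Submodule.Quotient.mk_smul]
      have : (Submodule.Quotient.mk (a • x) : N ⧸ (I ^ n • (⊤ : Submodule A N))) = 0 := by
        rw [Submodule.Quotient.mk_eq_zero]
        exact Submodule.smul_mem_smul ha trivial
      rw [this, TensorProduct.tmul_zero]
    | add t₁ t₂ h₁ h₂ => rw [smul_add, h₁, h₂, add_zero]
  | zero => simp
  | add u v _ _ hu hv => rw [add_smul, hu, hv, add_zero]
  | smul c u _ hu => rw [smul_eq_mul, mul_smul, hu, smul_zero]


/-- Let `A → B` be a flat map of Noetherian rings, `I ⊆ A` an ideal and `f : M → N` a map of finite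
`A`-modules such that `c` works for `f` in the Artin–Rees lemma (`f(M) ∩ IⁿN ⊆ f(I^{n-c}M)` for `n ≥
c`). Then `c` works for `f ⊗ 1 : M ⊗_A B → N ⊗_A B` and the ideal `IB`. -/
theorem result {A B : Type u} [CommRing A] [IsNoetherianRing A] [CommRing B]
    [IsNoetherianRing B] [Algebra A B] [Module.Flat A B] (I : Ideal A) {M N : Type u} [AddCommGroup M] [Module A M]
    [Module.Finite A M] [AddCommGroup N] [Module A N] [Module.Finite A N] (f : M →ₗ[A] N) (c : ℕ)
    (hf : (∀ n : ℕ, c ≤ n → LinearMap.range f ⊓ (I ^ n • (⊤ : Submodule A N)) ≤ Submodule.map f (I ^ (n - c) • (⊤ : Submodule A M)))) :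
    ∀ n : ℕ, c ≤ n →
      LinearMap.range (f.baseChange B) ⊓ ((I.map (algebraMap A B)) ^ n • (⊤ : Submodule B (B ⊗[A] N))) ≤
        Submodule.map (f.baseChange B) ((I.map (algebraMap A B)) ^ (n - c) • (⊤ : Submodule B (B ⊗[A] M))) := by
  intro n hn
  rintro y ⟨⟨x, rfl⟩, hy⟩
  let qN : N →ₗ[A] N ⧸ (I ^ n • (⊤ : Submodule A N)) := (I ^ n • (⊤ : Submodule A N)).mkQ
  let v : M →ₗ[A] N ⧸ (I ^ n • (⊤ : Submodule A N)) := qN ∘ₗ f
  have hK : LinearMap.ker v ≤ I ^ (n - c) • (⊤ : Submodule A M) ⊔ LinearMap.ker f := by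
    intro m hm
    have h1 : f m ∈ I ^ n • (⊤ : Submodule A N) := by
      have h0 : qN (f m) = 0 := hm
      simpa [qN] using h0
    obtain ⟨m₁, hm₁, hm₁f⟩ := hf n hn ⟨LinearMap.mem_range_self f m, h1⟩
    rw [Submodule.mem_sup]
    exact ⟨m₁, hm₁, m - m₁, by simp [hm₁f], by abel⟩
  have hex : Function.Exact (LinearMap.ker v).subtype v := LinearMap.exact_subtype_ker_map v
  have hexB := Module.Flat.lTensor_exact B hex
  have hkill : ∀ z ∈ (I.map (algebraMap A B)) ^ n • (⊤ : Submodule B (B ⊗[A] N)),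
      qN.baseChange B z = 0 := by
    intro z hz
    refine Submodule.smul_induction_on hz (fun β hβ w _ => ?_) (fun u w hu hw => ?_)
    · rw [map_smul]
      exact smul_quot_eq_zero I n β hβ _
    · rw [map_add, hu, hw, add_zero]
  have hx0 : v.lTensor B x = 0 := by
    have h1 : v.lTensor B x = qN.baseChange B (f.baseChange B x) := by
      rw [← LinearMap.baseChange_eq_ltensor]
      change (qN ∘ₗ f).baseChange B x = _
      rw [LinearMap.baseChange_comp]
      rfl
    rw [h1]
    exact hkill _ hy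
  obtain ⟨k, hk⟩ := (hexB x).mp hx0
  have hall : ∀ k : B ⊗[A] (LinearMap.ker v), (LinearMap.ker v).subtype.lTensor B k ∈
      (I.map (algebraMap A B)) ^ (n - c) • (⊤ : Submodule B (B ⊗[A] M)) ⊔
      LinearMap.ker (f.baseChange B) := by
    intro k
    induction k using TensorProduct.induction_on with
    | zero => simp
    | tmul b m =>
      obtain ⟨m₁, hm₁, m₂, hm₂, hm⟩ := Submodule.mem_sup.mp (hK m.2)
      have h2 : (LinearMap.ker v).subtype.lTensor B (b ⊗ₜ[A] m) = b ⊗ₜ[A] m₁ + b ⊗ₜ[A] m₂ := by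
        rw [LinearMap.lTensor_tmul, ← TensorProduct.tmul_add, hm]
        rfl
      rw [h2]
      refine Submodule.add_mem_sup (tmul_mem_pow_smul I (n - c) b m₁ hm₁) ?_
      rw [LinearMap.mem_ker, LinearMap.baseChange_tmul, LinearMap.mem_ker.mp hm₂,
        TensorProduct.tmul_zero]
    | add k₁ k₂ h₁ h₂ => rw [map_add]; exact Submodule.add_mem _ h₁ h₂
  have hx := hall k
  rw [hk] at hx
  obtain ⟨x₁, hx₁, x₂, hx₂, rfl⟩ := Submodule.mem_sup.mp hx
  exact ⟨x₁, hx₁, by rw [map_add, LinearMap.mem_ker.mp hx₂, add_zero]⟩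

end Groth.Agent.S6911
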