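import Groth.Statements.S6912
import Mathlib.LinearAlgebra.Dimension.Localization
import Mathlib.LinearAlgebra.FreeModule.Finite.Matrix
import Mathlib.RingTheory.Localization.Finiteness
import Mathlib.LinearAlgebra.Dimension.Constructions
import Mathlib.RingTheory.Localization.FractionRing
import Mathlib.RingTheory.Localization.Module

set_option autoImplicit false
universe u
open TensorProduct
open CAlg

namespace Groth.Agent.S6912

/-- Let `R` be a domain and `M`, `N` two `R`-modules; rank means dimension over the fraction field after
base change. Then `rank (M ⊗_R N) = rank M · rank N`, and when `M` is finitely presented also `rank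
Hom_R(M, N) = rank M · rank N`. -/
theorem result (R : Type u) [CommRing R] [IsDomain R] (M N : Type u)
    [AddCommGroup M] [Module R M] [AddCommGroup N] [Module R N] :
    Module.rank R (M ⊗[R] N) = Module.rank R M * Module.rank R N ∧
    (Module.FinitePresentation R M → Module.rank R (M →ₗ[R] N) = Module.rank R M * Module.rank R N) := by
  constructor
  · let K := FractionRing R
    have hbc : ∀ (X : Type u) [AddCommGroup X] [Module R X],
        Module.rank K (K ⊗[R] X) = Module.rank R X := by
      intro X _ _
      exact IsBaseChange.rank_eq (TensorProduct.isBaseChange R X K)
    rw [← hbc (M ⊗[R] N), ← hbc M, ← hbc N]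
    rw [(TensorProduct.AlgebraTensorModule.distribBaseChange R K M N).rank_eq]
    exact rank_tensorProduct'
  · intro hfp
    haveI := hfp
    let p : Submonoid R := nonZeroDivisors R
    let K := Localization p
    have hp : p ≤ nonZeroDivisors R := le_rfl
    have hrank : ∀ (X : Type u) [AddCommGroup X] [Module R X],
        Module.rank K (LocalizedModule p X) = Module.rank R X := by
      intro X _ _
      rw [IsLocalization.rank_eq K p hp]
      exact IsLocalizedModule.rank_eq p hp (LocalizedModule.mkLinearMap p X)
    have h1 : Module.rank R (LocalizedModule p M →ₗ[K] LocalizedModule p N) =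
        Module.rank R (M →ₗ[R] N) :=
      IsLocalizedModule.rank_eq p hp
        (IsLocalizedModule.mapExtendScalars p (LocalizedModule.mkLinearMap p M)
          (LocalizedModule.mkLinearMap p N) K)
    have h2 : Module.rank K (LocalizedModule p M →ₗ[K] LocalizedModule p N) =
        Module.rank R (LocalizedModule p M →ₗ[K] LocalizedModule p N) :=
      IsLocalization.rank_eq K p hp
    haveI : Field K := inferInstanceAs (Field (FractionRing R))
    have h3 := Module.rank_linearMap K K (LocalizedModule p M) (LocalizedModule p N)
    rw [← h1, ← h2, h3, Cardinal.lift_id, Cardinal.lift_id, hrank M, hrank N]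

end Groth.Agent.S6912
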