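import Groth.Statements.S6913
import Mathlib.LinearAlgebra.Dimension.Finite
import Mathlib.LinearAlgebra.Dimension.StrongRankCondition
import Mathlib.RingTheory.Localization.Module
import Mathlib.LinearAlgebra.Finsupp.LinearCombination
import Mathlib.LinearAlgebra.Basis.Basic
import Mathlib.LinearAlgebra.FreeModule.StrongRankCondition

set_option autoImplicit false
universe u
open CAlg

namespace Groth.Agent.S6913

/-- Let `R` be a domain and `M` a finite `R`-module, of (finite) rank `r`. Then: some linear map `M →
R^r` has torsion kernel and torsion cokernel; some nonzero `f ∈ R` makes `M_f` free of rank `r` over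
`R_f`; and some injective linear map `R^r → M` has torsion cokernel. -/
theorem result (R : Type u) [CommRing R] [IsDomain R] (M : Type u) [AddCommGroup M]
    [Module R M] [Module.Finite R M] :
    (∃ h : M →ₗ[R] (Fin (Module.finrank R M) → R),
      (∀ x : M, h x = 0 → ∃ c : R, c ≠ 0 ∧ c • x = 0) ∧
      (∀ y : Fin (Module.finrank R M) → R, ∃ c : R, c ≠ 0 ∧ c • y ∈ LinearMap.range h)) ∧
    (∃ f : R, f ≠ 0 ∧ Module.Free (Localization.Away f) (LocalizedModule (Submonoid.powers f) M) ∧
      Module.finrank (Localization.Away f) (LocalizedModule (Submonoid.powers f) M) = Module.finrank R M) ∧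
    (∃ g : (Fin (Module.finrank R M) → R) →ₗ[R] M, Function.Injective g ∧
      ∀ x : M, ∃ c : R, c ≠ 0 ∧ c • x ∈ LinearMap.range g) := by
  classical
  obtain ⟨v, hv⟩ := exists_linearIndependent_of_le_finrank (R := R) (M := M)
    (le_refl (Module.finrank R M))
  let g : (Fin (Module.finrank R M) → R) →ₗ[R] M := Fintype.linearCombination R v
  have hginj : Function.Injective g :=
    linearIndependent_iff_injective_fintypeLinearCombination.mp hv
  have hgrange : LinearMap.range g = Submodule.span R (Set.range v) :=
    Fintype.range_linearCombination R v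
  have htors : ∀ x : M, ∃ c : R, c ≠ 0 ∧ c • x ∈ LinearMap.range g := by
    intro x
    by_contra hcon
    push Not at hcon
    have hli : LinearIndependent R (Fin.cons x v : Fin (Module.finrank R M + 1) → M) := by
      refine LinearIndependent.finCons' x v hv (fun c y hy hc => ?_)
      by_contra hc0
      apply hcon c hc0
      rw [hgrange]
      have h1 : c • x = -y := eq_neg_of_add_eq_zero_left hc
      rw [h1]
      exact Submodule.neg_mem _ hy
    have h2 := hli.fintype_card_le_finrank
    simp at h2
  obtain ⟨T, hT⟩ := (Module.finite_def.mp inferInstance : (⊤ : Submodule R M).FG)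
  choose c hc0 hcmem using htors
  let C : R := ∏ t ∈ T, c t
  have hC0 : C ≠ 0 := Finset.prod_ne_zero_iff.mpr (fun t _ => hc0 t)
  have hCM : ∀ x : M, C • x ∈ LinearMap.range g := by
    intro x
    have hx : x ∈ Submodule.span R (T : Set M) := hT ▸ Submodule.mem_top
    induction hx using Submodule.span_induction with
    | mem t ht =>
      have h1 : C = (∏ s ∈ T.erase t, c s) * c t := (Finset.prod_erase_mul T c ht).symm
      rw [h1, mul_smul]
      exact Submodule.smul_mem _ _ (hcmem t)
    | zero => simp
    | add u w _ _ hu hw => rw [smul_add]; exact Submodule.add_mem _ hu hw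
    | smul a u _ hu => rw [smul_comm]; exact Submodule.smul_mem _ _ hu
  refine ⟨?_, ?_, ⟨g, hginj, fun x => ⟨c x, hc0 x, hcmem x⟩⟩⟩
  · let e := LinearEquiv.ofInjective g hginj
    let h : M →ₗ[R] (Fin (Module.finrank R M) → R) :=
      e.symm.toLinearMap ∘ₗ ((C • LinearMap.id).codRestrict (LinearMap.range g) hCM)
    have hgh : ∀ x, g (h x) = C • x := by
      intro x
      have h1 : (e (h x) : M) = C • x := by simp [h, e]
      simpa [e] using h1
    refine ⟨h, ?_, ?_⟩
    · intro x hx
      refine ⟨C, hC0, ?_⟩
      rw [← hgh, hx, map_zero]
    · intro y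
      refine ⟨C, hC0, g y, ?_⟩
      apply hginj
      rw [hgh, map_smul]
  · refine ⟨C, hC0, ?_⟩
    let S : Submonoid R := Submonoid.powers C
    let f : M →ₗ[R] LocalizedModule S M := LocalizedModule.mkLinearMap S M
    have hli' : LinearIndependent (Localization.Away C) (f ∘ v) :=
      hv.of_isLocalizedModule (Localization.Away C) S f
    have hsp : ⊤ ≤ Submodule.span (Localization.Away C) (Set.range (f ∘ v)) := by
      intro x _
      obtain ⟨⟨m, s⟩, hms⟩ := IsLocalizedModule.surj S f x
      have hms' : (s : R) • x = f m := hms
      have h1 : f (C • m) ∈ Submodule.span (Localization.Away C) (Set.range (f ∘ v)) := by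
        obtain ⟨y, hy⟩ := hCM m
        rw [← hy]
        simp only [g, Fintype.linearCombination_apply, map_sum, map_smul]
        refine Submodule.sum_mem _ (fun i _ => ?_)
        rw [← algebraMap_smul (Localization.Away C) (y i) (f (v i))]
        exact Submodule.smul_mem _ _ (Submodule.subset_span ⟨i, rfl⟩)
      have hu : IsUnit (algebraMap R (Localization.Away C) (C * s)) :=
        IsLocalization.map_units (Localization.Away C)
          (⟨C * s, S.mul_mem (Submonoid.mem_powers C) s.2⟩ : S)
      have h2 : (algebraMap R (Localization.Away C) (C * s)) • x = f (C • m) := by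
        rw [algebraMap_smul, mul_smul, hms', map_smul]
      rw [← Submodule.smul_mem_iff_of_isUnit _ hu, h2]
      exact h1
    haveI : Nontrivial (Localization.Away C) :=
      (IsLocalization.injective (Localization.Away C)
        (powers_le_nonZeroDivisors_of_noZeroDivisors hC0)).nontrivial
    let b : Module.Basis (Fin (Module.finrank R M)) (Localization.Away C) (LocalizedModule S M) :=
      Module.Basis.mk hli' hsp
    refine ⟨Module.Free.of_basis b, ?_⟩
    rw [Module.finrank_eq_card_basis b, Fintype.card_fin]

end Groth.Agent.S6913
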