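import Groth.Statements.S6917
import Mathlib
import Groth.Agent.H74.Milnor
import Groth.Agent.H74.MilnorFlat

set_option autoImplicit false
set_option linter.style.haveILetI false
set_option linter.unusedSectionVars false
universe u
open CategoryTheory
open EtAlg

namespace Groth.Agent.S6917

open CategoryTheory CategoryTheory.Limits PrimeSpectrum

/-- A topological criterion for a square of spaces to be a pushout in `TopCat`. -/
theorem isPushout_top {W X Y Z : Type u} [TopologicalSpace W] [TopologicalSpace X]
    [TopologicalSpace Y] [TopologicalSpace Z]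
    (f : C(W, X)) (g : C(W, Y)) (i : C(X, Z)) (j : C(Y, Z))
    (hcomm : ∀ w, i (f w) = j (g w))
    (hsurj : ∀ z, (∃ x, i x = z) ∨ (∃ y, j y = z))
    (hi : Function.Injective i)
    (hpb : ∀ x y, i x = j y → ∃ w, f w = x ∧ g w = y)
    (hj : ∀ y y', j y = j y' → (∀ x, i x ≠ j y) → y = y')
    (hclosed : ∀ F : Set Z, IsClosed (i ⁻¹' F) → IsClosed (j ⁻¹' F) → IsClosed F) :
    IsPushout (TopCat.ofHom f) (TopCat.ofHom g) (TopCat.ofHom i) (TopCat.ofHom j) := by
  classical
  have hw : TopCat.ofHom f ≫ TopCat.ofHom i = TopCat.ofHom g ≫ TopCat.ofHom j := by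
    ext w
    exact hcomm w
  have key : ∀ (T : Type u) [TopologicalSpace T] (a : C(X, T)) (b : C(Y, T)),
      (∀ w, a (f w) = b (g w)) →
      ∃ l : C(Z, T), (∀ x, l (i x) = a x) ∧ (∀ y, l (j y) = b y) := by
    intro T _ a b hab
    let l : Z → T := fun z =>
      if h : ∃ x, i x = z then a h.choose else b ((hsurj z).resolve_left h).choose
    have hli : ∀ x, l (i x) = a x := by
      intro x
      have h : ∃ x', i x' = i x := ⟨x, rfl⟩
      simp only [l, dif_pos h]
      rw [hi h.choose_spec]
    have hlj : ∀ y, l (j y) = b y := by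
      intro y
      by_cases h : ∃ x, i x = j y
      · simp only [l, dif_pos h]
        obtain ⟨w, hw1, hw2⟩ := hpb _ _ h.choose_spec
        rw [← hw1, hab, hw2]
      · simp only [l, dif_neg h]
        have h2 := ((hsurj (j y)).resolve_left h).choose_spec
        rw [hj _ _ h2 (fun x hx => h ⟨x, hx.trans h2⟩)]
    have hcont : Continuous l := by
      rw [continuous_iff_isClosed]
      intro K hK
      apply hclosed
      · have : i ⁻¹' (l ⁻¹' K) = a ⁻¹' K := by
          ext x
          simp only [Set.mem_preimage, hli]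
        rw [this]
        exact hK.preimage a.continuous
      · have : j ⁻¹' (l ⁻¹' K) = b ⁻¹' K := by
          ext y
          simp only [Set.mem_preimage, hlj]
        rw [this]
        exact hK.preimage b.continuous
    exact ⟨⟨l, hcont⟩, hli, hlj⟩
  have hs : ∀ s : PushoutCocone (TopCat.ofHom f) (TopCat.ofHom g),
      ∀ w, s.inl.hom (f w) = s.inr.hom (g w) := fun s w => by
    have := ConcreteCategory.congr_hom s.condition w
    simpa using this
  choose L hL1 hL2 using fun s : PushoutCocone (TopCat.ofHom f) (TopCat.ofHom g) =>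
    key s.pt s.inl.hom s.inr.hom (hs s)
  refine ⟨⟨hw⟩, ⟨PushoutCocone.IsColimit.mk hw (fun s => TopCat.ofHom (L s)) ?_ ?_ ?_⟩⟩
  · intro s
    ext x
    exact hL1 s x
  · intro s
    ext y
    exact hL2 s y
  · intro s m h1 h2
    ext z
    rcases hsurj z with ⟨x, rfl⟩ | ⟨y, rfl⟩
    · have := ConcreteCategory.congr_hom h1 x
      show m.hom (i x) = L s (i x)
      rw [hL1]
      exact this
    · have := ConcreteCategory.congr_hom h2 y
      show m.hom (j y) = L s (j y)
      rw [hL2]
      exact this

section ring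

open Groth.Agent.H74.Milnor

variable {B' B A' A : Type u} [CommRing B'] [CommRing B] [CommRing A'] [CommRing A]
  [Algebra B' B] [Algebra B' A'] [Algebra B A] [Algebra A' A] [Algebra B' A]
  [IsScalarTower B' B A] [IsScalarTower B' A' A]

lemma mJ_fst (hsq : EtMil.IsFibreSquare B' B A' A) (h : B') (hh : algebraMap B' B h = 0)
    (α : A') : algebraMap B' B (mJ hsq h hh α) = 0 :=
  (exists_mJ hsq h hh α).choose_spec.1

lemma mJ_snd (hsq : EtMil.IsFibreSquare B' B A' A) (h : B') (hh : algebraMap B' B h = 0)
    (α : A') : algebraMap B' A' (mJ hsq h hh α) = α * algebraMap B' A' h :=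
  (exists_mJ hsq h hh α).choose_spec.2

lemma mJ_mul (hsq : EtMil.IsFibreSquare B' B A' A) (h : B') (hh : algebraMap B' B h = 0)
    (α α' : A') : h * mJ hsq h hh (α * α') = mJ hsq h hh α * mJ hsq h hh α' := by
  apply ext' hsq
  · rw [map_mul (algebraMap B' B), hh, zero_mul, map_mul (algebraMap B' B), mJ_fst, zero_mul]
  · rw [map_mul (algebraMap B' A'), map_mul (algebraMap B' A'), mJ_snd, mJ_snd, mJ_snd]
    ring

lemma mJ_algebraMap (hsq : EtMil.IsFibreSquare B' B A' A) (h : B') (hh : algebraMap B' B h = 0)
    (b' : B') : mJ hsq h hh (algebraMap B' A' b') = h * b' := by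
  apply ext' hsq
  · rw [mJ_fst, map_mul, hh, zero_mul]
  · rw [mJ_snd, map_mul, mul_comm]

/-- The ideal of `A'` attached to a prime `z` of `B'` and `h ∈ ker (B' → B)`, `h ∉ z`. -/
def liftIdeal (hsq : EtMil.IsFibreSquare B' B A' A) (z : PrimeSpectrum B') (h : B')
    (hh : algebraMap B' B h = 0) (hz : h ∉ z.asIdeal) : Ideal A' where
  carrier := {α | mJ hsq h hh α ∈ z.asIdeal}
  zero_mem' := by
    show mJ hsq h hh 0 ∈ z.asIdeal
    rw [map_zero]
    exact z.asIdeal.zero_mem
  add_mem' := fun {a b} ha hb => by
    show mJ hsq h hh (a + b) ∈ z.asIdeal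
    rw [map_add]
    exact z.asIdeal.add_mem ha hb
  smul_mem' := fun c α hα => by
    show mJ hsq h hh (c * α) ∈ z.asIdeal
    have h1 : h * mJ hsq h hh (c * α) ∈ z.asIdeal := by
      rw [mJ_mul]
      exact z.asIdeal.mul_mem_left _ hα
    exact (z.isPrime.mem_or_mem h1).resolve_left hz

lemma mem_liftIdeal (hsq : EtMil.IsFibreSquare B' B A' A) (z : PrimeSpectrum B') (h : B')
    (hh : algebraMap B' B h = 0) (hz : h ∉ z.asIdeal) (α : A') :
    α ∈ liftIdeal hsq z h hh hz ↔ mJ hsq h hh α ∈ z.asIdeal := Iff.rfl

lemma liftIdeal_isPrime (hsq : EtMil.IsFibreSquare B' B A' A) (z : PrimeSpectrum B') (h : B')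
    (hh : algebraMap B' B h = 0) (hz : h ∉ z.asIdeal) : (liftIdeal hsq z h hh hz).IsPrime := by
  refine ⟨?_, ?_⟩
  · rw [Ideal.ne_top_iff_one, mem_liftIdeal, mJ_one]
    exact hz
  · intro x y hxy
    rw [mem_liftIdeal] at hxy
    have h1 : mJ hsq h hh x * mJ hsq h hh y ∈ z.asIdeal := by
      rw [← mJ_mul]
      exact z.asIdeal.mul_mem_left _ hxy
    exact z.isPrime.mem_or_mem h1

lemma comap_liftIdeal (hsq : EtMil.IsFibreSquare B' B A' A) (z : PrimeSpectrum B') (h : B')
    (hh : algebraMap B' B h = 0) (hz : h ∉ z.asIdeal) :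
    PrimeSpectrum.comap (algebraMap B' A')
      ⟨liftIdeal hsq z h hh hz, liftIdeal_isPrime hsq z h hh hz⟩ = z := by
  refine PrimeSpectrum.ext (Ideal.ext fun b' => ?_)
  rw [comap_asIdeal, Ideal.mem_comap]
  show mJ hsq h hh (algebraMap B' A' b') ∈ z.asIdeal ↔ _
  rw [mJ_algebraMap]
  exact ⟨fun hb => (z.isPrime.mem_or_mem hb).resolve_left hz, fun hb => z.asIdeal.mul_mem_left _ hb⟩

lemma le_liftIdeal (hsq : EtMil.IsFibreSquare B' B A' A) (z : PrimeSpectrum B') (h : B')
    (hh : algebraMap B' B h = 0) (hz : h ∉ z.asIdeal) (a : Ideal A')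
    (ha : a.comap (algebraMap B' A') ≤ z.asIdeal) : a ≤ liftIdeal hsq z h hh hz := by
  intro α hα
  rw [mem_liftIdeal]
  apply ha
  rw [Ideal.mem_comap, mJ_snd]
  exact a.mul_mem_right _ hα

/-- primes of `B'` not containing `ker (B' → B)` lift to `A'`, compatibly with closed sets. -/
lemma exists_lift (hsq : EtMil.IsFibreSquare B' B A' A) (z : PrimeSpectrum B')
    (hz : ¬ RingHom.ker (algebraMap B' B) ≤ z.asIdeal) (a : Ideal A')
    (ha : a.comap (algebraMap B' A') ≤ z.asIdeal) :
    ∃ y : PrimeSpectrum A', PrimeSpectrum.comap (algebraMap B' A') y = z ∧ a ≤ y.asIdeal := by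
  obtain ⟨h, hh, hhz⟩ := SetLike.not_le_iff_exists.mp hz
  rw [RingHom.mem_ker] at hh
  exact ⟨⟨liftIdeal hsq z h hh hhz, liftIdeal_isPrime hsq z h hh hhz⟩,
    comap_liftIdeal hsq z h hh hhz, le_liftIdeal hsq z h hh hhz a ha⟩

lemma exists_of_ker_le (hsq : EtMil.IsFibreSquare B' B A' A) (z : PrimeSpectrum B')
    (hz : RingHom.ker (algebraMap B' B) ≤ z.asIdeal) :
    ∃ x : PrimeSpectrum B, PrimeSpectrum.comap (algebraMap B' B) x = z := by
  have hr := range_comap_of_surjective B (algebraMap B' B) (surj hsq)
  have hz' : z ∈ zeroLocus (RingHom.ker (algebraMap B' B) : Set B') := by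
    rw [mem_zeroLocus]
    exact hz
  rw [← hr] at hz'
  exact hz'

lemma exists_of_ker_le' (hsq : EtMil.IsFibreSquare B' B A' A) (y : PrimeSpectrum A')
    (hy : RingHom.ker (algebraMap A' A) ≤ y.asIdeal) :
    ∃ w : PrimeSpectrum A, PrimeSpectrum.comap (algebraMap A' A) w = y := by
  have hr := range_comap_of_surjective A (algebraMap A' A) hsq.1
  have hy' : y ∈ zeroLocus (RingHom.ker (algebraMap A' A) : Set A') := by
    rw [mem_zeroLocus]
    exact hy
  rw [← hr] at hy'
  exact hy'

lemma ker_le_comap_iff (hsq : EtMil.IsFibreSquare B' B A' A) (y : PrimeSpectrum A') :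
    RingHom.ker (algebraMap B' B) ≤ (PrimeSpectrum.comap (algebraMap B' A') y).asIdeal ↔
      RingHom.ker (algebraMap A' A) ≤ y.asIdeal := by
  constructor
  · intro hle ι hι
    obtain ⟨h, hh, rfl⟩ := exists_of_mem_ker hsq ι (RingHom.mem_ker.mp hι)
    exact hle (RingHom.mem_ker.mpr hh)
  · intro hle h hh
    rw [comap_asIdeal, Ideal.mem_comap]
    apply hle
    rw [RingHom.mem_ker, ← comm (B := B) (A' := A') (A := A) h, RingHom.mem_ker.mp hh, map_zero]

lemma comap_inj_of_not_le (hsq : EtMil.IsFibreSquare B' B A' A) (y y' : PrimeSpectrum A')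
    (hy : ¬ RingHom.ker (algebraMap A' A) ≤ y.asIdeal)
    (hyy : PrimeSpectrum.comap (algebraMap B' A') y = PrimeSpectrum.comap (algebraMap B' A') y') :
    y = y' := by
  obtain ⟨ι, hι, hιy⟩ := SetLike.not_le_iff_exists.mp hy
  obtain ⟨h, hh, rfl⟩ := exists_of_mem_ker hsq ι (RingHom.mem_ker.mp hι)
  have hιy' : algebraMap B' A' h ∉ y'.asIdeal := by
    intro hc
    apply hιy
    have : h ∈ (PrimeSpectrum.comap (algebraMap B' A') y').asIdeal := hc
    rw [← hyy] at this
    exact this
  have key : ∀ y₀ : PrimeSpectrum A', algebraMap B' A' h ∉ y₀.asIdeal → ∀ α : A',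
      α ∈ y₀.asIdeal ↔ mJ hsq h hh α ∈ (PrimeSpectrum.comap (algebraMap B' A') y₀).asIdeal := by
    intro y₀ h0 α
    rw [comap_asIdeal, Ideal.mem_comap, mJ_snd]
    exact ⟨fun hα => y₀.asIdeal.mul_mem_right _ hα,
      fun hα => (y₀.isPrime.mem_or_mem hα).resolve_right h0⟩
  refine PrimeSpectrum.ext (Ideal.ext fun α => ?_)
  rw [key y hιy, key y' hιy', hyy]

/-- The topology of `Spec B'` is the quotient topology. -/
lemma isClosed_of_preimages (hsq : EtMil.IsFibreSquare B' B A' A) (F : Set (PrimeSpectrum B'))
    (hFi : IsClosed (PrimeSpectrum.comap (algebraMap B' B) ⁻¹' F))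
    (hFj : IsClosed (PrimeSpectrum.comap (algebraMap B' A') ⁻¹' F)) : IsClosed F := by
  obtain ⟨a, ha⟩ := (isClosed_iff_zeroLocus_ideal _).mp hFj
  have hF : F = PrimeSpectrum.comap (algebraMap B' B) '' (PrimeSpectrum.comap (algebraMap B' B) ⁻¹' F) ∪
      zeroLocus (a.comap (algebraMap B' A') : Set B') := by
    apply Set.Subset.antisymm
    · intro z hz
      by_cases hker : RingHom.ker (algebraMap B' B) ≤ z.asIdeal
      · obtain ⟨x, rfl⟩ := exists_of_ker_le hsq z hker
        exact Or.inl ⟨x, hz, rfl⟩
      · obtain ⟨y, rfl, -⟩ := exists_lift hsq z hker ⊥ (by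
          intro b hb
          rw [Ideal.mem_comap, Ideal.mem_bot] at hb
          by_contra hbz
          exact hker (fun k hk => by
            have hk' : algebraMap B' B k = 0 := RingHom.mem_ker.mp hk
            have : k * b = 0 := by
              apply ext' hsq
              · rw [map_mul, hk', zero_mul, map_zero]
              · rw [map_mul, hb, mul_zero, map_zero]
            have h2 : k * b ∈ z.asIdeal := by rw [this]; exact z.asIdeal.zero_mem
            exact (z.isPrime.mem_or_mem h2).resolve_right hbz))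
        right
        have hy : y ∈ zeroLocus (a : Set A') := by
          rw [← ha]
          exact hz
        rw [mem_zeroLocus] at hy ⊢
        intro b hb
        exact hy hb
    · rintro z (⟨x, hx, rfl⟩ | hz)
      · exact hx
      · rw [mem_zeroLocus] at hz
        by_cases hker : RingHom.ker (algebraMap B' B) ≤ z.asIdeal
        · obtain ⟨x, rfl⟩ := exists_of_ker_le hsq z hker
          show x ∈ PrimeSpectrum.comap (algebraMap B' B) ⁻¹' F
          -- `x` lies in the closure of `f (V(aA))`
          set aA : Ideal A := a.map (algebraMap A' A) with haA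
          have h1 : aA.comap (algebraMap B A) ≤ x.asIdeal := by
            intro β hβ
            rw [Ideal.mem_comap, haA, Ideal.mem_map_iff_of_surjective _ hsq.1] at hβ
            obtain ⟨α, hα, hαβ⟩ := hβ
            obtain ⟨b', ⟨hb1, hb2⟩, -⟩ := hsq.2 β α hαβ.symm
            have hb' : b' ∈ (PrimeSpectrum.comap (algebraMap B' B) x).asIdeal := by
              apply hz
              show b' ∈ a.comap (algebraMap B' A')
              rw [Ideal.mem_comap, hb2]
              exact hα
            rw [comap_asIdeal, Ideal.mem_comap, hb1] at hb'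
            exact hb'
          have h2 : x ∈ closure (PrimeSpectrum.comap (algebraMap B A) '' zeroLocus (aA : Set A)) := by
            rw [closure_image_comap_zeroLocus, mem_zeroLocus]
            exact h1
          have h3 : PrimeSpectrum.comap (algebraMap B A) '' zeroLocus (aA : Set A) ⊆
              PrimeSpectrum.comap (algebraMap B' B) ⁻¹' F := by
            rintro _ ⟨w, hw, rfl⟩
            rw [mem_zeroLocus] at hw
            have hgw : PrimeSpectrum.comap (algebraMap A' A) w ∈
                PrimeSpectrum.comap (algebraMap B' A') ⁻¹' F := by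
              rw [ha, mem_zeroLocus]
              intro α hα
              show α ∈ (PrimeSpectrum.comap (algebraMap A' A) w).asIdeal
              rw [comap_asIdeal, Ideal.mem_comap]
              exact hw (Ideal.mem_map_of_mem _ hα)
            have hcomm : PrimeSpectrum.comap (algebraMap B' B) (PrimeSpectrum.comap (algebraMap B A) w) =
                PrimeSpectrum.comap (algebraMap B' A') (PrimeSpectrum.comap (algebraMap A' A) w) := by
              rw [← comap_comp_apply, ← comap_comp_apply, ← IsScalarTower.algebraMap_eq,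
                ← IsScalarTower.algebraMap_eq]
            show PrimeSpectrum.comap (algebraMap B' B) (PrimeSpectrum.comap (algebraMap B A) w) ∈ F
            rw [hcomm]
            exact hgw
          exact (hFi.closure_subset_iff.mpr h3) h2
        · obtain ⟨y, rfl, hay⟩ := exists_lift hsq z hker a hz
          have hy : y ∈ PrimeSpectrum.comap (algebraMap B' A') ⁻¹' F := by
            rw [ha, mem_zeroLocus]
            exact hay
          exact hy
  rw [hF]
  exact ((isClosedEmbedding_comap_of_surjective B (algebraMap B' B) (surj hsq)).isClosedMap _ hFi).union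
    (isClosed_zeroLocus _)

end ring

/-- Let `B' = B ×_A A'` be a fibre square of rings with `A' → A` surjective. Then `Spec(B') = Spec(B)
⨿_{Spec(A)} Spec(A')`: the square of prime spectra is a pushout of topological spaces. -/
theorem result (B' B A' A : Type u) [CommRing B'] [CommRing B] [CommRing A'] [CommRing A]
    [Algebra B' B] [Algebra B' A'] [Algebra B A] [Algebra A' A] [Algebra B' A] [IsScalarTower B' B A] [IsScalarTower B' A' A]
    (hsq : EtMil.IsFibreSquare B' B A' A) :
    IsPushout (TopCat.ofHom (ContinuousMap.mk (PrimeSpectrum.comap (algebraMap B A)) (PrimeSpectrum.continuous_comap _))) (TopCat.ofHom (ContinuousMap.mk (PrimeSpectrum.comap (algebraMap A' A)) (PrimeSpectrum.continuous_comap _)))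
      (TopCat.ofHom (ContinuousMap.mk (PrimeSpectrum.comap (algebraMap B' B)) (PrimeSpectrum.continuous_comap _)))
      (TopCat.ofHom (ContinuousMap.mk (PrimeSpectrum.comap (algebraMap B' A')) (PrimeSpectrum.continuous_comap _))) := by
  apply isPushout_top
  · intro w
    show PrimeSpectrum.comap (algebraMap B' B) (PrimeSpectrum.comap (algebraMap B A) w) =
      PrimeSpectrum.comap (algebraMap B' A') (PrimeSpectrum.comap (algebraMap A' A) w)
    rw [← comap_comp_apply, ← comap_comp_apply, ← IsScalarTower.algebraMap_eq,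
      ← IsScalarTower.algebraMap_eq]
  · intro z
    by_cases hker : RingHom.ker (algebraMap B' B) ≤ z.asIdeal
    · exact Or.inl (exists_of_ker_le hsq z hker)
    · obtain ⟨y, hy, -⟩ := exists_lift hsq z hker ⊥ (by
        intro b hb
        rw [Ideal.mem_comap, Ideal.mem_bot] at hb
        by_contra hbz
        exact hker (fun k hk => by
          have hk' : algebraMap B' B k = 0 := RingHom.mem_ker.mp hk
          have : k * b = 0 := by
            apply Groth.Agent.H74.Milnor.ext' hsq
            · rw [map_mul, hk', zero_mul, map_zero]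
            · rw [map_mul, hb, mul_zero, map_zero]
          have h2 : k * b ∈ z.asIdeal := by rw [this]; exact z.asIdeal.zero_mem
          exact (z.isPrime.mem_or_mem h2).resolve_right hbz))
      exact Or.inr ⟨y, hy⟩
  · exact PrimeSpectrum.comap_injective_of_surjective _ (Groth.Agent.H74.Milnor.surj hsq)
  · intro x y hxy
    have hle : RingHom.ker (algebraMap B' B) ≤
        (PrimeSpectrum.comap (algebraMap B' A') y).asIdeal := by
      have h0 : PrimeSpectrum.comap (algebraMap B' B) x = PrimeSpectrum.comap (algebraMap B' A') y :=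
        hxy
      rw [← h0]
      intro k hk
      rw [comap_asIdeal, Ideal.mem_comap, RingHom.mem_ker.mp hk]
      exact x.asIdeal.zero_mem
    obtain ⟨w, rfl⟩ := exists_of_ker_le' hsq y ((ker_le_comap_iff hsq y).mp hle)
    refine ⟨w, ?_, rfl⟩
    show PrimeSpectrum.comap (algebraMap B A) w = x
    apply PrimeSpectrum.comap_injective_of_surjective _ (Groth.Agent.H74.Milnor.surj hsq)
    have h0 : PrimeSpectrum.comap (algebraMap B' B) x =
        PrimeSpectrum.comap (algebraMap B' A') (PrimeSpectrum.comap (algebraMap A' A) w) := hxy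
    rw [h0, ← comap_comp_apply, ← comap_comp_apply, ← IsScalarTower.algebraMap_eq,
      ← IsScalarTower.algebraMap_eq]
  · intro y y' hyy hne
    apply comap_inj_of_not_le hsq y y' ?_ hyy
    intro hle
    obtain ⟨x, hx⟩ := exists_of_ker_le hsq _ ((ker_le_comap_iff hsq y).mpr hle)
    exact hne x hx
  · intro F hFi hFj
    exact isClosed_of_preimages hsq F hFi hFj

end Groth.Agent.S6917
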