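import Groth.Statements.S6919
import Groth.Agent.H57.FlatDescLoc

set_option autoImplicit false
universe u
open FlatMor
open TensorProduct
set_option linter.style.haveILetI false

namespace Groth.Agent.S6919

/-- Let `R → S` be a ring map, `J ⊆ S` an ideal, `M` an `S`-module and `I ⊆ R` an ideal; let `R → R'` be
a ring map and `I' ⊆ R'` an ideal containing `IR'`, and put `S' = S ⊗_R R'`, `M' = M ⊗_R R'`. Assume
that every prime of `R` containing `I` is the contraction of a prime of `R'` containing `I'`, and
that `R'_{𝔭'}` is flat over `R` for every prime `𝔭' ⊇ I'`. If `M'_{𝔮'}` is flat over `R'` for every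
prime `𝔮' ⊇ I'S' + JS'` of `S'`, then `M_𝔮` is flat over `R` for every prime `𝔮 ⊇ IS + J` of `S`.
(The published statement descends from a pair `(R'', I'')` to an arbitrary pair `(R', I')` over `R`;
this row takes `(R', I') = (R, I)`.) -/
theorem result {R S R' S' : Type u} [CommRing R] [CommRing S] [CommRing R'] [CommRing S']
    [Algebra R S] [Algebra R R'] [Algebra S S'] [Algebra R' S'] [Algebra R S'] [IsScalarTower R S S']
    [IsScalarTower R R' S'] [Algebra.IsPushout R S R' S']
    (I : Ideal R) (I' : Ideal R') (hII' : I.map (algebraMap R R') ≤ I')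
    {M M' : Type u} [AddCommGroup M] [Module S M] [Module R M] [IsScalarTower R S M]
    [AddCommGroup M'] [Module S' M'] [Module R' M'] [IsScalarTower R' S' M'] [Module S M'] [IsScalarTower S S' M']
    (f : M →ₗ[S] M') (hf : IsBaseChange S' f) (J : Ideal S)
    (hsurj : ∀ (p : Ideal R) [p.IsPrime], I ≤ p → ∃ (p' : Ideal R') (_ : p'.IsPrime), I' ≤ p' ∧ p'.comap (algebraMap R R') = p)
    (hflat : ∀ (p' : Ideal R') [p'.IsPrime], I' ≤ p' → Module.Flat R (Localization.AtPrime p'))
    (h : (∀ (q : Ideal S') [q.IsPrime], I'.map (algebraMap R' S') ⊔ J.map (algebraMap S S') ≤ q → FlatCA.FlatAt R' q M')) :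
    (∀ (q : Ideal S) [q.IsPrime], I.map (algebraMap R S) ⊔ J ≤ q → FlatCA.FlatAt R q M) := by
  intro q hq hle
  letI : Module R M' := Module.compHom M' (algebraMap R R')
  haveI : IsScalarTower R R' M' := IsScalarTower.of_algebraMap_smul (fun r m => rfl)
  haveI : IsScalarTower R S' M' := IsScalarTower.of_algebraMap_smul (fun r m => by
    show algebraMap R S' r • m = algebraMap R R' r • m
    rw [IsScalarTower.algebraMap_apply R R' S', algebraMap_smul])
  haveI : IsScalarTower R S M' := IsScalarTower.of_algebraMap_smul (fun r m => by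
    show algebraMap R S r • m = algebraMap R R' r • m
    rw [← algebraMap_smul S' (algebraMap R S r) m, ← algebraMap_smul S' (algebraMap R R' r) m,
      ← IsScalarTower.algebraMap_apply, ← IsScalarTower.algebraMap_apply])
  -- the primes
  have hIp : I ≤ q.comap (algebraMap R S) :=
    Ideal.map_le_iff_le_comap.mp (le_sup_left.trans hle)
  obtain ⟨p', hp', hI'p', hp'p⟩ := hsurj (q.comap (algebraMap R S)) hIp
  obtain ⟨q', hq', hq'q, hq'p'⟩ := Groth.Agent.H57.FlatDescLoc.exists_prime_pushout
    (R := R) (S := S) (R' := R') (S' := S') q p' hp'p.symm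
  subst hq'p'
  have hle' : I'.map (algebraMap R' S') ⊔ J.map (algebraMap S S') ≤ q' :=
    sup_le (Ideal.map_le_iff_le_comap.mpr hI'p')
      (by rw [Ideal.map_le_iff_le_comap, hq'q]; exact le_sup_right.trans hle)
  haveI hX : Module.Flat R' (LocalizedModule q'.primeCompl M') := h q' hle'
  haveI hL : Module.Flat R (Localization.AtPrime (q'.comap (algebraMap R' S'))) :=
    hflat _ hI'p'
  -- flatness of `S'_{q'}` over `S`
  haveI : Algebra.IsPushout R R' S S' := Algebra.IsPushout.symm inferInstance
  haveI hL' : Module.Flat R
      (LocalizedModule (q'.comap (algebraMap R' S')).primeCompl R') := hL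
  have hbc : IsBaseChange S' (Algebra.linearMap R' S') :=
    IsBaseChange.of_equiv (TensorProduct.AlgebraTensorModule.rid R' S' S')
      (fun x => by simp [Algebra.algebraMap_eq_smul_one])
  have hFS0 : Module.Flat S (LocalizedModule q'.primeCompl S') :=
    Groth.Agent.H57.flat_localizedModule_baseChange (R := R) (S := R') (R' := S) (S' := S')
      (Algebra.linearMap R' S') hbc q'
  haveI hFS : Module.Flat S (Localization.AtPrime q') := hFS0
  -- flatness of `S'_{q'} ⊗ M` over `R`
  have hXR : Module.Flat R (LocalizedModule q'.primeCompl M') := by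
    refine Groth.Agent.H57.FlatDescLoc.flat_of_flat_of_bijective_smul
      (q'.comap (algebraMap R' S')) (LocalizedModule q'.primeCompl M') (fun r hr => ?_)
    have hs : algebraMap R' S' r ∈ q'.primeCompl := hr
    have hu := (Module.End.isUnit_iff _).mp (IsLocalizedModule.map_units
      (LocalizedModule.mkLinearMap q'.primeCompl M') ⟨algebraMap R' S' r, hs⟩)
    convert hu using 1
    ext x
    rw [Module.algebraMap_end_apply]
    exact (algebraMap_smul S' r x).symm
  have hg : IsBaseChange (Localization.AtPrime q')
      (LocalizedModule.mkLinearMap q'.primeCompl M') :=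
    IsLocalizedModule.isBaseChange q'.primeCompl (Localization.AtPrime q')
      (LocalizedModule.mkLinearMap q'.primeCompl M')
  have hcomp := IsBaseChange.comp hf hg
  haveI : Module.Flat R (Localization.AtPrime q' ⊗[S] M) := by
    haveI := hXR
    exact Module.Flat.of_linearEquiv (hcomp.equiv.restrictScalars R)
  -- conclusion
  refine Groth.Agent.H57.FlatDescLoc.flat_localizedModule_of_flat_tensor (R := R) (S := S)
    (F := Localization.AtPrime q') q (IsLocalRing.maximalIdeal (Localization.AtPrime q'))
    Ideal.IsPrime.ne_top' ?_ M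
  intro a ha
  rw [Ideal.mem_comap, IsScalarTower.algebraMap_apply S S' (Localization.AtPrime q'),
    IsLocalization.AtPrime.to_map_mem_maximal_iff (Localization.AtPrime q') q']
  rw [← hq'q] at ha
  exact ha

end Groth.Agent.S6919
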