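import Groth.Statements.S6920
import Mathlib

set_option autoImplicit false
universe u
open CategoryTheory CategoryTheory.Limits MonoidalCategory
open DRing

namespace Groth.Agent.S6920

open TensorProduct in
/-- For an epimorphism of algebras, `R`-linear maps between `S`-modules are `S`-linear. -/
theorem map_smul_of_isEpi {R S : Type*} [CommRing R] [CommRing S] [Algebra R S] [Algebra.IsEpi R S]
    {M N : Type*} [AddCommGroup M] [AddCommGroup N] [Module R M] [Module S M] [IsScalarTower R S M]
    [Module R N] [Module S N] [IsScalarTower R S N] (g : M →ₗ[R] N) (s : S) (m : M) :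
    g (s • m) = s • g m := by
  have h1 : (1 : S) ⊗ₜ[R] (s • m) = s ⊗ₜ[R] m := by
    apply (TensorProduct.lid' R S M).injective
    simp
  let F : S ⊗[R] M →ₗ[R] N :=
    TensorProduct.lift ((LinearMap.restrictScalars₁₂ R R (LinearMap.lsmul S N)).compl₂ g)
  have h2 := congrArg F h1
  simpa [F] using h2

theorem exists_lift_of_epi {R S : Type u} [CommRing R] [CommRing S] (φ : R →+* S)
    (hφ : Epi (CommRingCat.ofHom φ)) {M N : ModuleCat.{u} S}
    (g : (ModuleCat.restrictScalars φ).obj M ⟶ (ModuleCat.restrictScalars φ).obj N) :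
    ∃ g' : M ⟶ N, (ModuleCat.restrictScalars φ).map g' = g := by
  letI : Algebra R S := φ.toAlgebra
  have hepi : Algebra.IsEpi R S := CommRingCat.epi_iff_epi.mp hφ
  letI : Module R M := Module.compHom M φ
  letI : Module R N := Module.compHom N φ
  haveI : IsScalarTower R S M := ⟨fun r s m => by
    show (φ r * s) • m = φ r • (s • m)
    rw [mul_smul]⟩
  haveI : IsScalarTower R S N := ⟨fun r s m => by
    show (φ r * s) • m = φ r • (s • m)
    rw [mul_smul]⟩
  let g0 : M →ₗ[R] N := g.hom
  refine ⟨ModuleCat.ofHom
    { toFun := g0, map_add' := g0.map_add, map_smul' := fun s m => map_smul_of_isEpi g0 s m }, ?_⟩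
  apply ModuleCat.hom_ext
  apply LinearMap.ext
  intro x
  rfl

/-- For an epimorphism of rings `φ : R → S` and a complex `I•` of `S`-modules, if the underlying complex
of `R`-modules of `I•` is K-injective, then `I•` itself is K-injective over `S`. -/
theorem result (R S : Type u) [CommRing R] [CommRing S] (φ : R →+* S)
    (hφ : Epi (CommRingCat.ofHom φ)) (I : DRing.Cx S)
    [CochainComplex.IsKInjective ((DRing.restrictCx φ).obj I)] : CochainComplex.IsKInjective I := by
  refine ⟨fun {K} f hK => ?_⟩
  let F := ModuleCat.restrictScalars φ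
  have hK' : ((DRing.restrictCx φ).obj K).Acyclic := fun i => (hK i).map F
  obtain ⟨h⟩ := CochainComplex.IsKInjective.nonempty_homotopy_zero ((DRing.restrictCx φ).map f) hK'
  choose hom' hhom' using fun i j => exists_lift_of_epi φ hφ (h.hom i j)
  refine ⟨{ hom := hom', zero := ?_, comm := ?_ }⟩
  · intro i j hij
    apply F.map_injective
    rw [hhom', h.zero i j hij, F.map_zero]
    rfl
  · intro i
    apply F.map_injective
    have e1 : F.map (dNext i hom') = dNext i h.hom := by
      show F.map (K.d i _ ≫ hom' _ i) = ((DRing.restrictCx φ).obj K).d i _ ≫ h.hom _ i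
      rw [F.map_comp, hhom']
      rfl
    have e2 : F.map (prevD i hom') = prevD i h.hom := by
      show F.map (hom' i _ ≫ I.d _ i) = h.hom i _ ≫ ((DRing.restrictCx φ).obj I).d _ i
      rw [F.map_comp, hhom']
      rfl
    have hc := h.comm i
    show F.map (f.f i) = F.map (dNext i hom' + prevD i hom' + (0 : K ⟶ I).f i)
    rw [F.map_add, F.map_add, e1, e2, HomologicalComplex.zero_f, F.map_zero]
    exact hc

end Groth.Agent.S6920
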