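import Groth.Statements.S6922
import Mathlib
import Groth.Agent.H97.Milnor
import Groth.Agent.H97.MilnorRel
import Groth.Agent.H74.MilnorFlat
import Groth.Agent.S14949
import Groth.Agent.S14952

set_option autoImplicit false
set_option linter.style.haveILetI false
set_option linter.unusedSectionVars false
universe u
open TensorProduct
open EtAlg

namespace Groth.Agent.S6922

open TensorProduct Groth.Agent.H97.Milnor

section surjsq

variable {B' B A' A : Type u} [CommRing B'] [CommRing B] [CommRing A'] [CommRing A]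
  [Algebra B' B] [Algebra B' A'] [Algebra B A] [Algebra A' A] [Algebra B' A]
  [IsScalarTower B' B A] [IsScalarTower B' A' A]
  {N M' : Type u} [AddCommGroup N] [Module B N] [Module B' N] [IsScalarTower B' B N]
  [AddCommGroup M'] [Module A' M'] [Module B' M'] [IsScalarTower B' A' M']
  {G : Type*} [AddCommGroup G] [Module B' G]
  {φ : A ⊗[B] N ≃ₗ[A] A ⊗[A'] M'} {p₁ : G →ₗ[B'] N} {p₂ : G →ₗ[B'] M'}

/-- For `i ∈ ker (A' → A)`, the element `(0, i m')` lies in `ker (B' → B) • G`. -/
theorem exists_ker_smul' (hs : IsSurjSquare B' B A' A) (h : IsGlue φ p₁ p₂)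
    (i : A') (hi : algebraMap A' A i = 0) (m' : M') :
    ∃ g : G, p₁ g = 0 ∧ p₂ g = i • m' ∧ (1 : B) ⊗ₜ[B'] g = 0 := by
  have key : ∀ x : A' ⊗[B'] G, ∀ i : A', algebraMap A' A i = 0 →
      ∃ g : G, p₁ g = 0 ∧ p₂ g = i • LinearMap.liftBaseChange A' p₂ x ∧
        (1 : B) ⊗ₜ[B'] g = 0 := by
    intro x
    induction x using TensorProduct.induction_on with
    | zero =>
      intro i _
      exact ⟨0, map_zero _, by rw [map_zero, map_zero, smul_zero], TensorProduct.tmul_zero _ _⟩
    | tmul a' g₀ =>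
      intro i hi
      obtain ⟨j, hj1, hj2⟩ := hs.exists_of_mem_ker (i * a')
        (by rw [map_mul, hi, zero_mul])
      refine ⟨j • g₀, fst_smul_eq_zero p₁ j hj1 g₀, ?_, ?_⟩
      · rw [snd_smul_eq (A' := A') p₂ j g₀, hj2, LinearMap.liftBaseChange_tmul, mul_smul]
      · rw [TensorProduct.tmul_smul, TensorProduct.smul_tmul', Algebra.smul_def, hj1, zero_mul,
          TensorProduct.zero_tmul]
    | add x y hx hy =>
      intro i hi
      obtain ⟨gx, hx1, hx2, hx3⟩ := hx i hi
      obtain ⟨gy, hy1, hy2, hy3⟩ := hy i hi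
      exact ⟨gx + gy, by rw [map_add, hx1, hy1, add_zero],
        by rw [map_add, hx2, hy2, map_add, smul_add],
        by rw [TensorProduct.tmul_add, hx3, hy3, add_zero]⟩
  obtain ⟨x, rfl⟩ := h.snd_surjective' hs m'
  exact key x i hi

/-- `B ⊗ G → N` is bijective. -/
theorem fst_bijective' (hs : IsSurjSquare B' B A' A) (h : IsGlue φ p₁ p₂) :
    Function.Bijective (LinearMap.liftBaseChange B p₁) := by
  constructor
  · rw [injective_iff_map_eq_zero]
    intro x hx
    obtain ⟨g, rfl⟩ := exists_one_tmul hs.surj x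
    rw [LinearMap.liftBaseChange_tmul, one_smul] at hx
    have hg2 : (1 : A) ⊗ₜ[A'] p₂ g = 0 := by
      rw [← h.compat, hx, TensorProduct.tmul_zero, map_zero]
    have hmem := mem_ker_smul_top hs.1 (p₂ g) hg2
    have key : ∀ m ∈ RingHom.ker (algebraMap A' A) • (⊤ : Submodule A' M'),
        ∃ g' : G, p₁ g' = 0 ∧ p₂ g' = m ∧ (1 : B) ⊗ₜ[B'] g' = 0 := by
      intro m hm
      refine Submodule.smul_induction_on hm
        (fun i hi m _ => exists_ker_smul' hs h i (RingHom.mem_ker.mp hi) m) ?_
      rintro x y ⟨gx, hx1, hx2, hx3⟩ ⟨gy, hy1, hy2, hy3⟩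
      exact ⟨gx + gy, by rw [map_add, hx1, hy1, add_zero], by rw [map_add, hx2, hy2],
        by rw [TensorProduct.tmul_add, hx3, hy3, add_zero]⟩
    obtain ⟨g', h1, h2, h3⟩ := key _ hmem
    have hgg : g = g' := by
      have := h.inj (g - g') (by rw [map_sub, hx, h1, sub_zero]) (by rw [map_sub, h2, sub_self])
      exact sub_eq_zero.mp this
    rw [hgg, h3]
  · intro n
    obtain ⟨g, rfl⟩ := h.exists_fst' hs n
    exact ⟨(1 : B) ⊗ₜ g, by rw [LinearMap.liftBaseChange_tmul, one_smul]⟩

/-- `A' ⊗ G → M'` is bijective. -/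
theorem snd_bijective' (hs : IsSurjSquare B' B A' A) (h : IsGlue φ p₁ p₂) :
    Function.Bijective (LinearMap.liftBaseChange A' p₂) := by
  refine ⟨?_, h.snd_surjective' hs⟩
  rw [injective_iff_map_eq_zero]
  intro x hx
  have hb1 := fst_bijective' hs h
  let e₁ : A ⊗[B] (B ⊗[B'] G) ≃ₗ[A] A ⊗[B'] G := AlgebraTensorModule.cancelBaseChange B' B A A G
  let e₃ : A ⊗[A'] (A' ⊗[B'] G) ≃ₗ[A] A ⊗[B'] G :=
    AlgebraTensorModule.cancelBaseChange B' A' A A G
  have key : ∀ z : A ⊗[B] (B ⊗[B'] G),
      ((LinearMap.liftBaseChange A' p₂).baseChange A) (e₃.symm (e₁ z)) =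
        φ (((LinearMap.liftBaseChange B p₁).baseChange A) z) := by
    intro z
    induction z using TensorProduct.induction_on with
    | zero => simp only [map_zero]
    | add x y hx hy => simp only [map_add, hx, hy]
    | tmul a w =>
      induction w using TensorProduct.induction_on with
      | zero => simp only [TensorProduct.tmul_zero, map_zero]
      | add x y hx hy => simp only [TensorProduct.tmul_add, map_add, hx, hy]
      | tmul b g =>
        have h1 : a ⊗ₜ[B] (b • p₁ g) = (b • a) • ((1 : A) ⊗ₜ[B] p₁ g) := by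
          rw [TensorProduct.smul_tmul', smul_eq_mul, mul_one, TensorProduct.smul_tmul]
        have h2 : (b • a) ⊗ₜ[A'] p₂ g = (b • a) • ((1 : A) ⊗ₜ[A'] p₂ g) := by
          rw [TensorProduct.smul_tmul', smul_eq_mul, mul_one]
        show ((LinearMap.liftBaseChange A' p₂).baseChange A)
            ((b • a) ⊗ₜ[A'] ((1 : A') ⊗ₜ[B'] g)) = φ (a ⊗ₜ[B] (b • p₁ g))
        rw [LinearMap.baseChange_tmul, LinearMap.liftBaseChange_tmul, one_smul, h1, map_smul,
          h.compat, h2]
  have hinj1 : Function.Injective ((LinearMap.liftBaseChange B p₁).baseChange A) := by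
    let E := LinearEquiv.ofBijective (LinearMap.liftBaseChange B p₁) hb1
    have hcomp : (E.symm.toLinearMap.baseChange A) ∘ₗ
        ((LinearMap.liftBaseChange B p₁).baseChange A) = LinearMap.id := by
      rw [← LinearMap.baseChange_comp]
      have : E.symm.toLinearMap ∘ₗ (LinearMap.liftBaseChange B p₁) = LinearMap.id :=
        LinearMap.ext fun z => E.symm_apply_apply z
      rw [this, LinearMap.baseChange_id]
    exact Function.LeftInverse.injective (g := E.symm.toLinearMap.baseChange A)
      (fun z => LinearMap.congr_fun hcomp z)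
  have ht : (1 : A) ⊗ₜ[A'] x = 0 := by
    have h0 : ((LinearMap.liftBaseChange A' p₂).baseChange A) ((1 : A) ⊗ₜ[A'] x) = 0 := by
      rw [LinearMap.baseChange_tmul, hx, TensorProduct.tmul_zero]
    have h1 := key (e₁.symm (e₃ ((1 : A) ⊗ₜ[A'] x)))
    rw [LinearEquiv.apply_symm_apply, LinearEquiv.symm_apply_apply, h0] at h1
    have h2 : ((LinearMap.liftBaseChange B p₁).baseChange A)
        (e₁.symm (e₃ ((1 : A) ⊗ₜ[A'] x))) = 0 := φ.injective (by rw [← h1, map_zero])
    have h3 : e₁.symm (e₃ ((1 : A) ⊗ₜ[A'] x)) = 0 := hinj1 (by rw [h2, map_zero])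
    have h4 : e₃ ((1 : A) ⊗ₜ[A'] x) = 0 := by
      have := congrArg e₁ h3
      rwa [LinearEquiv.apply_symm_apply, map_zero] at this
    exact e₃.injective (by rw [h4, map_zero])
  have hmem := mem_ker_smul_top hs.1 x ht
  have aux : ∀ t : A' ⊗[B'] G, ∀ i : A', algebraMap A' A i = 0 →
      ∃ g₀ : G, p₁ g₀ = 0 ∧ i • t = (1 : A') ⊗ₜ[B'] g₀ := by
    intro t
    induction t using TensorProduct.induction_on with
    | zero =>
      intro i _
      exact ⟨0, map_zero _, by rw [smul_zero, TensorProduct.tmul_zero]⟩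
    | tmul a' g =>
      intro i hi
      obtain ⟨j, hj1, hj2⟩ := hs.exists_of_mem_ker (i * a')
        (by rw [map_mul, hi, zero_mul])
      refine ⟨j • g, fst_smul_eq_zero p₁ j hj1 g, ?_⟩
      rw [TensorProduct.smul_tmul', smul_eq_mul, TensorProduct.tmul_smul,
        TensorProduct.smul_tmul', Algebra.smul_def, hj2, mul_one]
    | add x y hx hy =>
      intro i hi
      obtain ⟨gx, hx1, hx2⟩ := hx i hi
      obtain ⟨gy, hy1, hy2⟩ := hy i hi
      exact ⟨gx + gy, by rw [map_add, hx1, hy1, add_zero],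
        by rw [smul_add, hx2, hy2, TensorProduct.tmul_add]⟩
  have key3 : ∀ y ∈ RingHom.ker (algebraMap A' A) • (⊤ : Submodule A' (A' ⊗[B'] G)),
      ∃ g₀ : G, p₁ g₀ = 0 ∧ y = (1 : A') ⊗ₜ[B'] g₀ := by
    intro y hy
    refine Submodule.smul_induction_on hy
      (fun i hi t _ => aux t i (RingHom.mem_ker.mp hi)) ?_
    rintro x y ⟨gx, hx1, hx2⟩ ⟨gy, hy1, hy2⟩
    exact ⟨gx + gy, by rw [map_add, hx1, hy1, add_zero],
      by rw [hx2, hy2, TensorProduct.tmul_add]⟩
  obtain ⟨g₀, hg1, rfl⟩ := key3 x hmem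
  rw [LinearMap.liftBaseChange_tmul, one_smul] at hx
  rw [h.inj g₀ hg1 hx, TensorProduct.tmul_zero]


end surjsq

section pushout

variable (R S A B : Type*) [CommRing R] [CommRing S] [CommRing A] [CommRing B]
  [Algebra R S] [Algebra R A] [Algebra R B] [Algebra A B] [Algebra S B]
  [IsScalarTower R A B] [IsScalarTower R S B] [Algebra.IsPushout R S A B]

/-- Injectivity of `S ⊗[R] ι` implies injectivity of `B ⊗[A] ι` when `B = S ⊗[R] A`. -/
theorem lTensor_injective_of_pushout {M₁ M₂ : Type*} [AddCommGroup M₁] [Module R M₁] [Module A M₁]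
    [IsScalarTower R A M₁] [AddCommGroup M₂] [Module R M₂] [Module A M₂] [IsScalarTower R A M₂]
    (ι : M₁ →ₗ[A] M₂) (h : Function.Injective ((ι.restrictScalars R).lTensor S)) :
    Function.Injective (ι.lTensor B) := by
  have nat : ∀ y : S ⊗[R] M₁,
      (Algebra.IsPushout.cancelBaseChange R S A B M₂).symm ((ι.restrictScalars R).lTensor S y) =
        ι.lTensor B ((Algebra.IsPushout.cancelBaseChange R S A B M₁).symm y) := by
    intro y
    induction y using TensorProduct.induction_on with
    | zero => simp only [map_zero]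
    | tmul s m =>
      rw [LinearMap.lTensor_tmul, Algebra.IsPushout.cancelBaseChange_symm_tmul,
        Algebra.IsPushout.cancelBaseChange_symm_tmul, LinearMap.lTensor_tmul]
      rfl
    | add x y hx hy => simp only [map_add, hx, hy]
  rw [injective_iff_map_eq_zero]
  intro x hx
  obtain ⟨y, rfl⟩ := (Algebra.IsPushout.cancelBaseChange R S A B M₁).symm.surjective x
  rw [← nat] at hx
  have h0 : (ι.restrictScalars R).lTensor S y = 0 := (LinearEquiv.map_eq_zero_iff _).mp hx
  have hy : y = 0 := h (by rw [h0, map_zero])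
  rw [hy, map_zero]

include S in
/-- For a surjection `f : F → G` of `A`-modules with `G` flat over `R`, `F` finite and
`B ⊗[A] G` finitely presented over `B = S ⊗[R] A`, the module `B ⊗[A] ker f` is finite. -/
theorem finite_tensor_ker_of_pushout {F G : Type*} [AddCommGroup F] [Module R F] [Module A F]
    [IsScalarTower R A F] [AddCommGroup G] [Module R G] [Module A G] [IsScalarTower R A G]
    [Module.Flat R G] [Module.Finite A F] [Module.FinitePresentation B (B ⊗[A] G)]
    (f : F →ₗ[A] G) (hf : Function.Surjective f) :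
    Module.Finite B (B ⊗[A] (LinearMap.ker f)) := by
  have hinjS : Function.Injective (((LinearMap.ker f).subtype.restrictScalars R).lTensor S) :=
    Groth.Agent.H74.Milnor.lTensor_injective_of_flat_quotient
      ((LinearMap.ker f).subtype.restrictScalars R) (f.restrictScalars R)
      (LinearMap.exact_subtype_ker_map f) hf (Submodule.injective_subtype _) S
  have hinj : Function.Injective ((LinearMap.ker f).subtype.lTensor B) :=
    lTensor_injective_of_pushout R S A B (LinearMap.ker f).subtype hinjS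
  have hinj' : Function.Injective ((LinearMap.ker f).subtype.baseChange B) := hinj
  have hsurjB : Function.Surjective (f.baseChange B) := LinearMap.lTensor_surjective B hf
  have hfg : (LinearMap.ker (f.baseChange B)).FG :=
    Module.FinitePresentation.fg_ker (f.baseChange B) hsurjB
  have hex := lTensor_exact B (LinearMap.exact_subtype_ker_map f) hf
  have hrange : LinearMap.range ((LinearMap.ker f).subtype.baseChange B)
      = LinearMap.ker (f.baseChange B) := by
    ext x
    rw [LinearMap.mem_ker, LinearMap.mem_range]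
    exact (hex x).symm
  let e := LinearEquiv.ofInjective ((LinearMap.ker f).subtype.baseChange B) hinj'
  have hfinr : Module.Finite B (LinearMap.range ((LinearMap.ker f).subtype.baseChange B)) := by
    rw [hrange]
    exact Module.Finite.iff_fg.mpr hfg
  exact Module.Finite.equiv e.symm

end pushout

section generic

variable (R S : Type*) [CommRing R] [CommRing S] [Algebra R S]

theorem exists_fg_baseChange_eq_top (L : Type*) [AddCommGroup L] [Module R L]
    [Module.Finite S (S ⊗[R] L)] : ∃ P : Submodule R L, P.FG ∧ P.baseChange S = ⊤ := by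
  obtain ⟨s, hs⟩ := (Module.finite_def (R := S) (M := S ⊗[R] L)).mp inferInstance
  obtain ⟨P, hPfin, hsub⟩ := TensorProduct.exists_finite_submodule_right_of_setFinite
    (s : Set (S ⊗[R] L)) s.finite_toSet
  refine ⟨P, Module.Finite.iff_fg.mp hPfin, ?_⟩
  rw [eq_top_iff, ← hs, Submodule.span_le]
  intro x hx
  obtain ⟨v, hv⟩ := hsub hx
  show x ∈ LinearMap.range (P.subtype.baseChange S)
  exact ⟨v, hv⟩

theorem subsingleton_tensor_quotient {L : Type*} [AddCommGroup L] [Module R L]
    (P : Submodule R L) (h : P.baseChange S = ⊤) : Subsingleton (S ⊗[R] (L ⧸ P)) := by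
  have hex := lTensor_exact S (LinearMap.exact_subtype_mkQ P) (Submodule.mkQ_surjective P)
  have hsurj : Function.Surjective (P.mkQ.lTensor S) :=
    LinearMap.lTensor_surjective S (Submodule.mkQ_surjective P)
  refine subsingleton_of_forall_eq 0 fun z => ?_
  obtain ⟨w, rfl⟩ := hsurj z
  have hw : w ∈ P.baseChange S := by
    rw [h]
    exact Submodule.mem_top
  obtain ⟨v, rfl⟩ := LinearMap.mem_range.mp hw
  exact (hex _).mpr ⟨v, rfl⟩

end generic

section rel

variable {B' B A' A : Type u} [CommRing B'] [CommRing B] [CommRing A'] [CommRing A]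
  [Algebra B' B] [Algebra B' A'] [Algebra B A] [Algebra A' A] [Algebra B' A]
  [IsScalarTower B' B A] [IsScalarTower B' A' A]
  (hsq : EtMil.IsFibreSquare B' B A' A)
  {D' D C' : Type u} [CommRing D'] [CommRing D] [CommRing C']
  [Algebra B' D'] [Algebra B D] [Algebra A' C']
  [Algebra D' D] [Algebra B' D] [IsScalarTower B' B D] [IsScalarTower B' D' D]
  [Algebra.IsPushout B' B D' D]
  [Algebra D' C'] [Algebra B' C'] [IsScalarTower B' A' C'] [IsScalarTower B' D' C']
  [Algebra.IsPushout B' A' D' C']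

include hsq

theorem rel_subsingleton (L : Type u) [AddCommGroup L] [Module D' L]
    [Subsingleton (D ⊗[D'] L)] [Subsingleton (C' ⊗[D'] L)] : Subsingleton L := by
  letI : Module B' L := Module.compHom L (algebraMap B' D')
  haveI : IsScalarTower B' D' L := IsScalarTower.of_algebraMap_smul fun _ _ => rfl
  haveI : Subsingleton (B ⊗[B'] L) :=
    (Algebra.IsPushout.cancelBaseChange B' B D' D L).symm.toEquiv.subsingleton
  haveI : Subsingleton (A' ⊗[B'] L) :=
    (Algebra.IsPushout.cancelBaseChange B' A' D' C' L).symm.toEquiv.subsingleton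
  exact Groth.Agent.S14949.result B' B A' A hsq L

theorem rel_flat (L : Type u) [AddCommGroup L] [Module D' L] [Module B' L]
    [IsScalarTower B' D' L] [Module.Flat B (D ⊗[D'] L)] [Module.Flat A' (C' ⊗[D'] L)] :
    Module.Flat B' L := by
  haveI : Module.Flat B (B ⊗[B'] L) :=
    Module.Flat.of_linearEquiv (Algebra.IsPushout.cancelBaseChange B' B D' D L).symm
  haveI : Module.Flat A' (A' ⊗[B'] L) :=
    Module.Flat.of_linearEquiv (Algebra.IsPushout.cancelBaseChange B' A' D' C' L).symm
  exact Groth.Agent.S14952.result B' B A' A hsq L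

theorem rel_finite (L : Type u) [AddCommGroup L] [Module D' L]
    [Module.Finite D (D ⊗[D'] L)] [Module.Finite C' (C' ⊗[D'] L)] : Module.Finite D' L := by
  obtain ⟨P₁, hP₁, hP₁top⟩ := exists_fg_baseChange_eq_top D' D L
  obtain ⟨P₂, hP₂, hP₂top⟩ := exists_fg_baseChange_eq_top D' C' L
  have hPfg : (P₁ ⊔ P₂).FG := hP₁.sup hP₂
  have h1 : (P₁ ⊔ P₂).baseChange D = ⊤ := by
    rw [eq_top_iff, ← hP₁top]
    exact Submodule.baseChange_mono D le_sup_left
  have h2 : (P₁ ⊔ P₂).baseChange C' = ⊤ := by
    rw [eq_top_iff, ← hP₂top]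
    exact Submodule.baseChange_mono C' le_sup_right
  haveI : Subsingleton (D ⊗[D'] (L ⧸ (P₁ ⊔ P₂))) := subsingleton_tensor_quotient D' D _ h1
  haveI : Subsingleton (C' ⊗[D'] (L ⧸ (P₁ ⊔ P₂))) := subsingleton_tensor_quotient D' C' _ h2
  have hQ : Subsingleton (L ⧸ (P₁ ⊔ P₂)) := rel_subsingleton hsq (D' := D') (D := D) (C' := C') (L ⧸ (P₁ ⊔ P₂))
  have hPtop : P₁ ⊔ P₂ = ⊤ := Submodule.Quotient.subsingleton_iff.mp hQ
  rw [Module.finite_def, ← hPtop]
  exact hPfg

end rel


/-- In the relative situation (`B' = B ×_A A'` with `A' → A` surjective, `B' → D'`, `D = D' ⊗_{B'} B`,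
`C' = D' ⊗_{B'} A'`, `C = D' ⊗_{B'} A`), let `N` be a flat `B`-module that is finitely presented as
a `D`-module and `M'` a flat `A'`-module that is finitely presented as a `C'`-module, with a
`C`-isomorphism `φ : N ⊗_D C ≅ M' ⊗_{C'} C`, and suppose `B' → D'` is the composite of a flat ring
map `B' → D''` and a ring map `D'' → D'` of finite presentation. Then `N ×_φ M'` is finitely
presented over `D'`. -/
theorem result (B' B A' A : Type u) [CommRing B'] [CommRing B] [CommRing A'] [CommRing A]
    [Algebra B' B] [Algebra B' A'] [Algebra B A] [Algebra A' A] [Algebra B' A] [IsScalarTower B' B A] [IsScalarTower B' A' A]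
    (hsq : EtMil.IsFibreSquare B' B A' A)
    (D' D C' C : Type u) [CommRing D'] [CommRing D] [CommRing C'] [CommRing C]
    [Algebra B' D'] [Algebra B D] [Algebra A' C'] [Algebra A C]
    [Algebra D' D] [Algebra B' D] [IsScalarTower B' B D] [IsScalarTower B' D' D] [Algebra.IsPushout B' B D' D]
    [Algebra D' C'] [Algebra B' C'] [IsScalarTower B' A' C'] [IsScalarTower B' D' C'] [Algebra.IsPushout B' A' D' C']
    [Algebra D' C] [Algebra B' C] [IsScalarTower B' A C] [IsScalarTower B' D' C] [Algebra.IsPushout B' A D' C]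
    [Algebra D C] [IsScalarTower D' D C] [Algebra B C] [IsScalarTower B A C] [IsScalarTower B D C]
    [Algebra C' C] [IsScalarTower D' C' C] [Algebra A' C] [IsScalarTower A' A C] [IsScalarTower A' C' C]
    {N M' : Type u} [AddCommGroup N] [Module D N] [Module D' N] [IsScalarTower D' D N]
    [AddCommGroup M'] [Module C' M'] [Module D' M'] [IsScalarTower D' C' M'] (φ : C ⊗[D] N ≃ₗ[C] C ⊗[C'] M')
    [Module B N] [IsScalarTower B D N] [Module A' M'] [IsScalarTower A' C' M']
    [Module.FinitePresentation D N] [Module.Flat B N] [Module.FinitePresentation C' M'] [Module.Flat A' M']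
    (D'' : Type u) [CommRing D''] [Algebra B' D''] [Algebra D'' D'] [IsScalarTower B' D'' D'] [Module.Flat B' D'']
    [Algebra.FinitePresentation D'' D'] :
    Module.FinitePresentation D' ↥(EtMil.glue D' φ) := by
  have hs := isSurjSquare_of_pushout B' B A' A hsq D' D C' C
  have hG := isGlue_glue (B' := D') φ
  let e₁ : D ⊗[D'] ↥(EtMil.glue D' φ) ≃ₗ[D] N :=
    LinearEquiv.ofBijective _ (fst_bijective' hs hG)
  let e₂ : C' ⊗[D'] ↥(EtMil.glue D' φ) ≃ₗ[C'] M' :=
    LinearEquiv.ofBijective _ (snd_bijective' hs hG)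
  haveI hfin : Module.Finite D' ↥(EtMil.glue D' φ) := hG.finite_of_surjSquare hs
  letI : Module B' ↥(EtMil.glue D' φ) := Module.compHom _ (algebraMap B' D')
  haveI : IsScalarTower B' D' ↥(EtMil.glue D' φ) :=
    IsScalarTower.of_algebraMap_smul fun _ _ => rfl
  haveI : Module.Flat B (D ⊗[D'] ↥(EtMil.glue D' φ)) :=
    Module.Flat.of_linearEquiv (e₁.restrictScalars B)
  haveI : Module.Flat A' (C' ⊗[D'] ↥(EtMil.glue D' φ)) :=
    Module.Flat.of_linearEquiv (e₂.restrictScalars A')
  haveI hflat : Module.Flat B' ↥(EtMil.glue D' φ) :=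
    rel_flat hsq (D' := D') (D := D) (C' := C') ↥(EtMil.glue D' φ)
  haveI : Module.FinitePresentation D (D ⊗[D'] ↥(EtMil.glue D' φ)) :=
    Module.FinitePresentation.of_equiv e₁.symm
  haveI : Module.FinitePresentation C' (C' ⊗[D'] ↥(EtMil.glue D' φ)) :=
    Module.FinitePresentation.of_equiv e₂.symm
  obtain ⟨n, f, hf⟩ := Module.Finite.exists_fin' D' ↥(EtMil.glue D' φ)
  haveI h1 : Module.Finite D (D ⊗[D'] (LinearMap.ker f)) :=
    finite_tensor_ker_of_pushout B' B D' D f hf
  haveI h2 : Module.Finite C' (C' ⊗[D'] (LinearMap.ker f)) :=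
    finite_tensor_ker_of_pushout B' A' D' C' f hf
  have hK : Module.Finite D' (LinearMap.ker f) :=
    rel_finite hsq (D' := D') (D := D) (C' := C') (LinearMap.ker f)
  exact Module.finitePresentation_of_free_of_surjective f hf (Module.Finite.iff_fg.mp hK)

end Groth.Agent.S6922
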