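import Mathlib
import Groth.Statements.S6923

set_option autoImplicit false
universe u
open Hensel

namespace Groth.Agent.S6923

open Function Matrix

/-- inverse systems with surjective transition maps: every element extends to a compatible
sequence -/
theorem exists_compat : ∀ (n : ℕ) {X : ℕ → Type u} (t : ∀ k, X (k + 1) → X k)
    (_ : ∀ k, Surjective (t k)) (a : X n),
    ∃ x : ∀ k, X k, (∀ k, t k (x (k + 1)) = x k) ∧ x n = a := by
  intro n
  induction n with
  | zero =>
    intro X t ht a
    refine ⟨fun k => Nat.rec (motive := X) a (fun k xk => (ht k xk).choose) k, ?_, rfl⟩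
    intro k
    exact (ht k _).choose_spec
  | succ n ih =>
    intro X t ht a
    obtain ⟨x', hx', hn⟩ :=
      ih (X := fun k => X (k + 1)) (fun k => t (k + 1)) (fun k => ht (k + 1)) a
    refine ⟨fun k => Nat.rec (motive := X) (t 0 (x' 0)) (fun k _ => x' k) k, ?_, hn⟩
    intro k
    cases k with
    | zero => rfl
    | succ k => exact hx' k

theorem matrix_isNilpotent {R : Type u} [CommRing R] {r : ℕ} (N : Matrix (Fin r) (Fin r) R)
    (h : ∀ i j, IsNilpotent (N i j)) : IsNilpotent N := by
  classical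
  set J : Ideal R := Ideal.span (Set.range fun p : Fin r × Fin r => N p.1 p.2) with hJ
  have hJfg : J.FG := Submodule.fg_span (Set.finite_range _)
  have hJle : J ≤ (⊥ : Ideal R).radical := by
    rw [hJ, Ideal.span_le]
    rintro _ ⟨p, rfl⟩
    obtain ⟨n, hn⟩ := h p.1 p.2
    exact ⟨n, by rw [hn]; exact Ideal.zero_mem _⟩
  obtain ⟨k, hk⟩ := Ideal.exists_pow_le_of_le_radical_of_fg hJle hJfg
  have hent : ∀ m : ℕ, ∀ i j, (N ^ m) i j ∈ J ^ m := by
    intro m
    induction m with
    | zero => intro i j; simp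
    | succ m ih =>
      intro i j
      rw [pow_succ, pow_succ, Matrix.mul_apply]
      exact Ideal.sum_mem _ fun l _ =>
        Ideal.mul_mem_mul (ih i l) (Ideal.subset_span ⟨(l, j), rfl⟩)
  refine ⟨k, ?_⟩
  ext i j
  have := hk (hent k i j)
  simpa using this

/-- a presentation of `M` as a retract of `R^r` -/
structure Stage (R : Type u) [CommRing R] (M : Type u) [AddCommGroup M] [Module R M] (r : ℕ) where
  s : (Fin r → R) →ₗ[R] M
  i : M →ₗ[R] (Fin r → R)
  h : ∀ m, s (i m) = m

theorem step {R R' : Type u} [CommRing R] [CommRing R'] (t : R →+* R') (ht : Surjective t)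
    (hnil : ∀ x, t x = 0 → IsNilpotent x)
    {M M' : Type u} [AddCommGroup M] [Module R M] [AddCommGroup M'] [Module R' M']
    [Module.Finite R M] [Module.Flat R M]
    (u : M →ₛₗ[t] M') (hu : Surjective u)
    (hker : LinearMap.ker u = RingHom.ker t • (⊤ : Submodule R M))
    {r : ℕ} (st : Stage R' M' r) :
    ∃ st' : Stage R M r, (∀ x, u (st'.s x) = st.s (fun k => t (x k))) ∧
      (∀ m k, t (st'.i m k) = st.i (u m) k) := by
  classical
  set T : (Fin r → R) → (Fin r → R') := fun x k => t (x k) with hT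
  have hTsurj : Surjective T := fun y =>
    ⟨fun k => (ht (y k)).choose, funext fun k => (ht (y k)).choose_spec⟩
  -- step 1 : lift `s`
  choose mk hmk using fun k => hu (st.s (Pi.single k 1))
  set s₁ : (Fin r → R) →ₗ[R] M := Fintype.linearCombination R mk with hs₁def
  have hs₁ : ∀ x, u (s₁ x) = st.s (T x) := by
    intro x
    have hTx : T x = ∑ k, (t (x k)) • (Pi.single (M := fun _ => R') k 1 : Fin r → R') :=
      pi_eq_sum_univ' (T x)
    rw [hTx, map_sum, hs₁def, Fintype.linearCombination_apply, map_sum]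
    refine Finset.sum_congr rfl fun k _ => ?_
    rw [LinearMap.map_smulₛₗ, map_smul, hmk]
  -- step 2 : lift the idempotent
  set e' : (Fin r → R') →ₗ[R'] (Fin r → R') := st.i ∘ₗ st.s with he'def
  have he'idem : IsIdempotentElem (LinearMap.toMatrixAlgEquiv' e') := by
    have : IsIdempotentElem e' := by
      show e' * e' = e'
      refine LinearMap.ext fun x => ?_
      show st.i (st.s (st.i (st.s x))) = st.i (st.s x)
      rw [st.h]
    exact this.map LinearMap.toMatrixAlgEquiv'
  have hrange : LinearMap.toMatrixAlgEquiv' e' ∈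
      (RingHom.mapMatrix t : Matrix (Fin r) (Fin r) R →+* Matrix (Fin r) (Fin r) R').range := by
    refine ⟨Matrix.of fun i j => (ht (LinearMap.toMatrixAlgEquiv' e' i j)).choose, ?_⟩
    ext i j
    simp only [RingHom.mapMatrix_apply, Matrix.map_apply, Matrix.of_apply]
    exact (ht _).choose_spec
  have hnilM : ∀ N ∈ RingHom.ker
      (RingHom.mapMatrix t : Matrix (Fin r) (Fin r) R →+* Matrix (Fin r) (Fin r) R'),
      IsNilpotent N := by
    intro N hN
    refine matrix_isNilpotent N fun i j => hnil _ ?_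
    have h0 := RingHom.mem_ker.mp hN
    have : (RingHom.mapMatrix t N) i j = (0 : Matrix (Fin r) (Fin r) R') i j := by rw [h0]
    simpa using this
  obtain ⟨E, hEidem, hEmap⟩ :=
    exists_isIdempotentElem_eq_of_ker_isNilpotent _ hnilM _ hrange he'idem
  set e : (Fin r → R) →ₗ[R] (Fin r → R) := Matrix.toLinAlgEquiv' E with hedef
  have hee : ∀ x, e (e x) = e x := by
    intro x
    have : e * e = e := hEidem.map Matrix.toLinAlgEquiv'
    exact LinearMap.congr_fun this x
  have hTe : ∀ x, T (e x) = st.i (st.s (T x)) := by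
    intro x
    have h3 : (LinearMap.toMatrixAlgEquiv' e') *ᵥ (T x) = e' (T x) := by
      rw [← Matrix.toLinAlgEquiv'_apply, Matrix.toLinAlgEquiv'_toMatrixAlgEquiv']
    have h2 : E.map t = LinearMap.toMatrixAlgEquiv' e' := hEmap
    funext k
    calc T (e x) k = t ((E *ᵥ x) k) := rfl
      _ = (E.map t *ᵥ (t ∘ x)) k := RingHom.map_mulVec t E x k
      _ = (LinearMap.toMatrixAlgEquiv' e' *ᵥ (T x)) k := by rw [h2]; rfl
      _ = e' (T x) k := by rw [h3]
      _ = st.i (st.s (T x)) k := rfl
  -- step 3 : the surjection `s₂`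
  set s₂ : (Fin r → R) →ₗ[R] M := s₁ ∘ₗ e with hs₂def
  have hs₂ : ∀ x, u (s₂ x) = st.s (T x) := by
    intro x
    show u (s₁ (e x)) = _
    rw [hs₁, hTe, st.h]
  have hI : RingHom.ker t ≤ Ideal.jacobson ⊥ := by
    intro x hx
    have : x ∈ (⊥ : Ideal R).radical := by
      obtain ⟨n, hn⟩ := hnil x (RingHom.mem_ker.mp hx)
      exact ⟨n, by rw [hn]; exact Ideal.zero_mem _⟩
    exact Ideal.radical_le_jacobson this
  have hs₂surj : Surjective s₂ := by
    rw [← LinearMap.range_eq_top]
    refine top_le_iff.mp (Submodule.le_of_le_smul_of_le_jacobson_bot (I := RingHom.ker t)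
      Module.Finite.fg_top hI ?_)
    intro m _
    obtain ⟨x, hx⟩ := hTsurj (st.i (u m))
    have hmem : m - s₂ x ∈ LinearMap.ker u := by
      rw [LinearMap.mem_ker, map_sub, hs₂, hx, st.h, sub_self]
    rw [hker] at hmem
    have : m = s₂ x + (m - s₂ x) := by abel
    rw [this]
    exact Submodule.add_mem_sup (LinearMap.mem_range_self _ _) hmem
  -- step 4 : `ker s₂ ≤ ker e`
  have hkere : ∀ x, s₂ x = 0 → e x = 0 := by
    intro x hx
    set z := e x with hz
    have hez : e z = z := hee x
    have hs₂z : s₂ z = 0 := by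
      show s₁ (e z) = 0
      rw [hez]
      exact hx
    obtain ⟨k, a, y, hya, haz⟩ :=
      Module.Flat.exists_factorization_of_apply_eq_zero_of_free (R := R) (M := M)
        (x := s₂) (f := z) hs₂z
    obtain ⟨y', hy'⟩ := Module.projective_lifting_property s₂ y hs₂surj
    set φ : (Fin r → R) →ₗ[R] (Fin r → R) := e ∘ₗ (LinearMap.id - y' ∘ₗ a ∘ₗ e) with hφ
    have hφz : φ z = z := by
      simp only [hφ, LinearMap.comp_apply, LinearMap.sub_apply, LinearMap.id_apply, hez, haz,
        map_zero, sub_zero]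
    have hTφ : ∀ w, T (φ w) = 0 := by
      intro w
      have h0 : s₂ (w - y' (a (e w))) = 0 := by
        rw [map_sub]
        have h1 : s₂ (y' (a (e w))) = y (a (e w)) := by rw [← hy']; rfl
        have h2 : y (a (e w)) = s₂ (e w) := by
          have := LinearMap.congr_fun hya (e w)
          exact this.symm
        rw [h1, h2]
        show s₁ (e w) - s₁ (e (e w)) = 0
        rw [hee, sub_self]
      show T (e (w - y' (a (e w)))) = 0
      rw [hTe, ← hs₂, h0, map_zero, map_zero]
    have hΦ : IsNilpotent (LinearMap.toMatrixAlgEquiv' φ) := by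
      refine matrix_isNilpotent _ fun i j => hnil _ ?_
      rw [LinearMap.toMatrixAlgEquiv'_apply]
      exact congrFun (hTφ (Pi.single j 1)) i
    obtain ⟨N, hN⟩ := hΦ
    have hφN : φ ^ N = 0 := by
      apply LinearMap.toMatrixAlgEquiv'.injective
      rw [map_pow, hN, map_zero]
    have hfix : (φ ^ N) z = z := by
      rw [Module.End.pow_apply]
      exact Function.iterate_fixed hφz N
    rw [hφN] at hfix
    simpa using hfix.symm
  -- step 5 : the section
  have hle : LinearMap.ker s₂ ≤ LinearMap.ker e := fun x hx =>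
    LinearMap.mem_ker.mpr (hkere x (LinearMap.mem_ker.mp hx))
  set i₂ : M →ₗ[R] (Fin r → R) :=
    (Submodule.liftQ (LinearMap.ker s₂) e hle) ∘ₗ
      (s₂.quotKerEquivOfSurjective hs₂surj).symm.toLinearMap with hi₂
  have hi₂s : ∀ x, i₂ (s₂ x) = e x := by
    intro x
    have : (s₂.quotKerEquivOfSurjective hs₂surj).symm (s₂ x) = Submodule.Quotient.mk x := by
      rw [LinearEquiv.symm_apply_eq, LinearMap.quotKerEquivOfSurjective_apply_mk]
    simp only [hi₂, LinearMap.comp_apply, LinearEquiv.coe_coe, this, Submodule.liftQ_apply]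
  refine ⟨⟨s₁, i₂, ?_⟩, hs₁, ?_⟩
  · intro m
    obtain ⟨x, rfl⟩ := hs₂surj m
    rw [hi₂s]
    rfl
  · intro m k
    obtain ⟨x, rfl⟩ := hs₂surj m
    rw [hi₂s, hs₂]
    exact congrFun (hTe x) k

/-- Let `A = lim A_n` be the limit of an inverse system of rings `(A_n)_{n ≥ 0}` in which each map
`A_{n+1} → A_n` is onto and every element of its kernel is nilpotent. Let `M_n` be `A_n`-modules
with compatible maps `M_{n+1} → M_n` such that `M_0` is finite projective, every `M_n` is finite and
flat over `A_n`, and the maps induce isomorphisms `M_{n+1} ⊗_{A_{n+1}} A_n → M_n` (i.e. are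
surjective with kernel `Ker(A_{n+1} → A_n) M_{n+1}`). Then the inverse limit of the `M_n` is a
finitely generated projective `A`-module whose base change to each `A_n` maps onto `M_n`
isomorphically: there is a finite projective `A`-module `P` with compatible maps `P → M_n`, each
surjective with kernel `Ker(A → A_n) P`, through which `P` maps bijectively onto the compatible
sequences in `∏ M_n`. -/
theorem result (A : Type u) [CommRing A] (An : ℕ → Type u)
    [∀ n, CommRing (An n)] (t : ∀ n, An (n + 1) →+* An n) (π : ∀ n, A →+* An n)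
    (ht : ∀ n, Function.Surjective (t n)) (hnil : ∀ n (x : An (n + 1)), t n x = 0 → IsNilpotent x)
    (hA : FlatCA.IsRingLimit A An t π)
    (M : ℕ → Type u) [∀ n, AddCommGroup (M n)] [∀ n, Module (An n) (M n)] (u : ∀ n, M (n + 1) →ₛₗ[t n] M n)
    [Module.Projective (An 0) (M 0)] (hfin : ∀ n, Module.Finite (An n) (M n)) (hflat : ∀ n, Module.Flat (An n) (M n))
    (hu : ∀ n, Function.Surjective (u n) ∧ LinearMap.ker (u n) = RingHom.ker (t n) • (⊤ : Submodule (An (n + 1)) (M (n + 1)))) :
    ∃ (P : Type u) (_ : AddCommGroup P) (_ : Module A P) (p : ∀ n, P →ₛₗ[π n] M n),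
      Module.Finite A P ∧ Module.Projective A P ∧ (∀ n (x : P), u n (p (n + 1) x) = p n x) ∧
      (∀ n, Function.Surjective (p n) ∧ LinearMap.ker (p n) = RingHom.ker (π n) • (⊤ : Submodule A P)) ∧
      (∀ x : (∀ n, M n), (∀ n, u n (x (n + 1)) = x n) → ∃! q : P, ∀ n, p n q = x n) := by
  classical
  obtain ⟨hcomp, hinj, hsurjA⟩ := hA
  haveI := hfin 0
  obtain ⟨r, f0, g0, -, -, hfg0⟩ := Module.Finite.exists_comp_eq_id_of_projective (An 0) (M 0)
  let st0 : Stage (An 0) (M 0) r := ⟨f0, g0, fun m => LinearMap.congr_fun hfg0 m⟩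
  have hstep : ∀ n (st : Stage (An n) (M n) r), ∃ st' : Stage (An (n + 1)) (M (n + 1)) r,
      (∀ x, u n (st'.s x) = st.s (fun k => t n (x k))) ∧
      (∀ m k, t n (st'.i m k) = st.i (u n m) k) := by
    intro n st
    haveI := hfin (n + 1)
    haveI := hflat (n + 1)
    exact step (t n) (ht n) (hnil n) (u n) (hu n).1 (hu n).2 st
  choose nxt hnxt1 hnxt2 using hstep
  let stg : ∀ n, Stage (An n) (M n) r := fun n =>
    Nat.rec (motive := fun n => Stage (An n) (M n) r) st0 (fun n st => nxt n st) n
  have hs : ∀ n x, u n ((stg (n + 1)).s x) = (stg n).s (fun k => t n (x k)) :=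
    fun n => hnxt1 n (stg n)
  have hi : ∀ n m k, t n ((stg (n + 1)).i m k) = (stg n).i (u n m) k :=
    fun n => hnxt2 n (stg n)
  -- the projections on vectors
  let Pn : ∀ n, (Fin r → A) → (Fin r → An n) := fun n x k => π n (x k)
  have hPadd : ∀ n x y, Pn n (x + y) = Pn n x + Pn n y := by
    intro n x y; funext k; simp [Pn]
  have hPsmul : ∀ n (a : A) x, Pn n (a • x) = π n a • Pn n x := by
    intro n a x; funext k; simp [Pn]
  have hPt : ∀ n x, (fun k => t n (Pn (n + 1) x k)) = Pn n x := by
    intro n x; funext k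
    exact RingHom.congr_fun (hcomp n) (x k)
  have hext : ∀ x y : Fin r → A, (∀ n, Pn n x = Pn n y) → x = y := fun x y h =>
    funext fun k => hinj _ _ fun n => congrFun (h n) k
  have hex : ∀ y : ∀ n, Fin r → An n, (∀ n k, t n (y (n + 1) k) = y n k) →
      ∃ x : Fin r → A, ∀ n, Pn n x = y n := by
    intro y hy
    choose x hx using fun k => hsurjA (fun n => y n k) (fun n => hy n k)
    exact ⟨x, fun n => funext fun k => hx k n⟩
  have hπsurj : ∀ n, Surjective (π n) := by
    intro n a
    obtain ⟨x, hx, hxn⟩ := exists_compat n (X := An) (fun k => t k) (fun k => ht k) a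
    obtain ⟨b, hb⟩ := hsurjA x hx
    exact ⟨b, (hb n).trans hxn⟩
  have hPsurj : ∀ n, Surjective (Pn n) := fun n y =>
    ⟨fun k => (hπsurj n (y k)).choose, funext fun k => (hπsurj n (y k)).choose_spec⟩
  -- the idempotent on `A^r`
  have hE : ∀ x : Fin r → A, ∃ z : Fin r → A,
      ∀ n, Pn n z = (stg n).i ((stg n).s (Pn n x)) := by
    intro x
    apply hex
    intro n k
    rw [hi, hs, hPt]
  choose E hEspec using hE
  let eA : (Fin r → A) →ₗ[A] (Fin r → A) :=
    { toFun := E
      map_add' := fun x y => hext _ _ fun n => by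
        rw [hEspec, hPadd, hPadd, map_add, map_add, hEspec, hEspec]
      map_smul' := fun a x => hext _ _ fun n => by
        rw [hEspec, hPsmul, RingHom.id_apply, hPsmul, map_smul, map_smul, hEspec] }
  have heA : ∀ x, eA x = E x := fun _ => rfl
  have hEE : ∀ x, eA (eA x) = eA x := fun x => hext _ _ fun n => by
    rw [heA, heA, hEspec, hEspec, (stg n).h]
  have hfixP : ∀ q : LinearMap.range eA, ∀ n,
      Pn n q.1 = (stg n).i ((stg n).s (Pn n q.1)) := by
    rintro ⟨q, w, rfl⟩ n
    show Pn n (E w) = (stg n).i ((stg n).s (Pn n (E w)))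
    rw [hEspec, (stg n).h]
  let p : ∀ n, LinearMap.range eA →ₛₗ[π n] M n := fun n =>
    { toFun := fun x => (stg n).s (Pn n x.1)
      map_add' := fun x y => by
        show (stg n).s (Pn n (x.1 + y.1)) = _
        rw [hPadd, map_add]
      map_smul' := fun a x => by
        show (stg n).s (Pn n (a • x.1)) = _
        rw [hPsmul, map_smul] }
  have hp : ∀ n (x : LinearMap.range eA), p n x = (stg n).s (Pn n x.1) := fun _ _ => rfl
  refine ⟨LinearMap.range eA, inferInstance, inferInstance, p, ?_, ?_, ?_, ?_, ?_⟩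
  · exact Module.Finite.range eA
  · refine Module.Projective.of_split (LinearMap.range eA).subtype eA.rangeRestrict ?_
    refine LinearMap.ext fun x => ?_
    obtain ⟨x, w, rfl⟩ := x
    exact Subtype.ext (hEE w)
  · intro n x
    show u n ((stg (n + 1)).s (Pn (n + 1) x.1)) = (stg n).s (Pn n x.1)
    rw [hs, hPt]
  · intro n
    refine ⟨?_, le_antisymm ?_ ?_⟩
    · intro m
      obtain ⟨x₀, hx₀⟩ := hPsurj n ((stg n).i m)
      refine ⟨⟨eA x₀, LinearMap.mem_range_self _ _⟩, ?_⟩
      show (stg n).s (Pn n (E x₀)) = m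
      rw [hEspec, hx₀, (stg n).h, (stg n).h]
    · intro x hx
      have hx0 : (stg n).s (Pn n x.1) = 0 := LinearMap.mem_ker.mp hx
      have hPx : Pn n x.1 = 0 := by
        rw [hfixP x n, hx0, map_zero]
      have hk : ∀ k, x.1 k ∈ RingHom.ker (π n) := fun k =>
        RingHom.mem_ker.mpr (congrFun hPx k)
      have hfix : eA x.1 = x.1 := by
        obtain ⟨x, w, rfl⟩ := x
        exact hEE w
      have hx1 : x = ∑ k, (x.1 k) •
          (⟨eA (Pi.single (M := fun _ => A) k 1), LinearMap.mem_range_self _ _⟩ :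
            LinearMap.range eA) := by
        apply Subtype.ext
        rw [Submodule.coe_sum]
        simp only [Submodule.coe_smul]
        calc x.1 = eA x.1 := hfix.symm
          _ = eA (∑ k, (x.1 k) • (Pi.single (M := fun _ => A) k 1 : Fin r → A)) :=
              congrArg eA (pi_eq_sum_univ' x.1)
          _ = ∑ k, (x.1 k) • eA (Pi.single (M := fun _ => A) k 1) := by
              rw [map_sum]
              simp only [map_smul]
      rw [hx1]
      exact Submodule.sum_mem _ fun k _ => Submodule.smul_mem_smul (hk k) Submodule.mem_top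
    · refine Submodule.smul_le.mpr fun a ha x _ => ?_
      rw [LinearMap.mem_ker, LinearMap.map_smulₛₗ, RingHom.mem_ker.mp ha, zero_smul]
  · intro x hx
    obtain ⟨z, hz⟩ := hex (fun n => (stg n).i (x n)) (fun n k => by rw [hi, hx])
    have hzfix : eA z = z := hext _ _ fun n => by
      rw [heA, hEspec, hz, (stg n).h]
    refine ⟨⟨z, ⟨z, hzfix⟩⟩, fun n => ?_, fun q' hq' => ?_⟩
    · show (stg n).s (Pn n z) = x n
      rw [hz, (stg n).h]
    · apply Subtype.ext
      refine hext _ _ fun n => ?_
      show Pn n q'.1 = Pn n z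
      have h1 : (stg n).s (Pn n q'.1) = x n := hq' n
      rw [hfixP q' n, h1, hz]

end Groth.Agent.S6923
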