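import Groth.Statements.S6925
import Groth.Agent.H57.FlatIdeal
import Mathlib.RingTheory.Localization.AtPrime.Basic
import Mathlib.RingTheory.Localization.Finiteness
import Mathlib.RingTheory.Localization.Submodule

set_option autoImplicit false
universe u
open TensorProduct
open FlatMor

namespace Groth.Agent.S6925

local notation "mx(" R ")" => IsLocalRing.maximalIdeal R

/-- the flatness property of the statement. -/
abbrev Phi (R S : Type u) [CommRing R] [IsLocalRing R] [CommRing S] [Algebra R S]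
    (M : Type u) [AddCommGroup M] [Module S M] [Module R M] [IsScalarTower R S M]
    (J : Ideal R) : Prop :=
  ∀ (q : Ideal S) [q.IsPrime], q.comap (algebraMap R S) = IsLocalRing.maximalIdeal R →
    Module.Flat (R ⧸ J) ((R ⧸ J) ⊗[R] LocalizedModule q.primeCompl M)

theorem krull_aux (R : Type u) [CommRing R] [IsLocalRing R] [IsNoetherianRing R]
    (J : Ideal R) (x : R) (hx : ∀ n : ℕ, x ∈ J ⊔ mx(R) ^ (n + 1)) : x ∈ J := by
  have h0 : (⨅ i : ℕ, mx(R) ^ i • (⊤ : Submodule R (R ⧸ J))) = ⊥ :=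
    Ideal.iInf_pow_smul_eq_bot_of_isLocalRing (M := R ⧸ J) mx(R) Ideal.IsPrime.ne_top'
  have h1 : (Ideal.Quotient.mk J x : R ⧸ J) ∈
      (⨅ i : ℕ, mx(R) ^ i • (⊤ : Submodule R (R ⧸ J))) := by
    rw [Submodule.mem_iInf]
    intro i
    obtain ⟨j, hj, m, hm, rfl⟩ := Submodule.mem_sup.mp (hx i)
    have hm' : m ∈ mx(R) ^ i := Ideal.pow_le_pow_right (Nat.le_succ i) hm
    have : (Ideal.Quotient.mk J (j + m) : R ⧸ J) = m • (1 : R ⧸ J) := by
      rw [map_add, Ideal.Quotient.eq_zero_iff_mem.mpr hj, zero_add, Algebra.smul_def, mul_one,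
        Ideal.Quotient.algebraMap_eq]
    rw [this]
    exact Submodule.smul_mem_smul hm' Submodule.mem_top
  rw [h0, Submodule.mem_bot] at h1
  exact Ideal.Quotient.eq_zero_iff_mem.mp h1

/-- Let `(R, 𝔪)` be a complete Noetherian local ring, `R → S` a ring map with `S` Noetherian and `M` a
finite `S`-module. Then among ideals contained in `𝔪`, there is a smallest one `I` with the
following property: whenever `𝔮` is a prime of `S` lying over `𝔪`, the module `(M/IM)_𝔮` is
`R/I`-flat. Namely, `I ⊆ 𝔪` has this property, and every ideal `J` with the property contains `I`. -/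
theorem result (R S : Type u) [CommRing R] [IsLocalRing R]
    [IsNoetherianRing R] [IsAdicComplete (IsLocalRing.maximalIdeal R) R] [CommRing S] [Algebra R S] [IsNoetherianRing S]
    (M : Type u) [AddCommGroup M] [Module S M] [Module R M] [IsScalarTower R S M] [Module.Finite S M] :
    ∃ I : Ideal R, I ≤ IsLocalRing.maximalIdeal R ∧
      (∀ (q : Ideal S) [q.IsPrime], q.comap (algebraMap R S) = IsLocalRing.maximalIdeal R →
        Module.Flat (R ⧸ I) ((R ⧸ I) ⊗[R] LocalizedModule q.primeCompl M)) ∧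
      ∀ J : Ideal R, (∀ (q : Ideal S) [q.IsPrime], q.comap (algebraMap R S) = IsLocalRing.maximalIdeal R →
        Module.Flat (R ⧸ J) ((R ⧸ J) ⊗[R] LocalizedModule q.primeCompl M)) → I ≤ J := by
  classical
  have hart : ∀ n : ℕ, IsArtinianRing (R ⧸ mx(R) ^ (n + 1)) := fun n =>
    IsLocalRing.quotient_artinian_of_mem_minimalPrimes_of_isLocalRing _
      ⟨⟨inferInstance, Ideal.pow_le_self (Nat.succ_ne_zero n)⟩,
        fun p hp _ => hp.1.le_of_pow_le hp.2⟩
  have hK : ∀ (n : ℕ) (q : Ideal S) (hq : q.IsPrime), ∃ K : Ideal R, ∀ J : Ideal R,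
      mx(R) ^ (n + 1) ≤ J →
      (Module.Flat (R ⧸ J) ((R ⧸ J) ⊗[R] LocalizedModule q.primeCompl M) ↔ K ≤ J) := by
    intro n q hq
    haveI := hart n
    exact Groth.Agent.H57.exists_flattening_above (mx(R) ^ (n + 1))
      (LocalizedModule q.primeCompl M)
  choose K hK using hK
  obtain ⟨Jn, hJn_def⟩ : ∃ Jn : ℕ → Ideal R, ∀ n, Jn n =
      (⨆ (q : Ideal S) (hq : q.IsPrime) (_ : q.comap (algebraMap R S) = mx(R)), K n q hq) ⊔
        mx(R) ^ (n + 1) := ⟨_, fun n => rfl⟩
  have hJ1 : ∀ n, mx(R) ^ (n + 1) ≤ Jn n := fun n => by rw [hJn_def]; exact le_sup_right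
  have hstar : ∀ (n : ℕ) (J : Ideal R), mx(R) ^ (n + 1) ≤ J →
      (Phi R S M J ↔ Jn n ≤ J) := by
    intro n J hJ
    rw [hJn_def]
    constructor
    · intro h
      refine sup_le (iSup_le fun q => iSup_le fun hq => iSup_le fun hqm => ?_) hJ
      exact (hK n q hq J hJ).mp (@h q hq hqm)
    · intro h q hq hqm
      refine (hK n q hq J hJ).mpr (le_trans ?_ h)
      exact le_sup_of_le_left (le_iSup_of_le q (le_iSup_of_le hq (le_iSup_of_le hqm le_rfl)))
  have hmono : ∀ J K : Ideal R, J ≤ K → Phi R S M J → Phi R S M K := by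
    intro J K hJK h q hq hqm
    haveI := @h q hq hqm
    exact Groth.Agent.H57.flat_quot_of_le (LocalizedModule q.primeCompl M) hJK
  have hΦJn : ∀ n, Phi R S M (Jn n) := fun n => (hstar n (Jn n) (hJ1 n)).mpr le_rfl
  have hc : ∀ n, Jn n = Jn (n + 1) ⊔ mx(R) ^ (n + 1) := by
    intro n
    apply le_antisymm
    · exact (hstar n _ le_sup_right).mp (hmono _ _ le_sup_left (hΦJn (n + 1)))
    · refine sup_le ?_ (hJ1 n)
      refine (hstar (n + 1) (Jn n) ?_).mp (hΦJn n)
      exact le_trans (Ideal.pow_le_pow_right (Nat.le_succ (n + 1))) (hJ1 n)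
  have hJnI : ∀ n, Jn n = (⨅ k, Jn k) ⊔ mx(R) ^ (n + 1) :=
    Groth.Agent.H57.eq_iInf_sup_pow mx(R) Jn hJ1 hc
  have hΦI : Phi R S M (⨅ k, Jn k) := by
    intro q hq hqm
    refine Groth.Agent.H57.flat_quot_of_flat_quot_sup_pow (R := R) (S := Localization.AtPrime q)
      (M := LocalizedModule q.primeCompl M) (⨅ k, Jn k) mx(R) ?_ ?_
    · rw [IsLocalRing.jacobson_eq_maximalIdeal ⊥ bot_ne_top, Ideal.map_le_iff_le_comap]
      intro r hr
      rw [Ideal.mem_comap, IsScalarTower.algebraMap_apply R S (Localization.AtPrime q)]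
      refine (IsLocalization.AtPrime.to_map_mem_maximal_iff (Localization.AtPrime q) q _).mpr ?_
      rw [← hqm] at hr
      exact hr
    · intro k
      cases k with
      | zero =>
        haveI : Subsingleton (R ⧸ ((⨅ k, Jn k) ⊔ mx(R) ^ 0)) :=
          Ideal.Quotient.subsingleton_iff.mpr (by rw [pow_zero, Ideal.one_eq_top, sup_top_eq])
        haveI : Subsingleton ((R ⧸ ((⨅ k, Jn k) ⊔ mx(R) ^ 0)) ⊗[R]
            LocalizedModule q.primeCompl M) :=
          Module.subsingleton (R ⧸ ((⨅ k, Jn k) ⊔ mx(R) ^ 0)) _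
        infer_instance
      | succ n =>
        have := @hΦJn n q hq hqm
        rw [hJnI n] at this
        exact this
  have hmin : ∀ J : Ideal R, Phi R S M J → (⨅ k, Jn k) ≤ J := by
    intro J hJ x hx
    refine krull_aux R J x (fun n => ?_)
    have h1 : Jn n ≤ J ⊔ mx(R) ^ (n + 1) :=
      (hstar n _ le_sup_right).mp (hmono _ _ le_sup_left hJ)
    exact h1 ((iInf_le Jn n) hx)
  have hΦm : Phi R S M mx(R) := by
    intro q hq hqm
    letI := Ideal.Quotient.field mx(R)
    infer_instance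
  exact ⟨⨅ k, Jn k, hmin _ hΦm, hΦI, hmin⟩

end Groth.Agent.S6925
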