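import Groth.Statements.S6926
import Groth.Agent.H57.FlatAtBC
import Mathlib.RingTheory.Ideal.KrullsHeightTheorem
import Mathlib.RingTheory.Filtration

set_option autoImplicit false
universe u
open TensorProduct
open FlatMor

namespace Groth.Agent.S6926

/-- Let `(R, 𝔪)` be a complete Noetherian local ring, `R → S` with `S` Noetherian, `M` a finite
`S`-module, and `I ⊆ 𝔪` the least ideal with the property that, at each prime `𝔮` of `S` lying above
`𝔪`, the localization `(M/IM)_𝔮` is an `R/I`-flat module. Let `φ : R → R'` be a local homomorphism
to a Noetherian local ring `(R', 𝔪')`, `S' = S ⊗_R R'`, `M' = M ⊗_R R'`. Then `M'_{𝔮'}` is flat over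
`R'` for every prime `𝔮'` of `S'` lying over `𝔪'` if and only if `φ(I) = 0`. -/
theorem result {R S R' S' : Type u} [CommRing R] [IsLocalRing R]
    [IsNoetherianRing R] [IsAdicComplete (IsLocalRing.maximalIdeal R) R] [CommRing S] [IsNoetherianRing S]
    [CommRing R'] [IsLocalRing R'] [IsNoetherianRing R'] [CommRing S']
    [Algebra R S] [Algebra R R'] [IsLocalHom (algebraMap R R')] [Algebra S S'] [Algebra R' S'] [Algebra R S']
    [IsScalarTower R S S'] [IsScalarTower R R' S'] [Algebra.IsPushout R S R' S']
    {M M' : Type u} [AddCommGroup M] [Module S M] [Module R M] [IsScalarTower R S M] [Module.Finite S M]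
    [AddCommGroup M'] [Module S' M'] [Module R' M'] [IsScalarTower R' S' M'] [Module S M'] [IsScalarTower S S' M']
    (f : M →ₗ[S] M') (hf : IsBaseChange S' f) (I : Ideal R) (hIm : I ≤ IsLocalRing.maximalIdeal R)
    (hI : (∀ (q : Ideal S) [q.IsPrime], q.comap (algebraMap R S) = IsLocalRing.maximalIdeal R →
        Module.Flat (R ⧸ I) ((R ⧸ I) ⊗[R] LocalizedModule q.primeCompl M)))
    (hmin : ∀ J : Ideal R, (∀ (q : Ideal S) [q.IsPrime], q.comap (algebraMap R S) = IsLocalRing.maximalIdeal R →
        Module.Flat (R ⧸ J) ((R ⧸ J) ⊗[R] LocalizedModule q.primeCompl M)) → I ≤ J) :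
    (∀ (q' : Ideal S') [q'.IsPrime], q'.comap (algebraMap R' S') = IsLocalRing.maximalIdeal R' → FlatCA.FlatAt R' q' M') ↔
      I ≤ RingHom.ker (algebraMap R R') := by
  letI : Module R M' := Module.compHom M' (algebraMap R R')
  haveI : IsScalarTower R R' M' := IsScalarTower.of_algebraMap_smul (fun r m => rfl)
  haveI : IsScalarTower R S M' := IsScalarTower.of_algebraMap_smul (fun r m => by
    show algebraMap R S r • m = algebraMap R R' r • m
    rw [← algebraMap_smul S' (algebraMap R S r) m, ← algebraMap_smul S' (algebraMap R R' r) m,
      ← IsScalarTower.algebraMap_apply, ← IsScalarTower.algebraMap_apply])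
  have hcomapm : (IsLocalRing.maximalIdeal R').comap (algebraMap R R') =
      IsLocalRing.maximalIdeal R :=
    ((IsLocalRing.local_hom_TFAE (algebraMap R R')).out 0 4).mp ‹IsLocalHom (algebraMap R R')›
  have hmapm : (IsLocalRing.maximalIdeal R).map (algebraMap R R') ≤ IsLocalRing.maximalIdeal R' :=
    ((IsLocalRing.local_hom_TFAE (algebraMap R R')).out 0 2).mp ‹IsLocalHom (algebraMap R R')›
  constructor
  · intro hflat
    have key : ∀ n : ℕ, I ≤ (IsLocalRing.maximalIdeal R' ^ (n + 1)).comap (algebraMap R R') := by
      intro n
      apply hmin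
      intro q hq hqm
      haveI : IsArtinianRing (R ⧸ IsLocalRing.maximalIdeal R ^ (n + 1)) :=
        IsLocalRing.quotient_artinian_of_mem_minimalPrimes_of_isLocalRing _
          ⟨⟨inferInstance, Ideal.pow_le_self (Nat.succ_ne_zero n)⟩,
            fun p hp _ => hp.1.le_of_pow_le hp.2⟩
      haveI : Module.Flat (R' ⧸ IsLocalRing.maximalIdeal R' ^ (n + 1))
          ((R' ⧸ IsLocalRing.maximalIdeal R' ^ (n + 1)) ⊗[R] LocalizedModule q.primeCompl M) := by
        rw [Groth.Agent.H57.flat_baseChange_iff_forall]
        intro P Q _ _ _ _ _ _ _ _ u hu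
        letI : Module R' P :=
          Module.compHom P (algebraMap R' (R' ⧸ IsLocalRing.maximalIdeal R' ^ (n + 1)))
        letI : Module R' Q :=
          Module.compHom Q (algebraMap R' (R' ⧸ IsLocalRing.maximalIdeal R' ^ (n + 1)))
        haveI : IsScalarTower R' (R' ⧸ IsLocalRing.maximalIdeal R' ^ (n + 1)) P :=
          IsScalarTower.of_algebraMap_smul (fun r p => rfl)
        haveI : IsScalarTower R' (R' ⧸ IsLocalRing.maximalIdeal R' ^ (n + 1)) Q :=
          IsScalarTower.of_algebraMap_smul (fun r p => rfl)
        haveI : IsScalarTower R R' P := IsScalarTower.of_algebraMap_smul (fun r p => by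
          show algebraMap R' (R' ⧸ IsLocalRing.maximalIdeal R' ^ (n + 1)) (algebraMap R R' r) • p
            = r • p
          rw [← IsScalarTower.algebraMap_apply, algebraMap_smul])
        haveI : IsScalarTower R R' Q := IsScalarTower.of_algebraMap_smul (fun r p => by
          show algebraMap R' (R' ⧸ IsLocalRing.maximalIdeal R' ^ (n + 1)) (algebraMap R R' r) • p
            = r • p
          rw [← IsScalarTower.algebraMap_apply, algebraMap_smul])
        have hu' : Function.Injective (u.restrictScalars R') := hu
        have hinj := Groth.Agent.H57.lTensor_localizedModule_injective_of_baseChange (R := R)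
          f hf q (u.restrictScalars R') (fun y hy => by
            refine ⟨1, fun h1 => (Ideal.IsPrime.ne_top hq) ((Ideal.eq_top_iff_one q).mpr h1), ?_⟩
            rw [map_one, one_smul]
            by_contra hne
            have hAnn_ne : LinearMap.ker (LinearMap.toSpanSingleton S' (M' ⊗[R'] P) y) ≠ ⊤ := by
              intro htop
              apply hne
              have h1 : (1 : S') ∈ LinearMap.ker (LinearMap.toSpanSingleton S' (M' ⊗[R'] P) y) := by
                rw [htop]; exact Submodule.mem_top
              rw [LinearMap.mem_ker, LinearMap.toSpanSingleton_apply, one_smul] at h1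
              exact h1
            obtain ⟨q', hq'max, hle⟩ := Ideal.exists_le_maximal _ hAnn_ne
            haveI := hq'max.isPrime
            have hKy : ∀ k ∈ IsLocalRing.maximalIdeal R' ^ (n + 1), ∀ z : M' ⊗[R'] P,
                (algebraMap R' S' k) • z = 0 := by
              intro k hk z
              induction z using TensorProduct.induction_on with
              | zero => simp
              | tmul m p =>
                rw [TensorProduct.smul_tmul', algebraMap_smul, TensorProduct.smul_tmul]
                have : k • p = 0 := by
                  show algebraMap R' (R' ⧸ IsLocalRing.maximalIdeal R' ^ (n + 1)) k • p = 0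
                  rw [Ideal.Quotient.algebraMap_eq, Ideal.Quotient.eq_zero_iff_mem.mpr hk,
                    zero_smul]
                rw [this, TensorProduct.tmul_zero]
              | add a b ha hb => rw [smul_add, ha, hb, add_zero]
            have hq'm : q'.comap (algebraMap R' S') = IsLocalRing.maximalIdeal R' := by
              have hpr : (q'.comap (algebraMap R' S')).IsPrime := inferInstance
              refine le_antisymm (IsLocalRing.le_maximalIdeal hpr.ne_top) ?_
              refine hpr.le_of_pow_le (n := n + 1) ?_
              intro k hk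
              rw [Ideal.mem_comap]
              apply hle
              rw [LinearMap.mem_ker, LinearMap.toSpanSingleton_apply]
              exact hKy k hk y
            have hfl : Module.Flat R' (LocalizedModule q'.primeCompl M') := hflat q' hq'm
            obtain ⟨t, ht⟩ := Groth.Agent.H57.exists_smul_eq_zero_of_lTensor_injective
              q'.primeCompl M' (u.restrictScalars R')
              (Module.Flat.lTensor_preserves_injective_linearMap (u.restrictScalars R') hu') y hy
            refine t.2 (hle ?_)
            rw [LinearMap.mem_ker, LinearMap.toSpanSingleton_apply]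
            exact ht)
        exact hinj
      exact Groth.Agent.H57.flat_quot_comap_of_flat_quot (IsLocalRing.maximalIdeal R ^ (n + 1))
        (IsLocalRing.maximalIdeal R' ^ (n + 1))
        (by rw [Ideal.map_pow]; exact Ideal.pow_right_mono hmapm (n + 1))
        (LocalizedModule q.primeCompl M)
    intro r hr
    rw [RingHom.mem_ker]
    have hmem : algebraMap R R' r ∈ ⨅ i : ℕ, IsLocalRing.maximalIdeal R' ^ i := by
      rw [Ideal.mem_iInf]
      intro i
      exact Ideal.pow_le_pow_right (Nat.le_succ i) (key i hr)
    rw [Ideal.iInf_pow_eq_bot_of_isLocalRing _ Ideal.IsPrime.ne_top'] at hmem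
    exact hmem
  · intro hI' q' hq' hq'm
    have hover : (q'.comap (algebraMap S S')).comap (algebraMap R S) =
        IsLocalRing.maximalIdeal R := by
      rw [Ideal.comap_comap, ← IsScalarTower.algebraMap_eq, IsScalarTower.algebraMap_eq R R' S',
        ← Ideal.comap_comap, hq'm, hcomapm]
    haveI hflatI := hI (q'.comap (algebraMap S S')) hover
    letI : Algebra (R ⧸ I) R' :=
      (Ideal.Quotient.lift I (algebraMap R R') (fun a ha => RingHom.mem_ker.mp (hI' ha))).toAlgebra
    haveI : IsScalarTower R (R ⧸ I) R' := IsScalarTower.of_algebraMap_eq (fun x => rfl)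
    haveI : Module.Flat R'
        (R' ⊗[R] LocalizedModule (q'.comap (algebraMap S S')).primeCompl M) :=
      (Groth.Agent.H57.flat_tensor_of_tower R (R ⧸ I) R'
        (LocalizedModule (q'.comap (algebraMap S S')).primeCompl M)).mp inferInstance
    show Module.Flat R' (LocalizedModule q'.primeCompl M')
    apply Groth.Agent.H57.flat_localizedModule_of_forall
    intro P Q _ _ _ _ u hu y hy
    letI : Module R P := Module.compHom P (algebraMap R R')
    letI : Module R Q := Module.compHom Q (algebraMap R R')
    haveI : IsScalarTower R R' P := IsScalarTower.of_algebraMap_smul (fun r p => rfl)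
    haveI : IsScalarTower R R' Q := IsScalarTower.of_algebraMap_smul (fun r p => rfl)
    refine Groth.Agent.H57.exists_smul_eq_zero_baseChange (R := R) f hf q' u ?_ y hy
    exact (Groth.Agent.H57.flat_baseChange_iff_forall (A := R')
      (LocalizedModule (q'.comap (algebraMap S S')).primeCompl M)).mp inferInstance P Q u hu

end Groth.Agent.S6926
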