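import Groth.Statements.S6927
import Groth.Agent.S6926
import Groth.Agent.H57.FlatLimA
import Groth.Agent.H48.FlatLimitCol

set_option autoImplicit false
universe u
open TensorProduct
open FlatMor

namespace Groth.Agent.S6927

set_option linter.style.haveILetI false

attribute [local instance] Algebra.TensorProduct.rightAlgebra

set_option maxHeartbeats 3200000 in
/-- Core of the forward direction at a Noetherian local stage. -/
theorem forward_core {R S : Type u} [CommRing R] [IsLocalRing R] [IsNoetherianRing R]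
    [IsAdicComplete (IsLocalRing.maximalIdeal R) R] [CommRing S] [Algebra R S]
    [Algebra.FiniteType R S]
    {M : Type u} [AddCommGroup M] [Module S M] [Module R M] [IsScalarTower R S M]
    [Module.Finite S M]
    (I : Ideal R) (hIm : I ≤ IsLocalRing.maximalIdeal R)
    (hI : (∀ (q : Ideal S) [q.IsPrime], q.comap (algebraMap R S) = IsLocalRing.maximalIdeal R →
        Module.Flat (R ⧸ I) ((R ⧸ I) ⊗[R] LocalizedModule q.primeCompl M)))
    (hmin : ∀ J : Ideal R, (∀ (q : Ideal S) [q.IsPrime],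
        q.comap (algebraMap R S) = IsLocalRing.maximalIdeal R →
        Module.Flat (R ⧸ J) ((R ⧸ J) ⊗[R] LocalizedModule q.primeCompl M)) → I ≤ J)
    {R₁ R'' : Type u} [CommRing R₁] [Algebra R R₁] [CommRing R''] [IsLocalRing R'']
    [IsNoetherianRing R''] [Algebra R R''] [IsLocalHom (algebraMap R R'')] [Algebra R₁ R'']
    [IsScalarTower R R₁ R'']
    (σ : Finset S) (μ : S → R₁)
    (hμ : ∀ s, algebraMap R₁ R'' (μ s) ∈ IsLocalRing.maximalIdeal R'')
    (hfl : Module.Flat R'' (R'' ⊗[R₁] LocalizedModule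
      (Submonoid.powers (1 - ∑ s ∈ σ, μ s ⊗ₜ[R] s : R₁ ⊗[R] S)) ((R₁ ⊗[R] S) ⊗[S] M))) :
    I ≤ RingHom.ker (algebraMap R R'') := by
  haveI : IsNoetherianRing S := Algebra.FiniteType.isNoetherianRing R S
  have hf'' : IsBaseChange (R'' ⊗[R] S) (TensorProduct.mk S (R'' ⊗[R] S) M 1) :=
    TensorProduct.isBaseChange S M (R'' ⊗[R] S)
  have hE := (Groth.Agent.H57.FlatLimA.flat_tensor_localized_iff (R := R) (S := S) (R₁ := R₁)
    (R' := R'') (S' := R'' ⊗[R] S) M (1 - ∑ s ∈ σ, μ s ⊗ₜ[R] s : R₁ ⊗[R] S)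
    (TensorProduct.mk S (R'' ⊗[R] S) M 1) hf'').mp hfl
  refine (Groth.Agent.S6926.result (R := R) (S := S) (R' := R'') (S' := R'' ⊗[R] S)
    (TensorProduct.mk S (R'' ⊗[R] S) M 1) hf'' I hIm hI hmin).mp ?_
  intro q'' hq'' hq''m
  show Module.Flat R'' (LocalizedModule q''.primeCompl ((R'' ⊗[R] S) ⊗[S] M))
  apply Groth.Agent.H57.flat_localizedModule_of_forall
  intro P Q _ _ _ _ u hu y hy
  obtain ⟨n, hn⟩ := hE P Q u hu y hy
  have hval : Groth.Agent.H57.FlatLimA.toPush R S R₁ (R'' ⊗[R] S)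
      (1 - ∑ s ∈ σ, μ s ⊗ₜ[R] s : R₁ ⊗[R] S) =
      1 - ∑ s ∈ σ, algebraMap R'' (R'' ⊗[R] S) (algebraMap R₁ R'' (μ s)) *
        algebraMap S (R'' ⊗[R] S) s := by
    rw [map_sub, map_one, map_sum]
    congr 1
  have hnot : Groth.Agent.H57.FlatLimA.toPush R S R₁ (R'' ⊗[R] S)
      (1 - ∑ s ∈ σ, μ s ⊗ₜ[R] s : R₁ ⊗[R] S) ∉ q'' := by
    intro hmem
    rw [hval] at hmem
    have hsum : ∑ s ∈ σ, algebraMap R'' (R'' ⊗[R] S) (algebraMap R₁ R'' (μ s)) *
        algebraMap S (R'' ⊗[R] S) s ∈ q'' := by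
      refine Ideal.sum_mem _ (fun s _ => Ideal.mul_mem_right _ _ ?_)
      have h1 : algebraMap R₁ R'' (μ s) ∈ q''.comap (algebraMap R'' (R'' ⊗[R] S)) := by
        rw [hq''m]; exact hμ s
      exact h1
    have h1 : (1 : R'' ⊗[R] S) ∈ q'' := by
      have := Ideal.add_mem _ hmem hsum
      rwa [sub_add_cancel] at this
    exact hq''.ne_top ((Ideal.eq_top_iff_one _).mpr h1)
  exact ⟨⟨_, fun hmem => hnot (hq''.mem_of_pow_mem n hmem)⟩, hn⟩

set_option maxHeartbeats 3200000 in
/-- The forward direction, from a finite type stage `R₁` over which the element `a` is defined. -/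
theorem forward_stage {R S R' : Type u} [CommRing R] [IsLocalRing R]
    [IsNoetherianRing R] [IsAdicComplete (IsLocalRing.maximalIdeal R) R] [CommRing S]
    [CommRing R'] [IsLocalRing R']
    [Algebra R S] [Algebra.FiniteType R S] [Algebra R R'] [IsLocalHom (algebraMap R R')]
    {M : Type u} [AddCommGroup M] [Module S M] [Module R M] [IsScalarTower R S M]
    [Module.Finite S M]
    (I : Ideal R)
    (hIm : I ≤ IsLocalRing.maximalIdeal R)
    (hI : (∀ (q : Ideal S) [q.IsPrime], q.comap (algebraMap R S) = IsLocalRing.maximalIdeal R →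
        Module.Flat (R ⧸ I) ((R ⧸ I) ⊗[R] LocalizedModule q.primeCompl M)))
    (hmin : ∀ J : Ideal R, (∀ (q : Ideal S) [q.IsPrime],
        q.comap (algebraMap R S) = IsLocalRing.maximalIdeal R →
        Module.Flat (R ⧸ J) ((R ⧸ J) ⊗[R] LocalizedModule q.primeCompl M)) → I ≤ J)
    {R₁ : Type u} [CommRing R₁] [Algebra R R₁] [Algebra.FiniteType R R₁] [Algebra R₁ R']
    [IsScalarTower R R₁ R']
    (σ : Finset S) (μ : S → R₁)
    (hμ' : ∀ s, algebraMap R₁ R' (μ s) ∈ IsLocalRing.maximalIdeal R')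
    (hFl' : Module.Flat R' (R' ⊗[R₁] LocalizedModule
      (Submonoid.powers (1 - ∑ s ∈ σ, μ s ⊗ₜ[R] s : R₁ ⊗[R] S)) ((R₁ ⊗[R] S) ⊗[S] M))) :
    I ≤ RingHom.ker (algebraMap R R') := by
  classical
  haveI : IsNoetherianRing R₁ := Algebra.FiniteType.isNoetherianRing R R₁
  haveI : Algebra.FinitePresentation (R₁ ⊗[R] S)
      (Localization.Away (1 - ∑ s ∈ σ, μ s ⊗ₜ[R] s : R₁ ⊗[R] S)) :=
    IsLocalization.Away.finitePresentation (1 - ∑ s ∈ σ, μ s ⊗ₜ[R] s : R₁ ⊗[R] S)
  haveI : Algebra.FiniteType R₁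
      (Localization.Away (1 - ∑ s ∈ σ, μ s ⊗ₜ[R] s : R₁ ⊗[R] S)) :=
    Algebra.FiniteType.trans (inferInstance : Algebra.FiniteType R₁ (R₁ ⊗[R] S)) inferInstance
  haveI := hFl'
  obtain ⟨R₂, hR₂fg, hR₂⟩ := Groth.Agent.H48.FlatLimit.exists_fg_flat_module' R₁
    (Localization.Away (1 - ∑ s ∈ σ, μ s ⊗ₜ[R] s : R₁ ⊗[R] S))
    (LocalizedModule (Submonoid.powers (1 - ∑ s ∈ σ, μ s ⊗ₜ[R] s : R₁ ⊗[R] S))
      ((R₁ ⊗[R] S) ⊗[S] M)) R'
  haveI hFl₂ := hR₂ R₂ le_rfl hR₂fg
  haveI : Algebra.FiniteType R₁ ↥R₂ := (Subalgebra.fg_iff_finiteType R₂).mp hR₂fg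
  haveI : IsNoetherianRing ↥R₂ := Algebra.FiniteType.isNoetherianRing R₁ ↥R₂
  -- the Noetherian local stage
  haveI hprime : ((IsLocalRing.maximalIdeal R').comap (algebraMap ↥R₂ R')).IsPrime :=
    Ideal.comap_isPrime _ _
  haveI : IsNoetherianRing (Localization.AtPrime
      ((IsLocalRing.maximalIdeal R').comap (algebraMap ↥R₂ R'))) :=
    IsLocalization.isNoetherianRing
      ((IsLocalRing.maximalIdeal R').comap (algebraMap ↥R₂ R')).primeCompl _ inferInstance
  have hunit : ∀ y : ((IsLocalRing.maximalIdeal R').comap (algebraMap ↥R₂ R')).primeCompl,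
      IsUnit (algebraMap ↥R₂ R' y) := fun y =>
    IsLocalRing.notMem_maximalIdeal.mp (fun hmem => y.2 hmem)
  let ψ : Localization.AtPrime ((IsLocalRing.maximalIdeal R').comap (algebraMap ↥R₂ R')) →+* R' :=
    IsLocalization.lift hunit
  have hψ₂ : ∀ x : ↥R₂, ψ (algebraMap ↥R₂ _ x) = algebraMap ↥R₂ R' x := fun x =>
    IsLocalization.lift_eq hunit x
  have hψR : ∀ r : R, ψ (algebraMap R _ r) = algebraMap R R' r := fun r => by
    rw [IsScalarTower.algebraMap_apply R ↥R₂ (Localization.AtPrime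
      ((IsLocalRing.maximalIdeal R').comap (algebraMap ↥R₂ R'))), hψ₂,
      ← IsScalarTower.algebraMap_apply R ↥R₂ R']
  have hψ₁ : ∀ x : R₁, ψ (algebraMap R₁ _ x) = algebraMap R₁ R' x := fun x => by
    rw [IsScalarTower.algebraMap_apply R₁ ↥R₂ (Localization.AtPrime
      ((IsLocalRing.maximalIdeal R').comap (algebraMap ↥R₂ R'))), hψ₂,
      ← IsScalarTower.algebraMap_apply R₁ ↥R₂ R']
  haveI : IsLocalHom (algebraMap R (Localization.AtPrime
      ((IsLocalRing.maximalIdeal R').comap (algebraMap ↥R₂ R')))) := ⟨fun r hr => by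
    have h1 := hr.map ψ
    rw [hψR] at h1
    exact isUnit_of_map_unit (algebraMap R R') r h1⟩
  have hμ : ∀ s, algebraMap R₁ (Localization.AtPrime
      ((IsLocalRing.maximalIdeal R').comap (algebraMap ↥R₂ R'))) (μ s) ∈
      IsLocalRing.maximalIdeal _ := fun s => by
    rw [IsLocalRing.mem_maximalIdeal, mem_nonunits_iff]
    intro hu
    have h1 := hu.map ψ
    rw [hψ₁] at h1
    exact (IsLocalRing.mem_maximalIdeal _).mp (hμ' s) h1
  have hfl'' : Module.Flat (Localization.AtPrime
      ((IsLocalRing.maximalIdeal R').comap (algebraMap ↥R₂ R')))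
      ((Localization.AtPrime ((IsLocalRing.maximalIdeal R').comap (algebraMap ↥R₂ R'))) ⊗[R₁]
        LocalizedModule (Submonoid.powers (1 - ∑ s ∈ σ, μ s ⊗ₜ[R] s : R₁ ⊗[R] S))
          ((R₁ ⊗[R] S) ⊗[S] M)) :=
    Module.Flat.of_linearEquiv (TensorProduct.AlgebraTensorModule.cancelBaseChange R₁ ↥R₂
      (Localization.AtPrime ((IsLocalRing.maximalIdeal R').comap (algebraMap ↥R₂ R')))
      (Localization.AtPrime ((IsLocalRing.maximalIdeal R').comap (algebraMap ↥R₂ R')))
      (LocalizedModule (Submonoid.powers (1 - ∑ s ∈ σ, μ s ⊗ₜ[R] s : R₁ ⊗[R] S))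
          ((R₁ ⊗[R] S) ⊗[S] M))).symm
  have hker := forward_core (R := R) (S := S) (M := M) I hIm hI hmin (R₁ := R₁)
    (R'' := Localization.AtPrime ((IsLocalRing.maximalIdeal R').comap (algebraMap ↥R₂ R')))
    σ μ hμ hfl''
  intro r hr
  have h1 := hker hr
  rw [RingHom.mem_ker] at h1 ⊢
  rw [← hψR, h1, map_zero]

set_option maxHeartbeats 3200000 in
/-- The forward direction. -/
theorem forward {R S R' S' : Type u} [CommRing R] [IsLocalRing R]
    [IsNoetherianRing R] [IsAdicComplete (IsLocalRing.maximalIdeal R) R] [CommRing S]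
    [CommRing R'] [IsLocalRing R'] [CommRing S']
    [Algebra R S] [Algebra.FiniteType R S] [Algebra R R'] [IsLocalHom (algebraMap R R')]
    [Algebra S S'] [Algebra R' S']
    [Algebra R S'] [IsScalarTower R S S'] [IsScalarTower R R' S'] [Algebra.IsPushout R S R' S']
    {M M' : Type u} [AddCommGroup M] [Module S M] [Module R M] [IsScalarTower R S M]
    [Module.Finite S M]
    [AddCommGroup M'] [Module S' M'] [Module R' M'] [IsScalarTower R' S' M'] [Module S M']
    [IsScalarTower S S' M']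
    (f : M →ₗ[S] M') (hf : IsBaseChange S' f) (I : Ideal R)
    (hIm : I ≤ IsLocalRing.maximalIdeal R)
    (hI : (∀ (q : Ideal S) [q.IsPrime], q.comap (algebraMap R S) = IsLocalRing.maximalIdeal R →
        Module.Flat (R ⧸ I) ((R ⧸ I) ⊗[R] LocalizedModule q.primeCompl M)))
    (hmin : ∀ J : Ideal R, (∀ (q : Ideal S) [q.IsPrime],
        q.comap (algebraMap R S) = IsLocalRing.maximalIdeal R →
        Module.Flat (R ⧸ J) ((R ⧸ J) ⊗[R] LocalizedModule q.primeCompl M)) → I ≤ J)
    (hflat : ∀ (q' : Ideal S') [q'.IsPrime],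
      q'.comap (algebraMap R' S') = IsLocalRing.maximalIdeal R' → FlatCA.FlatAt R' q' M') :
    I ≤ RingHom.ker (algebraMap R R') := by
  classical
  haveI : IsNoetherianRing S := Algebra.FiniteType.isNoetherianRing R S
  haveI : Algebra.FinitePresentation R S :=
    Algebra.FinitePresentation.of_finiteType.mp inferInstance
  haveI : Module.FinitePresentation S M := Module.finitePresentation_of_finite S M
  haveI hpoS : Algebra.IsPushout R R' S S' := Algebra.IsPushout.symm inferInstance
  haveI : Algebra.FinitePresentation R' S' :=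
    Algebra.FinitePresentation.equiv (Algebra.IsPushout.equiv R R' S S')
  haveI : Module.FinitePresentation S' M' := Module.FinitePresentation.of_equiv hf.equiv
  obtain ⟨a, ha1, haE⟩ := Groth.Agent.H57.FlatLimA.exists_elt_kills (R' := R') (S' := S')
    (M' := M') hflat
  obtain ⟨c, hc, hcb⟩ := Groth.Agent.H57.FlatLimA.exists_finsupp_of_mem_map (R := R) (S := S)
    (IsLocalRing.maximalIdeal R') (1 - a) ha1
  -- the first stage: a finitely generated subalgebra over which `a` is defined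
  let R₁ : Subalgebra R R' := Algebra.adjoin R ((c.support.image c : Finset R') : Set R')
  have hR₁fg : R₁.FG := Subalgebra.fg_adjoin_finset _
  have hcmem : ∀ s, c s ∈ R₁ := fun s => by
    by_cases hs : s ∈ c.support
    · exact Algebra.subset_adjoin (Finset.mem_coe.mpr (Finset.mem_image_of_mem c hs))
    · rw [Finsupp.notMem_support_iff.mp hs]; exact zero_mem _
  let μ : S → ↥R₁ := fun s => ⟨c s, hcmem s⟩
  have ha₁ : Groth.Agent.H57.FlatLimA.toPush R S ↥R₁ S'
      (1 - ∑ s ∈ c.support, μ s ⊗ₜ[R] s : ↥R₁ ⊗[R] S) = a := by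
    have h1 : ∀ s, Groth.Agent.H57.FlatLimA.toPush R S ↥R₁ S' (μ s ⊗ₜ[R] s) =
        c s • algebraMap S S' s := by
      intro s
      rw [Algebra.TensorProduct.productMap_apply_tmul, Algebra.smul_def]
      rfl
    rw [map_sub, map_one, map_sum]
    have h2 : (∑ s ∈ c.support, c s • algebraMap S S' s) = 1 - a := hcb
    rw [Finset.sum_congr rfl (fun s _ => h1 s), h2]
    ring
  have hFl' := (Groth.Agent.H57.FlatLimA.flat_tensor_localized_iff (R := R) (S := S)
    (R₁ := ↥R₁) M (1 - ∑ s ∈ c.support, μ s ⊗ₜ[R] s : ↥R₁ ⊗[R] S) f hf).mpr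
    (by rw [ha₁]; exact haE)
  haveI : Algebra.FiniteType R ↥R₁ := (Subalgebra.fg_iff_finiteType R₁).mp hR₁fg
  exact forward_stage (R := R) (S := S) (R' := R') (M := M) I hIm hI hmin (R₁ := ↥R₁)
    c.support μ (fun s => hc s) hFl'

set_option maxHeartbeats 1600000 in
/-- Let `(R, 𝔪)` be a complete Noetherian local ring, `R → S` of finite type, `M` a finite `S`-module,
and `I ⊆ 𝔪` the least ideal for which, at every prime `𝔮` of `S` lying over `𝔪`, the localization
`(M/IM)_𝔮` is an `R/I`-flat module. Then for every local homomorphism `φ : R → R'` of local rings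
(`R'` arbitrary), with `S' = S ⊗_R R'` and `M' = M ⊗_R R'`: `M'_{𝔮'}` is flat over `R'` for every
prime `𝔮'` of `S'` over `𝔪'` if and only if `φ(I) = 0`. -/
theorem result {R S R' S' : Type u} [CommRing R] [IsLocalRing R]
    [IsNoetherianRing R] [IsAdicComplete (IsLocalRing.maximalIdeal R) R] [CommRing S]
    [CommRing R'] [IsLocalRing R'] [CommRing S']
    [Algebra R S] [Algebra.FiniteType R S] [Algebra R R'] [IsLocalHom (algebraMap R R')] [Algebra S S'] [Algebra R' S']
    [Algebra R S'] [IsScalarTower R S S'] [IsScalarTower R R' S'] [Algebra.IsPushout R S R' S']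
    {M M' : Type u} [AddCommGroup M] [Module S M] [Module R M] [IsScalarTower R S M] [Module.Finite S M]
    [AddCommGroup M'] [Module S' M'] [Module R' M'] [IsScalarTower R' S' M'] [Module S M'] [IsScalarTower S S' M']
    (f : M →ₗ[S] M') (hf : IsBaseChange S' f) (I : Ideal R) (hIm : I ≤ IsLocalRing.maximalIdeal R)
    (hI : (∀ (q : Ideal S) [q.IsPrime], q.comap (algebraMap R S) = IsLocalRing.maximalIdeal R →
        Module.Flat (R ⧸ I) ((R ⧸ I) ⊗[R] LocalizedModule q.primeCompl M)))
    (hmin : ∀ J : Ideal R, (∀ (q : Ideal S) [q.IsPrime], q.comap (algebraMap R S) = IsLocalRing.maximalIdeal R →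
        Module.Flat (R ⧸ J) ((R ⧸ J) ⊗[R] LocalizedModule q.primeCompl M)) → I ≤ J) :
    (∀ (q' : Ideal S') [q'.IsPrime], q'.comap (algebraMap R' S') = IsLocalRing.maximalIdeal R' → FlatCA.FlatAt R' q' M') ↔
      I ≤ RingHom.ker (algebraMap R R') := by
  letI : Module R M' := Module.compHom M' (algebraMap R R')
  haveI : IsScalarTower R R' M' := IsScalarTower.of_algebraMap_smul (fun r m => rfl)
  haveI : IsScalarTower R S M' := IsScalarTower.of_algebraMap_smul (fun r m => by
    show algebraMap R S r • m = algebraMap R R' r • m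
    rw [← algebraMap_smul S' (algebraMap R S r) m, ← algebraMap_smul S' (algebraMap R R' r) m,
      ← IsScalarTower.algebraMap_apply, ← IsScalarTower.algebraMap_apply])
  have hcomapm : (IsLocalRing.maximalIdeal R').comap (algebraMap R R') =
      IsLocalRing.maximalIdeal R :=
    ((IsLocalRing.local_hom_TFAE (algebraMap R R')).out 0 4).mp ‹IsLocalHom (algebraMap R R')›
  constructor
  · intro hflat
    exact forward f hf I hIm hI hmin hflat
  · intro hI' q' hq' hq'm
    have hover : (q'.comap (algebraMap S S')).comap (algebraMap R S) =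
        IsLocalRing.maximalIdeal R := by
      rw [Ideal.comap_comap, ← IsScalarTower.algebraMap_eq, IsScalarTower.algebraMap_eq R R' S',
        ← Ideal.comap_comap, hq'm, hcomapm]
    haveI hflatI := hI (q'.comap (algebraMap S S')) hover
    letI : Algebra (R ⧸ I) R' :=
      (Ideal.Quotient.lift I (algebraMap R R') (fun a ha => RingHom.mem_ker.mp (hI' ha))).toAlgebra
    haveI : IsScalarTower R (R ⧸ I) R' := IsScalarTower.of_algebraMap_eq (fun x => rfl)
    haveI : Module.Flat R'
        (R' ⊗[R] LocalizedModule (q'.comap (algebraMap S S')).primeCompl M) :=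
      (Groth.Agent.H57.flat_tensor_of_tower R (R ⧸ I) R'
        (LocalizedModule (q'.comap (algebraMap S S')).primeCompl M)).mp inferInstance
    show Module.Flat R' (LocalizedModule q'.primeCompl M')
    apply Groth.Agent.H57.flat_localizedModule_of_forall
    intro P Q _ _ _ _ u hu y hy
    letI : Module R P := Module.compHom P (algebraMap R R')
    letI : Module R Q := Module.compHom Q (algebraMap R R')
    haveI : IsScalarTower R R' P := IsScalarTower.of_algebraMap_smul (fun r p => rfl)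
    haveI : IsScalarTower R R' Q := IsScalarTower.of_algebraMap_smul (fun r p => rfl)
    refine Groth.Agent.H57.exists_smul_eq_zero_baseChange (R := R) f hf q' u ?_ y hy
    exact (Groth.Agent.H57.flat_baseChange_iff_forall (A := R')
      (LocalizedModule (q'.comap (algebraMap S S')).primeCompl M)).mp inferInstance P Q u hu

end Groth.Agent.S6927
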