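import Groth.Statements.S6929
import Mathlib

set_option autoImplicit false
universe u
open EtAlg

namespace Groth.Agent.S6929

/-- A finite product of finite type algebras is of finite type. -/
theorem finiteType_pi (R : Type u) [CommRing R] {ι : Type u} [Fintype ι] (A : ι → Type u)
    [∀ i, CommRing (A i)] [∀ i, Algebra R (A i)] (hA : ∀ i, Algebra.FiniteType R (A i)) :
    Algebra.FiniteType R (∀ i, A i) := by
  classical
  choose s hs using fun i => (hA i).out
  refine ⟨⟨Finset.univ.biUnion (fun i => (insert 1 (s i)).image (Pi.single i)), ?_⟩⟩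
  rw [eq_top_iff]
  intro x _
  have hmem : ∀ i (a : A i), a ∈ insert 1 (s i) → Pi.single i a ∈
      (↑(Finset.univ.biUnion (fun i => (insert 1 (s i)).image (Pi.single i))) :
        Set (∀ i, A i)) := by
    intro i a ha
    rw [Finset.mem_coe, Finset.mem_biUnion]
    exact ⟨i, Finset.mem_univ _, Finset.mem_image_of_mem _ ha⟩
  have key : ∀ i (a : A i), Pi.single i a ∈ Algebra.adjoin R
      (↑(Finset.univ.biUnion (fun i => (insert 1 (s i)).image (Pi.single i))) :
        Set (∀ i, A i)) := by
    intro i a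
    have ha : a ∈ Algebra.adjoin R (↑(s i) : Set (A i)) := by
      rw [hs i]
      trivial
    induction ha using Algebra.adjoin_induction with
    | mem a ha =>
      exact Algebra.subset_adjoin (hmem i a (Finset.mem_insert_of_mem ha))
    | algebraMap r =>
      have e : Pi.single i (algebraMap R (A i) r) = r • Pi.single i (1 : A i) := by
        rw [Algebra.algebraMap_eq_smul_one, Pi.single_smul]
      rw [e]
      exact Subalgebra.smul_mem _
        (Algebra.subset_adjoin (hmem i 1 (Finset.mem_insert_self _ _))) r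
    | add a b _ _ ha hb =>
      rw [Pi.single_add]
      exact add_mem ha hb
    | mul a b _ _ ha hb =>
      rw [Pi.single_mul]
      exact mul_mem ha hb
  have e : x = ∑ i, Pi.single i (x i) := (Finset.univ_sum_single x).symm
  rw [e]
  exact sum_mem fun i _ => key i (x i)

/-- Let `R` be a Noetherian ring, `ι` a finite index type, and `φ_i : A_i → B_i`, `ψ_i : Q → B_i`
surjective `R`-algebra maps, where `Q` and all `A_i`, `B_i` are `R`-algebras of finite type. Then
the fibre product ring `P = Q ×_{∏ B_i} ∏ A_i` (pairs `(q, a)` with `ψ_i(q) = φ_i(a_i)` for all `i`)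
is an `R`-algebra of finite type. -/
theorem result (R : Type u) [CommRing R] [IsNoetherianRing R] {ι : Type u} [Fintype ι]
    (Q : Type u) [CommRing Q] [Algebra R Q] [Algebra.FiniteType R Q] (A B : ι → Type u) [∀ i, CommRing (A i)]
    [∀ i, CommRing (B i)] [∀ i, Algebra R (A i)] [∀ i, Algebra R (B i)] (hA : ∀ i, Algebra.FiniteType R (A i))
    (hB : ∀ i, Algebra.FiniteType R (B i)) (φ : ∀ i, A i →ₐ[R] B i) (ψ : ∀ i, Q →ₐ[R] B i)
    (hφ : ∀ i, Function.Surjective (φ i)) (hψ : ∀ i, Function.Surjective (ψ i)) :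
    Algebra.FiniteType R ↥(AlgHom.equalizer ((AlgHom.pi ψ).comp (AlgHom.fst R Q (∀ i, A i)))
      ((AlgHom.pi fun i => (φ i).comp (Pi.evalAlgHom R A i)).comp (AlgHom.snd R Q (∀ i, A i)))) := by
  classical
  haveI : Algebra.FiniteType R (∀ i, A i) := finiteType_pi R A hA
  have hAC : (⊤ : Subalgebra R (Q × ∀ i, A i)).FG := Algebra.FiniteType.out
  refine ⟨fg_of_fg_of_fg R _ (Q × ∀ i, A i) hAC ?_ Subtype.val_injective⟩
  -- generators of `Q × ∏ A_i` over the fibre product
  choose a0 ha0 using fun (q : Q) (j : ι) => hφ j (ψ j q)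
  choose q1 hq1 using fun (i : ι) (b : B i) => hψ i b
  refine ⟨insert ((1 : Q), (0 : ∀ i, A i))
    (Finset.univ.image fun i : ι => ((0 : Q), (Pi.single i (1 : A i) : ∀ i, A i))), ?_⟩
  rw [eq_top_iff]
  rintro ⟨q, a⟩ -
  -- the elements of the fibre product
  have hp0 : ((q, a0 q) : Q × ∀ i, A i) ∈ AlgHom.equalizer
      ((AlgHom.pi ψ).comp (AlgHom.fst R Q (∀ i, A i)))
      ((AlgHom.pi fun i => (φ i).comp (Pi.evalAlgHom R A i)).comp (AlgHom.snd R Q (∀ i, A i))) := by
    rw [AlgHom.mem_equalizer]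
    funext j
    exact (ha0 q j).symm
  have hpi : ∀ i : ι, ((q1 i (φ i (a i)), Function.update (a0 (q1 i (φ i (a i)))) i (a i)) :
      Q × ∀ i, A i) ∈ AlgHom.equalizer
      ((AlgHom.pi ψ).comp (AlgHom.fst R Q (∀ i, A i)))
      ((AlgHom.pi fun i => (φ i).comp (Pi.evalAlgHom R A i)).comp (AlgHom.snd R Q (∀ i, A i))) := by
    intro i
    rw [AlgHom.mem_equalizer]
    funext j
    show ψ j (q1 i (φ i (a i))) = φ j (Function.update (a0 (q1 i (φ i (a i)))) i (a i) j)
    by_cases hji : j = i
    · subst hji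
      rw [Function.update_self, hq1]
    · rw [Function.update_of_ne hji, ha0]
  have hdecomp : ((q, a) : Q × ∀ i, A i) =
      (⟨_, hp0⟩ : AlgHom.equalizer
      ((AlgHom.pi ψ).comp (AlgHom.fst R Q (∀ i, A i)))
      ((AlgHom.pi fun i => (φ i).comp (Pi.evalAlgHom R A i)).comp (AlgHom.snd R Q (∀ i, A i))))
        • ((1 : Q), (0 : ∀ i, A i)) +
      ∑ i, (⟨_, hpi i⟩ : AlgHom.equalizer
      ((AlgHom.pi ψ).comp (AlgHom.fst R Q (∀ i, A i)))
      ((AlgHom.pi fun i => (φ i).comp (Pi.evalAlgHom R A i)).comp (AlgHom.snd R Q (∀ i, A i))))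
        • ((0 : Q), (Pi.single i (1 : A i) : ∀ i, A i)) := by
    simp only [Subalgebra.smul_def, smul_eq_mul, Prod.mk_mul_mk, mul_one, mul_zero]
    refine Prod.ext ?_ ?_
    · simp [Prod.fst_sum]
    · funext j
      simp only [Prod.snd_add, Prod.snd_sum, Pi.add_apply, Finset.sum_apply, Pi.mul_apply,
        Pi.zero_apply, zero_add, Pi.single_apply, mul_ite, mul_one, mul_zero]
      rw [Finset.sum_eq_single j]
      · rw [Pi.single_eq_same, mul_one, Function.update_self]
      · intro i _ hij
        rw [Pi.single_eq_of_ne (Ne.symm hij), mul_zero]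
      · intro h
        exact absurd (Finset.mem_univ j) h
  rw [hdecomp]
  refine add_mem (Submodule.smul_mem _ _ (Submodule.subset_span ?_))
    (sum_mem fun i _ => Submodule.smul_mem _ _ (Submodule.subset_span ?_))
  · exact Finset.mem_coe.2 (Finset.mem_insert_self _ _)
  · exact Finset.mem_coe.2 (Finset.mem_insert_of_mem
      (Finset.mem_image_of_mem _ (Finset.mem_univ i)))

end Groth.Agent.S6929
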