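import Groth.Statements.S6933
-- import your own Groth.Agent.* helpers here

set_option autoImplicit false
universe u
open CategoryTheory
open InjHull

namespace Groth.Agent.S6933

/-- An abelian group `J` that is injective as an object of the category of abelian groups is divisible:
`n J = J` for every nonzero integer `n`. (The published statement is an equivalence; this row states
the implication from injective to divisible.) -/
theorem result (J : Type u) [AddCommGroup J] (hJ : Injective (AddCommGrpCat.of J))
    (n : ℤ) (hn : n ≠ 0) (x : J) : ∃ y : J, n • y = x := by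
  let Z : AddCommGrpCat.{u} := AddCommGrpCat.of (ULift.{u} ℤ)
  let fh : ULift.{u} ℤ →+ ULift.{u} ℤ :=
    { toFun := fun k => ⟨n * k.down⟩
      map_zero' := by
        apply ULift.ext
        simp
      map_add' := fun a b => by
        apply ULift.ext
        simp [mul_add] }
  let gh : ULift.{u} ℤ →+ J :=
    { toFun := fun k => k.down • x
      map_zero' := by simp
      map_add' := fun a b => by simp [add_smul] }
  let f : Z ⟶ Z := AddCommGrpCat.ofHom fh
  let g : Z ⟶ AddCommGrpCat.of J := AddCommGrpCat.ofHom gh
  have hf : Mono f := by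
    apply ConcreteCategory.mono_of_injective
    intro a b hab
    have h1 : n * a.down = n * b.down := congrArg ULift.down hab
    exact ULift.ext _ _ (mul_left_cancel₀ hn h1)
  obtain ⟨h, hh⟩ := Injective.factors g f
  refine ⟨h.hom ⟨1⟩, ?_⟩
  have h2 : (f ≫ h).hom ⟨1⟩ = g.hom ⟨1⟩ := by rw [hh]
  have h3 : (f ≫ h).hom ⟨1⟩ = h.hom (fh ⟨1⟩) := rfl
  have h4 : fh ⟨1⟩ = n • (⟨1⟩ : ULift.{u} ℤ) := by
    apply ULift.ext
    simp [fh]
  have h5 : g.hom ⟨1⟩ = x := by
    change ((1 : ℤ)) • x = x
    simp
  rw [h3, h4, map_zsmul, h5] at h2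
  exact h2

end Groth.Agent.S6933
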