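import Groth.Statements.S6934
import Mathlib.Tactic.Ring

set_option autoImplicit false
universe u
open EtAlg

namespace Groth.Agent.S6934

/-- Let `s : B → R`, `t : R' → R` be ring maps and `B' = B ×_R R'` the fibre product ring, i.e. a ring
`B'` with maps `p : B' → B`, `q : B' → R'`, `s ∘ p = t ∘ q`, such that `(p, q)` is injective with
image the pairs `(b, r')` with `s(b) = t(r')`. Let `h ∈ B'` with images `g = p(h)`, `f = q(h)`. Then
the square of localizations `B'_h → B_g`, `B'_h → R'_f`, `B_g → R_{s(g)}`, `R'_f → R_{t(f)} =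
R_{s(g)}` (the induced maps) is cartesian as well: `B'_h = B_g ×_{R_{s(g)}} R'_f`. -/
theorem result {B R R' B' : Type u} [CommRing B] [CommRing R] [CommRing R'] [CommRing B']
    (s : B →+* R) (t : R' →+* R) (p : B' →+* B) (q : B' →+* R') (hc : s.comp p = t.comp q)
    (hinj : ∀ x y : B', p x = p y → q x = q y → x = y) (hsurj : ∀ (b : B) (r' : R'), s b = t r' → ∃ x : B', p x = b ∧ q x = r')
    (h : B') (Bh Bg Rf Rsg : Type u) [CommRing Bh] [CommRing Bg] [CommRing Rf] [CommRing Rsg]
    [Algebra B' Bh] [IsLocalization.Away h Bh] [Algebra B Bg] [IsLocalization.Away (p h) Bg]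
    [Algebra R' Rf] [IsLocalization.Away (q h) Rf] [Algebra R Rsg] [IsLocalization.Away (s (p h)) Rsg]
    (pL : Bh →+* Bg) (qL : Bh →+* Rf) (sL : Bg →+* Rsg) (tL : Rf →+* Rsg)
    (hp : pL.comp (algebraMap B' Bh) = (algebraMap B Bg).comp p) (hq : qL.comp (algebraMap B' Bh) = (algebraMap R' Rf).comp q)
    (hs : sL.comp (algebraMap B Bg) = (algebraMap R Rsg).comp s) (ht : tL.comp (algebraMap R' Rf) = (algebraMap R Rsg).comp t) :
    (∀ x y : Bh, pL x = pL y → qL x = qL y → x = y) ∧
    (∀ (b : Bg) (r : Rf), sL b = tL r → ∃ x : Bh, pL x = b ∧ qL x = r) := by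
  have hpq : ∀ b', s (p b') = t (q b') := fun b' => RingHom.congr_fun hc b'
  have hP : ∀ b', pL (algebraMap B' Bh b') = algebraMap B Bg (p b') := fun b' =>
    RingHom.congr_fun hp b'
  have hQ : ∀ b', qL (algebraMap B' Bh b') = algebraMap R' Rf (q b') := fun b' =>
    RingHom.congr_fun hq b'
  have hS : ∀ b, sL (algebraMap B Bg b) = algebraMap R Rsg (s b) := fun b =>
    RingHom.congr_fun hs b
  have hT : ∀ r', tL (algebraMap R' Rf r') = algebraMap R Rsg (t r') := fun r' =>
    RingHom.congr_fun ht r'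
  have uh : IsUnit (algebraMap B' Bh h) := IsLocalization.Away.algebraMap_isUnit h
  have ug : IsUnit (algebraMap B Bg (p h)) := IsLocalization.Away.algebraMap_isUnit (p h)
  have uf : IsUnit (algebraMap R' Rf (q h)) := IsLocalization.Away.algebraMap_isUnit (q h)
  constructor
  · have key : ∀ z : Bh, pL z = 0 → qL z = 0 → z = 0 := by
      intro z hz1 hz2
      obtain ⟨n, b', hb'⟩ := IsLocalization.Away.surj h z
      have h1 : algebraMap B Bg (p b') = algebraMap B Bg 0 := by
        rw [← hP, ← hb', map_mul, hz1, zero_mul, map_zero]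
      have h2 : algebraMap R' Rf (q b') = algebraMap R' Rf 0 := by
        rw [← hQ, ← hb', map_mul, hz2, zero_mul, map_zero]
      obtain ⟨k₁, hk₁⟩ := IsLocalization.Away.exists_of_eq (p h) h1
      obtain ⟨k₂, hk₂⟩ := IsLocalization.Away.exists_of_eq (q h) h2
      rw [mul_zero] at hk₁ hk₂
      have h3 : h ^ (k₁ + k₂) * b' = 0 := by
        apply hinj
        · rw [map_zero, map_mul, map_pow, pow_add, mul_comm (p h ^ k₁), mul_assoc, hk₁, mul_zero]
        · rw [map_zero, map_mul, map_pow, pow_add, mul_assoc, hk₂, mul_zero]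
      have h4 : algebraMap B' Bh b' = 0 := by
        have h5 : algebraMap B' Bh h ^ (k₁ + k₂) * algebraMap B' Bh b' = 0 := by
          rw [← map_pow, ← map_mul, h3, map_zero]
        exact (IsUnit.mul_right_eq_zero (uh.pow _)).mp h5
      rw [h4] at hb'
      exact (IsUnit.mul_left_eq_zero (uh.pow n)).mp hb'
    intro x y h1 h2
    have h3 := key (x - y) (by rw [map_sub, h1, sub_self]) (by rw [map_sub, h2, sub_self])
    exact sub_eq_zero.mp h3
  · intro b r hbr
    obtain ⟨n, b₀, hb₀⟩ := IsLocalization.Away.surj (p h) b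
    obtain ⟨m, r₀, hr₀⟩ := IsLocalization.Away.surj (q h) r
    have hb₁ : b * algebraMap B Bg (p h) ^ (n + m) = algebraMap B Bg (b₀ * p h ^ m) := by
      rw [pow_add, ← mul_assoc, hb₀, map_mul, map_pow]
    have hr₁ : r * algebraMap R' Rf (q h) ^ (n + m) = algebraMap R' Rf (r₀ * q h ^ n) := by
      rw [pow_add, mul_comm (_ ^ n), ← mul_assoc, hr₀, map_mul, map_pow]
    have hsg : s (p h) = t (q h) := hpq h
    have h5 : algebraMap R Rsg (s (b₀ * p h ^ m)) = algebraMap R Rsg (t (r₀ * q h ^ n)) := by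
      rw [← hS, ← hT, ← hb₁, ← hr₁, map_mul, map_mul, map_pow, map_pow, hS, hT, hbr, hsg]
    obtain ⟨k, hk⟩ := IsLocalization.Away.exists_of_eq (s (p h)) h5
    have h6 : s (p h ^ k * (b₀ * p h ^ m)) = t (q h ^ k * (r₀ * q h ^ n)) := by
      rw [map_mul s, map_mul t, map_pow s, map_pow t, hk, hsg]
    obtain ⟨x₀, hx₀p, hx₀q⟩ := hsurj _ _ h6
    obtain ⟨u, hu⟩ := uh.pow (n + m + k)
    refine ⟨algebraMap B' Bh x₀ * ↑u⁻¹, ?_, ?_⟩
    · have e1 : algebraMap B Bg (p h) ^ (n + m + k) = pL ↑u := by rw [hu, map_pow, hP]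
      have e2 : pL (algebraMap B' Bh x₀ * ↑u⁻¹) * algebraMap B Bg (p h) ^ (n + m + k) =
          b * algebraMap B Bg (p h) ^ (n + m + k) := by
        rw [e1, ← map_mul, mul_assoc, Units.inv_mul, mul_one, hP, hx₀p, ← e1, map_mul, map_pow,
          pow_add _ (n + m) k, ← mul_assoc b, hb₁]
        ring
      exact (ug.pow _).mul_left_injective e2
    · have e1 : algebraMap R' Rf (q h) ^ (n + m + k) = qL ↑u := by rw [hu, map_pow, hQ]
      have e2 : qL (algebraMap B' Bh x₀ * ↑u⁻¹) * algebraMap R' Rf (q h) ^ (n + m + k) =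
          r * algebraMap R' Rf (q h) ^ (n + m + k) := by
        rw [e1, ← map_mul, mul_assoc, Units.inv_mul, mul_one, hQ, hx₀q, ← e1, map_mul, map_pow,
          pow_add _ (n + m) k, ← mul_assoc r, hr₁]
        ring
      exact (uf.pow _).mul_left_injective e2

end Groth.Agent.S6934
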