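import Groth.Statements.S6957
import Groth.Agent.H53.LBaseChange

set_option autoImplicit false
universe u
open CategoryTheory CategoryTheory.Limits
attribute [local instance] HasDerivedCategory.standard
open DRing

namespace Groth.Agent.S6957

/-- Let A → B be a homomorphism of commutative rings such that the derived base change D(A) → D(B)
exists, and let K be a perfect object of D(A). Then K ⊗^L_A B is a perfect object of D(B). -/
theorem result {A B : Type u} [CommRing A] [CommRing B] (φ : A →+* B)
    [DRing.HasLBaseChange φ] (K : Dual.D A) (hK : DRing.IsPerfect A K) :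
    DRing.IsPerfect B ((DRing.LBaseChange φ).obj K) := by
  obtain ⟨E, a, b, hE, hfp, ⟨e⟩⟩ := hK
  have hfl : DRing.TermwiseFlat E := fun i => by
    have := (hfp i).2
    infer_instance
  have hKF : DRing.IsKFlat A E :=
    Groth.Agent.H31.KFlatRing.isKFlat_of_bounded_above_flat E b (fun q hq => hE q (Or.inr hq)) hfl
  refine ⟨(Groth.Agent.H35.FlatBC.extCx φ).obj E, a, b,
    Groth.Agent.H35.FlatBC.vanishesOutside_ext φ E a b hE, fun i => ⟨?_, ?_⟩,
    ⟨Groth.Agent.H53.LBaseChange.objIso' φ E hKF e⟩⟩
  · have := (hfp i).1
    exact Groth.Agent.H35.FlatBC.finite_ext φ (E.X i)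
  · have := (hfp i).2
    exact Groth.Agent.H35.FlatBC.projective_ext φ (E.X i)

end Groth.Agent.S6957
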