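import Groth.Statements.S6962
import Groth.Agent.S6955
import Groth.Agent.H72.PdExt
import Groth.Agent.H72.FGRes

set_option autoImplicit false
universe u
open CategoryTheory CategoryTheory.Limits
attribute [local instance] HasDerivedCategory.standard
open DRing

namespace Groth.Agent.S6962

open Groth.Agent.H72.PdLocal Groth.Agent.H72.PdExt

/-- Let R be a regular commutative ring, i.e. R is Noetherian and its localization at every prime ideal
is a regular local ring. Then an R-module M is perfect (M[0] is isomorphic in D(R) to a bounded
complex of finite projective modules) if and only if M is finitely generated. -/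
theorem result (R : Type u) [CommRing R] [IsNoetherianRing R]
    (hreg : ∀ p : PrimeSpectrum R, IsRegularLocalRing (Localization.AtPrime p.asIdeal))
    (M : Type u) [AddCommGroup M] [Module R M] :
    DRing.IsPerfectModule R M ↔ Module.Finite R M := by
  constructor
  · intro h
    obtain ⟨P, d, -, hfin⟩ := (Groth.Agent.S6955.result R M).mp h
    have h0 : Module.Finite R (P.complex.X 0) := hfin 0
    have hepi : Function.Surjective (P.π.f 0) := (ModuleCat.epi_iff_surjective _).mp inferInstance
    have h1 : Module.Finite R (((ChainComplex.single₀ (ModuleCat.{u} R)).obj (ModuleCat.of R M)).X 0) :=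
      Module.Finite.of_surjective (P.π.f 0).hom hepi
    exact Module.Finite.equiv
      (HomologicalComplex.singleObjXSelf (ComplexShape.down ℕ) 0 (ModuleCat.of R M)).toLinearEquiv
  · intro hM
    obtain ⟨N, hN⟩ := exists_pdLT_of_forall_maximal R M (fun p _ => by
      have hr : IsRegularLocalRing (Localization.AtPrime p.asIdeal) := hreg p
      exact ⟨_, pdLT_of_isRegularLocalRing (Localization.AtPrime p.asIdeal)
        (LocalizedModule p.asIdeal.primeCompl M)⟩)
    obtain ⟨P, hP0, hPf⟩ := Groth.Agent.H72.FGRes.exists_fg_resolution N M hN
    exact (Groth.Agent.S6955.result R M).mpr ⟨P, N, hP0, hPf⟩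

end Groth.Agent.S6962
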