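import Groth.Statements.S6963
import Groth.Agent.H33.Bidual

set_option autoImplicit false
universe u
open CategoryTheory CategoryTheory.Limits
attribute [local instance] HasDerivedCategory.standard
open DRing

namespace Groth.Agent.S6963

/-- Let A be a commutative ring and K a perfect object of D(A), represented by a cochain complex E for
which RHom_A(E, -) exists; write K^∨ = RHom_A(E, A). Then K^∨ is a perfect object of D(A), and for
every cochain complex E' representing K^∨ for which RHom_A(E', -) exists, RHom_A(E', A) is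
isomorphic to K in D(A) (existence of an isomorphism only; the canonical one is the double-duality
map). -/
theorem result (A : Type u) [CommRing A] (K : Dual.D A) (hK : DRing.IsPerfect A K)
    (E : DRing.Cx A) (eK : DRing.toD E ≅ K) [DRing.HasRHomCx E] :
    DRing.IsPerfect A ((DRing.RHomCx E).obj (Dual.inD A A)) ∧
      ∀ (E' : DRing.Cx A) (eK' : DRing.toD E' ≅ (DRing.RHomCx E).obj (Dual.inD A A)) [DRing.HasRHomCx E'],
        Nonempty ((DRing.RHomCx E').obj (Dual.inD A A) ≅ K) := by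
  classical
  obtain ⟨P, a, b, hP, hfp, ⟨eP⟩⟩ := hK
  have hBPC : Groth.Agent.H33.RHomExact.BPC P :=
    ⟨⟨b, fun i hi => hP i (Or.inr hi)⟩, fun i => (hfp i).2⟩
  haveI : P.IsKProjective := hBPC.isKProjective
  let eU : Dual.inD A A ≅ DerivedCategory.Q.obj (Groth.Agent.H33.Bidual.sg (ModuleCat.of A A)) :=
    (DerivedCategory.singleFunctorIsoCompQ (ModuleCat.{u} A) 0).app (ModuleCat.of A A)
  obtain ⟨e1⟩ := Groth.Agent.H33.HomQis.nonempty_RHomCx_iso_of_model E P (eP ≪≫ eK.symm)
    (Groth.Agent.H33.Bidual.sg (ModuleCat.of A A))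
  let eD : (DRing.RHomCx E).obj (Dual.inD A A) ≅
      DerivedCategory.Q.obj (DRing.homCx P (Groth.Agent.H33.Bidual.sg (ModuleCat.of A A))) :=
    (DRing.RHomCx E).mapIso eU ≪≫ e1
  have hvan := Groth.Agent.H33.Bidual.dual_vanishesOutside P a b hP (ModuleCat.of A A)
  have hfp' := Groth.Agent.H33.Bidual.dual_termwiseFP P hfp
  refine ⟨⟨_, -b, -a, hvan, hfp', ⟨eD.symm⟩⟩, ?_⟩
  intro E' eK' _
  have hBPC' : Groth.Agent.H33.RHomExact.BPC
      (DRing.homCx P (Groth.Agent.H33.Bidual.sg (ModuleCat.of A A))) :=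
    ⟨⟨-a, fun i hi => hvan i (Or.inr hi)⟩, fun i => (hfp' i).2⟩
  haveI : (DRing.homCx P (Groth.Agent.H33.Bidual.sg (ModuleCat.of A A))).IsKProjective :=
    hBPC'.isKProjective
  obtain ⟨e2⟩ := Groth.Agent.H33.HomQis.nonempty_RHomCx_iso_of_model E'
    (DRing.homCx P (Groth.Agent.H33.Bidual.sg (ModuleCat.of A A))) (eK' ≪≫ eD).symm
    (Groth.Agent.H33.Bidual.sg (ModuleCat.of A A))
  haveI := Groth.Agent.H33.Bidual.isIso_bidual P hfp
  exact ⟨(DRing.RHomCx E').mapIso eU ≪≫ e2 ≪≫
    (DerivedCategory.Q.mapIso (asIso (Groth.Agent.H33.Bidual.bidual P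
      (Groth.Agent.H33.Bidual.sg (ModuleCat.of A A))))).symm ≪≫ eP⟩

end Groth.Agent.S6963
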