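import Groth.Statements.S6966
import Groth.Agent.H35.MPCoh2

set_option autoImplicit false
universe u
open CategoryTheory CategoryTheory.Limits
attribute [local instance] HasDerivedCategory.standard
open CAlg

namespace Groth.Agent.S6966

open DerivedCategory Pretriangulated in
/-- `Hom(P[0], N[1]) = 0` in `D(R)` for `P` projective. -/
lemma hom_single_projective_eq_zero {R : Type u} [CommRing R] (P N : ModuleCat.{u} R)
    [Projective P]
    (y : (singleFunctor (ModuleCat.{u} R) 0).obj P ⟶
      ((singleFunctor (ModuleCat.{u} R) 0).obj N)⟦(1 : ℤ)⟧) : y = 0 := by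
  let e1 := Groth.Agent.H35.MPCoh.sIso 0 P
  let e2 := ((singleFunctors (ModuleCat.{u} R)).shiftIso 1 (-1) 0 (by omega)).app N
  let e3 := Groth.Agent.H35.MPCoh.sIso (-1) N
  have h : e1.inv ≫ y ≫ e2.hom ≫ e3.hom = 0 :=
    from_singleFunctor_obj_eq_zero_of_projective
      (L := (CochainComplex.singleFunctor (ModuleCat.{u} R) (-1)).obj N) (i := 0) _ (-1)
      (by omega)
  have h' : y = e1.hom ≫ (e1.inv ≫ y ≫ e2.hom ≫ e3.hom) ≫ e3.inv ≫ e2.inv := by simp
  rw [h', h, zero_comp, comp_zero]

/-- Let R be a commutative ring, I an ideal of R and M an R-module. Then the following two conditions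
coincide: for each a ∈ I, the endomorphism of M given by multiplication by a can be written as a
composite M → P → M with P some projective R-module; and for every R-module N and every a ∈ I, a
annihilates Ext^1_R(M, N) = Hom(M[0], N[1]) in D(R). -/
theorem result (R : Type u) [CommRing R] (I : Ideal R) (M : Type u)
    [AddCommGroup M] [Module R M] :
    (∀ a ∈ I, ∃ (P : Type u) (_ : AddCommGroup P) (_ : Module R P) (_ : Module.Projective R P)
        (f : M →ₗ[R] P) (g : P →ₗ[R] M), g ∘ₗ f = a • LinearMap.id) ↔
      ∀ (N : Type u) [AddCommGroup N] [Module R N], ∀ a ∈ I,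
        ∀ x : DRing.ExtD R (Dual.inD R M) (Dual.inD R N) 1, a • x = 0 := by
  constructor
  · intro h N _ _ a ha x
    obtain ⟨P, _, _, hP, f, g, hgf⟩ := h a ha
    haveI hproj : Projective (ModuleCat.of R P) := (IsProjective.iff_projective _).1 hP
    have h1 : a • x = (a • 𝟙 (Dual.inD R M)) ≫ x := by
      rw [Linear.smul_comp, Category.id_comp]
    have h2 : a • 𝟙 (Dual.inD R M) =
        (DerivedCategory.singleFunctor (ModuleCat.{u} R) 0).map (ModuleCat.ofHom f) ≫
          (DerivedCategory.singleFunctor (ModuleCat.{u} R) 0).map (ModuleCat.ofHom g) := by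
      rw [← Functor.map_comp, ← ModuleCat.ofHom_comp, hgf]
      have h3 : ModuleCat.ofHom (a • LinearMap.id : M →ₗ[R] M) = a • 𝟙 (ModuleCat.of R M) := rfl
      rw [h3, Functor.map_smul, CategoryTheory.Functor.map_id]
    rw [h1, h2, Category.assoc,
      hom_single_projective_eq_zero (ModuleCat.of R P) (ModuleCat.of R N)
        ((DerivedCategory.singleFunctor (ModuleCat.{u} R) 0).map (ModuleCat.ofHom g) ≫ x),
      comp_zero]
  · intro h a ha
    let F : ModuleCat.{u} R := ModuleCat.of R (M →₀ R)
    let π : F ⟶ ModuleCat.of R M :=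
      ModuleCat.ofHom (Finsupp.linearCombination R (id : M → M))
    have hπ : Function.Surjective π.hom := Finsupp.linearCombination_id_surjective R M
    let S : ShortComplex (ModuleCat.{u} R) := ShortComplex.mk (kernel.ι π) π (kernel.condition π)
    have hS : S.ShortExact :=
      { exact := ShortComplex.exact_of_f_is_kernel _ (kernelIsKernel π)
        mono_f := by dsimp [S]; infer_instance
        epi_g := (ModuleCat.epi_iff_surjective _).2 hπ }
    have hT := hS.singleTriangle_distinguished
    have hξ : a • hS.singleδ = 0 := h (kernel π : ModuleCat.{u} R) a ha hS.singleδ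
    have h0 : (a • 𝟙 ((DerivedCategory.singleFunctor (ModuleCat.{u} R) 0).obj
        (ModuleCat.of R M))) ≫ hS.singleTriangle.mor₃ = 0 := by
      rw [Linear.smul_comp, Category.id_comp]
      exact hξ
    obtain ⟨φ, hφ⟩ := Pretriangulated.Triangle.coyoneda_exact₃ _ hT _ h0
    obtain ⟨f, rfl⟩ := (DerivedCategory.singleFunctor (ModuleCat.{u} R) 0).map_surjective φ
    have hfπ : f ≫ π = a • 𝟙 (ModuleCat.of R M) := by
      apply (DerivedCategory.singleFunctor (ModuleCat.{u} R) 0).map_injective
      rw [Functor.map_comp, Functor.map_smul, CategoryTheory.Functor.map_id]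
      exact hφ.symm
    refine ⟨(M →₀ R), inferInstance, inferInstance, inferInstance, f.hom, π.hom, ?_⟩
    have h4 := congrArg ModuleCat.Hom.hom hfπ
    simpa using h4

end Groth.Agent.S6966
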