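import Groth.Statements.S6967
-- import your own Groth.Agent.* helpers here

set_option autoImplicit false
universe u
open CAlg

namespace Groth.Agent.S6967

/-- Let R be a commutative ring, I an ideal of R and 0 → K → P → M → 0 a short exact sequence of
R-modules with P projective. If multiplication by a on M factors through a projective R-module for
every a ∈ I, then multiplication by a on K factors through a projective R-module for every a ∈ I. -/
theorem result (R : Type u) [CommRing R] (I : Ideal R)
    {K P M : Type u} [AddCommGroup K] [Module R K] [AddCommGroup P] [Module R P] [Module.Projective R P]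
    [AddCommGroup M] [Module R M] (f : K →ₗ[R] P) (g : P →ₗ[R] M) (hf : Function.Injective f)
    (hg : Function.Surjective g) (hfg : LinearMap.range f = LinearMap.ker g)
    (hM : ∀ a ∈ I, ∃ (P : Type u) (_ : AddCommGroup P) (_ : Module R P) (_ : Module.Projective R P)
        (f : M →ₗ[R] P) (g : P →ₗ[R] M), g ∘ₗ f = a • LinearMap.id) :
    ∀ a ∈ I, ∃ (P : Type u) (_ : AddCommGroup P) (_ : Module R P) (_ : Module.Projective R P)
        (f : K →ₗ[R] P) (g : P →ₗ[R] K), g ∘ₗ f = a • LinearMap.id := by
  intro a ha
  obtain ⟨Q, _, _, _, u, v, huv⟩ := hM a ha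
  -- lift v : Q → M along the surjection g : P → M
  obtain ⟨v', hv'⟩ := Module.projective_lifting_property g v hg
  -- the endomorphism a - v' u g of P lands in ker g = range f
  let w : P →ₗ[R] P := a • LinearMap.id - v' ∘ₗ u ∘ₗ g
  have hw : ∀ x, w x ∈ LinearMap.range f := by
    intro x
    rw [hfg, LinearMap.mem_ker]
    have h1 : g (v' (u (g x))) = v (u (g x)) := by
      have := congrArg (fun t => t (u (g x))) hv'
      simpa using this
    have h2 : v (u (g x)) = a • g x := by
      have := congrArg (fun t => t (g x)) huv
      simpa using this
    simp [w, h1, h2]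
  let e := LinearEquiv.ofInjective f hf
  let h : P →ₗ[R] K := e.symm.toLinearMap ∘ₗ (w.codRestrict (LinearMap.range f) hw)
  refine ⟨P, inferInstance, inferInstance, inferInstance, f, h, ?_⟩
  apply LinearMap.ext
  intro k
  apply hf
  have h3 : f (h (f k)) = w (f k) := by
    have : (e (h (f k)) : P) = w (f k) := by
      simp [h, e]
    simpa [e] using this
  have h4 : g (f k) = 0 := by
    have : f k ∈ LinearMap.ker g := by rw [← hfg]; exact LinearMap.mem_range_self f k
    exact this
  simp only [LinearMap.comp_apply, LinearMap.smul_apply, LinearMap.id_apply, map_smul]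
  rw [h3]
  simp [w, h4]

end Groth.Agent.S6967
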