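import Groth.Statements.S6969
import Mathlib.LinearAlgebra.Finsupp.LinearCombination
import Mathlib.LinearAlgebra.Finsupp.Supported
import Mathlib.LinearAlgebra.FreeModule.Finite.Basic

set_option autoImplicit false
universe u
open CAlg

namespace Groth.Agent.S6969

/-- Let R be a commutative ring and φ : M → N an R-linear map which factors through a projective
R-module. If M is finitely generated, then φ factors through a finitely generated projective
R-module. -/
theorem result (R : Type u) [CommRing R] {M N : Type u} [AddCommGroup M]
    [Module R M] [Module.Finite R M] [AddCommGroup N] [Module R N] (φ : M →ₗ[R] N)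
    (h : ∃ (P : Type u) (_ : AddCommGroup P) (_ : Module R P) (_ : Module.Projective R P) (f : M →ₗ[R] P)
      (g : P →ₗ[R] N), g ∘ₗ f = φ) :
    ∃ (P : Type u) (_ : AddCommGroup P) (_ : Module R P) (_ : Module.Projective R P) (_ : Module.Finite R P)
      (f : M →ₗ[R] P) (g : P →ₗ[R] N), g ∘ₗ f = φ := by
  classical
  obtain ⟨P, _, _, hP, f, g, hfg⟩ := h
  obtain ⟨s, hs⟩ := Module.projective_def'.mp hP
  obtain ⟨S, hS⟩ := (Module.finite_def.mp inferInstance : (⊤ : Submodule R M).FG)
  let T : Finset P := S.biUnion (fun m => (s (f m)).support)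
  have hT : ∀ m : M, ((s (f m)).support : Set P) ⊆ T := by
    intro m
    have hle : (⊤ : Submodule R M) ≤
        Submodule.comap (s ∘ₗ f) (Finsupp.supported R R (T : Set P)) := by
      rw [← hS, Submodule.span_le]
      intro m hm
      simp only [Submodule.comap_coe, Set.mem_preimage, SetLike.mem_coe, Finsupp.mem_supported,
        LinearMap.comp_apply]
      intro t ht
      exact Finset.mem_coe.mpr (Finset.mem_biUnion.mpr ⟨m, hm, ht⟩)
    have hm : m ∈ Submodule.comap (s ∘ₗ f) (Finsupp.supported R R (T : Set P)) := hle trivial
    exact (Finsupp.mem_supported R _).mp hm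
  let f' : M →ₗ[R] (T → R) := LinearMap.pi (fun t => (Finsupp.lapply t.1) ∘ₗ s ∘ₗ f)
  let g' : (T → R) →ₗ[R] N := Fintype.linearCombination R (fun t : T => g t.1)
  refine ⟨T → R, inferInstance, inferInstance, inferInstance, inferInstance, f', g', ?_⟩
  apply LinearMap.ext
  intro m
  rw [← hfg]
  simp only [LinearMap.comp_apply]
  have h1 : f m = Finsupp.linearCombination R id (s (f m)) := by
    have := congrArg (fun t => t (f m)) hs
    simpa using this.symm
  conv_rhs => rw [h1]
  rw [Finsupp.linearCombination_apply, map_finsuppSum]
  rw [Finsupp.sum_of_support_subset (s (f m)) (hT m) _ (by intro t _; simp)]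
  simp only [g', f', Fintype.linearCombination_apply, LinearMap.pi_apply, LinearMap.comp_apply,
    Finsupp.lapply_apply, id, map_smul]
  rw [← Finset.sum_coe_sort T (fun t => (s (f m)) t • g t)]

end Groth.Agent.S6969
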