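import Groth.Statements.S6974
import Groth.Agent.H35.MaxDescent

set_option autoImplicit false
universe u
open CategoryTheory CategoryTheory.Limits
attribute [local instance] HasDerivedCategory.standard
open DRing

namespace Groth.Agent.S6974

/-- Let R be a commutative ring such that the derived base change D(R) → D(R/m) exists for every ideal
m, let K be a pseudo-coherent object of D(R) and a, b integers. If for every maximal ideal m of R
the cohomology H^i(K ⊗^L_R R/m) vanishes for all i outside [a, b], then K is perfect and has tor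
amplitude in [a, b]. -/
theorem result (R : Type u) [CommRing R]
    [∀ m : Ideal R, DRing.HasLBaseChange (Ideal.Quotient.mk m)] (K : Dual.D R)
    (hK : DRing.IsPseudoCoherent' R K) (a b : ℤ)
    (h : ∀ (m : Ideal R), m.IsMaximal → ∀ i : ℤ, (i < a ∨ b < i) →
      Subsingleton (Dual.HD (R ⧸ m) ((DRing.LBaseChange (Ideal.Quotient.mk m)).obj K) i)) :
    DRing.IsPerfect R K ∧ DRing.HasTorAmplitudeIn R a b K := by
  obtain ⟨F, c, hF, hff, ⟨e⟩⟩ := hK
  have hfree : ∀ i, Module.Free R (F.X i) := fun i => (hff i).2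
  have hfl := Groth.Agent.H35.TorAmp.free_flat F hfree
  have hFK : DRing.IsKFlat R F :=
    Groth.Agent.H31.KFlatRing.isKFlat_of_bounded_above_flat F c hF hfl
  have hamp : DRing.HasTorAmplitudeIn R a b (DRing.toD F) := by
    refine Groth.Agent.H35.LBC.hasTorAmplitudeIn_of_forall_maximal F a b (fun J hJ => ?_)
    refine Groth.Agent.H35.LBC.hasTorAmplitudeIn_of_residue_exact _ c
      (Groth.Agent.H35.FlatBC.vanishesAbove_ext _ F c hF)
      (fun i => ⟨haveI := (hff i).1; Groth.Agent.H35.FlatBC.finite_ext _ (F.X i),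
        haveI := (hff i).2; Groth.Agent.H35.FlatBC.free_ext _ (F.X i)⟩) a b (fun i hi => ?_)
    have h0 : ((Groth.Agent.H35.FlatBC.extCx (Ideal.Quotient.mk J)).obj F).ExactAt i := by
      rw [Groth.Agent.H35.TorAmp.exactAt_iff_isZero_H]
      have hsub := h J hJ i hi
      exact (ModuleCat.isZero_of_subsingleton _).of_iso
        ((DerivedCategory.homologyFunctor _ i).mapIso
          (Groth.Agent.H53.LBaseChange.objIso' (Ideal.Quotient.mk J) F hFK e))
    letI : Field (R ⧸ J) := Ideal.Quotient.field J
    have hflat : (algebraMap (R ⧸ J) J.ResidueField).Flat :=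
      RingHom.flat_algebraMap_iff.2 inferInstance
    refine Groth.Agent.H35.LBC.exactAt_ext_ext_of_comm
      (algebraMap R (Localization.AtPrime J))
      (algebraMap (Localization.AtPrime J) (IsLocalRing.ResidueField (Localization.AtPrime J)))
      (Ideal.Quotient.mk J) (algebraMap (R ⧸ J) J.ResidueField) ?_ hflat F i h0
    ext x
    rfl
  exact ⟨(Groth.Agent.H35.TorAmp.isPerfect_iff K).2 ⟨⟨F, c, hF, hff, ⟨e⟩⟩, a, b,
      Groth.Agent.H35.TorAmp.hasTorAmplitudeIn_of_iso e hamp⟩,
    Groth.Agent.H35.TorAmp.hasTorAmplitudeIn_of_iso e hamp⟩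

end Groth.Agent.S6974
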