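import Groth.Statements.S6975
import Groth.Agent.H35.LocalSplit

set_option autoImplicit false
universe u
open CategoryTheory CategoryTheory.Limits
attribute [local instance] HasDerivedCategory.standard
open DRing

namespace Groth.Agent.S6975

/-- Let R be a local commutative ring with residue field κ such that the derived base change D(R) → D(κ)
exists, and let K be a pseudo-coherent object of D(R). If there is an integer a with H^i(K ⊗^L_R κ)
= 0 for all i < a, then K is perfect. -/
theorem result (R : Type u) [CommRing R] [IsLocalRing R]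
    [DRing.HasLBaseChange (IsLocalRing.residue R)] (K : Dual.D R) (hK : DRing.IsPseudoCoherent' R K) (a : ℤ)
    (h : ∀ i : ℤ, i < a → Subsingleton (Dual.HD (IsLocalRing.ResidueField R)
      ((DRing.LBaseChange (IsLocalRing.residue R)).obj K) i)) :
    DRing.IsPerfect R K := by
  obtain ⟨F, c, hF, hff, ⟨e⟩⟩ := hK
  have hfree : ∀ i, Module.Free R (F.X i) := fun i => (hff i).2
  have hfl := Groth.Agent.H35.TorAmp.free_flat F hfree
  have hFK : DRing.IsKFlat R F :=
    Groth.Agent.H31.KFlatRing.isKFlat_of_bounded_above_flat F c hF hfl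
  have eB := Groth.Agent.H53.LBaseChange.objIso' (IsLocalRing.residue R) F hFK e
  have hex : ∀ i : ℤ, i < a →
      ((Groth.Agent.H35.FlatBC.extCx (algebraMap R (IsLocalRing.ResidueField R))).obj F).ExactAt i := by
    intro i hi
    rw [Groth.Agent.H35.TorAmp.exactAt_iff_isZero_H]
    have hsub := h i hi
    exact (ModuleCat.isZero_of_subsingleton _).of_iso
      ((DerivedCategory.homologyFunctor _ i).mapIso eB)
  have hL : ∀ i : ℤ, i < a → Function.Exact (F.d (i - 1) i).hom (F.d i (i + 1)).hom ∧
      Module.Free R (F.X (i + 1) ⧸ LinearMap.range (F.d i (i + 1)).hom) := by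
    intro i hi
    haveI := (hff i).1
    haveI := (hff (i + 1)).1
    haveI := (hff (i + 1)).2
    refine Groth.Agent.H35.LBC.exact_and_free_of_exact_lTensor _ _ ?_ ?_
    · ext x
      exact Groth.Agent.H12.FlatCx.d_d_apply F (i - 1) i (i + 1) x
    · exact Groth.Agent.H35.TorDescent.exact_lTensor_of_exact_ext (F.d (i - 1) i) (F.d i (i + 1))
        (Groth.Agent.H35.TorDescent.exact_of_exactAt_ext _ F (i - 1) i (i + 1) (by omega) rfl
          (hex i hi))
  have hFex : ∀ i : ℤ, i < a → F.ExactAt i := by
    intro i hi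
    rw [Groth.Agent.H35.TorAmp.exactAt_iff_elem F (i - 1) i (i + 1) (by omega) rfl]
    intro x hx
    exact ((hL i hi).1 x).1 hx
  have hW : Module.Flat R (F.opcycles a) := by
    have h1 := (hL (a - 1) (by omega)).2
    have e1 : (a - 1 + 1) = a := by omega
    have h2 : Module.Free R (F.X a ⧸ LinearMap.range (F.d (a - 1) a).hom) := by
      have := h1
      rw [e1] at this
      exact this
    exact Module.Flat.of_linearEquiv (Groth.Agent.H35.LBC.opcyclesIsoQuot F a).toLinearEquiv
  refine (Groth.Agent.H35.TorAmp.isPerfect_iff K).2 ⟨⟨F, c, hF, hff, ⟨e⟩⟩, a, max a c, ?_⟩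
  exact Groth.Agent.H35.TorAmp.hasTorAmplitudeIn_of_iso e
    (Groth.Agent.H35.LBC.hasTorAmplitudeIn_of_exact_below F c hF hfl a hFex hW)

end Groth.Agent.S6975
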