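import Groth.Statements.S6977
import Groth.Agent.S0563
import Groth.Agent.H35.BCSquare
import Groth.Agent.H35.MaxDescent
import Groth.Agent.H35.TorAmp2
import Groth.Agent.H56.ProjAmp

set_option autoImplicit false
universe u
open CategoryTheory CategoryTheory.Limits
attribute [local instance] HasDerivedCategory.standard
open DRing

namespace Groth.Agent.S6977

open DRing DerivedCategory Groth.Agent.H31 Groth.Agent.H35.TorAmp MonoidalCategory TensorProduct
  Groth.Agent.H35.LBC Groth.Agent.H35.BCSquare Groth.Agent.H35.FlatBC Groth.Agent.H35.KFlatBC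

/-- Finite global dimension bounds tor amplitude by the cohomological amplitude (the argument of
S7034, which does not use any derived-tensor binder). -/
theorem torAmp_of_glDim (R : Type u) [CommRing R] (d : ℕ)
    (hgl : ∀ (M : Type u) [AddCommGroup M] [Module R M],
      HasProjectiveDimensionLT (ModuleCat.of R M) (d + 1))
    (K : Dual.D R) (a b : ℤ)
    (hK : ∀ i : ℤ, (i < a ∨ b < i) → Subsingleton (Dual.HD R K i)) :
    DRing.HasTorAmplitudeIn R (a - d) b K := by
  have h1 : ∀ (M : Type u) [AddCommGroup M] [Module R M],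
      DRing.HasTorAmplitudeIn R (-(d : ℤ)) 0 (Dual.inD R M) := by
    intro M _ _
    have hpd := hgl M
    have key : ∀ (n : ℤ) (_ : n = ((d + 1 : ℕ) : ℤ)) (N : ModuleCat.{u} R)
        (ξ : Dual.inD R M ⟶ ((DerivedCategory.singleFunctor (ModuleCat.{u} R) 0).obj N)⟦n⟧),
        ξ = 0 := by
      intro n hn N ξ
      subst hn
      have hs := HasProjectiveDimensionLT.subsingleton (ModuleCat.of R M) (d + 1) (d + 1) le_rfl N
      have hs' : Subsingleton (ShiftedHom
          ((DerivedCategory.singleFunctor (ModuleCat.{u} R) 0).obj (ModuleCat.of R M))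
          ((DerivedCategory.singleFunctor (ModuleCat.{u} R) 0).obj N) ((d + 1 : ℕ) : ℤ)) :=
        Abelian.Ext.homEquiv.symm.subsingleton
      exact hs'.elim ξ 0
    obtain ⟨P, hv, hp, he⟩ := Groth.Agent.H56.exists_projective_cx_of_ext_vanishing (d + 1)
      (Dual.inD R M) (-(d : ℤ)) 0 (by omega)
      (fun n hn => by
        rcases hn with hn | hn
        · exact DerivedCategory.isZero_of_isGE _ 0 n (by omega)
        · exact DerivedCategory.isZero_of_isLE _ 0 n hn)
      (fun N ξ => key _ (by push_cast; ring) N ξ)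
    exact ⟨P, hv, fun i => by
      have := hp i
      infer_instance, he⟩
  refine Groth.Agent.H35.TorAmp.hasTorAmplitudeIn_of_bounded_homology (a - d) b K ⟨a, b, hK⟩
    (fun i => ?_)
  by_cases hi : i < a ∨ b < i
  · have := hK i hi
    exact Groth.Agent.H35.TorAmp.hasTorAmplitudeIn_of_isZero
      ((DerivedCategory.singleFunctor (ModuleCat.{u} R) 0).map_isZero
        (ModuleCat.isZero_of_subsingleton _))
  · exact Groth.Agent.H35.TorAmp.hasTorAmplitudeIn_mono (by omega) (by omega) (h1 _)

section
variable {A B : Type u} [CommRing A] [CommRing B] [Algebra A B]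

/-- `toD (Res E) ≅ restrictD K` from `toD E ≅ K`. -/
noncomputable def resIso {E : DRing.Cx B} {K : Dual.D B} (e : toD E ≅ K) :
    toD ((DRing.restrictCx (algebraMap A B)).obj E) ≅ (DRing.restrictD (algebraMap A B)).obj K :=
  ((ModuleCat.restrictScalars.{u} (algebraMap A B)).mapDerivedCategoryFactors.app E).symm ≪≫
    (DRing.restrictD (algebraMap A B)).mapIso e

variable [IsLocalRing A]

/-- `κ_A → B / m_A B`. -/
noncomputable def resToQuot :
    IsLocalRing.ResidueField A →ₐ[A] B ⧸ (IsLocalRing.maximalIdeal A).map (algebraMap A B) :=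
  Ideal.Quotient.liftₐ (IsLocalRing.maximalIdeal A)
    (Algebra.ofId A (B ⧸ (IsLocalRing.maximalIdeal A).map (algebraMap A B)))
    (fun a ha => by
      show algebraMap A (B ⧸ (IsLocalRing.maximalIdeal A).map (algebraMap A B)) a = 0
      rw [IsScalarTower.algebraMap_apply A B
        (B ⧸ (IsLocalRing.maximalIdeal A).map (algebraMap A B)), Ideal.Quotient.algebraMap_eq,
        Ideal.Quotient.eq_zero_iff_mem]
      exact Ideal.mem_map_of_mem _ ha)

/-- `κ_A ⊗_A B → B / m_A B`. -/
noncomputable def psi :
    TensorProduct A (IsLocalRing.ResidueField A) B →+*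
      B ⧸ (IsLocalRing.maximalIdeal A).map (algebraMap A B) :=
  (Algebra.TensorProduct.lift (resToQuot (A := A) (B := B))
    (Ideal.Quotient.mkₐ A ((IsLocalRing.maximalIdeal A).map (algebraMap A B)))
    (fun _ _ => Commute.all _ _)).toRingHom

lemma psi_comp : (psi (A := A) (B := B)).comp
    (incR (B₀ := A) (C₀ := B) (B₁ := IsLocalRing.ResidueField A)) =
      Ideal.Quotient.mk ((IsLocalRing.maximalIdeal A).map (algebraMap A B)) := by
  ext x
  show (Algebra.TensorProduct.lift (resToQuot (A := A) (B := B))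
    (Ideal.Quotient.mkₐ A ((IsLocalRing.maximalIdeal A).map (algebraMap A B)))
    (fun _ _ => Commute.all _ _)) ((1 : IsLocalRing.ResidueField A) ⊗ₜ[A] x) = _
  rw [Algebra.TensorProduct.lift_tmul, map_one, one_mul]
  rfl

lemma incR_eq_zero {y : B} (hy : y ∈ (IsLocalRing.maximalIdeal A).map (algebraMap A B)) :
    incR (B₀ := A) (C₀ := B) (B₁ := IsLocalRing.ResidueField A) y = 0 := by
  have hle : (IsLocalRing.maximalIdeal A).map (algebraMap A B) ≤
      RingHom.ker (incR (B₀ := A) (C₀ := B) (B₁ := IsLocalRing.ResidueField A)) := by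
    rw [Ideal.map_le_iff_le_comap]
    intro a ha
    rw [Ideal.mem_comap, RingHom.mem_ker]
    show (1 : IsLocalRing.ResidueField A) ⊗ₜ[A] (algebraMap A B a) = 0
    have h0 : algebraMap A (IsLocalRing.ResidueField A) a = 0 := by
      rw [IsLocalRing.ResidueField.algebraMap_eq]
      exact (IsLocalRing.residue_eq_zero_iff a).2 ha
    rw [Algebra.algebraMap_eq_smul_one, ← TensorProduct.smul_tmul,
      ← Algebra.algebraMap_eq_smul_one, h0, TensorProduct.zero_tmul]
  exact hle hy

lemma psi_bijective : Function.Bijective (psi (A := A) (B := B)) := by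
  have hs : Function.Surjective (algebraMap A (IsLocalRing.ResidueField A)) := by
    rw [IsLocalRing.ResidueField.algebraMap_eq]
    exact IsLocalRing.residue_surjective
  have hcomp := psi_comp (A := A) (B := B)
  constructor
  · rw [injective_iff_map_eq_zero]
    intro x hx
    obtain ⟨y, rfl⟩ :=
      incR_surjective (B₀ := A) (C₀ := B) (B₁ := IsLocalRing.ResidueField A) hs x
    have h1 : Ideal.Quotient.mk ((IsLocalRing.maximalIdeal A).map (algebraMap A B)) y = 0 := by
      rw [← hcomp]
      exact hx
    exact incR_eq_zero (Ideal.Quotient.eq_zero_iff_mem.1 h1)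
  · intro z
    obtain ⟨y, rfl⟩ := Ideal.Quotient.mk_surjective z
    refine ⟨incR (B₀ := A) (C₀ := B) (B₁ := IsLocalRing.ResidueField A) y, ?_⟩
    rw [← hcomp]
    rfl

theorem main [IsLocalRing B] [IsLocalHom (algebraMap A B)] [Module.Flat A B] (d : ℕ)
    [IsRegularLocalRing (B ⧸ (IsLocalRing.maximalIdeal A).map (algebraMap A B))]
    (hd : ringKrullDim (B ⧸ (IsLocalRing.maximalIdeal A).map (algebraMap A B)) = d)
    [DRing.HasLBaseChange (IsLocalRing.residue A)] (a b : ℤ) (K : Dual.D B)
    (hK : DRing.IsPseudoCoherent' B K)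
    (h : ∀ i : ℤ, (i < a ∨ b < i) → Subsingleton (Dual.HD (IsLocalRing.ResidueField A)
      ((DRing.LBaseChange (IsLocalRing.residue A)).obj
        ((DRing.restrictD (algebraMap A B)).obj K)) i)) :
    DRing.IsPerfect B K ∧ DRing.HasTorAmplitudeIn B (a - d) b K := by
  obtain ⟨F, c, hFc, hFf, ⟨eF⟩⟩ := hK
  have hflF : TermwiseFlat F := fun j => by
    have := (hFf j).2
    infer_instance
  have hFK : DRing.IsKFlat B F := KFlatRing.isKFlat_of_bounded_above_flat F c hFc hflF
  have hι : (algebraMap A B).Flat := RingHom.flat_algebraMap_iff.2 inferInstance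
  have hRK : DRing.IsKFlat A ((DRing.restrictCx (algebraMap A B)).obj F) :=
    isKFlat_resCx _ hι F hFK
  have eB := Groth.Agent.H53.LBaseChange.objIso' (IsLocalRing.residue A)
    ((DRing.restrictCx (algebraMap A B)).obj F) hRK (resIso eF)
  have hex₀ : ∀ i : ℤ, (i < a ∨ b < i) →
      ((extCx (algebraMap A (IsLocalRing.ResidueField A))).obj
        ((DRing.restrictCx (algebraMap A B)).obj F)).ExactAt i := by
    intro i hi
    rw [exactAt_iff_isZero_H]
    have hsub := h i hi
    exact (ModuleCat.isZero_of_subsingleton _).of_iso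
      ((DerivedCategory.homologyFunctor _ i).mapIso eB)
  have hG'ex : ∀ i : ℤ, (i < a ∨ b < i) →
      ((extCx (incR (B₀ := A) (C₀ := B) (B₁ := IsLocalRing.ResidueField A))).obj F).ExactAt i := by
    intro i hi
    have h1 := (hex₀ i hi).of_iso (bcCxIso (B₀ := A) (B₁ := IsLocalRing.ResidueField A) F)
    exact (exactAt_map_iff
      (Res (incL (B₀ := A) (C₀ := B) (B₁ := IsLocalRing.ResidueField A))) _ i).1 h1
  have hψ : (psi (A := A) (B := B)).Flat := RingHom.Flat.of_bijective psi_bijective
  have hGex : ∀ i : ℤ, (i < a ∨ b < i) →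
      ((extCx (Ideal.Quotient.mk ((IsLocalRing.maximalIdeal A).map (algebraMap A B)))).obj
        F).ExactAt i := by
    intro i hi
    have : PreservesFiniteLimits (ext (psi (A := A) (B := B))) :=
      ModuleCat.preservesFiniteLimits_extendScalars_of_flat hψ
    have : PreservesFiniteColimits (ext (psi (A := A) (B := B))) := inferInstance
    have h1 : ((extCx (psi (A := A) (B := B))).obj
        ((extCx (incR (B₀ := A) (C₀ := B) (B₁ := IsLocalRing.ResidueField A))).obj F)).ExactAt i :=
      exactAt_map_of_exact (ext (psi (A := A) (B := B))) _ i (hG'ex i hi)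
    have h2 := h1.of_iso
      (extCxCompIso (incR (B₀ := A) (C₀ := B) (B₁ := IsLocalRing.ResidueField A)) psi F)
    rw [psi_comp] at h2
    exact h2
  have hGK : DRing.IsKFlat (B ⧸ (IsLocalRing.maximalIdeal A).map (algebraMap A B))
      ((extCx (Ideal.Quotient.mk ((IsLocalRing.maximalIdeal A).map (algebraMap A B)))).obj F) :=
    isKFlat_extCx _ F hFK
  have hGtor : DRing.HasTorAmplitudeIn (B ⧸ (IsLocalRing.maximalIdeal A).map (algebraMap A B))
      (a - d) b
      (toD ((extCx (Ideal.Quotient.mk
        ((IsLocalRing.maximalIdeal A).map (algebraMap A B)))).obj F)) :=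
    torAmp_of_glDim (B ⧸ (IsLocalRing.maximalIdeal A).map (algebraMap A B)) d
      (fun M _ _ => Groth.Agent.S0563.result
        (B ⧸ (IsLocalRing.maximalIdeal A).map (algebraMap A B)) d hd M) _ a b
      (fun j hj => ModuleCat.subsingleton_of_isZero ((exactAt_iff_isZero_H _ j).1 (hGex j hj)))
  have hGTV : TorVanish (a - d) b
      ((extCx (Ideal.Quotient.mk ((IsLocalRing.maximalIdeal A).map (algebraMap A B)))).obj F) :=
    torVanish_of_hasTorAmplitudeIn hGtor _ hGK (Iso.refl _)
  have hle : (IsLocalRing.maximalIdeal A).map (algebraMap A B) ≤ IsLocalRing.maximalIdeal B :=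
    ((IsLocalRing.local_hom_TFAE (algebraMap A B)).out 0 2).1
      (inferInstance : IsLocalHom (algebraMap A B))
  let φ : (B ⧸ (IsLocalRing.maximalIdeal A).map (algebraMap A B)) →+*
      IsLocalRing.ResidueField B :=
    Ideal.Quotient.lift _ (algebraMap B (IsLocalRing.ResidueField B)) (fun x hx => by
      rw [IsLocalRing.ResidueField.algebraMap_eq]
      exact (IsLocalRing.residue_eq_zero_iff x).2 (hle hx))
  have hφ : φ.comp (Ideal.Quotient.mk ((IsLocalRing.maximalIdeal A).map (algebraMap A B))) =
      algebraMap B (IsLocalRing.ResidueField B) := Ideal.Quotient.lift_comp_mk _ _ _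
  have hamp : DRing.HasTorAmplitudeIn B (a - d) b (toD F) := by
    refine hasTorAmplitudeIn_of_residue_exact F c hFc hFf (a - d) b (fun i hi => ?_)
    have h3 := (exactAt_tensor_ext_iff φ _
      (𝟙_ (ModuleCat.{u} (IsLocalRing.ResidueField B))) i).2 (hGTV _ i hi)
    have h4 := exactAt_of_tensor_unit _ i h3
    have h5 := h4.of_iso
      (extCxCompIso (Ideal.Quotient.mk ((IsLocalRing.maximalIdeal A).map (algebraMap A B))) φ F)
    rw [hφ] at h5
    exact h5
  exact ⟨(isPerfect_iff K).2 ⟨⟨F, c, hFc, hFf, ⟨eF⟩⟩, a - d, b,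
      hasTorAmplitudeIn_of_iso eF hamp⟩, hasTorAmplitudeIn_of_iso eF hamp⟩

end

/-- Let A → B be a flat local homomorphism of local commutative rings such that B/m_A B is a regular
local ring of dimension d, and assume the derived base change D(A) → D(κ_A) to the residue field of
A exists. Let a, b be integers and K a pseudo-coherent object of D(B) such that H^i((K regarded in
D(A)) ⊗^L_A κ_A) = 0 for every i outside [a, b]. Then K is perfect as an object of D(B) and has tor
amplitude in [a - d, b] over B. -/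
theorem result {A B : Type u} [CommRing A] [CommRing B] [IsLocalRing A]
    [IsLocalRing B] [Algebra A B] [IsLocalHom (algebraMap A B)] [Module.Flat A B] (d : ℕ)
    [IsRegularLocalRing (B ⧸ (IsLocalRing.maximalIdeal A).map (algebraMap A B))]
    (hd : ringKrullDim (B ⧸ (IsLocalRing.maximalIdeal A).map (algebraMap A B)) = d)
    [DRing.HasLBaseChange (IsLocalRing.residue A)] (a b : ℤ) (K : Dual.D B) (hK : DRing.IsPseudoCoherent' B K)
    (h : ∀ i : ℤ, (i < a ∨ b < i) → Subsingleton (Dual.HD (IsLocalRing.ResidueField A)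
      ((DRing.LBaseChange (IsLocalRing.residue A)).obj ((DRing.restrictD (algebraMap A B)).obj K)) i)) :
    DRing.IsPerfect B K ∧ DRing.HasTorAmplitudeIn B (a - d) b K := by
  exact main d hd a b K hK h

end Groth.Agent.S6977
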