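import Groth.Statements.S6980
import Groth.Agent.H35.PairDescent
import Groth.Agent.H35.MaxDescent

set_option autoImplicit false
universe u
open CategoryTheory CategoryTheory.Limits
attribute [local instance] HasDerivedCategory.standard
open DRing

namespace Groth.Agent.S6980

/-- Let R be a commutative ring, I and J ideals of R such that the derived base changes D(R) → D(R/I),
D(R/J), D(R/IJ) exist, and K an object of D(R). If K ⊗^L_R R/I is perfect in D(R/I) and K ⊗^L_R R/J
is perfect in D(R/J), then K ⊗^L_R R/IJ is perfect in D(R/IJ). -/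
theorem result (R : Type u) [CommRing R] (I J : Ideal R)
    [DRing.HasLBaseChange (Ideal.Quotient.mk I)] [DRing.HasLBaseChange (Ideal.Quotient.mk J)]
    [DRing.HasLBaseChange (Ideal.Quotient.mk (I * J))] (K : Dual.D R)
    (hI : DRing.IsPerfect (R ⧸ I) ((DRing.LBaseChange (Ideal.Quotient.mk I)).obj K))
    (hJ : DRing.IsPerfect (R ⧸ J) ((DRing.LBaseChange (Ideal.Quotient.mk J)).obj K)) :
    DRing.IsPerfect (R ⧸ (I * J)) ((DRing.LBaseChange (Ideal.Quotient.mk (I * J))).obj K) := by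
  have hIJ₁ : I * J ≤ I := Ideal.mul_le_left
  have hIJ₂ : I * J ≤ J := Ideal.mul_le_right
  have hs₁ : Function.Surjective (Ideal.Quotient.factor hIJ₁) := Ideal.Quotient.factor_surjective _
  have hs₂ : Function.Surjective (Ideal.Quotient.factor hIJ₂) := Ideal.Quotient.factor_surjective _
  have hmul : RingHom.ker (Ideal.Quotient.factor hIJ₁) * RingHom.ker (Ideal.Quotient.factor hIJ₂)
      = ⊥ := by
    rw [Ideal.Quotient.factor_ker, Ideal.Quotient.factor_ker, ← Ideal.map_mul,
      Ideal.map_quotient_self]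
  have hc₁ : (Ideal.Quotient.factor hIJ₁).comp (Ideal.Quotient.mk (I * J)) = Ideal.Quotient.mk I :=
    Ideal.Quotient.factor_comp_mk _
  have hc₂ : (Ideal.Quotient.factor hIJ₂).comp (Ideal.Quotient.mk (I * J)) = Ideal.Quotient.mk J :=
    Ideal.Quotient.factor_comp_mk _
  obtain ⟨P, hPK, hPfl, ⟨e⟩⟩ := Groth.Agent.H35.LBC.exists_kflat_model K
  have hPAK := Groth.Agent.H35.KFlatBC.isKFlat_extCx (Ideal.Quotient.mk (I * J)) P hPK
  have hPAfl : DRing.TermwiseFlat ((Groth.Agent.H35.FlatBC.extCx (Ideal.Quotient.mk (I * J))).obj P) :=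
    fun i => haveI := hPfl i; Groth.Agent.H35.FlatBC.flat_ext (Ideal.Quotient.mk (I * J)) (P.X i)
  have e₁ : DRing.toD ((Groth.Agent.H35.FlatBC.extCx (Ideal.Quotient.factor hIJ₁)).obj
      ((Groth.Agent.H35.FlatBC.extCx (Ideal.Quotient.mk (I * J))).obj P)) ≅
      (DRing.LBaseChange (Ideal.Quotient.mk I)).obj K := by
    refine DerivedCategory.Q.mapIso (Groth.Agent.H35.LBC.extCxCompIso (Ideal.Quotient.mk (I * J))
      (Ideal.Quotient.factor hIJ₁) P) ≪≫ ?_
    rw [hc₁]
    exact Groth.Agent.H53.LBaseChange.objIso' (Ideal.Quotient.mk I) P hPK e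
  have e₂ : DRing.toD ((Groth.Agent.H35.FlatBC.extCx (Ideal.Quotient.factor hIJ₂)).obj
      ((Groth.Agent.H35.FlatBC.extCx (Ideal.Quotient.mk (I * J))).obj P)) ≅
      (DRing.LBaseChange (Ideal.Quotient.mk J)).obj K := by
    refine DerivedCategory.Q.mapIso (Groth.Agent.H35.LBC.extCxCompIso (Ideal.Quotient.mk (I * J))
      (Ideal.Quotient.factor hIJ₂) P) ≪≫ ?_
    rw [hc₂]
    exact Groth.Agent.H53.LBaseChange.objIso' (Ideal.Quotient.mk J) P hPK e
  have hperf := Groth.Agent.H35.PairDescent.isPerfect_of_pair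
    (Groth.Agent.H35.PairDescent.finDetect_of_ker_mul hs₁ hs₂ hmul)
    (Groth.Agent.H35.PairDescent.torDetect_of_ker_mul hs₁ hs₂ hmul) _ hPAK hPAfl
    (Groth.Agent.H56.isPerfect_of_iso e₁.symm hI) (Groth.Agent.H56.isPerfect_of_iso e₂.symm hJ)
  exact Groth.Agent.H56.isPerfect_of_iso
    (Groth.Agent.H53.LBaseChange.objIso' (Ideal.Quotient.mk (I * J)) P hPK e) hperf

end Groth.Agent.S6980
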