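import Groth.Statements.S6985
import Groth.Agent.H56.FlatPc
-- import your own Groth.Agent.* helpers here

set_option autoImplicit false
universe u
open CategoryTheory CategoryTheory.Limits
attribute [local instance] HasDerivedCategory.standard
open DerCA

namespace Groth.Agent.S6985

/-- Let R be a commutative ring and A → B a homomorphism of finite type R-algebras such that A, as an
A-module, is pseudo-coherent relative to R. Let K be an object of D(B) and m an integer. Then K is
m-pseudo-coherent relative to A if and only if K is m-pseudo-coherent relative to R; and K is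
pseudo-coherent relative to A if and only if it is pseudo-coherent relative to R. -/
theorem result {R A B : Type u} [CommRing R] [CommRing A]
    [CommRing B] [Algebra R A] [Algebra A B] [Algebra R B] [IsScalarTower R A B] [Algebra.FiniteType R A]
    [Algebra.FiniteType R B] [Algebra.FiniteType A B] (hA : DerCA.IsRelPseudoCoherentModuleAll R A A)
    (K : Dual.D B) (m : ℤ) :
    (DerCA.IsRelPseudoCoherent A B m K ↔ DerCA.IsRelPseudoCoherent R B m K) ∧
      (DerCA.IsRelPseudoCoherentAll A B K ↔ DerCA.IsRelPseudoCoherentAll R B K) := by
  have key : ∀ m : ℤ, (DerCA.IsRelPseudoCoherent A B m K ↔ DerCA.IsRelPseudoCoherent R B m K) := by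
    intro m
    obtain ⟨n, α, hα⟩ := Algebra.FiniteType.iff_quotient_mvPolynomial''.1
      (inferInstance : Algebra.FiniteType R A)
    obtain ⟨k, β₀, hβ₀⟩ := Algebra.FiniteType.iff_quotient_mvPolynomial''.1
      (inferInstance : Algebra.FiniteType A B)
    have hα' : Groth.Agent.H56.PcHom (α : MvPolynomial (Fin n) R →+* A) := by
      intro m'
      have h := (Groth.Agent.H56.isRelPseudoCoherent_iff_via α hα m' (Dual.inD A A)).1 (hA m')
      exact Groth.Agent.H56.isPseudoCoherent_of_iso
        (((ModuleCat.restrictScalars.{u}
          (α : MvPolynomial (Fin n) R →+* A)).mapDerivedCategorySingleFunctor 0).app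
          (ModuleCat.of A A)) m' h
    have hμ := Groth.Agent.H56.FlatPc.pcHom_mvPolynomial_map
      (α : MvPolynomial (Fin n) R →+* A) hα' k
    let δ : MvPolynomial (Fin k) (MvPolynomial (Fin n) R) →+* B :=
      (β₀ : MvPolynomial (Fin k) A →+* B).comp
        (MvPolynomial.map (α : MvPolynomial (Fin n) R →+* A))
    have hδ : Function.Surjective δ :=
      hβ₀.comp (MvPolynomial.map_surjective (α : MvPolynomial (Fin n) R →+* A) hα)
    have hC : ∀ r, δ (MvPolynomial.C (MvPolynomial.C r)) = algebraMap R B r := by
      intro r
      have h1 : α (MvPolynomial.C r) = algebraMap R A r := MvPolynomial.algHom_C α r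
      have h2 : δ (MvPolynomial.C (MvPolynomial.C r)) =
          β₀ (MvPolynomial.C (α (MvPolynomial.C r))) := by
        simp [δ]
      have h3 : β₀ (MvPolynomial.C (algebraMap R A r)) = algebraMap A B (algebraMap R A r) :=
        MvPolynomial.algHom_C β₀ _
      rw [h2, h1, h3, ← IsScalarTower.algebraMap_apply]
    rw [Groth.Agent.H56.isRelPseudoCoherent_iff_of_surjective δ hδ hC K m,
      Groth.Agent.H56.isRelPseudoCoherent_iff_via β₀ hβ₀ m K]
    exact (hμ.transfer (β₀ : MvPolynomial (Fin k) A →+* B) K m).symm
  exact ⟨key m, ⟨fun h m' => (key m').1 (h m'), fun h m' => (key m').2 (h m')⟩⟩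

end Groth.Agent.S6985
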