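import Groth.Statements.S6986
import Groth.Agent.H35.RelPCTensor
import Groth.Agent.H35.TorIndTower
import Groth.Agent.H56.PcMor2
import Groth.Agent.H56.LocChain
import Groth.Prelude.Def_DTen6

set_option autoImplicit false
set_option linter.style.haveILetI false
universe u
open CategoryTheory CategoryTheory.Limits
attribute [local instance] HasDerivedCategory.standard
open DerCA

namespace Groth.Agent.S6986

open DRing DerivedCategory Groth.Agent.H56

attribute [local instance] MvPolynomial.algebraMvPolynomial

section Aux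

lemma subsingleton_tor_of_projective {R : Type u} [CommRing R] (M N : Type u) [AddCommGroup M]
    [Module R M] [AddCommGroup N] [Module R N] [Module.Projective R N] (p : ℕ) (hp : 1 ≤ p) :
    Subsingleton (DRing.Tor R p M N) := by
  haveI : Projective (ModuleCat.of R N) :=
    (IsProjective.iff_projective (R := R) _).1 inferInstance
  obtain ⟨j, rfl⟩ : ∃ j, p = j + 1 := ⟨p - 1, by omega⟩
  exact ModuleCat.subsingleton_of_isZero
    (Functor.isZero_leftDerived_obj_projective_succ _ j _)

end Aux

section Key

variable {R A B : Type u} [CommRing R] [CommRing A] [CommRing B] [Algebra R A] [Algebra A B]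
  [Algebra R B] [IsScalarTower R A B]

theorem key (hB : DerCA.IsRelPseudoCoherentModuleAll A B B)
    [DRing.HasLBaseChange (algebraMap A B)] (K : Dual.D A) (m : ℤ)
    (h : DerCA.IsRelPseudoCoherent R A m K) :
    DerCA.IsRelPseudoCoherent R B m ((DRing.LBaseChange (algebraMap A B)).obj K) := by
  obtain ⟨n, α, hα, hKα⟩ := h
  -- the presentation of `B` over `A`
  have hQ : PcMor.Q (algebraMap A B) :=
    (PcMor.q_iff_rel (Dual.inD B B) (Iso.refl _)).2 hB
  obtain ⟨k, δ, hδs, hδC, hδ⟩ := (PcMor.q_iff _).1 hQ
  -- algebra structures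
  letI iPA : Algebra (MvPolynomial (Fin n) R) A := α.toRingHom.toAlgebra
  haveI : IsScalarTower R (MvPolynomial (Fin n) R) A :=
    IsScalarTower.of_algebraMap_eq (fun r => (α.commutes r).symm)
  -- bound for `K`
  obtain ⟨b, hb⟩ := exists_isLE_of_isPseudoCoherent hKα
  have hKb : K.IsLE b :=
    (isLE_mapDerivedCategory_obj_iff (ModuleCat.restrictScalars.{u}
      (α : MvPolynomial (Fin n) R →+* A)) K b).1 hb
  obtain ⟨Kc, hKv, hKfree, ⟨eK⟩⟩ := Groth.Agent.H35.TorAmp.exists_free_model_of_isLE K b
  have hKfl : TermwiseFlat Kc := Groth.Agent.H35.TorAmp.free_flat Kc hKfree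
  have hKK : DRing.IsKFlat A Kc := Groth.Agent.H31.KFlatRing.isKFlat_of_bounded_above_flat Kc b hKv hKfl
  -- the intermediate rings
  haveI iLB : DRing.HasLBaseChange (algebraMap A (MvPolynomial (Fin k) A)) :=
    Groth.Agent.H35.HasLBC.hasLBaseChange _
  have h1 : IsPseudoCoherent (MvPolynomial (Fin k) (MvPolynomial (Fin n) R)) m
      ((restrictD (algebraMap (MvPolynomial (Fin k) (MvPolynomial (Fin n) R))
        (MvPolynomial (Fin k) A))).obj
        ((DRing.LBaseChange (algebraMap A (MvPolynomial (Fin k) A))).obj K)) := by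
    exact Groth.Agent.H35.TorIndTower.isPseudoCoherent_restrict_LBaseChange R
      (MvPolynomial (Fin n) R) A (MvPolynomial (Fin k) R)
      (MvPolynomial (Fin k) (MvPolynomial (Fin n) R)) (MvPolynomial (Fin k) A)
      (fun p hp => subsingleton_tor_of_projective A (MvPolynomial (Fin k) R) p hp) K m hKα
  -- the complex `Lc = Kc ⊗_A A[y]`
  have hLfl : TermwiseFlat ((Groth.Agent.H35.FlatBC.extCx (algebraMap A (MvPolynomial (Fin k) A))).obj
      Kc) := fun i => by
    haveI := hKfl i
    exact Groth.Agent.H35.FlatBC.flat_ext (algebraMap A (MvPolynomial (Fin k) A)) (Kc.X i)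
  have hLv : VanishesAbove ((Groth.Agent.H35.FlatBC.extCx
      (algebraMap A (MvPolynomial (Fin k) A))).obj Kc) b :=
    Groth.Agent.H35.FlatBC.vanishesAbove_ext _ Kc b hKv
  have eL := Groth.Agent.H53.LBaseChange.objIso' (algebraMap A (MvPolynomial (Fin k) A)) Kc hKK eK
  have h2 := isPseudoCoherent_of_iso ((restrictD (algebraMap (MvPolynomial (Fin k)
    (MvPolynomial (Fin n) R)) (MvPolynomial (Fin k) A))).mapIso eL.symm) m h1
  have h3 := Groth.Agent.H35.RelPCTensor.isPseudoCoherent_restrict_ext
    (algebraMap (MvPolynomial (Fin k) (MvPolynomial (Fin n) R)) (MvPolynomial (Fin k) A))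
    _ δ hLfl b m hLv h2 hδ
  -- identify with the base change to `B`
  have hcomp : δ.comp (algebraMap A (MvPolynomial (Fin k) A)) = algebraMap A B :=
    RingHom.ext (fun a => by
      rw [RingHom.comp_apply, MvPolynomial.algebraMap_eq, hδC])
  have e1 := (DTen.extCompCx (algebraMap A (MvPolynomial (Fin k) A)) δ).app Kc
  rw [hcomp] at e1
  have e2 := Groth.Agent.H53.LBaseChange.objIso' (algebraMap A B) Kc hKK eK
  have h4 := isPseudoCoherent_of_iso ((restrictD (algebraMap (MvPolynomial (Fin k)
    (MvPolynomial (Fin n) R)) (MvPolynomial (Fin k) A))).mapIso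
      ((restrictD δ).mapIso (Q.mapIso e1 ≪≫ e2))) m h3
  obtain ⟨e5⟩ := nonempty_restrictD_comp_iso (algebraMap (MvPolynomial (Fin k)
    (MvPolynomial (Fin n) R)) (MvPolynomial (Fin k) A)) δ
      ((DRing.LBaseChange (algebraMap A B)).obj K)
  have h5 := isPseudoCoherent_of_iso e5.symm m h4
  have he : PcHom ((PcMor.iterEquiv R n k : MvPolynomial (Fin (k + n)) R ≃ₐ[R]
      MvPolynomial (Fin k) (MvPolynomial (Fin n) R)) : MvPolynomial (Fin (k + n)) R →+*
      MvPolynomial (Fin k) (MvPolynomial (Fin n) R)) :=
    pcHom_of_bijective _ (PcMor.iterEquiv R n k).bijective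
  have h6 := (he.transfer (δ.comp (algebraMap (MvPolynomial (Fin k)
    (MvPolynomial (Fin n) R)) (MvPolynomial (Fin k) A)))
      ((DRing.LBaseChange (algebraMap A B)).obj K) m).2 h5
  refine (FlatPc.isRelPseudoCoherent_iff_of_ringHom _ ?_ ?_ _ m).2 h6
  · refine (hδs.comp ?_).comp (PcMor.iterEquiv R n k).surjective
    exact MvPolynomial.map_surjective _ hα
  · intro r
    show δ (MvPolynomial.map (algebraMap (MvPolynomial (Fin n) R) A)
      (PcMor.iterEquiv R n k (MvPolynomial.C r))) = algebraMap R B r
    rw [PcMor.iterEquiv_C, MvPolynomial.map_C, hδC]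
    show algebraMap A B (α (MvPolynomial.C r)) = algebraMap R B r
    rw [MvPolynomial.algHom_C, ← IsScalarTower.algebraMap_apply]

end Key

/-- Let R → A → B be finite type homomorphisms of commutative rings such that B, as a B-module, is
pseudo-coherent relative to A, and assume the derived base change D(A) → D(B) exists. Let K be an
object of D(A) and m an integer. If K is m-pseudo-coherent relative to R, then K ⊗^L_A B is
m-pseudo-coherent relative to R; if K is pseudo-coherent relative to R, so is K ⊗^L_A B. -/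
theorem result {R A B : Type u} [CommRing R]
    [CommRing A] [CommRing B] [Algebra R A] [Algebra A B] [Algebra R B] [IsScalarTower R A B]
    [Algebra.FiniteType R A] [Algebra.FiniteType A B] (hB : DerCA.IsRelPseudoCoherentModuleAll A B B)
    [DRing.HasLBaseChange (algebraMap A B)] (K : Dual.D A) (m : ℤ) :
    (DerCA.IsRelPseudoCoherent R A m K →
      DerCA.IsRelPseudoCoherent R B m ((DRing.LBaseChange (algebraMap A B)).obj K)) ∧
      (DerCA.IsRelPseudoCoherentAll R A K →
        DerCA.IsRelPseudoCoherentAll R B ((DRing.LBaseChange (algebraMap A B)).obj K)) :=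
  ⟨key hB K m, fun h m' => key hB K m' (h m')⟩

end Groth.Agent.S6986
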