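import Groth.Statements.S6988
import Groth.Agent.H35.MPCoh2
import Groth.Agent.H12.FlatCx
import Groth.Agent.H56.PCohMore

set_option autoImplicit false
universe u
open CategoryTheory CategoryTheory.Limits
attribute [local instance] HasDerivedCategory.standard
open DRing

namespace Groth.Agent.S6988

/-- Let R be a commutative ring, K a pseudo-coherent object of D(R) and i an integer. Then some finitely
presented R-module M admits a morphism K → M[-i] in D(R) that is injective on H^i (here H^i(M[-i]) =
M). -/
theorem result (R : Type u) [CommRing R] (K : Dual.D R)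
    (hK : DRing.IsPseudoCoherent' R K) (i : ℤ) :
    ∃ (M : Type u) (_ : AddCommGroup M) (_ : Module R M) (_ : Module.FinitePresentation R M)
      (f : K ⟶ (shiftFunctor (Dual.D R) (-i)).obj (Dual.inD R M)),
      Mono ((DerivedCategory.homologyFunctor (ModuleCat.{u} R) i).map f) := by
  obtain ⟨F, c, hF, hfree, hfin, ⟨eF⟩⟩ := Groth.Agent.H35.MPCoh.isPseudoCoherent_iff.1
    (Groth.Agent.H56.isPseudoCoherent'_iff_forall.1 hK (i - 1))
  have hfp : Module.FinitePresentation R (F.opcycles i) := by
    have h1 : Module.Finite R (F.X (i - 1)) := hfin (i - 1) le_rfl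
    have h2 : Module.Finite R (F.X i) := hfin i (by omega)
    have h3 : Module.Free R (F.X i) := hfree i
    have hfp0 : Module.FinitePresentation R (F.X i) := Module.finitePresentation_of_projective R _
    have hker : (LinearMap.ker (LinearMap.range (F.d (i - 1) i).hom).mkQ).FG := by
      rw [Submodule.ker_mkQ, LinearMap.range_eq_map]
      exact (Module.Finite.fg_top (R := R) (M := F.X (i - 1))).map (F.d (i - 1) i).hom
    have hfp' : Module.FinitePresentation R (Groth.Agent.H12.FlatCx.Wq F (i - 1) i) :=
      Module.finitePresentation_of_surjective (LinearMap.range (F.d (i - 1) i).hom).mkQ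
        (Submodule.mkQ_surjective _) hker
    exact Module.FinitePresentation.of_equiv
      (Groth.Agent.H12.FlatCx.opcyclesEquiv F (i - 1) i (by simp)).symm
  let L : DRing.Cx R :=
    (HomologicalComplex.single (ModuleCat.{u} R) (ComplexShape.up ℤ) i).obj (F.opcycles i)
  let g : F ⟶ L := HomologicalComplex.mkHomToSingle (F.pOpcycles i) (fun j _ => F.d_pOpcycles j i)
  have hg : g.f i = F.pOpcycles i ≫
      (HomologicalComplex.singleObjXSelf (ComplexShape.up ℤ) i (F.opcycles i)).inv :=
    HomologicalComplex.mkHomToSingle_f _ _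
  have hLd : L.d (i - 1) i = 0 := HomologicalComplex.single_obj_d _ _ _ _ _
  have hLp : IsIso (L.pOpcycles i) := L.isIso_pOpcycles (i - 1) i (by simp) hLd
  have hop : HomologicalComplex.opcyclesMap g i =
      (HomologicalComplex.singleObjXSelf (ComplexShape.up ℤ) i (F.opcycles i)).inv ≫
        L.pOpcycles i := by
    rw [← cancel_epi (F.pOpcycles i), HomologicalComplex.p_opcyclesMap, hg, Category.assoc]
  have hopiso : IsIso (HomologicalComplex.opcyclesMap g i) := by
    rw [hop]
    infer_instance
  have hmono1 : Mono (HomologicalComplex.homologyMap g i) := by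
    have : Mono (HomologicalComplex.homologyMap g i ≫ L.homologyι i) := by
      rw [HomologicalComplex.homologyι_naturality]
      infer_instance
    exact mono_of_mono _ (L.homologyι i)
  have hmono2 : Mono ((DerivedCategory.homologyFunctor (ModuleCat.{u} R) i).map
      (DerivedCategory.Q.map g)) := by
    have h := (NatIso.naturality_2 (DerivedCategory.homologyFunctorFactors (ModuleCat.{u} R) i)
      g).symm
    have h' : (DerivedCategory.homologyFunctor (ModuleCat.{u} R) i).map
        (DerivedCategory.Q.map g) =
        (DerivedCategory.homologyFunctorFactors (ModuleCat.{u} R) i).hom.app F ≫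
          HomologicalComplex.homologyMap g i ≫
          (DerivedCategory.homologyFunctorFactors (ModuleCat.{u} R) i).inv.app L := h
    rw [h']
    have h1 : Mono ((DerivedCategory.homologyFunctorFactors (ModuleCat.{u} R) i).hom.app F) :=
      @IsIso.mono_of_iso _ _ _ _ _ (NatIso.hom_app_isIso _ _)
    have h2 : Mono ((DerivedCategory.homologyFunctorFactors (ModuleCat.{u} R) i).inv.app L) :=
      @IsIso.mono_of_iso _ _ _ _ _ (NatIso.inv_app_isIso _ _)
    exact @mono_comp _ _ _ _ _ _ h1 _ (@mono_comp _ _ _ _ _ _ hmono1 _ h2)
  let e2 := ((DerivedCategory.singleFunctors (ModuleCat.{u} R)).shiftIso (-i) i 0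
    (by omega)).app (F.opcycles i)
  let f : K ⟶ (shiftFunctor (Dual.D R) (-i)).obj (Dual.inD R (F.opcycles i)) :=
    eF.inv ≫ DerivedCategory.Q.map g ≫ (Groth.Agent.H35.MPCoh.sIso i (F.opcycles i)).inv ≫ e2.inv
  refine ⟨(F.opcycles i : Type u), inferInstance, inferInstance, hfp, f, ?_⟩
  show Mono ((DerivedCategory.homologyFunctor (ModuleCat.{u} R) i).map
    (eF.inv ≫ DerivedCategory.Q.map g ≫ (Groth.Agent.H35.MPCoh.sIso i (F.opcycles i)).inv ≫
      e2.inv))
  rw [Functor.map_comp, Functor.map_comp, Functor.map_comp]
  infer_instance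

end Groth.Agent.S6988
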