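import Groth.Statements.S6989
import Groth.Agent.S6988
import Groth.Agent.S6942
import Groth.Agent.H56.PCohMore

set_option autoImplicit false
universe u
open CategoryTheory CategoryTheory.Limits
attribute [local instance] HasDerivedCategory.standard
open DRing

namespace Groth.Agent.S6989

/-- Let A be a Noetherian commutative ring, K an object of D(A) whose cohomology vanishes in large
degrees and whose cohomology modules are all finitely generated, m a maximal ideal of A and i an
integer such that m H^i(K) ≠ H^i(K). Then some finitely generated A-module E killed by a power of m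
receives a morphism K → E[-i] in D(A) whose induced map H^i(K) → H^i(E[-i]) is nonzero. -/
theorem result (A : Type u) [CommRing A]
    [IsNoetherianRing A] (K : Dual.D A) (hb : ∃ b : ℤ, ∀ j : ℤ, b < j → Subsingleton (Dual.HD A K j))
    (hfin : ∀ j : ℤ, Module.Finite A (Dual.HD A K j)) (m : Ideal A) [m.IsMaximal] (i : ℤ)
    (hi : m • (⊤ : Submodule A (Dual.HD A K i)) ≠ ⊤) :
    ∃ (E : Type u) (_ : AddCommGroup E) (_ : Module A E) (_ : Module.Finite A E) (n : ℕ)
      (_ : m ^ n • (⊤ : Submodule A E) = ⊥) (f : K ⟶ (shiftFunctor (Dual.D A) (-i)).obj (Dual.inD A E)),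
      (DerivedCategory.homologyFunctor (ModuleCat.{u} A) i).map f ≠ 0 := by
  have hpc : DRing.IsPseudoCoherent' A K := by
    rw [Groth.Agent.H56.isPseudoCoherent'_iff_forall]
    intro m'
    exact ((Groth.Agent.S6942.result A m' K PUnit).1).2 ⟨hb, fun j _ => hfin j⟩
  obtain ⟨M, _, _, hMfp, g, hg⟩ := Groth.Agent.S6988.result A K hpc i
  let θ : (DerivedCategory.singleFunctor (ModuleCat.{u} A) 0 ⋙ shiftFunctor (Dual.D A) (-i)) ⋙
      DerivedCategory.homologyFunctor (ModuleCat.{u} A) i ≅ 𝟭 _ :=
    Functor.isoWhiskerRight ((DerivedCategory.singleFunctors (ModuleCat.{u} A)).shiftIso (-i) i 0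
      (by omega)) (DerivedCategory.homologyFunctor (ModuleCat.{u} A) i) ≪≫
      DerivedCategory.singleFunctorCompHomologyFunctorIso (ModuleCat.{u} A) i
  let ι : (DerivedCategory.homologyFunctor (ModuleCat.{u} A) i).obj K ⟶ ModuleCat.of A M :=
    (DerivedCategory.homologyFunctor (ModuleCat.{u} A) i).map g ≫ θ.hom.app (ModuleCat.of A M)
  have hι : Function.Injective ι.hom := by
    have h1 : Mono (θ.hom.app (ModuleCat.of A M)) :=
      @IsIso.mono_of_iso _ _ _ _ _ (NatIso.hom_app_isIso _ _)
    have h2 : Mono ι := @mono_comp _ _ _ _ _ _ hg _ h1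
    exact (ModuleCat.mono_iff_injective ι).1 h2
  haveI : Module.Finite A M := inferInstance
  let N : Submodule A M := LinearMap.range ι.hom
  obtain ⟨k, hk⟩ := Ideal.exists_pow_inf_eq_pow_smul m N
  have hAR : m ^ (k + 1) • (⊤ : Submodule A M) ⊓ N ≤ m • N := by
    rw [hk (k + 1) (by omega), Nat.add_sub_cancel_left, pow_one]
    exact Submodule.smul_mono le_rfl inf_le_right
  have hx : ∃ x : Dual.HD A K i, ι.hom x ∉ m ^ (k + 1) • (⊤ : Submodule A M) := by
    by_contra hcon
    push Not at hcon
    apply hi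
    rw [eq_top_iff]
    intro x _
    have h1 : ι.hom x ∈ m • N := hAR ⟨hcon x, LinearMap.mem_range_self _ x⟩
    have h2 : m • N = Submodule.map ι.hom (m • ⊤) := by
      rw [Submodule.map_smul'', Submodule.map_top]
    rw [h2] at h1
    obtain ⟨y, hy, hxy⟩ := h1
    rw [← hι hxy]
    exact hy
  obtain ⟨x, hx⟩ := hx
  let W : Submodule A M := m ^ (k + 1) • ⊤
  let q : ModuleCat.of A M ⟶ ModuleCat.of A (M ⧸ W) := ModuleCat.ofHom W.mkQ
  let f : K ⟶ (shiftFunctor (Dual.D A) (-i)).obj (Dual.inD A (M ⧸ W)) :=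
    g ≫ (shiftFunctor (Dual.D A) (-i)).map
      ((DerivedCategory.singleFunctor (ModuleCat.{u} A) 0).map q)
  refine ⟨M ⧸ W, inferInstance, inferInstance, inferInstance, k + 1, ?_, f, ?_⟩
  · have h1 : (⊤ : Submodule A (M ⧸ W)) = Submodule.map W.mkQ ⊤ := by
      rw [Submodule.map_top, Submodule.range_mkQ]
    rw [eq_bot_iff, h1, ← Submodule.map_smul'', Submodule.map_le_iff_le_comap,
      Submodule.comap_bot, Submodule.ker_mkQ]
  · intro h0
    have nat := θ.hom.naturality q
    have nat' : θ.hom.app (ModuleCat.of A M) ≫ q =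
        (DerivedCategory.homologyFunctor (ModuleCat.{u} A) i).map
          ((shiftFunctor (Dual.D A) (-i)).map
            ((DerivedCategory.singleFunctor (ModuleCat.{u} A) 0).map q)) ≫
          θ.hom.app (ModuleCat.of A (M ⧸ W)) := nat.symm
    have h1 : ι ≫ q = 0 := by
      show ((DerivedCategory.homologyFunctor (ModuleCat.{u} A) i).map g ≫
        θ.hom.app (ModuleCat.of A M)) ≫ q = 0
      rw [Category.assoc, nat', ← Category.assoc, ← Functor.map_comp]
      show (DerivedCategory.homologyFunctor (ModuleCat.{u} A) i).map f ≫ _ = 0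
      rw [h0, zero_comp]
    apply hx
    have h3 : (ι ≫ q).hom x = 0 := by
      rw [h1]
      rfl
    exact (Submodule.Quotient.mk_eq_zero W).1 h3

end Groth.Agent.S6989
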