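import Groth.Statements.S6990
import Groth.Agent.H56.StupidInd
import Groth.Agent.H56.InjAmp
import Mathlib.Algebra.Category.ModuleCat.Projective
-- import your own Groth.Agent.* helpers here

set_option autoImplicit false
universe u
open CategoryTheory CategoryTheory.Limits
attribute [local instance] HasDerivedCategory.standard
open DRing

namespace Groth.Agent.S6990

open CategoryTheory.Pretriangulated in
/-- Let R be a commutative ring, a, b integers, L an object of D(R) isomorphic to a complex of
projective R-modules vanishing outside [a, b], and K an object of D(R). (1) If H^i(K) = 0 for all i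
≥ a, then every morphism L → K in D(R) is zero. (2) If H^i(K) = 0 for all i ≥ a + 1, then for every
distinguished triangle K → M → L → K[1] there is an isomorphism M ≅ K ⊕ L carrying K → M to the
first inclusion and whose composite with the second projection is M → L. -/
theorem result (R : Type u) [CommRing R] (a b : ℤ)
    (L : Dual.D R) (hL : ∃ P : DRing.Cx R, DRing.VanishesOutside P a b ∧ (∀ i : ℤ, Module.Projective R (P.X i)) ∧
      Nonempty (DRing.toD P ≅ L)) (K : Dual.D R) :
    ((∀ i : ℤ, a ≤ i → Subsingleton (Dual.HD R K i)) → Subsingleton (L ⟶ K)) ∧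
      ((∀ i : ℤ, a + 1 ≤ i → Subsingleton (Dual.HD R K i)) → ∀ (T : Triangle (Dual.D R)), T ∈ distinguishedTriangles →
        T.obj₁ = K → T.obj₃ = L → ∀ [HasBinaryBiproduct T.obj₁ T.obj₃],
          ∃ e : T.obj₂ ≅ T.obj₁ ⊞ T.obj₃, T.mor₁ ≫ e.hom = biprod.inl ∧ e.hom ≫ biprod.snd = T.mor₂) := by
  obtain ⟨P, hP, hproj, ⟨eL⟩⟩ := hL
  have claim : ∀ (K' : Dual.D R), K'.IsLE (a - 1) → ∀ f : L ⟶ K', f = 0 := by
    intro K' hK' f
    let Pr : ObjectProperty (Dual.D R) := fun X => ∀ g : X ⟶ K', g = 0
    haveI : Pr.IsClosedUnderIsomorphisms := ⟨fun {X Y} e h g => by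
      have := h (e.hom ≫ g)
      rw [← cancel_epi e.hom, this, Limits.comp_zero]⟩
    have key : Pr (DerivedCategory.Q.obj P) := by
      refine Groth.Agent.H56.prop_Q_obj_of_bounded Pr ?hzero ?hext (b - a + 1).toNat P a b
        (by omega) hP ?hterm
      case hzero =>
        intro Z hZ g
        exact hZ.eq_of_src _ _
      case hext =>
        intro T hT h1 h3 g
        obtain ⟨g', hg'⟩ := Pretriangulated.Triangle.yoneda_exact₂ T hT g (h1 _)
        rw [hg', h3 g', Limits.comp_zero]
      case hterm =>
        intro i g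
        by_cases hi : i < a ∨ b < i
        · exact ((DerivedCategory.singleFunctor _ i).map_isZero (hP i hi)).eq_of_src _ _
        · haveI : Projective (P.X i) := (IsProjective.iff_projective _).mp (hproj i)
          haveI : (K'⟦i⟧).IsLE (a - 1 - i) :=
            DerivedCategory.TStructure.t.isLE_shift K' (a - 1) i (a - 1 - i) (by omega)
          exact (Groth.Agent.H56.single_hom_shift_vanishing_iff (P.X i) K' i).1
            (fun φ => Groth.Agent.H56.hom_single_projective_eq_zero (P.X i) (K'⟦i⟧) (a - 1 - i)
              (by omega) φ) g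
    have := key (eL.hom ≫ f)
    rw [← cancel_epi eL.hom, this, Limits.comp_zero]
  have hLE : ∀ (c : ℤ), (∀ i : ℤ, c ≤ i → Subsingleton (Dual.HD R K i)) → K.IsLE (c - 1) := by
    intro c hc
    rw [DerivedCategory.isLE_iff]
    intro i hi
    have := hc i (by omega)
    exact ModuleCat.isZero_of_subsingleton _
  constructor
  · intro hK
    have h1 := hLE a hK
    exact ⟨fun f g => by rw [claim K h1 f, claim K h1 g]⟩
  · intro hK T hT h1 h3 inst
    subst h1 h3
    have h1 := hLE (a + 1) hK
    have h2 : (T.obj₁⟦(1 : ℤ)⟧).IsLE (a - 1) :=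
      DerivedCategory.TStructure.t.isLE_shift T.obj₁ (a + 1 - 1) 1 (a - 1) (by omega)
    obtain ⟨e, he1, he2⟩ := Pretriangulated.exists_iso_binaryBiproduct_of_distTriang T hT
      (claim _ h2 T.mor₃)
    exact ⟨e, he1, he2.symm⟩

end Groth.Agent.S6990
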