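import Groth.Statements.S6991
import Mathlib

set_option autoImplicit false
universe u
open CAlg

namespace Groth.Agent.S6991

open Function in
theorem fp_descend' {B B' : Type u} [CommRing B] [CommRing B'] (g : B →+* B')
    (hg : Surjective g) (M : Type u) [AddCommGroup M] [Module B' M] [Module B M]
    (hc : ∀ (b : B) (m : M), b • m = g b • m)
    [Module.FinitePresentation B M] : Module.FinitePresentation B' M := by
  letI : Algebra B B' := g.toAlgebra
  haveI : IsScalarTower B B' M := ⟨fun b b' m => by
    rw [hc, Algebra.smul_def, mul_smul]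
    rfl⟩
  haveI : Algebra.IsEpi B B' := Algebra.isEpi_of_surjective_algebraMap _ _ hg
  exact Module.FinitePresentation.of_equiv (TensorProduct.lid' B B' M)

open Function in
theorem fp_ascend' {B B' : Type u} [CommRing B] [CommRing B'] (g : B →+* B')
    (hg : Surjective g) (hker : (RingHom.ker g).FG) (M : Type u) [AddCommGroup M] [Module B' M]
    [Module B M] (hc : ∀ (b : B) (m : M), b • m = g b • m)
    [Module.FinitePresentation B' M] : Module.FinitePresentation B M := by
  letI : Algebra B B' := g.toAlgebra
  haveI : IsScalarTower B B' M := ⟨fun b b' m => by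
    rw [hc, Algebra.smul_def, mul_smul]
    rfl⟩
  haveI : Module.FinitePresentation B B' := by
    refine Module.finitePresentation_of_surjective (Algebra.linearMap B B') hg ?_
    have : LinearMap.ker (Algebra.linearMap B B') = RingHom.ker g := by
      ext x
      rw [LinearMap.mem_ker, RingHom.mem_ker]
      rfl
    rw [this]
    exact hker
  exact Module.FinitePresentation.trans B M B'

open Function in
theorem fp_transfer {R A : Type u} [CommRing R] [CommRing A] [Algebra R A] (M : Type u)
    [AddCommGroup M] [Module A M] {n k : ℕ}
    (α : MvPolynomial (Fin n) R →ₐ[R] A) (hα : Surjective α)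
    (β : MvPolynomial (Fin k) R →ₐ[R] A) (hβ : Surjective β)
    (h : @Module.FinitePresentation (MvPolynomial (Fin n) R) M _ _
      (Module.compHom M α.toRingHom)) :
    @Module.FinitePresentation (MvPolynomial (Fin k) R) M _ _
      (Module.compHom M β.toRingHom) := by
  classical
  choose f hf using fun j : Fin k => hα (β (MvPolynomial.X j))
  choose g hg using fun i : Fin n => hβ (α (MvPolynomial.X i))
  let γ : MvPolynomial (Fin n ⊕ Fin k) R →ₐ[R] A :=
    MvPolynomial.aeval (Sum.elim (fun i => α (MvPolynomial.X i)) (fun j => β (MvPolynomial.X j)))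
  let π₁ : MvPolynomial (Fin n ⊕ Fin k) R →ₐ[R] MvPolynomial (Fin n) R :=
    MvPolynomial.aeval (Sum.elim MvPolynomial.X f)
  let π₂ : MvPolynomial (Fin n ⊕ Fin k) R →ₐ[R] MvPolynomial (Fin k) R :=
    MvPolynomial.aeval (Sum.elim g MvPolynomial.X)
  have h1 : α.comp π₁ = γ := by
    apply MvPolynomial.algHom_ext
    rintro (i | j) <;> simp [π₁, γ, hf]
  have h2 : β.comp π₂ = γ := by
    apply MvPolynomial.algHom_ext
    rintro (i | j) <;> simp [π₂, γ, hg]
  have hs1 : Surjective π₁ := fun p => ⟨MvPolynomial.rename Sum.inl p, by
    have : π₁.comp (MvPolynomial.rename Sum.inl) = AlgHom.id R _ := by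
      apply MvPolynomial.algHom_ext
      intro i
      simp [π₁]
    exact DFunLike.congr_fun this p⟩
  have hs2 : Surjective π₂ := fun p => ⟨MvPolynomial.rename Sum.inr p, by
    have : π₂.comp (MvPolynomial.rename Sum.inr) = AlgHom.id R _ := by
      apply MvPolynomial.algHom_ext
      intro i
      simp [π₂]
    exact DFunLike.congr_fun this p⟩
  have hk1 : (RingHom.ker π₁.toRingHom).FG :=
    Algebra.FinitePresentation.ker_fG_of_surjective π₁ hs1
  letI mA : Module (MvPolynomial (Fin n) R) M := Module.compHom M α.toRingHom
  letI mB : Module (MvPolynomial (Fin k) R) M := Module.compHom M β.toRingHom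
  letI mQ : Module (MvPolynomial (Fin n ⊕ Fin k) R) M := Module.compHom M γ.toRingHom
  haveI : Module.FinitePresentation (MvPolynomial (Fin n) R) M := h
  haveI : Module.FinitePresentation (MvPolynomial (Fin n ⊕ Fin k) R) M :=
    fp_ascend' π₁.toRingHom hs1 hk1 M (fun q m => by
      show γ q • m = α (π₁ q) • m
      rw [← h1]
      rfl)
  exact fp_descend' π₂.toRingHom hs2 M (fun q m => by
    show γ q • m = β (π₂ q) • m
    rw [← h2]
    rfl)

/-- Let R → A be a finite type homomorphism of commutative rings, M an A-module, and α : R[x_1, ...,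
x_n] → A, β : R[y_1, ..., y_k] → A surjective R-algebra homomorphisms. Then M is finitely presented
as an R[x_1, ..., x_n]-module through α if and only if M is finitely presented as an R[y_1, ...,
y_k]-module through β. If this holds, M is a finitely presented A-module. -/
theorem result {R A : Type u} [CommRing R] [CommRing A] [Algebra R A]
    [Algebra.FiniteType R A] (M : Type u) [AddCommGroup M] [Module A M] {n k : ℕ}
    (α : MvPolynomial (Fin n) R →ₐ[R] A) (hα : Function.Surjective α)
    (β : MvPolynomial (Fin k) R →ₐ[R] A) (hβ : Function.Surjective β) :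
    (@Module.FinitePresentation (MvPolynomial (Fin n) R) M _ _ (Module.compHom M α.toRingHom) ↔
      @Module.FinitePresentation (MvPolynomial (Fin k) R) M _ _ (Module.compHom M β.toRingHom)) ∧
      (@Module.FinitePresentation (MvPolynomial (Fin n) R) M _ _ (Module.compHom M α.toRingHom) →
        Module.FinitePresentation A M) := by
  refine ⟨⟨fp_transfer M α hα β hβ, fp_transfer M β hβ α hα⟩, fun h => ?_⟩
  letI mA : Module (MvPolynomial (Fin n) R) M := Module.compHom M α.toRingHom
  haveI : Module.FinitePresentation (MvPolynomial (Fin n) R) M := h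
  exact fp_descend' α.toRingHom hα M (fun q m => rfl)

end Groth.Agent.S6991
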