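import Groth.Statements.S6992
import Groth.Agent.S6991
import Mathlib

set_option autoImplicit false
universe u
open CAlg

namespace Groth.Agent.S6992

open Function in
/-- If `B'` is a finite `B`-algebra and the `B'`-module `M` is finitely presented over `B`, then it
is finitely presented over `B'`. -/
theorem fp_of_finite {B B' : Type u} [CommRing B] [CommRing B'] [Algebra B B']
    [Module.Finite B B'] (M : Type u) [AddCommGroup M] [Module B M] [Module B' M]
    [IsScalarTower B B' M] [Module.FinitePresentation B M] : Module.FinitePresentation B' M := by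
  haveI : Module.Finite B' M := Module.Finite.of_restrictScalars_finite B B' M
  obtain ⟨m, l, hl⟩ := Module.Finite.exists_fin' B' M
  refine Module.finitePresentation_of_free_of_surjective l hl ?_
  apply Submodule.FG.of_restrictScalars B
  rw [← LinearMap.ker_restrictScalars]
  exact Module.FinitePresentation.fg_ker (l.restrictScalars B) hl

open Function in
/-- Transfer of relative finite presentation between two finitely presented `R`-algebras
surjecting onto `B`. -/
theorem fp_transfer_alg {R B : Type u} [CommRing R] [CommRing B] [Algebra R B]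
    (C₁ C₂ : Type u) [CommRing C₁] [CommRing C₂] [Algebra R C₁] [Algebra R C₂]
    [Algebra.FinitePresentation R C₁] [Algebra.FinitePresentation R C₂]
    (g₁ : C₁ →ₐ[R] B) (hg₁ : Surjective g₁) (g₂ : C₂ →ₐ[R] B) (hg₂ : Surjective g₂)
    (M : Type u) [AddCommGroup M] [Module B M] [Module C₁ M] [Module C₂ M]
    (hc₁ : ∀ (c : C₁) (m : M), c • m = g₁ c • m) (hc₂ : ∀ (c : C₂) (m : M), c • m = g₂ c • m)
    [Module.FinitePresentation C₁ M] : Module.FinitePresentation C₂ M := by
  obtain ⟨n₁, ρ₁, hρ₁, hk₁⟩ := (inferInstance : Algebra.FinitePresentation R C₁).out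
  obtain ⟨n₂, ρ₂, hρ₂, hk₂⟩ := (inferInstance : Algebra.FinitePresentation R C₂).out
  letI m1 : Module (MvPolynomial (Fin n₁) R) M := Module.compHom M (g₁.comp ρ₁).toRingHom
  letI m2 : Module (MvPolynomial (Fin n₂) R) M := Module.compHom M (g₂.comp ρ₂).toRingHom
  haveI i1 : Module.FinitePresentation (MvPolynomial (Fin n₁) R) M :=
    S6991.fp_ascend' ρ₁.toRingHom hρ₁ hk₁ M (fun q m => by
      show g₁ (ρ₁ q) • m = ρ₁ q • m
      exact (hc₁ _ _).symm)
  haveI i2 : Module.FinitePresentation (MvPolynomial (Fin n₂) R) M :=
    S6991.fp_transfer M (g₁.comp ρ₁) (hg₁.comp hρ₁) (g₂.comp ρ₂) (hg₂.comp hρ₂) i1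
  exact S6991.fp_descend' ρ₂.toRingHom hρ₂ M (fun q m => by
    show g₂ (ρ₂ q) • m = ρ₂ q • m
    exact (hc₂ _ _).symm)

/-- Let R be a commutative ring, A → B a finite homomorphism of finite type R-algebras, M a B-module,
and α : R[x_1, ..., x_n] → A, β : R[y_1, ..., y_k] → B surjective R-algebra homomorphisms. Then M is
finitely presented as an R[x_1, ..., x_n]-module through α and A → B (M is finitely presented
relative to R as an A-module) if and only if M is finitely presented as an R[y_1, ..., y_k]-module
through β (M is finitely presented relative to R as a B-module). -/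
theorem result {R A B : Type u} [CommRing R] [CommRing A] [CommRing B]
    [Algebra R A] [Algebra A B] [Algebra R B] [IsScalarTower R A B] [Algebra.FiniteType R A]
    [Algebra.FiniteType R B] [Module.Finite A B] (M : Type u) [AddCommGroup M] [Module B M] [Module A M]
    [IsScalarTower A B M] {n k : ℕ} (α : MvPolynomial (Fin n) R →ₐ[R] A) (hα : Function.Surjective α)
    (β : MvPolynomial (Fin k) R →ₐ[R] B) (hβ : Function.Surjective β) :
    @Module.FinitePresentation (MvPolynomial (Fin n) R) M _ _ (Module.compHom M α.toRingHom) ↔
      @Module.FinitePresentation (MvPolynomial (Fin k) R) M _ _ (Module.compHom M β.toRingHom) := by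
  classical
  letI algPA : Algebra (MvPolynomial (Fin n) R) A := α.toRingHom.toAlgebra
  letI algPB : Algebra (MvPolynomial (Fin n) R) B :=
    ((algebraMap A B).comp α.toRingHom).toAlgebra
  haveI : IsScalarTower (MvPolynomial (Fin n) R) A B := IsScalarTower.of_algebraMap_eq' rfl
  haveI : Module.Finite (MvPolynomial (Fin n) R) A :=
    Module.Finite.of_surjective (Algebra.linearMap (MvPolynomial (Fin n) R) A) hα
  haveI : Module.Finite (MvPolynomial (Fin n) R) B := Module.Finite.trans A B
  haveI : IsScalarTower R (MvPolynomial (Fin n) R) B := IsScalarTower.of_algebraMap_eq (fun r => by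
    show algebraMap R B r = algebraMap A B (α (algebraMap R (MvPolynomial (Fin n) R) r))
    rw [α.commutes, ← IsScalarTower.algebraMap_apply])
  obtain ⟨B', _, _, _, _, _, f, hf⟩ :=
    Module.Finite.exists_free_surjective (MvPolynomial (Fin n) R) B
  letI algRB' : Algebra R B' :=
    ((algebraMap (MvPolynomial (Fin n) R) B').comp (algebraMap R (MvPolynomial (Fin n) R))).toAlgebra
  haveI : IsScalarTower R (MvPolynomial (Fin n) R) B' := IsScalarTower.of_algebraMap_eq' rfl
  haveI : Algebra.FinitePresentation R B' :=
    Algebra.FinitePresentation.trans R (MvPolynomial (Fin n) R) B'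
  haveI : Module.FinitePresentation (MvPolynomial (Fin n) R) B' :=
    Module.finitePresentation_of_projective (MvPolynomial (Fin n) R) B'
  letI mP : Module (MvPolynomial (Fin n) R) M := Module.compHom M α.toRingHom
  letI mB' : Module B' M := Module.compHom M f.toRingHom
  letI mPk : Module (MvPolynomial (Fin k) R) M := Module.compHom M β.toRingHom
  haveI : IsScalarTower (MvPolynomial (Fin n) R) B' M := ⟨fun p b' m => by
    show f (p • b') • m = α p • (f b' • m)
    rw [map_smul, Algebra.smul_def, mul_smul]
    exact algebraMap_smul B (α p) (f b' • m)⟩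
  constructor
  · intro h
    haveI : Module.FinitePresentation (MvPolynomial (Fin n) R) M := h
    haveI : Module.FinitePresentation B' M := fp_of_finite (B := MvPolynomial (Fin n) R) M
    exact fp_transfer_alg B' (MvPolynomial (Fin k) R) (f.restrictScalars R) hf β hβ M
      (fun c m => rfl) (fun c m => rfl)
  · intro h
    haveI : Module.FinitePresentation (MvPolynomial (Fin k) R) M := h
    haveI : Module.FinitePresentation B' M :=
      fp_transfer_alg (MvPolynomial (Fin k) R) B' β hβ (f.restrictScalars R) hf M
        (fun c m => rfl) (fun c m => rfl)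
    exact Module.FinitePresentation.trans (MvPolynomial (Fin n) R) M B'

end Groth.Agent.S6992
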