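import Groth.Statements.S6995
import Groth.Agent.H56.RegGap
-- import your own Groth.Agent.* helpers here

set_option autoImplicit false
universe u
open CategoryTheory CategoryTheory.Limits
attribute [local instance] HasDerivedCategory.standard
open DRing

namespace Groth.Agent.S6995

/-- Let R be a Noetherian regular commutative ring of finite Krull dimension d ≥ 1, K a perfect object
of D(R) and k an integer such that H^i(K) = 0 for every i with k - d + 2 ≤ i ≤ k. Then K splits in
D(R) as the direct sum of its canonical truncations: there is an isomorphism K ≅ τ_(≤ k-d+1) K ⊕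
τ_(≥ k+1) K under which the truncation map τ_(≤ k-d+1) K → K becomes the first inclusion and K →
τ_(≥ k+1) K the second projection. -/
theorem result (R : Type u) [CommRing R] [IsNoetherianRing R]
    (hreg : ∀ p : PrimeSpectrum R, IsRegularLocalRing (Localization.AtPrime p.asIdeal)) (d : ℕ) (hd1 : 1 ≤ d)
    (hd : ringKrullDim R = d) (K : Dual.D R) (hK : DRing.IsPerfect R K) (k : ℤ)
    (hgap : ∀ i : ℤ, k - d + 2 ≤ i → i ≤ k → Subsingleton (Dual.HD R K i))
    [HasBinaryBiproduct
      (((DerivedCategory.TStructure.t : Triangulated.TStructure (Dual.D R)).truncLT (k - d + 2)).obj K)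
      (((DerivedCategory.TStructure.t : Triangulated.TStructure (Dual.D R)).truncGE (k + 1)).obj K)] :
    ∃ e : K ≅
      ((DerivedCategory.TStructure.t : Triangulated.TStructure (Dual.D R)).truncLT (k - d + 2)).obj K ⊞
        ((DerivedCategory.TStructure.t : Triangulated.TStructure (Dual.D R)).truncGE (k + 1)).obj K,
      ((DerivedCategory.TStructure.t : Triangulated.TStructure (Dual.D R)).truncLTι (k - d + 2)).app K ≫ e.hom =
          biprod.inl ∧
        e.hom ≫ biprod.snd =
          ((DerivedCategory.TStructure.t : Triangulated.TStructure (Dual.D R)).truncGEπ (k + 1)).app K := by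
  obtain ⟨E, a, b, hE, -, ⟨e0⟩⟩ := hK
  have hHz : ∀ i : ℤ, b < i →
      IsZero ((DerivedCategory.homologyFunctor (ModuleCat.{u} R) i).obj K) := by
    intro i hi
    refine IsZero.of_iso ?_ ((DerivedCategory.homologyFunctor _ i).mapIso e0.symm ≪≫
      (DerivedCategory.homologyFunctorFactors _ i).app E)
    exact ShortComplex.isZero_homology_of_isZero_X₂ _ (hE i (Or.inr hi))
  exact Groth.Agent.H56.RegGap.split_of_gap d hd1
    (fun M => Groth.Agent.H56.RegGap.projDim_of_regular R hreg d hd M) K b k hHz
    (fun i h1 h2 => by haveI := hgap i h1 h2; exact ModuleCat.isZero_of_subsingleton _)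

end Groth.Agent.S6995
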