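import Groth.Statements.S6997

set_option autoImplicit false
universe u
open CategoryTheory CategoryTheory.Limits
attribute [local instance] HasDerivedCategory.standard
open DRing

namespace Groth.Agent.S6997

section Helpers

set_option backward.isDefEq.respectTransparency false
set_option backward.isDefEq.respectTransparency.types false

open CategoryTheory MonoidalCategory CochainComplex CochainComplex.HomComplex HomologicalComplex
open TensorProduct

variable {R : Type u} [CommRing R] (K L M : DRing.Cx R)

/-- the total tensor product complex -/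
noncomputable abbrev TT : DRing.Cx R := HomologicalComplex.tensorObj K L

/-- the pure tensor `x ⊗ y` in the total complex -/
noncomputable def tm (p q j : ℤ) (h : p + q = j) (x : K.X p) (y : L.X q) : (TT K L).X j :=
  (ιTensorObj K L p q j h).hom (x ⊗ₜ[R] y)

variable {K L M}

theorem hom_ext_tm {j : ℤ} {Y : ModuleCat.{u} R} (f g : (TT K L).X j ⟶ Y)
    (h : ∀ (p q : ℤ) (hpq : p + q = j) (x : K.X p) (y : L.X q),
      f.hom (tm K L p q j hpq x y) = g.hom (tm K L p q j hpq x y)) : f = g := by
  apply mapBifunctor.hom_ext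
  intro p q hpq
  apply ModuleCat.MonoidalCategory.tensor_ext
  intro x y
  exact h p q hpq x y

/-- evaluation of a nested cochain -/
noncomputable def ev {n : ℤ} (z : Cochain K (DRing.homCx L M) n) (p p' : ℤ) (hp : p + n = p')
    (q q' : ℤ) (hq : q + p' = q') (x : K.X p) (y : L.X q) : M.X q' :=
  ((show Cochain L M p' from (z.v p p' hp).hom x).v q q' hq).hom y

theorem ev_add_z {n : ℤ} (z z' : Cochain K (DRing.homCx L M) n) (p p' : ℤ) (hp : p + n = p')
    (q q' : ℤ) (hq : q + p' = q') (x : K.X p) (y : L.X q) :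
    ev (z + z') p p' hp q q' hq x y = ev z p p' hp q q' hq x y + ev z' p p' hp q q' hq x y := by
  simp only [ev, Cochain.add_v]
  rfl

theorem ev_smul_z {n : ℤ} (r : R) (z : Cochain K (DRing.homCx L M) n) (p p' : ℤ) (hp : p + n = p')
    (q q' : ℤ) (hq : q + p' = q') (x : K.X p) (y : L.X q) :
    ev (r • z) p p' hp q q' hq x y = r • ev z p p' hp q q' hq x y := by
  simp only [ev, Cochain.smul_v]
  rfl

theorem ev_add_x {n : ℤ} (z : Cochain K (DRing.homCx L M) n) (p p' : ℤ) (hp : p + n = p')
    (q q' : ℤ) (hq : q + p' = q') (x x' : K.X p) (y : L.X q) :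
    ev z p p' hp q q' hq (x + x') y = ev z p p' hp q q' hq x y + ev z p p' hp q q' hq x' y := by
  simp only [ev, map_add]
  rfl

theorem ev_smul_x {n : ℤ} (z : Cochain K (DRing.homCx L M) n) (p p' : ℤ) (hp : p + n = p')
    (q q' : ℤ) (hq : q + p' = q') (r : R) (x : K.X p) (y : L.X q) :
    ev z p p' hp q q' hq (r • x) y = r • ev z p p' hp q q' hq x y := by
  simp only [ev, map_smul]
  rfl

theorem ev_add_y {n : ℤ} (z : Cochain K (DRing.homCx L M) n) (p p' : ℤ) (hp : p + n = p')
    (q q' : ℤ) (hq : q + p' = q') (x : K.X p) (y y' : L.X q) :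
    ev z p p' hp q q' hq x (y + y') = ev z p p' hp q q' hq x y + ev z p p' hp q q' hq x y' := by
  simp only [ev, map_add]

theorem ev_smul_y {n : ℤ} (z : Cochain K (DRing.homCx L M) n) (p p' : ℤ) (hp : p + n = p')
    (q q' : ℤ) (hq : q + p' = q') (r : R) (x : K.X p) (y : L.X q) :
    ev z p p' hp q q' hq x (r • y) = r • ev z p p' hp q q' hq x y := by
  simp only [ev, map_smul]

theorem ext_ev {n : ℤ} (z z' : Cochain K (DRing.homCx L M) n)
    (h : ∀ (p p' : ℤ) (hp : p + n = p') (q q' : ℤ) (hq : q + p' = q') (x : K.X p) (y : L.X q),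
      ev z p p' hp q q' hq x y = ev z' p p' hp q q' hq x y) : z = z' := by
  ext p p' hp x
  change (show Cochain L M p' from (z.v p p' hp).hom x) = (show Cochain L M p' from (z'.v p p' hp).hom x)
  ext q q' hq y
  exact h p p' hp q q' hq x y

end Helpers

section Maps

set_option backward.isDefEq.respectTransparency false
set_option backward.isDefEq.respectTransparency.types false

open CategoryTheory MonoidalCategory CochainComplex CochainComplex.HomComplex HomologicalComplex
open TensorProduct

variable {R : Type u} [CommRing R] {K L M : DRing.Cx R}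

theorem tm_add_x (p q j : ℤ) (h : p + q = j) (x x' : K.X p) (y : L.X q) :
    tm K L p q j h (x + x') y = tm K L p q j h x y + tm K L p q j h x' y := by
  simp only [tm, TensorProduct.add_tmul, map_add]

theorem tm_smul_x (p q j : ℤ) (h : p + q = j) (r : R) (x : K.X p) (y : L.X q) :
    tm K L p q j h (r • x) y = r • tm K L p q j h x y := by
  simp only [tm, ← TensorProduct.smul_tmul', map_smul]

theorem tm_add_y (p q j : ℤ) (h : p + q = j) (x : K.X p) (y y' : L.X q) :
    tm K L p q j h x (y + y') = tm K L p q j h x y + tm K L p q j h x y' := by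
  simp only [tm, TensorProduct.tmul_add, map_add]

theorem tm_smul_y (p q j : ℤ) (h : p + q = j) (r : R) (x : K.X p) (y : L.X q) :
    tm K L p q j h x (r • y) = r • tm K L p q j h x y := by
  simp only [tm, TensorProduct.tmul_smul, map_smul]

/-- the bilinear map underlying `Φ` -/
noncomputable def bil {n : ℤ} (z : Cochain K (DRing.homCx L M) n) (p p' : ℤ) (hp : p + n = p')
    (q q' : ℤ) (hq : q + p' = q') : K.X p →ₗ[R] L.X q →ₗ[R] M.X q' :=
  LinearMap.mk₂ R (fun x y => ev z p p' hp q q' hq x y)
    (fun x x' y => ev_add_x z p p' hp q q' hq x x' y)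
    (fun r x y => ev_smul_x z p p' hp q q' hq r x y)
    (fun x y y' => ev_add_y z p p' hp q q' hq x y y')
    (fun r x y => ev_smul_y z p p' hp q q' hq r x y)

noncomputable def phiV {n : ℤ} (z : Cochain K (DRing.homCx L M) n) (j j' : ℤ) (hj : j + n = j') :
    (TT K L).X j ⟶ M.X j' :=
  mapBifunctorDesc (fun p q hpq => ModuleCat.ofHom
    (TensorProduct.lift (bil z p (p + n) rfl q j' (by
      have : p + q = j := hpq
      omega))))

theorem phiV_apply {n : ℤ} (z : Cochain K (DRing.homCx L M) n) (j j' : ℤ) (hj : j + n = j')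
    (p p' : ℤ) (hp : p + n = p') (q : ℤ) (hpq : p + q = j) (x : K.X p) (y : L.X q) :
    (phiV z j j' hj).hom (tm K L p q j hpq x y) =
      ev z p p' hp q j' (by omega) x y := by
  subst hp
  have h := ConcreteCategory.congr_hom (ι_mapBifunctorDesc (K₁ := K) (K₂ := L)
    (F := curriedTensor (ModuleCat.{u} R)) (c := ComplexShape.up ℤ) (j := j) (A := M.X j')
    (fun p q hpq => ModuleCat.ofHom
    (TensorProduct.lift (bil z p (p + n) rfl q j' (by
      have : p + q = j := hpq
      omega)))) p q hpq) (x ⊗ₜ[R] y)
  exact h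

/-- `Φ` -/
noncomputable def phi {n : ℤ} (z : Cochain K (DRing.homCx L M) n) : Cochain (TT K L) M n :=
  Cochain.mk (fun j j' hj => phiV z j j' hj)

theorem phi_apply {n : ℤ} (z : Cochain K (DRing.homCx L M) n) (j j' : ℤ) (hj : j + n = j')
    (p p' : ℤ) (hp : p + n = p') (q : ℤ) (hpq : p + q = j) (x : K.X p) (y : L.X q) :
    ((phi z).v j j' hj).hom (tm K L p q j hpq x y) = ev z p p' hp q j' (by omega) x y :=
  phiV_apply z j j' hj p p' hp q hpq x y

/-- `Ψ`, inner part -/
noncomputable def psiIn {n : ℤ} (u : Cochain (TT K L) M n) (p p' : ℤ) (hp : p + n = p')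
    (x : K.X p) : Cochain L M p' :=
  Cochain.mk (fun q q' hq => ModuleCat.ofHom
    { toFun := fun y => (u.v (p + q) q' (by omega)).hom (tm K L p q (p + q) rfl x y)
      map_add' := fun y y' => by rw [tm_add_y, map_add]
      map_smul' := fun r y => by rw [tm_smul_y, map_smul]; rfl })

theorem psiIn_v_apply {n : ℤ} (u : Cochain (TT K L) M n) (p p' : ℤ) (hp : p + n = p')
    (x : K.X p) (q q' : ℤ) (hq : q + p' = q') (y : L.X q) :
    ((psiIn u p p' hp x).v q q' hq).hom y =
      (u.v (p + q) q' (by omega)).hom (tm K L p q (p + q) rfl x y) := rfl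

/-- `Ψ` -/
noncomputable def psi {n : ℤ} (u : Cochain (TT K L) M n) : Cochain K (DRing.homCx L M) n :=
  Cochain.mk (fun p p' hp => ModuleCat.ofHom
    { toFun := fun x => psiIn u p p' hp x
      map_add' := fun x x' => by
        ext q q' hq y
        rw [Cochain.add_v]
        change ((psiIn u p p' hp (x + x')).v q q' hq).hom y =
          ((psiIn u p p' hp x).v q q' hq).hom y + ((psiIn u p p' hp x').v q q' hq).hom y
        rw [psiIn_v_apply, psiIn_v_apply, psiIn_v_apply, tm_add_x, map_add]
      map_smul' := fun r x => by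
        ext q q' hq y
        rw [RingHom.id_apply, Cochain.smul_v]
        change ((psiIn u p p' hp (r • x)).v q q' hq).hom y =
          r • ((psiIn u p p' hp x).v q q' hq).hom y
        rw [psiIn_v_apply, psiIn_v_apply, tm_smul_x, map_smul] })

theorem ev_psi {n : ℤ} (u : Cochain (TT K L) M n) (p p' : ℤ) (hp : p + n = p')
    (q q' : ℤ) (hq : q + p' = q') (x : K.X p) (y : L.X q) :
    ev (psi u) p p' hp q q' hq x y =
      (u.v (p + q) q' (by omega)).hom (tm K L p q (p + q) rfl x y) := rfl

theorem u_aux {n : ℤ} (u : Cochain (TT K L) M n) (j j' : ℤ) (hj : j + n = j') (p q : ℤ)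
    (hpq : p + q = j) (x : K.X p) (y : L.X q) :
    (u.v (p + q) j' (by omega)).hom (tm K L p q (p + q) rfl x y) =
      (u.v j j' hj).hom (tm K L p q j hpq x y) := by
  subst hpq
  rfl

theorem phi_psi {n : ℤ} (u : Cochain (TT K L) M n) : phi (psi u) = u := by
  refine Cochain.ext _ _ (fun j j' hj => ?_)
  apply hom_ext_tm
  intro p q hpq x y
  rw [phi_apply (psi u) j j' hj p (p + n) rfl q hpq x y, ev_psi]
  exact u_aux u j j' hj p q hpq x y

theorem phi_injective {n : ℤ} (z z' : Cochain K (DRing.homCx L M) n) (h : phi z = phi z') :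
    z = z' := by
  apply ext_ev
  intro p p' hp q q' hq x y
  have h1 := phi_apply z (p + q) q' (by omega) p p' hp q rfl x y
  have h2 := phi_apply z' (p + q) q' (by omega) p p' hp q rfl x y
  rw [← h1, ← h2, h]

theorem phi_add {n : ℤ} (z z' : Cochain K (DRing.homCx L M) n) : phi (z + z') = phi z + phi z' := by
  refine Cochain.ext _ _ (fun j j' hj => ?_)
  apply hom_ext_tm
  intro p q hpq x y
  rw [Cochain.add_v]
  change _ = ((phi z).v j j' hj).hom _ + ((phi z').v j j' hj).hom _
  rw [phi_apply _ j j' hj p (p + n) rfl q hpq, phi_apply _ j j' hj p (p + n) rfl q hpq,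
    phi_apply _ j j' hj p (p + n) rfl q hpq, ev_add_z]

theorem phi_smul {n : ℤ} (r : R) (z : Cochain K (DRing.homCx L M) n) : phi (r • z) = r • phi z := by
  refine Cochain.ext _ _ (fun j j' hj => ?_)
  apply hom_ext_tm
  intro p q hpq x y
  rw [Cochain.smul_v]
  change _ = r • ((phi z).v j j' hj).hom _
  rw [phi_apply _ j j' hj p (p + n) rfl q hpq, phi_apply _ j j' hj p (p + n) rfl q hpq, ev_smul_z]

end Maps

section Diff

set_option backward.isDefEq.respectTransparency false
set_option backward.isDefEq.respectTransparency.types false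

open CategoryTheory MonoidalCategory CochainComplex CochainComplex.HomComplex HomologicalComplex
open TensorProduct

variable {R : Type u} [CommRing R] {K L M : DRing.Cx R}

theorem ι_d (p q j : ℤ) (hpq : p + q = j) :
    ιTensorObj K L p q j hpq ≫ (TT K L).d j (j + 1) =
      (K.d p (p + 1) ▷ L.X q) ≫ ιTensorObj K L (p + 1) q (j + 1) (by omega) +
        p.negOnePow • ((K.X p ◁ L.d q (q + 1)) ≫ ιTensorObj K L p (q + 1) (j + 1) (by omega)) := by
  have h1 := mapBifunctor.d₁_eq K L (curriedTensor (ModuleCat.{u} R)) (ComplexShape.up ℤ)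
    (show (ComplexShape.up ℤ).Rel p (p + 1) from rfl) q (j + 1)
    (show p + 1 + q = j + 1 by omega)
  have h2 := mapBifunctor.d₂_eq K L (curriedTensor (ModuleCat.{u} R)) (ComplexShape.up ℤ) p
    (show (ComplexShape.up ℤ).Rel q (q + 1) from rfl) (j + 1)
    (show p + (q + 1) = j + 1 by omega)
  rw [mapBifunctor.d_eq, Preadditive.comp_add, mapBifunctor.ι_D₁, mapBifunctor.ι_D₂, h1, h2]
  congr 1
  exact one_smul _ _

theorem d_tm (p q j : ℤ) (hpq : p + q = j) (x : K.X p) (y : L.X q) :
    ((TT K L).d j (j + 1)).hom (tm K L p q j hpq x y) =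
      tm K L (p + 1) q (j + 1) (by omega) ((K.d p (p + 1)).hom x) y +
        p.negOnePow • tm K L p (q + 1) (j + 1) (by omega) x ((L.d q (q + 1)).hom y) := by
  have h := ConcreteCategory.congr_hom (ι_d (K := K) (L := L) p q j hpq) (x ⊗ₜ[R] y)
  exact h

end Diff

section Comm

set_option backward.isDefEq.respectTransparency false
set_option backward.isDefEq.respectTransparency.types false

open CategoryTheory MonoidalCategory CochainComplex CochainComplex.HomComplex HomologicalComplex
open TensorProduct

variable {R : Type u} [CommRing R] {K L M : DRing.Cx R}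

theorem hom_units_smul {X Y : ModuleCat.{u} R} (e : ℤˣ) (f : X ⟶ Y) (x : X) :
    (e • f).hom x = e • f.hom x := by
  rcases Int.units_eq_one_or e with rfl | rfl
  · simp
  · simp

theorem δz_apply {n m : ℤ} (hnm : n + 1 = m) (z : Cochain K (DRing.homCx L M) n) (p p'' : ℤ)
    (hp : p + m = p'') (x : K.X p) :
    (show Cochain L M p'' from ((δ n m z).v p p'' hp).hom x) =
      δ (p + n) p'' (show Cochain L M (p + n) from (z.v p (p + n) rfl).hom x) +
        m.negOnePow • (show Cochain L M p'' from
          (z.v (p + 1) p'' (by omega)).hom ((K.d p (p + 1)).hom x)) := by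
  have h1 := δ_v n m hnm z p p'' hp (p + n) (p + 1) (by omega) rfl
  rw [h1]
  change _ + (m.negOnePow • (K.d p (p + 1) ≫ z.v (p + 1) p'' (by omega))).hom x = _
  rw [hom_units_smul]
  rfl

theorem ev_δ {n m : ℤ} (hnm : n + 1 = m) (z : Cochain K (DRing.homCx L M) n) (p p'' : ℤ)
    (hp : p + m = p'') (q q' : ℤ) (hq : q + p'' = q') (x : K.X p) (y : L.X q) :
    ev (δ n m z) p p'' hp q q' hq x y =
      (M.d (q' - 1) q').hom (ev z p (p + n) rfl q (q' - 1) (by omega) x y) +
      p''.negOnePow • ev z p (p + n) rfl (q + 1) q' (by omega) x ((L.d q (q + 1)).hom y) +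
      m.negOnePow • ev z (p + 1) p'' (by omega) q q' hq ((K.d p (p + 1)).hom x) y := by
  unfold ev
  rw [δz_apply hnm z p p'' hp x, Cochain.add_v, Cochain.units_smul_v,
    δ_v (p + n) p'' (by omega) _ q q' hq (q' - 1) (q + 1) rfl rfl]
  rw [ModuleCat.hom_add, ModuleCat.hom_add, LinearMap.add_apply, LinearMap.add_apply,
    hom_units_smul, hom_units_smul]
  rfl

end Comm

section Comm2

set_option backward.isDefEq.respectTransparency false
set_option backward.isDefEq.respectTransparency.types false

open CategoryTheory MonoidalCategory CochainComplex CochainComplex.HomComplex HomologicalComplex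
open TensorProduct

variable {R : Type u} [CommRing R] {K L M : DRing.Cx R}

theorem hom_map_units_smul {X Y : ModuleCat.{u} R} (e : ℤˣ) (f : X ⟶ Y) (x : X) :
    f.hom (e • x) = e • f.hom x := by
  rcases Int.units_eq_one_or e with rfl | rfl
  · simp
  · simp

theorem phi_δ {n m : ℤ} (hnm : n + 1 = m) (z : Cochain K (DRing.homCx L M) n) :
    phi (δ n m z) = δ n m (phi z) := by
  refine Cochain.ext _ _ (fun j j' hj => ?_)
  apply hom_ext_tm
  intro p q hpq x y
  rw [phi_apply (δ n m z) j j' hj p (p + m) rfl q hpq x y, ev_δ hnm,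
    δ_v n m hnm (phi z) j j' hj (j' - 1) (j + 1) rfl rfl,
    ModuleCat.hom_add, LinearMap.add_apply, hom_units_smul]
  change _ = (M.d (j' - 1) j').hom (((phi z).v j (j' - 1) (by omega)).hom (tm K L p q j hpq x y)) +
    m.negOnePow • ((phi z).v (j + 1) j' (by omega)).hom
      (((TT K L).d j (j + 1)).hom (tm K L p q j hpq x y))
  rw [d_tm, map_add, hom_map_units_smul,
    phi_apply z j (j' - 1) (by omega) p (p + n) rfl q hpq x y,
    phi_apply z (j + 1) j' (by omega) (p + 1) (p + m) (by omega) q (by omega),
    phi_apply z (j + 1) j' (by omega) p (p + n) rfl (q + 1) (by omega),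
    smul_add, smul_smul, Int.negOnePow_add, mul_comm m.negOnePow p.negOnePow]
  abel

end Comm2

section Final

set_option backward.isDefEq.respectTransparency false
set_option backward.isDefEq.respectTransparency.types false

open CategoryTheory MonoidalCategory CochainComplex CochainComplex.HomComplex HomologicalComplex
open TensorProduct

variable {R : Type u} [CommRing R] (K L M : DRing.Cx R)

noncomputable def phiLin (n : ℤ) :
    Cochain K (DRing.homCx L M) n →ₗ[R] Cochain (TT K L) M n where
  toFun := phi
  map_add' := phi_add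
  map_smul' := phi_smul

theorem phiLin_bijective (n : ℤ) : Function.Bijective (phiLin K L M n) :=
  ⟨fun z z' h => phi_injective z z' h, fun u => ⟨psi u, phi_psi u⟩⟩

noncomputable def isoX (n : ℤ) :
    (DRing.homCx K (DRing.homCx L M)).X n ≅ (DRing.homCx (TT K L) M).X n :=
  (LinearEquiv.ofBijective (phiLin K L M n) (phiLin_bijective K L M n)).toModuleIso

noncomputable def theIso : DRing.homCx K (DRing.homCx L M) ≅ DRing.homCx (TT K L) M :=
  HomologicalComplex.Hom.isoOfComponents (fun n => isoX K L M n) (by
    intro i j hij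
    ext z
    change δ i j (phi z) = phi (δ i j z)
    have h : i + 1 = j := hij
    exact (phi_δ h z).symm)

end Final

open MonoidalCategory in
/-- Let R be a commutative ring and K, L, M cochain complexes of R-modules. Then the Hom complex Hom(K,
Hom(L, M)) is isomorphic, as a cochain complex of R-modules, to Hom(Tot(K ⊗ L), M) (existence of an
isomorphism of complexes; the canonical one is given by adjunction with signs). -/
theorem result (R : Type u) [CommRing R] (K L M : DRing.Cx R) :
    Nonempty (DRing.homCx K (DRing.homCx L M) ≅ DRing.homCx (K ⊗ L) M) := by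
  exact ⟨theIso K L M⟩

end Groth.Agent.S6997
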