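import Groth.Statements.S6998
import Groth.Agent.H35.TorIndTower

set_option autoImplicit false
set_option linter.style.haveILetI false
universe u
open CategoryTheory CategoryTheory.Limits
attribute [local instance] HasDerivedCategory.standard
open DerCA

namespace Groth.Agent.S6998

open TensorProduct

attribute [local instance] Algebra.TensorProduct.rightAlgebra MvPolynomial.algebraMvPolynomial

section Aux

variable {R A R' : Type u} [CommRing R] [CommRing A] [CommRing R'] [Algebra R A] [Algebra R R']
  {n : ℕ} (α : MvPolynomial (Fin n) R →ₐ[R] A)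

/-- the base-changed presentation -/
noncomputable def α' : MvPolynomial (Fin n) R' →ₐ[R'] (R' ⊗[R] A) :=
  MvPolynomial.aeval (fun i => (1 : R') ⊗ₜ[R] α (MvPolynomial.X i))

lemma α'_map (p : MvPolynomial (Fin n) R) :
    α' (R' := R') α (MvPolynomial.map (algebraMap R R') p) = (1 : R') ⊗ₜ[R] α p := by
  induction p using MvPolynomial.induction_on with
  | C r =>
    rw [MvPolynomial.map_C, α', MvPolynomial.aeval_C, ← MvPolynomial.algebraMap_eq, α.commutes,
      Algebra.TensorProduct.algebraMap_apply, Algebra.algebraMap_self_apply,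
      Algebra.algebraMap_eq_smul_one (A := R'), Algebra.algebraMap_eq_smul_one (A := A)]
    exact TensorProduct.smul_tmul (R := R) (R' := R) r (1 : R') (1 : A)
  | add p q hp hq => rw [map_add, map_add, hp, hq, map_add, TensorProduct.tmul_add]
  | mul_X p i hp =>
    rw [map_mul, map_mul, hp, MvPolynomial.map_X, map_mul, α', MvPolynomial.aeval_X,
      Algebra.TensorProduct.tmul_mul_tmul, one_mul]

lemma α'_surjective (hα : Function.Surjective α) : Function.Surjective (α' (R' := R') α) := by
  intro z
  induction z using TensorProduct.induction_on with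
  | zero => exact ⟨0, map_zero _⟩
  | tmul r a =>
    obtain ⟨p, rfl⟩ := hα a
    refine ⟨MvPolynomial.C r * MvPolynomial.map (algebraMap R R') p, ?_⟩
    rw [map_mul, α'_map, α', MvPolynomial.aeval_C, Algebra.TensorProduct.algebraMap_apply,
      Algebra.TensorProduct.tmul_mul_tmul, one_mul, mul_one]
    rfl
  | add x y hx hy =>
    obtain ⟨a, rfl⟩ := hx
    obtain ⟨b, rfl⟩ := hy
    exact ⟨a + b, map_add _ _ _⟩

end Aux

section Key

variable {R A R' : Type u} [CommRing R] [CommRing A] [CommRing R'] [Algebra R A] [Algebra R R']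

theorem key
    (htor : ∀ p : ℕ, 0 < p → Subsingleton (DRing.Tor R p A R'))
    [DRing.HasLBaseChange (Algebra.TensorProduct.includeRight : A →ₐ[R] TensorProduct R R' A).toRingHom]
    (K : Dual.D A) (m : ℤ)
    (h : DerCA.IsRelPseudoCoherent R A m K) :
    DerCA.IsRelPseudoCoherent R' (TensorProduct R R' A) m
      ((DRing.LBaseChange (Algebra.TensorProduct.includeRight :
        A →ₐ[R] TensorProduct R R' A).toRingHom).obj K) := by
  obtain ⟨n, α, hα, hKα⟩ := h
  refine ⟨n, α' α, α'_surjective α hα, ?_⟩
  letI iPA : Algebra (MvPolynomial (Fin n) R) A := α.toRingHom.toAlgebra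
  haveI : IsScalarTower R (MvPolynomial (Fin n) R) A :=
    IsScalarTower.of_algebraMap_eq (fun r => (α.commutes r).symm)
  letI iP'A' : Algebra (MvPolynomial (Fin n) R') (R' ⊗[R] A) := (α' α).toRingHom.toAlgebra
  letI iPA' : Algebra (MvPolynomial (Fin n) R) (R' ⊗[R] A) :=
    ((algebraMap A (R' ⊗[R] A)).comp (algebraMap (MvPolynomial (Fin n) R) A)).toAlgebra
  haveI : IsScalarTower (MvPolynomial (Fin n) R) A (R' ⊗[R] A) :=
    IsScalarTower.of_algebraMap_eq (fun _ => rfl)
  haveI : IsScalarTower (MvPolynomial (Fin n) R) (MvPolynomial (Fin n) R') (R' ⊗[R] A) :=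
    IsScalarTower.of_algebraMap_eq (fun p => (α'_map α p).symm)
  haveI : IsScalarTower R' (MvPolynomial (Fin n) R') (R' ⊗[R] A) :=
    IsScalarTower.of_algebraMap_eq (fun r => ((α' α).commutes r).symm)
  haveI : IsScalarTower R (MvPolynomial (Fin n) R') (R' ⊗[R] A) :=
    IsScalarTower.of_algebraMap_eq (fun r => by
      rw [IsScalarTower.algebraMap_apply R R' (R' ⊗[R] A),
        IsScalarTower.algebraMap_apply R R' (MvPolynomial (Fin n) R'),
        ← IsScalarTower.algebraMap_apply R' (MvPolynomial (Fin n) R') (R' ⊗[R] A)])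
  haveI : Algebra.IsPushout (MvPolynomial (Fin n) R) A (MvPolynomial (Fin n) R') (R' ⊗[R] A) :=
    (Algebra.IsPushout.comp_iff R (MvPolynomial (Fin n) R) R' (S' := MvPolynomial (Fin n) R')
      (T := A) (T' := R' ⊗[R] A)).1 inferInstance
  exact Groth.Agent.H35.TorIndTower.isPseudoCoherent_restrict_LBaseChange R
    (MvPolynomial (Fin n) R) A R' (MvPolynomial (Fin n) R') (R' ⊗[R] A)
    (fun p hp => htor p (by omega)) K m hKα

end Key

/-- Let R → A be a finite type homomorphism of commutative rings and R → R' a ring homomorphism such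
that Tor_p^R(A, R') = 0 for every p > 0; put A' = R' ⊗_R A and assume the derived base change D(A) →
D(A') exists. Let K be an object of D(A) and m an integer. If K is m-pseudo-coherent relative to R,
then K ⊗^L_A A' is m-pseudo-coherent relative to R'; if K is pseudo-coherent relative to R, then K
⊗^L_A A' is pseudo-coherent relative to R'. -/
theorem result {R A R' : Type u} [CommRing R] [CommRing A]
    [CommRing R'] [Algebra R A] [Algebra.FiniteType R A] [Algebra R R']
    (htor : ∀ p : ℕ, 0 < p → Subsingleton (DRing.Tor R p A R'))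
    [DRing.HasLBaseChange (Algebra.TensorProduct.includeRight : A →ₐ[R] TensorProduct R R' A).toRingHom]
    (K : Dual.D A) (m : ℤ) :
    (DerCA.IsRelPseudoCoherent R A m K → DerCA.IsRelPseudoCoherent R' (TensorProduct R R' A) m
      ((DRing.LBaseChange (Algebra.TensorProduct.includeRight : A →ₐ[R] TensorProduct R R' A).toRingHom).obj K)) ∧
      (DerCA.IsRelPseudoCoherentAll R A K → DerCA.IsRelPseudoCoherentAll R' (TensorProduct R R' A)
        ((DRing.LBaseChange (Algebra.TensorProduct.includeRight : A →ₐ[R] TensorProduct R R' A).toRingHom).obj K)) :=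
  ⟨key htor K m, fun h m' => key htor K m' (h m')⟩

end Groth.Agent.S6998
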