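import Groth.Statements.S6999
import Groth.Agent.H6.ExtPC
import Groth.Agent.H6.ExtPC2

set_option autoImplicit false
universe u
open CategoryTheory CategoryTheory.Limits
attribute [local instance] HasDerivedCategory.standard
open DRing

namespace Groth.Agent.S6999

/-- Let R be a commutative ring, m an integer, K an m-pseudo-coherent object of D(R), and (M_j) a
diagram of R-modules over a small filtered category with colimit cocone M. Then the canonical map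
colim_j Hom(K, M_j[n]) → Hom(K, M[n]) in D(R) is bijective for n < -m and injective for n = -m.
Unfolded: for n < -m every morphism K → M[n] factors through M_j[n] → M[n] for some j; and for n ≤
-m, a morphism K → M_j[n] whose composite with M_j[n] → M[n] is zero already has zero composite with
M_j[n] → M_(j')[n] for some j → j'. -/
theorem result (R : Type u) [CommRing R] (m : ℤ) (K : Dual.D R)
    (hK : DRing.IsPseudoCoherent R m K) {J : Type u} [SmallCategory J] [IsFiltered J]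
    (F : J ⥤ ModuleCat.{u} R) (c : Cocone F) (hc : IsColimit c) :
    (∀ n : ℤ, n < -m → ∀ x : K ⟶ (shiftFunctor (Dual.D R) n).obj (Dual.inD R c.pt),
      ∃ (j : J) (y : K ⟶ (shiftFunctor (Dual.D R) n).obj (Dual.inD R (F.obj j))),
        y ≫ (shiftFunctor (Dual.D R) n).map
          ((DerivedCategory.singleFunctor (ModuleCat.{u} R) 0).map (c.ι.app j)) = x) ∧
    (∀ n : ℤ, n ≤ -m → ∀ (j : J) (y : K ⟶ (shiftFunctor (Dual.D R) n).obj (Dual.inD R (F.obj j))),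
      y ≫ (shiftFunctor (Dual.D R) n).map
          ((DerivedCategory.singleFunctor (ModuleCat.{u} R) 0).map (c.ι.app j)) = 0 →
      ∃ (j' : J) (f : j ⟶ j'), y ≫ (shiftFunctor (Dual.D R) n).map
          ((DerivedCategory.singleFunctor (ModuleCat.{u} R) 0).map (F.map f)) = 0) := by
  obtain ⟨E, a, b, α, hV, hF, hiso, hepi⟩ := hK
  haveI : E.IsKProjective :=
    Groth.Agent.H6.ExtPC.isKProjective_of' E b (fun i hi => hV i (Or.inr hi)) hF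
  obtain ⟨hinj, hsurj⟩ := Groth.Agent.H6.ExtPC.pc_inj_surj m E α hiso hepi
  haveI : ∀ i : ℤ, Module.Finite R (E.X i) := fun i => (hF i).1
  haveI : ∀ i : ℤ, Module.Free R (E.X i) := fun i => (hF i).2
  refine ⟨?_, ?_⟩
  · intro n hn x
    have h : n + (-n) = 0 := by omega
    obtain ⟨φ, hφ⟩ := Groth.Agent.H6.ExtPC.Φ_surjective E (-n) n h c.pt (α ≫ x)
    obtain ⟨k₀⟩ : Nonempty J := IsFiltered.nonempty
    obtain ⟨j₁, -, φ₁, hφ₁⟩ :=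
      Groth.Agent.H6.ExtPC.exists_lift_linearMap F c hc (E.X (-n)) φ.1 k₀
    have hψ : Groth.Agent.H6.ExtPC.ιl F c j₁ ∘ₗ (φ₁ ∘ₗ (E.d (-n - 1) (-n)).hom) = 0 := by
      rw [← LinearMap.comp_assoc, hφ₁]
      exact (Groth.Agent.H6.ExtPC.mem_Z E (-n) φ.1).mp φ.2
    obtain ⟨j₂, f, hf⟩ := Groth.Agent.H6.ExtPC.exists_map_comp_eq_zero F c hc (E.X (-n - 1))
      (φ₁ ∘ₗ (E.d (-n - 1) (-n)).hom) hψ
    have hφ₂ : (F.map f).hom ∘ₗ φ₁ ∈ Groth.Agent.H6.ExtPC.Z E (-n) (F.obj j₂) := by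
      rw [Groth.Agent.H6.ExtPC.mem_Z, LinearMap.comp_assoc]
      exact hf
    have hcomp : Groth.Agent.H6.ExtPC.ιl F c j₂ ∘ₗ ((F.map f).hom ∘ₗ φ₁) = φ.1 := by
      rw [← LinearMap.comp_assoc, Groth.Agent.H6.ExtPC.ιl_comp_map, hφ₁]
    have hιφ₂ : Groth.Agent.H6.ExtPC.ιl F c j₂ ∘ₗ ((F.map f).hom ∘ₗ φ₁) ∈
        Groth.Agent.H6.ExtPC.Z E (-n) c.pt := by
      rw [hcomp]
      exact φ.2
    obtain ⟨y, hy⟩ := hsurj (F.obj j₂) n hn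
      (Groth.Agent.H6.ExtPC.Φ E (-n) n h (F.obj j₂) ⟨(F.map f).hom ∘ₗ φ₁, hφ₂⟩)
    have hΦ := Groth.Agent.H6.ExtPC.Φ_comp E (-n) n h (Groth.Agent.H6.ExtPC.ιl F c j₂)
      ⟨(F.map f).hom ∘ₗ φ₁, hφ₂⟩ hιφ₂
    have hφφ : (⟨Groth.Agent.H6.ExtPC.ιl F c j₂ ∘ₗ ((F.map f).hom ∘ₗ φ₁), hιφ₂⟩ :
        Groth.Agent.H6.ExtPC.Z E (-n) c.pt) = φ := Subtype.ext hcomp
    rw [hφφ, hφ] at hΦ
    have key : Groth.Agent.H6.ExtPC.Φ E (-n) n h (F.obj j₂) ⟨(F.map f).hom ∘ₗ φ₁, hφ₂⟩ ≫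
        (shiftFunctor (Dual.D R) n).map
          ((DerivedCategory.singleFunctor (ModuleCat.{u} R) 0).map (c.ι.app j₂)) = α ≫ x :=
      hΦ.symm
    have aux : ∀ (N : ModuleCat.{u} R)
        (u v : K ⟶ (shiftFunctor (Dual.D R) n).obj
          ((DerivedCategory.singleFunctor (ModuleCat.{u} R) 0).obj N)),
        α ≫ u = α ≫ v → u = v := fun N u v huv =>
      sub_eq_zero.mp (hinj N n hn.le (u - v) (by rw [Preadditive.comp_sub, huv, sub_self]))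
    refine ⟨j₂, y, aux c.pt _ _ ?_⟩
    rw [← Category.assoc, hy]
    exact key
  · intro n hn j y hy
    have h : n + (-n) = 0 := by omega
    obtain ⟨ψ, hψ⟩ := Groth.Agent.H6.ExtPC.Φ_surjective E (-n) n h (F.obj j) (α ≫ y)
    have hιψ : Groth.Agent.H6.ExtPC.ιl F c j ∘ₗ ψ.1 ∈ Groth.Agent.H6.ExtPC.Z E (-n) c.pt :=
      Groth.Agent.H6.ExtPC.comp_mem_Z E (-n) _ ψ.1 ψ.2
    have hΦ := Groth.Agent.H6.ExtPC.Φ_comp E (-n) n h (Groth.Agent.H6.ExtPC.ιl F c j) ψ hιψ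
    have h0 : Groth.Agent.H6.ExtPC.Φ E (-n) n h c.pt
        ⟨Groth.Agent.H6.ExtPC.ιl F c j ∘ₗ ψ.1, hιψ⟩ = 0 := by
      rw [hΦ, hψ, Category.assoc]
      have hy' : y ≫ (shiftFunctor (DerivedCategory (ModuleCat.{u} R)) n).map
          ((DerivedCategory.singleFunctor (ModuleCat.{u} R) 0).map
            (ModuleCat.ofHom (Groth.Agent.H6.ExtPC.ιl F c j))) = 0 := hy
      rw [hy', comp_zero]
    obtain ⟨χ, hχ⟩ := Groth.Agent.H6.ExtPC.exists_eq_comp_d_of_Φ_eq_zero E (-n) n h c.pt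
      ⟨Groth.Agent.H6.ExtPC.ιl F c j ∘ₗ ψ.1, hιψ⟩ h0
    have hχ' : Groth.Agent.H6.ExtPC.ιl F c j ∘ₗ ψ.1 = χ ∘ₗ (E.d (-n) (-n + 1)).hom := hχ
    obtain ⟨j₁, f₁, χ₁, hχ₁⟩ :=
      Groth.Agent.H6.ExtPC.exists_lift_linearMap F c hc (E.X (-n + 1)) χ j
    have hψ₁ : Groth.Agent.H6.ExtPC.ιl F c j₁ ∘ₗ
        ((F.map f₁).hom ∘ₗ ψ.1 - χ₁ ∘ₗ (E.d (-n) (-n + 1)).hom) = 0 := by
      rw [LinearMap.comp_sub, ← LinearMap.comp_assoc, ← LinearMap.comp_assoc,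
        Groth.Agent.H6.ExtPC.ιl_comp_map, hχ₁, hχ', sub_self]
    obtain ⟨j₂, f₂, hf₂⟩ := Groth.Agent.H6.ExtPC.exists_map_comp_eq_zero F c hc (E.X (-n))
      ((F.map f₁).hom ∘ₗ ψ.1 - χ₁ ∘ₗ (E.d (-n) (-n + 1)).hom) hψ₁
    have hcob : (F.map (f₁ ≫ f₂)).hom ∘ₗ ψ.1 =
        ((F.map f₂).hom ∘ₗ χ₁) ∘ₗ (E.d (-n) (-n + 1)).hom := by
      rw [LinearMap.comp_sub, sub_eq_zero] at hf₂
      rw [LinearMap.comp_assoc, ← hf₂, F.map_comp, ModuleCat.hom_comp, LinearMap.comp_assoc]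
    have hmem : (F.map (f₁ ≫ f₂)).hom ∘ₗ ψ.1 ∈ Groth.Agent.H6.ExtPC.Z E (-n) (F.obj j₂) :=
      Groth.Agent.H6.ExtPC.comp_mem_Z E (-n) _ ψ.1 ψ.2
    have hΦ₂ := Groth.Agent.H6.ExtPC.Φ_comp E (-n) n h (F.map (f₁ ≫ f₂)).hom ψ hmem
    have hzero : Groth.Agent.H6.ExtPC.Φ E (-n) n h (F.obj j₂)
        ⟨(F.map (f₁ ≫ f₂)).hom ∘ₗ ψ.1, hmem⟩ = 0 := by
      have hmem' : ((F.map f₂).hom ∘ₗ χ₁) ∘ₗ (E.d (-n) (-n + 1)).hom ∈
          Groth.Agent.H6.ExtPC.Z E (-n) (F.obj j₂) :=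
        Groth.Agent.H6.ExtPC.comp_d_mem_Z E (-n) _
      have hsub : (⟨(F.map (f₁ ≫ f₂)).hom ∘ₗ ψ.1, hmem⟩ :
          Groth.Agent.H6.ExtPC.Z E (-n) (F.obj j₂)) =
          ⟨((F.map f₂).hom ∘ₗ χ₁) ∘ₗ (E.d (-n) (-n + 1)).hom, hmem'⟩ := Subtype.ext hcob
      rw [hsub]
      exact Groth.Agent.H6.ExtPC.Φ_eq_zero_of_coboundary E (-n) n h _ hmem'
    rw [hzero, hψ, Category.assoc] at hΦ₂
    have hfin := hinj (F.obj j₂) n hn
      (y ≫ (shiftFunctor (Dual.D R) n).map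
          ((DerivedCategory.singleFunctor (ModuleCat.{u} R) 0).map (F.map (f₁ ≫ f₂))))
      hΦ₂.symm
    exact ⟨j₂, f₁ ≫ f₂, hfin⟩

end Groth.Agent.S6999
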