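import Groth.Statements.S7002
import Groth.Agent.H35.SplitTrunc
import Groth.Agent.H35.LTensorCxPerf
import Groth.Agent.H53.LBaseChange

set_option autoImplicit false
universe u
open CategoryTheory CategoryTheory.Limits
attribute [local instance] HasDerivedCategory.standard
open DRing

namespace Groth.Agent.S7002

/-- Let R be a commutative ring, p a prime ideal of R with residue field κ(p), such that the derived
base change D(R) → D(κ(p)) exists; let i be an integer and K a cochain complex of R-modules which is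
pseudo-coherent in D(R) and satisfies H^i(K ⊗^L_R κ(p)) = 0. Then there is an element f ∈ R with f ∉
p such that, for the termwise localization K_f of K over R_f, the truncation τ_(≥ i+1) K_f is
perfect in D(R_f), its tor amplitude lying in [i+1, b] for some integer b, and K_f ≅ τ_(≥ i+1) K_f ⊕
τ_(≤ i-1) K_f in D(R_f) by an isomorphism carrying K_f → τ_(≥ i+1) K_f to the first projection and
τ_(≤ i-1) K_f → K_f to the second inclusion. -/
theorem result (R : Type u) [CommRing R]
    (p : Ideal R) [p.IsPrime] [DRing.HasLBaseChange (algebraMap R p.ResidueField)] (i : ℤ) (K : DRing.Cx R)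
    (hK : DRing.IsPseudoCoherent' R (DRing.toD K))
    (hi : Subsingleton (Dual.HD p.ResidueField ((DRing.LBaseChange (algebraMap R p.ResidueField)).obj (DRing.toD K)) i)) :
    ∃ f : R, f ∉ p ∧
      let Kf := DRing.toD (((ModuleCat.extendScalars (algebraMap R (Localization.Away f))).mapHomologicalComplex
        (ComplexShape.up ℤ)).obj K)
      let t := (DerivedCategory.TStructure.t : Triangulated.TStructure (Dual.D (Localization.Away f)))
      let Kge := (t.truncGE (i + 1)).obj Kf
      let Klt := (t.truncLT i).obj Kf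
      DRing.IsPerfect (Localization.Away f) Kge ∧
        (∃ b : ℤ, DRing.HasTorAmplitudeIn (Localization.Away f) (i + 1) b Kge) ∧
        ∀ [HasBinaryBiproduct Kge Klt], ∃ e : Kf ≅ Kge ⊞ Klt,
          e.hom ≫ biprod.fst = (t.truncGEπ (i + 1)).app Kf ∧ (t.truncLTι i).app Kf ≫ e.hom = biprod.inr := by
  classical
  obtain ⟨F, c, hFc, hFf, ⟨eF⟩⟩ := hK
  have hFp := Groth.Agent.H35.LTC.finiteProjective_of_free hFf
  have hFK : DRing.IsKFlat R F :=
    Groth.Agent.H35.LTC.isKFlat_of_bddAbove_finiteProjective F c hFc hFp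
  -- exactness of the fibre complex in degree `i`
  have hex : ((Groth.Agent.H35.FlatBC.extCx (algebraMap R p.ResidueField)).obj F).ExactAt i := by
    rw [Groth.Agent.H35.TorAmp.exactAt_iff_isZero_H]
    have e := Groth.Agent.H53.LBaseChange.objIso' (algebraMap R p.ResidueField) F hFK eF
    have hz : IsZero ((DerivedCategory.homologyFunctor (ModuleCat.{u} p.ResidueField) i).obj
        ((DRing.LBaseChange (algebraMap R p.ResidueField)).obj (DRing.toD K))) :=
      ModuleCat.isZero_of_subsingleton _
    exact hz.of_iso ((DerivedCategory.homologyFunctor (ModuleCat.{u} p.ResidueField) i).mapIso e)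
  obtain ⟨w, hw, hs, ht, hst⟩ :=
    Groth.Agent.H35.SplitSpreadCx.exists_contraction_near_prime F hFf p i hex
  refine ⟨w, hw, ?_⟩
  intro Kf t Kge Klt
  let ψ : R →+* Localization.Away w := algebraMap R (Localization.Away w)
  let G : DRing.Cx (Localization.Away w) := (Groth.Agent.H35.FlatBC.extCx ψ).obj F
  let u : Localization.Away w := IsLocalization.Away.invSelf w
  have hu : u * ψ w = 1 := by
    rw [mul_comm]
    exact IsLocalization.Away.mul_invSelf w
  let s' : G.X (i + 1) ⟶ G.X i := u • (Groth.Agent.H35.FlatBC.ext ψ).map hs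
  let t' : G.X i ⟶ G.X (i - 1) := u • (Groth.Agent.H35.FlatBC.ext ψ).map ht
  have hst' : t' ≫ G.d (i - 1) i + G.d i (i + 1) ≫ s' = 𝟙 (G.X i) := by
    have h1 := congrArg (fun z => (Groth.Agent.H35.FlatBC.ext ψ).map z) hst
    simp only [Functor.map_add, Functor.map_comp] at h1
    rw [Groth.Agent.H35.SplitSpreadCx.ext_map_smul_id] at h1
    have h2 := congrArg (fun z => u • z) h1
    simp only [smul_add, smul_smul, hu, one_smul] at h2
    refine Eq.trans ?_ h2
    show (u • (Groth.Agent.H35.FlatBC.ext ψ).map ht) ≫ (Groth.Agent.H35.FlatBC.ext ψ).map (F.d (i - 1) i) +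
      (Groth.Agent.H35.FlatBC.ext ψ).map (F.d i (i + 1)) ≫ (u • (Groth.Agent.H35.FlatBC.ext ψ).map hs) = _
    rw [Linear.smul_comp, Linear.comp_smul]
  obtain ⟨hGex, ρ, hρ⟩ :=
    Groth.Agent.H35.SplitSpreadCx.exactAt_and_retract_of_contraction G i s' t' hst'
  have hGc : DRing.VanishesAbove G c := Groth.Agent.H35.FlatBC.vanishesAbove_ext ψ F c hFc
  have hGfp : DRing.TermwiseFiniteProjective G := by
    intro j
    have := (hFp j).1
    have := (hFp j).2
    exact ⟨Groth.Agent.H35.FlatBC.finite_ext ψ (F.X j),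
      Groth.Agent.H35.FlatBC.projective_ext ψ (F.X j)⟩
  -- the comparison `K_f ≅ G` in `D(R_f)`
  have hψ : ψ.Flat := RingHom.flat_algebraMap_iff.2 inferInstance
  have : PreservesFiniteLimits (Groth.Agent.H35.FlatBC.ext ψ) :=
    ModuleCat.preservesFiniteLimits_extendScalars_of_flat hψ
  have : PreservesFiniteColimits (Groth.Agent.H35.FlatBC.ext ψ) := inferInstance
  let eY : Kf ≅ DRing.toD G :=
    ((Groth.Agent.H35.FlatBC.ext ψ).mapDerivedCategoryFactors.app K).symm ≪≫
      (Groth.Agent.H35.FlatBC.ext ψ).mapDerivedCategory.mapIso eF.symm ≪≫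
      ((Groth.Agent.H35.FlatBC.ext ψ).mapDerivedCategoryFactors.app F)
  exact Groth.Agent.H35.SplitTrunc.main G c i hGc hGfp hGex ρ hρ Kf eY

end Groth.Agent.S7002
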