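import Groth.Statements.S7003
import Groth.Agent.H56.SplitTrunc
-- import your own Groth.Agent.* helpers here

set_option autoImplicit false
universe u
open CategoryTheory CategoryTheory.Limits
attribute [local instance] HasDerivedCategory.standard
open DRing

namespace Groth.Agent.S7003

open DerivedCategory DerivedCategory.TStructure


/-- Let R be a commutative ring, a an integer and K an object of D(R) whose cohomology vanishes in large
degrees. Assume that for every injective R-linear map M → M' the induced map Hom(K, M[-a]) → Hom(K,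
M'[-a]) in D(R) is injective. Then K ≅ τ_(≤ a) K ⊕ τ_(≥ a+1) K by an isomorphism carrying τ_(≤ a) K
→ K to the first inclusion and K → τ_(≥ a+1) K to the second projection, and τ_(≥ a+1) K is
isomorphic in D(R) to a complex of projective modules vanishing outside [a+1, b] for some integer b.
(The published statement also asserts that the decomposition is unique; that part is not restated.) -/
theorem result (R : Type u) [CommRing R] (a : ℤ) (K : Dual.D R)
    (hKb : ∃ b : ℤ, ∀ i : ℤ, b < i → Subsingleton (Dual.HD R K i))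
    (h : ∀ (M M' : Type u) [AddCommGroup M] [Module R M] [AddCommGroup M'] [Module R M'] (g : M →ₗ[R] M'),
      Function.Injective g → Function.Injective (fun x : K ⟶ (shiftFunctor (Dual.D R) (-a)).obj (Dual.inD R M) =>
        x ≫ (shiftFunctor (Dual.D R) (-a)).map
          ((DerivedCategory.singleFunctor (ModuleCat.{u} R) 0).map (ModuleCat.ofHom g))))
    [HasBinaryBiproduct (((DerivedCategory.TStructure.t : Triangulated.TStructure (Dual.D R)).truncLT (a + 1)).obj K) (((DerivedCategory.TStructure.t : Triangulated.TStructure (Dual.D R)).truncGE (a + 1)).obj K)] :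
    (∃ e : K ≅ ((DerivedCategory.TStructure.t : Triangulated.TStructure (Dual.D R)).truncLT (a + 1)).obj K ⊞ ((DerivedCategory.TStructure.t : Triangulated.TStructure (Dual.D R)).truncGE (a + 1)).obj K,
      ((DerivedCategory.TStructure.t : Triangulated.TStructure (Dual.D R)).truncLTι (a + 1)).app K ≫ e.hom = biprod.inl ∧
        e.hom ≫ biprod.snd = ((DerivedCategory.TStructure.t : Triangulated.TStructure (Dual.D R)).truncGEπ (a + 1)).app K) ∧
      ∃ (P : DRing.Cx R) (b : ℤ), DRing.VanishesOutside P (a + 1) b ∧ (∀ i : ℤ, Module.Projective R (P.X i)) ∧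
        Nonempty (DRing.toD P ≅ ((DerivedCategory.TStructure.t : Triangulated.TStructure (Dual.D R)).truncGE (a + 1)).obj K) := by
  obtain ⟨b, hb⟩ := hKb
  have hKb' : ∀ i : ℤ, b < i → IsZero ((homologyFunctor (ModuleCat.{u} R) i).obj K) :=
    fun i hi => by
      have := hb i hi
      exact ModuleCat.isZero_of_subsingleton _
  have hext : ∀ (M : ModuleCat.{u} R)
      (ξ : (t.truncGE (a + 1)).obj K ⟶ ((singleFunctor (ModuleCat.{u} R) 0).obj M)⟦-a⟧),
      ξ = 0 := by
    intro M ξ
    obtain ⟨I, hI, u, hu⟩ : ∃ (I : ModuleCat.{u} R) (_ : Injective I) (u : M ⟶ I), Mono u :=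
      ⟨Injective.under M, inferInstance, Injective.ι M, inferInstance⟩
    have hinj := h M I u.hom ((ModuleCat.mono_iff_injective _).1 hu)
    have hGE : ((t.truncGE (a + 1)).obj K).IsGE (a + 1) :=
      inferInstanceAs (t.IsGE ((t.truncGE (a + 1)).obj K) (a + 1))
    have h0 : ξ ≫ (shiftFunctor (Dual.D R) (-a)).map
        ((singleFunctor (ModuleCat.{u} R) 0).map (ModuleCat.ofHom u.hom)) = 0 := by
      have h1 := Groth.Agent.H56.hom_to_single_injective_eq_zero I
        ((t.truncGE (a + 1)).obj K) a (a + 1) (by omega)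
        ((ξ ≫ (shiftFunctor (Dual.D R) (-a)).map
          ((singleFunctor (ModuleCat.{u} R) 0).map (ModuleCat.ofHom u.hom))) ≫
          (((singleFunctors (ModuleCat.{u} R)).shiftIso (-a) a 0 (by omega)).app I).hom)
      exact (cancel_mono _).1 (h1.trans zero_comp.symm)
    have h1 : (t.truncGEπ (a + 1)).app K ≫ ξ = 0 := by
      apply hinj
      show ((t.truncGEπ (a + 1)).app K ≫ ξ) ≫ _ = 0 ≫ _
      rw [Category.assoc, h0, comp_zero, zero_comp]
    obtain ⟨ζ, hζ⟩ := Pretriangulated.Triangle.yoneda_exact₃ _
      (t.triangleLTGE_distinguished (a + 1) K) ξ h1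
    have hLE : (((t.truncLT (a + 1)).obj K)⟦(1 : ℤ)⟧).IsLE (a - 1) :=
      t.isLE_shift _ (a + 1 - 1) 1 (a - 1) (by omega)
    have hGE' : (((singleFunctor (ModuleCat.{u} R) 0).obj M)⟦-a⟧).IsGE a :=
      t.isGE_shift _ 0 (-a) a (by omega)
    have hζ0 : ζ = 0 := t.zero_of_isLE_of_isGE ζ (a - 1) a (by omega) hLE hGE'
    rw [hζ, hζ0]
    exact comp_zero
  obtain ⟨h1, P, hP, hproj, e'⟩ :=
    Groth.Agent.H56.split_truncGE_of_ext_vanishing K a b hKb' hext
  exact ⟨h1, P, b, hP, hproj, e'⟩

end Groth.Agent.S7003
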