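import Groth.Statements.S7004
import Groth.Agent.H56.SplitTrunc
-- import your own Groth.Agent.* helpers here

set_option autoImplicit false
universe u
open CategoryTheory CategoryTheory.Limits
attribute [local instance] HasDerivedCategory.standard
open DRing

namespace Groth.Agent.S7004

open DerivedCategory DerivedCategory.TStructure


/-- Let R be a commutative ring, a an integer and K an object of D(R) whose cohomology vanishes in large
degrees, such that Hom(K, M[-a]) = 0 in D(R) for every R-module M. Then K ≅ τ_(≤ a-1) K ⊕ τ_(≥ a+1)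
K by an isomorphism carrying τ_(≤ a-1) K → K to the first inclusion and K → τ_(≥ a+1) K to the
second projection, and τ_(≥ a+1) K is isomorphic in D(R) to a complex of projective modules
vanishing outside [a+1, b] for some integer b. (The published statement also asserts that the
decomposition is unique; that part is not restated.) -/
theorem result (R : Type u) [CommRing R] (a : ℤ) (K : Dual.D R)
    (hKb : ∃ b : ℤ, ∀ i : ℤ, b < i → Subsingleton (Dual.HD R K i))
    (h : ∀ (M : Type u) [AddCommGroup M] [Module R M],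
      Subsingleton (K ⟶ (shiftFunctor (Dual.D R) (-a)).obj (Dual.inD R M)))
    [HasBinaryBiproduct (((DerivedCategory.TStructure.t : Triangulated.TStructure (Dual.D R)).truncLT a).obj K) (((DerivedCategory.TStructure.t : Triangulated.TStructure (Dual.D R)).truncGE (a + 1)).obj K)] :
    (∃ e : K ≅ ((DerivedCategory.TStructure.t : Triangulated.TStructure (Dual.D R)).truncLT a).obj K ⊞ ((DerivedCategory.TStructure.t : Triangulated.TStructure (Dual.D R)).truncGE (a + 1)).obj K,
      ((DerivedCategory.TStructure.t : Triangulated.TStructure (Dual.D R)).truncLTι a).app K ≫ e.hom = biprod.inl ∧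
        e.hom ≫ biprod.snd = ((DerivedCategory.TStructure.t : Triangulated.TStructure (Dual.D R)).truncGEπ (a + 1)).app K) ∧
      ∃ (P : DRing.Cx R) (b : ℤ), DRing.VanishesOutside P (a + 1) b ∧ (∀ i : ℤ, Module.Projective R (P.X i)) ∧
        Nonempty (DRing.toD P ≅ ((DerivedCategory.TStructure.t : Triangulated.TStructure (Dual.D R)).truncGE (a + 1)).obj K) := by
  obtain ⟨b, hb⟩ := hKb
  have hKb' : ∀ i : ℤ, b < i → IsZero ((homologyFunctor (ModuleCat.{u} R) i).obj K) :=
    fun i hi => by
      have := hb i hi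
      exact ModuleCat.isZero_of_subsingleton _
  have hHa : IsZero ((homologyFunctor (ModuleCat.{u} R) a).obj K) := by
    have h0 := Groth.Agent.H56.isZero_homology_of_ext_single_eq_zero K (-a)
      (fun N ξ => (h N).elim ξ 0)
    rwa [neg_neg] at h0
  have hext : ∀ (M : ModuleCat.{u} R)
      (ξ : (t.truncGE (a + 1)).obj K ⟶ ((singleFunctor (ModuleCat.{u} R) 0).obj M)⟦-a⟧),
      ξ = 0 := by
    intro M ξ
    have h1 : (t.truncGEπ (a + 1)).app K ≫ ξ = 0 := (h M).elim _ _
    obtain ⟨ζ, hζ⟩ := Pretriangulated.Triangle.yoneda_exact₃ _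
      (t.triangleLTGE_distinguished (a + 1) K) ξ h1
    have hLE : (((t.truncLT (a + 1)).obj K)⟦(1 : ℤ)⟧).IsLE (a - 1) :=
      t.isLE_shift _ (a + 1 - 1) 1 (a - 1) (by omega)
    have hGE' : (((singleFunctor (ModuleCat.{u} R) 0).obj M)⟦-a⟧).IsGE a :=
      t.isGE_shift _ 0 (-a) a (by omega)
    have hζ0 : ζ = 0 := t.zero_of_isLE_of_isGE ζ (a - 1) a (by omega) hLE hGE'
    rw [hζ, hζ0]
    exact comp_zero
  obtain ⟨⟨e₁, he1, he2⟩, P, hP, hproj, e'⟩ :=
    Groth.Agent.H56.split_truncGE_of_ext_vanishing K a b hKb' hext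
  have hφ : IsIso ((t.natTransTruncLTOfLE a (a + 1) (by omega)).app K) := by
    rw [isIso_iff]
    intro n
    by_cases hn : n < a
    · exact Groth.Agent.H56.isIso_homologyMap_natTransTruncLTOfLE K a (a + 1) n (by omega) hn
    · apply Groth.Agent.H56.isIso_of_isZero'
      · have : ((t.truncLT a).obj K).IsLE (a - 1) :=
          inferInstanceAs (t.IsLE ((t.truncLT a).obj K) (a - 1))
        exact isZero_of_isLE _ (a - 1) n (by omega)
      · by_cases hna : n = a
        · rw [hna]
          have := Groth.Agent.H56.isIso_homologyMap_truncLTι K (a + 1) a (by omega)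
          exact hHa.of_iso (asIso ((homologyFunctor (ModuleCat.{u} R) a).map
            ((t.truncLTι (a + 1)).app K)))
        · have : ((t.truncLT (a + 1)).obj K).IsLE (a + 1 - 1) :=
            inferInstanceAs (t.IsLE ((t.truncLT (a + 1)).obj K) (a + 1 - 1))
          exact isZero_of_isLE _ (a + 1 - 1) n (by omega)
  obtain ⟨φ, hφι, hφiso⟩ : ∃ φ : (t.truncLT a).obj K ⟶ (t.truncLT (a + 1)).obj K,
      φ ≫ (t.truncLTι (a + 1)).app K = (t.truncLTι a).app K ∧ IsIso φ :=
    ⟨_, t.natTransTruncLTOfLE_ι_app a (a + 1) (by omega) K, hφ⟩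
  refine ⟨⟨e₁ ≪≫ biprod.mapIso (asIso φ).symm (Iso.refl _), ?_, ?_⟩, P, b, hP, hproj, e'⟩
  · simp only [Iso.trans_hom, biprod.mapIso_hom, Iso.symm_hom, asIso_inv, Iso.refl_hom]
    rw [← hφι, Category.assoc, reassoc_of% he1, biprod.inl_map, IsIso.hom_inv_id_assoc]
  · simp only [Iso.trans_hom, biprod.mapIso_hom, Iso.symm_hom, asIso_inv, Iso.refl_hom]
    rw [Category.assoc, biprod.map_snd, Category.comp_id, he2]

end Groth.Agent.S7004
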