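import Groth.Statements.S7007
import Groth.Agent.H35.RelFP
import Mathlib

set_option autoImplicit false
universe u
open CAlg

namespace Groth.Agent.S7007

/-- Let R → A be a finite type homomorphism of commutative rings with a surjective R-algebra
homomorphism α : R[x_1, ..., x_n] → A, M an A-module, f_1, ..., f_r elements of A generating the
unit ideal, and for each i a surjective R-algebra homomorphism γ_i : R[z_1, ..., z_(k_i)] → A_(f_i).
Then M is finitely presented as an R[x_1, ..., x_n]-module through α if and only if, for every i,
the localization M_(f_i) is finitely presented as an R[z_1, ..., z_(k_i)]-module through γ_i. -/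
theorem result {R A : Type u} [CommRing R] [CommRing A] [Algebra R A]
    {n : ℕ} (α : MvPolynomial (Fin n) R →ₐ[R] A) (hα : Function.Surjective α) (M : Type u) [AddCommGroup M]
    [Module A M] {r : ℕ} (f : Fin r → A) (hf : Ideal.span (Set.range f) = ⊤) (k : Fin r → ℕ)
    (γ : ∀ i, MvPolynomial (Fin (k i)) R →ₐ[R] Localization.Away (f i)) (hγ : ∀ i, Function.Surjective (γ i)) :
    @Module.FinitePresentation (MvPolynomial (Fin n) R) (M) _ _ (Module.compHom (M) α.toRingHom) ↔
      ∀ i, @Module.FinitePresentation (MvPolynomial (Fin (k i)) R) (LocalizedModule (Submonoid.powers (f i)) M) _ _ (Module.compHom (LocalizedModule (Submonoid.powers (f i)) M) (γ i).toRingHom) := by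
  classical
  constructor
  · intro h i
    exact H35.fp_mv_of_fp α hα M (f i) (γ i) (hγ i) h
  · intro h
    letI mP : Module (MvPolynomial (Fin n) R) M := Module.compHom M α.toRingHom
    choose F hF using fun i => hα (f i)
    have h1 : (1 : A) ∈ Ideal.span (Set.range f) := by
      rw [hf]
      trivial
    have h2 : Ideal.map α (Ideal.span (Set.range F)) = Ideal.span (Set.range f) := by
      rw [Ideal.map_span, ← Set.range_comp]
      congr 2
      funext i
      exact hF i
    rw [← h2] at h1
    obtain ⟨x, hx, hx1⟩ := (Ideal.mem_map_iff_of_surjective α hα).1 h1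
    have hs : Ideal.span (insert (1 - x) (Set.range F)) = ⊤ := by
      rw [Ideal.eq_top_iff_one]
      have h3 : (1 - x) + x ∈ Ideal.span (insert (1 - x) (Set.range F)) :=
        Ideal.add_mem _ (Ideal.subset_span (Set.mem_insert _ _))
          (Ideal.span_mono (Set.subset_insert _ _) hx)
      rwa [sub_add_cancel] at h3
    refine Module.FinitePresentation.of_localizationSpan _ hs ?_
    rintro ⟨g, hg⟩
    rcases hg with rfl | ⟨i, rfl⟩
    · haveI : Subsingleton (LocalizedModule (Submonoid.powers (1 - x)) M) := by
        rw [IsLocalizedModule.subsingleton_iff (Submonoid.powers (1 - x))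
          (LocalizedModule.mkLinearMap (Submonoid.powers (1 - x)) M)]
        intro m
        refine ⟨1 - x, Submonoid.mem_powers _, ?_⟩
        show α (1 - x) • m = 0
        rw [map_sub, map_one, hx1, sub_self, zero_smul]
      exact Module.FinitePresentation.of_subsingleton _
    · show Module.FinitePresentation (Localization.Away (F i))
        (LocalizedModule (Submonoid.powers (F i)) M)
      rw [H35.fp_localizedModule_iff α M (fun _ _ => rfl) (F i)]
      exact H35.fp_away_of_fp_mv α hα M (F i) (f i) (hF i) (γ i) (hγ i) (h i)

end Groth.Agent.S7007
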