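import Groth.Statements.S7008
import Groth.Agent.H56.LocChain
-- import your own Groth.Agent.* helpers here

set_option autoImplicit false
universe u
open CategoryTheory CategoryTheory.Limits
attribute [local instance] HasDerivedCategory.standard
open DerCA

namespace Groth.Agent.S7008

/-- Let R be a commutative ring, f an element of R, A a finite type R_f-algebra, g an element of A, K a
cochain complex of A-modules and m an integer; write K_g for the termwise localization K ⊗_A A_g, a
complex over the finite type R-algebra A_g. Suppose K is m-pseudo-coherent relative to R_f; then K_g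
is m-pseudo-coherent relative to R. Suppose K is pseudo-coherent relative to R_f in every degree;
then so is K_g relative to R. -/
theorem result {R A : Type u} [CommRing R] [CommRing A] (f : R) [Algebra R A]
    [Algebra (Localization.Away f) A] [IsScalarTower R (Localization.Away f) A]
    [Algebra.FiniteType (Localization.Away f) A] (g : A) (K : DRing.Cx A) (m : ℤ) :
    (DerCA.IsRelPseudoCoherent (Localization.Away f) A m (DRing.toD K) →
      DerCA.IsRelPseudoCoherent R (Localization.Away g) m
        (DRing.toD (((ModuleCat.extendScalars (algebraMap A (Localization.Away g))).mapHomologicalComplex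
          (ComplexShape.up ℤ)).obj K))) ∧
      (DerCA.IsRelPseudoCoherentAll (Localization.Away f) A (DRing.toD K) →
        DerCA.IsRelPseudoCoherentAll R (Localization.Away g)
          (DRing.toD (((ModuleCat.extendScalars (algebraMap A (Localization.Away g))).mapHomologicalComplex
            (ComplexShape.up ℤ)).obj K))) := by
  have key : ∀ m : ℤ, DerCA.IsRelPseudoCoherent (Localization.Away f) A m (DRing.toD K) →
      DerCA.IsRelPseudoCoherent R (Localization.Away g) m
        (DRing.toD (((ModuleCat.extendScalars (algebraMap A (Localization.Away g))).mapHomologicalComplex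
          (ComplexShape.up ℤ)).obj K)) := by
    intro m hyp
    obtain ⟨n, α, hα⟩ := Algebra.FiniteType.iff_quotient_mvPolynomial''.1
      (inferInstance : Algebra.FiniteType (Localization.Away f) A)
    have hP := (Groth.Agent.H56.isRelPseudoCoherent_iff_via α hα m _).1 hyp
    obtain ⟨G, rfl⟩ := hα g
    haveI : IsLocalization.Away ((α : MvPolynomial (Fin n) (Localization.Away f) →+* A) G)
        (Localization.Away (α G)) :=
      (inferInstance : IsLocalization.Away (α G) (Localization.Away (α G)))
    obtain ⟨δ, hδs, hδC, hδ⟩ := Groth.Agent.H56.FlatPc.exists_core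
      (α : MvPolynomial (Fin n) (Localization.Away f) →+* A) hα G (Localization.Away (α G)) K
    have h1 := (hδ m).2 (Groth.Agent.H56.FlatPc.isPseudoCoherent_map_ext _ _ m hP)
    obtain ⟨Ψ, hΨ, hΨs, hΨC⟩ :=
      Groth.Agent.H56.FlatPc.exists_pcHom_chain R (Localization.Away f) f n
    have h2 := (hΨ.transfer δ _ m).2 h1
    refine (Groth.Agent.H56.FlatPc.isRelPseudoCoherent_iff_of_ringHom (δ.comp Ψ)
      (hδs.comp hΨs) ?_ _ m).2 h2
    intro r
    show δ (Ψ (MvPolynomial.C r)) = _
    rw [hΨC, hδC]
    have h3 : (α : MvPolynomial (Fin n) (Localization.Away f) →+* A)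
        (MvPolynomial.C (algebraMap R (Localization.Away f) r)) =
        algebraMap (Localization.Away f) A (algebraMap R (Localization.Away f) r) :=
      MvPolynomial.algHom_C α _
    rw [h3, ← IsScalarTower.algebraMap_apply R (Localization.Away f) A,
      ← IsScalarTower.algebraMap_apply R A (Localization.Away (α G))]
  exact ⟨key m, fun h m' => key m' (h m')⟩

end Groth.Agent.S7008
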