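import Groth.Statements.S7010
import Groth.Agent.H56.StupidInd
import Mathlib.Algebra.Category.ModuleCat.Biproducts
import Mathlib.RingTheory.Finiteness.Projective
-- import your own Groth.Agent.* helpers here

set_option autoImplicit false
universe u
open CategoryTheory CategoryTheory.Limits
attribute [local instance] HasDerivedCategory.standard
open DRing

namespace Groth.Agent.S7010

open CategoryTheory.Pretriangulated in
/-- The inclusion of the perfect objects in the subcategory generated by R: let R be a commutative ring
and P a property of objects of D(R) which is closed under isomorphisms, holds for R[0], is stable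
under all shifts, is closed under extensions (if it holds for the outer terms of a distinguished
triangle it holds for the middle term) and is closed under taking direct summands. Then P holds for
every perfect object of D(R). -/
theorem result (R : Type u) [CommRing R]
    (P : ObjectProperty (Dual.D R)) [P.IsClosedUnderIsomorphisms] (hR : P (Dual.inD R R))
    (hshift : ∀ (K : Dual.D R) (n : ℤ), P K → P ((shiftFunctor (Dual.D R) n).obj K))
    (hext : ∀ T : Triangle (Dual.D R), T ∈ distinguishedTriangles → P T.obj₁ → P T.obj₃ → P T.obj₂)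
    (hsum : ∀ (X Y : Dual.D R) [HasBinaryBiproduct X Y], P (X ⊞ Y) → P X)
    (K : Dual.D R) (hK : DRing.IsPerfect R K) : P K := by
  obtain ⟨E, a, b, hvan, hterm, ⟨e⟩⟩ := hK
  have hzero : ∀ Z : Dual.D R, IsZero Z → P Z := by
    intro Z hZ
    have h1 : P (Z ⊞ Dual.inD R R) := by
      refine P.prop_of_iso ?_ hR
      exact
        { hom := biprod.inr
          inv := biprod.snd
          hom_inv_id := biprod.inr_snd
          inv_hom_id := by
            have h2 := biprod.total (X := Z) (Y := Dual.inD R R)
            rw [hZ.eq_of_tgt biprod.fst 0, zero_comp, zero_add] at h2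
            exact h2 }
    exact hsum Z _ h1
  have hbiprod : ∀ X Y : Dual.D R, P X → P Y → P (X ⊞ Y) := fun X Y hX hY =>
    hext _ (binaryBiproductTriangle_distinguished X Y) hX hY
  have hretract : ∀ (X Y : Dual.D R) (i : X ⟶ Y) (r : Y ⟶ X), i ≫ r = 𝟙 X → P Y → P X := by
    intro X Y i r hir hY
    obtain ⟨C, g, h, hT⟩ := distinguished_cocone_triangle i
    have hz : h = 0 := by
      have h1 : h ≫ i⟦(1 : ℤ)⟧' = 0 := comp_distTriang_mor_zero₃₁ _ hT
      have h2 : i⟦(1 : ℤ)⟧' ≫ r⟦(1 : ℤ)⟧' = 𝟙 _ := by
        rw [← Functor.map_comp, hir, CategoryTheory.Functor.map_id]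
      calc h = h ≫ i⟦(1 : ℤ)⟧' ≫ r⟦(1 : ℤ)⟧' := by rw [h2, Category.comp_id]
        _ = 0 := by rw [reassoc_of% h1, zero_comp]
    obtain ⟨e', -, -⟩ := exists_iso_binaryBiproduct_of_distTriang _ hT hz
    exact hsum X C (P.prop_of_iso e' hY)
  have hfree : ∀ n : ℕ, P ((DerivedCategory.singleFunctor (ModuleCat.{u} R) 0).obj
      (ModuleCat.of R (Fin n → R))) := by
    intro n
    induction n with
    | zero =>
      apply hzero
      apply Functor.map_isZero
      exact ModuleCat.isZero_of_subsingleton _
    | succ n ih =>
      have e1 : ModuleCat.of R (Fin (n + 1) → R) ≅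
          (ModuleCat.of R R ⊞ ModuleCat.of R (Fin n → R) : ModuleCat.{u} R) :=
        (Fin.consLinearEquiv R (fun _ : Fin (n + 1) => R)).symm.toModuleIso ≪≫
          (ModuleCat.biprodIsoProd (ModuleCat.of R R) (ModuleCat.of R (Fin n → R))).symm
      haveI := preservesBinaryBiproducts_of_preservesBiproducts
        (DerivedCategory.singleFunctor (ModuleCat.{u} R) 0)
      have e2 := (DerivedCategory.singleFunctor (ModuleCat.{u} R) 0).mapIso e1 ≪≫
        (DerivedCategory.singleFunctor (ModuleCat.{u} R) 0).mapBiprod _ _
      exact P.prop_of_iso e2.symm (hbiprod _ _ hR ih)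
  have hproj : ∀ (N : ModuleCat.{u} R), Module.Finite R N → Module.Projective R N →
      P ((DerivedCategory.singleFunctor (ModuleCat.{u} R) 0).obj N) := by
    intro N _ _
    obtain ⟨n, f, g, -, -, hfg⟩ := Module.Finite.exists_comp_eq_id_of_projective R N
    refine hretract _ _ ((DerivedCategory.singleFunctor (ModuleCat.{u} R) 0).map (ModuleCat.ofHom g))
      ((DerivedCategory.singleFunctor (ModuleCat.{u} R) 0).map (ModuleCat.ofHom f)) ?_ (hfree n)
    rw [← Functor.map_comp, ← ModuleCat.ofHom_comp, hfg, ModuleCat.ofHom_id,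
      CategoryTheory.Functor.map_id]
  have hsingle : ∀ (N : ModuleCat.{u} R) (j : ℤ), Module.Finite R N → Module.Projective R N →
      P ((DerivedCategory.singleFunctor (ModuleCat.{u} R) j).obj N) := by
    intro N j h1 h2
    have e' : ((DerivedCategory.singleFunctor (ModuleCat.{u} R) 0).obj N)⟦-j⟧ ≅
        (DerivedCategory.singleFunctor (ModuleCat.{u} R) j).obj N :=
      ((DerivedCategory.singleFunctors (ModuleCat.{u} R)).shiftIso (-j) j 0 (by omega)).app N
    exact P.prop_of_iso e' (hshift _ (-j) (hproj N h1 h2))
  refine P.prop_of_iso e ?_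
  exact Groth.Agent.H56.prop_Q_obj_of_bounded P hzero hext ((b - a + 1).toNat) E a b (by omega)
    hvan (fun i => hsingle (E.X i) i (hterm i).1 (hterm i).2)

end Groth.Agent.S7010
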