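import Groth.Statements.S7016
import Mathlib
import Groth.Agent.H6.ExactPairingMap
import Groth.Agent.H6.GradedDual

set_option autoImplicit false
universe u
open CategoryTheory CategoryTheory.Limits
attribute [local instance] HasDerivedCategory.standard
open DRing

namespace Groth.Agent.S7016

open MonoidalCategory in
/-- Let R be a commutative ring and M, N cochain complexes of R-modules such that N is a left dual of M
for the tensor product of cochain complexes of R-modules (coevaluation R[0] → M ⊗ N and evaluation N
⊗ M → R[0] with the triangle identities, an exact pairing). Then M and N are bounded and every term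
M^n, N^n is a finitely generated projective R-module. -/
theorem result (R : Type u) [CommRing R] (M N : DRing.Cx R)
    [ExactPairing M N] :
    (∃ a b : ℤ, DRing.VanishesOutside M a b) ∧ (∃ a b : ℤ, DRing.VanishesOutside N a b) ∧
      DRing.TermwiseFiniteProjective M ∧ DRing.TermwiseFiniteProjective N := by
  letI hF : (HomologicalComplex.forget (ModuleCat.{u} R) (ComplexShape.up ℤ)).Monoidal :=
    Monoidal.fromInducedMonoidal _ (HomologicalComplex.Monoidal.inducingFunctorData _ _)
  letI P1 : ExactPairing ((HomologicalComplex.forget (ModuleCat.{u} R) (ComplexShape.up ℤ)).obj M)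
      ((HomologicalComplex.forget (ModuleCat.{u} R) (ComplexShape.up ℤ)).obj N) :=
    Groth.Agent.H6.ExactPairingMap.exactPairingMap
      (HomologicalComplex.forget (ModuleCat.{u} R) (ComplexShape.up ℤ)) M N
  letI P2 : ExactPairing ((HomologicalComplex.forget (ModuleCat.{u} R) (ComplexShape.up ℤ)).obj N)
      ((HomologicalComplex.forget (ModuleCat.{u} R) (ComplexShape.up ℤ)).obj M) :=
    CategoryTheory.BraidedCategory.exactPairing_swap _ _
  obtain ⟨⟨S, hS⟩, hfp⟩ := Groth.Agent.H6.GradedDual.main
    ((HomologicalComplex.forget (ModuleCat.{u} R) (ComplexShape.up ℤ)).obj M)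
    ((HomologicalComplex.forget (ModuleCat.{u} R) (ComplexShape.up ℤ)).obj N)
  obtain ⟨⟨S', hS'⟩, hfp'⟩ := Groth.Agent.H6.GradedDual.main
    ((HomologicalComplex.forget (ModuleCat.{u} R) (ComplexShape.up ℤ)).obj N)
    ((HomologicalComplex.forget (ModuleCat.{u} R) (ComplexShape.up ℤ)).obj M)
  have bdd : ∀ (T : Finset ℤ) (K : DRing.Cx R), (∀ n, n ∉ T → IsZero (K.X n)) →
      ∃ a b : ℤ, DRing.VanishesOutside K a b := by
    intro T K hT
    obtain ⟨b, hb⟩ := T.finite_toSet.bddAbove
    obtain ⟨a, ha⟩ := T.finite_toSet.bddBelow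
    refine ⟨a, b, fun i hi => hT i (fun hmem => ?_)⟩
    have h1 : a ≤ i := ha (Finset.mem_coe.2 hmem)
    have h2 : i ≤ b := hb (Finset.mem_coe.2 hmem)
    rcases hi with hi | hi
    · exact absurd h1 (not_le.2 hi)
    · exact absurd h2 (not_le.2 hi)
  exact ⟨bdd S M hS, bdd S' N hS', fun i => hfp i, fun i => hfp' i⟩

end Groth.Agent.S7016
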