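import Groth.Statements.S7020
import Groth.Agent.H56.RelPC
-- import your own Groth.Agent.* helpers here

set_option autoImplicit false
universe u
open CategoryTheory CategoryTheory.Limits
attribute [local instance] HasDerivedCategory.standard
open DerCA

namespace Groth.Agent.S7020

open CategoryTheory.Pretriangulated in
/-- Let R → A be a finite type homomorphism of commutative rings, m an integer and K → L → M → K[1] a
distinguished triangle in D(A); all pseudo-coherence below is relative to R. (1) M is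
m-pseudo-coherent when K is (m+1)-pseudo-coherent and L is m-pseudo-coherent. (2) L is
m-pseudo-coherent when K and M are. (3) K is (m+1)-pseudo-coherent when L is (m+1)-pseudo-coherent
and M is m-pseudo-coherent. (4) Pseudo-coherence in every degree of any two of K, L, M implies that
of the third. -/
theorem result {R A : Type u} [CommRing R] [CommRing A] [Algebra R A] [Algebra.FiniteType R A] (m : ℤ) (T : Triangle (Dual.D A))
    (hT : T ∈ distinguishedTriangles) :
    (DerCA.IsRelPseudoCoherent R A (m + 1) T.obj₁ → DerCA.IsRelPseudoCoherent R A m T.obj₂ →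
        DerCA.IsRelPseudoCoherent R A m T.obj₃) ∧
      (DerCA.IsRelPseudoCoherent R A m T.obj₁ → DerCA.IsRelPseudoCoherent R A m T.obj₃ →
        DerCA.IsRelPseudoCoherent R A m T.obj₂) ∧
      (DerCA.IsRelPseudoCoherent R A (m + 1) T.obj₂ → DerCA.IsRelPseudoCoherent R A m T.obj₃ →
        DerCA.IsRelPseudoCoherent R A (m + 1) T.obj₁) ∧
      ((DerCA.IsRelPseudoCoherentAll R A T.obj₁ → DerCA.IsRelPseudoCoherentAll R A T.obj₂ →
          DerCA.IsRelPseudoCoherentAll R A T.obj₃) ∧
        (DerCA.IsRelPseudoCoherentAll R A T.obj₁ → DerCA.IsRelPseudoCoherentAll R A T.obj₃ →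
          DerCA.IsRelPseudoCoherentAll R A T.obj₂) ∧
        (DerCA.IsRelPseudoCoherentAll R A T.obj₂ → DerCA.IsRelPseudoCoherentAll R A T.obj₃ →
          DerCA.IsRelPseudoCoherentAll R A T.obj₁)) := by
  obtain ⟨n, α, hα⟩ := Algebra.FiniteType.iff_quotient_mvPolynomial''.1
    (inferInstance : Algebra.FiniteType R A)
  have key := Groth.Agent.H56.isRelPseudoCoherent_iff_via α hα
  have hT' := (DRing.restrictD (α : MvPolynomial (Fin n) R →+* A)).map_distinguished _ hT
  have t1 : ∀ m' : ℤ, DerCA.IsRelPseudoCoherent R A (m' + 1) T.obj₁ →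
      DerCA.IsRelPseudoCoherent R A m' T.obj₂ → DerCA.IsRelPseudoCoherent R A m' T.obj₃ := by
    intro m' h₁ h₂
    rw [key] at h₁ h₂ ⊢
    exact Groth.Agent.H56.isPseudoCoherent_obj₃ _ hT' m' h₁ h₂
  have t2 : ∀ m' : ℤ, DerCA.IsRelPseudoCoherent R A m' T.obj₁ →
      DerCA.IsRelPseudoCoherent R A m' T.obj₃ → DerCA.IsRelPseudoCoherent R A m' T.obj₂ := by
    intro m' h₁ h₃
    rw [key] at h₁ h₃ ⊢
    exact Groth.Agent.H56.isPseudoCoherent_obj₂ _ hT' m' h₁ h₃
  have t3 : ∀ m' : ℤ, DerCA.IsRelPseudoCoherent R A (m' + 1) T.obj₂ →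
      DerCA.IsRelPseudoCoherent R A m' T.obj₃ → DerCA.IsRelPseudoCoherent R A (m' + 1) T.obj₁ := by
    intro m' h₂ h₃
    rw [key] at h₂ h₃ ⊢
    exact Groth.Agent.H56.isPseudoCoherent_obj₁ _ hT' m' h₂ h₃
  refine ⟨t1 m, t2 m, t3 m, ?_, ?_, ?_⟩
  · intro h₁ h₂ m'
    exact t1 m' (h₁ (m' + 1)) (h₂ m')
  · intro h₁ h₃ m'
    exact t2 m' (h₁ m') (h₃ m')
  · intro h₂ h₃ m'
    have h := t3 (m' - 1) (by rw [sub_add_cancel]; exact h₂ m') (h₃ (m' - 1))
    rwa [sub_add_cancel] at h

end Groth.Agent.S7020
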