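import Groth.Statements.S7023
import Groth.Agent.H56.RelPC
-- import your own Groth.Agent.* helpers here

set_option autoImplicit false
universe u
open CategoryTheory CategoryTheory.Limits
attribute [local instance] HasDerivedCategory.standard
open DerCA

namespace Groth.Agent.S7023

/-- Let R → A be a finite type homomorphism of commutative rings, m an integer and K a bounded above
cochain complex of A-modules such that the module K^i is (m - i)-pseudo-coherent relative to R for
every i. Then K is m-pseudo-coherent relative to R. Moreover, K is pseudo-coherent over R as soon as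
each of its terms K^i is so. -/
theorem result {R A : Type u} [CommRing R] [CommRing A] [Algebra R A] [Algebra.FiniteType R A] (m : ℤ) (K : DRing.Cx A) (b : ℤ)
    (hb : DRing.VanishesAbove K b) :
    ((∀ i : ℤ, DerCA.IsRelPseudoCoherentModule R A (m - i) (K.X i)) → DerCA.IsRelPseudoCoherent R A m (DRing.toD K)) ∧
      ((∀ i : ℤ, DerCA.IsRelPseudoCoherentModuleAll R A (K.X i)) →
        DerCA.IsRelPseudoCoherentAll R A (DRing.toD K)) := by
  obtain ⟨n, α, hα⟩ := Algebra.FiniteType.iff_quotient_mvPolynomial''.1
    (inferInstance : Algebra.FiniteType R A)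
  have key := Groth.Agent.H56.isRelPseudoCoherent_iff_via α hα
  have t : ∀ m' : ℤ, (∀ i : ℤ, DerCA.IsRelPseudoCoherentModule R A (m' - i) (K.X i)) →
      DerCA.IsRelPseudoCoherent R A m' (DRing.toD K) := by
    intro m' h
    rw [key]
    apply Groth.Agent.H56.isPseudoCoherent_restrictD_termwise _ m' K b hb
    intro i
    exact (key (m' - i) _).1 (h i)
  exact ⟨t m, fun h m' => t m' (fun i => h i (m' - i))⟩

end Groth.Agent.S7023
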