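import Groth.Statements.S7025
import Groth.Agent.S6986

set_option autoImplicit false
set_option linter.style.haveILetI false
universe u
open CategoryTheory CategoryTheory.Limits
attribute [local instance] HasDerivedCategory.standard
open DerCA

namespace Groth.Agent.S7025

open DRing DerivedCategory Groth.Agent.H56 Groth.Agent.H35.FlatBC

section Aux

variable {A B : Type u} [CommRing A] [CommRing B]

set_option backward.isDefEq.respectTransparency false in
theorem nonempty_iso_bc (φ : A →+* B) (hφ : φ.Flat) [DRing.HasLBaseChange φ] (M : Type u)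
    [AddCommGroup M] [Module A M] :
    letI := algOf φ
    Nonempty ((DRing.LBaseChange φ).obj (Dual.inD A M) ≅ Dual.inD B (TensorProduct A B M)) := by
  letI := algOf φ
  haveI : (Dual.inD A M).IsLE 0 := by
    unfold Dual.inD
    infer_instance
  obtain ⟨F, hFv, hFfree, ⟨eF⟩⟩ := Groth.Agent.H35.TorAmp.exists_free_model_of_isLE (Dual.inD A M) 0
  have hFK : DRing.IsKFlat A F := Groth.Agent.H31.KFlatRing.isKFlat_of_bounded_above_flat F 0 hFv
    (Groth.Agent.H35.TorAmp.free_flat F hFfree)
  obtain ⟨e'⟩ := exists_iso φ hφ F (ModuleCat.of A M) eF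
  exact ⟨(Groth.Agent.H53.LBaseChange.objIso' φ F hFK eF).symm ≪≫ e'⟩

theorem nonempty_iso_baseChange [Algebra A B] [Module.Flat A B]
    [DRing.HasLBaseChange (algebraMap A B)] (M : Type u) [AddCommGroup M] [Module A M] :
    Nonempty ((DRing.LBaseChange (algebraMap A B)).obj (Dual.inD A M) ≅
      Dual.inD B (TensorProduct A B M)) := by
  have h := nonempty_iso_bc (algebraMap A B) (RingHom.flat_algebraMap_iff.2 inferInstance) M
  rw [algOf_eq] at h
  exact h

end Aux

theorem key {R A B : Type u} [CommRing R]
    [CommRing A] [CommRing B] [Algebra R A] [Algebra A B] [Algebra R B] [IsScalarTower R A B]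
    [Algebra.FiniteType R A] [Algebra.FiniteType A B] [Module.Flat A B]
    (hB : DerCA.IsRelPseudoCoherentModuleAll A B B) (m : ℤ) (M : Type u) [AddCommGroup M] [Module A M]
    (h : DerCA.IsRelPseudoCoherentModule R A m M) :
    DerCA.IsRelPseudoCoherentModule R B m (TensorProduct A B M) := by
  haveI : DRing.HasLBaseChange (algebraMap A B) := Groth.Agent.H35.HasLBC.hasLBaseChange _
  obtain ⟨n, α, hα, hK⟩ := (Groth.Agent.S6986.result hB (Dual.inD A M) m).1 h
  obtain ⟨e⟩ := nonempty_iso_baseChange (A := A) (B := B) M
  exact ⟨n, α, hα, isPseudoCoherent_of_iso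
    ((restrictD (α : MvPolynomial (Fin n) R →+* B)).mapIso e) m hK⟩

/-- Let R → A → B be finite type homomorphisms of commutative rings such that B is A-flat and the
B-module B is pseudo-coherent relative to A. Let m be an integer and M an A-module. Whenever M is
m-pseudo-coherent relative to R, the B-module B ⊗_A M is again m-pseudo-coherent over R; likewise,
relative pseudo-coherence of M over R (in all degrees) passes to B ⊗_A M. -/
theorem result {R A B : Type u} [CommRing R]
    [CommRing A] [CommRing B] [Algebra R A] [Algebra A B] [Algebra R B] [IsScalarTower R A B]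
    [Algebra.FiniteType R A] [Algebra.FiniteType A B] [Module.Flat A B]
    (hB : DerCA.IsRelPseudoCoherentModuleAll A B B) (m : ℤ) (M : Type u) [AddCommGroup M] [Module A M] :
    (DerCA.IsRelPseudoCoherentModule R A m M → DerCA.IsRelPseudoCoherentModule R B m (TensorProduct A B M)) ∧
      (DerCA.IsRelPseudoCoherentModuleAll R A M →
        DerCA.IsRelPseudoCoherentModuleAll R B (TensorProduct A B M)) :=
  ⟨key hB m M, fun h m' => key hB m' M (h m')⟩

end Groth.Agent.S7025
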