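import Groth.Statements.S7026
import Groth.Agent.H56.RelPC
-- import your own Groth.Agent.* helpers here

set_option autoImplicit false
universe u
open CategoryTheory CategoryTheory.Limits
attribute [local instance] HasDerivedCategory.standard
open DerCA

namespace Groth.Agent.S7026

/-- Let R be a Noetherian commutative ring, R → A a finite type ring homomorphism, m an integer, K an
object of D(A) and M an A-module. Then: m-pseudo-coherence of K relative to R is equivalent to
H^i(K) vanishing for all large i together with H^i(K) being a finitely generated A-module for each i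
≥ m; pseudo-coherence of K relative to R (every degree) is equivalent to the same with H^i(K)
finitely generated for every i; and the A-module M is pseudo-coherent relative to R exactly when M
is finitely generated. -/
theorem result {R A : Type u} [CommRing R]
    [IsNoetherianRing R] [CommRing A] [Algebra R A] [Algebra.FiniteType R A] (m : ℤ) (K : Dual.D A)
    (M : Type u) [AddCommGroup M] [Module A M] :
    (DerCA.IsRelPseudoCoherent R A m K ↔
      (∃ b : ℤ, ∀ i : ℤ, b < i → Subsingleton (Dual.HD A K i)) ∧ ∀ i : ℤ, m ≤ i → Module.Finite A (Dual.HD A K i)) ∧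
    (DerCA.IsRelPseudoCoherentAll R A K ↔
      (∃ b : ℤ, ∀ i : ℤ, b < i → Subsingleton (Dual.HD A K i)) ∧ ∀ i : ℤ, Module.Finite A (Dual.HD A K i)) ∧
    (DerCA.IsRelPseudoCoherentModuleAll R A M ↔ Module.Finite A M) := by
  obtain ⟨n, α, hα⟩ := Algebra.FiniteType.iff_quotient_mvPolynomial''.1
    (inferInstance : Algebra.FiniteType R A)
  have key := Groth.Agent.H56.isRelPseudoCoherent_iff_via α hα
  have bd : (∃ c : ℤ, DerivedCategory.IsLE K c) ↔
      ∃ b : ℤ, ∀ i : ℤ, b < i → Subsingleton (Dual.HD A K i) := by
    constructor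
    · rintro ⟨c, hc⟩
      exact ⟨c, fun i hi => ModuleCat.subsingleton_of_isZero
        (DerivedCategory.isZero_of_isLE K c i hi)⟩
    · rintro ⟨c, hc⟩
      refine ⟨c, ?_⟩
      rw [DerivedCategory.isLE_iff]
      intro i hi
      haveI := hc i hi
      exact ModuleCat.isZero_of_subsingleton _
  have t1 : ∀ m' : ℤ, DerCA.IsRelPseudoCoherent R A m' K ↔
      (∃ b : ℤ, ∀ i : ℤ, b < i → Subsingleton (Dual.HD A K i)) ∧
        ∀ i : ℤ, m' ≤ i → Module.Finite A (Dual.HD A K i) := by
    intro m'
    rw [key, Groth.Agent.H56.isPseudoCoherent_restrictD_iff_of_noetherian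
      (α : MvPolynomial (Fin n) R →+* A) hα, bd]
  refine ⟨t1 m, ?_, ?_⟩
  · constructor
    · intro h
      exact ⟨((t1 0).1 (h 0)).1, fun i => ((t1 i).1 (h i)).2 i le_rfl⟩
    · rintro ⟨hb, hf⟩ m'
      exact (t1 m').2 ⟨hb, fun i _ => hf i⟩
  · constructor
    · intro h
      have h0 := (key 0 _).1 (h 0)
      have h1 := (Groth.Agent.H56.isPseudoCoherent_restrictD_single_iff
        (α : MvPolynomial (Fin n) R →+* A) (ModuleCat.of A M) 0).1 h0
      have h2 := (Groth.Agent.H56.isPseudoCoherent_zero_single_iff _).1 h1
      exact (Groth.Agent.H56.finite_restrictScalars_iff_of_surjective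
        (α : MvPolynomial (Fin n) R →+* A) hα (ModuleCat.of A M)).1 h2
    · intro h m'
      apply (key m' _).2
      apply (Groth.Agent.H56.isPseudoCoherent_restrictD_single_iff
        (α : MvPolynomial (Fin n) R →+* A) (ModuleCat.of A M) m').2
      exact Groth.Agent.H56.isPseudoCoherent_single_finite _
        ((Groth.Agent.H56.finite_restrictScalars_iff_of_surjective
        (α : MvPolynomial (Fin n) R →+* A) hα (ModuleCat.of A M)).2 h) m'

end Groth.Agent.S7026
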