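import Groth.Statements.S7029
import Groth.Agent.H56.PerfectCx
-- import your own Groth.Agent.* helpers here

set_option autoImplicit false
universe u
open CategoryTheory CategoryTheory.Limits
attribute [local instance] HasDerivedCategory.standard
open DRing

namespace Groth.Agent.S7029

/-- Let R be a commutative ring such that the derived tensor product - ⊗^L_R M exists on D(R) for every
R-module M, and let K be a bounded cochain complex of R-modules each term of which is a perfect
R-module. Then K is a perfect object of D(R). -/
theorem result (R : Type u) [CommRing R] [∀ M : ModuleCat.{u} R, DRing.HasLTensor R M] (K : DRing.Cx R)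
    (a b : ℤ) (hab : DRing.VanishesOutside K a b) (hK : ∀ i : ℤ, DRing.IsPerfectModule R (K.X i)) :
    DRing.IsPerfect R (DRing.toD K) := by
  let P : ObjectProperty (Dual.D R) := fun K => DRing.IsPerfect R K
  haveI : P.IsClosedUnderIsomorphisms := ⟨fun e h => Groth.Agent.H56.isPerfect_of_iso e h⟩
  exact Groth.Agent.H56.prop_Q_obj_of_bounded P
    (fun Z hZ => Groth.Agent.H56.isPerfect_of_isZero hZ)
    (fun T hT h1 h3 => Groth.Agent.H56.isPerfect_obj₂ T hT h1 h3)
    ((b - a + 1).toNat) K a b (by omega) hab
    (fun i => Groth.Agent.H56.isPerfect_single (K.X i) i (hK i))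

end Groth.Agent.S7029
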