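import Groth.Statements.S7031
import Groth.Agent.S7030
import Groth.Agent.S6962

set_option autoImplicit false
universe u
open CategoryTheory CategoryTheory.Limits
attribute [local instance] HasDerivedCategory.standard
open DRing

namespace Groth.Agent.S7031

/-- Let R be a regular commutative ring (Noetherian, with regular local rings at all primes) such that
the derived tensor product - ⊗^L_R M exists on D(R) for every R-module M, and let K be an object of
D(R). Then K is perfect if and only if H^i(K) = 0 outside a bounded range of degrees and every
H^i(K) is a finitely generated R-module. -/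
theorem result (R : Type u) [CommRing R] [IsNoetherianRing R]
    (hreg : ∀ p : PrimeSpectrum R, IsRegularLocalRing (Localization.AtPrime p.asIdeal)) [∀ M : ModuleCat.{u} R, DRing.HasLTensor R M] (K : Dual.D R) :
    DRing.IsPerfect R K ↔
      (∃ a b : ℤ, ∀ i : ℤ, (i < a ∨ b < i) → Subsingleton (Dual.HD R K i)) ∧ ∀ i : ℤ, Module.Finite R (Dual.HD R K i) := by
  constructor
  · rintro ⟨E, a, b, hv, hfp, ⟨e⟩⟩
    have eH : ∀ i : ℤ, (DerivedCategory.homologyFunctor (ModuleCat.{u} R) i).obj K ≅ E.homology i :=
      fun i => ((DerivedCategory.homologyFunctor (ModuleCat.{u} R) i).mapIso e).symm ≪≫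
        (DerivedCategory.homologyFunctorFactors (ModuleCat.{u} R) i).app E
    constructor
    · refine ⟨a, b, fun i hi => ?_⟩
      have hex : (E.sc i).Exact := ShortComplex.exact_of_isZero_X₂ _ (hv i hi)
      have hz : IsZero (E.homology i) := (ShortComplex.exact_iff_isZero_homology _).mp hex
      exact ModuleCat.subsingleton_of_isZero (hz.of_iso (eH i))
    · intro i
      haveI : Module.Finite R (E.X i) := (hfp i).1
      haveI : IsNoetherian R (E.X i) := isNoetherian_of_isNoetherianRing_of_finite R _
      haveI : Module.Finite R (E.cycles i) :=
        Module.Finite.of_injective (E.iCycles i).hom ((ModuleCat.mono_iff_injective _).mp inferInstance)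
      haveI : Module.Finite R (E.homology i) :=
        Module.Finite.of_surjective (E.homologyπ i).hom ((ModuleCat.epi_iff_surjective _).mp inferInstance)
      exact Module.Finite.equiv (eH i).symm.toLinearEquiv
  · rintro ⟨hb, hf⟩
    exact Groth.Agent.S7030.result R K hb
      (fun i => (Groth.Agent.S6962.result R hreg (Dual.HD R K i)).mpr (hf i))

end Groth.Agent.S7031
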