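import Groth.Statements.S7034
import Groth.Agent.H35.TorAmp2
import Groth.Agent.H56.ProjAmp

set_option autoImplicit false
universe u
open CategoryTheory CategoryTheory.Limits
attribute [local instance] HasDerivedCategory.standard
open DRing

namespace Groth.Agent.S7034

/-- Let R be a commutative ring of global dimension at most d, i.e. every R-module has projective
dimension at most d, such that the derived tensor product - ⊗^L_R M exists on D(R) for every
R-module M. Then: (1) for every R-module M, M[0] is isomorphic in D(R) to a complex of flat modules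
vanishing outside [-d, 0]; (2) every object K of D(R) with H^i(K) = 0 for all i outside [a, b] is
isomorphic in D(R) to a complex of flat modules vanishing outside [a - d, b]. -/
theorem result (R : Type u) [CommRing R] (d : ℕ)
    (hgl : ∀ (M : Type u) [AddCommGroup M] [Module R M], HasProjectiveDimensionLT (ModuleCat.of R M) (d + 1))
    [∀ M : ModuleCat.{u} R, DRing.HasLTensor R M] :
    (∀ (M : Type u) [AddCommGroup M] [Module R M], DRing.HasTorAmplitudeIn R (-(d : ℤ)) 0 (Dual.inD R M)) ∧
      (∀ (K : Dual.D R) (a b : ℤ), (∀ i : ℤ, (i < a ∨ b < i) → Subsingleton (Dual.HD R K i)) →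
        DRing.HasTorAmplitudeIn R (a - d) b K) := by
  have h1 : ∀ (M : Type u) [AddCommGroup M] [Module R M],
      DRing.HasTorAmplitudeIn R (-(d : ℤ)) 0 (Dual.inD R M) := by
    intro M _ _
    have hpd := hgl M
    have key : ∀ (n : ℤ) (_ : n = ((d + 1 : ℕ) : ℤ)) (N : ModuleCat.{u} R)
        (ξ : Dual.inD R M ⟶ ((DerivedCategory.singleFunctor (ModuleCat.{u} R) 0).obj N)⟦n⟧),
        ξ = 0 := by
      intro n hn N ξ
      subst hn
      have hs := HasProjectiveDimensionLT.subsingleton (ModuleCat.of R M) (d + 1) (d + 1) le_rfl N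
      have hs' : Subsingleton (ShiftedHom
          ((DerivedCategory.singleFunctor (ModuleCat.{u} R) 0).obj (ModuleCat.of R M))
          ((DerivedCategory.singleFunctor (ModuleCat.{u} R) 0).obj N) ((d + 1 : ℕ) : ℤ)) :=
        Abelian.Ext.homEquiv.symm.subsingleton
      exact hs'.elim ξ 0
    obtain ⟨P, hv, hp, he⟩ := Groth.Agent.H56.exists_projective_cx_of_ext_vanishing (d + 1)
      (Dual.inD R M) (-(d : ℤ)) 0 (by omega)
      (fun n hn => by
        rcases hn with hn | hn
        · exact DerivedCategory.isZero_of_isGE _ 0 n (by omega)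
        · exact DerivedCategory.isZero_of_isLE _ 0 n hn)
      (fun N ξ => key _ (by push_cast; ring) N ξ)
    exact ⟨P, hv, fun i => by
      have := hp i
      infer_instance, he⟩
  refine ⟨h1, fun K a b hK => ?_⟩
  refine Groth.Agent.H35.TorAmp.hasTorAmplitudeIn_of_bounded_homology (a - d) b K ⟨a, b, hK⟩
    (fun i => ?_)
  by_cases hi : i < a ∨ b < i
  · have := hK i hi
    exact Groth.Agent.H35.TorAmp.hasTorAmplitudeIn_of_isZero
      ((DerivedCategory.singleFunctor (ModuleCat.{u} R) 0).map_isZero
        (ModuleCat.isZero_of_subsingleton _))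
  · exact Groth.Agent.H35.TorAmp.hasTorAmplitudeIn_mono (by omega) (by omega) (h1 _)

end Groth.Agent.S7034
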