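import Groth.Statements.S7035
import Groth.Agent.S6974
import Groth.Agent.S7034
import Groth.Agent.H35.BCSquare
import Groth.Agent.H35.MaxDescent

set_option autoImplicit false
universe u
open CategoryTheory CategoryTheory.Limits
attribute [local instance] HasDerivedCategory.standard
open DRing

namespace Groth.Agent.S7035

open DRing DerivedCategory Groth.Agent.H31 Groth.Agent.H35.TorAmp MonoidalCategory TensorProduct
  Groth.Agent.H35.LBC Groth.Agent.H35.BCSquare Groth.Agent.H35.FlatBC Groth.Agent.H35.KFlatBC

section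
variable {A B : Type u} [CommRing A] [CommRing B] [Algebra A B]

/-- `toD (Res E) ≅ restrictD K` from `toD E ≅ K`. -/
noncomputable def resIso {E : DRing.Cx B} {K : Dual.D B} (e : toD E ≅ K) :
    toD ((DRing.restrictCx (algebraMap A B)).obj E) ≅ (DRing.restrictD (algebraMap A B)).obj K :=
  ((ModuleCat.restrictScalars.{u} (algebraMap A B)).mapDerivedCategoryFactors.app E).symm ≪≫
    (DRing.restrictD (algebraMap A B)).mapIso e

/-- `κ(p) → B/m` for `p = m ∩ A`. -/
noncomputable def resToQuot (p : PrimeSpectrum A) (m : Ideal B) [m.IsMaximal]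
    (hp : p.asIdeal = m.comap (algebraMap A B)) : p.asIdeal.ResidueField →ₐ[A] B ⧸ m :=
  letI := Ideal.Quotient.field m
  { Ideal.ResidueField.lift p.asIdeal ((Ideal.Quotient.mk m).comp (algebraMap A B))
      (fun x hx => by
        rw [RingHom.mem_ker, RingHom.comp_apply, Ideal.Quotient.eq_zero_iff_mem]
        rw [hp] at hx
        exact hx)
      (fun x hx => by
        show IsUnit ((Ideal.Quotient.mk m) (algebraMap A B x))
        rw [isUnit_iff_ne_zero]
        intro h0
        rw [Ideal.Quotient.eq_zero_iff_mem] at h0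
        apply hx
        show x ∈ p.asIdeal
        rw [hp]
        exact h0) with
    commutes' := fun r => Ideal.ResidueField.lift_algebraMap _ _ _ _ r }

/-- `κ(p) ⊗_A B → B/m`. -/
noncomputable def quotMap (p : PrimeSpectrum A) (m : Ideal B) [m.IsMaximal]
    (hp : p.asIdeal = m.comap (algebraMap A B)) :
    TensorProduct A p.asIdeal.ResidueField B →+* B ⧸ m :=
  (Algebra.TensorProduct.lift (resToQuot p m hp) (Ideal.Quotient.mkₐ A m)
    (fun _ _ => Commute.all _ _)).toRingHom

lemma quotMap_comp (p : PrimeSpectrum A) (m : Ideal B) [m.IsMaximal]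
    (hp : p.asIdeal = m.comap (algebraMap A B)) :
    (quotMap p m hp).comp (incR (B₀ := A) (C₀ := B) (B₁ := p.asIdeal.ResidueField)) =
      Ideal.Quotient.mk m := by
  ext x
  show (Algebra.TensorProduct.lift (resToQuot p m hp) (Ideal.Quotient.mkₐ A m)
    (fun _ _ => Commute.all _ _)) ((1 : p.asIdeal.ResidueField) ⊗ₜ[A] x) = _
  rw [Algebra.TensorProduct.lift_tmul, map_one, one_mul]
  rfl

theorem main [Module.Flat A B] (d : ℕ)
    (hgl : ∀ (p : PrimeSpectrum A) (M : Type u) [AddCommGroup M]
      [Module (TensorProduct A p.asIdeal.ResidueField B) M],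
      HasProjectiveDimensionLT (ModuleCat.of (TensorProduct A p.asIdeal.ResidueField B) M) (d + 1))
    [∀ (p : PrimeSpectrum A) (M : ModuleCat.{u} (TensorProduct A p.asIdeal.ResidueField B)),
      DRing.HasLTensor (TensorProduct A p.asIdeal.ResidueField B) M]
    [∀ m : Ideal B, DRing.HasLBaseChange (Ideal.Quotient.mk m)] (a b : ℤ) (K : Dual.D B)
    (hK : DRing.IsPseudoCoherent' B K)
    (hKa : DRing.HasTorAmplitudeIn A a b ((DRing.restrictD (algebraMap A B)).obj K)) :
    DRing.IsPerfect B K ∧ DRing.HasTorAmplitudeIn B (a - d) b K := by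
  apply Groth.Agent.S6974.result B K hK (a - d) b
  intro m hm i hi
  have := hm
  let p : PrimeSpectrum A := ⟨m.comap (algebraMap A B), inferInstance⟩
  obtain ⟨F, c, hFc, hFf, ⟨eF⟩⟩ := hK
  have hflF : TermwiseFlat F := fun j => by
    have := (hFf j).2
    infer_instance
  have hFK : DRing.IsKFlat B F := KFlatRing.isKFlat_of_bounded_above_flat F c hFc hflF
  have hι : (algebraMap A B).Flat := RingHom.flat_algebraMap_iff.2 inferInstance
  have hRK : DRing.IsKFlat A ((DRing.restrictCx (algebraMap A B)).obj F) :=
    isKFlat_resCx _ hι F hFK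
  have hTV : TorVanish a b ((DRing.restrictCx (algebraMap A B)).obj F) :=
    torVanish_of_hasTorAmplitudeIn hKa _ hRK (resIso eF)
  -- the fibre complex
  have hGK : DRing.IsKFlat (TensorProduct A p.asIdeal.ResidueField B)
      ((extCx (incR (B₀ := A) (C₀ := B) (B₁ := p.asIdeal.ResidueField))).obj F) :=
    isKFlat_extCx _ F hFK
  have hGex : ∀ j : ℤ, (j < a ∨ b < j) →
      ((extCx (incR (B₀ := A) (C₀ := B) (B₁ := p.asIdeal.ResidueField))).obj F).ExactAt j := by
    intro j hj
    have h1 := (exactAt_square_iff (B₀ := A) (B₁ := p.asIdeal.ResidueField) F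
      (𝟙_ (ModuleCat.{u} p.asIdeal.ResidueField)) j).2 (hTV _ j hj)
    have h2 := exactAt_of_tensor_unit _ j h1
    exact (exactAt_map_iff (Res (incL (B₀ := A) (C₀ := B) (B₁ := p.asIdeal.ResidueField))) _ j).1 h2
  have hGtor : DRing.HasTorAmplitudeIn (TensorProduct A p.asIdeal.ResidueField B) (a - d) b
      (toD ((extCx (incR (B₀ := A) (C₀ := B) (B₁ := p.asIdeal.ResidueField))).obj F)) :=
    (Groth.Agent.S7034.result (TensorProduct A p.asIdeal.ResidueField B) d (hgl p)).2 _ a b
      (fun j hj => ModuleCat.subsingleton_of_isZero ((exactAt_iff_isZero_H _ j).1 (hGex j hj)))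
  have hGTV : TorVanish (a - d) b
      ((extCx (incR (B₀ := A) (C₀ := B) (B₁ := p.asIdeal.ResidueField))).obj F) :=
    torVanish_of_hasTorAmplitudeIn hGtor _ hGK (Iso.refl _)
  -- base change to `B/m`
  have h3 := (exactAt_tensor_ext_iff (quotMap p m rfl) _ (𝟙_ (ModuleCat.{u} (B ⧸ m))) i).2
    (hGTV _ i hi)
  have h4 := exactAt_of_tensor_unit _ i h3
  have h5 := h4.of_iso (extCxCompIso (incR (B₀ := A) (C₀ := B) (B₁ := p.asIdeal.ResidueField))
    (quotMap p m rfl) F)
  rw [quotMap_comp] at h5
  have e := Groth.Agent.H53.LBaseChange.objIso' (Ideal.Quotient.mk m) F hFK eF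
  have hz := (exactAt_iff_isZero_H _ i).1 h5
  exact ModuleCat.subsingleton_of_isZero
    (hz.of_iso ((homologyFunctor (ModuleCat.{u} (B ⧸ m)) i).mapIso e.symm))

end


/-- Let A → B be a flat homomorphism of commutative rings and d a natural number such that for every
prime p of A, with residue field κ(p), every module over κ(p) ⊗_A B has projective dimension at most
d; assume the derived tensor products - ⊗^L M exist on D(κ(p) ⊗_A B) for all p and the derived base
changes D(B) → D(B/m) exist for all ideals m of B. Let a, b be integers and K an object of D(B)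
which is pseudo-coherent over B and, with scalars restricted to A, has tor amplitude in [a, b]. Then
K is perfect over B and has tor amplitude in [a - d, b] over B. -/
theorem result {A B : Type u} [CommRing A] [CommRing B] [Algebra A B]
    [Module.Flat A B] (d : ℕ)
    (hgl : ∀ (p : PrimeSpectrum A) (M : Type u) [AddCommGroup M]
      [Module (TensorProduct A p.asIdeal.ResidueField B) M],
      HasProjectiveDimensionLT (ModuleCat.of (TensorProduct A p.asIdeal.ResidueField B) M) (d + 1))
    [∀ (p : PrimeSpectrum A) (M : ModuleCat.{u} (TensorProduct A p.asIdeal.ResidueField B)),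
      DRing.HasLTensor (TensorProduct A p.asIdeal.ResidueField B) M]
    [∀ m : Ideal B, DRing.HasLBaseChange (Ideal.Quotient.mk m)] (a b : ℤ) (K : Dual.D B)
    (hK : DRing.IsPseudoCoherent' B K)
    (hKa : DRing.HasTorAmplitudeIn A a b ((DRing.restrictD (algebraMap A B)).obj K)) :
    DRing.IsPerfect B K ∧ DRing.HasTorAmplitudeIn B (a - d) b K := by
  exact main d hgl a b K hK hKa

end Groth.Agent.S7035
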