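import Groth.Statements.S7039
-- import your own Groth.Agent.* helpers here

set_option autoImplicit false
universe u
open LocCoh

namespace Groth.Agent.S7039

/-- For a finitely generated ideal I of a commutative ring R and any R-module M, the quotient of M by
its submodule of I-power torsion elements has no nonzero element annihilated by I. -/
theorem result {R : Type u} [CommRing R] (I : Ideal R) (hI : I.FG)
    (M : Type u) [AddCommGroup M] [Module R M] :
    LocCoh.torsionBy I (M ⧸ DRing.torsionSub I M) = ⊥ := by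
  rw [eq_bot_iff]
  intro xbar hx
  obtain ⟨x, rfl⟩ := Submodule.Quotient.mk_surjective _ xbar
  rw [Submodule.mem_bot, Submodule.Quotient.mk_eq_zero]
  have hx' : ∀ a ∈ I, a • x ∈ DRing.torsionSub I M := by
    intro a ha
    have h1 := (Submodule.mem_torsionBySet_iff _ _).mp hx ⟨a, ha⟩
    change a • (Submodule.Quotient.mk x : M ⧸ DRing.torsionSub I M) = 0 at h1
    rwa [← Submodule.Quotient.mk_smul, Submodule.Quotient.mk_eq_zero] at h1
  obtain ⟨S, hS⟩ := hI
  have hex : ∀ s ∈ S, ∃ n : ℕ, ∀ b ∈ I ^ n, b • (s • x) = 0 := by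
    intro s hs
    exact hx' s (hS ▸ Ideal.subset_span hs)
  choose! n hn using hex
  have hN : ∀ s ∈ S, ∀ b ∈ I ^ (S.sup n), b • (s • x) = 0 := fun s hs b hb =>
    hn s hs b (Ideal.pow_le_pow_right (Finset.le_sup hs) hb)
  have hall : ∀ a ∈ I, ∀ b ∈ I ^ (S.sup n), b • (a • x) = 0 := by
    intro a ha b hb
    rw [← hS] at ha
    induction ha using Submodule.span_induction with
    | mem s hs => exact hN s hs b hb
    | zero => simp
    | add u v _ _ hu hv => rw [add_smul, smul_add, hu, hv, add_zero]
    | smul c u _ hu => rw [smul_eq_mul, mul_smul, smul_comm, hu, smul_zero]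
  refine ⟨S.sup n + 1, fun a ha => ?_⟩
  rw [pow_succ] at ha
  refine Submodule.mul_induction_on ha (fun b hb a ha => ?_) (fun u v hu hv => ?_)
  · rw [mul_smul]; exact hall a ha b hb
  · rw [add_smul, hu, hv, add_zero]

end Groth.Agent.S7039
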