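import Groth.Statements.S7040
import Mathlib.Algebra.Homology.ShortComplex.ModuleCat
import Mathlib.Algebra.Category.ModuleCat.EpiMono
import Mathlib.RingTheory.Finiteness.Ideal

set_option autoImplicit false
universe u
open CategoryTheory
open LocCoh

namespace Groth.Agent.S7040

/-- For a finitely generated ideal I of a commutative ring R, the property of being an I-power torsion
module (every element killed by a power of I) is a Serre class in the category of R-modules: it
holds for 0 and is closed under subobjects, quotients and extensions. -/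
theorem result {R : Type u} [CommRing R] (I : Ideal R) (hI : I.FG) :
    ObjectProperty.IsSerreClass (C := ModuleCat.{u} R) (fun M => LocCoh.IsPowerTorsion I M) := by
  have hzero : ObjectProperty.ContainsZero (C := ModuleCat.{u} R)
      (fun M => LocCoh.IsPowerTorsion I M) :=
    ⟨⟨ModuleCat.of R PUnit, ModuleCat.isZero_of_subsingleton _,
      fun m => ⟨0, fun a _ => Subsingleton.elim _ _⟩⟩⟩
  have hsub : ObjectProperty.IsClosedUnderSubobjects (C := ModuleCat.{u} R)
      (fun M => LocCoh.IsPowerTorsion I M) := by
    refine ⟨fun {X Y} f hf hY x => ?_⟩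
    have hinj : Function.Injective f.hom := (ModuleCat.mono_iff_injective f).mp hf
    obtain ⟨n, hn⟩ := hY (f.hom x)
    refine ⟨n, fun a ha => hinj ?_⟩
    rw [map_smul, hn a ha, map_zero]
  have hquot : ObjectProperty.IsClosedUnderQuotients (C := ModuleCat.{u} R)
      (fun M => LocCoh.IsPowerTorsion I M) := by
    refine ⟨fun {X Y} f hf hX y => ?_⟩
    have hsurj : Function.Surjective f.hom := (ModuleCat.epi_iff_surjective f).mp hf
    obtain ⟨x, rfl⟩ := hsurj y
    obtain ⟨n, hn⟩ := hX x
    refine ⟨n, fun a ha => ?_⟩
    rw [← map_smul, hn a ha, map_zero]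
  have hext : ObjectProperty.IsClosedUnderExtensions (C := ModuleCat.{u} R)
      (fun M => LocCoh.IsPowerTorsion I M) := by
    refine ⟨fun {S} hS h₁ h₃ x => ?_⟩
    obtain ⟨n, hn⟩ := h₃ (S.g.hom x)
    have hex := (ShortComplex.moduleCat_exact_iff S).mp hS.exact
    -- generators of I ^ n
    obtain ⟨T, hT⟩ := (Submodule.FG.pow hI n : (I ^ n).FG)
    have hgen : ∀ t ∈ T, ∃ m : ℕ, ∀ b ∈ I ^ m, b • (t • x) = 0 := by
      intro t ht
      have htI : t ∈ I ^ n := hT ▸ Ideal.subset_span ht
      have h0 : S.g.hom (t • x) = 0 := by rw [map_smul, hn t htI]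
      obtain ⟨y, hy⟩ := hex (t • x) h0
      obtain ⟨m, hm⟩ := h₁ y
      refine ⟨m, fun b hb => ?_⟩
      change b • (t • x) = 0
      have hy' : S.f.hom y = t • x := hy
      rw [← hy', ← map_smul, hm b hb, map_zero]
    choose! m hm using hgen
    have hN : ∀ t ∈ T, ∀ b ∈ I ^ (T.sup m), b • (t • x) = 0 := fun t ht b hb =>
      hm t ht b (Ideal.pow_le_pow_right (Finset.le_sup ht) hb)
    have hall : ∀ a ∈ I ^ n, ∀ b ∈ I ^ (T.sup m), b • (a • x) = 0 := by
      intro a ha b hb
      rw [← hT] at ha
      induction ha using Submodule.span_induction with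
      | mem s hs => exact hN s hs b hb
      | zero => simp
      | add u v _ _ hu hv => rw [add_smul, smul_add, hu, hv, add_zero]
      | smul c u _ hu => rw [smul_eq_mul, mul_smul, smul_comm, hu, smul_zero]
    refine ⟨T.sup m + n, fun a ha => ?_⟩
    rw [pow_add] at ha
    refine Submodule.mul_induction_on ha (fun b hb a ha => ?_) (fun u v hu hv => ?_)
    · rw [mul_smul]; exact hall a ha b hb
    · rw [add_smul, hu, hv, add_zero]
  exact { toContainsZero := hzero, toIsClosedUnderSubobjects := hsub,
          toIsClosedUnderQuotients := hquot, toIsClosedUnderExtensions := hext }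

end Groth.Agent.S7040
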