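import Groth.Statements.S7041
import Mathlib.Algebra.Colimit.TensorProduct

set_option autoImplicit false
universe u
open TensorProduct
open LocCoh

namespace Groth.Agent.S7041

section
variable {R R' : Type u} [CommRing R] [CommRing R'] [Algebra R R'] (J : Ideal R)

theorem inj_of_bij
    (hq : Function.Bijective
      (Ideal.quotientMap (Ideal.map (algebraMap R R') J) (algebraMap R R') Ideal.le_comap_map))
    (r : R) (hr : algebraMap R R' r ∈ Ideal.map (algebraMap R R') J) : r ∈ J := by
  have h1 : Ideal.quotientMap (Ideal.map (algebraMap R R') J) (algebraMap R R') Ideal.le_comap_map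
      (Ideal.Quotient.mk J r) = 0 := by
    rw [Ideal.quotientMap_mk, Ideal.Quotient.eq_zero_iff_mem]
    exact hr
  have h2 := hq.1 (h1.trans (map_zero _).symm)
  exact Ideal.Quotient.eq_zero_iff_mem.mp h2

theorem surj_of_bij
    (hq : Function.Bijective
      (Ideal.quotientMap (Ideal.map (algebraMap R R') J) (algebraMap R R') Ideal.le_comap_map))
    (r' : R') : ∃ r : R, algebraMap R R' r - r' ∈ Ideal.map (algebraMap R R') J := by
  obtain ⟨q, hq'⟩ := hq.2 (Ideal.Quotient.mk _ r')
  obtain ⟨r, rfl⟩ := Ideal.Quotient.mk_surjective q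
  refine ⟨r, ?_⟩
  rw [Ideal.quotientMap_mk] at hq'
  exact Ideal.Quotient.eq.mp hq'

/-- elements of `J R'` kill `m` in the tensor product when `J` kills `m` -/
theorem tmul_eq_zero_of_mem {M : Type u} [AddCommGroup M] [Module R M] (m : M)
    (hm : ∀ a ∈ J, a • m = 0) (δ : R') (hδ : δ ∈ Ideal.map (algebraMap R R') J) :
    δ ⊗ₜ[R] m = 0 := by
  have key : ∀ s : R', (s * δ) ⊗ₜ[R] m = 0 := by
    rw [Ideal.map] at hδ
    induction hδ using Submodule.span_induction with
    | mem δ hδ =>
      obtain ⟨a, ha, rfl⟩ := hδ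
      intro s
      rw [mul_comm, ← Algebra.smul_def, TensorProduct.smul_tmul, hm a ha, TensorProduct.tmul_zero]
    | zero => intro s; simp
    | add u v _ _ hu hv => intro s; rw [mul_add, TensorProduct.add_tmul, hu, hv, add_zero]
    | smul c u _ hu => intro s; rw [smul_eq_mul, ← mul_assoc]; exact hu (s * c)
  simpa using key 1

/-- a module killed by `J` embeds into its base change when `R/J → R'/JR'` is bijective. -/
theorem tmul_one_injective_of_killed
    (hq : Function.Bijective
      (Ideal.quotientMap (Ideal.map (algebraMap R R') J) (algebraMap R R') Ideal.le_comap_map))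
    {N : Type u} [AddCommGroup N] [Module R N] (hN : ∀ a ∈ J, ∀ x : N, a • x = 0)
    (x : N) (hx : x ⊗ₜ[R] (1 : R') = 0) : x = 0 := by
  choose σ hσ using surj_of_bij J hq
  have hkill : ∀ r : R, algebraMap R R' r ∈ Ideal.map (algebraMap R R') J → ∀ y : N, r • y = 0 :=
    fun r hr y => hN r (inj_of_bij J hq r hr) y
  let B : N →ₗ[R] R' →ₗ[R] N := LinearMap.mk₂ R (fun (y : N) (r' : R') => σ r' • y)
    (fun y₁ y₂ r' => smul_add _ _ _)
    (fun c y r' => smul_comm _ _ _)
    (fun y r₁ r₂ => by
      have h0 : (σ (r₁ + r₂) - σ r₁ - σ r₂) • y = 0 := by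
        apply hkill
        have : algebraMap R R' (σ (r₁ + r₂) - σ r₁ - σ r₂) =
            (algebraMap R R' (σ (r₁ + r₂)) - (r₁ + r₂)) - (algebraMap R R' (σ r₁) - r₁)
              - (algebraMap R R' (σ r₂) - r₂) := by
          simp only [map_sub]; ring
        rw [this]
        exact Ideal.sub_mem _ (Ideal.sub_mem _ (hσ _) (hσ _)) (hσ _)
      rw [sub_smul, sub_smul, sub_sub, sub_eq_zero] at h0
      exact h0)
    (fun c y r' => by
      have h0 : (σ (c • r') - c * σ r') • y = 0 := by
        apply hkill
        have : algebraMap R R' (σ (c • r') - c * σ r') =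
            (algebraMap R R' (σ (c • r')) - c • r') - algebraMap R R' c * (algebraMap R R' (σ r') - r') := by
          simp only [map_sub, map_mul, Algebra.smul_def]; ring
        rw [this]
        exact Ideal.sub_mem _ (hσ _) (Ideal.mul_mem_left _ _ (hσ _))
      rw [sub_smul, sub_eq_zero] at h0
      rw [h0, mul_smul])
  have h1 : TensorProduct.lift B (x ⊗ₜ[R] (1 : R')) = σ 1 • x := by
    simp [B]
  have h2 : (σ 1 - 1) • x = 0 := by
    apply hkill
    have : algebraMap R R' (σ 1 - 1) = algebraMap R R' (σ 1) - 1 := by simp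
    rw [this]
    exact hσ 1
  rw [sub_smul, one_smul, sub_eq_zero] at h2
  rw [hx, map_zero] at h1
  rw [← h2, ← h1]

end


/-- Let R → R' be a homomorphism of commutative rings and I an ideal of R such that the induced map
R/I^n → R'/I^n R' is bijective for every n > 0. Then for every R-module M in which every element is
killed by a power of I, the map M → R' ⊗_R M sending m to 1 ⊗ m is bijective. -/
theorem result {R R' : Type u} [CommRing R] [CommRing R'] [Algebra R R']
    (I : Ideal R)
    (hq : ∀ n : ℕ, 0 < n → Function.Bijective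
      (Ideal.quotientMap (Ideal.map (algebraMap R R') (I ^ n)) (algebraMap R R') Ideal.le_comap_map))
    (M : Type u) [AddCommGroup M] [Module R M] (hM : LocCoh.IsPowerTorsion I M) :
    Function.Bijective (fun m : M => (1 : R') ⊗ₜ[R] m) := by
  constructor
  · -- injectivity
    intro m₁ m₂ h
    have h' : (1 : R') ⊗ₜ[R] m₁ = (1 : R') ⊗ₜ[R] m₂ := h
    have h0 : (1 : R') ⊗ₜ[R] (m₁ - m₂) = 0 := by
      rw [TensorProduct.tmul_sub, h', sub_self]
    suffices hm : m₁ - m₂ = 0 from sub_eq_zero.mp hm
    generalize m₁ - m₂ = m at h0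
    -- pass to M ⊗ R'
    have h1 : m ⊗ₜ[R] (1 : R') = 0 := by
      have := congrArg (TensorProduct.comm R R' M) h0
      simpa using this
    -- the cyclic submodule
    let N : Submodule R M := Submodule.span R {m}
    have hNfg : N.FG := Submodule.fg_span_singleton m
    let x : N ⊗[R] R' := (⟨m, Submodule.mem_span_singleton_self m⟩ : N) ⊗ₜ[R] (1 : R')
    have hx : N.subtype.rTensor R' x = N.subtype.rTensor R' 0 := by
      simp [x, h1]
    obtain ⟨N', hN'fg, hle, heq⟩ := hNfg.exists_rTensor_fg_inclusion_eq hx
    -- N' is killed by a power of I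
    obtain ⟨S, hS⟩ := hN'fg
    have hex : ∀ s ∈ S, ∃ n : ℕ, ∀ a ∈ I ^ n, a • s = 0 := fun s _ => hM s
    choose! e he using hex
    have hkN' : ∀ a ∈ I ^ (S.sup e + 1), ∀ y : N', a • y = 0 := by
      intro a ha y
      have hall : ∀ w ∈ Submodule.span R (S : Set M), a • w = 0 := by
        intro w hw
        induction hw using Submodule.span_induction with
        | mem s hs =>
          exact he s hs a (Ideal.pow_le_pow_right ((Finset.le_sup hs).trans (Nat.le_succ _)) ha)
        | zero => simp
        | add u v _ _ hu hv => rw [smul_add, hu, hv, add_zero]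
        | smul c u _ hu => rw [smul_comm, hu, smul_zero]
      apply Subtype.ext
      rw [Submodule.coe_smul, Submodule.coe_zero]
      exact hall _ (hS ▸ y.2)
    have h2 : ((⟨m, hle (Submodule.mem_span_singleton_self m)⟩ : N') ⊗ₜ[R] (1 : R')) = 0 := by
      have h := heq
      simp only [x, LinearMap.rTensor_tmul, map_zero] at h
      exact h
    have h3 := tmul_one_injective_of_killed (I ^ (S.sup e + 1)) (hq _ (Nat.succ_pos _)) hkN' _ h2
    exact congrArg Subtype.val h3
  · -- surjectivity
    intro z
    have hrange : z ∈ LinearMap.range (TensorProduct.mk R R' M 1) := by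
      induction z using TensorProduct.induction_on with
      | zero => exact Submodule.zero_mem _
      | tmul r' m =>
        obtain ⟨n, hn⟩ := hM m
        have hn' : ∀ a ∈ I ^ (n + 1), a • m = 0 := fun a ha =>
          hn a (Ideal.pow_le_pow_right (Nat.le_succ n) ha)
        obtain ⟨r, hr⟩ := surj_of_bij (I ^ (n + 1)) (hq _ (Nat.succ_pos _)) r'
        have h1 := tmul_eq_zero_of_mem (I ^ (n + 1)) m hn' _ hr
        rw [TensorProduct.sub_tmul, sub_eq_zero] at h1
        refine ⟨r • m, ?_⟩
        rw [← h1]
        simp only [TensorProduct.mk_apply]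
        rw [← TensorProduct.smul_tmul, Algebra.smul_def, mul_one]
      | add z₁ z₂ h₁ h₂ => exact Submodule.add_mem _ h₁ h₂
    obtain ⟨m, hm⟩ := hrange
    exact ⟨m, hm⟩

end Groth.Agent.S7041
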