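import Groth.Statements.S7051
import Groth.Agent.H35.DerComp
import Mathlib

set_option autoImplicit false
universe u
attribute [local instance] HasDerivedCategory.standard
open DRing
open CategoryTheory

namespace Groth.Agent.S7051

/-- For a commutative ring A, an ideal I and a linear map u between A-modules M and N which are derived
complete with respect to I (placed in degree 0), the kernel of u and the cokernel N/u(M) are again
derived complete with respect to I. -/
theorem result {A : Type u} [CommRing A] (I : Ideal A)
    (M N : Type u) [AddCommGroup M] [Module A M] [AddCommGroup N] [Module A N] (u : M →ₗ[A] N)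
    (hM : DRing.IsDerivedComplete I (Dual.inD A M)) (hN : DRing.IsDerivedComplete I (Dual.inD A N)) :
    DRing.IsDerivedComplete I (Dual.inD A (LinearMap.ker u)) ∧
      DRing.IsDerivedComplete I (Dual.inD A (N ⧸ LinearMap.range u)) := by
  classical
  have hT₁ := (H35.kerShortComplex_shortExact u).singleTriangle_distinguished
  have hT₂ := (H35.submoduleShortComplex_shortExact (LinearMap.range u)).singleTriangle_distinguished
  have key : ∀ f ∈ I, ∀ n : ℤ,
      H35.HomVanish (Dual.inD A (Localization.Away f)) (Dual.inD A (LinearMap.ker u)) n ∧
      H35.HomVanish (Dual.inD A (Localization.Away f)) (Dual.inD A (N ⧸ LinearMap.range u)) n := by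
    intro f hf
    have hM' : ∀ n, H35.HomVanish (Dual.inD A (Localization.Away f)) (Dual.inD A M) n :=
      fun n => hM f hf n
    have hN' : ∀ n, H35.HomVanish (Dual.inD A (Localization.Away f)) (Dual.inD A N) n :=
      fun n => hN f hf n
    have hI : ∀ n : ℤ, H35.HomVanish (Dual.inD A (Localization.Away f))
        (Dual.inD A (LinearMap.range u)) n := by
      intro n
      by_cases hn : n ≤ 0
      · have h3 : H35.HomVanish (Dual.inD A (Localization.Away f))
            (Dual.inD A (N ⧸ LinearMap.range u)) (n - 1) :=
          H35.homVanish_single_of_neg _ _ (n - 1) (by omega)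
        have h2 : H35.HomVanish (Dual.inD A (Localization.Away f)) (Dual.inD A N) (n - 1 + 1) := by
          rw [sub_add_cancel]
          exact hN' n
        have h := H35.homVanish_obj₁ _ hT₂ (Dual.inD A (Localization.Away f)) (n - 1) h3 h2
        rw [sub_add_cancel] at h
        exact h
      · have h1 : H35.HomVanish (Dual.inD A (Localization.Away f))
            (Dual.inD A (LinearMap.ker u)) (n + 1) :=
          H35.homVanish_single_of_hasProjectiveDimensionLT _ _ 2 (n + 1) (by push_cast; omega)
        exact H35.homVanish_obj₃ _ hT₁ (Dual.inD A (Localization.Away f)) n (hM' n) h1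
    intro n
    constructor
    · have h2 : H35.HomVanish (Dual.inD A (Localization.Away f)) (Dual.inD A M) (n - 1 + 1) := by
        rw [sub_add_cancel]
        exact hM' n
      have h := H35.homVanish_obj₁ _ hT₁ (Dual.inD A (Localization.Away f)) (n - 1)
        (hI (n - 1)) h2
      rw [sub_add_cancel] at h
      exact h
    · exact H35.homVanish_obj₃ _ hT₂ (Dual.inD A (Localization.Away f)) n (hN' n) (hI (n + 1))
  exact ⟨fun f hf n => (key f hf n).1, fun f hf n => (key f hf n).2⟩

end Groth.Agent.S7051
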