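import Groth.Statements.S7053
import Mathlib
import Groth.Agent.H35.DerCrit
import Groth.Agent.S7051

set_option autoImplicit false
universe u
attribute [local instance] HasDerivedCategory.standard
open DRing

namespace Groth.Agent.S7053

/-- Principal case: if `a ∈ I` acts surjectively on a derived complete module, the module is zero. -/
theorem subsingleton_of_smul_surjective {A : Type u} [CommRing A] (I : Ideal A)
    (M : Type u) [AddCommGroup M] [Module A M] (hc : DRing.IsDerivedComplete I (Dual.inD A M))
    (a : A) (ha : a ∈ I) (hsurj : ∀ x : M, ∃ y : M, a • y = x) : Subsingleton M := by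
  have huniq := (H35.isDerivedComplete_inD_iff A M I).1 hc a ha 0
  choose g hg using hsurj
  refine ⟨fun x y => ?_⟩
  suffices H : ∀ x : M, x = 0 by rw [H x, H y]
  intro x
  obtain ⟨m₀, -, hm₀⟩ := huniq
  have h1 : (fun n => g^[n] x) = m₀ := hm₀ _ (fun n => by
    show g^[n] x - a • g^[n + 1] x = 0
    rw [Function.iterate_succ_apply', hg, sub_self])
  have h2 : (fun _ => (0 : M)) = m₀ := hm₀ _ (fun n => by simp)
  have h3 := congrFun (h1.trans h2.symm) 0
  simpa using h3

theorem aux {A : Type u} [CommRing A] (I : Ideal A) :
    ∀ s : Finset A, (∀ a ∈ s, a ∈ I) → ∀ (M : Type u) [AddCommGroup M] [Module A M],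
      DRing.IsDerivedComplete I (Dual.inD A M) →
      Ideal.span (s : Set A) • (⊤ : Submodule A M) = ⊤ → Subsingleton M := by
  classical
  intro s
  induction s using Finset.induction_on with
  | empty =>
    intro _ M _ _ _ h
    rw [Finset.coe_empty, Ideal.span_empty, Submodule.bot_smul] at h
    refine ⟨fun x y => ?_⟩
    have hx : x ∈ (⊥ : Submodule A M) := by rw [h]; exact Submodule.mem_top
    have hy : y ∈ (⊥ : Submodule A M) := by rw [h]; exact Submodule.mem_top
    rw [(Submodule.mem_bot A).1 hx, (Submodule.mem_bot A).1 hy]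
  | insert a s has ih =>
    intro hsI M _ _ hM h
    have haI : a ∈ I := hsI a (Finset.mem_insert_self a s)
    have hsI' : ∀ b ∈ s, b ∈ I := fun b hb => hsI b (Finset.mem_insert_of_mem hb)
    have hN := (S7051.result I M M (LinearMap.lsmul A M a) hM hM).2
    have hNtop : Ideal.span (s : Set A) •
        (⊤ : Submodule A (M ⧸ LinearMap.range (LinearMap.lsmul A M a))) = ⊤ := by
      rw [eq_top_iff]
      rintro y -
      obtain ⟨x, rfl⟩ := Submodule.mkQ_surjective _ y
      have hx : x ∈ Ideal.span ((insert a s : Finset A) : Set A) • (⊤ : Submodule A M) := by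
        rw [h]; exact Submodule.mem_top
      rw [Finset.coe_insert, Ideal.span_insert, Submodule.sup_smul] at hx
      obtain ⟨x₁, hx₁, x₂, hx₂, rfl⟩ := Submodule.mem_sup.1 hx
      have h1 : x₁ ∈ LinearMap.range (LinearMap.lsmul A M a) := by
        refine (Submodule.smul_le.2 ?_ : Ideal.span {a} • (⊤ : Submodule A M) ≤ _) hx₁
        intro r hr n _
        obtain ⟨b, rfl⟩ := Ideal.mem_span_singleton'.1 hr
        refine ⟨b • n, ?_⟩
        rw [LinearMap.lsmul_apply, ← mul_smul, mul_comm]
      have h2 : (LinearMap.range (LinearMap.lsmul A M a)).mkQ x₂ ∈ Ideal.span (s : Set A) •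
          (⊤ : Submodule A (M ⧸ LinearMap.range (LinearMap.lsmul A M a))) := by
        have h3 := Submodule.mem_map_of_mem (f := (LinearMap.range (LinearMap.lsmul A M a)).mkQ) hx₂
        rw [Submodule.map_smul'', Submodule.map_top, Submodule.range_mkQ] at h3
        exact h3
      have e1 : (LinearMap.range (LinearMap.lsmul A M a)).mkQ x₁ = 0 := by
        rw [Submodule.mkQ_apply]
        exact (Submodule.Quotient.mk_eq_zero _).2 h1
      rw [map_add, e1, zero_add]
      exact h2
    have hNsub : Subsingleton (M ⧸ LinearMap.range (LinearMap.lsmul A M a)) :=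
      ih hsI' _ hN hNtop
    have hrange : LinearMap.range (LinearMap.lsmul A M a) = ⊤ :=
      Submodule.Quotient.subsingleton_iff.1 hNsub
    refine subsingleton_of_smul_surjective I M hM a haI (fun x => ?_)
    have hx : x ∈ LinearMap.range (LinearMap.lsmul A M a) := by rw [hrange]; exact Submodule.mem_top
    obtain ⟨y, hy⟩ := hx
    exact ⟨y, hy⟩


/-- For a commutative ring A, a finitely generated ideal I and an A-module M which, placed in degree 0
of D(A), is derived complete with respect to I, if IM = M then M = 0. -/
theorem result {A : Type u} [CommRing A] (I : Ideal A) (hI : I.FG)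
    (M : Type u) [AddCommGroup M] [Module A M] (hc : DRing.IsDerivedComplete I (Dual.inD A M))
    (h : I • (⊤ : Submodule A M) = ⊤) : Subsingleton M := by
  obtain ⟨s, hs⟩ := hI
  have hs' : Ideal.span (s : Set A) = I := hs
  exact aux I s (fun a ha => hs' ▸ Ideal.subset_span ha) M hc (by rw [hs']; exact h)

end Groth.Agent.S7053
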