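import Groth.Statements.S7042
import Mathlib
import Groth.Agent.H35.SeqPrecomplete
import Groth.Agent.S7048
import Groth.Agent.S7049
import Groth.Agent.S7051
import Groth.Agent.S7053

set_option autoImplicit false
universe u
attribute [local instance] HasDerivedCategory.standard
open DRing

namespace Groth.Agent.S7042

/-- A Baire-category argument: an adically complete module in which every element is killed by a
power of `I` is killed by a single power of `I`. -/
theorem exists_pow_smul_top_eq_bot_of_complete_torsion {A : Type u} [CommRing A] (I : Ideal A)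
    (C : Type*) [AddCommGroup C] [Module A C] [hH : IsHausdorff I C] [hP : IsPrecomplete I C]
    (ht : ∀ c : C, ∃ n : ℕ, ∀ a ∈ I ^ n, a • c = 0) :
    ∃ e : ℕ, (I ^ e • ⊤ : Submodule A C) = ⊥ := by
  by_contra hne
  push Not at hne
  have hmono : ∀ {k k' : ℕ}, k ≤ k' → (I ^ k' • ⊤ : Submodule A C) ≤ I ^ k • ⊤ :=
    fun h => Submodule.smul_mono_left (Ideal.pow_le_pow_right h)
  have step : ∀ (i : ℕ) (p : C × ℕ), ∃ p' : C × ℕ, p.2 < p'.2 ∧
      p'.1 - p.1 ∈ (I ^ p.2 • ⊤ : Submodule A C) ∧
      ∀ w : C, w - p'.1 ∈ (I ^ p'.2 • ⊤ : Submodule A C) → ¬ (∀ a ∈ I ^ i, a • w = 0) := by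
    rintro i ⟨z, k⟩
    have h1 : ∃ z' : C, z' - z ∈ (I ^ k • ⊤ : Submodule A C) ∧ ¬ (∀ a ∈ I ^ i, a • z' = 0) := by
      by_contra hcon
      push Not at hcon
      apply hne (i + k)
      rw [eq_bot_iff, pow_add, Submodule.mul_smul]
      refine Submodule.smul_le.2 ?_
      intro a ha u hu
      rw [Submodule.mem_bot]
      have hz := hcon z (by simp) a ha
      have hzu := hcon (z + u) (by simpa using hu) a ha
      rw [smul_add, hz, zero_add] at hzu
      exact hzu
    obtain ⟨z', hz', hnot⟩ := h1
    push Not at hnot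
    obtain ⟨a, ha, haz⟩ := hnot
    have h2 : ∃ k₀ : ℕ, a • z' ∉ (I ^ k₀ • ⊤ : Submodule A C) := by
      by_contra hcon
      push Not at hcon
      exact haz (IsHausdorff.haus hH _ (fun n => SModEq.zero.2 (hcon n)))
    obtain ⟨k₀, hk₀⟩ := h2
    refine ⟨(z', max k₀ (k + 1)), lt_of_lt_of_le (Nat.lt_succ_self k) (le_max_right _ _), hz', ?_⟩
    intro w hw hT
    apply hk₀
    have h3 : a • (w - z') ∈ (I ^ (max k₀ (k + 1)) • ⊤ : Submodule A C) :=
      Submodule.smul_mem _ a hw
    have h4 : a • z' = -(a • (w - z')) := by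
      rw [smul_sub, hT a ha, zero_sub, neg_neg]
    rw [h4]
    exact Submodule.neg_mem _ (hmono (le_max_left _ _) h3)
  choose F hF1 hF2 hF3 using step
  let s : ℕ → C × ℕ := fun n => Nat.rec (motive := fun _ => C × ℕ) (0, 0) (fun i p => F i p) n
  have hs_succ : ∀ i, s (i + 1) = F i (s i) := fun i => rfl
  have hk_lt : ∀ i, (s i).2 < (s (i + 1)).2 := fun i => by
    rw [hs_succ]
    exact hF1 i (s i)
  have hk_mono : Monotone (fun i => (s i).2) :=
    monotone_nat_of_le_succ (fun i => (hk_lt i).le)
  have hk_ge : ∀ i, i ≤ (s i).2 := by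
    intro i
    induction i with
    | zero => exact Nat.zero_le _
    | succ i ih => exact Nat.succ_le_of_lt (lt_of_le_of_lt ih (hk_lt i))
  have hz_succ : ∀ i, (s (i + 1)).1 - (s i).1 ∈ (I ^ (s i).2 • ⊤ : Submodule A C) := fun i => by
    rw [hs_succ]
    exact hF2 i (s i)
  have hcauchy : ∀ i, (s (i + 1)).1 - (s i).1 ∈ (I ^ i • ⊤ : Submodule A C) :=
    fun i => hmono (hk_ge i) (hz_succ i)
  obtain ⟨L, hL⟩ := IsPrecomplete.prec hP (f := fun i => (s i).1)
    (H35.cauchy_of_succ I (fun i => (s i).1) hcauchy)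
  have hL' : ∀ j, L - (s j).1 ∈ (I ^ j • ⊤ : Submodule A C) :=
    fun j => SModEq.sub_mem.1 (hL j).symm
  have htel : ∀ i d, (s (i + d)).1 - (s i).1 ∈ (I ^ (s i).2 • ⊤ : Submodule A C) := by
    intro i d
    induction d with
    | zero => simp
    | succ d ih =>
      have e : (s (i + (d + 1))).1 - (s i).1 =
          ((s (i + d + 1)).1 - (s (i + d)).1) + ((s (i + d)).1 - (s i).1) := by
        rw [← Nat.add_assoc]
        abel
      rw [e]
      exact Submodule.add_mem _ (hmono (hk_mono (Nat.le_add_right i d)) (hz_succ (i + d))) ih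
  have hball : ∀ i, L - (s i).1 ∈ (I ^ (s i).2 • ⊤ : Submodule A C) := by
    intro i
    have e : L - (s i).1 = (L - (s (i + (s i).2)).1) + ((s (i + (s i).2)).1 - (s i).1) := by
      abel
    rw [e]
    exact Submodule.add_mem _ (hmono (Nat.le_add_left _ _) (hL' _)) (htel i _)
  obtain ⟨n, hn⟩ := ht L
  exact hF3 n (s n) L (hball (n + 1)) hn


/-- Let I be a finitely generated ideal of a commutative ring A and let M be an A-module which, placed
in degree 0, is derived complete with respect to I, and in which every element is killed by a power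
of I. Then a single power of I kills M. -/
theorem result {A : Type u} [CommRing A]
    (I : Ideal A) (hI : I.FG) (M : Type u) [AddCommGroup M] [Module A M]
    (hc : DRing.IsDerivedComplete I (Dual.inD A M)) (ht : LocCoh.IsPowerTorsion I M) :
    ∃ n : ℕ, I ^ n • (⊤ : Submodule A M) = ⊥ := by
  haveI : IsAdicComplete I (AdicCompletion I M) := AdicCompletion.isAdicComplete hI
  have hsurj : Function.Surjective (AdicCompletion.of I M) := S7049.result I hI M hc
  have htC : ∀ c : AdicCompletion I M, ∃ n : ℕ, ∀ a ∈ I ^ n, a • c = 0 := by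
    intro c
    obtain ⟨m, rfl⟩ := hsurj c
    obtain ⟨n, hn⟩ := ht m
    exact ⟨n, fun a ha => by rw [← map_smul, hn a ha, map_zero]⟩
  obtain ⟨e, he⟩ := exists_pow_smul_top_eq_bot_of_complete_torsion I (AdicCompletion I M) htC
  refine ⟨e, ?_⟩
  have hle : (I ^ e • ⊤ : Submodule A M) ≤ LinearMap.ker (AdicCompletion.of I M) := by
    refine Submodule.smul_le.2 (fun a ha m _ => ?_)
    rw [LinearMap.mem_ker, map_smul]
    have h1 : a • AdicCompletion.of I M m ∈ (I ^ e • ⊤ : Submodule A (AdicCompletion I M)) :=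
      Submodule.smul_mem_smul ha Submodule.mem_top
    rw [he] at h1
    exact (Submodule.mem_bot A).1 h1
  have hker_le : ∀ n, LinearMap.ker (AdicCompletion.of I M) ≤ (I ^ n • ⊤ : Submodule A M) := by
    intro n x hx
    rw [LinearMap.mem_ker] at hx
    have h1 : AdicCompletion.eval I M n (AdicCompletion.of I M x) = 0 := by rw [hx, map_zero]
    rw [AdicCompletion.eval_of, Submodule.mkQ_apply, Submodule.Quotient.mk_eq_zero] at h1
    exact h1
  have hC : DRing.IsDerivedComplete I (Dual.inD A (AdicCompletion I M)) :=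
    S7048.result I (AdicCompletion I M)
  have hK : DRing.IsDerivedComplete I (Dual.inD A (LinearMap.ker (AdicCompletion.of I M))) :=
    (S7051.result I M (AdicCompletion I M) (AdicCompletion.of I M) hc hC).1
  have htop : I • (⊤ : Submodule A (LinearMap.ker (AdicCompletion.of I M))) = ⊤ := by
    rw [eq_top_iff]
    rintro ⟨x, hx⟩ -
    have h1 : x ∈ I • LinearMap.ker (AdicCompletion.of I M) := by
      have h2 : x ∈ (I ^ (e + 1) • ⊤ : Submodule A M) := hker_le (e + 1) hx
      rw [pow_succ', Submodule.mul_smul] at h2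
      exact Submodule.smul_mono le_rfl hle h2
    have h3 : (I • (⊤ : Submodule A (LinearMap.ker (AdicCompletion.of I M)))).map
        (LinearMap.ker (AdicCompletion.of I M)).subtype =
        I • LinearMap.ker (AdicCompletion.of I M) := by
      rw [Submodule.map_smul'', Submodule.map_subtype_top]
    rw [← h3] at h1
    obtain ⟨y, hy, hyx⟩ := h1
    have h4 : y = ⟨x, hx⟩ := Subtype.ext hyx
    rwa [h4] at hy
  have hsub : Subsingleton (LinearMap.ker (AdicCompletion.of I M)) :=
    S7053.result I hI _ hK htop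
  rw [eq_bot_iff]
  intro x hx
  have h5 : (⟨x, hle hx⟩ : LinearMap.ker (AdicCompletion.of I M)) = 0 := Subsingleton.elim _ _
  rw [Submodule.mem_bot]
  exact congrArg Subtype.val h5

end Groth.Agent.S7042
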