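import Groth.Statements.S7043
import Mathlib
import Groth.Agent.H35.DerCrit

set_option autoImplicit false
universe u
attribute [local instance] HasDerivedCategory.standard
open DRing

namespace Groth.Agent.S7043

/-- Let f be an element of a commutative ring A and let M be an A-module which, placed in degree 0, is
derived complete with respect to the ideal (f). Then the ideal J = ⋂ f^n A annihilates the submodule
⋂ f^n M, which is the kernel of M → lim M/f^n M. (The case M = A says that J has square zero when A
itself is derived complete.) -/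
theorem result {A : Type u} [CommRing A] (f : A)
    (M : Type u) [AddCommGroup M] [Module A M]
    (hc : DRing.IsDerivedComplete (Ideal.span {f}) (Dual.inD A M)) :
    (⨅ n : ℕ, Ideal.span {f ^ n}) • (⨅ n : ℕ, (Ideal.span {f ^ n}) • (⊤ : Submodule A M)) = (⊥ : Submodule A M) := by
  have huniq := (H35.isDerivedComplete_inD_iff A M _).1 hc f (Ideal.mem_span_singleton_self f) 0
  rw [eq_bot_iff]
  refine Submodule.smul_le.2 ?_
  intro g hg x hx
  rw [Submodule.mem_bot]
  rw [Submodule.mem_iInf] at hg hx
  have hg' : ∀ n, ∃ b, b * f ^ n = g := fun n => Ideal.mem_span_singleton'.1 (hg n)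
  choose gn hgn using hg'
  have hx' : ∀ n, ∃ y : M, f ^ n • y = x := by
    intro n
    have h := hx n
    rw [Submodule.ideal_span_singleton_smul, Submodule.mem_smul_pointwise_iff_exists] at h
    obtain ⟨y, -, hy⟩ := h
    exact ⟨y, hy⟩
  choose xn hxn using hx'
  obtain ⟨m₀, -, hm₀⟩ := huniq
  have h1 : (fun n => gn n • x) = m₀ := hm₀ _ (fun n => by
    show gn n • x - f • gn (n + 1) • x = 0
    have e : (gn n - f * gn (n + 1)) * f ^ n = 0 := by
      have e' : (gn n - f * gn (n + 1)) * f ^ n = gn n * f ^ n - gn (n + 1) * f ^ (n + 1) := by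
        ring
      rw [e', hgn n, hgn (n + 1), sub_self]
    calc gn n • x - f • gn (n + 1) • x = (gn n - f * gn (n + 1)) • x := by
          rw [sub_smul, mul_smul]
      _ = (gn n - f * gn (n + 1)) • (f ^ n • xn n) := by rw [hxn n]
      _ = ((gn n - f * gn (n + 1)) * f ^ n) • xn n := by rw [mul_smul]
      _ = 0 := by rw [e, zero_smul])
  have h2 : (fun _ => (0 : M)) = m₀ := hm₀ _ (fun n => by simp)
  have h3 := congrFun (h1.trans h2.symm) 0
  have h0 : gn 0 = g := by simpa using hgn 0
  simpa [h0] using h3

end Groth.Agent.S7043
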