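import Groth.Statements.S7044
import Mathlib
import Groth.Agent.H35.DerSeq
import Groth.Agent.H35.SeqPrecomplete

set_option autoImplicit false
universe u
attribute [local instance] HasDerivedCategory.standard
open DRing

namespace Groth.Agent.S7044

open Polynomial

lemma mem_span_pow_smul_top_iff {R : Type*} [CommRing R] (r : R) (n : ℕ) (z : R) :
    z ∈ ((Ideal.span {r}) ^ n • ⊤ : Submodule R R) ↔ ∃ w, r ^ n * w = z := by
  rw [Ideal.span_singleton_pow, Submodule.ideal_span_singleton_smul,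
    Submodule.mem_smul_pointwise_iff_exists]
  simp only [Submodule.mem_top, true_and, smul_eq_mul]

/-- `1 - g` is a unit when `A` is `SeqComplete` for `g`. -/
lemma isUnit_one_sub {A : Type u} [CommRing A] {g : A} (h : H35.SeqComplete g A) :
    IsUnit (1 - g) := by
  obtain ⟨m, hm, hu⟩ := h (fun _ => (1 : A))
  have h1 : (fun n => m (n + 1)) = m := hu _ (fun n => hm (n + 1))
  have h2 : m 1 = m 0 := congrFun h1 0
  have h3 := hm 0
  rw [h2, smul_eq_mul] at h3
  exact IsUnit.of_mul_eq_one (m 0) (by rw [sub_mul, one_mul]; exact h3)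

lemma isUnit_of_isUnit_mk {A : Type u} [CommRing A] {I : Ideal A}
    (hI : ∀ g ∈ I, IsUnit (1 - g)) (v : A) (hv : IsUnit (Ideal.Quotient.mk I v)) : IsUnit v := by
  obtain ⟨w', hw'⟩ := hv.exists_right_inv
  obtain ⟨w, rfl⟩ := Ideal.Quotient.mk_surjective w'
  have h1 : v * w - 1 ∈ I := by
    rw [← Ideal.Quotient.eq_zero_iff_mem, map_sub, map_mul, hw', map_one, sub_self]
  have h2 : IsUnit (v * w) := by
    have h3 := hI (-(v * w - 1)) (I.neg_mem h1)
    have e : 1 - -(v * w - 1) = v * w := by ring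
    rwa [e] at h3
  exact isUnit_of_mul_isUnit_left h2

lemma smul_eq_zero_of_divisible {A : Type u} [CommRing A] {M : Type*} [AddCommGroup M]
    [Module A M] {f : A} (hf : H35.SeqComplete f M) (g : A) (x : M)
    (hg : ∀ n : ℕ, ∃ b, b * f ^ n = g) (hx : ∀ n : ℕ, ∃ y : M, f ^ n • y = x) : g • x = 0 := by
  choose gn hgn using hg
  choose xn hxn using hx
  have h1 := hf.eq_zero (m := fun n => gn n • x) (fun n => by
    show gn n • x - f • gn (n + 1) • x = 0
    have e : (gn n - f * gn (n + 1)) * f ^ n = 0 := by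
      have e' : (gn n - f * gn (n + 1)) * f ^ n = gn n * f ^ n - gn (n + 1) * f ^ (n + 1) := by
        ring
      rw [e', hgn n, hgn (n + 1), sub_self]
    calc gn n • x - f • gn (n + 1) • x = (gn n - f * gn (n + 1)) • x := by
          rw [sub_smul, mul_smul]
      _ = (gn n - f * gn (n + 1)) • (f ^ n • xn n) := by rw [hxn n]
      _ = ((gn n - f * gn (n + 1)) * f ^ n) • xn n := by rw [mul_smul]
      _ = 0 := by rw [e, zero_smul]) 0
  have h0 : gn 0 = g := by simpa using hgn 0
  rw [← h0]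
  exact h1

theorem isAdicComplete_quotient {A : Type u} [CommRing A] (h : A) (K : Ideal A)
    (hKle : ∀ n : ℕ, K ≤ Ideal.span {h ^ n})
    (hKinf : ∀ z : A, (∀ n : ℕ, z ∈ Ideal.span {h ^ n}) → z ∈ K)
    (hP : IsPrecomplete (Ideal.span {h}) A) :
    IsAdicComplete (Ideal.span {Ideal.Quotient.mk K h}) (A ⧸ K) := by
  have key : ∀ (z : A) (n : ℕ), (Ideal.Quotient.mk K z) ∈
      ((Ideal.span {Ideal.Quotient.mk K h}) ^ n • ⊤ : Submodule (A ⧸ K) (A ⧸ K)) ↔
      z ∈ Ideal.span {h ^ n} := by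
    intro z n
    rw [mem_span_pow_smul_top_iff]
    constructor
    · rintro ⟨w', hw'⟩
      obtain ⟨w, rfl⟩ := Ideal.Quotient.mk_surjective w'
      have h1 : h ^ n * w - z ∈ K := by
        rw [← Ideal.Quotient.eq_zero_iff_mem, map_sub, map_mul, map_pow, hw', sub_self]
      have h2 : h ^ n * w - z ∈ Ideal.span {h ^ n} := hKle n h1
      have h3 : h ^ n * w ∈ Ideal.span {h ^ n} :=
        Ideal.mul_mem_right _ _ (Ideal.mem_span_singleton_self _)
      have h4 := (Ideal.span {h ^ n}).sub_mem h3 h2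
      simpa using h4
    · intro hz
      obtain ⟨w, rfl⟩ := Ideal.mem_span_singleton'.1 hz
      exact ⟨Ideal.Quotient.mk K w, by rw [map_mul, map_pow, mul_comm]⟩
  refine { toIsHausdorff := ⟨?_⟩, toIsPrecomplete := ⟨?_⟩ }
  · intro x hx
    obtain ⟨z, rfl⟩ := Ideal.Quotient.mk_surjective x
    rw [Ideal.Quotient.eq_zero_iff_mem]
    exact hKinf z (fun n => (key z n).1 (SModEq.zero.1 (hx n)))
  · intro x hx
    have hlift : ∀ n, ∃ z : A, Ideal.Quotient.mk K z = x n :=
      fun n => Ideal.Quotient.mk_surjective (x n)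
    choose z hz using hlift
    have hzc : ∀ {m n : ℕ}, m ≤ n →
        z m ≡ z n [SMOD ((Ideal.span {h}) ^ m • ⊤ : Submodule A A)] := by
      intro m n hmn
      rw [SModEq.sub_mem, mem_span_pow_smul_top_iff]
      have h1 := SModEq.sub_mem.1 (hx hmn)
      rw [← hz m, ← hz n, ← map_sub, key] at h1
      obtain ⟨w, hw⟩ := Ideal.mem_span_singleton'.1 h1
      exact ⟨w, by rw [mul_comm]; exact hw⟩
    obtain ⟨L, hL⟩ := hP.prec hzc
    refine ⟨Ideal.Quotient.mk K L, fun n => ?_⟩
    rw [SModEq.sub_mem, ← hz n, ← map_sub, key]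
    have h1 := SModEq.sub_mem.1 (hL n)
    rw [mem_span_pow_smul_top_iff] at h1
    obtain ⟨w, hw⟩ := h1
    rw [← hw]
    exact Ideal.mul_mem_right _ _ (Ideal.mem_span_singleton_self _)


/-- Let A be a commutative ring and I an ideal of A; if A, regarded as an object of D(A) sitting in
degree 0, is I-adically derived complete, then the pair (A, I) is henselian: I lies in the Jacobson
radical and simple roots modulo I of monic polynomials lift to roots in A. -/
theorem result {A : Type u} [CommRing A] (I : Ideal A)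
    (hc : DRing.IsDerivedComplete I (Dual.inD A A)) : HenselianRing A I := by
  have hSC : ∀ g ∈ I, H35.SeqComplete g A :=
    (H35.isDerivedComplete_inD_iff_seqComplete I A).1 hc
  have hU : ∀ g ∈ I, IsUnit (1 - g) := fun g hg => isUnit_one_sub (hSC g hg)
  refine ⟨?_, ?_⟩
  · intro x hx
    rw [Ideal.mem_jacobson_bot]
    intro y
    have h3 := hU (-(x * y)) (I.neg_mem (I.mul_mem_right y hx))
    have e : 1 - -(x * y) = x * y + 1 := by ring
    rwa [e] at h3
  · intro F hF a₀ h₁ h₂
    have hunit₀ : IsUnit (F.derivative.eval a₀) := isUnit_of_isUnit_mk hU _ h₂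
    have hspan : Ideal.span {F.eval a₀} ≤ I := (Ideal.span_singleton_le_iff_mem I).2 h₁
    have hP : IsPrecomplete (Ideal.span {F.eval a₀}) A :=
      H35.isPrecomplete_of_fg _ ⟨{F.eval a₀}, by simp⟩ (fun f hf => hSC f (hspan hf))
    have hB : IsAdicComplete
        (Ideal.span {Ideal.Quotient.mk (⨅ n : ℕ, Ideal.span {F.eval a₀ ^ n}) (F.eval a₀)})
        (A ⧸ (⨅ n : ℕ, Ideal.span {F.eval a₀ ^ n})) :=
      isAdicComplete_quotient (F.eval a₀) _ (fun n => iInf_le _ n)
        (fun z hz => (Ideal.mem_iInf).2 hz) hP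
    obtain ⟨abar, habar, hdiff⟩ := HenselianRing.is_henselian
      (I := Ideal.span {Ideal.Quotient.mk (⨅ n : ℕ, Ideal.span {F.eval a₀ ^ n}) (F.eval a₀)})
      (F.map (Ideal.Quotient.mk (⨅ n : ℕ, Ideal.span {F.eval a₀ ^ n}))) (hF.map _)
      (Ideal.Quotient.mk (⨅ n : ℕ, Ideal.span {F.eval a₀ ^ n}) a₀)
      (by rw [Polynomial.eval_map_apply]; exact Ideal.mem_span_singleton_self _)
      (by
        rw [Polynomial.derivative_map, Polynomial.eval_map_apply]
        exact (hunit₀.map _).map _)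
    obtain ⟨c', hc'⟩ := Ideal.mem_span_singleton'.1 hdiff
    obtain ⟨c, rfl⟩ := Ideal.Quotient.mk_surjective c'
    have hpi : Ideal.Quotient.mk (⨅ n : ℕ, Ideal.span {F.eval a₀ ^ n}) (a₀ + c * F.eval a₀) =
        abar := by
      rw [map_add, map_mul, hc']
      ring
    have hk : F.eval (a₀ + c * F.eval a₀) ∈ (⨅ n : ℕ, Ideal.span {F.eval a₀ ^ n}) := by
      rw [← Ideal.Quotient.eq_zero_iff_mem, ← Polynomial.eval_map_apply, hpi]
      exact habar
    have hk' : ∀ n : ℕ, ∃ b, b * F.eval a₀ ^ n = F.eval (a₀ + c * F.eval a₀) := fun n =>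
      Ideal.mem_span_singleton'.1 ((Ideal.mem_iInf).1 hk n)
    have ha₁ : a₀ + c * F.eval a₀ - a₀ ∈ I := by
      rw [add_sub_cancel_left]
      exact I.mul_mem_left c h₁
    have hunit₁ : IsUnit (F.derivative.eval (a₀ + c * F.eval a₀)) := by
      refine isUnit_of_isUnit_mk hU _ ?_
      have e : Ideal.Quotient.mk I (F.derivative.eval (a₀ + c * F.eval a₀)) =
          Ideal.Quotient.mk I (F.derivative.eval a₀) := by
        rw [Ideal.Quotient.eq]
        obtain ⟨q, hq⟩ := Polynomial.sub_dvd_eval_sub (a₀ + c * F.eval a₀) a₀ F.derivative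
        rw [hq]
        exact I.mul_mem_right q ha₁
      rw [e]
      exact h₂
    have hkk : F.eval (a₀ + c * F.eval a₀) * F.eval (a₀ + c * F.eval a₀) = 0 := by
      have h5 := smul_eq_zero_of_divisible (hSC _ h₁) (F.eval (a₀ + c * F.eval a₀))
        (F.eval (a₀ + c * F.eval a₀)) hk' (fun n => by
          obtain ⟨b, hb⟩ := hk' n
          exact ⟨b, by rw [smul_eq_mul, mul_comm]; exact hb⟩)
      simpa using h5
    obtain ⟨v, hv⟩ := hunit₁.exists_right_inv
    obtain ⟨c₂, hc₂⟩ := F.binomExpansion (a₀ + c * F.eval a₀)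
      (-(F.eval (a₀ + c * F.eval a₀) * v))
    refine ⟨a₀ + c * F.eval a₀ + -(F.eval (a₀ + c * F.eval a₀) * v), ?_, ?_⟩
    · show F.eval _ = 0
      rw [hc₂]
      have e1 : (-(F.eval (a₀ + c * F.eval a₀) * v)) ^ 2 =
          (F.eval (a₀ + c * F.eval a₀) * F.eval (a₀ + c * F.eval a₀)) * (v * v) := by ring
      have e2 : F.derivative.eval (a₀ + c * F.eval a₀) * -(F.eval (a₀ + c * F.eval a₀) * v) =
          -(F.eval (a₀ + c * F.eval a₀) * (F.derivative.eval (a₀ + c * F.eval a₀) * v)) := by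
        ring
      rw [e1, hkk, zero_mul, mul_zero, add_zero, e2, hv, mul_one, add_neg_cancel]
    · have h6 : F.eval (a₀ + c * F.eval a₀) ∈ I := by
        have h7 := (Ideal.mem_iInf).1 hk 1
        rw [pow_one] at h7
        exact hspan h7
      have e3 : a₀ + c * F.eval a₀ + -(F.eval (a₀ + c * F.eval a₀) * v) - a₀ =
          (a₀ + c * F.eval a₀ - a₀) + -(F.eval (a₀ + c * F.eval a₀) * v) := by ring
      rw [e3]
      exact I.add_mem ha₁ (I.neg_mem (I.mul_mem_right v h6))

end Groth.Agent.S7044
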