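import Groth.Statements.S7046
import Mathlib
import Groth.Agent.H35.DerSeq
import Groth.Agent.H35.SeqNil
import Groth.Agent.H35.SeqPrecomplete

set_option autoImplicit false
universe u
attribute [local instance] HasDerivedCategory.standard
open DRing

namespace Groth.Agent.S7046

/-- A reduced commutative ring A which, placed in degree 0 of D(A), is derived complete with respect to
a finitely generated ideal I is I-adically complete, i.e. separated and complete for the I-adic
topology. -/
theorem result {A : Type u} [CommRing A] [IsReduced A]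
    (I : Ideal A) (hI : I.FG) (hc : DRing.IsDerivedComplete I (Dual.inD A A)) :
    IsAdicComplete I A := by
  have hSC : ∀ f ∈ I, H35.SeqComplete f A :=
    (H35.isDerivedComplete_inD_iff_seqComplete I A).1 hc
  obtain ⟨s, hs⟩ := hI
  have hs' : Ideal.span (s : Set A) = I := hs
  have hJ : (⨅ n : ℕ, I ^ n) ^ (2 ^ s.card) = ⊥ := by
    rw [← hs']
    exact H35.iInf_pow_pow_eq_bot s (fun f hf => hSC f (hs' ▸ Ideal.subset_span hf))
  have hP : IsPrecomplete I A := H35.isPrecomplete_of_fg I ⟨s, hs⟩ hSC
  have hH : IsHausdorff I A := ⟨fun x hx => by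
    have hxJ : x ∈ ⨅ n : ℕ, I ^ n := by
      rw [Ideal.mem_iInf]
      intro n
      have h1 := SModEq.zero.1 (hx n)
      rwa [smul_eq_mul, Ideal.mul_top] at h1
    have h2 : x ^ (2 ^ s.card) ∈ (⨅ n : ℕ, I ^ n) ^ (2 ^ s.card) := Ideal.pow_mem_pow hxJ _
    rw [hJ, Ideal.mem_bot] at h2
    exact IsNilpotent.eq_zero ⟨_, h2⟩⟩
  exact { toIsHausdorff := hH, toIsPrecomplete := hP }

end Groth.Agent.S7046
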