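import Groth.Statements.S7052
import Mathlib

set_option autoImplicit false
universe u
attribute [local instance] HasDerivedCategory.standard
open DRing
open CategoryTheory CategoryTheory.Limits

namespace Groth.Agent.S7052

/-- For a commutative ring A, an ideal I, an A-module M and a submodule M₁ such that both M₁ and M/M₁
(placed in degree 0) are derived complete with respect to I, the module M is derived complete with
respect to I. -/
theorem result {A : Type u} [CommRing A] (I : Ideal A)
    (M : Type u) [AddCommGroup M] [Module A M] (M₁ : Submodule A M)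
    (h1 : DRing.IsDerivedComplete I (Dual.inD A M₁)) (h3 : DRing.IsDerivedComplete I (Dual.inD A (M ⧸ M₁))) :
    DRing.IsDerivedComplete I (Dual.inD A M) := by
  classical
  let S : ShortComplex (ModuleCat.{u} A) :=
    ShortComplex.mk (ModuleCat.ofHom M₁.subtype) (ModuleCat.ofHom M₁.mkQ) (by ext x; simp)
  have hS : S.ShortExact := by
    have hex : S.Exact := by
      rw [ShortComplex.moduleCat_exact_iff]
      intro x hx
      have hx' : M₁.mkQ x = 0 := hx
      rw [Submodule.mkQ_apply, Submodule.Quotient.mk_eq_zero] at hx'
      exact ⟨⟨x, hx'⟩, rfl⟩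
    have : Mono S.f := (ModuleCat.mono_iff_injective _).2 M₁.injective_subtype
    have : Epi S.g := (ModuleCat.epi_iff_surjective _).2 M₁.mkQ_surjective
    exact ShortComplex.ShortExact.mk hex
  have hT := hS.singleTriangle_distinguished
  intro f hf n
  have hT' := Pretriangulated.Triangle.shift_distinguished _ hT n
  refine ⟨fun a b => ?_⟩
  suffices H : ∀ a : Dual.inD A (Localization.Away f) ⟶ (Dual.inD A M)⟦n⟧, a = 0 by
    rw [H a, H b]
  intro a
  obtain ⟨g, hg⟩ := Pretriangulated.Triangle.coyoneda_exact₂ _ hT' a
    (@Subsingleton.elim _ (h3 f hf n) _ _)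
  have hg0 : g = 0 := @Subsingleton.elim _ (h1 f hf n) g 0
  rw [hg, hg0]
  exact zero_comp

end Groth.Agent.S7052
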