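import Groth.Statements.S7054
import Mathlib
import Groth.Agent.H35.DerSeq

set_option autoImplicit false
universe u
attribute [local instance] HasDerivedCategory.standard
open DRing

namespace Groth.Agent.S7054

/-- For a commutative ring A and an ideal I such that A, placed in degree 0, is derived complete with
respect to I, every object of D(A) isomorphic to a bounded above complex of finite free A-modules is
derived complete with respect to I. -/
theorem result {A : Type u} [CommRing A] (I : Ideal A)
    (hA : DRing.IsDerivedComplete I (Dual.inD A A)) (K : Dual.D A) (hK : DRing.IsPseudoCoherent' A K) :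
    DRing.IsDerivedComplete I K := by
  obtain ⟨E, b, -, hff, ⟨e⟩⟩ := hK
  rw [H35.isDerivedComplete_iff_seqComplete]
  intro f hf i
  have hAf : H35.SeqComplete f A := (H35.isDerivedComplete_inD_iff_seqComplete I A).1 hA f hf
  have hX : ∀ j, H35.SeqComplete f (E.X j) := fun j => by
    obtain ⟨h1, h2⟩ := hff j
    exact H35.SeqComplete.of_finite_free hAf (E.X j)
  have iso1 : (DerivedCategory.homologyFunctor (ModuleCat.{u} A) i).obj K ≅
      (E.sc i).moduleCatLeftHomologyData.H :=
    (DerivedCategory.homologyFunctor (ModuleCat.{u} A) i).mapIso e.symm ≪≫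
      (DerivedCategory.homologyFunctorFactors (ModuleCat.{u} A) i).app E ≪≫
      (E.sc i).moduleCatHomologyIso
  have hker : H35.SeqComplete f (LinearMap.ker (E.sc i).g.hom) :=
    H35.SeqComplete.ker _ (hX _) (hX _)
  have hH : H35.SeqComplete f
      (LinearMap.ker (E.sc i).g.hom ⧸ LinearMap.range (E.sc i).moduleCatToCycles) :=
    H35.SeqComplete.coker _ (hX _) hker
  exact H35.SeqComplete.of_linearEquiv iso1.toLinearEquiv.symm hH

end Groth.Agent.S7054
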