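import Groth.Statements.S7060
import Groth.Agent.H35.AdicBC
import Groth.Agent.H35.DerCompCrit
import Groth.Agent.H35.HasLBC
import Groth.Agent.S7048
import Groth.Agent.S7050

set_option autoImplicit false
universe u
attribute [local instance] HasDerivedCategory.standard
open CategoryTheory
open DRing

namespace Groth.Agent.S7060

/-- Let A be a Noetherian commutative ring and I an ideal, and assume the derived completion functor
(left adjoint to the inclusion of derived complete objects) exists. If K is an object of D(A) whose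
cohomology modules are all finite A-modules, then for every n there is an A-linear isomorphism from
the n-th cohomology module of the derived completion K^∧ of K to the I-adic completion of H^n(K)
which carries the map H^n(K) → H^n(K^∧) induced by the canonical morphism K → K^∧ to the canonical
map from H^n(K) to its I-adic completion. -/
theorem result {A : Type u} [CommRing A] [IsNoetherianRing A]
    (I : Ideal A) [DRing.HasDerivedCompletion I] (K : Dual.D A)
    (hK : ∀ n : ℤ, Module.Finite A (Dual.HD A K n)) (n : ℤ) :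
    ∃ e : Dual.HD A ((DRing.derivedCompletion I).obj K).obj n ≃ₗ[A] AdicCompletion I (Dual.HD A K n),
      ∀ x : Dual.HD A K n,
        e (((DerivedCategory.homologyFunctor (ModuleCat.{u} A) n).map (DRing.toDerivedCompletion I K)).hom x) =
          AdicCompletion.of I (Dual.HD A K n) x := by
  classical
  have hLBC := Groth.Agent.H35.HasLBC.hasLBaseChange (Ideal.Quotient.mk I)
  have hI : I.FG := IsNoetherian.noetherian I
  obtain ⟨P, hPK, -, ⟨e⟩⟩ := Groth.Agent.H35.LBC.exists_kflat_model K
  -- the model `K' = Â ⊗_A P`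
  let TP : DRing.Cx A :=
    ((Groth.Agent.H35.AdicBC.T I).mapHomologicalComplex (ComplexShape.up ℤ)).obj P
  let u : P ⟶ TP := Groth.Agent.H35.ExactUnit.uCx (Groth.Agent.H35.AdicBC.T I)
    (Groth.Agent.H35.AdicBC.U I) P
  let K' : Dual.D A := DerivedCategory.Q.obj TP
  let η' : K ⟶ K' := e.inv ≫ DerivedCategory.Q.map u
  have hθ : ∀ i : ℤ, ∃ θ : (DerivedCategory.homologyFunctor (ModuleCat.{u} A) i).obj K' ≅
      (Groth.Agent.H35.AdicBC.T I).obj ((DerivedCategory.homologyFunctor (ModuleCat.{u} A) i).obj K),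
      (DerivedCategory.homologyFunctor (ModuleCat.{u} A) i).map η' ≫ θ.hom =
        (Groth.Agent.H35.AdicBC.U I).app
          ((DerivedCategory.homologyFunctor (ModuleCat.{u} A) i).obj K) := fun i =>
    Groth.Agent.H35.ExactUnit.exists_homology_iso (Groth.Agent.H35.AdicBC.T I)
      (Groth.Agent.H35.AdicBC.U I) P K e i
  -- `K'` is derived complete
  have hK' : DRing.IsDerivedComplete I K' := by
    rw [Groth.Agent.S7050.result]
    intro i
    obtain ⟨θ, -⟩ := hθ i
    have := hK i
    obtain ⟨θ₂, -⟩ := Groth.Agent.H35.AdicBC.exists_theta I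
      ((DerivedCategory.homologyFunctor (ModuleCat.{u} A) i).obj K)
    have := AdicCompletion.isAdicComplete (I := I) (M := Dual.HD A K i) hI
    have h48 := Groth.Agent.S7048.result I (AdicCompletion I (Dual.HD A K i))
    exact Groth.Agent.H35.DerCompAdj.isDerivedComplete_of_iso I
      ((DerivedCategory.singleFunctor (ModuleCat.{u} A) 0).mapIso
        ((θ.toLinearEquiv.trans θ₂).symm.toModuleIso)) h48
  -- the cone of `η'`
  let C : DRing.Cx A := CochainComplex.mappingCone u
  have hT₀ := DerivedCategory.mappingCone_triangle_distinguished u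
  let Y : Dual.D A := DerivedCategory.Q.obj C
  let q : K' ⟶ Y := DerivedCategory.Q.map (CochainComplex.mappingCone.inr u)
  let δ₀ : Y ⟶ (DerivedCategory.Q.obj P)⟦(1 : ℤ)⟧ :=
    (DerivedCategory.Q.mapTriangle.obj (CochainComplex.mappingCone.triangle u)).mor₃
  let δ : Y ⟶ K⟦(1 : ℤ)⟧ := δ₀ ≫ e.hom⟦(1 : ℤ)⟧'
  have hT : Pretriangulated.Triangle.mk η' q δ ∈ Pretriangulated.distinguishedTriangles := by
    refine Pretriangulated.isomorphic_distinguished _ hT₀ _ ?_
    refine Pretriangulated.Triangle.isoMk _ _ e.symm (Iso.refl _) (Iso.refl _) ?_ ?_ ?_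
    · show (e.inv ≫ DerivedCategory.Q.map u) ≫ 𝟙 K' = e.inv ≫ DerivedCategory.Q.map u
      rw [Category.comp_id]
    · show q ≫ 𝟙 Y = 𝟙 K' ≫ q
      rw [Category.comp_id, Category.id_comp]
    · show (δ₀ ≫ e.hom⟦(1 : ℤ)⟧') ≫ e.inv⟦(1 : ℤ)⟧' = 𝟙 Y ≫ δ₀
      rw [Category.assoc, ← Functor.map_comp, e.hom_inv_id, CategoryTheory.Functor.map_id,
        Category.comp_id, Category.id_comp]
  -- the cone dies modulo `I`
  have hY0 : Limits.IsZero ((DRing.LBaseChange (Ideal.Quotient.mk I)).obj Y) := by
    have hCK : DRing.IsKFlat A C :=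
      (Groth.Agent.H31.KFlatRing.isKFlat_mappingCone u).1 hPK
        (Groth.Agent.H35.AdicBC.isKFlat_T I P hPK)
    have ia := Groth.Agent.H35.TorIndBC.isIso_aLB_app (Ideal.Quotient.mk I) C hCK
    let g := (DTen.extCx (Ideal.Quotient.mk I)).map u
    have hg : IsIso g := by
      have : ∀ j : ℤ, IsIso (g.f j) := fun j =>
        Groth.Agent.H35.AdicBC.isIso_ext_unit I hI (P.X j)
      exact HomologicalComplex.Hom.isIso_of_components g
    have hTg := DerivedCategory.mappingCone_triangle_distinguished g
    have hz : Limits.IsZero (DerivedCategory.Q.obj (CochainComplex.mappingCone g)) :=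
      Pretriangulated.Triangle.isZero₃_of_isIso₁ _ hTg
        (inferInstanceAs (IsIso (DerivedCategory.Q.map g)))
    exact hz.of_iso (asIso ((Groth.Agent.H35.TorIndBC.aLB (Ideal.Quotient.mk I)).app C) ≪≫
      DerivedCategory.Q.mapIso (CochainComplex.mappingCone.mapHomologicalComplexIso u
        (ModuleCat.extendScalars.{u, u, u} (Ideal.Quotient.mk I))))
  obtain ⟨c, hc⟩ := Groth.Agent.H35.DerCompCrit.exists_iso_of_LO I η' q δ hT hK'
    (Groth.Agent.H35.DerCompCrit.LO_of_LBaseChange I hI Y hY0)
  -- conclusion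
  obtain ⟨θ, hθn⟩ := hθ n
  have := hK n
  obtain ⟨θ₂, hθ₂⟩ := Groth.Agent.H35.AdicBC.exists_theta I
    ((DerivedCategory.homologyFunctor (ModuleCat.{u} A) n).obj K)
  refine ⟨((DerivedCategory.homologyFunctor (ModuleCat.{u} A) n).mapIso c).toLinearEquiv.trans
    (θ.toLinearEquiv.trans θ₂), fun x => ?_⟩
  have h1 : (DerivedCategory.homologyFunctor (ModuleCat.{u} A) n).map (DRing.toDerivedCompletion I K) ≫
      (DerivedCategory.homologyFunctor (ModuleCat.{u} A) n).map c.hom ≫ θ.hom =
      (Groth.Agent.H35.AdicBC.U I).app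
          ((DerivedCategory.homologyFunctor (ModuleCat.{u} A) n).obj K) := by
    rw [← Functor.map_comp_assoc, hc, hθn]
  have h2 := congrArg (fun f => f.hom x) h1
  simp only [ModuleCat.hom_comp, LinearMap.comp_apply] at h2
  show θ₂ (θ.hom.hom (((DerivedCategory.homologyFunctor (ModuleCat.{u} A) n).map c.hom).hom _)) = _
  rw [h2]
  exact hθ₂ x

end Groth.Agent.S7060
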