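import Groth.Statements.S7062
import Groth.Agent.H10.GlueTor

set_option autoImplicit false
universe u
open EtGlue

namespace Groth.Agent.S7062

/-- For a glueing pair (R → R', f), i.e. R/f^nR → R'/f^nR' is bijective for all n > 0 and the sequence 0
→ R → R' ⊕ R_f → R'_f → 0 is exact, the group Tor_1^R(R', f^n R) vanishes for every n > 0 (Tor
computed by resolving the second argument, the ideal f^n R). -/
theorem result {R R' : Type u} [CommRing R] [CommRing R'] [Algebra R R']
    (f : R) (h : EtGlue.IsGlueingPair R R' f) (n : ℕ) (hn : 0 < n) :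
    Subsingleton (DRing.Tor R 1 R' ↥(Ideal.span ({f ^ n} : Set R))) := by
  classical
  let I : Ideal R := Ideal.span ({f ^ n} : Set R)
  let p : R →ₗ[R] I := LinearMap.codRestrict I (LinearMap.toSpanSingleton R R (f ^ n))
    (fun r => Ideal.mem_span_singleton'.mpr ⟨r, rfl⟩)
  let K : Submodule R R := LinearMap.ker p
  have hp : Function.Surjective p := by
    rintro ⟨y, hy⟩
    obtain ⟨a, ha⟩ := Ideal.mem_span_singleton'.mp hy
    exact ⟨a, Subtype.ext ha⟩
  have hex : Function.Exact K.subtype p := LinearMap.exact_subtype_ker_map p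
  have hinj : Function.Injective (K.subtype.lTensor R') := by
    apply Groth.Agent.H10.GlueTor.lTensor_subtype_injective_of_torsion_ideal h
    intro t ht
    refine ⟨n, ?_⟩
    have h1 : p t = 0 := LinearMap.mem_ker.mp ht
    have h2 : ((p t : I) : R) = 0 := by rw [h1]; rfl
    rw [mul_comm]
    exact h2
  exact Groth.Agent.H10.TorBridge.tor_one_subsingleton (M := R') (K := K) (F := R) (N := I)
    K.subtype p (Submodule.subtype_injective _) hp hex hinj

end Groth.Agent.S7062
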