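import Groth.Statements.S7063
import Groth.Agent.H10.GlueTor

set_option autoImplicit false
universe u
open EtGlue

namespace Groth.Agent.S7063

/-- For a glueing pair (R → R', f), the group Tor_1^R(R', R/R[f^∞]) vanishes, where R[f^∞] is the
submodule of elements of R killed by a power of f (Tor computed by resolving the second argument). -/
theorem result {R R' : Type u} [CommRing R] [CommRing R']
    [Algebra R R'] (f : R) (h : EtGlue.IsGlueingPair R R' f) :
    Subsingleton (DRing.Tor R 1 R' (R ⧸ DRing.torsionSub (Ideal.span ({f} : Set R)) R)) := by
  let K : Submodule R R := DRing.torsionSub (Ideal.span ({f} : Set R)) R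
  have hex : Function.Exact K.subtype K.mkQ := LinearMap.exact_subtype_mkQ K
  have hinj : Function.Injective (K.subtype.lTensor R') := by
    apply Groth.Agent.H10.GlueTor.lTensor_subtype_injective_of_torsion_ideal h
    rintro t ⟨k, hk⟩
    refine ⟨k, ?_⟩
    have := hk (f ^ k) (Ideal.pow_mem_pow (Ideal.mem_span_singleton_self f) k)
    simpa using this
  exact Groth.Agent.H10.TorBridge.tor_one_subsingleton (M := R') (K := K) (F := R) (N := R ⧸ K)
    K.subtype K.mkQ (Submodule.subtype_injective _) (Submodule.mkQ_surjective K) hex hinj

end Groth.Agent.S7063
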