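import Groth.Statements.S7065
import Mathlib.RingTheory.Spectrum.Prime.Topology

set_option autoImplicit false
universe u
open EtGlue

namespace Groth.Agent.S7065

/-- Let R → R' be a homomorphism of commutative rings and f an element of R such that the induced map
R/fR → R'/fR' is bijective. Then Spec(R') ⊔ Spec(R_f) → Spec(R) is surjective: every prime of R is
the contraction of a prime of R' or of a prime of R_f. -/
theorem result {R R' : Type u} [CommRing R] [CommRing R']
    [Algebra R R'] (f : R)
    (hq : Function.Bijective
      (Ideal.quotientMap (Ideal.map (algebraMap R R') (Ideal.span {f})) (algebraMap R R') Ideal.le_comap_map))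
    (p : PrimeSpectrum R) :
    (∃ q : PrimeSpectrum R', PrimeSpectrum.comap (algebraMap R R') q = p) ∨
      ∃ q : PrimeSpectrum (Localization.Away f), PrimeSpectrum.comap (algebraMap R (Localization.Away f)) q = p := by
  by_cases hf : f ∈ p.asIdeal
  · left
    have hJp : Ideal.span {f} ≤ p.asIdeal := by
      rw [Ideal.span_le]
      simpa using hf
    have h1 : p ∈ Set.range (PrimeSpectrum.comap (Ideal.Quotient.mk (Ideal.span {f}))) := by
      rw [range_comap_of_surjective _ _ Ideal.Quotient.mk_surjective, Ideal.mk_ker]
      exact hJp
    obtain ⟨pbar, hpbar⟩ := h1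
    let e := RingEquiv.ofBijective _ hq
    let qbar : PrimeSpectrum (R' ⧸ Ideal.map (algebraMap R R') (Ideal.span {f})) :=
      PrimeSpectrum.comap e.symm.toRingHom pbar
    refine ⟨PrimeSpectrum.comap (Ideal.Quotient.mk _) qbar, ?_⟩
    rw [← hpbar]
    apply PrimeSpectrum.ext
    ext x
    simp only [PrimeSpectrum.comap_asIdeal, Ideal.mem_comap, qbar]
    have : (Ideal.Quotient.mk (Ideal.map (algebraMap R R') (Ideal.span {f}))) ((algebraMap R R') x)
        = e (Ideal.Quotient.mk (Ideal.span {f}) x) := by
      simp [e, Ideal.quotientMap_mk]
    rw [this]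
    simp
  · right
    have h : p ∈ Set.range (PrimeSpectrum.comap (algebraMap R (Localization.Away f))) := by
      rw [PrimeSpectrum.localization_away_comap_range (Localization.Away f) f]
      exact hf
    exact h

end Groth.Agent.S7065
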