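import Groth.Statements.S7066
import Groth.Agent.H56.Cancel
import Groth.Agent.H35.RestrictTor
import Groth.Agent.H35.PerfAmp
-- import your own Groth.Agent.* helpers here

set_option autoImplicit false
universe u
attribute [local instance] HasDerivedCategory.standard
open MoreMor

namespace Groth.Agent.S7066

/-- A homomorphism of commutative rings A → B is perfect, i.e. pseudo-coherent with B of finite tor
dimension as an A-module, if and only if B is a quotient of a polynomial ring A[x_1, …, x_n] over
which B is a perfect module, i.e. B placed in degree 0 is isomorphic in the derived category of the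
polynomial ring to a bounded complex of finite projective modules. -/
theorem result (A B : Type u) [CommRing A] [CommRing B] [Algebra A B] :
    MoreMor.IsPerfectHom A B ↔
      ∃ (n : ℕ) (φ : MvPolynomial (Fin n) A →ₐ[A] B), Function.Surjective φ ∧
        letI := φ.toRingHom.toAlgebra
        DRing.IsPerfectModule (MvPolynomial (Fin n) A) B := by
  constructor
  · intro h
    obtain ⟨n, φ, hφs, hpc⟩ := h.1
    refine ⟨n, φ, hφs, ?_⟩
    have hQP : Groth.Agent.H56.PcMor.QP φ.toRingHom := by
      apply Groth.Agent.H56.PcMor.qp_of_comp_C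
      have h0 : φ.toRingHom.comp MvPolynomial.C = algebraMap A B :=
        RingHom.ext fun a => MvPolynomial.algHom_C φ a
      rw [h0]
      exact Groth.Agent.H56.PcMor.qp_algebraMap_iff.2 h
    letI : Algebra (MvPolynomial (Fin n) A) B := φ.toRingHom.toAlgebra
    show DRing.IsPerfect _ (Dual.inD _ B)
    rw [Groth.Agent.H35.TorAmp.isPerfect_iff]
    refine ⟨hpc, ?_⟩
    obtain ⟨d, hd⟩ := hQP.2
    exact ⟨-(d : ℤ), 0, (Groth.Agent.H35.TorAmp.hasTorDimLE_iff B d).1 hd⟩
  · rintro ⟨n, φ, hφs, hperf⟩
    have key : MoreMor.IsPseudoCoherentHom A B ∧ Groth.Agent.H56.PcMor.FT φ.toRingHom := by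
      letI : Algebra (MvPolynomial (Fin n) A) B := φ.toRingHom.toAlgebra
      obtain ⟨hpc, a, b, hamp⟩ := (Groth.Agent.H35.TorAmp.isPerfect_iff _).1 hperf
      refine ⟨⟨n, φ, hφs, hpc⟩, ?_⟩
      have h3 := Groth.Agent.H35.TorAmp.hasTorAmplitudeIn_inD_improve B hamp
      exact ⟨(-a).toNat, (Groth.Agent.H35.TorAmp.hasTorDimLE_iff B _).2 h3⟩
    refine ⟨key.1, ?_⟩
    have h1 : Groth.Agent.H56.PcMor.FT (algebraMap A (MvPolynomial (Fin n) A)) :=
      (Groth.Agent.H56.PcMor.qp_mvPolynomial A n).2
    have h2 := Groth.Agent.H56.PcMor.ft_stableUnderComposition _ _ h1 key.2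
    have h0 : φ.toRingHom.comp (algebraMap A (MvPolynomial (Fin n) A)) = algebraMap A B :=
      RingHom.ext fun a => φ.commutes a
    rw [h0] at h2
    exact Groth.Agent.H56.PcMor.ft_algebraMap_iff.1 h2

end Groth.Agent.S7066
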