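import Groth.Statements.S7069
import Groth.Agent.S7067
import Groth.Agent.S5791
import Groth.Agent.S5804
import Groth.Agent.S0563
import Groth.Agent.S14414
import Mathlib

set_option autoImplicit false
universe u
attribute [local instance] HasDerivedCategory.standard
open MoreMor

namespace Groth.Agent.S7069

open CategoryTheory in

/-- A finite type homomorphism of commutative rings A → B, where A is a regular ring of finite Krull
dimension, is perfect: pseudo-coherent with B of finite tor dimension as an A-module. -/
theorem result (A B : Type u) [CommRing A] [CommRing B] [Algebra A B]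
    [IsRegularRing A] (hdim : ringKrullDim A < ⊤) [Algebra.FiniteType A B] : MoreMor.IsPerfectHom A B := by
  haveI : IsNoetherianRing A := inferInstance
  refine ⟨Groth.Agent.S7067.result A B, ?_⟩
  obtain ⟨d, hd⟩ : ∃ d : ℕ, ringKrullDim A ≤ d := by
    induction h : ringKrullDim A using WithBot.recBotCoe with
    | bot => exact ⟨0, bot_le⟩
    | coe n =>
      induction n using ENat.recTopCoe with
      | top => rw [h] at hdim; exact absurd hdim (lt_irrefl _)
      | coe m => exact ⟨m, le_refl _⟩
  -- every localization has projective dimension bound
  have hloc : ∀ (p : PrimeSpectrum A) (M : Type u) [AddCommGroup M]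
      [Module (Localization.AtPrime p.asIdeal) M],
      HasProjectiveDimensionLT (ModuleCat.of (Localization.AtPrime p.asIdeal) M) (d + 1) := by
    intro p M _ _
    haveI : IsRegularLocalRing (Localization.AtPrime p.asIdeal) := inferInstance
    have hdp : ringKrullDim (Localization.AtPrime p.asIdeal) =
        ((IsLocalRing.maximalIdeal (Localization.AtPrime p.asIdeal)).spanFinrank : ℕ) :=
      (IsRegularLocalRing.spanFinrank_maximalIdeal).symm
    have hle : ringKrullDim (Localization.AtPrime p.asIdeal) ≤ d := by
      rw [IsLocalization.AtPrime.ringKrullDim_eq_height p.asIdeal]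
      exact (Ideal.height_le_ringKrullDim_of_isPrime).trans hd
    have hdn : (IsLocalRing.maximalIdeal (Localization.AtPrime p.asIdeal)).spanFinrank ≤ d := by
      rw [hdp] at hle
      exact_mod_cast hle
    haveI := Groth.Agent.S0563.result (Localization.AtPrime p.asIdeal) _ hdp M
    exact hasProjectiveDimensionLT_of_ge _
      ((IsLocalRing.maximalIdeal (Localization.AtPrime p.asIdeal)).spanFinrank + 1) (d + 1) (by omega)
  have hcyc : ∀ I : Ideal A, HasProjectiveDimensionLT (ModuleCat.of A (A ⧸ I)) (d + 1) := by
    intro I
    rw [Groth.Agent.S5791.result A (A ⧸ I) d]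
    intro p
    exact hloc p _
  refine ⟨d, fun N _ _ p hp => ?_⟩
  haveI : HasProjectiveDimensionLE (ModuleCat.of A N) d := Groth.Agent.S5804.result A d hcyc N
  exact ModuleCat.subsingleton_of_isZero
    (Groth.Agent.S14414.result A (ModuleCat.of A B) (ModuleCat.of A N) d p hp)

end Groth.Agent.S7069
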