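import Groth.Statements.S7071
import Groth.Agent.H56.PcHom
-- import your own Groth.Agent.* helpers here

set_option autoImplicit false
universe u
attribute [local instance] HasDerivedCategory.standard
open DerCA

namespace Groth.Agent.S7071

/-- Let R → A be a pseudo-coherent homomorphism of commutative rings, m an integer and K an object of
D(A). Then the object K is m-pseudo-coherent as an object of D(A) exactly when, relative to R, it is
m-pseudo-coherent. -/
theorem result (R A : Type u) [CommRing R] [CommRing A]
    [Algebra R A] (hRA : MoreMor.IsPseudoCoherentHom R A) (m : ℤ) (K : Dual.D A) :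
    DerCA.IsRelPseudoCoherent R A m K ↔ DRing.IsPseudoCoherent A m K := by
  obtain ⟨n, φ, hφ, hpc⟩ := hRA
  have hPc : Groth.Agent.H56.PcHom (φ : MvPolynomial (Fin n) R →+* A) := by
    letI := φ.toRingHom.toAlgebra
    exact Groth.Agent.H56.pcHom_algebraMap_iff.2 hpc
  constructor
  · rintro ⟨n', α', hα', hvia⟩
    have h1 : DRing.IsPseudoCoherent (MvPolynomial (Fin n) R) m
        ((DRing.restrictD (φ : MvPolynomial (Fin n) R →+* A)).obj K) :=
      (Groth.Agent.H56.via_iff_via α' hα' φ hφ K m).1 hvia
    exact (hPc.iff K m).1 h1
  · intro h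
    exact ⟨n, φ, hφ, (hPc.iff K m).2 h⟩

end Groth.Agent.S7071
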