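import Groth.Statements.S7074
import Groth.Agent.H56.FlatFP
import Groth.Agent.H35.BCSquare
import Groth.Agent.H35.LTensorCxLib

set_option autoImplicit false
universe u
attribute [local instance] HasDerivedCategory.standard
open CategoryTheory
open Dual2

namespace Groth.Agent.S7074

open CategoryTheory.Limits DRing DerivedCategory Groth.Agent.H31 Groth.Agent.H35.TorAmp
  Groth.Agent.H35.LBC Groth.Agent.H35.BCSquare Groth.Agent.H12.FlatCx Groth.Agent.H56

section
variable (R A : Type u) [CommRing R] [CommRing A] [Algebra R A]

/-- the restriction functor on complexes -/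
noncomputable abbrev ResC : DRing.Cx A ⥤ DRing.Cx R := DRing.restrictCx (algebraMap R A)

noncomputable abbrev ResM : ModuleCat.{u} A ⥤ ModuleCat.{u} R :=
  ModuleCat.restrictScalars.{u} (algebraMap R A)

variable {R A}

/-- `toD (Res E) ≅ restrictD K` from `toD E ≅ K`. -/
noncomputable def resIso {E : DRing.Cx A} {K : Dual.D A} (e : toD E ≅ K) :
    toD ((ResC R A).obj E) ≅ (DRing.restrictD (algebraMap R A)).obj K :=
  ((ModuleCat.restrictScalars.{u} (algebraMap R A)).mapDerivedCategoryFactors.app E).symm ≪≫
    (DRing.restrictD (algebraMap R A)).mapIso e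

/-! ### the direction `⇐` -/

lemma isPseudoCoherent_term [Module.Flat R A] [Algebra.FinitePresentation R A]
    (M : ModuleCat.{u} A) [Module.FinitePresentation A M]
    (hfl : Module.Flat R ((ResM R A).obj M)) (m : ℤ) :
    DRing.IsPseudoCoherent A m ((singleFunctor (ModuleCat.{u} A) 0).obj M) := by
  letI := modX (B₀ := R) M
  have := towerX (B₀ := R) M
  have : Module.Flat R M := hfl
  have h := PcMor.isPseudoCoherentModule'_of_flat_fp R A M
  exact isPseudoCoherent'_iff_forall.1 h m

theorem of_complex [Module.Flat R A] [Algebra.FinitePresentation R A] (K : Dual.D A)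
    (E : DRing.Cx A) (a b : ℤ) (hE : DRing.VanishesOutside E a b)
    (hterm : ∀ i : ℤ, Module.FinitePresentation A (E.X i) ∧
      Module.Flat R ((ModuleCat.restrictScalars (algebraMap R A)).obj (E.X i)))
    (e : DRing.toD E ≅ K) : Dual2.IsRelPerfect R A K := by
  refine ⟨?_, a, b, (ResC R A).obj E, ?_, ?_, ⟨resIso e⟩⟩
  · rw [isPseudoCoherent'_iff_forall]
    intro m
    refine isPseudoCoherent_of_iso e m ?_
    refine isPseudoCoherent_of_termwise m E b (fun i hi => hE i (Or.inr hi)) (fun i => ?_)
    have := (hterm i).1
    exact isPseudoCoherent_term (E.X i) (hterm i).2 (m - i)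
  · intro i hi
    exact (ResM R A).map_isZero (hE i hi)
  · intro i
    exact (hterm i).2

/-! ### the direction `⇒` -/

/-- the cokernel term of the truncation, restricted to `R`, is the cokernel for `Res F`. -/
noncomputable def truncEquiv (F : DRing.Cx A) (a : ℤ) :
    Wq ((ResC R A).obj F) (a - 1) a ≃ₗ[R] ((ResM R A).obj ((F.truncGE a).X a)) :=
  (opcyclesEquiv ((ResC R A).obj F) (a - 1) a
      ((ComplexShape.up ℤ).prev_eq' (show (a - 1) + 1 = a by omega))).symm ≪≫ₗ
    ((F.sc a).mapOpcyclesIso (ResM R A)).toLinearEquiv ≪≫ₗ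
    ((ResM R A).mapIso (F.truncGEXIsoOpcycles a)).symm.toLinearEquiv

lemma finitePresentation_Wq (F : DRing.Cx A) (a : ℤ) [Module.FinitePresentation A (F.X a)]
    [Module.Finite A (F.X (a - 1))] : Module.FinitePresentation A (Wq F (a - 1) a) := by
  refine Module.finitePresentation_of_surjective (LinearMap.range (F.d (a - 1) a).hom).mkQ
    (Submodule.mkQ_surjective _) ?_
  rw [Submodule.ker_mkQ, LinearMap.range_eq_map]
  exact Submodule.FG.map _ Module.Finite.fg_top

theorem to_complex [Module.Flat R A] (K : Dual.D A) (hK : Dual2.IsRelPerfect R A K) :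
    ∃ (E : DRing.Cx A) (a b : ℤ), DRing.VanishesOutside E a b ∧
      (∀ i : ℤ, Module.FinitePresentation A (E.X i) ∧
        Module.Flat R ((ModuleCat.restrictScalars (algebraMap R A)).obj (E.X i))) ∧
      Nonempty (DRing.toD E ≅ K) := by
  obtain ⟨⟨F, c, hFc, hFf, ⟨eF⟩⟩, a, b, hab⟩ := hK
  have hflF : TermwiseFlat F := fun i => by
    have := (hFf i).2
    infer_instance
  have hFK : DRing.IsKFlat A F := KFlatRing.isKFlat_of_bounded_above_flat F c hFc hflF
  have hι : (algebraMap R A).Flat := RingHom.flat_algebraMap_iff.2 inferInstance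
  have hRK : DRing.IsKFlat R ((ResC R A).obj F) := isKFlat_resCx _ hι F hFK
  have hRfl : TermwiseFlat ((ResC R A).obj F) := termwiseFlat_resCx F hflF
  have hTV : TorVanish a b ((ResC R A).obj F) :=
    torVanish_of_hasTorAmplitudeIn hab _ hRK (resIso eF)
  have hW : Module.Flat R (Wq ((ResC R A).obj F) (a - 1) a) :=
    Groth.Agent.H35.LTC.flat_Wq_of_exactAt _ hRfl a
      (fun N => hTV N (a - 1) (Or.inl (by omega)))
  -- exactness of `F` below `a`
  have hex : ∀ i : ℤ, i < a → F.ExactAt i := by
    intro i hi
    have h1 : ((ResC R A).obj F).ExactAt i := exactAt_of_tensor_unit _ i (hTV _ i (Or.inl hi))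
    exact (exactAt_map_iff (ResM R A) F i).1 h1
  have : F.IsGE a := (F.isGE_iff a).2 hex
  have hq : QuasiIso (F.πTruncGE a) := (F.quasiIso_πTruncGE_iff a).2 inferInstance
  have : IsIso (Q.map (F.πTruncGE a)) := (isIso_Q_map_iff_quasiIso _ _).2 hq
  refine ⟨F.truncGE a, a, max c a, ?_, ?_, ⟨(asIso (Q.map (F.πTruncGE a))).symm ≪≫ eF⟩⟩
  · rintro i (hi | hi)
    · exact (F.truncGE a).isZero_of_isStrictlyGE a i hi
    · have hci : c < i := lt_of_le_of_lt (le_max_left c a) hi
      have hai : a < i := lt_of_le_of_lt (le_max_right c a) hi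
      exact IsZero.of_iso (hFc i hci) (F.truncGEXIso a i hai)
  · intro i
    by_cases hia : i < a
    · have hz : IsZero ((F.truncGE a).X i) := (F.truncGE a).isZero_of_isStrictlyGE a i hia
      have : Subsingleton ((F.truncGE a).X i) := ModuleCat.subsingleton_of_isZero hz
      have : Subsingleton ((ResM R A).obj ((F.truncGE a).X i)) :=
        ModuleCat.subsingleton_of_isZero ((ResM R A).map_isZero hz)
      exact ⟨inferInstance, inferInstance⟩
    · by_cases hia' : i = a
      · subst hia'
        have := (hFf i).1
        have := (hFf i).2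
        have := (hFf (i - 1)).1
        have : Module.FinitePresentation A (F.X i) := Module.finitePresentation_of_projective _ _
        have := finitePresentation_Wq F i
        have e1 := (F.truncGEXIsoOpcycles i).toLinearEquiv
        have e2 := opcyclesEquiv F (i - 1) i
          ((ComplexShape.up ℤ).prev_eq' (show (i - 1) + 1 = i by omega))
        exact ⟨Module.FinitePresentation.of_equiv (e1 ≪≫ₗ e2).symm,
          Module.Flat.of_linearEquiv (truncEquiv F i).symm⟩
      · have hai : a < i := by omega
        have := (hFf i).1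
        have := (hFf i).2
        have : Module.FinitePresentation A (F.X i) := Module.finitePresentation_of_projective _ _
        have e1 := (F.truncGEXIso a i hai).toLinearEquiv
        have e1R := ((ResM R A).mapIso (F.truncGEXIso a i hai)).toLinearEquiv
        have : Module.Flat R ((ResM R A).obj (F.X i)) := hRfl i
        exact ⟨Module.FinitePresentation.of_equiv e1.symm, Module.Flat.of_linearEquiv e1R⟩

end


/-- For a flat homomorphism of finite presentation R → A of commutative rings and an object K of D(A), K
is R-perfect (pseudo-coherent over A and of finite tor dimension over R) if and only if K is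
isomorphic in D(A) to a bounded complex whose terms are finitely presented A-modules that are flat
as R-modules. -/
theorem result (R A : Type u) [CommRing R] [CommRing A] [Algebra R A]
    [Module.Flat R A] [Algebra.FinitePresentation R A] (K : Dual.D A) :
    Dual2.IsRelPerfect R A K ↔
      ∃ (E : DRing.Cx A) (a b : ℤ), DRing.VanishesOutside E a b ∧
        (∀ i : ℤ, Module.FinitePresentation A (E.X i) ∧
          Module.Flat R ((ModuleCat.restrictScalars (algebraMap R A)).obj (E.X i))) ∧
        Nonempty (DRing.toD E ≅ K) := by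
  exact ⟨fun h => to_complex K h, fun ⟨E, a, b, hE, hterm, ⟨e⟩⟩ => of_complex K E a b hE hterm e⟩

end Groth.Agent.S7074
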