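import Groth.Statements.S7077
import Groth.Agent.H56.DerCat7
import Mathlib.Algebra.Category.ModuleCat.Projective
-- import your own Groth.Agent.* helpers here

set_option autoImplicit false
universe u
attribute [local instance] HasDerivedCategory.standard
open CategoryTheory
open DRing
open CategoryTheory.Limits Pretriangulated DerivedCategory DerivedCategory.TStructure Groth.Agent.H56

namespace Groth.Agent.S7077

/-- (1)⇔(2): let R be a commutative ring and K an object of D(R) whose cohomology modules vanish outside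
degrees -1 and 0. Then H^{-1}(K) vanishes and H^0(K) is a projective R-module if and only if
Ext^1_R(K, M) = Hom_{D(R)}(K, M[1]) vanishes for every R-module M. -/
theorem result {R : Type u} [CommRing R] (K : Dual.D R)
    (hK : ∀ i : ℤ, i ≠ -1 → i ≠ 0 → Subsingleton (Dual.HD R K i)) :
    (Subsingleton (Dual.HD R K (-1)) ∧ Module.Projective R (Dual.HD R K 0)) ↔
      ∀ (M : Type u) [AddCommGroup M] [Module R M], Subsingleton (K ⟶ (Dual.inD R M)⟦(1 : ℤ)⟧) := by
  have hz : ∀ i : ℤ, i ≠ -1 → i ≠ 0 →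
      IsZero ((homologyFunctor (ModuleCat.{u} R) i).obj K) := by
    intro i h1 h2
    have := hK i h1 h2
    exact ModuleCat.isZero_of_subsingleton _
  have hKLE : K.IsLE 0 := by
    rw [isLE_iff]
    intro i hi
    exact hz i (by omega) (by omega)
  have hKGE : K.IsGE (-1) := by
    rw [isGE_iff]
    intro i hi
    exact hz i (by omega) (by omega)
  constructor
  · rintro ⟨h1, h2⟩ M _ _
    have hKGE0 : K.IsGE 0 := by
      rw [isGE_iff]
      intro i hi
      by_cases hi1 : i = -1
      · subst hi1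
        exact ModuleCat.isZero_of_subsingleton _
      · exact hz i hi1 (by omega)
    obtain ⟨e⟩ := nonempty_iso_single K 0
    have hproj : Projective ((homologyFunctor (ModuleCat.{u} R) 0).obj K) :=
      (IsProjective.iff_projective _).mp h2
    have hLE : ((Dual.inD R M)⟦(1 : ℤ)⟧).IsLE (-1) := t.isLE_shift _ 0 1 (-1) (by omega)
    have h0 : ∀ φ : K ⟶ (Dual.inD R M)⟦(1 : ℤ)⟧, φ = 0 := by
      intro φ
      have := hom_single_projective_eq_zero _ _ (-1) (by omega) (e.inv ≫ φ)
      rw [← cancel_epi e.inv, this, comp_zero]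
    exact ⟨fun φ ψ => by rw [h0 φ, h0 ψ]⟩
  · intro h
    have hZGE : ((t.truncGE 0).obj K).IsGE 0 :=
      inferInstanceAs (t.IsGE ((t.truncGE 0).obj K) 0)
    have hZLE : ((t.truncGE 0).obj K).IsLE 0 :=
      inferInstanceAs (t.IsLE ((t.truncGE 0).obj K) 0)
    obtain ⟨eZ⟩ := nonempty_iso_single ((t.truncGE 0).obj K) 0
    have hA : ∀ (M : ModuleCat.{u} R)
        (ψ : (singleFunctor (ModuleCat.{u} R) 0).obj
          ((homologyFunctor (ModuleCat.{u} R) 0).obj ((t.truncGE 0).obj K)) ⟶
          ((singleFunctor (ModuleCat.{u} R) 0).obj M)⟦(1 : ℤ)⟧), ψ = 0 := by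
      intro M ψ
      have hGE : (((singleFunctor (ModuleCat.{u} R) 0).obj M)⟦(1 : ℤ)⟧).IsGE (0 - 1) :=
        t.isGE_shift _ 0 1 (0 - 1) (by omega)
      have h1 : eZ.hom ≫ ψ = 0 := by
        apply eq_zero_of_truncGEπ_comp K _ 0
        exact (h M).elim _ _
      rw [← cancel_epi eZ.hom, h1, comp_zero]
    have hP' : Projective ((homologyFunctor (ModuleCat.{u} R) 0).obj ((t.truncGE 0).obj K)) :=
      projective_of_hom_single_shift_eq_zero _ hA
    have hX : ∀ r : K ⟶ (t.truncLT 0).obj K, r = 0 := by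
      have hXGE : ((t.truncLT 0).obj K).IsGE (-1) :=
        inferInstanceAs (t.IsGE ((t.truncLT 0).obj K) (-1))
      have hXLE : ((t.truncLT 0).obj K).IsLE (-1) :=
        inferInstanceAs (t.IsLE ((t.truncLT 0).obj K) (0 - 1))
      obtain ⟨eX⟩ := nonempty_iso_single ((t.truncLT 0).obj K) (-1)
      intro r
      have h1 := (h ((homologyFunctor (ModuleCat.{u} R) (-1)).obj ((t.truncLT 0).obj K))).elim
        (r ≫ eX.hom ≫ (((singleFunctors (ModuleCat.{u} R)).shiftIso 1 (-1) 0 (by omega)).app
          ((homologyFunctor (ModuleCat.{u} R) (-1)).obj ((t.truncLT 0).obj K))).inv) 0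
      rw [← Category.assoc] at h1
      have h2 := (cancel_mono _).mp (h1.trans zero_comp.symm)
      exact (cancel_mono _).mp (h2.trans zero_comp.symm)
    have hδ : (t.truncGEδLT 0).app K = 0 := by
      have hLE : (((t.truncLT 0).obj K)⟦(1 : ℤ)⟧).IsLE (-2) :=
        t.isLE_shift _ (0 - 1) 1 (-2) (by omega)
      have := hom_single_projective_eq_zero _ (((t.truncLT 0).obj K)⟦(1 : ℤ)⟧) (-2) (by omega)
        (eZ.inv ≫ (t.truncGEδLT 0).app K)
      rw [← cancel_epi eZ.inv, this, comp_zero]
    obtain ⟨s, hs⟩ : ∃ s : (t.truncGE 0).obj K ⟶ K,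
        𝟙 ((t.truncGE 0).obj K) = s ≫ (t.truncGEπ 0).app K :=
      Triangle.coyoneda_exact₃ _ (t.triangleLTGE_distinguished 0 K) (𝟙 _)
        (by show 𝟙 _ ≫ (t.truncGEδLT 0).app K = 0; rw [hδ, comp_zero])
    have hiso : IsIso ((t.truncGEπ 0).app K) :=
      isIso_mor₂_of_section _ (t.triangleLTGE_distinguished 0 K) s hs.symm hX
    have hKGE0 : K.IsGE 0 := (t.isGE_iff_isIso_truncGEπ_app 0 K).mpr hiso
    constructor
    · exact ModuleCat.subsingleton_of_isZero (isZero_of_isGE K 0 (-1) (by omega))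
    · have hi : IsIso ((homologyFunctor (ModuleCat.{u} R) 0).map ((t.truncGEπ 0).app K)) :=
        inferInstance
      have : Projective ((homologyFunctor (ModuleCat.{u} R) 0).obj K) :=
        Projective.of_iso (asIso ((homologyFunctor (ModuleCat.{u} R) 0).map
          ((t.truncGEπ 0).app K))).symm hP'
      exact (IsProjective.iff_projective _).mpr this

end Groth.Agent.S7077
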