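import Groth.Statements.S7079
import Groth.Agent.H56.TwoTerm
import Mathlib.Algebra.Category.ModuleCat.Projective
import Mathlib.Algebra.Homology.ShortComplex.ModuleCat
import Mathlib.RingTheory.Finiteness.Cardinality
import Mathlib.RingTheory.Noetherian.Basic
-- import your own Groth.Agent.* helpers here

set_option autoImplicit false
universe u
attribute [local instance] HasDerivedCategory.standard
open CategoryTheory
open DRing

namespace Groth.Agent.S7079

lemma finite_of_exact {R : Type u} [CommRing R] {A B C : Type u} [AddCommGroup A] [Module R A]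
    [AddCommGroup B] [Module R B] [AddCommGroup C] [Module R C]
    (u : A →ₗ[R] B) (v : B →ₗ[R] C) (h : LinearMap.range u = LinearMap.ker v)
    [Module.Finite R A] [IsNoetherian R C] : Module.Finite R B := by
  rw [Module.finite_def]
  apply Submodule.fg_of_fg_map_of_fg_inf_ker v
  · exact IsNoetherian.noetherian _
  · rw [top_inf_eq, ← h, LinearMap.range_eq_map]
    exact (Module.Finite.fg_top).map u


/-- For a Noetherian commutative ring R and an object K of D(R) whose cohomology modules vanish outside
degrees -1 and 0 and are finite modules in those two degrees, K is represented by a two-term complex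
K^{-1} → K^0 with K^0 finite free and K^{-1} finite. -/
theorem result {R : Type u} [CommRing R] [IsNoetherianRing R] (K : Dual.D R)
    (hK : ∀ i : ℤ, i ≠ -1 → i ≠ 0 → Subsingleton (Dual.HD R K i))
    (h1 : Module.Finite R (Dual.HD R K (-1))) (h0 : Module.Finite R (Dual.HD R K 0)) :
    ∃ E : DRing.Cx R, DRing.VanishesOutside E (-1) 0 ∧ Module.Free R (E.X 0) ∧ Module.Finite R (E.X 0) ∧
      Module.Finite R (E.X (-1)) ∧ Nonempty (DRing.toD E ≅ K) := by
  have hz : ∀ i : ℤ, i ≠ -1 → i ≠ 0 →
      Limits.IsZero ((DerivedCategory.homologyFunctor (ModuleCat.{u} R) i).obj K) := by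
    intro i h1' h2'
    have := hK i h1' h2'
    exact ModuleCat.isZero_of_subsingleton _
  haveI hKLE : K.IsLE 0 := by
    rw [DerivedCategory.isLE_iff]
    intro i hi
    exact hz i (by omega) (by omega)
  haveI hKGE : K.IsGE (-1) := by
    rw [DerivedCategory.isGE_iff]
    intro i hi
    exact hz i (by omega) (by omega)
  obtain ⟨n, π, hπ⟩ := Module.Finite.exists_fin' R (Dual.HD R K 0)
  let π' : ModuleCat.of R (Fin n → R) ⟶
      (DerivedCategory.homologyFunctor (ModuleCat.{u} R) 0).obj K := ModuleCat.ofHom π
  haveI : Epi π' := (ModuleCat.epi_iff_surjective _).mpr hπ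
  haveI : Projective (ModuleCat.of R (Fin n → R)) :=
    (IsProjective.iff_projective _).mp inferInstance
  obtain ⟨N, d', u, v, w, hex, ⟨e⟩⟩ :=
    Groth.Agent.H56.exists_twoTerm_of_projective_cover K (ModuleCat.of R (Fin n → R)) π'
  obtain ⟨hvan, ⟨e0⟩, ⟨em1⟩⟩ :=
    Groth.Agent.H56.mappingCone_single_map_terms N (ModuleCat.of R (Fin n → R)) d'
  have hN : Module.Finite R N := by
    haveI : Module.Finite R ((DerivedCategory.homologyFunctor (ModuleCat.{u} R) (-1)).obj K) := h1
    have e' : (Fin n → R) ≃ₗ[R] ((DerivedCategory.homologyFunctor (ModuleCat.{u} R) 0).obj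
        ((DerivedCategory.singleFunctor (ModuleCat.{u} R) 0).obj
          (ModuleCat.of R (Fin n → R)))) :=
      ((DerivedCategory.singleFunctorCompHomologyFunctorIso (ModuleCat.{u} R) 0).app
        (ModuleCat.of R (Fin n → R))).toLinearEquiv.symm
    haveI : Module.Finite R ((DerivedCategory.homologyFunctor (ModuleCat.{u} R) 0).obj
        ((DerivedCategory.singleFunctor (ModuleCat.{u} R) 0).obj
          (ModuleCat.of R (Fin n → R)))) := Module.Finite.equiv e'
    exact finite_of_exact u.hom v.hom hex.moduleCat_range_eq_ker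
  have e0' : (Fin n → R) ≃ₗ[R] (CochainComplex.mappingCone
      ((HomologicalComplex.single (ModuleCat.{u} R) (ComplexShape.up ℤ) 0).map d')).X 0 :=
    e0.toLinearEquiv.symm
  refine ⟨CochainComplex.mappingCone
    ((HomologicalComplex.single (ModuleCat.{u} R) (ComplexShape.up ℤ) 0).map d'), hvan,
    Module.Free.of_equiv e0', Module.Finite.equiv e0', ?_, ⟨e.symm⟩⟩
  exact Module.Finite.equiv em1.toLinearEquiv.symm

end Groth.Agent.S7079
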