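import Groth.Statements.S7080
import Groth.Agent.H56.DerCat6
import Mathlib.Algebra.Homology.DerivedCategory.Linear
-- import your own Groth.Agent.* helpers here

set_option autoImplicit false
universe u
attribute [local instance] HasDerivedCategory.standard
open CategoryTheory
open DRing

namespace Groth.Agent.S7080

/-- Let R be a commutative ring and α : K → K' a morphism in D(R) between objects whose cohomology
vanishes outside degrees -1 and 0, such that H^0(α) is an isomorphism and H^{-1}(α) is surjective.
If multiplication by an element f of R is the zero endomorphism of K in D(R), then it is also the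
zero endomorphism of K'. -/
theorem result {R : Type u} [CommRing R] {K K' : Dual.D R} (α : K ⟶ K')
    (hK : ∀ i : ℤ, i ≠ -1 → i ≠ 0 → Subsingleton (Dual.HD R K i))
    (hK' : ∀ i : ℤ, i ≠ -1 → i ≠ 0 → Subsingleton (Dual.HD R K' i))
    (h0 : IsIso ((DerivedCategory.homologyFunctor (ModuleCat.{u} R) 0).map α))
    (h1 : Epi ((DerivedCategory.homologyFunctor (ModuleCat.{u} R) (-1)).map α))
    (f : R) (hf : f • (𝟙 K) = 0) : f • (𝟙 K') = 0 := by
  obtain ⟨C, β, γ, hT⟩ := Pretriangulated.distinguished_cocone_triangle α
  have hzK : ∀ i : ℤ, i ≠ -1 → i ≠ 0 →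
      Limits.IsZero ((DerivedCategory.homologyFunctor (ModuleCat.{u} R) i).obj K) := by
    intro i h1 h2
    have := hK i h1 h2
    exact ModuleCat.isZero_of_subsingleton _
  have hzK' : ∀ i : ℤ, i ≠ -1 → i ≠ 0 →
      Limits.IsZero ((DerivedCategory.homologyFunctor (ModuleCat.{u} R) i).obj K') := by
    intro i h1 h2
    have := hK' i h1 h2
    exact ModuleCat.isZero_of_subsingleton _
  have hK'GE : K'.IsGE (-1) := by
    rw [DerivedCategory.isGE_iff]
    intro i hi
    exact hzK' i (by omega) (by omega)
  have hCLE : C.IsLE (-1 - 1) := by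
    refine Groth.Agent.H56.isLE_obj₃_of_epi_mono (Pretriangulated.Triangle.mk α β γ) hT (-1) ?_ ?_
    · intro j hj
      by_cases hj1 : j = -1
      · subst hj1; exact h1
      · by_cases hj0 : j = 0
        · subst hj0
          exact inferInstanceAs (Epi ((DerivedCategory.homologyFunctor (ModuleCat.{u} R) 0).map α))
        · exact (hzK' j hj1 hj0).epi _
    · intro j hj
      by_cases hj0 : j = 0
      · subst hj0
        exact inferInstanceAs (Mono ((DerivedCategory.homologyFunctor (ModuleCat.{u} R) 0).map α))
      · exact (hzK j (by omega) hj0).mono _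
  have h0' : α ≫ (f • 𝟙 K') = 0 := by
    rw [Linear.comp_smul, Category.comp_id, ← Category.id_comp α, ← Linear.smul_comp, hf,
      Limits.zero_comp]
  obtain ⟨w, hw⟩ := Pretriangulated.Triangle.yoneda_exact₂ _ hT (f • 𝟙 K') h0'
  have hw0 : w = 0 :=
    DerivedCategory.TStructure.t.zero_of_isLE_of_isGE w (-1 - 1) (-1) (by omega) hCLE hK'GE
  rw [hw, hw0]
  exact Limits.comp_zero

end Groth.Agent.S7080
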