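import Groth.Statements.S7081
import Groth.Agent.H56.DerCat7
-- import your own Groth.Agent.* helpers here

set_option autoImplicit false
universe u
attribute [local instance] HasDerivedCategory.standard
open CategoryTheory
open DRing

namespace Groth.Agent.S7081

/-- Let R be a commutative ring and φ : K₁ → K₂, ψ : K₂ → K₃ morphisms in D(R) between objects whose
cohomology vanishes outside degrees -1 and 0. If φ induces the zero map on H^0 and ψ induces the
zero map on H^{-1}, then the composite K₁ → K₃ is zero. -/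
theorem result {R : Type u} [CommRing R] {K₁ K₂ K₃ : Dual.D R}
    (φ : K₁ ⟶ K₂) (ψ : K₂ ⟶ K₃)
    (h₁ : ∀ i : ℤ, i ≠ -1 → i ≠ 0 → Subsingleton (Dual.HD R K₁ i))
    (h₂ : ∀ i : ℤ, i ≠ -1 → i ≠ 0 → Subsingleton (Dual.HD R K₂ i))
    (h₃ : ∀ i : ℤ, i ≠ -1 → i ≠ 0 → Subsingleton (Dual.HD R K₃ i))
    (hφ : (DerivedCategory.homologyFunctor (ModuleCat.{u} R) 0).map φ = 0)
    (hψ : (DerivedCategory.homologyFunctor (ModuleCat.{u} R) (-1)).map ψ = 0) :
    φ ≫ ψ = 0 := by
  have hz : ∀ (X : Dual.D R), (∀ i : ℤ, i ≠ -1 → i ≠ 0 → Subsingleton (Dual.HD R X i)) →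
      X.IsLE 0 ∧ X.IsGE (-1) := by
    intro X hX
    have hz' : ∀ i : ℤ, i ≠ -1 → i ≠ 0 →
        Limits.IsZero ((DerivedCategory.homologyFunctor (ModuleCat.{u} R) i).obj X) := by
      intro i h1' h2'
      have := hX i h1' h2'
      exact ModuleCat.isZero_of_subsingleton _
    constructor
    · rw [DerivedCategory.isLE_iff]
      intro i hi
      exact hz' i (by omega) (by omega)
    · rw [DerivedCategory.isGE_iff]
      intro i hi
      exact hz' i (by omega) (by omega)
  obtain ⟨hLE1, -⟩ := hz K₁ h₁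
  obtain ⟨-, hGE3⟩ := hz K₃ h₃
  obtain ⟨W, hW, φ', c, hc⟩ := Groth.Agent.H56.exists_factor_of_homologyMap_eq_zero 0 φ hφ
  have e : (0 : ℤ) - 1 = -1 := by norm_num
  rw [e] at hW
  have h0 : c ≫ ψ = 0 := by
    apply Groth.Agent.H56.hom_eq_zero_of_homologyMap_eq_zero (-1)
    rw [Functor.map_comp, hψ, Limits.comp_zero]
  rw [hc, Category.assoc, h0, Limits.comp_zero]

end Groth.Agent.S7081
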