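import Groth.Statements.S7083
import Groth.Agent.H56.DerCat7
-- import your own Groth.Agent.* helpers here

set_option autoImplicit false
universe u
attribute [local instance] HasDerivedCategory.standard
open CategoryTheory
open DRing

namespace Groth.Agent.S7083

/-- Let R be a commutative ring, I an ideal, and α : K → K' a morphism in D(R) between objects whose
cohomology vanishes outside degrees -1 and 0, such that H^0(α) is an isomorphism and H^{-1}(α) is
surjective. If I annihilates Ext^1_R(K, N) = Hom_{D(R)}(K, N[1]) for every R-module N, then I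
annihilates Ext^1_R(K', N) for every R-module N. -/
theorem result {R : Type u} [CommRing R] (I : Ideal R) {K K' : Dual.D R}
    (α : K ⟶ K')
    (hK : ∀ i : ℤ, i ≠ -1 → i ≠ 0 → Subsingleton (Dual.HD R K i))
    (hK' : ∀ i : ℤ, i ≠ -1 → i ≠ 0 → Subsingleton (Dual.HD R K' i))
    (h0 : IsIso ((DerivedCategory.homologyFunctor (ModuleCat.{u} R) 0).map α))
    (h1 : Epi ((DerivedCategory.homologyFunctor (ModuleCat.{u} R) (-1)).map α))
    (hI : ∀ (N : Type u) [AddCommGroup N] [Module R N] (a : R), a ∈ I →
        ∀ ξ : K ⟶ (Dual.inD R N)⟦(1 : ℤ)⟧, a • ξ = 0)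
    (N : Type u) [AddCommGroup N] [Module R N] (a : R) (ha : a ∈ I) (ξ : K' ⟶ (Dual.inD R N)⟦(1 : ℤ)⟧) :
    a • ξ = 0 := by
  have hz : ∀ (X : Dual.D R), (∀ i : ℤ, i ≠ -1 → i ≠ 0 → Subsingleton (Dual.HD R X i)) →
      X.IsLE 0 ∧ X.IsGE (-1) := by
    intro X hX
    have hz' : ∀ i : ℤ, i ≠ -1 → i ≠ 0 →
        Limits.IsZero ((DerivedCategory.homologyFunctor (ModuleCat.{u} R) i).obj X) := by
      intro i h1' h2'
      have := hX i h1' h2'
      exact ModuleCat.isZero_of_subsingleton _
    constructor
    · rw [DerivedCategory.isLE_iff]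
      intro i hi
      exact hz' i (by omega) (by omega)
    · rw [DerivedCategory.isGE_iff]
      intro i hi
      exact hz' i (by omega) (by omega)
  obtain ⟨hLE, hGE⟩ := hz K hK
  obtain ⟨hLE', hGE'⟩ := hz K' hK'
  obtain ⟨C, g, h, hT⟩ := Pretriangulated.distinguished_cocone_triangle α
  have hC : C.IsLE (-2) := by
    have h3 := Groth.Agent.H56.isLE_obj₃_of_epi_mono (Pretriangulated.Triangle.mk α g h) hT (-1) ?_ ?_
    · have e : (-1 : ℤ) - 1 = -2 := by norm_num
      rw [e] at h3
      exact h3
    · intro j hj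
      by_cases hj1 : j = -1
      · subst hj1
        exact h1
      · by_cases hj0 : j = 0
        · subst hj0
          exact (inferInstance : Epi ((DerivedCategory.homologyFunctor (ModuleCat.{u} R) 0).map α))
        · have hzz : Limits.IsZero ((DerivedCategory.homologyFunctor (ModuleCat.{u} R) j).obj K') :=
            DerivedCategory.isZero_of_isLE K' 0 j (by omega)
          exact ⟨fun _ _ _ => hzz.eq_of_src _ _⟩
    · intro j hj
      by_cases hj0 : j = 0
      · subst hj0
        exact (inferInstance : Mono ((DerivedCategory.homologyFunctor (ModuleCat.{u} R) 0).map α))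
      · have hzz : Limits.IsZero ((DerivedCategory.homologyFunctor (ModuleCat.{u} R) j).obj K) :=
          DerivedCategory.isZero_of_isLE K 0 j (by omega)
        exact ⟨fun _ _ _ => hzz.eq_of_tgt _ _⟩
  have hα : α ≫ (a • ξ) = 0 := by rw [Linear.comp_smul, hI N a ha (α ≫ ξ)]
  obtain ⟨γ, hγ⟩ := Pretriangulated.Triangle.yoneda_exact₂ _ hT (a • ξ) hα
  have hγ0 : γ = 0 := DerivedCategory.TStructure.t.zero_of_isLE_of_isGE γ (-2) (-1) (by omega) hC
    (DerivedCategory.TStructure.t.isGE_shift _ 0 1 (-1) (by omega))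
  rw [hγ, hγ0]
  exact Limits.comp_zero

end Groth.Agent.S7083
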