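import Groth.Statements.S7084
import Groth.Agent.H35.LBC2

set_option autoImplicit false
universe u
attribute [local instance] HasDerivedCategory.standard
open CategoryTheory
open LocCoh

namespace Groth.Agent.S7084

/-- Parts (1)–(2) in the case of a module killed by a power of the ideal: let R be a commutative ring, I
an ideal and K an object of D(R) such that K ⊗^L_R R/I has no cohomology in positive degrees. Then
for every R-module N annihilated by some power of I, K ⊗^L_R N has no cohomology in positive
degrees. (The published statement allows any I-power torsion module N; this row takes N annihilated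
by a single power of I, the case the published argument carries out in full, which contains the case
N = R/I^n.) The derived tensor products with modules are total left derived functors, assumed to
exist. -/
theorem result {R : Type u} [CommRing R] (I : Ideal R)
    [DRing.HasLTensor R (ModuleCat.of R (R ⧸ I))] (K : Dual.D R)
    (hK : ∀ i : ℤ, 0 < i → Subsingleton (Dual.HD R ((DRing.LTensor R (ModuleCat.of R (R ⧸ I))).obj K) i))
    (N : Type u) [AddCommGroup N] [Module R N] (n : ℕ) (hN : I ^ n • (⊤ : Submodule R N) = ⊥)
    [DRing.HasLTensor R (ModuleCat.of R N)] (i : ℤ) (hi : 0 < i) :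
    Subsingleton (Dual.HD R ((DRing.LTensor R (ModuleCat.of R N)).obj K) i) := by
  obtain ⟨P, hPK, hPfl, ⟨e⟩⟩ := Groth.Agent.H35.LBC.exists_kflat_model K
  have hφ : Function.Surjective (Ideal.Quotient.mk I) := Ideal.Quotient.mk_surjective
  have h1 : ∀ j : ℤ, 0 < j → (CohIII.tensorObj P (ModuleCat.of R (R ⧸ I))).ExactAt j := by
    intro j hj
    have hsub := hK j hj
    exact (Groth.Agent.S6945.isZero_H_iff _ P hPK e j).1 (ModuleCat.isZero_of_subsingleton _)
  have h2 : ∀ j : ℤ, 0 < j →
      ((Groth.Agent.H35.FlatBC.extCx (Ideal.Quotient.mk I)).obj P).ExactAt j := by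
    intro j hj
    rw [Groth.Agent.H35.LBC.exactAt_ext_iff_tensor,
      Groth.Agent.H35.LBC.exactAt_tensor_iff_of_module_iso P
        (Groth.Agent.H35.LBC.resQuotIso I) j]
    exact h1 j hj
  have hle : (DRing.toD ((Groth.Agent.H35.FlatBC.extCx (Ideal.Quotient.mk I)).obj P)).IsLE 0 := by
    rw [DerivedCategory.isLE_iff]
    intro j hj
    exact (Groth.Agent.H35.TorAmp.exactAt_iff_isZero_H _ j).1 (h2 j hj)
  have h3 : ∀ N' : ModuleCat.{u} (R ⧸ I), (CohIII.tensorObj
      ((Groth.Agent.H35.FlatBC.extCx (Ideal.Quotient.mk I)).obj P) N').ExactAt i :=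
    fun N' => Groth.Agent.H35.LBC.exactAt_tensor_of_isLE _
      (Groth.Agent.H35.KFlatBC.isKFlat_extCx (Ideal.Quotient.mk I) P hPK) 0 hle N' i hi
  have h4 : (CohIII.tensorObj P (ModuleCat.of R N)).ExactAt i := by
    refine Groth.Agent.H35.LBC.exactAt_tensor_of_pow P hPfl I i (fun N₀ hN₀ => ?_) n
      (ModuleCat.of R N) (fun a ha x => ?_)
    · refine Groth.Agent.H35.LBC.exactAt_tensor_of_killed (Ideal.Quotient.mk I) hφ P i h3 N₀ ?_
      rw [Ideal.mk_ker]
      exact hN₀
    · have hmem : a • x ∈ I ^ n • (⊤ : Submodule R N) :=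
        Submodule.smul_mem_smul ha Submodule.mem_top
      rw [hN] at hmem
      exact (Submodule.mem_bot R).1 hmem
  apply ModuleCat.subsingleton_of_isZero
  rw [Groth.Agent.S6945.isZero_H_iff _ P hPK e i]
  exact h4

end Groth.Agent.S7084
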