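import Groth.Statements.S7085
import Mathlib.RingTheory.Finiteness.Ideal

set_option autoImplicit false
universe u
open LocCoh

namespace Groth.Agent.S7085

/-- Let R be a commutative ring, I an ideal generated by finitely many elements f_1, …, f_t, and M an
R-module. Then: M has no nonzero element killed by I if and only if it has no nonzero element killed
by I^n for every n ≥ 1; and M has no nonzero element killed by I if and only if an element of M
vanishing in every localization M_{f_i} is zero. -/
theorem result {R : Type u} [CommRing R] {t : ℕ} (f : Fin t → R)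
    (I : Ideal R) (hI : Ideal.span (Set.range f) = I) (M : Type u) [AddCommGroup M] [Module R M] :
    (LocCoh.torsionBy I M = ⊥ ↔ ∀ n : ℕ, 1 ≤ n → LocCoh.torsionBy (I ^ n) M = ⊥) ∧
    (LocCoh.torsionBy I M = ⊥ ↔
      ∀ m : M, (∀ i : Fin t, LocalizedModule.mkLinearMap (Submonoid.powers (f i)) M m = 0) → m = 0) := by
  have part1 : LocCoh.torsionBy I M = ⊥ → ∀ n : ℕ, 1 ≤ n → LocCoh.torsionBy (I ^ n) M = ⊥ := by
    intro h n hn
    induction n, hn using Nat.le_induction with
    | base => rwa [pow_one]
    | succ n hn ih =>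
      rw [eq_bot_iff]
      intro m hm
      rw [Submodule.mem_bot]
      have hm' : ∀ c ∈ I ^ (n + 1), c • m = 0 := fun c hc =>
        (Submodule.mem_torsionBySet_iff _ _).mp hm ⟨c, hc⟩
      have h1 : m ∈ LocCoh.torsionBy (I ^ n) M := by
        rw [Submodule.mem_torsionBySet_iff]
        rintro ⟨a, ha⟩
        have h2 : a • m ∈ LocCoh.torsionBy I M := by
          rw [Submodule.mem_torsionBySet_iff]
          rintro ⟨b, hb⟩
          change b • a • m = 0
          rw [← mul_smul]
          apply hm'
          rw [pow_succ, mul_comm]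
          exact Ideal.mul_mem_mul hb ha
        rw [h] at h2
        exact (Submodule.mem_bot R).mp h2
      rw [ih] at h1
      exact (Submodule.mem_bot R).mp h1
  refine ⟨⟨part1, fun h => by simpa using h 1 le_rfl⟩, ⟨?_, ?_⟩⟩
  · intro h m hm
    have hex : ∀ i : Fin t, ∃ e : ℕ, f i ^ e • m = 0 := by
      intro i
      have h1 : m ∈ LinearMap.ker (LocalizedModule.mkLinearMap (Submonoid.powers (f i)) M) := hm i
      obtain ⟨r, ⟨e, rfl⟩, hr⟩ := LocalizedModule.mem_ker_mkLinearMap_iff.mp h1
      exact ⟨e, hr⟩
    choose e he using hex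
    have hIfg : I.FG := hI ▸ Submodule.fg_span (Set.finite_range f)
    have hrad : I ≤ (Ideal.span (Set.range fun i => f i ^ e i)).radical := by
      rw [← hI, Ideal.span_le]
      rintro _ ⟨i, rfl⟩
      exact ⟨e i, Ideal.subset_span ⟨i, rfl⟩⟩
    obtain ⟨N, hN⟩ := Ideal.exists_pow_le_of_le_radical_of_fg hrad hIfg
    have hJ : ∀ a ∈ Ideal.span (Set.range fun i => f i ^ e i), a • m = 0 := by
      intro a ha
      induction ha using Submodule.span_induction with
      | mem s hs => obtain ⟨i, rfl⟩ := hs; exact he i
      | zero => simp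
      | add u v _ _ hu hv => rw [add_smul, hu, hv, add_zero]
      | smul c u _ hu => rw [smul_eq_mul, mul_smul, hu, smul_zero]
    have h2 : m ∈ LocCoh.torsionBy (I ^ (N + 1)) M := by
      rw [Submodule.mem_torsionBySet_iff]
      rintro ⟨a, ha⟩
      exact hJ a (hN (Ideal.pow_le_pow_right (Nat.le_succ N) ha))
    rw [part1 h (N + 1) (Nat.succ_le_succ (Nat.zero_le N))] at h2
    exact (Submodule.mem_bot R).mp h2
  · intro h
    rw [eq_bot_iff]
    intro m hm
    rw [Submodule.mem_bot]
    apply h
    intro i
    have h1 : m ∈ LinearMap.ker (LocalizedModule.mkLinearMap (Submonoid.powers (f i)) M) := by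
      rw [LocalizedModule.mem_ker_mkLinearMap_iff]
      refine ⟨f i, Submonoid.mem_powers _, ?_⟩
      exact (Submodule.mem_torsionBySet_iff _ _).mp hm ⟨f i, hI ▸ Ideal.subset_span ⟨i, rfl⟩⟩
    exact h1

end Groth.Agent.S7085
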