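import Groth.Statements.S7089
import Mathlib
import Groth.Agent.H90.PureCat

set_option autoImplicit false
universe u
open CategoryTheory
open LocCoh

namespace Groth.Agent.S7089

open Groth.Agent.H90

variable {R : Type u} [CommRing R] (I : Ideal R)

/-- Index type of the canonical cover. -/
def Idx (N : ModuleCat.{u} R) : Type u := Σ n : ℕ, {m : N // ∀ a ∈ I ^ n, a • m = 0}

/-- The canonical covering module `⨁ R/I^n`. -/
noncomputable def covObj (N : ModuleCat.{u} R) : ModuleCat.{u} R :=
  ModuleCat.of R (DirectSum (Idx I N) fun j => R ⧸ I ^ j.1)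

open Classical in
/-- The canonical map `⨁ R/I^n → N`. -/
noncomputable def covLin (N : ModuleCat.{u} R) :
    (DirectSum (Idx I N) fun j => R ⧸ I ^ j.1) →ₗ[R] N :=
  DirectSum.toModule R (Idx I N) N (fun j =>
    (I ^ j.1).liftQ (LinearMap.toSpanSingleton R N j.2.1) (by
      intro a ha
      rw [LinearMap.mem_ker, LinearMap.toSpanSingleton_apply]
      exact j.2.2 a ha))

theorem covLin_surjective (N : ModuleCat.{u} R) (hN : IsPowerTorsion I N) :
    Function.Surjective (covLin I N) := by
  classical
  intro m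
  obtain ⟨n, hn⟩ := hN m
  refine ⟨DirectSum.lof R (Idx I N) (fun j => R ⧸ I ^ j.1) ⟨n, m, hn⟩
    (Submodule.Quotient.mk 1), ?_⟩
  unfold covLin
  rw [DirectSum.toModule_lof]
  show ((I ^ n).liftQ (LinearMap.toSpanSingleton R N m) _) (Submodule.Quotient.mk 1) = m
  rw [Submodule.liftQ_apply, LinearMap.toSpanSingleton_apply, one_smul]

theorem cov_isPowerTorsion (N : ModuleCat.{u} R) :
    IsPowerTorsion I (DirectSum (Idx I N) fun j => R ⧸ I ^ j.1) := by
  classical
  intro x
  induction x using DirectSum.induction_on with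
  | zero => exact ⟨0, fun a _ => smul_zero a⟩
  | of j y =>
    refine ⟨j.1, fun a ha => ?_⟩
    have h0 : a • y = 0 := by
      obtain ⟨r, rfl⟩ := Submodule.Quotient.mk_surjective (I ^ j.1) y
      rw [← Submodule.Quotient.mk_smul, Submodule.Quotient.mk_eq_zero]
      exact (I ^ j.1).mul_mem_right r ha
    have h1 : a • DirectSum.of (fun j : Idx I N => R ⧸ I ^ j.1) j y =
        DirectSum.lof R (Idx I N) (fun j => R ⧸ I ^ j.1) j (a • y) := by
      rw [map_smul]
      rfl
    rw [h1, h0, map_zero]
  | add x y hx hy =>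
    obtain ⟨n1, h1⟩ := hx
    obtain ⟨n2, h2⟩ := hy
    refine ⟨max n1 n2, fun a ha => ?_⟩
    rw [smul_add, h1 a (Ideal.pow_le_pow_right (le_max_left n1 n2) ha),
      h2 a (Ideal.pow_le_pow_right (le_max_right n1 n2) ha), add_zero]

/-- The covering morphism. -/
noncomputable def covHom (N : ModuleCat.{u} R) : covObj I N ⟶ N := ModuleCat.ofHom (covLin I N)

/-- The kernel of the covering morphism. -/
noncomputable def kerObj (N : ModuleCat.{u} R) : ModuleCat.{u} R :=
  ModuleCat.of R (LinearMap.ker (covLin I N))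

/-- The inclusion of the kernel. -/
noncomputable def kerHom (N : ModuleCat.{u} R) : kerObj I N ⟶ covObj I N :=
  ModuleCat.ofHom (LinearMap.ker (covLin I N)).subtype

theorem kerHom_covHom (N : ModuleCat.{u} R) : kerHom I N ≫ covHom I N = 0 := by
  apply ModuleCat.hom_ext
  apply LinearMap.ext
  intro x
  exact x.2

theorem ker_isPowerTorsion (N : ModuleCat.{u} R) : IsPowerTorsion I (kerObj I N) := by
  intro x
  obtain ⟨n, hn⟩ := cov_isPowerTorsion I N x.1
  exact ⟨n, fun a ha => Subtype.ext (hn a ha)⟩

theorem cov_shortExact (N : ModuleCat.{u} R) (hN : IsPowerTorsion I N) :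
    (ShortComplex.mk (kerHom I N) (covHom I N) (kerHom_covHom I N)).ShortExact := by
  refine ShortComplex.ShortExact.mk' ?_ ?_ ?_
  · rw [ShortComplex.ShortExact.moduleCat_exact_iff_function_exact]
    exact LinearMap.exact_subtype_ker_map (covLin I N)
  · rw [ModuleCat.mono_iff_injective]
    exact Subtype.val_injective
  · rw [ModuleCat.epi_iff_surjective]
    exact covLin_surjective I N hN

/-- The sequence of syzygies. -/
noncomputable def Zseq (M : ModuleCat.{u} R) : ℕ → ModuleCat.{u} R
  | 0 => M
  | n + 1 => kerObj I (Zseq M n)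

theorem Zseq_isPowerTorsion (M : ModuleCat.{u} R) (hM : IsPowerTorsion I M) :
    ∀ n, IsPowerTorsion I (Zseq I M n)
  | 0 => hM
  | n + 1 => ker_isPowerTorsion I (Zseq I M n)

/-- Let R be a commutative ring, I an ideal and M an R-module in which every element is killed by a
power of I. Then M has a left resolution by modules each of which is a direct sum of copies of R/I^n
for varying n: there are a chain complex K of R-modules, a quasi-isomorphism from K to M placed in
degree 0, and for each i an isomorphism of K_i with such a direct sum. -/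
theorem result {R : Type u} [CommRing R] (I : Ideal R)
    (M : Type u) [AddCommGroup M] [Module R M] (hM : LocCoh.IsPowerTorsion I M) :
    ∃ (K : ChainComplex (ModuleCat.{u} R) ℕ) (π : K ⟶ (ChainComplex.single₀ (ModuleCat.{u} R)).obj (ModuleCat.of R M)),
      QuasiIso π ∧ ∀ i : ℕ, ∃ (ι : Type u) (n : ι → ℕ),
        Nonempty (K.X i ≅ ModuleCat.of R (DirectSum ι fun j => R ⧸ I ^ n j)) := by
  let M' : ModuleCat.{u} R := ModuleCat.of R M
  let Z : ℕ → ModuleCat.{u} R := Zseq I M'
  let X : ℕ → ModuleCat.{u} R := fun n => covObj I (Z n)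
  let i : ∀ n, Z (n + 1) ⟶ X n := fun n => kerHom I (Z n)
  let p : ∀ n, X n ⟶ Z n := fun n => covHom I (Z n)
  have hip : ∀ n, i n ≫ p n = 0 := fun n => kerHom_covHom I (Z n)
  have hZ : ∀ n, IsPowerTorsion I (Z n) := Zseq_isPowerTorsion I M' hM
  refine ⟨PureCat.spliceCx Z X i p hip, PureCat.spliceAug Z X i p hip, ?_, ?_⟩
  · have h := PureCat.chain_res_qi (𝟭 (ModuleCat.{u} R)) _ M' _ Z X i p hip
      (PureCat.spliceX Z X i p hip)
      (HomologicalComplex.singleObjXSelf (ComplexShape.down ℕ) 0 M').symm
      (PureCat.spliceCx_d Z X i p hip) (PureCat.spliceAug_f0 Z X i p hip)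
      (fun n => (cov_shortExact I (Z n) (hZ n)).map_of_exact (𝟭 _))
    exact h
  · intro k
    exact ⟨Idx I (Z k), fun j => j.1, ⟨PureCat.spliceX Z X i p hip k⟩⟩

end Groth.Agent.S7089
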