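import Groth.Statements.S7090
import Groth.Agent.H10.FlatGlue

set_option autoImplicit false
universe u
open TensorProduct
open EtAlg

namespace Groth.Agent.S7090

/-- Let R → S be a flat homomorphism of commutative rings and I = (f_1, …, f_t) a finitely generated
ideal such that R/I → S/IS is bijective. Then for every R-module M the glueing complex 0 → M → (S
⊗_R M) × ∏ M_{f_i} → ∏ (S ⊗_R M)_{f_i} × ∏ M_{f_i f_j} is exact. Concretely: an element of M with
zero image in S ⊗_R M and in every M_{f_i} is zero; and given x in S ⊗_R M and elements m_1, …, m_t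
of M and N ≥ 0 such that x and m_i / f_i^N have the same image in (S ⊗_R M)_{f_i} for each i, and
m_i / f_i^N, m_j / f_j^N have the same image in M_{f_i f_j} for all i, j, there is m in M with 1 ⊗ m
= x and m / 1 = m_i / f_i^N in M_{f_i} for every i. -/
theorem result {R S : Type u} [CommRing R] [CommRing S] [Algebra R S] [Module.Flat R S]
    {t : ℕ} (f : Fin t → R) (I : Ideal R) (hI : Ideal.span (Set.range f) = I)
    (hq : Function.Bijective
      (Ideal.quotientMap (Ideal.map (algebraMap R S) I) (algebraMap R S) Ideal.le_comap_map))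
    (M : Type u) [AddCommGroup M] [Module R M] :
    (∀ m : M, (1 : S) ⊗ₜ[R] m = 0 →
        (∀ i : Fin t, LocalizedModule.mkLinearMap (Submonoid.powers (f i)) M m = 0) → m = 0) ∧
    ∀ (x : S ⊗[R] M) (N : ℕ) (m : Fin t → M),
      (∀ i : Fin t, EtGlue.locOfTensor R S (f i) M x =
          EtGlue.tensorOfLoc R S (f i) M (LocalizedModule.mk (m i) ⟨f i ^ N, Submonoid.pow_mem _ (Submonoid.mem_powers (f i)) N⟩)) →
      (∀ i j : Fin t, ∃ e : ℕ, (f i * f j) ^ e • (f j ^ N • m i - f i ^ N • m j) = 0) →
        ∃ μ : M, (1 : S) ⊗ₜ[R] μ = x ∧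
          ∀ i : Fin t, LocalizedModule.mkLinearMap (Submonoid.powers (f i)) M μ =
            LocalizedModule.mk (m i) ⟨f i ^ N, Submonoid.pow_mem _ (Submonoid.mem_powers (f i)) N⟩ := by
  refine ⟨fun m h1 h2 =>
    Groth.Agent.H10.FlatGlue.eq_zero_of_tmul_eq_zero_of_localized hq f hI m h1 h2, ?_⟩
  intro x N m hA hB
  have hA' : ∀ i, ∃ e : ℕ, f i ^ e • (f i ^ N • x - (1 : S) ⊗ₜ[R] m i) = 0 := by
    intro i
    have h : LocalizedModule.mkLinearMap (Submonoid.powers (f i)) (S ⊗[R] M) x =
        IsLocalizedModule.map (Submonoid.powers (f i))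
          (LocalizedModule.mkLinearMap (Submonoid.powers (f i)) M)
          (LocalizedModule.mkLinearMap (Submonoid.powers (f i)) (S ⊗[R] M))
          (TensorProduct.mk R S M 1)
          (LocalizedModule.mk (m i)
            ⟨f i ^ N, Submonoid.pow_mem _ (Submonoid.mem_powers (f i)) N⟩) := hA i
    rw [LocalizedModule.mkLinearMap_apply, IsLocalizedModule.map_LocalizedModules,
      LocalizedModule.mk_eq] at h
    obtain ⟨u, hu⟩ := h
    obtain ⟨e, he⟩ := (Submonoid.mem_powers_iff _ _).mp u.2
    refine ⟨e, ?_⟩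
    rw [smul_sub, sub_eq_zero]
    have hu' : (u : R) • (f i ^ N) • x = (u : R) • (1 : R) • ((1 : S) ⊗ₜ[R] m i) := hu
    rw [one_smul, ← he] at hu'
    exact hu'
  exact Groth.Agent.H10.FlatGlue.exists_glue hq f hI M x N m hA' hB

end Groth.Agent.S7090
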