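import Groth.Statements.S7091
import Groth.Agent.H35.DerCompAdj

set_option autoImplicit false
universe u
attribute [local instance] HasDerivedCategory.standard
open CategoryTheory
open DRing

namespace Groth.Agent.S7091

/-- Let A be a commutative ring, I a finitely generated ideal, and assume the derived completion functor
(left adjoint to the inclusion of derived complete objects) exists. If a morphism K → L in D(A)
induces isomorphisms on cohomology in degrees ≥ 1 and a surjection in degree 0, then so does the
induced morphism between the derived completions. -/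
theorem result {A : Type u} [CommRing A] (I : Ideal A) (hI : I.FG)
    [DRing.HasDerivedCompletion I] {K L : Dual.D A} (φ : K ⟶ L)
    (hiso : ∀ i : ℤ, 1 ≤ i → IsIso ((DerivedCategory.homologyFunctor (ModuleCat.{u} A) i).map φ))
    (hepi : Epi ((DerivedCategory.homologyFunctor (ModuleCat.{u} A) 0).map φ)) :
    (∀ i : ℤ, 1 ≤ i → IsIso ((DerivedCategory.homologyFunctor (ModuleCat.{u} A) i).map
        ((DRing.derivedCompletion I).map φ).hom)) ∧
      Epi ((DerivedCategory.homologyFunctor (ModuleCat.{u} A) 0).map ((DRing.derivedCompletion I).map φ).hom) := by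
  obtain ⟨C, v, w, hT⟩ := Pretriangulated.distinguished_cocone_triangle φ
  obtain ⟨Z, v', w', hT'⟩ :=
    Pretriangulated.distinguished_cocone_triangle ((DRing.derivedCompletion I).map φ).hom
  have hC : C.IsLE (-1) := Groth.Agent.H56.isLE_cone_of_homology φ v w hT 0 (-1) (by norm_num)
    (fun i hi => hiso i (by omega)) hepi
  have hZ : Z.IsLE (-1) := Groth.Agent.H35.DerCompAdj.isLE_cone_comp I φ v w hT (-1) hC v' w' hT'
  obtain ⟨h1, h2⟩ := Groth.Agent.H56.homology_of_isLE_cone
    ((DRing.derivedCompletion I).map φ).hom v' w' hT' 0 (-1) (by norm_num)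
  exact ⟨fun i hi => h1 i (by omega), h2⟩

end Groth.Agent.S7091
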