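import Groth.Statements.S7092
import Groth.Agent.H35.DerCompKos

set_option autoImplicit false
universe u
attribute [local instance] HasDerivedCategory.standard
open CategoryTheory
open DRing

namespace Groth.Agent.S7092

/-- Let A be a commutative ring, I an ideal generated by a finite set of r elements, and assume the
derived completion functor exists. If a morphism K → L in D(A) induces isomorphisms on cohomology in
degrees ≤ -1 and an injection in degree 0, then the induced morphism of derived completions induces
isomorphisms on cohomology in degrees ≤ -r-1 and an injection in degree -r. -/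
theorem result {A : Type u} [CommRing A] (I : Ideal A) (s : Finset A)
    (hs : Ideal.span (s : Set A) = I) [DRing.HasDerivedCompletion I] {K L : Dual.D A} (φ : K ⟶ L)
    (hiso : ∀ i : ℤ, i ≤ -1 → IsIso ((DerivedCategory.homologyFunctor (ModuleCat.{u} A) i).map φ))
    (hmono : Mono ((DerivedCategory.homologyFunctor (ModuleCat.{u} A) 0).map φ)) :
    (∀ i : ℤ, i ≤ -(s.card : ℤ) - 1 → IsIso ((DerivedCategory.homologyFunctor (ModuleCat.{u} A) i).map
        ((DRing.derivedCompletion I).map φ).hom)) ∧
      Mono ((DerivedCategory.homologyFunctor (ModuleCat.{u} A) (-(s.card : ℤ))).map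
        ((DRing.derivedCompletion I).map φ).hom) := by
  classical
  obtain ⟨C, v, w, hT⟩ := Pretriangulated.distinguished_cocone_triangle φ
  obtain ⟨Z, v', w', hT'⟩ :=
    Pretriangulated.distinguished_cocone_triangle ((DRing.derivedCompletion I).map φ).hom
  have hC : C.IsGE 0 := Groth.Agent.H35.DerCompKos.isGE_cone_of_homology φ v w hT 0
    (fun i hi => hiso i (by omega)) hmono
  have hl : Ideal.span {x | x ∈ s.toList} = I := by
    rw [← hs]
    congr 1
    ext x
    simp
  have hZ : Z.IsGE (0 - (s.toList.length : ℤ)) :=
    Groth.Agent.H35.DerCompKos.isGE_cone_comp hl φ v w hT 0 hC v' w' hT'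
  rw [Finset.length_toList, zero_sub] at hZ
  obtain ⟨h1, h2⟩ := Groth.Agent.H35.DerCompKos.homology_of_isGE_cone
    ((DRing.derivedCompletion I).map φ).hom v' w' hT' _ hZ
  exact ⟨fun i hi => h1 i (by omega), h2⟩

end Groth.Agent.S7092
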