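import Groth.Statements.S7095
import Groth.Agent.H35.LTensorDT
import Groth.Agent.H35.LTensorCxComplete
import Groth.Agent.H35.DerCompKos2
import Groth.Agent.H56.PCohHom
import Groth.Agent.H56.PCohMore

set_option autoImplicit false
universe u
attribute [local instance] HasDerivedCategory.standard
open CategoryTheory
open DRing

namespace Groth.Agent.S7095

/-- Let A be a Noetherian commutative ring and I an ideal, and assume the derived completion functor and
the derived tensor product with a finite A-module M (total left derived functor) exist. For every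
object K of D(A) whose cohomology is bounded above, K^∧ ⊗^L_A M is the derived completion of K ⊗^L_A
M through the map K ⊗^L_A M → K^∧ ⊗^L_A M induced by the canonical morphism K → K^∧ to the derived
completion K^∧ of K: the object K^∧ ⊗^L_A M is derived complete with respect to I, and every
morphism from K ⊗^L_A M to a derived complete object of D(A) factors uniquely through that map. -/
theorem result {A : Type u} [CommRing A] [IsNoetherianRing A] (I : Ideal A)
    [DRing.HasDerivedCompletion I] (M : Type u) [AddCommGroup M] [Module A M] [Module.Finite A M]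
    [DRing.HasLTensor A (ModuleCat.of A M)] (K : Dual.D A) (b : ℤ) (hK : ∀ i : ℤ, b < i → Subsingleton (Dual.HD A K i)) :
    DRing.IsDerivedComplete I ((DRing.LTensor A (ModuleCat.of A M)).obj ((DRing.derivedCompletion I).obj K).obj) ∧
      ∀ E : Dual.D A, DRing.IsDerivedComplete I E →
        Function.Bijective (fun φ : (DRing.LTensor A (ModuleCat.of A M)).obj ((DRing.derivedCompletion I).obj K).obj ⟶ E =>
          (DRing.LTensor A (ModuleCat.of A M)).map (DRing.toDerivedCompletion I K) ≫ φ) := by
  have hpc : DRing.IsPseudoCoherent' A (Dual.inD A M) :=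
    Groth.Agent.H56.isPseudoCoherent'_iff_forall.2 (fun m =>
      Groth.Agent.H56.isPseudoCoherent_single_finite (ModuleCat.of A M) inferInstance m)
  obtain ⟨F, c, hFc, hFf, ⟨eF⟩⟩ := hpc
  have e : DRing.toD F ≅ DRing.toD (Groth.Agent.H35.LTC.sg (ModuleCat.of A M)) :=
    eF ≪≫ (DerivedCategory.singleFunctorIsoCompQ (ModuleCat.{u} A) 0).app (ModuleCat.of A M)
  have : DRing.HasLTensorCx A F := Groth.Agent.H53.LTensorCxObj.hasLTensorCx F
  have hFK : DRing.IsKFlat A F :=
    Groth.Agent.H35.LTC.isKFlat_of_bddAbove_finiteProjective F c hFc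
      (Groth.Agent.H35.LTC.finiteProjective_of_free hFf)
  have : K.IsLE b := (DerivedCategory.isLE_iff K b).2 (fun i hi =>
    haveI := hK i hi
    ModuleCat.isZero_of_subsingleton _)
  have : (Groth.Agent.H35.DerCompAdj.comp I K).IsLE b :=
    Groth.Agent.H35.DerCompKos.isLE_comp (I := I) K b inferInstance
  obtain ⟨j⟩ := Groth.Agent.H35.LTensorDT.nonempty_iso_LTensorCx (ModuleCat.of A M) F e
    (Groth.Agent.H35.DerCompAdj.comp I K)
  refine ⟨Groth.Agent.H35.DerCompAdj.isDerivedComplete_of_iso I j.symm
    (Groth.Agent.H35.LTensorCxComplete.isDerivedComplete_obj I F hFK hFf c hFc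
      (Groth.Agent.H35.DerCompAdj.comp I K) b
      (Groth.Agent.H35.DerCompAdj.isDerivedComplete_comp I K)), ?_⟩
  intro E hE
  obtain ⟨Y, q, δ, hT⟩ := Pretriangulated.distinguished_cocone_triangle
    (DRing.toDerivedCompletion I K)
  have hY : Groth.Agent.H35.DerCompKos.LO I Y :=
    Groth.Agent.H35.DerCompKos.LO_cone_unit I K q δ hT
  obtain ⟨s, hs⟩ : I.FG := IsNoetherian.noetherian I
  have hl : Ideal.span {x | x ∈ s.toList} = I := by
    rw [← hs]
    congr 1
    ext x
    simp
  obtain ⟨Y₀, hKos⟩ := Groth.Agent.H35.DerCompKos.exists_isKos s.toList Y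
  have hY₀ : Limits.IsZero Y₀ := Groth.Agent.H35.DerCompKos.isZero_of_LO_of_isKos hl hKos hY
  have hGKos := Groth.Agent.H35.LTensorDT.isKos_map (ModuleCat.of A M) s.toList hKos
  have hGY : Groth.Agent.H35.DerCompKos.LO I ((DRing.LTensor A (ModuleCat.of A M)).obj Y) :=
    Groth.Agent.H35.DerCompKos2.LO_of_isKos_zero I s.toList
      (fun a ha => by rw [← hl]; exact Ideal.subset_span ha) _ _ hGKos
      (Groth.Agent.H35.LTensorDT.isZero_obj (ModuleCat.of A M) hY₀)
  obtain ⟨r, hr⟩ := Groth.Agent.H35.LTensorDT.DT_map (ModuleCat.of A M) _ _ ⟨δ, hT⟩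
  exact Groth.Agent.H35.DerCompKos2.bijective_of_LO I _ _ r hr hGY E hE

end Groth.Agent.S7095
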