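import Groth.Statements.S7097
import Groth.Agent.H56.DCompTri
import Groth.Agent.H35.DerCompAdj
-- import your own Groth.Agent.* helpers here

set_option autoImplicit false
universe u
attribute [local instance] HasDerivedCategory.standard
open CategoryTheory
open DRing
open Groth.Agent.H56.DCompTri Groth.Agent.H56.DCompB Groth.Agent.H33.RHomCxKInj Groth.Agent.H33.TensorHom
open Groth.Agent.H35.DerCompKos Groth.Agent.H35.DerCompAdj

namespace Groth.Agent.S7097

/-- Let A be a commutative ring and I the ideal generated by a finite list of elements f_1, …, f_r, and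
let K be an object of D(A). Assume the derived completion functor and the derived functor RHom_A(Č,
−) of the extended alternating Cech complex Č = (A → ∏ A_{f_i} → … → A_{f_1⋯f_r}) exist. Then the
derived completion of K is isomorphic in D(A) to RHom_A(Č, K). (Existence of an isomorphism; the
derived completion is itself only determined up to isomorphism.) -/
theorem result {A : Type u} [CommRing A] (fs : List A) (I : Ideal A)
    (hI : Ideal.span {x : A | x ∈ fs} = I) [DRing.HasDerivedCompletion I]
    [DRing.HasRHomCx (DerCA.extCech (ModuleCat.of A A) fs)] (K : Dual.D A) :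
    Nonempty (((DRing.derivedCompletion I).obj K).obj ≅
      (DRing.RHomCx (DerCA.extCech (ModuleCat.of A A) fs)).obj K) := by
  subst hI
  obtain ⟨J, hJ, ⟨eJ⟩⟩ := Groth.Agent.H6.QCoprod.exists_model K
  haveI := hJ
  haveI : Module.Flat A (ModuleCat.of A A) := inferInstanceAs (Module.Flat A A)
  have hK' := extCech_complete (ModuleCat.of A A) fs J
  have hV : ∀ f ∈ Ideal.span {x : A | x ∈ fs}, ∀ X : DRing.Cx A, FLocal f X →
      LO (Ideal.span {x : A | x ∈ fs}) (DerivedCategory.Q.obj (DRing.homCx X J)) :=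
    fun f hf X hX => LO_of_isIso_smul _ hf _ (hX.isIso_smul_Q J)
  have hfs : ∀ f ∈ fs, f ∈ Ideal.span {x : A | x ∈ fs} := fun f hf => Ideal.subset_span hf
  let η : K ⟶ DerivedCategory.Q.obj (DRing.homCx (DerCA.extCech (ModuleCat.of A A) fs) J) :=
    eJ.inv ≫ DerivedCategory.Q.map (baseIso J).hom ≫
      DerivedCategory.Q.map (homCxPre (aug (ModuleCat.of A A) fs) J)
  have hη : ∀ E : Dual.D A, DRing.IsDerivedComplete (Ideal.span {x : A | x ∈ fs}) E →
      Function.Bijective (fun x : DerivedCategory.Q.obj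
        (DRing.homCx (DerCA.extCech (ModuleCat.of A A) fs) J) ⟶ E => η ≫ x) := by
    intro E hE
    have h1 := aug_bijective (ModuleCat.of A A) _ J hV fs hfs E hE
    let θ : K ≅ DerivedCategory.Q.obj (DRing.homCx (DerCA.extCech (ModuleCat.of A A) []) J) :=
      eJ.symm ≪≫ DerivedCategory.Q.mapIso (baseIso J)
    have h3 : Function.Bijective (fun y : DerivedCategory.Q.obj
        (DRing.homCx (DerCA.extCech (ModuleCat.of A A) []) J) ⟶ E => θ.hom ≫ y) :=
      ⟨fun a b h => (cancel_epi _).1 h, fun y => ⟨θ.inv ≫ y, by simp⟩⟩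
    have h2 : (fun x : DerivedCategory.Q.obj
          (DRing.homCx (DerCA.extCech (ModuleCat.of A A) fs) J) ⟶ E => η ≫ x) =
        (fun y : DerivedCategory.Q.obj
          (DRing.homCx (DerCA.extCech (ModuleCat.of A A) []) J) ⟶ E => θ.hom ≫ y) ∘
        (fun x : DerivedCategory.Q.obj
          (DRing.homCx (DerCA.extCech (ModuleCat.of A A) fs) J) ⟶ E =>
          DerivedCategory.Q.map (homCxPre (aug (ModuleCat.of A A) fs) J) ≫ x) := by
      funext x
      simp only [Function.comp, η, θ, Iso.trans_hom, Iso.symm_hom, Functor.mapIso_hom,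
        Category.assoc]
    rw [h2]
    exact h3.comp h1
  obtain ⟨c, hc⟩ := lift_surjective (Ideal.span {x : A | x ∈ fs}) K _ hK' η
  obtain ⟨d, hd⟩ := (hη _ (isDerivedComplete_comp (Ideal.span {x : A | x ∈ fs}) K)).2
    (DRing.toDerivedCompletion (Ideal.span {x : A | x ∈ fs}) K)
  have hd' : η ≫ d = DRing.toDerivedCompletion (Ideal.span {x : A | x ∈ fs}) K := hd
  have h1 : c ≫ d = 𝟙 _ := by
    apply lift_injective (Ideal.span {x : A | x ∈ fs}) K _
      (isDerivedComplete_comp (Ideal.span {x : A | x ∈ fs}) K)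
    rw [← Category.assoc, hc, Category.comp_id]
    exact hd'
  have h2 : d ≫ c = 𝟙 _ := by
    apply (hη _ hK').1
    show η ≫ (d ≫ c) = η ≫ 𝟙 _
    rw [← Category.assoc, hd', hc, Category.comp_id]
  exact ⟨(⟨c, d, h1, h2⟩ : comp (Ideal.span {x : A | x ∈ fs}) K ≅ _) ≪≫
    (unitIso (DerCA.extCech (ModuleCat.of A A) fs) J).symm ≪≫
    (DRing.RHomCx (DerCA.extCech (ModuleCat.of A A) fs)).mapIso eJ⟩

end Groth.Agent.S7097
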