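import Groth.Statements.S7098
import Groth.Agent.S0476
import Groth.Agent.H3.KInj
import Mathlib

set_option autoImplicit false
universe u
attribute [local instance] HasDerivedCategory.standard
open DRing

namespace Groth.Agent.S7098

open CategoryTheory CategoryTheory.Limits DerivedCategory

section shift

variable {D : Type*} [Category D] [HasShift D ℤ]

lemma subsingleton_shift_iff (X Y : D) (n : ℤ) :
    Subsingleton ((shiftFunctor D (-n)).obj X ⟶ Y) ↔
      Subsingleton (X ⟶ (shiftFunctor D n).obj Y) :=
  ((shiftEquiv D n).symm.toAdjunction.homEquiv X Y).subsingleton_congr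

end shift

section adj

variable {A' : Type*} [Category A'] {B' : Type*} [Category B']
  (u : A' ⥤ B') (w : B' ⥤ A') (adj : w ⊣ u)

lemma aux1 {X X' : B'} {Y Y' : A'} (c : w.obj X ⟶ Y) (c' : w.obj X' ⟶ Y') (dX : X ⟶ X')
    (dY : Y ⟶ Y') (h : c ≫ dY = w.map dX ≫ c') :
    (adj.unit.app X ≫ u.map c) ≫ u.map dY = dX ≫ (adj.unit.app X' ≫ u.map c') := by
  have h2 := adj.unit.naturality dX
  simp only [Functor.id_map, Functor.comp_map] at h2
  rw [Category.assoc, ← u.map_comp, h, u.map_comp, ← Category.assoc, ← h2, Category.assoc]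

lemma aux3 {X : B'} {Y : A'} (c : w.obj X ⟶ Y) :
    c = w.map (adj.unit.app X ≫ u.map c) ≫ adj.counit.app Y := by
  simp

end adj

variable {A : Type u} [CommRing A] (f : A)

/-- restriction of scalars along `A → A_f` -/
noncomputable abbrev Rs : ModuleCat.{u} (Localization.Away f) ⥤ ModuleCat.{u} A :=
  ModuleCat.restrictScalars.{u} (algebraMap A (Localization.Away f))

/-- coextension of scalars along `A → A_f` -/
noncomputable abbrev Us : ModuleCat.{u} A ⥤ ModuleCat.{u} (Localization.Away f) :=
  ModuleCat.coextendScalars (algebraMap A (Localization.Away f))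

noncomputable def adj : Rs f ⊣ Us f :=
  ModuleCat.restrictCoextendScalarsAdj.{u, u, u} (algebraMap A (Localization.Away f))

instance : (Us f).Additive := (adj f).right_adjoint_additive

/-- `A_f` as an `A`-module via restriction of scalars. -/
noncomputable def Mf : ModuleCat.{u} A :=
  (Rs f).obj (ModuleCat.of (Localization.Away f) (Localization.Away f))

noncomputable def eLin : ↑(Mf f) ≃ₗ[A] Localization.Away f :=
  AddEquiv.toLinearEquiv (AddEquiv.refl (Localization.Away f) : ↑(Mf f) ≃+ Localization.Away f)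
    (fun a x => by
      have h1 : (a • x : ↑(Mf f)) =
          (algebraMap A (Localization.Away f) a) * (@id (Localization.Away f) x) := rfl
      have h2 : (a • (@id (Localization.Away f) x) : Localization.Away f) =
          (algebraMap A (Localization.Away f) a) * (@id (Localization.Away f) x) :=
        Algebra.smul_def _ _
      exact h1.trans h2.symm)

noncomputable def eMf : Mf f ≅ ModuleCat.of A (Localization.Away f) :=
  (eLin f).toModuleIso

noncomputable def isoZ (n : ℤ) :
    (DerivedCategory.singleFunctor (ModuleCat.{u} A) n).obj (Mf f) ≅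
      (shiftFunctor (Dual.D A) (-n)).obj (Dual.inD A (Localization.Away f)) :=
  (((DerivedCategory.singleFunctors (ModuleCat.{u} A)).shiftIso (-n) n 0 (by omega)).symm.app
      (Mf f)) ≪≫
    (shiftFunctor (Dual.D A) (-n)).mapIso
      ((DerivedCategory.singleFunctor (ModuleCat.{u} A) 0).mapIso (eMf f))

lemma acyclic_coext (K : Dual.D A)
    (h : ∀ n : ℤ, Subsingleton (Dual.inD A (Localization.Away f) ⟶ K⟦n⟧))
    (I : CochainComplex (ModuleCat.{u} A) ℤ) [I.IsKInjective] (eK : K ≅ Q.obj I) :
    (((Us f).mapHomologicalComplex (ComplexShape.up ℤ)).obj I).Acyclic := by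
  intro n
  rw [HomologicalComplex.exactAt_iff' _ (n - 1) n (n + 1) (by simp) (by simp),
    ShortComplex.moduleCat_exact_iff]
  intro x₂ hx₂
  let ξ : ↑(Mf f) →ₗ[A] ↑(I.X n) := x₂
  have hξ : (I.d n (n + 1)).hom.comp ξ = 0 := hx₂
  let y : Mf f ⟶ I.X n := (ModuleCat.ofHom (X := ↑(Mf f)) (Y := ↑(I.X n)) ξ :)
  have hy : y ≫ I.d n (n + 1) = 0 := by
    apply ModuleCat.hom_ext
    rw [ModuleCat.hom_comp, ModuleCat.hom_zero]
    exact hξ
  let ζ : (HomologicalComplex.single (ModuleCat.{u} A) (ComplexShape.up ℤ) n).obj (Mf f) ⟶ I :=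
    HomologicalComplex.mkHomFromSingle y (fun k hk => by
      obtain rfl : n + 1 = k := hk
      exact hy)
  have hζ : (HomotopyCategory.quotient _ _).map ζ = 0 := by
    apply (CochainComplex.IsKInjective.Qh_map_bijective _ I).injective
    rw [Functor.map_zero]
    let e₁ : Qh.obj ((HomotopyCategory.quotient _ _).obj
        ((HomologicalComplex.single (ModuleCat.{u} A) (ComplexShape.up ℤ) n).obj (Mf f))) ≅
        (shiftFunctor (Dual.D A) (-n)).obj (Dual.inD A (Localization.Away f)) :=
      (quotientCompQhIso _).app _ ≪≫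
        ((DerivedCategory.singleFunctorIsoCompQ (ModuleCat.{u} A) n).app (Mf f)).symm ≪≫ isoZ f n
    let e₂ : Qh.obj ((HomotopyCategory.quotient _ _).obj I) ≅ K :=
      (quotientCompQhIso _).app I ≪≫ eK.symm
    have : Subsingleton (Qh.obj ((HomotopyCategory.quotient _ _).obj
        ((HomologicalComplex.single (ModuleCat.{u} A) (ComplexShape.up ℤ) n).obj (Mf f))) ⟶
        Qh.obj ((HomotopyCategory.quotient _ _).obj I)) :=
      ((Iso.homCongr e₁ e₂).subsingleton_congr).2
        ((subsingleton_shift_iff (Dual.inD A (Localization.Away f)) K n).2 (h n))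
    exact Subsingleton.elim _ _
  obtain ⟨hoζ⟩ := (HomotopyCategory.quotient_map_eq_zero_iff ζ).1 hζ
  have hcomm := hoζ.comm n
  rw [dNext_eq hoζ.hom (show (ComplexShape.up ℤ).Rel n (n + 1) from rfl),
    prevD_eq hoζ.hom (show (ComplexShape.up ℤ).Rel (n - 1) n by simp),
    HomologicalComplex.single_obj_d, zero_comp, zero_add, HomologicalComplex.zero_f, add_zero,
    HomologicalComplex.mkHomFromSingle_f] at hcomm
  let t : Mf f ⟶ I.X (n - 1) :=
    (HomologicalComplex.singleObjXSelf (ComplexShape.up ℤ) n (Mf f)).inv ≫ hoζ.hom n (n - 1)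
  have ht : t ≫ I.d (n - 1) n = y := by
    rw [Category.assoc, ← hcomm, Iso.inv_hom_id_assoc]
  refine ⟨t.hom, ?_⟩
  have h3 := congrArg ModuleCat.Hom.hom ht
  rw [ModuleCat.hom_comp] at h3
  exact h3

theorem forward (K : Dual.D A)
    (h : ∀ n : ℤ, Subsingleton (Dual.inD A (Localization.Away f) ⟶ K⟦n⟧))
    (E : Dual.D (Localization.Away f)) :
    Subsingleton ((DRing.restrictD (algebraMap A (Localization.Away f))).obj E ⟶ K) := by
  obtain ⟨I, ι, hI, hι, -, -⟩ := Groth.Agent.S0476.result (Q.objPreimage K)
  have := hI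
  have := hι
  let eK : K ≅ Q.obj I := (Q.objObjPreimageIso K).symm ≪≫ asIso (Q.map ι)
  let X₀ := Q.objPreimage E
  let Y := ((Rs f).mapHomologicalComplex (ComplexShape.up ℤ)).obj X₀
  let eE : (DRing.restrictD (algebraMap A (Localization.Away f))).obj E ≅ Q.obj Y :=
    (DRing.restrictD (algebraMap A (Localization.Away f))).mapIso (Q.objObjPreimageIso E).symm ≪≫
      ((Rs f).mapDerivedCategoryFactors).app X₀
  suffices hs : ∀ g : Q.obj Y ⟶ Q.obj I, g = 0 by
    have key : ∀ a : (DRing.restrictD (algebraMap A (Localization.Away f))).obj E ⟶ K,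
        a = 0 := fun a => by
      have h1 := hs (eE.inv ≫ a ≫ eK.hom)
      have h2 : a = eE.hom ≫ (eE.inv ≫ a ≫ eK.hom) ≫ eK.inv := by simp
      rw [h2, h1]
      simp
    exact ⟨fun a b => by rw [key a, key b]⟩
  intro g
  obtain ⟨γ, hγ⟩ := (CochainComplex.IsKInjective.Qh_map_bijective
      ((HomotopyCategory.quotient _ _).obj Y) I).surjective
      ((quotientCompQhIso _).hom.app Y ≫ g ≫ (quotientCompQhIso _).inv.app I)
  obtain ⟨c, rfl⟩ := (HomotopyCategory.quotient _ _).map_surjective γ
  -- the adjoint chain map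
  let UI := ((Us f).mapHomologicalComplex (ComplexShape.up ℤ)).obj I
  have hUI : CochainComplex.IsKInjective UI :=
    Groth.Agent.H3.isKInjective_of_rightAdjoint (Us f) (Rs f) (adj f) I hI
  have hac : UI.Acyclic := acyclic_coext f K h I eK
  obtain ⟨ho⟩ := hUI.nonempty_homotopy_zero (𝟙 UI) hac
  let c' : X₀ ⟶ UI :=
    { f := fun n => (adj f).unit.app (X₀.X n) ≫ (Us f).map (c.f n)
      comm' := fun i j _ =>
        aux1 (Us f) (Rs f) (adj f) (c.f i) (c.f j) (X₀.d i j) (I.d i j) (c.comm i j) }
  let ε : ((Rs f).mapHomologicalComplex (ComplexShape.up ℤ)).obj UI ⟶ I :=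
    { f := fun n => (adj f).counit.app (I.X n)
      comm' := fun i j _ => ((adj f).counit.naturality (I.d i j)).symm }
  have hcε : c = ((Rs f).mapHomologicalComplex (ComplexShape.up ℤ)).map c' ≫ ε := by
    refine HomologicalComplex.hom_ext _ _ (fun n => ?_)
    exact aux3 (Us f) (Rs f) (adj f) (c.f n)
  have hc : Nonempty (Homotopy c 0) := by
    refine ⟨(Homotopy.ofEq ?_).trans ((((Rs f).mapHomotopy (ho.compLeft c')).compRight ε).trans
      (Homotopy.ofEq ?_))⟩
    · rw [Category.comp_id]
      exact hcε
    · simp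
  have hq : (HomotopyCategory.quotient _ _).map c = 0 :=
    (HomotopyCategory.quotient_map_eq_zero_iff c).2 hc
  rw [hq, Functor.map_zero] at hγ
  have h2 : g = (quotientCompQhIso _).inv.app Y ≫
      ((quotientCompQhIso _).hom.app Y ≫ g ≫ (quotientCompQhIso _).inv.app I) ≫
        (quotientCompQhIso _).hom.app I := by simp
  rw [h2, ← hγ]
  simp

theorem backward (K : Dual.D A)
    (h : ∀ E : Dual.D (Localization.Away f),
      Subsingleton ((DRing.restrictD (algebraMap A (Localization.Away f))).obj E ⟶ K))
    (n : ℤ) : Subsingleton (Dual.inD A (Localization.Away f) ⟶ K⟦n⟧) := by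
  apply (subsingleton_shift_iff (Dual.inD A (Localization.Away f)) K n).1
  let E : Dual.D (Localization.Away f) :=
    (DerivedCategory.singleFunctor (ModuleCat.{u} (Localization.Away f)) n).obj
      (ModuleCat.of (Localization.Away f) (Localization.Away f))
  let e : (DRing.restrictD (algebraMap A (Localization.Away f))).obj E ≅
      (shiftFunctor (Dual.D A) (-n)).obj (Dual.inD A (Localization.Away f)) :=
    ((Rs f).mapDerivedCategorySingleFunctor n).app
      (ModuleCat.of (Localization.Away f) (Localization.Away f)) ≪≫ isoZ f n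
  exact ((Iso.homCongr e (Iso.refl K)).subsingleton_congr).1 (h E)

/-- (1)⇔(2): let A be a commutative ring, f an element of A and K an object of D(A). Then every morphism
A_f[0] → K[n] vanishes for every integer n if and only if every morphism E → K vanishes for every
object E of D(A) obtained by restriction of scalars from D(A_f). -/
theorem result {A : Type u} [CommRing A] (f : A)
    (K : Dual.D A) :
    (∀ n : ℤ, Subsingleton (Dual.inD A (Localization.Away f) ⟶ K⟦n⟧)) ↔
      ∀ E : Dual.D (Localization.Away f),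
        Subsingleton ((DRing.restrictD (algebraMap A (Localization.Away f))).obj E ⟶ K) := by
  exact ⟨fun h E => forward f K h E, fun h n => backward f K h n⟩

end Groth.Agent.S7098
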