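import Groth.Statements.S7100
import Groth.Agent.H56.FlatFP
-- import your own Groth.Agent.* helpers here

set_option autoImplicit false
universe u
attribute [local instance] HasDerivedCategory.standard
open DerCA

namespace Groth.Agent.S7100

/-- (1)⇔(4): let R → B → A be homomorphisms of commutative rings with B → A surjective and with R → B
and R → A both flat and of finite presentation. Then an object K of D(A) is pseudo-coherent
(isomorphic in D(A) to a bounded above complex of finite free modules) if and only if its
restriction of scalars to D(B) is pseudo-coherent; and for every integer m, K is m-pseudo-coherent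
if and only if its restriction of scalars to D(B) is m-pseudo-coherent. -/
theorem result (R B A : Type u) [CommRing R] [CommRing B] [CommRing A]
    [Algebra R B] [Algebra R A] [Algebra B A] [IsScalarTower R B A]
    (hφ : Function.Surjective (algebraMap B A))
    [Module.Flat R B] [Algebra.FinitePresentation R B] [Module.Flat R A] [Algebra.FinitePresentation R A]
    (K : Dual.D A) :
    (DRing.IsPseudoCoherent' A K ↔ DRing.IsPseudoCoherent' B ((DRing.restrictD (algebraMap B A)).obj K)) ∧
      ∀ m : ℤ, (DRing.IsPseudoCoherent A m K ↔
        DRing.IsPseudoCoherent B m ((DRing.restrictD (algebraMap B A)).obj K)) := by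
  have hfp : Module.FinitePresentation B A :=
    Groth.Agent.H56.PcMor.finitePresentation_of_surjective_algebraMap B A hφ (by
      have h0 := Algebra.FinitePresentation.ker_fG_of_surjective (IsScalarTower.toAlgHom R B A) hφ
      exact h0)
  have hpc : DRing.IsPseudoCoherentModule' B A :=
    Groth.Agent.H56.PcMor.isPseudoCoherentModule'_of_flat_fp R B A
  have key : ∀ m : ℤ, (DRing.IsPseudoCoherent A m K ↔
      DRing.IsPseudoCoherent B m ((DRing.restrictD (algebraMap B A)).obj K)) :=
    fun m => ⟨Groth.Agent.H56.isPseudoCoherent_restrictD hpc K m,
      Groth.Agent.H56.isPseudoCoherent_of_restrictD hpc K m⟩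
  refine ⟨?_, key⟩
  rw [Groth.Agent.H56.isPseudoCoherent'_iff_forall, Groth.Agent.H56.isPseudoCoherent'_iff_forall]
  exact forall_congr' key

end Groth.Agent.S7100
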