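import Groth.Statements.S7103
import Groth.Agent.H35.LTensorCxComplete
import Groth.Agent.H35.DerCompKos2

set_option autoImplicit false
universe u
attribute [local instance] HasDerivedCategory.standard
open CategoryTheory
open DRing

namespace Groth.Agent.S7103

/-- Let A be a Noetherian commutative ring and I an ideal; assume the derived completion functor exists.
Let F be a bounded above cochain complex of finite free A-modules (a pseudo-coherent object) for
which − ⊗^L_A F exists, and K an object of D(A) whose cohomology is bounded above. Then K^∧ ⊗^L_A F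
is the derived completion of K ⊗^L_A F through the map K ⊗^L_A F → K^∧ ⊗^L_A F induced by the
canonical morphism K → K^∧ to the derived completion K^∧ of K: the object K^∧ ⊗^L_A F is derived
complete with respect to I, and every morphism from K ⊗^L_A F to a derived complete object of D(A)
factors uniquely through that map. -/
theorem result {A : Type u} [CommRing A] [IsNoetherianRing A] (I : Ideal A)
    [DRing.HasDerivedCompletion I] (F : DRing.Cx A) (c : ℤ) (hFc : DRing.VanishesAbove F c)
    (hFf : DRing.TermwiseFiniteFree F) [DRing.HasLTensorCx A F]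
    (K : Dual.D A) (b : ℤ) (hK : ∀ i : ℤ, b < i → Subsingleton (Dual.HD A K i)) :
    DRing.IsDerivedComplete I ((DRing.LTensorCx A F).obj ((DRing.derivedCompletion I).obj K).obj) ∧
      ∀ E : Dual.D A, DRing.IsDerivedComplete I E →
        Function.Bijective (fun φ : (DRing.LTensorCx A F).obj ((DRing.derivedCompletion I).obj K).obj ⟶ E =>
          (DRing.LTensorCx A F).map (DRing.toDerivedCompletion I K) ≫ φ) := by
  have hFK : DRing.IsKFlat A F :=
    Groth.Agent.H35.LTC.isKFlat_of_bddAbove_finiteProjective F c hFc
      (Groth.Agent.H35.LTC.finiteProjective_of_free hFf)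
  have : K.IsLE b := (DerivedCategory.isLE_iff K b).2 (fun i hi =>
    haveI := hK i hi
    ModuleCat.isZero_of_subsingleton _)
  have : (Groth.Agent.H35.DerCompAdj.comp I K).IsLE b :=
    Groth.Agent.H35.DerCompKos.isLE_comp (I := I) K b inferInstance
  refine ⟨Groth.Agent.H35.LTensorCxComplete.isDerivedComplete_obj I F hFK hFf c hFc
    (Groth.Agent.H35.DerCompAdj.comp I K) b
    (Groth.Agent.H35.DerCompAdj.isDerivedComplete_comp I K), ?_⟩
  intro E hE
  obtain ⟨Y, q, δ, hT⟩ := Pretriangulated.distinguished_cocone_triangle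
    (DRing.toDerivedCompletion I K)
  have hY : Groth.Agent.H35.DerCompKos.LO I Y :=
    Groth.Agent.H35.DerCompKos.LO_cone_unit I K q δ hT
  obtain ⟨s, hs⟩ : I.FG := IsNoetherian.noetherian I
  have hl : Ideal.span {x | x ∈ s.toList} = I := by
    rw [← hs]
    congr 1
    ext x
    simp
  obtain ⟨Y₀, hKos⟩ := Groth.Agent.H35.DerCompKos.exists_isKos s.toList Y
  have hY₀ : Limits.IsZero Y₀ := Groth.Agent.H35.DerCompKos.isZero_of_LO_of_isKos hl hKos hY
  have hGKos := Groth.Agent.H35.LTensorCxDT.isKos_map F hFK s.toList hKos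
  have hGY : Groth.Agent.H35.DerCompKos.LO I ((DRing.LTensorCx A F).obj Y) :=
    Groth.Agent.H35.DerCompKos2.LO_of_isKos_zero I s.toList
      (fun a ha => by rw [← hl]; exact Ideal.subset_span ha) _ _ hGKos
      (Groth.Agent.H35.LTensorCxDT.isZero_obj F hFK hY₀)
  obtain ⟨r, hr⟩ := Groth.Agent.H35.LTensorCxDT.DT_map F hFK _ _ ⟨δ, hT⟩
  exact Groth.Agent.H35.DerCompKos2.bijective_of_LO I _ _ r hr hGY E hE

end Groth.Agent.S7103
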