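import Groth.Statements.S7105
import Groth.Agent.H56.TwoTermHom
import Mathlib.Algebra.Category.ModuleCat.EnoughInjectives
import Mathlib.Algebra.Category.ModuleCat.Projective
-- import your own Groth.Agent.* helpers here

set_option autoImplicit false
universe u
attribute [local instance] HasDerivedCategory.standard
open CategoryTheory
open DRing

namespace Groth.Agent.S7105

/-- Let R be a commutative ring, M a cochain complex of R-modules with M^i = 0 for i > 0 and M^0
projective, and K a cochain complex with K^i = 0 for all i ≤ -2. Then the canonical map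
Hom_{K(R)}(M, K) → Hom_{D(R)}(M, K), from homotopy classes of chain maps to morphisms in the derived
category, is bijective. -/
theorem result {R : Type u} [CommRing R] (M K : DRing.Cx R)
    (hM : ∀ i : ℤ, 0 < i → Limits.IsZero (M.X i)) (hM0 : Module.Projective R (M.X 0))
    (hK : ∀ i : ℤ, i ≤ -2 → Limits.IsZero (K.X i)) :
    Function.Bijective (fun φ : (HomotopyCategory.quotient (ModuleCat.{u} R) (ComplexShape.up ℤ)).obj M ⟶
        (HomotopyCategory.quotient (ModuleCat.{u} R) (ComplexShape.up ℤ)).obj K => DerivedCategory.Qh.map φ) := by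
  haveI : Projective (M.X 0) := (IsProjective.iff_projective _).mp hM0
  constructor
  · intro φ₁ φ₂ h
    obtain ⟨f₁, rfl⟩ :=
      (HomotopyCategory.quotient (ModuleCat.{u} R) (ComplexShape.up ℤ)).map_surjective φ₁
    obtain ⟨f₂, rfl⟩ :=
      (HomotopyCategory.quotient (ModuleCat.{u} R) (ComplexShape.up ℤ)).map_surjective φ₂
    exact Groth.Agent.H56.quotient_map_eq_of_Q_map_eq hM hK f₁ f₂
      (Groth.Agent.H56.Q_map_eq_of_Qh_map_quotient_map_eq f₁ f₂ h)
  · intro ψ
    obtain ⟨φ, hφ⟩ := Groth.Agent.H56.exists_quotient_map_of_Qh_hom hM hK ψ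
    exact ⟨_, hφ⟩

end Groth.Agent.S7105
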