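import Groth.Statements.S7107
import Mathlib

set_option autoImplicit false
universe u
open CAlg

namespace Groth.Agent.S7107

/-- `(α →₀ M × N) ≃ₗ (α →₀ M) × (α →₀ N)`. -/
noncomputable def finsuppProdSplit (R : Type*) [Semiring R] (α M N : Type*)
    [AddCommMonoid M] [Module R M] [AddCommMonoid N] [Module R N] :
    (α →₀ M × N) ≃ₗ[R] (α →₀ M) × (α →₀ N) :=
  LinearEquiv.ofLinearMap
    (LinearMap.prod (Finsupp.mapRange.linearMap (LinearMap.fst R M N))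
      (Finsupp.mapRange.linearMap (LinearMap.snd R M N)))
    (LinearMap.coprod (Finsupp.mapRange.linearMap (LinearMap.inl R M N))
      (Finsupp.mapRange.linearMap (LinearMap.inr R M N)))
    (by
      apply LinearMap.ext
      rintro ⟨f, g⟩
      ext a <;> simp)
    (by
      apply LinearMap.ext
      intro f
      ext a <;> simp)

/-- `M × M^(ℕ) ≃ M^(ℕ)`. -/
noncomputable def prodFinsuppNatShift (R : Type*) [Semiring R] (M : Type*)
    [AddCommMonoid M] [Module R M] :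
    (M × (ℕ →₀ M)) ≃ₗ[R] (ℕ →₀ M) :=
  ((LinearEquiv.prodCongr (Finsupp.uniqueLinearEquiv R M (α := PUnit.{1}) PUnit.unit).symm
      (LinearEquiv.refl R (ℕ →₀ M))) ≪≫ₗ
    (Finsupp.sumFinsuppLEquivProdFinsupp R).symm) ≪≫ₗ
    Finsupp.domLCongr ((Equiv.sumComm _ _).trans (Equiv.natSumPUnitEquivNat.{0}))

/-- Let R be a ring and P, Q modules such that P ⊕ Q is isomorphic to a free module F on an infinite
basis. Then P ⊕ F is isomorphic to F. -/
theorem result (R : Type u) [CommRing R] (P Q : Type u) [AddCommGroup P] [Module R P]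
    [AddCommGroup Q] [Module R Q] (ι : Type u) [Infinite ι] (e : (P × Q) ≃ₗ[R] (ι →₀ R)) :
    Nonempty ((P × (ι →₀ R)) ≃ₗ[R] (ι →₀ R)) := by
  -- ι ≃ ℕ × ι
  have hι : Nonempty (ι ≃ ℕ × ι) := by
    rw [← Cardinal.eq]
    simp
  obtain ⟨eι⟩ := hι
  -- F ≃ (ℕ →₀ P) × (ℕ →₀ Q)
  let eF : (ι →₀ R) ≃ₗ[R] (ℕ →₀ P) × (ℕ →₀ Q) :=
    (Finsupp.domLCongr eι) ≪≫ₗ (Finsupp.curryLinearEquiv R) ≪≫ₗ
      (Finsupp.mapRange.linearEquiv e.symm) ≪≫ₗ finsuppProdSplit R ℕ P Q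
  refine ⟨?_⟩
  refine (LinearEquiv.prodCongr (LinearEquiv.refl R P) eF) ≪≫ₗ ?_ ≪≫ₗ eF.symm
  refine (LinearEquiv.prodAssoc R P (ℕ →₀ P) (ℕ →₀ Q)).symm ≪≫ₗ ?_
  exact LinearEquiv.prodCongr (prodFinsuppNatShift R P) (LinearEquiv.refl R _)

end Groth.Agent.S7107
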