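import Groth.Statements.S7108
import Groth.Agent.S7107
import Mathlib

set_option autoImplicit false
universe u
open CAlg

namespace Groth.Agent.S7108

/-- A retract `P` of `M` gives `P × ker s ≃ M`. -/
noncomputable def retractEquiv {R : Type*} [Ring R] {P M : Type*} [AddCommGroup P] [Module R P]
    [AddCommGroup M] [Module R M] (i : P →ₗ[R] M) (s : M →ₗ[R] P) (h : s ∘ₗ i = LinearMap.id) :
    (P × LinearMap.ker s) ≃ₗ[R] M where
  toFun x := i x.1 + x.2
  map_add' x y := by simp; abel
  map_smul' r x := by simp
  invFun m := (s m, ⟨m - i (s m), by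
    have := LinearMap.congr_fun h (s m)
    simp at this
    simp [this]⟩)
  left_inv x := by
    have h1 := LinearMap.congr_fun h x.1
    simp at h1
    have h2 : s (x.2 : M) = 0 := x.2.2
    ext <;> simp [h1, h2]
  right_inv m := by simp

/-- Every projective module P over a ring R becomes free after adding a suitable free module: P ⊕ F is
free for some free module F (here F is the free module on some index type). -/
theorem result (R : Type u) [CommRing R] (P : Type u) [AddCommGroup P]
    [Module R P] [Module.Projective R P] : ∃ ι : Type u, Module.Free R (P × (ι →₀ R)) := by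
  obtain ⟨i, hi⟩ := (Module.projective_def' (R := R) (P := P)).1 inferInstance
  -- P × Q ≃ (P →₀ R), so P × (Q × (ℕ × P →₀ R))  ≃ (P ⊕ ℕ × P →₀ R)
  let e0 := retractEquiv i (Finsupp.linearCombination R id) hi
  let ι := P ⊕ (ℕ × P)
  have : Infinite ι := Sum.infinite_of_right
  let e : (P × ((LinearMap.ker (Finsupp.linearCombination R (id : P → P))) × (ℕ × P →₀ R))) ≃ₗ[R]
      (ι →₀ R) :=
    (LinearEquiv.prodAssoc R _ _ _).symm ≪≫ₗ
      (LinearEquiv.prodCongr e0 (LinearEquiv.refl R _)) ≪≫ₗ
      (Finsupp.sumFinsuppLEquivProdFinsupp R).symm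
  obtain ⟨e'⟩ := Groth.Agent.S7107.result R P
    ((LinearMap.ker (Finsupp.linearCombination R (id : P → P))) × (ℕ × P →₀ R)) ι e
  exact ⟨ι, Module.Free.of_equiv e'.symm⟩

end Groth.Agent.S7108
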