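import Groth.Statements.S7114
import Mathlib

set_option autoImplicit false
universe u
open CAlg

namespace Groth.Agent.S7114

variable {R : Type u} [CommRing R]

/-- multiplication by `x` from `R/x^n` to `R/x^(n+1)`. -/
noncomputable def mulMap (x : R) (n : ℕ) :
    (R ⧸ Ideal.span {x ^ n}) →ₗ[R] (R ⧸ Ideal.span {x ^ (n + 1)}) :=
  Submodule.mapQ (Ideal.span {x ^ n}) (Ideal.span {x ^ (n + 1)}) (LinearMap.mulLeft R x) (by
    intro r hr
    rw [Ideal.mem_span_singleton'] at hr
    obtain ⟨c, rfl⟩ := hr
    simp only [Submodule.mem_comap, LinearMap.mulLeft_apply]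
    rw [Ideal.mem_span_singleton']
    exact ⟨c, by ring⟩)

/-- the projection `R/x^(n+1) → R/x`. -/
noncomputable def projMap (x : R) (n : ℕ) :
    (R ⧸ Ideal.span {x ^ (n + 1)}) →ₗ[R] (R ⧸ Ideal.span {x}) :=
  Submodule.mapQ (Ideal.span {x ^ (n + 1)}) (Ideal.span {x}) LinearMap.id (by
    intro r hr
    rw [Ideal.mem_span_singleton'] at hr
    obtain ⟨c, rfl⟩ := hr
    simp only [Submodule.mem_comap, LinearMap.id_apply]
    rw [Ideal.mem_span_singleton']
    exact ⟨c * x ^ n, by ring⟩)

lemma projMap_surjective (x : R) (n : ℕ) : Function.Surjective (projMap x n) := by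
  intro y
  obtain ⟨r, rfl⟩ := Submodule.mkQ_surjective _ y
  exact ⟨Submodule.mkQ _ r, by simp [projMap]⟩

lemma exact_mul_proj (x : R) (n : ℕ) : Function.Exact (mulMap x n) (projMap x n) := by
  intro y
  obtain ⟨r, rfl⟩ := Submodule.mkQ_surjective _ y
  constructor
  · intro h
    simp only [projMap, Submodule.mkQ_apply, Submodule.mapQ_apply, LinearMap.id_apply] at h
    rw [Submodule.Quotient.mk_eq_zero, Ideal.mem_span_singleton'] at h
    obtain ⟨c, rfl⟩ := h
    refine ⟨Submodule.Quotient.mk c, ?_⟩
    rw [mulMap, Submodule.mapQ_apply, LinearMap.mulLeft_apply, mul_comm]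
    rfl
  · rintro ⟨z, hz⟩
    obtain ⟨c, rfl⟩ := Submodule.mkQ_surjective _ z
    rw [← hz]
    simp only [mulMap, projMap, Submodule.mkQ_apply, Submodule.mapQ_apply, LinearMap.id_apply,
      LinearMap.mulLeft_apply]
    rw [Submodule.Quotient.mk_eq_zero, Ideal.mem_span_singleton']
    exact ⟨c, by ring⟩

lemma mulMap_injective (x : R) (hx : x ∈ nonZeroDivisors R) (n : ℕ) :
    Function.Injective (mulMap x n) := by
  rw [← LinearMap.ker_eq_bot, LinearMap.ker_eq_bot']
  intro y hy
  obtain ⟨r, rfl⟩ := Submodule.mkQ_surjective _ y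
  simp only [mulMap, Submodule.mkQ_apply, Submodule.mapQ_apply, LinearMap.mulLeft_apply] at hy
  rw [Submodule.Quotient.mk_eq_zero, Ideal.mem_span_singleton'] at hy
  obtain ⟨c, hc⟩ := hy
  simp only [Submodule.mkQ_apply]
  rw [Submodule.Quotient.mk_eq_zero, Ideal.mem_span_singleton']
  refine ⟨c, ?_⟩
  have h1 : x * (c * x ^ n) = x * r := by rw [← hc]; ring
  exact (mul_cancel_left_mem_nonZeroDivisors hx).1 h1

lemma length_succ_le (x : R) (n : ℕ) :
    Module.length R (R ⧸ Ideal.span {x ^ (n + 1)}) ≤
      Module.length R (R ⧸ Ideal.span {x ^ n}) + Module.length R (R ⧸ Ideal.span {x}) := by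
  have hex : Function.Exact (LinearMap.range (mulMap x n)).subtype (projMap x n) := by
    intro y
    rw [exact_mul_proj x n y]
    simp
  rw [Module.length_eq_add_of_exact (LinearMap.range (mulMap x n)).subtype (projMap x n)
    (Submodule.subtype_injective _) (projMap_surjective x n) hex]
  gcongr
  exact Module.length_le_of_surjective (mulMap x n).rangeRestrict
    (LinearMap.surjective_rangeRestrict _)

lemma length_succ_eq (x : R) (hx : x ∈ nonZeroDivisors R) (n : ℕ) :
    Module.length R (R ⧸ Ideal.span {x ^ (n + 1)}) =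
      Module.length R (R ⧸ Ideal.span {x ^ n}) + Module.length R (R ⧸ Ideal.span {x}) := by
  have hex : Function.Exact (LinearMap.range (mulMap x n)).subtype (projMap x n) := by
    intro y
    rw [exact_mul_proj x n y]
    simp
  rw [Module.length_eq_add_of_exact (LinearMap.range (mulMap x n)).subtype (projMap x n)
    (Submodule.subtype_injective _) (projMap_surjective x n) hex]
  congr 1
  exact (LinearEquiv.ofInjective (mulMap x n) (mulMap_injective x hx n)).length_eq.symm

/-- Let R be a Noetherian local ring of Krull dimension one and x an element of the maximal ideal lying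
in no minimal prime of R. Then for every n the length of R/xⁿR is at most n times the length of
R/xR, and equality holds when x is a nonzerodivisor. -/
theorem result (R : Type u) [CommRing R] [IsNoetherianRing R] [IsLocalRing R]
    (hdim : ringKrullDim R = 1) (x : R) (hx : x ∈ IsLocalRing.maximalIdeal R)
    (hmin : ∀ p ∈ minimalPrimes R, x ∉ p) (n : ℕ) :
    Module.length R (R ⧸ Ideal.span {x ^ n}) ≤ (n : ℕ∞) * Module.length R (R ⧸ Ideal.span {x}) ∧
      (x ∈ nonZeroDivisors R →
        Module.length R (R ⧸ Ideal.span {x ^ n}) = (n : ℕ∞) * Module.length R (R ⧸ Ideal.span {x})) := by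
  constructor
  · induction n with
    | zero => simp
    | succ n ih =>
      refine (length_succ_le x n).trans ?_
      push_cast
      rw [add_mul, one_mul]
      gcongr
  · intro hx0
    induction n with
    | zero => simp
    | succ n ih =>
      rw [length_succ_eq x hx0 n, ih]
      push_cast
      rw [add_mul, one_mul]

end Groth.Agent.S7114
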