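import Groth.Statements.S7115
import Mathlib

set_option autoImplicit false
universe u
open CAlg

namespace Groth.Agent.S7115

variable {R : Type u} [CommRing R]

/-- One step: if `r ≤ J.height` and `r + 1 ≤ A.height`, there is `x ∈ A` with
`r + 1 ≤ (J ⊔ span {x}).height`. -/
theorem step [IsNoetherianRing R] (A J : Ideal R) (r : ℕ)
    (h₃ : (r : ℕ∞) ≤ J.height) (hr : ((r + 1 : ℕ) : ℕ∞) ≤ A.height) :
    ∃ x ∈ A, ((r + 1 : ℕ) : ℕ∞) ≤ (J ⊔ Ideal.span {x}).height := by
  classical
  let S := { K | K ∈ J.minimalPrimes ∧ Ideal.height K = r }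
  have hS : Set.Finite S := Set.Finite.subset J.finite_minimalPrimes_of_isNoetherianRing
    (fun _ h => h.1)
  have : ¬(A : Set R) ⊆ ⋃ K ∈ hS.toFinset, (K : Set R) := by
    refine (Ideal.subset_union_prime ⊥ ⊥ ?_).not.mpr ?_
    · rintro K hK - -
      rw [Set.Finite.mem_toFinset] at hK
      exact hK.1.isPrime
    · push Not
      intro K hK e
      have := hr.trans (Ideal.height_mono e)
      rw [Set.Finite.mem_toFinset] at hK
      rw [hK.2, ← not_lt] at this
      norm_cast at this
      exact this r.lt_succ_self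
  simp_rw [Set.not_subset, Set.mem_iUnion, not_exists, Set.Finite.mem_toFinset] at this
  obtain ⟨x, hx₁, hx₂⟩ := this
  refine ⟨x, hx₁, ?_⟩
  rw [Ideal.height_eq_inf_minimalPrimes]
  refine le_iInf₂ (fun p hp ↦ ?_)
  have := hp.isPrime
  by_cases h : p.height = ⊤
  · exact le_of_le_of_eq le_top h.symm
  have : p.FiniteHeight := ⟨Or.inr h⟩
  have := Ideal.height_mono (le_sup_left.trans hp.le)
  suffices h : (r : ℕ∞) ≠ p.height by
    push_cast
    exact Order.add_one_le_of_lt (lt_of_le_of_ne (h₃.trans this) h)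
  intro e
  apply hx₂ p
  · refine ⟨Ideal.mem_minimalPrimes_of_height_le (le_sup_left.trans hp.le) (e.symm.trans_le h₃),
      e.symm⟩
  · apply hp.le <| Ideal.mem_sup_right <| Ideal.mem_span_singleton_self x

theorem range_snoc {α : Type*} {n : ℕ} (g : Fin n → α) (x : α) :
    Set.range (Fin.snoc g x : Fin (n + 1) → α) = insert x (Set.range g) := by
  ext y
  constructor
  · rintro ⟨i, rfl⟩
    refine Fin.lastCases ?_ ?_ i
    · simp
    · intro i; simp
  · rintro (rfl | ⟨i, rfl⟩)
    · exact ⟨Fin.last _, by simp⟩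
    · exact ⟨i.castSucc, by simp⟩

/-- Let R be a Noetherian local ring of Krull dimension d > 1 with maximal ideal m, let f be an element
of m contained in no minimal prime, and let k be a natural number. Then there are elements g_1, ...,
g_{d-1} of m lying in m^k such that f, g_1, ..., g_{d-1} form a system of parameters: these d
elements of m generate an ideal whose radical is m. -/
theorem result (R : Type u) [CommRing R] [IsNoetherianRing R] [IsLocalRing R]
    (d : ℕ) (hd : ringKrullDim R = d) (h1 : 1 < d) (f : R) (hf : f ∈ IsLocalRing.maximalIdeal R)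
    (hmin : ∀ p ∈ minimalPrimes R, f ∉ p) (k : ℕ) :
    ∃ g : Fin (d - 1) → R, (∀ i, g i ∈ IsLocalRing.maximalIdeal R ^ k) ∧ (∀ i, g i ∈ IsLocalRing.maximalIdeal R) ∧
      IsLocalRing.maximalIdeal R ≤ (Ideal.span (insert f (Set.range g))).radical := by
  set m := IsLocalRing.maximalIdeal R with hm
  have hmht : m.height = d := by
    have := IsLocalRing.maximalIdeal_height_eq_ringKrullDim (R := R)
    rw [hd] at this
    exact_mod_cast this
  -- the ambient ideal
  set A : Ideal R := m ^ (k + 1) with hA
  have hAk : A ≤ m ^ k := Ideal.pow_le_pow_right (Nat.le_succ k)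
  have hAm : A ≤ m := Ideal.pow_le_self (Nat.succ_ne_zero k)
  have hAht : (d : ℕ∞) ≤ A.height := by
    rw [Ideal.height_eq_inf_minimalPrimes]
    refine le_iInf₂ (fun p hp ↦ ?_)
    have := hp.isPrime
    have hmp : m ≤ p := Ideal.IsPrime.le_of_pow_le hp.le
    rw [← hmht]
    exact Ideal.height_mono hmp
  -- induction
  have key : ∀ j : ℕ, j + 1 ≤ d → ∃ g : Fin j → R, (∀ i, g i ∈ A) ∧
      ((j + 1 : ℕ) : ℕ∞) ≤ (Ideal.span (insert f (Set.range g))).height := by
    intro j
    induction j with
    | zero =>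
      intro _
      refine ⟨Fin.elim0, fun i => i.elim0, ?_⟩
      rw [Ideal.height_eq_inf_minimalPrimes]
      refine le_iInf₂ (fun p hp ↦ ?_)
      have := hp.isPrime
      have hfp : f ∈ p := hp.le (Ideal.subset_span (Set.mem_insert _ _))
      have : p.height ≠ 0 := by
        rw [Ne, Ideal.height_eq_zero_iff]
        intro hp0
        exact hmin p hp0 hfp
      simpa using ENat.one_le_iff_ne_zero.mpr this
    | succ j ih =>
      intro hj
      obtain ⟨g, hgA, hgh⟩ := ih (by omega)
      obtain ⟨x, hxA, hx⟩ := step A (Ideal.span (insert f (Set.range g))) (j + 1) hgh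
        (le_trans (by exact_mod_cast hj) hAht)
      refine ⟨Fin.snoc g x, ?_, ?_⟩
      · intro i
        refine Fin.lastCases ?_ ?_ i
        · simpa using hxA
        · intro i; simpa using hgA i
      · rw [range_snoc, Set.insert_comm, Ideal.span_insert x, sup_comm]
        exact hx
  obtain ⟨g, hgA, hgh⟩ := key (d - 1) (by omega)
  refine ⟨g, fun i => hAk (hgA i), fun i => hAm (hgA i), ?_⟩
  set I := Ideal.span (insert f (Set.range g)) with hI
  have hIm : I ≤ m := by
    rw [hI, Ideal.span_le]
    rintro y (rfl | ⟨i, rfl⟩)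
    · exact hf
    · exact hAm (hgA i)
  rw [← Ideal.sInf_minimalPrimes]
  refine le_sInf (fun p hp => ?_)
  have := hp.1.1
  have hpm : p ≤ m := IsLocalRing.le_maximalIdeal hp.1.1.ne_top
  have hph : m.height ≤ p.height := by
    rw [hmht]
    have h2 : ((d - 1 + 1 : ℕ) : ℕ∞) = d := by
      congr 1; omega
    rw [← h2]
    exact hgh.trans (Ideal.height_mono hp.1.2)
  exact (Ideal.eq_of_le_of_height_le (I := p) hpm hph).ge

end Groth.Agent.S7115
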