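import Groth.Statements.S7116
import Mathlib
-- import your own Groth.Agent.* helpers here

set_option autoImplicit false
universe u
open CAlg

namespace Groth.Agent.S7116

open IsLocalRing

set_option backward.isDefEq.respectTransparency false in
theorem dim_quotient_succ_le {R : Type*} [CommRing R] {r : R}
    (hr : ∀ p ∈ minimalPrimes R, r ∉ p) :
    ringKrullDim (R ⧸ Ideal.span {r}) + 1 ≤ ringKrullDim R := by
  by_cases hr' : Ideal.span {r} = ⊤
  · rw [hr', ringKrullDim_eq_bot_of_subsingleton]
    simp
  have : Nonempty (PrimeSpectrum.zeroLocus (R := R) (Ideal.span {r})) := by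
    rwa [Set.nonempty_coe_sort, Set.nonempty_iff_ne_empty, ne_eq,
      PrimeSpectrum.zeroLocus_empty_iff_eq_top]
  have := Ideal.Quotient.nontrivial_iff.mpr hr'
  have := (Ideal.Quotient.mk (Ideal.span {r})).domain_nontrivial
  rw [ringKrullDim_quotient, Order.krullDim_eq_iSup_length, ringKrullDim,
    Order.krullDim_eq_iSup_length, ← WithBot.coe_one, ← WithBot.coe_add,
    ENat.iSup_add, WithBot.coe_le_coe, iSup_le_iff]
  intro l
  obtain ⟨p, hp, hp'⟩ := Ideal.exists_minimalPrimes_le (J := l.head.1.asIdeal) bot_le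
  let p' : PrimeSpectrum R := ⟨p, hp.1.1⟩
  have hp' : p' < l.head := lt_of_le_of_ne hp' fun h ↦ hr p hp
    (show r ∈ p by simpa [← h] using l.head.2)
  refine le_trans ?_ (le_iSup _ ((l.map Subtype.val (fun _ _ ↦ id)).cons p' hp'))
  simp

/-- Existence of the parameters. -/
theorem exists_params (R : Type u) [CommRing R] [IsNoetherianRing R] [IsLocalRing R]
    (d : ℕ) (hd : ringKrullDim R = d) (f : R) (hf : f ∈ IsLocalRing.maximalIdeal R)
    (hmin : ∀ p ∈ minimalPrimes R, f ∉ p) :
    ∃ (g : Fin (d - 1) → R), (∀ i, g i ∈ IsLocalRing.maximalIdeal R) ∧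
      IsLocalRing.maximalIdeal R ≤ (Ideal.span (insert f (Set.range g))).radical := by
  classical
  have hne : Ideal.span {f} ≠ ⊤ := by
    intro h
    rw [Ideal.span_singleton_eq_top] at h
    exact (mem_maximalIdeal f).mp hf h
  haveI : Nontrivial (R ⧸ Ideal.span {f}) := Ideal.Quotient.nontrivial_iff.mpr hne
  haveI : IsLocalRing (R ⧸ Ideal.span {f}) :=
    IsLocalRing.of_surjective' (Ideal.Quotient.mk _) Ideal.Quotient.mk_surjective
  set mk := Ideal.Quotient.mk (Ideal.span {f}) with hmk
  have hmksurj : Function.Surjective mk := Ideal.Quotient.mk_surjective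
  obtain ⟨s, hs, hcard⟩ := Ideal.exists_finset_card_eq_height_of_isNoetherianRing
    (maximalIdeal (R ⧸ Ideal.span {f}))
  have hdim := dim_quotient_succ_le hmin
  rw [← IsLocalRing.maximalIdeal_height_eq_ringKrullDim, ← hcard, hd] at hdim
  have hcard' : s.card + 1 ≤ d := by exact_mod_cast hdim
  -- lifts
  let lift : (R ⧸ Ideal.span {f}) → R := Function.surjInv hmksurj
  have hlift : ∀ x, mk (lift x) = x := Function.surjInv_eq hmksurj
  let t : Finset R := s.image lift
  have htcard : t.card ≤ d - 1 := by
    have := Finset.card_image_le (s := s) (f := lift)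
    show (s.image lift).card ≤ d - 1
    omega
  let g : Fin (d - 1) → R := fun i =>
    if h : (i : ℕ) < t.card then ((t.equivFin.symm ⟨i, h⟩ : t) : R) else 0
  have hcomap : (maximalIdeal (R ⧸ Ideal.span {f})).comap mk = maximalIdeal R :=
    eq_maximalIdeal (Ideal.comap_isMaximal_of_surjective mk hmksurj)
  have hsle : Ideal.span (s : Set (R ⧸ Ideal.span {f})) ≤ maximalIdeal _ := hs.1.2
  have htm : ∀ y ∈ t, y ∈ maximalIdeal R := by
    intro y hy
    obtain ⟨x, hx, rfl⟩ := Finset.mem_image.mp hy
    rw [← hcomap, Ideal.mem_comap, hlift]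
    exact hsle (Ideal.subset_span hx)
  have hg_mem : ∀ i, g i ∈ maximalIdeal R := by
    intro i
    simp only [g]
    split_ifs with h
    · exact htm _ (Subtype.coe_prop _)
    · exact zero_mem _
  have htg : ∀ y ∈ t, y ∈ Set.range g := by
    intro y hy
    let k := t.equivFin ⟨y, hy⟩
    refine ⟨⟨k, lt_of_lt_of_le k.2 htcard⟩, ?_⟩
    simp only [g]
    rw [dif_pos k.2]
    simp [k]
  refine ⟨g, hg_mem, ?_⟩
  rw [Ideal.radical_eq_sInf]
  refine le_sInf ?_
  rintro P ⟨hJP, hP⟩
  have hfP : f ∈ P := hJP (Ideal.subset_span (Set.mem_insert _ _))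
  have hker : RingHom.ker mk ≤ P := by
    rw [hmk, Ideal.mk_ker, Ideal.span_singleton_le_iff_mem]; exact hfP
  haveI : (P.map mk).IsPrime := Ideal.map_isPrime_of_surjective hmksurj hker
  have hsP : Ideal.span (s : Set (R ⧸ Ideal.span {f})) ≤ P.map mk := by
    rw [Ideal.span_le]
    intro x hx
    have : lift x ∈ P := hJP (Ideal.subset_span (Set.mem_insert_of_mem _
      (htg _ (Finset.mem_image_of_mem lift hx))))
    rw [← hlift x]
    exact Ideal.mem_map_of_mem _ this
  have hle : P.map mk ≤ maximalIdeal _ := IsLocalRing.le_maximalIdeal (Ideal.IsPrime.ne_top ‹_›)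
  have hge : maximalIdeal _ ≤ P.map mk := hs.2 ⟨‹_›, hsP⟩ hle
  calc maximalIdeal R = (maximalIdeal (R ⧸ Ideal.span {f})).comap mk := hcomap.symm
    _ ≤ (P.map mk).comap mk := Ideal.comap_mono hge
    _ = P ⊔ (⊥ : Ideal _).comap mk := Ideal.comap_map_of_surjective mk hmksurj P
    _ ≤ P := sup_le le_rfl hker

/-- Let R be a Noetherian local ring of Krull dimension d with maximal ideal m and let f be an element
of m contained in no minimal prime. Then there are g_1, ..., g_{d-1} in m and a natural number N
such that f, g_1, ..., g_{d-1} is a system of parameters (these d elements of m generate an ideal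
with radical m) and, for every h in m^N, the elements f + h, g_1, ..., g_{d-1} again form a system
of parameters and the lengths of R/(f, g_1, ..., g_{d-1}) and R/(f + h, g_1, ..., g_{d-1}) agree. -/
theorem result (R : Type u) [CommRing R] [IsNoetherianRing R] [IsLocalRing R]
    (d : ℕ) (hd : ringKrullDim R = d) (f : R) (hf : f ∈ IsLocalRing.maximalIdeal R)
    (hmin : ∀ p ∈ minimalPrimes R, f ∉ p) :
    ∃ (g : Fin (d - 1) → R) (N : ℕ), (∀ i, g i ∈ IsLocalRing.maximalIdeal R) ∧
      IsLocalRing.maximalIdeal R ≤ (Ideal.span (insert f (Set.range g))).radical ∧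
      ∀ h ∈ IsLocalRing.maximalIdeal R ^ N,
        IsLocalRing.maximalIdeal R ≤ (Ideal.span (insert (f + h) (Set.range g))).radical ∧
        Module.length R (R ⧸ Ideal.span (insert f (Set.range g))) =
          Module.length R (R ⧸ Ideal.span (insert (f + h) (Set.range g))) := by
  obtain ⟨g, hg, hrad⟩ := exists_params R d hd f hf hmin
  set J := Ideal.span (insert f (Set.range g)) with hJ
  obtain ⟨N₀, hN₀⟩ := Ideal.exists_pow_le_of_le_radical_of_fg hrad
    (IsNoetherian.noetherian _)
  refine ⟨g, N₀ + 1, hg, hrad, ?_⟩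
  intro h hh
  have hhJ : h ∈ maximalIdeal R * J := by
    rw [pow_succ'] at hh
    have := Ideal.mul_mono_right (I := maximalIdeal R) hN₀
    exact this hh
  have hhJ' : h ∈ J := (Ideal.mul_le_inf hhJ).2
  have heq : Ideal.span (insert (f + h) (Set.range g)) = J := by
    apply le_antisymm
    · rw [Ideal.span_le]
      rintro x (rfl | hx)
      · exact J.add_mem (Ideal.subset_span (Set.mem_insert _ _)) hhJ'
      · exact Ideal.subset_span (Set.mem_insert_of_mem _ hx)
    · have key : J ≤ Ideal.span (insert (f + h) (Set.range g)) ⊔ maximalIdeal R • J := by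
        rw [hJ, Ideal.span_le]
        rintro x (rfl | hx)
        · have h1 := Submodule.add_mem_sup (S := Ideal.span (insert (x + h) (Set.range g)))
            (T := maximalIdeal R • J) (Ideal.subset_span (Set.mem_insert _ _))
            (show -h ∈ maximalIdeal R • J by rw [smul_eq_mul]; exact neg_mem hhJ)
          rwa [add_neg_cancel_right] at h1
        · exact Submodule.mem_sup_left (Ideal.subset_span (Set.mem_insert_of_mem _ hx))
      exact Submodule.le_of_le_smul_of_le_jacobson_bot (IsNoetherian.noetherian J)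
        (IsLocalRing.maximalIdeal_le_jacobson _) key
  rw [heq]
  exact ⟨hrad, rfl⟩

end Groth.Agent.S7116
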