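import Groth.Statements.S7117
import Groth.Agent.H17.HS.Mult
import Groth.Agent.S12212

set_option autoImplicit false
universe u
open CAlg

namespace Groth.Agent.S7117

open Groth.Agent.H17.HS Groth.Agent.S12212 Filter Topology

/-- Let R be a Noetherian local ring of Krull dimension d with maximal ideal m, and suppose g_1, ...,
g_d in m form a system of parameters (they generate an ideal with radical m). Then the number of
minimal prime ideals p of R with R/p of Krull dimension d is at most the length of R/(g_1, ...,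
g_d). -/
theorem result (R : Type u) [CommRing R] [IsNoetherianRing R] [IsLocalRing R]
    (d : ℕ) (hd : ringKrullDim R = d) (g : Fin d → R) (hg : ∀ i, g i ∈ IsLocalRing.maximalIdeal R)
    (hsop : IsLocalRing.maximalIdeal R ≤ (Ideal.span (Set.range g)).radical) :
    (Set.ncard {p : Ideal R | p ∈ minimalPrimes R ∧ ringKrullDim (R ⧸ p) = d} : ℕ∞) ≤
      Module.length R (R ⧸ Ideal.span (Set.range g)) := by
  classical
  have hIm : Ideal.span (Set.range g) ≤ IsLocalRing.maximalIdeal R :=
    Ideal.span_le.mpr (by rintro _ ⟨i, rfl⟩; exact hg i)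
  obtain ⟨k, hk⟩ := Ideal.exists_pow_le_of_le_radical_of_fg hsop (IsNoetherian.noetherian _)
  have hfin : ∀ n, colen (Ideal.span (Set.range g) ^ n • (⊤ : Submodule R R)) ≠ ⊤ :=
    fun n => colen_pow_ne_top_of_primary hk R n
  -- Samuel polynomials of all the quotients `R/p`
  have hex : ∀ p : PrimeSpectrum R, ∃ P : Polynomial ℚ,
      HasSamuelPoly (Ideal.span (Set.range g)) (R ⧸ p.asIdeal) P ∧
      ∀ d' : ℕ, Module.supportDim R (R ⧸ p.asIdeal) ≤ (d' : WithBot ℕ∞) → P.natDegree ≤ d' :=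
    fun p => exists_samuelPoly_of_primary hk (R ⧸ p.asIdeal)
  choose Pp hPp hPpdeg using hex
  obtain ⟨e, he_def⟩ : ∃ e : PrimeSpectrum R → ℝ,
      e = fun p => (d.factorial : ℝ) * (((Pp p).coeff d : ℚ) : ℝ) := ⟨_, rfl⟩
  have hdimp : ∀ p : PrimeSpectrum R, ringKrullDim (R ⧸ p.asIdeal) = d →
      (Pp p).natDegree ≤ d := by
    intro p hp
    apply hPpdeg p d
    rw [Module.supportDim_quotient_eq_ringKrullDim, hp]
  have he : ∀ p : PrimeSpectrum R, ringKrullDim (R ⧸ p.asIdeal) = d →
      Tendsto (fun t : ℕ => (d.factorial : ℝ) *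
        (samuel (Ideal.span (Set.range g)) (R ⧸ p.asIdeal) t : ℝ) / (t : ℝ) ^ d) atTop
        (𝓝 (e p)) := by
    intro p hp
    rw [he_def]
    exact tendsto_samuel_of_natDegree_le (hPp p) (hdimp p hp)
  have hdR : Module.supportDim R R ≤ d :=
    le_of_eq (by rw [Module.supportDim_self_eq_ringKrullDim, hd])
  obtain ⟨hF, hb, hc⟩ := good_all R (Ideal.span (Set.range g)) ⟨hIm, k, hk⟩ R d hdR e he
  -- the limit for `R` itself
  obtain ⟨PRr, hPRr, hPRrdeg⟩ := exists_samuelPoly_of_primary hk R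
  have hPRd : PRr.natDegree ≤ d := hPRrdeg d hdR
  have hlimR := tendsto_samuel_of_natDegree_le hPRr hPRd
  have hLeq : assocSum d e R = (d.factorial : ℝ) * ((PRr.coeff d : ℚ) : ℝ) :=
    tendsto_nhds_unique hc hlimR
  have hLle : (d.factorial : ℝ) * ((PRr.coeff d : ℚ) : ℝ) ≤
      (samuel (Ideal.span (Set.range g)) R 1 : ℝ) :=
    limit_le_samuel_one g hfin _ hlimR
  -- the set of top-dimensional primes is finite
  obtain ⟨D, hD⟩ : ∃ D : Set (PrimeSpectrum R),
      D = {p : PrimeSpectrum R | ringKrullDim (R ⧸ p.asIdeal) = d} := ⟨_, rfl⟩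
  have hloc0 : ∀ p : PrimeSpectrum R, locLen p.asIdeal R ≠ 0 := by
    intro p h0
    unfold locLen at h0
    rw [Module.length_eq_zero_iff, LocalizedModule.subsingleton_iff] at h0
    obtain ⟨r, hr, hr0⟩ := h0 (1 : R)
    rw [smul_eq_mul, mul_one] at hr0
    exact hr (hr0 ▸ p.asIdeal.zero_mem)
  have hDfin : D.Finite := by
    rw [hD]
    exact hF.subset (fun p hp => ⟨hp, hloc0 p⟩)
  have hterm : ∀ p ∈ D, (1 : ℝ) ≤ ((locLen p.asIdeal R).toNat : ℝ) * e p := by
    intro p hp
    rw [hD] at hp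
    have hp' : ringKrullDim (R ⧸ p.asIdeal) = d := hp
    have h1 : (1 : ℝ) ≤ ((locLen p.asIdeal R).toNat : ℝ) := by
      have h1' : 1 ≤ (locLen p.asIdeal R).toNat := by
        rw [Nat.one_le_iff_ne_zero]
        intro h0
        rcases ENat.toNat_eq_zero.mp h0 with h | h
        · exact hloc0 p h
        · exact hb p hp' h
      exact_mod_cast h1'
    have h2 : (1 : ℝ) ≤ e p := by
      have hpos : 0 < (d.factorial : ℝ) * (((Pp p).coeff d : ℚ) : ℝ) :=
        factorial_mul_coeff_pos hIm hk (R ⧸ p.asIdeal)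
          (by rw [Module.supportDim_quotient_eq_ringKrullDim]; exact hp') (hPp p) (hdimp p hp')
      obtain ⟨K, hK⟩ := hPp p
      obtain ⟨z, hz⟩ := exists_int_eq_factorial_mul_coeff (Pp p) d (hdimp p hp') K
        (fun n hn => ⟨(samuel (Ideal.span (Set.range g)) (R ⧸ p.asIdeal) n : ℤ), by
          rw [← hK n hn]
          simp⟩)
      have hz' : (d.factorial : ℝ) * (((Pp p).coeff d : ℚ) : ℝ) = (z : ℝ) := by
        have h3 : (((d.factorial : ℚ) * (Pp p).coeff d : ℚ) : ℝ) = ((z : ℚ) : ℝ) := by rw [hz]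
        push_cast at h3
        exact h3
      rw [he_def]
      show (1 : ℝ) ≤ (d.factorial : ℝ) * (((Pp p).coeff d : ℚ) : ℝ)
      rw [hz'] at hpos ⊢
      have hzpos : 0 < z := by exact_mod_cast hpos
      exact_mod_cast (by omega : 1 ≤ z)
    exact one_le_mul_of_one_le_of_one_le h1 h2
  have hsum : (D.ncard : ℝ) ≤ assocSum d e R := by
    unfold assocSum
    rw [← hD, finsum_mem_eq_finite_toFinset_sum _ hDfin, Set.ncard_eq_toFinset_card D hDfin]
    have h4 := Finset.card_nsmul_le_sum hDfin.toFinset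
      (fun p => ((locLen p.asIdeal R).toNat : ℝ) * e p) 1
      (fun p hp => hterm p (hDfin.mem_toFinset.mp hp))
    simpa using h4
  -- the set of ideals in the statement injects into `D`
  have hT : {p : Ideal R | p ∈ minimalPrimes R ∧ ringKrullDim (R ⧸ p) = d} ⊆
      PrimeSpectrum.asIdeal '' D := by
    rintro p ⟨hpmin, hpd⟩
    have hpp : p.IsPrime := Ideal.IsMinimalPrime.isPrime hpmin
    refine ⟨⟨p, hpp⟩, ?_, rfl⟩
    rw [hD]
    exact hpd
  have hcard : Set.ncard {p : Ideal R | p ∈ minimalPrimes R ∧ ringKrullDim (R ⧸ p) = d} ≤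
      D.ncard :=
    (Set.ncard_le_ncard hT (hDfin.image _)).trans (Set.ncard_image_le hDfin)
  have hnat : D.ncard ≤ samuel (Ideal.span (Set.range g)) R 1 := by
    have h5 : (D.ncard : ℝ) ≤ (samuel (Ideal.span (Set.range g)) R 1 : ℝ) :=
      hsum.trans (hLeq.le.trans hLle)
    exact_mod_cast h5
  have hlen1 : Module.length R (R ⧸ Ideal.span (Set.range g)) =
      ((samuel (Ideal.span (Set.range g)) R 1 : ℕ) : ℕ∞) := by
    have hJ : (Ideal.span (Set.range g) • (⊤ : Submodule R R)) = Ideal.span (Set.range g) := by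
      rw [smul_eq_mul, Ideal.mul_top]
    have hl : Module.length R (R ⧸ Ideal.span (Set.range g)) =
        colen (Ideal.span (Set.range g) • (⊤ : Submodule R R)) :=
      (LinearEquiv.length_eq (Submodule.quotEquivOfEq _ _ hJ)).symm
    have hne : colen (Ideal.span (Set.range g) • (⊤ : Submodule R R)) ≠ ⊤ := by
      have h6 := hfin 1
      rwa [pow_one] at h6
    unfold samuel cn
    rw [pow_one, hl, ENat.natCast_toNat hne]
  rw [hlen1]
  exact_mod_cast hcard.trans hnat

end Groth.Agent.S7117
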