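import Groth.Statements.S7120
import Mathlib

set_option autoImplicit false
universe u
open CAlg

namespace Groth.Agent.S7120

/-- A retract `P` of `M` gives `P × ker s ≃ M`. -/
noncomputable def retractEquiv {R : Type*} [Ring R] {P M : Type*} [AddCommGroup P] [Module R P]
    [AddCommGroup M] [Module R M] (i : P →ₗ[R] M) (s : M →ₗ[R] P) (h : s ∘ₗ i = LinearMap.id) :
    (P × LinearMap.ker s) ≃ₗ[R] M where
  toFun x := i x.1 + x.2
  map_add' x y := by simp; abel
  map_smul' r x := by simp
  invFun m := (s m, ⟨m - i (s m), by
    have := LinearMap.congr_fun h (s m)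
    simp at this
    simp [this]⟩)
  left_inv x := by
    have h1 := LinearMap.congr_fun h x.1
    simp at h1
    have h2 : s (x.2 : M) = 0 := x.2.2
    ext <;> simp [h1, h2]
  right_inv m := by simp

theorem key (R : Type u) [CommRing R] [IsDomain R] [IsBezout R] (n : ℕ) :
    ∀ (M : Type u) [AddCommGroup M] [Module R M] [Module.Finite R M] (f : M →ₗ[R] (Fin n → R)),
      Function.Injective f → Module.Free R M := by
  induction n with
  | zero =>
    intro M _ _ _ f hf
    have : Subsingleton M := hf.subsingleton
    infer_instance
  | succ n ih =>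
    intro M _ _ _ f hf
    -- first coordinate
    let φ : M →ₗ[R] R := LinearMap.proj 0 ∘ₗ f
    let tl : (Fin (n + 1) → R) →ₗ[R] (Fin n → R) :=
      LinearMap.pi (fun j => LinearMap.proj j.succ)
    have htl : ∀ x y : Fin (n + 1) → R, x 0 = y 0 → tl x = tl y → x = y := by
      intro x y h0 h1
      funext j
      refine Fin.cases h0 (fun j => ?_) j
      exact congrFun h1 j
    let I : Ideal R := LinearMap.range φ
    have hIfg : I.FG := by
      have : (⊤ : Submodule R M).FG := Module.finite_def.mp inferInstance
      have h2 := this.map φ
      rwa [Submodule.map_top] at h2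
    obtain ⟨a, ha⟩ := IsBezout.isPrincipal_of_FG I hIfg
    -- the kernel is free
    have hKfree : ∀ (q : M →ₗ[R] LinearMap.ker φ), Function.Surjective q →
        Module.Free R (LinearMap.ker φ) := by
      intro q hq
      have : Module.Finite R (LinearMap.ker φ) := Module.Finite.of_surjective q hq
      refine ih (LinearMap.ker φ) (tl ∘ₗ f ∘ₗ (LinearMap.ker φ).subtype) ?_
      intro x y hxy
      apply Subtype.ext
      apply hf
      apply htl _ _ _ hxy
      have hx : φ x = 0 := x.2
      have hy : φ y = 0 := y.2
      have hx' : f (x : M) 0 = 0 := hx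
      have hy' : f (y : M) 0 = 0 := hy
      show f (x : M) 0 = f (y : M) 0
      rw [hx', hy']
    by_cases ha0 : a = 0
    · -- φ = 0
      have hI : I = ⊥ := by rw [ha, ha0]; simp
      have hφ : ∀ m, φ m = 0 := by
        intro m
        have : φ m ∈ I := ⟨m, rfl⟩
        rw [hI] at this
        simpa using this
      have hker : LinearMap.ker φ = ⊤ := by
        ext m
        simp only [LinearMap.mem_ker, Submodule.mem_top, iff_true]
        exact hφ m
      have := hKfree (LinearMap.codRestrict (LinearMap.ker φ) LinearMap.id (fun m => hφ m))
        (fun k => ⟨k, Subtype.ext rfl⟩)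
      exact Module.Free.of_equiv
        ((LinearEquiv.ofEq _ _ hker).trans (Submodule.topEquiv (R := R) (M := M)))
    · -- I ≅ R
      have eI : R ≃ₗ[R] I :=
        (LinearEquiv.toSpanNonzeroSingleton R R a ha0).trans (LinearEquiv.ofEq _ _ ha.symm)
      have : Module.Free R I := Module.Free.of_equiv eI
      let φ' : M →ₗ[R] I := φ.rangeRestrict
      have hφ' : Function.Surjective φ' := LinearMap.surjective_rangeRestrict φ
      obtain ⟨i, hi⟩ := Module.projective_lifting_property φ' LinearMap.id hφ'
      have hker : LinearMap.ker φ' = LinearMap.ker φ := by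
        ext m
        simp [φ', LinearMap.mem_ker, Subtype.ext_iff]
      have hi' : ∀ x, φ' (i x) = x := fun x => LinearMap.congr_fun hi x
      have hfreeK : Module.Free R (LinearMap.ker φ) := by
        refine hKfree (LinearMap.codRestrict (LinearMap.ker φ) (LinearMap.id - i ∘ₗ φ') ?_) ?_
        · intro m
          rw [← hker, LinearMap.mem_ker]
          simp [hi']
        · intro k
          refine ⟨k, ?_⟩
          have hk : φ' k = 0 := by
            have : (k : M) ∈ LinearMap.ker φ' := by rw [hker]; exact k.2
            exact this
          ext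
          simp [hk]
      have hfreeK' : Module.Free R (LinearMap.ker φ') := by rw [hker]; exact hfreeK
      exact Module.Free.of_equiv (retractEquiv i φ' hi)

/-- Over a Bézout domain, a finitely generated submodule of a free module is itself free of finite rank. -/
theorem result (R : Type u) [CommRing R] [IsDomain R] [IsBezout R]
    (F : Type u) [AddCommGroup F] [Module R F] [Module.Free R F] (N : Submodule R F) (hN : N.FG) :
    Module.Free R N ∧ Module.Finite R N := by
  classical
  have hfin : Module.Finite R N := Module.Finite.iff_fg.mpr hN
  refine ⟨?_, hfin⟩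
  obtain ⟨S, hS⟩ := hN
  let b := Module.Free.chooseBasis R F
  let T : Finset (Module.Free.ChooseBasisIndex R F) := S.biUnion (fun x => (b.repr x).support)
  -- elements of N have support in T
  have hsupp : ∀ x ∈ N, b.repr x ∈ Finsupp.supported R R (T : Set _) := by
    intro x hx
    rw [← hS] at hx
    have : Submodule.span R (S : Set F) ≤
        (Finsupp.supported R R (T : Set _)).comap b.repr.toLinearMap := by
      rw [Submodule.span_le]
      intro y hy
      simp only [Submodule.comap_coe, Set.mem_preimage, LinearEquiv.coe_coe, SetLike.mem_coe,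
        Finsupp.mem_supported]
      intro t ht
      simp only [T, Finset.coe_biUnion, Set.mem_iUnion]
      exact ⟨y, hy, ht⟩
    exact this hx
  let ψ : N →ₗ[R] (T → R) :=
    LinearMap.pi (fun t => (Finsupp.lapply (t : Module.Free.ChooseBasisIndex R F)) ∘ₗ
      b.repr.toLinearMap ∘ₗ N.subtype)
  have hψ : Function.Injective ψ := by
    rw [← LinearMap.ker_eq_bot, LinearMap.ker_eq_bot']
    intro x hx
    have h0 : b.repr x = 0 := by
      ext t
      by_cases ht : t ∈ T
      · have := congrFun hx ⟨t, ht⟩
        simpa [ψ] using this
      · have := hsupp x x.2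
        rw [Finsupp.mem_supported] at this
        have : t ∉ (b.repr x).support := fun h => ht (this h)
        simpa using this
    apply Subtype.ext
    simpa using h0
  let e : (T → R) ≃ₗ[R] (Fin (Fintype.card T) → R) :=
    LinearEquiv.funCongrLeft R R (Fintype.equivFin T).symm
  exact key R (Fintype.card T) N (e.toLinearMap ∘ₗ ψ) (e.injective.comp hψ)

end Groth.Agent.S7120
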