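import Groth.Statements.S7121
import Mathlib
import Groth.Agent.S7120
-- import your own Groth.Agent.* helpers here

set_option autoImplicit false
universe u
open CAlg

namespace Groth.Agent.S7121

section Fac

variable {R : Type u} [CommRing R]

/-- `φ` factors through a finite product of cyclic modules `R/(f_i)` with all `f_i ≠ 0`. -/
def Fac {T T₂ : Type u} [AddCommGroup T] [Module R T] [AddCommGroup T₂] [Module R T₂]
    (φ : T →ₗ[R] T₂) : Prop :=
  ∃ (ι : Type) (_ : Fintype ι) (f : ι → R), (∀ i, f i ≠ 0) ∧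
    ∃ (α : T →ₗ[R] ((i : ι) → R ⧸ Ideal.span {f i}))
      (β : ((i : ι) → R ⧸ Ideal.span {f i}) →ₗ[R] T₂), β ∘ₗ α = φ

variable {T T₂ T₃ T₄ : Type u} [AddCommGroup T] [Module R T] [AddCommGroup T₂] [Module R T₂]
  [AddCommGroup T₃] [Module R T₃] [AddCommGroup T₄] [Module R T₄]

lemma Fac.zero : Fac (0 : T →ₗ[R] T₂) :=
  ⟨PEmpty, inferInstance, fun i => i.elim, fun i => i.elim, 0, 0, by simp⟩

lemma Fac.comp {φ : T₂ →ₗ[R] T₃} (h : Fac φ) (a : T →ₗ[R] T₂) (b : T₃ →ₗ[R] T₄) :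
    Fac (b ∘ₗ φ ∘ₗ a) := by
  obtain ⟨ι, _, f, hf, α, β, rfl⟩ := h
  exact ⟨ι, inferInstance, f, hf, α ∘ₗ a, b ∘ₗ β, by
    simp only [LinearMap.comp_assoc]⟩

lemma Fac.add {φ ψ : T →ₗ[R] T₂} (h₁ : Fac φ) (h₂ : Fac ψ) : Fac (φ + ψ) := by
  obtain ⟨ι₁, _, f₁, hf₁, α₁, β₁, rfl⟩ := h₁
  obtain ⟨ι₂, _, f₂, hf₂, α₂, β₂, rfl⟩ := h₂
  let A : ι₁ ⊕ ι₂ → Type u := fun i => R ⧸ Ideal.span {Sum.elim f₁ f₂ i}
  let e : ((i : ι₁ ⊕ ι₂) → A i) ≃ₗ[R]
      (((i : ι₁) → R ⧸ Ideal.span {f₁ i}) × ((i : ι₂) → R ⧸ Ideal.span {f₂ i})) :=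
    LinearEquiv.sumPiEquivProdPi R ι₁ ι₂ A
  refine ⟨ι₁ ⊕ ι₂, inferInstance, Sum.elim f₁ f₂, ?_, e.symm.toLinearMap ∘ₗ (α₁.prod α₂),
    (β₁.coprod β₂) ∘ₗ e.toLinearMap, ?_⟩
  · rintro (i | i)
    · exact hf₁ i
    · exact hf₂ i
  · ext x
    simp

lemma Fac.cyclic {c : R} (hc : c ≠ 0) :
    Fac (LinearMap.id : (R ⧸ Ideal.span {c}) →ₗ[R] (R ⧸ Ideal.span {c})) :=
  ⟨PUnit, inferInstance, fun _ => c, fun _ => hc, LinearMap.pi (fun _ => LinearMap.id),
    LinearMap.proj PUnit.unit, by ext x; simp⟩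

variable (R T) in
/-- the ideal of scalars `s` such that `s • id` factors through a product of cyclic torsion modules -/
def Sid : Ideal R where
  carrier := {s | Fac (s • (LinearMap.id : T →ₗ[R] T))}
  zero_mem' := by
    show Fac ((0 : R) • (LinearMap.id : T →ₗ[R] T))
    rw [zero_smul]
    exact Fac.zero
  add_mem' := by
    intro a b ha hb
    show Fac ((a + b) • (LinearMap.id : T →ₗ[R] T))
    rw [add_smul]
    exact Fac.add ha hb
  smul_mem' := by
    intro r a ha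
    show Fac ((r • a) • (LinearMap.id : T →ₗ[R] T))
    have := Fac.comp ha (LinearMap.id : T →ₗ[R] T) (r • (LinearMap.id : T →ₗ[R] T))
    convert this using 1
    ext x
    simp [mul_smul]

lemma mem_Sid {s : R} : s ∈ Sid R T ↔ Fac (s • (LinearMap.id : T →ₗ[R] T)) := Iff.rfl

end Fac


section Step

variable {R : Type u} [CommRing R]

/-- drop the coordinate `j₀` -/
noncomputable abbrev rho {n : ℕ} (j₀ : Fin (n + 1)) : (Fin (n + 1) → R) →ₗ[R] (Fin n → R) :=
  LinearMap.funLeft R R j₀.succAbove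

/-- insert `0` at the coordinate `j₀` -/
noncomputable abbrev eps {n : ℕ} (j₀ : Fin (n + 1)) : (Fin n → R) →ₗ[R] (Fin (n + 1) → R) :=
  Function.ExtendByZero.linearMap R j₀.succAbove

lemma eps_same {n : ℕ} (j₀ : Fin (n + 1)) (y : Fin n → R) : eps j₀ y j₀ = 0 := by
  show Function.extend j₀.succAbove y 0 j₀ = 0
  rw [Function.extend_apply']
  · rfl
  · rintro ⟨a, ha⟩
    exact Fin.succAbove_ne j₀ a ha

lemma eps_succAbove {n : ℕ} (j₀ : Fin (n + 1)) (y : Fin n → R) (i : Fin n) :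
    eps j₀ y (j₀.succAbove i) = y i := by
  show Function.extend j₀.succAbove y 0 (j₀.succAbove i) = y i
  exact Fin.succAbove_right_injective.extend_apply _ _ _

lemma rho_eps {n : ℕ} (j₀ : Fin (n + 1)) (y : Fin n → R) : rho j₀ (eps j₀ y) = y := by
  funext i
  exact eps_succAbove j₀ y i

lemma eps_rho {n : ℕ} (j₀ : Fin (n + 1)) (x : Fin (n + 1) → R) (hx : x j₀ = 0) :
    eps j₀ (rho j₀ x) = x := by
  funext j
  revert j
  rw [Fin.forall_iff_succAbove j₀]
  refine ⟨?_, fun i => ?_⟩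
  · rw [eps_same, hx]
  · rw [eps_succAbove]
    rfl

variable [IsDomain R] [IsBezout R]

lemma comap_eps_fg {n : ℕ} (j₀ : Fin (n + 1)) (K : Submodule R (Fin (n + 1) → R)) (hK : K.FG) :
    (K.comap (eps j₀)).FG := by
  obtain ⟨hKfree, hKfin⟩ := Groth.Agent.S7120.result R (Fin (n + 1) → R) K hK
  let lam : K →ₗ[R] R := LinearMap.proj j₀ ∘ₗ K.subtype
  let E : Submodule R R := LinearMap.range lam
  have hEfg : E.FG := by
    show (LinearMap.range lam).FG
    rw [LinearMap.range_eq_map]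
    exact (Module.Finite.fg_top).map lam
  obtain ⟨hEfree, hEfin⟩ := Groth.Agent.S7120.result R R E hEfg
  let lam' : K →ₗ[R] E := lam.rangeRestrict
  have hsurj : Function.Surjective lam' := LinearMap.surjective_rangeRestrict lam
  obtain ⟨σ, hσ⟩ := Module.projective_lifting_property lam' LinearMap.id hsurj
  let q : K →ₗ[R] K := LinearMap.id - σ ∘ₗ lam'
  have hq : ∀ k, lam (q k) = 0 := by
    intro k
    have h1 : lam' (σ (lam' k)) = lam' k := LinearMap.congr_fun hσ (lam' k)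
    have h2 : lam (σ (lam' k)) = lam k := congrArg Subtype.val h1
    simp only [q, LinearMap.sub_apply, LinearMap.id_coe, id_eq, LinearMap.coe_comp,
      Function.comp_apply, map_sub, h2, sub_self]
  have hEq : K.comap (eps j₀) = Submodule.map (rho j₀ ∘ₗ K.subtype ∘ₗ q) ⊤ := by
    ext y
    simp only [Submodule.mem_comap, Submodule.mem_map, Submodule.mem_top, true_and]
    constructor
    · intro hy
      refine ⟨⟨eps j₀ y, hy⟩, ?_⟩
      have hl : lam' ⟨eps j₀ y, hy⟩ = 0 := Subtype.ext (eps_same j₀ y)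
      simp only [q, LinearMap.coe_comp, Function.comp_apply, LinearMap.sub_apply,
        LinearMap.id_coe, id_eq, hl, map_zero, sub_zero, Submodule.subtype_apply]
      exact rho_eps j₀ y
    · rintro ⟨k, rfl⟩
      simp only [LinearMap.coe_comp, Function.comp_apply, Submodule.subtype_apply]
      rw [eps_rho j₀ _ (hq k)]
      exact (q k).2
  rw [hEq]
  exact (Module.Finite.fg_top).map _

end Step

section Core

variable {R : Type u} [CommRing R] [IsDomain R] [IsBezout R]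

lemma core (n : ℕ)
    (ih : ∀ K' : Submodule R (Fin n → R), K'.FG →
      (∀ y : Fin n → R, ∃ r : R, r ≠ 0 ∧ r • y ∈ K') →
      Fac (LinearMap.id : ((Fin n → R) ⧸ K') →ₗ[R] ((Fin n → R) ⧸ K')))
    (K : Submodule R (Fin (n + 1) → R)) (hK : K.FG)
    (htors : ∀ x : Fin (n + 1) → R, ∃ r : R, r ≠ 0 ∧ r • x ∈ K)
    (d : R) (hd0 : d ≠ 0) (hcoord : ∀ k ∈ K, ∀ j, d ∣ k j)
    (k₀ : Fin (n + 1) → R) (hk₀ : k₀ ∈ K) (j₀ : Fin (n + 1)) (s : R) (hs : k₀ j₀ = d * s) :
    s ^ 2 ∈ Sid R ((Fin (n + 1) → R) ⧸ K) := by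
  by_cases hs0 : s = 0
  · rw [hs0, zero_pow two_ne_zero]
    exact Ideal.zero_mem _
  choose u hu using (fun j => hcoord k₀ hk₀ j)
  have hu0 : u j₀ = s := mul_left_cancel₀ hd0 (by rw [← hu, hs])
  have hdu : d • u = k₀ := funext fun j => by simp [hu]
  have hc : d * s ≠ 0 := mul_ne_zero hd0 hs0
  -- the projection to the cyclic module
  let pt : (Fin (n + 1) → R) →ₗ[R] R ⧸ Ideal.span {d * s} :=
    (Ideal.span {d * s}).mkQ ∘ₗ (s • LinearMap.proj j₀)
  have hpt : K ≤ LinearMap.ker pt := by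
    intro x hx
    obtain ⟨r, hr⟩ := hcoord x hx j₀
    rw [LinearMap.mem_ker]
    show (Ideal.span {d * s}).mkQ (s • x j₀) = 0
    rw [Submodule.mkQ_apply, Submodule.Quotient.mk_eq_zero, Ideal.mem_span_singleton]
    exact ⟨r, by rw [hr, smul_eq_mul]; ring⟩
  let a₁ : ((Fin (n + 1) → R) ⧸ K) →ₗ[R] R ⧸ Ideal.span {d * s} := K.liftQ pt hpt
  have hb₁ : Ideal.span {d * s} ≤
      LinearMap.ker (LinearMap.toSpanSingleton R ((Fin (n + 1) → R) ⧸ K) (K.mkQ u)) := by
    rw [Ideal.span_le, Set.singleton_subset_iff]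
    show (d * s) • K.mkQ u = 0
    rw [← map_smul, Submodule.mkQ_apply, Submodule.Quotient.mk_eq_zero]
    have : (d * s) • u = s • k₀ := by rw [← hdu, smul_smul, mul_comm]
    rw [this]
    exact K.smul_mem _ hk₀
  let b₁ : (R ⧸ Ideal.span {d * s}) →ₗ[R] ((Fin (n + 1) → R) ⧸ K) :=
    (Ideal.span {d * s}).liftQ _ hb₁
  -- the complementary part
  let ψ : (Fin (n + 1) → R) →ₗ[R] (Fin (n + 1) → R) :=
    (s ^ 2) • LinearMap.id - (LinearMap.toSpanSingleton R _ u) ∘ₗ (s • LinearMap.proj j₀)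
  have hψ : ∀ x, ψ x = (s ^ 2) • x - (s * x j₀) • u := by
    intro x
    simp [ψ]
  have hψ0 : ∀ x, ψ x j₀ = 0 := by
    intro x
    rw [hψ]
    simp only [Pi.sub_apply, Pi.smul_apply, smul_eq_mul, hu0]
    ring
  have hψK : ∀ x ∈ K, ψ x ∈ K := by
    intro x hx
    rw [hψ]
    refine K.sub_mem (K.smul_mem _ hx) ?_
    obtain ⟨r, hr⟩ := hcoord x hx j₀
    have : (s * x j₀) • u = (s * r) • k₀ := by
      rw [← hdu, smul_smul, hr]
      congr 1
      ring
    rw [this]
    exact K.smul_mem _ hk₀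
  let K' : Submodule R (Fin n → R) := K.comap (eps j₀)
  have ha₂ : K ≤ LinearMap.ker (K'.mkQ ∘ₗ rho j₀ ∘ₗ ψ) := by
    intro x hx
    rw [LinearMap.mem_ker]
    show K'.mkQ (rho j₀ (ψ x)) = 0
    rw [Submodule.mkQ_apply, Submodule.Quotient.mk_eq_zero]
    show eps j₀ (rho j₀ (ψ x)) ∈ K
    rw [eps_rho j₀ _ (hψ0 x)]
    exact hψK x hx
  let a₂ : ((Fin (n + 1) → R) ⧸ K) →ₗ[R] ((Fin n → R) ⧸ K') := K.liftQ _ ha₂
  let b₂ : ((Fin n → R) ⧸ K') →ₗ[R] ((Fin (n + 1) → R) ⧸ K) := K'.mapQ K (eps j₀) le_rfl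
  have key : b₁ ∘ₗ a₁ + b₂ ∘ₗ a₂ =
      (s ^ 2) • (LinearMap.id : ((Fin (n + 1) → R) ⧸ K) →ₗ[R] ((Fin (n + 1) → R) ⧸ K)) := by
    apply Submodule.linearMap_qext
    refine LinearMap.ext fun x => ?_
    show b₁ (a₁ (K.mkQ x)) + b₂ (a₂ (K.mkQ x)) = (s ^ 2) • K.mkQ x
    have e1 : a₁ (K.mkQ x) = (Ideal.span {d * s}).mkQ (s * x j₀) := rfl
    have e2 : a₂ (K.mkQ x) = K'.mkQ (rho j₀ (ψ x)) := rfl
    have e3 : b₁ ((Ideal.span {d * s}).mkQ (s * x j₀)) = (s * x j₀) • K.mkQ u := rfl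
    have e4 : b₂ (K'.mkQ (rho j₀ (ψ x))) = K.mkQ (eps j₀ (rho j₀ (ψ x))) := rfl
    rw [e1, e2, e3, e4, eps_rho j₀ _ (hψ0 x), hψ, ← map_smul, ← map_smul, ← map_add]
    congr 1
    abel
  have hK'tors : ∀ y : Fin n → R, ∃ r : R, r ≠ 0 ∧ r • y ∈ K' := by
    intro y
    obtain ⟨r, hr0, hr⟩ := htors (eps j₀ y)
    refine ⟨r, hr0, ?_⟩
    show eps j₀ (r • y) ∈ K
    rw [map_smul]
    exact hr
  rw [mem_Sid, ← key]
  refine Fac.add ?_ ?_
  · simpa using (Fac.cyclic hc).comp a₁ b₁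
  · simpa using (ih K' (comap_eps_fg j₀ K hK) hK'tors).comp a₂ b₂

end Core

section Main

variable {R : Type u} [CommRing R] [IsDomain R] [IsBezout R]

theorem step (n : ℕ)
    (ih : ∀ K' : Submodule R (Fin n → R), K'.FG →
      (∀ y : Fin n → R, ∃ r : R, r ≠ 0 ∧ r • y ∈ K') →
      Fac (LinearMap.id : ((Fin n → R) ⧸ K') →ₗ[R] ((Fin n → R) ⧸ K')))
    (K : Submodule R (Fin (n + 1) → R)) (hK : K.FG)
    (htors : ∀ x : Fin (n + 1) → R, ∃ r : R, r ≠ 0 ∧ r • x ∈ K) :
    Fac (LinearMap.id : ((Fin (n + 1) → R) ⧸ K) →ₗ[R] ((Fin (n + 1) → R) ⧸ K)) := by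
  classical
  have hK' := hK
  obtain ⟨G, hG⟩ := hK
  let C : Set R := ⋃ k ∈ (G : Set (Fin (n + 1) → R)), Set.range k
  have hCfin : C.Finite := Set.Finite.biUnion G.finite_toSet (fun k _ => Set.finite_range k)
  have hI₀fg : (Ideal.span C).FG := ⟨hCfin.toFinset, by rw [Set.Finite.coe_toFinset]⟩
  obtain ⟨d, hd⟩ := (IsBezout.isPrincipal_of_FG _ hI₀fg).principal
  have hcoordI : ∀ k ∈ K, ∀ j, k j ∈ Ideal.span C := by
    intro k hk j
    rw [← hG] at hk
    refine Submodule.span_induction (p := fun k _ => k j ∈ Ideal.span C) ?_ ?_ ?_ ?_ hk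
    · intro x hx
      exact Ideal.subset_span (Set.mem_biUnion hx ⟨j, rfl⟩)
    · simp
    · intro x y _ _ hx hy
      simpa using Ideal.add_mem _ hx hy
    · intro a x _ hx
      simpa using Ideal.mul_mem_left _ a hx
  have hcoord : ∀ k ∈ K, ∀ j, d ∣ k j := by
    intro k hk j
    have := hcoordI k hk j
    rw [hd] at this
    exact Ideal.mem_span_singleton.mp this
  have hd0 : d ≠ 0 := by
    rintro rfl
    obtain ⟨r, hr0, hr⟩ := htors (Pi.single 0 1)
    have := hcoord _ hr 0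
    rw [zero_dvd_iff] at this
    simp at this
    exact hr0 this
  suffices h1 : (1 : R) ∈ Sid R ((Fin (n + 1) → R) ⧸ K) by
    have := mem_Sid.mp h1
    rwa [one_smul] at this
  let A : Set R := {s | s ^ 2 ∈ Sid R ((Fin (n + 1) → R) ⧸ K)}
  have claim : ∀ x ∈ Ideal.span C, ∃ y ∈ Ideal.span A, x = d * y := by
    intro x hx
    refine Submodule.span_induction (p := fun x _ => ∃ y ∈ Ideal.span A, x = d * y)
      ?_ ?_ ?_ ?_ hx
    · intro x hx
      obtain ⟨k, hkG, j, rfl⟩ := Set.mem_iUnion₂.mp hx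
      have hk : k ∈ K := by
        rw [← hG]
        exact Submodule.subset_span hkG
      obtain ⟨s, hs⟩ := hcoord k hk j
      exact ⟨s, Ideal.subset_span (core n ih K hK' htors d hd0 hcoord k hk j s hs), hs⟩
    · exact ⟨0, Ideal.zero_mem _, by simp⟩
    · rintro x y _ _ ⟨y₁, h₁, rfl⟩ ⟨y₂, h₂, rfl⟩
      exact ⟨y₁ + y₂, Ideal.add_mem _ h₁ h₂, by ring⟩
    · rintro a x _ ⟨y, hy, rfl⟩
      exact ⟨a * y, Ideal.mul_mem_left _ a hy, by rw [smul_eq_mul]; ring⟩
  have hdmem : d ∈ Ideal.span C := by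
    rw [hd]
    exact Submodule.mem_span_singleton_self d
  obtain ⟨y, hy, hdy⟩ := claim d hdmem
  have hy1 : y = 1 := by
    have : d * y = d * 1 := by rw [← hdy, mul_one]
    exact mul_left_cancel₀ hd0 this
  have hA : Ideal.span A = ⊤ := by
    rw [Ideal.eq_top_iff_one, ← hy1]
    exact hy
  have hpow := Ideal.span_pow_eq_top A hA 2
  have hle : Ideal.span ((fun x : R => x ^ 2) '' A) ≤ Sid R ((Fin (n + 1) → R) ⧸ K) := by
    rw [Ideal.span_le]
    rintro _ ⟨s, hs, rfl⟩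
    exact hs
  rw [hpow] at hle
  exact hle Submodule.mem_top

theorem all (n : ℕ) : ∀ K : Submodule R (Fin n → R), K.FG →
    (∀ x : Fin n → R, ∃ r : R, r ≠ 0 ∧ r • x ∈ K) →
    Fac (LinearMap.id : ((Fin n → R) ⧸ K) →ₗ[R] ((Fin n → R) ⧸ K)) := by
  induction n with
  | zero =>
    intro K _ _
    have : (LinearMap.id : ((Fin 0 → R) ⧸ K) →ₗ[R] ((Fin 0 → R) ⧸ K)) = 0 := by
      apply Submodule.linearMap_qext
      refine LinearMap.ext fun x => ?_
      have hx : x = 0 := Subsingleton.elim _ _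
      simp [hx]
    rw [this]
    exact Fac.zero
  | succ n ih =>
    intro K hK ht
    exact step n ih K hK ht

end Main

section Part1

open Submodule Set in
theorem free_of_finite_torsionFree {R : Type u} [CommRing R] [IsDomain R] [IsBezout R]
    (M : Type u) [AddCommGroup M] [Module R M] [Module.Finite R M] [Module.IsTorsionFree R M] :
    Module.Free R M := by
  classical
  obtain ⟨n, s, hs⟩ := Module.Finite.exists_fin (R := R) (M := M)
  obtain ⟨I, indepI, hI⟩ := exists_maximal_linearIndepOn R s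
  let N := span R (range <| (s ∘ (fun x => x) : I → M))
  let sI_basis : Module.Basis I R N := Module.Basis.span indepI
  have exists_a : ∀ i : Fin n, ∃ a : R, a ≠ 0 ∧ a • s i ∈ N := by
    intro i
    by_cases hi : i ∈ I
    · use 1, zero_ne_one.symm
      rw [one_smul]
      exact subset_span (mem_range_self (⟨i, hi⟩ : I))
    · simpa [image_eq_range s I] using! hI i hi
  choose a ha ha' using exists_a
  let A := ∏ i, a i
  have hA : A ≠ 0 := by
    rw [Finset.prod_ne_zero_iff]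
    simpa using! ha
  let φ : M →ₗ[R] M := LinearMap.lsmul R M A
  have hφker : LinearMap.ker φ = ⊥ := LinearMap.ker_lsmul hA
  have hrange : ∀ m, φ m ∈ N := by
    have : LinearMap.range φ ≤ N := by
      suffices ∀ i, φ (s i) ∈ N by
        rw [LinearMap.range_eq_map, ← hs, map_span_le]
        rintro _ ⟨i, rfl⟩
        apply this
      intro i
      calc
        (∏ j ∈ {i}ᶜ, a j) • a i • s i ∈ N := N.smul_mem _ (ha' i)
        _ = (∏ j, a j) • s i := by rw [Fintype.prod_eq_prod_compl_mul i, mul_smul]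
    intro m
    exact this ⟨m, rfl⟩
  let φ' : M →ₗ[R] N := LinearMap.codRestrict N φ hrange
  have hφ' : Function.Injective φ' := by
    intro x y hxy
    have : φ x = φ y := congrArg Subtype.val hxy
    exact LinearMap.ker_eq_bot.mp hφker this
  let e1 : N ≃ₗ[R] (I → R) := sI_basis.equivFun
  let e2 : (I → R) ≃ₗ[R] (Fin (Fintype.card I) → R) :=
    LinearEquiv.funCongrLeft R R (Fintype.equivFin I).symm
  exact Groth.Agent.S7120.key R (Fintype.card I) M
    (e2.toLinearMap ∘ₗ e1.toLinearMap ∘ₗ φ')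
    (e2.injective.comp (e1.injective.comp hφ'))

end Part1

section Assemble

variable {R : Type u} [CommRing R] [IsDomain R] [IsBezout R]

theorem part1 (M : Type u) [AddCommGroup M] [Module R M] [Module.FinitePresentation R M] :
    ∃ r : ℕ, Nonempty (M ≃ₗ[R] ((Fin r → R) × Submodule.torsion R M)) := by
  haveI : Module.Free R (M ⧸ Submodule.torsion R M) := free_of_finite_torsionFree _
  obtain ⟨σ, hσ⟩ := Module.projective_lifting_property (Submodule.torsion R M).mkQ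
    LinearMap.id (Submodule.mkQ_surjective _)
  let e1 := Groth.Agent.S7120.retractEquiv σ (Submodule.torsion R M).mkQ hσ
  let e2 : (M ⧸ Submodule.torsion R M) ≃ₗ[R]
      (Fin (Module.finrank R (M ⧸ Submodule.torsion R M)) → R) :=
    (Module.finBasis R (M ⧸ Submodule.torsion R M)).equivFun
  let e3 : LinearMap.ker (Submodule.torsion R M).mkQ ≃ₗ[R] Submodule.torsion R M :=
    LinearEquiv.ofEq _ _ (Submodule.ker_mkQ _)
  exact ⟨_, ⟨e1.symm.trans (LinearEquiv.prodCongr e2 e3)⟩⟩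

theorem torsion_fp (M : Type u) [AddCommGroup M] [Module R M] [Module.FinitePresentation R M] :
    Module.FinitePresentation R (Submodule.torsion R M) := by
  obtain ⟨r, ⟨e⟩⟩ := part1 (R := R) M
  haveI : Module.FinitePresentation R ((Fin r → R) × Submodule.torsion R M) :=
    Module.FinitePresentation.of_equiv e
  refine Module.finitePresentation_of_split_exact
    (LinearMap.inr R (Fin r → R) (Submodule.torsion R M))
    (LinearMap.fst R (Fin r → R) (Submodule.torsion R M))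
    (LinearMap.inl R (Fin r → R) (Submodule.torsion R M)) ?_ LinearMap.inr_injective ?_
  · ext x
    simp
  · intro x
    constructor
    · intro hx
      refine ⟨x.2, ?_⟩
      have hx' : x.1 = 0 := hx
      refine Prod.ext ?_ ?_
      · simp [hx']
      · simp
    · rintro ⟨y, rfl⟩
      simp

theorem part2 (M : Type u) [AddCommGroup M] [Module R M] [Module.FinitePresentation R M] :
    ∃ (n : ℕ) (f : Fin n → R), (∀ j, f j ≠ 0) ∧
      ∃ (i : Submodule.torsion R M →ₗ[R] ((j : Fin n) → R ⧸ Ideal.span {f j}))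
        (p : ((j : Fin n) → R ⧸ Ideal.span {f j}) →ₗ[R] Submodule.torsion R M),
        p ∘ₗ i = LinearMap.id := by
  haveI := torsion_fp (R := R) M
  obtain ⟨n, g, hg⟩ := Module.Finite.exists_fin (R := R) (M := Submodule.torsion R M)
  let π : (Fin n → R) →ₗ[R] Submodule.torsion R M := Fintype.linearCombination R g
  have hπ : Function.Surjective π := by
    rw [← LinearMap.range_eq_top, Fintype.range_linearCombination, hg]
  have hK : (LinearMap.ker π).FG := Module.FinitePresentation.fg_ker π hπ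
  have htors : ∀ x : Fin n → R, ∃ r : R, r ≠ 0 ∧ r • x ∈ LinearMap.ker π := by
    intro x
    obtain ⟨a, ha⟩ := (π x).2
    refine ⟨(a : R), nonZeroDivisors.ne_zero a.2, ?_⟩
    rw [LinearMap.mem_ker, map_smul]
    apply Subtype.ext
    exact ha
  have hfac := all n (LinearMap.ker π) hK htors
  let e := π.quotKerEquivOfSurjective hπ
  have hfac' : Fac (LinearMap.id : Submodule.torsion R M →ₗ[R] Submodule.torsion R M) := by
    have := hfac.comp e.symm.toLinearMap e.toLinearMap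
    convert this using 1
    ext x
    simp
  obtain ⟨ι, _, f, hf, α, β, hβα⟩ := hfac'
  let e' := Fintype.equivFin ι
  let Φ : ((i : ι) → R ⧸ Ideal.span {f i}) ≃ₗ[R]
      ((j : Fin (Fintype.card ι)) → R ⧸ Ideal.span {f (e'.symm j)}) :=
    LinearEquiv.piCongrLeft' R (fun i => R ⧸ Ideal.span {f i}) e'
  refine ⟨Fintype.card ι, fun j => f (e'.symm j), fun j => hf _, Φ.toLinearMap ∘ₗ α,
    β ∘ₗ Φ.symm.toLinearMap, ?_⟩
  rw [← hβα]
  ext x
  simp

end Assemble

-- MAIN
/-- Over a Bézout domain R, a finitely presented module M splits as R^r ⊕ M_tors for some r, and its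
torsion part M_tors is a retract (direct summand) of R/f_1R ⊕ … ⊕ R/f_nR for some nonzero f_1, …,
f_n. -/
theorem result (R : Type u) [CommRing R] [IsDomain R] [IsBezout R]
    (M : Type u) [AddCommGroup M] [Module R M] [Module.FinitePresentation R M] :
    (∃ r : ℕ, Nonempty (M ≃ₗ[R] ((Fin r → R) × Submodule.torsion R M))) ∧
      ∃ (n : ℕ) (f : Fin n → R), (∀ j, f j ≠ 0) ∧
        ∃ (i : Submodule.torsion R M →ₗ[R] ((j : Fin n) → R ⧸ Ideal.span {f j}))
          (p : ((j : Fin n) → R ⧸ Ideal.span {f j}) →ₗ[R] Submodule.torsion R M),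
          p ∘ₗ i = LinearMap.id := by
  exact ⟨part1 M, part2 M⟩

end Groth.Agent.S7121
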