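import Groth.Statements.S7122
import Groth.Agent.S7120
import Mathlib

set_option autoImplicit false
universe u
open CAlg

namespace Groth.Agent.S7122

/-- Let R be a Bézout domain, n ≥ 1, and f_1, ..., f_n elements generating the unit ideal. Then some
invertible n × n matrix over R has (f_1, ..., f_n) as its first row. -/
theorem result (R : Type u) [CommRing R] [IsDomain R] [IsBezout R]
    (n : ℕ) (f : Fin (n + 1) → R) (hf : Ideal.span (Set.range f) = ⊤) :
    ∃ A : Matrix (Fin (n + 1)) (Fin (n + 1)) R, IsUnit A.det ∧ A 0 = f := by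
  classical
  -- the linear form
  let ℓ : (Fin (n + 1) → R) →ₗ[R] R := Fintype.linearCombination R f
  have h1 : (1 : R) ∈ Ideal.span (Set.range f) := by rw [hf]; trivial
  obtain ⟨c, hc⟩ := (Submodule.mem_span_range_iff_exists_fun R).1 h1
  have hℓc : ℓ c = 1 := by simpa [ℓ, Fintype.linearCombination_apply] using hc
  let i : R →ₗ[R] (Fin (n + 1) → R) := LinearMap.toSpanSingleton R _ c
  have hi : ℓ ∘ₗ i = LinearMap.id := by
    ext
    simp [i, hℓc]
  let e0 : (R × LinearMap.ker ℓ) ≃ₗ[R] (Fin (n + 1) → R) := Groth.Agent.S7120.retractEquiv i ℓ hi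
  have hfinK : Module.Finite R (LinearMap.ker ℓ) :=
    Module.Finite.of_surjective (LinearMap.snd R R (LinearMap.ker ℓ) ∘ₗ e0.symm.toLinearMap)
      ((LinearMap.snd_surjective (R := R) (M := R) (M₂ := LinearMap.ker ℓ)).comp e0.symm.surjective)
  have hfreeK : Module.Free R (LinearMap.ker ℓ) :=
    (Groth.Agent.S7120.result R (Fin (n + 1) → R) (LinearMap.ker ℓ)
      (Module.Finite.iff_fg.mp hfinK)).1
  have hrank : Module.finrank R (LinearMap.ker ℓ) = n := by
    have h2 := e0.finrank_eq
    rw [Module.finrank_prod, Module.finrank_self, Module.finrank_fin_fun] at h2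
    omega
  let bK := Module.finBasisOfFinrankEq R (LinearMap.ker ℓ) hrank
  let E : (Fin (n + 1) → R) ≃ₗ[R] (Fin (n + 1) → R) :=
    e0.symm ≪≫ₗ (LinearEquiv.prodCongr (LinearEquiv.refl R R) bK.equivFun) ≪≫ₗ
      Fin.consLinearEquiv R (fun _ : Fin (n + 1) => R)
  have hE0 : ∀ x, E x 0 = ℓ x := by
    intro x
    simp [E, e0, Groth.Agent.S7120.retractEquiv]
  refine ⟨LinearMap.toMatrix' E.toLinearMap, ?_, ?_⟩
  · rw [LinearMap.det_toMatrix']
    exact LinearEquiv.isUnit_det' E
  · funext j
    rw [LinearMap.toMatrix'_apply]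
    simp only [LinearEquiv.coe_coe]
    rw [hE0]
    simp [ℓ, Fintype.linearCombination_apply, Pi.single_apply]

end Groth.Agent.S7122
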