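import Groth.Statements.S7123
import Mathlib

set_option autoImplicit false
universe u
open CAlg

namespace Groth.Agent.S7123

theorem liftQ_one {R : Type*} [CommRing R] {M : Type*} [AddCommGroup M] [Module R M]
    (I : Ideal R) (g : R →ₗ[R] M) (h : I ≤ LinearMap.ker g) :
    Submodule.liftQ I g h (1 : R ⧸ I) = g 1 :=
  Submodule.liftQ_apply I g 1

open DirectSum in
/-- For a module P over a ring R these two conditions are equivalent: (1) P is a retract (direct
summand) of a direct sum of cyclic modules R/fR, f ranging over R; (2) for every surjection of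
R-modules π : B → C whose kernel A satisfies fA = A ∩ fB for every f in R, each linear map P → C
lifts through π. -/
theorem result (R : Type u) [CommRing R] (P : Type u)
    [AddCommGroup P] [Module R P] :
    (∃ (ι : Type u) (f : ι → R) (i : P →ₗ[R] (⨁ j, R ⧸ Ideal.span {f j}))
        (p : (⨁ j, R ⧸ Ideal.span {f j}) →ₗ[R] P), p ∘ₗ i = LinearMap.id) ↔
      ∀ (B C : Type u) [AddCommGroup B] [Module R B] [AddCommGroup C] [Module R C] (π : B →ₗ[R] C),
        Function.Surjective π →
        (∀ (f : R) (b : B), π (f • b) = 0 → ∃ a : B, π a = 0 ∧ f • a = f • b) →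
        ∀ ψ : P →ₗ[R] C, ∃ φ : P →ₗ[R] B, π ∘ₗ φ = ψ := by
  classical
  constructor
  · rintro ⟨ι, f, i, p, hip⟩ B C _ _ _ _ π hπ hrd ψ
    -- images of the generators
    let c : ι → C := fun j => ψ (p (DirectSum.lof R ι (fun j => R ⧸ Ideal.span {f j}) j
      (Submodule.Quotient.mk 1)))
    have hc : ∀ j, f j • c j = 0 := by
      intro j
      simp only [c]
      rw [← map_smul, ← map_smul, ← map_smul, ← Submodule.Quotient.mk_smul]
      have : (Submodule.Quotient.mk (f j • (1 : R)) : R ⧸ Ideal.span {f j}) = 0 := by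
        rw [Submodule.Quotient.mk_eq_zero]
        simp [Ideal.mem_span_singleton]
      rw [this]
      simp
    have hb : ∀ j, ∃ b : B, π b = c j ∧ f j • b = 0 := by
      intro j
      obtain ⟨b, hb⟩ := hπ (c j)
      obtain ⟨a, ha1, ha2⟩ := hrd (f j) b (by rw [map_smul, hb, hc])
      exact ⟨b - a, by simp [hb, ha1], by rw [smul_sub, ha2, sub_self]⟩
    choose b hb1 hb2 using hb
    let Φj : ∀ j, (R ⧸ Ideal.span {f j}) →ₗ[R] B := fun j =>
      Submodule.liftQ (Ideal.span {f j}) (LinearMap.toSpanSingleton R B (b j)) (by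
        rw [Ideal.span_le]
        intro x hx
        rw [Set.mem_singleton_iff] at hx
        subst hx
        simp [hb2 j])
    let Φ : (⨁ j, R ⧸ Ideal.span {f j}) →ₗ[R] B := DirectSum.toModule R ι B Φj
    refine ⟨Φ ∘ₗ i, ?_⟩
    have h1 : π ∘ₗ Φ = ψ ∘ₗ p := by
      apply DirectSum.linearMap_ext
      intro j
      apply Submodule.linearMap_qext
      apply LinearMap.ext_ring
      simp [Φ, Φj, hb1 j, c, liftQ_one]
    rw [← LinearMap.comp_assoc, h1, LinearMap.comp_assoc, hip, LinearMap.comp_id]
  · intro H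
    let ι : Type u := {x : R × P // x.1 • x.2 = 0}
    let f : ι → R := fun j => j.1.1
    let πj : ∀ j : ι, (R ⧸ Ideal.span {f j}) →ₗ[R] P := fun j =>
      Submodule.liftQ (Ideal.span {f j}) (LinearMap.toSpanSingleton R P j.1.2) (by
        rw [Ideal.span_le]
        intro x hx
        rw [Set.mem_singleton_iff] at hx
        subst hx
        simpa [f] using j.2)
    let π : (⨁ j, R ⧸ Ideal.span {f j}) →ₗ[R] P := DirectSum.toModule R ι P πj
    let gen : ι → (⨁ j, R ⧸ Ideal.span {f j}) := fun j =>
      DirectSum.lof R ι (fun j => R ⧸ Ideal.span {f j}) j (Submodule.Quotient.mk 1)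
    have hgen : ∀ j, π (gen j) = j.1.2 := by
      intro j
      simp [π, πj, gen, liftQ_one]
    have hfgen : ∀ j, f j • gen j = 0 := by
      intro j
      simp only [gen]
      rw [← map_smul, ← Submodule.Quotient.mk_smul]
      have : (Submodule.Quotient.mk (f j • (1 : R)) : R ⧸ Ideal.span {f j}) = 0 := by
        rw [Submodule.Quotient.mk_eq_zero]
        simp [Ideal.mem_span_singleton]
      rw [this]
      simp
    have hsurj : Function.Surjective π := by
      intro x
      exact ⟨gen ⟨(0, x), by simp⟩, by rw [hgen]⟩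
    have hrd : ∀ (r : R) (b : ⨁ j, R ⧸ Ideal.span {f j}), π (r • b) = 0 →
        ∃ a, π a = 0 ∧ r • a = r • b := by
      intro r b hrb
      have hy : r • π b = 0 := by rw [← map_smul]; exact hrb
      let j1 : ι := ⟨(r, π b), hy⟩
      refine ⟨b - gen j1, by rw [map_sub, hgen]; exact sub_self _, ?_⟩
      rw [smul_sub]
      have : r • gen j1 = 0 := hfgen j1
      rw [this, sub_zero]
    obtain ⟨φ, hφ⟩ := H _ P π hsurj hrd LinearMap.id
    exact ⟨ι, f, φ, π, hφ⟩

end Groth.Agent.S7123
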