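import Groth.Statements.S7124
import Mathlib
-- import your own Groth.Agent.* helpers here

set_option autoImplicit false
universe u
open CAlg

namespace Groth.Agent.S7124

open IsLocalRing

section ultrametric

variable {L Γ : Type*} [Field L] [LinearOrderedCommGroupWithZero Γ] (v : Valuation L Γ)

theorem v_sum_eq_sup {ι : Type*} [DecidableEq ι] (x : ι → L) (s : Finset ι)
    (hne : ∀ j ∈ s, x j ≠ 0)
    (hd : ∀ j ∈ s, ∀ j' ∈ s, j ≠ j' → v (x j) ≠ v (x j')) :
    v (∑ j ∈ s, x j) = s.sup (fun j => v (x j)) := by
  induction s using Finset.induction_on with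
  | empty => simp only [Finset.sum_empty, map_zero, Finset.sup_empty, bot_eq_zero]
  | insert a s ha ih =>
    rw [Finset.sum_insert ha, Finset.sup_insert]
    have ih' := ih (fun j hj => hne j (Finset.mem_insert_of_mem hj))
      (fun j hj j' hj' => hd j (Finset.mem_insert_of_mem hj) j' (Finset.mem_insert_of_mem hj'))
    have hneq : v (x a) ≠ v (∑ j ∈ s, x j) := by
      rw [ih']
      rcases s.eq_empty_or_nonempty with rfl | hs
      · simp only [Finset.sup_empty, bot_eq_zero]
        exact (v.ne_zero_iff.mpr (hne a (Finset.mem_insert_self _ _)))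
      · obtain ⟨j, hj, hjs⟩ := Finset.exists_mem_eq_sup s hs (fun j => v (x j))
        rw [hjs]
        exact hd a (Finset.mem_insert_self _ _) j (Finset.mem_insert_of_mem hj)
          (by rintro rfl; exact ha hj)
    rw [Valuation.map_add_of_distinct_val v hneq, ih']

end ultrametric

section

variable (A B K L : Type u) [CommRing A] [IsDomain A]
    [ValuationRing A] [CommRing B] [IsDomain B] [ValuationRing B] [Field K] [Field L]
    [Algebra A K] [IsFractionRing A K] [Algebra B L] [IsFractionRing B L] [Algebra A B] [Algebra K L]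
    [Algebra A L] [IsScalarTower A K L] [IsScalarTower A B L]
    [IsLocalHom (algebraMap A B)]

theorem integersB : (ValuationRing.valuation B L).Integers B :=
  ⟨IsFractionRing.injective B L, fun b => (ValuationRing.mem_integer_iff B L _).mpr ⟨b, rfl⟩,
    fun {x} hx => (ValuationRing.mem_integer_iff B L x).mp hx⟩

/-- (F1) a nontrivial `K`-combination of elements of `B` with independent residues has the
valuation of an element of `K`. -/
theorem F1 {ι : Type*} [Fintype ι] (b : ι → B)
    (hb : LinearIndependent (ResidueField A) (fun i => residue B (b i)))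
    (a : ι → K) (ha : ∃ i, a i ≠ 0) :
    ∃ c : K, c ≠ 0 ∧ ValuationRing.valuation B L (∑ i, a i • algebraMap B L (b i)) =
      ValuationRing.valuation B L (algebraMap K L c) := by
  classical
  set vA := ValuationRing.valuation A K with hvA
  obtain ⟨i₁, hi₁⟩ := ha
  obtain ⟨i₀, -, hmax⟩ := Finset.exists_max_image Finset.univ (fun i => vA (a i))
    ⟨i₁, Finset.mem_univ _⟩
  have h0 : a i₀ ≠ 0 := by
    intro h
    have := hmax i₁ (Finset.mem_univ _)
    simp only [h, map_zero] at this
    exact hi₁ (vA.zero_iff.mp (le_zero_iff.mp this))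
  have hint : ∀ i, ∃ α : A, algebraMap A K α = a i / a i₀ := by
    intro i
    apply (ValuationRing.mem_integer_iff A K _).mp
    show vA (a i / a i₀) ≤ 1
    rw [map_div₀]
    exact div_le_one_of_le₀ (hmax i (Finset.mem_univ _)) zero_le
  choose α hα using hint
  have hα0 : α i₀ = 1 := by
    apply IsFractionRing.injective A K; rw [hα, div_self h0, map_one]
  let β : B := ∑ i, algebraMap A B (α i) * b i
  have hβ : IsUnit β := by
    by_contra hnu
    have h1 : residue B β = 0 := (residue_eq_zero_iff _).mpr ((mem_maximalIdeal _).mpr hnu)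
    have h' : ∑ i, residue A (α i) • residue B (b i) = 0 := by
      rw [← h1]
      simp only [β, map_sum, map_mul, Algebra.smul_def, ResidueField.algebraMap_residue]
    have := Fintype.linearIndependent_iff.mp hb _ h' i₀
    rw [hα0, map_one] at this
    exact one_ne_zero this
  have hsum : ∑ i, a i • algebraMap B L (b i) = algebraMap K L (a i₀) * algebraMap B L β := by
    simp only [β, map_sum, map_mul, Finset.mul_sum]
    refine Finset.sum_congr rfl fun i _ => ?_
    rw [← IsScalarTower.algebraMap_apply A B L, IsScalarTower.algebraMap_apply A K L, hα,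
      Algebra.smul_def, map_div₀]
    have : algebraMap K L (a i₀) ≠ 0 := by rw [Ne, map_eq_zero]; exact h0
    field_simp
  refine ⟨a i₀, h0, ?_⟩
  rw [hsum, map_mul, (integersB B L).one_of_isUnit hβ, mul_one]

theorem main [FiniteDimensional K L] {ι : Type*} [Fintype ι] (b : ι → B)
    (hb : LinearIndependent (ResidueField A) (fun i => residue B (b i)))
    {ι' : Type*} [Fintype ι'] (γ : ι' → L) (hγ0 : ∀ j, γ j ≠ 0)
    (hγ : ∀ j j', j ≠ j' → ∀ c c' : K, c ≠ 0 → c' ≠ 0 →
      ValuationRing.valuation B L (algebraMap K L c) * ValuationRing.valuation B L (γ j) ≠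
        ValuationRing.valuation B L (algebraMap K L c') * ValuationRing.valuation B L (γ j')) :
    Fintype.card ι * Fintype.card ι' ≤ Module.finrank K L := by
  classical
  set vB := ValuationRing.valuation B L with hvB
  have hli : LinearIndependent K (fun p : ι × ι' => algebraMap B L (b p.1) * γ p.2) := by
    rw [Fintype.linearIndependent_iff]
    intro g hg
    by_contra hcon
    push Not at hcon
    obtain ⟨⟨i₁, j₁⟩, hp₁⟩ := hcon
    let w : ι' → L := fun j => ∑ i, g (i, j) • algebraMap B L (b i)
    let s : Finset ι' := Finset.univ.filter fun j => ∃ i, g (i, j) ≠ 0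
    have hj₁ : j₁ ∈ s := by
      simp only [s, Finset.mem_filter, Finset.mem_univ, true_and]; exact ⟨i₁, hp₁⟩
    have hw : ∀ j ∈ s, ∃ c : K, c ≠ 0 ∧ vB (w j) = vB (algebraMap K L c) := by
      intro j hj
      simp only [s, Finset.mem_filter, Finset.mem_univ, true_and] at hj
      exact F1 A B K L b hb (fun i => g (i, j)) hj
    have hw0 : ∀ j, j ∉ s → w j = 0 := by
      intro j hj
      simp only [s, Finset.mem_filter, Finset.mem_univ, true_and, not_exists, not_not] at hj
      simp only [w, hj, zero_smul, Finset.sum_const_zero]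
    have hsum : ∑ j ∈ s, w j * γ j = 0 := by
      rw [Finset.sum_subset (Finset.subset_univ s) (fun j _ hj => by rw [hw0 j hj, zero_mul]),
        ← hg, Fintype.sum_prod_type_right]
      refine Finset.sum_congr rfl fun j _ => ?_
      simp only [w, Finset.sum_mul]
      refine Finset.sum_congr rfl fun i _ => ?_
      rw [smul_mul_assoc]
    have hne : ∀ j ∈ s, w j * γ j ≠ 0 := by
      intro j hj
      obtain ⟨c, hc, hwc⟩ := hw j hj
      have : vB (w j) ≠ 0 := by
        rw [hwc, vB.ne_zero_iff, Ne, map_eq_zero]; exact hc
      exact mul_ne_zero (vB.ne_zero_iff.mp this) (hγ0 j)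
    have hd : ∀ j ∈ s, ∀ j' ∈ s, j ≠ j' → vB (w j * γ j) ≠ vB (w j' * γ j') := by
      intro j hj j' hj' hjj'
      obtain ⟨c, hc, hwc⟩ := hw j hj
      obtain ⟨c', hc', hwc'⟩ := hw j' hj'
      rw [map_mul, map_mul, hwc, hwc']
      exact hγ j j' hjj' c c' hc hc'
    have := v_sum_eq_sup vB (fun j => w j * γ j) s hne hd
    rw [hsum, map_zero] at this
    have h2 : vB (w j₁ * γ j₁) ≤ s.sup (fun j => vB (w j * γ j)) :=
      Finset.le_sup (f := fun j => vB (w j * γ j)) hj₁
    rw [← this] at h2
    exact hne j₁ hj₁ (vB.zero_iff.mp (le_zero_iff.mp h2))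
  have := hli.fintype_card_le_finrank
  simpa using this

end

/-- Let A ⊆ B be an extension of valuation rings (both valuation domains, the inclusion injective and
local) with fraction fields K ⊆ L such that L/K is finite. Then the residue field of B is finite
over that of A, the value group of A has finite index in the value group of B, and (index of value
groups) · (residue degree) ≤ [L : K]. Here the value group of B is written as Lˣ modulo the units of
B, and that of A as the image of Kˣ in it. -/
theorem result (A B K L : Type u) [CommRing A] [IsDomain A]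
    [ValuationRing A] [CommRing B] [IsDomain B] [ValuationRing B] [Field K] [Field L]
    [Algebra A K] [IsFractionRing A K] [Algebra B L] [IsFractionRing B L] [Algebra A B] [Algebra K L]
    [Algebra A L] [IsScalarTower A K L] [IsScalarTower A B L] (hinj : Function.Injective (algebraMap A B))
    [IsLocalHom (algebraMap A B)] [FiniteDimensional K L] :
    let UB : Subgroup Lˣ := (Units.map (algebraMap B L).toMonoidHom).range
    let ΓA : Subgroup (Lˣ ⧸ UB) := ((QuotientGroup.mk' UB).comp (Units.map (algebraMap K L).toMonoidHom)).range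
    Module.Finite (IsLocalRing.ResidueField A) (IsLocalRing.ResidueField B) ∧ ΓA.index ≠ 0 ∧
      ΓA.index * Module.finrank (IsLocalRing.ResidueField A) (IsLocalRing.ResidueField B) ≤
        Module.finrank K L := by
  classical
  intro UB ΓA
  set vB := ValuationRing.valuation B L with hvB
  -- elements of valuation one are units of B
  have hUB : ∀ x : Lˣ, vB (x : L) = 1 → x ∈ UB := by
    intro x hx
    obtain ⟨β, hβ⟩ := (integersB B L).exists_of_le_one (le_of_eq hx)
    have hu : IsUnit β := (integersB B L).isUnit_of_one' (by rw [hβ]; exact hx)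
    refine ⟨hu.unit, ?_⟩
    ext
    simpa using hβ
  -- core: families of independent residues and distinct cosets
  have core : ∀ {ι : Type u} [Fintype ι] (b : ι → B)
      (_ : LinearIndependent (ResidueField A) (fun i => residue B (b i)))
      {ι' : Type u} [Fintype ι'] (q : ι' → (Lˣ ⧸ UB) ⧸ ΓA) (_ : Function.Injective q),
      Fintype.card ι * Fintype.card ι' ≤ Module.finrank K L := by
    intro ι _ b hb ι' _ q hq
    have hsurj : ∀ j, ∃ y : Lˣ, ((y : Lˣ ⧸ UB) : (Lˣ ⧸ UB) ⧸ ΓA) = q j := by
      intro j
      obtain ⟨z, hz⟩ := QuotientGroup.mk_surjective (q j)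
      obtain ⟨y, hy⟩ := QuotientGroup.mk_surjective z
      exact ⟨y, by rw [hy, hz]⟩
    choose γ hγ using hsurj
    refine main A B K L b hb (fun j => (γ j : L)) (fun j => (γ j).ne_zero) ?_
    intro j j' hjj' c c' hc hc' heq
    apply hjj'
    apply hq
    rw [← hγ, ← hγ, QuotientGroup.eq]
    -- (γ j)⁻¹ * γ j' ∈ ΓA : it is the class of c / c'
    refine ⟨Units.mk0 (c / c') (div_ne_zero hc hc'), ?_⟩
    simp only [MonoidHom.coe_comp, QuotientGroup.coe_mk', Function.comp_apply]
    rw [← QuotientGroup.mk_inv, ← QuotientGroup.mk_mul, QuotientGroup.eq]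
    apply hUB
    simp only [Units.val_mul, Units.val_inv_eq_inv_val, Units.coe_map, Units.val_mk0,
      RingHom.toMonoidHom_eq_coe, MonoidHom.coe_coe, map_mul, map_inv₀, map_div₀]
    have h1 : vB (algebraMap K L c) ≠ 0 := by rw [vB.ne_zero_iff, Ne, map_eq_zero]; exact hc
    have h2 : vB (algebraMap K L c') ≠ 0 := by rw [vB.ne_zero_iff, Ne, map_eq_zero]; exact hc'
    have h3 : vB (γ j : L) ≠ 0 := by rw [vB.ne_zero_iff]; exact (γ j).ne_zero
    have h4 : vB (γ j' : L) ≠ 0 := by rw [vB.ne_zero_iff]; exact (γ j').ne_zero
    field_simp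
    first
      | exact heq.symm
      | exact (mul_comm (vB (γ j' : L)) (vB (algebraMap K L c'))).trans heq.symm
  -- (i) finiteness of the residue field extension
  have hrank : Module.rank (ResidueField A) (ResidueField B) ≤ (Module.finrank K L : ℕ) := by
    apply rank_le
    intro s hs
    have hsurj : ∀ x : s, ∃ y : B, residue B y = (x : ResidueField B) :=
      fun x => residue_surjective _
    choose b hb using hsurj
    have hb' : LinearIndependent (ResidueField A) (fun i => residue B (b i)) := by
      convert hs using 2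
      exact hb _
    have := core b hb' (fun _ : PUnit.{u+1} => (((1 : Lˣ ⧸ UB)) : (Lˣ ⧸ UB) ⧸ ΓA)) (fun _ _ _ => rfl)
    simpa using this
  have hfin : Module.Finite (ResidueField A) (ResidueField B) := by
    rw [← Module.rank_lt_aleph0_iff]
    exact lt_of_le_of_lt hrank Cardinal.natCast_lt_aleph0
  -- (ii) finiteness of the index
  have hone : LinearIndependent (ResidueField A) (fun _ : PUnit.{u+1} => residue B (1 : B)) := by
    rw [map_one]
    exact LinearIndependent.of_subsingleton PUnit.unit one_ne_zero
  have hfinq : Finite ((Lˣ ⧸ UB) ⧸ ΓA) := by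
    by_contra hinf
    rw [not_finite_iff_infinite] at hinf
    let emb := Infinite.natEmbedding ((Lˣ ⧸ UB) ⧸ ΓA)
    have := core (fun _ : PUnit.{u+1} => (1 : B)) hone
      (fun k : ULift.{u} (Fin (Module.finrank K L + 1)) => emb (k.down : ℕ))
      (fun k k' h => by
        have := emb.injective h
        exact ULift.ext _ _ (Fin.ext this))
    simp at this
  refine ⟨hfin, Subgroup.index_ne_zero_of_finite, ?_⟩
  -- (iii)
  let _ : Fintype ((Lˣ ⧸ UB) ⧸ ΓA) := Fintype.ofFinite _
  rw [Subgroup.index_eq_card, Nat.card_eq_fintype_card]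
  let bas := Module.finBasis (ResidueField A) (ResidueField B)
  have hsurj : ∀ i, ∃ y : B, residue B y = bas i := fun i => residue_surjective _
  choose b hb using hsurj
  have hb' : LinearIndependent (ResidueField A)
      (fun i : ULift.{u} (Fin _) => residue B (b i.down)) := by
    have := bas.linearIndependent.comp (fun i : ULift.{u} (Fin _) => i.down) ULift.down_injective
    convert this using 2
    exact hb _
  have := core (fun i : ULift.{u} (Fin _) => b i.down) hb' (fun q : (Lˣ ⧸ UB) ⧸ ΓA => q)
    Function.injective_id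
  rw [Fintype.card_ulift, Fintype.card_fin] at this
  rw [mul_comm]
  exact this

end Groth.Agent.S7124
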