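import Groth.Statements.S7125
import Groth.Agent.H23.NagataAU
import Mathlib.RingTheory.Flat.EquationalCriterion
import Mathlib.RingTheory.DiscreteValuationRing.TFAE
import Mathlib.RingTheory.Flat.FaithfullyFlat.Algebra
import Mathlib.RingTheory.Ideal.AssociatedPrime.Finiteness

set_option autoImplicit false
universe u
open CAlg

namespace Groth.Agent.S7125

section Aux
open IsLocalRing

theorem flat_system {A B : Type u} [CommRing A] [CommRing B] [Algebra A B] [Module.Flat A B]
    {ι : Type u} [Finite ι] (s T : ι → A) (b : B) (b' : ι → B)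
    (hb : ∀ i, s i • b = T i • b' i) :
    ∃ (k : ℕ) (a : Fin k → A) (y : Fin k → B), b = ∑ j, a j • y j ∧
      ∀ j i, ∃ a' : A, s i * a j = T i * a' := by
  classical
  haveI := Fintype.ofFinite ι
  let fK : (ι →₀ A) →ₗ[A] (Option ι →₀ A) :=
    Finsupp.linearCombination A
      (fun i => s i • Finsupp.single none (1 : A) - T i • Finsupp.single (some i) (1 : A))
  let x : (Option ι →₀ A) →ₗ[A] B :=
    Finsupp.linearCombination A (fun o : Option ι => o.elim b b')
  have h : x ∘ₗ fK = 0 := by
    apply Finsupp.lhom_ext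
    intro i r
    simp only [LinearMap.comp_apply, LinearMap.zero_apply, fK, x]
    rw [Finsupp.linearCombination_single, map_smul, map_sub, map_smul, map_smul,
      Finsupp.linearCombination_single, Finsupp.linearCombination_single]
    simp only [Option.elim, one_smul]
    rw [hb i, sub_self, smul_zero]
  obtain ⟨k, a, y, hxy, haf⟩ := Module.Flat.exists_factorization_of_comp_eq_zero_of_free h
  have hb0 : b = x (Finsupp.single none 1) := by
    simp only [x]
    rw [Finsupp.linearCombination_single, one_smul]
    rfl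
  refine ⟨k, fun j => a (Finsupp.single none 1) j, fun j => y (Finsupp.single j 1), ?_, ?_⟩
  · rw [hb0, hxy, LinearMap.comp_apply]
    conv_lhs => rw [← Finsupp.univ_sum_single (a (Finsupp.single none 1))]
    rw [map_sum]
    refine Finset.sum_congr rfl fun j _ => ?_
    rw [← map_smul, Finsupp.smul_single, smul_eq_mul, mul_one]
  · intro j i
    have h1 := LinearMap.congr_fun haf (Finsupp.single i 1)
    simp only [LinearMap.comp_apply, LinearMap.zero_apply, fK] at h1
    rw [Finsupp.linearCombination_single, one_smul, map_sub, map_smul, map_smul, sub_eq_zero] at h1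
    have h2 := DFunLike.congr_fun h1 j
    simp only [Finsupp.smul_apply, smul_eq_mul] at h2
    exact ⟨a (Finsupp.single (some i) 1) j, h2⟩

theorem prime_data (A B : Type u) [CommRing A] [IsDomain A] [IsNoetherianRing A]
    [IsIntegrallyClosed A] [CommRing B] [IsDomain B] [IsNoetherianRing B] [Algebra A B]
    (hinj : Function.Injective (algebraMap A B))
    (f : A) (hf0 : f ≠ 0) (h : B) (n : ℕ) (hn : 0 < n) (w : Bˣ)
    (hf : algebraMap A B f = (w : B) * h ^ n)
    (p : Ideal A) [p.IsPrime] (hp : p ∈ associatedPrimes A (A ⧸ Ideal.span {f}))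
    (hram : p.height = 1 → ∃ (q : Ideal B) (_ : q.IsPrime), q.height = 1 ∧
        q.comap (algebraMap A B) = p ∧
        Ideal.map (algebraMap B (Localization.AtPrime q)) (Ideal.map (algebraMap A B) p) =
          IsLocalRing.maximalIdeal (Localization.AtPrime q)) :
    ∃ (t s c : A) (e : ℕ), s ∉ p ∧ c ∉ p ∧ s * f = c * t ^ (n * e) := by
  haveI hdvr := Groth.Agent.H23.NagataAU.dvr_of_ass A f hf0 p hp
  have hht : p.height = 1 := by
    have h1 := IsLocalization.AtPrime.ringKrullDim_eq_height p (Localization.AtPrime p)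
    rw [IsDiscreteValuationRing.ringKrullDim_eq_one] at h1
    exact_mod_cast h1.symm
  obtain ⟨q, hq, -, hqp, hmax⟩ := hram hht
  haveI := hq
  have hinjA : Function.Injective (algebraMap A (Localization.AtPrime p)) :=
    IsLocalization.injective (Localization.AtPrime p) p.primeCompl_le_nonZeroDivisors
  have hinjB : Function.Injective (algebraMap B (Localization.AtPrime q)) :=
    IsLocalization.injective (Localization.AtPrime q) q.primeCompl_le_nonZeroDivisors
  obtain ⟨ϖ, hϖ⟩ := IsDiscreteValuationRing.exists_irreducible (Localization.AtPrime p)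
  obtain ⟨⟨t, s'⟩, hts⟩ := IsLocalization.surj p.primeCompl ϖ
  have hs'u : IsUnit (algebraMap A (Localization.AtPrime p) s') :=
    IsLocalization.map_units (Localization.AtPrime p) s'
  have htirr : Irreducible (algebraMap A (Localization.AtPrime p) t) := by
    have : algebraMap A (Localization.AtPrime p) t =
        ϖ * algebraMap A (Localization.AtPrime p) s' := hts.symm
    rw [this]
    exact (irreducible_mul_isUnit hs'u).mpr hϖ
  have htp : t ∈ p := by
    by_contra htp
    exact htirr.not_isUnit
      ((IsLocalization.AtPrime.isUnit_to_map_iff (Localization.AtPrime p) p t).mpr htp)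
  have hf0' : algebraMap A (Localization.AtPrime p) f ≠ 0 :=
    fun h0 => hf0 (hinjA (by rw [h0, map_zero]))
  obtain ⟨m, u, hu⟩ := IsDiscreteValuationRing.eq_unit_mul_pow_irreducible hf0' htirr
  obtain ⟨⟨c, s⟩, hcs⟩ := IsLocalization.surj p.primeCompl (u : Localization.AtPrime p)
  have hcs' : (u : Localization.AtPrime p) * algebraMap A (Localization.AtPrime p) s =
      algebraMap A (Localization.AtPrime p) c := hcs
  have hcu : IsUnit (algebraMap A (Localization.AtPrime p) c) := by
    rw [← hcs']
    exact u.isUnit.mul (IsLocalization.map_units (Localization.AtPrime p) s)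
  have hcp : c ∉ p :=
    (IsLocalization.AtPrime.isUnit_to_map_iff (Localization.AtPrime p) p c).mp hcu
  have heq : (s : A) * f = c * t ^ m := by
    apply hinjA
    rw [map_mul, map_mul, map_pow, hu, ← hcs']
    ring
  -- the ring map to B_q
  let φ : A →+* Localization.AtPrime q := (algebraMap B (Localization.AtPrime q)).comp (algebraMap A B)
  have hφinj : Function.Injective φ := hinjB.comp hinj
  have hunit : ∀ a : A, a ∉ p → IsUnit (φ a) := by
    intro a ha
    apply (IsLocalization.AtPrime.isUnit_to_map_iff (Localization.AtPrime q) q _).mpr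
    intro hmem
    apply ha
    rw [← hqp]
    exact hmem
  have hmaxeq : maximalIdeal (Localization.AtPrime q) = Ideal.span {φ t} := by
    apply le_antisymm
    · rw [← hmax, Ideal.map_map, Ideal.map_le_iff_le_comap]
      intro x hx
      have hx1 : algebraMap A (Localization.AtPrime p) x ∈ maximalIdeal (Localization.AtPrime p) := by
        rw [← IsLocalization.AtPrime.map_eq_maximalIdeal p (Localization.AtPrime p)]
        exact Ideal.mem_map_of_mem _ hx
      rw [(IsDiscreteValuationRing.irreducible_iff_uniformizer _).mp htirr,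
        Ideal.mem_span_singleton'] at hx1
      obtain ⟨z, hz⟩ := hx1
      obtain ⟨⟨a', s''⟩, has⟩ := IsLocalization.surj p.primeCompl z
      have has' : z * algebraMap A (Localization.AtPrime p) s'' =
          algebraMap A (Localization.AtPrime p) a' := has
      have hkey : (s'' : A) * x = a' * t := by
        apply hinjA
        rw [map_mul, map_mul, ← hz, ← has']
        ring
      rw [Ideal.mem_comap, Ideal.mem_span_singleton']
      obtain ⟨v, hv⟩ := (hunit s'' s''.2).exists_left_inv
      refine ⟨v * φ a', ?_⟩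
      have e1 : φ a' * φ t = φ s'' * φ x := by rw [← map_mul, ← map_mul, hkey]
      show v * φ a' * φ t = φ x
      calc v * φ a' * φ t = v * (φ a' * φ t) := by ring
        _ = (v * φ s'') * φ x := by rw [e1]; ring
        _ = φ x := by rw [hv, one_mul]
    · rw [Ideal.span_singleton_le_iff_mem, ← hmax, Ideal.map_map]
      exact Ideal.mem_map_of_mem _ htp
  have ht0 : t ≠ 0 := by
    rintro rfl
    rw [map_zero] at htirr
    exact not_irreducible_zero htirr
  have hτ0 : φ t ≠ 0 := fun h0 => ht0 (hφinj (h0.trans (map_zero φ).symm))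
  have hnf : ¬ IsField (Localization.AtPrime q) := by
    intro hF
    have h1 : maximalIdeal (Localization.AtPrime q) = ⊥ :=
      IsLocalRing.isField_iff_maximalIdeal_eq.mp hF
    rw [hmaxeq, Ideal.span_singleton_eq_bot] at h1
    exact hτ0 h1
  haveI : IsDiscreteValuationRing (Localization.AtPrime q) :=
    ((IsDiscreteValuationRing.TFAE (Localization.AtPrime q) hnf).out 0 4).mpr
      (show (maximalIdeal (Localization.AtPrime q)).IsPrincipal from ⟨⟨φ t, hmaxeq⟩⟩)
  have hτirr : Irreducible (φ t) :=
    (IsDiscreteValuationRing.irreducible_iff_uniformizer _).mpr hmaxeq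
  have hh0 : h ≠ 0 := by
    rintro rfl
    rw [zero_pow hn.ne', mul_zero] at hf
    exact hf0 (hinj (hf.trans (map_zero _).symm))
  have hhq : algebraMap B (Localization.AtPrime q) h ≠ 0 :=
    fun h0 => hh0 (hinjB (by rw [h0, map_zero]))
  obtain ⟨k, v, hv⟩ := IsDiscreteValuationRing.eq_unit_mul_pow_irreducible hhq hτirr
  obtain ⟨us, hus⟩ := hunit s s.2
  obtain ⟨uc, huc⟩ := hunit c hcp
  obtain ⟨uw, huw⟩ := (w.isUnit.map (algebraMap B (Localization.AtPrime q)))
  have key : ((us * uw * v ^ n : (Localization.AtPrime q)ˣ) : Localization.AtPrime q) *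
      (φ t) ^ (n * k) = (uc : Localization.AtPrime q) * (φ t) ^ m := by
    have e1 : φ (s * f) = φ (c * t ^ m) := by rw [heq]
    rw [map_mul, map_mul, map_pow] at e1
    have e2 : φ f = algebraMap B (Localization.AtPrime q) w *
        (algebraMap B (Localization.AtPrime q) h) ^ n := by
      show algebraMap B (Localization.AtPrime q) (algebraMap A B f) = _
      rw [hf, map_mul, map_pow]
    rw [e2, hv] at e1
    rw [Units.val_mul, Units.val_mul, Units.val_pow_eq_pow_val, hus, huw, huc, ← e1]
    ring
  have hmk := IsDiscreteValuationRing.unit_mul_pow_congr_pow hτirr hτirr _ _ _ _ key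
  refine ⟨t, s, c, k, s.2, hcp, ?_⟩
  rw [hmk]
  exact heq

end Aux

/-- Let A and B be Noetherian local normal domains and A → B a flat homomorphism that is local, and let
f in A, h in B, n > 1 and a unit w of B satisfy f = w·hⁿ in B. Assume that for every height-one
prime p of A there is a height-one prime q of B lying over p such that A_p ⊆ B_q is weakly
unramified, i.e. p generates the maximal ideal of B_q. Then f = u·gⁿ for some g in A and some unit u
of A. -/
theorem result (A B : Type u) [CommRing A] [IsDomain A]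
    [IsNoetherianRing A] [IsLocalRing A] [IsIntegrallyClosed A] [CommRing B] [IsDomain B] [IsNoetherianRing B]
    [IsLocalRing B] [IsIntegrallyClosed B] [Algebra A B] [IsLocalHom (algebraMap A B)] [Module.Flat A B]
    (f : A) (h : B) (n : ℕ) (hn : 1 < n) (w : Bˣ) (hf : algebraMap A B f = (w : B) * h ^ n)
    (hram : ∀ (p : Ideal A) [p.IsPrime], p.height = 1 →
      ∃ (q : Ideal B) (_ : q.IsPrime), q.height = 1 ∧ q.comap (algebraMap A B) = p ∧
        Ideal.map (algebraMap B (Localization.AtPrime q)) (Ideal.map (algebraMap A B) p) =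
          IsLocalRing.maximalIdeal (Localization.AtPrime q)) :
    ∃ (g : A) (u : Aˣ), f = (u : A) * g ^ n := by
  classical
  by_cases hf0 : f = 0
  · exact ⟨0, 1, by rw [hf0, zero_pow (by omega), mul_zero]⟩
  haveI : Module.FaithfullyFlat A B := Module.FaithfullyFlat.of_flat_of_isLocalHom
  have hinj : Function.Injective (algebraMap A B) := FaithfulSMul.algebraMap_injective A B
  have hn0 : 0 < n := by omega
  have hfin : (associatedPrimes A (A ⧸ Ideal.span {f})).Finite := associatedPrimes.finite A _
  haveI : Finite (associatedPrimes A (A ⧸ Ideal.span {f})) := hfin.to_subtype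
  have hdata : ∀ p : associatedPrimes A (A ⧸ Ideal.span {f}),
      ∃ (t s c : A) (e : ℕ), s ∉ p.1 ∧ c ∉ p.1 ∧ s * f = c * t ^ (n * e) := by
    intro p
    haveI : p.1.IsPrime := (p.2 : IsAssociatedPrime p.1 _).isPrime
    exact prime_data A B hinj f hf0 h n hn0 w hf p.1 p.2 (fun hh => hram p.1 hh)
  choose t s c e hs hc hsf using hdata
  have hB0 : algebraMap A B f ≠ 0 := fun h0 => hf0 (hinj (h0.trans (map_zero _).symm))
  have hh0 : h ≠ 0 := by
    rintro rfl
    rw [zero_pow hn0.ne', mul_zero] at hf
    exact hB0 hf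
  have hhL : algebraMap B (FractionRing B) h ≠ 0 := by
    intro h0
    exact hh0 (IsFractionRing.injective B (FractionRing B) (h0.trans (map_zero _).symm))
  have hhn : h ^ n = ↑w⁻¹ * algebraMap A B f := by
    rw [hf, ← mul_assoc, Units.inv_mul, one_mul]
  -- Claim 2
  have hcl2 : ∀ p : associatedPrimes A (A ⧸ Ideal.span {f}),
      ∃ b' : B, s p • h = (t p ^ e p) • b' := by
    intro p
    haveI : p.1.IsPrime := (p.2 : IsAssociatedPrime p.1 _).isPrime
    have hsf' : s p * f = c p * (t p ^ e p) ^ n := by rw [hsf p, pow_mul']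
    have hs0 : s p ≠ 0 := fun h0 => hs p (h0 ▸ p.1.zero_mem)
    have hte0 : t p ^ e p ≠ 0 := by
      intro h0
      rw [h0, zero_pow hn0.ne', mul_zero] at hsf'
      rcases mul_eq_zero.mp hsf' with h1 | h1
      · exact hs0 h1
      · exact hf0 h1
    have hteL : algebraMap B (FractionRing B) (algebraMap A B (t p ^ e p)) ≠ 0 := by
      intro h0
      exact hte0 (hinj ((IsFractionRing.injective B (FractionRing B)
        (h0.trans (map_zero _).symm)).trans (map_zero _).symm))
    have hthis : algebraMap A B (s p) * algebraMap A B f =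
        algebraMap A B (c p) * (algebraMap A B (t p ^ e p)) ^ n := by
      rw [← map_mul, hsf', map_mul, map_pow]
    have hsn : algebraMap A B (s p) ^ n =
        algebraMap A B (s p) ^ (n - 1) * algebraMap A B (s p) := by
      rw [← pow_succ]
      congr 1
      omega
    have hpowB : (algebraMap A B (s p) * h) ^ n =
        (algebraMap A B (s p) ^ (n - 1) * algebraMap A B (c p) * (↑w⁻¹ : B)) *
          (algebraMap A B (t p ^ e p)) ^ n := by
      rw [mul_pow, hhn, hsn]
      linear_combination (algebraMap A B (s p) ^ (n - 1) * ↑w⁻¹) * hthis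
    have hpow : IsIntegral B ((algebraMap B (FractionRing B) (algebraMap A B (s p) * h) /
        algebraMap B (FractionRing B) (algebraMap A B (t p ^ e p))) ^ n) := by
      have : (algebraMap B (FractionRing B) (algebraMap A B (s p) * h) /
          algebraMap B (FractionRing B) (algebraMap A B (t p ^ e p))) ^ n =
          algebraMap B (FractionRing B)
            (algebraMap A B (s p) ^ (n - 1) * algebraMap A B (c p) * (↑w⁻¹ : B)) := by
        rw [div_pow, div_eq_iff (pow_ne_zero _ hteL)]
        have h2 := congrArg (algebraMap B (FractionRing B)) hpowB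
        simp only [map_mul, map_pow] at h2 ⊢
        exact h2
      rw [this]
      exact isIntegral_algebraMap
    obtain ⟨b', hb'⟩ := IsIntegrallyClosed.exists_algebraMap_eq_of_isIntegral_pow hn0 hpow
    refine ⟨b', ?_⟩
    apply IsFractionRing.injective B (FractionRing B)
    rw [Algebra.smul_def, Algebra.smul_def, map_mul (algebraMap B (FractionRing B))
      (algebraMap A B (t p ^ e p)), hb', mul_div_cancel₀ _ hteL]
  obtain ⟨k, a, y, hsum, hcol⟩ := flat_system (fun p => s p) (fun p => t p ^ e p) h
    (fun p => (hcl2 p).choose) (fun p => (hcl2 p).choose_spec)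
  -- Claim 1
  have hcl1 : ∀ j, a j ^ n ∈ Ideal.span {f} := by
    intro j
    by_contra hnot
    have hx : (Ideal.Quotient.mk (Ideal.span {f}) (a j ^ n)) ≠ 0 := by
      rwa [Ne, Ideal.Quotient.eq_zero_iff_mem]
    obtain ⟨p, hpass, hle⟩ := exists_le_isAssociatedPrime_of_isNoetherianRing A _ hx
    obtain ⟨a', ha'⟩ := hcol j ⟨p, hpass⟩
    haveI hpp : p.IsPrime := hpass.isPrime
    have hmem : c ⟨p, hpass⟩ * s ⟨p, hpass⟩ ^ n ∈ p := by
      apply hle
      rw [Submodule.mem_colon_singleton, Submodule.mem_bot]
      have e0 : (c ⟨p, hpass⟩ * s ⟨p, hpass⟩ ^ n) • Ideal.Quotient.mk (Ideal.span {f}) (a j ^ n) =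
          Ideal.Quotient.mk (Ideal.span {f}) (c ⟨p, hpass⟩ * s ⟨p, hpass⟩ ^ n * a j ^ n) := rfl
      rw [e0, Ideal.Quotient.eq_zero_iff_mem, Ideal.mem_span_singleton']
      refine ⟨s ⟨p, hpass⟩ * a' ^ n, ?_⟩
      have h1 := hsf ⟨p, hpass⟩
      rw [pow_mul'] at h1
      calc s ⟨p, hpass⟩ * a' ^ n * f = (s ⟨p, hpass⟩ * f) * a' ^ n := by ring
        _ = c ⟨p, hpass⟩ * (t ⟨p, hpass⟩ ^ e ⟨p, hpass⟩ * a') ^ n := by rw [h1]; ring
        _ = c ⟨p, hpass⟩ * (s ⟨p, hpass⟩ * a j) ^ n := by rw [← ha']
        _ = c ⟨p, hpass⟩ * s ⟨p, hpass⟩ ^ n * a j ^ n := by ring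
    rcases Ideal.IsPrime.mem_or_mem hpp hmem with h1 | h1
    · exact hc ⟨p, hpass⟩ h1
    · exact hs ⟨p, hpass⟩ (Ideal.IsPrime.mem_of_pow_mem hpp _ h1)
  have hdiv : ∀ j, ∃ cj : B, algebraMap A B (a j) = h * cj := by
    intro j
    obtain ⟨x, hx⟩ := Ideal.mem_span_singleton'.mp (hcl1 j)
    have hpowB : (algebraMap A B (a j)) ^ n = (algebraMap A B x * w) * h ^ n := by
      rw [← map_pow, ← hx, map_mul, hf]
      ring
    have hpow : IsIntegral B ((algebraMap B (FractionRing B) (algebraMap A B (a j)) /
        algebraMap B (FractionRing B) h) ^ n) := by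
      have : (algebraMap B (FractionRing B) (algebraMap A B (a j)) /
          algebraMap B (FractionRing B) h) ^ n =
          algebraMap B (FractionRing B) (algebraMap A B x * w) := by
        rw [div_pow, div_eq_iff (pow_ne_zero _ hhL)]
        have h2 := congrArg (algebraMap B (FractionRing B)) hpowB
        simp only [map_mul, map_pow] at h2 ⊢
        exact h2
      rw [this]
      exact isIntegral_algebraMap
    obtain ⟨cj, hcj⟩ := IsIntegrallyClosed.exists_algebraMap_eq_of_isIntegral_pow hn0 hpow
    refine ⟨cj, ?_⟩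
    apply IsFractionRing.injective B (FractionRing B)
    rw [map_mul, hcj, mul_div_cancel₀ _ hhL]
  choose cc hcc using hdiv
  have hone : ∑ j, cc j * y j = 1 := by
    have h1 : h * ∑ j, cc j * y j = h * 1 := by
      rw [mul_one, Finset.mul_sum]
      conv_rhs => rw [hsum]
      refine Finset.sum_congr rfl fun j _ => ?_
      rw [Algebra.smul_def, hcc j]
      ring
    exact mul_left_cancel₀ hh0 h1
  obtain ⟨j, hj⟩ : ∃ j, IsUnit (cc j * y j) := by
    by_contra hno
    push_neg at hno
    have h1 : ∑ j, cc j * y j ∈ IsLocalRing.maximalIdeal B :=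
      Ideal.sum_mem _ (fun j _ => (IsLocalRing.mem_maximalIdeal _).mpr (hno j))
    rw [hone] at h1
    exact (IsLocalRing.mem_maximalIdeal _).mp h1 isUnit_one
  obtain ⟨cu, hcu'⟩ := isUnit_of_mul_isUnit_left hj
  have hXY : (↑(cu⁻¹ ^ n) : B) * (cu : B) ^ n = 1 := by
    rw [← Units.val_pow_eq_pow_val, ← Units.val_mul, ← mul_pow, inv_mul_cancel, one_pow,
      Units.val_one]
  have hgB : algebraMap A B (a j) = h * (cu : B) := by rw [hcc j, hcu']
  have hgf : algebraMap A B f ∈ Ideal.map (algebraMap A B) (Ideal.span {a j ^ n}) := by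
    rw [Ideal.map_span, Set.image_singleton, Ideal.mem_span_singleton']
    refine ⟨w * ↑(cu⁻¹ ^ n), ?_⟩
    rw [map_pow, hgB, hf, mul_pow]
    linear_combination (w * h ^ n) * hXY
  have hgf' : f ∈ Ideal.span {a j ^ n} := by
    rw [← Ideal.comap_map_eq_self_of_faithfullyFlat (B := B) (Ideal.span {a j ^ n})]
    exact hgf
  obtain ⟨u0, hu0⟩ := Ideal.mem_span_singleton'.mp hgf'
  have hgn0 : algebraMap A B (a j) ≠ 0 := by
    rw [hgB]
    exact mul_ne_zero hh0 cu.ne_zero
  have hu0B : algebraMap A B u0 = w * ↑(cu⁻¹ ^ n) := by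
    have e1 : algebraMap A B u0 * algebraMap A B (a j) ^ n =
        (w * ↑(cu⁻¹ ^ n)) * algebraMap A B (a j) ^ n := by
      rw [← map_pow, ← map_mul, hu0, hf, map_pow, hgB, mul_pow]
      linear_combination (-(w * h ^ n)) * hXY
    exact mul_right_cancel₀ (pow_ne_zero _ hgn0) e1
  have hu0u : IsUnit u0 := by
    apply isUnit_of_map_unit (algebraMap A B)
    rw [hu0B, ← Units.val_mul]
    exact (w * cu⁻¹ ^ n).isUnit
  obtain ⟨u, rfl⟩ := hu0u
  exact ⟨a j, u, hu0.symm⟩

end Groth.Agent.S7125
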