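import Groth.Statements.S7133
import Mathlib
-- import your own Groth.Agent.* helpers here

set_option autoImplicit false
universe u
open EtAlg

namespace Groth.Agent.S7133

open IsLocalRing

/-- For an injective local homomorphism A → B of discrete valuation rings whose fields of fractions are
K ⊆ L: if K has characteristic p > 0 and L/K is purely inseparable, then the ramification index of B
over A is a power of p. -/
theorem result (A B K L : Type u) [CommRing A] [IsDomain A]
    [IsDiscreteValuationRing A] [CommRing B] [IsDomain B] [IsDiscreteValuationRing B] [Algebra A B]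
    (hinj : Function.Injective (algebraMap A B)) [IsLocalHom (algebraMap A B)]
    [Field K] [Field L] [Algebra A K] [IsFractionRing A K] [Algebra B L] [IsFractionRing B L]
    [Algebra K L] [Algebra A L] [IsScalarTower A K L] [IsScalarTower A B L]
    (p : ℕ) (hp : p.Prime) [CharP K p] [IsPurelyInseparable K L] :
    ∃ k : ℕ, Ideal.ramificationIdx' (IsLocalRing.maximalIdeal A) (IsLocalRing.maximalIdeal B) =
      p ^ k := by
  classical
  obtain ⟨ϖ, hϖ⟩ := IsDiscreteValuationRing.exists_irreducible B
  obtain ⟨π, hπ⟩ := IsDiscreteValuationRing.exists_irreducible A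
  have hπ0 : algebraMap A B π ≠ 0 := by
    rw [Ne, map_eq_zero_iff _ hinj]; exact hπ.ne_zero
  obtain ⟨e, u, hu⟩ := IsDiscreteValuationRing.eq_unit_mul_pow_irreducible hπ0 hϖ
  have hmA : maximalIdeal A = Ideal.span {π} :=
    (IsDiscreteValuationRing.irreducible_iff_uniformizer _).mp hπ
  have hmB : maximalIdeal B = Ideal.span {ϖ} :=
    (IsDiscreteValuationRing.irreducible_iff_uniformizer _).mp hϖ
  have hmap : Ideal.map (algebraMap A B) (maximalIdeal A) = maximalIdeal B ^ e := by
    rw [hmA, Ideal.map_span, Set.image_singleton, hmB, Ideal.span_singleton_pow, hu]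
    rw [Ideal.span_singleton_eq_span_singleton]
    exact ⟨u⁻¹, by rw [mul_comm, ← mul_assoc]; simp⟩
  have hBne : maximalIdeal B ≠ ⊥ := IsDiscreteValuationRing.not_a_field B
  have hram : Ideal.ramificationIdx' (maximalIdeal A) (maximalIdeal B) = e := by
    apply Ideal.ramificationIdx'_spec
    · rw [hmap]
    · rw [hmap]
      exact not_le_of_gt (Ideal.pow_succ_lt_pow hBne e)
  rw [hram]
  -- the valuation computation
  haveI : Fact p.Prime := ⟨hp⟩
  haveI : ExpChar K p := ExpChar.prime hp
  obtain ⟨n, x, hx⟩ := IsPurelyInseparable.pow_mem K p (algebraMap B L ϖ)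
  obtain ⟨a, s, hs, hxs⟩ := IsFractionRing.div_surjective A x
  have hs0 : s ≠ 0 := nonZeroDivisors.ne_zero hs
  have hsK : algebraMap A K s ≠ 0 := by
    rw [Ne, map_eq_zero_iff _ (IsFractionRing.injective A K)]; exact hs0
  -- equation in B
  have hB : algebraMap A B a = algebraMap A B s * ϖ ^ p ^ n := by
    apply IsFractionRing.injective B L
    rw [map_mul, map_pow, ← hx, ← hxs, map_div₀, ← IsScalarTower.algebraMap_apply,
      ← IsScalarTower.algebraMap_apply, ← IsScalarTower.algebraMap_apply,
      ← IsScalarTower.algebraMap_apply]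
    have : algebraMap A L s ≠ 0 := by
      rw [IsScalarTower.algebraMap_apply A K L, Ne, map_eq_zero]; exact hsK
    field_simp
  have ha0 : a ≠ 0 := by
    rintro rfl
    rw [map_zero] at hB
    have := mul_eq_zero.mp hB.symm
    rcases this with h | h
    · exact hs0 ((map_eq_zero_iff _ hinj).mp h)
    · exact hϖ.ne_zero (pow_eq_zero_iff (pow_ne_zero _ hp.ne_zero) |>.mp h)
  obtain ⟨k₁, u₁, h₁⟩ := IsDiscreteValuationRing.eq_unit_mul_pow_irreducible ha0 hπ
  obtain ⟨k₂, u₂, h₂⟩ := IsDiscreteValuationRing.eq_unit_mul_pow_irreducible hs0 hπ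
  rw [h₁, h₂, map_mul, map_mul, map_pow, map_pow, hu, mul_pow, mul_pow, ← pow_mul, ← pow_mul] at hB
  have hB' : ((Units.map (algebraMap A B).toMonoidHom u₁ * u ^ k₁ : Bˣ) : B) * ϖ ^ (e * k₁) =
      ((Units.map (algebraMap A B).toMonoidHom u₂ * u ^ k₂ : Bˣ) : B) * ϖ ^ (e * k₂ + p ^ n) := by
    simp only [Units.val_mul, Units.coe_map, Units.val_pow_eq_pow_val, RingHom.toMonoidHom_eq_coe,
      MonoidHom.coe_coe]
    rw [pow_add]
    linear_combination hB
  have hexp := IsDiscreteValuationRing.unit_mul_pow_congr_pow hϖ hϖ _ _ _ _ hB'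
  have hdvd : e ∣ p ^ n := by
    have : e ∣ e * k₂ + p ^ n := ⟨k₁, hexp.symm⟩
    exact (Nat.dvd_add_right (Dvd.intro _ rfl)).mp this
  obtain ⟨k, _, hk⟩ := (Nat.dvd_prime_pow hp).mp hdvd
  exact ⟨k, hk⟩

end Groth.Agent.S7133
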