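import Groth.Statements.S7136
import Mathlib
-- import your own Groth.Agent.* helpers here

set_option autoImplicit false
universe u
open CAlg

namespace Groth.Agent.S7136

section general

variable {A : Type u} [CommRing A]

/-- membership in `J • ⊤` of a finite product is coordinatewise -/
theorem mem_smul_top_pi {ι : Type*} [Fintype ι] [DecidableEq ι] (J : Ideal A) {P : Type*}
    [AddCommGroup P] [Module A P] (z : ι → P) :
    z ∈ (J • ⊤ : Submodule A (ι → P)) ↔ ∀ i, z i ∈ (J • ⊤ : Submodule A P) := by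
  constructor
  · intro h i
    exact Submodule.smul_top_le_comap_smul_top J (LinearMap.proj (φ := fun _ : ι => P) i) h
  · intro h
    have hz : z = ∑ i, LinearMap.single A (fun _ : ι => P) i (z i) := by
      funext k
      simp [Finset.sum_apply, Pi.single_apply]
    rw [hz]
    refine Submodule.sum_mem _ fun i _ => ?_
    exact Submodule.smul_top_le_comap_smul_top J (LinearMap.single A (fun _ : ι => P) i) (h i)

theorem smul_quot_eq_zero (J : Ideal A) {P : Type*} [AddCommGroup P] [Module A P] (a : A)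
    (ha : a ∈ J) (w : P ⧸ (J • ⊤ : Submodule A P)) : a • w = 0 := by
  obtain ⟨v, rfl⟩ := Submodule.Quotient.mk_surjective _ w
  rw [← Submodule.Quotient.mk_smul, Submodule.Quotient.mk_eq_zero]
  exact Submodule.smul_mem_smul ha Submodule.mem_top

theorem eq_zero_of_mem_smul_top_quot (J : Ideal A) {P : Type*} [AddCommGroup P] [Module A P]
    (w : P ⧸ (J • ⊤ : Submodule A P))
    (hw : w ∈ (J • ⊤ : Submodule A (P ⧸ (J • ⊤ : Submodule A P)))) : w = 0 := by
  refine Submodule.smul_induction_on hw (fun a ha v _ => smul_quot_eq_zero J a ha v)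
    (fun x y hx hy => by rw [hx, hy, add_zero])

variable {a b : ℕ} (ρ : (Fin a → A) →ₗ[A] (Fin b → A))

/-- The map `P^b → P^a` induced by the relations. -/
noncomputable def Phi (P : Type*) [AddCommGroup P] [Module A P] : (Fin b → P) →ₗ[A] (Fin a → P) :=
  LinearMap.pi fun i => ∑ j, (ρ (fun k => if i = k then 1 else 0) j) •
    LinearMap.proj (φ := fun _ : Fin b => P) j

theorem Phi_apply {P : Type*} [AddCommGroup P] [Module A P] (y : Fin b → P) (i : Fin a) :
    Phi ρ P y i = ∑ j, ρ (fun k => if i = k then 1 else 0) j • y j := by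
  simp [Phi, LinearMap.sum_apply]

theorem Phi_natural {P P' : Type*} [AddCommGroup P] [Module A P] [AddCommGroup P'] [Module A P']
    (h : P →ₗ[A] P') (y : Fin b → P) :
    Phi ρ P' (fun j => h (y j)) = fun i => h (Phi ρ P y i) := by
  funext i
  simp [Phi_apply, map_sum]

variable {M : Type u} [AddCommGroup M] [Module A M] (π : (Fin b → A) →ₗ[A] M)

/-- The generators of `M`. -/
def mgen (j : Fin b) : M := π (fun k => if j = k then 1 else 0)

theorem pi_eq_sum (c : Fin b → A) : π c = ∑ j, c j • mgen π j :=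
  LinearMap.pi_apply_eq_sum_univ π c

theorem eval_mem_ker (hρπ : ∀ c, π (ρ c) = 0) {P : Type*} [AddCommGroup P] [Module A P]
    (φ : M →ₗ[A] P) : Phi ρ P (fun j => φ (mgen π j)) = 0 := by
  funext i
  rw [Phi_apply]
  have : ∑ j, ρ (fun k => if i = k then 1 else 0) j • φ (mgen π j) =
      φ (π (ρ (fun k => if i = k then 1 else 0))) := by
    rw [pi_eq_sum π, map_sum]
    simp only [map_smul]
  rw [this, hρπ, map_zero]
  rfl

theorem exists_factor (hπ : Function.Surjective π) (hρsurj : ∀ c, π c = 0 → ∃ c', ρ c' = c)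
    {P : Type*} [AddCommGroup P] [Module A P] (y : Fin b → P) (hy : Phi ρ P y = 0) :
    ∃ φ : M →ₗ[A] P, ∀ j, φ (mgen π j) = y j := by
  classical
  let T : (Fin b → A) →ₗ[A] P := Fintype.linearCombination A y
  have hT : ∀ c, T c = ∑ j, c j • y j := fun c => Fintype.linearCombination_apply A y c
  have hker : LinearMap.ker π ≤ LinearMap.ker T := by
    intro c hc
    obtain ⟨c', rfl⟩ := hρsurj c hc
    rw [LinearMap.mem_ker]
    have h1 : T (ρ c') = (T ∘ₗ ρ) c' := rfl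
    rw [h1, LinearMap.pi_apply_eq_sum_univ (T ∘ₗ ρ) c']
    refine Finset.sum_eq_zero fun i _ => ?_
    rw [LinearMap.comp_apply, hT, ← Phi_apply, hy, Pi.zero_apply, smul_zero]
  refine ⟨(LinearMap.ker π).liftQ T hker ∘ₗ (π.quotKerEquivOfSurjective hπ).symm.toLinearMap,
    fun j => ?_⟩
  rw [LinearMap.comp_apply, LinearEquiv.coe_coe, mgen, LinearMap.quotKerEquivOfSurjective_symm_apply,
    Submodule.liftQ_apply, hT]
  simp

theorem mem_of_gen (hπ : Function.Surjective π) {P : Type*} [AddCommGroup P] [Module A P]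
    (S : Submodule A P) (φ : M →ₗ[A] P) (h : ∀ j, φ (mgen π j) ∈ S) (m : M) : φ m ∈ S := by
  obtain ⟨c, rfl⟩ := hπ m
  rw [pi_eq_sum π c, map_sum]
  exact Submodule.sum_mem _ fun j _ => by rw [map_smul]; exact S.smul_mem _ (h j)

theorem ext_of_gen (hπ : Function.Surjective π) {P : Type*} [AddCommGroup P] [Module A P]
    (φ φ' : M →ₗ[A] P) (h : ∀ j, φ (mgen π j) = φ' (mgen π j)) : φ = φ' := by
  ext m
  have := mem_of_gen π hπ (⊥ : Submodule A P) (φ - φ') (fun j => by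
    rw [Submodule.mem_bot, LinearMap.sub_apply, h j, sub_self]) m
  rw [Submodule.mem_bot, LinearMap.sub_apply, sub_eq_zero] at this
  exact this

/-- The approximate lifting lemma. -/
theorem Lprime (hπ : Function.Surjective π) (hρπ : ∀ c, π (ρ c) = 0)
    (hρsurj : ∀ c, π c = 0 → ∃ c', ρ c' = c)
    (I : Ideal A) {N : Type u} [AddCommGroup N] [Module A N]
    (c₁ : ℕ) (h₁ : ∀ n ≥ c₁, I ^ n • ⊤ ⊓ LinearMap.range (Phi ρ N) =
      I ^ (n - c₁) • (I ^ c₁ • ⊤ ⊓ LinearMap.range (Phi ρ N)))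
    (n : ℕ) (hn : c₁ ≤ n) (ψ : M →ₗ[A] N ⧸ (I ^ n • ⊤ : Submodule A N)) :
    ∃ φ₀ : M →ₗ[A] N, ∀ x, (I ^ n • ⊤ : Submodule A N).mkQ (φ₀ x) - ψ x ∈
      (I ^ (n - c₁) • ⊤ : Submodule A (N ⧸ (I ^ n • ⊤ : Submodule A N))) := by
  classical
  have hsurj : ∀ j, ∃ v : N, (I ^ n • ⊤ : Submodule A N).mkQ v = ψ (mgen π j) :=
    fun j => Submodule.mkQ_surjective _ _
  choose y hy using hsurj
  set z := Phi ρ N y with hz
  have hz1 : z ∈ (I ^ n • ⊤ : Submodule A (Fin a → N)) := by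
    rw [mem_smul_top_pi]
    intro i
    have h2 := congrFun (Phi_natural ρ (I ^ n • ⊤ : Submodule A N).mkQ y) i
    simp only [hy] at h2
    rw [eval_mem_ker ρ π hρπ ψ] at h2
    rw [← Submodule.Quotient.mk_eq_zero, ← Submodule.mkQ_apply]
    exact h2.symm
  have hz2 : z ∈ LinearMap.range (Phi ρ N) := ⟨y, rfl⟩
  have hz3 : z ∈ I ^ (n - c₁) • (I ^ c₁ • ⊤ ⊓ LinearMap.range (Phi ρ N)) := by
    rw [← h₁ n hn]; exact ⟨hz1, hz2⟩
  have hz4 : z ∈ Submodule.map (Phi ρ N) (I ^ (n - c₁) • ⊤ : Submodule A (Fin b → N)) := by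
    rw [Submodule.map_smul'', Submodule.map_top]
    exact Submodule.smul_mono le_rfl inf_le_right hz3
  obtain ⟨y', hy', hy'z⟩ := hz4
  have hk : Phi ρ N (y - y') = 0 := by rw [map_sub, hy'z, ← hz, sub_self]
  obtain ⟨φ₀, hφ₀⟩ := exists_factor ρ π hπ hρsurj (y - y') hk
  refine ⟨φ₀, ?_⟩
  have hy'' := (mem_smul_top_pi (I ^ (n - c₁)) y').mp hy'
  intro x
  have := mem_of_gen π hπ (I ^ (n - c₁) • ⊤ : Submodule A (N ⧸ (I ^ n • ⊤ : Submodule A N)))
    ((I ^ n • ⊤ : Submodule A N).mkQ ∘ₗ φ₀ - ψ) (fun j => by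
      rw [LinearMap.sub_apply, LinearMap.comp_apply, hφ₀, Pi.sub_apply, map_sub, hy, sub_sub_cancel_left]
      exact Submodule.neg_mem _ (Submodule.smul_top_le_comap_smul_top _ _ (hy'' j))) x
  simpa using this

end general

/-- Let A be a Noetherian ring, I an ideal, and M, N finite A-modules; write N_n = N/IⁿN, so that
Hom_A(M/IⁿM, N_n) = Hom_A(M, N_n). Then (1) the inverse system (Hom_A(M, N_n))_n, with transition
maps induced by the projections N_k → N_n, is Mittag-Leffler; (2) there is c ≥ 0 such that for all n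
the kernel and the cokernel of Hom_A(M, N)/IⁿHom_A(M, N) → Hom_A(M, N_n) are annihilated by I^c. -/
theorem result (A : Type u) [CommRing A] [IsNoetherianRing A]
    (I : Ideal A) (M N : Type u) [AddCommGroup M] [Module A M] [Module.Finite A M] [AddCommGroup N] [Module A N]
    [Module.Finite A N] :
    let Nq : ℕ → Submodule A N := fun n => I ^ n • ⊤
    let pr : ∀ n k : ℕ, n ≤ k → (N ⧸ Nq k) →ₗ[A] (N ⧸ Nq n) :=
      fun n k hnk => Submodule.mapQ (Nq k) (Nq n) (LinearMap.id : N →ₗ[A] N) (Submodule.smul_mono_left (Ideal.pow_le_pow_right hnk))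
    let red : ∀ n : ℕ, (M →ₗ[A] N) → (M →ₗ[A] N ⧸ Nq n) := fun n φ => (Nq n).mkQ ∘ₗ φ
    (∀ n : ℕ, ∃ m : ℕ, n ≤ m ∧ ∀ (k : ℕ) (hmk : m ≤ k) (hnm : n ≤ m) (ψ : M →ₗ[A] N ⧸ Nq m),
        ∃ ψ' : M →ₗ[A] N ⧸ Nq k, pr n k (hnm.trans hmk) ∘ₗ ψ' = pr n m hnm ∘ₗ ψ) ∧
    ∃ c : ℕ, ∀ n : ℕ,
      (∀ φ : M →ₗ[A] N, red n φ = 0 → ∀ a ∈ I ^ c, a • φ ∈ (I ^ n • ⊤ : Submodule A (M →ₗ[A] N))) ∧
      (∀ (ψ : M →ₗ[A] N ⧸ Nq n), ∀ a ∈ I ^ c, ∃ φ : M →ₗ[A] N, red n φ = a • ψ) := by
  classical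
  intro Nq pr red
  -- presentation
  obtain ⟨b, π, hπ⟩ := Module.Finite.exists_fin' A M
  have : Module.Finite A (LinearMap.ker π) := Module.IsNoetherian.finite A _
  obtain ⟨a, ρ', hρ'⟩ := Module.Finite.exists_fin' A (LinearMap.ker π)
  let ρ : (Fin a → A) →ₗ[A] (Fin b → A) := (LinearMap.ker π).subtype ∘ₗ ρ'
  have hρπ : ∀ c, π (ρ c) = 0 := fun c => (ρ' c).2
  have hρsurj : ∀ c, π c = 0 → ∃ c', ρ c' = c := fun c hc => by
    obtain ⟨c', h⟩ := hρ' ⟨c, hc⟩
    exact ⟨c', by simp [ρ, h]⟩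
  -- Artin–Rees
  obtain ⟨c₁, h₁⟩ := Ideal.exists_pow_inf_eq_pow_smul I (LinearMap.range (Phi ρ N))
  let E : (M →ₗ[A] N) →ₗ[A] (Fin b → N) :=
    LinearMap.pi fun j => LinearMap.applyₗ (mgen π j)
  have hE : ∀ φ j, E φ j = φ (mgen π j) := fun φ j => rfl
  have hEinj : Function.Injective E := by
    intro φ φ' h
    exact ext_of_gen π hπ φ φ' (fun j => by rw [← hE, ← hE, h])
  obtain ⟨c₂, h₂⟩ := Ideal.exists_pow_inf_eq_pow_smul I (LinearMap.range E)
  refine ⟨?_, max c₁ c₂, ?_⟩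
  · -- Mittag-Leffler
    intro n
    refine ⟨n + c₁, Nat.le_add_right _ _, ?_⟩
    intro k hmk hnm ψ
    obtain ⟨φ₀, hφ₀⟩ := Lprime ρ π hπ hρπ hρsurj I c₁ h₁ (n + c₁) (Nat.le_add_left _ _) ψ
    refine ⟨(Nq k).mkQ ∘ₗ φ₀, ?_⟩
    ext x
    have h3 := hφ₀ x
    rw [Nat.add_sub_cancel] at h3
    have h4 : pr n (n + c₁) hnm ((Nq (n + c₁)).mkQ (φ₀ x) - ψ x) = 0 := by
      apply eq_zero_of_mem_smul_top_quot (I ^ n)
      exact Submodule.smul_top_le_comap_smul_top _ (pr n (n + c₁) hnm) h3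
    rw [map_sub, sub_eq_zero] at h4
    rw [LinearMap.comp_apply, LinearMap.comp_apply, LinearMap.comp_apply, ← h4]
    rfl
  · intro n
    constructor
    · -- kernel
      intro φ hφ s hs
      by_cases hn : c₂ ≤ n
      · have hEφ1 : E φ ∈ (I ^ n • ⊤ : Submodule A (Fin b → N)) := by
          rw [mem_smul_top_pi]
          intro j
          rw [hE, ← Submodule.Quotient.mk_eq_zero]
          exact LinearMap.congr_fun hφ (mgen π j)
        have hEφ2 : E φ ∈ I ^ (n - c₂) • (I ^ c₂ • ⊤ ⊓ LinearMap.range E) := by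
          rw [← h₂ n hn]; exact ⟨hEφ1, ⟨φ, rfl⟩⟩
        have hEφ3 : E φ ∈ Submodule.map E (I ^ (n - c₂) • ⊤ : Submodule A (M →ₗ[A] N)) := by
          rw [Submodule.map_smul'', Submodule.map_top]
          exact Submodule.smul_mono le_rfl inf_le_right hEφ2
        obtain ⟨φ', hφ', hφ'E⟩ := hEφ3
        have : φ' = φ := hEinj hφ'E
        rw [this] at hφ'
        have h5 : s • φ ∈ I ^ max c₁ c₂ • (I ^ (n - c₂) • ⊤ : Submodule A (M →ₗ[A] N)) :=
          Submodule.smul_mem_smul hs hφ'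
        rw [← Submodule.mul_smul, ← pow_add] at h5
        exact Submodule.smul_mono_left (Ideal.pow_le_pow_right (by
          have := le_max_right c₁ c₂; omega)) h5
      · have hs' : s ∈ I ^ n := Ideal.pow_le_pow_right (by
          have := le_max_right c₁ c₂; omega) hs
        exact Submodule.smul_mem_smul hs' Submodule.mem_top
    · -- cokernel
      intro ψ s hs
      by_cases hn : c₁ ≤ n
      · obtain ⟨φ₀, hφ₀⟩ := Lprime ρ π hπ hρπ hρsurj I c₁ h₁ n hn ψ
        refine ⟨s • φ₀, ?_⟩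
        ext x
        have h5 : s • ((Nq n).mkQ (φ₀ x) - ψ x) ∈
            I ^ max c₁ c₂ • (I ^ (n - c₁) • ⊤ : Submodule A (N ⧸ Nq n)) :=
          Submodule.smul_mem_smul hs (hφ₀ x)
        rw [← Submodule.mul_smul, ← pow_add] at h5
        have h6 := eq_zero_of_mem_smul_top_quot (I ^ n) _
          (Submodule.smul_mono_left (Ideal.pow_le_pow_right (by
            have := le_max_left c₁ c₂; omega)) h5)
        rw [smul_sub, sub_eq_zero] at h6
        rw [LinearMap.smul_apply, ← h6]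
        simp [red]
      · have hs' : s ∈ I ^ n := Ideal.pow_le_pow_right (by
          have := le_max_left c₁ c₂; omega) hs
        refine ⟨0, ?_⟩
        ext x
        rw [LinearMap.smul_apply, smul_quot_eq_zero (I ^ n) s hs']
        simp [red]

end Groth.Agent.S7136
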