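import Groth.Statements.S7135
import Mathlib
import Groth.Agent.S7136
-- import your own Groth.Agent.* helpers here

set_option autoImplicit false
universe u
open CAlg

namespace Groth.Agent.S7135

open Groth.Agent.S7136 (eq_zero_of_mem_smul_top_quot smul_quot_eq_zero)

section assemble

variable {A : Type u} [CommRing A] (I : Ideal A) {M N : Type u} [AddCommGroup M] [Module A M]
  [AddCommGroup N] [Module A N]

/-- A compatible family of isomorphisms of the quotients gives an isomorphism of completions. -/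
theorem assemble
    (e : ∀ n : ℕ, (M ⧸ (I ^ n • ⊤ : Submodule A M)) ≃ₗ[A] (N ⧸ (I ^ n • ⊤ : Submodule A N)))
    (hc : ∀ {m n : ℕ} (hmn : m ≤ n) (y : M ⧸ (I ^ n • ⊤ : Submodule A M)),
      AdicCompletion.transitionMap I N hmn (e n y) = e m (AdicCompletion.transitionMap I M hmn y)) :
    Nonempty (AdicCompletion I M ≃ₗ[AdicCompletion I A] AdicCompletion I N) := by
  have hc' : ∀ {m n : ℕ} (hmn : m ≤ n) (y : N ⧸ (I ^ n • ⊤ : Submodule A N)),
      AdicCompletion.transitionMap I M hmn ((e n).symm y) =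
        (e m).symm (AdicCompletion.transitionMap I N hmn y) := by
    intro m n hmn y
    apply (e m).injective
    rw [← hc hmn, LinearEquiv.apply_symm_apply, LinearEquiv.apply_symm_apply]
  have hsmul : ∀ (n : ℕ) (c : A ⧸ (I ^ n • ⊤ : Ideal A)) (y : M ⧸ (I ^ n • ⊤ : Submodule A M)),
      e n (c • y) = c • e n y := by
    intro n c y
    obtain ⟨a, rfl⟩ := Ideal.Quotient.mk_surjective c
    have h1 : ∀ (P : Type u) [AddCommGroup P] [Module A P] (w : P ⧸ (I ^ n • ⊤ : Submodule A P)),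
        Ideal.Quotient.mk (I ^ n • ⊤ : Ideal A) a • w = a • w := by
      intro P _ _ w
      obtain ⟨v, rfl⟩ := Submodule.Quotient.mk_surjective _ w
      rfl
    rw [h1, h1, map_smul]
  refine ⟨{ toFun := fun x => ⟨fun n => e n (x.val n), fun hmn => by rw [hc hmn, x.property hmn]⟩
            invFun := fun y => ⟨fun n => (e n).symm (y.val n), fun hmn => by
              rw [hc' hmn, y.property hmn]⟩
            map_add' := fun x y => by
              apply AdicCompletion.ext
              intro n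
              show e n ((x + y).val n) = e n (x.val n) + e n (y.val n)
              rw [AdicCompletion.val_add_apply, map_add]
            map_smul' := fun r x => by
              apply AdicCompletion.ext
              intro n
              simp only [AdicCompletion.smul_eval, RingHom.id_apply]
              exact hsmul n _ _
            left_inv := fun x => by
              apply AdicCompletion.ext
              intro n
              simp
            right_inv := fun y => by
              apply AdicCompletion.ext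
              intro n
              simp }⟩

end assemble

section nak

variable {A : Type u} [CommRing A] (I : Ideal A) {T : Type*} [AddCommGroup T] [Module A T]

theorem nak (S : Submodule A T) (hS : S ⊔ I • ⊤ = ⊤) (k : ℕ) : S ⊔ I ^ k • ⊤ = ⊤ := by
  induction k with
  | zero => simp
  | succ k ih =>
    have h1 : I ^ k • (⊤ : Submodule A T) ≤ S ⊔ I ^ (k + 1) • ⊤ := by
      calc I ^ k • (⊤ : Submodule A T) = I ^ k • (S ⊔ I • ⊤) := by rw [hS]
        _ = I ^ k • S ⊔ I ^ k • (I • ⊤) := Submodule.smul_sup _ _ _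
        _ ≤ S ⊔ I ^ (k + 1) • ⊤ := by
          refine sup_le_sup Submodule.smul_le_right ?_
          rw [← Submodule.mul_smul, ← pow_succ]
    have h2 : (⊤ : Submodule A T) ≤ S ⊔ I ^ (k + 1) • ⊤ := by
      calc (⊤ : Submodule A T) = S ⊔ I ^ k • ⊤ := ih.symm
        _ ≤ S ⊔ I ^ (k + 1) • ⊤ := sup_le le_sup_left h1
    exact eq_top_iff.mpr h2

end nak

/-- Let A be a Noetherian ring, I an ideal and M, N finite A-modules. If M/IⁿM and N/IⁿN are isomorphic
for every n, then the I-adic completions of M and N are isomorphic as modules over the I-adic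
completion of A. -/
theorem result (A : Type u) [CommRing A] [IsNoetherianRing A] (I : Ideal A)
    (M N : Type u) [AddCommGroup M] [Module A M] [Module.Finite A M] [AddCommGroup N] [Module A N]
    [Module.Finite A N]
    (h : ∀ n : ℕ, Nonempty ((M ⧸ (I ^ n • ⊤ : Submodule A M)) ≃ₗ[A] (N ⧸ (I ^ n • ⊤ : Submodule A N)))) :
    Nonempty (AdicCompletion I M ≃ₗ[AdicCompletion I A] AdicCompletion I N) := by
  classical
  -- transition maps
  let tm : ∀ {m n : ℕ} (_ : m ≤ n), (N ⧸ (I ^ n • ⊤ : Submodule A N)) →ₗ[A]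
      (N ⧸ (I ^ m • ⊤ : Submodule A N)) := fun hmn => AdicCompletion.transitionMap I N hmn
  have tm_comp : ∀ {l m n : ℕ} (hlm : l ≤ m) (hmn : m ≤ n),
      tm hlm ∘ₗ tm hmn = tm (hlm.trans hmn) := by
    intro l m n hlm hmn
    exact Submodule.factor_comp _ _
  have tm_surj : ∀ {m n : ℕ} (hmn : m ≤ n), Function.Surjective (tm hmn) :=
    fun hmn => Submodule.factor_surjective _
  -- Mittag-Leffler from S7136
  have ML : ∀ n : ℕ, ∃ m : ℕ, n ≤ m ∧ ∀ (k : ℕ) (hmk : m ≤ k) (hnm : n ≤ m)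
      (ψ : M →ₗ[A] N ⧸ (I ^ m • ⊤ : Submodule A N)),
      ∃ ψ' : M →ₗ[A] N ⧸ (I ^ k • ⊤ : Submodule A N),
        tm (hnm.trans hmk) ∘ₗ ψ' = tm hnm ∘ₗ ψ := (Groth.Agent.S7136.result A I M N).1
  choose mf hmf1 hmf2 using ML
  -- stages
  let Stage : ℕ → Type u := fun n =>
    {ψ : M →ₗ[A] N ⧸ (I ^ (n + 1) • ⊤ : Submodule A N) //
      ∃ θ : M →ₗ[A] N ⧸ (I ^ (mf (n + 1)) • ⊤ : Submodule A N), tm (hmf1 (n + 1)) ∘ₗ θ = ψ}
  obtain ⟨e₀⟩ := h (mf 1)
  let θ₀ : M →ₗ[A] N ⧸ (I ^ (mf 1) • ⊤ : Submodule A N) :=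
    e₀.toLinearMap ∘ₗ (I ^ (mf 1) • ⊤ : Submodule A M).mkQ
  have hθ₀ : Function.Surjective θ₀ := e₀.surjective.comp (Submodule.mkQ_surjective _)
  let base : Stage 0 := ⟨tm (hmf1 1) ∘ₗ θ₀, θ₀, rfl⟩
  have step : ∀ (n : ℕ) (x : Stage n), ∃ y : Stage (n + 1),
      tm (Nat.le_succ (n + 1)) ∘ₗ y.1 = x.1 := by
    rintro n ⟨ψ, θ, hθ⟩
    have hk1 : mf (n + 1) ≤ max (mf (n + 1)) (mf (n + 2)) := le_max_left _ _
    have hk2 : mf (n + 2) ≤ max (mf (n + 1)) (mf (n + 2)) := le_max_right _ _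
    obtain ⟨θ', hθ'⟩ := hmf2 (n + 1) _ hk1 (hmf1 (n + 1)) θ
    refine ⟨⟨tm ((hmf1 (n + 2)).trans hk2) ∘ₗ θ', tm hk2 ∘ₗ θ', ?_⟩, ?_⟩
    · rw [← LinearMap.comp_assoc, tm_comp]
    · show tm (Nat.le_succ (n + 1)) ∘ₗ (tm ((hmf1 (n + 2)).trans hk2) ∘ₗ θ') = ψ
      rw [← LinearMap.comp_assoc, tm_comp, ← hθ, ← hθ']
  let seq : ∀ n, Stage n := fun n => Nat.rec base (fun n x => Classical.choose (step n x)) n
  have hseq : ∀ n, tm (Nat.le_succ (n + 1)) ∘ₗ (seq (n + 1)).1 = (seq n).1 :=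
    fun n => Classical.choose_spec (step n (seq n))
  -- the level-one reduction is constant, hence each stage is surjective
  have hlevel1 : ∀ n, tm (Nat.succ_le_succ (Nat.zero_le n)) ∘ₗ (seq n).1 = (seq 0).1 := by
    intro n
    induction n with
    | zero =>
      have : tm (Nat.succ_le_succ (Nat.zero_le 0)) = LinearMap.id := by
        apply Submodule.linearMap_qext
        rfl
      rw [this, LinearMap.id_comp]
    | succ n ih =>
      calc tm (Nat.succ_le_succ (Nat.zero_le (n + 1))) ∘ₗ (seq (n + 1)).1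
          = (tm (Nat.succ_le_succ (Nat.zero_le n)) ∘ₗ tm (Nat.le_succ (n + 1))) ∘ₗ (seq (n + 1)).1 := by
            rw [tm_comp]
        _ = tm (Nat.succ_le_succ (Nat.zero_le n)) ∘ₗ (tm (Nat.le_succ (n + 1)) ∘ₗ (seq (n + 1)).1) :=
            LinearMap.comp_assoc _ _ _
        _ = tm (Nat.succ_le_succ (Nat.zero_le n)) ∘ₗ (seq n).1 := by rw [hseq n]
        _ = (seq 0).1 := ih
  have hsurj0 : Function.Surjective (seq 0).1 := (tm_surj (hmf1 1)).comp hθ₀
  have hsurj : ∀ n, Function.Surjective (seq n).1 := by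
    intro n
    have h1 : LinearMap.range (seq n).1 ⊔ I • ⊤ = ⊤ := by
      rw [eq_top_iff]
      intro y _
      obtain ⟨x, hx⟩ := hsurj0 (tm (Nat.succ_le_succ (Nat.zero_le n)) y)
      have h2 : tm (Nat.succ_le_succ (Nat.zero_le n)) (y - (seq n).1 x) = 0 := by
        rw [map_sub, ← hx, ← hlevel1 n, LinearMap.comp_apply, sub_self]
      have h3 : y - (seq n).1 x ∈ (I • ⊤ : Submodule A (N ⧸ (I ^ (n + 1) • ⊤ : Submodule A N))) := by
        obtain ⟨v, hv⟩ := Submodule.Quotient.mk_surjective _ (y - (seq n).1 x)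
        rw [← hv] at h2 ⊢
        have h4 : v ∈ (I ^ (0 + 1) • ⊤ : Submodule A N) := by
          rw [← Submodule.Quotient.mk_eq_zero]
          exact h2
        rw [zero_add, pow_one] at h4
        exact Submodule.smul_top_le_comap_smul_top I
          (I ^ (n + 1) • ⊤ : Submodule A N).mkQ h4
      have : y = (seq n).1 x + (y - (seq n).1 x) := by abel
      rw [this]
      exact Submodule.add_mem_sup ⟨x, rfl⟩ h3
    have h2 := nak I (LinearMap.range (seq n).1) h1 (n + 1)
    have h3 : (I ^ (n + 1) • ⊤ : Submodule A (N ⧸ (I ^ (n + 1) • ⊤ : Submodule A N))) = ⊥ := by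
      rw [eq_bot_iff]
      intro w hw
      exact eq_zero_of_mem_smul_top_quot (I ^ (n + 1)) w hw
    rw [h3, sup_bot_eq] at h2
    exact LinearMap.range_eq_top.mp h2
  -- the compatible family
  let Ψ : ∀ n, M →ₗ[A] N ⧸ (I ^ n • ⊤ : Submodule A N) := fun n => tm (Nat.le_succ n) ∘ₗ (seq n).1
  have hΨsucc : ∀ n, tm (Nat.le_succ n) ∘ₗ Ψ (n + 1) = Ψ n := by
    intro n
    show tm (Nat.le_succ n) ∘ₗ (tm (Nat.le_succ (n + 1)) ∘ₗ (seq (n + 1)).1) =
      tm (Nat.le_succ n) ∘ₗ (seq n).1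
    rw [hseq n]
  have hΨ : ∀ (n k : ℕ) (hnk : n ≤ k), tm hnk ∘ₗ Ψ k = Ψ n := by
    intro n k hnk
    induction k, hnk using Nat.le_induction with
    | base =>
      have : tm (le_refl n) = LinearMap.id := by
        apply Submodule.linearMap_qext
        rfl
      rw [this, LinearMap.id_comp]
    | succ k hnk ih =>
      calc tm (hnk.trans (Nat.le_succ k)) ∘ₗ Ψ (k + 1)
          = (tm hnk ∘ₗ tm (Nat.le_succ k)) ∘ₗ Ψ (k + 1) := by rw [tm_comp]
        _ = tm hnk ∘ₗ (tm (Nat.le_succ k) ∘ₗ Ψ (k + 1)) := LinearMap.comp_assoc _ _ _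
        _ = tm hnk ∘ₗ Ψ k := by rw [hΨsucc]
        _ = Ψ n := ih
  have hΨsurj : ∀ n, Function.Surjective (Ψ n) := fun n => (tm_surj (Nat.le_succ n)).comp (hsurj n)
  have hΨker : ∀ n, (I ^ n • ⊤ : Submodule A M) ≤ LinearMap.ker (Ψ n) := by
    intro n x hx
    rw [LinearMap.mem_ker]
    apply eq_zero_of_mem_smul_top_quot (I ^ n)
    exact Submodule.smul_top_le_comap_smul_top (I ^ n) (Ψ n) hx
  let Ψbar : ∀ n, (M ⧸ (I ^ n • ⊤ : Submodule A M)) →ₗ[A] (N ⧸ (I ^ n • ⊤ : Submodule A N)) :=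
    fun n => (I ^ n • ⊤ : Submodule A M).liftQ (Ψ n) (hΨker n)
  have hΨbar_surj : ∀ n, Function.Surjective (Ψbar n) := by
    intro n y
    obtain ⟨x, hx⟩ := hΨsurj n y
    exact ⟨Submodule.Quotient.mk x, hx⟩
  have hΨbar_inj : ∀ n, Function.Injective (Ψbar n) := by
    intro n
    obtain ⟨e⟩ := h n
    exact OrzechProperty.injective_of_surjective_of_injective e.toLinearMap (Ψbar n) e.injective
      (hΨbar_surj n)
  refine assemble I (fun n => LinearEquiv.ofBijective (Ψbar n) ⟨hΨbar_inj n, hΨbar_surj n⟩) ?_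
  intro m n hmn y
  obtain ⟨x, rfl⟩ := Submodule.Quotient.mk_surjective _ y
  show tm hmn (Ψ n x) = Ψ m x
  rw [← hΨ m n hmn]
  rfl

end Groth.Agent.S7135
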