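import Groth.Statements.S7137
import Groth.Agent.H72.PdChange

set_option autoImplicit false
universe u
open CategoryTheory
open CAlg

namespace Groth.Agent.S7137

open Groth.Agent.H72.PdLocal Groth.Agent.H72.PdExt Groth.Agent.H72.PdChange

/-- Take a Noetherian local ring R, an ideal I and a finite module E ≠ 0 over R/I. Suppose that R/I, as
an R-module, and E, as an R/I-module, both have finite projective dimension. Then E, as an R-module,
has finite projective dimension too, and it equals pd_R(R/I) + pd_{R/I}(E). -/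
theorem result (R : Type u) [CommRing R] [IsNoetherianRing R] [IsLocalRing R]
    (I : Ideal R) (E : Type u) [AddCommGroup E] [Module (R ⧸ I) E] [Module R E] [IsScalarTower R (R ⧸ I) E]
    [Module.Finite (R ⧸ I) E] [Nontrivial E]
    (h1 : projectiveDimension (ModuleCat.of R (R ⧸ I)) ≠ ⊤)
    (h2 : projectiveDimension (ModuleCat.of (R ⧸ I) E) ≠ ⊤) :
    projectiveDimension (ModuleCat.of R E) ≠ ⊤ ∧
      projectiveDimension (ModuleCat.of R E) =
        projectiveDimension (ModuleCat.of R (R ⧸ I)) + projectiveDimension (ModuleCat.of (R ⧸ I) E) := by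
  classical
  have hSnt : Nontrivial (R ⧸ I) := by
    by_contra hn
    rw [not_nontrivial_iff_subsingleton] at hn
    have hsub : Subsingleton E := Module.subsingleton (R ⧸ I) E
    exact not_subsingleton E hsub
  have hSloc : IsLocalRing (R ⧸ I) :=
    IsLocalRing.of_surjective' (Ideal.Quotient.mk I) Ideal.Quotient.mk_surjective
  have hsurj : Function.Surjective (algebraMap R (R ⧸ I)) := Ideal.Quotient.mk_surjective
  have hfinE : Module.Finite R E := Module.Finite.trans (R ⧸ I) E
  obtain ⟨a, ha⟩ := exists_nat_pd (R := R) (R ⧸ I) h1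
  obtain ⟨b, hb⟩ := exists_nat_pd (R := R ⧸ I) E h2
  have haLT : PdLT R (R ⧸ I) (a + 1) := (projectiveDimension_le_iff _ a).mp ha.le
  have hbLT : PdLT (R ⧸ I) E (b + 1) := (projectiveDimension_le_iff _ b).mp hb.le
  have hE : PdLT R E (a + b + 1) := pdLT_restrict R (R ⧸ I) a haLT b E hbLT
  have hEtop : projectiveDimension (ModuleCat.of R E) ≠ ⊤ :=
    (projectiveDimension_ne_top_iff _).mpr ⟨a + b, hE⟩
  obtain ⟨c, hc⟩ := exists_nat_pd (R := R) E hEtop
  have e1 := Groth.Agent.H72.AB.auslander_buchsbaum (R := R) (R ⧸ I) a ha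
  have e2 := Groth.Agent.H72.AB.auslander_buchsbaum (R := R ⧸ I) E b hb
  have e3 := Groth.Agent.H72.AB.auslander_buchsbaum (R := R) E c hc
  have d1 : LocCoh.depth R (R ⧸ I) = LocCoh.depth (R ⧸ I) (R ⧸ I) :=
    depth_eq_of_surjective hsurj (R ⧸ I)
  have d2 : LocCoh.depth R E = LocCoh.depth (R ⧸ I) E := depth_eq_of_surjective hsurj E
  obtain ⟨r, hr⟩ := Groth.Agent.H29.CM.exists_nat_depth (A := R) (M := R)
  obtain ⟨s, hs⟩ := Groth.Agent.H29.CM.exists_nat_depth (A := R ⧸ I) (M := R ⧸ I)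
  obtain ⟨t, ht⟩ := Groth.Agent.H29.CM.exists_nat_depth (A := R ⧸ I) (M := E)
  have e1' : (r : ℕ∞) = (a : ℕ∞) + (s : ℕ∞) :=
    hr.symm.trans (e1.trans (congrArg (fun x => (a : ℕ∞) + x) (d1.trans hs)))
  have e2' : (s : ℕ∞) = (b : ℕ∞) + (t : ℕ∞) :=
    hs.symm.trans (e2.trans (congrArg (fun x => (b : ℕ∞) + x) ht))
  have e3' : (r : ℕ∞) = (c : ℕ∞) + (t : ℕ∞) :=
    hr.symm.trans (e3.trans (congrArg (fun x => (c : ℕ∞) + x) (d2.trans ht)))
  have e1'' : r = a + s := by exact_mod_cast e1'
  have e2'' : s = b + t := by exact_mod_cast e2'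
  have e3'' : r = c + t := by exact_mod_cast e3'
  have hcab : c = a + b := by omega
  refine ⟨hEtop, ?_⟩
  rw [hc, ha, hb, hcab]
  push_cast
  rfl

end Groth.Agent.S7137
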