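import Groth.Statements.S7143
import Mathlib

set_option autoImplicit false
universe u
open CategoryTheory
open EtAlg

namespace Groth.Agent.S7143


theorem coord {W : Type*} [CommRing W] [IsDomain W] [ValuationRing W] {l : Type*} [Fintype l]
    (f y : l → W) (h : ∑ i, f i * y i = 0) :
    ∃ (d : W) (b c : l → W), d = ∑ i, b i * y i ∧ (∀ i, y i = c i * d) ∧ ∑ i, f i * c i = 0 := by
  classical
  have hfg : (Ideal.span (Set.range y)).FG := Submodule.fg_span (Set.finite_range y)
  haveI := IsBezout.isPrincipal_of_FG _ hfg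
  obtain ⟨d, hd⟩ : ∃ d, Ideal.span (Set.range y) = Ideal.span {d} :=
    ⟨_, (Submodule.IsPrincipal.span_singleton_generator (Ideal.span (Set.range y))).symm⟩
  have hdmem : d ∈ Ideal.span (Set.range y) := by
    rw [hd]; exact Ideal.mem_span_singleton_self d
  obtain ⟨b, hb⟩ := (Submodule.mem_span_range_iff_exists_fun W).1 hdmem
  have hy : ∀ i, ∃ c, y i = c * d := fun i => by
    have : y i ∈ Ideal.span {d} := by rw [← hd]; exact Ideal.subset_span ⟨i, rfl⟩
    obtain ⟨c, hc⟩ := Ideal.mem_span_singleton'.1 this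
    exact ⟨c, hc.symm⟩
  choose c hc using hy
  have hb' : d = ∑ i, b i * y i := by rw [← hb]; simp [smul_eq_mul]
  by_cases hd0 : d = 0
  · refine ⟨d, b, 0, hb', ?_, by simp⟩
    intro i; rw [hc i, hd0]; simp
  · refine ⟨d, b, c, hb', hc, ?_⟩
    have h2 : (∑ i, f i * c i) * d = ∑ i, f i * y i := by
      rw [Finset.sum_mul]
      exact Finset.sum_congr rfl fun i _ => by rw [hc i]; ring
    rw [h] at h2
    exact (mul_eq_zero.1 h2).resolve_right hd0

section defs
variable (A K : Type u) [CommRing A] [Field K] [Algebra A K]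

abbrev Idx : Type u := {W : ValuationSubring K // (algebraMap A K).range ≤ W.toSubring}
abbrev VV : Type u := (j : Idx A K) → ↥j.1
abbrev LL : Type u := Idx A K → K

noncomputable def ff : A →+* VV A K :=
  Pi.ringHom fun j => (algebraMap A K).codRestrict j.1 fun a => j.2 ⟨a, rfl⟩

noncomputable def gg : VV A K →+* LL A K :=
  Pi.ringHom fun j => (j.1.subtype).comp (Pi.evalRingHom (fun j : Idx A K => ↥j.1) j)

noncomputable def hh : K →+* LL A K := Pi.ringHom fun _ => RingHom.id K

theorem gg_inj : Function.Injective (gg A K) :=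
  fun x y hxy => funext fun j => Subtype.ext (congrFun hxy j)

theorem flat_ideal (I : Ideal (VV A K)) : Module.Flat (VV A K) I := by
  classical
  rw [Module.Flat.iff_forall_isTrivialRelation]
  intro l f x hfx
  have hcoord : ∀ j : Idx A K, ∑ i, f i j * (x i : VV A K) j = 0 := by
    intro j
    have h1 : ((∑ i, f i • x i : I) : VV A K) = 0 := by rw [hfx]; rfl
    rw [Submodule.coe_sum] at h1
    have h2 := congrFun h1 j
    rw [Finset.sum_apply] at h2
    simpa using h2
  choose d b c hd hc hfc using
    fun j => coord (fun i => f i j) (fun i => (x i : VV A K) j) (hcoord j)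
  have hg : d ∈ I := by
    have : d = ∑ i, (fun j => b j i : VV A K) * (x i : VV A K) := by
      funext j; rw [Finset.sum_apply]; exact hd j
    rw [this]
    exact I.sum_mem fun i _ => I.mul_mem_left _ (x i).2
  refine ⟨1, fun i _ => (fun j => c j i), fun _ => ⟨d, hg⟩, ?_, ?_⟩
  · intro i
    rw [Fin.sum_univ_one]
    apply Subtype.ext
    funext j
    exact hc j i
  · intro _
    funext j
    rw [Finset.sum_apply]
    exact hfc j

noncomputable def MM : Submonoid (VV A K) where
  carrier := {s | ∀ j, s j ≠ 0}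
  one_mem' := fun j => by simp
  mul_mem' := fun ha hb j => by
    rw [Pi.mul_apply]; exact mul_ne_zero (ha j) (hb j)

theorem isLoc : @IsLocalization (VV A K) _ (MM A K) (LL A K) _ (gg A K).toAlgebra := by
  letI := (gg A K).toAlgebra
  refine (isLocalization_iff (MM A K) (LL A K)).2 ⟨?_, ?_, ?_⟩
  · rintro ⟨s, hs⟩
    rw [Pi.isUnit_iff]
    intro j
    have : (s j : K) ≠ 0 := fun h0 => hs j (Subtype.ext h0)
    exact isUnit_iff_ne_zero.2 this
  · intro z
    have : ∀ j : Idx A K, ∃ (x s : ↥j.1), s ≠ 0 ∧ z j * (s : K) = (x : K) := by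
      intro j
      by_cases hz : z j ∈ j.1
      · exact ⟨⟨z j, hz⟩, 1, one_ne_zero, by simp⟩
      · have hz' := (j.1.mem_or_inv_mem (z j)).resolve_left hz
        have hz0 : z j ≠ 0 := fun h0 => hz (by rw [h0]; exact j.1.zero_mem)
        exact ⟨1, ⟨(z j)⁻¹, hz'⟩, fun h0 => inv_ne_zero hz0 (congrArg Subtype.val h0),
          by simp [hz0]⟩
    choose x s hs hxs using this
    exact ⟨(x, ⟨s, hs⟩), funext fun j => hxs j⟩
  · intro x y hxy
    exact ⟨1, by rw [gg_inj A K hxy]⟩

theorem gg_epi : Epi (CommRingCat.ofHom (gg A K)) := by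
  letI := (gg A K).toAlgebra
  haveI := isLoc A K
  refine ⟨fun {Z} a b hab => ?_⟩
  apply CommRingCat.hom_ext
  apply IsLocalization.ringHom_ext (MM A K)
  have h1 := congrArg CommRingCat.Hom.hom hab
  have h2 : a.hom.comp (gg A K) = b.hom.comp (gg A K) := by simpa using h1
  exact h2

theorem closedIn [IsDomain A] [IsFractionRing A K] [IsIntegrallyClosed A] :
    IsIntegrallyClosedIn ((algebraMap A K).range) K := by
  refine ⟨Subtype.val_injective, fun {x} => ⟨fun hx => ?_, ?_⟩⟩
  · obtain ⟨p, hpm, hp⟩ := hx
    have he : Function.Surjective (algebraMap A K).rangeRestrict :=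
      (algebraMap A K).rangeRestrict_surjective
    obtain ⟨q, hq, -, hqm⟩ := Polynomial.lifts_and_degree_eq_and_monic
      ((Polynomial.mem_lifts p).2 (Polynomial.map_surjective _ he p)) hpm
    have hcomp : (algebraMap ↥(algebraMap A K).range K).comp (algebraMap A K).rangeRestrict
        = algebraMap A K := RingHom.ext fun a => rfl
    have hxA : IsIntegral A x := by
      refine ⟨q, hqm, ?_⟩
      rw [← hq, Polynomial.eval₂_map, hcomp] at hp
      exact hp
    obtain ⟨a, ha⟩ := IsIntegrallyClosed.isIntegral_iff.mp hxA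
    exact ⟨⟨algebraMap A K a, a, rfl⟩, ha⟩
  · rintro ⟨y, rfl⟩
    exact isIntegral_algebraMap

theorem fibre [IsDomain A] [IsFractionRing A K] [IsIntegrallyClosed A] (v : VV A K) (k : K)
    (hvk : gg A K v = hh A K k) : ∃! a : A, ff A K a = v ∧ algebraMap A K a = k := by
  haveI := closedIn A K
  have hE := Subring.eq_iInf_of_isIntegrallyClosedIn (R := (algebraMap A K).range)
  have hvj : ∀ j : Idx A K, (v j : K) = k := fun j => congrFun hvk j
  have hmem : k ∈ ⨅ V : {V : ValuationSubring K // (algebraMap A K).range ≤ V.toSubring},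
      V.1.toSubring := by
    rw [Subring.mem_iInf]
    intro j
    show k ∈ j.1
    rw [← hvj j]
    exact (v j).2
  have hk : k ∈ (algebraMap A K).range := by
    rw [hE]; exact hmem
  obtain ⟨a, ha⟩ := hk
  refine ⟨a, ⟨funext fun j => Subtype.ext ?_, ha⟩,
    fun a' ha' => IsFractionRing.injective A K (ha'.2.trans ha.symm)⟩
  show algebraMap A K a = (v j : K)
  rw [ha]; exact (hvj j).symm

end defs

/-- Every normal domain A with fraction field K is the fibre product V ×_L K for suitable rings V and L
with maps A → V, V → L, K → L (together with the given A → K), where every ideal of V is flat (weak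
dimension at most one) and V → L is flat, injective and an epimorphism of rings. -/
theorem result (A K : Type u) [CommRing A] [IsDomain A] [Field K] [Algebra A K]
    [IsFractionRing A K] [IsIntegrallyClosed A] :
    ∃ (V L : Type u) (_ : CommRing V) (_ : CommRing L) (f : A →+* V) (g : V →+* L) (h : K →+* L),
      g.comp f = h.comp (algebraMap A K) ∧
      (∀ I : Ideal V, Module.Flat V I) ∧ g.Flat ∧ Function.Injective g ∧ Epi (CommRingCat.ofHom g) ∧
      ∀ (v : V) (k : K), g v = h k → ∃! a : A, f a = v ∧ algebraMap A K a = k := by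
  refine ⟨VV A K, LL A K, inferInstance, inferInstance, ff A K, gg A K, hh A K, ?_,
    flat_ideal A K, ?_, gg_inj A K, gg_epi A K, fibre A K⟩
  · exact RingHom.ext fun a => funext fun j => rfl
  · letI := (gg A K).toAlgebra
    haveI := isLoc A K
    exact IsLocalization.flat (LL A K) (MM A K)

end Groth.Agent.S7143
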