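import Groth.Statements.S7144
import Mathlib

set_option autoImplicit false
universe u
open CAlg

namespace Groth.Agent.S7144

theorem bezout_of_pre (R : Type u) [CommRing R] [PreValuationRing R] : IsBezout R := by
  classical
  rw [IsBezout.iff_span_pair_isPrincipal]
  intro x y
  rw [Ideal.span_insert]
  have htot : @Std.Total (Ideal R) (· ≤ ·) := PreValuationRing.iff_ideal_total.mp inferInstance
  rcases htot.total (Ideal.span {x} : Ideal R) (Ideal.span {y}) with h | h
  · rw [sup_eq_right.mpr h]; exact ⟨⟨_, rfl⟩⟩
  · rw [sup_eq_left.mpr h]; exact ⟨⟨_, rfl⟩⟩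

theorem pre_of_local_bezout (R : Type u) [CommRing R] [IsLocalRing R] [IsBezout R] :
    PreValuationRing R := by
  refine PreValuationRing.iff_dvd_total.mpr ⟨fun a b => ?_⟩
  obtain ⟨g, e : _ = Ideal.span _⟩ := IsBezout.span_pair_isPrincipal a b
  obtain ⟨a, rfl⟩ := Ideal.mem_span_singleton'.mp
      (show a ∈ Ideal.span {g} by rw [← e]; exact Ideal.subset_span (by simp))
  obtain ⟨b, rfl⟩ := Ideal.mem_span_singleton'.mp
      (show b ∈ Ideal.span {g} by rw [← e]; exact Ideal.subset_span (by simp))
  obtain ⟨x, y, e'⟩ := Ideal.mem_span_pair.mp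
      (show g ∈ Ideal.span {a * g, b * g} by rw [e]; exact Ideal.subset_span (by simp))
  -- (1 - (x a + y b)) g = 0
  have hg : (1 - (x * a + y * b)) * g = 0 := by
    have : (x * a + y * b) * g = g := by
      calc (x * a + y * b) * g = x * (a * g) + y * (b * g) := by ring
        _ = g := e'
    rw [sub_mul, this, one_mul, sub_self]
  rcases IsLocalRing.isUnit_or_isUnit_one_sub_self (x * a + y * b) with hu | hu
  · -- x a + y b is a unit
    obtain ⟨u, hu⟩ := hu
    have h1 : (↑u⁻¹ * x) * a + (↑u⁻¹ * y) * b = 1 := by
      have : (↑u⁻¹ : R) * (x * a + y * b) = 1 := by rw [← hu]; simp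
      rw [← this]; ring
    rcases IsLocalRing.isUnit_or_isUnit_of_add_one h1 with h' | h' <;> [left; right]
    all_goals exact mul_dvd_mul_right (isUnit_iff_forall_dvd.mp (isUnit_of_mul_isUnit_right h') _) _
  · have hg0 : g = 0 := by
      obtain ⟨u, hu⟩ := hu
      rw [← hu] at hg
      exact u.mul_right_eq_zero.mp hg
    simp [hg0]

/-- (1) ⇔ (2): let R be a nonzero ring. Then for all a, b in R one of a, b divides the other if and only
if R is local and every finitely generated ideal of R is principal. (The further equivalence with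
the total ordering of the set of ideals by inclusion is standard and not restated here.) -/
theorem result (R : Type u) [CommRing R] [Nontrivial R] :
    PreValuationRing R ↔ IsLocalRing R ∧ IsBezout R := by
  constructor
  · intro h
    exact ⟨inferInstance, bezout_of_pre R⟩
  · rintro ⟨h1, h2⟩
    exact pre_of_local_bezout R

end Groth.Agent.S7144
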