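import Groth.Statements.S7145
import Mathlib
-- import your own Groth.Agent.* helpers here

set_option autoImplicit false
universe u
open CategoryTheory CategoryTheory.Limits
open CAlg

namespace Groth.Agent.S7145

section Sub

variable {R : Type u} [CommRing R] (F : CochainComplex (ModuleCat.{u} R) ℤ)
  (M : ∀ n : ℤ, Submodule R (F.X n))
  (hM : ∀ n x, x ∈ M n → (F.d n (n + 1)).hom x ∈ M (n + 1))

include hM in
lemma stab (i j : ℤ) (x : F.X i) (hx : x ∈ M i) : (F.d i j).hom x ∈ M j := by
  by_cases h : (ComplexShape.up ℤ).Rel i j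
  · have : i + 1 = j := h
    subst this
    exact hM i x hx
  · rw [F.shape i j h]
    simp

/-- the subcomplex with terms `M n` -/
noncomputable def subCx : CochainComplex (ModuleCat.{u} R) ℤ where
  X n := ModuleCat.of R (M n)
  d i j := ModuleCat.ofHom ((F.d i j).hom.restrict (fun x hx => stab F M hM i j x hx))
  shape i j h := by
    ext x
    simp [F.shape i j h]
  d_comp_d' i j k _ _ := by
    ext x
    have h2 : (F.d i j ≫ F.d j k).hom x.1 = 0 := by
      rw [F.d_comp_d]
      rfl
    show (F.d j k).hom ((F.d i j).hom x.1) = 0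
    exact h2

/-- the inclusion of the subcomplex -/
noncomputable def subIncl : subCx F M hM ⟶ F where
  f n := ModuleCat.ofHom (M n).subtype
  comm' i j _ := by
    ext x
    rfl

end Sub


section Build

variable {R : Type u} [CommRing R] (F : CochainComplex (ModuleCat.{u} R) ℤ)
  [hfree : ∀ n : ℤ, Module.Free R (F.X n)]

/-- index types of the chosen bases -/
abbrev idx (n : ℤ) := Module.Free.ChooseBasisIndex R (F.X n)

/-- the chosen bases -/
noncomputable abbrev bas (n : ℤ) : Module.Basis (idx F n) R (F.X n) :=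
  Module.Free.chooseBasis R (F.X n)

/-- all basis indices -/
abbrev SIdx := Σ n : ℤ, idx F n

open Classical in
/-- the indices appearing in `d` of a basis vector -/
noncomputable def next (x : SIdx F) : Finset (SIdx F) :=
  ((bas F (x.1 + 1)).repr ((F.d x.1 (x.1 + 1)).hom (bas F x.1 x.2))).support.image
    (fun t => (⟨x.1 + 1, t⟩ : SIdx F))

open Classical in
/-- generations of indices -/
noncomputable def U (T₀ : Finset (SIdx F)) : ℕ → Finset (SIdx F)
  | 0 => T₀
  | k + 1 => (U T₀ k).biUnion (next F)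

lemma degree_ge (T₀ : Finset (SIdx F)) (a : ℤ) (h0 : ∀ x ∈ T₀, a ≤ x.1) :
    ∀ (k : ℕ) (x : SIdx F), x ∈ U F T₀ k → a + k ≤ x.1 := by
  intro k
  induction k with
  | zero =>
    intro x hx
    simpa using h0 x hx
  | succ k ih =>
    intro x hx
    simp only [U, Finset.mem_biUnion, next, Finset.mem_image] at hx
    obtain ⟨y, hy, t, _, rfl⟩ := hx
    have := ih y hy
    push_cast
    linarith

open Classical in
/-- the union of the first `K + 1` generations -/
noncomputable def TT (T₀ : Finset (SIdx F)) (K : ℕ) : Finset (SIdx F) :=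
  (Finset.range (K + 1)).biUnion (U F T₀)

/-- the submodules spanned by the selected basis vectors -/
noncomputable def MM (T₀ : Finset (SIdx F)) (K : ℕ) (n : ℤ) : Submodule R (F.X n) :=
  Submodule.span R (bas F n '' {s | (⟨n, s⟩ : SIdx F) ∈ TT F T₀ K})

lemma MM_stable (T₀ : Finset (SIdx F)) (a b : ℤ) (h0 : ∀ x ∈ T₀, a ≤ x.1)
    (hb : ∀ n : ℤ, b < n → IsZero (F.X n)) (K : ℕ) (hK : b ≤ a + K) (n : ℤ) (x : F.X n)
    (hx : x ∈ MM F T₀ K n) : (F.d n (n + 1)).hom x ∈ MM F T₀ K (n + 1) := by
  classical
  unfold MM at hx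
  refine Submodule.span_induction (p := fun x _ => (F.d n (n + 1)).hom x ∈ MM F T₀ K (n + 1))
    ?_ ?_ ?_ ?_ hx
  · rintro _ ⟨s, hs, rfl⟩
    simp only [TT, Set.mem_setOf_eq, Finset.mem_biUnion, Finset.mem_range] at hs
    obtain ⟨k, hk, hsk⟩ := hs
    by_cases hkK : k < K
    · have h1 := (bas F (n + 1)).mem_span_repr_support ((F.d n (n + 1)).hom (bas F n s))
      refine Submodule.span_mono ?_ h1
      rintro _ ⟨t, ht, rfl⟩
      refine ⟨t, ?_, rfl⟩
      simp only [TT, Set.mem_setOf_eq, Finset.mem_biUnion, Finset.mem_range]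
      refine ⟨k + 1, by omega, ?_⟩
      simp only [U, Finset.mem_biUnion]
      refine ⟨⟨n, s⟩, hsk, ?_⟩
      simp only [next, Finset.mem_image]
      exact ⟨t, ht, rfl⟩
    · have hkK' : k = K := by omega
      have hdeg := degree_ge F T₀ a h0 k ⟨n, s⟩ hsk
      have hz : IsZero (F.X (n + 1)) := hb (n + 1) (by
        have : (a : ℤ) + k ≤ n := hdeg
        rw [hkK'] at this
        linarith)
      have : Subsingleton (F.X (n + 1)) := ModuleCat.subsingleton_of_isZero hz
      rw [Subsingleton.elim ((F.d n (n + 1)).hom (bas F n s)) 0]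
      exact Submodule.zero_mem _
  · simp
  · intro x y _ _ hx hy
    rw [map_add]
    exact Submodule.add_mem _ hx hy
  · intro c x _ hx
    rw [map_smul]
    exact Submodule.smul_mem _ _ hx

lemma MM_free_finite (T₀ : Finset (SIdx F)) (K : ℕ) (n : ℤ) :
    Module.Finite R (MM F T₀ K n) ∧ Module.Free R (MM F T₀ K n) := by
  classical
  let ι := {s : idx F n // (⟨n, s⟩ : SIdx F) ∈ TT F T₀ K}
  have hfin : Finite ι :=
    Finite.of_injective (fun s : ι => (⟨⟨n, s.1⟩, s.2⟩ : {x // x ∈ TT F T₀ K}))
      (fun s t h => by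
        have := congrArg Subtype.val h
        simp only [Sigma.mk.injEq, heq_eq_eq, true_and] at this
        exact Subtype.ext this)
  have hli : LinearIndependent R (fun s : ι => bas F n s.1) :=
    (bas F n).linearIndependent.comp _ Subtype.val_injective
  have hrange : Set.range (fun s : ι => bas F n s.1) =
      bas F n '' {s | (⟨n, s⟩ : SIdx F) ∈ TT F T₀ K} := by
    ext y
    constructor
    · rintro ⟨s, rfl⟩
      exact ⟨s.1, s.2, rfl⟩
    · rintro ⟨s, hs, rfl⟩
      exact ⟨⟨s, hs⟩, rfl⟩
  have hb : Module.Basis ι R (MM F T₀ K n) := by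
    have := Module.Basis.span hli
    rw [hrange] at this
    exact this
  exact ⟨Module.Finite.of_basis hb, Module.Free.of_basis hb⟩

lemma MM_eq_bot (T₀ : Finset (SIdx F)) (a : ℤ) (h0 : ∀ x ∈ T₀, a ≤ x.1) (K : ℕ) (n : ℤ)
    (hn : n < a) : MM F T₀ K n = ⊥ := by
  classical
  have : {s | (⟨n, s⟩ : SIdx F) ∈ TT F T₀ K} = ∅ := by
    ext s
    simp only [TT, Set.mem_setOf_eq, Finset.mem_biUnion, Finset.mem_range, Set.mem_empty_iff_false,
      iff_false, not_exists, not_and]
    intro k _ hk
    have := degree_ge F T₀ a h0 k ⟨n, s⟩ hk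
    have h2 : (a : ℤ) + k ≤ n := this
    linarith [Int.natCast_nonneg k]
  unfold MM
  rw [this, Set.image_empty, Submodule.span_empty]

end Build

/-- Let R be a ring and F a cochain complex of free R-modules that is zero in all sufficiently large
degrees. Given finitely many elements f_i of F, f_i lying in degree n_i, there is a subcomplex G of
F (a map of complexes G → F injective in every degree) through which every f_i passes, such that G
is zero outside a finite range of degrees and each term of G is a finitely generated free R-module. -/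
theorem result (R : Type u) [CommRing R]
    (F : CochainComplex (ModuleCat.{u} R) ℤ) (hfree : ∀ n : ℤ, Module.Free R (F.X n))
    (b : ℤ) (hb : ∀ n : ℤ, b < n → IsZero (F.X n))
    (N : ℕ) (deg : Fin N → ℤ) (f : ∀ i : Fin N, F.X (deg i)) :
    ∃ (G : CochainComplex (ModuleCat.{u} R) ℤ) (ι : G ⟶ F),
      (∀ n : ℤ, Function.Injective (ι.f n)) ∧
      (∃ a c : ℤ, ∀ n : ℤ, (n < a ∨ c < n) → IsZero (G.X n)) ∧
      (∀ n : ℤ, Module.Finite R (G.X n) ∧ Module.Free R (G.X n)) ∧
      ∀ i : Fin N, f i ∈ Set.range (ι.f (deg i)) := by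
  classical
  haveI := hfree
  let a : ℤ := - ∑ i, |deg i|
  have ha : ∀ i, a ≤ deg i := by
    intro i
    have h1 : |deg i| ≤ ∑ j, |deg j| :=
      Finset.single_le_sum (fun j _ => abs_nonneg (deg j)) (Finset.mem_univ i)
    have h2 := neg_abs_le (deg i)
    simp only [a]
    linarith
  let T₀ : Finset (SIdx F) := Finset.univ.biUnion (fun i : Fin N =>
    ((bas F (deg i)).repr (f i)).support.image (fun s => (⟨deg i, s⟩ : SIdx F)))
  have h0 : ∀ x ∈ T₀, a ≤ x.1 := by
    intro x hx
    simp only [T₀, Finset.mem_biUnion, Finset.mem_image] at hx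
    obtain ⟨i, _, s, _, rfl⟩ := hx
    exact ha i
  let K : ℕ := (b - a).toNat
  have hK : b ≤ a + K := by
    have := Int.self_le_toNat (b - a)
    simp only [K]
    linarith
  have hM : ∀ n x, x ∈ MM F T₀ K n → (F.d n (n + 1)).hom x ∈ MM F T₀ K (n + 1) :=
    MM_stable F T₀ a b h0 hb K hK
  refine ⟨subCx F (MM F T₀ K) hM, subIncl F (MM F T₀ K) hM, ?_, ⟨a, b, ?_⟩, ?_, ?_⟩
  · intro n
    exact Subtype.val_injective
  · intro n hn
    rcases hn with hn | hn
    · have h1 : MM F T₀ K n = ⊥ := MM_eq_bot F T₀ a h0 K n hn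
      have : Subsingleton (MM F T₀ K n) := by
        rw [h1]
        infer_instance
      show IsZero (ModuleCat.of R (MM F T₀ K n))
      exact ModuleCat.isZero_of_subsingleton _
    · have hz := hb n hn
      have : Subsingleton (F.X n) := ModuleCat.subsingleton_of_isZero hz
      have : Subsingleton (MM F T₀ K n) := ⟨fun x y => Subtype.ext (Subsingleton.elim _ _)⟩
      show IsZero (ModuleCat.of R (MM F T₀ K n))
      exact ModuleCat.isZero_of_subsingleton _
  · intro n
    exact MM_free_finite F T₀ K n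
  · intro i
    have h1 := (bas F (deg i)).mem_span_repr_support (f i)
    have h2 : f i ∈ MM F T₀ K (deg i) := by
      refine Submodule.span_mono ?_ h1
      rintro _ ⟨s, hs, rfl⟩
      refine ⟨s, ?_, rfl⟩
      simp only [TT, Set.mem_setOf_eq, Finset.mem_biUnion, Finset.mem_range]
      refine ⟨0, by omega, ?_⟩
      simp only [U, T₀, Finset.mem_biUnion, Finset.mem_image]
      exact ⟨i, Finset.mem_univ _, s, hs, rfl⟩
    exact ⟨⟨f i, h2⟩, rfl⟩

end Groth.Agent.S7145
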