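import Groth.Statements.S7146
import Groth.Agent.H17.HS.Bound

set_option autoImplicit false
universe u
open Filter
open CAlg
open Groth.Agent.H17

namespace Groth.Agent.S7146

/-- Let R be a Noetherian local ring of Krull dimension d and I the ideal generated by a system of
parameters g_1, ..., g_d (d elements of the maximal ideal generating an ideal with radical the
maximal ideal); let e_I be the multiplicity of I, i.e. d! times the top coefficient of the numerical
polynomial n ↦ length(R/I^(n+1)), equivalently the limit of d!·length(R/Iⁿ)/n^d. Then e_I ≤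
length(R/I). (Stated for a natural number e equal to that limit.) -/
theorem result (R : Type u) [CommRing R] [IsNoetherianRing R] [IsLocalRing R]
    (d : ℕ) (hd : ringKrullDim R = d) (g : Fin d → R) (hg : ∀ i, g i ∈ IsLocalRing.maximalIdeal R)
    (hsop : IsLocalRing.maximalIdeal R ≤ (Ideal.span (Set.range g)).radical) (e : ℕ)
    (he : Tendsto (fun n : ℕ => (d.factorial : ℝ) * ((Module.length R (R ⧸ Ideal.span (Set.range g) ^ n)).toNat : ℝ) / (n : ℝ) ^ d)
      atTop (nhds (e : ℝ))) :
    (e : ℕ∞) ≤ Module.length R (R ⧸ Ideal.span (Set.range g)) := by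
  classical
  set I := Ideal.span (Set.range g) with hI
  by_cases htop : Module.length R (R ⧸ I) = ⊤
  · rw [htop]
    exact le_top
  have hJ : ∀ J : Ideal R, (J • (⊤ : Submodule R R)) = J := fun J => by
    rw [smul_eq_mul, Ideal.mul_top]
  have hlen : ∀ J : Ideal R, Module.length R (R ⧸ J) = HS.colen (J • (⊤ : Submodule R R)) :=
    fun J => (LinearEquiv.length_eq (Submodule.quotEquivOfEq _ _ (hJ J))).symm
  set h := (Module.length R (R ⧸ I)).toNat with hh
  suffices hle : e ≤ h by
    rw [← ENat.natCast_toNat htop]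
    exact_mod_cast hle
  have hseq : ∀ n, (Module.length R (R ⧸ I ^ n)).toNat = HS.samuel I R n := fun n => by
    unfold HS.samuel HS.cn
    rw [hlen]
  have hh1 : HS.samuel I R 1 = h := by
    unfold HS.samuel HS.cn
    rw [pow_one, ← hlen]
  have he' : Tendsto (fun n : ℕ => (d.factorial : ℝ) * (HS.samuel I R n : ℝ) / (n : ℝ) ^ d)
      atTop (nhds (e : ℝ)) := by
    refine he.congr (fun n => ?_)
    rw [hseq]
  -- the case d = 0
  rcases Nat.eq_zero_or_pos d with hd0 | hdpos
  · subst hd0
    have hIbot : I = ⊥ := by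
      rw [hI, Set.range_eq_empty, Ideal.span_empty]
    have hconst : ∀ n, 1 ≤ n → HS.samuel I R n = h := by
      intro n hn
      rw [← hh1]
      unfold HS.samuel
      rw [hIbot, ← Ideal.zero_eq_bot, zero_pow (by omega), zero_pow one_ne_zero]
    have hlim : Tendsto (fun n : ℕ => ((0 : ℕ).factorial : ℝ) * (HS.samuel I R n : ℝ) / (n : ℝ) ^ 0)
        atTop (nhds (h : ℝ)) := by
      refine tendsto_const_nhds.congr' ?_
      filter_upwards [eventually_ge_atTop 1] with n hn
      rw [hconst n hn]
      simp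
    have := tendsto_nhds_unique he' hlim
    have h2 : e = h := by exact_mod_cast this
    exact h2.le
  -- the case d = d' + 1
  obtain ⟨d', rfl⟩ : ∃ d', d = d' + 1 := ⟨d - 1, by omega⟩
  have hcolen1 : HS.colen (I • (⊤ : Submodule R R)) ≠ ⊤ := by
    rw [← hlen]
    exact htop
  have hK : Order.krullDim ↥(Module.support R R ∩ PrimeSpectrum.zeroLocus (I : Set R)) ≤ 0 := by
    have hFL : IsFiniteLength R (R ⧸ (I • (⊤ : Submodule R R))) :=
      Module.length_ne_top_iff.mp hcolen1
    have := (Groth.Agent.S3406.isFiniteLength_iff_supportDim_le_zero R _).mp hFL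
    rwa [Module.supportDim, Module.support_quotient] at this
  have hfin := HS.colen_pow_smul_top_ne_top I R hK
  have hbound : ∀ n, HS.samuel I R n ≤ (n + d').choose (d' + 1) * h := by
    intro n
    have := HS.samuel_le_choose_mul (N := R) g hfin n
    rwa [hh1] at this
  -- the upper sequence
  have hu : Tendsto (fun n : ℕ => (((n + d' : ℕ) : ℝ) / (n : ℝ)) ^ (d' + 1) * (h : ℝ)) atTop
      (nhds (h : ℝ)) := by
    have ha : Tendsto (fun n : ℕ => (1 : ℝ) + (d' : ℝ) / (n : ℝ)) atTop (nhds (1 + 0)) :=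
      tendsto_const_nhds.add (tendsto_const_div_atTop_nhds_zero_nat (d' : ℝ))
    have hb : Tendsto (fun n : ℕ => (((n + d' : ℕ) : ℝ) / (n : ℝ))) atTop (nhds 1) := by
      rw [add_zero] at ha
      refine ha.congr' ?_
      filter_upwards [eventually_ge_atTop 1] with n hn
      have hn0 : (n : ℝ) ≠ 0 := Nat.cast_ne_zero.mpr (by omega)
      push_cast
      field_simp
    have hc := (hb.pow (d' + 1)).mul_const (h : ℝ)
    simpa using hc
  have hle : (e : ℝ) ≤ (h : ℝ) := by
    refine le_of_tendsto_of_tendsto he' hu ?_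
    filter_upwards [eventually_ge_atTop 1] with n hn
    have hn0 : (0 : ℝ) < (n : ℝ) := Nat.cast_pos.mpr (by omega)
    have h1 : (HS.samuel I R n : ℝ) ≤ ((n + d').choose (d' + 1) : ℝ) * (h : ℝ) := by
      exact_mod_cast hbound n
    have h2 : (((n + d').choose (d' + 1) : ℕ) : ℝ) ≤
        (((n + d' : ℕ) : ℝ)) ^ (d' + 1) / ((d' + 1).factorial : ℝ) :=
      Nat.choose_le_pow_div (d' + 1) (n + d')
    have hfpos : (0 : ℝ) < ((d' + 1).factorial : ℝ) := Nat.cast_pos.mpr (Nat.factorial_pos _)
    have h3 : ((d' + 1).factorial : ℝ) * (((n + d').choose (d' + 1) : ℕ) : ℝ) ≤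
        (((n + d' : ℕ) : ℝ)) ^ (d' + 1) := by
      have := mul_le_mul_of_nonneg_left h2 hfpos.le
      rwa [mul_div_cancel₀ _ hfpos.ne'] at this
    rw [div_pow, div_mul_eq_mul_div]
    apply div_le_div_of_nonneg_right _ (by positivity)
    calc ((d' + 1).factorial : ℝ) * (HS.samuel I R n : ℝ)
        ≤ ((d' + 1).factorial : ℝ) * (((n + d').choose (d' + 1) : ℝ) * (h : ℝ)) := by gcongr
      _ = (((d' + 1).factorial : ℝ) * ((n + d').choose (d' + 1) : ℝ)) * (h : ℝ) := by ring
      _ ≤ (((n + d' : ℕ) : ℝ)) ^ (d' + 1) * (h : ℝ) := by gcongr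
  exact_mod_cast hle

end Groth.Agent.S7146
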