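import Groth.Statements.S7147
import Mathlib
-- import your own Groth.Agent.* helpers here

set_option autoImplicit false
universe u
open CAlg

namespace Groth.Agent.S7147

section

variable {R : Type u} [CommRing R] {M : Type u} [AddCommGroup M] [Module R M] (x : Ideal R)

/-- induced functional on `M/xM`, `R`-linear with values in `R/x`. -/
noncomputable def phiBar (φ : M →ₗ[R] R) : (M ⧸ (x • ⊤ : Submodule R M)) →ₗ[R] (R ⧸ x) :=
  Submodule.liftQ _ ((Ideal.Quotient.mkₐ R x).toLinearMap ∘ₗ φ) (by
    rw [Submodule.smul_le]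
    intro a ha m _
    rw [LinearMap.mem_ker, map_smul, LinearMap.comp_apply, AlgHom.toLinearMap_apply,
      Ideal.Quotient.mkₐ_eq_mk, Algebra.smul_def, Ideal.Quotient.algebraMap_eq,
      Ideal.Quotient.eq_zero_iff_mem.mpr ha, zero_mul])

theorem phiBar_mk (φ : M →ₗ[R] R) (m : M) :
    phiBar x φ ((x • ⊤ : Submodule R M).mkQ m) = Ideal.Quotient.mk x (φ m) := rfl

/-- (K1) -/
theorem mem_Bx_iff (m : M) :
    (x • ⊤ : Submodule R M).mkQ m ∈ Submodule.span (R ⧸ x)
      ((x • ⊤ : Submodule R M).mkQ '' {m : M | ∀ φ : M →ₗ[R] R, φ m ∈ x}) ↔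
      ∀ φ : M →ₗ[R] R, φ m ∈ x := by
  constructor
  · intro h φ
    have key : ∀ y ∈ Submodule.span (R ⧸ x)
        ((x • ⊤ : Submodule R M).mkQ '' {m : M | ∀ φ : M →ₗ[R] R, φ m ∈ x}),
        phiBar x φ y = 0 := by
      intro y hy
      induction hy using Submodule.span_induction with
      | mem y hy =>
        obtain ⟨m', hm', rfl⟩ := hy
        rw [phiBar_mk]
        exact Ideal.Quotient.eq_zero_iff_mem.mpr (hm' φ)
      | zero => exact map_zero _
      | add y z _ _ hy hz => rw [map_add, hy, hz, add_zero]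
      | smul c y _ hy =>
        obtain ⟨a, rfl⟩ := Ideal.Quotient.mk_surjective c
        obtain ⟨m', rfl⟩ := (x • ⊤ : Submodule R M).mkQ_surjective y
        have h1 : Ideal.Quotient.mk x a • (x • ⊤ : Submodule R M).mkQ m' =
            (x • ⊤ : Submodule R M).mkQ (a • m') := rfl
        rw [h1, phiBar_mk, map_smul, smul_eq_mul, map_mul]
        rw [phiBar_mk] at hy
        rw [hy, mul_zero]
    have := key _ h
    rw [phiBar_mk] at this
    exact Ideal.Quotient.eq_zero_iff_mem.mp this
  · intro h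
    exact Submodule.subset_span ⟨m, h, rfl⟩

theorem sum_eq {r : ℕ} (s : Fin r → M) (a : Fin r → R) :
    ∑ i, Ideal.Quotient.mk x (a i) •
      (Submodule.span (R ⧸ x)
        ((x • ⊤ : Submodule R M).mkQ '' {m : M | ∀ φ : M →ₗ[R] R, φ m ∈ x})).mkQ
          ((x • ⊤ : Submodule R M).mkQ (s i)) =
    (Submodule.span (R ⧸ x)
        ((x • ⊤ : Submodule R M).mkQ '' {m : M | ∀ φ : M →ₗ[R] R, φ m ∈ x})).mkQ
          ((x • ⊤ : Submodule R M).mkQ (∑ i, a i • s i)) := by
  rw [map_sum, map_sum]
  refine Finset.sum_congr rfl fun i _ => ?_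
  rw [← map_smul]
  rfl

theorem li_iff {r : ℕ} (s : Fin r → M) :
    LinearIndependent (R ⧸ x) (fun i =>
      (Submodule.span (R ⧸ x)
        ((x • ⊤ : Submodule R M).mkQ '' {m : M | ∀ φ : M →ₗ[R] R, φ m ∈ x})).mkQ
          ((x • ⊤ : Submodule R M).mkQ (s i))) ↔
    ∀ a : Fin r → R, (∀ φ : M →ₗ[R] R, φ (∑ i, a i • s i) ∈ x) → ∀ i, a i ∈ x := by
  rw [Fintype.linearIndependent_iff]
  constructor
  · intro h a ha i
    have h1 := h (fun i => Ideal.Quotient.mk x (a i)) (by
      rw [sum_eq, Submodule.mkQ_apply, Submodule.Quotient.mk_eq_zero, mem_Bx_iff]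
      exact ha)
    exact Ideal.Quotient.eq_zero_iff_mem.mp (h1 i)
  · intro h c hc i
    have hsurj : ∀ i, ∃ a : R, Ideal.Quotient.mk x a = c i :=
      fun i => Ideal.Quotient.mk_surjective (c i)
    choose a ha using hsurj
    have hc' : ∑ i, Ideal.Quotient.mk x (a i) •
      (Submodule.span (R ⧸ x)
        ((x • ⊤ : Submodule R M).mkQ '' {m : M | ∀ φ : M →ₗ[R] R, φ m ∈ x})).mkQ
          ((x • ⊤ : Submodule R M).mkQ (s i)) = 0 := by
      rw [← hc]
      refine Finset.sum_congr rfl fun i _ => ?_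
      rw [ha]
    rw [sum_eq, Submodule.mkQ_apply, Submodule.Quotient.mk_eq_zero, mem_Bx_iff] at hc'
    rw [← ha i]
    exact Ideal.Quotient.eq_zero_iff_mem.mpr (h a hc' i)

end

section dir1

variable {R : Type u} [CommRing R] {M : Type u} [AddCommGroup M] [Module R M]
  [Module.FinitePresentation R M] (x : Ideal R) [x.IsMaximal]

theorem dir1 {r : ℕ} (s : Fin r → M) (f : R) (hf : f ∉ x)
    (g : LocalizedModule (Submonoid.powers f) M →ₗ[Localization.Away f]
      (Fin r → Localization.Away f))
    (hg : g ∘ₗ Fintype.linearCombination (Localization.Away f)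
            (fun i => LocalizedModule.mkLinearMap (Submonoid.powers f) M (s i)) = LinearMap.id)
    (a : Fin r → R) (ha : ∀ φ : M →ₗ[R] R, φ (∑ i, a i • s i) ∈ x) (j : Fin r) : a j ∈ x := by
  classical
  have hpow : ∀ c ∈ Submonoid.powers f, c ∉ x := by
    rintro c ⟨n, rfl⟩ hc
    exact hf (Ideal.IsPrime.mem_of_pow_mem inferInstance n hc)
  set ι := LocalizedModule.mkLinearMap (Submonoid.powers f) M with hι
  have hgs : ∀ i, g (ι (s i)) = Pi.single i 1 := by
    intro i
    have := LinearMap.congr_fun hg (Pi.single i 1)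
    simpa using this
  let gj : M →ₗ[R] Localization.Away f :=
    ((LinearMap.proj j ∘ₗ g).restrictScalars R) ∘ₗ ι
  obtain ⟨φ, t, hφ⟩ := Module.FinitePresentation.exists_lift_of_isLocalizedModule
    (Submonoid.powers f) (Algebra.linearMap R (Localization.Away f)) gj
  have h1 := LinearMap.congr_fun hφ (∑ i, a i • s i)
  have h2 : gj (∑ i, a i • s i) = algebraMap R (Localization.Away f) (a j) := by
    simp only [gj, map_sum, map_smul, LinearMap.comp_apply, LinearMap.restrictScalars_apply,
      LinearMap.proj_apply, hgs, Finset.sum_apply, Pi.smul_apply, Pi.single_apply]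
    simp [Algebra.smul_def]
  rw [LinearMap.comp_apply, LinearMap.smul_apply, h2, Algebra.linearMap_apply,
    Submonoid.smul_def, Algebra.smul_def, ← map_mul] at h1
  obtain ⟨c, hc⟩ := (IsLocalization.eq_iff_exists (Submonoid.powers f) _).mp h1
  have h3 : (c : R) * ((t : R) * a j) ∈ x := by
    rw [← hc]; exact x.mul_mem_left _ (ha φ)
  rcases Ideal.IsPrime.mem_or_mem inferInstance h3 with h | h
  · exact absurd h (hpow _ c.2)
  · rcases Ideal.IsPrime.mem_or_mem inferInstance h with h | h
    · exact absurd h (hpow _ t.2)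
    · exact h

end dir1

section dir2

variable {R : Type u} [CommRing R] {M : Type u} [AddCommGroup M] [Module R M]
  (x : Ideal R) [x.IsMaximal]

theorem exists_dual_family {r : ℕ} (s : Fin r → M)
    (h : ∀ a : Fin r → R, (∀ φ : M →ₗ[R] R, φ (∑ i, a i • s i) ∈ x) → ∀ i, a i ∈ x) :
    ∃ φ : Fin r → (M →ₗ[R] R), ∀ j i, Ideal.Quotient.mk x (φ j (s i)) = if i = j then 1 else 0 := by
  classical
  letI : Field (R ⧸ x) := Ideal.Quotient.field x
  let ev : (M →ₗ[R] R) → (Fin r → R ⧸ x) := fun φ i => Ideal.Quotient.mk x (φ (s i))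
  let W : Submodule (R ⧸ x) (Fin r → R ⧸ x) :=
    { carrier := Set.range ev
      add_mem' := by
        rintro _ _ ⟨φ, rfl⟩ ⟨ψ, rfl⟩
        exact ⟨φ + ψ, by funext i; simp [ev]⟩
      zero_mem' := ⟨0, by funext i; simp [ev]⟩
      smul_mem' := by
        rintro c _ ⟨φ, rfl⟩
        obtain ⟨a, rfl⟩ := Ideal.Quotient.mk_surjective c
        exact ⟨a • φ, by funext i; simp [ev]⟩ }
  have hW : W = ⊤ := by
    by_contra hne
    obtain ⟨l, hl0, hl⟩ := Submodule.exists_le_ker_of_lt_top W (lt_top_iff_ne_top.mpr hne)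
    have hsurj : ∀ i, ∃ a : R, Ideal.Quotient.mk x a = l (fun j => if i = j then 1 else 0) :=
      fun i => Ideal.Quotient.mk_surjective _
    choose a ha using hsurj
    have hmem : ∀ φ : M →ₗ[R] R, φ (∑ i, a i • s i) ∈ x := by
      intro φ
      rw [← Ideal.Quotient.eq_zero_iff_mem]
      have h1 : l (ev φ) = 0 := hl ⟨φ, rfl⟩
      rw [LinearMap.pi_apply_eq_sum_univ] at h1
      rw [← h1, map_sum, map_sum]
      refine Finset.sum_congr rfl fun i _ => ?_
      rw [map_smul, smul_eq_mul, map_mul, ha, smul_eq_mul, mul_comm]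
    have ha0 := h a hmem
    apply hl0
    apply LinearMap.ext
    intro c
    rw [LinearMap.pi_apply_eq_sum_univ, LinearMap.zero_apply]
    refine Finset.sum_eq_zero fun i _ => ?_
    rw [← ha, Ideal.Quotient.eq_zero_iff_mem.mpr (ha0 i), smul_zero]
  have hmem : ∀ j : Fin r, (fun i => if i = j then (1 : R ⧸ x) else 0) ∈ W := by
    intro j; rw [hW]; trivial
  choose φ hφ using hmem
  refine ⟨φ, fun j i => ?_⟩
  exact congrFun (hφ j) i

theorem dir2 {r : ℕ} (s : Fin r → M)
    (h : ∀ a : Fin r → R, (∀ φ : M →ₗ[R] R, φ (∑ i, a i • s i) ∈ x) → ∀ i, a i ∈ x) :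
    ∃ f : R, f ∉ x ∧
      ∃ g : LocalizedModule (Submonoid.powers f) M →ₗ[Localization.Away f] (Fin r → Localization.Away f),
        g ∘ₗ Fintype.linearCombination (Localization.Away f)
            (fun i => LocalizedModule.mkLinearMap (Submonoid.powers f) M (s i)) = LinearMap.id := by
  classical
  obtain ⟨φ, hφ⟩ := exists_dual_family x s h
  let A : Matrix (Fin r) (Fin r) R := Matrix.of fun j i => φ j (s i)
  have hdet : Ideal.Quotient.mk x A.det = 1 := by
    rw [RingHom.map_det]
    have : (Ideal.Quotient.mk x).mapMatrix A = 1 := by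
      ext j i
      simp only [RingHom.mapMatrix_apply, Matrix.map_apply, A, Matrix.of_apply, hφ,
        Matrix.one_apply]
      by_cases hij : i = j
      · simp [hij]
      · simp [hij, Ne.symm hij]
    rw [this, Matrix.det_one]
  have hne : (1 : R ⧸ x) ≠ 0 := by
    haveI : Nontrivial (R ⧸ x) := Ideal.Quotient.nontrivial_iff.mpr (Ideal.IsMaximal.ne_top ‹_›)
    exact one_ne_zero
  refine ⟨A.det, fun hmem => hne ?_, ?_⟩
  · rw [← hdet]; exact Ideal.Quotient.eq_zero_iff_mem.mpr hmem
  set f := A.det with hf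
  set ι := LocalizedModule.mkLinearMap (Submonoid.powers f) M with hι
  let A' : Matrix (Fin r) (Fin r) (Localization.Away f) :=
    (algebraMap R (Localization.Away f)).mapMatrix A
  have hA' : IsUnit A'.det := by
    simp only [A']
    rw [← RingHom.map_det]
    exact IsLocalization.Away.algebraMap_isUnit f
  let G : LocalizedModule (Submonoid.powers f) M →ₗ[Localization.Away f]
      (Fin r → Localization.Away f) :=
    LinearMap.pi fun j => IsLocalizedModule.mapExtendScalars (Submonoid.powers f) ι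
      (Algebra.linearMap R (Localization.Away f)) (Localization.Away f) (φ j)
  have hG : ∀ m : M, G (ι m) = fun j => algebraMap R (Localization.Away f) (φ j m) := by
    intro m
    funext j
    simp only [G, LinearMap.pi_apply, IsLocalizedModule.mapExtendScalars_apply_apply]
    rw [IsLocalizedModule.map_apply]
    rfl
  refine ⟨(Matrix.toLin' A'⁻¹) ∘ₗ G, ?_⟩
  apply LinearMap.ext
  intro c
  simp only [LinearMap.comp_apply, Fintype.linearCombination_apply, map_sum, map_smul,
    LinearMap.id_apply]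
  have h1 : ∑ i, c i • G (ι (s i)) = A'.mulVec c := by
    funext j
    simp only [hG, Finset.sum_apply, Pi.smul_apply, smul_eq_mul, Matrix.mulVec, dotProduct,
      A', RingHom.mapMatrix_apply, Matrix.map_apply, A, Matrix.of_apply]
    refine Finset.sum_congr rfl fun i _ => ?_
    rw [mul_comm]
  have h2 : ∑ i, c i • (Matrix.toLin' A'⁻¹) (G (ι (s i))) =
      (Matrix.toLin' A'⁻¹) (∑ i, c i • G (ι (s i))) := by
    rw [map_sum]
    simp only [map_smul]
  rw [h2, h1, Matrix.toLin'_apply, Matrix.mulVec_mulVec, Matrix.nonsing_inv_mul _ hA',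
    Matrix.one_mulVec]

end dir2

/-- Let R be a ring, M a finitely presented R-module and x a maximal ideal of R with residue field κ(x);
write M(x) = M/xM and let B(x) ⊆ M(x) be the orthogonal of the image of Hom_R(M, R) in the dual of
M(x), i.e. the classes of those m in M with φ(m) in x for every linear form φ on M, and V(x) =
M(x)/B(x). For s_1, ..., s_r in M the following are equivalent: (1) there is f in R, f not in x,
such that the map R_f^r → M_f given by the s_i is the inclusion of a direct summand; (2) the images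
of s_1, ..., s_r in V(x) are linearly independent over κ(x). -/
theorem result (R : Type u) [CommRing R] (M : Type u)
    [AddCommGroup M] [Module R M] [Module.FinitePresentation R M] (x : Ideal R) [x.IsMaximal]
    (r : ℕ) (s : Fin r → M) :
    let Mx := M ⧸ (x • ⊤ : Submodule R M)
    let Bx : Submodule (R ⧸ x) Mx :=
      Submodule.span (R ⧸ x) ((x • ⊤ : Submodule R M).mkQ '' {m : M | ∀ φ : M →ₗ[R] R, φ m ∈ x})
    (∃ f : R, f ∉ x ∧
      ∃ g : LocalizedModule (Submonoid.powers f) M →ₗ[Localization.Away f] (Fin r → Localization.Away f),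
        g ∘ₗ Fintype.linearCombination (Localization.Away f)
            (fun i => LocalizedModule.mkLinearMap (Submonoid.powers f) M (s i)) = LinearMap.id) ↔
    LinearIndependent (R ⧸ x) (fun i => Bx.mkQ ((x • ⊤ : Submodule R M).mkQ (s i))) := by
  intro Mx Bx
  rw [show LinearIndependent (R ⧸ x) (fun i => Bx.mkQ ((x • ⊤ : Submodule R M).mkQ (s i))) ↔
    ∀ a : Fin r → R, (∀ φ : M →ₗ[R] R, φ (∑ i, a i • s i) ∈ x) → ∀ i, a i ∈ x from li_iff x s]
  constructor
  · rintro ⟨f, hf, g, hg⟩ a ha j
    exact dir1 x s f hf g hg a ha j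
  · intro h
    exact dir2 x s h

end Groth.Agent.S7147
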