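import Groth.Statements.S7148
import Groth.Agent.H6.ExtPC

set_option autoImplicit false
universe u
open CategoryTheory
attribute [local instance] HasDerivedCategory.standard
open CAlg

namespace Groth.Agent.S7148

open Groth.Agent.H6.ExtPC Pretriangulated

variable {A : Type u} [CommRing A]

/-- The factorisation statement with `Iⁿ` on the source and `Iᵐ` on the target. -/
def Stm (I : Ideal A) (M N : Type u) [AddCommGroup M] [Module A M] [AddCommGroup N] [Module A N]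
    (p n m : ℕ) : Prop :=
  ∀ e : Dual.inD A M ⟶ (Dual.inD A N)⟦(p : ℤ)⟧,
    ∃ e' : Dual.inD A ↥(I ^ n • ⊤ : Submodule A M) ⟶
        (Dual.inD A ↥(I ^ m • ⊤ : Submodule A N))⟦(p : ℤ)⟧,
      e' ≫ ((DerivedCategory.singleFunctor (ModuleCat.{u} A) 0).map
              (ModuleCat.ofHom (I ^ m • ⊤ : Submodule A N).subtype))⟦(p : ℤ)⟧' =
        (DerivedCategory.singleFunctor (ModuleCat.{u} A) 0).map
            (ModuleCat.ofHom (I ^ n • ⊤ : Submodule A M).subtype) ≫ e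

/-- The short complex `0 → ker g → X → Y → 0`. -/
noncomputable abbrev sesK {X Y : Type u} [AddCommGroup X] [Module A X] [AddCommGroup Y]
    [Module A Y] (g : X →ₗ[A] Y) : ShortComplex (ModuleCat.{u} A) :=
  ShortComplex.mk (ModuleCat.ofHom (LinearMap.ker g).subtype) (ModuleCat.ofHom g) (by
    ext x
    exact LinearMap.mem_ker.mp x.2)

lemma sesK_shortExact {X Y : Type u} [AddCommGroup X] [Module A X] [AddCommGroup Y]
    [Module A Y] (g : X →ₗ[A] Y) (hg : Function.Surjective g) : (sesK g).ShortExact := by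
  haveI : Mono (sesK g).f :=
    (ModuleCat.mono_iff_injective _).mpr (LinearMap.ker g).injective_subtype
  haveI : Epi (sesK g).g := (ModuleCat.epi_iff_surjective _).mpr hg
  exact ShortComplex.ShortExact.mk ((ShortComplex.moduleCat_exact_iff_range_eq_ker _).mpr (by
    show LinearMap.range (LinearMap.ker g).subtype = LinearMap.ker g
    rw [Submodule.range_subtype]))

lemma hom_eq_zero_of_projective (P Y : ModuleCat.{u} A) [Projective P] (n : ℕ)
    (f : (DerivedCategory.singleFunctor (ModuleCat.{u} A) 0).obj P ⟶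
      ((DerivedCategory.singleFunctor (ModuleCat.{u} A) 0).obj Y)⟦((n + 1 : ℕ) : ℤ)⟧) : f = 0 := by
  let x : Abelian.Ext.{u} P Y (n + 1) := Abelian.Ext.homEquiv.symm f
  have hx : x = 0 := Abelian.Ext.eq_zero_of_projective x
  have h2 : Abelian.Ext.homEquiv x = f := Equiv.apply_symm_apply _ _
  rw [← h2, hx]
  exact Abelian.Ext.zero_hom P Y (n + 1)

section Assemble

variable {C : Type*} [Category C] [HasShift C ℤ]

lemma assemble (a ab : ℤ) (h : a + 1 = ab) (Mn M Kn K' K X Y : C)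
    (iM : Mn ⟶ M) (δn : Mn ⟶ Kn⟦(1 : ℤ)⟧) (δ : M ⟶ K⟦(1 : ℤ)⟧) (ι : Kn ⟶ K) (j : Kn ⟶ K')
    (s : K' ⟶ K) (hι : ι = j ≫ s) (hδ : δn ≫ ι⟦(1 : ℤ)⟧' = iM ≫ δ) (f : X ⟶ Y)
    (g : K⟦(1 : ℤ)⟧ ⟶ Y⟦ab⟧) (g₀ : K ⟶ Y⟦a⟧)
    (hg₀ : g₀⟦(1 : ℤ)⟧' = g ≫ (shiftFunctorAdd' C a 1 ab h).hom.app Y)
    (g₀' : K' ⟶ X⟦a⟧) (hg₀' : g₀' ≫ f⟦a⟧' = s ≫ g₀) (e : M ⟶ Y⟦ab⟧) (he : e = δ ≫ g) :
    (δn ≫ (j ≫ g₀')⟦(1 : ℤ)⟧' ≫ (shiftFunctorAdd' C a 1 ab h).inv.app X) ≫ f⟦ab⟧' = iM ≫ e := by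
  have nat : (shiftFunctorAdd' C a 1 ab h).inv.app X ≫ f⟦ab⟧' =
      (f⟦a⟧')⟦(1 : ℤ)⟧' ≫ (shiftFunctorAdd' C a 1 ab h).inv.app Y :=
    ((shiftFunctorAdd' C a 1 ab h).inv.naturality f).symm
  have h4 : (j ≫ g₀') ≫ f⟦a⟧' = ι ≫ g₀ := by
    rw [Category.assoc, hg₀', hι, Category.assoc]
  calc (δn ≫ (j ≫ g₀')⟦(1 : ℤ)⟧' ≫ (shiftFunctorAdd' C a 1 ab h).inv.app X) ≫ f⟦ab⟧'
      = δn ≫ (j ≫ g₀')⟦(1 : ℤ)⟧' ≫ ((shiftFunctorAdd' C a 1 ab h).inv.app X ≫ f⟦ab⟧') := by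
        simp only [Category.assoc]
    _ = δn ≫ (j ≫ g₀')⟦(1 : ℤ)⟧' ≫ (f⟦a⟧')⟦(1 : ℤ)⟧' ≫
          (shiftFunctorAdd' C a 1 ab h).inv.app Y := by rw [nat]
    _ = δn ≫ ((j ≫ g₀') ≫ f⟦a⟧')⟦(1 : ℤ)⟧' ≫ (shiftFunctorAdd' C a 1 ab h).inv.app Y := by
        simp only [Functor.map_comp, Category.assoc]
    _ = δn ≫ (ι ≫ g₀)⟦(1 : ℤ)⟧' ≫ (shiftFunctorAdd' C a 1 ab h).inv.app Y := by rw [h4]
    _ = (δn ≫ ι⟦(1 : ℤ)⟧') ≫ g₀⟦(1 : ℤ)⟧' ≫ (shiftFunctorAdd' C a 1 ab h).inv.app Y := by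
        simp only [Functor.map_comp, Category.assoc]
    _ = (iM ≫ δ) ≫ (g ≫ (shiftFunctorAdd' C a 1 ab h).hom.app Y) ≫
          (shiftFunctorAdd' C a 1 ab h).inv.app Y := by rw [hδ, hg₀]
    _ = iM ≫ e := by
        rw [he, Category.assoc, Category.assoc, Iso.hom_inv_id_app, Category.comp_id]

end Assemble

lemma base (I : Ideal A) (M N : Type u) [AddCommGroup M] [Module A M] [AddCommGroup N]
    [Module A N] (m : ℕ) : Stm I M N 0 m m := by
  unfold Stm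
  intro e
  let z := shiftFunctorZero' (Dual.D A) (((0 : ℕ) : ℤ)) (by simp)
  obtain ⟨φc, hφ⟩ := (DerivedCategory.singleFunctor (ModuleCat.{u} A) 0).map_surjective
    (X := ModuleCat.of A M) (Y := ModuleCat.of A N) (e ≫ z.hom.app (Dual.inD A N))
  let φm : ↥(I ^ m • ⊤ : Submodule A M) →ₗ[A] ↥(I ^ m • ⊤ : Submodule A N) :=
    LinearMap.codRestrict _ (φc.hom ∘ₗ (I ^ m • ⊤ : Submodule A M).subtype)
      (fun x => map_mem_smul_top φc.hom (I ^ m) x.2)
  have hcomm : ModuleCat.ofHom φm ≫ ModuleCat.ofHom (I ^ m • ⊤ : Submodule A N).subtype =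
      ModuleCat.ofHom (I ^ m • ⊤ : Submodule A M).subtype ≫ φc := by
    ext x
    rfl
  have he : e = (DerivedCategory.singleFunctor (ModuleCat.{u} A) 0).map φc ≫
      z.inv.app (Dual.inD A N) := by
    rw [hφ, Category.assoc, Iso.hom_inv_id_app, Category.comp_id]
  have nat' : z.inv.app (Dual.inD A ↥(I ^ m • ⊤ : Submodule A N)) ≫
        ((DerivedCategory.singleFunctor (ModuleCat.{u} A) 0).map
          (ModuleCat.ofHom (I ^ m • ⊤ : Submodule A N).subtype))⟦((0 : ℕ) : ℤ)⟧' =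
      (DerivedCategory.singleFunctor (ModuleCat.{u} A) 0).map
          (ModuleCat.ofHom (I ^ m • ⊤ : Submodule A N).subtype) ≫ z.inv.app (Dual.inD A N) :=
    (z.inv.naturality _).symm
  refine ⟨(DerivedCategory.singleFunctor (ModuleCat.{u} A) 0).map (ModuleCat.ofHom φm) ≫
    z.inv.app (Dual.inD A ↥(I ^ m • ⊤ : Submodule A N)), ?_⟩
  rw [Category.assoc, nat', ← Category.assoc, ← Functor.map_comp, hcomm, Functor.map_comp,
    Category.assoc, ← he]

section Step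

variable {F M : Type u} [AddCommGroup F] [Module A F] [AddCommGroup M] [Module A M]
  (I : Ideal A) (π : F →ₗ[A] M) (n : ℕ)

/-- The restriction `IⁿF → IⁿM` of `π`. -/
def resπ : ↥(I ^ n • ⊤ : Submodule A F) →ₗ[A] ↥(I ^ n • ⊤ : Submodule A M) :=
  LinearMap.codRestrict _ (π ∘ₗ (I ^ n • ⊤ : Submodule A F).subtype)
    (fun x => map_mem_smul_top π (I ^ n) x.2)

lemma resπ_surjective (hπ : Function.Surjective π) : Function.Surjective (resπ I π n) := by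
  rintro ⟨y, hy⟩
  have hy' : y ∈ (I ^ n • (⊤ : Submodule A F)).map π := by
    rw [Submodule.map_smul'', Submodule.map_top, LinearMap.range_eq_top.mpr hπ]
    exact hy
  obtain ⟨x, hx, hxy⟩ := Submodule.mem_map.mp hy'
  exact ⟨⟨x, hx⟩, Subtype.ext hxy⟩

/-- `ker (IⁿF → IⁿM) → ker π`. -/
def kerι : ↥(LinearMap.ker (resπ I π n)) →ₗ[A] ↥(LinearMap.ker π) :=
  LinearMap.codRestrict _
    ((I ^ n • ⊤ : Submodule A F).subtype ∘ₗ (LinearMap.ker (resπ I π n)).subtype)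
    (fun x => by
      have hx : resπ I π n x.1 = 0 := LinearMap.mem_ker.mp x.2
      have hx' : π ((x.1 : ↥(I ^ n • ⊤ : Submodule A F)) : F) = 0 := congrArg Subtype.val hx
      exact LinearMap.mem_ker.mpr hx')

lemma kerι_mem (c₂ d : ℕ)
    (hAR : I ^ n • ⊤ ⊓ LinearMap.ker π = I ^ (n - c₂) • (I ^ c₂ • ⊤ ⊓ LinearMap.ker π))
    (hd : n - c₂ = d) (x : ↥(LinearMap.ker (resπ I π n))) :
    kerι I π n x ∈ (I ^ d • ⊤ : Submodule A ↥(LinearMap.ker π)) := by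
  have hx1 : ((kerι I π n x : ↥(LinearMap.ker π)) : F) ∈
      (I ^ n • ⊤ ⊓ LinearMap.ker π : Submodule A F) :=
    Submodule.mem_inf.mpr ⟨x.1.2, (kerι I π n x).2⟩
  rw [hAR, hd] at hx1
  have hx2 : ((kerι I π n x : ↥(LinearMap.ker π)) : F) ∈
      (I ^ d • LinearMap.ker π : Submodule A F) :=
    Submodule.smul_mono le_rfl inf_le_right hx1
  have hx3 : ((kerι I π n x : ↥(LinearMap.ker π)) : F) ∈
      (I ^ d • (⊤ : Submodule A ↥(LinearMap.ker π))).map (LinearMap.ker π).subtype := by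
    rw [Submodule.map_smul'', Submodule.map_top, Submodule.range_subtype]
    exact hx2
  obtain ⟨y, hy, hyx⟩ := Submodule.mem_map.mp hx3
  have hyy : y = kerι I π n x := Subtype.ext hyx
  rw [← hyy]
  exact hy

/-- The morphism of short exact sequences from `0 → ker → IⁿF → IⁿM → 0` to
`0 → ker π → F → M → 0`. -/
noncomputable def sesMap : sesK (resπ I π n) ⟶ sesK π :=
  ShortComplex.homMk (S₁ := sesK (resπ I π n)) (S₂ := sesK π)
    (ModuleCat.ofHom (kerι I π n)) (ModuleCat.ofHom (I ^ n • ⊤ : Submodule A F).subtype)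
    (ModuleCat.ofHom (I ^ n • ⊤ : Submodule A M).subtype) (by ext x; rfl) (by ext x; rfl)

lemma δ_comm (hπ : Function.Surjective π) :
    (sesK_shortExact (resπ I π n) (resπ_surjective I π n hπ)).singleδ ≫
      ((DerivedCategory.singleFunctor (ModuleCat.{u} A) 0).map
        (ModuleCat.ofHom (kerι I π n)))⟦(1 : ℤ)⟧' =
    (DerivedCategory.singleFunctor (ModuleCat.{u} A) 0).map
      (ModuleCat.ofHom (I ^ n • ⊤ : Submodule A M).subtype) ≫
        (sesK_shortExact π hπ).singleδ :=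
  (ShortComplex.ShortExact.singleTriangle.map
    (sesK_shortExact (resπ I π n) (resπ_surjective I π n hπ))
    (sesK_shortExact π hπ) (sesMap I π n)).comm₃

end Step

theorem step (I : Ideal A) (N : Type u) [AddCommGroup N] [Module A N] (k : ℕ)
    {F M : Type u} [AddCommGroup F] [Module A F] [Module.Projective A F]
    [AddCommGroup M] [Module A M] (π : F →ₗ[A] M) (hπ : Function.Surjective π)
    (c₁ c₂ : ℕ) (ih : ∀ m, Stm I ↥(LinearMap.ker π) N k (m + c₁) m)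
    (hAR : ∀ n ≥ c₂,
      I ^ n • ⊤ ⊓ LinearMap.ker π = I ^ (n - c₂) • (I ^ c₂ • ⊤ ⊓ LinearMap.ker π))
    (m : ℕ) : Stm I M N (k + 1) (m + (c₁ + c₂)) m := by
  unfold Stm
  intro e
  haveI : Projective (ModuleCat.of A F) := (IsProjective.iff_projective F).mp inferInstance
  have hS := sesK_shortExact π hπ
  have hz : (DerivedCategory.singleFunctor (ModuleCat.{u} A) 0).map (ModuleCat.ofHom π) ≫ e = 0 :=
    hom_eq_zero_of_projective (ModuleCat.of A F) (ModuleCat.of A N) k _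
  obtain ⟨g, hg⟩ : ∃ g : (Dual.inD A ↥(LinearMap.ker π))⟦(1 : ℤ)⟧ ⟶
      (Dual.inD A N)⟦((k + 1 : ℕ) : ℤ)⟧, e = hS.singleδ ≫ g :=
    Triangle.yoneda_exact₃ _ hS.singleTriangle_distinguished e hz
  have hab : (k : ℤ) + 1 = ((k + 1 : ℕ) : ℤ) := by omega
  let g₀ : Dual.inD A ↥(LinearMap.ker π) ⟶ (Dual.inD A N)⟦(k : ℤ)⟧ :=
    (shiftFunctor (Dual.D A) (1 : ℤ)).preimage
      (g ≫ (shiftFunctorAdd' (Dual.D A) (k : ℤ) 1 ((k + 1 : ℕ) : ℤ) hab).hom.app (Dual.inD A N))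
  have hg₀ : g₀⟦(1 : ℤ)⟧' =
      g ≫ (shiftFunctorAdd' (Dual.D A) (k : ℤ) 1 ((k + 1 : ℕ) : ℤ) hab).hom.app (Dual.inD A N) :=
    Functor.map_preimage _ _
  obtain ⟨g₀', hg₀'⟩ := ih m g₀
  have hmem := kerι_mem I π (m + (c₁ + c₂)) c₂ (m + c₁) (hAR _ (by omega)) (by omega)
  let j : ↥(LinearMap.ker (resπ I π (m + (c₁ + c₂)))) →ₗ[A]
      ↥(I ^ (m + c₁) • ⊤ : Submodule A ↥(LinearMap.ker π)) :=
    LinearMap.codRestrict _ (kerι I π (m + (c₁ + c₂))) hmem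
  have hι : (DerivedCategory.singleFunctor (ModuleCat.{u} A) 0).map
        (ModuleCat.ofHom (kerι I π (m + (c₁ + c₂)))) =
      (DerivedCategory.singleFunctor (ModuleCat.{u} A) 0).map (ModuleCat.ofHom j) ≫
        (DerivedCategory.singleFunctor (ModuleCat.{u} A) 0).map
          (ModuleCat.ofHom (I ^ (m + c₁) • ⊤ : Submodule A ↥(LinearMap.ker π)).subtype) := by
    rw [← Functor.map_comp]
    rfl
  exact ⟨_, assemble (k : ℤ) ((k + 1 : ℕ) : ℤ) hab
    (Dual.inD A ↥(I ^ (m + (c₁ + c₂)) • ⊤ : Submodule A M)) (Dual.inD A M)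
    (Dual.inD A ↥(LinearMap.ker (resπ I π (m + (c₁ + c₂)))))
    (Dual.inD A ↥(I ^ (m + c₁) • ⊤ : Submodule A ↥(LinearMap.ker π)))
    (Dual.inD A ↥(LinearMap.ker π))
    (Dual.inD A ↥(I ^ m • ⊤ : Submodule A N)) (Dual.inD A N)
    ((DerivedCategory.singleFunctor (ModuleCat.{u} A) 0).map
      (ModuleCat.ofHom (I ^ (m + (c₁ + c₂)) • ⊤ : Submodule A M).subtype))
    (sesK_shortExact (resπ I π (m + (c₁ + c₂))) (resπ_surjective I π _ hπ)).singleδ
    hS.singleδ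
    ((DerivedCategory.singleFunctor (ModuleCat.{u} A) 0).map
      (ModuleCat.ofHom (kerι I π (m + (c₁ + c₂)))))
    ((DerivedCategory.singleFunctor (ModuleCat.{u} A) 0).map (ModuleCat.ofHom j))
    ((DerivedCategory.singleFunctor (ModuleCat.{u} A) 0).map
      (ModuleCat.ofHom (I ^ (m + c₁) • ⊤ : Submodule A ↥(LinearMap.ker π)).subtype))
    hι (δ_comm I π (m + (c₁ + c₂)) hπ)
    ((DerivedCategory.singleFunctor (ModuleCat.{u} A) 0).map
      (ModuleCat.ofHom (I ^ m • ⊤ : Submodule A N).subtype))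
    g g₀ hg₀ g₀' hg₀' e hg⟩

theorem main [IsNoetherianRing A] (I : Ideal A) (N : Type u) [AddCommGroup N] [Module A N]
    (p : ℕ) :
    ∀ (M : Type u) [AddCommGroup M] [Module A M] [Module.Finite A M],
      ∃ c : ℕ, ∀ m : ℕ, Stm I M N p (m + c) m := by
  induction p with
  | zero =>
    intro M _ _ _
    exact ⟨0, fun m => base I M N m⟩
  | succ k ih =>
    intro M _ _ _
    obtain ⟨r, π, hπ⟩ := Module.Finite.exists_fin' A M
    haveI : Module.Finite A ↥(LinearMap.ker π) :=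
      Module.Finite.iff_fg.mpr (IsNoetherian.noetherian _)
    obtain ⟨c₁, hc₁⟩ := ih ↥(LinearMap.ker π)
    obtain ⟨c₂, hc₂⟩ := Ideal.exists_pow_inf_eq_pow_smul I (LinearMap.ker π)
    exact ⟨c₁ + c₂, fun m => step I N k π hπ c₁ c₂ hc₁ hc₂ m⟩

/-- Let A be a Noetherian ring, I an ideal, M a finite A-module and N any A-module. For every p > 0
there is c ≥ 0 such that for all n ≥ c the map Ext^p_A(M, N) → Ext^p_A(IⁿM, N) factors through
Ext^p_A(IⁿM, I^(n-c)N) → Ext^p_A(IⁿM, N). Here Ext^p(X, Y) is the group of morphisms X → Y[p] in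
D(A). -/
theorem result (A : Type u) [CommRing A] [IsNoetherianRing A] (I : Ideal A)
    (M N : Type u) [AddCommGroup M] [Module A M] [Module.Finite A M] [AddCommGroup N] [Module A N]
    (p : ℕ) (hp : 0 < p) :
    ∃ c : ℕ, ∀ n : ℕ, c ≤ n →
      ∀ e : Dual.inD A M ⟶ (Dual.inD A N)⟦(p : ℤ)⟧,
        ∃ e' : Dual.inD A ↥(I ^ n • ⊤ : Submodule A M) ⟶ (Dual.inD A ↥(I ^ (n - c) • ⊤ : Submodule A N))⟦(p : ℤ)⟧,
          e' ≫ ((DerivedCategory.singleFunctor (ModuleCat.{u} A) 0).map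
                  (ModuleCat.ofHom (I ^ (n - c) • ⊤ : Submodule A N).subtype))⟦(p : ℤ)⟧' =
            (DerivedCategory.singleFunctor (ModuleCat.{u} A) 0).map
                (ModuleCat.ofHom (I ^ n • ⊤ : Submodule A M).subtype) ≫ e := by
  obtain ⟨c, hc⟩ := main I N p M
  refine ⟨c, fun n hn => ?_⟩
  have h := hc (n - c)
  rw [Nat.sub_add_cancel hn] at h
  exact h

end Groth.Agent.S7148
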