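import Groth.Statements.S7153
import Mathlib

set_option autoImplicit false
universe u
open CAlg

namespace Groth.Agent.S7153

/-- Let A be a Noetherian ring, I an ideal and K → L → M a complex of finite A-modules with maps α, β
and homology H = Ker β / Im α; for n ≥ 0 let H_n be the homology of the induced complex K/IⁿK →
L/IⁿL → M/IⁿM, which is β⁻¹(IⁿM)/(Im α + IⁿL). Then there is c > 0 such that for every n: (i) the
image of H_(n+c) → H_n is contained in, hence equal to, the image of H → H_n; (ii) the kernel and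
the cokernel of H/IⁿH → H_n are annihilated by I^c. Everything is phrased with representatives in L. -/
theorem result (A : Type u) [CommRing A] [IsNoetherianRing A] (I : Ideal A)
    (K L M : Type u) [AddCommGroup K] [Module A K] [Module.Finite A K] [AddCommGroup L] [Module A L]
    [Module.Finite A L] [AddCommGroup M] [Module A M] [Module.Finite A M]
    (α : K →ₗ[A] L) (β : L →ₗ[A] M) (hαβ : β ∘ₗ α = 0) :
    ∃ c : ℕ, 0 < c ∧ ∀ n : ℕ,
      (∀ y ∈ (I ^ (n + c) • ⊤ : Submodule A M).comap β,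
        ∃ z ∈ LinearMap.ker β, y - z ∈ LinearMap.range α ⊔ (I ^ n • ⊤ : Submodule A L)) ∧
      (∀ z ∈ LinearMap.ker β, z ∈ LinearMap.range α ⊔ (I ^ n • ⊤ : Submodule A L) →
        ∀ a ∈ I ^ c, a • z ∈ LinearMap.range α ⊔ I ^ n • LinearMap.ker β) ∧
      (∀ y ∈ (I ^ n • ⊤ : Submodule A M).comap β, ∀ a ∈ I ^ c,
        ∃ z ∈ LinearMap.ker β, a • y - z ∈ LinearMap.range α ⊔ (I ^ n • ⊤ : Submodule A L)) := by
  obtain ⟨c₁, h₁⟩ := Ideal.exists_pow_inf_eq_pow_smul I (LinearMap.range β)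
  obtain ⟨c₂, h₂⟩ := Ideal.exists_pow_inf_eq_pow_smul I (LinearMap.ker β)
  have key1 : ∀ n : ℕ, ∀ y : L, β y ∈ (I ^ (n + (c₁ + c₂ + 1)) • ⊤ : Submodule A M) →
      ∃ l ∈ (I ^ n • ⊤ : Submodule A L), β y = β l := by
    intro n y hy
    have hge : n + (c₁ + c₂ + 1) ≥ c₁ := by omega
    have hmem : β y ∈ (I ^ (n + (c₁ + c₂ + 1)) • ⊤ ⊓ LinearMap.range β : Submodule A M) :=
      ⟨hy, LinearMap.mem_range_self β y⟩
    rw [h₁ _ hge] at hmem
    have hle : (I ^ (n + (c₁ + c₂ + 1) - c₁) • (I ^ c₁ • ⊤ ⊓ LinearMap.range β) : Submodule A M)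
        ≤ Submodule.map β (I ^ n • ⊤) := by
      calc (I ^ (n + (c₁ + c₂ + 1) - c₁) • (I ^ c₁ • ⊤ ⊓ LinearMap.range β) : Submodule A M)
          ≤ I ^ n • LinearMap.range β :=
            Submodule.smul_mono (Ideal.pow_le_pow_right (by omega)) inf_le_right
        _ = Submodule.map β (I ^ n • ⊤) := by rw [Submodule.map_smul'', Submodule.map_top]
    obtain ⟨l, hl, hl'⟩ := hle hmem
    exact ⟨l, hl, hl'.symm⟩
  have key2 : ∀ n : ℕ, ∀ l : L, l ∈ LinearMap.ker β → l ∈ (I ^ n • ⊤ : Submodule A L) →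
      ∀ a ∈ I ^ (c₁ + c₂ + 1), a • l ∈ (I ^ n • LinearMap.ker β : Submodule A L) := by
    intro n l hlk hln a ha
    by_cases hn : c₂ ≤ n
    · have hmem : l ∈ (I ^ n • ⊤ ⊓ LinearMap.ker β : Submodule A L) := ⟨hln, hlk⟩
      rw [h₂ n hn] at hmem
      have hl2 : l ∈ (I ^ (n - c₂) • LinearMap.ker β : Submodule A L) :=
        Submodule.smul_mono le_rfl inf_le_right hmem
      have h3 : a • l ∈ (I ^ (c₁ + c₂ + 1) • (I ^ (n - c₂) • LinearMap.ker β) : Submodule A L) :=
        Submodule.smul_mem_smul ha hl2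
      rw [← Submodule.mul_smul, ← pow_add] at h3
      exact Submodule.smul_mono (Ideal.pow_le_pow_right (by omega)) le_rfl h3
    · have ha' : a ∈ I ^ n := Ideal.pow_le_pow_right (by omega) ha
      exact Submodule.smul_mem_smul ha' hlk
  have part1 : ∀ n : ℕ, ∀ y ∈ (I ^ (n + (c₁ + c₂ + 1)) • ⊤ : Submodule A M).comap β,
        ∃ z ∈ LinearMap.ker β, y - z ∈ LinearMap.range α ⊔ (I ^ n • ⊤ : Submodule A L) := by
    intro n y hy
    obtain ⟨l, hl, hyl⟩ := key1 n y hy
    refine ⟨y - l, ?_, ?_⟩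
    · rw [LinearMap.mem_ker, map_sub, hyl, sub_self]
    · rw [sub_sub_cancel]
      exact Submodule.mem_sup_right hl
  refine ⟨c₁ + c₂ + 1, by omega, fun n => ⟨part1 n, ?_, ?_⟩⟩
  · intro z hz hz' a ha
    obtain ⟨b, hb, l, hl, rfl⟩ := Submodule.mem_sup.1 hz'
    have hbk : b ∈ LinearMap.ker β := by
      obtain ⟨k, rfl⟩ := hb
      rw [LinearMap.mem_ker]
      exact LinearMap.congr_fun hαβ k
    have hlk : l ∈ LinearMap.ker β := by
      have : l = (b + l) - b := by abel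
      rw [this]
      exact Submodule.sub_mem _ hz hbk
    rw [smul_add]
    exact Submodule.add_mem_sup (Submodule.smul_mem _ a hb) (key2 n l hlk hl a ha)
  · intro y hy a ha
    apply part1 n (a • y)
    rw [Submodule.mem_comap, map_smul]
    have h3 : a • β y ∈ (I ^ (c₁ + c₂ + 1) • (I ^ n • ⊤) : Submodule A M) :=
      Submodule.smul_mem_smul ha hy
    rw [← Submodule.mul_smul, ← pow_add] at h3
    rwa [add_comm n]

end Groth.Agent.S7153
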