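import Groth.Statements.S7155
import Groth.Agent.H47.Epp55Bridge
import Groth.Agent.H47.Epp55Small
import Groth.Agent.H47.Epp55TC
import Groth.Agent.S6332
import Groth.Agent.S7157
import Groth.Agent.H10.TotRamSol

set_option autoImplicit false
universe u
open EtAlg

namespace Groth.Agent.S7155

/-- Let A → B → C be injective local homomorphisms of discrete valuation rings whose fields of fractions
are K ⊆ L ⊆ M, where A → B is weakly unramified, K has characteristic p, M/L is Galois of degree p,
and κ_A, inside κ_B, is exactly the set of elements admitting a pⁿ-th root for every n. Then some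
finite separable extension K₁/K that is totally ramified with respect to A is a weak solution for A
→ C. (The published statement asks for K₁/K Galois; this row asks only that K₁/K be separable, which
is what the printed construction provides.) -/
theorem result (p : ℕ) (hp : p.Prime) (A B C K L M : Type u)
    [CommRing A] [IsDomain A] [IsDiscreteValuationRing A] [CommRing B] [IsDomain B] [IsDiscreteValuationRing B]
    [CommRing C] [IsDomain C] [IsDiscreteValuationRing C]
    [Algebra A B] [Algebra B C] [Algebra A C] [IsScalarTower A B C]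
    (hAB : Function.Injective (algebraMap A B)) (hBC : Function.Injective (algebraMap B C))
    [IsLocalHom (algebraMap A B)] [IsLocalHom (algebraMap B C)]
    [Field K] [Field L] [Field M] [Algebra A K] [IsFractionRing A K] [Algebra B L] [IsFractionRing B L]
    [Algebra C M] [IsFractionRing C M] [Algebra K L] [Algebra L M] [Algebra K M] [IsScalarTower K L M]
    [Algebra A L] [IsScalarTower A K L] [IsScalarTower A B L] [Algebra B M] [IsScalarTower B L M] [IsScalarTower B C M]
    [Algebra A M] [IsScalarTower A K M] [IsScalarTower A C M]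
    (hw : EtRam.IsWeaklyUnramified A B) [CharP K p] [IsGalois L M] (hdeg : Module.finrank L M = p)
    (hk : ∀ x : IsLocalRing.ResidueField B, (∀ n : ℕ, ∃ y : IsLocalRing.ResidueField B, y ^ (p ^ n) = x) ↔
      x ∈ Set.range (algebraMap (IsLocalRing.ResidueField A) (IsLocalRing.ResidueField B))) :
    ∃ (K₁ : Type u) (_ : Field K₁) (_ : Algebra K K₁), FiniteDimensional K K₁ ∧ Algebra.IsSeparable K K₁ ∧
      EtRam.IsTotallyRamified A ((algebraMap K K₁).comp (algebraMap A K)) ∧ EtRam.IsWeakSolution C K M K₁ := by
  classical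
  haveI : Fact p.Prime := ⟨hp⟩
  haveI hfinLM : FiniteDimensional L M :=
    Module.finite_of_finrank_pos (by rw [hdeg]; exact hp.pos)
  haveI hcharL : CharP L p := charP_of_injective_algebraMap (algebraMap K L).injective p
  haveI hcharA : CharP A p := (algebraMap A K).charP (IsFractionRing.injective A K) p
  haveI hcharB : CharP B p := (algebraMap B L).charP (IsFractionRing.injective B L) p
  have hp0A : ((p : ℕ) : IsLocalRing.ResidueField A) = 0 := by
    rw [← map_natCast (IsLocalRing.residue A), CharP.cast_eq_zero A p, map_zero]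
  haveI : CharP (IsLocalRing.ResidueField A) p := (CharP.charP_iff_prime_eq_zero hp).mpr hp0A
  have hp0B : ((p : ℕ) : IsLocalRing.ResidueField B) = 0 := by
    rw [← map_natCast (IsLocalRing.residue B), CharP.cast_eq_zero B p, map_zero]
  haveI : CharP (IsLocalRing.ResidueField B) p := (CharP.charP_iff_prime_eq_zero hp).mpr hp0B
  obtain ⟨π, hπirr⟩ := IsDiscreteValuationRing.exists_irreducible A
  have hπ : IsLocalRing.maximalIdeal A = Ideal.span {π} := hπirr.maximalIdeal_eq
  -- Artin–Schreier generator
  obtain ⟨z, ⟨ξ, hξz⟩, hgen⟩ := Groth.Agent.S6332.result (K := L) (L := M) p hdeg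
  have hz : z ^ p - z = algebraMap L M ξ := hξz.symm
  have hperf := Groth.Agent.H47.Epp55.perfect_residue p hp A B hk
  obtain ⟨w, b₀, η, S, c, i, hξ, hS⟩ :=
    Groth.Agent.H47.Epp55.normalForm p hp A B K L π hπ hw (fun x h => (hk x).mp h) ξ
  rcases S.eq_empty_or_nonempty with hSe | hSne
  · -- no stuck terms: kill the rational part
    subst hSe
    rw [Finset.sum_empty, add_zero] at hξ
    obtain ⟨wK, hcase⟩ := Groth.Agent.H47.Epp55.normalFormK p hp A K π hπ hperf η
    rcases hcase with ⟨a₀, ha₀⟩ | ⟨s, a, hs, hps, hsa⟩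
    · refine ⟨K, inferInstance, Algebra.id K, inferInstance, inferInstance,
        Groth.Agent.H47.Epp55.isTotallyRamified_self A K, ?_⟩
      refine Groth.Agent.H47.Epp55.weakSolution_typeA p hp A B C K L M hAB hBC hw z ξ hz hgen K
        (Groth.Agent.H47.Epp55.isTotallyRamified_self A K) w (b₀ + algebraMap A B a₀)
        (wK ^ p - wK) wK ?_ rfl
      rw [hξ, ha₀, map_add, map_add, ← IsScalarTower.algebraMap_apply A B L,
        IsScalarTower.algebraMap_apply A K L]
      ring
    · obtain ⟨K₁, fK₁, aKK₁, hfin, hsep, htot, y₀, hy₀⟩ :=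
        Groth.Agent.H47.Epp55.exists_AS_ext p hp A K π hπ (η - (wK ^ p - wK)) s a hs hps hsa
      refine ⟨K₁, fK₁, aKK₁, hfin, hsep, htot, ?_⟩
      haveI : CharP K₁ p := charP_of_injective_algebraMap (algebraMap K K₁).injective p
      refine Groth.Agent.H47.Epp55.weakSolution_typeA p hp A B C K L M hAB hBC hw z ξ hz hgen K₁
        htot w b₀ η (y₀ + algebraMap K K₁ wK) hξ ?_
      rw [add_pow_char, add_sub_add_comm, hy₀, ← map_pow, ← map_sub, ← map_add]
      congr 1
      ring
  · -- stuck terms: one large "almost purely inseparable" extension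
    obtain ⟨mstar, hmstar, hmax⟩ := Groth.Agent.H47.Epp55.exists_max_level p hp S i hSne
      (fun m hm => ⟨(hS m hm).1, (hS m hm).2.2⟩)
    obtain ⟨nη, aη, hη⟩ : ∃ (nη : ℕ) (aη : A), η * algebraMap A K π ^ nη = algebraMap A K aη := by
      obtain ⟨j, d, hjd⟩ := Groth.Agent.H10.TotRamSol.exists_pow_mul_eq (D := A) (Q := K) π
        hπirr.ne_zero hπirr.not_isUnit η
      exact ⟨j, d, by rw [mul_comm]; exact hjd⟩
    set N : ℕ := S.sup i + nη + 1 with hNdef
    set n' : ℕ := S.sup id + nη + 2 with hn'def
    have hiN : ∀ m ∈ S, i m < N := fun m hm => by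
      have := Finset.le_sup (f := i) hm
      omega
    have hmn' : ∀ m ∈ S, m < n' := fun m hm => by
      have := Finset.le_sup (f := id) hm
      simp only [id] at this
      omega
    have hNη : nη < p ^ (N - i mstar) := by
      have h1 : nη + 1 ≤ N - i mstar := by
        have := Finset.le_sup (f := i) hmstar
        omega
      calc nη < p ^ nη := Nat.lt_pow_self hp.one_lt
        _ ≤ p ^ (N - i mstar) := Nat.pow_le_pow_right hp.pos (by omega)
    obtain ⟨K₁, fK₁, aKK₁, aAK₁, tAKK₁, hdegK₁, hsep, htot, ϖ, β, β', hϖint, hβint, -, hϖeq, -⟩ :=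
      Groth.Agent.S7157.result p hp A K π hπ n' (by omega) N
    haveI : FiniteDimensional K K₁ :=
      Module.finite_of_finrank_pos (by rw [hdegK₁]; exact pow_pos hp.pos N)
    have htot' : EtRam.IsTotallyRamified A ((algebraMap K K₁).comp (algebraMap A K)) := by
      rw [← IsScalarTower.algebraMap_eq A K K₁]; exact htot
    refine ⟨K₁, fK₁, aKK₁, inferInstance, hsep, htot', ?_⟩
    exact Groth.Agent.H47.Epp55.weakSolution_typeC p hp A B C K L M hAB hBC hw hdeg π hπ hperf z ξ hz
      K₁ N n' hdegK₁ (by omega) ϖ β hϖint hβint hϖeq w b₀ η S c i hξ hS mstar hmstar hmax nη aη hη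
      hiN hNη hmn' (by omega)

end Groth.Agent.S7155
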