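import Groth.Statements.S7156
import Groth.Agent.H14.EppTri1
import Groth.Agent.H14.EppTri2
import Groth.Agent.H14.EppTri3
import Groth.Agent.S7157
import Groth.Agent.S1984

set_option autoImplicit false
universe u
open EtAlg

namespace Groth.Agent.S7156

open TensorProduct in
/-- Let A → B → C be injective local homomorphisms of discrete valuation rings whose fields of fractions
are K ⊆ L ⊆ M, and let π be a uniformizer of A; suppose B is a Nagata ring, A → B is weakly
unramified, and M/L is purely inseparable of prime degree p. Then one of the following holds: the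
extension A → C is itself weakly unramified; or else C = B[π^(1/p)]; or else there is a separable
degree-p extension K₁/K, totally ramified with respect to A, for which L ⊗_K K₁ and M ⊗_K K₁ are
fields and the integral closures A₁ → B₁ → C₁ are weakly unramified extensions, i.e. K₁ is a weak
solution for A ⊆ B and for A ⊆ C. -/
theorem result (p : ℕ) (hp : p.Prime) (A B C K L M : Type u)
    [CommRing A] [IsDomain A] [IsDiscreteValuationRing A] [CommRing B] [IsDomain B] [IsDiscreteValuationRing B]
    [CommRing C] [IsDomain C] [IsDiscreteValuationRing C]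
    [Algebra A B] [Algebra B C] [Algebra A C] [IsScalarTower A B C]
    (hAB : Function.Injective (algebraMap A B)) (hBC : Function.Injective (algebraMap B C))
    [IsLocalHom (algebraMap A B)] [IsLocalHom (algebraMap B C)]
    [Field K] [Field L] [Field M] [Algebra A K] [IsFractionRing A K] [Algebra B L] [IsFractionRing B L]
    [Algebra C M] [IsFractionRing C M] [Algebra K L] [Algebra L M] [Algebra K M] [IsScalarTower K L M]
    [Algebra A L] [IsScalarTower A K L] [IsScalarTower A B L] [Algebra B M] [IsScalarTower B L M] [IsScalarTower B C M]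
    [Algebra A M] [IsScalarTower A K M] [IsScalarTower A C M]
    (π : A) (hπ : IsLocalRing.maximalIdeal A = Ideal.span {π}) (hB : CAlg.IsNagata B)
    (hw : EtRam.IsWeaklyUnramified A B) [IsPurelyInseparable L M] (hdeg : Module.finrank L M = p) :
    EtRam.IsWeaklyUnramified A C ∨
      (∃ c : C, c ^ p = algebraMap A C π ∧ Algebra.adjoin B {c} = ⊤) ∨
      ∃ (K₁ : Type u) (_ : Field K₁) (_ : Algebra K K₁),
        Module.finrank K K₁ = p ∧ Algebra.IsSeparable K K₁ ∧
          EtRam.IsTotallyRamified A ((algebraMap K K₁).comp (algebraMap A K)) ∧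
          IsField (L ⊗[K] K₁) ∧ IsField (M ⊗[K] K₁) ∧
          EtRam.IsWeakSolution B K L K₁ ∧ EtRam.IsWeakSolution C K M K₁ := by
  classical
  haveI : Fact p.Prime := ⟨hp⟩
  haveI hfinLM : FiniteDimensional L M :=
    Module.finite_of_finrank_pos (by rw [hdeg]; exact hp.pos)
  haveI hcharL : CharP L p := Groth.Agent.H14.EppTri1.charP_of_finrank p hp L M hdeg
  haveI hcharK : CharP K p := (algebraMap K L).charP (algebraMap K L).injective p
  haveI hcharA : CharP A p := (algebraMap A K).charP (IsFractionRing.injective A K) p
  have hp0 : ((p : ℕ) : IsLocalRing.ResidueField A) = 0 := by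
    rw [← map_natCast (IsLocalRing.residue A), CharP.cast_eq_zero A p, map_zero]
  haveI : CharP (IsLocalRing.ResidueField A) p := (CharP.charP_iff_prime_eq_zero hp).mpr hp0
  have hw' : (IsLocalRing.maximalIdeal A).map (algebraMap A B) = IsLocalRing.maximalIdeal B := hw
  rcases Groth.Agent.H14.EppTri1.ram_cases p hp B C L M hBC hB hdeg with he | ⟨he, hf⟩
  · left
    have h1 := (Groth.Agent.H14.SepDesc2.map_eq_iff_ramIdx_eq_one hBC).mpr he
    show (IsLocalRing.maximalIdeal A).map (algebraMap A C) = IsLocalRing.maximalIdeal C
    rw [IsScalarTower.algebraMap_eq A B C, ← Ideal.map_map, hw', h1]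
  · right
    have hπB : IsLocalRing.maximalIdeal B = Ideal.span {algebraMap A B π} := by
      rw [← hw', hπ, Ideal.map_span, Set.image_singleton]
    haveI := Groth.Agent.H14.EppTri1.finite p hp B C L M hB hdeg
    obtain ⟨ϖ, u, hϖirr, hϖp⟩ :=
      Groth.Agent.H14.EppTri1.exists_unif p hp B C L M hBC hdeg (algebraMap A B π) hπB he
    have hres := Groth.Agent.H14.EppTri1.residue_surj B C hf
    rcases Groth.Agent.H14.EppTri2.approx_or_obstruction p B (algebraMap A B π) hπB (u : B) with
      happ | ⟨m, bs, b, hu, hb⟩
    · left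
      obtain ⟨c, hc, hadj⟩ := Groth.Agent.H14.EppTri2.case_two p hp B C L M hB hBC
        (algebraMap A B π) hπB ϖ u hϖirr hϖp hres happ
      exact ⟨c, by rw [hc, IsScalarTower.algebraMap_apply A B C], hadj⟩
    · right
      obtain ⟨K₁, fK₁, aKK₁, aAK₁, tAKK₁, hdegK₁, hsep, htot, ϖ₁, β, β', hϖ₁int, hβint, hβ'int,
        hϖ₁eq, -⟩ := Groth.Agent.S7157.result p hp A K π hπ (m + 2) (by omega) 1
      rw [pow_one] at hdegK₁ hϖ₁eq
      haveI : FiniteDimensional K K₁ :=
        Module.finite_of_finrank_pos (by rw [hdegK₁]; exact hp.pos)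
      have htot' : EtRam.IsTotallyRamified A ((algebraMap K K₁).comp (algebraMap A K)) := by
        rw [← IsScalarTower.algebraMap_eq A K K₁]; exact htot
      obtain ⟨hF, hwsB⟩ := Groth.Agent.S1984.result A B K L hAB hw K₁ htot'
      refine ⟨K₁, fK₁, aKK₁, hdegK₁, hsep, htot', hF,
        Groth.Agent.H14.EppTri3.isField_tensor K L M K₁ hF, hwsB, ?_⟩
      have hbC : ∀ c : C, algebraMap B C b - c ^ p ∉ IsLocalRing.maximalIdeal C := by
        intro c hc
        obtain ⟨s, hs⟩ := hres c
        apply hb s
        by_contra hnot
        have hunit : IsUnit (b - s ^ p) := by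
          by_contra h; exact hnot ((IsLocalRing.mem_maximalIdeal _).mpr h)
        have hunit' : IsUnit (algebraMap B C (b - s ^ p)) := hunit.map _
        have hmem : algebraMap B C (b - s ^ p) ∈ IsLocalRing.maximalIdeal C := by
          have h2 : algebraMap B C (b - s ^ p) =
              (algebraMap B C b - c ^ p) + (c ^ p - (algebraMap B C s) ^ p) := by
            rw [map_sub, map_pow]; ring
          rw [h2]
          refine Ideal.add_mem _ hc ?_
          obtain ⟨k, hk⟩ := sub_dvd_pow_sub_pow c (algebraMap B C s) p
          rw [hk]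
          exact Ideal.mul_mem_right _ _ hs
        exact ((IsLocalRing.mem_maximalIdeal _).mp hmem) hunit'
      refine Groth.Agent.H14.EppTri3.weakSolution p hp A C K M π K₁ hdegK₁ m ϖ₁ β hβint hϖ₁eq ϖ
        (Units.map (algebraMap B C).toMonoidHom u) hϖirr ?_ (fun i => algebraMap B C (bs i))
        (algebraMap B C b) ?_ hbC
      · rw [hϖp, map_mul, ← IsScalarTower.algebraMap_apply A B C]
        rfl
      · have h3 := congrArg (algebraMap B C) hu
        rw [map_add, map_sum, map_mul, map_pow, ← IsScalarTower.algebraMap_apply A B C] at h3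
        refine h3.trans ?_
        congr 1
        refine Finset.sum_congr rfl (fun i _ => ?_)
        rw [map_mul, map_pow, map_pow, ← IsScalarTower.algebraMap_apply A B C]

end Groth.Agent.S7156
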