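import Groth.Statements.S7160
import Mathlib.Algebra.Homology.ShortComplex.Linear
import Mathlib.Algebra.Category.ModuleCat.Abelian

set_option autoImplicit false
universe u
open CategoryTheory CategoryTheory.Pretriangulated
attribute [local instance] HasDerivedCategory.standard
open CAlg

namespace Groth.Agent.S7160

theorem shortComplexFunctor_linear (R : Type u) [CommRing R] (n : ℤ) :
    (HomologicalComplex.shortComplexFunctor (ModuleCat.{u} R) (ComplexShape.up ℤ) n).Linear R where
  map_smul {K L} φ r := by ext <;> rfl

theorem homologyFunctor_cx_linear (R : Type u) [CommRing R] (n : ℤ) :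
    (HomologicalComplex.homologyFunctor (ModuleCat.{u} R) (ComplexShape.up ℤ) n).Linear R := by
  have := shortComplexFunctor_linear R n
  exact inferInstanceAs
    ((HomologicalComplex.shortComplexFunctor (ModuleCat.{u} R) (ComplexShape.up ℤ) n ⋙
      ShortComplex.homologyFunctor (ModuleCat.{u} R)).Linear R)

theorem homologyFunctor_D_linear (R : Type u) [CommRing R] (n : ℤ) :
    (DerivedCategory.homologyFunctor (ModuleCat.{u} R) n).Linear R := by
  have := homologyFunctor_cx_linear R n
  have : Localization.Lifting (DerivedCategory.Q (C := ModuleCat.{u} R))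
      (HomologicalComplex.quasiIso (ModuleCat.{u} R) (ComplexShape.up ℤ))
      (HomologicalComplex.homologyFunctor (ModuleCat.{u} R) (ComplexShape.up ℤ) n)
      (DerivedCategory.homologyFunctor (ModuleCat.{u} R) n) :=
    ⟨DerivedCategory.homologyFunctorFactors _ n⟩
  exact (Localization.functor_linear_iff (DerivedCategory.Q (C := ModuleCat.{u} R))
      (HomologicalComplex.quasiIso (ModuleCat.{u} R) (ComplexShape.up ℤ)) R
      (HomologicalComplex.homologyFunctor (ModuleCat.{u} R) (ComplexShape.up ℤ) n)
      (DerivedCategory.homologyFunctor (ModuleCat.{u} R) n)).1 inferInstance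

/-- Let R be a ring, f an element of R, M an object of D(R) and C the cone of f : M → M. Suppose that
H^i(M)_f = 0 whenever i < 0 (every element of H^i(M) is killed by a power of f) and that H^i(C) = 0
whenever i < -1. Then H^i(M) vanishes for every i < 0. -/
theorem result (R : Type u) [CommRing R] (f : R) (M C : Dual.D R)
    (g : M ⟶ C) (h : C ⟶ M⟦(1 : ℤ)⟧) (hT : Triangle.mk (f • 𝟙 M) g h ∈ distinguishedTriangles)
    (hloc : ∀ i : ℤ, i < 0 → ∀ x : Dual.HD R M i, ∃ n : ℕ, f ^ n • x = 0)
    (hC : ∀ i : ℤ, i < -1 → Subsingleton (Dual.HD R C i)) :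
    ∀ i : ℤ, i < 0 → Subsingleton (Dual.HD R M i) := by
  intro i hi
  have := homologyFunctor_D_linear R i
  -- the connecting map vanishes
  have hδ : DerivedCategory.HomologySequence.δ (Triangle.mk (f • 𝟙 M) g h) (i - 1) i (by omega) = 0 := by
    have := hC (i - 1) (by omega)
    have hz : Limits.IsZero ((DerivedCategory.homologyFunctor (ModuleCat.{u} R) (i - 1)).obj C) :=
      ModuleCat.isZero_of_subsingleton _
    exact hz.eq_of_src _ _
  have hmono := (DerivedCategory.HomologySequence.mono_homologyMap_mor₁_iff
    (Triangle.mk (f • 𝟙 M) g h) hT (i - 1) i (by omega)).2 hδ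
  replace hmono : Mono ((DerivedCategory.homologyFunctor (ModuleCat.{u} R) i).map (f • 𝟙 M)) := hmono
  rw [Functor.map_smul, CategoryTheory.Functor.map_id, ModuleCat.mono_iff_injective] at hmono
  have hinj : ∀ x : Dual.HD R M i, f • x = 0 → x = 0 := by
    intro x hx
    apply hmono
    simpa using hx
  have hpow : ∀ (n : ℕ) (x : Dual.HD R M i), f ^ n • x = 0 → x = 0 := by
    intro n
    induction n with
    | zero => intro x hx; simpa using hx
    | succ n ih =>
      intro x hx
      apply ih
      apply hinj
      rw [smul_smul, ← pow_succ']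
      exact hx
  refine ⟨fun x y => ?_⟩
  obtain ⟨n, hn⟩ := hloc i hi x
  obtain ⟨m, hm⟩ := hloc i hi y
  rw [hpow n x hn, hpow m y hm]

end Groth.Agent.S7160
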