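import Groth.Statements.S7161
-- import your own Groth.Agent.* helpers here
import Groth.Agent.H3.TorPow

set_option autoImplicit false
universe u
open CategoryTheory
open CAlg

namespace Groth.Agent.S7161

/-- Let A be a Noetherian ring, I an ideal, M a finite A-module and N an A-module annihilated by I. Then
there is an integer n > 0 such that the maps Tor_p^A(IⁿM, N) → Tor_p^A(M, N) induced by IⁿM ⊆ M are
zero for all p ≥ 0. -/
theorem result (A : Type u) [CommRing A] [IsNoetherianRing A] (I : Ideal A)
    (M N : Type u) [AddCommGroup M] [Module A M] [Module.Finite A M] [AddCommGroup N] [Module A N]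
    (hN : ∀ a ∈ I, ∀ y : N, a • y = 0) :
    ∃ n : ℕ, 0 < n ∧ ∀ p : ℕ,
      ((CategoryTheory.Tor (ModuleCat.{u} A) p).map (ModuleCat.ofHom (I ^ n • ⊤ : Submodule A M).subtype)).app
        (ModuleCat.of A N) = 0 := by
  obtain ⟨r, s, hs⟩ := Submodule.fg_iff_exists_fin_generating_family.mp I.fg_of_isNoetherianRing
  have hI : I = Ideal.span (Set.range s) := hs.symm
  obtain ⟨n, hn, hTZ⟩ := Groth.Agent.H3.TorPow.main N r s
    (fun i y => hN (s i) (by rw [hI]; exact Ideal.subset_span ⟨i, rfl⟩) y) M
  refine ⟨n, hn, fun p => ?_⟩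
  rw [Groth.Agent.H82.TorShift.tor_flip_map_zero_iff, hI]
  exact hTZ p

end Groth.Agent.S7161
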