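import Groth.Statements.S7164
import Groth.Agent.H6.ExtPC

set_option autoImplicit false
universe u
open CategoryTheory
attribute [local instance] HasDerivedCategory.standard
open CAlg

namespace Groth.Agent.S7164


open Groth.Agent.H6.ExtPC Pretriangulated

variable {A : Type u} [CommRing A]

/-- The short complex `0 → N → M → M/N → 0`. -/
noncomputable abbrev ses {M : Type u} [AddCommGroup M] [Module A M] (N : Submodule A M) :
    ShortComplex (ModuleCat.{u} A) :=
  ShortComplex.mk (ModuleCat.ofHom N.subtype) (ModuleCat.ofHom N.mkQ) (by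
    ext x
    simp)

lemma ses_shortExact {M : Type u} [AddCommGroup M] [Module A M] (N : Submodule A M) :
    (ses N).ShortExact := by
  haveI : Mono (ses N).f := (ModuleCat.mono_iff_injective _).mpr N.injective_subtype
  haveI : Epi (ses N).g := (ModuleCat.epi_iff_surjective _).mpr N.mkQ_surjective
  exact ShortComplex.ShortExact.mk ((ShortComplex.moduleCat_exact_iff_range_eq_ker _).mpr (by
    show LinearMap.range N.subtype = LinearMap.ker N.mkQ
    rw [Submodule.range_subtype, Submodule.ker_mkQ]))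

theorem vanish [IsNoetherianRing A] (I : Ideal A) (K : Dual.D A)
    (hK : DRing.IsPseudoCoherent' A K) (a : ℤ)
    (htors : ∀ (M : Type u) [AddCommGroup M] [Module A M], Module.Finite A M → ∀ i : ℤ, a ≤ i →
      ∀ e : K ⟶ (Dual.inD A M)⟦i⟧, ∃ n : ℕ, ∀ x ∈ I ^ n, x • e = 0)
    (M : Type u) [AddCommGroup M] [Module A M] [Module.Finite A M] (j : ℤ) (hj : a ≤ j) :
    ∃ m0 : ℕ, ∀ n : ℕ, m0 ≤ n →
      ∀ e : K ⟶ (Dual.inD A ↥(I ^ n • ⊤ : Submodule A M))⟦j⟧,
        e ≫ ((DerivedCategory.singleFunctor (ModuleCat.{u} A) 0).map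
              (ModuleCat.ofHom (I ^ n • ⊤ : Submodule A M).subtype))⟦j⟧' = 0 := by
  obtain ⟨c, hc⟩ := pow_image I K hK M j
  haveI := finite_hom K hK M j
  obtain ⟨n0, hn0⟩ := exists_pow_smul_top_eq_bot (T := K ⟶ (Dual.inD A M)⟦j⟧) I
    (htors M inferInstance j hj)
  refine ⟨c + n0, fun n hn e => ?_⟩
  have h1 := hc n (by omega) e
  have h2 : I ^ (n - c) • (⊤ : Submodule A (K ⟶ (Dual.inD A M)⟦j⟧)) ≤ I ^ n0 • ⊤ :=
    Submodule.smul_mono_left (Ideal.pow_le_pow_right (by omega))
  have h3 := h2 h1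
  rw [hn0] at h3
  exact (Submodule.mem_bot A).mp h3

/-- Let A be a Noetherian ring, I an ideal, K a pseudo-coherent object of D(A) and a an integer. Assume
that for every finite A-module M and every i ≥ a the module Ext^i_A(K, M) is I-power torsion. Then
for i ≥ a and M finite the inverse system (Ext^i_A(K, M/IⁿM))_n is essentially constant with value
Ext^i_A(K, M) (so that Ext^i_A(K, M) = lim Ext^i_A(K, M/IⁿM)): concretely, some comparison map
Ext^i(K, M) → Ext^i(K, M/I^mM) is injective and for every n there is m' ≥ n such that the image of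
the transition map Ext^i(K, M/I^(m')M) → Ext^i(K, M/IⁿM) is contained in the image of Ext^i(K, M).
Here Ext^i(K, X) = Hom_{D(A)}(K, X[i]). -/
theorem result (A : Type u) [CommRing A] [IsNoetherianRing A]
    (I : Ideal A) (K : Dual.D A) (hK : DRing.IsPseudoCoherent' A K) (a : ℤ)
    (htors : ∀ (M : Type u) [AddCommGroup M] [Module A M], Module.Finite A M → ∀ i : ℤ, a ≤ i →
      ∀ e : K ⟶ (Dual.inD A M)⟦i⟧, ∃ n : ℕ, ∀ x ∈ I ^ n, x • e = 0)
    (M : Type u) [AddCommGroup M] [Module A M] [Module.Finite A M] (i : ℤ) (hi : a ≤ i) :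
    let Mq : ℕ → Submodule A M := fun n => I ^ n • ⊤
    let c : ∀ n : ℕ, (K ⟶ (Dual.inD A M)⟦i⟧) → (K ⟶ (Dual.inD A (M ⧸ Mq n))⟦i⟧) :=
      fun n e => e ≫ ((DerivedCategory.singleFunctor (ModuleCat.{u} A) 0).map (ModuleCat.ofHom (Mq n).mkQ))⟦i⟧'
    let t : ∀ n m : ℕ, n ≤ m → (K ⟶ (Dual.inD A (M ⧸ Mq m))⟦i⟧) → (K ⟶ (Dual.inD A (M ⧸ Mq n))⟦i⟧) :=
      fun n m hnm e => e ≫ ((DerivedCategory.singleFunctor (ModuleCat.{u} A) 0).map (ModuleCat.ofHom
        (Submodule.mapQ (Mq m) (Mq n) (LinearMap.id : M →ₗ[A] M) (Submodule.smul_mono_left (Ideal.pow_le_pow_right hnm)))))⟦i⟧'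
    (∃ m : ℕ, Function.Injective (c m)) ∧
      ∀ n : ℕ, ∃ (m' : ℕ) (hnm : n ≤ m'), Set.range (t n m' hnm) ⊆ Set.range (c n) := by
  intro Mq c t
  constructor
  · obtain ⟨m0, hm0⟩ := vanish I K hK a htors M i hi
    refine ⟨m0, fun e1 e2 h12 => ?_⟩
    have hT := (ses_shortExact (Mq m0)).singleTriangle_distinguished
    have hz : (e1 - e2) ≫ ((DerivedCategory.singleFunctor (ModuleCat.{u} A) 0).map
        (ModuleCat.ofHom (Mq m0).mkQ))⟦i⟧' = 0 := by
      rw [Preadditive.sub_comp]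
      exact sub_eq_zero.mpr h12
    obtain ⟨g, hg⟩ := exact₂_shift _ hT i (e1 - e2) hz
    have h0 := hm0 m0 le_rfl g
    rw [← sub_eq_zero, hg]
    exact h0
  · intro n
    obtain ⟨m0, hm0⟩ := vanish I K hK a htors (↥(Mq n)) (i + 1) (by omega)
    have hle : Mq (n + m0) ≤ Mq n :=
      Submodule.smul_mono_left (Ideal.pow_le_pow_right (by omega))
    refine ⟨n + m0, by omega, ?_⟩
    rintro _ ⟨e, rfl⟩
    have hj : ∀ x : ↥(Mq (n + m0)),
        (Submodule.inclusion hle x) ∈ (I ^ m0 • ⊤ : Submodule A ↥(Mq n)) := by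
      intro x
      have hx : (x : M) ∈ (I ^ m0 • (⊤ : Submodule A ↥(Mq n))).map (Mq n).subtype := by
        rw [Submodule.map_smul'', Submodule.map_top, Submodule.range_subtype]
        show (x : M) ∈ I ^ m0 • (I ^ n • ⊤ : Submodule A M)
        rw [← Submodule.mul_smul, ← pow_add, add_comm m0 n]
        exact x.2
      obtain ⟨y, hy, hyx⟩ := Submodule.mem_map.mp hx
      have hyy : y = Submodule.inclusion hle x := Subtype.ext hyx
      rw [← hyy]
      exact hy
    let jj : ↥(Mq (n + m0)) →ₗ[A] ↥(I ^ m0 • ⊤ : Submodule A ↥(Mq n)) :=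
      LinearMap.codRestrict _ (Submodule.inclusion hle) hj
    let φ : ses (Mq (n + m0)) ⟶ ses (Mq n) :=
      ShortComplex.homMk (S₁ := ses (Mq (n + m0))) (S₂ := ses (Mq n))
        (ModuleCat.ofHom (Submodule.inclusion hle)) (𝟙 _)
        (ModuleCat.ofHom (Submodule.mapQ (Mq (n + m0)) (Mq n) LinearMap.id hle))
        (by ext x; rfl) (by ext x; rfl)
    have hT := (ses_shortExact (Mq n)).singleTriangle_distinguished
    have comm₃ : (ses_shortExact (Mq (n + m0))).singleδ ≫
        ((DerivedCategory.singleFunctor (ModuleCat.{u} A) 0).map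
          (ModuleCat.ofHom (Submodule.inclusion hle)))⟦(1 : ℤ)⟧' =
        (DerivedCategory.singleFunctor (ModuleCat.{u} A) 0).map
          (ModuleCat.ofHom (Submodule.mapQ (Mq (n + m0)) (Mq n) LinearMap.id hle)) ≫
          (ses_shortExact (Mq n)).singleδ :=
      (ShortComplex.ShortExact.singleTriangle.map (ses_shortExact (Mq (n + m0)))
        (ses_shortExact (Mq n)) φ).comm₃
    have hτ₁ : (DerivedCategory.singleFunctor (ModuleCat.{u} A) 0).map
          (ModuleCat.ofHom (Submodule.inclusion hle)) =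
        (DerivedCategory.singleFunctor (ModuleCat.{u} A) 0).map (ModuleCat.ofHom jj) ≫
          (DerivedCategory.singleFunctor (ModuleCat.{u} A) 0).map
            (ModuleCat.ofHom (I ^ m0 • ⊤ : Submodule A ↥(Mq n)).subtype) := by
      rw [← Functor.map_comp]
      rfl
    let sa := shiftFunctorAdd' (Dual.D A) 1 i (i + 1) (by omega)
    have key : ∀ {X Y : Dual.D A} (G : X ⟶ Y),
        (G⟦(1 : ℤ)⟧')⟦i⟧' = sa.inv.app X ≫ G⟦i + 1⟧' ≫ sa.hom.app Y := by
      intro X Y G
      have nat := sa.hom.naturality G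
      rw [nat, Iso.inv_hom_id_app_assoc]
      rfl
    have hw : (e ≫ ((DerivedCategory.singleFunctor (ModuleCat.{u} A) 0).map
          (ModuleCat.ofHom (Submodule.mapQ (Mq (n + m0)) (Mq n) LinearMap.id hle)))⟦i⟧') ≫
        (ses_shortExact (Mq n)).singleδ⟦i⟧' = 0 := by
      have h0 := hm0 m0 le_rfl
        (e ≫ (ses_shortExact (Mq (n + m0))).singleδ⟦i⟧' ≫ sa.inv.app _ ≫
          ((DerivedCategory.singleFunctor (ModuleCat.{u} A) 0).map (ModuleCat.ofHom jj))⟦i + 1⟧')
      rw [Category.assoc, ← Functor.map_comp, ← comm₃, Functor.map_comp, key, hτ₁,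
        Functor.map_comp]
      simp only [Category.assoc] at h0 ⊢
      rw [reassoc_of% h0, Limits.zero_comp]
    obtain ⟨g, hg⟩ := exact₃_shift _ hT i _ hw
    exact ⟨g, hg.symm⟩

end Groth.Agent.S7164
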