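import Groth.Statements.S7166
import Groth.Agent.H56.PcMor2
-- import your own Groth.Agent.* helpers here

set_option autoImplicit false
universe u
attribute [local instance] HasDerivedCategory.standard
open FlatMor

namespace Groth.Agent.S7166

open AlgebraicGeometry CategoryTheory Limits in
/-- (1) ⇔ (2): a morphism f : X → S is pseudo-coherent (for all affine opens U ⊆ f⁻¹(V) the ring map
O_S(V) → O_X(U) is pseudo-coherent) if and only if every point of X lies in some affine open U,
contained in the preimage of some affine open V of S, for which O_S(V) → O_X(U) is a pseudo-coherent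
ring map. (The third equivalent condition, phrased with relative pseudo-coherence of the structure
sheaf, is not restated.) -/
theorem result {X S : Scheme.{u}} (f : X ⟶ S) :
    MoreMor.IsPseudoCoherentMor f ↔ ∀ x : X, ∃ (U : X.Opens) (V : S.Opens) (hUV : U ≤ f ⁻¹ᵁ V),
      IsAffineOpen U ∧ IsAffineOpen V ∧ x ∈ U ∧
      (letI := (f.appLE V U hUV).hom.toAlgebra
       MoreMor.IsPseudoCoherentHom Γ(S, V) Γ(X, U)) := by
  rw [Groth.Agent.H56.PcMor.isPseudoCoherentMor_iff,
    HasRingHomProperty.iff_exists_appLE (P := Groth.Agent.H56.PcMor.P)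
      (Groth.Agent.H56.PcMor.q_stableUnderComposition.stableUnderCompositionWithLocalizationAway
        Groth.Agent.H56.PcMor.q_holdsForLocalizationAway).left]
  constructor
  · intro h x
    obtain ⟨U, V, hx, e, hQ⟩ := h x
    exact ⟨V.1, U.1, e, V.2, U.2, hx, hQ⟩
  · intro h x
    obtain ⟨U, V, hUV, hU, hV, hx, hQ⟩ := h x
    exact ⟨⟨V, hV⟩, ⟨U, hU⟩, hx, hUV, hQ⟩

end Groth.Agent.S7166
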