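import Groth.Statements.S7172
import Groth.Agent.H56.FlatFP
-- import your own Groth.Agent.* helpers here

set_option autoImplicit false
universe u
attribute [local instance] HasDerivedCategory.standard
open FlatMor

namespace Groth.Agent.S7172

open AlgebraicGeometry CategoryTheory Limits in
/-- A flat morphism locally of finite presentation is perfect. -/
theorem result {X S : Scheme.{u}} (f : X ⟶ S) [Flat f] [LocallyOfFinitePresentation f] :
    MoreMor.IsPerfectMor f := by
  rw [Groth.Agent.H56.PcMor.isPerfectMor_iff,
    AlgebraicGeometry.HasRingHomProperty.iff_appLE (P := Groth.Agent.H56.PcMor.PP)]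
  intro U V e
  have h1 := AlgebraicGeometry.Flat.flat_appLE f U.2 V.2 e
  have h2 := AlgebraicGeometry.LocallyOfFinitePresentation.finitePresentation_appLE f U.2 V.2 e
  letI := (f.appLE U.1 V.1 e).hom.toAlgebra
  haveI : Module.Flat Γ(S, U.1) Γ(X, V.1) := h1
  haveI : Algebra.FinitePresentation Γ(S, U.1) Γ(X, V.1) := h2
  exact Groth.Agent.H56.PcMor.qp_of_flat_fp Γ(S, U.1) Γ(X, V.1)

end Groth.Agent.S7172
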