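import Groth.Statements.S7179
import Groth.Agent.S7178
import Groth.Agent.S7128
import Mathlib

set_option autoImplicit false
set_option backward.isDefEq.respectTransparency.types false
universe u
open FlatMor

namespace Groth.Agent.S7179

open AlgebraicGeometry CategoryTheory Limits in
/-- The source of a weakly étale morphism with reduced target is reduced. -/
theorem result {X Y : Scheme.{u}} (f : X ⟶ Y) [WeaklyEtale f] [IsReduced Y] : IsReduced X := by
  have key : ∀ x : X, ∃ U : X.Opens, x ∈ U ∧ IsReduced U.toScheme := by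
    intro x
    obtain ⟨_, ⟨V, hV : IsAffineOpen V, rfl⟩, hxV, -⟩ :=
      (Y.isBasis_affineOpens).exists_subset_of_mem_open (Set.mem_univ (f x)) isOpen_univ
    obtain ⟨_, ⟨U, hU : IsAffineOpen U, rfl⟩, hxU, hUV⟩ :=
      (X.isBasis_affineOpens).exists_subset_of_mem_open (show x ∈ (f ⁻¹ᵁ V : Set X) from hxV)
        (f ⁻¹ᵁ V).isOpen
    refine ⟨U, hxU, ?_⟩
    have hwe := (Groth.Agent.S7178.result f).mp inferInstance U V hU hV hUV
    letI := (f.appLE V U hUV).hom.toAlgebra
    have : _root_.IsReduced Γ(X, U) := Groth.Agent.S7128.result Γ(Y, V) Γ(X, U)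
    exact isReduced_of_isOpenImmersion hU.isoSpec.hom
  choose U hxU hU using key
  have hcov : TopologicalSpace.IsOpenCover U := by
    show ⨆ i, U i = ⊤
    rw [eq_top_iff]
    rintro x -
    exact TopologicalSpace.Opens.mem_iSup.mpr ⟨x, hxU x⟩
  have : ∀ i, IsReduced ((X.openCoverOfIsOpenCover U hcov).X i) := hU
  exact IsReduced.of_openCover X (X.openCoverOfIsOpenCover U hcov)

end Groth.Agent.S7179
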