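import Groth.Statements.S7182
import Groth.Agent.H49.FerrandFT

set_option autoImplicit false
universe u
open FlatMor

namespace Groth.Agent.S7182


open AlgebraicGeometry CategoryTheory Limits in
/-- In the pushout P = Y ⨿_Z X of a closed immersion i : Z → X and an integral morphism j : Z → Y over a
locally Noetherian base S (each fibre of j inside the preimage of an affine open of X), when X, Y
and Z are each locally of finite type over S, the pushout P is locally of finite type over S as
well. -/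
theorem result {X Y Z P S : Scheme.{u}} (i : Z ⟶ X) (j : Z ⟶ Y) [IsClosedImmersion i] [IsIntegralHom j]
    (haff : ∀ y : Y, ∃ U : X.Opens, IsAffineOpen U ∧ j ⁻¹' {y} ⊆ (i ⁻¹ᵁ U : Set ↑Z))
    (a : X ⟶ P) (b : Y ⟶ P) (hP : IsPushout i j a b) (p : X ⟶ S) (q : Y ⟶ S) (r : P ⟶ S)
    (hp : a ≫ r = p) (hq : b ≫ r = q) [IsLocallyNoetherian S]
    [LocallyOfFiniteType p] [LocallyOfFiniteType q] [LocallyOfFiniteType (j ≫ q)] : LocallyOfFiniteType r := by
  have haff' : ∀ y : Y, ∃ U : X.Opens, IsAffineOpen U ∧ j ⁻¹' {y} ⊆ i ⁻¹' (U : Set X) :=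
    fun y => haff y
  have hc := Groth.Agent.H49.Ferrand.covers_of_haff i j haff'
  haveI hjl : LocallyOfFiniteType j := locallyOfFiniteType_of_comp j q
  haveI : IsFinite j := (IsFinite.iff_isIntegralHom_and_locallyOfFiniteType j).mpr ⟨inferInstance, hjl⟩
  obtain ⟨e, h1, h2⟩ := Groth.Agent.H49.Ferrand.exists_iso_of_isPushout hc hP
  haveI : LocallyOfFiniteType (Groth.Agent.H49.Ferrand.aG hc ≫ e.hom ≫ r) := by
    rw [← Category.assoc, h1, hp]
    infer_instance
  haveI : LocallyOfFiniteType (Groth.Agent.H49.Ferrand.bG hc ≫ e.hom ≫ r) := by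
    rw [← Category.assoc, h2, hq]
    infer_instance
  haveI := Groth.Agent.H49.Ferrand.locallyOfFiniteType_glue hc (e.hom ≫ r)
  have : r = e.inv ≫ e.hom ≫ r := by rw [Iso.inv_hom_id_assoc]
  rw [this]
  infer_instance

end Groth.Agent.S7182
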