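import Groth.Statements.S7185
import Mathlib
-- import your own Groth.Agent.* helpers here

set_option autoImplicit false
set_option backward.isDefEq.respectTransparency.types false
universe u
open FlatMor

namespace Groth.Agent.S7185

section Aux

open AlgebraicGeometry CategoryTheory Limits

lemma finSepDegree_congr {K L L' : Type u} [Field K] [Field L] [Field L'] (φ : K →+* L)
    (ψ : L ≃+* L') :
    (letI := φ.toAlgebra; Field.finSepDegree K L) =
      (letI := (ψ.toRingHom.comp φ).toAlgebra; Field.finSepDegree K L') := by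
  letI := φ.toAlgebra
  letI := (ψ.toRingHom.comp φ).toAlgebra
  let i : L ≃ₐ[K] L' := { ψ with commutes' := fun r => rfl }
  exact Field.finSepDegree_eq_of_equiv K L L' i

/-- the fibre integral is invariant under precomposition with an isomorphism -/
lemma fibreIntegral_iso {U' U V : Scheme.{u}} (e : U' ≅ U) (π : U ⟶ V) (wU : U → ℤ) (v : V) :
    MoreMor.fibreIntegral (e.hom ≫ π) (fun u' => wU (e.hom u')) v =
      MoreMor.fibreIntegral π wU v := by
  have h1 : ∀ u, e.hom (e.inv u) = u := fun u => by
    rw [← Scheme.Hom.comp_apply, e.inv_hom_id]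
    rfl
  have h2 : ∀ u', e.inv (e.hom u') = u' := fun u' => by
    rw [← Scheme.Hom.comp_apply, e.hom_inv_id]
    rfl
  let σ : {u' : U' // (e.hom ≫ π) u' = v} ≃ {u : U // π u = v} :=
    { toFun := fun u' => ⟨e.hom u'.1, u'.2⟩
      invFun := fun u => ⟨e.inv u.1, by
        show π (e.hom (e.inv u.1)) = v
        rw [h1]
        exact u.2⟩
      left_inv := fun u' => Subtype.ext (h2 u'.1)
      right_inv := fun u => Subtype.ext (h1 u.1) }
  unfold MoreMor.fibreIntegral
  rw [← finsum_comp_equiv σ]
  refine finsum_congr (fun u' => ?_)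
  congr 2
  let φ : V.residueField (π (e.hom u'.1)) →+* U.residueField (e.hom u'.1) :=
    (π.residueFieldMap (e.hom u'.1)).hom
  let ψ : U.residueField (e.hom u'.1) ≃+* U'.residueField u'.1 :=
    (asIso (e.hom.residueFieldMap u'.1)).commRingCatIsoToRingEquiv
  have key : ((e.hom ≫ π).residueFieldMap u'.1).hom = ψ.toRingHom.comp φ := by
    rw [Scheme.residueFieldMap_comp]
    rfl
  have := finSepDegree_congr φ ψ
  rw [← key] at this
  exact this.symm

end Aux


open AlgebraicGeometry CategoryTheory Limits in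
/-- The restriction of a weighting of a locally quasi-finite morphism f : X → Y (locally of finite type
with discrete fibres) to an open subscheme X' of X is a weighting of X' → Y. -/
theorem result {X Y : Scheme.{u}} (f : X ⟶ Y) [LocallyQuasiFinite f] [LocallyOfFiniteType f] (w : X → ℤ)
    (hw : MoreMor.IsWeighting f w) (X' : X.Opens) : MoreMor.IsWeighting (X'.ι ≫ f) (fun x => w (X'.ι x)) := by
  intro V g _ U' hfin
  let j : pullback (X'.ι ≫ f) g ⟶ pullback f g :=
    pullback.map (X'.ι ≫ f) g f g X'.ι (𝟙 V) (𝟙 Y) (by simp) (by simp)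
  have hj1 : j ≫ pullback.fst f g = pullback.fst (X'.ι ≫ f) g ≫ X'.ι := by
    simp only [j, pullback.map, pullback.lift_fst]
  have hj2 : j ≫ pullback.snd f g = pullback.snd (X'.ι ≫ f) g := by
    simp only [j, pullback.map, pullback.lift_snd, Category.comp_id]
  let U : (pullback f g).Opens := j ''ᵁ U'
  let e : (U' : Scheme.{u}) ≅ (U : Scheme.{u}) := j.isoImage U'
  have he : e.hom ≫ U.ι = U'.ι ≫ j := j.isoImage_hom_ι U'
  have hπ : U'.ι ≫ pullback.snd (X'.ι ≫ f) g = e.hom ≫ (U.ι ≫ pullback.snd f g) := by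
    rw [← Category.assoc, he, Category.assoc, hj2]
  have hfinU : IsFinite (U.ι ≫ pullback.snd f g) := by
    have : U.ι ≫ pullback.snd f g = e.inv ≫ (U'.ι ≫ pullback.snd (X'.ι ≫ f) g) := by
      rw [hπ, Iso.inv_hom_id_assoc]
    rw [this]
    infer_instance
  have hloc := hw V g U hfinU
  have hpt : ∀ u' : (U' : Scheme.{u}),
      X'.ι (pullback.fst (X'.ι ≫ f) g (U'.ι u')) = pullback.fst f g (U.ι (e.hom u')) := by
    intro u'
    rw [← Scheme.Hom.comp_apply, ← Scheme.Hom.comp_apply, ← Scheme.Hom.comp_apply,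
      ← Scheme.Hom.comp_apply, ← Category.assoc e.hom, he, Category.assoc, hj1]
  have heq : MoreMor.fibreIntegral (U'.ι ≫ pullback.snd (X'.ι ≫ f) g)
      (fun u => w (X'.ι (pullback.fst (X'.ι ≫ f) g (U'.ι u)))) =
      MoreMor.fibreIntegral (U.ι ≫ pullback.snd f g)
        (fun u => w (pullback.fst f g (U.ι u))) := by
    funext v
    rw [← fibreIntegral_iso e (U.ι ≫ pullback.snd f g) (fun u => w (pullback.fst f g (U.ι u))) v]
    have hw' : (fun u => w (X'.ι (pullback.fst (X'.ι ≫ f) g (U'.ι u)))) =
        (fun u' => w (pullback.fst f g (U.ι (e.hom u')))) := by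
      funext u'
      rw [hpt]
    rw [hw']
    congr 1
  rw [heq]
  exact hloc

end Groth.Agent.S7185
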