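import Groth.Statements.S7195
import Groth.Agent.H73.WeilLoc5
import Mathlib.AlgebraicGeometry.Morphisms.QuasiFinite

set_option autoImplicit false
universe u
open CategoryTheory AlgebraicGeometry
open FlatMor

namespace Groth.Agent.S7195

/-- Let Z → S be finite locally free and X → S such that any finitely many points of X lying over a
common point of S are contained in some affine open of X. Then Mor_S(Z, X) is representable by a
scheme. -/
theorem result {Z X S : Scheme.{u}} (g : Z ⟶ S) (f : X ⟶ S) (hg : Mor2.IsFinLocFree g)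
    (hAF : ∀ (s : S) (d : ℕ) (x : Fin d → ↥X), (∀ k, f (x k) = s) → ∃ U : X.Opens, IsAffineOpen U ∧ ∀ k, x k ∈ U) :
    (Flatn.morS g f).IsRepresentable := by
  classical
  obtain ⟨hfin, hflat, hfp⟩ := hg
  haveI : IsFinite g := hfin
  have hrep := Groth.Agent.H73.WeilLoc.representable_of_cover (g := g) (f := f) (by
    intro T t b x
    obtain ⟨V, hsV, hV, hVU⟩ :=
      Groth.Agent.H73.WeilLoc.exists_hasLocRep g f ⟨hfin, hflat, hfp⟩ (t x)
    have hfinite : ((Limits.pullback.fst t g) ⁻¹' {x}).Finite :=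
      (Limits.pullback.fst t g).finite_preimage_singleton x
    let pts : Set X := (Groth.Agent.H73.WeilLoc.lft g f b) '' ((Limits.pullback.fst t g) ⁻¹' {x})
    have hpts : pts.Finite := hfinite.image _
    obtain ⟨d, e, -, he⟩ := hpts.fin_param
    have hfe : ∀ k, f (e k) = t x := by
      intro k
      have hk : e k ∈ pts := he ▸ Set.mem_range_self k
      obtain ⟨y, hy, hyk⟩ := hk
      rw [← hyk, Groth.Agent.H73.WeilLoc.f_lft]
      exact congrArg t hy
    obtain ⟨U₀, hU₀, hmem⟩ := hAF (t x) d e hfe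
    have hptsU : pts ⊆ U₀ := by
      intro z hz
      rw [← he] at hz
      obtain ⟨k, rfl⟩ := hz
      exact hmem k
    have hptsV : pts ⊆ ((f ⁻¹ᵁ V : X.Opens) : Set X) := by
      intro z hz
      rw [← he] at hz
      obtain ⟨k, rfl⟩ := hz
      show f (e k) ∈ V
      rw [hfe k]
      exact hsV
    obtain ⟨h, hh1, hh2⟩ := Groth.Agent.H73.FinitePts.exists_basicOpen_le_of_finite hU₀
      (f ⁻¹ᵁ V) pts hpts hptsU hptsV
    refine ⟨V, X.basicOpen h, hVU _ (hU₀.basicOpen h) hh2, ?_⟩
    rw [Groth.Agent.H73.WeilLoc.mem_locOpen]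
    exact ⟨hsV, fun y hy => hh1 _ ⟨y, hy, rfl⟩⟩)
  obtain ⟨W₀, ⟨R⟩⟩ := hrep
  exact ⟨W₀, ⟨R⟩⟩

end Groth.Agent.S7195
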