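import Groth.Statements.S7199
import Mathlib
import Groth.Agent.H54.AffineDim2
import Groth.Agent.H54.AffineTrdeg
import Groth.Agent.H29.CM2

set_option autoImplicit false
universe u
open FlatMor

namespace Groth.Agent.S7199

open MvPolynomial

section Shift

variable {A : Type*} [CommRing A] {σ : Type*} [DecidableEq σ]

/-- The `A`-algebra endomorphism of `A[X]` shifting the variable `X i₀` by the constant `c`. -/
noncomputable def shift (i₀ : σ) (c : A) : MvPolynomial σ A →ₐ[A] MvPolynomial σ A :=
  MvPolynomial.aeval (fun i => X i + C (if i = i₀ then c else 0))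

theorem shift_X (i₀ : σ) (c : A) (i : σ) :
    shift i₀ c (X i) = X i + C (if i = i₀ then c else 0) := by
  rw [shift, MvPolynomial.aeval_X]

theorem shift_C (i₀ : σ) (c a : A) : shift i₀ c (C a) = C a := by
  rw [shift, MvPolynomial.aeval_C]
  rfl

theorem shift_neg_shift (i₀ : σ) (c : A) (b : MvPolynomial σ A) :
    shift i₀ (-c) (shift i₀ c b) = b := by
  have h : (shift i₀ (-c)).comp (shift i₀ c) = AlgHom.id A (MvPolynomial σ A) := by
    apply MvPolynomial.algHom_ext
    intro i
    rw [AlgHom.comp_apply, shift_X, map_add, shift_X, shift_C, AlgHom.id_apply, add_assoc,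
      ← map_add]
    by_cases hi : i = i₀
    · rw [if_pos hi, if_pos hi, neg_add_cancel, map_zero, add_zero]
    · rw [if_neg hi, if_neg hi, add_zero, map_zero, add_zero]
  exact AlgHom.congr_fun h b

end Shift

/-- A prime minimal over the extension of its own contraction has height at most the dimension of
the base. -/
theorem height_le_ringKrullDim_of_minimal {R A : Type*} [CommRing R] [IsNoetherianRing R]
    [CommRing A] [IsNoetherianRing A] [Algebra R A] (p : Ideal A) [hpp : p.IsPrime] (I : Ideal A)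
    (hp : p ∈ I.minimalPrimes)
    (hI : I ≤ (p.comap (algebraMap R A)).map (algebraMap R A)) :
    (p.height : WithBot ℕ∞) ≤ ringKrullDim R := by
  obtain ⟨p₀, hp₀⟩ : ∃ p₀ : Ideal R, p₀ = p.comap (algebraMap R A) := ⟨_, rfl⟩
  haveI hp₀prime : p₀.IsPrime := by rw [hp₀]; infer_instance
  haveI : p.LiesOver p₀ := ⟨hp₀⟩
  have h1 := Ideal.height_le_height_add_of_liesOver p₀ p
  rw [← hp₀] at hI
  have hmin : p ∈ (p₀.map (algebraMap R A)).minimalPrimes := by
    refine ⟨⟨hpp, ?_⟩, fun q hq hqp => hp.2 ⟨hq.1, le_trans hI hq.2⟩ hqp⟩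
    rw [hp₀]
    exact Ideal.map_comap_le
  have h2 : (p.map (Ideal.Quotient.mk (p₀.map (algebraMap R A)))).height = 0 := by
    rw [Ideal.minimalPrimes_eq_comap] at hmin
    obtain ⟨Q, hQ, hQp⟩ := hmin
    have hQeq : p.map (Ideal.Quotient.mk (p₀.map (algebraMap R A))) = Q := by
      rw [← hQp, Ideal.map_comap_of_surjective _ Ideal.Quotient.mk_surjective]
    rw [hQeq]
    haveI : Q.IsPrime := hQ.1.1
    exact Ideal.height_eq_zero_iff.mpr hQ
  rw [h2, add_zero] at h1
  have h3 : (p₀.height : WithBot ℕ∞) ≤ ringKrullDim R :=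
    Ideal.height_le_ringKrullDim_of_ne_top hp₀prime.ne_top
  exact le_trans (WithBot.coe_le_coe.mpr h1) h3

section Pair

variable {k A : Type u} [Field k] [CommRing A] [IsDomain A] [Algebra k A]

/-- The map `k[Y₀, Y₁]/(P) → A` induced by `Y₀ ↦ a`, `Y₁ ↦ b` when `P(a, b) = 0`. -/
noncomputable def quotMap (a b : A) (P : MvPolynomial (Fin 2) k)
    (hP : MvPolynomial.aeval ![a, b] P = 0) :
    (MvPolynomial (Fin 2) k ⧸ Ideal.span {P}) →+* A :=
  Ideal.Quotient.lift (Ideal.span {P})
    (MvPolynomial.aeval ![a, b] : MvPolynomial (Fin 2) k →ₐ[k] A).toRingHom (fun x hx => by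
      obtain ⟨y, rfl⟩ := Ideal.mem_span_singleton'.mp hx
      show MvPolynomial.aeval ![a, b] (y * P) = 0
      rw [map_mul, hP, mul_zero])

theorem quotMap_mk (a b : A) (P : MvPolynomial (Fin 2) k)
    (hP : MvPolynomial.aeval ![a, b] P = 0) (x : MvPolynomial (Fin 2) k) :
    quotMap a b P hP (Ideal.Quotient.mk _ x) = MvPolynomial.aeval ![a, b] x := rfl

/-- If a minimal prime over `(a, b)` has codimension two in a finitely generated domain over a
field, then `a, b` are algebraically independent. -/
theorem algebraicIndependent_pair [Algebra.FiniteType k A] (a b : A) (p : Ideal A)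
    (hp : p ∈ (Ideal.span {a, b}).minimalPrimes)
    (hdim : ringKrullDim (A ⧸ p) + 2 = ringKrullDim A) : AlgebraicIndependent k ![a, b] := by
  classical
  haveI hpprime : p.IsPrime := hp.1.1
  haveI : IsNoetherianRing A := Algebra.FiniteType.isNoetherianRing k A
  by_contra hnot
  rw [algebraicIndependent_iff] at hnot
  push Not at hnot
  obtain ⟨P, hP0, hPne⟩ := hnot
  -- the height of `p` is two
  obtain ⟨n, -, hn⟩ := Groth.Agent.H54.exists_ringKrullDim_eq_trdeg k A
  have hsum : (p.height : WithBot ℕ∞) + ringKrullDim (A ⧸ p) = ringKrullDim A :=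
    Groth.Agent.H54.height_add_ringKrullDim_quotient k A ⟨p, hpprime⟩
  have hd' : ringKrullDim (A ⧸ p) + ((2 : ℕ) : WithBot ℕ∞) = ((n : ℕ∞) : WithBot ℕ∞) := by
    rw [hn] at hdim
    exact_mod_cast hdim
  obtain ⟨e, he, hen⟩ := Groth.Agent.H29.CM.nat_of_add_natCast_eq hd'
  have hfin : p.height ≠ ⊤ := Ideal.height_ne_top_of_isPrime
  obtain ⟨h, hh⟩ : ∃ h : ℕ, p.height = h := ⟨_, (ENat.natCast_toNat hfin).symm⟩
  rw [he, hn, hh] at hsum
  have hsum' : h + e = n := by exact_mod_cast hsum
  have hh2 : h = 2 := by omega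
  -- the auxiliary ring `k[Y₀, Y₁]/(P)` of dimension one
  have hPunit : ¬ IsUnit P := by
    intro hu
    have h0 := hu.map (MvPolynomial.aeval ![a, b] : MvPolynomial (Fin 2) k →ₐ[k] A)
    rw [hP0] at h0
    exact not_isUnit_zero h0
  have hdimR := Groth.Agent.H54.ringKrullDim_mvPolynomial_quotient_span_singleton k 2 P hPne hPunit
  have hdimR' : ringKrullDim (MvPolynomial (Fin 2) k ⧸ Ideal.span {P}) +
      ((1 : ℕ) : WithBot ℕ∞) = (((2 : ℕ) : ℕ∞) : WithBot ℕ∞) := by
    exact_mod_cast hdimR
  obtain ⟨e', he', hee'⟩ := Groth.Agent.H29.CM.nat_of_add_natCast_eq hdimR'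
  have hle : (p.height : WithBot ℕ∞) ≤
      ringKrullDim (MvPolynomial (Fin 2) k ⧸ Ideal.span {P}) := by
    letI : Algebra (MvPolynomial (Fin 2) k ⧸ Ideal.span {P}) A := (quotMap a b P hP0).toAlgebra
    have ha : algebraMap (MvPolynomial (Fin 2) k ⧸ Ideal.span {P}) A
        (Ideal.Quotient.mk _ (X 0)) = a := by
      show quotMap a b P hP0 (Ideal.Quotient.mk _ (X 0)) = a
      rw [quotMap_mk, MvPolynomial.aeval_X]
      rfl
    have hb : algebraMap (MvPolynomial (Fin 2) k ⧸ Ideal.span {P}) A
        (Ideal.Quotient.mk _ (X 1)) = b := by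
      show quotMap a b P hP0 (Ideal.Quotient.mk _ (X 1)) = b
      rw [quotMap_mk, MvPolynomial.aeval_X]
      rfl
    have hap : a ∈ p := hp.1.2 (Ideal.subset_span (by simp))
    have hbp : b ∈ p := hp.1.2 (Ideal.subset_span (by simp))
    refine height_le_ringKrullDim_of_minimal p (Ideal.span {a, b}) hp ?_
    rw [Ideal.span_le]
    intro x hx
    rcases hx with hxa | hxb
    · have hmem : algebraMap (MvPolynomial (Fin 2) k ⧸ Ideal.span {P}) A
          (Ideal.Quotient.mk _ (X 0)) ∈ (p.comap (algebraMap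
            (MvPolynomial (Fin 2) k ⧸ Ideal.span {P}) A)).map (algebraMap
            (MvPolynomial (Fin 2) k ⧸ Ideal.span {P}) A) := by
        apply Ideal.mem_map_of_mem
        rw [Ideal.mem_comap, ha]
        exact hap
      rw [ha] at hmem
      rw [hxa]
      exact hmem
    · have hmem : algebraMap (MvPolynomial (Fin 2) k ⧸ Ideal.span {P}) A
          (Ideal.Quotient.mk _ (X 1)) ∈ (p.comap (algebraMap
            (MvPolynomial (Fin 2) k ⧸ Ideal.span {P}) A)).map (algebraMap
            (MvPolynomial (Fin 2) k ⧸ Ideal.span {P}) A) := by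
        apply Ideal.mem_map_of_mem
        rw [Ideal.mem_comap, hb]
        exact hbp
      rw [hb] at hmem
      rw [Set.mem_singleton_iff.mp hxb]
      exact hmem
  rw [hh, he'] at hle
  have hle' : h ≤ e' := by exact_mod_cast hle
  omega

/-- The key independence statement in the polynomial ring `A[X]`. -/
theorem core {σ : Type} [Fintype σ] [DecidableEq σ] (i₀ i₁ : σ) (g : σ → A)
    (hind : AlgebraicIndependent k ![g i₀, g i₁]) :
    AlgebraicIndependent k (Sum.elim (fun i : σ => (X i : MvPolynomial σ A))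
      ![∑ i, C (g i) * X i, C (g i₁)]) := by
  classical
  have h1 : AlgebraicIndependent k (Sum.elim (fun i : σ => (X i : MvPolynomial σ A))
      (algebraMap A (MvPolynomial σ A) ∘ ![g i₀, g i₁])) :=
    hind.sumElim_comp (MvPolynomial.algebraicIndependent_X σ A)
  obtain ⟨F₁, hF₁⟩ : ∃ F₁ : σ ⊕ Fin 2 → MvPolynomial σ A,
      F₁ = Sum.elim (fun i : σ => (X i : MvPolynomial σ A))
        (algebraMap A (MvPolynomial σ A) ∘ ![g i₀, g i₁]) := ⟨_, rfl⟩
  obtain ⟨F₂, hF₂⟩ : ∃ F₂ : σ ⊕ Fin 2 → MvPolynomial σ A,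
      F₂ = Sum.elim (fun i : σ => (X i : MvPolynomial σ A))
        ![∑ i, C (g i) * X i, C (g i₁)] := ⟨_, rfl⟩
  rw [← hF₁] at h1
  rw [← hF₂]
  have hF₁l : ∀ i, F₁ (Sum.inl i) = X i := fun i => by rw [hF₁]; rfl
  have hF₁0 : F₁ (Sum.inr 0) = C (g i₀) := by rw [hF₁]; rfl
  have hF₁1 : F₁ (Sum.inr 1) = C (g i₁) := by rw [hF₁]; rfl
  have hF₂0 : F₂ (Sum.inr 0) = ∑ i, C (g i) * X i := by rw [hF₂]; rfl
  have hagree : ∀ j : σ ⊕ Fin 2, j ≠ Sum.inr 0 → F₂ j = F₁ j := by
    intro j hj
    rw [hF₁, hF₂]
    rcases j with i | j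
    · rfl
    · fin_cases j
      · exact absurd rfl hj
      · rfl
  rw [AlgebraicIndependent.iff_transcendental_adjoin_image (Sum.inr 0 : σ ⊕ Fin 2)] at h1 ⊢
  obtain ⟨h1a, h1b⟩ := h1
  refine ⟨?_, ?_⟩
  · have hfun : (fun j : {j : σ ⊕ Fin 2 // j ≠ Sum.inr 0} => F₂ (j : σ ⊕ Fin 2)) =
        fun j : {j : σ ⊕ Fin 2 // j ≠ Sum.inr 0} => F₁ (j : σ ⊕ Fin 2) :=
      funext (fun j => hagree j.1 j.2)
    rw [hfun]
    exact h1a
  · have himg : F₂ '' {Sum.inr 0}ᶜ = F₁ '' {Sum.inr 0}ᶜ :=
      Set.image_congr (fun j hj => hagree j hj)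
    rw [himg]
    obtain ⟨T, hT⟩ : ∃ T : Subalgebra k (MvPolynomial σ A),
        T = Algebra.adjoin k (F₁ '' {Sum.inr 0}ᶜ) := ⟨_, rfl⟩
    rw [← hT] at h1b ⊢
    intro halg
    apply h1b
    have hXT : ∀ i, (X i : MvPolynomial σ A) ∈ T := by
      intro i
      rw [hT]
      exact Algebra.subset_adjoin ⟨Sum.inl i, Sum.inl_ne_inr, hF₁l i⟩
    have hgT : (C (g i₁) : MvPolynomial σ A) ∈ T := by
      rw [hT]
      exact Algebra.subset_adjoin
        ⟨Sum.inr 1, fun h => absurd (Sum.inr.inj h) (by decide), hF₁1⟩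
    have hstab : ∀ t ∈ T, shift i₀ (1 : A) t ∈ T := by
      intro t ht
      rw [hT] at ht
      induction ht using Algebra.adjoin_induction with
      | mem x hx =>
        obtain ⟨j, hj, rfl⟩ := hx
        rcases j with i | j
        · rw [hF₁l, shift_X]
          refine T.add_mem (hXT i) ?_
          by_cases hi : i = i₀
          · rw [if_pos hi, map_one]
            exact T.one_mem
          · rw [if_neg hi, map_zero]
            exact T.zero_mem
        · fin_cases j
          · exact absurd rfl hj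
          · show shift i₀ (1 : A) (F₁ (Sum.inr 1)) ∈ T
            rw [hF₁1, shift_C]
            exact hgT
      | algebraMap r =>
        rw [IsScalarTower.algebraMap_apply k A (MvPolynomial σ A), AlgHom.commutes,
          ← IsScalarTower.algebraMap_apply k A (MvPolynomial σ A)]
        exact T.algebraMap_mem r
      | add x y _ _ hx hy =>
        rw [map_add]
        exact T.add_mem hx hy
      | mul x y _ _ hx hy =>
        rw [map_mul]
        exact T.mul_mem hx hy
    obtain ⟨f, hf⟩ : ∃ f : T →+* T, ∀ t : T, ((f t : T) : MvPolynomial σ A) =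
        shift i₀ (1 : A) (t : MvPolynomial σ A) :=
      ⟨((shift i₀ (1 : A) : MvPolynomial σ A →ₐ[A] MvPolynomial σ A) :
        MvPolynomial σ A →+* MvPolynomial σ A).restrict T T hstab, fun t => rfl⟩
    have hfinj : Function.Injective f := by
      intro x y hxy
      apply Subtype.ext
      have h2 : shift i₀ (1 : A) (x : MvPolynomial σ A) = shift i₀ (1 : A) (y : MvPolynomial σ A) := by
        rw [← hf, ← hf, hxy]
      have h3 := congrArg (shift i₀ (-(1 : A))) h2
      rwa [shift_neg_shift, shift_neg_shift] at h3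
    have hsq : (algebraMap T (MvPolynomial σ A)).comp (f : T →+* T) =
        ((shift i₀ (1 : A) : MvPolynomial σ A →ₐ[A] MvPolynomial σ A) :
          MvPolynomial σ A →+* MvPolynomial σ A).comp (algebraMap T (MvPolynomial σ A)) :=
      RingHom.ext (fun t => hf t)
    have halg' : IsAlgebraic T (shift i₀ (1 : A) (F₂ (Sum.inr 0))) :=
      halg.ringHom_of_comp_eq f (shift i₀ (1 : A)) hfinj hsq
    have hu : shift i₀ (1 : A) (F₂ (Sum.inr 0)) = F₂ (Sum.inr 0) + F₁ (Sum.inr 0) := by
      rw [hF₂0, hF₁0, map_sum]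
      simp_rw [map_mul, shift_C, shift_X, mul_add]
      rw [Finset.sum_add_distrib]
      congr 1
      rw [Finset.sum_eq_single i₀]
      · rw [if_pos rfl, map_one, mul_one]
      · intro i _ hi
        rw [if_neg hi, map_zero, mul_zero]
      · intro h
        exact absurd (Finset.mem_univ _) h
    have hsub := halg'.sub halg
    rw [hu, add_sub_cancel_left] at hsub
    exact hsub

end Pair


/-- Take a field k, an integral domain A that is a finitely generated k-algebra, n ≥ 2 and g_1, …, g_n ∈
A, and suppose some irreducible component of the common zero locus of g_1 and g_2 in Spec A has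
dimension dim A − 2. Then for suitable c_1, …, c_n ∈ k the n + 2 elements x_1, …, x_n, Σ g_i x_i, Σ
c_i g_i of the rational function field Frac(A)(x_1, …, x_n) form an algebraically independent family
over k. -/
theorem result {k A : Type u} [Field k] [CommRing A] [IsDomain A] [Algebra k A]
    [Algebra.FiniteType k A] (m : ℕ) (g : Fin (m + 2) → A)
    (p : Ideal A) (hp : p ∈ (Ideal.span {g 0, g 1}).minimalPrimes) (hdim : ringKrullDim (A ⧸ p) + 2 = ringKrullDim A) :
    ∃ c : Fin (m + 2) → k,
      AlgebraicIndependent k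
        (Sum.elim
          (fun i : Fin (m + 2) => algebraMap (MvPolynomial (Fin (m + 2)) (FractionRing A)) (FractionRing (MvPolynomial (Fin (m + 2)) (FractionRing A))) (MvPolynomial.X i))
          ![∑ i, algebraMap A (FractionRing (MvPolynomial (Fin (m + 2)) (FractionRing A))) (g i) *
              algebraMap (MvPolynomial (Fin (m + 2)) (FractionRing A)) (FractionRing (MvPolynomial (Fin (m + 2)) (FractionRing A))) (MvPolynomial.X i),
            algebraMap A (FractionRing (MvPolynomial (Fin (m + 2)) (FractionRing A))) (∑ i, c i • g i)]) := by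
  classical
  have hind := algebraicIndependent_pair (k := k) (g 0) (g 1) p hp hdim
  have hcore := core (k := k) (0 : Fin (m + 2)) 1 g hind
  refine ⟨Pi.single 1 1, ?_⟩
  have hv : ∑ i, (Pi.single (1 : Fin (m + 2)) (1 : k) : Fin (m + 2) → k) i • g i = g 1 := by
    rw [Finset.sum_eq_single 1]
    · rw [Pi.single_eq_same, one_smul]
    · intro i _ hi
      rw [Pi.single_eq_of_ne hi, zero_smul]
    · intro h
      exact absurd (Finset.mem_univ _) h
  rw [hv]
  obtain ⟨ι, hι⟩ : ∃ ι : MvPolynomial (Fin (m + 2)) A →ₐ[k]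
      FractionRing (MvPolynomial (Fin (m + 2)) (FractionRing A)),
      ι = (IsScalarTower.toAlgHom k (MvPolynomial (Fin (m + 2)) (FractionRing A))
        (FractionRing (MvPolynomial (Fin (m + 2)) (FractionRing A)))).comp
        (MvPolynomial.mapAlgHom (IsScalarTower.toAlgHom k A (FractionRing A))) := ⟨_, rfl⟩
  have hιapp : ∀ x, ι x = algebraMap (MvPolynomial (Fin (m + 2)) (FractionRing A))
      (FractionRing (MvPolynomial (Fin (m + 2)) (FractionRing A)))
      (MvPolynomial.map (algebraMap A (FractionRing A)) x) := by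
    intro x
    rw [hι]
    rfl
  have hιX : ∀ i, ι (MvPolynomial.X i) = algebraMap (MvPolynomial (Fin (m + 2)) (FractionRing A))
      (FractionRing (MvPolynomial (Fin (m + 2)) (FractionRing A))) (MvPolynomial.X i) := by
    intro i
    rw [hιapp, MvPolynomial.map_X]
  have hιC : ∀ a : A, ι (MvPolynomial.C a) =
      algebraMap A (FractionRing (MvPolynomial (Fin (m + 2)) (FractionRing A))) a := by
    intro a
    rw [hιapp, MvPolynomial.map_C,
      IsScalarTower.algebraMap_apply A (MvPolynomial (Fin (m + 2)) (FractionRing A))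
        (FractionRing (MvPolynomial (Fin (m + 2)) (FractionRing A))),
      MvPolynomial.algebraMap_apply]
  have hιinj : Function.Injective ι := by
    have h1 : Function.Injective (MvPolynomial.map (algebraMap A (FractionRing A)) :
        MvPolynomial (Fin (m + 2)) A → MvPolynomial (Fin (m + 2)) (FractionRing A)) :=
      MvPolynomial.map_injective _ (IsFractionRing.injective A (FractionRing A))
    have h2 : Function.Injective (algebraMap (MvPolynomial (Fin (m + 2)) (FractionRing A))
        (FractionRing (MvPolynomial (Fin (m + 2)) (FractionRing A)))) :=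
      IsFractionRing.injective _ _
    intro x y hxy
    rw [hιapp, hιapp] at hxy
    exact h1 (h2 hxy)
  have hfinal := hcore.map' hιinj
  convert hfinal using 1
  funext j
  rcases j with i | j
  · exact (hιX i).symm
  · fin_cases j
    · show ∑ i, algebraMap A (FractionRing (MvPolynomial (Fin (m + 2)) (FractionRing A))) (g i) *
          algebraMap (MvPolynomial (Fin (m + 2)) (FractionRing A))
            (FractionRing (MvPolynomial (Fin (m + 2)) (FractionRing A))) (MvPolynomial.X i) =
        ι (∑ i, MvPolynomial.C (g i) * MvPolynomial.X i)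
      rw [map_sum]
      refine Finset.sum_congr rfl (fun i _ => ?_)
      rw [map_mul, hιX, hιC]
    · show algebraMap A (FractionRing (MvPolynomial (Fin (m + 2)) (FractionRing A))) (g 1) =
        ι (MvPolynomial.C (g 1))
      rw [hιC]

end Groth.Agent.S7199
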