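import Groth.Statements.S7201
import Groth.Agent.H99.ComplApprox
import Groth.Agent.H99.ComplApproxSch

set_option autoImplicit false
set_option linter.style.haveILetI false
universe u
open FlatMor

namespace Groth.Agent.S7201

open AlgebraicGeometry CategoryTheory Limits in
/-- Let h : T → S be a morphism of finite type between Noetherian schemes, t a point of T with image s,
and σ : O_{T,t} → O_{S,s}^∧ a local O_{S,s}-algebra map to the completion. For every N ≥ 1 there is
a morphism of finite type g : T' → T and a point t' over t such that σ factors through O_{T,t} →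
O_{T',t'}, and any local O_{S,s}-algebra map σ' : O_{T,t} → O_{S,s}^∧ factoring through O_{T,t} →
O_{T',t'} agrees with σ modulo m_s^N. -/
theorem result {T S : Scheme.{u}} [IsNoetherian T] [IsNoetherian S]
    (h : T ⟶ S) [LocallyOfFiniteType h] [QuasiCompact h] (t : T)
    (σ : ↑(T.presheaf.stalk t) →+* (AdicCompletion (IsLocalRing.maximalIdeal ↑(S.presheaf.stalk (h t))) ↑(S.presheaf.stalk (h t))))
    (hσ : σ.comp (h.stalkMap t).hom = algebraMap ↑(S.presheaf.stalk (h t)) (AdicCompletion (IsLocalRing.maximalIdeal ↑(S.presheaf.stalk (h t))) ↑(S.presheaf.stalk (h t))))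
    (hloc : ∀ a ∈ IsLocalRing.maximalIdeal ↑(T.presheaf.stalk t),
      σ a ∈ (IsLocalRing.maximalIdeal ↑(S.presheaf.stalk (h t))).map (algebraMap ↑(S.presheaf.stalk (h t)) (AdicCompletion (IsLocalRing.maximalIdeal ↑(S.presheaf.stalk (h t))) ↑(S.presheaf.stalk (h t)))))
    (N : ℕ) (hN : 1 ≤ N) :
    ∃ (T' : Scheme.{u}) (g : T' ⟶ T) (t' : T') (hg : g t' = t) (τ : ↑(T'.presheaf.stalk t') →+* (AdicCompletion (IsLocalRing.maximalIdeal ↑(S.presheaf.stalk (h t))) ↑(S.presheaf.stalk (h t)))),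
      LocallyOfFiniteType g ∧ QuasiCompact g ∧
      τ.comp ((g.stalkMap t').hom.comp (T.presheaf.stalkCongr (Inseparable.of_eq hg)).inv.hom) = σ ∧
      ∀ (σ' : ↑(T.presheaf.stalk t) →+* (AdicCompletion (IsLocalRing.maximalIdeal ↑(S.presheaf.stalk (h t))) ↑(S.presheaf.stalk (h t)))),
        σ'.comp (h.stalkMap t).hom = algebraMap ↑(S.presheaf.stalk (h t)) (AdicCompletion (IsLocalRing.maximalIdeal ↑(S.presheaf.stalk (h t))) ↑(S.presheaf.stalk (h t))) →
        (∀ a ∈ IsLocalRing.maximalIdeal ↑(T.presheaf.stalk t),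
          σ' a ∈ (IsLocalRing.maximalIdeal ↑(S.presheaf.stalk (h t))).map (algebraMap ↑(S.presheaf.stalk (h t)) (AdicCompletion (IsLocalRing.maximalIdeal ↑(S.presheaf.stalk (h t))) ↑(S.presheaf.stalk (h t))))) →
        (∃ τ' : ↑(T'.presheaf.stalk t') →+* (AdicCompletion (IsLocalRing.maximalIdeal ↑(S.presheaf.stalk (h t))) ↑(S.presheaf.stalk (h t))),
          τ'.comp ((g.stalkMap t').hom.comp (T.presheaf.stalkCongr (Inseparable.of_eq hg)).inv.hom) = σ') →
        ∀ a : ↑(T.presheaf.stalk t), σ a - σ' a ∈ (IsLocalRing.maximalIdeal ↑(S.presheaf.stalk (h t)) ^ N).map (algebraMap ↑(S.presheaf.stalk (h t)) (AdicCompletion (IsLocalRing.maximalIdeal ↑(S.presheaf.stalk (h t))) ↑(S.presheaf.stalk (h t)))) := by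
  classical
  obtain ⟨_, ⟨V, hV, rfl⟩, hsV, -⟩ :=
    (S.isBasis_affineOpens).exists_subset_of_mem_open (Set.mem_univ (h t)) isOpen_univ
  obtain ⟨_, ⟨U, hU, rfl⟩, htU, hUV⟩ :=
    (T.isBasis_affineOpens).exists_subset_of_mem_open
      (show t ∈ (h ⁻¹ᵁ V : Set T) from hsV) (h ⁻¹ᵁ V).isOpen
  replace hV : IsAffineOpen V := hV
  replace hU : IsAffineOpen U := hU
  replace hUV : U ≤ h ⁻¹ᵁ V := hUV
  have hft := h.finiteType_appLE hV hU hUV
  algebraize [(h.appLE V U hUV).hom]
  letI aS : Algebra Γ(S, V) (S.presheaf.stalk (h t)) :=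
    TopCat.Presheaf.algebra_section_stalk S.presheaf ⟨h t, hsV⟩
  letI aT : Algebra Γ(T, U) (T.presheaf.stalk t) :=
    TopCat.Presheaf.algebra_section_stalk T.presheaf ⟨t, htU⟩
  haveI locS : IsLocalization.AtPrime (S.presheaf.stalk (h t))
      (hV.primeIdealOf ⟨h t, hsV⟩).asIdeal := hV.isLocalization_stalk ⟨h t, hsV⟩
  haveI locT : IsLocalization.AtPrime (T.presheaf.stalk t)
      (hU.primeIdealOf ⟨t, htU⟩).asIdeal := hU.isLocalization_stalk ⟨t, htU⟩
  have haS : ∀ a : Γ(S, V), algebraMap Γ(S, V) (S.presheaf.stalk (h t)) a =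
      (S.presheaf.germ V (h t) hsV).hom a := fun a => rfl
  have haT : ∀ b : Γ(T, U), algebraMap Γ(T, U) (T.presheaf.stalk t) b =
      (T.presheaf.germ U t htU).hom b := fun b => rfl
  have hφ : ∀ a : Γ(S, V), (h.stalkMap t).hom (algebraMap Γ(S, V) (S.presheaf.stalk (h t)) a) =
      algebraMap Γ(T, U) (T.presheaf.stalk t) (algebraMap Γ(S, V) Γ(T, U) a) := by
    intro a
    rw [haS, haT, RingHom.algebraMap_toAlgebra]
    have := Scheme.Hom.germ_stalkMap_apply h V t hsV a
    rw [this, Scheme.Hom.appLE, CommRingCat.comp_apply, TopCat.Presheaf.germ_res_apply]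
  obtain ⟨B₁, _, _, hft₁, τ₀, hτ₀, huniq⟩ :=
    Groth.Agent.H99.ComplApprox.core (A₀ := Γ(S, V)) (B₀ := Γ(T, U))
      (O := S.presheaf.stalk (h t)) (L := T.presheaf.stalk t)
      (hV.primeIdealOf ⟨h t, hsV⟩).asIdeal (hU.primeIdealOf ⟨t, htU⟩).asIdeal
      (h.stalkMap t).hom hφ σ hσ N
  set O := S.presheaf.stalk (h t) with hO
  set Oh := AdicCompletion (IsLocalRing.maximalIdeal ↑O) ↑O with hOh
  let R : CommRingCat.{u} := CommRingCat.of B₁
  let ψ : Γ(T, U) ⟶ R := CommRingCat.ofHom (algebraMap Γ(T, U) B₁)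
  let g : Spec R ⟶ T := Spec.map ψ ≫ hU.fromSpec
  let q₁ : Ideal B₁ := (IsLocalRing.maximalIdeal Oh).comap τ₀
  haveI hq₁ : q₁.IsPrime := Ideal.comap_isPrime τ₀ _
  let t' : Spec R := (⟨q₁, hq₁⟩ : PrimeSpectrum B₁)
  -- `σ` is local
  have hσloc : (IsLocalRing.maximalIdeal Oh).comap σ = IsLocalRing.maximalIdeal (T.presheaf.stalk t) := by
    apply le_antisymm
    · exact IsLocalRing.le_maximalIdeal (Ideal.IsPrime.ne_top (Ideal.comap_isPrime σ _))
    · intro a ha
      rw [Ideal.mem_comap, AdicCompletion.maximalIdeal_eq_map]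
      exact hloc a ha
  have hg : g t' = t := by
    have h1 : (Spec.map ψ) t' = hU.primeIdealOf ⟨t, htU⟩ := by
      apply PrimeSpectrum.ext
      show q₁.comap (algebraMap Γ(T, U) B₁) = _
      rw [← IsLocalization.AtPrime.under_maximalIdeal (T.presheaf.stalk t)
        (hU.primeIdealOf ⟨t, htU⟩).asIdeal, ← hσloc]
      ext b
      simp only [q₁, Ideal.mem_comap, hτ₀]
    show hU.fromSpec ((Spec.map ψ) t') = t
    rw [h1]
    exact hU.fromSpec_primeIdealOf ⟨t, htU⟩
  have ht'U : g t' ∈ U := hg ▸ htU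
  letI aR : Algebra B₁ ((Spec R).presheaf.stalk t') := StructureSheaf.stalkAlgebra B₁ t'
  haveI locR : IsLocalization.AtPrime ((Spec R).presheaf.stalk t') q₁ :=
    StructureSheaf.IsLocalization.to_stalk B₁ t'
  have hunits : ∀ y : q₁.primeCompl, IsUnit (τ₀ y) := by
    intro y
    have : τ₀ y ∉ IsLocalRing.maximalIdeal Oh := y.2
    exact IsLocalRing.notMem_maximalIdeal.mp this
  let τ : (Spec R).presheaf.stalk t' →+* Oh := IsLocalization.lift (M := q₁.primeCompl) hunits
  have hτ : ∀ r : B₁, τ (algebraMap B₁ ((Spec R).presheaf.stalk t') r) = τ₀ r :=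
    IsLocalization.lift_eq hunits
  -- the comparison map on stalks, on germs
  have hγ : ∀ b : Γ(T, U),
      ((g.stalkMap t').hom.comp (T.presheaf.stalkCongr (Inseparable.of_eq hg)).inv.hom)
        (algebraMap Γ(T, U) (T.presheaf.stalk t) b) =
      algebraMap B₁ ((Spec R).presheaf.stalk t') (algebraMap Γ(T, U) B₁ b) := by
    intro b
    rw [RingHom.comp_apply, haT]
    have h1 : (T.presheaf.stalkCongr (Inseparable.of_eq hg)).inv.hom
        ((T.presheaf.germ U t htU).hom b) = (T.presheaf.germ U (g t') ht'U).hom b := by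
      have := TopCat.Presheaf.germ_stalkSpecializes T.presheaf htU
        (Inseparable.of_eq hg).le
      exact congrArg (fun f => f.hom b) this
    rw [h1]
    exact Groth.Agent.H99.ComplApproxSch.germ_app_eq hU ψ t' ht'U b
  refine ⟨Spec R, g, t', hg, τ, ?_, ?_, ?_, ?_⟩
  · haveI : LocallyOfFiniteType (Spec.map ψ) := by
      rw [HasRingHomProperty.Spec_iff (P := @LocallyOfFiniteType)]
      exact RingHom.finiteType_algebraMap.mpr hft₁
    infer_instance
  · infer_instance
  · apply IsLocalization.ringHom_ext (hU.primeIdealOf ⟨t, htU⟩).asIdeal.primeCompl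
    refine RingHom.ext (fun b => ?_)
    rw [RingHom.comp_apply, RingHom.comp_apply, hγ, hτ, hτ₀]
    rfl
  · intro σ' hσ' hloc' hex a
    obtain ⟨τ', hτ'⟩ := hex
    refine huniq σ' hσ' (τ'.comp (algebraMap B₁ ((Spec R).presheaf.stalk t'))) ?_ a
    intro b
    rw [RingHom.comp_apply, ← hγ, ← hτ']
    rfl

end Groth.Agent.S7201
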