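import Groth.Statements.S7203
import Groth.Agent.S7202
import Groth.Agent.H66.CAV_A1
import Groth.Agent.H99.CAV_A2
import Groth.Agent.H10.CAV_B
import Groth.Agent.H10.CAV_C
import Groth.Agent.H84.CAVRing

set_option autoImplicit false
universe u
open FlatMor

namespace Groth.Agent.S7203

open AlgebraicGeometry CategoryTheory Limits IsLocalRing

/-- the ring key: combination of (A1), (A2). -/
theorem ring_key {R S T : Type u} [CommRing R] [CommRing S] [CommRing T] [IsLocalRing R]
    [IsLocalRing S] [IsLocalRing T] [IsNoetherianRing R] [IsNoetherianRing S] [IsNoetherianRing T]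
    (α : T →+* S) [IsLocalHom α] (hαflat : α.Flat)
    (hαmax : (maximalIdeal T).map α = maximalIdeal S)
    (hαres : Function.Bijective (ResidueField.map α))
    (β : R →+* S) [IsLocalHom β]
    (φ : AdicCompletion (maximalIdeal R) R ≃+* AdicCompletion (maximalIdeal T) T)
    (N : ℕ) (hN : 2 ≤ N)
    (hcompat : ∀ (b : R) (c : T),
      AdicCompletion.evalₐ (maximalIdeal T) N
          (φ (algebraMap R (AdicCompletion (maximalIdeal R) R) b)) =
        Ideal.Quotient.mk (maximalIdeal T ^ N) c →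
      Ideal.Quotient.mk (maximalIdeal S ^ N) (β b) = Ideal.Quotient.mk (maximalIdeal S ^ N) (α c)) :
    β.Flat ∧ (maximalIdeal R).map β = maximalIdeal S ∧
      Function.Bijective (ResidueField.map β) := by
  obtain ⟨αh, hαh⟩ := Groth.Agent.H66.CAV_A1.completion_equiv_of_etale α hαflat hαmax hαres
  refine Groth.Agent.H99.CAV_A2.key_of_equiv β (φ.trans αh) N hN ?_
  intro b
  obtain ⟨c, hc⟩ := Ideal.Quotient.mk_surjective
    (AdicCompletion.evalₐ (maximalIdeal T) N
      (φ (algebraMap R (AdicCompletion (maximalIdeal R) R) b)))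
  rw [RingEquiv.trans_apply, hαh N _ c hc.symm]
  exact (hcompat b c hc.symm).symm

theorem mem_pow_of_local {A B : Type*} [CommRing A] [CommRing B] [IsLocalRing A] [IsLocalRing B]
    (g : A →+* B) [IsLocalHom g] (N : ℕ) {a a' : A} (h : a - a' ∈ maximalIdeal A ^ N) :
    g a - g a' ∈ maximalIdeal B ^ N := by
  rw [← map_sub]
  have h8 : (maximalIdeal A ^ N).map g ≤ maximalIdeal B ^ N := by
    rw [Ideal.map_pow]
    exact Ideal.pow_right_mono (map_maximalIdeal_le g) N
  exact h8 (Ideal.mem_map_of_mem _ h)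

theorem stalkCongr_rfl_inv {X : Scheme.{u}} (x : X) (h : x = x) (c : ↑(X.presheaf.stalk x)) :
    (X.presheaf.stalkCongr (Inseparable.of_eq h)).inv.hom c = c := by
  simp [TopCat.Presheaf.stalkCongr]

open AlgebraicGeometry CategoryTheory Limits in
/-- Let S be locally Noetherian, p : X → S and q : Y → S locally of finite type, x in X and y in Y over
the same point s with O_{S,s} a G-ring, and φ : O_{Y,y}^∧ ≅ O_{X,x}^∧ an isomorphism of
O_{S,s}-algebras between the completed local rings. For every N ≥ 1 there are a scheme U, a point u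
and morphisms e : U → X, f : U → Y over S which are both elementary étale neighbourhoods (of (X, x)
and of (Y, y)) such that O_{Y,y}^∧ → O_{U,u}^∧ and O_{Y,y}^∧ → O_{X,x}^∧ → O_{U,u}^∧ (φ followed by
the map induced by e) agree modulo m_u^N; the last condition is written on O_{U,u}/m_u^N through
lifts modulo the N-th powers of the maximal ideals. -/
theorem result {X Y S : Scheme.{u}} [IsLocallyNoetherian S]
    (p : X ⟶ S) (q : Y ⟶ S) [LocallyOfFiniteType p] [LocallyOfFiniteType q] (x : X) (y : Y) (hxy : p x = q y)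
    (hG : CAlg.IsGRing ↑(S.presheaf.stalk (p x)))
    (φ : (AdicCompletion (IsLocalRing.maximalIdeal ↑(Y.presheaf.stalk y)) ↑(Y.presheaf.stalk y)) ≃+* (AdicCompletion (IsLocalRing.maximalIdeal ↑(X.presheaf.stalk x)) ↑(X.presheaf.stalk x)))
    (hφ : φ.toRingHom.comp ((algebraMap ↑(Y.presheaf.stalk y) (AdicCompletion (IsLocalRing.maximalIdeal ↑(Y.presheaf.stalk y)) ↑(Y.presheaf.stalk y))).comp
        ((q.stalkMap y).hom.comp (S.presheaf.stalkCongr (Inseparable.of_eq hxy)).hom.hom)) =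
      (algebraMap ↑(X.presheaf.stalk x) (AdicCompletion (IsLocalRing.maximalIdeal ↑(X.presheaf.stalk x)) ↑(X.presheaf.stalk x))).comp (p.stalkMap x).hom)
    (N : ℕ) (hN : 1 ≤ N) :
    ∃ (U : Scheme.{u}) (u : U) (e : U ⟶ X) (heu : e u = x) (f : U ⟶ Y) (hfu : f u = y),
      Etale e ∧ Function.Bijective (e.residueFieldMap u) ∧ Etale f ∧ Function.Bijective (f.residueFieldMap u) ∧
      f ≫ q = e ≫ p ∧
      ∀ (b : (AdicCompletion (IsLocalRing.maximalIdeal ↑(Y.presheaf.stalk y)) ↑(Y.presheaf.stalk y))) (cY : ↑(Y.presheaf.stalk y)) (cX : ↑(X.presheaf.stalk x)),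
        AdicCompletion.evalₐ (IsLocalRing.maximalIdeal ↑(Y.presheaf.stalk y)) N b =
          Ideal.Quotient.mk (IsLocalRing.maximalIdeal ↑(Y.presheaf.stalk y) ^ N) cY →
        AdicCompletion.evalₐ (IsLocalRing.maximalIdeal ↑(X.presheaf.stalk x)) N (φ b) =
          Ideal.Quotient.mk (IsLocalRing.maximalIdeal ↑(X.presheaf.stalk x) ^ N) cX →
        Ideal.Quotient.mk (IsLocalRing.maximalIdeal ↑(U.presheaf.stalk u) ^ N)
            ((f.stalkMap u).hom ((Y.presheaf.stalkCongr (Inseparable.of_eq hfu)).inv.hom cY)) =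
          Ideal.Quotient.mk (IsLocalRing.maximalIdeal ↑(U.presheaf.stalk u) ^ N)
            ((e.stalkMap u).hom ((X.presheaf.stalkCongr (Inseparable.of_eq heu)).inv.hom cX)) := by
  classical
  haveI : IsLocallyNoetherian X := LocallyOfFiniteType.isLocallyNoetherian p
  haveI : IsLocallyNoetherian Y := LocallyOfFiniteType.isLocallyNoetherian q
  have hloc : ∀ b ∈ IsLocalRing.maximalIdeal ↑(Y.presheaf.stalk y),
      (φ.toRingHom.comp (algebraMap ↑(Y.presheaf.stalk y)
        (AdicCompletion (IsLocalRing.maximalIdeal ↑(Y.presheaf.stalk y)) ↑(Y.presheaf.stalk y)))) b ∈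
      (IsLocalRing.maximalIdeal ↑(X.presheaf.stalk x)).map (algebraMap ↑(X.presheaf.stalk x)
        (AdicCompletion (IsLocalRing.maximalIdeal ↑(X.presheaf.stalk x)) ↑(X.presheaf.stalk x))) := by
    intro b hb
    exact Groth.Agent.H84.CAV.equiv_algebraMap_mem φ hb
  obtain ⟨U, e, u, heu, f, hfu, hE, hres, hcomm, hcompat⟩ :=
    Groth.Agent.S7202.result p q x y hxy hG
      (φ.toRingHom.comp (algebraMap ↑(Y.presheaf.stalk y)
        (AdicCompletion (IsLocalRing.maximalIdeal ↑(Y.presheaf.stalk y)) ↑(Y.presheaf.stalk y))))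
      (by rw [RingHom.comp_assoc]; exact hφ) hloc (max N 2) (le_max_of_le_left hN)
  subst heu
  subst hfu
  haveI := hE
  haveI : LocallyOfFiniteType (f ≫ q) := by rw [hcomm]; infer_instance
  haveI : LocallyOfFiniteType f := locallyOfFiniteType_of_comp f q
  haveI : IsLocallyNoetherian U := LocallyOfFiniteType.isLocallyNoetherian e
  obtain ⟨hαflat, hαmax, hαres⟩ := Groth.Agent.H10.CAV_B.etale_stalk_facts e u hres
  have hcompat' : ∀ (b : ↑(Y.presheaf.stalk (f u))) (c : ↑(X.presheaf.stalk (e u))),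
      AdicCompletion.evalₐ (IsLocalRing.maximalIdeal ↑(X.presheaf.stalk (e u))) (max N 2)
          (φ (algebraMap _ _ b)) =
        Ideal.Quotient.mk (IsLocalRing.maximalIdeal ↑(X.presheaf.stalk (e u)) ^ (max N 2)) c →
      Ideal.Quotient.mk (IsLocalRing.maximalIdeal ↑(U.presheaf.stalk u) ^ (max N 2))
          ((f.stalkMap u).hom b) =
        Ideal.Quotient.mk (IsLocalRing.maximalIdeal ↑(U.presheaf.stalk u) ^ (max N 2))
          ((e.stalkMap u).hom c) := by
    intro b c h
    have h1 := hcompat b c h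
    rwa [stalkCongr_rfl_inv _ rfl, stalkCongr_rfl_inv _ rfl] at h1
  obtain ⟨hβflat, hβmax, hβres⟩ := ring_key (e.stalkMap u).hom hαflat hαmax hαres
    (f.stalkMap u).hom φ (max N 2) (le_max_right _ _) hcompat'
  obtain ⟨U', huU', hEt⟩ := Groth.Agent.H10.CAV_C.exists_etale_open f u hβflat hβmax hβres
  have hιu : U'.ι ⟨u, huU'⟩ = u := rfl
  haveI hιiso : IsIso (U'.ι.residueFieldMap ⟨u, huU'⟩) :=
    Scheme.instIsIsoCommRingCatResidueFieldMapOfIsOpenImmersion U'.ι ⟨u, huU'⟩
  have hιbij : Function.Bijective (U'.ι.residueFieldMap ⟨u, huU'⟩) :=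
    ConcreteCategory.bijective_of_isIso _
  refine ⟨U', ⟨u, huU'⟩, U'.ι ≫ e, rfl, U'.ι ≫ f, rfl, inferInstance, ?_, hEt, ?_, ?_, ?_⟩
  · rw [Scheme.residueFieldMap_comp U'.ι e ⟨u, huU'⟩]
    show Function.Bijective ((U'.ι.residueFieldMap ⟨u, huU'⟩).hom.comp (e.residueFieldMap u).hom)
    exact hιbij.comp hres
  · rw [Scheme.residueFieldMap_comp U'.ι f ⟨u, huU'⟩]
    show Function.Bijective ((U'.ι.residueFieldMap ⟨u, huU'⟩).hom.comp (f.residueFieldMap u).hom)
    exact hιbij.comp hβres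
  · rw [Category.assoc, Category.assoc, hcomm]
  · intro b cY cX h1 h2
    have key := Groth.Agent.H84.CAV.compat_descend φ (e.stalkMap u).hom (f.stalkMap u).hom N
      (max N 2) (le_max_left _ _) hcompat' b cY cX h1 h2
    rw [Ideal.Quotient.eq] at key
    erw [stalkCongr_rfl_inv, stalkCongr_rfl_inv]
    rw [Scheme.Hom.stalkMap_comp U'.ι f ⟨u, huU'⟩, Scheme.Hom.stalkMap_comp U'.ι e ⟨u, huU'⟩,
      Ideal.Quotient.eq]
    haveI hloc' : IsLocalRing ↑(U'.toScheme.presheaf.stalk (⟨u, huU'⟩ : U'.toScheme)) :=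
      U'.toScheme.toLocallyRingedSpace.isLocalRing _
    haveI : IsLocalHom (U'.ι.stalkMap ⟨u, huU'⟩).hom := U'.ι.prop _
    exact mem_pow_of_local (U'.ι.stalkMap ⟨u, huU'⟩).hom N key
    all_goals rfl

end Groth.Agent.S7203
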