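import Groth.Statements.S7214
import Groth.Agent.S0888

set_option autoImplicit false
universe u
open CategoryTheory CategoryTheory.Limits AlgebraicGeometry Opposite TopologicalSpace
attribute [local instance] HasDerivedCategory.standard
open FlatMor

namespace Groth.Agent.S7214

lemma isPC_of_iso {Y : Scheme.{u}} (m : ℤ) {K K' : DCoh.D Y} (e : K ≅ K')
    (h : DCoh.IsPseudoCoherentD m K) : DCoh.IsPseudoCoherentD m K' := by
  intro x
  obtain ⟨V, hxV, hV⟩ := h x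
  exact ⟨V, hxV, fun F ⟨e'⟩ => hV F ⟨e' ≪≫ e.symm⟩⟩

lemma chartPC_summands {X S : Scheme.{u}} (m : ℤ) (E K : DCoh.D X) [HasBinaryBiproduct E K]
    (U : X.Opens) (V : S.Opens) {n : ℕ} (φ : MvPolynomial (Fin n) Γ(S, V) →+* Γ(X, U))
    (h : DerSch.ChartPC m (E ⊞ K) U V φ) :
    DerSch.ChartPC m E U V φ ∧ DerSch.ChartPC m K U V φ := by
  let T : CochainComplex X.Modules ℤ ⥤
      DCoh.D (Spec (CommRingCat.of (MvPolynomial (Fin n) Γ(S, V)))) :=
    DCoh.restrictCx U ⋙ DerSch.pushCx (DerSch.chartImm U φ) ⋙ DerivedCategory.Q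
  have key : ∀ (G₁ G₂ : CochainComplex X.Modules ℤ), Nonempty (DCoh.toD X G₁ ≅ E) →
      Nonempty (DCoh.toD X G₂ ≅ K) →
      DCoh.IsPseudoCoherentD m (T.obj G₁) ∧ DCoh.IsPseudoCoherentD m (T.obj G₂) := by
    rintro G₁ G₂ ⟨e₁⟩ ⟨e₂⟩
    have : PreservesBinaryBiproducts
        (DerivedCategory.Q : CochainComplex X.Modules ℤ ⥤ DCoh.D X) :=
      preservesBinaryBiproducts_of_preservesBiproducts _
    have : T.Additive := by dsimp only [T]; infer_instance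
    have : PreservesBinaryBiproducts T := preservesBinaryBiproducts_of_preservesBiproducts _
    have e : DCoh.toD X (G₁ ⊞ G₂) ≅ E ⊞ K :=
      (DerivedCategory.Q).mapBiprod G₁ G₂ ≪≫ biprod.mapIso e₁ e₂
    have h1 : DCoh.IsPseudoCoherentD m (T.obj (G₁ ⊞ G₂)) := h (G₁ ⊞ G₂) ⟨e⟩
    have h2 : DCoh.IsPseudoCoherentD m (T.obj G₁ ⊞ T.obj G₂) :=
      isPC_of_iso m (T.mapBiprod G₁ G₂) h1
    exact Groth.Agent.S0888.result m (T.obj G₁) (T.obj G₂) h2
  constructor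
  · intro G hG
    exact (key G (DerivedCategory.Q.objPreimage K) hG
      ⟨DerivedCategory.Q.objObjPreimageIso K⟩).1
  · intro G hG
    exact (key (DerivedCategory.Q.objPreimage E) G
      ⟨DerivedCategory.Q.objObjPreimageIso E⟩ hG).2


/-- Let f : X ⟶ S be a morphism of schemes, m an integer, and E, K objects of D(O_X). If the direct sum
E ⊕ K is m-pseudo-coherent relative to f (chart form; in particular f is locally of finite type),
then so are E and K. -/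
theorem result {X S : Scheme.{u}} (f : X ⟶ S) (m : ℤ) (E K : DCoh.D X)
    [HasBinaryBiproduct E K] (h : DerSch.IsPseudoCoherentRel f m (E ⊞ K)) :
    DerSch.IsPseudoCoherentRel f m E ∧ DerSch.IsPseudoCoherentRel f m K := by
  obtain ⟨hft, 𝒱, h𝒱, hV⟩ := h
  refine ⟨⟨hft, 𝒱, h𝒱, fun V hVm => ?_⟩, ⟨hft, 𝒱, h𝒱, fun V hVm => ?_⟩⟩
  · obtain ⟨𝒰, h𝒰, hU⟩ := hV V hVm
    refine ⟨𝒰, h𝒰, fun U hUm hle => ?_⟩
    obtain ⟨n, φ, hchart, hpc⟩ := hU U hUm hle
    exact ⟨n, φ, hchart, (chartPC_summands m E K _ _ φ hpc).1⟩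
  · obtain ⟨𝒰, h𝒰, hU⟩ := hV V hVm
    refine ⟨𝒰, h𝒰, fun U hUm hle => ?_⟩
    obtain ⟨n, φ, hchart, hpc⟩ := hU U hUm hle
    exact ⟨n, φ, hchart, (chartPC_summands m E K _ _ φ hpc).2⟩

end Groth.Agent.S7214
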