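import Groth.Statements.S7218
import Groth.Agent.H90.ChartPoly

set_option autoImplicit false
universe u
open CategoryTheory CategoryTheory.Limits AlgebraicGeometry Opposite TopologicalSpace
attribute [local instance] HasDerivedCategory.standard
open FlatMor

namespace Groth.Agent.S7218

/-- Let f : X ⟶ S be a morphism of schemes, V ⊆ S an affine open, r ∈ Γ(S, V) with basic open D(r) ⊆ V,
U ⊆ X an affine open with f(U) ⊆ D(r), g ∈ Γ(X, U) with basic open D(g) ⊆ U (a standard affine open
of U), E an object of D(O_X) and m an integer. Suppose there is a surjection from a polynomial ring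
Γ(S, D(r))[x_1, …, x_n] onto Γ(X, U), compatible with f, along whose closed immersion into affine
space over D(r) the direct image of E|_U is m-pseudo-coherent. Then there is a surjection from a
polynomial ring Γ(S, V)[x_1, …, x_k] onto Γ(X, D(g)), compatible with f, along whose closed
immersion into affine space over V the direct image of E|_{D(g)} is m-pseudo-coherent. (The
published statement allows any affine open of U in place of D(g); this row takes a standard open
D(g), the case its printed proof treats.) -/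
theorem result {X S : Scheme.{u}} (f : X ⟶ S) (V : S.affineOpens)
    (r : Γ(S, (V : S.Opens))) (U : X.affineOpens) (hU : (U : X.Opens) ≤ f ⁻¹ᵁ S.basicOpen r)
    (g : Γ(X, (U : X.Opens))) (h' : X.basicOpen g ≤ f ⁻¹ᵁ (V : S.Opens))
    (m : ℤ) (E : DCoh.D X)
    (hE : ∃ (n : ℕ) (φ : MvPolynomial (Fin n) Γ(S, S.basicOpen r) →+* Γ(X, (U : X.Opens))),
      DerSch.IsChart f (U : X.Opens) (S.basicOpen r) hU φ ∧ DerSch.ChartPC m E (U : X.Opens) (S.basicOpen r) φ) :
    ∃ (k : ℕ) (ψ : MvPolynomial (Fin k) Γ(S, (V : S.Opens)) →+* Γ(X, X.basicOpen g)),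
      DerSch.IsChart f (X.basicOpen g) (V : S.Opens) h' ψ ∧ DerSch.ChartPC m E (X.basicOpen g) (V : S.Opens) ψ := by
  obtain ⟨n, φ, ⟨hφs, hφC⟩, hPC⟩ := hE
  obtain ⟨G, rfl⟩ := hφs g
  haveI : IsLocalization.Away r Γ(S, S.basicOpen r) := V.2.isLocalization_basicOpen r
  -- the polynomial-like structure on `P_G`
  have hγ₀ := Groth.Agent.H90.Chart.polyLike_base_away (R := Γ(S, (V : S.Opens)))
    (R' := Γ(S, S.basicOpen r)) r n
  have hγ₁ := hγ₀.away (P' := Groth.Agent.H90.Chart.LocRing G) G
  have hθ₁ := Groth.Agent.H90.Chart.locTheta_surjective U.2 φ hφs G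
  obtain ⟨k, ψ, hψs, hψC, hψT⟩ := Groth.Agent.H90.Chart.exists_chart_of_polyLike _ hγ₁
    (Groth.Agent.H90.Chart.locTheta (U : X.Opens) φ G) hθ₁
  refine ⟨k, ψ, ⟨hψs, ?_⟩, ?_⟩
  · rw [hψC, ← RingHom.comp_assoc, Groth.Agent.H90.Chart.locTheta_comp_algebraMap,
      RingHom.comp_assoc]
    have h0 : φ.comp (MvPolynomial.C.comp
        (algebraMap Γ(S, (V : S.Opens)) Γ(S, S.basicOpen r))) =
        (φ.comp MvPolynomial.C).comp (algebraMap Γ(S, (V : S.Opens)) Γ(S, S.basicOpen r)) :=
      (RingHom.comp_assoc _ _ _).symm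
    rw [h0, hφC]
    have h1 : S.presheaf.map (homOfLE (S.basicOpen_le r)).op ≫
        f.appLE (S.basicOpen r) (U : X.Opens) hU ≫
        X.presheaf.map (homOfLE (X.basicOpen_le (φ G))).op =
        f.appLE (V : S.Opens) (X.basicOpen (φ G)) h' := by
      rw [Scheme.Hom.appLE_map, Scheme.Hom.map_appLE]
    exact congrArg (fun t => t.hom) h1
  · intro G₀ hG₀
    exact (hψT m G₀).1 (Groth.Agent.H90.Chart.test_basicOpen φ G m G₀ (hPC G₀ hG₀))

end Groth.Agent.S7218
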