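import Groth.Statements.S7221
import Mathlib
-- import your own Groth.Agent.* helpers here

set_option autoImplicit false
set_option backward.isDefEq.respectTransparency false
universe u
open CategoryTheory CategoryTheory.Limits TensorProduct
attribute [local instance] HasDerivedCategory.standard
open FlatMor

namespace Groth.Agent.S7221

section General

variable {R S R' S' : Type u} [CommRing R] [CommRing S] [CommRing R']
    [CommRing S'] [Algebra R S] [Algebra R' S'] [Algebra R R'] [Algebra S S'] [Algebra R S']
    [IsScalarTower R R' S'] [IsScalarTower R S S']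

theorem bcH1Map_surjective_of {P : Algebra.Extension.{u} R S} {P' : Algebra.Extension.{u} R' S'}
    (f : P.Hom P')
    (h1 : Function.Surjective (LinearMap.liftBaseChange S' (Algebra.Extension.Cotangent.map f)))
    (h0 : Function.Injective (LinearMap.liftBaseChange S' (Algebra.Extension.CotangentSpace.map f))) :
    Function.Surjective (NLCx.bcH1Map f) := by
  intro w
  obtain ⟨z, hz⟩ := h1 w.1
  have key : P'.cotangentComplex ∘ₗ
      LinearMap.liftBaseChange S' (Algebra.Extension.Cotangent.map f) =
      LinearMap.liftBaseChange S' (Algebra.Extension.CotangentSpace.map f) ∘ₗ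
        P.cotangentComplex.baseChange S' := by
    ext y
    simpa using (Algebra.Extension.CotangentSpace.map_cotangentComplex f y).symm
  have hz0 : P.cotangentComplex.baseChange S' z = 0 := by
    apply h0
    have := congr($key z)
    simp only [LinearMap.coe_comp, Function.comp_apply] at this
    rw [← this, hz, map_zero]
    exact w.2
  exact ⟨⟨z, hz0⟩, Subtype.ext hz⟩

lemma ring_smul_eq
    (P : Algebra.Extension.{u} R S) (r : P.Ring) (z : P.Cotangent) :
    r • z = algebraMap P.Ring S r • z := (algebraMap_smul S r z).symm

end General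

section SameVars

variable {R S R' S' : Type u} [CommRing R] [CommRing S] [CommRing R']
    [CommRing S'] [Algebra R S] [Algebra R' S'] [Algebra R R'] [Algebra S S'] [Algebra R S']
    [IsScalarTower R R' S'] [IsScalarTower R S S']
    {ι : Type u} (G : Algebra.Generators R S ι) (G' : Algebra.Generators R' S' ι)
    (h : ∀ i, G'.val i = algebraMap S S' (G.val i))

/-- the ideal generated by the image of `ker G` in `R'[X]`. -/
noncomputable abbrev J : Ideal (MvPolynomial ι R') :=
  Ideal.map (NLCx.sameVarsHom G G' h).toAlgHom G.ker

/-- the map `S → R'[X]/J`. -/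
noncomputable def fS : S →ₐ[R] (MvPolynomial ι R' ⧸ J G G' h) :=
  AlgHom.liftOfSurjective (MvPolynomial.aeval (R := R) G.val) G.aeval_val_surjective
    ((Ideal.Quotient.mkₐ R (J G G' h)).comp (NLCx.sameVarsHom G G' h).toAlgHom) (by
      intro p hp
      rw [RingHom.mem_ker]
      show Ideal.Quotient.mk (J G G' h) ((NLCx.sameVarsHom G G' h).toAlgHom p) = 0
      rw [Ideal.Quotient.eq_zero_iff_mem]
      apply Ideal.mem_map_of_mem
      rw [Algebra.Generators.ker_eq_ker_aeval_val]
      exact hp)

lemma fS_aeval (p : MvPolynomial ι R) :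
    fS G G' h (MvPolynomial.aeval G.val p) =
      Ideal.Quotient.mk (J G G' h) ((NLCx.sameVarsHom G G' h).toAlgHom p) := by
  unfold fS
  rw [AlgHom.liftOfSurjective_apply]
  rfl

variable [Algebra.IsPushout R R' S S']

/-- the map `S' → R'[X]/J` from the pushout property. -/
noncomputable def psi : S' →ₐ[R] (MvPolynomial ι R' ⧸ J G G' h) :=
  Algebra.pushoutDesc S' (IsScalarTower.toAlgHom R R' (MvPolynomial ι R' ⧸ J G G' h)) (fS G G' h)
    (fun _ _ => mul_comm _ _)

lemma psi_aeval (x' : MvPolynomial ι R') :
    psi G G' h (MvPolynomial.aeval G'.val x') = Ideal.Quotient.mk (J G G' h) x' := by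
  induction x' using MvPolynomial.induction_on with
  | C a =>
    rw [MvPolynomial.aeval_C]
    unfold psi
    rw [Algebra.pushoutDesc_left]
    simp
    rfl
  | add p q hp hq => rw [map_add, map_add, hp, hq, map_add]
  | mul_X p i hp =>
    rw [map_mul, map_mul, hp, MvPolynomial.aeval_X, h i, map_mul]
    congr 1
    unfold psi
    rw [Algebra.pushoutDesc_right]
    have := fS_aeval G G' h (MvPolynomial.X i)
    rw [MvPolynomial.aeval_X] at this
    rw [this, Algebra.Generators.Hom.toAlgHom_X]
    rfl

lemma ker_le_J : G'.ker ≤ J G G' h := by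
  intro x' hx'
  rw [Algebra.Generators.ker_eq_ker_aeval_val, RingHom.mem_ker] at hx'
  have := psi_aeval G G' h x'
  rw [hx', map_zero] at this
  exact Ideal.Quotient.eq_zero_iff_mem.mp this.symm

lemma liftBaseChange_cotangent_surjective : Function.Surjective
    (LinearMap.liftBaseChange S'
      (Algebra.Extension.Cotangent.map (NLCx.sameVarsHom G G' h).toExtensionHom)) := by
  intro z'
  obtain ⟨x', rfl⟩ := Algebra.Extension.Cotangent.mk_surjective z'
  obtain ⟨x', hx'⟩ := x'
  have key : ∀ y ∈ J G G' h, ∃ (hy : y ∈ G'.ker),
      Algebra.Extension.Cotangent.mk ⟨y, hy⟩ ∈ LinearMap.range (LinearMap.liftBaseChange S'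
        (Algebra.Extension.Cotangent.map (NLCx.sameVarsHom G G' h).toExtensionHom)) := by
    intro y hy
    refine Submodule.span_induction (R := MvPolynomial ι R') (M := MvPolynomial ι R')
      (p := fun (y : MvPolynomial ι R') _ => ∃ (hy : y ∈ G'.ker),
      Algebra.Extension.Cotangent.mk ⟨y, hy⟩ ∈ LinearMap.range (LinearMap.liftBaseChange S'
        (Algebra.Extension.Cotangent.map (NLCx.sameVarsHom G G' h).toExtensionHom)))
      ?_ ?_ ?_ ?_ hy
    · rintro _ ⟨p, hp, rfl⟩
      have hp' : (NLCx.sameVarsHom G G' h).toAlgHom p ∈ G'.toExtension.ker := by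
        show algebraMap G'.toExtension.Ring S' _ = 0
        have := (NLCx.sameVarsHom G G' h).toExtensionHom.algebraMap_toRingHom p
        refine this.trans ?_
        rw [show algebraMap G.toExtension.Ring S p = 0 from hp, map_zero]
      refine ⟨hp', ⟨(1 : S') ⊗ₜ Algebra.Extension.Cotangent.mk ⟨p, hp⟩, ?_⟩⟩
      rw [LinearMap.liftBaseChange_tmul, one_smul, Algebra.Extension.Cotangent.map_mk]
      rfl
    · exact ⟨Submodule.zero_mem _, by
        rw [show (⟨0, Submodule.zero_mem _⟩ : G'.toExtension.ker) = 0 from rfl, map_zero]
        exact Submodule.zero_mem _⟩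
    · rintro a b _ _ ⟨ha, ha'⟩ ⟨hb, hb'⟩
      refine ⟨Submodule.add_mem _ ha hb, ?_⟩
      rw [show (⟨a + b, Submodule.add_mem _ ha hb⟩ : G'.toExtension.ker) = ⟨a, ha⟩ + ⟨b, hb⟩ from rfl,
        map_add]
      exact Submodule.add_mem _ ha' hb'
    · rintro c a _ ⟨ha, ha'⟩
      refine ⟨Ideal.mul_mem_left _ _ ha, ?_⟩
      rw [show (⟨c • a, Ideal.mul_mem_left _ _ ha⟩ : G'.toExtension.ker) =
        (show G'.toExtension.Ring from c) • ⟨a, ha⟩ from rfl, map_smul, ring_smul_eq]
      exact Submodule.smul_mem _ _ ha'
  obtain ⟨_, hmem⟩ := key x' (ker_le_J G G' h hx')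
  exact hmem

omit [Algebra.IsPushout R R' S S'] in
lemma cotangentSpace_map_basis (i : ι) :
    Algebra.Extension.CotangentSpace.map (NLCx.sameVarsHom G G' h).toExtensionHom
      (G.cotangentSpaceBasis i) = G'.cotangentSpaceBasis i := by
  rw [Algebra.Generators.cotangentSpaceBasis_apply, Algebra.Generators.cotangentSpaceBasis_apply]
  erw [Algebra.Extension.CotangentSpace.map_tmul]
  rw [map_one]
  congr 2
  exact (Algebra.Generators.Hom.toAlgHom_X (NLCx.sameVarsHom G G' h) i)

omit [Algebra.IsPushout R R' S S'] in
lemma liftBaseChange_cotangentSpace_injective : Function.Injective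
    (LinearMap.liftBaseChange S'
      (Algebra.Extension.CotangentSpace.map (NLCx.sameVarsHom G G' h).toExtensionHom)) := by
  let b := G.cotangentSpaceBasis.baseChange S'
  let e := b.equiv G'.cotangentSpaceBasis (Equiv.refl ι)
  have : LinearMap.liftBaseChange S'
      (Algebra.Extension.CotangentSpace.map (NLCx.sameVarsHom G G' h).toExtensionHom) =
      e.toLinearMap :=
    b.ext (fun i => by
      rw [LinearEquiv.coe_coe, Module.Basis.equiv_apply, Equiv.refl_apply]
      simp only [b, Module.Basis.baseChange_apply, LinearMap.liftBaseChange_tmul, one_smul,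
        cotangentSpace_map_basis])
  rw [this]
  exact e.injective

theorem part1 : Function.Surjective (NLCx.bcH1Map (NLCx.sameVarsHom G G' h).toExtensionHom) :=
  bcH1Map_surjective_of _ (liftBaseChange_cotangent_surjective G G' h)
    (liftBaseChange_cotangentSpace_injective G G' h)

end SameVars

section Comp

variable {R S R' S' : Type u} [CommRing R] [CommRing S] [CommRing R']
    [CommRing S'] [Algebra R S] [Algebra R' S'] [Algebra R R'] [Algebra S S'] [Algebra R S']
    [IsScalarTower R R' S'] [IsScalarTower R S S']

lemma bcH1Map_comp {P : Algebra.Extension.{u} R S} {P' P'' : Algebra.Extension.{u} R' S'}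
    (f : P.Hom P') (g : P'.Hom P'') (x : NLCx.bcH1 P S') :
    NLCx.bcH1Map (g.comp f) x = Algebra.Extension.H1Cotangent.map g (NLCx.bcH1Map f x) := by
  apply Subtype.ext
  have key : ∀ t : S' ⊗[S] P.Cotangent,
      LinearMap.liftBaseChange S' (Algebra.Extension.Cotangent.map (g.comp f)) t =
        Algebra.Extension.Cotangent.map g
          (LinearMap.liftBaseChange S' (Algebra.Extension.Cotangent.map f) t) := by
    intro t
    induction t using TensorProduct.induction_on with
    | zero => simp
    | tmul s' z =>
      rw [LinearMap.liftBaseChange_tmul, LinearMap.liftBaseChange_tmul, map_smul,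
        Algebra.Extension.Cotangent.map_comp]
      rfl
    | add a b ha hb => rw [map_add, map_add, map_add, ha, hb]
  exact key x.1

end Comp

section Self

variable (R S R' S' : Type u) [CommRing R] [CommRing S] [CommRing R']
    [CommRing S'] [Algebra R S] [Algebra R' S'] [Algebra R R'] [Algebra S S'] [Algebra R S']
    [IsScalarTower R R' S'] [IsScalarTower R S S'] [Algebra.IsPushout R R' S S']

include R in
lemma aeval_surjective :
    Function.Surjective (MvPolynomial.aeval (R := R') (fun s : S => algebraMap S S' s)) := by
  intro x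
  have H : Algebra.IsPushout R R' S S' := inferInstance
  change x ∈ (MvPolynomial.aeval (R := R') (fun s : S => algebraMap S S' s)).range
  refine H.1.inductionOn x _ ?_ ?_ ?_ ?_
  · exact Subalgebra.zero_mem _
  · intro s
    exact ⟨MvPolynomial.X s, by simp⟩
  · intro r' y hy
    exact Subalgebra.smul_mem _ hy r'
  · intro y z hy hz
    exact Subalgebra.add_mem _ hy hz

/-- the presentation of `S'` over `R'` with variables indexed by `S`. -/
noncomputable def G2 : Algebra.Generators R' S' S :=
  Algebra.Generators.ofSurjective (fun s : S => algebraMap S S' s) (aeval_surjective R S R' S')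

lemma h2 (s : S) : (G2 R S R' S').val s = algebraMap S S' ((Algebra.Generators.self R S).val s) := rfl

/-- the comparison `G2 → self`. -/
noncomputable def g2 : (G2 R S R' S').Hom (Algebra.Generators.self R' S') where
  val s := MvPolynomial.X (algebraMap S S' s)
  aeval_val s := by simp [G2]

lemma defaultHom_eq :
    (Algebra.Generators.self R S).defaultHom (Algebra.Generators.self R' S') =
      (g2 R S R' S').comp (NLCx.sameVarsHom (Algebra.Generators.self R S) (G2 R S R' S')
        (h2 R S R' S')) := by
  apply Algebra.Generators.Hom.ext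
  funext s
  simp [Algebra.Generators.Hom.comp, NLCx.sameVarsHom, g2, Algebra.Generators.defaultHom,
    Algebra.Generators.self]
  rfl

theorem part2 : Function.Surjective (NLCx.bcH1Map
    ((Algebra.Generators.self R S).defaultHom (Algebra.Generators.self R' S')).toExtensionHom) := by
  rw [defaultHom_eq, Algebra.Generators.Hom.toExtensionHom_comp]
  intro w
  obtain ⟨v, hv⟩ := (Algebra.Extension.H1Cotangent.equiv (g2 R S R' S').toExtensionHom
    ((Algebra.Generators.self R' S').defaultHom (G2 R S R' S')).toExtensionHom).surjective w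
  obtain ⟨x, hx⟩ := part1 (Algebra.Generators.self R S) (G2 R S R' S') (h2 R S R' S') v
  refine ⟨x, ?_⟩
  rw [bcH1Map_comp, hx, ← hv]
  rfl

end Self

/-- Let R → S and R → R' be ring homomorphisms and let S' be an algebra over R' and over S making the
square cocartesian, S' = S ⊗_R R'. Let G be a presentation of S over R by a polynomial algebra and
G' the presentation of S' over R' on the same set of variables, each variable mapping to the image
of the corresponding generator (the base change of G). Then the canonical map H^{-1}(NL(G) ⊗_S S') →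
H^{-1}(NL(G')) is surjective. The same holds for the canonical map H^{-1}(NL_{S/R} ⊗_S S') →
H^{-1}(NL_{S'/R'}) between the complexes of the presentations on all elements. (In degree 0 the
corresponding map S' ⊗_S Ω_{S/R} → Ω_{S'/R'} is bijective; that part is not restated.) -/
theorem result (R S R' S' : Type u) [CommRing R] [CommRing S] [CommRing R']
    [CommRing S'] [Algebra R S] [Algebra R' S'] [Algebra R R'] [Algebra S S'] [Algebra R S']
    [IsScalarTower R R' S'] [IsScalarTower R S S'] [Algebra.IsPushout R R' S S']
    {ι : Type u} (G : Algebra.Generators R S ι) (G' : Algebra.Generators R' S' ι)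
    (h : ∀ i, G'.val i = algebraMap S S' (G.val i)) :
    Function.Surjective (NLCx.bcH1Map (NLCx.sameVarsHom G G' h).toExtensionHom) ∧
      Function.Surjective (NLCx.bcH1Map
        ((Algebra.Generators.self R S).defaultHom (Algebra.Generators.self R' S')).toExtensionHom) := by
  exact ⟨part1 G G' h, part2 R S R' S'⟩

end Groth.Agent.S7221
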