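import Groth.Statements.S7222
import Mathlib
import Groth.Agent.H61.NLFlatBC2
import Groth.Agent.H59.NLFlat
import Groth.Agent.H53.LBaseChange

set_option autoImplicit false
universe u
open CategoryTheory CategoryTheory.Limits TensorProduct
attribute [local instance] HasDerivedCategory.standard
open FlatMor

namespace Groth.Agent.S7222

open HomologicalComplex Groth.Agent.H61.NLInv Groth.Agent.H61.NLFlatBC

section ExtDouble

variable {B : Type u} [CommRing B] (B' : Type u) [CommRing B'] [Algebra B B']

/-- `B'` with the `B`-module structure through restriction of scalars. -/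
abbrev Bres : Type u := (ModuleCat.restrictScalars (algebraMap B B')).obj (ModuleCat.of B' B')

instance : IsScalarTower B B' (Bres (B := B) B') where
  smul_assoc a b x := by
    show (a • b) • x = algebraMap B B' a • (b • x)
    rw [Algebra.smul_def, mul_smul]

/-- The identity `Bres ≃ B'` as a `B'`-linear equivalence. -/
noncomputable def BresEquiv : Bres (B := B) B' ≃ₗ[B'] B' where
  toFun b := b
  invFun b := b
  map_add' _ _ := rfl
  map_smul' _ _ := rfl
  left_inv _ := rfl
  right_inv _ := rfl

/-- Extension of scalars is the usual tensor product. -/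
noncomputable def extEquiv (M : ModuleCat.{u} B) :
    ((ModuleCat.extendScalars.{u, u, u} (algebraMap B B')).obj M) ≃ₗ[B'] B' ⊗[B] M :=
  TensorProduct.AlgebraTensorModule.congr (BresEquiv (B := B) B') (LinearEquiv.refl B M)

/-- the iso in `ModuleCat`. -/
noncomputable def extIso (M : ModuleCat.{u} B) :
    (ModuleCat.extendScalars.{u, u, u} (algebraMap B B')).obj M ≅ ModuleCat.of B' (B' ⊗[B] M) :=
  (extEquiv B' M).toModuleIso

lemma extIso_naturality {M N : ModuleCat.{u} B} (g : M ⟶ N) :
    (ModuleCat.extendScalars.{u, u, u} (algebraMap B B')).map g ≫ (extIso B' N).hom =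
      (extIso B' M).hom ≫ ModuleCat.ofHom (g.hom.baseChange B') := by
  apply ModuleCat.ExtendScalars.hom_ext
  intro m
  rfl

end ExtDouble

section BC

variable {R S : Type u} [CommRing R] [CommRing S] [Algebra R S]
  (S' : Type u) [CommRing S'] [Algebra S S']

/-- the extension of scalars functor. -/
noncomputable abbrev F : ModuleCat.{u} S ⥤ ModuleCat.{u} S' :=
  ModuleCat.extendScalars.{u, u, u} (algebraMap S S')

lemma comm_aux (P : Algebra.Extension.{u} R S) :
    ModuleCat.ofHom (P.cotangentComplex.baseChange S') ≫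
      ((extIso S' (ModuleCat.of S P.CotangentSpace)).inv ≫ (F S').map (iso₁ P).inv) =
    ((extIso S' (ModuleCat.of S P.Cotangent)).inv ≫ (F S').map (iso₀ P).inv) ≫
      (F S').map ((nl P).d (-1) 0) := by
  rw [nl_d]
  simp only [Category.assoc, Functor.map_comp]
  rw [← Functor.map_comp_assoc, Iso.inv_hom_id, CategoryTheory.Functor.map_id, Category.id_comp,
    ← Category.assoc, ← Category.assoc]
  congr 1
  rw [Iso.comp_inv_eq, Category.assoc, extIso_naturality, Iso.inv_hom_id_assoc]

lemma zero_aux (P : Algebra.Extension.{u} R S) (k : ℤ) :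
    ((extIso S' (ModuleCat.of S P.CotangentSpace)).inv ≫ (F S').map (iso₁ P).inv) ≫
      (F S').map ((nl P).d 0 k) = 0 := by
  rw [show (nl P).d 0 k = 0 from double_d_eq_zero₀ _ _ _ _ (by decide), Functor.map_zero,
    Limits.comp_zero]

/-- `NL(P) ⊗_S S'` (written out) maps to the termwise extension of scalars of `NL(P)`. -/
noncomputable def Ψ (P : Algebra.Extension.{u} R S) :
    NLCx.bcCx P S' ⟶ (Groth.Agent.H35.FlatBC.extCx (algebraMap S S')).obj (nl P) :=
  mkHomFromDouble bc_rel Groth.Agent.H61.NLInv.ne
    ((extIso S' (ModuleCat.of S P.Cotangent)).inv ≫ (F S').map (iso₀ P).inv)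
    ((extIso S' (ModuleCat.of S P.CotangentSpace)).inv ≫ (F S').map (iso₁ P).inv)
    (comm_aux S' P).symm (fun k _ => zero_aux S' P k)

lemma isIso_aux₀ (P : Algebra.Extension.{u} R S) :
    IsIso ((extIso S' (ModuleCat.of S P.Cotangent)).inv ≫ (F S').map (iso₀ P).inv) :=
  inferInstance

lemma isIso_aux₁ (P : Algebra.Extension.{u} R S) :
    IsIso ((extIso S' (ModuleCat.of S P.CotangentSpace)).inv ≫ (F S').map (iso₁ P).inv) :=
  inferInstance

instance (P : Algebra.Extension.{u} R S) : IsIso (Ψ S' P) := by
  have : ∀ i, IsIso ((Ψ S' P).f i) := by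
    intro i
    by_cases hi0 : i = -1
    · subst hi0
      rw [Ψ, mkHomFromDouble_f₀]
      exact @IsIso.comp_isIso _ _ _ _ _ _ _ inferInstance (isIso_aux₀ S' P)
    · by_cases hi1 : i = 0
      · subst hi1
        rw [Ψ, mkHomFromDouble_f₁]
        exact @IsIso.comp_isIso _ _ _ _ _ _ _ inferInstance (isIso_aux₁ S' P)
      · have z1 : Limits.IsZero ((NLCx.bcCx P S').X i) := isZero_double_X _ bc_rel i hi0 hi1
        have z2 : Limits.IsZero
            (((Groth.Agent.H35.FlatBC.extCx (algebraMap S S')).obj (nl P)).X i) :=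
          (F S').map_isZero (isZero_double_X _ Groth.Agent.H61.NLInv.rel i hi0 hi1)
        exact ⟨⟨0, z1.eq_of_src _ _, z2.eq_of_src _ _⟩⟩
  exact HomologicalComplex.Hom.isIso_of_components _

end BC

section Flat

variable (A B : Type u) [CommRing A] [CommRing B] [Algebra A B]

lemma termwiseFlat (h : DRing.HasTorAmplitudeIn B (-1) 0 (LCI.NL A B)) :
    DRing.TermwiseFlat (LCI.NLcx A B) := by
  intro i
  by_cases hi0 : i = -1
  · subst hi0
    have hF : Module.Flat B (ModuleCat.of B (Algebra.Generators.self A B).toExtension.CotangentSpace) :=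
      inferInstanceAs (Module.Flat B (Algebra.Generators.self A B).toExtension.CotangentSpace)
    have hM := Groth.Agent.H59.NLFlat.flat_of_hasTorAmplitudeIn_double
      (ModuleCat.ofHom (Algebra.Generators.self A B).toExtension.cotangentComplex) hF h
    exact Module.Flat.of_linearEquiv (iso₀ (Algebra.Generators.self A B).toExtension).toLinearEquiv
  · by_cases hi1 : i = 0
    · subst hi1
      have hF : Module.Flat B (ModuleCat.of B (Algebra.Generators.self A B).toExtension.CotangentSpace) :=
        inferInstanceAs (Module.Flat B (Algebra.Generators.self A B).toExtension.CotangentSpace)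
      exact Module.Flat.of_linearEquiv (iso₁ (Algebra.Generators.self A B).toExtension).toLinearEquiv
    · exact Groth.Agent.H31.KFlatRing.flat_of_isZero _ (isZero_double_X _ Groth.Agent.H61.NLInv.rel i hi0 hi1)

lemma isKFlat (h : DRing.HasTorAmplitudeIn B (-1) 0 (LCI.NL A B)) :
    DRing.IsKFlat B (LCI.NLcx A B) :=
  Groth.Agent.H31.KFlatRing.isKFlat_of_bounded_above_flat _ 0
    (fun i hi => isZero_double_X _ Groth.Agent.H61.NLInv.rel i (by omega) (by omega)) (termwiseFlat A B h)

end Flat

/-- Let A → B and A → A' be ring homomorphisms and B' an algebra over A' and over B making the square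
cocartesian, B' = B ⊗_A A'. If B is flat over A, then the canonical chain map NL_{B/A} ⊗_B B' →
NL_{B'/A'} (for the presentations by the polynomial algebras on all elements) is a
quasi-isomorphism. If moreover NL_{B/A} has tor-amplitude in [-1, 0], then, the derived base change
functor along B → B' being assumed to exist, NL_{B/A} ⊗^L_B B' is isomorphic to NL_{B'/A'} in D(B')
(existence of an isomorphism only: the derived comparison map is not named here). -/
theorem result (A B A' B' : Type u) [CommRing A] [CommRing B]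
    [CommRing A'] [CommRing B'] [Algebra A B] [Algebra A' B'] [Algebra A A'] [Algebra B B'] [Algebra A B']
    [IsScalarTower A A' B'] [IsScalarTower A B B'] [Algebra.IsPushout A A' B B'] [Module.Flat A B] :
    QuasiIso (NLCx.bcMapSelf A B A' B') ∧
      (DRing.HasTorAmplitudeIn B (-1) 0 (LCI.NL A B) → ∀ [DRing.HasLBaseChange (algebraMap B B')],
        Nonempty ((DRing.LBaseChange (algebraMap B B')).obj (LCI.NL A B) ≅ LCI.NL A' B')) := by
  have hq : QuasiIso (NLCx.bcMapSelf A B A' B') := quasiIso_bcMapSelf A B A' B'
  refine ⟨hq, fun h _ => ?_⟩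
  have e1 := Groth.Agent.H53.LBaseChange.objIso (algebraMap B B') (LCI.NLcx A B) (isKFlat A B h)
  have e2 : DRing.toD ((Groth.Agent.H35.FlatBC.extCx (algebraMap B B')).obj (LCI.NLcx A B)) ≅
      DRing.toD (NLCx.bcCx (Algebra.Generators.self A B).toExtension B') :=
    (DerivedCategory.Q.mapIso (asIso (Ψ B' (Algebra.Generators.self A B).toExtension))).symm
  haveI : IsIso (DerivedCategory.Q.map (NLCx.bcMapSelf A B A' B')) :=
    (DerivedCategory.isIso_Q_map_iff_quasiIso (C := ModuleCat.{u} B') _).2 hq
  have e3 := asIso (DerivedCategory.Q.map (NLCx.bcMapSelf A B A' B'))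
  exact ⟨e1 ≪≫ e2 ≪≫ e3⟩

end Groth.Agent.S7222
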