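import Groth.Statements.S7225
import Mathlib
-- import your own Groth.Agent.* helpers here

set_option autoImplicit false
set_option backward.isDefEq.respectTransparency false
universe u
open CategoryTheory CategoryTheory.Limits TensorProduct
attribute [local instance] HasDerivedCategory.standard
open FlatMor

namespace Groth.Agent.S7225

/-- A morphism of extensions that is bijective on `I/I²` and on `S ⊗ Ω` induces an isomorphism of the
two-term complexes. -/
theorem isIso_map_of_bijective {R S R' : Type u} [CommRing R] [CommRing S] [Algebra R S] [CommRing R']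
    [Algebra R' S] [Algebra R R'] [IsScalarTower R R' S]
    {P : Algebra.Extension.{u} R S} {P' : Algebra.Extension.{u} R' S} (f : P.Hom P')
    (h1 : Function.Bijective (Algebra.Extension.Cotangent.map f))
    (h0 : Function.Bijective (Algebra.Extension.CotangentSpace.map f)) :
    IsIso (NLCx.map f) := by
  haveI : ∀ n, IsIso ((NLCx.map f).f n) := by
    intro n
    by_cases hn1 : n = -1
    · subst hn1
      have : IsIso (ModuleCat.ofHom (Algebra.Extension.Cotangent.map f)) :=
        (ConcreteCategory.isIso_iff_bijective _).mpr h1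
      have e : (NLCx.map f).f (-1) = _ := HomologicalComplex.mkHomFromDouble_f₀ _ _ _ _ _ _
      rw [e]
      exact IsIso.comp_isIso' (Iso.isIso_hom _) (IsIso.comp_isIso' this (Iso.isIso_inv _))
    · by_cases hn0 : n = 0
      · subst hn0
        have : IsIso (ModuleCat.ofHom (Algebra.Extension.CotangentSpace.map f)) :=
          (ConcreteCategory.isIso_iff_bijective _).mpr h0
        have e : (NLCx.map f).f 0 = _ := HomologicalComplex.mkHomFromDouble_f₁ _ _ _ _ _ _
        rw [e]
        exact IsIso.comp_isIso' (Iso.isIso_hom _) (IsIso.comp_isIso' this (Iso.isIso_inv _))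
      · have hz : IsZero ((NLCx.cx P).X n) :=
          HomologicalComplex.isZero_double_X _ _ n hn1 hn0
        have hz' : IsZero ((NLCx.cx P').X n) :=
          HomologicalComplex.isZero_double_X _ _ n hn1 hn0
        exact ⟨0, hz.eq_of_src _ _, hz'.eq_of_src _ _⟩
  exact HomologicalComplex.Hom.isIso_of_components _

section Loc

attribute [local instance] MvPolynomial.algebraMvPolynomial

variable {A A' B : Type u} [CommRing A] [CommRing A'] [CommRing B]
    [Algebra A A'] (M : Submonoid A) [IsLocalization M A'] [Algebra A' B] [Algebra A B]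
    [IsScalarTower A A' B]
    {ι : Type u} (G : Algebra.Generators A B ι) (G' : Algebra.Generators A' B ι)
    (h : ∀ i, G'.val i = algebraMap B B (G.val i))

omit [IsLocalization M A'] in
lemma toAlgHom_eq (p : G.Ring) :
    (NLCx.sameVarsHom (S' := B) G G' h).toAlgHom p = MvPolynomial.map (algebraMap A A') p := by
  induction p using MvPolynomial.induction_on with
  | C a => simp [Algebra.Generators.Hom.toAlgHom_C]
  | add p q hp hq => simp [hp, hq]
  | mul_X p i hp =>
    rw [map_mul, hp, Algebra.Generators.Hom.toAlgHom_X]
    simp [NLCx.sameVarsHom]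

omit [Algebra A B] [IsScalarTower A A' B] in
lemma isUnit_algebraMap' (s : M) : IsUnit (algebraMap A' B (algebraMap A A' s)) :=
  (IsLocalization.map_units A' s).map (algebraMap A' B)

include A' in
lemma isUnit_algebraMap (s : M) : IsUnit (algebraMap A B s) := by
  rw [IsScalarTower.algebraMap_apply A A' B]
  exact isUnit_algebraMap' M s

/-- every element of `A'[X]` becomes, after multiplying by some `s ∈ M`, the image of an element of
`A[X]`. -/
lemma exists_clear (x' : MvPolynomial ι A') :
    ∃ (s : M) (p : MvPolynomial ι A),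
      x' * MvPolynomial.C (algebraMap A A' s) = MvPolynomial.map (algebraMap A A') p := by
  obtain ⟨⟨p, m⟩, hpm⟩ := IsLocalization.surj (M.map (MvPolynomial.C (σ := ι))) x'
  obtain ⟨s, hs, hsm⟩ := m.2
  refine ⟨⟨s, hs⟩, p, ?_⟩
  simp only [MvPolynomial.algebraMap_def] at hpm
  rw [← hpm, ← hsm]
  simp

lemma ring_smul_eq {R S : Type u} [CommRing R] [CommRing S] [Algebra R S]
    (P : Algebra.Extension.{u} R S) (r : P.Ring) (z : P.Cotangent) :
    r • z = algebraMap P.Ring S r • z := (algebraMap_smul S r z).symm

include h in
omit [IsLocalization M A'] in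
lemma algebraMap_map (p : MvPolynomial ι A) :
    algebraMap G'.toExtension.Ring B (MvPolynomial.map (algebraMap A A') p) =
      algebraMap G.toExtension.Ring B p := by
  have := (NLCx.sameVarsHom (S' := B) G G' h).toExtensionHom.algebraMap_toRingHom p
  rw [← toAlgHom_eq G G' h p]
  exact this

include h in
omit [IsLocalization M A'] in
lemma mem_ker_of_eq {x' : MvPolynomial ι A'} (hx' : x' ∈ G'.toExtension.ker)
    {c : MvPolynomial ι A'} {p : MvPolynomial ι A}
    (e : x' * c = MvPolynomial.map (algebraMap A A') p) : p ∈ G.toExtension.ker := by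
  have h0 : algebraMap G'.toExtension.Ring B x' = 0 := hx'
  show algebraMap G.toExtension.Ring B p = 0
  rw [← algebraMap_map G G' h, ← e, map_mul, h0, zero_mul]

include M in
lemma cotangent_surjective : Function.Surjective
    (Algebra.Extension.Cotangent.map (NLCx.sameVarsHom (S' := B) G G' h).toExtensionHom) := by
  intro z'
  obtain ⟨x', rfl⟩ := Algebra.Extension.Cotangent.mk_surjective z'
  obtain ⟨s, p, e⟩ := exists_clear M x'.1
  have hp : p ∈ G.toExtension.ker := mem_ker_of_eq G G' h x'.2 e
  obtain ⟨u, hu⟩ := isUnit_algebraMap (A' := A') (B := B) M s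
  refine ⟨(↑u⁻¹ : B) • Algebra.Extension.Cotangent.mk ⟨p, hp⟩, ?_⟩
  rw [map_smul, Algebra.Extension.Cotangent.map_mk]
  have e2 : (⟨(NLCx.sameVarsHom (S' := B) G G' h).toExtensionHom.toAlgHom p,
      by
        show algebraMap G'.toExtension.Ring B _ = 0
        rw [Algebra.Generators.Hom.toExtensionHom_toAlgHom_apply, toAlgHom_eq, ← e, map_mul,
          show algebraMap G'.toExtension.Ring B x'.1 = 0 from x'.2, zero_mul]⟩ :
        G'.toExtension.ker) =
      (show G'.toExtension.Ring from MvPolynomial.C (algebraMap A A' s)) • x' := by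
    apply Subtype.ext
    show (NLCx.sameVarsHom (S' := B) G G' h).toAlgHom p =
      MvPolynomial.C (algebraMap A A' s) * (show MvPolynomial ι A' from x'.1)
    rw [toAlgHom_eq, ← e, mul_comm]
  rw [e2, map_smul, ring_smul_eq]
  have e3 : algebraMap G'.toExtension.Ring B
      (show G'.toExtension.Ring from MvPolynomial.C (algebraMap A A' s)) = (u : B) := by
    rw [hu, IsScalarTower.algebraMap_apply A A' B]
    exact (Algebra.Generators.algebraMap_apply G' _).trans (by simp)
  rw [e3, smul_smul, Units.inv_mul, one_smul]

include M h in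
lemma ker_le_map : G'.ker ≤
    Ideal.map (algebraMap (MvPolynomial ι A) (MvPolynomial ι A')) G.ker := by
  intro x' hx'
  obtain ⟨s, p, e⟩ := exists_clear M x'
  have hp := mem_ker_of_eq G G' h hx' e
  rw [IsLocalization.mem_map_algebraMap_iff (M.map (MvPolynomial.C (σ := ι)))]
  refine ⟨⟨⟨p, hp⟩, ⟨MvPolynomial.C s, Submonoid.mem_map_of_mem _ s.2⟩⟩, ?_⟩
  simpa using e

include M in
lemma cotangent_injective : Function.Injective
    (Algebra.Extension.Cotangent.map (NLCx.sameVarsHom (S' := B) G G' h).toExtensionHom) := by
  rw [injective_iff_map_eq_zero]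
  intro z hz
  obtain ⟨x, rfl⟩ := Algebra.Extension.Cotangent.mk_surjective z
  rw [Algebra.Extension.Cotangent.map_mk, Algebra.Extension.Cotangent.mk_eq_zero_iff] at hz
  have hz' : MvPolynomial.map (algebraMap A A') x.1 ∈
      Ideal.map (algebraMap (MvPolynomial ι A) (MvPolynomial ι A')) (G.ker ^ 2) := by
    rw [Ideal.map_pow]
    refine Ideal.pow_right_mono (ker_le_map M G G' h) 2 ?_
    rw [← toAlgHom_eq G G' h]
    exact hz
  rw [IsLocalization.mem_map_algebraMap_iff (M.map (MvPolynomial.C (σ := ι)))] at hz'
  obtain ⟨⟨⟨y, hy⟩, ⟨m, hm⟩⟩, e⟩ := hz'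
  rw [← MvPolynomial.algebraMap_def, ← map_mul,
    IsLocalization.eq_iff_exists (M.map (MvPolynomial.C (σ := ι)))] at e
  obtain ⟨⟨c, hc⟩, e⟩ := e
  obtain ⟨t, ht, htc⟩ : ∃ t ∈ M, MvPolynomial.C t = c * m := by
    obtain ⟨t1, ht1, rfl⟩ := hc
    obtain ⟨t2, ht2, rfl⟩ := hm
    exact ⟨t1 * t2, M.mul_mem ht1 ht2, by simp⟩
  have hmem : (MvPolynomial.C t) * (show MvPolynomial ι A from x.1) ∈ G.ker ^ 2 := by
    have : MvPolynomial.C t * (show MvPolynomial ι A from x.1) = c * y := by
      rw [htc, ← e]; ring
    rw [this]
    exact Ideal.mul_mem_left _ _ hy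
  have h0 : Algebra.Extension.Cotangent.mk
      ((show G.toExtension.Ring from MvPolynomial.C t) • x) = 0 :=
    (Algebra.Extension.Cotangent.mk_eq_zero_iff _).mpr hmem
  rw [map_smul, ring_smul_eq] at h0
  have e3 : algebraMap G.toExtension.Ring B
      (show G.toExtension.Ring from MvPolynomial.C t) = algebraMap A B t :=
    (Algebra.Generators.algebraMap_apply G _).trans (by simp)
  rw [e3] at h0
  obtain ⟨u, hu⟩ := isUnit_algebraMap (A' := A') (B := B) M ⟨t, ht⟩
  rw [← hu] at h0
  calc Algebra.Extension.Cotangent.mk x
      = (↑u⁻¹ : B) • (u : B) • Algebra.Extension.Cotangent.mk x := by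
        rw [smul_smul, Units.inv_mul, one_smul]
    _ = 0 := by rw [h0, smul_zero]

include h in
omit [IsLocalization M A'] in
lemma cotangentSpace_map_basis (i : ι) :
    Algebra.Extension.CotangentSpace.map (NLCx.sameVarsHom (S' := B) G G' h).toExtensionHom
      (G.cotangentSpaceBasis i) = G'.cotangentSpaceBasis i := by
  rw [Algebra.Generators.cotangentSpaceBasis_apply, Algebra.Generators.cotangentSpaceBasis_apply]
  erw [Algebra.Extension.CotangentSpace.map_tmul]
  rw [map_one]
  congr 2
  exact (Algebra.Generators.Hom.toAlgHom_X (NLCx.sameVarsHom (S' := B) G G' h) i)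

include h in
omit [IsLocalization M A'] in
lemma cotangentSpace_bijective : Function.Bijective
    (Algebra.Extension.CotangentSpace.map (NLCx.sameVarsHom (S' := B) G G' h).toExtensionHom) := by
  let e := G.cotangentSpaceBasis.equiv G'.cotangentSpaceBasis (Equiv.refl ι)
  have : Algebra.Extension.CotangentSpace.map (NLCx.sameVarsHom (S' := B) G G' h).toExtensionHom =
      e.toLinearMap :=
    G.cotangentSpaceBasis.ext (fun i => by rw [cotangentSpace_map_basis]; simp [e])
  rw [this]
  exact e.bijective

end Loc

/-- Let A be a ring, M a submonoid of A, A' a localization of A at M and B an A'-algebra, viewed also as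
an A-algebra. Let G be a presentation of B over A by a polynomial algebra and G' the presentation of
B over A' with the same generators (G'(i) = G(i), written through the identity algebra map of B).
Then the canonical chain map NL(G) → NL(G') from the naive cotangent complex of the presentation
over A to that of the presentation over A' is an isomorphism of complexes (so that NL_{B/A} →
NL_{B/A'} is a homotopy equivalence). -/
theorem result (A A' B : Type u) [CommRing A] [CommRing A'] [CommRing B]
    [Algebra A A'] (M : Submonoid A) [IsLocalization M A'] [Algebra A' B] [Algebra A B] [IsScalarTower A A' B]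
    {ι : Type u} (G : Algebra.Generators A B ι) (G' : Algebra.Generators A' B ι) (h : ∀ i, G'.val i = algebraMap B B (G.val i)) :
    IsIso (NLCx.map (NLCx.sameVarsHom (S' := B) G G' h).toExtensionHom) := by
  exact isIso_map_of_bijective _ ⟨cotangent_injective M G G' h, cotangent_surjective M G G' h⟩
    (cotangentSpace_bijective G G' h)

end Groth.Agent.S7225
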