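import Groth.Statements.S7237
import Mathlib
-- import your own Groth.Agent.* helpers here

set_option autoImplicit false
universe u
open TensorProduct
open FlatMor

namespace Groth.Agent.S7237

section

variable {A : Type u} [CommRing A] {M : Type u} [AddCommGroup M] [Module A M]
  {N : Type u} [AddCommGroup N] [Module A N] [Module (SymmetricAlgebra A M) N]
  [IsScalarTower A (SymmetricAlgebra A M) N]

/-- Every `A`-linear map `M → N` into a `Sym(M)`-module extends to an `A`-derivation of `Sym(M)`. -/
theorem exists_der (g₀ : M →ₗ[A] N) :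
    ∃ D : Derivation A (SymmetricAlgebra A M) N, ∀ m, D (SymmetricAlgebra.ι A M m) = g₀ m := by
  letI : Module (SymmetricAlgebra A M)ᵐᵒᵖ N :=
    Module.compHom _ ((RingHom.id (SymmetricAlgebra A M)).fromOpposite mul_comm)
  haveI : IsCentralScalar (SymmetricAlgebra A M) N := ⟨fun r m => rfl⟩
  haveI : IsScalarTower A (SymmetricAlgebra A M)ᵐᵒᵖ N := ⟨fun a c n => by
    show (a • c).unop • n = a • (c.unop • n)
    rw [MulOpposite.unop_smul, smul_assoc]⟩
  let g : M →ₗ[A] TrivSqZeroExt (SymmetricAlgebra A M) N :=
    (TrivSqZeroExt.inlAlgHom A (SymmetricAlgebra A M) N).toLinearMap ∘ₗ SymmetricAlgebra.ι A M +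
      ((TrivSqZeroExt.inrHom (SymmetricAlgebra A M) N).restrictScalars A) ∘ₗ g₀
  let Ψ : SymmetricAlgebra A M →ₐ[A] TrivSqZeroExt (SymmetricAlgebra A M) N :=
    SymmetricAlgebra.lift g
  have hΨι : ∀ m, Ψ (SymmetricAlgebra.ι A M m) =
      TrivSqZeroExt.inl (SymmetricAlgebra.ι A M m) + TrivSqZeroExt.inr (g₀ m) := by
    intro m
    simp only [Ψ, SymmetricAlgebra.lift_ι_apply, g]
    rfl
  have hfst : ∀ x, (Ψ x).fst = x := by
    intro x
    have : (TrivSqZeroExt.fstHom A (SymmetricAlgebra A M) N).comp Ψ =
        AlgHom.id A (SymmetricAlgebra A M) := by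
      apply SymmetricAlgebra.algHom_ext
      ext m
      simp [hΨι]
    exact AlgHom.congr_fun this x
  refine ⟨{ toLinearMap := ((TrivSqZeroExt.sndHom (SymmetricAlgebra A M) N).restrictScalars A) ∘ₗ
              Ψ.toLinearMap
            map_one_eq_zero' := by simp
            leibniz' := ?_ }, ?_⟩
  · intro x y
    simp only [LinearMap.comp_apply, AlgHom.toLinearMap_apply, LinearMap.restrictScalars_apply,
      TrivSqZeroExt.sndHom_apply, map_mul, TrivSqZeroExt.snd_mul, hfst]
    rfl
  · intro m
    show (Ψ (SymmetricAlgebra.ι A M m)).snd = g₀ m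
    rw [hΨι]
    simp

end

/-- Let A be a ring and M a finitely generated A-module, and let C = Sym_A(M) be the symmetric algebra
of M with its canonical A-linear map ι : M → C. Then Ω_{C/A} = M ⊗_A C: the C-linear map C ⊗_A M →
Ω_{C/A} obtained by extending scalars in the A-linear map m ↦ d(ι m), d being the universal
A-derivation of C, is bijective. (The published lemma also computes the whole naive cotangent
complex of the presentation of C attached to a surjection A^m → M with kernel K, namely as K ⊗_A C →
⊕_j C dy_j; only its consequence for Ω is asserted here.) -/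
theorem result (A : Type u) [CommRing A] (M : Type u)
    [AddCommGroup M] [Module A M] [Module.Finite A M] :
    Function.Bijective (LinearMap.liftBaseChange (SymmetricAlgebra A M)
      ((KaehlerDifferential.D A (SymmetricAlgebra A M)).toLinearMap.restrictScalars A ∘ₗ SymmetricAlgebra.ι A M)) := by
  set f := LinearMap.liftBaseChange (SymmetricAlgebra A M)
      ((KaehlerDifferential.D A (SymmetricAlgebra A M)).toLinearMap.restrictScalars A ∘ₗ
        SymmetricAlgebra.ι A M) with hf
  obtain ⟨D', hD'⟩ := exists_der (A := A) (M := M) (N := SymmetricAlgebra A M ⊗[A] M)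
    (TensorProduct.mk A (SymmetricAlgebra A M) M 1)
  have hfι : ∀ m, f ((1 : SymmetricAlgebra A M) ⊗ₜ[A] m) =
      KaehlerDifferential.D A (SymmetricAlgebra A M) (SymmetricAlgebra.ι A M m) := by
    intro m
    simp [hf, LinearMap.liftBaseChange_tmul]
  have h1 : D'.liftKaehlerDifferential ∘ₗ f = LinearMap.id := by
    apply LinearMap.ext
    intro x
    induction x using TensorProduct.induction_on with
    | zero => simp
    | tmul c m =>
      have : c ⊗ₜ[A] m = c • ((1 : SymmetricAlgebra A M) ⊗ₜ[A] m) := by
        rw [TensorProduct.smul_tmul', smul_eq_mul, mul_one]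
      rw [this, map_smul, LinearMap.comp_apply, hfι, Derivation.liftKaehlerDifferential_comp_D, hD']
      rfl
    | add x y hx hy => rw [map_add, hx, hy, map_add]
  have h2 : f ∘ₗ D'.liftKaehlerDifferential = LinearMap.id := by
    apply Derivation.liftKaehlerDifferential_unique
    ext x
    show f (D'.liftKaehlerDifferential (KaehlerDifferential.D A (SymmetricAlgebra A M) x)) =
      KaehlerDifferential.D A (SymmetricAlgebra A M) x
    rw [Derivation.liftKaehlerDifferential_comp_D]
    induction x using SymmetricAlgebra.induction with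
    | algebraMap r => rw [Derivation.map_algebraMap, Derivation.map_algebraMap, map_zero]
    | ι m => rw [hD']; exact hfι m
    | mul x y hx hy =>
      rw [Derivation.leibniz, Derivation.leibniz, map_add, map_smul, map_smul, hx, hy]
    | add x y hx hy => rw [map_add, map_add, map_add, hx, hy]
  constructor
  · intro x y hxy
    have := congrArg D'.liftKaehlerDifferential hxy
    rw [← LinearMap.comp_apply, ← LinearMap.comp_apply, h1] at this
    exact this
  · intro y
    exact ⟨D'.liftKaehlerDifferential y, LinearMap.congr_fun h2 y⟩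

end Groth.Agent.S7237
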