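import Groth.Statements.S7245
import Mathlib
import Groth.Agent.H6.AcycUnit
import Groth.Agent.S0028
import Groth.Agent.S11319

set_option autoImplicit false
universe u
open CategoryTheory CategoryTheory.Limits AlgebraicGeometry
attribute [local instance] HasDerivedCategory.standard
open Perf

namespace Groth.Agent.S7245

/-- Let f : X ⟶ S be an affine morphism of schemes and F a cochain complex of quasi-coherent
O_X-modules. Assuming Rf_* exists on the unbounded derived category, the canonical map f_*F ⟶ Rf_*F
in D(O_S) (the unit of the total right derived functor at F) is an isomorphism. -/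
theorem result {X S : Scheme.{u}} (f : X ⟶ S) [IsAffineHom f] [DCoh.HasRpush f]
    (F : CochainComplex X.Modules ℤ) (hq : ∀ n : ℤ, Coh.IsQCoh (F.X n)) :
    IsIso (((DCoh.pushKh f).totalRightDerivedUnit DerivedCategory.Qh (HomotopyCategory.quasiIso X.Modules (ComplexShape.up ℤ))).app
      ((HomotopyCategory.quotient X.Modules (ComplexShape.up ℤ)).obj F)) := by
  have hN : ∀ G : X.Modules, G.IsQuasicoherent → ∀ p : ℕ, 1 ≤ p →
      IsZero ((Coh.Rpush f p).obj G) := by
    intro G hG p hp
    obtain ⟨q, rfl⟩ : ∃ q, p = q + 1 := ⟨p - 1, by omega⟩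
    obtain ⟨e⟩ := Groth.Agent.S11319.result f G (q + 1)
    have : Coh.IsQCoh G := hG
    exact Groth.Agent.H30.RpushQcoh.isZero_of_isZero_toAb _
      ((Groth.Agent.S0028.result f G (q + 1) (Nat.succ_pos q)).of_iso e)
  have hac : ∀ n : ℤ, Groth.Agent.H33.UnbDer.FAcyc (Scheme.Modules.pushforward f) (F.X n) :=
    fun n i hi => hN (F.X n) (hq n) i hi
  exact (Groth.Agent.H6.AcycUnit.isIso_uC_iff f F).1
    (Groth.Agent.H6.AcycUnit.isIso_uC_of_bound f 1 hN F hq hac)

end Groth.Agent.S7245
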