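import Groth.Statements.S7251
import Mathlib
import Groth.Agent.H6.LpullQCoh

set_option autoImplicit false
universe u
open CategoryTheory CategoryTheory.Limits AlgebraicGeometry
attribute [local instance] HasDerivedCategory.standard
open Perf

namespace Groth.Agent.S7251

/-- Abstract form: if `L ⊣ R`, `L` preserves the subcategories, and the inclusions of the full
subcategories `P`, `Q` have right adjoints `GP`, `GQ`, then the comparison map
`R (GP K) ⟶ GQ (R K)` is an isomorphism. -/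
theorem isIso_comparison {C D : Type*} [Category C] [Category D] (P : ObjectProperty C)
    (Q : ObjectProperty D) (R : C ⥤ D) (L : D ⥤ C) (adj : L ⊣ R) (hL : ∀ d, Q d → P (L.obj d))
    (GP : C ⥤ P.FullSubcategory) (adjP : P.ι ⊣ GP) (GQ : D ⥤ Q.FullSubcategory)
    (adjQ : Q.ι ⊣ GQ) (K : C) (hA : Q (R.obj (GP.obj K).obj)) :
    IsIso (adjQ.homEquiv (⟨R.obj (GP.obj K).obj, hA⟩ : Q.FullSubcategory) (R.obj K)
      (R.map (adjP.counit.app K))) := by
  rw [isIso_iff_yoneda_map_bijective]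
  intro T
  let A : Q.FullSubcategory := ⟨R.obj (GP.obj K).obj, hA⟩
  let ε : (GP.obj K).obj ⟶ K := adjP.counit.app K
  let Z : P.FullSubcategory := ⟨L.obj T.obj, hL _ T.property⟩
  have B1 : Function.Bijective (fun u : L.obj T.obj ⟶ (GP.obj K).obj => u ≫ ε) := by
    have hι : Function.Bijective (fun w : Z ⟶ GP.obj K => P.ι.map w) :=
      P.fullyFaithfulι.map_bijective _ _
    have hcomp : (fun u : L.obj T.obj ⟶ (GP.obj K).obj => u ≫ ε) ∘
        (fun w : Z ⟶ GP.obj K => P.ι.map w) = (adjP.homEquiv Z K).symm := by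
      funext w
      exact (adjP.homEquiv_counit Z K w).symm
    exact (Function.Bijective.of_comp_iff _ hι).1 (hcomp ▸ (adjP.homEquiv Z K).symm.bijective)
  have B2 : Function.Bijective (fun g : T.obj ⟶ R.obj (GP.obj K).obj => g ≫ R.map ε) := by
    have hcomp : (fun g : T.obj ⟶ R.obj (GP.obj K).obj => g ≫ R.map ε) ∘
        (adj.homEquiv T.obj (GP.obj K).obj) =
        (adj.homEquiv T.obj K) ∘ (fun u : L.obj T.obj ⟶ (GP.obj K).obj => u ≫ ε) := by
      funext u
      exact (adj.homEquiv_naturality_right u ε).symm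
    exact (Function.Bijective.of_comp_iff _ (adj.homEquiv T.obj (GP.obj K).obj).bijective).1
      (hcomp ▸ (adj.homEquiv T.obj K).bijective.comp B1)
  have hι' : Function.Bijective (fun t : T ⟶ A => Q.ι.map t) :=
    Q.fullyFaithfulι.map_bijective _ _
  have hfun : (fun t : T ⟶ A => t ≫ adjQ.homEquiv A (R.obj K) (R.map ε)) =
      (adjQ.homEquiv T (R.obj K)) ∘
        ((fun g : T.obj ⟶ R.obj (GP.obj K).obj => g ≫ R.map ε) ∘
          (fun t : T ⟶ A => Q.ι.map t)) := by
    funext t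
    exact (adjQ.homEquiv_naturality_left t (R.map ε)).symm
  exact hfun ▸ (adjQ.homEquiv T (R.obj K)).bijective.comp (B2.comp hι')

/-- Let f : X ⟶ Y be a quasi-compact and quasi-separated morphism of schemes. Assume Rf_* exists and
sends D_QCoh(O_X) into D_QCoh(O_Y), let an adjunction Lf^* ⊣ Rf_* be given as data, and assume the
inclusion functors D_QCoh ⥤ D have (chosen) right adjoints DQ_X and DQ_Y. Then Rf_* ∘ DQ_X = DQ_Y ∘
Rf_*: for every K ∈ D(O_X) the comparison map Rf_*(DQ_X K) ⟶ DQ_Y(Rf_* K) in D_QCoh(O_Y),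
corresponding under the adjunction to Rf_* applied to the counit DQ_X K ⟶ K, is an isomorphism. -/
theorem result {X Y : Scheme.{u}} (f : X ⟶ Y) [QuasiCompact f] [QuasiSeparated f]
    [DCoh.HasRpush f] (h : DCoh.RpushPreservesQCoh f) [DCoh.HasLpull f] (adj : DCoh.Lpull f ⊣ DCoh.Rpush f)
    [(ObjectProperty.ι (DCoh.IsQCohD (X := X))).IsLeftAdjoint] [(ObjectProperty.ι (DCoh.IsQCohD (X := Y))).IsLeftAdjoint]
    (K : DCoh.D X) :
    IsIso ((Adjunction.ofIsLeftAdjoint (ObjectProperty.ι (DCoh.IsQCohD (X := Y)))).homEquiv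
      (⟨(DCoh.Rpush f).obj (((ObjectProperty.ι (DCoh.IsQCohD (X := X))).rightAdjoint.obj K).obj),
        h _ (((ObjectProperty.ι (DCoh.IsQCohD (X := X))).rightAdjoint.obj K).property)⟩ : DCoh.DQCoh Y)
      ((DCoh.Rpush f).obj K)
      ((DCoh.Rpush f).map ((Adjunction.ofIsLeftAdjoint (ObjectProperty.ι (DCoh.IsQCohD (X := X)))).counit.app K))) := by
  exact isIso_comparison (DCoh.IsQCohD (X := X)) (DCoh.IsQCohD (X := Y)) (DCoh.Rpush f) (DCoh.Lpull f) adj
    (fun d hd => Groth.Agent.H6.LpullQCoh.isQCohD_Lpull f d hd) _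
    (Adjunction.ofIsLeftAdjoint (ObjectProperty.ι (DCoh.IsQCohD (X := X)))) _
    (Adjunction.ofIsLeftAdjoint (ObjectProperty.ι (DCoh.IsQCohD (X := Y)))) K _

end Groth.Agent.S7251
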