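import Groth.Statements.S7252
import Mathlib
import Groth.Agent.H30.RpushLocal
import Groth.Agent.S0010
import Groth.Agent.H8.ZeroStalk
import Groth.Agent.H45.GammaZMod

set_option autoImplicit false
universe u
open CategoryTheory CategoryTheory.Limits AlgebraicGeometry
attribute [local instance] HasDerivedCategory.standard
open Perf

namespace Groth.Agent.S7252

open Scheme.Modules Groth.Agent.H30.RpushQcoh Groth.Agent.H30.RpushLocal Opposite

/-- A quasi-coherent module on an affine scheme with trivial global sections is zero. -/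
theorem isZero_of_qcoh_spec {R : CommRingCat.{u}} (N : (Spec R).Modules) [N.IsQuasicoherent]
    (h : Subsingleton ((modulesSpecToSheaf.obj N).presheaf.obj (.op ⊤))) : IsZero N := by
  have h0 : IsZero ((modulesSpecToSheaf.obj N).presheaf.obj (.op ⊤)) :=
    ModuleCat.isZero_of_subsingleton _
  have h1 : IsZero ((tilde.functor R).obj ((modulesSpecToSheaf.obj N).presheaf.obj (.op ⊤))) :=
    (tilde.functor R).map_isZero h0
  exact h1.of_iso (asIso N.fromTildeΓ).symm

theorem subsingleton_stalk_restrict_iff {U X : Scheme.{u}} (j : U ⟶ X) [IsOpenImmersion j]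
    (M : X.Modules) (x : U) :
    Subsingleton ((M.restrict j).presheaf.stalk x) ↔ Subsingleton (M.presheaf.stalk (j x)) :=
  ((forget Ab).mapIso ((Scheme.Modules.restrictStalkNatIso j x).app M)).toEquiv.subsingleton_congr

/-- Vanishing over an affine open of the base over which the source is covered by `t` affines. -/
theorem local_vanishing {X : Scheme.{u}} (U : X.Opens) {W : X.Opens} (hW : IsAffineOpen W)
    (t : ℕ) (B : Fin t → X.Opens) (hB : ∀ i, IsAffineOpen (B i)) (hBU : ∀ i, B i ≤ U)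
    (hBW : ∀ i, B i ≤ W)
    (hcov : ∀ y : X, y ∈ U → y ∈ W → ∃ i, y ∈ B i)
    (G' : (U.ι ⁻¹ᵁ W).toScheme.Modules) [G'.IsQuasicoherent] (p : ℕ) (hp : t ≤ p) :
    IsZero ((Coh.Rpush (fV U.ι hW) p).obj G') := by
  have : IsOpenImmersion (fV U.ι hW) := by
    unfold fV
    infer_instance
  -- the affine cover of the source
  let W' : U.toScheme.Opens := U.ι ⁻¹ᵁ W
  let A : Fin t → W'.toScheme.Opens := fun i => W'.ι ⁻¹ᵁ (U.ι ⁻¹ᵁ (B i))
  have hA : ∀ i, IsAffineOpen (A i) := by
    intro i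
    have h1 : IsAffineOpen (U.ι ⁻¹ᵁ (B i)) :=
      (hB i).preimage_of_isOpenImmersion U.ι (by rw [Scheme.Opens.opensRange_ι]; exact hBU i)
    exact h1.preimage_of_isOpenImmersion W'.ι (by
      rw [Scheme.Opens.opensRange_ι]
      exact U.ι.preimage_mono (hBW i))
  have hcovA : ⨆ i, A i = ⊤ := by
    rw [eq_top_iff]
    intro z _
    have hzW : W'.ι z ∈ (W' : Set U.toScheme) := by
      rw [← Scheme.Opens.range_ι]
      exact ⟨z, rfl⟩
    have hzU : U.ι (W'.ι z) ∈ (U : Set X) := by
      rw [← Scheme.Opens.range_ι]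
      exact ⟨_, rfl⟩
    obtain ⟨i, hi⟩ := hcov (U.ι (W'.ι z)) hzU hzW
    exact TopologicalSpace.Opens.mem_iSup.2 ⟨i, hi⟩
  have : CompactSpace ↥W'.toScheme := by
    rw [← isCompact_univ_iff]
    have h1 : (Set.univ : Set W'.toScheme) = ⋃ i, (A i : Set W'.toScheme) := by
      have := congrArg (fun O : W'.toScheme.Opens => (O : Set W'.toScheme)) hcovA
      simpa using this.symm
    rw [h1]
    exact isCompact_iUnion (fun i => (hA i).isCompact)
  have : QuasiCompact (fV U.ι hW) := inferInstance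
  have : QuasiSeparated (fV U.ι hW) := inferInstance
  have hd : ∀ V₁ V₂ : W'.toScheme.Opens, IsAffineOpen V₁ → IsAffineOpen V₂ →
      IsAffineOpen (V₁ ⊓ V₂) := by
    intro V₁ V₂ h₁ h₂
    have hdiag : IsAffineHom (pullback.diagonal (fV U.ι hW)) := inferInstance
    exact isAffineHom_diagonal_iff.mp hdiag ⊤ (isAffineOpen_top _) V₁ (by simp) V₂ (by simp) h₁ h₂
  have hH : Subsingleton (Coh.HH W'.toScheme G' p) :=
    Groth.Agent.S0010.result W'.toScheme t A hA hcovA hd G' p hp
  obtain ⟨a⟩ := Groth.Agent.S0032.result (fV U.ι hW) G' p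
  have hs : Subsingleton (((Coh.RpushAb (fV U.ι hW) p).obj (Coh.toAb G')).obj.obj (op ⊤)) :=
    a.toEquiv.symm.subsingleton
  obtain ⟨e'⟩ := Groth.Agent.S11319.result (fV U.ι hW) G' p
  have := isQCoh_Rpush_of_isAffine (fV U.ι hW) G' p
  apply isZero_of_qcoh_spec
  have hz1 : IsZero (((sheafSections _ _).obj (op ⊤)).obj
      ((Coh.RpushAb (fV U.ι hW) p).obj (Coh.toAb G'))) :=
    @AddCommGrpCat.isZero_of_subsingleton _ hs
  have hz2 : IsZero (((sheafSections _ _).obj (op ⊤)).obj
      (Coh.toAb ((Coh.Rpush (fV U.ι hW) p).obj G'))) :=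
    hz1.of_iso (((sheafSections _ _).obj (op ⊤)).mapIso e')
  exact AddCommGrpCat.subsingleton_of_isZero hz2

/-- The higher direct images of a quasi-coherent module along `U ⟶ X` vanish in degrees `≥ c`. -/
theorem isZero_Rpush_of_cover {X : Scheme.{u}} (U : X.Opens)
    (c : ℕ) (hT : ∀ x : X, ∃ (V : X.Opens) (fs : Finset Γ(X, V)), x ∈ V ∧ fs.card ≤ c ∧
      X.zeroLocus (U := V) (↑fs : Set Γ(X, V)) ∩ (V : Set ↥X) = (U : Set ↥X)ᶜ ∩ (V : Set ↥X))
    (G : U.toScheme.Modules) [G.IsQuasicoherent] (p : ℕ) (hp : c ≤ p) :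
    IsZero ((Coh.Rpush U.ι p).obj G) := by
  apply Groth.Agent.H8.isZero_of_subsingleton_stalk
  intro x
  obtain ⟨V, fs, hxV, hcard, hzl⟩ := hT x
  obtain ⟨W, hW, hxW, hWV⟩ := exists_isAffineOpen_mem_and_subset hxV
  have hWV' : W ≤ V := hWV
  let r : Γ(X, V) → Γ(X, W) := fun f => X.presheaf.map (homOfLE hWV').op f
  let e := fs.equivFin
  let B : Fin fs.card → X.Opens := fun i => X.basicOpen (r (e.symm i).1)
  have hBeq : ∀ i, B i = W ⊓ X.basicOpen (e.symm i).1 := fun i =>
    Scheme.basicOpen_res X (e.symm i).1 (homOfLE hWV').op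
  have hB : ∀ i, IsAffineOpen (B i) := fun i => hW.basicOpen _
  have hBW : ∀ i, B i ≤ W := fun i => X.basicOpen_le _
  have hBU : ∀ i, B i ≤ U := by
    intro i y hy
    rw [hBeq i] at hy
    by_contra hyU
    have h1 : y ∈ (U : Set X)ᶜ ∩ (V : Set X) := ⟨hyU, hWV' hy.1⟩
    rw [← hzl] at h1
    exact (X.mem_zeroLocus_iff _ y).1 h1.1 _ (e.symm i).2 hy.2
  have hcov : ∀ y : X, y ∈ U → y ∈ W → ∃ i, y ∈ B i := by
    intro y hyU hyW
    have h1 : y ∉ X.zeroLocus (U := V) (↑fs : Set Γ(X, V)) := by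
      intro h
      have h2 : y ∈ (U : Set X)ᶜ ∩ (V : Set X) := by
        rw [← hzl]
        exact ⟨h, hWV' hyW⟩
      exact h2.1 hyU
    rw [X.mem_zeroLocus_iff] at h1
    push Not at h1
    obtain ⟨f, hf, hy⟩ := h1
    refine ⟨e ⟨f, hf⟩, ?_⟩
    rw [hBeq]
    simp only [Equiv.symm_apply_apply]
    exact ⟨hyW, hy⟩
  have key : IsZero ((restrictFunctor hW.fromSpec).obj ((Coh.Rpush U.ι p).obj G)) := by
    obtain ⟨e⟩ := nonempty_restrict_Rpush_iso U.ι hW G p
    refine IsZero.of_iso ?_ e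
    exact local_vanishing U hW fs.card B hB hBU hBW hcov _ p (hcard.trans hp)
  have hxr : x ∈ Set.range hW.fromSpec := by
    rw [hW.range_fromSpec]
    exact hxW
  obtain ⟨y, rfl⟩ := hxr
  exact (subsingleton_stalk_restrict_iff hW.fromSpec _ y).1
    (Groth.Agent.H8.subsingleton_stalk_of_isZero _ key y)


/-- Let X be a scheme, U ⊆ X an open subscheme and T = X ∖ U. Assume that, locally on X, T is the
vanishing set of no more than c functions from O_X: every point of X has an open neighbourhood V and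
finitely many, at most c, sections of O_X over V whose common zero locus meets V exactly in T ∩ V.
Then the local cohomology sheaves ℋ^i_T(F) (the right derived functors, computed with injective
resolutions, of the sheaf of sections with support in T, F ↦ ker(F → j_*(F|_U))) vanish for every i
> c and every quasi-coherent O_X-module F. -/
theorem result {X : Scheme.{u}} (U : X.Opens) [HasInjectiveResolutions X.Modules]
    (c : ℕ) (hT : ∀ x : X, ∃ (V : X.Opens) (fs : Finset Γ(X, V)), x ∈ V ∧ fs.card ≤ c ∧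
      X.zeroLocus (U := V) (↑fs : Set Γ(X, V)) ∩ (V : Set ↥X) = (U : Set ↥X)ᶜ ∩ (V : Set ↥X))
    (F : X.Modules) (hF : Coh.IsQCoh F) (i : ℕ) (hi : c < i) :
    IsZero (((DCoh.gammaZ U.ι).rightDerived i).obj F) := by
  have : F.IsQuasicoherent := hF
  have : ((restrictFunctor U.ι).obj F).IsQuasicoherent := inferInstance
  obtain ⟨i', rfl⟩ : ∃ i', i = i' + 1 := ⟨i - 1, by omega⟩
  rcases Nat.eq_zero_or_pos i' with h0 | hpos
  · subst h0
    have hz : IsZero ((Coh.Rpush U.ι 0).obj ((restrictFunctor U.ι).obj F)) :=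
      isZero_Rpush_of_cover U c hT _ 0 (by omega)
    have hz' : IsZero ((pushforward U.ι).obj ((restrictFunctor U.ι).obj F)) :=
      hz.of_iso (((pushforward U.ι).rightDerivedZeroIsoSelf).app _).symm
    have e := Groth.Agent.H45.GammaZMod.HZshMOneIso U.ι F
    refine IsZero.of_iso ?_ e
    rw [IsZero.iff_id_eq_zero, ← cancel_epi (cokernel.π _)]
    exact hz'.eq_of_src _ _
  · have e := (Groth.Agent.H45.GammaZMod.HZshMSuccIso U.ι i' hpos).app F
    refine IsZero.of_iso ?_ e
    exact isZero_Rpush_of_cover U c hT _ i' (by omega)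

end Groth.Agent.S7252
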