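import Groth.Statements.S7257
import Mathlib
import Groth.Agent.H6.AcycUnit
import Groth.Agent.S0028
import Groth.Agent.S11319
import Groth.Agent.S7252

set_option autoImplicit false
universe u
open CategoryTheory CategoryTheory.Limits AlgebraicGeometry
attribute [local instance] HasDerivedCategory.standard
open Perf

namespace Groth.Agent.S7257

open AlgebraicGeometry CategoryTheory.Limits DerivedCategory Pretriangulated
  Groth.Agent.H6.AcycUnit Groth.Agent.H6.RpushQC Groth.Agent.H6.RFBound Groth.Agent.S1046 in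
/-- `f_*` is conservative on quasi-coherent modules for `f` affine. -/
theorem isZero_of_isZero_pushforward {X S : Scheme.{u}} (f : X ⟶ S) [IsAffineHom f]
    (M : X.Modules) (hM : Coh.IsQCoh M)
    (h : IsZero ((Scheme.Modules.pushforward f).obj M)) : IsZero M := by
  have : M.IsQuasicoherent := hM
  refine Groth.Agent.H31.LocalD.isZero_of_subsingleton_stalks M (fun x => ?_)
  obtain ⟨V, hV, hxV, -⟩ : ∃ V : S.Opens, V ∈ S.affineOpens ∧ f x ∈ V ∧ V ≤ ⊤ :=
    (TopologicalSpace.Opens.isBasis_iff_nbhd.1 S.isBasis_affineOpens)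
      (show f x ∈ (⊤ : S.Opens) from trivial)
  have hV' : IsAffineOpen V := hV
  have hU : IsAffineOpen (f ⁻¹ᵁ V) := hV'.preimage f
  have hsub : Subsingleton Γ(M, f ⁻¹ᵁ V) :=
    Groth.Agent.H31.LocalD.subsingleton_sections_of_isZero _ h V
  have hN : IsZero ((Scheme.Modules.restrictFunctor hU.fromSpec).obj M) := by
    apply Groth.Agent.S7252.isZero_of_qcoh_spec
    have e : hU.fromSpec ''ᵁ ⊤ = f ⁻¹ᵁ V := by
      rw [Scheme.Hom.image_top_eq_opensRange]
      exact hU.opensRange_fromSpec
    have : Subsingleton Γ(M, hU.fromSpec ''ᵁ ⊤) := by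
      rw [e]
      exact hsub
    exact this
  have hx : x ∈ f ⁻¹ᵁ V := hxV
  obtain ⟨y, hy⟩ : ∃ y, hU.fromSpec y = x := by
    have : x ∈ Set.range hU.fromSpec := by
      rw [hU.range_fromSpec]
      exact hx
    exact this
  rw [← hy]
  exact (Groth.Agent.S7252.subsingleton_stalk_restrict_iff hU.fromSpec M y).1
    (Groth.Agent.H31.LocalD.subsingleton_stalk_of_isZero _ hN y)

open AlgebraicGeometry CategoryTheory.Limits DerivedCategory Pretriangulated
  Groth.Agent.H6.AcycUnit Groth.Agent.H6.RpushQC Groth.Agent.H6.RFBound Groth.Agent.S1046 in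
/-- For `f` affine, `Rf_*` kills no nonzero object of `D_QCoh`. -/
theorem isZero_of_isZero_Rpush {X S : Scheme.{u}} (f : X ⟶ S) [IsAffineHom f] [DCoh.HasRpush f]
    (C : DCoh.D X) (hC : DCoh.IsQCohD C) (h : IsZero ((DCoh.Rpush f).obj C)) : IsZero C := by
  have : IsGrothendieckAbelian.{u} X.Modules :=
    Groth.Agent.H31.GrothAb.isGrothendieckAbelian (Opens.grothendieckTopology X) X.ringCatSheaf
  have hN : ∀ G : X.Modules, G.IsQuasicoherent → ∀ p : ℕ, 1 ≤ p →
      IsZero ((Coh.Rpush f p).obj G) := by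
    intro G hG p hp
    obtain ⟨q, rfl⟩ : ∃ q, p = q + 1 := ⟨p - 1, by omega⟩
    obtain ⟨e⟩ := Groth.Agent.S11319.result f G (q + 1)
    have : Coh.IsQCoh G := hG
    exact Groth.Agent.H30.RpushQcoh.isZero_of_isZero_toAb _
      ((Groth.Agent.S0028.result f G (q + 1) (Nat.succ_pos q)).of_iso e)
  rw [Groth.Agent.H31.LocalD.isZero_iff_homology]
  intro m
  apply isZero_of_isZero_pushforward f _ (hC m)
  -- Step A
  have hA : IsZero (DCoh.HD ((DCoh.Rpush f).obj C) m) := Functor.map_isZero _ h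
  -- Step B
  obtain ⟨D, hDdef⟩ : ∃ D, D = ((tD X.Modules).truncGE (m - 1)).obj C := ⟨_, rfl⟩
  have hDq : DCoh.IsQCohD D := hDdef ▸ isQCohD_truncGE C hC (m - 1)
  have hDge : D.IsGE (m - 1) := by rw [hDdef]; infer_instance
  have i3 : IsIso ((homologyFunctor X.Modules m).map (((tD X.Modules).truncGEπ (m - 1)).app C)) :=
    isIso_H_truncGEπ (m - 1) m (by omega) C
  have e3 : DCoh.HD C m ≅ DCoh.HD D m := by
    rw [hDdef]
    exact asIso ((homologyFunctor X.Modules m).map (((tD X.Modules).truncGEπ (m - 1)).app C))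
  have hB : IsZero (DCoh.HD ((DCoh.Rpush f).obj D) m) := by
    rw [hDdef]
    have hT := (tD X.Modules).triangleLTGE_distinguished (m - 1) C
    have hq := isQCohD_truncLT C hC (m - 1)
    have i1 := isIso_H_RF_map_of_isZero (Scheme.Modules.pushforward f) (DCoh.Rpush f) (βu f) _ hT m
      (isZero_HD_Rpush_of_isLE f 1 hN _ hq (m - 1 - 1) inferInstance m (by push_cast; omega))
      (isZero_HD_Rpush_of_isLE f 1 hN _ hq (m - 1 - 1) inferInstance (m + 1)
        (by push_cast; omega))
    have e := @asIso _ _ _ _ _ i1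
    exact IsZero.of_iso hA e.symm
  -- Step C
  obtain ⟨G, hGdef⟩ : ∃ G, G = ((tD X.Modules).truncGE m).obj D := ⟨_, rfl⟩
  have hGq : DCoh.IsQCohD G := hGdef ▸ isQCohD_truncGE D hDq m
  have hGge : G.IsGE m := by rw [hGdef]; infer_instance
  have i2 : IsIso ((homologyFunctor X.Modules m).map (((tD X.Modules).truncGEπ m).app D)) :=
    isIso_H_truncGEπ m m le_rfl D
  have e2 : DCoh.HD D m ≅ DCoh.HD G m := by
    rw [hGdef]
    exact asIso ((homologyFunctor X.Modules m).map (((tD X.Modules).truncGEπ m).app D))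
  have hCz : IsZero (DCoh.HD ((DCoh.Rpush f).obj G) m) := by
    rw [hGdef]
    have hT := (tD X.Modules).triangleLTGE_distinguished m D
    have hq := isQCohD_truncLT D hDq m
    have hab : ∀ i : ℤ, i < m - 1 ∨ m - 1 < i →
        IsZero (DCoh.HD (((tD X.Modules).truncLT m).obj D) i) := by
      rintro i (hi | hi)
      · have := isIso_H_truncLTι m i (by omega) D
        exact IsZero.of_iso (isZero_of_isGE D (m - 1) i hi)
          (asIso ((homologyFunctor X.Modules i).map (((tD X.Modules).truncLTι m).app D)))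
      · exact isZero_of_isLE _ (m - 1) i hi
    have z : ∀ i : ℤ, m - 1 < i →
        IsZero (DCoh.HD ((DCoh.Rpush f).obj (((tD X.Modules).truncLT m).obj D)) i) := fun i hi =>
      isZero_HD_Rpush_of_bounded f 1 hN _ hq (m - 1) (m - 1) hab i
        (Or.inr (by push_cast; omega))
    have i1 := isIso_H_RF_map_of_isZero (Scheme.Modules.pushforward f) (DCoh.Rpush f) (βu f) _ hT m
      (z m (by omega)) (z (m + 1) (by omega))
    have e := @asIso _ _ _ _ _ i1
    exact IsZero.of_iso hB e.symm
  -- Step D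
  obtain ⟨E₀, hEdef⟩ : ∃ E₀, E₀ = ((tD X.Modules).truncLT (m + 1)).obj G := ⟨_, rfl⟩
  have i1 : IsIso ((homologyFunctor X.Modules m).map (((tD X.Modules).truncLTι (m + 1)).app G)) :=
    isIso_H_truncLTι (m + 1) m (by omega) G
  have e1 : DCoh.HD E₀ m ≅ DCoh.HD G m := by
    rw [hEdef]
    exact asIso ((homologyFunctor X.Modules m).map (((tD X.Modules).truncLTι (m + 1)).app G))
  have hE₀ge : E₀.IsGE m := by
    rw [hEdef, DerivedCategory.isGE_iff]
    intro i hi
    have := isIso_H_truncLTι (m + 1) i (by omega) G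
    exact IsZero.of_iso (isZero_of_isGE G m i hi)
      (asIso ((homologyFunctor X.Modules i).map (((tD X.Modules).truncLTι (m + 1)).app G)))
  have hE₀le : E₀.IsLE m := by
    rw [hEdef, DerivedCategory.isLE_iff]
    intro i hi
    exact isZero_of_isLE _ (m + 1 - 1) i (by omega)
  have hDz : IsZero (DCoh.HD ((DCoh.Rpush f).obj E₀) m) := by
    rw [hEdef]
    have hT := (tD X.Modules).triangleLTGE_distinguished (m + 1) G
    have hT' := inv_rot_of_distTriang _ hT
    have hge : ((((tD X.Modules).truncGE (m + 1)).obj G)⟦(-1 : ℤ)⟧).IsGE (m + 2) :=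
      (tD X.Modules).isGE_shift _ (m + 1) (-1) (m + 2) (by omega)
    have h1 : IsZero ((homologyFunctor S.Modules m).obj
        ((DCoh.Rpush f).obj ((((tD X.Modules).truncGE (m + 1)).obj G)⟦(-1 : ℤ)⟧))) :=
      isZero_of_lt (Scheme.Modules.pushforward f) (DCoh.Rpush f) (βu f) _ (m + 2)
        (fun j hj => isZero_of_isGE _ (m + 2) j hj) m (by omega)
    exact isZero_obj₂_of_distTriang (Scheme.Modules.pushforward f) (DCoh.Rpush f) (βu f) _ hT' m
      h1 (hGdef ▸ hCz)
  -- Step E
  have hE : IsZero ((Scheme.Modules.pushforward f).obj (DCoh.HD E₀ m)) := by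
    by_contra hne
    have hne' : ¬ IsZero (((Scheme.Modules.pushforward f).rightDerived 0).obj (DCoh.HD E₀ m)) :=
      fun hz => hne (IsZero.of_iso hz
        ((Scheme.Modules.pushforward f).rightDerivedZeroIsoSelf.app _).symm)
    have key := Groth.Agent.H6.RFSerre.prop_of_single (Scheme.Modules.pushforward f)
      (DCoh.Rpush f) (βu f) (fun Z => ¬ IsZero Z) (fun e hX hY => hX (IsZero.of_iso hY e))
      E₀ m 0 hne'
    have e0 : m + ((0 : ℕ) : ℤ) = m := by simp
    rw [e0] at key
    exact key hDz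
  -- Step F
  exact IsZero.of_iso hE ((Scheme.Modules.pushforward f).mapIso (e3 ≪≫ e2 ≪≫ e1.symm))


/-- Let f : X ⟶ S be an affine morphism of schemes. Assuming Rf_* exists on the unbounded derived
category, Rf_* restricted to D_QCoh(O_X) reflects isomorphisms: if α : E ⟶ F is a morphism in D(O_X)
between objects with quasi-coherent cohomology sheaves and Rf_*(α) is an isomorphism, then α is an
isomorphism. -/
theorem result {X S : Scheme.{u}} (f : X ⟶ S) [IsAffineHom f] [DCoh.HasRpush f]
    {E F : DCoh.D X} (hE : DCoh.IsQCohD E) (hF : DCoh.IsQCohD F) (α : E ⟶ F)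
    (hα : IsIso ((DCoh.Rpush f).map α)) : IsIso α := by
  have : IsGrothendieckAbelian.{u} X.Modules :=
    Groth.Agent.H31.GrothAb.isGrothendieckAbelian (Opens.grothendieckTopology X)
      X.ringCatSheaf
  obtain ⟨L, a₀, c₀, hT⟩ := Pretriangulated.distinguished_cocone_triangle₁ α
  have hLq : DCoh.IsQCohD L := fun i =>
    Groth.Agent.H6.AcycUnit.prop_obj₁_of_distTriang Groth.Agent.S1046.weakSerre_qcoh _ hT i
      (hE (i - 1)) (hF (i - 1)) (hE i) (hF i)
  obtain ⟨a', c', hT'⟩ := Groth.Agent.H5.KInjDer.exists_distinguished_map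
    ((AlgebraicGeometry.Scheme.Modules.pushforward f).mapHomotopyCategory (ComplexShape.up ℤ) ⋙
      DerivedCategory.Qh) (DCoh.Rpush f) (Groth.Agent.H6.AcycUnit.βu f) a₀ α c₀ hT
  have hz : Limits.IsZero ((DCoh.Rpush f).obj L) :=
    (Pretriangulated.Triangle.isZero₁_iff_isIso₂ _ hT').2 hα
  have hL : Limits.IsZero L := isZero_of_isZero_Rpush f L hLq hz
  exact (Pretriangulated.Triangle.isZero₁_iff_isIso₂ _ hT).1 hL

end Groth.Agent.S7257
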