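import Groth.Statements.S7291
import Mathlib
import Groth.Agent.H24.ValLift

set_option autoImplicit false
open CategoryTheory CategoryTheory.Limits AlgebraicGeometry Opposite
universe w u
open HTop

namespace Groth.Agent.S7291

/-- Let Y be an affine scheme and let X be the limit (as a scheme) of a cofiltered system of affine
schemes X_i over Y. Then the one-member family X over Y is a standard V covering exactly when, for
every i, the one-member family X_i over Y is a standard V covering. -/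
theorem result {Y : Scheme.{u}} [IsAffine Y]
    {I : Type u} [SmallCategory I] [IsCofiltered I] (D : I ⥤ Over Y) [∀ i, IsAffine (D.obj i).left]
    (c : Cone D) (hc : IsLimit ((Over.forget Y).mapCone c)) :
    HTop.IsStandardV (PreZeroHypercover.singleton.{w} c.pt.hom) ↔
      ∀ i, HTop.IsStandardV (PreZeroHypercover.singleton.{w} (D.obj i).hom) := by
  constructor
  · intro h i
    refine ⟨inferInstance, inferInstanceAs (Finite PUnit), fun _ => ‹∀ i, IsAffine (D.obj i).left› i, ?_⟩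
    intro V _ _ g
    obtain ⟨W, hW1, hW2, φ, hφ, j, g', hg'⟩ := h.lift V g
    obtain ⟨g₁, hg₁⟩ : ∃ g₁ : Spec W ⟶ c.pt.left, g₁ ≫ c.pt.hom = Spec.map φ ≫ g := ⟨g', hg'⟩
    obtain ⟨p, hp⟩ : ∃ p : c.pt.left ⟶ (D.obj i).left, p ≫ (D.obj i).hom = c.pt.hom :=
      ⟨(c.π.app i).left, Over.w _⟩
    refine ⟨W, hW1, hW2, φ, hφ, PUnit.unit, ?_⟩
    refine ⟨(g₁ ≫ p : Spec W ⟶ (D.obj i).left), ?_⟩
    show (g₁ ≫ p) ≫ (D.obj i).hom = Spec.map φ ≫ g
    rw [Category.assoc, hp]
    exact hg₁
  · intro h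
    refine ⟨inferInstance, inferInstanceAs (Finite PUnit),
      fun _ => H24.isAffine_left_of_isLimit_over D c hc, ?_⟩
    intro V _ _ g
    have hi : ∀ i, ∃ (W : CommRingCat.{u}) (_ : IsDomain W) (_ : ValuationRing W) (φ : V ⟶ W),
        HTop.IsExtVal V W φ ∧
          ∃ g' : Spec W ⟶ (D.obj i).left, g' ≫ (D.obj i).hom = Spec.map φ ≫ g := by
      intro i
      obtain ⟨W, hW1, hW2, φ, hφ, j, g', hg'⟩ := (h i).lift V g
      exact ⟨W, hW1, hW2, φ, hφ, g', hg'⟩
    obtain ⟨W, hW1, hW2, φ, hφ, g', hg'⟩ := H24.exists_valLift_of_isLimit D c hc V g hi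
    exact ⟨W, hW1, hW2, φ, hφ, PUnit.unit, g', hg'⟩

end Groth.Agent.S7291
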