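import Groth.Statements.S7295
import Groth.Agent.H23.RestrInj

set_option autoImplicit false
open CategoryTheory CategoryTheory.Limits AlgebraicGeometry Opposite
universe u
open ProEtS

namespace Groth.Agent.S7295


/-- Let f : T → S be a morphism of schemes and I an injective object of the category of abelian sheaves
on the big pro-etale site of S (the category of schemes over S with the pro-etale topology). Then
the restriction of I to the small pro-etale site of T, along the functor sending a scheme V weakly
etale over T to the S-scheme V → T → S, is injective. The case where T = S and f is the identity is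
the restriction to the small pro-etale site of S itself. (Continuity of the restriction functor is
carried as a binder.) -/
theorem result {T S : Scheme.{u}} (f : T ⟶ S)
    [(Scheme.ProEt.forget T ⋙ Over.map f).IsContinuous (Scheme.ProEt.topology T)
      (Scheme.proetaleTopology.over S)]
    (I : Sheaf (Scheme.proetaleTopology.over S) AddCommGrpCat.{u + 1}) [Injective I] :
    Injective (((Scheme.ProEt.forget T ⋙ Over.map f).sheafPushforwardContinuous AddCommGrpCat.{u + 1}
      (Scheme.ProEt.topology T) (Scheme.proetaleTopology.over S)).obj I) := by
  let A := AddCommGrpCat.{u + 1}
  let I1 := ((Over.map f).sheafPushforwardContinuous A (Scheme.proetaleTopology.over T)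
    (Scheme.proetaleTopology.over S)).obj I
  haveI h1 : Injective I1 := Groth.Agent.H23.RestrInj.injective_restrict_overMap f _ I
  let I2 := ((Scheme.ProEt.forget T).sheafPushforwardContinuous A (Scheme.ProEt.topology T)
    (Scheme.proetaleTopology.over T)).obj I1
  haveI h2 : Injective I2 := Groth.Agent.H23.RestrInj.injective_restrict_of_flat
    (Scheme.ProEt.forget T) _ _ I1
  let e : I2 ≅ ((Scheme.ProEt.forget T ⋙ Over.map f).sheafPushforwardContinuous AddCommGrpCat.{u + 1}
      (Scheme.ProEt.topology T) (Scheme.proetaleTopology.over S)).obj I :=
    (fullyFaithfulSheafToPresheaf _ _).preimageIso (Iso.refl _)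
  exact Injective.of_iso e h2

end Groth.Agent.S7295
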