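import Groth.Statements.S7296
import Groth.Agent.H23.BigSmall

set_option autoImplicit false
open CategoryTheory CategoryTheory.Limits AlgebraicGeometry Opposite
universe u
open ProEtS

namespace Groth.Agent.S7296

attribute [local instance] Groth.Agent.H23.BigSmall.cocont

/-- For an abelian sheaf F on the small pro-etale site of a scheme S: write u for the inclusion of the
small pro-etale site into the big pro-etale site of S (schemes over S with the pro-etale topology),
u_s for pullback of abelian sheaves along u (left adjoint to the restriction u^s). Then the unit F →
u^s u_s F is an isomorphism and R^q u^s (u_s F) = 0 for every q > 0; together these say that F → R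
u^s (u_s F) is an isomorphism. (Additivity of the restriction functor and the existence of injective
resolutions for abelian sheaves on the big pro-etale site, both of which hold, are recorded as
instance hypotheses.) -/
theorem result (S : Scheme.{u})
    [((Scheme.ProEt.forget S).sheafPushforwardContinuous AddCommGrpCat.{u + 1} (Scheme.ProEt.topology S)
      (Scheme.proetaleTopology.over S)).Additive]
    [HasInjectiveResolutions (Sheaf (Scheme.proetaleTopology.over S) AddCommGrpCat.{u + 1})]
    (F : ProEtS.AbP S) :
    IsIso (((Scheme.ProEt.forget S).sheafAdjunctionContinuous AddCommGrpCat.{u + 1}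
      (Scheme.ProEt.topology S) (Scheme.proetaleTopology.over S)).unit.app F) ∧
    ∀ q : ℕ, 0 < q →
      IsZero ((((Scheme.ProEt.forget S).sheafPushforwardContinuous AddCommGrpCat.{u + 1}
        (Scheme.ProEt.topology S) (Scheme.proetaleTopology.over S)).rightDerived q).obj
        (((Scheme.ProEt.forget S).sheafPullback AddCommGrpCat.{u + 1} (Scheme.ProEt.topology S)
          (Scheme.proetaleTopology.over S)).obj F)) := by
  refine ⟨?_, fun q hq => ?_⟩
  · haveI := Groth.Agent.H23.BigSmall.isIso_unit S
    infer_instance
  · haveI : PreservesLimitsOfSize.{0, 0} ((Scheme.ProEt.forget S).sheafPushforwardContinuous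
        AddCommGrpCat.{u + 1} (Scheme.ProEt.topology S) (Scheme.proetaleTopology.over S)) :=
      ((Scheme.ProEt.forget S).sheafAdjunctionContinuous AddCommGrpCat.{u + 1}
        (Scheme.ProEt.topology S) (Scheme.proetaleTopology.over S)).rightAdjoint_preservesLimits
    haveI : PreservesColimitsOfSize.{0, 0} ((Scheme.ProEt.forget S).sheafPushforwardContinuous
        AddCommGrpCat.{u + 1} (Scheme.ProEt.topology S) (Scheme.proetaleTopology.over S)) :=
      (Groth.Agent.H23.BigSmall.adj2 S).leftAdjoint_preservesColimits
    haveI : PreservesFiniteLimits ((Scheme.ProEt.forget S).sheafPushforwardContinuous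
        AddCommGrpCat.{u + 1} (Scheme.ProEt.topology S) (Scheme.proetaleTopology.over S)) :=
      PreservesLimitsOfSize.preservesFiniteLimits _
    haveI : PreservesFiniteColimits ((Scheme.ProEt.forget S).sheafPushforwardContinuous
        AddCommGrpCat.{u + 1} (Scheme.ProEt.topology S) (Scheme.proetaleTopology.over S)) :=
      PreservesColimitsOfSize.preservesFiniteColimits _
    exact Groth.Agent.H23.BigSmall.isZero_rightDerived_of_exact _ _ q hq

end Groth.Agent.S7296
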