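import Groth.Statements.S7305
import Groth.Agent.H87.CplStalk

set_option autoImplicit false
universe u
open CategoryTheory CategoryTheory.Limits AlgebraicGeometry
open Resolve

namespace Groth.Agent.S7305

/-- Let (A, m) be a local ring with m finitely generated, f : X → Spec A a scheme over A, and Y = X
×_{Spec A} Spec(A^) the base change to the m-adic completion. Take a point q of Y whose image p in X
maps to the closed point of Spec A. Then the map of local rings O_{X,p} → O_{Y,q} becomes an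
isomorphism after completing both sides: for every n ≥ 1 the induced map O_{X,p}/m_p^n →
O_{Y,q}/m_q^n is bijective. -/
theorem result (A : Type u) [CommRing A] [IsLocalRing A]
    (hm : (IsLocalRing.maximalIdeal A).FG) (X : Scheme.{u}) (f : X ⟶ Spec (CommRingCat.of A))
    (q : ↥(Curv2.bcCpl A f)) (hq : f.base ((Curv2.bcCplFst A f).base q) = IsLocalRing.closedPoint A) (n : ℕ) (hn : 1 ≤ n)
    (h : IsLocalRing.maximalIdeal (X.presheaf.stalk ((Curv2.bcCplFst A f).base q)) ^ n ≤
      (IsLocalRing.maximalIdeal ((Curv2.bcCpl A f).presheaf.stalk q) ^ n).comap ((Curv2.bcCplFst A f).stalkMap q).hom) :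
    Function.Bijective (Ideal.quotientMap (IsLocalRing.maximalIdeal ((Curv2.bcCpl A f).presheaf.stalk q) ^ n)
      ((Curv2.bcCplFst A f).stalkMap q).hom h) := by
  classical
  -- notation
  let K := Curv2.cpl A
  let ι : Spec (CommRingCat.of K) ⟶ Spec (CommRingCat.of A) :=
    Spec.map (CommRingCat.ofHom (algebraMap A K))
  let Y := Curv2.bcCpl A f
  let π : Y ⟶ X := Curv2.bcCplFst A f
  let s : Y ⟶ Spec (CommRingCat.of K) := Curv2.bcCplSnd A f
  have H : IsPullback π s f ι := IsPullback.of_hasPullback f ι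
  -- affine open neighbourhood of `π q`
  obtain ⟨U, hU, hxU, -⟩ := TopologicalSpace.Opens.isBasis_iff_nbhd.mp X.isBasis_affineOpens
    (U := ⊤) (x := π.base q) trivial
  have hU : IsAffineOpen U := hU
  let US : (Spec (CommRingCat.of A)).Opens := ⊤
  let UT : (Spec (CommRingCat.of K)).Opens := ⊤
  have hUS : IsAffineOpen US := isAffineOpen_top _
  have hUT : IsAffineOpen UT := isAffineOpen_top _
  have hUST : UT ≤ ι ⁻¹ᵁ US := le_top
  have hUSX : U ≤ f ⁻¹ᵁ US := le_top
  let UY : Y.Opens := π ⁻¹ᵁ U ⊓ s ⁻¹ᵁ UT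
  have hUY : UY = π ⁻¹ᵁ U ⊓ s ⁻¹ᵁ UT := rfl
  have hqUY : q ∈ UY := ⟨hxU, trivial⟩
  have hUY' : IsAffineOpen UY := by
    have : IsAffine _ := hUS
    have : IsAffine _ := hUT
    have : IsAffine _ := hU
    exact .of_isIso (Scheme.Hom.isPullback_resLE H hUST hUSX hUY).isoPullback.hom
  have hiso := isIso_pushoutSection_of_isAffineOpen H hUST hUSX hUY hUS hUT hU
  have hPO := (isIso_pushoutSection_iff H hUST hUSX hUY).mp hiso
  let fk : CommRingCat.of A ⟶ Γ(X, U) :=
    (Scheme.ΓSpecIso (CommRingCat.of A)).inv ≫ f.appLE US U hUSX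
  have hUYT : UY ≤ s ⁻¹ᵁ UT := by simp [UY]
  have hUYU : UY ≤ π ⁻¹ᵁ U := by simp [UY]
  let fK : CommRingCat.of K ⟶ Γ(Y, UY) :=
    (Scheme.ΓSpecIso (CommRingCat.of K)).inv ≫ s.appLE UT UY hUYT
  have hPO' : IsPushout fk (CommRingCat.ofHom (algebraMap A K)) (π.appLE U UY hUYU) fK := by
    refine IsPushout.of_iso hPO (Scheme.ΓSpecIso (CommRingCat.of A)) (Iso.refl _)
      (Scheme.ΓSpecIso (CommRingCat.of K)) (Iso.refl _) ?_ ?_ ?_ ?_
    · simp [fk]
    · have : ι.appLE US UT hUST = ι.appTop := by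
        rw [Scheme.Hom.appTop, Scheme.Hom.app_eq_appLE]
        rfl
      rw [this]
      exact Scheme.ΓSpecIso_naturality _
    · simp
    · simp [fK]
  letI algA : Algebra A Γ(X, U) := fk.hom.toAlgebra
  have hT := (CommRingCat.isPushout_tensorProduct A K Γ(X, U)).flip
  have hfk : CommRingCat.ofHom (algebraMap A Γ(X, U)) = fk := rfl
  rw [hfk] at hT
  let e := hT.isoIsPushout _ _ hPO'
  have he_inl : CommRingCat.ofHom (Algebra.TensorProduct.includeRight (R := A) (A := K)
      (B := Γ(X, U))).toRingHom ≫ e.hom = π.appLE U UY hUYU :=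
    hT.inl_isoIsPushout_hom _ _ hPO'
  let eR : TensorProduct A K Γ(X, U) ≃+* Γ(Y, UY) := e.commRingCatIsoToRingEquiv
  -- primes
  let Q' : Ideal Γ(Y, UY) := (hUY'.primeIdealOf ⟨q, hqUY⟩).asIdeal
  let P' : Ideal Γ(X, U) := (hU.primeIdealOf ⟨π.base q, hxU⟩).asIdeal
  haveI hP'p : P'.IsPrime := (hU.primeIdealOf ⟨π.base q, hxU⟩).isPrime
  haveI hQ'p : Q'.IsPrime := (hUY'.primeIdealOf ⟨q, hqUY⟩).isPrime
  have hcomap : P' = Q'.comap (π.appLE U UY hUYU).hom :=
    congr($(IsAffineOpen.comap_primeIdealOf_appLE (f := π) U hU UY hUY' hUYU hqUY).1).symm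
  -- `P'` lies over the maximal ideal
  have hmP : (IsLocalRing.maximalIdeal A).map (algebraMap A Γ(X, U)) ≤ P' := by
    have h1 := IsAffineOpen.comap_primeIdealOf_appLE (f := f) US hUS U hU hUSX hxU
    have h2 := congrArg PrimeSpectrum.asIdeal h1
    have h3 : (hUS.fromSpec (hUS.primeIdealOf ⟨f.base (π.base q), trivial⟩)) = f.base (π.base q) :=
      hUS.fromSpec_primeIdealOf ⟨f.base (π.base q), trivial⟩
    have h4 : hUS.fromSpec = Spec.map (Scheme.ΓSpecIso (CommRingCat.of A)).inv := by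
      rw [IsAffineOpen.fromSpec_top, Scheme.isoSpec_Spec_inv]
    rw [h4] at h3
    have h5 : ((hUS.primeIdealOf ⟨f.base (π.base q), trivial⟩).asIdeal).comap
        (Scheme.ΓSpecIso (CommRingCat.of A)).inv.hom = (f.base (π.base q)).asIdeal :=
      congrArg PrimeSpectrum.asIdeal h3
    have h6 : P'.comap (algebraMap A Γ(X, U)) = IsLocalRing.maximalIdeal A := by
      have h7 : (f.base (π.base q)).asIdeal = IsLocalRing.maximalIdeal A := by
        rw [hq]; rfl
      rw [← h7, ← h5, ← h2]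
      show Ideal.comap fk.hom P' = Ideal.comap _ (Ideal.comap _ P')
      rw [Ideal.comap_comap]
      rfl
    rw [Ideal.map_le_iff_le_comap, h6]
  have hn0 : n ≠ 0 := by omega
  have hmain := Groth.Agent.H87.CplStalk.main_ring (IsLocalRing.maximalIdeal A) hm
    (π.appLE U UY hUYU).hom eR
    (fun b => by
      have := congrArg (fun g => g.hom b) he_inl
      exact this)
    P' Q' hcomap hmP n hn0
  
  -- transport along the arrow isomorphism
  let ar := IsAffineOpen.arrowStalkMapIso π U hU UY hUY' hUYU hqUY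
  let e1 : X.presheaf.stalk (π.base q) ≃+* Localization.AtPrime P' :=
    (Arrow.leftFunc.mapIso ar).commRingCatIsoToRingEquiv
  let e2 : Y.presheaf.stalk q ≃+* Localization.AtPrime Q' :=
    (Arrow.rightFunc.mapIso ar).commRingCatIsoToRingEquiv
  have hw : ∀ x : X.presheaf.stalk (π.base q),
      e2 ((π.stalkMap q).hom x) =
        Localization.localRingHom P' Q' (π.appLE U UY hUYU).hom hcomap (e1 x) := by
    intro x
    have := congrArg (fun g => g.hom x) ar.hom.w
    exact this.symm
  apply Groth.Agent.H87.CplStalk.bijective_quotientMap_of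
  · intro y'
    obtain ⟨x, hx⟩ := hmain.1 (e2 y')
    refine ⟨e1.symm x, ?_⟩
    rw [← Groth.Agent.H87.CplStalk.mem_maximalIdeal_pow_iff_of_ringEquiv e2, map_sub, hw,
      RingEquiv.apply_symm_apply]
    exact hx
  · intro x hx
    rw [← Groth.Agent.H87.CplStalk.mem_maximalIdeal_pow_iff_of_ringEquiv e1]
    apply hmain.2
    rw [← hw, Groth.Agent.H87.CplStalk.mem_maximalIdeal_pow_iff_of_ringEquiv e2]
    exact hx

end Groth.Agent.S7305
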