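import Groth.Statements.S7318
import Mathlib.Combinatorics.SimpleGraph.Acyclic
-- import your own Groth.Agent.* helpers here

set_option autoImplicit false
open Finset
open Models Models.NumericalType

namespace Groth.Agent.S7318

/-- For a numerical type T on n indices with e pairs i < j such that a_ij > 0, the topological genus 1 -
n + e is ≥ 0. -/
theorem result {n : ℕ} (T : Models.NumericalType n) : 0 ≤ T.topGenus := by
  classical
  have hsymm : ∀ i j, T.a i j = T.a j i := fun i j => (T.symm.apply i j).symm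
  let G : SimpleGraph (Fin n) :=
    { Adj := fun i j => i ≠ j ∧ 0 < T.a i j
      symm := ⟨fun i j h => ⟨h.1.symm, by rw [hsymm]; exact h.2⟩⟩
      loopless := ⟨fun i h => h.1 rfl⟩ }
  have hadj : ∀ i j, G.Adj i j ↔ (i ≠ j ∧ 0 < T.a i j) := fun i j => Iff.rfl
  have : Nonempty (Fin n) := ⟨⟨0, T.pos⟩⟩
  have hconn : G.Connected := by
    refine ⟨fun u v => ?_⟩
    by_contra hv
    let I : Finset (Fin n) := univ.filter fun x => G.Reachable u x
    have hI1 : I.Nonempty := ⟨u, by simp [I]⟩
    have hI2 : I ≠ univ := by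
      intro h
      have : v ∈ I := by rw [h]; exact mem_univ v
      simp only [I, mem_filter, mem_univ, true_and] at this
      exact hv this
    obtain ⟨i, hi, j, hj, hij⟩ := T.connected I hI1 hI2
    simp only [I, mem_filter, mem_univ, true_and] at hi hj
    have hne : i ≠ j := by
      rintro rfl
      exact hj hi
    have hpos : 0 < T.a i j := lt_of_le_of_ne (T.offDiag_nonneg i j hne) (Ne.symm hij)
    have : G.Adj i j := (hadj i j).2 ⟨hne, hpos⟩
    exact hj (hi.trans this.reachable)
  have hcard := hconn.card_vert_le_card_edgeSet_add_one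
  have hE : Nat.card G.edgeSet = T.edgeCount := by
    rw [Nat.card_eq_fintype_card, ← SimpleGraph.edgeFinset_card]
    have himg : G.edgeFinset =
        (univ.filter fun p : Fin n × Fin n => p.1 < p.2 ∧ 0 < T.a p.1 p.2).image
          (fun p => s(p.1, p.2)) := by
      ext e
      induction e using Sym2.ind with
      | _ i j =>
        rw [SimpleGraph.mem_edgeFinset, SimpleGraph.mem_edgeSet, hadj]
        simp only [mem_image, mem_filter, mem_univ, true_and, Sym2.eq_iff, Prod.exists]
        constructor
        · rintro ⟨hne, hpos⟩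
          rcases lt_or_gt_of_ne hne with h | h
          · exact ⟨i, j, ⟨h, hpos⟩, Or.inl ⟨rfl, rfl⟩⟩
          · exact ⟨j, i, ⟨h, by rw [hsymm]; exact hpos⟩, Or.inr ⟨rfl, rfl⟩⟩
        · rintro ⟨p, q, ⟨hlt, hpos⟩, (⟨rfl, rfl⟩ | ⟨rfl, rfl⟩)⟩
          · exact ⟨ne_of_lt hlt, hpos⟩
          · exact ⟨ne_of_gt hlt, by rw [hsymm]; exact hpos⟩
    rw [himg, Finset.card_image_of_injOn]
    · rfl
    · rintro ⟨p1, p2⟩ hp ⟨q1, q2⟩ hq h
      simp only [coe_filter, mem_univ, true_and, Set.mem_ofPred_eq] at hp hq
      simp only [Sym2.eq_iff] at h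
      rcases h with ⟨h1, h2⟩ | ⟨h1, h2⟩
      · exact Prod.ext h1 h2
      · exfalso
        have a1 := hp.1
        have a2 := hq.1
        subst h1 h2
        exact lt_asymm a1 a2
  rw [hE, Nat.card_eq_fintype_card, Fintype.card_fin] at hcard
  unfold Models.NumericalType.topGenus
  omega

end Groth.Agent.S7318
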