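import Groth.Statements.S7341
import Groth.Agent.H37.NumType2

set_option autoImplicit false
open Finset
open Models Models.NumericalType

namespace Groth.Agent.S7341

/-- Classification of proper subgraphs which are chains of three vertices: let T be a numerical type on
n > 3 indices and i, j, k distinct (-2)-indices with a_ij > 0 and a_jk > 0. Then a_ik = 0 and, up to
reversing the order of i, j, k, one of the following holds for some integer w: (A3) w_i = w_j = w_k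
= w, a_ij = a_jk = w, with 2 m_i ≥ m_j, 2 m_j ≥ m_i + m_k, 2 m_k ≥ m_j; (C3) w_i = w_j = w, w_k =
2w, a_ij = w, a_jk = 2w, with 2 m_i ≥ m_j, 2 m_j ≥ m_i + 2 m_k, 2 m_k ≥ m_j; (B3) w_i = w_j = 2w,
w_k = w, a_ij = a_jk = 2w, with 2 m_i ≥ m_j, 2 m_j ≥ m_i + m_k, m_k ≥ m_j. -/
theorem result {n : ℕ} (T : Models.NumericalType n) (hn : 3 < n) (i j k : Fin n)
    (hij : i ≠ j) (hjk : j ≠ k) (hik : i ≠ k) (hi : T.IsMinusTwo i) (hj : T.IsMinusTwo j) (hk : T.IsMinusTwo k)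
    (h1 : 0 < T.a i j) (h2 : 0 < T.a j k) :
    T.a i k = 0 ∧ ∃ (i' k' : Fin n) (w : ℤ), ((i' = i ∧ k' = k) ∨ (i' = k ∧ k' = i)) ∧
      ((T.w i' = w ∧ T.w j = w ∧ T.w k' = w ∧ T.a i' j = w ∧ T.a j k' = w ∧
          T.m j ≤ 2 * T.m i' ∧ T.m i' + T.m k' ≤ 2 * T.m j ∧ T.m j ≤ 2 * T.m k') ∨
        (T.w i' = w ∧ T.w j = w ∧ T.w k' = 2 * w ∧ T.a i' j = w ∧ T.a j k' = 2 * w ∧
          T.m j ≤ 2 * T.m i' ∧ T.m i' + 2 * T.m k' ≤ 2 * T.m j ∧ T.m j ≤ 2 * T.m k') ∨
        (T.w i' = 2 * w ∧ T.w j = 2 * w ∧ T.w k' = w ∧ T.a i' j = 2 * w ∧ T.a j k' = 2 * w ∧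
          T.m j ≤ 2 * T.m i' ∧ T.m i' + T.m k' ≤ 2 * T.m j ∧ T.m j ≤ T.m k')) := by
  have hn2 : 2 < n := by omega
  have hdi : T.a i i = -2 * T.w i := hi.2
  have hdj : T.a j j = -2 * T.w j := hj.2
  have hdk : T.a k k = -2 * T.w k := hk.2
  have hsji : T.a j i = T.a i j := Groth.Agent.H37.a_symm T _ _
  have hskj : T.a k j = T.a j k := Groth.Agent.H37.a_symm T _ _
  have hski : T.a k i = T.a i k := Groth.Agent.H37.a_symm T _ _
  have hnik : 0 ≤ T.a i k := T.offDiag_nonneg _ _ hik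
  have hwi := T.w_pos i
  have hwj := T.w_pos j
  have hwk := T.w_pos k
  have he1 := Groth.Agent.H37.w_le_offDiag T i j hij (ne_of_gt h1)
  have he2 := Groth.Agent.H37.w_le_offDiag T j k hjk (ne_of_gt h2)
  have hz : T.a i k = 0 := by
    by_contra hne
    have hc := Groth.Agent.H37.w_le_offDiag T i k hik hne
    have hQ := Groth.Agent.H37.qform_sub_neg T (Groth.Agent.H37.emb3 i j k hij hik hjk) hn ![1, 1, 1] ⟨0, by decide⟩
    simp [Fin.sum_univ_succ] at hQ
    linarith [he1.1, he1.2, he2.1, he2.2, hc.1, hc.2]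
  have hr0 : T.a i i * T.m i + T.a i j * T.m j + T.a i k * T.m k ≤ 0 := by
    have := Groth.Agent.H37.row_sub_le T (Groth.Agent.H37.emb3 i j k hij hik hjk) 0
    simp [Fin.sum_univ_succ] at this
    linarith
  have hr1 : T.a j i * T.m i + T.a j j * T.m j + T.a j k * T.m k ≤ 0 := by
    have := Groth.Agent.H37.row_sub_le T (Groth.Agent.H37.emb3 i j k hij hik hjk) 1
    simp [Fin.sum_univ_succ] at this
    linarith
  have hr2 : T.a k i * T.m i + T.a k j * T.m j + T.a k k * T.m k ≤ 0 := by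
    have := Groth.Agent.H37.row_sub_le T (Groth.Agent.H37.emb3 i j k hij hik hjk) 2
    simp [Fin.sum_univ_succ] at this
    linarith
  rw [hdi, hz] at hr0
  rw [hsji, hdj] at hr1
  rw [hski, hskj, hdk, hz] at hr2
  refine ⟨hz, ?_⟩
  rcases Groth.Agent.H37.edge_types T hn2 i j hij hi hj (ne_of_gt h1) with ⟨hw1, ha1⟩ | ⟨hw1, ha1⟩ | ⟨hw1, ha1⟩ | ⟨hw1, ha1⟩ | ⟨hw1, ha1⟩
  · rcases Groth.Agent.H37.edge_types T hn2 j k hjk hj hk (ne_of_gt h2) with ⟨hw2, ha2⟩ | ⟨hw2, ha2⟩ | ⟨hw2, ha2⟩ | ⟨hw2, ha2⟩ | ⟨hw2, ha2⟩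
    · have eW1 : T.w j = T.w i := by omega
      have eW2 : T.w k = T.w i := by omega
      have eA01 : T.a i j = T.w i := by omega
      have eA12 : T.a j k = T.w i := by omega
      simp only [eW1, eW2, eA01, eA12] at hr0 hr1 hr2
      refine ⟨i, k, T.w i, Or.inl ⟨rfl, rfl⟩, ?_⟩
      refine Or.inl ⟨?_, ?_, ?_, ?_, ?_, ?_, ?_, ?_⟩
      all_goals first | omega | nlinarith
    · have eW1 : T.w j = T.w i := by omega
      have eW2 : T.w k = 2 * T.w i := by omega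
      have eA01 : T.a i j = T.w i := by omega
      have eA12 : T.a j k = 2 * T.w i := by omega
      simp only [eW1, eW2, eA01, eA12] at hr0 hr1 hr2
      refine ⟨i, k, T.w i, Or.inl ⟨rfl, rfl⟩, ?_⟩
      refine Or.inr (Or.inl ⟨?_, ?_, ?_, ?_, ?_, ?_, ?_, ?_⟩)
      all_goals first | omega | nlinarith
    · have eW0 : T.w i = 2 * T.w k := by omega
      have eW1 : T.w j = 2 * T.w k := by omega
      have eA01 : T.a i j = 2 * T.w k := by omega
      have eA12 : T.a j k = 2 * T.w k := by omega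
      simp only [eW0, eW1, eA01, eA12] at hr0 hr1 hr2
      refine ⟨i, k, T.w k, Or.inl ⟨rfl, rfl⟩, ?_⟩
      refine Or.inr (Or.inr ⟨?_, ?_, ?_, ?_, ?_, ?_, ?_, ?_⟩)
      all_goals first | omega | nlinarith
    · exfalso
      have hQ := Groth.Agent.H37.qform_sub_neg T (Groth.Agent.H37.emb3 i j k hij hik hjk) hn ![1, 2, 1] ⟨0, by decide⟩
      simp [Fin.sum_univ_succ] at hQ
      linarith
    · exfalso
      have hQ := Groth.Agent.H37.qform_sub_neg T (Groth.Agent.H37.emb3 i j k hij hik hjk) hn ![1, 2, 3] ⟨0, by decide⟩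
      simp [Fin.sum_univ_succ] at hQ
      linarith
  · rcases Groth.Agent.H37.edge_types T hn2 j k hjk hj hk (ne_of_gt h2) with ⟨hw2, ha2⟩ | ⟨hw2, ha2⟩ | ⟨hw2, ha2⟩ | ⟨hw2, ha2⟩ | ⟨hw2, ha2⟩
    · have eW1 : T.w j = 2 * T.w i := by omega
      have eW2 : T.w k = 2 * T.w i := by omega
      have eA01 : T.a i j = 2 * T.w i := by omega
      have eA12 : T.a j k = 2 * T.w i := by omega
      simp only [eW1, eW2, eA01, eA12] at hr0 hr1 hr2
      refine ⟨k, i, T.w i, Or.inr ⟨rfl, rfl⟩, ?_⟩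
      refine Or.inr (Or.inr ⟨?_, ?_, ?_, ?_, ?_, ?_, ?_, ?_⟩)
      all_goals first | omega | nlinarith
    · exfalso
      have hQ := Groth.Agent.H37.qform_sub_neg T (Groth.Agent.H37.emb3 i j k hij hik hjk) hn ![2, 2, 1] ⟨0, by decide⟩
      simp [Fin.sum_univ_succ] at hQ
      linarith
    · exfalso
      have hQ := Groth.Agent.H37.qform_sub_neg T (Groth.Agent.H37.emb3 i j k hij hik hjk) hn ![1, 1, 1] ⟨0, by decide⟩
      simp [Fin.sum_univ_succ] at hQ
      linarith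
    · exfalso
      have hQ := Groth.Agent.H37.qform_sub_neg T (Groth.Agent.H37.emb3 i j k hij hik hjk) hn ![1, 2, 1] ⟨0, by decide⟩
      simp [Fin.sum_univ_succ] at hQ
      linarith
    · exfalso
      have hQ := Groth.Agent.H37.qform_sub_neg T (Groth.Agent.H37.emb3 i j k hij hik hjk) hn ![1, 1, 1] ⟨0, by decide⟩
      simp [Fin.sum_univ_succ] at hQ
      linarith
  · rcases Groth.Agent.H37.edge_types T hn2 j k hjk hj hk (ne_of_gt h2) with ⟨hw2, ha2⟩ | ⟨hw2, ha2⟩ | ⟨hw2, ha2⟩ | ⟨hw2, ha2⟩ | ⟨hw2, ha2⟩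
    · have eW0 : T.w i = 2 * T.w j := by omega
      have eW2 : T.w k = T.w j := by omega
      have eA01 : T.a i j = 2 * T.w j := by omega
      have eA12 : T.a j k = T.w j := by omega
      simp only [eW0, eW2, eA01, eA12] at hr0 hr1 hr2
      refine ⟨k, i, T.w j, Or.inr ⟨rfl, rfl⟩, ?_⟩
      refine Or.inr (Or.inl ⟨?_, ?_, ?_, ?_, ?_, ?_, ?_, ?_⟩)
      all_goals first | omega | nlinarith
    · exfalso
      have hQ := Groth.Agent.H37.qform_sub_neg T (Groth.Agent.H37.emb3 i j k hij hik hjk) hn ![1, 2, 1] ⟨0, by decide⟩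
      simp [Fin.sum_univ_succ] at hQ
      linarith
    · exfalso
      have hQ := Groth.Agent.H37.qform_sub_neg T (Groth.Agent.H37.emb3 i j k hij hik hjk) hn ![1, 2, 2] ⟨0, by decide⟩
      simp [Fin.sum_univ_succ] at hQ
      linarith
    · exfalso
      have hQ := Groth.Agent.H37.qform_sub_neg T (Groth.Agent.H37.emb3 i j k hij hik hjk) hn ![1, 2, 1] ⟨0, by decide⟩
      simp [Fin.sum_univ_succ] at hQ
      linarith
    · exfalso
      have hQ := Groth.Agent.H37.qform_sub_neg T (Groth.Agent.H37.emb3 i j k hij hik hjk) hn ![1, 2, 2] ⟨0, by decide⟩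
      simp [Fin.sum_univ_succ] at hQ
      linarith
  · rcases Groth.Agent.H37.edge_types T hn2 j k hjk hj hk (ne_of_gt h2) with ⟨hw2, ha2⟩ | ⟨hw2, ha2⟩ | ⟨hw2, ha2⟩ | ⟨hw2, ha2⟩ | ⟨hw2, ha2⟩
    · exfalso
      have hQ := Groth.Agent.H37.qform_sub_neg T (Groth.Agent.H37.emb3 i j k hij hik hjk) hn ![3, 2, 1] ⟨0, by decide⟩
      simp [Fin.sum_univ_succ] at hQ
      linarith
    · exfalso
      have hQ := Groth.Agent.H37.qform_sub_neg T (Groth.Agent.H37.emb3 i j k hij hik hjk) hn ![2, 2, 1] ⟨0, by decide⟩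
      simp [Fin.sum_univ_succ] at hQ
      linarith
    · exfalso
      have hQ := Groth.Agent.H37.qform_sub_neg T (Groth.Agent.H37.emb3 i j k hij hik hjk) hn ![1, 1, 1] ⟨0, by decide⟩
      simp [Fin.sum_univ_succ] at hQ
      linarith
    · exfalso
      have hQ := Groth.Agent.H37.qform_sub_neg T (Groth.Agent.H37.emb3 i j k hij hik hjk) hn ![1, 2, 1] ⟨0, by decide⟩
      simp [Fin.sum_univ_succ] at hQ
      linarith
    · exfalso
      have hQ := Groth.Agent.H37.qform_sub_neg T (Groth.Agent.H37.emb3 i j k hij hik hjk) hn ![1, 1, 1] ⟨0, by decide⟩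
      simp [Fin.sum_univ_succ] at hQ
      linarith
  · rcases Groth.Agent.H37.edge_types T hn2 j k hjk hj hk (ne_of_gt h2) with ⟨hw2, ha2⟩ | ⟨hw2, ha2⟩ | ⟨hw2, ha2⟩ | ⟨hw2, ha2⟩ | ⟨hw2, ha2⟩
    · exfalso
      have hQ := Groth.Agent.H37.qform_sub_neg T (Groth.Agent.H37.emb3 i j k hij hik hjk) hn ![1, 2, 1] ⟨0, by decide⟩
      simp [Fin.sum_univ_succ] at hQ
      linarith
    · exfalso
      have hQ := Groth.Agent.H37.qform_sub_neg T (Groth.Agent.H37.emb3 i j k hij hik hjk) hn ![1, 2, 1] ⟨0, by decide⟩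
      simp [Fin.sum_univ_succ] at hQ
      linarith
    · exfalso
      have hQ := Groth.Agent.H37.qform_sub_neg T (Groth.Agent.H37.emb3 i j k hij hik hjk) hn ![1, 2, 1] ⟨0, by decide⟩
      simp [Fin.sum_univ_succ] at hQ
      linarith
    · exfalso
      have hQ := Groth.Agent.H37.qform_sub_neg T (Groth.Agent.H37.emb3 i j k hij hik hjk) hn ![1, 2, 1] ⟨0, by decide⟩
      simp [Fin.sum_univ_succ] at hQ
      linarith
    · exfalso
      have hQ := Groth.Agent.H37.qform_sub_neg T (Groth.Agent.H37.emb3 i j k hij hik hjk) hn ![1, 2, 1] ⟨0, by decide⟩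
      simp [Fin.sum_univ_succ] at hQ
      linarith

end Groth.Agent.S7341
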