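import Groth.Statements.S7342
import Groth.Agent.H37.NumType

set_option autoImplicit false
open Finset
open Models Models.NumericalType

namespace Groth.Agent.S7342

/-- Let T be a numerical type on n indices, t ≥ 4 and n > t + 2. Then no t + 2 (-2)-indices of T,
pairwise distinct and numbered i_0, …, i_{t+1}, satisfy: a_{i_j i_{j+1}} > 0 for 1 ≤ j ≤ t - 1,
a_{i_0 i_2} > 0 and a_{i_{t-1} i_{t+1}} > 0. -/
theorem result {n : ℕ} (T : Models.NumericalType n) (t : ℕ) (ht : 4 ≤ t) (hn : t + 2 < n)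
    (v : Fin (t + 2) ↪ Fin n) (hv : ∀ j, T.IsMinusTwo (v j))
    (hchain : ∀ j j' : Fin (t + 2), 1 ≤ j.val → j.val + 1 ≤ t → j'.val = j.val + 1 → 0 < T.a (v j) (v j'))
    (h02 : ∀ j j' : Fin (t + 2), j.val = 0 → j'.val = 2 → 0 < T.a (v j) (v j'))
    (hlast : ∀ j j' : Fin (t + 2), j.val = t - 1 → j'.val = t + 1 → 0 < T.a (v j) (v j')) : False := by
  classical
  obtain ⟨adj, hadjd⟩ : ∃ adj : Fin (t + 2) → Fin (t + 2) → Prop, ∀ p q, adj p q ↔
      ((1 ≤ p.val ∧ p.val + 1 ≤ t ∧ q.val = p.val + 1) ∨ (1 ≤ q.val ∧ q.val + 1 ≤ t ∧ p.val = q.val + 1) ∨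
      (p.val = 0 ∧ q.val = 2) ∨ (p.val = 2 ∧ q.val = 0) ∨
      (p.val = t - 1 ∧ q.val = t + 1) ∨ (p.val = t + 1 ∧ q.val = t - 1)) := ⟨_, fun _ _ => Iff.rfl⟩
  obtain ⟨y, hyd⟩ : ∃ y : Fin (t + 2) → ℤ, ∀ p, y p =
      if p.val = 0 ∨ p.val = 1 ∨ p.val = t ∨ p.val = t + 1 then 1 else 2 := ⟨_, fun _ => rfl⟩
  have hsymm : ∀ p q : Fin (t + 2), T.a (v p) (v q) = T.a (v q) (v p) :=
    fun p q => Groth.Agent.H37.a_symm T _ _
  have hadj : ∀ p q, adj p q → p ≠ q ∧ T.a (v p) (v q) ≠ 0 := by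
    intro p q h
    rcases (hadjd p q).1 h with h | h | h | h | h | h
    · exact ⟨fun e => by rw [e] at h; omega, ne_of_gt (hchain p q h.1 h.2.1 h.2.2)⟩
    · refine ⟨fun e => by rw [e] at h; omega, ?_⟩
      rw [hsymm]
      exact ne_of_gt (hchain q p h.1 h.2.1 h.2.2)
    · exact ⟨fun e => by rw [e] at h; omega, ne_of_gt (h02 p q h.1 h.2)⟩
    · refine ⟨fun e => by rw [e] at h; omega, ?_⟩
      rw [hsymm]
      exact ne_of_gt (h02 q p h.2 h.1)
    · exact ⟨fun e => by rw [e] at h; omega, ne_of_gt (hlast p q h.1 h.2)⟩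
    · refine ⟨fun e => by rw [e] at h; omega, ?_⟩
      rw [hsymm]
      exact ne_of_gt (hlast q p h.2 h.1)
  have hy1 : ∀ p : Fin (t + 2), (p.val = 0 ∨ p.val = 1 ∨ p.val = t ∨ p.val = t + 1) → y p = 1 := by
    intro p h
    rw [hyd, if_pos h]
  have hy2 : ∀ p : Fin (t + 2), ¬ (p.val = 0 ∨ p.val = 1 ∨ p.val = t ∨ p.val = t + 1) → y p = 2 := by
    intro p h
    rw [hyd, if_neg h]
  have hy0 : ∀ p, 0 ≤ y p := by
    intro p
    rw [hyd]
    split_ifs <;> norm_num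
  have hy : ∃ p, y p ≠ 0 := by
    refine ⟨⟨0, by omega⟩, ?_⟩
    rw [hy1 _ (Or.inl rfl)]
    norm_num
  -- adjacency facts in terms of values
  have A1 : ∀ p q : Fin (t + 2), 1 ≤ p.val → p.val + 1 ≤ t → q.val = p.val + 1 → adj p q :=
    fun p q h1 h2 h3 => (hadjd p q).2 (Or.inl ⟨h1, h2, h3⟩)
  have A2 : ∀ p q : Fin (t + 2), 1 ≤ q.val → q.val + 1 ≤ t → p.val = q.val + 1 → adj p q :=
    fun p q h1 h2 h3 => (hadjd p q).2 (Or.inr (Or.inl ⟨h1, h2, h3⟩))
  have A3 : ∀ p q : Fin (t + 2), p.val = 0 → q.val = 2 → adj p q :=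
    fun p q h1 h2 => (hadjd p q).2 (Or.inr (Or.inr (Or.inl ⟨h1, h2⟩)))
  have A4 : ∀ p q : Fin (t + 2), p.val = 2 → q.val = 0 → adj p q :=
    fun p q h1 h2 => (hadjd p q).2 (Or.inr (Or.inr (Or.inr (Or.inl ⟨h1, h2⟩))))
  have A5 : ∀ p q : Fin (t + 2), p.val = t - 1 → q.val = t + 1 → adj p q :=
    fun p q h1 h2 => (hadjd p q).2 (Or.inr (Or.inr (Or.inr (Or.inr (Or.inl ⟨h1, h2⟩)))))
  have A6 : ∀ p q : Fin (t + 2), p.val = t + 1 → q.val = t - 1 → adj p q :=
    fun p q h1 h2 => (hadjd p q).2 (Or.inr (Or.inr (Or.inr (Or.inr (Or.inr ⟨h1, h2⟩)))))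
  have hharm : ∀ p, 2 * y p ≤ ∑ q, if adj p q then y q else 0 := by
    intro p
    have hf : ∀ q, 0 ≤ (if adj p q then y q else 0) := by
      intro q
      split_ifs
      · exact hy0 q
      · exact le_refl _
    have hp := p.isLt
    by_cases c0 : p.val = 0
    · have ha : adj p ⟨2, by omega⟩ := A3 _ _ c0 rfl
      have hq : y ⟨2, by omega⟩ = 2 := hy2 _ (by dsimp only; omega)
      have h1 := Groth.Agent.H37.sum_ge_one _ hf (⟨2, by omega⟩ : Fin (t + 2))
      rw [if_pos ha, hq] at h1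
      rw [hy1 p (Or.inl c0)]
      linarith
    by_cases c1 : p.val = 1
    · have ha : adj p ⟨2, by omega⟩ := A1 _ _ (by omega) (by omega) (by dsimp only; omega)
      have hq : y ⟨2, by omega⟩ = 2 := hy2 _ (by dsimp only; omega)
      have h1 := Groth.Agent.H37.sum_ge_one _ hf (⟨2, by omega⟩ : Fin (t + 2))
      rw [if_pos ha, hq] at h1
      rw [hy1 p (Or.inr (Or.inl c1))]
      linarith
    by_cases ct : p.val = t
    · have ha : adj p ⟨t - 1, by omega⟩ := A2 _ _ (by dsimp only; omega) (by dsimp only; omega) (by dsimp only; omega)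
      have hq : y ⟨t - 1, by omega⟩ = 2 := hy2 _ (by dsimp only; omega)
      have h1 := Groth.Agent.H37.sum_ge_one _ hf (⟨t - 1, by omega⟩ : Fin (t + 2))
      rw [if_pos ha, hq] at h1
      rw [hy1 p (Or.inr (Or.inr (Or.inl ct)))]
      linarith
    by_cases ct1 : p.val = t + 1
    · have ha : adj p ⟨t - 1, by omega⟩ := A6 _ _ ct1 rfl
      have hq : y ⟨t - 1, by omega⟩ = 2 := hy2 _ (by dsimp only; omega)
      have h1 := Groth.Agent.H37.sum_ge_one _ hf (⟨t - 1, by omega⟩ : Fin (t + 2))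
      rw [if_pos ha, hq] at h1
      rw [hy1 p (Or.inr (Or.inr (Or.inr ct1)))]
      linarith
    have hyp : y p = 2 := hy2 p (by omega)
    rw [hyp]
    by_cases c2 : p.val = 2
    · have ha0 : adj p ⟨0, by omega⟩ := A4 _ _ c2 rfl
      have ha1 : adj p ⟨1, by omega⟩ := A2 _ _ (by dsimp only; omega) (by dsimp only; omega) (by dsimp only; omega)
      have ha3 : adj p ⟨3, by omega⟩ := A1 _ _ (by omega) (by omega) (by dsimp only; omega)
      have hq0 : y ⟨0, by omega⟩ = 1 := hy1 _ (Or.inl rfl)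
      have hq1 : y ⟨1, by omega⟩ = 1 := hy1 _ (Or.inr (Or.inl rfl))
      have hq3 : y ⟨3, by omega⟩ = 2 := hy2 _ (by dsimp only; omega)
      have h1 := Groth.Agent.H37.sum_ge_three _ hf (⟨0, by omega⟩ : Fin (t + 2)) ⟨1, by omega⟩ ⟨3, by omega⟩
        (by simp) (by simp) (by simp)
      rw [if_pos ha0, if_pos ha1, if_pos ha3, hq0, hq1, hq3] at h1
      linarith
    by_cases ctm : p.val = t - 1
    · have ha0 : adj p ⟨t - 2, by omega⟩ := A2 _ _ (by dsimp only; omega) (by dsimp only; omega) (by dsimp only; omega)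
      have ha1 : adj p ⟨t, by omega⟩ := A1 _ _ (by omega) (by omega) (by dsimp only; omega)
      have ha3 : adj p ⟨t + 1, by omega⟩ := A5 _ _ ctm rfl
      have hq0 : y ⟨t - 2, by omega⟩ = 2 := hy2 _ (by dsimp only; omega)
      have hq1 : y ⟨t, by omega⟩ = 1 := hy1 _ (Or.inr (Or.inr (Or.inl rfl)))
      have hq3 : y ⟨t + 1, by omega⟩ = 1 := hy1 _ (Or.inr (Or.inr (Or.inr rfl)))
      have hne1 : (⟨t - 2, by omega⟩ : Fin (t + 2)) ≠ ⟨t, by omega⟩ := by
        intro h; have := congrArg Fin.val h; dsimp only at this; omega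
      have hne2 : (⟨t - 2, by omega⟩ : Fin (t + 2)) ≠ ⟨t + 1, by omega⟩ := by
        intro h; have := congrArg Fin.val h; dsimp only at this; omega
      have hne3 : (⟨t, by omega⟩ : Fin (t + 2)) ≠ ⟨t + 1, by omega⟩ := by
        intro h; have := congrArg Fin.val h; dsimp only at this; omega
      have h1 := Groth.Agent.H37.sum_ge_three _ hf (⟨t - 2, by omega⟩ : Fin (t + 2)) ⟨t, by omega⟩ ⟨t + 1, by omega⟩
        hne1 hne2 hne3
      rw [if_pos ha0, if_pos ha1, if_pos ha3, hq0, hq1, hq3] at h1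
      linarith
    · have ha0 : adj p ⟨p.val - 1, by omega⟩ := A2 _ _ (by dsimp only; omega) (by dsimp only; omega) (by dsimp only; omega)
      have ha1 : adj p ⟨p.val + 1, by omega⟩ := A1 _ _ (by omega) (by omega) (by dsimp only)
      have hq0 : y ⟨p.val - 1, by omega⟩ = 2 := hy2 _ (by dsimp only; omega)
      have hq1 : y ⟨p.val + 1, by omega⟩ = 2 := hy2 _ (by dsimp only; omega)
      have hne1 : (⟨p.val - 1, by omega⟩ : Fin (t + 2)) ≠ ⟨p.val + 1, by omega⟩ := by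
        intro h; have := congrArg Fin.val h; dsimp only at this; omega
      have h1 := Groth.Agent.H37.sum_ge_two _ hf (⟨p.val - 1, by omega⟩ : Fin (t + 2)) ⟨p.val + 1, by omega⟩ hne1
      rw [if_pos ha0, if_pos ha1, hq0, hq1] at h1
      linarith
  exact Groth.Agent.H37.no_superharmonic T v hn hv adj hadj y hy0 hy hharm

end Groth.Agent.S7342
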