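import Groth.Statements.S7343
import Groth.Agent.H37.NumType

set_option autoImplicit false
open Finset
open Models Models.NumericalType

namespace Groth.Agent.S7343

/-- Let T be a numerical type on n > 7 indices. Then no seven (-2)-indices of T, pairwise distinct and
named f, g, h, i, j, k, l, have a_fg, a_gh, a_ij, a_jh, a_kl and a_lh all nonzero (three chains of
length two attached to h). -/
theorem result {n : ℕ} (T : Models.NumericalType n) (hn : 7 < n)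
    (v : Fin 7 ↪ Fin n) (hv : ∀ j, T.IsMinusTwo (v j))
    (h01 : T.a (v 0) (v 1) ≠ 0) (h12 : T.a (v 1) (v 2) ≠ 0) (h34 : T.a (v 3) (v 4) ≠ 0)
    (h42 : T.a (v 4) (v 2) ≠ 0) (h56 : T.a (v 5) (v 6) ≠ 0) (h62 : T.a (v 6) (v 2) ≠ 0) : False := by
  have hinj : ∀ p q : Fin 7, p ≠ q → v p ≠ v q := fun p q h hv => h (v.injective hv)
  have hd0 : T.a (v 0) (v 0) = -2 * T.w (v 0) := (hv 0).2
  have hd1 : T.a (v 1) (v 1) = -2 * T.w (v 1) := (hv 1).2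
  have hd2 : T.a (v 2) (v 2) = -2 * T.w (v 2) := (hv 2).2
  have hd3 : T.a (v 3) (v 3) = -2 * T.w (v 3) := (hv 3).2
  have hd4 : T.a (v 4) (v 4) = -2 * T.w (v 4) := (hv 4).2
  have hd5 : T.a (v 5) (v 5) = -2 * T.w (v 5) := (hv 5).2
  have hd6 : T.a (v 6) (v 6) = -2 * T.w (v 6) := (hv 6).2
  have hs0_1 : T.a (v 1) (v 0) = T.a (v 0) (v 1) := Groth.Agent.H37.a_symm T _ _
  have hn0_1 : 0 ≤ T.a (v 0) (v 1) := T.offDiag_nonneg _ _ (hinj 0 1 (by decide))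
  have hs0_2 : T.a (v 2) (v 0) = T.a (v 0) (v 2) := Groth.Agent.H37.a_symm T _ _
  have hn0_2 : 0 ≤ T.a (v 0) (v 2) := T.offDiag_nonneg _ _ (hinj 0 2 (by decide))
  have hs0_3 : T.a (v 3) (v 0) = T.a (v 0) (v 3) := Groth.Agent.H37.a_symm T _ _
  have hn0_3 : 0 ≤ T.a (v 0) (v 3) := T.offDiag_nonneg _ _ (hinj 0 3 (by decide))
  have hs0_4 : T.a (v 4) (v 0) = T.a (v 0) (v 4) := Groth.Agent.H37.a_symm T _ _
  have hn0_4 : 0 ≤ T.a (v 0) (v 4) := T.offDiag_nonneg _ _ (hinj 0 4 (by decide))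
  have hs0_5 : T.a (v 5) (v 0) = T.a (v 0) (v 5) := Groth.Agent.H37.a_symm T _ _
  have hn0_5 : 0 ≤ T.a (v 0) (v 5) := T.offDiag_nonneg _ _ (hinj 0 5 (by decide))
  have hs0_6 : T.a (v 6) (v 0) = T.a (v 0) (v 6) := Groth.Agent.H37.a_symm T _ _
  have hn0_6 : 0 ≤ T.a (v 0) (v 6) := T.offDiag_nonneg _ _ (hinj 0 6 (by decide))
  have hs1_2 : T.a (v 2) (v 1) = T.a (v 1) (v 2) := Groth.Agent.H37.a_symm T _ _
  have hn1_2 : 0 ≤ T.a (v 1) (v 2) := T.offDiag_nonneg _ _ (hinj 1 2 (by decide))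
  have hs1_3 : T.a (v 3) (v 1) = T.a (v 1) (v 3) := Groth.Agent.H37.a_symm T _ _
  have hn1_3 : 0 ≤ T.a (v 1) (v 3) := T.offDiag_nonneg _ _ (hinj 1 3 (by decide))
  have hs1_4 : T.a (v 4) (v 1) = T.a (v 1) (v 4) := Groth.Agent.H37.a_symm T _ _
  have hn1_4 : 0 ≤ T.a (v 1) (v 4) := T.offDiag_nonneg _ _ (hinj 1 4 (by decide))
  have hs1_5 : T.a (v 5) (v 1) = T.a (v 1) (v 5) := Groth.Agent.H37.a_symm T _ _
  have hn1_5 : 0 ≤ T.a (v 1) (v 5) := T.offDiag_nonneg _ _ (hinj 1 5 (by decide))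
  have hs1_6 : T.a (v 6) (v 1) = T.a (v 1) (v 6) := Groth.Agent.H37.a_symm T _ _
  have hn1_6 : 0 ≤ T.a (v 1) (v 6) := T.offDiag_nonneg _ _ (hinj 1 6 (by decide))
  have hs2_3 : T.a (v 3) (v 2) = T.a (v 2) (v 3) := Groth.Agent.H37.a_symm T _ _
  have hn2_3 : 0 ≤ T.a (v 2) (v 3) := T.offDiag_nonneg _ _ (hinj 2 3 (by decide))
  have hs2_4 : T.a (v 4) (v 2) = T.a (v 2) (v 4) := Groth.Agent.H37.a_symm T _ _
  have hn2_4 : 0 ≤ T.a (v 2) (v 4) := T.offDiag_nonneg _ _ (hinj 2 4 (by decide))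
  have hs2_5 : T.a (v 5) (v 2) = T.a (v 2) (v 5) := Groth.Agent.H37.a_symm T _ _
  have hn2_5 : 0 ≤ T.a (v 2) (v 5) := T.offDiag_nonneg _ _ (hinj 2 5 (by decide))
  have hs2_6 : T.a (v 6) (v 2) = T.a (v 2) (v 6) := Groth.Agent.H37.a_symm T _ _
  have hn2_6 : 0 ≤ T.a (v 2) (v 6) := T.offDiag_nonneg _ _ (hinj 2 6 (by decide))
  have hs3_4 : T.a (v 4) (v 3) = T.a (v 3) (v 4) := Groth.Agent.H37.a_symm T _ _
  have hn3_4 : 0 ≤ T.a (v 3) (v 4) := T.offDiag_nonneg _ _ (hinj 3 4 (by decide))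
  have hs3_5 : T.a (v 5) (v 3) = T.a (v 3) (v 5) := Groth.Agent.H37.a_symm T _ _
  have hn3_5 : 0 ≤ T.a (v 3) (v 5) := T.offDiag_nonneg _ _ (hinj 3 5 (by decide))
  have hs3_6 : T.a (v 6) (v 3) = T.a (v 3) (v 6) := Groth.Agent.H37.a_symm T _ _
  have hn3_6 : 0 ≤ T.a (v 3) (v 6) := T.offDiag_nonneg _ _ (hinj 3 6 (by decide))
  have hs4_5 : T.a (v 5) (v 4) = T.a (v 4) (v 5) := Groth.Agent.H37.a_symm T _ _
  have hn4_5 : 0 ≤ T.a (v 4) (v 5) := T.offDiag_nonneg _ _ (hinj 4 5 (by decide))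
  have hs4_6 : T.a (v 6) (v 4) = T.a (v 4) (v 6) := Groth.Agent.H37.a_symm T _ _
  have hn4_6 : 0 ≤ T.a (v 4) (v 6) := T.offDiag_nonneg _ _ (hinj 4 6 (by decide))
  have hs5_6 : T.a (v 6) (v 5) = T.a (v 5) (v 6) := Groth.Agent.H37.a_symm T _ _
  have hn5_6 : 0 ≤ T.a (v 5) (v 6) := T.offDiag_nonneg _ _ (hinj 5 6 (by decide))
  have he0_1 := Groth.Agent.H37.w_le_offDiag T (v 0) (v 1) (hinj 0 1 (by decide)) h01
  have he1_2 := Groth.Agent.H37.w_le_offDiag T (v 1) (v 2) (hinj 1 2 (by decide)) h12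
  have he3_4 := Groth.Agent.H37.w_le_offDiag T (v 3) (v 4) (hinj 3 4 (by decide)) h34
  have he2_4 := Groth.Agent.H37.w_le_offDiag T (v 2) (v 4) (hinj 2 4 (by decide)) (by rw [← hs2_4]; exact h42)
  have he5_6 := Groth.Agent.H37.w_le_offDiag T (v 5) (v 6) (hinj 5 6 (by decide)) h56
  have he2_6 := Groth.Agent.H37.w_le_offDiag T (v 2) (v 6) (hinj 2 6 (by decide)) (by rw [← hs2_6]; exact h62)
  have hQ := Groth.Agent.H37.qform_sub_neg T v hn ![1, 2, 3, 1, 2, 1, 2] ⟨0, by decide⟩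
  simp [Fin.sum_univ_succ] at hQ
  linarith [he0_1.1, he0_1.2, he1_2.1, he1_2.2, he3_4.1, he3_4.2, he2_4.1, he2_4.2, he5_6.1, he5_6.2, he2_6.1, he2_6.2]

end Groth.Agent.S7343
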