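import Groth.Statements.S7345
import Groth.Agent.H37.NumType

set_option autoImplicit false
open Finset
open Models Models.NumericalType

namespace Groth.Agent.S7345

/-- Let T be a numerical type on n > 9 indices. Then no nine (-2)-indices of T, pairwise distinct and
named d, e, f, g, h, i, j, k, l, have a_de, a_ef, a_fg, a_gh, a_hi, a_ij, a_jk and a_li all nonzero
(a chain of eight, d to k, with l joined to its sixth vertex i). (The published list of nonzero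
entries ends with a_lh, joining l to the fifth vertex h; that configuration already contains the
completed E7 configuration on eight of the indices and is impossible for that reason alone. The
pictured graph and the argument for it join l to the sixth vertex i, and this row states that case.) -/
theorem result {n : ℕ} (T : Models.NumericalType n) (hn : 9 < n)
    (v : Fin 9 ↪ Fin n) (hv : ∀ j, T.IsMinusTwo (v j))
    (h01 : T.a (v 0) (v 1) ≠ 0) (h12 : T.a (v 1) (v 2) ≠ 0) (h23 : T.a (v 2) (v 3) ≠ 0)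
    (h34 : T.a (v 3) (v 4) ≠ 0) (h45 : T.a (v 4) (v 5) ≠ 0) (h56 : T.a (v 5) (v 6) ≠ 0)
    (h67 : T.a (v 6) (v 7) ≠ 0) (h85 : T.a (v 8) (v 5) ≠ 0) : False := by
  have hinj : ∀ p q : Fin 9, p ≠ q → v p ≠ v q := fun p q h hv => h (v.injective hv)
  have hd0 : T.a (v 0) (v 0) = -2 * T.w (v 0) := (hv 0).2
  have hd1 : T.a (v 1) (v 1) = -2 * T.w (v 1) := (hv 1).2
  have hd2 : T.a (v 2) (v 2) = -2 * T.w (v 2) := (hv 2).2
  have hd3 : T.a (v 3) (v 3) = -2 * T.w (v 3) := (hv 3).2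
  have hd4 : T.a (v 4) (v 4) = -2 * T.w (v 4) := (hv 4).2
  have hd5 : T.a (v 5) (v 5) = -2 * T.w (v 5) := (hv 5).2
  have hd6 : T.a (v 6) (v 6) = -2 * T.w (v 6) := (hv 6).2
  have hd7 : T.a (v 7) (v 7) = -2 * T.w (v 7) := (hv 7).2
  have hd8 : T.a (v 8) (v 8) = -2 * T.w (v 8) := (hv 8).2
  have hs0_1 : T.a (v 1) (v 0) = T.a (v 0) (v 1) := Groth.Agent.H37.a_symm T _ _
  have hn0_1 : 0 ≤ T.a (v 0) (v 1) := T.offDiag_nonneg _ _ (hinj 0 1 (by decide))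
  have hs0_2 : T.a (v 2) (v 0) = T.a (v 0) (v 2) := Groth.Agent.H37.a_symm T _ _
  have hn0_2 : 0 ≤ T.a (v 0) (v 2) := T.offDiag_nonneg _ _ (hinj 0 2 (by decide))
  have hs0_3 : T.a (v 3) (v 0) = T.a (v 0) (v 3) := Groth.Agent.H37.a_symm T _ _
  have hn0_3 : 0 ≤ T.a (v 0) (v 3) := T.offDiag_nonneg _ _ (hinj 0 3 (by decide))
  have hs0_4 : T.a (v 4) (v 0) = T.a (v 0) (v 4) := Groth.Agent.H37.a_symm T _ _
  have hn0_4 : 0 ≤ T.a (v 0) (v 4) := T.offDiag_nonneg _ _ (hinj 0 4 (by decide))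
  have hs0_5 : T.a (v 5) (v 0) = T.a (v 0) (v 5) := Groth.Agent.H37.a_symm T _ _
  have hn0_5 : 0 ≤ T.a (v 0) (v 5) := T.offDiag_nonneg _ _ (hinj 0 5 (by decide))
  have hs0_6 : T.a (v 6) (v 0) = T.a (v 0) (v 6) := Groth.Agent.H37.a_symm T _ _
  have hn0_6 : 0 ≤ T.a (v 0) (v 6) := T.offDiag_nonneg _ _ (hinj 0 6 (by decide))
  have hs0_7 : T.a (v 7) (v 0) = T.a (v 0) (v 7) := Groth.Agent.H37.a_symm T _ _
  have hn0_7 : 0 ≤ T.a (v 0) (v 7) := T.offDiag_nonneg _ _ (hinj 0 7 (by decide))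
  have hs0_8 : T.a (v 8) (v 0) = T.a (v 0) (v 8) := Groth.Agent.H37.a_symm T _ _
  have hn0_8 : 0 ≤ T.a (v 0) (v 8) := T.offDiag_nonneg _ _ (hinj 0 8 (by decide))
  have hs1_2 : T.a (v 2) (v 1) = T.a (v 1) (v 2) := Groth.Agent.H37.a_symm T _ _
  have hn1_2 : 0 ≤ T.a (v 1) (v 2) := T.offDiag_nonneg _ _ (hinj 1 2 (by decide))
  have hs1_3 : T.a (v 3) (v 1) = T.a (v 1) (v 3) := Groth.Agent.H37.a_symm T _ _
  have hn1_3 : 0 ≤ T.a (v 1) (v 3) := T.offDiag_nonneg _ _ (hinj 1 3 (by decide))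
  have hs1_4 : T.a (v 4) (v 1) = T.a (v 1) (v 4) := Groth.Agent.H37.a_symm T _ _
  have hn1_4 : 0 ≤ T.a (v 1) (v 4) := T.offDiag_nonneg _ _ (hinj 1 4 (by decide))
  have hs1_5 : T.a (v 5) (v 1) = T.a (v 1) (v 5) := Groth.Agent.H37.a_symm T _ _
  have hn1_5 : 0 ≤ T.a (v 1) (v 5) := T.offDiag_nonneg _ _ (hinj 1 5 (by decide))
  have hs1_6 : T.a (v 6) (v 1) = T.a (v 1) (v 6) := Groth.Agent.H37.a_symm T _ _
  have hn1_6 : 0 ≤ T.a (v 1) (v 6) := T.offDiag_nonneg _ _ (hinj 1 6 (by decide))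
  have hs1_7 : T.a (v 7) (v 1) = T.a (v 1) (v 7) := Groth.Agent.H37.a_symm T _ _
  have hn1_7 : 0 ≤ T.a (v 1) (v 7) := T.offDiag_nonneg _ _ (hinj 1 7 (by decide))
  have hs1_8 : T.a (v 8) (v 1) = T.a (v 1) (v 8) := Groth.Agent.H37.a_symm T _ _
  have hn1_8 : 0 ≤ T.a (v 1) (v 8) := T.offDiag_nonneg _ _ (hinj 1 8 (by decide))
  have hs2_3 : T.a (v 3) (v 2) = T.a (v 2) (v 3) := Groth.Agent.H37.a_symm T _ _
  have hn2_3 : 0 ≤ T.a (v 2) (v 3) := T.offDiag_nonneg _ _ (hinj 2 3 (by decide))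
  have hs2_4 : T.a (v 4) (v 2) = T.a (v 2) (v 4) := Groth.Agent.H37.a_symm T _ _
  have hn2_4 : 0 ≤ T.a (v 2) (v 4) := T.offDiag_nonneg _ _ (hinj 2 4 (by decide))
  have hs2_5 : T.a (v 5) (v 2) = T.a (v 2) (v 5) := Groth.Agent.H37.a_symm T _ _
  have hn2_5 : 0 ≤ T.a (v 2) (v 5) := T.offDiag_nonneg _ _ (hinj 2 5 (by decide))
  have hs2_6 : T.a (v 6) (v 2) = T.a (v 2) (v 6) := Groth.Agent.H37.a_symm T _ _
  have hn2_6 : 0 ≤ T.a (v 2) (v 6) := T.offDiag_nonneg _ _ (hinj 2 6 (by decide))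
  have hs2_7 : T.a (v 7) (v 2) = T.a (v 2) (v 7) := Groth.Agent.H37.a_symm T _ _
  have hn2_7 : 0 ≤ T.a (v 2) (v 7) := T.offDiag_nonneg _ _ (hinj 2 7 (by decide))
  have hs2_8 : T.a (v 8) (v 2) = T.a (v 2) (v 8) := Groth.Agent.H37.a_symm T _ _
  have hn2_8 : 0 ≤ T.a (v 2) (v 8) := T.offDiag_nonneg _ _ (hinj 2 8 (by decide))
  have hs3_4 : T.a (v 4) (v 3) = T.a (v 3) (v 4) := Groth.Agent.H37.a_symm T _ _
  have hn3_4 : 0 ≤ T.a (v 3) (v 4) := T.offDiag_nonneg _ _ (hinj 3 4 (by decide))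
  have hs3_5 : T.a (v 5) (v 3) = T.a (v 3) (v 5) := Groth.Agent.H37.a_symm T _ _
  have hn3_5 : 0 ≤ T.a (v 3) (v 5) := T.offDiag_nonneg _ _ (hinj 3 5 (by decide))
  have hs3_6 : T.a (v 6) (v 3) = T.a (v 3) (v 6) := Groth.Agent.H37.a_symm T _ _
  have hn3_6 : 0 ≤ T.a (v 3) (v 6) := T.offDiag_nonneg _ _ (hinj 3 6 (by decide))
  have hs3_7 : T.a (v 7) (v 3) = T.a (v 3) (v 7) := Groth.Agent.H37.a_symm T _ _
  have hn3_7 : 0 ≤ T.a (v 3) (v 7) := T.offDiag_nonneg _ _ (hinj 3 7 (by decide))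
  have hs3_8 : T.a (v 8) (v 3) = T.a (v 3) (v 8) := Groth.Agent.H37.a_symm T _ _
  have hn3_8 : 0 ≤ T.a (v 3) (v 8) := T.offDiag_nonneg _ _ (hinj 3 8 (by decide))
  have hs4_5 : T.a (v 5) (v 4) = T.a (v 4) (v 5) := Groth.Agent.H37.a_symm T _ _
  have hn4_5 : 0 ≤ T.a (v 4) (v 5) := T.offDiag_nonneg _ _ (hinj 4 5 (by decide))
  have hs4_6 : T.a (v 6) (v 4) = T.a (v 4) (v 6) := Groth.Agent.H37.a_symm T _ _
  have hn4_6 : 0 ≤ T.a (v 4) (v 6) := T.offDiag_nonneg _ _ (hinj 4 6 (by decide))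
  have hs4_7 : T.a (v 7) (v 4) = T.a (v 4) (v 7) := Groth.Agent.H37.a_symm T _ _
  have hn4_7 : 0 ≤ T.a (v 4) (v 7) := T.offDiag_nonneg _ _ (hinj 4 7 (by decide))
  have hs4_8 : T.a (v 8) (v 4) = T.a (v 4) (v 8) := Groth.Agent.H37.a_symm T _ _
  have hn4_8 : 0 ≤ T.a (v 4) (v 8) := T.offDiag_nonneg _ _ (hinj 4 8 (by decide))
  have hs5_6 : T.a (v 6) (v 5) = T.a (v 5) (v 6) := Groth.Agent.H37.a_symm T _ _
  have hn5_6 : 0 ≤ T.a (v 5) (v 6) := T.offDiag_nonneg _ _ (hinj 5 6 (by decide))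
  have hs5_7 : T.a (v 7) (v 5) = T.a (v 5) (v 7) := Groth.Agent.H37.a_symm T _ _
  have hn5_7 : 0 ≤ T.a (v 5) (v 7) := T.offDiag_nonneg _ _ (hinj 5 7 (by decide))
  have hs5_8 : T.a (v 8) (v 5) = T.a (v 5) (v 8) := Groth.Agent.H37.a_symm T _ _
  have hn5_8 : 0 ≤ T.a (v 5) (v 8) := T.offDiag_nonneg _ _ (hinj 5 8 (by decide))
  have hs6_7 : T.a (v 7) (v 6) = T.a (v 6) (v 7) := Groth.Agent.H37.a_symm T _ _
  have hn6_7 : 0 ≤ T.a (v 6) (v 7) := T.offDiag_nonneg _ _ (hinj 6 7 (by decide))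
  have hs6_8 : T.a (v 8) (v 6) = T.a (v 6) (v 8) := Groth.Agent.H37.a_symm T _ _
  have hn6_8 : 0 ≤ T.a (v 6) (v 8) := T.offDiag_nonneg _ _ (hinj 6 8 (by decide))
  have hs7_8 : T.a (v 8) (v 7) = T.a (v 7) (v 8) := Groth.Agent.H37.a_symm T _ _
  have hn7_8 : 0 ≤ T.a (v 7) (v 8) := T.offDiag_nonneg _ _ (hinj 7 8 (by decide))
  have he0_1 := Groth.Agent.H37.w_le_offDiag T (v 0) (v 1) (hinj 0 1 (by decide)) h01
  have he1_2 := Groth.Agent.H37.w_le_offDiag T (v 1) (v 2) (hinj 1 2 (by decide)) h12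
  have he2_3 := Groth.Agent.H37.w_le_offDiag T (v 2) (v 3) (hinj 2 3 (by decide)) h23
  have he3_4 := Groth.Agent.H37.w_le_offDiag T (v 3) (v 4) (hinj 3 4 (by decide)) h34
  have he4_5 := Groth.Agent.H37.w_le_offDiag T (v 4) (v 5) (hinj 4 5 (by decide)) h45
  have he5_6 := Groth.Agent.H37.w_le_offDiag T (v 5) (v 6) (hinj 5 6 (by decide)) h56
  have he6_7 := Groth.Agent.H37.w_le_offDiag T (v 6) (v 7) (hinj 6 7 (by decide)) h67
  have he5_8 := Groth.Agent.H37.w_le_offDiag T (v 5) (v 8) (hinj 5 8 (by decide)) (by rw [← hs5_8]; exact h85)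
  have hQ := Groth.Agent.H37.qform_sub_neg T v hn ![1, 2, 3, 4, 5, 6, 4, 2, 3] ⟨0, by decide⟩
  simp [Fin.sum_univ_succ] at hQ
  linarith [he0_1.1, he0_1.2, he1_2.1, he1_2.2, he2_3.1, he2_3.2, he3_4.1, he3_4.2, he4_5.1, he4_5.2, he5_6.1, he5_6.2, he6_7.1, he6_7.2, he5_8.1, he5_8.2]

end Groth.Agent.S7345
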