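import Groth.Statements.S7350
import Groth.Agent.H37.NumType2

set_option autoImplicit false
open Finset
open Models Models.NumericalType

namespace Groth.Agent.S7350

/-- Classification of proper subgraphs of type E8 (a chain i_1 … i_7 with i_8 joined to i_5): let T be a
numerical type on n > 8 indices and i_1, …, i_8 distinct (-2)-indices with a_{12}, a_{23}, a_{34},
a_{45}, a_{56}, a_{67}, a_{58} nonzero. Then for some integer w all w_{i_j} equal w, these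
intersection numbers equal w, all other a_{i_j i_k} (j ≠ k) vanish, and 2 m_1 ≥ m_2, 2 m_2 ≥ m_1 +
m_3, 2 m_3 ≥ m_2 + m_4, 2 m_4 ≥ m_3 + m_5, 2 m_5 ≥ m_4 + m_6 + m_8, 2 m_6 ≥ m_5 + m_7, 2 m_7 ≥ m_6,
2 m_8 ≥ m_5. (The published statement lists a_{65} and a_{57} among the nonzero entries, which
contradicts its own conclusion a_{57} = 0; this row uses the edges of the E8 graph, a_{67} and
a_{58}, as the pictured graph and the matrix give them.) -/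
theorem result {n : ℕ} (T : Models.NumericalType n) (hn : 8 < n)
    (v : Fin 8 ↪ Fin n) (hv : ∀ j, T.IsMinusTwo (v j)) (h01 : T.a (v 0) (v 1) ≠ 0) (h12 : T.a (v 1) (v 2) ≠ 0) (h23 : T.a (v 2) (v 3) ≠ 0) (h34 : T.a (v 3) (v 4) ≠ 0) (h45 : T.a (v 4) (v 5) ≠ 0) (h56 : T.a (v 5) (v 6) ≠ 0) (h47 : T.a (v 4) (v 7) ≠ 0) :
    ∃ w : ℤ, (∀ j : Fin 8, T.w (v j) = w) ∧
      T.a (v 0) (v 1) = w ∧
      T.a (v 1) (v 2) = w ∧
      T.a (v 2) (v 3) = w ∧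
      T.a (v 3) (v 4) = w ∧
      T.a (v 4) (v 5) = w ∧
      T.a (v 5) (v 6) = w ∧
      T.a (v 4) (v 7) = w ∧
      T.a (v 0) (v 2) = 0 ∧
      T.a (v 0) (v 3) = 0 ∧
      T.a (v 0) (v 4) = 0 ∧
      T.a (v 0) (v 5) = 0 ∧
      T.a (v 0) (v 6) = 0 ∧
      T.a (v 0) (v 7) = 0 ∧
      T.a (v 1) (v 3) = 0 ∧
      T.a (v 1) (v 4) = 0 ∧
      T.a (v 1) (v 5) = 0 ∧
      T.a (v 1) (v 6) = 0 ∧
      T.a (v 1) (v 7) = 0 ∧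
      T.a (v 2) (v 4) = 0 ∧
      T.a (v 2) (v 5) = 0 ∧
      T.a (v 2) (v 6) = 0 ∧
      T.a (v 2) (v 7) = 0 ∧
      T.a (v 3) (v 5) = 0 ∧
      T.a (v 3) (v 6) = 0 ∧
      T.a (v 3) (v 7) = 0 ∧
      T.a (v 4) (v 6) = 0 ∧
      T.a (v 5) (v 7) = 0 ∧
      T.a (v 6) (v 7) = 0 ∧
      T.m (v 1) ≤ 2 * T.m (v 0) ∧
      T.m (v 0) + T.m (v 2) ≤ 2 * T.m (v 1) ∧
      T.m (v 1) + T.m (v 3) ≤ 2 * T.m (v 2) ∧
      T.m (v 2) + T.m (v 4) ≤ 2 * T.m (v 3) ∧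
      T.m (v 3) + T.m (v 5) + T.m (v 7) ≤ 2 * T.m (v 4) ∧
      T.m (v 4) + T.m (v 6) ≤ 2 * T.m (v 5) ∧
      T.m (v 5) ≤ 2 * T.m (v 6) ∧
      T.m (v 4) ≤ 2 * T.m (v 7) := by
  have hinj : ∀ p q : Fin 8, p ≠ q → v p ≠ v q := fun p q h hv => h (v.injective hv)
  have hn2 : 2 < n := by omega
  have hd0 : T.a (v 0) (v 0) = -2 * T.w (v 0) := (hv 0).2
  have hW0 := T.w_pos (v 0)
  have hd1 : T.a (v 1) (v 1) = -2 * T.w (v 1) := (hv 1).2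
  have hW1 := T.w_pos (v 1)
  have hd2 : T.a (v 2) (v 2) = -2 * T.w (v 2) := (hv 2).2
  have hW2 := T.w_pos (v 2)
  have hd3 : T.a (v 3) (v 3) = -2 * T.w (v 3) := (hv 3).2
  have hW3 := T.w_pos (v 3)
  have hd4 : T.a (v 4) (v 4) = -2 * T.w (v 4) := (hv 4).2
  have hW4 := T.w_pos (v 4)
  have hd5 : T.a (v 5) (v 5) = -2 * T.w (v 5) := (hv 5).2
  have hW5 := T.w_pos (v 5)
  have hd6 : T.a (v 6) (v 6) = -2 * T.w (v 6) := (hv 6).2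
  have hW6 := T.w_pos (v 6)
  have hd7 : T.a (v 7) (v 7) = -2 * T.w (v 7) := (hv 7).2
  have hW7 := T.w_pos (v 7)
  have hs0_1 : T.a (v 1) (v 0) = T.a (v 0) (v 1) := Groth.Agent.H37.a_symm T _ _
  have hn0_1 : 0 ≤ T.a (v 0) (v 1) := T.offDiag_nonneg _ _ (hinj 0 1 (by decide))
  have hs0_2 : T.a (v 2) (v 0) = T.a (v 0) (v 2) := Groth.Agent.H37.a_symm T _ _
  have hn0_2 : 0 ≤ T.a (v 0) (v 2) := T.offDiag_nonneg _ _ (hinj 0 2 (by decide))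
  have hs0_3 : T.a (v 3) (v 0) = T.a (v 0) (v 3) := Groth.Agent.H37.a_symm T _ _
  have hn0_3 : 0 ≤ T.a (v 0) (v 3) := T.offDiag_nonneg _ _ (hinj 0 3 (by decide))
  have hs0_4 : T.a (v 4) (v 0) = T.a (v 0) (v 4) := Groth.Agent.H37.a_symm T _ _
  have hn0_4 : 0 ≤ T.a (v 0) (v 4) := T.offDiag_nonneg _ _ (hinj 0 4 (by decide))
  have hs0_5 : T.a (v 5) (v 0) = T.a (v 0) (v 5) := Groth.Agent.H37.a_symm T _ _
  have hn0_5 : 0 ≤ T.a (v 0) (v 5) := T.offDiag_nonneg _ _ (hinj 0 5 (by decide))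
  have hs0_6 : T.a (v 6) (v 0) = T.a (v 0) (v 6) := Groth.Agent.H37.a_symm T _ _
  have hn0_6 : 0 ≤ T.a (v 0) (v 6) := T.offDiag_nonneg _ _ (hinj 0 6 (by decide))
  have hs0_7 : T.a (v 7) (v 0) = T.a (v 0) (v 7) := Groth.Agent.H37.a_symm T _ _
  have hn0_7 : 0 ≤ T.a (v 0) (v 7) := T.offDiag_nonneg _ _ (hinj 0 7 (by decide))
  have hs1_2 : T.a (v 2) (v 1) = T.a (v 1) (v 2) := Groth.Agent.H37.a_symm T _ _
  have hn1_2 : 0 ≤ T.a (v 1) (v 2) := T.offDiag_nonneg _ _ (hinj 1 2 (by decide))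
  have hs1_3 : T.a (v 3) (v 1) = T.a (v 1) (v 3) := Groth.Agent.H37.a_symm T _ _
  have hn1_3 : 0 ≤ T.a (v 1) (v 3) := T.offDiag_nonneg _ _ (hinj 1 3 (by decide))
  have hs1_4 : T.a (v 4) (v 1) = T.a (v 1) (v 4) := Groth.Agent.H37.a_symm T _ _
  have hn1_4 : 0 ≤ T.a (v 1) (v 4) := T.offDiag_nonneg _ _ (hinj 1 4 (by decide))
  have hs1_5 : T.a (v 5) (v 1) = T.a (v 1) (v 5) := Groth.Agent.H37.a_symm T _ _
  have hn1_5 : 0 ≤ T.a (v 1) (v 5) := T.offDiag_nonneg _ _ (hinj 1 5 (by decide))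
  have hs1_6 : T.a (v 6) (v 1) = T.a (v 1) (v 6) := Groth.Agent.H37.a_symm T _ _
  have hn1_6 : 0 ≤ T.a (v 1) (v 6) := T.offDiag_nonneg _ _ (hinj 1 6 (by decide))
  have hs1_7 : T.a (v 7) (v 1) = T.a (v 1) (v 7) := Groth.Agent.H37.a_symm T _ _
  have hn1_7 : 0 ≤ T.a (v 1) (v 7) := T.offDiag_nonneg _ _ (hinj 1 7 (by decide))
  have hs2_3 : T.a (v 3) (v 2) = T.a (v 2) (v 3) := Groth.Agent.H37.a_symm T _ _
  have hn2_3 : 0 ≤ T.a (v 2) (v 3) := T.offDiag_nonneg _ _ (hinj 2 3 (by decide))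
  have hs2_4 : T.a (v 4) (v 2) = T.a (v 2) (v 4) := Groth.Agent.H37.a_symm T _ _
  have hn2_4 : 0 ≤ T.a (v 2) (v 4) := T.offDiag_nonneg _ _ (hinj 2 4 (by decide))
  have hs2_5 : T.a (v 5) (v 2) = T.a (v 2) (v 5) := Groth.Agent.H37.a_symm T _ _
  have hn2_5 : 0 ≤ T.a (v 2) (v 5) := T.offDiag_nonneg _ _ (hinj 2 5 (by decide))
  have hs2_6 : T.a (v 6) (v 2) = T.a (v 2) (v 6) := Groth.Agent.H37.a_symm T _ _
  have hn2_6 : 0 ≤ T.a (v 2) (v 6) := T.offDiag_nonneg _ _ (hinj 2 6 (by decide))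
  have hs2_7 : T.a (v 7) (v 2) = T.a (v 2) (v 7) := Groth.Agent.H37.a_symm T _ _
  have hn2_7 : 0 ≤ T.a (v 2) (v 7) := T.offDiag_nonneg _ _ (hinj 2 7 (by decide))
  have hs3_4 : T.a (v 4) (v 3) = T.a (v 3) (v 4) := Groth.Agent.H37.a_symm T _ _
  have hn3_4 : 0 ≤ T.a (v 3) (v 4) := T.offDiag_nonneg _ _ (hinj 3 4 (by decide))
  have hs3_5 : T.a (v 5) (v 3) = T.a (v 3) (v 5) := Groth.Agent.H37.a_symm T _ _
  have hn3_5 : 0 ≤ T.a (v 3) (v 5) := T.offDiag_nonneg _ _ (hinj 3 5 (by decide))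
  have hs3_6 : T.a (v 6) (v 3) = T.a (v 3) (v 6) := Groth.Agent.H37.a_symm T _ _
  have hn3_6 : 0 ≤ T.a (v 3) (v 6) := T.offDiag_nonneg _ _ (hinj 3 6 (by decide))
  have hs3_7 : T.a (v 7) (v 3) = T.a (v 3) (v 7) := Groth.Agent.H37.a_symm T _ _
  have hn3_7 : 0 ≤ T.a (v 3) (v 7) := T.offDiag_nonneg _ _ (hinj 3 7 (by decide))
  have hs4_5 : T.a (v 5) (v 4) = T.a (v 4) (v 5) := Groth.Agent.H37.a_symm T _ _
  have hn4_5 : 0 ≤ T.a (v 4) (v 5) := T.offDiag_nonneg _ _ (hinj 4 5 (by decide))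
  have hs4_6 : T.a (v 6) (v 4) = T.a (v 4) (v 6) := Groth.Agent.H37.a_symm T _ _
  have hn4_6 : 0 ≤ T.a (v 4) (v 6) := T.offDiag_nonneg _ _ (hinj 4 6 (by decide))
  have hs4_7 : T.a (v 7) (v 4) = T.a (v 4) (v 7) := Groth.Agent.H37.a_symm T _ _
  have hn4_7 : 0 ≤ T.a (v 4) (v 7) := T.offDiag_nonneg _ _ (hinj 4 7 (by decide))
  have hs5_6 : T.a (v 6) (v 5) = T.a (v 5) (v 6) := Groth.Agent.H37.a_symm T _ _
  have hn5_6 : 0 ≤ T.a (v 5) (v 6) := T.offDiag_nonneg _ _ (hinj 5 6 (by decide))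
  have hs5_7 : T.a (v 7) (v 5) = T.a (v 5) (v 7) := Groth.Agent.H37.a_symm T _ _
  have hn5_7 : 0 ≤ T.a (v 5) (v 7) := T.offDiag_nonneg _ _ (hinj 5 7 (by decide))
  have hs6_7 : T.a (v 7) (v 6) = T.a (v 6) (v 7) := Groth.Agent.H37.a_symm T _ _
  have hn6_7 : 0 ≤ T.a (v 6) (v 7) := T.offDiag_nonneg _ _ (hinj 6 7 (by decide))
  have hne0_1 : T.a (v 0) (v 1) ≠ 0 := h01
  have he0_1 := Groth.Agent.H37.w_le_offDiag T (v 0) (v 1) (hinj 0 1 (by decide)) hne0_1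
  have hne1_2 : T.a (v 1) (v 2) ≠ 0 := h12
  have he1_2 := Groth.Agent.H37.w_le_offDiag T (v 1) (v 2) (hinj 1 2 (by decide)) hne1_2
  have hne2_3 : T.a (v 2) (v 3) ≠ 0 := h23
  have he2_3 := Groth.Agent.H37.w_le_offDiag T (v 2) (v 3) (hinj 2 3 (by decide)) hne2_3
  have hne3_4 : T.a (v 3) (v 4) ≠ 0 := h34
  have he3_4 := Groth.Agent.H37.w_le_offDiag T (v 3) (v 4) (hinj 3 4 (by decide)) hne3_4
  have hne4_5 : T.a (v 4) (v 5) ≠ 0 := h45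
  have he4_5 := Groth.Agent.H37.w_le_offDiag T (v 4) (v 5) (hinj 4 5 (by decide)) hne4_5
  have hne5_6 : T.a (v 5) (v 6) ≠ 0 := h56
  have he5_6 := Groth.Agent.H37.w_le_offDiag T (v 5) (v 6) (hinj 5 6 (by decide)) hne5_6
  have hne4_7 : T.a (v 4) (v 7) ≠ 0 := h47
  have he4_7 := Groth.Agent.H37.w_le_offDiag T (v 4) (v 7) (hinj 4 7 (by decide)) hne4_7
  have hQ0 : ∀ y0 y1 y2 y3 y4 y5 y6 y7 : ℤ, (∃ p, ![y0, y1, y2, y3, y4, y5, y6, y7] p ≠ 0) → -2 * T.w (v 0) * (y0 * y0) + -2 * T.w (v 1) * (y1 * y1) + -2 * T.w (v 2) * (y2 * y2) + -2 * T.w (v 3) * (y3 * y3) + -2 * T.w (v 4) * (y4 * y4) + -2 * T.w (v 5) * (y5 * y5) + -2 * T.w (v 6) * (y6 * y6) + -2 * T.w (v 7) * (y7 * y7) + 2 * T.a (v 0) (v 1) * (y0 * y1) + 2 * T.a (v 0) (v 2) * (y0 * y2) + 2 * T.a (v 0) (v 3) * (y0 * y3) + 2 * T.a (v 0) (v 4) * (y0 * y4) + 2 * T.a (v 0) (v 5) * (y0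 * y5) + 2 * T.a (v 0) (v 6) * (y0 * y6) + 2 * T.a (v 0) (v 7) * (y0 * y7) + 2 * T.a (v 1) (v 2) * (y1 * y2) + 2 * T.a (v 1) (v 3) * (y1 * y3) + 2 * T.a (v 1) (v 4) * (y1 * y4) + 2 * T.a (v 1) (v 5) * (y1 * y5) + 2 * T.a (v 1) (v 6) * (y1 * y6) + 2 * T.a (v 1) (v 7) * (y1 * y7) + 2 * T.a (v 2) (v 3) * (y2 * y3) + 2 * T.a (v 2) (v 4) * (y2 * y4) + 2 * T.a (v 2) (v 5) * (y2 * y5) + 2 * T.a (v 2) (v 6) * (y2 * y6) + 2 * T.a (v 2) (v 7) * (y2 * y7) + 2 * T.a (v 3) (v 4) * (y3 * y4) + 2 * T.a (v 3) (v 5) * (y3 * y5) + 2 * T.a (v 3) (v 6) * (y3 * y6) + 2 * T.a (v 3) (v 7) * (y3 * y7) + 2 * T.a (v 4) (v 5) * (y4 * y5) + 2 * T.a (v 4) (v 6) * (y4 * y6) + 2 * T.a (v 4) (v 7) * (y4 * y7) + 2 * T.a (v 5) (v 6) * (y5 * y6) + 2 * T.a (v 5) (v 7) * (y5 * y7) + 2 * T.a (v 6) (v 7) * (y6 * y7) < 0 := by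
    intro y0 y1 y2 y3 y4 y5 y6 y7 hy
    have hQ := Groth.Agent.H37.qform_sub_neg T v hn ![y0, y1, y2, y3, y4, y5, y6, y7] hy
    simp [Fin.sum_univ_succ] at hQ
    simp only [hd0, hd1, hd2, hd3, hd4, hd5, hd6, hd7, hs0_1, hs0_2, hs0_3, hs0_4, hs0_5, hs0_6, hs0_7, hs1_2, hs1_3, hs1_4, hs1_5, hs1_6, hs1_7, hs2_3, hs2_4, hs2_5, hs2_6, hs2_7, hs3_4, hs3_5, hs3_6, hs3_7, hs4_5, hs4_6, hs4_7, hs5_6, hs5_7, hs6_7] at hQ
    linarith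
  have hz0_2 : T.a (v 0) (v 2) = 0 := by
    by_contra hne
    have hc := Groth.Agent.H37.w_le_offDiag T (v 0) (v 2) (hinj 0 2 (by decide)) hne
    have hQ := hQ0 1 1 1 0 0 0 0 0 ⟨0, by decide⟩
    linarith only [hQ, hc.1, hc.2, he0_1.1, he0_1.2, he1_2.1, he1_2.2]
  have hz0_3 : T.a (v 0) (v 3) = 0 := by
    by_contra hne
    have hc := Groth.Agent.H37.w_le_offDiag T (v 0) (v 3) (hinj 0 3 (by decide)) hne
    have hQ := hQ0 1 1 1 1 0 0 0 0 ⟨0, by decide⟩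
    linarith only [hQ, hc.1, hc.2, he0_1.1, he0_1.2, he1_2.1, he1_2.2, he2_3.1, he2_3.2, hn0_2, hn1_3]
  have hz0_4 : T.a (v 0) (v 4) = 0 := by
    by_contra hne
    have hc := Groth.Agent.H37.w_le_offDiag T (v 0) (v 4) (hinj 0 4 (by decide)) hne
    have hQ := hQ0 1 1 1 1 1 0 0 0 ⟨0, by decide⟩
    linarith only [hQ, hc.1, hc.2, he0_1.1, he0_1.2, he1_2.1, he1_2.2, he2_3.1, he2_3.2, he3_4.1, he3_4.2, hn0_2, hn0_3, hn1_3, hn1_4, hn2_4]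
  have hz0_5 : T.a (v 0) (v 5) = 0 := by
    by_contra hne
    have hc := Groth.Agent.H37.w_le_offDiag T (v 0) (v 5) (hinj 0 5 (by decide)) hne
    have hQ := hQ0 1 1 1 1 1 1 0 0 ⟨0, by decide⟩
    linarith only [hQ, hc.1, hc.2, he0_1.1, he0_1.2, he1_2.1, he1_2.2, he2_3.1, he2_3.2, he3_4.1, he3_4.2, he4_5.1, he4_5.2, hn0_2, hn0_3, hn0_4, hn1_3, hn1_4, hn1_5, hn2_4, hn2_5, hn3_5]
  have hz0_6 : T.a (v 0) (v 6) = 0 := by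
    by_contra hne
    have hc := Groth.Agent.H37.w_le_offDiag T (v 0) (v 6) (hinj 0 6 (by decide)) hne
    have hQ := hQ0 1 1 1 1 1 1 1 0 ⟨0, by decide⟩
    linarith only [hQ, hc.1, hc.2, he0_1.1, he0_1.2, he1_2.1, he1_2.2, he2_3.1, he2_3.2, he3_4.1, he3_4.2, he4_5.1, he4_5.2, he5_6.1, he5_6.2, hn0_2, hn0_3, hn0_4, hn0_5, hn1_3, hn1_4, hn1_5, hn1_6, hn2_4, hn2_5, hn2_6, hn3_5, hn3_6, hn4_6]
  have hz0_7 : T.a (v 0) (v 7) = 0 := by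
    by_contra hne
    have hc := Groth.Agent.H37.w_le_offDiag T (v 0) (v 7) (hinj 0 7 (by decide)) hne
    have hQ := hQ0 1 1 1 1 1 0 0 1 ⟨0, by decide⟩
    linarith only [hQ, hc.1, hc.2, he0_1.1, he0_1.2, he1_2.1, he1_2.2, he2_3.1, he2_3.2, he3_4.1, he3_4.2, he4_7.1, he4_7.2, hn0_2, hn0_3, hn0_4, hn1_3, hn1_4, hn1_7, hn2_4, hn2_7, hn3_7]
  have hz1_3 : T.a (v 1) (v 3) = 0 := by
    by_contra hne
    have hc := Groth.Agent.H37.w_le_offDiag T (v 1) (v 3) (hinj 1 3 (by decide)) hne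
    have hQ := hQ0 0 1 1 1 0 0 0 0 ⟨1, by decide⟩
    linarith only [hQ, hc.1, hc.2, he1_2.1, he1_2.2, he2_3.1, he2_3.2]
  have hz1_4 : T.a (v 1) (v 4) = 0 := by
    by_contra hne
    have hc := Groth.Agent.H37.w_le_offDiag T (v 1) (v 4) (hinj 1 4 (by decide)) hne
    have hQ := hQ0 0 1 1 1 1 0 0 0 ⟨1, by decide⟩
    linarith only [hQ, hc.1, hc.2, he1_2.1, he1_2.2, he2_3.1, he2_3.2, he3_4.1, he3_4.2, hn1_3, hn2_4]
  have hz1_5 : T.a (v 1) (v 5) = 0 := by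
    by_contra hne
    have hc := Groth.Agent.H37.w_le_offDiag T (v 1) (v 5) (hinj 1 5 (by decide)) hne
    have hQ := hQ0 0 1 1 1 1 1 0 0 ⟨1, by decide⟩
    linarith only [hQ, hc.1, hc.2, he1_2.1, he1_2.2, he2_3.1, he2_3.2, he3_4.1, he3_4.2, he4_5.1, he4_5.2, hn1_3, hn1_4, hn2_4, hn2_5, hn3_5]
  have hz1_6 : T.a (v 1) (v 6) = 0 := by
    by_contra hne
    have hc := Groth.Agent.H37.w_le_offDiag T (v 1) (v 6) (hinj 1 6 (by decide)) hne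
    have hQ := hQ0 0 1 1 1 1 1 1 0 ⟨1, by decide⟩
    linarith only [hQ, hc.1, hc.2, he1_2.1, he1_2.2, he2_3.1, he2_3.2, he3_4.1, he3_4.2, he4_5.1, he4_5.2, he5_6.1, he5_6.2, hn1_3, hn1_4, hn1_5, hn2_4, hn2_5, hn2_6, hn3_5, hn3_6, hn4_6]
  have hz1_7 : T.a (v 1) (v 7) = 0 := by
    by_contra hne
    have hc := Groth.Agent.H37.w_le_offDiag T (v 1) (v 7) (hinj 1 7 (by decide)) hne
    have hQ := hQ0 0 1 1 1 1 0 0 1 ⟨1, by decide⟩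
    linarith only [hQ, hc.1, hc.2, he1_2.1, he1_2.2, he2_3.1, he2_3.2, he3_4.1, he3_4.2, he4_7.1, he4_7.2, hn1_3, hn1_4, hn2_4, hn2_7, hn3_7]
  have hz2_4 : T.a (v 2) (v 4) = 0 := by
    by_contra hne
    have hc := Groth.Agent.H37.w_le_offDiag T (v 2) (v 4) (hinj 2 4 (by decide)) hne
    have hQ := hQ0 0 0 1 1 1 0 0 0 ⟨2, by decide⟩
    linarith only [hQ, hc.1, hc.2, he2_3.1, he2_3.2, he3_4.1, he3_4.2]
  have hz2_5 : T.a (v 2) (v 5) = 0 := by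
    by_contra hne
    have hc := Groth.Agent.H37.w_le_offDiag T (v 2) (v 5) (hinj 2 5 (by decide)) hne
    have hQ := hQ0 0 0 1 1 1 1 0 0 ⟨2, by decide⟩
    linarith only [hQ, hc.1, hc.2, he2_3.1, he2_3.2, he3_4.1, he3_4.2, he4_5.1, he4_5.2, hn2_4, hn3_5]
  have hz2_6 : T.a (v 2) (v 6) = 0 := by
    by_contra hne
    have hc := Groth.Agent.H37.w_le_offDiag T (v 2) (v 6) (hinj 2 6 (by decide)) hne
    have hQ := hQ0 0 0 1 1 1 1 1 0 ⟨2, by decide⟩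
    linarith only [hQ, hc.1, hc.2, he2_3.1, he2_3.2, he3_4.1, he3_4.2, he4_5.1, he4_5.2, he5_6.1, he5_6.2, hn2_4, hn2_5, hn3_5, hn3_6, hn4_6]
  have hz2_7 : T.a (v 2) (v 7) = 0 := by
    by_contra hne
    have hc := Groth.Agent.H37.w_le_offDiag T (v 2) (v 7) (hinj 2 7 (by decide)) hne
    have hQ := hQ0 0 0 1 1 1 0 0 1 ⟨2, by decide⟩
    linarith only [hQ, hc.1, hc.2, he2_3.1, he2_3.2, he3_4.1, he3_4.2, he4_7.1, he4_7.2, hn2_4, hn3_7]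
  have hz3_5 : T.a (v 3) (v 5) = 0 := by
    by_contra hne
    have hc := Groth.Agent.H37.w_le_offDiag T (v 3) (v 5) (hinj 3 5 (by decide)) hne
    have hQ := hQ0 0 0 0 1 1 1 0 0 ⟨3, by decide⟩
    linarith only [hQ, hc.1, hc.2, he3_4.1, he3_4.2, he4_5.1, he4_5.2]
  have hz3_6 : T.a (v 3) (v 6) = 0 := by
    by_contra hne
    have hc := Groth.Agent.H37.w_le_offDiag T (v 3) (v 6) (hinj 3 6 (by decide)) hne
    have hQ := hQ0 0 0 0 1 1 1 1 0 ⟨3, by decide⟩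
    linarith only [hQ, hc.1, hc.2, he3_4.1, he3_4.2, he4_5.1, he4_5.2, he5_6.1, he5_6.2, hn3_5, hn4_6]
  have hz3_7 : T.a (v 3) (v 7) = 0 := by
    by_contra hne
    have hc := Groth.Agent.H37.w_le_offDiag T (v 3) (v 7) (hinj 3 7 (by decide)) hne
    have hQ := hQ0 0 0 0 1 1 0 0 1 ⟨3, by decide⟩
    linarith only [hQ, hc.1, hc.2, he3_4.1, he3_4.2, he4_7.1, he4_7.2]
  have hz4_6 : T.a (v 4) (v 6) = 0 := by
    by_contra hne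
    have hc := Groth.Agent.H37.w_le_offDiag T (v 4) (v 6) (hinj 4 6 (by decide)) hne
    have hQ := hQ0 0 0 0 0 1 1 1 0 ⟨4, by decide⟩
    linarith only [hQ, hc.1, hc.2, he4_5.1, he4_5.2, he5_6.1, he5_6.2]
  have hz5_7 : T.a (v 5) (v 7) = 0 := by
    by_contra hne
    have hc := Groth.Agent.H37.w_le_offDiag T (v 5) (v 7) (hinj 5 7 (by decide)) hne
    have hQ := hQ0 0 0 0 0 1 1 0 1 ⟨4, by decide⟩
    linarith only [hQ, hc.1, hc.2, he4_5.1, he4_5.2, he4_7.1, he4_7.2]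
  have hz6_7 : T.a (v 6) (v 7) = 0 := by
    by_contra hne
    have hc := Groth.Agent.H37.w_le_offDiag T (v 6) (v 7) (hinj 6 7 (by decide)) hne
    have hQ := hQ0 0 0 0 0 1 1 1 1 ⟨4, by decide⟩
    linarith only [hQ, hc.1, hc.2, he5_6.1, he5_6.2, he4_5.1, he4_5.2, he4_7.1, he4_7.2, hn4_6, hn5_7]
  have hQ1 : ∀ y0 y1 y2 y3 y4 y5 y6 y7 : ℤ, (∃ p, ![y0, y1, y2, y3, y4, y5, y6, y7] p ≠ 0) → -2 * T.w (v 0) * (y0 * y0) + -2 * T.w (v 1) * (y1 * y1) + -2 * T.w (v 2) * (y2 * y2) + -2 * T.w (v 3) * (y3 * y3) + -2 * T.w (v 4) * (y4 * y4) + -2 * T.w (v 5) * (y5 * y5) + -2 * T.w (v 6) * (y6 * y6) + -2 * T.w (v 7) * (y7 * y7) + 2 * T.a (v 0) (v 1) * (y0 * y1) + 2 * T.a (v 1) (v 2) * (y1 * y2) + 2 * T.a (v 2) (v 3) * (y2 * y3) + 2 * T.a (v 3) (v 4) * (y3 * y4) + 2 * T.a (v 4) (v 5) * (y4 * y5) + 2 * T.a (v 5) (v 6) * (y5 * y6) + 2 * T.a (v 4)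 (v 7) * (y4 * y7) < 0 := by
    intro y0 y1 y2 y3 y4 y5 y6 y7 hy
    have hQ := hQ0 y0 y1 y2 y3 y4 y5 y6 y7 hy
    rw [hz0_2, hz0_3, hz0_4, hz0_5, hz0_6, hz0_7, hz1_3, hz1_4, hz1_5, hz1_6, hz1_7, hz2_4, hz2_5, hz2_6, hz2_7, hz3_5, hz3_6, hz3_7, hz4_6, hz5_7, hz6_7] at hQ
    linarith
  have hr0 : T.a (v 0) (v 0) * T.m (v 0) + T.a (v 0) (v 1) * T.m (v 1) + T.a (v 0) (v 2) * T.m (v 2) + T.a (v 0) (v 3) * T.m (v 3) + T.a (v 0) (v 4) * T.m (v 4) + T.a (v 0) (v 5) * T.m (v 5) + T.a (v 0) (v 6) * T.m (v 6) + T.a (v 0) (v 7) * T.m (v 7) ≤ 0 := by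
    have := Groth.Agent.H37.row_sub_le T v 0
    simp [Fin.sum_univ_succ] at this
    linarith
  rw [hd0] at hr0
  have hr1 : T.a (v 1) (v 0) * T.m (v 0) + T.a (v 1) (v 1) * T.m (v 1) + T.a (v 1) (v 2) * T.m (v 2) + T.a (v 1) (v 3) * T.m (v 3) + T.a (v 1) (v 4) * T.m (v 4) + T.a (v 1) (v 5) * T.m (v 5) + T.a (v 1) (v 6) * T.m (v 6) + T.a (v 1) (v 7) * T.m (v 7) ≤ 0 := by
    have := Groth.Agent.H37.row_sub_le T v 1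
    simp [Fin.sum_univ_succ] at this
    linarith
  rw [hd1, hs0_1] at hr1
  have hr2 : T.a (v 2) (v 0) * T.m (v 0) + T.a (v 2) (v 1) * T.m (v 1) + T.a (v 2) (v 2) * T.m (v 2) + T.a (v 2) (v 3) * T.m (v 3) + T.a (v 2) (v 4) * T.m (v 4) + T.a (v 2) (v 5) * T.m (v 5) + T.a (v 2) (v 6) * T.m (v 6) + T.a (v 2) (v 7) * T.m (v 7) ≤ 0 := by
    have := Groth.Agent.H37.row_sub_le T v 2
    simp [Fin.sum_univ_succ] at this
    linarith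
  rw [hd2, hs0_2, hs1_2] at hr2
  have hr3 : T.a (v 3) (v 0) * T.m (v 0) + T.a (v 3) (v 1) * T.m (v 1) + T.a (v 3) (v 2) * T.m (v 2) + T.a (v 3) (v 3) * T.m (v 3) + T.a (v 3) (v 4) * T.m (v 4) + T.a (v 3) (v 5) * T.m (v 5) + T.a (v 3) (v 6) * T.m (v 6) + T.a (v 3) (v 7) * T.m (v 7) ≤ 0 := by
    have := Groth.Agent.H37.row_sub_le T v 3
    simp [Fin.sum_univ_succ] at this
    linarith
  rw [hd3, hs0_3, hs1_3, hs2_3] at hr3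
  have hr4 : T.a (v 4) (v 0) * T.m (v 0) + T.a (v 4) (v 1) * T.m (v 1) + T.a (v 4) (v 2) * T.m (v 2) + T.a (v 4) (v 3) * T.m (v 3) + T.a (v 4) (v 4) * T.m (v 4) + T.a (v 4) (v 5) * T.m (v 5) + T.a (v 4) (v 6) * T.m (v 6) + T.a (v 4) (v 7) * T.m (v 7) ≤ 0 := by
    have := Groth.Agent.H37.row_sub_le T v 4
    simp [Fin.sum_univ_succ] at this
    linarith
  rw [hd4, hs0_4, hs1_4, hs2_4, hs3_4] at hr4
  have hr5 : T.a (v 5) (v 0) * T.m (v 0) + T.a (v 5) (v 1) * T.m (v 1) + T.a (v 5) (v 2) * T.m (v 2) + T.a (v 5) (v 3) * T.m (v 3) + T.a (v 5) (v 4) * T.m (v 4) + T.a (v 5) (v 5) * T.m (v 5) + T.a (v 5) (v 6) * T.m (v 6) + T.a (v 5) (v 7) * T.m (v 7) ≤ 0 := by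
    have := Groth.Agent.H37.row_sub_le T v 5
    simp [Fin.sum_univ_succ] at this
    linarith
  rw [hd5, hs0_5, hs1_5, hs2_5, hs3_5, hs4_5] at hr5
  have hr6 : T.a (v 6) (v 0) * T.m (v 0) + T.a (v 6) (v 1) * T.m (v 1) + T.a (v 6) (v 2) * T.m (v 2) + T.a (v 6) (v 3) * T.m (v 3) + T.a (v 6) (v 4) * T.m (v 4) + T.a (v 6) (v 5) * T.m (v 5) + T.a (v 6) (v 6) * T.m (v 6) + T.a (v 6) (v 7) * T.m (v 7) ≤ 0 := by
    have := Groth.Agent.H37.row_sub_le T v 6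
    simp [Fin.sum_univ_succ] at this
    linarith
  rw [hd6, hs0_6, hs1_6, hs2_6, hs3_6, hs4_6, hs5_6] at hr6
  have hr7 : T.a (v 7) (v 0) * T.m (v 0) + T.a (v 7) (v 1) * T.m (v 1) + T.a (v 7) (v 2) * T.m (v 2) + T.a (v 7) (v 3) * T.m (v 3) + T.a (v 7) (v 4) * T.m (v 4) + T.a (v 7) (v 5) * T.m (v 5) + T.a (v 7) (v 6) * T.m (v 6) + T.a (v 7) (v 7) * T.m (v 7) ≤ 0 := by
    have := Groth.Agent.H37.row_sub_le T v 7
    simp [Fin.sum_univ_succ] at this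
    linarith
  rw [hd7, hs0_7, hs1_7, hs2_7, hs3_7, hs4_7, hs5_7, hs6_7] at hr7
  simp only [hz0_2, hz0_3, hz0_4, hz0_5, hz0_6, hz0_7, hz1_3, hz1_4, hz1_5, hz1_6, hz1_7, hz2_4, hz2_5, hz2_6, hz2_7, hz3_5, hz3_6, hz3_7, hz4_6, hz5_7, hz6_7, zero_mul, add_zero, zero_add] at hr0 hr1 hr2 hr3 hr4 hr5 hr6 hr7
  rcases Groth.Agent.H37.edge_types T hn2 (v 3) (v 4) (hinj 3 4 (by decide)) (hv 3) (hv 4) hne3_4 with ⟨hw3_4, ha3_4⟩ | ⟨hw3_4, ha3_4⟩ | ⟨hw3_4, ha3_4⟩ | ⟨hw3_4, ha3_4⟩ | ⟨hw3_4, ha3_4⟩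
  · rcases Groth.Agent.H37.edge_types T hn2 (v 4) (v 5) (hinj 4 5 (by decide)) (hv 4) (hv 5) hne4_5 with ⟨hw4_5, ha4_5⟩ | ⟨hw4_5, ha4_5⟩ | ⟨hw4_5, ha4_5⟩ | ⟨hw4_5, ha4_5⟩ | ⟨hw4_5, ha4_5⟩
    · rcases Groth.Agent.H37.edge_types T hn2 (v 4) (v 7) (hinj 4 7 (by decide)) (hv 4) (hv 7) hne4_7 with ⟨hw4_7, ha4_7⟩ | ⟨hw4_7, ha4_7⟩ | ⟨hw4_7, ha4_7⟩ | ⟨hw4_7, ha4_7⟩ | ⟨hw4_7, ha4_7⟩
      · rcases Groth.Agent.H37.edge_types T hn2 (v 2) (v 3) (hinj 2 3 (by decide)) (hv 2) (hv 3) hne2_3 with ⟨hw2_3, ha2_3⟩ | ⟨hw2_3, ha2_3⟩ | ⟨hw2_3, ha2_3⟩ | ⟨hw2_3, ha2_3⟩ | ⟨hw2_3, ha2_3⟩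
        · rcases Groth.Agent.H37.edge_types T hn2 (v 1) (v 2) (hinj 1 2 (by decide)) (hv 1) (hv 2) hne1_2 with ⟨hw1_2, ha1_2⟩ | ⟨hw1_2, ha1_2⟩ | ⟨hw1_2, ha1_2⟩ | ⟨hw1_2, ha1_2⟩ | ⟨hw1_2, ha1_2⟩
          · rcases Groth.Agent.H37.edge_types T hn2 (v 0) (v 1) (hinj 0 1 (by decide)) (hv 0) (hv 1) hne0_1 with ⟨hw0_1, ha0_1⟩ | ⟨hw0_1, ha0_1⟩ | ⟨hw0_1, ha0_1⟩ | ⟨hw0_1, ha0_1⟩ | ⟨hw0_1, ha0_1⟩
            · rcases Groth.Agent.H37.edge_types T hn2 (v 5) (v 6) (hinj 5 6 (by decide)) (hv 5) (hv 6) hne5_6 with ⟨hw5_6, ha5_6⟩ | ⟨hw5_6, ha5_6⟩ | ⟨hw5_6, ha5_6⟩ | ⟨hw5_6, ha5_6⟩ | ⟨hw5_6, ha5_6⟩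
              · have eW1 : T.w (v 1) = T.w (v 0) := by omega
                have eW2 : T.w (v 2) = T.w (v 0) := by omega
                have eW3 : T.w (v 3) = T.w (v 0) := by omega
                have eW4 : T.w (v 4) = T.w (v 0) := by omega
                have eW5 : T.w (v 5) = T.w (v 0) := by omega
                have eW6 : T.w (v 6) = T.w (v 0) := by omega
                have eW7 : T.w (v 7) = T.w (v 0) := by omega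
                have eA3_4 : T.a (v 3) (v 4) = T.w (v 0) := by omega
                have eA4_5 : T.a (v 4) (v 5) = T.w (v 0) := by omega
                have eA4_7 : T.a (v 4) (v 7) = T.w (v 0) := by omega
                have eA2_3 : T.a (v 2) (v 3) = T.w (v 0) := by omega
                have eA1_2 : T.a (v 1) (v 2) = T.w (v 0) := by omega
                have eA0_1 : T.a (v 0) (v 1) = T.w (v 0) := by omega
                have eA5_6 : T.a (v 5) (v 6) = T.w (v 0) := by omega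
                simp only [eW1, eW2, eW3, eW4, eW5, eW6, eW7, eA3_4, eA4_5, eA4_7, eA2_3, eA1_2, eA0_1, eA5_6] at hr0 hr1 hr2 hr3 hr4 hr5 hr6 hr7
                refine ⟨T.w (v 0), ?_, ?_, ?_, ?_, ?_, ?_, ?_, ?_, ?_, ?_, ?_, ?_, ?_, ?_, ?_, ?_, ?_, ?_, ?_, ?_, ?_, ?_, ?_, ?_, ?_, ?_, ?_, ?_, ?_, ?_, ?_, ?_, ?_, ?_, ?_, ?_, ?_⟩
                · intro j; fin_cases j <;> simp <;> omega
                all_goals first | omega | nlinarith only [hW0, hr0, hr1, hr2, hr3, hr4, hr5, hr6, hr7]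
              · exfalso
                have hQ := hQ1 2 4 6 8 10 10 5 2 ⟨0, by decide⟩
                linarith only [hQ, hw3_4, ha3_4, hw4_5, ha4_5, hw4_7, ha4_7, hw2_3, ha2_3, hw1_2, ha1_2, hw0_1, ha0_1, hw5_6, ha5_6, hW3, hW4, hW5, hW7, hW2, hW1, hW0, hW6]
              · exfalso
                have hQ := hQ1 1 2 3 4 5 5 5 1 ⟨0, by decide⟩
                linarith only [hQ, hw3_4, ha3_4, hw4_5, ha4_5, hw4_7, ha4_7, hw2_3, ha2_3, hw1_2, ha1_2, hw0_1, ha0_1, hw5_6, ha5_6, hW3, hW4, hW5, hW7, hW2, hW1, hW0, hW6]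
              · exfalso
                have hQ := hQ1 3 6 9 12 15 18 7 0 ⟨0, by decide⟩
                linarith only [hQ, hw3_4, ha3_4, hw4_5, ha4_5, hw4_7, ha4_7, hw2_3, ha2_3, hw1_2, ha1_2, hw0_1, ha0_1, hw5_6, ha5_6, hW3, hW4, hW5, hW7, hW2, hW1, hW0, hW6]
              · exfalso
                have hQ := hQ1 1 2 3 4 5 6 7 0 ⟨0, by decide⟩
                linarith only [hQ, hw3_4, ha3_4, hw4_5, ha4_5, hw4_7, ha4_7, hw2_3, ha2_3, hw1_2, ha1_2, hw0_1, ha0_1, hw5_6, ha5_6, hW3, hW4, hW5, hW7, hW2, hW1, hW0, hW6]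
            · exfalso
              have hQ := hQ1 2 2 2 2 2 1 0 1 ⟨0, by decide⟩
              linarith only [hQ, hw3_4, ha3_4, hw4_5, ha4_5, hw4_7, ha4_7, hw2_3, ha2_3, hw1_2, ha1_2, hw0_1, ha0_1, hW3, hW4, hW5, hW7, hW2, hW1, hW0]
            · exfalso
              have hQ := hQ1 1 2 2 2 2 1 0 1 ⟨0, by decide⟩
              linarith only [hQ, hw3_4, ha3_4, hw4_5, ha4_5, hw4_7, ha4_7, hw2_3, ha2_3, hw1_2, ha1_2, hw0_1, ha0_1, hW3, hW4, hW5, hW7, hW2, hW1, hW0]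
            · exfalso
              have hQ := hQ1 3 2 1 0 0 0 0 0 ⟨0, by decide⟩
              linarith only [hQ, hw3_4, ha3_4, hw4_5, ha4_5, hw4_7, ha4_7, hw2_3, ha2_3, hw1_2, ha1_2, hw0_1, ha0_1, hW3, hW4, hW5, hW7, hW2, hW1, hW0]
            · exfalso
              have hQ := hQ1 1 2 1 0 0 0 0 0 ⟨0, by decide⟩
              linarith only [hQ, hw3_4, ha3_4, hw4_5, ha4_5, hw4_7, ha4_7, hw2_3, ha2_3, hw1_2, ha1_2, hw0_1, ha0_1, hW3, hW4, hW5, hW7, hW2, hW1, hW0]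
          · exfalso
            have hQ := hQ1 0 2 2 2 2 1 0 1 ⟨1, by decide⟩
            linarith only [hQ, hw3_4, ha3_4, hw4_5, ha4_5, hw4_7, ha4_7, hw2_3, ha2_3, hw1_2, ha1_2, hW3, hW4, hW5, hW7, hW2, hW1]
          · exfalso
            have hQ := hQ1 0 1 2 2 2 1 0 1 ⟨1, by decide⟩
            linarith only [hQ, hw3_4, ha3_4, hw4_5, ha4_5, hw4_7, ha4_7, hw2_3, ha2_3, hw1_2, ha1_2, hW3, hW4, hW5, hW7, hW2, hW1]
          · exfalso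
            have hQ := hQ1 0 3 2 1 0 0 0 0 ⟨1, by decide⟩
            linarith only [hQ, hw3_4, ha3_4, hw4_5, ha4_5, hw4_7, ha4_7, hw2_3, ha2_3, hw1_2, ha1_2, hW3, hW4, hW5, hW7, hW2, hW1]
          · exfalso
            have hQ := hQ1 0 1 2 1 0 0 0 0 ⟨1, by decide⟩
            linarith only [hQ, hw3_4, ha3_4, hw4_5, ha4_5, hw4_7, ha4_7, hw2_3, ha2_3, hw1_2, ha1_2, hW3, hW4, hW5, hW7, hW2, hW1]
        · exfalso
          have hQ := hQ1 0 0 2 2 2 1 0 1 ⟨2, by decide⟩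
          linarith only [hQ, hw3_4, ha3_4, hw4_5, ha4_5, hw4_7, ha4_7, hw2_3, ha2_3, hW3, hW4, hW5, hW7, hW2]
        · exfalso
          have hQ := hQ1 0 0 1 2 2 1 0 1 ⟨2, by decide⟩
          linarith only [hQ, hw3_4, ha3_4, hw4_5, ha4_5, hw4_7, ha4_7, hw2_3, ha2_3, hW3, hW4, hW5, hW7, hW2]
        · exfalso
          have hQ := hQ1 0 0 3 2 1 0 0 0 ⟨2, by decide⟩
          linarith only [hQ, hw3_4, ha3_4, hw4_5, ha4_5, hw4_7, ha4_7, hw2_3, ha2_3, hW3, hW4, hW5, hW7, hW2]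
        · exfalso
          have hQ := hQ1 0 0 1 2 1 0 0 0 ⟨2, by decide⟩
          linarith only [hQ, hw3_4, ha3_4, hw4_5, ha4_5, hw4_7, ha4_7, hw2_3, ha2_3, hW3, hW4, hW5, hW7, hW2]
      · exfalso
        have hQ := hQ1 0 0 0 1 2 1 0 1 ⟨3, by decide⟩
        linarith only [hQ, hw3_4, ha3_4, hw4_5, ha4_5, hw4_7, ha4_7, hW3, hW4, hW5, hW7]
      · exfalso
        have hQ := hQ1 0 0 0 1 2 1 0 2 ⟨3, by decide⟩
        linarith only [hQ, hw3_4, ha3_4, hw4_5, ha4_5, hw4_7, ha4_7, hW3, hW4, hW5, hW7]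
      · exfalso
        have hQ := hQ1 0 0 0 0 2 1 0 1 ⟨4, by decide⟩
        linarith only [hQ, hw3_4, ha3_4, hw4_5, ha4_5, hw4_7, ha4_7, hW3, hW4, hW5, hW7]
      · exfalso
        have hQ := hQ1 0 0 0 0 2 1 0 3 ⟨4, by decide⟩
        linarith only [hQ, hw3_4, ha3_4, hw4_5, ha4_5, hw4_7, ha4_7, hW3, hW4, hW5, hW7]
    · rcases Groth.Agent.H37.edge_types T hn2 (v 4) (v 7) (hinj 4 7 (by decide)) (hv 4) (hv 7) hne4_7 with ⟨hw4_7, ha4_7⟩ | ⟨hw4_7, ha4_7⟩ | ⟨hw4_7, ha4_7⟩ | ⟨hw4_7, ha4_7⟩ | ⟨hw4_7, ha4_7⟩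
      · exfalso
        have hQ := hQ1 0 0 0 1 2 1 0 1 ⟨3, by decide⟩
        linarith only [hQ, hw3_4, ha3_4, hw4_5, ha4_5, hw4_7, ha4_7, hW3, hW4, hW5, hW7]
      · exfalso
        have hQ := hQ1 0 0 0 0 2 1 0 1 ⟨4, by decide⟩
        linarith only [hQ, hw3_4, ha3_4, hw4_5, ha4_5, hw4_7, ha4_7, hW3, hW4, hW5, hW7]
      · exfalso
        have hQ := hQ1 0 0 0 0 2 1 0 2 ⟨4, by decide⟩
        linarith only [hQ, hw3_4, ha3_4, hw4_5, ha4_5, hw4_7, ha4_7, hW3, hW4, hW5, hW7]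
      · exfalso
        have hQ := hQ1 0 0 0 0 2 1 0 1 ⟨4, by decide⟩
        linarith only [hQ, hw3_4, ha3_4, hw4_5, ha4_5, hw4_7, ha4_7, hW3, hW4, hW5, hW7]
      · exfalso
        have hQ := hQ1 0 0 0 0 2 1 0 2 ⟨4, by decide⟩
        linarith only [hQ, hw3_4, ha3_4, hw4_5, ha4_5, hw4_7, ha4_7, hW3, hW4, hW5, hW7]
    · rcases Groth.Agent.H37.edge_types T hn2 (v 4) (v 7) (hinj 4 7 (by decide)) (hv 4) (hv 7) hne4_7 with ⟨hw4_7, ha4_7⟩ | ⟨hw4_7, ha4_7⟩ | ⟨hw4_7, ha4_7⟩ | ⟨hw4_7, ha4_7⟩ | ⟨hw4_7, ha4_7⟩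
      · exfalso
        have hQ := hQ1 0 0 0 1 2 2 0 1 ⟨3, by decide⟩
        linarith only [hQ, hw3_4, ha3_4, hw4_5, ha4_5, hw4_7, ha4_7, hW3, hW4, hW5, hW7]
      · exfalso
        have hQ := hQ1 0 0 0 0 2 2 0 1 ⟨4, by decide⟩
        linarith only [hQ, hw3_4, ha3_4, hw4_5, ha4_5, hw4_7, ha4_7, hW3, hW4, hW5, hW7]
      · exfalso
        have hQ := hQ1 0 0 0 0 1 1 0 1 ⟨4, by decide⟩
        linarith only [hQ, hw3_4, ha3_4, hw4_5, ha4_5, hw4_7, ha4_7, hW3, hW4, hW5, hW7]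
      · exfalso
        have hQ := hQ1 0 0 0 0 2 1 0 1 ⟨4, by decide⟩
        linarith only [hQ, hw3_4, ha3_4, hw4_5, ha4_5, hw4_7, ha4_7, hW3, hW4, hW5, hW7]
      · exfalso
        have hQ := hQ1 0 0 0 0 1 1 0 1 ⟨4, by decide⟩
        linarith only [hQ, hw3_4, ha3_4, hw4_5, ha4_5, hw4_7, ha4_7, hW3, hW4, hW5, hW7]
    · exfalso
      have hQ := hQ1 0 0 0 1 2 1 0 0 ⟨3, by decide⟩
      linarith only [hQ, hw3_4, ha3_4, hw4_5, ha4_5, hW3, hW4, hW5]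
    · exfalso
      have hQ := hQ1 0 0 0 1 2 3 0 0 ⟨3, by decide⟩
      linarith only [hQ, hw3_4, ha3_4, hw4_5, ha4_5, hW3, hW4, hW5]
  · rcases Groth.Agent.H37.edge_types T hn2 (v 4) (v 5) (hinj 4 5 (by decide)) (hv 4) (hv 5) hne4_5 with ⟨hw4_5, ha4_5⟩ | ⟨hw4_5, ha4_5⟩ | ⟨hw4_5, ha4_5⟩ | ⟨hw4_5, ha4_5⟩ | ⟨hw4_5, ha4_5⟩
    · rcases Groth.Agent.H37.edge_types T hn2 (v 4) (v 7) (hinj 4 7 (by decide)) (hv 4) (hv 7) hne4_7 with ⟨hw4_7, ha4_7⟩ | ⟨hw4_7, ha4_7⟩ | ⟨hw4_7, ha4_7⟩ | ⟨hw4_7, ha4_7⟩ | ⟨hw4_7, ha4_7⟩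
      · exfalso
        have hQ := hQ1 0 0 0 2 2 1 0 1 ⟨3, by decide⟩
        linarith only [hQ, hw3_4, ha3_4, hw4_5, ha4_5, hw4_7, ha4_7, hW3, hW4, hW5, hW7]
      · exfalso
        have hQ := hQ1 0 0 0 1 2 1 0 1 ⟨3, by decide⟩
        linarith only [hQ, hw3_4, ha3_4, hw4_5, ha4_5, hw4_7, ha4_7, hW3, hW4, hW5, hW7]
      · exfalso
        have hQ := hQ1 0 0 0 1 1 0 0 1 ⟨3, by decide⟩
        linarith only [hQ, hw3_4, ha3_4, hw4_5, ha4_5, hw4_7, ha4_7, hW3, hW4, hW5, hW7]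
      · exfalso
        have hQ := hQ1 0 0 0 0 2 1 0 1 ⟨4, by decide⟩
        linarith only [hQ, hw3_4, ha3_4, hw4_5, ha4_5, hw4_7, ha4_7, hW3, hW4, hW5, hW7]
      · exfalso
        have hQ := hQ1 0 0 0 1 1 0 0 1 ⟨3, by decide⟩
        linarith only [hQ, hw3_4, ha3_4, hw4_5, ha4_5, hw4_7, ha4_7, hW3, hW4, hW5, hW7]
    · exfalso
      have hQ := hQ1 0 0 0 2 2 1 0 0 ⟨3, by decide⟩
      linarith only [hQ, hw3_4, ha3_4, hw4_5, ha4_5, hW3, hW4, hW5]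
    · exfalso
      have hQ := hQ1 0 0 0 1 1 1 0 0 ⟨3, by decide⟩
      linarith only [hQ, hw3_4, ha3_4, hw4_5, ha4_5, hW3, hW4, hW5]
    · exfalso
      have hQ := hQ1 0 0 0 1 2 1 0 0 ⟨3, by decide⟩
      linarith only [hQ, hw3_4, ha3_4, hw4_5, ha4_5, hW3, hW4, hW5]
    · exfalso
      have hQ := hQ1 0 0 0 1 1 1 0 0 ⟨3, by decide⟩
      linarith only [hQ, hw3_4, ha3_4, hw4_5, ha4_5, hW3, hW4, hW5]
  · rcases Groth.Agent.H37.edge_types T hn2 (v 4) (v 5) (hinj 4 5 (by decide)) (hv 4) (hv 5) hne4_5 with ⟨hw4_5, ha4_5⟩ | ⟨hw4_5, ha4_5⟩ | ⟨hw4_5, ha4_5⟩ | ⟨hw4_5, ha4_5⟩ | ⟨hw4_5, ha4_5⟩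
    · rcases Groth.Agent.H37.edge_types T hn2 (v 4) (v 7) (hinj 4 7 (by decide)) (hv 4) (hv 7) hne4_7 with ⟨hw4_7, ha4_7⟩ | ⟨hw4_7, ha4_7⟩ | ⟨hw4_7, ha4_7⟩ | ⟨hw4_7, ha4_7⟩ | ⟨hw4_7, ha4_7⟩
      · exfalso
        have hQ := hQ1 0 0 0 1 2 1 0 1 ⟨3, by decide⟩
        linarith only [hQ, hw3_4, ha3_4, hw4_5, ha4_5, hw4_7, ha4_7, hW3, hW4, hW5, hW7]
      · exfalso
        have hQ := hQ1 0 0 0 1 2 0 0 1 ⟨3, by decide⟩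
        linarith only [hQ, hw3_4, ha3_4, hw4_5, ha4_5, hw4_7, ha4_7, hW3, hW4, hW5, hW7]
      · exfalso
        have hQ := hQ1 0 0 0 1 2 0 0 2 ⟨3, by decide⟩
        linarith only [hQ, hw3_4, ha3_4, hw4_5, ha4_5, hw4_7, ha4_7, hW3, hW4, hW5, hW7]
      · exfalso
        have hQ := hQ1 0 0 0 0 2 1 0 1 ⟨4, by decide⟩
        linarith only [hQ, hw3_4, ha3_4, hw4_5, ha4_5, hw4_7, ha4_7, hW3, hW4, hW5, hW7]
      · exfalso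
        have hQ := hQ1 0 0 0 1 2 0 0 2 ⟨3, by decide⟩
        linarith only [hQ, hw3_4, ha3_4, hw4_5, ha4_5, hw4_7, ha4_7, hW3, hW4, hW5, hW7]
    · exfalso
      have hQ := hQ1 0 0 0 1 2 1 0 0 ⟨3, by decide⟩
      linarith only [hQ, hw3_4, ha3_4, hw4_5, ha4_5, hW3, hW4, hW5]
    · exfalso
      have hQ := hQ1 0 0 0 1 2 2 0 0 ⟨3, by decide⟩
      linarith only [hQ, hw3_4, ha3_4, hw4_5, ha4_5, hW3, hW4, hW5]
    · exfalso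
      have hQ := hQ1 0 0 0 1 2 1 0 0 ⟨3, by decide⟩
      linarith only [hQ, hw3_4, ha3_4, hw4_5, ha4_5, hW3, hW4, hW5]
    · exfalso
      have hQ := hQ1 0 0 0 1 2 2 0 0 ⟨3, by decide⟩
      linarith only [hQ, hw3_4, ha3_4, hw4_5, ha4_5, hW3, hW4, hW5]
  · rcases Groth.Agent.H37.edge_types T hn2 (v 4) (v 5) (hinj 4 5 (by decide)) (hv 4) (hv 5) hne4_5 with ⟨hw4_5, ha4_5⟩ | ⟨hw4_5, ha4_5⟩ | ⟨hw4_5, ha4_5⟩ | ⟨hw4_5, ha4_5⟩ | ⟨hw4_5, ha4_5⟩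
    · exfalso
      have hQ := hQ1 0 0 0 3 2 1 0 0 ⟨3, by decide⟩
      linarith only [hQ, hw3_4, ha3_4, hw4_5, ha4_5, hW3, hW4, hW5]
    · exfalso
      have hQ := hQ1 0 0 0 2 2 1 0 0 ⟨3, by decide⟩
      linarith only [hQ, hw3_4, ha3_4, hw4_5, ha4_5, hW3, hW4, hW5]
    · exfalso
      have hQ := hQ1 0 0 0 1 1 1 0 0 ⟨3, by decide⟩
      linarith only [hQ, hw3_4, ha3_4, hw4_5, ha4_5, hW3, hW4, hW5]
    · exfalso
      have hQ := hQ1 0 0 0 1 2 1 0 0 ⟨3, by decide⟩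
      linarith only [hQ, hw3_4, ha3_4, hw4_5, ha4_5, hW3, hW4, hW5]
    · exfalso
      have hQ := hQ1 0 0 0 1 1 1 0 0 ⟨3, by decide⟩
      linarith only [hQ, hw3_4, ha3_4, hw4_5, ha4_5, hW3, hW4, hW5]
  · rcases Groth.Agent.H37.edge_types T hn2 (v 4) (v 5) (hinj 4 5 (by decide)) (hv 4) (hv 5) hne4_5 with ⟨hw4_5, ha4_5⟩ | ⟨hw4_5, ha4_5⟩ | ⟨hw4_5, ha4_5⟩ | ⟨hw4_5, ha4_5⟩ | ⟨hw4_5, ha4_5⟩
    · exfalso
      have hQ := hQ1 0 0 0 1 2 1 0 0 ⟨3, by decide⟩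
      linarith only [hQ, hw3_4, ha3_4, hw4_5, ha4_5, hW3, hW4, hW5]
    · exfalso
      have hQ := hQ1 0 0 0 1 2 1 0 0 ⟨3, by decide⟩
      linarith only [hQ, hw3_4, ha3_4, hw4_5, ha4_5, hW3, hW4, hW5]
    · exfalso
      have hQ := hQ1 0 0 0 1 2 1 0 0 ⟨3, by decide⟩
      linarith only [hQ, hw3_4, ha3_4, hw4_5, ha4_5, hW3, hW4, hW5]
    · exfalso
      have hQ := hQ1 0 0 0 1 2 1 0 0 ⟨3, by decide⟩
      linarith only [hQ, hw3_4, ha3_4, hw4_5, ha4_5, hW3, hW4, hW5]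
    · exfalso
      have hQ := hQ1 0 0 0 1 2 1 0 0 ⟨3, by decide⟩
      linarith only [hQ, hw3_4, ha3_4, hw4_5, ha4_5, hW3, hW4, hW5]

end Groth.Agent.S7350
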