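import Groth.Statements.S7352
import Groth.Agent.H37.NumType2

set_option autoImplicit false
open Finset
open Models Models.NumericalType

namespace Groth.Agent.S7352

/-- Classification of proper subgraphs which are chains of four vertices: let T be a numerical type on n
> 4 indices and i_1, …, i_4 distinct (-2)-indices with a_{i_j i_{j+1}} nonzero for j < 4. Then
a_{i_j i_l} = 0 for |j - l| ≥ 2 and, after possibly reversing the order of the indices, for some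
integer w one of the following holds: (A4) w = (w, w, w, w), consecutive a = (w, w, w), with 2m_1 ≥
m_2, 2m_2 ≥ m_1 + m_3, 2m_3 ≥ m_2 + m_4, 2m_4 ≥ m_3; (C4) w = (w, w, w, 2w), consecutive a = (w, w,
2w), with 2m_1 ≥ m_2, 2m_2 ≥ m_1 + m_3, 2m_3 ≥ m_2 + 2m_4, 2m_4 ≥ m_3; (B4) w = (2w, 2w, 2w, w),
consecutive a = (2w, 2w, 2w), with 2m_1 ≥ m_2, 2m_2 ≥ m_1 + m_3, 2m_3 ≥ m_2 + m_4, m_4 ≥ m_3; (F4) w
= (w, w, 2w, 2w), consecutive a = (w, 2w, 2w), with 2m_1 ≥ m_2, 2m_2 ≥ m_1 + 2m_3, 2m_3 ≥ m_2 + m_4,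
2m_4 ≥ m_3. -/
theorem result {n : ℕ} (T : Models.NumericalType n) (hn : 4 < n)
    (v : Fin 4 ↪ Fin n) (hv : ∀ j, T.IsMinusTwo (v j)) (h01 : T.a (v 0) (v 1) ≠ 0) (h12 : T.a (v 1) (v 2) ≠ 0) (h23 : T.a (v 2) (v 3) ≠ 0) :
    (T.a (v 0) (v 2) = 0 ∧ T.a (v 0) (v 3) = 0 ∧ T.a (v 1) (v 3) = 0) ∧
    ∃ (u : Fin 4 → Fin n) (w : ℤ), ((∀ j, u j = v j) ∨ (∀ j, u j = v (Fin.rev j))) ∧
      ((T.w (u 0) = w ∧ T.w (u 1) = w ∧ T.w (u 2) = w ∧ T.w (u 3) = w ∧ T.a (u 0) (u 1) = w ∧ T.a (u 1) (u 2) = w ∧ T.a (u 2) (u 3) = w ∧ T.m (u 1) ≤ 2 * T.m (u 0) ∧ T.m (u 0) + T.m (u 2) ≤ 2 * T.m (u 1) ∧ T.m (u 1) + T.m (u 3) ≤ 2 * T.m (u 2) ∧ T.m (u 2) ≤ 2 * T.m (u 3)) ∨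
      (T.w (u 0) = w ∧ T.w (u 1) = w ∧ T.w (u 2) = w ∧ T.w (u 3) = 2 * w ∧ T.a (u 0) (u 1) = w ∧ T.a (u 1) (u 2) = w ∧ T.a (u 2) (u 3) = 2 * w ∧ T.m (u 1) ≤ 2 * T.m (u 0) ∧ T.m (u 0) + T.m (u 2) ≤ 2 * T.m (u 1) ∧ T.m (u 1) + 2 * T.m (u 3) ≤ 2 * T.m (u 2) ∧ T.m (u 2) ≤ 2 * T.m (u 3)) ∨
      (T.w (u 0) = 2 * w ∧ T.w (u 1) = 2 * w ∧ T.w (u 2) = 2 * w ∧ T.w (u 3) = w ∧ T.a (u 0) (u 1) = 2 * w ∧ T.a (u 1) (u 2) = 2 * w ∧ T.a (u 2) (u 3) = 2 * w ∧ T.m (u 1) ≤ 2 * T.m (u 0) ∧ T.m (u 0) + T.m (u 2) ≤ 2 * T.m (u 1) ∧ T.m (u 1) + T.m (u 3) ≤ 2 * T.m (u 2) ∧ T.m (u 2) ≤ T.m (u 3)) ∨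
      (T.w (u 0) = w ∧ T.w (u 1) = w ∧ T.w (u 2) = 2 * w ∧ T.w (u 3) = 2 * w ∧ T.a (u 0) (u 1) = w ∧ T.a (u 1) (u 2) = 2 * w ∧ T.a (u 2) (u 3) = 2 * w ∧ T.m (u 1) ≤ 2 * T.m (u 0) ∧ T.m (u 0) + 2 * T.m (u 2) ≤ 2 * T.m (u 1) ∧ T.m (u 1) + T.m (u 3) ≤ 2 * T.m (u 2) ∧ T.m (u 2) ≤ 2 * T.m (u 3))) := by
  have hinj : ∀ p q : Fin 4, p ≠ q → v p ≠ v q := fun p q h hv => h (v.injective hv)
  have hn2 : 2 < n := by omega
  have hd0 : T.a (v 0) (v 0) = -2 * T.w (v 0) := (hv 0).2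
  have hW0 := T.w_pos (v 0)
  have hd1 : T.a (v 1) (v 1) = -2 * T.w (v 1) := (hv 1).2
  have hW1 := T.w_pos (v 1)
  have hd2 : T.a (v 2) (v 2) = -2 * T.w (v 2) := (hv 2).2
  have hW2 := T.w_pos (v 2)
  have hd3 : T.a (v 3) (v 3) = -2 * T.w (v 3) := (hv 3).2
  have hW3 := T.w_pos (v 3)
  have hs0_1 : T.a (v 1) (v 0) = T.a (v 0) (v 1) := Groth.Agent.H37.a_symm T _ _
  have hn0_1 : 0 ≤ T.a (v 0) (v 1) := T.offDiag_nonneg _ _ (hinj 0 1 (by decide))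
  have hs0_2 : T.a (v 2) (v 0) = T.a (v 0) (v 2) := Groth.Agent.H37.a_symm T _ _
  have hn0_2 : 0 ≤ T.a (v 0) (v 2) := T.offDiag_nonneg _ _ (hinj 0 2 (by decide))
  have hs0_3 : T.a (v 3) (v 0) = T.a (v 0) (v 3) := Groth.Agent.H37.a_symm T _ _
  have hn0_3 : 0 ≤ T.a (v 0) (v 3) := T.offDiag_nonneg _ _ (hinj 0 3 (by decide))
  have hs1_2 : T.a (v 2) (v 1) = T.a (v 1) (v 2) := Groth.Agent.H37.a_symm T _ _
  have hn1_2 : 0 ≤ T.a (v 1) (v 2) := T.offDiag_nonneg _ _ (hinj 1 2 (by decide))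
  have hs1_3 : T.a (v 3) (v 1) = T.a (v 1) (v 3) := Groth.Agent.H37.a_symm T _ _
  have hn1_3 : 0 ≤ T.a (v 1) (v 3) := T.offDiag_nonneg _ _ (hinj 1 3 (by decide))
  have hs2_3 : T.a (v 3) (v 2) = T.a (v 2) (v 3) := Groth.Agent.H37.a_symm T _ _
  have hn2_3 : 0 ≤ T.a (v 2) (v 3) := T.offDiag_nonneg _ _ (hinj 2 3 (by decide))
  have hne0_1 : T.a (v 0) (v 1) ≠ 0 := h01
  have he0_1 := Groth.Agent.H37.w_le_offDiag T (v 0) (v 1) (hinj 0 1 (by decide)) hne0_1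
  have hne1_2 : T.a (v 1) (v 2) ≠ 0 := h12
  have he1_2 := Groth.Agent.H37.w_le_offDiag T (v 1) (v 2) (hinj 1 2 (by decide)) hne1_2
  have hne2_3 : T.a (v 2) (v 3) ≠ 0 := h23
  have he2_3 := Groth.Agent.H37.w_le_offDiag T (v 2) (v 3) (hinj 2 3 (by decide)) hne2_3
  have hQ0 : ∀ y0 y1 y2 y3 : ℤ, (∃ p, ![y0, y1, y2, y3] p ≠ 0) → -2 * T.w (v 0) * (y0 * y0) + -2 * T.w (v 1) * (y1 * y1) + -2 * T.w (v 2) * (y2 * y2) + -2 * T.w (v 3) * (y3 * y3) + 2 * T.a (v 0) (v 1) * (y0 * y1) + 2 * T.a (v 0) (v 2) * (y0 * y2) + 2 * T.a (v 0) (v 3) * (y0 * y3) + 2 * T.a (v 1) (v 2) * (y1 * y2) + 2 * T.a (v 1) (v 3) * (y1 * y3) + 2 * T.a (v 2) (v 3) * (y2 * y3) < 0 := by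
    intro y0 y1 y2 y3 hy
    have hQ := Groth.Agent.H37.qform_sub_neg T v hn ![y0, y1, y2, y3] hy
    simp [Fin.sum_univ_succ] at hQ
    simp only [hd0, hd1, hd2, hd3, hs0_1, hs0_2, hs0_3, hs1_2, hs1_3, hs2_3] at hQ
    linarith
  have hz0_2 : T.a (v 0) (v 2) = 0 := by
    by_contra hne
    have hc := Groth.Agent.H37.w_le_offDiag T (v 0) (v 2) (hinj 0 2 (by decide)) hne
    have hQ := hQ0 1 1 1 0 ⟨0, by decide⟩
    linarith only [hQ, hc.1, hc.2, he0_1.1, he0_1.2, he1_2.1, he1_2.2]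
  have hz0_3 : T.a (v 0) (v 3) = 0 := by
    by_contra hne
    have hc := Groth.Agent.H37.w_le_offDiag T (v 0) (v 3) (hinj 0 3 (by decide)) hne
    have hQ := hQ0 1 1 1 1 ⟨0, by decide⟩
    linarith only [hQ, hc.1, hc.2, he0_1.1, he0_1.2, he1_2.1, he1_2.2, he2_3.1, he2_3.2, hn0_2, hn1_3]
  have hz1_3 : T.a (v 1) (v 3) = 0 := by
    by_contra hne
    have hc := Groth.Agent.H37.w_le_offDiag T (v 1) (v 3) (hinj 1 3 (by decide)) hne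
    have hQ := hQ0 0 1 1 1 ⟨1, by decide⟩
    linarith only [hQ, hc.1, hc.2, he1_2.1, he1_2.2, he2_3.1, he2_3.2]
  have hQ1 : ∀ y0 y1 y2 y3 : ℤ, (∃ p, ![y0, y1, y2, y3] p ≠ 0) → -2 * T.w (v 0) * (y0 * y0) + -2 * T.w (v 1) * (y1 * y1) + -2 * T.w (v 2) * (y2 * y2) + -2 * T.w (v 3) * (y3 * y3) + 2 * T.a (v 0) (v 1) * (y0 * y1) + 2 * T.a (v 1) (v 2) * (y1 * y2) + 2 * T.a (v 2) (v 3) * (y2 * y3) < 0 := by
    intro y0 y1 y2 y3 hy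
    have hQ := hQ0 y0 y1 y2 y3 hy
    rw [hz0_2, hz0_3, hz1_3] at hQ
    linarith
  have hr0 : T.a (v 0) (v 0) * T.m (v 0) + T.a (v 0) (v 1) * T.m (v 1) + T.a (v 0) (v 2) * T.m (v 2) + T.a (v 0) (v 3) * T.m (v 3) ≤ 0 := by
    have := Groth.Agent.H37.row_sub_le T v 0
    simp [Fin.sum_univ_succ] at this
    linarith
  rw [hd0] at hr0
  have hr1 : T.a (v 1) (v 0) * T.m (v 0) + T.a (v 1) (v 1) * T.m (v 1) + T.a (v 1) (v 2) * T.m (v 2) + T.a (v 1) (v 3) * T.m (v 3) ≤ 0 := by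
    have := Groth.Agent.H37.row_sub_le T v 1
    simp [Fin.sum_univ_succ] at this
    linarith
  rw [hd1, hs0_1] at hr1
  have hr2 : T.a (v 2) (v 0) * T.m (v 0) + T.a (v 2) (v 1) * T.m (v 1) + T.a (v 2) (v 2) * T.m (v 2) + T.a (v 2) (v 3) * T.m (v 3) ≤ 0 := by
    have := Groth.Agent.H37.row_sub_le T v 2
    simp [Fin.sum_univ_succ] at this
    linarith
  rw [hd2, hs0_2, hs1_2] at hr2
  have hr3 : T.a (v 3) (v 0) * T.m (v 0) + T.a (v 3) (v 1) * T.m (v 1) + T.a (v 3) (v 2) * T.m (v 2) + T.a (v 3) (v 3) * T.m (v 3) ≤ 0 := by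
    have := Groth.Agent.H37.row_sub_le T v 3
    simp [Fin.sum_univ_succ] at this
    linarith
  rw [hd3, hs0_3, hs1_3, hs2_3] at hr3
  simp only [hz0_2, hz0_3, hz1_3, zero_mul, add_zero, zero_add] at hr0 hr1 hr2 hr3
  refine ⟨⟨hz0_2, hz0_3, hz1_3⟩, ?_⟩
  rcases Groth.Agent.H37.edge_types T hn2 (v 0) (v 1) (hinj 0 1 (by decide)) (hv 0) (hv 1) hne0_1 with ⟨hw0_1, ha0_1⟩ | ⟨hw0_1, ha0_1⟩ | ⟨hw0_1, ha0_1⟩ | ⟨hw0_1, ha0_1⟩ | ⟨hw0_1, ha0_1⟩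
  · rcases Groth.Agent.H37.edge_types T hn2 (v 1) (v 2) (hinj 1 2 (by decide)) (hv 1) (hv 2) hne1_2 with ⟨hw1_2, ha1_2⟩ | ⟨hw1_2, ha1_2⟩ | ⟨hw1_2, ha1_2⟩ | ⟨hw1_2, ha1_2⟩ | ⟨hw1_2, ha1_2⟩
    · rcases Groth.Agent.H37.edge_types T hn2 (v 2) (v 3) (hinj 2 3 (by decide)) (hv 2) (hv 3) hne2_3 with ⟨hw2_3, ha2_3⟩ | ⟨hw2_3, ha2_3⟩ | ⟨hw2_3, ha2_3⟩ | ⟨hw2_3, ha2_3⟩ | ⟨hw2_3, ha2_3⟩
      · have eW1 : T.w (v 1) = T.w (v 0) := by omega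
        have eW2 : T.w (v 2) = T.w (v 0) := by omega
        have eW3 : T.w (v 3) = T.w (v 0) := by omega
        have eA0_1 : T.a (v 0) (v 1) = T.w (v 0) := by omega
        have eA1_2 : T.a (v 1) (v 2) = T.w (v 0) := by omega
        have eA2_3 : T.a (v 2) (v 3) = T.w (v 0) := by omega
        simp only [eW1, eW2, eW3, eA0_1, eA1_2, eA2_3] at hr0 hr1 hr2 hr3
        refine ⟨(fun j => v j), T.w (v 0), Or.inl (fun j => rfl), ?_⟩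
        refine Or.inl ⟨?_, ?_, ?_, ?_, ?_, ?_, ?_, ?_, ?_, ?_, ?_⟩
        all_goals ((try simp only [show Fin.rev (0 : Fin 4) = 3 from rfl, show Fin.rev (1 : Fin 4) = 2 from rfl, show Fin.rev (2 : Fin 4) = 1 from rfl, show Fin.rev (3 : Fin 4) = 0 from rfl]) <;> first | omega | nlinarith only [hW0, hr0, hr1, hr2, hr3])
      · have eW1 : T.w (v 1) = T.w (v 0) := by omega
        have eW2 : T.w (v 2) = T.w (v 0) := by omega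
        have eW3 : T.w (v 3) = 2 * T.w (v 0) := by omega
        have eA0_1 : T.a (v 0) (v 1) = T.w (v 0) := by omega
        have eA1_2 : T.a (v 1) (v 2) = T.w (v 0) := by omega
        have eA2_3 : T.a (v 2) (v 3) = 2 * T.w (v 0) := by omega
        simp only [eW1, eW2, eW3, eA0_1, eA1_2, eA2_3] at hr0 hr1 hr2 hr3
        refine ⟨(fun j => v j), T.w (v 0), Or.inl (fun j => rfl), ?_⟩
        refine Or.inr (Or.inl ⟨?_, ?_, ?_, ?_, ?_, ?_, ?_, ?_, ?_, ?_, ?_⟩)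
        all_goals ((try simp only [show Fin.rev (0 : Fin 4) = 3 from rfl, show Fin.rev (1 : Fin 4) = 2 from rfl, show Fin.rev (2 : Fin 4) = 1 from rfl, show Fin.rev (3 : Fin 4) = 0 from rfl]) <;> first | omega | nlinarith only [hW0, hr0, hr1, hr2, hr3])
      · have eW0 : T.w (v 0) = 2 * T.w (v 3) := by omega
        have eW1 : T.w (v 1) = 2 * T.w (v 3) := by omega
        have eW2 : T.w (v 2) = 2 * T.w (v 3) := by omega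
        have eA0_1 : T.a (v 0) (v 1) = 2 * T.w (v 3) := by omega
        have eA1_2 : T.a (v 1) (v 2) = 2 * T.w (v 3) := by omega
        have eA2_3 : T.a (v 2) (v 3) = 2 * T.w (v 3) := by omega
        simp only [eW0, eW1, eW2, eA0_1, eA1_2, eA2_3] at hr0 hr1 hr2 hr3
        refine ⟨(fun j => v j), T.w (v 3), Or.inl (fun j => rfl), ?_⟩
        refine Or.inr (Or.inr (Or.inl ⟨?_, ?_, ?_, ?_, ?_, ?_, ?_, ?_, ?_, ?_, ?_⟩))
        all_goals ((try simp only [show Fin.rev (0 : Fin 4) = 3 from rfl, show Fin.rev (1 : Fin 4) = 2 from rfl, show Fin.rev (2 : Fin 4) = 1 from rfl, show Fin.rev (3 : Fin 4) = 0 from rfl]) <;> first | omega | nlinarith only [hW3, hr0, hr1, hr2, hr3])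
      · exfalso
        have hQ := hQ1 0 1 2 1 ⟨1, by decide⟩
        linarith only [hQ, hw0_1, ha0_1, hw1_2, ha1_2, hw2_3, ha2_3, hW0, hW1, hW2, hW3]
      · exfalso
        have hQ := hQ1 0 1 2 3 ⟨1, by decide⟩
        linarith only [hQ, hw0_1, ha0_1, hw1_2, ha1_2, hw2_3, ha2_3, hW0, hW1, hW2, hW3]
    · rcases Groth.Agent.H37.edge_types T hn2 (v 2) (v 3) (hinj 2 3 (by decide)) (hv 2) (hv 3) hne2_3 with ⟨hw2_3, ha2_3⟩ | ⟨hw2_3, ha2_3⟩ | ⟨hw2_3, ha2_3⟩ | ⟨hw2_3, ha2_3⟩ | ⟨hw2_3, ha2_3⟩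
      · have eW1 : T.w (v 1) = T.w (v 0) := by omega
        have eW2 : T.w (v 2) = 2 * T.w (v 0) := by omega
        have eW3 : T.w (v 3) = 2 * T.w (v 0) := by omega
        have eA0_1 : T.a (v 0) (v 1) = T.w (v 0) := by omega
        have eA1_2 : T.a (v 1) (v 2) = 2 * T.w (v 0) := by omega
        have eA2_3 : T.a (v 2) (v 3) = 2 * T.w (v 0) := by omega
        simp only [eW1, eW2, eW3, eA0_1, eA1_2, eA2_3] at hr0 hr1 hr2 hr3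
        refine ⟨(fun j => v j), T.w (v 0), Or.inl (fun j => rfl), ?_⟩
        refine Or.inr (Or.inr (Or.inr (⟨?_, ?_, ?_, ?_, ?_, ?_, ?_, ?_, ?_, ?_, ?_⟩)))
        all_goals ((try simp only [show Fin.rev (0 : Fin 4) = 3 from rfl, show Fin.rev (1 : Fin 4) = 2 from rfl, show Fin.rev (2 : Fin 4) = 1 from rfl, show Fin.rev (3 : Fin 4) = 0 from rfl]) <;> first | omega | nlinarith only [hW0, hr0, hr1, hr2, hr3])
      · exfalso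
        have hQ := hQ1 0 2 2 1 ⟨1, by decide⟩
        linarith only [hQ, hw0_1, ha0_1, hw1_2, ha1_2, hw2_3, ha2_3, hW0, hW1, hW2, hW3]
      · exfalso
        have hQ := hQ1 0 1 1 1 ⟨1, by decide⟩
        linarith only [hQ, hw0_1, ha0_1, hw1_2, ha1_2, hw2_3, ha2_3, hW0, hW1, hW2, hW3]
      · exfalso
        have hQ := hQ1 0 1 2 1 ⟨1, by decide⟩
        linarith only [hQ, hw0_1, ha0_1, hw1_2, ha1_2, hw2_3, ha2_3, hW0, hW1, hW2, hW3]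
      · exfalso
        have hQ := hQ1 0 1 1 1 ⟨1, by decide⟩
        linarith only [hQ, hw0_1, ha0_1, hw1_2, ha1_2, hw2_3, ha2_3, hW0, hW1, hW2, hW3]
    · rcases Groth.Agent.H37.edge_types T hn2 (v 2) (v 3) (hinj 2 3 (by decide)) (hv 2) (hv 3) hne2_3 with ⟨hw2_3, ha2_3⟩ | ⟨hw2_3, ha2_3⟩ | ⟨hw2_3, ha2_3⟩ | ⟨hw2_3, ha2_3⟩ | ⟨hw2_3, ha2_3⟩
      · have eW0 : T.w (v 0) = 2 * T.w (v 2) := by omega
        have eW1 : T.w (v 1) = 2 * T.w (v 2) := by omega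
        have eW3 : T.w (v 3) = T.w (v 2) := by omega
        have eA0_1 : T.a (v 0) (v 1) = 2 * T.w (v 2) := by omega
        have eA1_2 : T.a (v 1) (v 2) = 2 * T.w (v 2) := by omega
        have eA2_3 : T.a (v 2) (v 3) = T.w (v 2) := by omega
        simp only [eW0, eW1, eW3, eA0_1, eA1_2, eA2_3] at hr0 hr1 hr2 hr3
        refine ⟨(fun j => v (Fin.rev j)), T.w (v 2), Or.inr (fun j => rfl), ?_⟩
        refine Or.inr (Or.inr (Or.inr (⟨?_, ?_, ?_, ?_, ?_, ?_, ?_, ?_, ?_, ?_, ?_⟩)))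
        all_goals ((try simp only [show Fin.rev (0 : Fin 4) = 3 from rfl, show Fin.rev (1 : Fin 4) = 2 from rfl, show Fin.rev (2 : Fin 4) = 1 from rfl, show Fin.rev (3 : Fin 4) = 0 from rfl]) <;> first | omega | nlinarith only [hW2, hr0, hr1, hr2, hr3])
      · exfalso
        have hQ := hQ1 0 1 2 1 ⟨1, by decide⟩
        linarith only [hQ, hw0_1, ha0_1, hw1_2, ha1_2, hw2_3, ha2_3, hW0, hW1, hW2, hW3]
      · exfalso
        have hQ := hQ1 0 1 2 2 ⟨1, by decide⟩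
        linarith only [hQ, hw0_1, ha0_1, hw1_2, ha1_2, hw2_3, ha2_3, hW0, hW1, hW2, hW3]
      · exfalso
        have hQ := hQ1 0 1 2 1 ⟨1, by decide⟩
        linarith only [hQ, hw0_1, ha0_1, hw1_2, ha1_2, hw2_3, ha2_3, hW0, hW1, hW2, hW3]
      · exfalso
        have hQ := hQ1 0 1 2 2 ⟨1, by decide⟩
        linarith only [hQ, hw0_1, ha0_1, hw1_2, ha1_2, hw2_3, ha2_3, hW0, hW1, hW2, hW3]
    · exfalso
      have hQ := hQ1 1 2 1 0 ⟨0, by decide⟩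
      linarith only [hQ, hw0_1, ha0_1, hw1_2, ha1_2, hW0, hW1, hW2]
    · exfalso
      have hQ := hQ1 1 2 3 0 ⟨0, by decide⟩
      linarith only [hQ, hw0_1, ha0_1, hw1_2, ha1_2, hW0, hW1, hW2]
  · rcases Groth.Agent.H37.edge_types T hn2 (v 1) (v 2) (hinj 1 2 (by decide)) (hv 1) (hv 2) hne1_2 with ⟨hw1_2, ha1_2⟩ | ⟨hw1_2, ha1_2⟩ | ⟨hw1_2, ha1_2⟩ | ⟨hw1_2, ha1_2⟩ | ⟨hw1_2, ha1_2⟩
    · rcases Groth.Agent.H37.edge_types T hn2 (v 2) (v 3) (hinj 2 3 (by decide)) (hv 2) (hv 3) hne2_3 with ⟨hw2_3, ha2_3⟩ | ⟨hw2_3, ha2_3⟩ | ⟨hw2_3, ha2_3⟩ | ⟨hw2_3, ha2_3⟩ | ⟨hw2_3, ha2_3⟩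
      · have eW1 : T.w (v 1) = 2 * T.w (v 0) := by omega
        have eW2 : T.w (v 2) = 2 * T.w (v 0) := by omega
        have eW3 : T.w (v 3) = 2 * T.w (v 0) := by omega
        have eA0_1 : T.a (v 0) (v 1) = 2 * T.w (v 0) := by omega
        have eA1_2 : T.a (v 1) (v 2) = 2 * T.w (v 0) := by omega
        have eA2_3 : T.a (v 2) (v 3) = 2 * T.w (v 0) := by omega
        simp only [eW1, eW2, eW3, eA0_1, eA1_2, eA2_3] at hr0 hr1 hr2 hr3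
        refine ⟨(fun j => v (Fin.rev j)), T.w (v 0), Or.inr (fun j => rfl), ?_⟩
        refine Or.inr (Or.inr (Or.inl ⟨?_, ?_, ?_, ?_, ?_, ?_, ?_, ?_, ?_, ?_, ?_⟩))
        all_goals ((try simp only [show Fin.rev (0 : Fin 4) = 3 from rfl, show Fin.rev (1 : Fin 4) = 2 from rfl, show Fin.rev (2 : Fin 4) = 1 from rfl, show Fin.rev (3 : Fin 4) = 0 from rfl]) <;> first | omega | nlinarith only [hW0, hr0, hr1, hr2, hr3])
      · exfalso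
        have hQ := hQ1 2 2 2 1 ⟨0, by decide⟩
        linarith only [hQ, hw0_1, ha0_1, hw1_2, ha1_2, hw2_3, ha2_3, hW0, hW1, hW2, hW3]
      · exfalso
        have hQ := hQ1 1 1 1 1 ⟨0, by decide⟩
        linarith only [hQ, hw0_1, ha0_1, hw1_2, ha1_2, hw2_3, ha2_3, hW0, hW1, hW2, hW3]
      · exfalso
        have hQ := hQ1 0 1 2 1 ⟨1, by decide⟩
        linarith only [hQ, hw0_1, ha0_1, hw1_2, ha1_2, hw2_3, ha2_3, hW0, hW1, hW2, hW3]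
      · exfalso
        have hQ := hQ1 1 1 1 1 ⟨0, by decide⟩
        linarith only [hQ, hw0_1, ha0_1, hw1_2, ha1_2, hw2_3, ha2_3, hW0, hW1, hW2, hW3]
    · exfalso
      have hQ := hQ1 2 2 1 0 ⟨0, by decide⟩
      linarith only [hQ, hw0_1, ha0_1, hw1_2, ha1_2, hW0, hW1, hW2]
    · exfalso
      have hQ := hQ1 1 1 1 0 ⟨0, by decide⟩
      linarith only [hQ, hw0_1, ha0_1, hw1_2, ha1_2, hW0, hW1, hW2]
    · exfalso
      have hQ := hQ1 1 2 1 0 ⟨0, by decide⟩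
      linarith only [hQ, hw0_1, ha0_1, hw1_2, ha1_2, hW0, hW1, hW2]
    · exfalso
      have hQ := hQ1 1 1 1 0 ⟨0, by decide⟩
      linarith only [hQ, hw0_1, ha0_1, hw1_2, ha1_2, hW0, hW1, hW2]
  · rcases Groth.Agent.H37.edge_types T hn2 (v 1) (v 2) (hinj 1 2 (by decide)) (hv 1) (hv 2) hne1_2 with ⟨hw1_2, ha1_2⟩ | ⟨hw1_2, ha1_2⟩ | ⟨hw1_2, ha1_2⟩ | ⟨hw1_2, ha1_2⟩ | ⟨hw1_2, ha1_2⟩
    · rcases Groth.Agent.H37.edge_types T hn2 (v 2) (v 3) (hinj 2 3 (by decide)) (hv 2) (hv 3) hne2_3 with ⟨hw2_3, ha2_3⟩ | ⟨hw2_3, ha2_3⟩ | ⟨hw2_3, ha2_3⟩ | ⟨hw2_3, ha2_3⟩ | ⟨hw2_3, ha2_3⟩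
      · have eW0 : T.w (v 0) = 2 * T.w (v 1) := by omega
        have eW2 : T.w (v 2) = T.w (v 1) := by omega
        have eW3 : T.w (v 3) = T.w (v 1) := by omega
        have eA0_1 : T.a (v 0) (v 1) = 2 * T.w (v 1) := by omega
        have eA1_2 : T.a (v 1) (v 2) = T.w (v 1) := by omega
        have eA2_3 : T.a (v 2) (v 3) = T.w (v 1) := by omega
        simp only [eW0, eW2, eW3, eA0_1, eA1_2, eA2_3] at hr0 hr1 hr2 hr3
        refine ⟨(fun j => v (Fin.rev j)), T.w (v 1), Or.inr (fun j => rfl), ?_⟩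
        refine Or.inr (Or.inl ⟨?_, ?_, ?_, ?_, ?_, ?_, ?_, ?_, ?_, ?_, ?_⟩)
        all_goals ((try simp only [show Fin.rev (0 : Fin 4) = 3 from rfl, show Fin.rev (1 : Fin 4) = 2 from rfl, show Fin.rev (2 : Fin 4) = 1 from rfl, show Fin.rev (3 : Fin 4) = 0 from rfl]) <;> first | omega | nlinarith only [hW1, hr0, hr1, hr2, hr3])
      · exfalso
        have hQ := hQ1 1 2 2 1 ⟨0, by decide⟩
        linarith only [hQ, hw0_1, ha0_1, hw1_2, ha1_2, hw2_3, ha2_3, hW0, hW1, hW2, hW3]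
      · exfalso
        have hQ := hQ1 1 2 2 2 ⟨0, by decide⟩
        linarith only [hQ, hw0_1, ha0_1, hw1_2, ha1_2, hw2_3, ha2_3, hW0, hW1, hW2, hW3]
      · exfalso
        have hQ := hQ1 0 1 2 1 ⟨1, by decide⟩
        linarith only [hQ, hw0_1, ha0_1, hw1_2, ha1_2, hw2_3, ha2_3, hW0, hW1, hW2, hW3]
      · exfalso
        have hQ := hQ1 0 1 2 3 ⟨1, by decide⟩
        linarith only [hQ, hw0_1, ha0_1, hw1_2, ha1_2, hw2_3, ha2_3, hW0, hW1, hW2, hW3]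
    · exfalso
      have hQ := hQ1 1 2 1 0 ⟨0, by decide⟩
      linarith only [hQ, hw0_1, ha0_1, hw1_2, ha1_2, hW0, hW1, hW2]
    · exfalso
      have hQ := hQ1 1 2 2 0 ⟨0, by decide⟩
      linarith only [hQ, hw0_1, ha0_1, hw1_2, ha1_2, hW0, hW1, hW2]
    · exfalso
      have hQ := hQ1 1 2 1 0 ⟨0, by decide⟩
      linarith only [hQ, hw0_1, ha0_1, hw1_2, ha1_2, hW0, hW1, hW2]
    · exfalso
      have hQ := hQ1 1 2 2 0 ⟨0, by decide⟩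
      linarith only [hQ, hw0_1, ha0_1, hw1_2, ha1_2, hW0, hW1, hW2]
  · rcases Groth.Agent.H37.edge_types T hn2 (v 1) (v 2) (hinj 1 2 (by decide)) (hv 1) (hv 2) hne1_2 with ⟨hw1_2, ha1_2⟩ | ⟨hw1_2, ha1_2⟩ | ⟨hw1_2, ha1_2⟩ | ⟨hw1_2, ha1_2⟩ | ⟨hw1_2, ha1_2⟩
    · exfalso
      have hQ := hQ1 3 2 1 0 ⟨0, by decide⟩
      linarith only [hQ, hw0_1, ha0_1, hw1_2, ha1_2, hW0, hW1, hW2]
    · exfalso
      have hQ := hQ1 2 2 1 0 ⟨0, by decide⟩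
      linarith only [hQ, hw0_1, ha0_1, hw1_2, ha1_2, hW0, hW1, hW2]
    · exfalso
      have hQ := hQ1 1 1 1 0 ⟨0, by decide⟩
      linarith only [hQ, hw0_1, ha0_1, hw1_2, ha1_2, hW0, hW1, hW2]
    · exfalso
      have hQ := hQ1 1 2 1 0 ⟨0, by decide⟩
      linarith only [hQ, hw0_1, ha0_1, hw1_2, ha1_2, hW0, hW1, hW2]
    · exfalso
      have hQ := hQ1 1 1 1 0 ⟨0, by decide⟩
      linarith only [hQ, hw0_1, ha0_1, hw1_2, ha1_2, hW0, hW1, hW2]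
  · rcases Groth.Agent.H37.edge_types T hn2 (v 1) (v 2) (hinj 1 2 (by decide)) (hv 1) (hv 2) hne1_2 with ⟨hw1_2, ha1_2⟩ | ⟨hw1_2, ha1_2⟩ | ⟨hw1_2, ha1_2⟩ | ⟨hw1_2, ha1_2⟩ | ⟨hw1_2, ha1_2⟩
    · exfalso
      have hQ := hQ1 1 2 1 0 ⟨0, by decide⟩
      linarith only [hQ, hw0_1, ha0_1, hw1_2, ha1_2, hW0, hW1, hW2]
    · exfalso
      have hQ := hQ1 1 2 1 0 ⟨0, by decide⟩
      linarith only [hQ, hw0_1, ha0_1, hw1_2, ha1_2, hW0, hW1, hW2]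
    · exfalso
      have hQ := hQ1 1 2 1 0 ⟨0, by decide⟩
      linarith only [hQ, hw0_1, ha0_1, hw1_2, ha1_2, hW0, hW1, hW2]
    · exfalso
      have hQ := hQ1 1 2 1 0 ⟨0, by decide⟩
      linarith only [hQ, hw0_1, ha0_1, hw1_2, ha1_2, hW0, hW1, hW2]
    · exfalso
      have hQ := hQ1 1 2 1 0 ⟨0, by decide⟩
      linarith only [hQ, hw0_1, ha0_1, hw1_2, ha1_2, hW0, hW1, hW2]

end Groth.Agent.S7352
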