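import Groth.Statements.S7353
import Groth.Agent.H37.NumType2

set_option autoImplicit false
open Finset
open Models Models.NumericalType

namespace Groth.Agent.S7353

/-- Classification of proper subgraphs which are chains of five vertices: let T be a numerical type on n
> 5 indices and i_1, …, i_5 distinct (-2)-indices with a_{i_j i_{j+1}} nonzero for j < 5. Then
a_{i_j i_l} = 0 for |j - l| ≥ 2 and, after possibly reversing the order of the indices, for some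
integer w one of the following holds: (A5) w = (w, w, w, w, w), consecutive a = (w, w, w, w), with
2m_1 ≥ m_2, 2m_2 ≥ m_1 + m_3, 2m_3 ≥ m_2 + m_4, 2m_4 ≥ m_3 + m_5, 2m_5 ≥ m_4; (C5) w = (w, w, w, w,
2w), consecutive a = (w, w, w, 2w), with 2m_1 ≥ m_2, 2m_2 ≥ m_1 + m_3, 2m_3 ≥ m_2 + m_4, 2m_4 ≥ m_3
+ 2m_5, 2m_5 ≥ m_4; (B5) w = (2w, 2w, 2w, 2w, w), consecutive a = (2w, 2w, 2w, 2w), with 2m_1 ≥ m_2,
2m_2 ≥ m_1 + m_3, 2m_3 ≥ m_2 + m_4, 2m_4 ≥ m_3 + m_5, m_5 ≥ m_4. (The inequalities are those given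
by the rows Σ_l a_{kl} m_l = 0 of the displayed matrices; the published text has 2m_3 ≥ m_2 + 2m_4
and 2m_4 ≥ m_3 + m_5 in case C5 and m_4 ≥ m_3 in case B5, of which the first does not follow — for
the numerical type with six indices, weights (1,1,1,1,2,1), chain intersection numbers (1,1,1,2)
plus a_{16} = 1, a_{66} = -1 and multiplicities (2,2,2,2,1,2) one has 2m_3 = 4 < m_2 + 2m_4 = 6 — so
the matrix inequalities are stated.) -/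
theorem result {n : ℕ} (T : Models.NumericalType n) (hn : 5 < n)
    (v : Fin 5 ↪ Fin n) (hv : ∀ j, T.IsMinusTwo (v j)) (h01 : T.a (v 0) (v 1) ≠ 0) (h12 : T.a (v 1) (v 2) ≠ 0) (h23 : T.a (v 2) (v 3) ≠ 0) (h34 : T.a (v 3) (v 4) ≠ 0) :
    (T.a (v 0) (v 2) = 0 ∧ T.a (v 0) (v 3) = 0 ∧ T.a (v 0) (v 4) = 0 ∧ T.a (v 1) (v 3) = 0 ∧ T.a (v 1) (v 4) = 0 ∧ T.a (v 2) (v 4) = 0) ∧
    ∃ (u : Fin 5 → Fin n) (w : ℤ), ((∀ j, u j = v j) ∨ (∀ j, u j = v (Fin.rev j))) ∧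
      ((T.w (u 0) = w ∧ T.w (u 1) = w ∧ T.w (u 2) = w ∧ T.w (u 3) = w ∧ T.w (u 4) = w ∧ T.a (u 0) (u 1) = w ∧ T.a (u 1) (u 2) = w ∧ T.a (u 2) (u 3) = w ∧ T.a (u 3) (u 4) = w ∧ T.m (u 1) ≤ 2 * T.m (u 0) ∧ T.m (u 0) + T.m (u 2) ≤ 2 * T.m (u 1) ∧ T.m (u 1) + T.m (u 3) ≤ 2 * T.m (u 2) ∧ T.m (u 2) + T.m (u 4) ≤ 2 * T.m (u 3) ∧ T.m (u 3) ≤ 2 * T.m (u 4)) ∨
      (T.w (u 0) = w ∧ T.w (u 1) = w ∧ T.w (u 2) = w ∧ T.w (u 3) = w ∧ T.w (u 4) = 2 * w ∧ T.a (u 0) (u 1) = w ∧ T.a (u 1) (u 2) = w ∧ T.a (u 2) (u 3) = w ∧ T.a (u 3) (u 4) = 2 * w ∧ T.m (u 1) ≤ 2 * T.m (u 0) ∧ T.m (u 0) + T.m (u 2) ≤ 2 * T.m (u 1) ∧ T.m (u 1) + T.m (u 3) ≤ 2 * T.m (u 2) ∧ T.m (u 2) + 2 * T.m (u 4) ≤ 2 * T.m (u 3) ∧ T.m (u 3) ≤ 2 * T.m (u 4)) ∨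
      (T.w (u 0) = 2 * w ∧ T.w (u 1) = 2 * w ∧ T.w (u 2) = 2 * w ∧ T.w (u 3) = 2 * w ∧ T.w (u 4) = w ∧ T.a (u 0) (u 1) = 2 * w ∧ T.a (u 1) (u 2) = 2 * w ∧ T.a (u 2) (u 3) = 2 * w ∧ T.a (u 3) (u 4) = 2 * w ∧ T.m (u 1) ≤ 2 * T.m (u 0) ∧ T.m (u 0) + T.m (u 2) ≤ 2 * T.m (u 1) ∧ T.m (u 1) + T.m (u 3) ≤ 2 * T.m (u 2) ∧ T.m (u 2) + T.m (u 4) ≤ 2 * T.m (u 3) ∧ T.m (u 3) ≤ T.m (u 4))) := by
  have hinj : ∀ p q : Fin 5, p ≠ q → v p ≠ v q := fun p q h hv => h (v.injective hv)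
  have hn2 : 2 < n := by omega
  have hd0 : T.a (v 0) (v 0) = -2 * T.w (v 0) := (hv 0).2
  have hW0 := T.w_pos (v 0)
  have hd1 : T.a (v 1) (v 1) = -2 * T.w (v 1) := (hv 1).2
  have hW1 := T.w_pos (v 1)
  have hd2 : T.a (v 2) (v 2) = -2 * T.w (v 2) := (hv 2).2
  have hW2 := T.w_pos (v 2)
  have hd3 : T.a (v 3) (v 3) = -2 * T.w (v 3) := (hv 3).2
  have hW3 := T.w_pos (v 3)
  have hd4 : T.a (v 4) (v 4) = -2 * T.w (v 4) := (hv 4).2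
  have hW4 := T.w_pos (v 4)
  have hs0_1 : T.a (v 1) (v 0) = T.a (v 0) (v 1) := Groth.Agent.H37.a_symm T _ _
  have hn0_1 : 0 ≤ T.a (v 0) (v 1) := T.offDiag_nonneg _ _ (hinj 0 1 (by decide))
  have hs0_2 : T.a (v 2) (v 0) = T.a (v 0) (v 2) := Groth.Agent.H37.a_symm T _ _
  have hn0_2 : 0 ≤ T.a (v 0) (v 2) := T.offDiag_nonneg _ _ (hinj 0 2 (by decide))
  have hs0_3 : T.a (v 3) (v 0) = T.a (v 0) (v 3) := Groth.Agent.H37.a_symm T _ _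
  have hn0_3 : 0 ≤ T.a (v 0) (v 3) := T.offDiag_nonneg _ _ (hinj 0 3 (by decide))
  have hs0_4 : T.a (v 4) (v 0) = T.a (v 0) (v 4) := Groth.Agent.H37.a_symm T _ _
  have hn0_4 : 0 ≤ T.a (v 0) (v 4) := T.offDiag_nonneg _ _ (hinj 0 4 (by decide))
  have hs1_2 : T.a (v 2) (v 1) = T.a (v 1) (v 2) := Groth.Agent.H37.a_symm T _ _
  have hn1_2 : 0 ≤ T.a (v 1) (v 2) := T.offDiag_nonneg _ _ (hinj 1 2 (by decide))
  have hs1_3 : T.a (v 3) (v 1) = T.a (v 1) (v 3) := Groth.Agent.H37.a_symm T _ _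
  have hn1_3 : 0 ≤ T.a (v 1) (v 3) := T.offDiag_nonneg _ _ (hinj 1 3 (by decide))
  have hs1_4 : T.a (v 4) (v 1) = T.a (v 1) (v 4) := Groth.Agent.H37.a_symm T _ _
  have hn1_4 : 0 ≤ T.a (v 1) (v 4) := T.offDiag_nonneg _ _ (hinj 1 4 (by decide))
  have hs2_3 : T.a (v 3) (v 2) = T.a (v 2) (v 3) := Groth.Agent.H37.a_symm T _ _
  have hn2_3 : 0 ≤ T.a (v 2) (v 3) := T.offDiag_nonneg _ _ (hinj 2 3 (by decide))
  have hs2_4 : T.a (v 4) (v 2) = T.a (v 2) (v 4) := Groth.Agent.H37.a_symm T _ _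
  have hn2_4 : 0 ≤ T.a (v 2) (v 4) := T.offDiag_nonneg _ _ (hinj 2 4 (by decide))
  have hs3_4 : T.a (v 4) (v 3) = T.a (v 3) (v 4) := Groth.Agent.H37.a_symm T _ _
  have hn3_4 : 0 ≤ T.a (v 3) (v 4) := T.offDiag_nonneg _ _ (hinj 3 4 (by decide))
  have hne0_1 : T.a (v 0) (v 1) ≠ 0 := h01
  have he0_1 := Groth.Agent.H37.w_le_offDiag T (v 0) (v 1) (hinj 0 1 (by decide)) hne0_1
  have hne1_2 : T.a (v 1) (v 2) ≠ 0 := h12
  have he1_2 := Groth.Agent.H37.w_le_offDiag T (v 1) (v 2) (hinj 1 2 (by decide)) hne1_2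
  have hne2_3 : T.a (v 2) (v 3) ≠ 0 := h23
  have he2_3 := Groth.Agent.H37.w_le_offDiag T (v 2) (v 3) (hinj 2 3 (by decide)) hne2_3
  have hne3_4 : T.a (v 3) (v 4) ≠ 0 := h34
  have he3_4 := Groth.Agent.H37.w_le_offDiag T (v 3) (v 4) (hinj 3 4 (by decide)) hne3_4
  have hQ0 : ∀ y0 y1 y2 y3 y4 : ℤ, (∃ p, ![y0, y1, y2, y3, y4] p ≠ 0) → -2 * T.w (v 0) * (y0 * y0) + -2 * T.w (v 1) * (y1 * y1) + -2 * T.w (v 2) * (y2 * y2) + -2 * T.w (v 3) * (y3 * y3) + -2 * T.w (v 4) * (y4 * y4) + 2 * T.a (v 0) (v 1) * (y0 * y1) + 2 * T.a (v 0) (v 2) * (y0 * y2) + 2 * T.a (v 0) (v 3) * (y0 * y3) + 2 * T.a (v 0) (v 4) * (y0 * y4) + 2 * T.a (v 1) (v 2) * (y1 * y2) + 2 * T.a (v 1) (v 3) * (y1 * y3) + 2 * T.a (v 1) (v 4) * (y1 * y4) + 2 * T.a (v 2) (v 3) * (y2 * y3) + 2 * T.a (v 2) (v 4) * (y2 * y4) + 2 * T.a (v 3) (v 4) * (y3 * y4) < 0 := by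
    intro y0 y1 y2 y3 y4 hy
    have hQ := Groth.Agent.H37.qform_sub_neg T v hn ![y0, y1, y2, y3, y4] hy
    simp [Fin.sum_univ_succ] at hQ
    simp only [hd0, hd1, hd2, hd3, hd4, hs0_1, hs0_2, hs0_3, hs0_4, hs1_2, hs1_3, hs1_4, hs2_3, hs2_4, hs3_4] at hQ
    linarith
  have hz0_2 : T.a (v 0) (v 2) = 0 := by
    by_contra hne
    have hc := Groth.Agent.H37.w_le_offDiag T (v 0) (v 2) (hinj 0 2 (by decide)) hne
    have hQ := hQ0 1 1 1 0 0 ⟨0, by decide⟩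
    linarith only [hQ, hc.1, hc.2, he0_1.1, he0_1.2, he1_2.1, he1_2.2]
  have hz0_3 : T.a (v 0) (v 3) = 0 := by
    by_contra hne
    have hc := Groth.Agent.H37.w_le_offDiag T (v 0) (v 3) (hinj 0 3 (by decide)) hne
    have hQ := hQ0 1 1 1 1 0 ⟨0, by decide⟩
    linarith only [hQ, hc.1, hc.2, he0_1.1, he0_1.2, he1_2.1, he1_2.2, he2_3.1, he2_3.2, hn0_2, hn1_3]
  have hz0_4 : T.a (v 0) (v 4) = 0 := by
    by_contra hne
    have hc := Groth.Agent.H37.w_le_offDiag T (v 0) (v 4) (hinj 0 4 (by decide)) hne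
    have hQ := hQ0 1 1 1 1 1 ⟨0, by decide⟩
    linarith only [hQ, hc.1, hc.2, he0_1.1, he0_1.2, he1_2.1, he1_2.2, he2_3.1, he2_3.2, he3_4.1, he3_4.2, hn0_2, hn0_3, hn1_3, hn1_4, hn2_4]
  have hz1_3 : T.a (v 1) (v 3) = 0 := by
    by_contra hne
    have hc := Groth.Agent.H37.w_le_offDiag T (v 1) (v 3) (hinj 1 3 (by decide)) hne
    have hQ := hQ0 0 1 1 1 0 ⟨1, by decide⟩
    linarith only [hQ, hc.1, hc.2, he1_2.1, he1_2.2, he2_3.1, he2_3.2]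
  have hz1_4 : T.a (v 1) (v 4) = 0 := by
    by_contra hne
    have hc := Groth.Agent.H37.w_le_offDiag T (v 1) (v 4) (hinj 1 4 (by decide)) hne
    have hQ := hQ0 0 1 1 1 1 ⟨1, by decide⟩
    linarith only [hQ, hc.1, hc.2, he1_2.1, he1_2.2, he2_3.1, he2_3.2, he3_4.1, he3_4.2, hn1_3, hn2_4]
  have hz2_4 : T.a (v 2) (v 4) = 0 := by
    by_contra hne
    have hc := Groth.Agent.H37.w_le_offDiag T (v 2) (v 4) (hinj 2 4 (by decide)) hne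
    have hQ := hQ0 0 0 1 1 1 ⟨2, by decide⟩
    linarith only [hQ, hc.1, hc.2, he2_3.1, he2_3.2, he3_4.1, he3_4.2]
  have hQ1 : ∀ y0 y1 y2 y3 y4 : ℤ, (∃ p, ![y0, y1, y2, y3, y4] p ≠ 0) → -2 * T.w (v 0) * (y0 * y0) + -2 * T.w (v 1) * (y1 * y1) + -2 * T.w (v 2) * (y2 * y2) + -2 * T.w (v 3) * (y3 * y3) + -2 * T.w (v 4) * (y4 * y4) + 2 * T.a (v 0) (v 1) * (y0 * y1) + 2 * T.a (v 1) (v 2) * (y1 * y2) + 2 * T.a (v 2) (v 3) * (y2 * y3) + 2 * T.a (v 3) (v 4) * (y3 * y4) < 0 := by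
    intro y0 y1 y2 y3 y4 hy
    have hQ := hQ0 y0 y1 y2 y3 y4 hy
    rw [hz0_2, hz0_3, hz0_4, hz1_3, hz1_4, hz2_4] at hQ
    linarith
  have hr0 : T.a (v 0) (v 0) * T.m (v 0) + T.a (v 0) (v 1) * T.m (v 1) + T.a (v 0) (v 2) * T.m (v 2) + T.a (v 0) (v 3) * T.m (v 3) + T.a (v 0) (v 4) * T.m (v 4) ≤ 0 := by
    have := Groth.Agent.H37.row_sub_le T v 0
    simp [Fin.sum_univ_succ] at this
    linarith
  rw [hd0] at hr0
  have hr1 : T.a (v 1) (v 0) * T.m (v 0) + T.a (v 1) (v 1) * T.m (v 1) + T.a (v 1) (v 2) * T.m (v 2) + T.a (v 1) (v 3) * T.m (v 3) + T.a (v 1) (v 4) * T.m (v 4) ≤ 0 := by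
    have := Groth.Agent.H37.row_sub_le T v 1
    simp [Fin.sum_univ_succ] at this
    linarith
  rw [hd1, hs0_1] at hr1
  have hr2 : T.a (v 2) (v 0) * T.m (v 0) + T.a (v 2) (v 1) * T.m (v 1) + T.a (v 2) (v 2) * T.m (v 2) + T.a (v 2) (v 3) * T.m (v 3) + T.a (v 2) (v 4) * T.m (v 4) ≤ 0 := by
    have := Groth.Agent.H37.row_sub_le T v 2
    simp [Fin.sum_univ_succ] at this
    linarith
  rw [hd2, hs0_2, hs1_2] at hr2
  have hr3 : T.a (v 3) (v 0) * T.m (v 0) + T.a (v 3) (v 1) * T.m (v 1) + T.a (v 3) (v 2) * T.m (v 2) + T.a (v 3) (v 3) * T.m (v 3) + T.a (v 3) (v 4) * T.m (v 4) ≤ 0 := by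
    have := Groth.Agent.H37.row_sub_le T v 3
    simp [Fin.sum_univ_succ] at this
    linarith
  rw [hd3, hs0_3, hs1_3, hs2_3] at hr3
  have hr4 : T.a (v 4) (v 0) * T.m (v 0) + T.a (v 4) (v 1) * T.m (v 1) + T.a (v 4) (v 2) * T.m (v 2) + T.a (v 4) (v 3) * T.m (v 3) + T.a (v 4) (v 4) * T.m (v 4) ≤ 0 := by
    have := Groth.Agent.H37.row_sub_le T v 4
    simp [Fin.sum_univ_succ] at this
    linarith
  rw [hd4, hs0_4, hs1_4, hs2_4, hs3_4] at hr4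
  simp only [hz0_2, hz0_3, hz0_4, hz1_3, hz1_4, hz2_4, zero_mul, add_zero, zero_add] at hr0 hr1 hr2 hr3 hr4
  refine ⟨⟨hz0_2, hz0_3, hz0_4, hz1_3, hz1_4, hz2_4⟩, ?_⟩
  rcases Groth.Agent.H37.edge_types T hn2 (v 0) (v 1) (hinj 0 1 (by decide)) (hv 0) (hv 1) hne0_1 with ⟨hw0_1, ha0_1⟩ | ⟨hw0_1, ha0_1⟩ | ⟨hw0_1, ha0_1⟩ | ⟨hw0_1, ha0_1⟩ | ⟨hw0_1, ha0_1⟩
  · rcases Groth.Agent.H37.edge_types T hn2 (v 1) (v 2) (hinj 1 2 (by decide)) (hv 1) (hv 2) hne1_2 with ⟨hw1_2, ha1_2⟩ | ⟨hw1_2, ha1_2⟩ | ⟨hw1_2, ha1_2⟩ | ⟨hw1_2, ha1_2⟩ | ⟨hw1_2, ha1_2⟩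
    · rcases Groth.Agent.H37.edge_types T hn2 (v 2) (v 3) (hinj 2 3 (by decide)) (hv 2) (hv 3) hne2_3 with ⟨hw2_3, ha2_3⟩ | ⟨hw2_3, ha2_3⟩ | ⟨hw2_3, ha2_3⟩ | ⟨hw2_3, ha2_3⟩ | ⟨hw2_3, ha2_3⟩
      · rcases Groth.Agent.H37.edge_types T hn2 (v 3) (v 4) (hinj 3 4 (by decide)) (hv 3) (hv 4) hne3_4 with ⟨hw3_4, ha3_4⟩ | ⟨hw3_4, ha3_4⟩ | ⟨hw3_4, ha3_4⟩ | ⟨hw3_4, ha3_4⟩ | ⟨hw3_4, ha3_4⟩
        · have eW1 : T.w (v 1) = T.w (v 0) := by omega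
          have eW2 : T.w (v 2) = T.w (v 0) := by omega
          have eW3 : T.w (v 3) = T.w (v 0) := by omega
          have eW4 : T.w (v 4) = T.w (v 0) := by omega
          have eA0_1 : T.a (v 0) (v 1) = T.w (v 0) := by omega
          have eA1_2 : T.a (v 1) (v 2) = T.w (v 0) := by omega
          have eA2_3 : T.a (v 2) (v 3) = T.w (v 0) := by omega
          have eA3_4 : T.a (v 3) (v 4) = T.w (v 0) := by omega
          simp only [eW1, eW2, eW3, eW4, eA0_1, eA1_2, eA2_3, eA3_4] at hr0 hr1 hr2 hr3 hr4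
          refine ⟨(fun j => v j), T.w (v 0), Or.inl (fun j => rfl), ?_⟩
          refine Or.inl ⟨?_, ?_, ?_, ?_, ?_, ?_, ?_, ?_, ?_, ?_, ?_, ?_, ?_, ?_⟩
          all_goals ((try simp only [show Fin.rev (0 : Fin 5) = 4 from rfl, show Fin.rev (1 : Fin 5) = 3 from rfl, show Fin.rev (2 : Fin 5) = 2 from rfl, show Fin.rev (3 : Fin 5) = 1 from rfl, show Fin.rev (4 : Fin 5) = 0 from rfl]) <;> first | omega | nlinarith only [hW0, hr0, hr1, hr2, hr3, hr4])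
        · have eW1 : T.w (v 1) = T.w (v 0) := by omega
          have eW2 : T.w (v 2) = T.w (v 0) := by omega
          have eW3 : T.w (v 3) = T.w (v 0) := by omega
          have eW4 : T.w (v 4) = 2 * T.w (v 0) := by omega
          have eA0_1 : T.a (v 0) (v 1) = T.w (v 0) := by omega
          have eA1_2 : T.a (v 1) (v 2) = T.w (v 0) := by omega
          have eA2_3 : T.a (v 2) (v 3) = T.w (v 0) := by omega
          have eA3_4 : T.a (v 3) (v 4) = 2 * T.w (v 0) := by omega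
          simp only [eW1, eW2, eW3, eW4, eA0_1, eA1_2, eA2_3, eA3_4] at hr0 hr1 hr2 hr3 hr4
          refine ⟨(fun j => v j), T.w (v 0), Or.inl (fun j => rfl), ?_⟩
          refine Or.inr (Or.inl ⟨?_, ?_, ?_, ?_, ?_, ?_, ?_, ?_, ?_, ?_, ?_, ?_, ?_, ?_⟩)
          all_goals ((try simp only [show Fin.rev (0 : Fin 5) = 4 from rfl, show Fin.rev (1 : Fin 5) = 3 from rfl, show Fin.rev (2 : Fin 5) = 2 from rfl, show Fin.rev (3 : Fin 5) = 1 from rfl, show Fin.rev (4 : Fin 5) = 0 from rfl]) <;> first | omega | nlinarith only [hW0, hr0, hr1, hr2, hr3, hr4])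
        · have eW0 : T.w (v 0) = 2 * T.w (v 4) := by omega
          have eW1 : T.w (v 1) = 2 * T.w (v 4) := by omega
          have eW2 : T.w (v 2) = 2 * T.w (v 4) := by omega
          have eW3 : T.w (v 3) = 2 * T.w (v 4) := by omega
          have eA0_1 : T.a (v 0) (v 1) = 2 * T.w (v 4) := by omega
          have eA1_2 : T.a (v 1) (v 2) = 2 * T.w (v 4) := by omega
          have eA2_3 : T.a (v 2) (v 3) = 2 * T.w (v 4) := by omega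
          have eA3_4 : T.a (v 3) (v 4) = 2 * T.w (v 4) := by omega
          simp only [eW0, eW1, eW2, eW3, eA0_1, eA1_2, eA2_3, eA3_4] at hr0 hr1 hr2 hr3 hr4
          refine ⟨(fun j => v j), T.w (v 4), Or.inl (fun j => rfl), ?_⟩
          refine Or.inr (Or.inr (⟨?_, ?_, ?_, ?_, ?_, ?_, ?_, ?_, ?_, ?_, ?_, ?_, ?_, ?_⟩))
          all_goals ((try simp only [show Fin.rev (0 : Fin 5) = 4 from rfl, show Fin.rev (1 : Fin 5) = 3 from rfl, show Fin.rev (2 : Fin 5) = 2 from rfl, show Fin.rev (3 : Fin 5) = 1 from rfl, show Fin.rev (4 : Fin 5) = 0 from rfl]) <;> first | omega | nlinarith only [hW4, hr0, hr1, hr2, hr3, hr4])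
        · exfalso
          have hQ := hQ1 0 0 1 2 1 ⟨2, by decide⟩
          linarith only [hQ, hw0_1, ha0_1, hw1_2, ha1_2, hw2_3, ha2_3, hw3_4, ha3_4, hW0, hW1, hW2, hW3, hW4]
        · exfalso
          have hQ := hQ1 0 0 1 2 3 ⟨2, by decide⟩
          linarith only [hQ, hw0_1, ha0_1, hw1_2, ha1_2, hw2_3, ha2_3, hw3_4, ha3_4, hW0, hW1, hW2, hW3, hW4]
      · rcases Groth.Agent.H37.edge_types T hn2 (v 3) (v 4) (hinj 3 4 (by decide)) (hv 3) (hv 4) hne3_4 with ⟨hw3_4, ha3_4⟩ | ⟨hw3_4, ha3_4⟩ | ⟨hw3_4, ha3_4⟩ | ⟨hw3_4, ha3_4⟩ | ⟨hw3_4, ha3_4⟩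
        · exfalso
          have hQ := hQ1 1 2 3 2 1 ⟨0, by decide⟩
          linarith only [hQ, hw0_1, ha0_1, hw1_2, ha1_2, hw2_3, ha2_3, hw3_4, ha3_4, hW0, hW1, hW2, hW3, hW4]
        · exfalso
          have hQ := hQ1 0 0 2 2 1 ⟨2, by decide⟩
          linarith only [hQ, hw0_1, ha0_1, hw1_2, ha1_2, hw2_3, ha2_3, hw3_4, ha3_4, hW0, hW1, hW2, hW3, hW4]
        · exfalso
          have hQ := hQ1 0 0 1 1 1 ⟨2, by decide⟩
          linarith only [hQ, hw0_1, ha0_1, hw1_2, ha1_2, hw2_3, ha2_3, hw3_4, ha3_4, hW0, hW1, hW2, hW3, hW4]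
        · exfalso
          have hQ := hQ1 0 0 1 2 1 ⟨2, by decide⟩
          linarith only [hQ, hw0_1, ha0_1, hw1_2, ha1_2, hw2_3, ha2_3, hw3_4, ha3_4, hW0, hW1, hW2, hW3, hW4]
        · exfalso
          have hQ := hQ1 0 0 1 1 1 ⟨2, by decide⟩
          linarith only [hQ, hw0_1, ha0_1, hw1_2, ha1_2, hw2_3, ha2_3, hw3_4, ha3_4, hW0, hW1, hW2, hW3, hW4]
      · rcases Groth.Agent.H37.edge_types T hn2 (v 3) (v 4) (hinj 3 4 (by decide)) (hv 3) (hv 4) hne3_4 with ⟨hw3_4, ha3_4⟩ | ⟨hw3_4, ha3_4⟩ | ⟨hw3_4, ha3_4⟩ | ⟨hw3_4, ha3_4⟩ | ⟨hw3_4, ha3_4⟩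
        · exfalso
          have hQ := hQ1 1 2 3 4 2 ⟨0, by decide⟩
          linarith only [hQ, hw0_1, ha0_1, hw1_2, ha1_2, hw2_3, ha2_3, hw3_4, ha3_4, hW0, hW1, hW2, hW3, hW4]
        · exfalso
          have hQ := hQ1 0 0 1 2 1 ⟨2, by decide⟩
          linarith only [hQ, hw0_1, ha0_1, hw1_2, ha1_2, hw2_3, ha2_3, hw3_4, ha3_4, hW0, hW1, hW2, hW3, hW4]
        · exfalso
          have hQ := hQ1 0 0 1 2 2 ⟨2, by decide⟩
          linarith only [hQ, hw0_1, ha0_1, hw1_2, ha1_2, hw2_3, ha2_3, hw3_4, ha3_4, hW0, hW1, hW2, hW3, hW4]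
        · exfalso
          have hQ := hQ1 0 0 1 2 1 ⟨2, by decide⟩
          linarith only [hQ, hw0_1, ha0_1, hw1_2, ha1_2, hw2_3, ha2_3, hw3_4, ha3_4, hW0, hW1, hW2, hW3, hW4]
        · exfalso
          have hQ := hQ1 0 0 1 2 2 ⟨2, by decide⟩
          linarith only [hQ, hw0_1, ha0_1, hw1_2, ha1_2, hw2_3, ha2_3, hw3_4, ha3_4, hW0, hW1, hW2, hW3, hW4]
      · exfalso
        have hQ := hQ1 0 1 2 1 0 ⟨1, by decide⟩
        linarith only [hQ, hw0_1, ha0_1, hw1_2, ha1_2, hw2_3, ha2_3, hW0, hW1, hW2, hW3]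
      · exfalso
        have hQ := hQ1 0 1 2 3 0 ⟨1, by decide⟩
        linarith only [hQ, hw0_1, ha0_1, hw1_2, ha1_2, hw2_3, ha2_3, hW0, hW1, hW2, hW3]
    · rcases Groth.Agent.H37.edge_types T hn2 (v 2) (v 3) (hinj 2 3 (by decide)) (hv 2) (hv 3) hne2_3 with ⟨hw2_3, ha2_3⟩ | ⟨hw2_3, ha2_3⟩ | ⟨hw2_3, ha2_3⟩ | ⟨hw2_3, ha2_3⟩ | ⟨hw2_3, ha2_3⟩
      · rcases Groth.Agent.H37.edge_types T hn2 (v 3) (v 4) (hinj 3 4 (by decide)) (hv 3) (hv 4) hne3_4 with ⟨hw3_4, ha3_4⟩ | ⟨hw3_4, ha3_4⟩ | ⟨hw3_4, ha3_4⟩ | ⟨hw3_4, ha3_4⟩ | ⟨hw3_4, ha3_4⟩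
        · exfalso
          have hQ := hQ1 2 4 3 2 1 ⟨0, by decide⟩
          linarith only [hQ, hw0_1, ha0_1, hw1_2, ha1_2, hw2_3, ha2_3, hw3_4, ha3_4, hW0, hW1, hW2, hW3, hW4]
        · exfalso
          have hQ := hQ1 0 2 2 2 1 ⟨1, by decide⟩
          linarith only [hQ, hw0_1, ha0_1, hw1_2, ha1_2, hw2_3, ha2_3, hw3_4, ha3_4, hW0, hW1, hW2, hW3, hW4]
        · exfalso
          have hQ := hQ1 0 1 1 1 1 ⟨1, by decide⟩
          linarith only [hQ, hw0_1, ha0_1, hw1_2, ha1_2, hw2_3, ha2_3, hw3_4, ha3_4, hW0, hW1, hW2, hW3, hW4]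
        · exfalso
          have hQ := hQ1 0 0 1 2 1 ⟨2, by decide⟩
          linarith only [hQ, hw0_1, ha0_1, hw1_2, ha1_2, hw2_3, ha2_3, hw3_4, ha3_4, hW0, hW1, hW2, hW3, hW4]
        · exfalso
          have hQ := hQ1 0 1 1 1 1 ⟨1, by decide⟩
          linarith only [hQ, hw0_1, ha0_1, hw1_2, ha1_2, hw2_3, ha2_3, hw3_4, ha3_4, hW0, hW1, hW2, hW3, hW4]
      · exfalso
        have hQ := hQ1 0 2 2 1 0 ⟨1, by decide⟩
        linarith only [hQ, hw0_1, ha0_1, hw1_2, ha1_2, hw2_3, ha2_3, hW0, hW1, hW2, hW3]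
      · exfalso
        have hQ := hQ1 0 1 1 1 0 ⟨1, by decide⟩
        linarith only [hQ, hw0_1, ha0_1, hw1_2, ha1_2, hw2_3, ha2_3, hW0, hW1, hW2, hW3]
      · exfalso
        have hQ := hQ1 0 1 2 1 0 ⟨1, by decide⟩
        linarith only [hQ, hw0_1, ha0_1, hw1_2, ha1_2, hw2_3, ha2_3, hW0, hW1, hW2, hW3]
      · exfalso
        have hQ := hQ1 0 1 1 1 0 ⟨1, by decide⟩
        linarith only [hQ, hw0_1, ha0_1, hw1_2, ha1_2, hw2_3, ha2_3, hW0, hW1, hW2, hW3]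
    · rcases Groth.Agent.H37.edge_types T hn2 (v 2) (v 3) (hinj 2 3 (by decide)) (hv 2) (hv 3) hne2_3 with ⟨hw2_3, ha2_3⟩ | ⟨hw2_3, ha2_3⟩ | ⟨hw2_3, ha2_3⟩ | ⟨hw2_3, ha2_3⟩ | ⟨hw2_3, ha2_3⟩
      · rcases Groth.Agent.H37.edge_types T hn2 (v 3) (v 4) (hinj 3 4 (by decide)) (hv 3) (hv 4) hne3_4 with ⟨hw3_4, ha3_4⟩ | ⟨hw3_4, ha3_4⟩ | ⟨hw3_4, ha3_4⟩ | ⟨hw3_4, ha3_4⟩ | ⟨hw3_4, ha3_4⟩
        · exfalso
          have hQ := hQ1 1 2 3 2 1 ⟨0, by decide⟩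
          linarith only [hQ, hw0_1, ha0_1, hw1_2, ha1_2, hw2_3, ha2_3, hw3_4, ha3_4, hW0, hW1, hW2, hW3, hW4]
        · exfalso
          have hQ := hQ1 0 1 2 2 1 ⟨1, by decide⟩
          linarith only [hQ, hw0_1, ha0_1, hw1_2, ha1_2, hw2_3, ha2_3, hw3_4, ha3_4, hW0, hW1, hW2, hW3, hW4]
        · exfalso
          have hQ := hQ1 0 1 2 2 2 ⟨1, by decide⟩
          linarith only [hQ, hw0_1, ha0_1, hw1_2, ha1_2, hw2_3, ha2_3, hw3_4, ha3_4, hW0, hW1, hW2, hW3, hW4]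
        · exfalso
          have hQ := hQ1 0 0 1 2 1 ⟨2, by decide⟩
          linarith only [hQ, hw0_1, ha0_1, hw1_2, ha1_2, hw2_3, ha2_3, hw3_4, ha3_4, hW0, hW1, hW2, hW3, hW4]
        · exfalso
          have hQ := hQ1 0 0 1 2 3 ⟨2, by decide⟩
          linarith only [hQ, hw0_1, ha0_1, hw1_2, ha1_2, hw2_3, ha2_3, hw3_4, ha3_4, hW0, hW1, hW2, hW3, hW4]
      · exfalso
        have hQ := hQ1 0 1 2 1 0 ⟨1, by decide⟩
        linarith only [hQ, hw0_1, ha0_1, hw1_2, ha1_2, hw2_3, ha2_3, hW0, hW1, hW2, hW3]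
      · exfalso
        have hQ := hQ1 0 1 2 2 0 ⟨1, by decide⟩
        linarith only [hQ, hw0_1, ha0_1, hw1_2, ha1_2, hw2_3, ha2_3, hW0, hW1, hW2, hW3]
      · exfalso
        have hQ := hQ1 0 1 2 1 0 ⟨1, by decide⟩
        linarith only [hQ, hw0_1, ha0_1, hw1_2, ha1_2, hw2_3, ha2_3, hW0, hW1, hW2, hW3]
      · exfalso
        have hQ := hQ1 0 1 2 2 0 ⟨1, by decide⟩
        linarith only [hQ, hw0_1, ha0_1, hw1_2, ha1_2, hw2_3, ha2_3, hW0, hW1, hW2, hW3]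
    · exfalso
      have hQ := hQ1 1 2 1 0 0 ⟨0, by decide⟩
      linarith only [hQ, hw0_1, ha0_1, hw1_2, ha1_2, hW0, hW1, hW2]
    · exfalso
      have hQ := hQ1 1 2 3 0 0 ⟨0, by decide⟩
      linarith only [hQ, hw0_1, ha0_1, hw1_2, ha1_2, hW0, hW1, hW2]
  · rcases Groth.Agent.H37.edge_types T hn2 (v 1) (v 2) (hinj 1 2 (by decide)) (hv 1) (hv 2) hne1_2 with ⟨hw1_2, ha1_2⟩ | ⟨hw1_2, ha1_2⟩ | ⟨hw1_2, ha1_2⟩ | ⟨hw1_2, ha1_2⟩ | ⟨hw1_2, ha1_2⟩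
    · rcases Groth.Agent.H37.edge_types T hn2 (v 2) (v 3) (hinj 2 3 (by decide)) (hv 2) (hv 3) hne2_3 with ⟨hw2_3, ha2_3⟩ | ⟨hw2_3, ha2_3⟩ | ⟨hw2_3, ha2_3⟩ | ⟨hw2_3, ha2_3⟩ | ⟨hw2_3, ha2_3⟩
      · rcases Groth.Agent.H37.edge_types T hn2 (v 3) (v 4) (hinj 3 4 (by decide)) (hv 3) (hv 4) hne3_4 with ⟨hw3_4, ha3_4⟩ | ⟨hw3_4, ha3_4⟩ | ⟨hw3_4, ha3_4⟩ | ⟨hw3_4, ha3_4⟩ | ⟨hw3_4, ha3_4⟩
        · have eW1 : T.w (v 1) = 2 * T.w (v 0) := by omega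
          have eW2 : T.w (v 2) = 2 * T.w (v 0) := by omega
          have eW3 : T.w (v 3) = 2 * T.w (v 0) := by omega
          have eW4 : T.w (v 4) = 2 * T.w (v 0) := by omega
          have eA0_1 : T.a (v 0) (v 1) = 2 * T.w (v 0) := by omega
          have eA1_2 : T.a (v 1) (v 2) = 2 * T.w (v 0) := by omega
          have eA2_3 : T.a (v 2) (v 3) = 2 * T.w (v 0) := by omega
          have eA3_4 : T.a (v 3) (v 4) = 2 * T.w (v 0) := by omega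
          simp only [eW1, eW2, eW3, eW4, eA0_1, eA1_2, eA2_3, eA3_4] at hr0 hr1 hr2 hr3 hr4
          refine ⟨(fun j => v (Fin.rev j)), T.w (v 0), Or.inr (fun j => rfl), ?_⟩
          refine Or.inr (Or.inr (⟨?_, ?_, ?_, ?_, ?_, ?_, ?_, ?_, ?_, ?_, ?_, ?_, ?_, ?_⟩))
          all_goals ((try simp only [show Fin.rev (0 : Fin 5) = 4 from rfl, show Fin.rev (1 : Fin 5) = 3 from rfl, show Fin.rev (2 : Fin 5) = 2 from rfl, show Fin.rev (3 : Fin 5) = 1 from rfl, show Fin.rev (4 : Fin 5) = 0 from rfl]) <;> first | omega | nlinarith only [hW0, hr0, hr1, hr2, hr3, hr4])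
        · exfalso
          have hQ := hQ1 2 2 2 2 1 ⟨0, by decide⟩
          linarith only [hQ, hw0_1, ha0_1, hw1_2, ha1_2, hw2_3, ha2_3, hw3_4, ha3_4, hW0, hW1, hW2, hW3, hW4]
        · exfalso
          have hQ := hQ1 1 1 1 1 1 ⟨0, by decide⟩
          linarith only [hQ, hw0_1, ha0_1, hw1_2, ha1_2, hw2_3, ha2_3, hw3_4, ha3_4, hW0, hW1, hW2, hW3, hW4]
        · exfalso
          have hQ := hQ1 0 0 1 2 1 ⟨2, by decide⟩
          linarith only [hQ, hw0_1, ha0_1, hw1_2, ha1_2, hw2_3, ha2_3, hw3_4, ha3_4, hW0, hW1, hW2, hW3, hW4]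
        · exfalso
          have hQ := hQ1 1 1 1 1 1 ⟨0, by decide⟩
          linarith only [hQ, hw0_1, ha0_1, hw1_2, ha1_2, hw2_3, ha2_3, hw3_4, ha3_4, hW0, hW1, hW2, hW3, hW4]
      · exfalso
        have hQ := hQ1 2 2 2 1 0 ⟨0, by decide⟩
        linarith only [hQ, hw0_1, ha0_1, hw1_2, ha1_2, hw2_3, ha2_3, hW0, hW1, hW2, hW3]
      · exfalso
        have hQ := hQ1 1 1 1 1 0 ⟨0, by decide⟩
        linarith only [hQ, hw0_1, ha0_1, hw1_2, ha1_2, hw2_3, ha2_3, hW0, hW1, hW2, hW3]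
      · exfalso
        have hQ := hQ1 0 1 2 1 0 ⟨1, by decide⟩
        linarith only [hQ, hw0_1, ha0_1, hw1_2, ha1_2, hw2_3, ha2_3, hW0, hW1, hW2, hW3]
      · exfalso
        have hQ := hQ1 1 1 1 1 0 ⟨0, by decide⟩
        linarith only [hQ, hw0_1, ha0_1, hw1_2, ha1_2, hw2_3, ha2_3, hW0, hW1, hW2, hW3]
    · exfalso
      have hQ := hQ1 2 2 1 0 0 ⟨0, by decide⟩
      linarith only [hQ, hw0_1, ha0_1, hw1_2, ha1_2, hW0, hW1, hW2]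
    · exfalso
      have hQ := hQ1 1 1 1 0 0 ⟨0, by decide⟩
      linarith only [hQ, hw0_1, ha0_1, hw1_2, ha1_2, hW0, hW1, hW2]
    · exfalso
      have hQ := hQ1 1 2 1 0 0 ⟨0, by decide⟩
      linarith only [hQ, hw0_1, ha0_1, hw1_2, ha1_2, hW0, hW1, hW2]
    · exfalso
      have hQ := hQ1 1 1 1 0 0 ⟨0, by decide⟩
      linarith only [hQ, hw0_1, ha0_1, hw1_2, ha1_2, hW0, hW1, hW2]
  · rcases Groth.Agent.H37.edge_types T hn2 (v 1) (v 2) (hinj 1 2 (by decide)) (hv 1) (hv 2) hne1_2 with ⟨hw1_2, ha1_2⟩ | ⟨hw1_2, ha1_2⟩ | ⟨hw1_2, ha1_2⟩ | ⟨hw1_2, ha1_2⟩ | ⟨hw1_2, ha1_2⟩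
    · rcases Groth.Agent.H37.edge_types T hn2 (v 2) (v 3) (hinj 2 3 (by decide)) (hv 2) (hv 3) hne2_3 with ⟨hw2_3, ha2_3⟩ | ⟨hw2_3, ha2_3⟩ | ⟨hw2_3, ha2_3⟩ | ⟨hw2_3, ha2_3⟩ | ⟨hw2_3, ha2_3⟩
      · rcases Groth.Agent.H37.edge_types T hn2 (v 3) (v 4) (hinj 3 4 (by decide)) (hv 3) (hv 4) hne3_4 with ⟨hw3_4, ha3_4⟩ | ⟨hw3_4, ha3_4⟩ | ⟨hw3_4, ha3_4⟩ | ⟨hw3_4, ha3_4⟩ | ⟨hw3_4, ha3_4⟩
        · have eW0 : T.w (v 0) = 2 * T.w (v 1) := by omega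
          have eW2 : T.w (v 2) = T.w (v 1) := by omega
          have eW3 : T.w (v 3) = T.w (v 1) := by omega
          have eW4 : T.w (v 4) = T.w (v 1) := by omega
          have eA0_1 : T.a (v 0) (v 1) = 2 * T.w (v 1) := by omega
          have eA1_2 : T.a (v 1) (v 2) = T.w (v 1) := by omega
          have eA2_3 : T.a (v 2) (v 3) = T.w (v 1) := by omega
          have eA3_4 : T.a (v 3) (v 4) = T.w (v 1) := by omega
          simp only [eW0, eW2, eW3, eW4, eA0_1, eA1_2, eA2_3, eA3_4] at hr0 hr1 hr2 hr3 hr4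
          refine ⟨(fun j => v (Fin.rev j)), T.w (v 1), Or.inr (fun j => rfl), ?_⟩
          refine Or.inr (Or.inl ⟨?_, ?_, ?_, ?_, ?_, ?_, ?_, ?_, ?_, ?_, ?_, ?_, ?_, ?_⟩)
          all_goals ((try simp only [show Fin.rev (0 : Fin 5) = 4 from rfl, show Fin.rev (1 : Fin 5) = 3 from rfl, show Fin.rev (2 : Fin 5) = 2 from rfl, show Fin.rev (3 : Fin 5) = 1 from rfl, show Fin.rev (4 : Fin 5) = 0 from rfl]) <;> first | omega | nlinarith only [hW1, hr0, hr1, hr2, hr3, hr4])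
        · exfalso
          have hQ := hQ1 1 2 2 2 1 ⟨0, by decide⟩
          linarith only [hQ, hw0_1, ha0_1, hw1_2, ha1_2, hw2_3, ha2_3, hw3_4, ha3_4, hW0, hW1, hW2, hW3, hW4]
        · exfalso
          have hQ := hQ1 1 2 2 2 2 ⟨0, by decide⟩
          linarith only [hQ, hw0_1, ha0_1, hw1_2, ha1_2, hw2_3, ha2_3, hw3_4, ha3_4, hW0, hW1, hW2, hW3, hW4]
        · exfalso
          have hQ := hQ1 0 0 1 2 1 ⟨2, by decide⟩
          linarith only [hQ, hw0_1, ha0_1, hw1_2, ha1_2, hw2_3, ha2_3, hw3_4, ha3_4, hW0, hW1, hW2, hW3, hW4]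
        · exfalso
          have hQ := hQ1 0 0 1 2 3 ⟨2, by decide⟩
          linarith only [hQ, hw0_1, ha0_1, hw1_2, ha1_2, hw2_3, ha2_3, hw3_4, ha3_4, hW0, hW1, hW2, hW3, hW4]
      · exfalso
        have hQ := hQ1 1 2 2 1 0 ⟨0, by decide⟩
        linarith only [hQ, hw0_1, ha0_1, hw1_2, ha1_2, hw2_3, ha2_3, hW0, hW1, hW2, hW3]
      · exfalso
        have hQ := hQ1 1 2 2 2 0 ⟨0, by decide⟩
        linarith only [hQ, hw0_1, ha0_1, hw1_2, ha1_2, hw2_3, ha2_3, hW0, hW1, hW2, hW3]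
      · exfalso
        have hQ := hQ1 0 1 2 1 0 ⟨1, by decide⟩
        linarith only [hQ, hw0_1, ha0_1, hw1_2, ha1_2, hw2_3, ha2_3, hW0, hW1, hW2, hW3]
      · exfalso
        have hQ := hQ1 0 1 2 3 0 ⟨1, by decide⟩
        linarith only [hQ, hw0_1, ha0_1, hw1_2, ha1_2, hw2_3, ha2_3, hW0, hW1, hW2, hW3]
    · exfalso
      have hQ := hQ1 1 2 1 0 0 ⟨0, by decide⟩
      linarith only [hQ, hw0_1, ha0_1, hw1_2, ha1_2, hW0, hW1, hW2]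
    · exfalso
      have hQ := hQ1 1 2 2 0 0 ⟨0, by decide⟩
      linarith only [hQ, hw0_1, ha0_1, hw1_2, ha1_2, hW0, hW1, hW2]
    · exfalso
      have hQ := hQ1 1 2 1 0 0 ⟨0, by decide⟩
      linarith only [hQ, hw0_1, ha0_1, hw1_2, ha1_2, hW0, hW1, hW2]
    · exfalso
      have hQ := hQ1 1 2 2 0 0 ⟨0, by decide⟩
      linarith only [hQ, hw0_1, ha0_1, hw1_2, ha1_2, hW0, hW1, hW2]
  · rcases Groth.Agent.H37.edge_types T hn2 (v 1) (v 2) (hinj 1 2 (by decide)) (hv 1) (hv 2) hne1_2 with ⟨hw1_2, ha1_2⟩ | ⟨hw1_2, ha1_2⟩ | ⟨hw1_2, ha1_2⟩ | ⟨hw1_2, ha1_2⟩ | ⟨hw1_2, ha1_2⟩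
    · exfalso
      have hQ := hQ1 3 2 1 0 0 ⟨0, by decide⟩
      linarith only [hQ, hw0_1, ha0_1, hw1_2, ha1_2, hW0, hW1, hW2]
    · exfalso
      have hQ := hQ1 2 2 1 0 0 ⟨0, by decide⟩
      linarith only [hQ, hw0_1, ha0_1, hw1_2, ha1_2, hW0, hW1, hW2]
    · exfalso
      have hQ := hQ1 1 1 1 0 0 ⟨0, by decide⟩
      linarith only [hQ, hw0_1, ha0_1, hw1_2, ha1_2, hW0, hW1, hW2]
    · exfalso
      have hQ := hQ1 1 2 1 0 0 ⟨0, by decide⟩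
      linarith only [hQ, hw0_1, ha0_1, hw1_2, ha1_2, hW0, hW1, hW2]
    · exfalso
      have hQ := hQ1 1 1 1 0 0 ⟨0, by decide⟩
      linarith only [hQ, hw0_1, ha0_1, hw1_2, ha1_2, hW0, hW1, hW2]
  · rcases Groth.Agent.H37.edge_types T hn2 (v 1) (v 2) (hinj 1 2 (by decide)) (hv 1) (hv 2) hne1_2 with ⟨hw1_2, ha1_2⟩ | ⟨hw1_2, ha1_2⟩ | ⟨hw1_2, ha1_2⟩ | ⟨hw1_2, ha1_2⟩ | ⟨hw1_2, ha1_2⟩
    · exfalso
      have hQ := hQ1 1 2 1 0 0 ⟨0, by decide⟩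
      linarith only [hQ, hw0_1, ha0_1, hw1_2, ha1_2, hW0, hW1, hW2]
    · exfalso
      have hQ := hQ1 1 2 1 0 0 ⟨0, by decide⟩
      linarith only [hQ, hw0_1, ha0_1, hw1_2, ha1_2, hW0, hW1, hW2]
    · exfalso
      have hQ := hQ1 1 2 1 0 0 ⟨0, by decide⟩
      linarith only [hQ, hw0_1, ha0_1, hw1_2, ha1_2, hW0, hW1, hW2]
    · exfalso
      have hQ := hQ1 1 2 1 0 0 ⟨0, by decide⟩
      linarith only [hQ, hw0_1, ha0_1, hw1_2, ha1_2, hW0, hW1, hW2]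
    · exfalso
      have hQ := hQ1 1 2 1 0 0 ⟨0, by decide⟩
      linarith only [hQ, hw0_1, ha0_1, hw1_2, ha1_2, hW0, hW1, hW2]

end Groth.Agent.S7353
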