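import Groth.Statements.S7354
import Groth.Agent.H37.ChainLib
-- import your own Groth.Agent.* helpers here

set_option autoImplicit false
open Finset
open Models Models.NumericalType

namespace Groth.Agent.S7354

open Groth.Agent.H37

theorem fwd {n : ℕ} (T : Models.NumericalType n) (m : ℕ) (z : ℕ → Fin n)
    (u : Fin (m + 6) → Fin n) (hu : ∀ j : Fin (m + 6), u j = z j.val) (w0 : ℤ)
    (hW : ∀ k, 1 ≤ k → k ≤ m + 4 → T.w (z k) = w0)
    (hA : ∀ k, 1 ≤ k → k ≤ m + 3 → T.a (z k) (z (k + 1)) = w0)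
    (hα : T.w (z 0) = w0 ∧ T.a (z 0) (z 1) = w0)
    (hlast : (T.w (z (m + 5)) = w0 ∧ T.a (z (m + 4)) (z (m + 5)) = w0) ∨
      (T.w (z (m + 5)) = 2 * w0 ∧ T.a (z (m + 4)) (z (m + 5)) = 2 * w0) ∨
      (w0 = 2 * T.w (z (m + 5)) ∧ T.a (z (m + 4)) (z (m + 5)) = w0)) :
    ∃ w : ℤ,
      ((∀ j : Fin (m + 6), T.w (u j) = w) ∧
          (∀ j j' : Fin (m + 6), j'.val = j.val + 1 → T.a (u j) (u j') = w) ∨
        ((∀ j : Fin (m + 6), j.val + 1 < m + 6 → T.w (u j) = w) ∧
          (∀ j : Fin (m + 6), j.val + 1 = m + 6 → T.w (u j) = 2 * w) ∧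
          (∀ j j' : Fin (m + 6), j'.val = j.val + 1 → j'.val + 1 < m + 6 → T.a (u j) (u j') = w) ∧
          (∀ j j' : Fin (m + 6), j'.val = j.val + 1 → j'.val + 1 = m + 6 →
            T.a (u j) (u j') = 2 * w)) ∨
        ((∀ j : Fin (m + 6), j.val + 1 < m + 6 → T.w (u j) = 2 * w) ∧
          (∀ j : Fin (m + 6), j.val + 1 = m + 6 → T.w (u j) = w) ∧
          (∀ j j' : Fin (m + 6), j'.val = j.val + 1 → T.a (u j) (u j') = 2 * w))) := by
  have hWall : ∀ k, k ≤ m + 4 → T.w (z k) = w0 := by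
    intro k hk
    rcases Nat.eq_zero_or_pos k with h | h
    · subst h; exact hα.1
    · exact hW k h hk
  have hAall : ∀ k, k ≤ m + 3 → T.a (z k) (z (k + 1)) = w0 := by
    intro k hk
    rcases Nat.eq_zero_or_pos k with h | h
    · subst h; exact hα.2
    · exact hA k h hk
  rcases hlast with ⟨h1, h2⟩ | ⟨h1, h2⟩ | ⟨h1, h2⟩
  · refine ⟨w0, Or.inl ⟨?_, ?_⟩⟩
    · intro j
      rw [hu]
      have hj := j.2
      rcases (by omega : j.val ≤ m + 4 ∨ j.val = m + 5) with h | h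
      · exact hWall _ h
      · rw [h]; exact h1
    · intro j j' hjj'
      rw [hu, hu, hjj']
      have hj := j'.2
      rcases (by omega : j.val ≤ m + 3 ∨ j.val = m + 4) with h | h
      · exact hAall _ h
      · rw [h]; exact h2
  · refine ⟨w0, Or.inr (Or.inl ⟨?_, ?_, ?_, ?_⟩)⟩
    · intro j hj
      rw [hu]
      exact hWall _ (by omega)
    · intro j hj
      rw [hu]
      have : j.val = m + 5 := by omega
      rw [this]; exact h1
    · intro j j' hjj' hj'
      rw [hu, hu, hjj']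
      exact hAall _ (by omega)
    · intro j j' hjj' hj'
      rw [hu, hu, hjj']
      have : j.val = m + 4 := by omega
      rw [this]; exact h2
  · refine ⟨T.w (z (m + 5)), Or.inr (Or.inr ⟨?_, ?_, ?_⟩)⟩
    · intro j hj
      rw [hu, hWall _ (by omega)]
      exact h1
    · intro j hj
      rw [hu]
      have : j.val = m + 5 := by omega
      rw [this]
    · intro j j' hjj'
      rw [hu, hu, hjj']
      have hj := j'.2
      rcases (by omega : j.val ≤ m + 3 ∨ j.val = m + 4) with h | h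
      · rw [hAall _ h]; exact h1
      · rw [h, h2]; exact h1

theorem bad_ends {n : ℕ} (T : Models.NumericalType n) (m : ℕ) (hn : m + 6 < n) (x : ℕ → Fin n)
    (hinj : ∀ a b, a < m + 6 → b < m + 6 → x a = x b → a = b)
    (hm2 : ∀ i, i < m + 6 → T.IsMinusTwo (x i)) (w0 : ℤ)
    (hW : ∀ k, 1 ≤ k → k ≤ m + 4 → T.w (x k) = w0)
    (hA : ∀ k, 1 ≤ k → k ≤ m + 3 → T.a (x k) (x (k + 1)) = w0)
    (y0 yl : ℤ) (hy0 : 0 < y0) (hyl : 0 < yl)
    (r0 : 0 ≤ -2 * T.w (x 0) * y0 + T.a (x 0) (x 1) * 2)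
    (r1 : 0 ≤ -2 * w0 * 2 + T.a (x 0) (x 1) * y0 + w0 * 2)
    (rl1 : 0 ≤ -2 * w0 * 2 + w0 * 2 + T.a (x (m + 4)) (x (m + 5)) * yl)
    (rl : 0 ≤ -2 * T.w (x (m + 5)) * yl + T.a (x (m + 4)) (x (m + 5)) * 2) : False := by
  classical
  obtain ⟨v, hv⟩ : ∃ v : Fin (m + 6) ↪ Fin n, ∀ p, v p = x p.val :=
    ⟨⟨fun p => x p.val, fun a b h => Fin.ext (hinj _ _ a.2 b.2 h)⟩, fun _ => rfl⟩
  obtain ⟨y, hyA, hyB, hyC⟩ : ∃ y : Fin (m + 6) → ℤ, (∀ p, p.val = 0 → y p = y0) ∧
      (∀ p, p.val = m + 5 → y p = yl) ∧ (∀ p, p.val ≠ 0 → p.val ≠ m + 5 → y p = 2) := by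
    refine ⟨fun p => if p.val = 0 then y0 else if p.val = m + 5 then yl else 2, ?_, ?_, ?_⟩
    · intro p h; simp [h]
    · intro p h; simp [h]
    · intro p h1 h2; simp [h1, h2]
  have hdiag : ∀ i, i < m + 6 → T.a (x i) (x i) = -2 * T.w (x i) := fun i hi => (hm2 i hi).2
  refine no_rows_nonneg T v hn y ?_ ⟨⟨1, by omega⟩, ?_⟩ ?_
  · intro p
    have hp := p.2
    rcases (by omega : p.val = 0 ∨ p.val = m + 5 ∨ (p.val ≠ 0 ∧ p.val ≠ m + 5)) with h | h | h
    · rw [hyA p h]; exact hy0.le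
    · rw [hyB p h]; exact hyl.le
    · rw [hyC p h.1 h.2]; norm_num
  · rw [hyC _ (by simp) (by simp <;> omega)]; norm_num
  · intro p
    have hp := p.2
    rcases (by omega : p.val = 0 ∨ p.val = 1 ∨ (2 ≤ p.val ∧ p.val ≤ m + 3) ∨ p.val = m + 4 ∨
      p.val = m + 5) with h | h | h | h | h
    · -- row 0
      refine ⟨{⟨1, by omega⟩}, ?_, ?_⟩
      · simp only [Finset.mem_singleton, Fin.ext_iff]; omega
      · have e1 : y p = y0 := hyA p h
        have e2 : y ⟨1, by omega⟩ = 2 := hyC _ (by simp) (by simp <;> omega)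
        rw [Finset.sum_singleton, hv, hv, e1, e2]
        rw [h, hdiag 0 (by omega)]
        linarith
    · -- row 1
      have hne : (⟨0, by omega⟩ : Fin (m + 6)) ≠ ⟨2, by omega⟩ := by
        simp only [ne_eq, Fin.mk.injEq]; omega
      refine ⟨{⟨0, by omega⟩, ⟨2, by omega⟩}, ?_, ?_⟩
      · simp only [Finset.mem_insert, Finset.mem_singleton, Fin.ext_iff]; omega
      · have e1 : y p = 2 := hyC p (by omega) (by omega)
        have e2 : y ⟨0, by omega⟩ = y0 := hyA _ rfl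
        have e3 : y ⟨2, by omega⟩ = 2 := hyC _ (by simp) (by simp <;> omega)
        rw [Finset.sum_pair hne, hv, hv, hv, e1, e2, e3]
        have a12 : T.a (x 1) (x 2) = w0 := hA 1 le_rfl (by omega)
        rw [h, hdiag 1 (by omega), hW 1 le_rfl (by omega), a_symm T (x 1) (x 0), a12]
        linarith
    · -- interior rows
      obtain ⟨k, hk⟩ : ∃ k, p.val = k + 1 := ⟨p.val - 1, by omega⟩
      have hne : (⟨k, by omega⟩ : Fin (m + 6)) ≠ ⟨k + 2, by omega⟩ := by
        simp only [ne_eq, Fin.mk.injEq]; omega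
      refine ⟨{⟨k, by omega⟩, ⟨k + 2, by omega⟩}, ?_, ?_⟩
      · simp only [Finset.mem_insert, Finset.mem_singleton, Fin.ext_iff]; omega
      · have e1 : y p = 2 := hyC p (by omega) (by omega)
        have e2 : y ⟨k, by omega⟩ = 2 := hyC _ (by simp <;> omega) (by simp <;> omega)
        have e3 : y ⟨k + 2, by omega⟩ = 2 := hyC _ (by simp) (by simp <;> omega)
        rw [Finset.sum_pair hne, hv, hv, hv, e1, e2, e3]
        have a1 : T.a (x k) (x (k + 1)) = w0 := hA k (by omega) (by omega)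
        have a2 : T.a (x (k + 1)) (x (k + 2)) = w0 := hA (k + 1) (by omega) (by omega)
        rw [hk, hdiag (k + 1) (by omega), hW (k + 1) (by omega) (by omega),
          a_symm T (x (k + 1)) (x k), a1, a2]
        linarith
    · -- row m+4
      have hne : (⟨m + 3, by omega⟩ : Fin (m + 6)) ≠ ⟨m + 5, by omega⟩ := by
        simp only [ne_eq, Fin.mk.injEq]; omega
      refine ⟨{⟨m + 3, by omega⟩, ⟨m + 5, by omega⟩}, ?_, ?_⟩
      · simp only [Finset.mem_insert, Finset.mem_singleton, Fin.ext_iff]; omega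
      · have e1 : y p = 2 := hyC p (by omega) (by omega)
        have e2 : y ⟨m + 3, by omega⟩ = 2 := hyC _ (by simp) (by simp)
        have e3 : y ⟨m + 5, by omega⟩ = yl := hyB _ rfl
        rw [Finset.sum_pair hne, hv, hv, hv, e1, e2, e3]
        have a1 : T.a (x (m + 3)) (x (m + 4)) = w0 := hA (m + 3) (by omega) le_rfl
        rw [h, hdiag (m + 4) (by omega), hW (m + 4) (by omega) le_rfl,
          a_symm T (x (m + 4)) (x (m + 3)), a1]
        linarith
    · -- row m+5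
      refine ⟨{⟨m + 4, by omega⟩}, ?_, ?_⟩
      · simp only [Finset.mem_singleton, Fin.ext_iff]; omega
      · have e1 : y p = yl := hyB p h
        have e2 : y ⟨m + 4, by omega⟩ = 2 := hyC _ (by simp) (by simp)
        rw [Finset.sum_singleton, hv, hv, e1, e2]
        rw [h, hdiag (m + 5) (by omega), a_symm T (x (m + 5)) (x (m + 4))]
        linarith

/-- Let T be a numerical type on n indices, t > 5 with n > t, and i_1, …, i_t distinct (-2)-indices with
a_{i_j i_{j+1}} nonzero for j = 1, …, t - 1. Then, after possibly reversing the order of the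
indices, for some integer w either (A) w_{i_1} = … = w_{i_t} = w and a_{i_j i_{j+1}} = w for all j;
or (C) w_{i_1} = … = w_{i_{t-1}} = w, w_{i_t} = 2w, a_{i_j i_{j+1}} = w for j < t - 1 and a_{i_{t-1}
i_t} = 2w; or (B) w_{i_1} = … = w_{i_{t-1}} = 2w, w_{i_t} = w and a_{i_j i_{j+1}} = 2w for all j;
and in every case a_{i_j i_k} = 0 whenever k > j + 1. -/
theorem result {n : ℕ} (T : Models.NumericalType n) (t : ℕ) (ht : 5 < t) (hn : t < n)
    (v : Fin t ↪ Fin n) (hv : ∀ j, T.IsMinusTwo (v j))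
    (hchain : ∀ j j' : Fin t, j'.val = j.val + 1 → T.a (v j) (v j') ≠ 0) :
    ∃ (u : Fin t → Fin n) (w : ℤ), ((∀ j, u j = v j) ∨ (∀ j, u j = v (Fin.rev j))) ∧
      (∀ j k : Fin t, j.val + 1 < k.val → T.a (u j) (u k) = 0) ∧
      ((∀ j : Fin t, T.w (u j) = w) ∧ (∀ j j' : Fin t, j'.val = j.val + 1 → T.a (u j) (u j') = w) ∨
        ((∀ j : Fin t, j.val + 1 < t → T.w (u j) = w) ∧ (∀ j : Fin t, j.val + 1 = t → T.w (u j) = 2 * w) ∧
          (∀ j j' : Fin t, j'.val = j.val + 1 → j'.val + 1 < t → T.a (u j) (u j') = w) ∧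
          (∀ j j' : Fin t, j'.val = j.val + 1 → j'.val + 1 = t → T.a (u j) (u j') = 2 * w)) ∨
        ((∀ j : Fin t, j.val + 1 < t → T.w (u j) = 2 * w) ∧ (∀ j : Fin t, j.val + 1 = t → T.w (u j) = w) ∧
          (∀ j j' : Fin t, j'.val = j.val + 1 → T.a (u j) (u j') = 2 * w))) := by
  obtain ⟨m, rfl⟩ : ∃ m, t = m + 6 := ⟨t - 6, by omega⟩
  obtain ⟨x, hx⟩ : ∃ x : ℕ → Fin n, ∀ j : Fin (m + 6), x j.val = v j :=
    ⟨fun k => if h : k < m + 6 then v ⟨k, h⟩ else v ⟨0, by omega⟩, fun j => by simp [j.2]⟩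
  have hx' : ∀ i (hi : i < m + 6), x i = v ⟨i, hi⟩ := fun i hi => hx ⟨i, hi⟩
  have hxinj : ∀ a b, a < m + 6 → b < m + 6 → x a = x b → a = b := by
    intro a b ha hb h
    rw [hx' a ha, hx' b hb] at h
    exact congrArg Fin.val (v.injective h)
  have hxm2 : ∀ i, i < m + 6 → T.IsMinusTwo (x i) := by
    intro i hi
    rw [hx' i hi]
    exact hv _
  have hxe : ∀ i, i + 1 < m + 6 → T.a (x i) (x (i + 1)) ≠ 0 := by
    intro i hi
    rw [hx' i (by omega), hx' (i + 1) hi]
    exact hchain _ _ rfl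
  have chords := path_chords T (m + 6) hn x hxinj hxm2 hxe
  obtain ⟨hWm, hAm, hfirst, hlast⟩ := path_normal_form T (m + 1) (by omega) x
    (fun a b ha hb => hxinj a b (by omega) (by omega))
    (fun i hi => hxm2 i (by omega)) (fun i hi => hxe i (by omega)) (m + 4) (m + 5)
    (by omega) (by omega)
  have hWm' : ∀ k, 1 ≤ k → k ≤ m + 4 → T.w (x k) = T.w (x 1) :=
    fun k h1 h2 => hWm k h1 (by omega)
  have hAm' : ∀ k, 1 ≤ k → k ≤ m + 3 → T.a (x k) (x (k + 1)) = T.w (x 1) :=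
    fun k h1 h2 => hAm k h1 (by omega)
  rcases hfirst with hα | hfb
  · -- forward orientation
    obtain ⟨w, hdisj⟩ := fwd T m x v (fun j => (hx j).symm) (T.w (x 1)) hWm' hAm' hα hlast
    refine ⟨v, w, Or.inl (fun _ => rfl), ?_, hdisj⟩
    intro j k hjk
    rw [← hx j, ← hx k]
    exact chords _ _ hjk k.2
  · rcases hlast with hα' | hlb
    · -- reversed orientation
      obtain ⟨z, hz⟩ : ∃ z : ℕ → Fin n, ∀ k, z k = x (m + 5 - k) := ⟨_, fun _ => rfl⟩
      have hz0 : z (m + 5) = x 0 := by rw [hz]; exact congrArg x (by omega)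
      have hz1 : z (m + 4) = x 1 := by rw [hz]; exact congrArg x (by omega)
      have hzl : z 0 = x (m + 5) := by rw [hz]; exact congrArg x (by omega)
      have hzl1 : z 1 = x (m + 4) := by rw [hz]; exact congrArg x (by omega)
      have hu : ∀ j : Fin (m + 6), v (Fin.rev j) = z j.val := by
        intro j
        rw [hz, ← hx (Fin.rev j), Fin.val_rev]
        have := j.2
        exact congrArg x (by omega)
      have hWz : ∀ k, 1 ≤ k → k ≤ m + 4 → T.w (z k) = T.w (x 1) := by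
        intro k h1 h2
        rw [hz]
        exact hWm' _ (by omega) (by omega)
      have hAz : ∀ k, 1 ≤ k → k ≤ m + 3 → T.a (z k) (z (k + 1)) = T.w (x 1) := by
        intro k h1 h2
        rw [hz, hz, a_symm T]
        have e : m + 5 - k = (m + 5 - (k + 1)) + 1 := by omega
        rw [e]
        exact hAm' _ (by omega) (by omega)
      have hαz : T.w (z 0) = T.w (x 1) ∧ T.a (z 0) (z 1) = T.w (x 1) := by
        rw [hzl, hzl1, a_symm T]
        exact hα'
      have hlastz : (T.w (z (m + 5)) = T.w (x 1) ∧ T.a (z (m + 4)) (z (m + 5)) = T.w (x 1)) ∨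
          (T.w (z (m + 5)) = 2 * T.w (x 1) ∧ T.a (z (m + 4)) (z (m + 5)) = 2 * T.w (x 1)) ∨
          (T.w (x 1) = 2 * T.w (z (m + 5)) ∧ T.a (z (m + 4)) (z (m + 5)) = T.w (x 1)) := by
        rw [hz0, hz1, a_symm T (x 1) (x 0)]
        exact Or.inr hfb
      obtain ⟨w, hdisj⟩ := fwd T m z (fun j => v (Fin.rev j)) hu (T.w (x 1)) hWz hAz hαz hlastz
      refine ⟨fun j => v (Fin.rev j), w, Or.inr (fun _ => rfl), ?_, hdisj⟩
      intro j k hjk
      show T.a (v (Fin.rev j)) (v (Fin.rev k)) = 0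
      rw [hu j, hu k, hz, hz, a_symm T]
      have hj := j.2
      have hk := k.2
      exact chords _ _ (by omega) (by omega)
    · -- both ends bad: contradiction
      exfalso
      rcases hfb with hβ | hγ <;> rcases hlb with hβ' | hγ'
      · exact bad_ends T m hn x hxinj hxm2 (T.w (x 1)) hWm' hAm' 1 1 (by norm_num) (by norm_num)
          (by linarith [hβ.1, hβ.2]) (by linarith [hβ.1, hβ.2])
          (by linarith [hβ'.1, hβ'.2]) (by linarith [hβ'.1, hβ'.2])
      · exact bad_ends T m hn x hxinj hxm2 (T.w (x 1)) hWm' hAm' 1 2 (by norm_num) (by norm_num)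
          (by linarith [hβ.1, hβ.2]) (by linarith [hβ.1, hβ.2])
          (by linarith [hγ'.1, hγ'.2]) (by linarith [hγ'.1, hγ'.2])
      · exact bad_ends T m hn x hxinj hxm2 (T.w (x 1)) hWm' hAm' 2 1 (by norm_num) (by norm_num)
          (by linarith [hγ.1, hγ.2]) (by linarith [hγ.1, hγ.2])
          (by linarith [hβ'.1, hβ'.2]) (by linarith [hβ'.1, hβ'.2])
      · exact bad_ends T m hn x hxinj hxm2 (T.w (x 1)) hWm' hAm' 2 2 (by norm_num) (by norm_num)
          (by linarith [hγ.1, hγ.2]) (by linarith [hγ.1, hγ.2])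
          (by linarith [hγ'.1, hγ'.2]) (by linarith [hγ'.1, hγ'.2])

end Groth.Agent.S7354
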