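import Groth.Statements.S7355
import Groth.Agent.H37.ChainLib
import Groth.Agent.S7346
-- import your own Groth.Agent.* helpers here

set_option autoImplicit false
open Finset
open Models Models.NumericalType

namespace Groth.Agent.S7355

open Groth.Agent.H37

theorem bad_start {n : ℕ} (T : Models.NumericalType n) (m : ℕ) (hn : m + 6 < n) (x : ℕ → Fin n)
    (hinj : ∀ a b, a < m + 6 → b < m + 6 → x a = x b → a = b)
    (hm2 : ∀ i, i < m + 6 → T.IsMinusTwo (x i)) (w0 : ℤ)
    (hW : ∀ k, 1 ≤ k → k ≤ m + 5 → T.w (x k) = w0)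
    (hA : ∀ k, 1 ≤ k → k ≤ m + 3 → T.a (x k) (x (k + 1)) = w0)
    (hB : T.a (x (m + 3)) (x (m + 5)) = w0)
    (y0 : ℤ) (hy0 : 0 < y0)
    (r0 : 0 ≤ -2 * T.w (x 0) * y0 + T.a (x 0) (x 1) * 2)
    (r1 : 0 ≤ -2 * w0 * 2 + T.a (x 0) (x 1) * y0 + w0 * 2) : False := by
  classical
  obtain ⟨v, hv⟩ : ∃ v : Fin (m + 6) ↪ Fin n, ∀ p, v p = x p.val :=
    ⟨⟨fun p => x p.val, fun a b h => Fin.ext (hinj _ _ a.2 b.2 h)⟩, fun _ => rfl⟩
  obtain ⟨y, hyA, hyB, hyC⟩ : ∃ y : Fin (m + 6) → ℤ, (∀ p, p.val = 0 → y p = y0) ∧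
      (∀ p, m + 4 ≤ p.val → y p = 1) ∧ (∀ p, p.val ≠ 0 → p.val < m + 4 → y p = 2) := by
    refine ⟨fun p => if p.val = 0 then y0 else if m + 4 ≤ p.val then 1 else 2, ?_, ?_, ?_⟩
    · intro p h; simp [h]
    · intro p h
      have : p.val ≠ 0 := by omega
      simp [h, this]
    · intro p h1 h2
      have : ¬ (m + 4 ≤ p.val) := by omega
      simp [h1, this]
  have hdiag : ∀ i, i < m + 6 → T.a (x i) (x i) = -2 * T.w (x i) := fun i hi => (hm2 i hi).2
  refine no_rows_nonneg T v hn y ?_ ⟨⟨1, by omega⟩, ?_⟩ ?_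
  · intro p
    have hp := p.2
    rcases (by omega : p.val = 0 ∨ m + 4 ≤ p.val ∨ (p.val ≠ 0 ∧ p.val < m + 4)) with h | h | h
    · rw [hyA p h]; exact hy0.le
    · rw [hyB p h]; norm_num
    · rw [hyC p h.1 h.2]; norm_num
  · rw [hyC _ (by simp) (by simp <;> omega)]; norm_num
  · intro p
    have hp := p.2
    rcases (by omega : p.val = 0 ∨ p.val = 1 ∨ (2 ≤ p.val ∧ p.val ≤ m + 2) ∨ p.val = m + 3 ∨
      p.val = m + 4 ∨ p.val = m + 5) with h | h | h | h | h | h
    · -- row 0
      refine ⟨{⟨1, by omega⟩}, ?_, ?_⟩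
      · simp only [Finset.mem_singleton, Fin.ext_iff]; omega
      · have e1 : y p = y0 := hyA p h
        have e2 : y ⟨1, by omega⟩ = 2 := hyC _ (by simp) (by simp <;> omega)
        rw [Finset.sum_singleton, hv, hv, e1, e2]
        rw [h, hdiag 0 (by omega)]
        linarith
    · -- row 1
      have hne : (⟨0, by omega⟩ : Fin (m + 6)) ≠ ⟨2, by omega⟩ := by
        simp only [ne_eq, Fin.mk.injEq]; omega
      refine ⟨{⟨0, by omega⟩, ⟨2, by omega⟩}, ?_, ?_⟩
      · simp only [Finset.mem_insert, Finset.mem_singleton, Fin.ext_iff]; omega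
      · have e1 : y p = 2 := hyC p (by omega) (by omega)
        have e2 : y ⟨0, by omega⟩ = y0 := hyA _ rfl
        have e3 : y ⟨2, by omega⟩ = 2 := hyC _ (by simp) (by simp <;> omega)
        rw [Finset.sum_pair hne, hv, hv, hv, e1, e2, e3]
        have a12 : T.a (x 1) (x 2) = w0 := hA 1 le_rfl (by omega)
        rw [h, hdiag 1 (by omega), hW 1 le_rfl (by omega), a_symm T (x 1) (x 0), a12]
        linarith
    · -- interior rows
      obtain ⟨k, hk⟩ : ∃ k, p.val = k + 1 := ⟨p.val - 1, by omega⟩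
      have hne : (⟨k, by omega⟩ : Fin (m + 6)) ≠ ⟨k + 2, by omega⟩ := by
        simp only [ne_eq, Fin.mk.injEq]; omega
      refine ⟨{⟨k, by omega⟩, ⟨k + 2, by omega⟩}, ?_, ?_⟩
      · simp only [Finset.mem_insert, Finset.mem_singleton, Fin.ext_iff]; omega
      · have e1 : y p = 2 := hyC p (by omega) (by omega)
        have e2 : y ⟨k, by omega⟩ = 2 := hyC _ (by simp <;> omega) (by simp <;> omega)
        have e3 : y ⟨k + 2, by omega⟩ = 2 := hyC _ (by simp) (by simp <;> omega)
        rw [Finset.sum_pair hne, hv, hv, hv, e1, e2, e3]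
        have a1 : T.a (x k) (x (k + 1)) = w0 := hA k (by omega) (by omega)
        have a2 : T.a (x (k + 1)) (x (k + 2)) = w0 := hA (k + 1) (by omega) (by omega)
        rw [hk, hdiag (k + 1) (by omega), hW (k + 1) (by omega) (by omega),
          a_symm T (x (k + 1)) (x k), a1, a2]
        linarith
    · -- row m+3 (the fork)
      have hne1 : (⟨m + 4, by omega⟩ : Fin (m + 6)) ≠ ⟨m + 5, by omega⟩ := by
        simp only [ne_eq, Fin.mk.injEq]; omega
      have hnotin : (⟨m + 2, by omega⟩ : Fin (m + 6)) ∉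
          ({⟨m + 4, by omega⟩, ⟨m + 5, by omega⟩} : Finset (Fin (m + 6))) := by
        simp only [Finset.mem_insert, Finset.mem_singleton, Fin.mk.injEq]; omega
      refine ⟨{⟨m + 2, by omega⟩, ⟨m + 4, by omega⟩, ⟨m + 5, by omega⟩}, ?_, ?_⟩
      · simp only [Finset.mem_insert, Finset.mem_singleton, Fin.ext_iff]; omega
      · have e1 : y p = 2 := hyC p (by omega) (by omega)
        have e2 : y ⟨m + 2, by omega⟩ = 2 := hyC _ (by simp) (by simp)
        have e3 : y ⟨m + 4, by omega⟩ = 1 := hyB _ (by simp)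
        have e4 : y ⟨m + 5, by omega⟩ = 1 := hyB _ (by simp)
        rw [Finset.sum_insert hnotin, Finset.sum_pair hne1, hv, hv, hv, hv, e1, e2, e3, e4]
        have a1 : T.a (x (m + 2)) (x (m + 3)) = w0 := hA (m + 2) (by omega) (by omega)
        have a2 : T.a (x (m + 3)) (x (m + 4)) = w0 := hA (m + 3) (by omega) le_rfl
        rw [h, hdiag (m + 3) (by omega), hW (m + 3) (by omega) (by omega),
          a_symm T (x (m + 3)) (x (m + 2)), a1, a2, hB]
        linarith
    · -- row m+4
      refine ⟨{⟨m + 3, by omega⟩}, ?_, ?_⟩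
      · simp only [Finset.mem_singleton, Fin.ext_iff]; omega
      · have e1 : y p = 1 := hyB p (by omega)
        have e2 : y ⟨m + 3, by omega⟩ = 2 := hyC _ (by simp) (by simp)
        rw [Finset.sum_singleton, hv, hv, e1, e2]
        have a2 : T.a (x (m + 3)) (x (m + 4)) = w0 := hA (m + 3) (by omega) le_rfl
        rw [h, hdiag (m + 4) (by omega), hW (m + 4) (by omega) (by omega),
          a_symm T (x (m + 4)) (x (m + 3)), a2]
        linarith
    · -- row m+5
      refine ⟨{⟨m + 3, by omega⟩}, ?_, ?_⟩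
      · simp only [Finset.mem_singleton, Fin.ext_iff]; omega
      · have e1 : y p = 1 := hyB p (by omega)
        have e2 : y ⟨m + 3, by omega⟩ = 2 := hyC _ (by simp) (by simp)
        rw [Finset.sum_singleton, hv, hv, e1, e2]
        rw [h, hdiag (m + 5) (by omega), hW (m + 5) (by omega) le_rfl,
          a_symm T (x (m + 5)) (x (m + 3)), hB]
        linarith

/-- Classification of proper subgraphs of type D: let T be a numerical type on n indices, t > 4 with n >
t + 1, and i_1, …, i_{t+1} distinct (-2)-indices such that a_{i_j i_{j+1}} is nonzero for j = 1, …,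
t - 1 and a_{i_{t-1} i_{t+1}} is nonzero. Then for some integer w one has w_{i_1} = … = w_{i_{t+1}}
= w, a_{i_j i_{j+1}} = w for j < t, a_{i_{t-1} i_{t+1}} = w, and a_{i_j i_k} = 0 for all other pairs
j ≠ k. -/
theorem result {n : ℕ} (T : Models.NumericalType n) (t : ℕ) (ht : 4 < t) (hn : t + 1 < n)
    (v : Fin (t + 1) ↪ Fin n) (hv : ∀ j, T.IsMinusTwo (v j))
    (hchain : ∀ j j' : Fin (t + 1), j'.val = j.val + 1 → j'.val < t → T.a (v j) (v j') ≠ 0)
    (hbranch : ∀ j j' : Fin (t + 1), j.val + 2 = t → j'.val = t → T.a (v j) (v j') ≠ 0) :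
    ∃ w : ℤ, (∀ j : Fin (t + 1), T.w (v j) = w) ∧
      (∀ j j' : Fin (t + 1), j'.val = j.val + 1 → j'.val < t → T.a (v j) (v j') = w) ∧
      (∀ j j' : Fin (t + 1), j.val + 2 = t → j'.val = t → T.a (v j) (v j') = w) ∧
      (∀ j k : Fin (t + 1), j.val < k.val → ¬ (k.val = j.val + 1 ∧ k.val < t) → ¬ (j.val + 2 = t ∧ k.val = t) →
        T.a (v j) (v k) = 0) := by
  obtain ⟨m, rfl⟩ : ∃ m, t = m + 5 := ⟨t - 5, by omega⟩
  obtain ⟨x, hx⟩ : ∃ x : ℕ → Fin n, ∀ j : Fin (m + 5 + 1), x j.val = v j :=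
    ⟨fun k => if h : k < m + 5 + 1 then v ⟨k, h⟩ else v ⟨0, by omega⟩, fun j => by simp [j.2]⟩
  have hx' : ∀ i (hi : i < m + 5 + 1), x i = v ⟨i, hi⟩ := fun i hi => hx ⟨i, hi⟩
  have hxinj : ∀ a b, a < m + 6 → b < m + 6 → x a = x b → a = b := by
    intro a b ha hb h
    rw [hx' a ha, hx' b hb] at h
    exact congrArg Fin.val (v.injective h)
  have hxm2 : ∀ i, i < m + 6 → T.IsMinusTwo (x i) := by
    intro i hi
    rw [hx' i hi]
    exact hv _
  have hxe : ∀ i, i + 1 < m + 5 → T.a (x i) (x (i + 1)) ≠ 0 := by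
    intro i hi
    rw [hx' i (by omega), hx' (i + 1) (by omega)]
    exact hchain _ _ rfl hi
  have hxb : T.a (x (m + 3)) (x (m + 5)) ≠ 0 := by
    rw [hx' (m + 3) (by omega), hx' (m + 5) (by omega)]
    exact hbranch _ _ rfl rfl
  -- chords
  have c1 := path_chords T (m + 5) (by omega) x
    (fun a b ha hb => hxinj a b (by omega) (by omega)) (fun i hi => hxm2 i (by omega)) hxe
  have c3 : T.a (x (m + 4)) (x (m + 5)) = 0 := by
    by_contra hne
    refine no_cycle T 3 le_rfl (by omega) (fun i => x (m + 3 + i)) ?_ ?_ ?_ ?_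
    · intro a b ha hb h
      have := hxinj _ _ (by omega) (by omega) h
      omega
    · intro i hi
      exact hxm2 _ (by omega)
    · intro i hi
      rcases (by omega : i = 0 ∨ i = 1) with rfl | rfl
      · exact hxe (m + 3) (by omega)
      · exact hne
    · show T.a (x (m + 5)) (x (m + 3)) ≠ 0
      rw [a_symm T]
      exact hxb
  have c2 : ∀ j, j ≤ m + 2 → T.a (x j) (x (m + 5)) = 0 := by
    intro j hj
    by_contra hne
    obtain ⟨c, hcA, hcB⟩ : ∃ c : ℕ → Fin n, (∀ i, i ≤ m + 3 - j → c i = x (j + i)) ∧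
        (∀ i, m + 3 - j < i → c i = x (m + 5)) := by
      refine ⟨fun i => if i ≤ m + 3 - j then x (j + i) else x (m + 5), ?_, ?_⟩
      · intro i hi; simp [hi]
      · intro i hi
        have : ¬ (i ≤ m + 3 - j) := by omega
        simp [this]
    refine no_cycle T (m + 5 - j) (by omega) (by omega) c ?_ ?_ ?_ ?_
    · intro a b ha hb h
      rcases (by omega : a ≤ m + 3 - j ∨ m + 3 - j < a) with ha' | ha' <;>
        rcases (by omega : b ≤ m + 3 - j ∨ m + 3 - j < b) with hb' | hb'
      · rw [hcA a ha', hcA b hb'] at h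
        have := hxinj _ _ (by omega) (by omega) h
        omega
      · rw [hcA a ha', hcB b hb'] at h
        have := hxinj _ _ (by omega) (by omega) h
        omega
      · rw [hcB a ha', hcA b hb'] at h
        have := hxinj _ _ (by omega) (by omega) h
        omega
      · omega
    · intro i hi
      rcases (by omega : i ≤ m + 3 - j ∨ m + 3 - j < i) with h | h
      · rw [hcA i h]; exact hxm2 _ (by omega)
      · rw [hcB i h]; exact hxm2 _ (by omega)
    · intro i hi
      rcases (by omega : i + 1 ≤ m + 3 - j ∨ i = m + 3 - j) with h | h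
      · rw [hcA i (by omega), hcA (i + 1) h, ← Nat.add_assoc]
        exact hxe _ (by omega)
      · rw [hcA i (by omega), hcB (i + 1) (by omega)]
        have e : j + i = m + 3 := by omega
        rw [e]
        exact hxb
    · rw [hcB (m + 5 - j - 1) (by omega), hcA 0 (by omega), Nat.add_zero, a_symm T]
      exact hne
  -- normal form of the path
  obtain ⟨hWm, hAm, hfirst, -⟩ := path_normal_form T m (by omega) x
    (fun a b ha hb => hxinj a b (by omega) (by omega))
    (fun i hi => hxm2 i (by omega)) hxe (m + 3) (m + 4) rfl rfl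
  -- the fork
  have hbound : ∀ i : Fin 4, ![m + 3, m + 2, m + 4, m + 5] i < m + 6 := by
    intro i; fin_cases i <;> simp <;> omega
  obtain ⟨v4, h40, h41, h42, h43⟩ : ∃ v4 : Fin 4 ↪ Fin n, v4 0 = x (m + 3) ∧ v4 1 = x (m + 2) ∧
      v4 2 = x (m + 4) ∧ v4 3 = x (m + 5) := by
    refine ⟨⟨fun i => x (![m + 3, m + 2, m + 4, m + 5] i), ?_⟩, rfl, rfl, rfl, rfl⟩
    intro a b h
    have := hxinj _ _ (hbound a) (hbound b) h
    fin_cases a <;> fin_cases b <;> first | rfl | (exfalso; simp at this <;> omega)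
  have hv4 : ∀ j, T.IsMinusTwo (v4 j) := by
    intro j
    fin_cases j
    · show T.IsMinusTwo (v4 0); rw [h40]; exact hxm2 _ (by omega)
    · show T.IsMinusTwo (v4 1); rw [h41]; exact hxm2 _ (by omega)
    · show T.IsMinusTwo (v4 2); rw [h42]; exact hxm2 _ (by omega)
    · show T.IsMinusTwo (v4 3); rw [h43]; exact hxm2 _ (by omega)
  obtain ⟨w, hw, -, a2, a3, -⟩ := Groth.Agent.S7346.result T (by omega) v4 hv4
    (by rw [h40, h41, a_symm T]; exact hxe (m + 2) (by omega))
    (by rw [h40, h42]; exact hxe (m + 3) (by omega))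
    (by rw [h40, h43]; exact hxb)
  have hw0 := hw 0
  have hw2 := hw 2
  have hw3 := hw 3
  rw [h40] at hw0 a2 a3
  rw [h42] at hw2 a2
  rw [h43] at hw3 a3
  have hww : w = T.w (x 1) := by rw [← hw0]; exact hWm (m + 3) (by omega) le_rfl
  rw [hww] at hw2 hw3 a2 a3
  have hWall : ∀ k, 1 ≤ k → k ≤ m + 5 → T.w (x k) = T.w (x 1) := by
    intro k h1 h2
    rcases (by omega : k ≤ m + 3 ∨ k = m + 4 ∨ k = m + 5) with h | h | h
    · exact hWm k h1 h
    · rw [h]; exact hw2
    · rw [h]; exact hw3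
  have hAall : ∀ k, 1 ≤ k → k ≤ m + 3 → T.a (x k) (x (k + 1)) = T.w (x 1) := by
    intro k h1 h2
    rcases (by omega : k ≤ m + 2 ∨ k = m + 3) with h | h
    · exact hAm k h1 h
    · rw [h]; exact a2
  rcases hfirst with hα | hβ | hγ
  · refine ⟨T.w (x 1), ?_, ?_, ?_, ?_⟩
    · intro j
      rw [← hx j]
      have hj := j.2
      rcases Nat.eq_zero_or_pos j.val with h | h
      · rw [h]; exact hα.1
      · exact hWall _ h (by omega)
    · intro j j' hjj' hj'
      rw [← hx j, ← hx j', hjj']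
      rcases Nat.eq_zero_or_pos j.val with h | h
      · rw [h]; exact hα.2
      · exact hAall _ h (by omega)
    · intro j j' hj hj'
      rw [← hx j, ← hx j']
      have e1 : j.val = m + 3 := by omega
      rw [e1, hj']
      exact a3
    · intro j k hjk h1 h2
      rw [← hx j, ← hx k]
      have hk := k.2
      rcases (by omega : k.val < m + 5 ∨ k.val = m + 5) with h | h
      · exact c1 _ _ (by omega) h
      · rw [h]
        rcases (by omega : j.val ≤ m + 2 ∨ j.val = m + 4) with h' | h'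
        · exact c2 _ h'
        · rw [h']; exact c3
  · exfalso
    exact bad_start T m (by omega) x hxinj hxm2 (T.w (x 1)) hWall hAall a3 1 (by norm_num)
      (by linarith [hβ.1, hβ.2]) (by linarith [hβ.1, hβ.2])
  · exfalso
    exact bad_start T m (by omega) x hxinj hxm2 (T.w (x 1)) hWall hAall a3 2 (by norm_num)
      (by linarith [hγ.1, hγ.2]) (by linarith [hγ.1, hγ.2])

end Groth.Agent.S7355
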