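import Groth.Statements.S7357
import Groth.Agent.H76.ExtPowBaseChange
-- import your own Groth.Agent.* helpers here

set_option autoImplicit false
universe u
open Polynomial
open Resolve

namespace Groth.Agent.S7357


open Polynomial TensorProduct

section General

variable {A M : Type u} [CommRing A] [AddCommGroup M] [Module A M]

lemma ιMulti_snoc (n : ℕ) (v : Fin n → M) (x : M) :
    ExteriorAlgebra.ιMulti A (n + 1) (Fin.snoc v x : Fin (n + 1) → M) =
      ExteriorAlgebra.ιMulti A n v * ExteriorAlgebra.ι A x := by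
  rw [ExteriorAlgebra.ιMulti_apply, ExteriorAlgebra.ιMulti_apply, List.ofFn_succ',
    List.concat_eq_append, List.prod_append, List.prod_singleton]
  simp only [Fin.snoc_castSucc, Fin.snoc_last]

lemma contractRight_ιMulti_eq_zero (d : Module.Dual A M) (n : ℕ) (v : Fin n → M)
    (hv : ∀ j, d (v j) = 0) :
    CliffordAlgebra.contractRight (Q := (0 : QuadraticForm A M))
      (ExteriorAlgebra.ιMulti A n v) d = 0 := by
  induction n with
  | zero =>
    rw [ExteriorAlgebra.ιMulti_zero_apply]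
    exact CliffordAlgebra.contractRight_one _ d
  | succ n ih =>
    have hsn : v = (Fin.snoc (Fin.init v) (v (Fin.last n)) : Fin (n + 1) → M) :=
      (Fin.snoc_init_self v).symm
    rw [hsn, ιMulti_snoc]
    have h1 := CliffordAlgebra.contractRight_mul_ι (Q := (0 : QuadraticForm A M)) d
      (v (Fin.last n)) (ExteriorAlgebra.ιMulti A n (Fin.init v))
    have h2 := ih (Fin.init v) (fun j => hv _)
    rw [h2, hv, zero_smul, zero_mul, sub_zero] at h1
    exact h1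

/-- The kernel of left multiplication by `ι m₀`. -/
noncomputable def KK (m₀ : M) : Submodule A (ExteriorAlgebra A M) :=
  LinearMap.ker (LinearMap.mulLeft A (ExteriorAlgebra.ι A m₀))

lemma mem_KK (m₀ : M) (z : ExteriorAlgebra A M) :
    z ∈ KK (A := A) m₀ ↔ ExteriorAlgebra.ι A m₀ * z = 0 := LinearMap.mem_ker

lemma mul_mem_KK (m₀ m : M) (z : ExteriorAlgebra A M) (hz : z ∈ KK (A := A) m₀) :
    ExteriorAlgebra.ι A m * z ∈ KK (A := A) m₀ := by
  rw [mem_KK] at hz ⊢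
  have h1 : ExteriorAlgebra.ι A m₀ * ExteriorAlgebra.ι A m =
      -(ExteriorAlgebra.ι A m * ExteriorAlgebra.ι A m₀) :=
    eq_neg_of_add_eq_zero_left (ExteriorAlgebra.ι_add_mul_swap m₀ m)
  rw [← mul_assoc, h1, neg_mul, mul_assoc, hz, mul_zero, neg_zero]

/-- The kernel as a type. -/
def KT (A : Type u) {M : Type u} [CommRing A] [AddCommGroup M] [Module A M] (m₀ : M) : Type u :=
  ↥(KK (A := A) m₀)

noncomputable instance (m₀ : M) : AddCommGroup (KT A m₀) :=
  inferInstanceAs (AddCommGroup ↥(KK (A := A) m₀))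

noncomputable instance (m₀ : M) : Module A (KT A m₀) :=
  inferInstanceAs (Module A ↥(KK (A := A) m₀))

/-- The inclusion. -/
noncomputable def KT.val (m₀ : M) : KT A m₀ →ₗ[A] ExteriorAlgebra A M := (KK (A := A) m₀).subtype

lemma KT.val_injective (m₀ : M) : Function.Injective (KT.val (A := A) m₀) :=
  Subtype.val_injective

lemma KT.val_mem (m₀ : M) (z : KT A m₀) : ExteriorAlgebra.ι A m₀ * KT.val m₀ z = 0 :=
  (mem_KK m₀ _).1 z.2

noncomputable def ThetaR (m₀ : M) : M →ₗ[A] Module.End A (KT A m₀) where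
  toFun m := (LinearMap.mulLeft A (ExteriorAlgebra.ι A m)).restrict
    (fun z hz => mul_mem_KK m₀ m z hz)
  map_add' m m' := LinearMap.ext fun z => KT.val_injective m₀ (by
    show ExteriorAlgebra.ι A (m + m') * (KT.val m₀ z) =
      ExteriorAlgebra.ι A m * (KT.val m₀ z) + ExteriorAlgebra.ι A m' * (KT.val m₀ z)
    rw [map_add, add_mul])
  map_smul' r m := LinearMap.ext fun z => KT.val_injective m₀ (by
    show ExteriorAlgebra.ι A (r • m) * (KT.val m₀ z) =
      r • (ExteriorAlgebra.ι A m * (KT.val m₀ z))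
    rw [map_smul, smul_mul_assoc])

lemma ThetaR_coe (m₀ m : M) (z : KT A m₀) :
    KT.val m₀ (ThetaR m₀ m z) = ExteriorAlgebra.ι A m * KT.val m₀ z := rfl

lemma ThetaR_self (m₀ : M) : ThetaR (A := A) m₀ m₀ = 0 :=
  LinearMap.ext fun z => KT.val_injective m₀ (by
    rw [ThetaR_coe, KT.val_mem]
    rfl)

lemma ThetaR_sq (m₀ m : M) : ThetaR (A := A) m₀ m * ThetaR (A := A) m₀ m = 0 := by
  refine LinearMap.ext fun z => KT.val_injective m₀ ?_
  rw [Module.End.mul_apply, ThetaR_coe, ThetaR_coe, ← mul_assoc, ExteriorAlgebra.ι_sq_zero,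
    zero_mul]
  rfl

lemma span_le_ker_ThetaR (m₀ : M) :
    Submodule.span A {m₀} ≤ LinearMap.ker (ThetaR (A := A) m₀) := by
  rw [Submodule.span_singleton_le_iff_mem]
  exact (LinearMap.mem_ker (f := ThetaR (A := A) m₀)).2 (ThetaR_self m₀)

/-- `ThetaR` descends to the quotient by `m₀`. -/
noncomputable def ThetaQ (m₀ : M) :
    (M ⧸ Submodule.span A {m₀}) →ₗ[A] Module.End A (KT A m₀) :=
  (Submodule.span A {m₀}).liftQ (ThetaR (A := A) m₀) (span_le_ker_ThetaR m₀)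

lemma ThetaQ_mk (m₀ m : M) :
    ThetaQ (A := A) m₀ (Submodule.Quotient.mk m) = ThetaR m₀ m := by
  unfold ThetaQ
  rw [Submodule.liftQ_apply]

lemma ThetaQ_sq (m₀ : M) (q : M ⧸ Submodule.span A {m₀}) :
    ThetaQ (A := A) m₀ q * ThetaQ (A := A) m₀ q = 0 := by
  induction q using Submodule.Quotient.induction_on with
  | H m => rw [ThetaQ_mk, ThetaR_sq]

/-- The algebra map from the exterior algebra of the quotient to `End (KK m₀)`. -/
noncomputable def LiftK (m₀ : M) :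
    ExteriorAlgebra A (M ⧸ Submodule.span A {m₀}) →ₐ[A] Module.End A (KT A m₀) :=
  ExteriorAlgebra.lift A ⟨ThetaQ m₀, ThetaQ_sq m₀⟩

lemma LiftK_ι (m₀ m : M) :
    LiftK (A := A) m₀ (ExteriorAlgebra.ι A (Submodule.Quotient.mk m)) = ThetaR m₀ m := by
  unfold LiftK
  rw [ExteriorAlgebra.lift_ι_apply]
  exact ThetaQ_mk m₀ m

lemma LiftK_ιMulti (m₀ : M) (n : ℕ) (v : Fin n → M) (z : KT A m₀) :
    KT.val m₀ (LiftK (A := A) m₀ (ExteriorAlgebra.ιMulti A n
      (fun j => (Submodule.Quotient.mk (v j) : M ⧸ Submodule.span A {m₀}))) z) =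
        ExteriorAlgebra.ιMulti A n v * KT.val m₀ z := by
  induction n with
  | zero =>
    rw [ExteriorAlgebra.ιMulti_zero_apply, ExteriorAlgebra.ιMulti_zero_apply, map_one,
      Module.End.one_apply, one_mul]
  | succ n ih =>
    rw [ExteriorAlgebra.ιMulti_succ_apply, ExteriorAlgebra.ιMulti_succ_apply, map_mul,
      Module.End.mul_apply]
    have h1 : LiftK (A := A) m₀ (ExteriorAlgebra.ι A
        ((fun j => (Submodule.Quotient.mk (v j) : M ⧸ Submodule.span A {m₀})) 0)) =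
        ThetaR m₀ (v 0) := LiftK_ι m₀ (v 0)
    rw [h1, ThetaR_coe]
    have h2 : Matrix.vecTail (fun j => (Submodule.Quotient.mk (v j) :
        M ⧸ Submodule.span A {m₀})) =
        fun j => (Submodule.Quotient.mk (Matrix.vecTail v j) : M ⧸ Submodule.span A {m₀}) := rfl
    rw [h2, ih (Matrix.vecTail v), mul_assoc]

/-- The element `ι m₀` of the kernel. -/
noncomputable def eK (m₀ : M) : KT A m₀ :=
  ⟨ExteriorAlgebra.ι A m₀, (mem_KK m₀ _).2 (ExteriorAlgebra.ι_sq_zero m₀)⟩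

lemma eK_val (m₀ : M) : KT.val m₀ (eK (A := A) m₀) = ExteriorAlgebra.ι A m₀ := rfl

lemma exists_wedge (m₀ : M) (t : ℕ) :
    ∃ g : ExteriorAlgebra A (M ⧸ Submodule.span A {m₀}) →ₗ[A] ↥(⋀[A]^(t + 1) M),
      ∀ v : Fin t → M,
        g (ExteriorAlgebra.ιMulti A t
          (fun j => (Submodule.Quotient.mk (v j) : M ⧸ Submodule.span A {m₀}))) =
        exteriorPower.ιMulti A (t + 1) (Fin.snoc v m₀ : Fin (t + 1) → M) := by
  refine ⟨(Groth.Agent.H76.extProj A M (t + 1)) ∘ₗ (KT.val (A := A) m₀) ∘ₗ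
    (LinearMap.applyₗ (eK (A := A) m₀)) ∘ₗ (LiftK (A := A) m₀).toLinearMap, fun v => ?_⟩
  show Groth.Agent.H76.extProj A M (t + 1)
    (KT.val m₀ (LiftK (A := A) m₀ (ExteriorAlgebra.ιMulti A t _) (eK (A := A) m₀))) = _
  rw [LiftK_ιMulti m₀ t v, eK_val, ← ιMulti_snoc, ← exteriorPower.ιMulti_apply_coe,
    Groth.Agent.H76.extProj_coe]

end General

section Deriv

variable (p : ℕ) [hp : Fact p.Prime] (Λ R : Type u) [CommRing Λ] [CommRing R] [Algebra Λ R]
  [CharP R p] (a : R)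

local notation "SS" => AdjoinRoot (X ^ p - C a : R[X])

lemma root_pow_eq : (AdjoinRoot.root (X ^ p - C a : R[X])) ^ p =
    AdjoinRoot.of (X ^ p - C a : R[X]) a := by
  have h := AdjoinRoot.eval₂_root (X ^ p - C a : R[X])
  rw [eval₂_sub, eval₂_pow, eval₂_X, eval₂_C] at h
  exact sub_eq_zero.mp h

lemma natCast_p_eq_zero : ((p : ℕ) : SS) = 0 := by
  have h : ((p : ℕ) : SS) = algebraMap R SS ((p : ℕ) : R) := (map_natCast _ p).symm
  rw [h, CharP.cast_eq_zero R p, map_zero]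

lemma exists_coeff : ∃ lam : SS →ₗ[R] R, ∀ i : ℕ, i < p →
    lam (AdjoinRoot.root (X ^ p - C a : R[X]) ^ i) = if i = p - 1 then 1 else 0 := by
  haveI : Nontrivial R := CharP.nontrivial_of_char_ne_one (R := R) hp.out.ne_one
  have hmonic : (X ^ p - C a : R[X]).Monic := monic_X_pow_sub_C a hp.out.ne_zero
  refine ⟨(Polynomial.lcoeff R (p - 1)) ∘ₗ AdjoinRoot.modByMonicHom hmonic, fun i hi => ?_⟩
  have h1 : (AdjoinRoot.root (X ^ p - C a : R[X])) ^ i =
      AdjoinRoot.mk (X ^ p - C a : R[X]) (X ^ i) := by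
    rw [map_pow, AdjoinRoot.mk_X]
  rw [LinearMap.comp_apply, h1, AdjoinRoot.modByMonicHom_mk,
    (Polynomial.modByMonic_eq_self_iff hmonic).2 (by
      rw [degree_X_pow, degree_X_pow_sub_C hp.out.pos]; exact_mod_cast hi),
    Polynomial.lcoeff_apply, Polynomial.coeff_X_pow]
  by_cases h : i = p - 1
  · rw [if_pos h, if_pos h.symm]
  · rw [if_neg h, if_neg (Ne.symm h)]

lemma exists_lin (N' : Type u) [AddCommGroup N'] [Module SS N']
    (Θ : Ω[R⁄Λ] →+ N')
    (hΘ : ∀ (r : R) (η : Ω[R⁄Λ]), Θ (r • η) = (AdjoinRoot.of (X ^ p - C a : R[X]) r) • Θ η)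
    (hΘa : Θ (KaehlerDifferential.D Λ R a) = 0) (mx : N') :
    ∃ g : Ω[SS⁄Λ] →ₗ[SS] N',
      g (KaehlerDifferential.D Λ SS (AdjoinRoot.root (X ^ p - C a : R[X]))) = mx ∧
      ∀ η : Ω[R⁄Λ], g (KaehlerDifferential.map Λ Λ R SS η) = Θ η := by
  classical
  letI : Module SSᵐᵒᵖ N' :=
    Module.compHom N' ((RingHom.id SS).fromOpposite (fun x y => Commute.all _ _))
  haveI : IsCentralScalar SS N' := ⟨fun s m => rfl⟩
  letI : Module Λ N' := Module.compHom N' (algebraMap Λ SS)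
  haveI : IsScalarTower Λ SS N' := ⟨fun l s m => by
    show (l • s) • m = algebraMap Λ SS l • (s • m)
    rw [Algebra.smul_def, mul_smul]⟩
  obtain ⟨dR, hdR⟩ : ∃ dR : R → N', ∀ r, dR r = Θ (KaehlerDifferential.D Λ R r) :=
    ⟨_, fun _ => rfl⟩
  have dR_add : ∀ r s, dR (r + s) = dR r + dR s := fun r s => by
    rw [hdR, hdR, hdR, map_add, map_add]
  have dR_mul : ∀ r s, dR (r * s) =
      AdjoinRoot.of (X ^ p - C a : R[X]) r • dR s +
        AdjoinRoot.of (X ^ p - C a : R[X]) s • dR r := fun r s => by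
    rw [hdR, hdR, hdR, Derivation.leibniz, map_add, hΘ, hΘ]
  have dR_alg : ∀ l : Λ, dR (algebraMap Λ R l) = 0 := fun l => by
    rw [hdR, Derivation.map_algebraMap, map_zero]
  have dR_one : dR 1 = 0 := by
    have := dR_alg 1
    rwa [map_one] at this
  have dR_zero : dR 0 = 0 := by rw [hdR, map_zero, map_zero]
  let i : R →+* TrivSqZeroExt SS N' :=
    { toFun := fun r => TrivSqZeroExt.inl (AdjoinRoot.of (X ^ p - C a : R[X]) r) +
        TrivSqZeroExt.inr (dR r)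
      map_one' := by
        rw [dR_one, map_one, TrivSqZeroExt.inr_zero, add_zero, TrivSqZeroExt.inl_one]
      map_mul' := fun r s => by
        apply TrivSqZeroExt.ext
        · simp only [TrivSqZeroExt.fst_mul, TrivSqZeroExt.fst_add, TrivSqZeroExt.fst_inl,
            TrivSqZeroExt.fst_inr, add_zero, map_mul]
        · simp only [TrivSqZeroExt.snd_mul, TrivSqZeroExt.fst_add, TrivSqZeroExt.fst_inl,
            TrivSqZeroExt.fst_inr, TrivSqZeroExt.snd_add, TrivSqZeroExt.snd_inl,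
            TrivSqZeroExt.snd_inr, add_zero, zero_add, op_smul_eq_smul, dR_mul]
      map_zero' := by
        rw [dR_zero, map_zero, TrivSqZeroExt.inr_zero, add_zero, TrivSqZeroExt.inl_zero]
      map_add' := fun r s => by
        rw [dR_add, map_add, TrivSqZeroExt.inl_add, TrivSqZeroExt.inr_add]
        abel }
  have hi_fst : ∀ r, (i r).fst = AdjoinRoot.of (X ^ p - C a : R[X]) r := fun r => by
    show (TrivSqZeroExt.inl (AdjoinRoot.of (X ^ p - C a : R[X]) r) +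
        TrivSqZeroExt.inr (dR r) : TrivSqZeroExt SS N').fst = _
    rw [TrivSqZeroExt.fst_add, TrivSqZeroExt.fst_inl, TrivSqZeroExt.fst_inr, add_zero]
  have hi_snd : ∀ r, (i r).snd = dR r := fun r => by
    show (TrivSqZeroExt.inl (AdjoinRoot.of (X ^ p - C a : R[X]) r) +
        TrivSqZeroExt.inr (dR r) : TrivSqZeroExt SS N').snd = _
    rw [TrivSqZeroExt.snd_add, TrivSqZeroExt.snd_inl, TrivSqZeroExt.snd_inr, zero_add]
  obtain ⟨x', hx'fst, hx'snd⟩ : ∃ x' : TrivSqZeroExt SS N',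
      x'.fst = AdjoinRoot.root (X ^ p - C a : R[X]) ∧ x'.snd = mx :=
    ⟨TrivSqZeroExt.inl (AdjoinRoot.root (X ^ p - C a : R[X])) + TrivSqZeroExt.inr mx, by
      rw [TrivSqZeroExt.fst_add, TrivSqZeroExt.fst_inl, TrivSqZeroExt.fst_inr, add_zero], by
      rw [TrivSqZeroExt.snd_add, TrivSqZeroExt.snd_inl, TrivSqZeroExt.snd_inr, zero_add]⟩
  have h : (X ^ p - C a : R[X]).eval₂ i x' = 0 := by
    rw [eval₂_sub, eval₂_pow, eval₂_X, eval₂_C]
    apply TrivSqZeroExt.ext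
    · rw [TrivSqZeroExt.fst_sub, TrivSqZeroExt.fst_pow, hx'fst, hi_fst, root_pow_eq, sub_self,
        TrivSqZeroExt.fst_zero]
    · rw [TrivSqZeroExt.snd_sub, TrivSqZeroExt.snd_pow, hi_snd, hdR a, hΘa, sub_zero,
        TrivSqZeroExt.snd_zero, ← Nat.cast_smul_eq_nsmul SS, natCast_p_eq_zero, zero_smul]
  let Ψ : SS →+* TrivSqZeroExt SS N' := AdjoinRoot.lift i x' h
  have hΨof : ∀ r, Ψ (AdjoinRoot.of (X ^ p - C a : R[X]) r) = i r := fun r =>
    AdjoinRoot.lift_of h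
  have hΨroot : Ψ (AdjoinRoot.root (X ^ p - C a : R[X])) = x' := AdjoinRoot.lift_root h
  have hfst : ∀ s, (Ψ s).fst = s := by
    intro s
    induction s using AdjoinRoot.induction_on with
    | ih g =>
      induction g using Polynomial.induction_on' with
      | add f g hf hg => rw [map_add, map_add, TrivSqZeroExt.fst_add, hf, hg]
      | monomial n r =>
        rw [← C_mul_X_pow_eq_monomial, map_mul, map_pow, AdjoinRoot.mk_C, AdjoinRoot.mk_X,
          map_mul, map_pow, hΨof, hΨroot, TrivSqZeroExt.fst_mul, TrivSqZeroExt.fst_pow, hi_fst,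
          hx'fst]
  have hΨalg : ∀ l : Λ, (Ψ (algebraMap Λ SS l)).snd = 0 := fun l => by
    rw [IsScalarTower.algebraMap_apply Λ R SS, AdjoinRoot.algebraMap_eq, hΨof, hi_snd, dR_alg]
  let Dv : Derivation Λ SS N' :=
    { toFun := fun s => (Ψ s).snd
      map_add' := fun s s' => by rw [map_add, TrivSqZeroExt.snd_add]
      map_smul' := fun l s => by
        show (Ψ (l • s)).snd = l • (Ψ s).snd
        rw [Algebra.smul_def, map_mul, TrivSqZeroExt.snd_mul, hfst, hΨalg, smul_zero, add_zero]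
        rfl
      map_one_eq_zero' := by
        show (Ψ 1).snd = 0
        rw [map_one, TrivSqZeroExt.snd_one]
      leibniz' := fun s s' => by
        show (Ψ (s * s')).snd = s • (Ψ s').snd + s' • (Ψ s).snd
        rw [map_mul, TrivSqZeroExt.snd_mul, hfst, hfst, op_smul_eq_smul] }
  have hDv : ∀ s, Dv s = (Ψ s).snd := fun s => rfl
  refine ⟨Dv.liftKaehlerDifferential, ?_, ?_⟩
  · rw [Derivation.liftKaehlerDifferential_comp_D, hDv, hΨroot, hx'snd]
  · intro η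
    have hspan : η ∈ Submodule.span R (Set.range (KaehlerDifferential.D Λ R)) := by
      rw [KaehlerDifferential.span_range_derivation]
      trivial
    induction hspan using Submodule.span_induction with
    | mem x hx =>
      obtain ⟨r, rfl⟩ := hx
      rw [KaehlerDifferential.map_D, Derivation.liftKaehlerDifferential_comp_D,
        AdjoinRoot.algebraMap_eq, hDv, hΨof, hi_snd, hdR]
    | zero => rw [map_zero, map_zero, map_zero]
    | add x y _ _ hx hy => rw [map_add, map_add, map_add, hx, hy]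
    | smul r x _ hx =>
      rw [map_smul, ← algebraMap_smul SS r (KaehlerDifferential.map Λ Λ R SS x), map_smul, hx,
        hΘ, AdjoinRoot.algebraMap_eq]

lemma exists_dd : ∃ dd : Ω[SS⁄Λ] →ₗ[SS] SS,
    dd (KaehlerDifferential.D Λ SS (AdjoinRoot.root (X ^ p - C a : R[X]))) = 1 ∧
      ∀ η : Ω[R⁄Λ], dd (KaehlerDifferential.map Λ Λ R SS η) = 0 := by
  have h0 : ∀ (r : R) (η : Ω[R⁄Λ]), (0 : Ω[R⁄Λ] →+ SS) (r • η) =
      (AdjoinRoot.of (X ^ p - C a : R[X]) r) • (0 : Ω[R⁄Λ] →+ SS) η := fun r η => by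
    rw [AddMonoidHom.zero_apply, AddMonoidHom.zero_apply, smul_zero]
  have h0' : (0 : Ω[R⁄Λ] →+ SS) (KaehlerDifferential.D Λ R a) = 0 := AddMonoidHom.zero_apply _
  have hh := exists_lin p Λ R a SS (0 : Ω[R⁄Λ] →+ SS) h0 h0' (1 : SS)
  obtain ⟨g, h1, h2⟩ := hh
  exact ⟨g, h1, fun η => by rw [h2, AddMonoidHom.zero_apply]⟩

/-- The quotient of `Ω[R⁄Λ]` by `da`. -/
abbrev QQ : Type u := Ω[R⁄Λ] ⧸ Submodule.span R {KaehlerDifferential.D Λ R a}

set_option maxHeartbeats 3200000 in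
theorem main (t : ℕ) :
    ∃ Tr : (⋀[AdjoinRoot (X ^ p - C a : R[X])]^(t + 1) (Ω[AdjoinRoot (X ^ p - C a : R[X])⁄Λ])) →+ (⋀[R]^(t + 1) (Ω[R⁄Λ])),
      (∀ (r : R) (ω : ⋀[AdjoinRoot (X ^ p - C a : R[X])]^(t + 1) (Ω[AdjoinRoot (X ^ p - C a : R[X])⁄Λ])),
        Tr (algebraMap R (AdjoinRoot (X ^ p - C a : R[X])) r • ω) = r • Tr ω) ∧
      (∀ (η : Fin t → Ω[R⁄Λ]) (i : ℕ), i + 2 ≤ p →
        Tr (exteriorPower.ιMulti _ (t + 1) (Fin.snoc (fun j => KaehlerDifferential.map Λ Λ R (AdjoinRoot (X ^ p - C a : R[X])) (η j))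
          (AdjoinRoot.root (X ^ p - C a) ^ i • KaehlerDifferential.D Λ _ (AdjoinRoot.root (X ^ p - C a))))) = 0) ∧
      (∀ (η : Fin t → Ω[R⁄Λ]),
        Tr (exteriorPower.ιMulti _ (t + 1) (Fin.snoc (fun j => KaehlerDifferential.map Λ Λ R (AdjoinRoot (X ^ p - C a : R[X])) (η j))
          (AdjoinRoot.root (X ^ p - C a) ^ (p - 1) • KaehlerDifferential.D Λ _ (AdjoinRoot.root (X ^ p - C a))))) =
          exteriorPower.ιMulti R (t + 1) (Fin.snoc η (KaehlerDifferential.D Λ R a))) ∧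
      (∀ (s : AdjoinRoot (X ^ p - C a : R[X])) (η : Fin (t + 1) → Ω[R⁄Λ]),
        Tr (s • exteriorPower.ιMulti _ (t + 1) (fun j => KaehlerDifferential.map Λ Λ R (AdjoinRoot (X ^ p - C a : R[X])) (η j))) = 0) := by
  classical
  obtain ⟨dd, hdd1, hdd2⟩ := exists_dd p Λ R a
  let Θ₁ : Ω[R⁄Λ] →+ SS ⊗[R] QQ Λ R a :=
    ((TensorProduct.mk R SS (QQ Λ R a) 1).comp (Submodule.mkQ _)).toAddMonoidHom
  have hΘ₁ : ∀ η, Θ₁ η = (1 : SS) ⊗ₜ[R] (Submodule.Quotient.mk η : QQ Λ R a) := fun η => rfl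
  obtain ⟨ψ, -, hψ⟩ := exists_lin p Λ R a (SS ⊗[R] QQ Λ R a) Θ₁
    (fun r η => by
      rw [hΘ₁, hΘ₁, Submodule.Quotient.mk_smul, TensorProduct.tmul_smul,
        ← AdjoinRoot.algebraMap_eq, algebraMap_smul])
    (by
      rw [hΘ₁, (Submodule.Quotient.mk_eq_zero _).2 (Submodule.mem_span_singleton_self _),
        TensorProduct.tmul_zero]) 0
  let F : ExteriorAlgebra SS (Ω[SS⁄Λ]) →ₐ[SS] SS ⊗[R] ExteriorAlgebra R (QQ Λ R a) :=
    (Groth.Agent.H76.extAlgBCInv R SS (QQ Λ R a)).comp (ExteriorAlgebra.map ψ)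
  have hF : ∀ (n : ℕ) (η : Fin n → Ω[R⁄Λ]),
      F (ExteriorAlgebra.ιMulti SS n (fun j => KaehlerDifferential.map Λ Λ R SS (η j))) =
        (1 : SS) ⊗ₜ[R] ExteriorAlgebra.ιMulti R n
          (fun j => (Submodule.Quotient.mk (η j) : QQ Λ R a)) := by
    intro n η
    show Groth.Agent.H76.extAlgBCInv R SS (QQ Λ R a)
      (ExteriorAlgebra.map ψ (ExteriorAlgebra.ιMulti SS n _)) = _
    rw [ExteriorAlgebra.map_apply_ιMulti]
    have h1 : (ψ ∘ fun j => KaehlerDifferential.map Λ Λ R SS (η j)) =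
        fun j => (1 : SS) ⊗ₜ[R] (Submodule.Quotient.mk (η j) : QQ Λ R a) := by
      funext j
      exact (hψ (η j)).trans (hΘ₁ _)
    rw [h1, Groth.Agent.H76.extAlgBCInv_ιMulti]
  obtain ⟨g, hg⟩ := exists_wedge (A := R) (M := Ω[R⁄Λ]) (KaehlerDifferential.D Λ R a) t
  obtain ⟨lam, hlam⟩ := exists_coeff p R a
  let G : SS ⊗[R] ExteriorAlgebra R (QQ Λ R a) →ₗ[R] ↥(⋀[R]^(t + 1) (Ω[R⁄Λ])) :=
    (TensorProduct.lid R _).toLinearMap ∘ₗ TensorProduct.map lam g
  have hG : ∀ s z, G (s ⊗ₜ[R] z) = lam s • g z := fun s z => by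
    show (TensorProduct.lid R _) (TensorProduct.map lam g (s ⊗ₜ[R] z)) = _
    rw [TensorProduct.map_tmul, TensorProduct.lid_tmul]
  let T : ExteriorAlgebra SS (Ω[SS⁄Λ]) → ↥(⋀[R]^(t + 1) (Ω[R⁄Λ])) := fun ω =>
    G (F (CliffordAlgebra.contractRight (Q := (0 : QuadraticForm SS (Ω[SS⁄Λ]))) ω dd))
  have hT : ∀ ω, T ω =
      G (F (CliffordAlgebra.contractRight (Q := (0 : QuadraticForm SS (Ω[SS⁄Λ]))) ω dd)) :=
    fun ω => rfl
  have hT_zero : T 0 = 0 := by
    rw [hT, map_zero, LinearMap.zero_apply, map_zero, map_zero]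
  have hT_add : ∀ ω ω', T (ω + ω') = T ω + T ω' := fun ω ω' => by
    rw [hT, hT, hT, map_add, LinearMap.add_apply, map_add, map_add]
  have hT_smul : ∀ (s : SS) ω, T (s • ω) =
      G (s • F (CliffordAlgebra.contractRight (Q := (0 : QuadraticForm SS (Ω[SS⁄Λ]))) ω dd)) :=
    fun s ω => by
      rw [hT, map_smul, LinearMap.smul_apply, map_smul]
  have key : ∀ (η : Fin t → Ω[R⁄Λ]) (y : Ω[SS⁄Λ]),
      T ((exteriorPower.ιMulti SS (t + 1)
        (Fin.snoc (fun j => KaehlerDifferential.map Λ Λ R SS (η j)) y :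
          Fin (t + 1) → Ω[SS⁄Λ]) : ↥(⋀[SS]^(t + 1) (Ω[SS⁄Λ]))) :
            ExteriorAlgebra SS (Ω[SS⁄Λ])) =
      G (dd y • ((1 : SS) ⊗ₜ[R] ExteriorAlgebra.ιMulti R t
          (fun j => (Submodule.Quotient.mk (η j) : QQ Λ R a)))) := by
    intro η y
    rw [exteriorPower.ιMulti_apply_coe, ιMulti_snoc, hT]
    have h1 := CliffordAlgebra.contractRight_mul_ι (Q := (0 : QuadraticForm SS (Ω[SS⁄Λ]))) dd y
      (ExteriorAlgebra.ιMulti SS t (fun j => KaehlerDifferential.map Λ Λ R SS (η j)))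
    have h2 := contractRight_ιMulti_eq_zero dd t
      (fun j => KaehlerDifferential.map Λ Λ R SS (η j)) (fun j => hdd2 (η j))
    rw [h2, zero_mul, sub_zero] at h1
    have h3 : CliffordAlgebra.contractRight (Q := (0 : QuadraticForm SS (Ω[SS⁄Λ])))
        (ExteriorAlgebra.ιMulti SS t (fun j => KaehlerDifferential.map Λ Λ R SS (η j)) *
          ExteriorAlgebra.ι SS y) dd =
        dd y • ExteriorAlgebra.ιMulti SS t (fun j => KaehlerDifferential.map Λ Λ R SS (η j)) :=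
      h1
    rw [h3, map_smul, hF]
  refine ⟨⟨⟨fun ω => T (ω : ExteriorAlgebra SS (Ω[SS⁄Λ])), hT_zero⟩, fun ω ω' => ?_⟩,
    fun r ω => ?_, fun η i hi => ?_, fun η => ?_, fun s η => ?_⟩
  · show T ((ω + ω' : ↥(⋀[SS]^(t + 1) (Ω[SS⁄Λ]))) : ExteriorAlgebra SS (Ω[SS⁄Λ])) = T ω + T ω'
    rw [Submodule.coe_add, hT_add]
  · show T ((algebraMap R SS r • ω : ↥(⋀[SS]^(t + 1) (Ω[SS⁄Λ]))) :
      ExteriorAlgebra SS (Ω[SS⁄Λ])) = r • T ω
    rw [Submodule.coe_smul, hT_smul, algebraMap_smul, map_smul, hT]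
  · show T _ = 0
    rw [key, LinearMap.map_smul dd, hdd1, smul_eq_mul, mul_one, TensorProduct.smul_tmul', smul_eq_mul,
      mul_one, hG, hlam i (by omega), if_neg (by omega), zero_smul]
  · show T _ = _
    have hp1 : p - 1 < p := by have := hp.out.pos; omega
    rw [key, LinearMap.map_smul dd, hdd1, smul_eq_mul, mul_one, TensorProduct.smul_tmul', smul_eq_mul,
      mul_one, hG, hlam (p - 1) hp1, if_pos rfl, one_smul, hg η]
  · show T ((s • exteriorPower.ιMulti SS (t + 1)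
      (fun j => KaehlerDifferential.map Λ Λ R SS (η j)) : ↥(⋀[SS]^(t + 1) (Ω[SS⁄Λ]))) :
        ExteriorAlgebra SS (Ω[SS⁄Λ])) = 0
    rw [Submodule.coe_smul, hT_smul, exteriorPower.ιMulti_apply_coe,
      contractRight_ιMulti_eq_zero dd (t + 1) _ (fun j => hdd2 (η j)), map_zero, smul_zero,
      map_zero]

end Deriv



/-- Let p be a prime number, Λ → R a ring map with R of characteristic p, a ∈ R and S = R[x]/(x^p - a).
For every t ≥ 0 there is a canonical R-linear map Tr : Ω^{t+1}_{S/Λ} → Ω^{t+1}_{R/Λ} with η_1 ∧ … ∧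
η_t ∧ x^i dx ↦ 0 for 0 ≤ i ≤ p - 2 and η_1 ∧ … ∧ η_t ∧ x^{p-1} dx ↦ η_1 ∧ … ∧ η_t ∧ da (η_j ∈
Ω_{R/Λ}, pulled back to Ω_{S/Λ}), and Tr annihilates the image of S ⊗_R Ω^{t+1}_{R/Λ} →
Ω^{t+1}_{S/Λ}. (Existence of such a map is asserted; R-linearity is written through the R-action on
S.) -/
theorem result (p : ℕ) [Fact p.Prime] (Λ R : Type u) [CommRing Λ] [CommRing R] [Algebra Λ R]
    [CharP Λ p] [CharP R p] (a : R) (t : ℕ) :
    ∃ Tr : (⋀[AdjoinRoot (X ^ p - C a : R[X])]^(t + 1) (Ω[AdjoinRoot (X ^ p - C a : R[X])⁄Λ])) →+ (⋀[R]^(t + 1) (Ω[R⁄Λ])),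
      (∀ (r : R) (ω : ⋀[AdjoinRoot (X ^ p - C a : R[X])]^(t + 1) (Ω[AdjoinRoot (X ^ p - C a : R[X])⁄Λ])),
        Tr (algebraMap R (AdjoinRoot (X ^ p - C a : R[X])) r • ω) = r • Tr ω) ∧
      (∀ (η : Fin t → Ω[R⁄Λ]) (i : ℕ), i + 2 ≤ p →
        Tr (exteriorPower.ιMulti _ (t + 1) (Fin.snoc (fun j => KaehlerDifferential.map Λ Λ R (AdjoinRoot (X ^ p - C a : R[X])) (η j))
          (AdjoinRoot.root (X ^ p - C a) ^ i • KaehlerDifferential.D Λ _ (AdjoinRoot.root (X ^ p - C a))))) = 0) ∧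
      (∀ (η : Fin t → Ω[R⁄Λ]),
        Tr (exteriorPower.ιMulti _ (t + 1) (Fin.snoc (fun j => KaehlerDifferential.map Λ Λ R (AdjoinRoot (X ^ p - C a : R[X])) (η j))
          (AdjoinRoot.root (X ^ p - C a) ^ (p - 1) • KaehlerDifferential.D Λ _ (AdjoinRoot.root (X ^ p - C a))))) =
          exteriorPower.ιMulti R (t + 1) (Fin.snoc η (KaehlerDifferential.D Λ R a))) ∧
      (∀ (s : AdjoinRoot (X ^ p - C a : R[X])) (η : Fin (t + 1) → Ω[R⁄Λ]),
        Tr (s • exteriorPower.ιMulti _ (t + 1) (fun j => KaehlerDifferential.map Λ Λ R (AdjoinRoot (X ^ p - C a : R[X])) (η j))) = 0) := by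
  exact main p Λ R a t

end Groth.Agent.S7357
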