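import Groth.Statements.S7362
import Groth.Agent.H37.NumType3

set_option autoImplicit false
open Finset
open Models Models.NumericalType

namespace Groth.Agent.S7362

/-- Genus one classification: case n = 2: let T be a minimal numerical type of genus 1 on two indices.
Then for some ordering i, j of the indices and some integers m, w, either m_i = m_j = m, a_ii = a_jj
= -2w, a_ij = 2w, w_i = w_j = w, g_i = g_j = 0; or m_i = 2m, m_j = m, a_ii = -2w, a_ij = 4w, a_jj =
-8w, w_i = w, w_j = 4w, g_i = g_j = 0. Only the classification direction is stated. -/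
theorem result (T : Models.NumericalType 2) (hmin : T.IsMinimal) (hg : T.genus = 1) :
    ∃ (i j : Fin 2) (m w : ℤ), i ≠ j ∧ T.g i = 0 ∧ T.g j = 0 ∧
      ((T.m i = m ∧ T.m j = m ∧ T.a i i = -2 * w ∧ T.a i j = 2 * w ∧ T.a j j = -2 * w ∧ T.w i = w ∧ T.w j = w) ∨
        (T.m i = 2 * m ∧ T.m j = m ∧ T.a i i = -2 * w ∧ T.a i j = 4 * w ∧ T.a j j = -8 * w ∧ T.w i = w ∧ T.w j = 4 * w)) := by
  have hm2 := Groth.Agent.H37.all_minusTwo_of_genus_one T hmin (by norm_num) hg
  have h0 := hm2 0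
  have h1 := hm2 1
  have hr0 := Groth.Agent.H37.row_sum T 0
  have hr1 := Groth.Agent.H37.row_sum T 1
  simp [Fin.sum_univ_succ] at hr0 hr1
  have hs : T.a 1 0 = T.a 0 1 := Groth.Agent.H37.a_symm T _ _
  rw [h0.2] at hr0
  rw [hs, h1.2] at hr1
  have hw0 := T.w_pos 0
  have hw1 := T.w_pos 1
  have hm0 := T.m_pos 0
  have hm1 := T.m_pos 1
  obtain ⟨p, hp⟩ := T.w_dvd 0 1
  obtain ⟨q, hq⟩ := Groth.Agent.H37.w_dvd' T 0 1
  -- p * m1 = 2 * m0
  have e1 : p * T.m 1 = 2 * T.m 0 := by
    have : T.w 0 * (p * T.m 1) = T.w 0 * (2 * T.m 0) := by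
      have h := hr0
      rw [hp] at h
      linear_combination h
    exact mul_left_cancel₀ hw0.ne' this
  have e2 : q * T.m 0 = 2 * T.m 1 := by
    have : T.w 1 * (q * T.m 0) = T.w 1 * (2 * T.m 1) := by
      have h := hr1
      rw [hq] at h
      linear_combination h
    exact mul_left_cancel₀ hw1.ne' this
  have hppos : 0 < p := by
    by_contra hcon
    push Not at hcon
    have := mul_nonpos_of_nonpos_of_nonneg hcon hm1.le
    omega
  have hqpos : 0 < q := by
    by_contra hcon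
    push Not at hcon
    have := mul_nonpos_of_nonpos_of_nonneg hcon hm0.le
    omega
  have e3 : p * q = 4 := by
    have : (T.m 0 * T.m 1) * (p * q) = (T.m 0 * T.m 1) * 4 := by
      have : (p * T.m 1) * (q * T.m 0) = (2 * T.m 0) * (2 * T.m 1) := by rw [e1, e2]
      linear_combination this
    exact mul_left_cancel₀ (mul_pos hm0 hm1).ne' this
  have hp4 : p ≤ 4 := by nlinarith
  have hwpq : T.w 0 * p = T.w 1 * q := by rw [← hp, ← hq]
  interval_cases p
  · -- p = 1, q = 4
    have hq4 : q = 4 := by omega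
    subst hq4
    refine ⟨1, 0, T.m 0, T.w 1, by decide, h1.1, h0.1, Or.inr ⟨?_, rfl, ?_, ?_, ?_, rfl, ?_⟩⟩
    · omega
    · rw [h1.2]
    · rw [hs, hp]; omega
    · rw [h0.2]; omega
    · omega
  · -- p = 2, q = 2
    have hq2 : q = 2 := by omega
    subst hq2
    refine ⟨0, 1, T.m 0, T.w 0, by decide, h0.1, h1.1, Or.inl ⟨rfl, ?_, ?_, ?_, ?_, rfl, ?_⟩⟩
    · omega
    · rw [h0.2]
    · rw [hp]; ring
    · rw [h1.2]; omega
    · omega
  · -- p = 3 impossible
    omega
  · -- p = 4, q = 1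
    have hq1 : q = 1 := by omega
    subst hq1
    refine ⟨0, 1, T.m 1, T.w 0, by decide, h0.1, h1.1, Or.inr ⟨?_, rfl, ?_, ?_, ?_, rfl, ?_⟩⟩
    · omega
    · rw [h0.2]
    · rw [hp]; ring
    · rw [h1.2]; omega
    · omega

end Groth.Agent.S7362
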