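import Groth.Statements.S7363
import Groth.Agent.H11.NumType
import Groth.Agent.S7317

set_option autoImplicit false
open Finset
open Models Models.NumericalType

namespace Groth.Agent.S7363

/-- In a minimal numerical type of genus one on more than one index, every index is a (-2)-index. -/
theorem all_minusTwo {n : ℕ} (T : Models.NumericalType n) (hn : 1 < n) (hmin : T.IsMinimal)
    (hg : T.genus = 1) (i : Fin n) : T.IsMinusTwo i := by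
  obtain ⟨t, ht⟩ := Groth.Agent.H11.nt_two_dvd T
  rw [Groth.Agent.H11.nt_genus_eq T t ht] at hg
  have h2 : ∑ i, T.m i * (2 * T.w i * (T.g i - 1) - T.a i i)
      = 2 * (∑ i, T.m i * T.w i * (T.g i - 1)) - ∑ i, T.m i * T.a i i := by
    rw [Finset.mul_sum, ← Finset.sum_sub_distrib]
    refine Finset.sum_congr rfl fun i _ => by ring
  have h0 : ∑ i, T.m i * (2 * T.w i * (T.g i - 1) - T.a i i) = 0 := by
    rw [h2, ht]; linarith
  have h3 := (Finset.sum_eq_zero_iff_of_nonneg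
    (fun i _ => Groth.Agent.H11.nt_term_nonneg T hmin hn i)).mp h0 i (Finset.mem_univ i)
  exact Groth.Agent.S7317.result T hn i h3

/-- The five path shapes, for a path `i - j - k` with `x = a i j`, `z = a j k`. -/
def PathOK (mi mj mk wi wj wk x z : ℤ) : Prop :=
  ∃ m w : ℤ,
    (mi = m ∧ mj = 2 * m ∧ mk = m ∧ wi = w ∧ wj = w ∧ wk = 3 * w ∧ x = w ∧ z = 3 * w) ∨
    (mi = m ∧ mj = 2 * m ∧ mk = 3 * m ∧ wi = 3 * w ∧ wj = 3 * w ∧ wk = w ∧ x = 3 * w ∧ z = 3 * w) ∨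
    (mi = 2 * m ∧ mj = 2 * m ∧ mk = m ∧ wi = w ∧ wj = 2 * w ∧ wk = 4 * w ∧ x = 2 * w ∧ z = 4 * w) ∨
    (mi = m ∧ mj = m ∧ mk = m ∧ wi = w ∧ wj = 2 * w ∧ wk = w ∧ x = 2 * w ∧ z = 2 * w) ∨
    (mi = m ∧ mj = 2 * m ∧ mk = m ∧ wi = 2 * w ∧ wj = w ∧ wk = 2 * w ∧ x = 2 * w ∧ z = 2 * w)

theorem path_core (mi mj mk wi wj wk x z : ℤ) (hmi : 0 < mi) (hmj : 0 < mj) (hmk : 0 < mk)
    (hwi : 0 < wi) (hwj : 0 < wj) (hwk : 0 < wk) (hx : 0 < x) (hz : 0 < z)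
    (hxi : wi ∣ x) (hxj : wj ∣ x) (hzj : wj ∣ z) (hzk : wk ∣ z)
    (Ei : 2 * wi * mi = x * mj) (Ej : 2 * wj * mj = x * mi + z * mk) (Ek : 2 * wk * mk = z * mj) :
    PathOK mi mj mk wi wj wk x z ∨ PathOK mk mj mi wk wj wi z x := by
  obtain ⟨p, hp⟩ := hxi
  obtain ⟨p', hp'⟩ := hxj
  obtain ⟨q', hq'⟩ := hzj
  obtain ⟨q, hq⟩ := hzk
  have hp0 : 0 < p := by
    by_contra hcon; push Not at hcon
    have := mul_nonpos_of_nonneg_of_nonpos hwi.le hcon; omega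
  have hp'0 : 0 < p' := by
    by_contra hcon; push Not at hcon
    have := mul_nonpos_of_nonneg_of_nonpos hwj.le hcon; omega
  have hq'0 : 0 < q' := by
    by_contra hcon; push Not at hcon
    have := mul_nonpos_of_nonneg_of_nonpos hwj.le hcon; omega
  have hq0 : 0 < q := by
    by_contra hcon; push Not at hcon
    have := mul_nonpos_of_nonneg_of_nonpos hwk.le hcon; omega
  have Hi : 2 * mi = p * mj := by
    apply mul_left_cancel₀ hwi.ne'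
    linear_combination Ei + mj * hp
  have Hk : 2 * mk = q * mj := by
    apply mul_left_cancel₀ hwk.ne'
    linear_combination Ek + mj * hq
  have Hj : 2 * mj = p' * mi + q' * mk := by
    apply mul_left_cancel₀ hwj.ne'
    linear_combination Ej + mi * hp' + mk * hq'
  have Hprod : p * p' + q * q' = 4 := by
    have h1 : (4 - p * p' - q * q') * mj = 0 := by
      linear_combination 2 * Hj + p' * Hi + q' * Hk
    rcases mul_eq_zero.mp h1 with h | h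
    · linarith
    · omega
  have hpp' : 1 ≤ p * p' := by nlinarith
  have hqq' : 1 ≤ q * q' := by nlinarith
  have hp3 : p ≤ 3 := by nlinarith
  have hp'3 : p' ≤ 3 := by nlinarith
  have hq3 : q ≤ 3 := by nlinarith
  have hq'3 : q' ≤ 3 := by nlinarith
  have h8 : (p = 1 ∧ p' = 1 ∧ q' = 3 ∧ q = 1) ∨ (p = 1 ∧ p' = 1 ∧ q' = 1 ∧ q = 3) ∨
      (p = 2 ∧ p' = 1 ∧ q' = 2 ∧ q = 1) ∨ (p = 2 ∧ p' = 1 ∧ q' = 1 ∧ q = 2) ∨
      (p = 1 ∧ p' = 2 ∧ q' = 2 ∧ q = 1) ∨ (p = 1 ∧ p' = 3 ∧ q' = 1 ∧ q = 1) ∨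
      (p = 3 ∧ p' = 1 ∧ q' = 1 ∧ q = 1) ∨ (p = 1 ∧ p' = 2 ∧ q' = 1 ∧ q = 2) := by
    clear Hi Hj Hk hp hp' hq hq' Ei Ej Ek hpp' hqq'
    interval_cases p <;> interval_cases p' <;> interval_cases q <;> interval_cases q' <;> omega
  unfold PathOK
  rcases h8 with ⟨rfl, rfl, rfl, rfl⟩ | ⟨rfl, rfl, rfl, rfl⟩ | ⟨rfl, rfl, rfl, rfl⟩ |
    ⟨rfl, rfl, rfl, rfl⟩ | ⟨rfl, rfl, rfl, rfl⟩ | ⟨rfl, rfl, rfl, rfl⟩ | ⟨rfl, rfl, rfl, rfl⟩ |
    ⟨rfl, rfl, rfl, rfl⟩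
  · refine Or.inl ⟨mi, wi, Or.inl ⟨?_, ?_, ?_, ?_, ?_, ?_, ?_, ?_⟩⟩ <;> omega
  · refine Or.inl ⟨mi, wk, Or.inr (Or.inl ⟨?_, ?_, ?_, ?_, ?_, ?_, ?_, ?_⟩)⟩ <;> omega
  · refine Or.inl ⟨mk, wi, Or.inr (Or.inr (Or.inl ⟨?_, ?_, ?_, ?_, ?_, ?_, ?_, ?_⟩))⟩ <;> omega
  · refine Or.inl ⟨mi, wi, Or.inr (Or.inr (Or.inr (Or.inl ⟨?_, ?_, ?_, ?_, ?_, ?_, ?_, ?_⟩)))⟩ <;>
      omega
  · refine Or.inl ⟨mi, wj, Or.inr (Or.inr (Or.inr (Or.inr ⟨?_, ?_, ?_, ?_, ?_, ?_, ?_, ?_⟩)))⟩ <;>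
      omega
  · refine Or.inr ⟨mk, wk, Or.inl ⟨?_, ?_, ?_, ?_, ?_, ?_, ?_, ?_⟩⟩ <;> omega
  · refine Or.inr ⟨mk, wi, Or.inr (Or.inl ⟨?_, ?_, ?_, ?_, ?_, ?_, ?_, ?_⟩)⟩ <;> omega
  · refine Or.inr ⟨mi, wk, Or.inr (Or.inr (Or.inl ⟨?_, ?_, ?_, ?_, ?_, ?_, ?_, ?_⟩))⟩ <;> omega

/-- The conclusion of the statement, as a predicate. -/
def Target (T : Models.NumericalType 3) : Prop :=
    ∃ (i j k : Fin 3) (m w : ℤ), i ≠ j ∧ j ≠ k ∧ i ≠ k ∧ T.g i = 0 ∧ T.g j = 0 ∧ T.g k = 0 ∧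
      ((T.m i = m ∧ T.m j = m ∧ T.m k = m ∧ T.a i i = -2 * w ∧ T.a j j = -2 * w ∧ T.a k k = -2 * w ∧
          T.a i j = w ∧ T.a i k = w ∧ T.a j k = w ∧ T.w i = w ∧ T.w j = w ∧ T.w k = w) ∨
        (T.m i = m ∧ T.m j = 2 * m ∧ T.m k = m ∧ T.a i i = -2 * w ∧ T.a i j = w ∧ T.a i k = 0 ∧ T.a j j = -2 * w ∧
          T.a j k = 3 * w ∧ T.a k k = -6 * w ∧ T.w i = w ∧ T.w j = w ∧ T.w k = 3 * w) ∨
        (T.m i = m ∧ T.m j = 2 * m ∧ T.m k = 3 * m ∧ T.a i i = -6 * w ∧ T.a i j = 3 * w ∧ T.a i k = 0 ∧ T.a j j = -6 * w ∧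
          T.a j k = 3 * w ∧ T.a k k = -2 * w ∧ T.w i = 3 * w ∧ T.w j = 3 * w ∧ T.w k = w) ∨
        (T.m i = 2 * m ∧ T.m j = 2 * m ∧ T.m k = m ∧ T.a i i = -2 * w ∧ T.a i j = 2 * w ∧ T.a i k = 0 ∧ T.a j j = -4 * w ∧
          T.a j k = 4 * w ∧ T.a k k = -8 * w ∧ T.w i = w ∧ T.w j = 2 * w ∧ T.w k = 4 * w) ∨
        (T.m i = m ∧ T.m j = m ∧ T.m k = m ∧ T.a i i = -2 * w ∧ T.a i j = 2 * w ∧ T.a i k = 0 ∧ T.a j j = -4 * w ∧
          T.a j k = 2 * w ∧ T.a k k = -2 * w ∧ T.w i = w ∧ T.w j = 2 * w ∧ T.w k = w) ∨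
        (T.m i = m ∧ T.m j = 2 * m ∧ T.m k = m ∧ T.a i i = -4 * w ∧ T.a i j = 2 * w ∧ T.a i k = 0 ∧ T.a j j = -2 * w ∧
          T.a j k = 2 * w ∧ T.a k k = -4 * w ∧ T.w i = 2 * w ∧ T.w j = w ∧ T.w k = 2 * w))

theorem finish (T : Models.NumericalType 3) (i j k : Fin 3) (hij : i ≠ j) (hjk : j ≠ k)
    (hik : i ≠ k) (h2 : ∀ l, T.IsMinusTwo l) (hik0 : T.a i k = 0)
    (hP : PathOK (T.m i) (T.m j) (T.m k) (T.w i) (T.w j) (T.w k) (T.a i j) (T.a j k)) :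
    Target T := by
  have di := (h2 i).2
  have dj := (h2 j).2
  have dk := (h2 k).2
  obtain ⟨m, w, h | h | h | h | h⟩ := hP <;> obtain ⟨e1, e2, e3, e4, e5, e6, e7, e8⟩ := h <;>
    refine ⟨i, j, k, m, w, hij, hjk, hik, (h2 i).1, (h2 j).1, (h2 k).1, ?_⟩
  · right; left
    refine ⟨?_, ?_, ?_, ?_, ?_, ?_, ?_, ?_, ?_, ?_, ?_, ?_⟩ <;> omega
  · right; right; left
    refine ⟨?_, ?_, ?_, ?_, ?_, ?_, ?_, ?_, ?_, ?_, ?_, ?_⟩ <;> omega
  · right; right; right; left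
    refine ⟨?_, ?_, ?_, ?_, ?_, ?_, ?_, ?_, ?_, ?_, ?_, ?_⟩ <;> omega
  · right; right; right; right; left
    refine ⟨?_, ?_, ?_, ?_, ?_, ?_, ?_, ?_, ?_, ?_, ?_, ?_⟩ <;> omega
  · right; right; right; right; right
    refine ⟨?_, ?_, ?_, ?_, ?_, ?_, ?_, ?_, ?_, ?_, ?_, ?_⟩ <;> omega

/-- A path `i - j - k` (with `a i k = 0`) gives the target. -/
theorem path_case (T : Models.NumericalType 3) (i j k : Fin 3) (hij : i ≠ j) (hjk : j ≠ k)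
    (hik : i ≠ k) (h2 : ∀ l, T.IsMinusTwo l) (hik0 : T.a i k = 0)
    (hx : T.a i j ≠ 0) (hz : T.a j k ≠ 0)
    (ri : T.a i i * T.m i + T.a i j * T.m j + T.a i k * T.m k = 0)
    (rj : T.a j i * T.m i + T.a j j * T.m j + T.a j k * T.m k = 0)
    (rk : T.a k i * T.m i + T.a k j * T.m j + T.a k k * T.m k = 0) :
    Target T := by
  have di := (h2 i).2
  have dj := (h2 j).2
  have dk := (h2 k).2
  have sji : T.a j i = T.a i j := T.symm.apply i j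
  have ski : T.a k i = T.a i k := T.symm.apply i k
  have skj : T.a k j = T.a j k := T.symm.apply j k
  have hx0 : 0 < T.a i j := lt_of_le_of_ne (T.offDiag_nonneg i j hij) (Ne.symm hx)
  have hz0 : 0 < T.a j k := lt_of_le_of_ne (T.offDiag_nonneg j k hjk) (Ne.symm hz)
  have h := path_core (T.m i) (T.m j) (T.m k) (T.w i) (T.w j) (T.w k) (T.a i j) (T.a j k)
    (T.m_pos i) (T.m_pos j) (T.m_pos k) (T.w_pos i) (T.w_pos j) (T.w_pos k) hx0 hz0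
    (T.w_dvd i j) (sji ▸ T.w_dvd j i) (T.w_dvd j k) (skj ▸ T.w_dvd k j)
    (by linear_combination (-1 : ℤ) * ri + T.m i * di + T.m k * hik0)
    (by linear_combination (-1 : ℤ) * rj + T.m j * dj + T.m i * sji)
    (by linear_combination (-1 : ℤ) * rk + T.m k * dk + T.m i * ski + T.m i * hik0 + T.m j * skj)
  rcases h with h | h
  · exact finish T i j k hij hjk hik h2 hik0 h
  · refine finish T k j i hjk.symm hij.symm hik.symm h2 (by rw [ski, hik0]) ?_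
    rw [skj, sji]
    exact h

/-- Genus one classification: case n = 3: let T be a minimal numerical type of genus 1 on three indices.
Then all g = 0 and, for some ordering i, j, k of the indices and some integers m, w, the data (m; a;
w) is one of: (m,m,m; a_ii = a_jj = a_kk = -2w, a_ij = a_ik = a_jk = w; w,w,w); (m,2m,m; a_ii = -2w,
a_ij = w, a_ik = 0, a_jj = -2w, a_jk = 3w, a_kk = -6w; w,w,3w); (m,2m,3m; a_ii = -6w, a_ij = 3w,
a_ik = 0, a_jj = -6w, a_jk = 3w, a_kk = -2w; 3w,3w,w); (2m,2m,m; a_ii = -2w, a_ij = 2w, a_ik = 0,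
a_jj = -4w, a_jk = 4w, a_kk = -8w; w,2w,4w); (m,m,m; a_ii = -2w, a_ij = 2w, a_ik = 0, a_jj = -4w,
a_jk = 2w, a_kk = -2w; w,2w,w); (m,2m,m; a_ii = -4w, a_ij = 2w, a_ik = 0, a_jj = -2w, a_jk = 2w,
a_kk = -4w; 2w,w,2w). Only the classification direction is stated. -/
theorem result (T : Models.NumericalType 3) (hmin : T.IsMinimal) (hg : T.genus = 1) :
    ∃ (i j k : Fin 3) (m w : ℤ), i ≠ j ∧ j ≠ k ∧ i ≠ k ∧ T.g i = 0 ∧ T.g j = 0 ∧ T.g k = 0 ∧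
      ((T.m i = m ∧ T.m j = m ∧ T.m k = m ∧ T.a i i = -2 * w ∧ T.a j j = -2 * w ∧ T.a k k = -2 * w ∧
          T.a i j = w ∧ T.a i k = w ∧ T.a j k = w ∧ T.w i = w ∧ T.w j = w ∧ T.w k = w) ∨
        (T.m i = m ∧ T.m j = 2 * m ∧ T.m k = m ∧ T.a i i = -2 * w ∧ T.a i j = w ∧ T.a i k = 0 ∧ T.a j j = -2 * w ∧
          T.a j k = 3 * w ∧ T.a k k = -6 * w ∧ T.w i = w ∧ T.w j = w ∧ T.w k = 3 * w) ∨
        (T.m i = m ∧ T.m j = 2 * m ∧ T.m k = 3 * m ∧ T.a i i = -6 * w ∧ T.a i j = 3 * w ∧ T.a i k = 0 ∧ T.a j j = -6 * w ∧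
          T.a j k = 3 * w ∧ T.a k k = -2 * w ∧ T.w i = 3 * w ∧ T.w j = 3 * w ∧ T.w k = w) ∨
        (T.m i = 2 * m ∧ T.m j = 2 * m ∧ T.m k = m ∧ T.a i i = -2 * w ∧ T.a i j = 2 * w ∧ T.a i k = 0 ∧ T.a j j = -4 * w ∧
          T.a j k = 4 * w ∧ T.a k k = -8 * w ∧ T.w i = w ∧ T.w j = 2 * w ∧ T.w k = 4 * w) ∨
        (T.m i = m ∧ T.m j = m ∧ T.m k = m ∧ T.a i i = -2 * w ∧ T.a i j = 2 * w ∧ T.a i k = 0 ∧ T.a j j = -4 * w ∧
          T.a j k = 2 * w ∧ T.a k k = -2 * w ∧ T.w i = w ∧ T.w j = 2 * w ∧ T.w k = w) ∨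
        (T.m i = m ∧ T.m j = 2 * m ∧ T.m k = m ∧ T.a i i = -4 * w ∧ T.a i j = 2 * w ∧ T.a i k = 0 ∧ T.a j j = -2 * w ∧
          T.a j k = 2 * w ∧ T.a k k = -4 * w ∧ T.w i = 2 * w ∧ T.w j = w ∧ T.w k = 2 * w)) := by
  have hn : 1 < 3 := by norm_num
  have h2 := all_minusTwo T hn hmin hg
  have r0 := Groth.Agent.H11.nt_row_sum T 0
  have r1 := Groth.Agent.H11.nt_row_sum T 1
  have r2 := Groth.Agent.H11.nt_row_sum T 2
  simp only [Fin.sum_univ_three] at r0 r1 r2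
  have s10 : T.a 1 0 = T.a 0 1 := T.symm.apply 0 1
  have s20 : T.a 2 0 = T.a 0 2 := T.symm.apply 0 2
  have s21 : T.a 2 1 = T.a 1 2 := T.symm.apply 1 2
  have c0 : T.a 0 1 ≠ 0 ∨ T.a 0 2 ≠ 0 := by
    obtain ⟨i, hi, j, hj, hij⟩ := T.connected {0} (by simp) (by decide)
    simp only [Finset.mem_singleton] at hi hj
    subst hi
    fin_cases j
    · exact absurd rfl hj
    · exact Or.inl hij
    · exact Or.inr hij
  have c1 : T.a 1 0 ≠ 0 ∨ T.a 1 2 ≠ 0 := by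
    obtain ⟨i, hi, j, hj, hij⟩ := T.connected {1} (by simp) (by decide)
    simp only [Finset.mem_singleton] at hi hj
    subst hi
    fin_cases j
    · exact Or.inl hij
    · exact absurd rfl hj
    · exact Or.inr hij
  have c2 : T.a 2 0 ≠ 0 ∨ T.a 2 1 ≠ 0 := by
    obtain ⟨i, hi, j, hj, hij⟩ := T.connected {2} (by simp) (by decide)
    simp only [Finset.mem_singleton] at hi hj
    subst hi
    fin_cases j
    · exact Or.inl hij
    · exact Or.inr hij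
    · exact absurd rfl hj
  rw [s10] at c1
  rw [s20, s21] at c2
  change Target T
  by_cases h02 : T.a 0 2 = 0
  · -- path 0 - 1 - 2
    have h01 : T.a 0 1 ≠ 0 := by tauto
    have h12 : T.a 1 2 ≠ 0 := by tauto
    exact path_case T 0 1 2 (by decide) (by decide) (by decide) h2 h02 h01 h12 r0 r1 r2
  by_cases h01 : T.a 0 1 = 0
  · -- path 0 - 2 - 1
    have h12 : T.a 1 2 ≠ 0 := by tauto
    refine path_case T 0 2 1 (by decide) (by decide) (by decide) h2 h01 h02 (by rw [s21]; exact h12)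
      ?_ ?_ ?_
    · linear_combination r0
    · linear_combination r2
    · linear_combination r1
  by_cases h12 : T.a 1 2 = 0
  · -- path 1 - 0 - 2
    refine path_case T 1 0 2 (by decide) (by decide) (by decide) h2 h12 (by rw [s10]; exact h01) h02
      ?_ ?_ ?_
    · linear_combination r1
    · linear_combination r0
    · linear_combination r2
  -- triangle
  have d0 := (h2 0).2
  have d1 := (h2 1).2
  have d2 := (h2 2).2
  have hx0 : 0 < T.a 0 1 := lt_of_le_of_ne (T.offDiag_nonneg 0 1 (by decide)) (Ne.symm h01)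
  have hy0 : 0 < T.a 0 2 := lt_of_le_of_ne (T.offDiag_nonneg 0 2 (by decide)) (Ne.symm h02)
  have hz0 : 0 < T.a 1 2 := lt_of_le_of_ne (T.offDiag_nonneg 1 2 (by decide)) (Ne.symm h12)
  have hw0 := T.w_pos 0
  have hw1 := T.w_pos 1
  have hw2 := T.w_pos 2
  have hm0 := T.m_pos 0
  have hm1 := T.m_pos 1
  have hm2 := T.m_pos 2
  obtain ⟨p01, hp01⟩ := T.w_dvd 0 1
  obtain ⟨p02, hp02⟩ := T.w_dvd 0 2
  obtain ⟨p10, hp10⟩ : T.w 1 ∣ T.a 0 1 := s10 ▸ T.w_dvd 1 0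
  obtain ⟨p12, hp12⟩ := T.w_dvd 1 2
  obtain ⟨p20, hp20⟩ : T.w 2 ∣ T.a 0 2 := s20 ▸ T.w_dvd 2 0
  obtain ⟨p21, hp21⟩ : T.w 2 ∣ T.a 1 2 := s21 ▸ T.w_dvd 2 1
  have pos_of : ∀ (w p a : ℤ), 0 < w → 0 < a → a = w * p → 1 ≤ p := by
    intro w p a hw ha hap
    by_contra hcon; push Not at hcon
    have h1 : p ≤ 0 := by omega
    have := mul_nonpos_of_nonneg_of_nonpos hw.le h1; omega
  have q01 := pos_of _ _ _ hw0 hx0 hp01
  have q02 := pos_of _ _ _ hw0 hy0 hp02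
  have q10 := pos_of _ _ _ hw1 hx0 hp10
  have q12 := pos_of _ _ _ hw1 hz0 hp12
  have q20 := pos_of _ _ _ hw2 hy0 hp20
  have q21 := pos_of _ _ _ hw2 hz0 hp21
  have H0 : 2 * T.m 0 = p01 * T.m 1 + p02 * T.m 2 := by
    apply mul_left_cancel₀ hw0.ne'
    linear_combination (-1 : ℤ) * r0 + T.m 0 * d0 + T.m 1 * hp01 + T.m 2 * hp02
  have H1 : 2 * T.m 1 = p10 * T.m 0 + p12 * T.m 2 := by
    apply mul_left_cancel₀ hw1.ne'
    linear_combination (-1 : ℤ) * r1 + T.m 1 * d1 + T.m 0 * s10 + T.m 0 * hp10 + T.m 2 * hp12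
  have H2 : 2 * T.m 2 = p20 * T.m 0 + p21 * T.m 1 := by
    apply mul_left_cancel₀ hw2.ne'
    linear_combination (-1 : ℤ) * r2 + T.m 2 * d2 + T.m 0 * s20 + T.m 1 * s21 + T.m 0 * hp20 +
      T.m 1 * hp21
  have t0 : 0 ≤ (p10 + p20 - 2) * T.m 0 := mul_nonneg (by omega) hm0.le
  have t1 : 0 ≤ (p01 + p21 - 2) * T.m 1 := mul_nonneg (by omega) hm1.le
  have t2 : 0 ≤ (p02 + p12 - 2) * T.m 2 := mul_nonneg (by omega) hm2.le
  have tsum : (p10 + p20 - 2) * T.m 0 + (p01 + p21 - 2) * T.m 1 + (p02 + p12 - 2) * T.m 2 = 0 := by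
    linear_combination (-1 : ℤ) * H0 - H1 - H2
  have e0 : (p10 + p20 - 2) * T.m 0 = 0 := by linarith
  have e1 : (p01 + p21 - 2) * T.m 1 = 0 := by linarith
  have e2 : (p02 + p12 - 2) * T.m 2 = 0 := by linarith
  have f0 : p10 + p20 - 2 = 0 := by
    rcases mul_eq_zero.mp e0 with h | h
    · exact h
    · omega
  have f1 : p01 + p21 - 2 = 0 := by
    rcases mul_eq_zero.mp e1 with h | h
    · exact h
    · omega
  have f2 : p02 + p12 - 2 = 0 := by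
    rcases mul_eq_zero.mp e2 with h | h
    · exact h
    · omega
  have g01 : p01 = 1 := by omega
  have g02 : p02 = 1 := by omega
  have g10 : p10 = 1 := by omega
  have g12 : p12 = 1 := by omega
  have g20 : p20 = 1 := by omega
  have g21 : p21 = 1 := by omega
  subst g01 g02 g10 g12 g20 g21
  refine ⟨0, 1, 2, T.m 0, T.w 0, by decide, by decide, by decide, (h2 0).1, (h2 1).1, (h2 2).1, ?_⟩
  left
  refine ⟨?_, ?_, ?_, ?_, ?_, ?_, ?_, ?_, ?_, ?_, ?_, ?_⟩ <;> omega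

end Groth.Agent.S7363
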