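import Groth.Statements.S7364
import Groth.Agent.H99.NTExp

set_option autoImplicit false
open Finset
open Models Models.NumericalType

namespace Groth.Agent.S7364

/-- Genus one classification: case n = 4: let T be a minimal numerical type of genus 1 on 4 indices.
Then all g_i = 0 and, for some permutation σ of the indices and some integers m, w, the
multiplicities, weights and intersection matrix (m_{σ(i)}, w_{σ(i)}, a_{σ(i)σ(j)}) are those of one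
of the following 6 types: [four cycle] m = (m, m, m, m), w = (w, w, w, w), a = (-2 * w w 0 w / w -2
* w w 0 / 0 w -2 * w w / w 0 w -2 * w); [up equal up] m = (2 * m, 2 * m, 2 * m, m), w = (w, 2 * w, 2
* w, 4 * w), a = (-2 * w 2 * w 0 0 / 2 * w -4 * w 2 * w 0 / 0 2 * w -4 * w 4 * w / 0 0 4 * w -8 *
w); [up equal down] m = (m, m, m, m), w = (w, 2 * w, 2 * w, w), a = (-2 * w 2 * w 0 0 / 2 * w -4 * w
2 * w 0 / 0 2 * w -4 * w 2 * w / 0 0 2 * w -2 * w); [down equal up] m = (m, 2 * m, 2 * m, m), w = (2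
* w, w, w, 2 * w), a = (-4 * w 2 * w 0 0 / 2 * w -2 * w w 0 / 0 w -2 * w 2 * w / 0 0 2 * w -4 * w);
[triple with up] m = (2 * m, m, m, m), w = (w, w, w, 2 * w), a = (-2 * w w w 2 * w / w -2 * w 0 0 /
w 0 -2 * w 0 / 2 * w 0 0 -4 * w); [triple with down] m = (2 * m, m, m, 2 * m), w = (2 * w, 2 * w, 2
* w, w), a = (-4 * w 2 * w 2 * w 2 * w / 2 * w -4 * w 0 0 / 2 * w 0 -4 * w 0 / 2 * w 0 0 -2 * w).
Only the classification direction is stated. -/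
theorem result (T : Models.NumericalType 4) (hmin : T.IsMinimal) (hg : T.genus = 1) :
    (∀ i, T.g i = 0) ∧ ∃ (σ : Equiv.Perm (Fin 4)) (m w : ℤ),
      ((T.m (σ 0) = m ∧ T.m (σ 1) = m ∧ T.m (σ 2) = m ∧ T.m (σ 3) = m ∧ T.w (σ 0) = w ∧ T.w (σ 1) = w ∧ T.w (σ 2) = w ∧ T.w (σ 3) = w ∧ T.a (σ 0) (σ 0) = -2 * w ∧ T.a (σ 0) (σ 1) = w ∧ T.a (σ 0) (σ 2) = 0 ∧ T.a (σ 0) (σ 3) = w ∧ T.a (σ 1) (σ 1) = -2 * w ∧ T.a (σ 1) (σ 2) = w ∧ T.a (σ 1) (σ 3) = 0 ∧ T.a (σ 2) (σ 2) = -2 * w ∧ T.a (σ 2) (σ 3) = w ∧ T.a (σ 3) (σ 3) = -2 * w) ∨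
      (T.m (σ 0) = 2 * m ∧ T.m (σ 1) = 2 * m ∧ T.m (σ 2) = 2 * m ∧ T.m (σ 3) = m ∧ T.w (σ 0) = w ∧ T.w (σ 1) = 2 * w ∧ T.w (σ 2) = 2 * w ∧ T.w (σ 3) = 4 * w ∧ T.a (σ 0) (σ 0) = -2 * w ∧ T.a (σ 0) (σ 1) = 2 * w ∧ T.a (σ 0) (σ 2) = 0 ∧ T.a (σ 0) (σ 3) = 0 ∧ T.a (σ 1) (σ 1) = -4 * w ∧ T.a (σ 1) (σ 2) = 2 * w ∧ T.a (σ 1) (σ 3) = 0 ∧ T.a (σ 2) (σ 2) = -4 * w ∧ T.a (σ 2) (σ 3) = 4 * w ∧ T.a (σ 3) (σ 3) = -8 * w) ∨
      (T.m (σ 0) = m ∧ T.m (σ 1) = m ∧ T.m (σ 2) = m ∧ T.m (σ 3) = m ∧ T.w (σ 0) = w ∧ T.w (σ 1) = 2 * w ∧ T.w (σ 2) = 2 * w ∧ T.w (σ 3) = w ∧ T.a (σ 0) (σ 0) = -2 * w ∧ T.a (σ 0) (σ 1) = 2 * w ∧ T.a (σ 0) (σ 2) = 0 ∧ T.a (σ 0) (σ 3) = 0 ∧ T.a (σ 1) (σ 1) = -4 * w ∧ T.a (σ 1) (σ 2) = 2 * w ∧ T.a (σ 1) (σ 3) = 0 ∧ T.a (σ 2) (σ 2) = -4 * w ∧ T.a (σ 2) (σ 3) = 2 * w ∧ T.a (σ 3) (σ 3) = -2 * w) ∨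
      (T.m (σ 0) = m ∧ T.m (σ 1) = 2 * m ∧ T.m (σ 2) = 2 * m ∧ T.m (σ 3) = m ∧ T.w (σ 0) = 2 * w ∧ T.w (σ 1) = w ∧ T.w (σ 2) = w ∧ T.w (σ 3) = 2 * w ∧ T.a (σ 0) (σ 0) = -4 * w ∧ T.a (σ 0) (σ 1) = 2 * w ∧ T.a (σ 0) (σ 2) = 0 ∧ T.a (σ 0) (σ 3) = 0 ∧ T.a (σ 1) (σ 1) = -2 * w ∧ T.a (σ 1) (σ 2) = w ∧ T.a (σ 1) (σ 3) = 0 ∧ T.a (σ 2) (σ 2) = -2 * w ∧ T.a (σ 2) (σ 3) = 2 * w ∧ T.a (σ 3) (σ 3) = -4 * w) ∨
      (T.m (σ 0) = 2 * m ∧ T.m (σ 1) = m ∧ T.m (σ 2) = m ∧ T.m (σ 3) = m ∧ T.w (σ 0) = w ∧ T.w (σ 1) = w ∧ T.w (σ 2) = w ∧ T.w (σ 3) = 2 * w ∧ T.a (σ 0) (σ 0) = -2 * w ∧ T.a (σ 0) (σ 1) = w ∧ T.a (σ 0) (σ 2) = w ∧ T.a (σ 0) (σ 3) = 2 * w ∧ T.a (σ 1) (σ 1) = -2 * w ∧ T.a (σ 1) (σ 2) = 0 ∧ T.a (σ 1) (σ 3) = 0 ∧ T.a (σ 2) (σ 2) = -2 * w ∧ T.a (σ 2) (σ 3) = 0 ∧ T.a (σ 3) (σ 3) = -4 * w) ∨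
      (T.m (σ 0) = 2 * m ∧ T.m (σ 1) = m ∧ T.m (σ 2) = m ∧ T.m (σ 3) = 2 * m ∧ T.w (σ 0) = 2 * w ∧ T.w (σ 1) = 2 * w ∧ T.w (σ 2) = 2 * w ∧ T.w (σ 3) = w ∧ T.a (σ 0) (σ 0) = -4 * w ∧ T.a (σ 0) (σ 1) = 2 * w ∧ T.a (σ 0) (σ 2) = 2 * w ∧ T.a (σ 0) (σ 3) = 2 * w ∧ T.a (σ 1) (σ 1) = -4 * w ∧ T.a (σ 1) (σ 2) = 0 ∧ T.a (σ 1) (σ 3) = 0 ∧ T.a (σ 2) (σ 2) = -4 * w ∧ T.a (σ 2) (σ 3) = 0 ∧ T.a (σ 3) (σ 3) = -2 * w)) := by
  have hm2' : ∀ i, T.IsMinusTwo i := fun i =>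
    Groth.Agent.H37.all_minusTwo_of_genus_one T hmin (by norm_num) hg i
  have hd : ∀ i, T.a i i = -2 * T.w i := fun i => (hm2' i).2
  refine ⟨fun i => (hm2' i).1, ?_⟩
  rcases Groth.Agent.H99.NT.classify (by norm_num) hm2' with ⟨σ, m, w, hF⟩ | hS
  · rcases hF with h | h | h | h | h | h | h
    · unfold Groth.Agent.H99.NT.F1 at h
      obtain ⟨hm, hw, ha1, ha2, ha0⟩ := h
      refine ⟨σ, m, w, Or.inl ?_⟩
      refine ⟨?_, ?_, ?_, ?_, ?_, ?_, ?_, ?_, ?_, ?_, ?_, ?_, ?_, ?_, ?_, ?_, ?_, ?_⟩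
      all_goals first
        | exact hm _
        | exact hw _
        | exact Groth.Agent.H99.NT.diag1 hd (hw _)
        | exact ha1 _ _ (by decide) (by decide)
        | exact ha2 _ _ (by decide) (by decide)
        | exact ha0 _ _ (by decide) (by decide) (by decide)
    · unfold Groth.Agent.H99.NT.F2 at h
      obtain ⟨hm1, hm2, hw1, hw2, hw3, ha1, ha2, ha0⟩ := h
      refine ⟨σ, m, w, Or.inr (Or.inl ?_)⟩
      refine ⟨?_, ?_, ?_, ?_, ?_, ?_, ?_, ?_, ?_, ?_, ?_, ?_, ?_, ?_, ?_, ?_, ?_, ?_⟩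
      all_goals first
        | exact hm1 _ (by decide)
        | exact hm2 _ (by decide)
        | exact hw1 _ (by decide)
        | exact hw2 _ (by decide)
        | exact hw3 _ (by decide)
        | exact Groth.Agent.H99.NT.diag1 hd (hw1 _ (by decide))
        | exact Groth.Agent.H99.NT.diag2 hd (hw2 _ (by decide))
        | exact Groth.Agent.H99.NT.diag4 hd (hw3 _ (by decide))
        | exact ha1 _ _ (by decide) (by decide)
        | exact ha2 _ _ (by decide) (by decide)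
        | exact ha0 _ _ (by decide) (by decide) (by decide)
    · unfold Groth.Agent.H99.NT.F3 at h
      obtain ⟨hm, hw1, hw2, hw3, ha1, ha0⟩ := h
      refine ⟨σ, m, w, Or.inr (Or.inr (Or.inl ?_))⟩
      refine ⟨?_, ?_, ?_, ?_, ?_, ?_, ?_, ?_, ?_, ?_, ?_, ?_, ?_, ?_, ?_, ?_, ?_, ?_⟩
      all_goals first
        | exact hm _
        | exact hw1 _ (by decide)
        | exact hw2 _ (by decide)
        | exact hw3 _ (by decide)
        | exact Groth.Agent.H99.NT.diag1 hd (hw1 _ (by decide))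
        | exact Groth.Agent.H99.NT.diag2 hd (hw2 _ (by decide))
        | exact Groth.Agent.H99.NT.diag1 hd (hw3 _ (by decide))
        | exact ha1 _ _ (by decide) (by decide)
        | exact ha0 _ _ (by decide) (by decide)
    · unfold Groth.Agent.H99.NT.F4 at h
      obtain ⟨hm1, hm2, hm3, hw1, hw2, hw3, ha1, ha2, ha3, ha0⟩ := h
      refine ⟨σ, m, w, Or.inr (Or.inr (Or.inr (Or.inl ?_)))⟩
      refine ⟨?_, ?_, ?_, ?_, ?_, ?_, ?_, ?_, ?_, ?_, ?_, ?_, ?_, ?_, ?_, ?_, ?_, ?_⟩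
      all_goals first
        | exact hm1 _ (by decide)
        | exact hm2 _ (by decide)
        | exact hm3 _ (by decide)
        | exact hw1 _ (by decide)
        | exact hw2 _ (by decide)
        | exact hw3 _ (by decide)
        | exact Groth.Agent.H99.NT.diag2 hd (hw1 _ (by decide))
        | exact Groth.Agent.H99.NT.diag1 hd (hw2 _ (by decide))
        | exact Groth.Agent.H99.NT.diag2 hd (hw3 _ (by decide))
        | exact ha1 _ _ (by decide) (by decide)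
        | exact ha2 _ _ (by decide) (by decide)
        | exact ha3 _ _ (by decide) (by decide)
        | exact ha0 _ _ (by decide) (by decide) (by decide) (by decide)
    · unfold Groth.Agent.H99.NT.F5 at h
      obtain ⟨hm1, hm2, hm3, hw1, hw2, ha1, ha2, ha3, ha0⟩ := h
      refine ⟨Groth.Agent.H99.NT.tau4.trans σ, m, w, Or.inr (Or.inr (Or.inr (Or.inr (Or.inl ?_))))⟩
      have t0 : Groth.Agent.H99.NT.tau4 0 = 1 := by decide
      have t1 : Groth.Agent.H99.NT.tau4 1 = 2 := by decide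
      have t2 : Groth.Agent.H99.NT.tau4 2 = 3 := by decide
      have t3 : Groth.Agent.H99.NT.tau4 3 = 0 := by decide
      simp only [Equiv.trans_apply, t0, t1, t2, t3]
      refine ⟨?_, ?_, ?_, ?_, ?_, ?_, ?_, ?_, ?_, ?_, ?_, ?_, ?_, ?_, ?_, ?_, ?_, ?_⟩
      all_goals first
        | exact hm1 _ (by decide)
        | exact hm2 _ (by decide)
        | exact hm3 _ (by decide)
        | exact hw1 _ (by decide)
        | exact hw2 _ (by decide)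
        | exact Groth.Agent.H99.NT.diag2 hd (hw1 _ (by decide))
        | exact Groth.Agent.H99.NT.diag1 hd (hw2 _ (by decide))
        | exact ha1 _ _ (by decide) (by decide)
        | exact ha2 _ _ (by decide) (by decide)
        | exact ha3 _ _ (by decide) (by decide)
        | exact ha0 _ _ (by decide) (by decide) (by decide) (by decide)
        | exact (Groth.Agent.H37.a_symm T _ _).trans (ha1 _ _ (by decide) (by decide))
        | exact (Groth.Agent.H37.a_symm T _ _).trans (ha2 _ _ (by decide) (by decide))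
        | exact (Groth.Agent.H37.a_symm T _ _).trans (ha3 _ _ (by decide) (by decide))
        | exact (Groth.Agent.H37.a_symm T _ _).trans (ha0 _ _ (by decide) (by decide) (by decide) (by decide))
    · unfold Groth.Agent.H99.NT.F6 at h
      obtain ⟨hm1, hm2, hw1, hw2, ha1, ha2, ha0⟩ := h
      refine ⟨Groth.Agent.H99.NT.tau4.trans σ, m, w, Or.inr (Or.inr (Or.inr (Or.inr (Or.inr (?_)))))⟩
      have t0 : Groth.Agent.H99.NT.tau4 0 = 1 := by decide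
      have t1 : Groth.Agent.H99.NT.tau4 1 = 2 := by decide
      have t2 : Groth.Agent.H99.NT.tau4 2 = 3 := by decide
      have t3 : Groth.Agent.H99.NT.tau4 3 = 0 := by decide
      simp only [Equiv.trans_apply, t0, t1, t2, t3]
      refine ⟨?_, ?_, ?_, ?_, ?_, ?_, ?_, ?_, ?_, ?_, ?_, ?_, ?_, ?_, ?_, ?_, ?_, ?_⟩
      all_goals first
        | exact hm1 _ (by decide)
        | exact hm2 _ (by decide)
        | exact hw1 _ (by decide)
        | exact hw2 _ (by decide)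
        | exact Groth.Agent.H99.NT.diag1 hd (hw1 _ (by decide))
        | exact Groth.Agent.H99.NT.diag2 hd (hw2 _ (by decide))
        | exact ha1 _ _ (by decide) (by decide)
        | exact ha2 _ _ (by decide) (by decide)
        | exact ha0 _ _ (by decide) (by decide) (by decide)
        | exact (Groth.Agent.H37.a_symm T _ _).trans (ha1 _ _ (by decide) (by decide))
        | exact (Groth.Agent.H37.a_symm T _ _).trans (ha2 _ _ (by decide) (by decide))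
        | exact (Groth.Agent.H37.a_symm T _ _).trans (ha0 _ _ (by decide) (by decide) (by decide))
    · exfalso
      unfold Groth.Agent.H99.NT.F7 at h
      obtain ⟨hm1, hm2, hm3, hw, ha1, ha2, ha3, ha4, ha0⟩ := h
      have hrow := Groth.Agent.H99.NT.row4 T σ (σ 0)
      rw [Groth.Agent.H99.NT.diag1 hd (hw 0), ha0 0 1 (by decide) (by decide) (by decide) (by decide) (by decide), ha1 0 2 (by decide) (by decide),
        ha0 0 3 (by decide) (by decide) (by decide) (by decide) (by decide), hm1 0 (by decide), hm3 2 (by decide)] at hrow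
      have hwpos : 0 < w := by have := T.w_pos (σ 0); rwa [hw 0] at this
      have hmpos : 0 < m := by have := T.m_pos (σ 0); rwa [hm1 0 (by decide)] at this
      nlinarith [mul_pos hwpos hmpos]
  · rcases hS with ⟨l, hl, h⟩ | ⟨l, hl, h⟩ | ⟨l, hl, h⟩ | ⟨l, hl, h⟩ | ⟨l, hl, h⟩
    · exact absurd (hl.symm.trans (Groth.Agent.H99.NT.TVOut.len h)) (by decide)
    · exact absurd (hl.symm.trans (Groth.Agent.H99.NT.TVOut.len h)) (by decide)
    · exact absurd (hl.symm.trans (Groth.Agent.H99.NT.TVOut.len h)) (by decide)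
    · exact absurd (hl.symm.trans (Groth.Agent.H99.NT.TVOut.len h)) (by decide)
    · exact absurd (hl.symm.trans (Groth.Agent.H99.NT.TVOut.len h)) (by decide)

end Groth.Agent.S7364
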