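import Groth.Statements.S7386
import Groth.Agent.H38.GenericAffine

set_option autoImplicit false
universe u
open CategoryTheory AlgebraicGeometry
open Mor

namespace Groth.Agent.S7386

/-- Let `X` be a quasi-separated scheme, `η_1, …, η_n` generic points of irreducible components of `X`
and `x` any point of `X`. Then some affine open of `X` contains `x` and all the `η_i`. -/
theorem result (X : Scheme.{u}) [QuasiSeparatedSpace X] {n : ℕ}
    (η : Fin n → X) (hη : ∀ i, closure ({η i} : Set X) ∈ irreducibleComponents (X : Type u)) (x : X) :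
    ∃ U : X.Opens, IsAffineOpen U ∧ x ∈ U ∧ ∀ i, η i ∈ U := by
  classical
  obtain ⟨W, hW, hxW, -⟩ :=
    exists_isAffineOpen_mem_and_subset (x := x) (U := (⊤ : X.Opens)) trivial
  let s : Finset X := (Finset.univ.image η).filter (fun p => p ∉ W)
  obtain ⟨U, hU1, hU2⟩ := H38.GenericAffine.exists_disjoint_affine_nhds W hW.isCompact s
    (fun p hp => by
      obtain ⟨i, -, rfl⟩ := Finset.mem_image.mp (Finset.mem_filter.mp hp).1; exact hη i)
    (fun p hp => (Finset.mem_filter.mp hp).2)
  let V : Option {p // p ∈ s} → X.Opens := fun o =>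
    match o with
    | none => W
    | some p => U p.1
  have hVaff : ∀ o, IsAffineOpen (V o) := by
    rintro (_ | p)
    · exact hW
    · exact (hU1 p.1 p.2).1
  have hVdis : Pairwise (Function.onFun Disjoint V) := by
    rintro (_ | p) (_ | q) hpq
    · exact (hpq rfl).elim
    · exact (hU1 q.1 q.2).2.2.symm
    · exact (hU1 p.1 p.2).2.2
    · exact hU2 p.1 p.2 q.1 q.2 (fun h => hpq (by rw [Subtype.ext h]))
  refine ⟨⨆ o, V o, IsAffineOpen.iSup_of_disjoint hVaff hVdis, ?_, ?_⟩
  · exact TopologicalSpace.Opens.mem_iSup.mpr ⟨none, hxW⟩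
  · intro i
    by_cases hi : η i ∈ W
    · exact TopologicalSpace.Opens.mem_iSup.mpr ⟨none, hi⟩
    · have hs : η i ∈ s :=
        Finset.mem_filter.mpr ⟨Finset.mem_image_of_mem η (Finset.mem_univ i), hi⟩
      exact TopologicalSpace.Opens.mem_iSup.mpr ⟨some ⟨η i, hs⟩, (hU1 _ hs).2.1⟩

end Groth.Agent.S7386
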