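import Groth.Statements.S7387
import Mathlib

set_option autoImplicit false
universe u
open CategoryTheory AlgebraicGeometry
open Mor

namespace Groth.Agent.S7387

/-- A quasi-compact scheme has a dense open subscheme which is separated. -/
theorem result (X : Scheme.{u}) [CompactSpace X] :
    ∃ V : X.Opens, Dense (V : Set X) ∧ (V : Scheme.{u}).IsSeparated := by
  classical
  open Limits TopologicalSpace in
  obtain ⟨S, hSfin, hS⟩ :=
    (isCompact_and_isOpen_iff_finite_and_eq_biUnion_affineOpens (X := X) (U := Set.univ)).mp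
      ⟨isCompact_univ, isOpen_univ⟩
  haveI : Finite S := hSfin.to_subtype
  obtain ⟨n, ⟨e⟩⟩ := Finite.exists_equiv_fin S
  let U : Fin n → X.Opens := fun l => ((e.symm l : S) : X.affineOpens).1
  have hU : ∀ l, IsAffineOpen (U l) := fun l => ((e.symm l : S) : X.affineOpens).2
  have hcov : ∀ x : X, ∃ l, x ∈ U l := by
    intro x
    have hx : x ∈ (Set.univ : Set X) := trivial
    rw [hS] at hx
    simp only [Set.mem_iUnion] at hx
    obtain ⟨i, hi, hxi⟩ := hx
    refine ⟨e ⟨i, hi⟩, ?_⟩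
    simp only [U, Equiv.symm_apply_apply]
    exact hxi
  let P : Fin n → Set X := fun i => ⋃ j : {j : Fin n // j < i}, (U j.1 : Set X)
  let Vi : Fin n → X.Opens := fun i =>
    ⟨(U i : Set X) ∩ (closure (P i))ᶜ, (U i).isOpen.inter isClosed_closure.isOpen_compl⟩
  have hViU : ∀ i, Vi i ≤ U i := fun i x hx => hx.1
  have hdisjV : ∀ i j : Fin n, j < i → Disjoint (Vi i) (Vi j) := by
    intro i j hji
    rw [← TopologicalSpace.Opens.coe_disjoint, Set.disjoint_left]
    intro x hx hx'
    exact hx.2 (subset_closure (Set.mem_iUnion.mpr ⟨⟨j, hji⟩, hx'.1⟩))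
  have hdisj : Pairwise (Function.onFun Disjoint Vi) := by
    intro i j hne
    rcases lt_or_gt_of_ne hne with h | h
    · exact (hdisjV j i h).symm
    · exact hdisjV i j h
  refine ⟨⨆ i, Vi i, ?_, ?_⟩
  · rw [dense_iff_inter_open]
    intro O hO hOne
    have hex : ∃ i : Fin n, (O ∩ (U i : Set X)).Nonempty := by
      obtain ⟨x, hx⟩ := hOne
      obtain ⟨l, hl⟩ := hcov x
      exact ⟨l, x, hx, hl⟩
    obtain ⟨i, hi, hmin⟩ := wellFounded_lt.has_min {i : Fin n | (O ∩ (U i : Set X)).Nonempty} hex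
    have hOP : Disjoint O (P i) := by
      rw [Set.disjoint_left]
      intro x hxO hxP
      obtain ⟨⟨j, hj⟩, hxj⟩ := Set.mem_iUnion.mp hxP
      exact hmin j ⟨x, hxO, hxj⟩ hj
    have hOP' : Disjoint O (closure (P i)) := hOP.closure_right hO
    obtain ⟨y, hyO, hyU⟩ := hi
    refine ⟨y, hyO, ?_⟩
    have : y ∈ Vi i := ⟨hyU, fun hy => Set.disjoint_left.mp hOP' hyO hy⟩
    exact (le_iSup Vi i) this
  · haveI : ∀ i, IsAffine ((U i : X.Opens) : Scheme.{u}) := hU
    let F : Fin n → Scheme.{u} := fun i => ((Vi i : X.Opens) : Scheme.{u})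
    let G : Fin n → Scheme.{u} := fun i => ((U i : X.Opens) : Scheme.{u})
    haveI : ∀ i, IsAffine (G i) := hU
    let ψ : (∐ F) ⟶ X := Sigma.desc fun i => (Vi i).ι
    haveI hψ : IsOpenImmersion ψ := by
      apply isOpenImmersion_sigmaDesc
      intro i j hne
      have := hdisj hne
      show Disjoint (Set.range (Vi i).ι) (Set.range (Vi j).ι)
      rw [Scheme.Opens.range_ι, Scheme.Opens.range_ι, TopologicalSpace.Opens.coe_disjoint]
      exact this
    have hrange : Set.range ψ = Set.range (⨆ i, Vi i).ι := by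
      rw [Scheme.Opens.range_ι]
      ext x
      simp only [Set.mem_range, TopologicalSpace.Opens.coe_iSup, Set.mem_iUnion, SetLike.mem_coe]
      constructor
      · rintro ⟨y, rfl⟩
        obtain ⟨i, z, hz⟩ := (sigmaOpenCover F).exists_eq y
        have hz' : (Sigma.ι F i : F i ⟶ ∐ F) z = y := hz
        refine ⟨i, ?_⟩
        rw [← hz', ← Scheme.Hom.comp_apply, Sigma.ι_desc]
        exact z.2
      · rintro ⟨i, hx⟩
        refine ⟨(Sigma.ι F i : F i ⟶ ∐ F) ⟨x, hx⟩, ?_⟩
        rw [← Scheme.Hom.comp_apply, Sigma.ι_desc]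
        rfl
    let eiso : ((⨆ i, Vi i : X.Opens) : Scheme.{u}) ≅ (∐ F) :=
      IsOpenImmersion.isoOfRangeEq (⨆ i, Vi i).ι ψ hrange.symm
    let g : (∐ F) ⟶ (∐ G) :=
      Sigma.desc fun i => X.homOfLE (hViU i) ≫ Sigma.ι G i
    haveI hg : IsOpenImmersion g := by
      apply isOpenImmersion_sigmaDesc
      intro i j hne
      have h1 := disjoint_opensRange_sigmaι G i j hne
      rw [← TopologicalSpace.Opens.coe_disjoint] at h1
      refine Set.disjoint_of_subset ?_ ?_ h1
      · rintro _ ⟨z, rfl⟩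
        exact ⟨(X.homOfLE (hViU i)) z, by simp [Scheme.Hom.comp_apply]⟩
      · rintro _ ⟨z, rfl⟩
        exact ⟨(X.homOfLE (hViU j)) z, by simp [Scheme.Hom.comp_apply]⟩
    constructor
    rw [← terminal.comp_from (eiso.hom ≫ g)]
    infer_instance

end Groth.Agent.S7387
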