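import Groth.Statements.S7388
import Mathlib

set_option autoImplicit false
universe u
open CategoryTheory AlgebraicGeometry
open Mor

namespace Groth.Agent.S7388


theorem hpa {R A : Type*} [CommRing R] [CommRing A] [Algebra R A] (𝒜 : ℕ → Submodule R A)
    [GradedAlgebra 𝒜] (I : Ideal A) (hI : I.IsHomogeneous 𝒜)
    (hirr : I ≤ (HomogeneousIdeal.irrelevant 𝒜).toIdeal) :
    ∀ (n : ℕ) (s : Finset (Ideal A)), s.card = n → s.Nonempty → (∀ p ∈ s, p.IsPrime) →
      (∀ p ∈ s, ¬ I ≤ p) →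
      ∃ d, 0 < d ∧ ∃ f ∈ 𝒜 d, f ∈ I ∧ ∀ p ∈ s, f ∉ p := by
  classical
  intro n
  induction n using Nat.strong_induction_on with
  | _ n ih =>
  intro s hcard hne hprime hnot
  have hpos : ∀ (d : ℕ) (f : A), f ∈ 𝒜 d → f ∈ I → f ≠ 0 → 0 < d := by
    intro d f hfd hfI hf0
    rcases Nat.eq_zero_or_pos d with rfl | h
    · exfalso
      have h0 := (HomogeneousIdeal.mem_irrelevant_iff 𝒜 f).mp (hirr hfI)
      rw [GradedRing.proj_apply, DirectSum.decompose_of_mem_same 𝒜 hfd] at h0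
      exact hf0 h0
    · exact h
  by_cases h1 : s.card = 1
  · obtain ⟨p, rfl⟩ := Finset.card_eq_one.mp h1
    have hnp := hnot p (Finset.mem_singleton_self p)
    obtain ⟨x, hxI, hxp⟩ := SetLike.not_le_iff_exists.mp hnp
    have hex : ∃ d, (DirectSum.decompose 𝒜 x d : A) ∉ p := by
      by_contra hall
      push Not at hall
      apply hxp
      rw [← DirectSum.sum_support_decompose 𝒜 x]
      exact p.sum_mem fun d _ => hall d
    obtain ⟨d, hd⟩ := hex
    have hdI : (DirectSum.decompose 𝒜 x d : A) ∈ I := hI d hxI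
    have hd0 : (DirectSum.decompose 𝒜 x d : A) ≠ 0 := fun h0 => hd (h0 ▸ p.zero_mem)
    exact ⟨d, hpos d _ (SetLike.coe_mem _) hdI hd0, _, SetLike.coe_mem _, hdI, by simpa using hd⟩
  · have hcard2 : 2 ≤ s.card := by
      have := hne.card_pos
      omega
    have hex : ∀ p ∈ s, ∃ d, 0 < d ∧ ∃ f ∈ 𝒜 d, f ∈ I ∧ ∀ q ∈ s.erase p, f ∉ q := by
      intro p hp
      refine ih (s.erase p).card ?_ (s.erase p) rfl ?_
        (fun q hq => hprime q (Finset.mem_of_mem_erase hq))
        (fun q hq => hnot q (Finset.mem_of_mem_erase hq))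
      · rw [Finset.card_erase_of_mem hp]
        omega
      · rw [← Finset.card_pos, Finset.card_erase_of_mem hp]
        omega
    choose! d hd f hfd hfI hfq using hex
    by_cases hgood : ∃ p ∈ s, f p ∉ p
    · obtain ⟨p, hp, hfp⟩ := hgood
      refine ⟨d p, hd p hp, f p, hfd p hp, hfI p hp, ?_⟩
      intro q hq
      by_cases hqp : q = p
      · rw [hqp]
        exact hfp
      · exact hfq p hp q (Finset.mem_erase.mpr ⟨hqp, hq⟩)
    · push Not at hgood
      obtain ⟨p0, hp0⟩ := hne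
      have htne : (s.erase p0).Nonempty := by
        rw [← Finset.card_pos, Finset.card_erase_of_mem hp0]
        omega
      obtain ⟨g, hg⟩ : ∃ g, g = ∏ q ∈ s.erase p0, f q := ⟨_, rfl⟩
      obtain ⟨M, hM⟩ : ∃ M, M = ∑ q ∈ s.erase p0, d q := ⟨_, rfl⟩
      have hgdeg : g ∈ 𝒜 M := by
        rw [hg, hM]
        exact SetLike.prod_mem_graded 𝒜 d f (fun q hq => hfd q (Finset.mem_of_mem_erase hq))
      have hMpos : 0 < M := by
        rw [hM]
        exact Finset.sum_pos (fun q hq => hd q (Finset.mem_of_mem_erase hq)) htne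
      have hgI : g ∈ I := by
        obtain ⟨q, hq⟩ := htne
        rw [hg, ← Finset.mul_prod_erase (s.erase p0) f hq]
        exact I.mul_mem_right _ (hfI q (Finset.mem_of_mem_erase hq))
      have hgp0 : g ∉ p0 := by
        haveI := hprime p0 hp0
        rw [hg, Ideal.IsPrime.prod_mem_iff]
        push Not
        intro q hq
        exact hfq q (Finset.mem_of_mem_erase hq) p0
          (Finset.mem_erase.mpr ⟨(Finset.ne_of_mem_erase hq).symm, hp0⟩)
      have hgq : ∀ q ∈ s.erase p0, g ∈ q := by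
        intro q hq
        rw [hg, ← Finset.mul_prod_erase (s.erase p0) f hq]
        exact q.mul_mem_right _ (hgood q (Finset.mem_of_mem_erase hq))
      refine ⟨d p0 * M, Nat.mul_pos (hd p0 hp0) hMpos, f p0 ^ M + g ^ d p0, ?_, ?_, ?_⟩
      · refine Submodule.add_mem _ ?_ ?_
        · have := SetLike.pow_mem_graded M (hfd p0 hp0)
          rwa [smul_eq_mul, mul_comm] at this
        · have := SetLike.pow_mem_graded (d p0) hgdeg
          rwa [smul_eq_mul] at this
      · exact I.add_mem (I.pow_mem_of_mem (hfI p0 hp0) M hMpos)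
          (I.pow_mem_of_mem hgI (d p0) (hd p0 hp0))
      · intro q hq hmem
        by_cases hqp : q = p0
        · rw [hqp] at hmem
          have hpr := hprime p0 hp0
          have h1 : f p0 ^ M ∈ p0 := Ideal.pow_mem_of_mem p0 (hgood p0 hp0) M hMpos
          have h2 : g ^ d p0 ∈ p0 := (Ideal.add_mem_iff_right p0 h1).mp hmem
          exact hgp0 (hpr.mem_of_pow_mem _ h2)
        · have hpr := hprime q hq
          have hqt : q ∈ s.erase p0 := Finset.mem_erase.mpr ⟨hqp, hq⟩
          have h1 : g ^ d p0 ∈ q := Ideal.pow_mem_of_mem q (hgq q hqt) _ (hd p0 hp0)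
          have h2 : f p0 ^ M ∈ q := (Ideal.add_mem_iff_left q h1).mp hmem
          exact hfq p0 hp0 q hqt (hpr.mem_of_pow_mem _ h2)


/-- Let `X` be a scheme admitting an immersion into `Proj S` for some graded ring `S`. Then any finite
set of points of `X` is contained in an affine open of `X`. -/
theorem result {R A : Type u} [CommRing R] [CommRing A] [Algebra R A]
    (𝒜 : ℕ → Submodule R A) [GradedAlgebra 𝒜] {X : Scheme.{u}} (ι : X ⟶ Proj 𝒜) [IsImmersion ι]
    (E : Set X) (hE : E.Finite) :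
    ∃ U : X.Opens, IsAffineOpen U ∧ E ⊆ U := by
  classical
  rcases E.eq_empty_or_nonempty with rfl | ⟨x0, hx0⟩
  · exact ⟨⊥, isAffineOpen_bot X, by simp⟩
  have hrange : ∀ x : X, ι x ∈ ι.coborderRange := fun x => subset_coborder ⟨x, rfl⟩
  let US : Set (ProjectiveSpectrum 𝒜) := SetLike.coe ι.coborderRange
  let J : HomogeneousIdeal 𝒜 := ProjectiveSpectrum.vanishingIdeal USᶜ
  have hJ : ProjectiveSpectrum.zeroLocus 𝒜 (J : Set A) = USᶜ := by
    rw [ProjectiveSpectrum.zeroLocus_vanishingIdeal_eq_closure]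
    exact ι.coborderRange.isOpen.isClosed_compl.closure_eq
  let g : X → ProjectiveSpectrum 𝒜 := fun x => ι x
  let I : Ideal A := J.toIdeal * (HomogeneousIdeal.irrelevant 𝒜).toIdeal
  have hIhom : I.IsHomogeneous 𝒜 :=
    (J.isHomogeneous).mul (HomogeneousIdeal.irrelevant 𝒜).isHomogeneous
  have hIirr : I ≤ (HomogeneousIdeal.irrelevant 𝒜).toIdeal := Ideal.mul_le_right
  have hIJ : I ≤ J.toIdeal := Ideal.mul_le_left
  let s : Finset (Ideal A) :=
    (hE.image (fun x => (g x).asHomogeneousIdeal.toIdeal)).toFinset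
  have hs : ∀ p ∈ s, ∃ x ∈ E, (g x).asHomogeneousIdeal.toIdeal = p := by
    intro p hp
    simpa [s] using hp
  have hsne : s.Nonempty :=
    ⟨(g x0).asHomogeneousIdeal.toIdeal, (Set.Finite.mem_toFinset _).mpr ⟨x0, hx0, rfl⟩⟩
  obtain ⟨d, hd, f, hfd, hfI, hfs⟩ := hpa 𝒜 I hIhom hIirr s.card s rfl hsne
    (by
      intro p hp
      obtain ⟨x, hx, rfl⟩ := hs p hp
      exact (g x).isPrime)
    (by
      intro p hp hle
      obtain ⟨x, hx, rfl⟩ := hs p hp
      rcases (Ideal.IsPrime.mul_le (g x).isPrime).mp hle with h | h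
      · have h1 : g x ∈ ProjectiveSpectrum.zeroLocus 𝒜 (J : Set A) := h
        rw [hJ] at h1
        exact h1 (hrange x)
      · exact (g x).not_irrelevant_le h)
  obtain ⟨D, hD_eq⟩ : ∃ D : (Proj 𝒜).Opens, D = Proj.basicOpen 𝒜 f := ⟨_, rfl⟩
  have hmem : ∀ q : ProjectiveSpectrum 𝒜, q ∈ D ↔ f ∉ q.asHomogeneousIdeal := by
    subst hD_eq
    exact Proj.mem_basicOpen 𝒜 f
  have hD : IsAffineOpen D := by
    subst hD_eq
    exact Proj.isAffineOpen_basicOpen 𝒜 f hfd hd
  have hDU : D ≤ ι.coborderRange := by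
    intro q hq
    by_contra hqU
    have h1 : q ∈ ProjectiveSpectrum.zeroLocus 𝒜 (J : Set A) := by rw [hJ]; exact hqU
    have h2 : (J : Set A) ⊆ (ProjectiveSpectrum.asHomogeneousIdeal q : Set A) :=
      (ProjectiveSpectrum.mem_zeroLocus 𝒜 q (J : Set A)).mp h1
    exact (hmem q).mp hq (h2 (hIJ hfI))
  refine ⟨ι ⁻¹ᵁ D, ?_, ?_⟩
  · have hW : IsAffineOpen (ι.coborderRange.ι ⁻¹ᵁ D) :=
      hD.preimage_of_isOpenImmersion ι.coborderRange.ι
        (by rw [Scheme.Opens.opensRange_ι]; exact hDU)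
    have h3 := hW.preimage ι.liftCoborder
    have e : ι ⁻¹ᵁ D = ι.liftCoborder ⁻¹ᵁ (ι.coborderRange.ι ⁻¹ᵁ D) := by
      rw [← Scheme.Hom.comp_preimage, Scheme.Hom.liftCoborder_ι]
    rw [e]
    exact h3
  · intro x hx
    show g x ∈ D
    rw [hmem]
    intro hfx
    exact hfs _ ((Set.Finite.mem_toFinset _).mpr ⟨x, hx, rfl⟩) hfx

end Groth.Agent.S7388
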