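import Groth.Statements.S7389
import Mathlib

set_option autoImplicit false
universe u
open CategoryTheory AlgebraicGeometry
open Mor

namespace Groth.Agent.S7389


theorem aux {X : Scheme.{u}} {R : CommRingCat.{u}} (j : X ⟶ Spec R) [IsImmersion j] (E : Set X)
    (hE : E.Finite) : ∃ U : X.Opens, IsAffineOpen U ∧ E ⊆ U := by
  classical
  rcases E.eq_empty_or_nonempty with rfl | ⟨x0, hx0⟩
  · exact ⟨⊥, isAffineOpen_bot X, by simp⟩
  have hrange : ∀ x : X, j x ∈ j.coborderRange := fun x => subset_coborder ⟨x, rfl⟩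
  let US : Set (PrimeSpectrum R) := SetLike.coe j.coborderRange
  let J : Ideal R := PrimeSpectrum.vanishingIdeal (USᶜ)
  have hJ : PrimeSpectrum.zeroLocus (J : Set R) = USᶜ := by
    rw [PrimeSpectrum.zeroLocus_vanishingIdeal_eq_closure]
    exact j.coborderRange.isOpen.isClosed_compl.closure_eq
  let g : X → PrimeSpectrum R := fun x => j x
  let y0 : PrimeSpectrum R := g x0
  let F : Finset (PrimeSpectrum R) := (hE.image g).toFinset
  have hF : ∀ q ∈ F, ∃ x ∈ E, g x = q := by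
    intro q hq
    simpa [F] using hq
  have hnot : ¬ ((J : Set R) ⊆ ⋃ q ∈ (↑F : Set (PrimeSpectrum R)), (q.asIdeal : Set R)) := by
    rw [Ideal.subset_union_prime y0 y0 (fun q _ _ _ => q.isPrime)]
    rintro ⟨q, hq, hle⟩
    obtain ⟨x, hx, rfl⟩ := hF q hq
    have h1 : g x ∈ PrimeSpectrum.zeroLocus (J : Set R) := by
      rw [PrimeSpectrum.mem_zeroLocus]
      exact hle
    rw [hJ] at h1
    exact h1 (hrange x)
  obtain ⟨f, hfJ, hf⟩ := Set.not_subset.mp hnot
  obtain ⟨D, hD_eq⟩ : ∃ D : (Spec R).Opens, D = PrimeSpectrum.basicOpen f := ⟨_, rfl⟩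
  have hmem : ∀ q : PrimeSpectrum R, q ∈ D ↔ f ∉ q.asIdeal := by
    subst hD_eq
    exact PrimeSpectrum.mem_basicOpen f
  have hD : IsAffineOpen D := by
    subst hD_eq
    exact IsAffineOpen.Spec_basicOpen f
  have hDU : D ≤ j.coborderRange := by
    intro q hq
    by_contra hqU
    have h1 : q ∈ PrimeSpectrum.zeroLocus (J : Set R) := by rw [hJ]; exact hqU
    have h2 : (J : Set R) ⊆ (PrimeSpectrum.asIdeal q : Set R) :=
      (PrimeSpectrum.mem_zeroLocus q (J : Set R)).mp h1
    exact (hmem q).mp hq (h2 hfJ)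
  refine ⟨j ⁻¹ᵁ D, ?_, ?_⟩
  · have hW : IsAffineOpen (j.coborderRange.ι ⁻¹ᵁ D) :=
      hD.preimage_of_isOpenImmersion j.coborderRange.ι
        (by rw [Scheme.Opens.opensRange_ι]; exact hDU)
    have h3 := hW.preimage j.liftCoborder
    have e : j ⁻¹ᵁ D = j.liftCoborder ⁻¹ᵁ (j.coborderRange.ι ⁻¹ᵁ D) := by
      rw [← Scheme.Hom.comp_preimage, Scheme.Hom.liftCoborder_ι]
    rw [e]
    exact h3
  · intro x hx
    show g x ∈ D
    rw [hmem]
    intro hfx
    apply hf
    simp only [Set.mem_iUnion]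
    exact ⟨g x, Finset.mem_coe.mpr ((Set.Finite.mem_toFinset _).mpr ⟨x, hx, rfl⟩), hfx⟩


/-- Let `X` be a scheme admitting an immersion into an affine scheme. Then any finite set of points of
`X` is contained in an affine open of `X`. -/
theorem result {X Y : Scheme.{u}} [IsAffine Y] (ι : X ⟶ Y)
    [IsImmersion ι] (E : Set X) (hE : E.Finite) :
    ∃ U : X.Opens, IsAffineOpen U ∧ E ⊆ U := by
  have : IsImmersion (ι ≫ Y.isoSpec.hom) := inferInstance
  exact aux (ι ≫ Y.isoSpec.hom) E hE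

end Groth.Agent.S7389
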