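import Groth.Statements.S7393
import Groth.Agent.H87.ClosedPt
import Groth.Agent.H20.GRingLocal
import Groth.Agent.H34.GRingLoc
import Groth.Agent.S0598

set_option autoImplicit false
set_option maxHeartbeats 400000
universe u
open CategoryTheory AlgebraicGeometry
open Mor

namespace Groth.Agent.S7393


open IsLocalRing in
/-- regular completion maps at all points, from closed points. -/
theorem stalk_regular (X : Scheme.{u}) [IsLocallyNoetherian X]
    (h : ∀ x : X, IsClosed ({x} : Set X) →
      CAlg.IsRegularHom (X.presheaf.stalk x) (EGA4.Cpl (X.presheaf.stalk x)))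
    (y : X) : CAlg.IsRegularHom (X.presheaf.stalk y) (EGA4.Cpl (X.presheaf.stalk y)) := by
  obtain ⟨z, hyz, hz⟩ := Groth.Agent.H87.ClosedPt.exists_specializes_isClosed X y
  obtain ⟨W, hW, hzW, -⟩ := exists_isAffineOpen_mem_and_subset (X := X) (U := ⊤) (x := z) trivial
  have hyW : y ∈ W := hyz.mem_open W.isOpen hzW
  haveI : IsNoetherianRing Γ(X, W) := IsLocallyNoetherian.component_noetherian ⟨W, hW⟩
  have hle : (hW.primeIdealOf ⟨y, hyW⟩).asIdeal ≤ (hW.primeIdealOf ⟨z, hzW⟩).asIdeal := by
    have hind := hW.fromSpec.isOpenEmbedding.isInducing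
    have : hW.fromSpec (hW.primeIdealOf ⟨y, hyW⟩) ⤳ hW.fromSpec (hW.primeIdealOf ⟨z, hzW⟩) := by
      rw [hW.fromSpec_primeIdealOf ⟨y, hyW⟩, hW.fromSpec_primeIdealOf ⟨z, hzW⟩]
      exact hyz
    exact (PrimeSpectrum.le_iff_specializes _ _).mpr (hind.specializes_iff.mp this)
  letI algz : Algebra Γ(X, W) (X.presheaf.stalk z) := X.presheaf.algebra_section_stalk ⟨z, hzW⟩
  haveI locz : IsLocalization.AtPrime (X.presheaf.stalk z) (hW.primeIdealOf ⟨z, hzW⟩).asIdeal :=
    hW.isLocalization_stalk ⟨z, hzW⟩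
  letI algy : Algebra Γ(X, W) (X.presheaf.stalk y) := X.presheaf.algebra_section_stalk ⟨y, hyW⟩
  haveI locy : IsLocalization.AtPrime (X.presheaf.stalk y) (hW.primeIdealOf ⟨y, hyW⟩).asIdeal :=
    hW.isLocalization_stalk ⟨y, hyW⟩
  generalize hW.primeIdealOf ⟨z, hzW⟩ = Pz at hle locz
  generalize hW.primeIdealOf ⟨y, hyW⟩ = Py at hle locy
  let ez : X.presheaf.stalk z ≃+* Localization.AtPrime Pz.asIdeal :=
    (IsLocalization.algEquiv Pz.asIdeal.primeCompl (X.presheaf.stalk z)
      (Localization.AtPrime Pz.asIdeal)).toRingEquiv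
  have hA : CAlg.IsRegularHom (Localization.AtPrime Pz.asIdeal)
      (EGA4.Cpl (Localization.AtPrime Pz.asIdeal)) :=
    Groth.Agent.H34.GRingLoc.isRegularHom_cpl_of_ringEquiv ez (h z hz)
  haveI noethA : IsNoetherianRing (Localization.AtPrime Pz.asIdeal) :=
    IsLocalization.isNoetherianRing Pz.asIdeal.primeCompl _ inferInstance
  haveI := Groth.Agent.H20.GRingLocal.isAdicComplete_cpl (Localization.AtPrime Pz.asIdeal)
  have hC : CAlg.IsGRing (EGA4.Cpl (Localization.AtPrime Pz.asIdeal)) :=
    Groth.Agent.S0598.result (EGA4.Cpl (Localization.AtPrime Pz.asIdeal))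
  have hdisj : Disjoint (Pz.asIdeal.primeCompl : Set Γ(X, W)) (Py.asIdeal : Set Γ(X, W)) :=
    Set.disjoint_left.mpr fun a ha ha' => ha (hle ha')
  haveI hp' : (Py.asIdeal.map (algebraMap Γ(X, W) (Localization.AtPrime Pz.asIdeal))).IsPrime :=
    IsLocalization.isPrime_of_isPrime_disjoint Pz.asIdeal.primeCompl _ Py.asIdeal Py.2 hdisj
  have hcomap : (Py.asIdeal.map (algebraMap Γ(X, W) (Localization.AtPrime Pz.asIdeal))).comap
      (algebraMap Γ(X, W) (Localization.AtPrime Pz.asIdeal)) = Py.asIdeal :=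
    IsLocalization.under_map_of_isPrime_disjoint Pz.asIdeal.primeCompl _ Py.2 hdisj
  have hM1 := Groth.Agent.H20.GRingLocal.isRegularHom_cpl_atPrime
    (Localization.AtPrime Pz.asIdeal) hA hC
    (Py.asIdeal.map (algebraMap Γ(X, W) (Localization.AtPrime Pz.asIdeal)))
  have key : ∀ (I : Ideal Γ(X, W)) [I.IsPrime], I = Py.asIdeal →
      (Localization.AtPrime I ≃+*
        Localization.AtPrime (Py.asIdeal.map (algebraMap Γ(X, W) (Localization.AtPrime Pz.asIdeal)))) →
      CAlg.IsRegularHom (Localization.AtPrime Py.asIdeal)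
        (EGA4.Cpl (Localization.AtPrime Py.asIdeal)) := by
    intro I _ hI e
    subst hI
    exact Groth.Agent.H34.GRingLoc.isRegularHom_cpl_of_ringEquiv e.symm hM1
  have h2 : CAlg.IsRegularHom (Localization.AtPrime Py.asIdeal)
      (EGA4.Cpl (Localization.AtPrime Py.asIdeal)) :=
    key _ hcomap (IsLocalization.localizationLocalizationAtPrimeIsoLocalization Pz.asIdeal.primeCompl
      (Py.asIdeal.map (algebraMap Γ(X, W) (Localization.AtPrime Pz.asIdeal)))).toRingEquiv
  let ey : Localization.AtPrime Py.asIdeal ≃+* X.presheaf.stalk y :=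
    (IsLocalization.algEquiv Py.asIdeal.primeCompl (Localization.AtPrime Py.asIdeal)
      (X.presheaf.stalk y)).toRingEquiv
  haveI noethAy : IsNoetherianRing (Localization.AtPrime Py.asIdeal) :=
    IsLocalization.isNoetherianRing Py.asIdeal.primeCompl _ inferInstance
  exact Groth.Agent.H34.GRingLoc.isRegularHom_cpl_of_ringEquiv ey h2

/-- A scheme `X` is a G-scheme (every point has an affine open neighbourhood whose coordinate ring is a
G-ring) if and only if `X` is locally Noetherian and, for every closed point `x`, the completion map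
of the local ring `O_{X,x} → O_{X,x}^∧` is a regular ring map. -/
theorem result (X : Scheme.{u}) :
    (∀ x : X, ∃ U : X.Opens, x ∈ U ∧ IsAffineOpen U ∧ CAlg.IsGRing Γ(X, U)) ↔
      IsLocallyNoetherian X ∧ ∀ x : X, IsClosed ({x} : Set X) →
        CAlg.IsRegularHom (X.presheaf.stalk x)
          (AdicCompletion (IsLocalRing.maximalIdeal (X.presheaf.stalk x)) (X.presheaf.stalk x)) := by
  constructor
  · intro hG
    have hLN : IsLocallyNoetherian X := by
      choose U hxU hUaff hUG using hG
      exact isLocallyNoetherian_of_affine_cover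
        (S := fun x : X => (⟨U x, hUaff x⟩ : X.affineOpens))
        (by
          rw [eq_top_iff]
          intro x _
          exact TopologicalSpace.Opens.mem_iSup.mpr ⟨x, hxU x⟩)
        (fun x => (hUG x).1)
    refine ⟨hLN, fun x _ => ?_⟩
    obtain ⟨U, hxU, hU, hGU⟩ := hG x
    haveI := hGU.1
    letI alg : Algebra Γ(X, U) (X.presheaf.stalk x) := X.presheaf.algebra_section_stalk ⟨x, hxU⟩
    haveI loc : IsLocalization.AtPrime (X.presheaf.stalk x) (hU.primeIdealOf ⟨x, hxU⟩).asIdeal :=
      hU.isLocalization_stalk ⟨x, hxU⟩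
    generalize hU.primeIdealOf ⟨x, hxU⟩ = P at loc
    have h1 := hGU.2 P.asIdeal
    haveI noethA : IsNoetherianRing (Localization.AtPrime P.asIdeal) :=
      IsLocalization.isNoetherianRing P.asIdeal.primeCompl _ inferInstance
    let e : Localization.AtPrime P.asIdeal ≃+* X.presheaf.stalk x :=
      (IsLocalization.algEquiv P.asIdeal.primeCompl (Localization.AtPrime P.asIdeal)
        (X.presheaf.stalk x)).toRingEquiv
    exact Groth.Agent.H34.GRingLoc.isRegularHom_cpl_of_ringEquiv e h1
  · rintro ⟨hLN, h⟩ x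
    obtain ⟨U, hU, hxU, -⟩ := exists_isAffineOpen_mem_and_subset (X := X) (U := ⊤) (x := x) trivial
    refine ⟨U, hxU, hU, ?_⟩
    haveI : IsNoetherianRing Γ(X, U) := IsLocallyNoetherian.component_noetherian ⟨U, hU⟩
    refine ⟨inferInstance, fun p hp => ?_⟩
    let P : PrimeSpectrum Γ(X, U) := ⟨p, hp⟩
    have hyU : hU.fromSpec P ∈ U := by
      have : hU.fromSpec P ∈ Set.range hU.fromSpec := ⟨P, rfl⟩
      rw [hU.range_fromSpec] at this
      exact this
    letI alg : Algebra Γ(X, U) (X.presheaf.stalk (hU.fromSpec P)) :=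
      X.presheaf.algebra_section_stalk ⟨hU.fromSpec P, hyU⟩
    haveI loc : IsLocalization.AtPrime (X.presheaf.stalk (hU.fromSpec P)) p :=
      hU.isLocalization_stalk' P hyU
    have h1 := stalk_regular X h (hU.fromSpec P)
    let e : X.presheaf.stalk (hU.fromSpec P) ≃+* Localization.AtPrime p :=
      (IsLocalization.algEquiv p.primeCompl (X.presheaf.stalk (hU.fromSpec P))
        (Localization.AtPrime p)).toRingEquiv
    exact Groth.Agent.H34.GRingLoc.isRegularHom_cpl_of_ringEquiv e h1

end Groth.Agent.S7393
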