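import Groth.Statements.S7394
import Mathlib

set_option autoImplicit false
set_option maxHeartbeats 400000
universe u
open CategoryTheory AlgebraicGeometry
open Lim

namespace Groth.Agent.S7394

theorem exists_common_ext {k : Type u} [Field k] {ι : Type u} (E : ι → Type u)
    [∀ i, Field (E i)] [∀ i, Algebra k (E i)] :
    ∃ (K : Type u) (_ : Field K) (_ : Algebra k K), ∀ i, Nonempty (E i →ₐ[k] K) := by
  classical
  refine ⟨AlgebraicClosure (FractionRing (MvPolynomial (Σ i, E i) k)), inferInstance, inferInstance,
    fun i => ?_⟩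
  obtain ⟨s, hs⟩ := exists_isTranscendenceBasis k (E i)
  haveI : Algebra.IsAlgebraic (IntermediateField.adjoin k (Set.range ((↑) : s → E i))) (E i) :=
    hs.isAlgebraic_field
  let r : MvPolynomial s k →ₐ[k] MvPolynomial (Σ i, E i) k :=
    MvPolynomial.rename (fun b : s => (⟨i, b.1⟩ : Σ i, E i))
  have hr : Function.Injective r := by
    apply MvPolynomial.rename_injective
    intro a b h
    exact Subtype.ext (eq_of_heq (Sigma.mk.inj h).2)
  have h1 : Function.Injective (algebraMap (MvPolynomial (Σ i, E i) k)
      (AlgebraicClosure (FractionRing (MvPolynomial (Σ i, E i) k)))) := by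
    rw [IsScalarTower.algebraMap_eq (MvPolynomial (Σ i, E i) k)
      (FractionRing (MvPolynomial (Σ i, E i) k))
      (AlgebraicClosure (FractionRing (MvPolynomial (Σ i, E i) k)))]
    exact (algebraMap (FractionRing (MvPolynomial (Σ i, E i) k))
      (AlgebraicClosure (FractionRing (MvPolynomial (Σ i, E i) k)))).injective.comp
      (IsFractionRing.injective (MvPolynomial (Σ i, E i) k)
        (FractionRing (MvPolynomial (Σ i, E i) k)))
  let g : MvPolynomial s k →ₐ[k] AlgebraicClosure (FractionRing (MvPolynomial (Σ i, E i) k)) :=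
    (IsScalarTower.toAlgHom k (MvPolynomial (Σ i, E i) k)
      (AlgebraicClosure (FractionRing (MvPolynomial (Σ i, E i) k)))).comp r
  have hg : Function.Injective g := fun a b hab => hr (h1 hab)
  let φ₀ : FractionRing (MvPolynomial s k) →ₐ[k]
      AlgebraicClosure (FractionRing (MvPolynomial (Σ i, E i) k)) := IsFractionRing.liftAlgHom hg
  let φ : (IntermediateField.adjoin k (Set.range ((↑) : s → E i))) →ₐ[k]
      AlgebraicClosure (FractionRing (MvPolynomial (Σ i, E i) k)) :=
    φ₀.comp (hs.1.aevalEquivField.symm : _ →ₐ[k] _)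
  obtain ⟨ψ, -⟩ := IsAlgClosed.surjective_domRestrict_of_isAlgebraic (K := k)
    (L := IntermediateField.adjoin k (Set.range ((↑) : s → E i)))
    (M := AlgebraicClosure (FractionRing (MvPolynomial (Σ i, E i) k))) (E := E i) φ
  exact ⟨ψ⟩


/-- Let `S` be a scheme and `T_i → S`, `i ∈ I`, surjective affine morphisms. Then any product of the
`T_i` in the category of schemes over `S` maps surjectively onto `S`. -/
theorem result {S : Scheme.{u}} {I : Type u} (T : I → Over S)
    (hT : ∀ i, IsAffineHom (T i).hom ∧ Surjective (T i).hom) (c : Limits.Fan T) (hc : Limits.IsLimit c) :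
    Surjective c.pt.hom := by
  refine ⟨fun s => ?_⟩
  have hsurj : ∀ i, ∃ t : (T i).left, (T i).hom t = s := fun i => (hT i).2.surj s
  choose t ht using hsurj
  let f : ∀ i, (T i).left ⟶ S := fun i => (T i).hom
  let ρ : ∀ i, S.residueField s ⟶ (T i).left.residueField (t i) := fun i =>
    (S.residueFieldCongr (ht i)).inv ≫ (f i).residueFieldMap (t i)
  have hρ : ∀ i, Spec.map (ρ i) ≫ S.fromSpecResidueField s =
      (T i).left.fromSpecResidueField (t i) ≫ f i := by
    intro i
    show Spec.map ((S.residueFieldCongr (ht i)).inv ≫ (f i).residueFieldMap (t i)) ≫ _ = _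
    rw [Spec.map_comp, Category.assoc, Scheme.residueFieldCongr_inv,
      Scheme.residueFieldCongr_fromSpecResidueField,
      Scheme.Hom.SpecMap_residueFieldMap_fromSpecResidueField]
  letI : ∀ i, Algebra (S.residueField s) ((T i).left.residueField (t i)) :=
    fun i => (ρ i).hom.toAlgebra
  obtain ⟨K, hK, hkK, hψ⟩ := exists_common_ext (k := S.residueField s)
    (fun i => ((T i).left.residueField (t i) : Type u))
  letI := hK
  letI := hkK
  have ψ : ∀ i, ((T i).left.residueField (t i)) →ₐ[S.residueField s] K := fun i => (hψ i).some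
  let P : Over S := Over.mk (Spec.map (CommRingCat.ofHom (algebraMap (S.residueField s) K)) ≫
    S.fromSpecResidueField s)
  have hleg : ∀ i, (Spec.map (CommRingCat.ofHom (ψ i).toRingHom) ≫
      (T i).left.fromSpecResidueField (t i)) ≫ (T i).hom = P.hom := by
    intro i
    have e : ρ i ≫ CommRingCat.ofHom (ψ i).toRingHom =
        CommRingCat.ofHom (algebraMap (S.residueField s) K) := by
      ext x
      exact (ψ i).commutes x
    show (Spec.map (CommRingCat.ofHom (ψ i).toRingHom) ≫
      (T i).left.fromSpecResidueField (t i)) ≫ f i = _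
    rw [Category.assoc, ← hρ i, ← Category.assoc, ← Spec.map_comp]
    exact congrArg (fun q => Spec.map q ≫ S.fromSpecResidueField s) e
  let ℓ := hc.lift (Limits.Fan.mk P (fun i => Over.homMk (Spec.map (CommRingCat.ofHom (ψ i).toRingHom) ≫
      (T i).left.fromSpecResidueField (t i)) (hleg i)))
  let z : Spec (CommRingCat.of K) := ⟨⊥, Ideal.isPrime_bot⟩
  refine ⟨ℓ.left z, ?_⟩
  have hw : ℓ.left ≫ c.pt.hom = P.hom := Over.w ℓ
  rw [← Scheme.Hom.comp_apply, hw]
  show (Spec.map (CommRingCat.ofHom (algebraMap (S.residueField s) K)) ≫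
    S.fromSpecResidueField s) z = s
  rw [Scheme.Hom.comp_apply, Scheme.fromSpecResidueField_apply]

end Groth.Agent.S7394
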