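import Groth.Statements.S7397
import Mathlib.Tactic

set_option autoImplicit false
universe u
open Mor

namespace Groth.Agent.S7397

/-- Let `A ⊆ B` be a ring extension and `b ∈ B`, `b ∉ A`, with `b^n, b^(n+1) ∈ A` for some `n ≥ 2`. Then
some `b' ∈ B` with `b' ∉ A` has `b'^2 ∈ A` and `b'^3 ∈ A`. -/
theorem result {B : Type u} [CommRing B] (A : Subring B) (b : B) (hb : b ∉ A)
    (n : ℕ) (hn : 2 ≤ n) (h1 : b ^ n ∈ A) (h2 : b ^ (n + 1) ∈ A) :
    ∃ b' : B, b' ∉ A ∧ b' ^ 2 ∈ A ∧ b' ^ 3 ∈ A := by
  -- every large power lies in A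
  have hlarge : ∀ k, n * n ≤ k → b ^ k ∈ A := by
    intro k hk
    have hnpos : 0 < n := by omega
    obtain ⟨q, r, hr, hkq⟩ : ∃ q r, r < n ∧ k = q * n + r :=
      ⟨k / n, k % n, Nat.mod_lt _ hnpos, by rw [Nat.div_add_mod']⟩
    have hq : r ≤ q := by
      by_contra hlt
      push Not at hlt
      have : q * n + r < n * n := by
        have h1 : q + 1 ≤ n := by omega
        calc q * n + r < q * n + n := by omega
          _ = (q + 1) * n := by ring
          _ ≤ n * n := Nat.mul_le_mul_right n h1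
      omega
    have : k = (q - r) * n + r * (n + 1) := by
      have : q = (q - r) + r := by omega
      rw [hkq]
      nth_rewrite 1 [this]
      ring
    rw [this, pow_add, pow_mul', pow_mul']
    exact A.mul_mem (A.pow_mem h1 _) (A.pow_mem h2 _)
  -- the largest m with b^m ∉ A
  classical
  have hex : ∃ m, b ^ m ∉ A := ⟨1, by simpa using hb⟩
  have hbdd : ∀ m, b ^ m ∉ A → m ≤ n * n := by
    intro m hm
    by_contra hlt
    push Not at hlt
    exact hm (hlarge m hlt.le)
  let m := Nat.findGreatest (fun m => b ^ m ∉ A) (n * n)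
  have hm : b ^ m ∉ A := by
    obtain ⟨m0, hm0⟩ := hex
    exact Nat.findGreatest_spec (P := fun m => b ^ m ∉ A) (hbdd m0 hm0) hm0
  have hmax : ∀ k, m < k → b ^ k ∈ A := by
    intro k hk
    by_contra hk'
    have := Nat.le_findGreatest (P := fun m => b ^ m ∉ A) (hbdd k hk') hk'
    omega
  have hmpos : 0 < m := by
    rcases Nat.eq_zero_or_pos m with h0 | h0
    · exfalso
      apply hm
      rw [h0, pow_zero]
      exact A.one_mem
    · exact h0
  refine ⟨b ^ m, hm, ?_, ?_⟩
  · rw [← pow_mul]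
    exact hmax _ (by omega)
  · rw [← pow_mul]
    exact hmax _ (by omega)

end Groth.Agent.S7397
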