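import Groth.Statements.S7404
import Groth.Agent.H69.SNMain

set_option autoImplicit false
universe u
open CategoryTheory AlgebraicGeometry
open Mor

namespace Groth.Agent.S7404


open Groth.Agent in
theorem ext_of_comp {A C B : Type u} [CommRing A] [CommRing C] [CommRing B] (ψ : A →+* C)
    (χ : C →+* B) (hχ : Function.Injective χ) (hχint : χ.IsIntegral)
    (hext : ∀ (L : Type u) [Field L] (f g : B →+* L), f.comp (χ.comp ψ) = g.comp (χ.comp ψ) → f = g)
    (L : Type u) [Field L] (f g : C →+* L) (hfg : f.comp ψ = g.comp ψ) : f = g := by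
  letI : Algebra C B := χ.toAlgebra
  haveI : Algebra.IsIntegral C B := ⟨hχint⟩
  have hk : ∀ φ' : C →+* AlgebraicClosure L,
      RingHom.ker (algebraMap C B) ≤ RingHom.ker φ' := by
    intro φ' c hc
    have h0 : c = 0 := hχ (by rw [map_zero]; exact RingHom.mem_ker.mp hc)
    rw [h0]
    exact Ideal.zero_mem _
  obtain ⟨f', hf'⟩ := H69.exists_ringHom_extension_algClosed
    ((algebraMap L (AlgebraicClosure L)).comp f) (hk _)
  obtain ⟨g', hg'⟩ := H69.exists_ringHom_extension_algClosed
    ((algebraMap L (AlgebraicClosure L)).comp g) (hk _)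
  have hfg' : f' = g' := by
    apply hext (AlgebraicClosure L)
    have e1 : f'.comp (χ.comp ψ) = ((algebraMap L (AlgebraicClosure L)).comp f).comp ψ := by
      rw [← hf']; rfl
    have e2 : g'.comp (χ.comp ψ) = ((algebraMap L (AlgebraicClosure L)).comp g).comp ψ := by
      rw [← hg']; rfl
    rw [e1, e2, RingHom.comp_assoc, RingHom.comp_assoc, hfg]
  ext c
  apply (algebraMap L (AlgebraicClosure L)).injective
  have a1 := congrArg (fun k => k c) hf'
  have a2 := congrArg (fun k => k c) hg'
  simp only [RingHom.comp_apply] at a1 a2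
  rw [← a1, ← a2, hfg']

theorem integral_of_universallyClosed {A B : Type u} [CommRing A] [CommRing B] (φ : A →+* B)
    (h : UniversallyClosed (Spec.map (CommRingCat.ofHom φ))) : φ.IsIntegral := by
  have hint : IsIntegralHom (Spec.map (CommRingCat.ofHom φ)) :=
    IsIntegralHom.iff_universallyClosed_and_isAffineHom.mpr ⟨h, inferInstance⟩
  exact IsIntegralHom.SpecMap_iff.mp hint

theorem universallyClosed_of_integral {A B : Type u} [CommRing A] [CommRing B] (φ : A →+* B)
    (h : φ.IsIntegral) : UniversallyClosed (Spec.map (CommRingCat.ofHom φ)) := by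
  have hint : IsIntegralHom (Spec.map (CommRingCat.ofHom φ)) := IsIntegralHom.SpecMap_iff.mpr h
  exact (IsIntegralHom.iff_universallyClosed_and_isAffineHom.mp hint).1

/-- Let `A → B` be a ring map and `B' ⊆ B` an `A`-subalgebra, with `f : Spec B → Spec A` and `f' : Spec
B' → Spec A` the induced morphisms. Each of the following properties passes from `f` to `f'`: being
a universal homeomorphism; being a universal homeomorphism with trivial residue field extensions;
being universally closed; being both universally closed and universally injective. -/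
theorem result {A B : Type u} [CommRing A] [CommRing B] [Algebra A B]
    (B' : Subalgebra A B) :
    (FlatMor.IsUnivHomeo (Spec.map (CommRingCat.ofHom (algebraMap A B))) →
      FlatMor.IsUnivHomeo (Spec.map (CommRingCat.ofHom (algebraMap A B')))) ∧
    ((FlatMor.IsUnivHomeo (Spec.map (CommRingCat.ofHom (algebraMap A B))) ∧
      ∀ x : Spec (CommRingCat.of B),
        Function.Surjective ((Spec.map (CommRingCat.ofHom (algebraMap A B))).residueFieldMap x)) →
      FlatMor.IsUnivHomeo (Spec.map (CommRingCat.ofHom (algebraMap A B'))) ∧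
      ∀ x : Spec (CommRingCat.of B'),
        Function.Surjective ((Spec.map (CommRingCat.ofHom (algebraMap A B'))).residueFieldMap x)) ∧
    (UniversallyClosed (Spec.map (CommRingCat.ofHom (algebraMap A B))) →
      UniversallyClosed (Spec.map (CommRingCat.ofHom (algebraMap A B')))) ∧
    (UniversallyClosed (Spec.map (CommRingCat.ofHom (algebraMap A B))) →
      UniversallyInjective (Spec.map (CommRingCat.ofHom (algebraMap A B))) →
      UniversallyClosed (Spec.map (CommRingCat.ofHom (algebraMap A B'))) ∧
      UniversallyInjective (Spec.map (CommRingCat.ofHom (algebraMap A B')))) := by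
  have hχ : Function.Injective (B'.val.toRingHom) := Subtype.val_injective
  have hcomp : (B'.val.toRingHom).comp (algebraMap A B') = algebraMap A B := by
    ext a; rfl
  have hUC : UniversallyClosed (Spec.map (CommRingCat.ofHom (algebraMap A B))) →
      UniversallyClosed (Spec.map (CommRingCat.ofHom (algebraMap A B'))) := by
    intro h
    have h1 := integral_of_universallyClosed _ h
    rw [← hcomp] at h1
    exact universallyClosed_of_integral _ (RingHom.IsIntegral.tower_bot _ _ hχ h1)
  have hUH : FlatMor.IsUnivHomeo (Spec.map (CommRingCat.ofHom (algebraMap A B))) →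
      FlatMor.IsUnivHomeo (Spec.map (CommRingCat.ofHom (algebraMap A B'))) := by
    intro h
    have h1 := Groth.Agent.H69.ringUH_of_isUnivHomeo _ h
    rw [← hcomp] at h1
    exact Groth.Agent.H69.isUnivHomeo_of_ringUH _ (Groth.Agent.H69.RingUH.of_comp _ _ hχ h1).1
  refine ⟨hUH, ?_, hUC, ?_⟩
  · rintro ⟨h, hres⟩
    refine ⟨hUH h, ?_⟩
    rw [Groth.Agent.H69.resTriv_iff] at hres ⊢
    have h1 := Groth.Agent.H69.ringUH_of_isUnivHomeo _ h
    rw [← hcomp] at h1 hres
    have hχint : (B'.val.toRingHom).IsIntegral := RingHom.IsIntegral.tower_top _ _ h1.integral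
    exact (Groth.Agent.H69.ResTriv.of_comp _ _ (hχint.comap_surjective hχ) hres).1
  · intro h hui
    refine ⟨hUC h, ?_⟩
    have h1 := integral_of_universallyClosed _ h
    rw [← hcomp] at h1
    have hχint : (B'.val.toRingHom).IsIntegral := RingHom.IsIntegral.tower_top _ _ h1
    apply Groth.Agent.H69.universallyInjective_Spec_of_ringHom_ext
    intro L _ f g hfg
    apply ext_of_comp (algebraMap A B') (B'.val.toRingHom) hχ hχint _ L f g hfg
    intro L' _ f' g' hfg'
    rw [hcomp] at hfg'
    exact Groth.Agent.H69.ringHom_ext_of_universallyInjective_Spec _ hui f' g' hfg'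

end Groth.Agent.S7404
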