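import Groth.Statements.S7405
import Groth.Agent.H69.FilteredUH

set_option autoImplicit false
universe u
open CategoryTheory AlgebraicGeometry
open Mor

namespace Groth.Agent.S7405


open Groth.Agent.H69 Limits

section
variable (A : CommRingCat.{u}) {J : Type u} [SmallCategory J] [IsFiltered J] (F : J ⥤ Under A)
  (c : Limits.Cocone F) (hc : Limits.IsColimit c)

theorem hcomp (j : J) : ((c.ι.app j).right.hom).comp (F.obj j).hom.hom = c.pt.hom.hom := by
  have h := Under.w (c.ι.app j)
  have h2 := congrArg CommRingCat.Hom.hom h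
  rw [CommRingCat.hom_comp] at h2
  exact h2

include hc in
theorem hsurj (b : c.pt.right) : ∃ j, ∃ y : (F.obj j).right, (c.ι.app j).right.hom y = b := by
  have hD : IsColimit ((Under.forget A).mapCocone c) := isColimitOfPreserves (Under.forget A) hc
  obtain ⟨j, y, hy⟩ := Concrete.isColimit_exists_rep (F ⋙ Under.forget A) hD b
  exact ⟨j, y, hy⟩

include hc in
theorem hker (a : A) (ha : c.pt.hom.hom a = 0) : ∃ k, (F.obj k).hom.hom a = 0 := by
  have hD : IsColimit ((Under.forget A).mapCocone c) := isColimitOfPreserves (Under.forget A) hc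
  obtain ⟨j₀⟩ := IsFiltered.nonempty (C := J)
  have h1 : (c.ι.app j₀).right.hom ((F.obj j₀).hom.hom a) = 0 := by
    have := congrArg (fun k => k a) (hcomp A F c j₀)
    simp only [RingHom.comp_apply] at this
    rw [this, ha]
  have h2 : ((Under.forget A).mapCocone c).ι.app j₀ ((F.obj j₀).hom.hom a) =
      ((Under.forget A).mapCocone c).ι.app j₀ (0 : (F.obj j₀).right) := by
    show (c.ι.app j₀).right.hom ((F.obj j₀).hom.hom a) = (c.ι.app j₀).right.hom 0
    rw [h1, map_zero]
  obtain ⟨k, f, g, hfg⟩ := Concrete.isColimit_exists_of_rep_eq (F ⋙ Under.forget A) hD _ _ h2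
  refine ⟨k, ?_⟩
  have h3 : (F.map f).right.hom ((F.obj j₀).hom.hom a) = (F.map g).right.hom 0 := hfg
  rw [map_zero] at h3
  have h4 := Under.w (F.map f)
  have h5 := congrArg (fun k => k.hom a) h4
  simp only [CommRingCat.hom_comp, RingHom.comp_apply] at h5
  rw [← h5]
  exact h3

end

/-- Let `A` be a ring and `B` the colimit of a filtered diagram `j ↦ B_j` of `A`-algebras. Each of the
following properties, when it holds for every `Spec B_j → Spec A`, holds for `Spec B → Spec A`:
being a universal homeomorphism; being a universal homeomorphism with trivial residue field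
extensions; being universally closed; being both universally closed and universally injective. -/
theorem result (A : CommRingCat.{u}) {J : Type u} [SmallCategory J]
    [IsFiltered J] (F : J ⥤ Under A) (c : Limits.Cocone F) (hc : Limits.IsColimit c) :
    ((∀ j, FlatMor.IsUnivHomeo (Spec.map (F.obj j).hom)) → FlatMor.IsUnivHomeo (Spec.map c.pt.hom)) ∧
    ((∀ j, FlatMor.IsUnivHomeo (Spec.map (F.obj j).hom) ∧
        ∀ x : Spec (F.obj j).right, Function.Surjective ((Spec.map (F.obj j).hom).residueFieldMap x)) →
      FlatMor.IsUnivHomeo (Spec.map c.pt.hom) ∧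
        ∀ x : Spec c.pt.right, Function.Surjective ((Spec.map c.pt.hom).residueFieldMap x)) ∧
    ((∀ j, UniversallyClosed (Spec.map (F.obj j).hom)) → UniversallyClosed (Spec.map c.pt.hom)) ∧
    ((∀ j, UniversallyClosed (Spec.map (F.obj j).hom) ∧ UniversallyInjective (Spec.map (F.obj j).hom)) →
      UniversallyClosed (Spec.map c.pt.hom) ∧ UniversallyInjective (Spec.map c.pt.hom)) := by
  have e : ∀ (R : Under A) , Spec.map R.hom = Spec.map (CommRingCat.ofHom R.hom.hom) := fun R => rfl
  have HC := hcomp A F c
  have HS := hsurj A F c hc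
  have HK := hker A F c hc
  refine ⟨?_, ?_, ?_, ?_⟩
  · intro h
    have hj : ∀ j, RingUH (F.obj j).hom.hom := fun j => ringUH_of_isUnivHomeo _ (h j)
    exact isUnivHomeo_of_integral_of_ext_of_ker_nil c.pt.hom.hom
      (colim_isIntegral _ _ _ _ HC HS (fun j => (hj j).integral))
      (colim_ext _ _ _ _ HC HS (fun j => (hj j).ext))
      (colim_ker_nil _ _ _ _ HC HK (fun j a ha => (hj j).ker_nil _ a ha))
  · intro h
    have hj : ∀ j, RingUH (F.obj j).hom.hom := fun j => ringUH_of_isUnivHomeo _ (h j).1
    refine ⟨isUnivHomeo_of_integral_of_ext_of_ker_nil c.pt.hom.hom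
      (colim_isIntegral _ _ _ _ HC HS (fun j => (hj j).integral))
      (colim_ext _ _ _ _ HC HS (fun j => (hj j).ext))
      (colim_ker_nil _ _ _ _ HC HK (fun j a ha => (hj j).ker_nil _ a ha)), ?_⟩
    exact (resTriv_iff c.pt.hom.hom).mpr
      (colim_resTriv _ _ _ _ HC HS (fun j => (resTriv_iff _).mp (h j).2))
  · intro h
    exact universallyClosed_of_integral' c.pt.hom.hom
      (colim_isIntegral _ _ _ _ HC HS (fun j => integral_of_universallyClosed' _ (h j)))
  · intro h
    refine ⟨universallyClosed_of_integral' c.pt.hom.hom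
      (colim_isIntegral _ _ _ _ HC HS (fun j => integral_of_universallyClosed' _ (h j).1)), ?_⟩
    exact universallyInjective_Spec_of_ringHom_ext c.pt.hom.hom
      (colim_ext _ _ _ _ HC HS (fun j L _ f g hfg =>
        ringHom_ext_of_universallyInjective_Spec _ (h j).2 f g hfg))

end Groth.Agent.S7405
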