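import Groth.Statements.S7412
import Mathlib.Algebra.Module.CharacterModule
import Mathlib.Tactic

set_option autoImplicit false
universe u
open Desc

namespace Groth.Agent.S7412

/-- Let `R` be a ring and `f : M → N` a map of `R`-modules. Then `f` is universally injective (`f ⊗ 1_P`
is injective for every `R`-module `P`; here `P` ranges over modules in the same universe, which
suffices) if and only if the map of character modules `C(N) → C(M)`, `C(-) = Hom_ℤ(-, ℚ/ℤ)`, is a
split surjection of `R`-modules. -/
theorem result {R : Type u} [CommRing R] {M N : Type u}
    [AddCommGroup M] [Module R M] [AddCommGroup N] [Module R N] (f : M →ₗ[R] N) :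
    (∀ (P : Type u) [AddCommGroup P] [Module R P], Function.Injective (f.lTensor P)) ↔
      ∃ g : CharacterModule M →ₗ[R] CharacterModule N, (CharacterModule.dual f).comp g = LinearMap.id := by
  open TensorProduct in
  constructor
  · intro h
    have hinj := h (CharacterModule M)
    -- the evaluation character
    let c₀ : CharacterModule (CharacterModule M ⊗[R] M) :=
      CharacterModule.uncurry (LinearMap.id : CharacterModule M →ₗ[R] CharacterModule M)
    obtain ⟨c₁, hc₁⟩ := CharacterModule.dual_surjective_of_injective _ hinj c₀
    refine ⟨CharacterModule.curry c₁, ?_⟩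
    apply LinearMap.ext
    intro c
    apply CharacterModule.ext
    intro m
    have h1 := congrArg (fun χ : CharacterModule (CharacterModule M ⊗[R] M) => χ (c ⊗ₜ[R] m)) hc₁
    have h2 : c₁ (c ⊗ₜ[R] f m) = c m := h1
    exact h2
  · rintro ⟨g, hg⟩ P _ _
    rw [← CharacterModule.dual_surjective_iff_injective]
    intro χ
    refine ⟨CharacterModule.uncurry (g.comp (CharacterModule.curry χ)), ?_⟩
    apply CharacterModule.ext
    intro x
    induction x using TensorProduct.induction_on with
    | zero => simp
    | tmul p m =>
      have h1 := congrArg (fun φ : CharacterModule M →ₗ[R] CharacterModule M =>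
        φ (CharacterModule.curry χ p) m) hg
      have h2 : g (CharacterModule.curry χ p) (f m) = χ (p ⊗ₜ[R] m) := h1
      exact h2
    | add x y hx hy =>
      rw [map_add, map_add, hx, hy]

end Groth.Agent.S7412
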