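import Groth.Statements.S7416
import Mathlib.AlgebraicGeometry.AffineScheme
-- import your own Groth.Agent.* helpers here

set_option autoImplicit false
universe u
open CategoryTheory AlgebraicGeometry
open Mor

namespace Groth.Agent.S7416

lemma key {X : Scheme.{u}} {T : X.Opens} (hT : IsAffineOpen T) (f : Γ(X, T)) (O : X.Opens)
    (hO : O = X.basicOpen f) (a : Γ(X, O)) : ∃ f' : Γ(X, T), X.basicOpen f' = X.basicOpen a := by
  subst hO
  exact hT.basicOpen_basicOpen_is_basicOpen f a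

/-- Let `U`, `V` be affine schemes and `W → U`, `W → V` open immersions. Then every `w ∈ W` has an open
neighbourhood `W' ⊆ W` whose images in `U` and in `V` are standard opens `D(f) ⊆ U`, `D(g) ⊆ V` (in
particular `W'` is affine). -/
theorem result {U V W : Scheme.{u}} [IsAffine U]
    [IsAffine V] (i : W ⟶ U) (j : W ⟶ V) [IsOpenImmersion i] [IsOpenImmersion j] (w : W) :
    ∃ (W' : W.Opens) (f : Γ(U, ⊤)) (g : Γ(V, ⊤)), w ∈ W' ∧ i ''ᵁ W' = U.basicOpen f ∧ j ''ᵁ W' = V.basicOpen g := by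
  have hU : IsAffineOpen (⊤ : U.Opens) := isAffineOpen_top U
  have hV : IsAffineOpen (⊤ : V.Opens) := isAffineOpen_top V
  obtain ⟨f, hf1, hf2⟩ := hU.exists_basicOpen_le (V := i.opensRange) ⟨i w, ⟨w, rfl⟩⟩ trivial
  obtain ⟨g, hg1, hg2⟩ := hV.exists_basicOpen_le (V := j.opensRange) ⟨j w, ⟨w, rfl⟩⟩ trivial
  have e1 : i ''ᵁ (i ⁻¹ᵁ (U.basicOpen f)) = U.basicOpen f := by
    rw [i.image_preimage_eq_opensRange_inf, inf_eq_right.mpr hf1]
  have e2 : j ''ᵁ (j ⁻¹ᵁ (V.basicOpen g)) = V.basicOpen g := by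
    rw [j.image_preimage_eq_opensRange_inf, inf_eq_right.mpr hg1]
  have hW1a : IsAffineOpen (i ⁻¹ᵁ (U.basicOpen f)) :=
    (hU.basicOpen f).preimage_of_isOpenImmersion i hf1
  have hW2a : IsAffineOpen (j ⁻¹ᵁ (V.basicOpen g)) :=
    (hV.basicOpen g).preimage_of_isOpenImmersion j hg1
  have hw1 : w ∈ i ⁻¹ᵁ (U.basicOpen f) := hf2
  have hw2 : w ∈ j ⁻¹ᵁ (V.basicOpen g) := hg2
  obtain ⟨a, b, hab, hwa⟩ := exists_basicOpen_le_affine_inter hW1a hW2a w ⟨hw1, hw2⟩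
  obtain ⟨f', hf'⟩ := key hU f _ e1 ((i.appIso _).inv a)
  obtain ⟨g', hg'⟩ := key hV g _ e2 ((j.appIso _).inv b)
  refine ⟨W.basicOpen a, f', g', hwa, ?_, ?_⟩
  · rw [Scheme.image_basicOpen, hf']
  · rw [hab, Scheme.image_basicOpen, hg']

end Groth.Agent.S7416
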