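import Groth.Statements.S7426
import Groth.Agent.H69.AWNSch

set_option autoImplicit false
universe u
open CategoryTheory AlgebraicGeometry
open HTop

namespace Groth.Agent.S7426

/-- For a scheme `X` the following are equivalent: `X` is absolutely weakly normal; `X^awn → X` is an
isomorphism (equivalently, the identity of `X` is an absolute weak normalization); every universal
homeomorphism `Y → X` with `Y` reduced is an isomorphism. -/
theorem result (X : Scheme.{u}) :
    (HTop.IsAWN X ↔ HTop.IsAWNormalization (𝟙 X)) ∧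
    (HTop.IsAWN X ↔ ∀ (Y : Scheme.{u}) (π : Y ⟶ X), FlatMor.IsUnivHomeo π → AlgebraicGeometry.IsReduced Y → IsIso π) := by
  have h12 : HTop.IsAWN X → HTop.IsAWNormalization (𝟙 X) := by
    intro hX
    haveI := Groth.Agent.H69.isIso_awnMap_of_isAWN X hX
    have h1 := Groth.Agent.H69.isAWNormalization_of_iso (Groth.Agent.H69.awnMap X)
      (Groth.Agent.H69.isAWNormalization_awnMap X) (asIso (Groth.Agent.H69.awnMap X)).symm
    have h2 : (asIso (Groth.Agent.H69.awnMap X)).symm.hom ≫ Groth.Agent.H69.awnMap X = 𝟙 X := by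
      simp
    rwa [h2] at h1
  have h21 : HTop.IsAWNormalization (𝟙 X) → HTop.IsAWN X := fun h =>
    Groth.Agent.H69.isAWN_of_isAWNormalization (𝟙 X) h
  refine ⟨⟨h12, h21⟩, ⟨?_, ?_⟩⟩
  · intro hX Y π hπ hY
    haveI := Groth.Agent.H69.isIso_awnMap_of_isAWN X hX
    obtain ⟨h, hh, -⟩ := (Groth.Agent.H69.isAWNormalization_awnMap X).2 Y π hπ
    have hs : (inv (Groth.Agent.H69.awnMap X) ≫ h) ≫ π = 𝟙 X := by
      rw [Category.assoc, hh, IsIso.inv_hom_id]
    have hs' : π ≫ (inv (Groth.Agent.H69.awnMap X) ≫ h) = 𝟙 Y := by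
      apply Groth.Agent.H69.hom_ext_of_isUnivHomeo π hπ
      rw [Category.assoc, hs, Category.comp_id, Category.id_comp]
    exact ⟨⟨inv (Groth.Agent.H69.awnMap X) ≫ h, hs', hs⟩⟩
  · intro H
    haveI : IsReduced (Groth.Agent.H69.awnScheme X) :=
      Groth.Agent.H69.isReduced_of_isAWN (Groth.Agent.H69.isAWN_awnScheme X)
    haveI : IsIso (Groth.Agent.H69.awnMap X) :=
      H _ (Groth.Agent.H69.awnMap X) (Groth.Agent.H69.isUnivHomeo_awnMap X) inferInstance
    exact Groth.Agent.H69.isAWN_of_iso (asIso (Groth.Agent.H69.awnMap X))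
      (Groth.Agent.H69.isAWN_awnScheme X)

end Groth.Agent.S7426
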