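import Groth.Statements.S7428
import Groth.Agent.H69.RelNormSN

set_option autoImplicit false
universe u
open CategoryTheory AlgebraicGeometry
open Mor

namespace Groth.Agent.S7428


theorem ker_nil_of_isDominant {A B : Type u} [CommRing A] [CommRing B] [Algebra A B]
    [h : IsDominant (Spec.map (CommRingCat.ofHom (algebraMap A B)))] :
    ∀ a ∈ RingHom.ker (algebraMap A B), IsNilpotent a := by
  have h1 : DenseRange (PrimeSpectrum.comap (algebraMap A B)) := h.denseRange
  rw [PrimeSpectrum.denseRange_comap_iff_ker_le_nilRadical] at h1
  intro a ha
  exact mem_nilradical.mp (h1 ha)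

/-- Let `A → B` be a ring map with `Spec B → Spec A` dominant. Then some `A`-subalgebra `B' ⊆ B` has
`Spec B' → Spec A` a universal homeomorphism with trivial residue field extensions and contains the
image of `C → B` for every `A`-algebra `C` with an `A`-algebra map `C → B` such that `Spec C → Spec
A` is a universal homeomorphism with trivial residue field extensions. (Trivial residue field
extensions: every residue field map of the morphism of spectra is surjective. The test algebras `C`
range over the universe of `A` and `B`.) -/
theorem result {A B : Type u} [CommRing A] [CommRing B] [Algebra A B]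
    [IsDominant (Spec.map (CommRingCat.ofHom (algebraMap A B)))] :
    ∃ B' : Subalgebra A B, (FlatMor.IsUnivHomeo (Spec.map (CommRingCat.ofHom (algebraMap A B'))) ∧
      ∀ x : Spec (CommRingCat.of B'),
        Function.Surjective ((Spec.map (CommRingCat.ofHom (algebraMap A B'))).residueFieldMap x)) ∧
      ∀ (C : Type u) [CommRing C] [Algebra A C] (g : C →ₐ[A] B),
        FlatMor.IsUnivHomeo (Spec.map (CommRingCat.ofHom (algebraMap A C))) →
        (∀ x : Spec (CommRingCat.of C),
          Function.Surjective ((Spec.map (CommRingCat.ofHom (algebraMap A C))).residueFieldMap x)) →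
        g.range ≤ B' := by
  have hker := ker_nil_of_isDominant (A := A) (B := B)
  refine ⟨Groth.Agent.H69.relClosure (Groth.Agent.H69.StepSN (A := A) (B := B)),
    ⟨Groth.Agent.H69.isUnivHomeo_of_ringUH _ (Groth.Agent.H69.ringUH_relClosure_sn hker),
      (Groth.Agent.H69.resTriv_iff _).mpr Groth.Agent.H69.resTriv_relClosure_sn⟩, ?_⟩
  intro C _ _ g hC hres
  exact Groth.Agent.H69.le_relClosure_sn _
    (Groth.Agent.H69.ringUH_range g (Groth.Agent.H69.ringUH_of_isUnivHomeo _ hC) hker)
    (Groth.Agent.H69.resTriv_range g ((Groth.Agent.H69.resTriv_iff _).mp hres))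

end Groth.Agent.S7428
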