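import Groth.Statements.S7431
import Mathlib

set_option autoImplicit false
set_option maxHeartbeats 400000
universe u
open CategoryTheory AlgebraicGeometry
open Lim

namespace Groth.Agent.S7431

open CategoryTheory CategoryTheory.Limits AlgebraicGeometry

theorem isLocalization_away_of_pullback {B B' R R' : Type u} [CommRing B] [CommRing B']
    [CommRing R] [CommRing R']
    (s : B →+* R) (t : R' →+* R) (p : B' →+* B) (q : B' →+* R')
    (hinj : ∀ c c' : B', p c = p c' → q c = q c' → c = c')
    (hex : ∀ b r', s b = t r' → ∃ c : B', p c = b ∧ q c = r')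
    (hcomm : ∀ c, s (p c) = t (q c))
    (f : R') (g : B) (h : B') (hp : p h = g) (hq : q h = f) (hfg : t f = s g)
    (hI : ∀ b, s b = 0 → ∃ n, g ^ n * b = 0) (hS : ∀ a : R, ∃ b m, s b = s g ^ m * a) :
    @IsLocalization.Away B' _ h (Localization.Away f) _
      ((algebraMap R' (Localization.Away f)).comp q).toAlgebra := by
  letI : Algebra B' (Localization.Away f) :=
    ((algebraMap R' (Localization.Away f)).comp q).toAlgebra
  have halg : ∀ c : B', algebraMap B' (Localization.Away f) c =
      algebraMap R' (Localization.Away f) (q c) := fun c => rfl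
  refine IsLocalization.Away.mk h ?_ ?_ ?_
  · rw [halg, hq]; exact IsLocalization.Away.algebraMap_isUnit f
  · intro z
    obtain ⟨k, r', hz⟩ := IsLocalization.Away.surj f z
    obtain ⟨b, m, hb⟩ := hS (t r')
    obtain ⟨c, hc1, hc2⟩ := hex b (f ^ m * r') (by rw [hb, map_mul, map_pow, hfg])
    refine ⟨k + m, c, ?_⟩
    rw [halg, halg, hq, hc2, pow_add, ← mul_assoc, hz, map_mul, map_pow, mul_comm]
  · intro c₁ c₂ hc
    rw [halg, halg] at hc
    obtain ⟨N, hN⟩ := IsLocalization.Away.exists_of_eq f hc
    have hqd : q (h ^ N * (c₁ - c₂)) = 0 := by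
      rw [map_mul, map_pow, hq, map_sub, mul_sub, hN, sub_self]
    have hsd : s (p (h ^ N * (c₁ - c₂))) = 0 := by rw [hcomm, hqd, map_zero]
    obtain ⟨M, hM⟩ := hI _ hsd
    have he : h ^ M * (h ^ N * (c₁ - c₂)) = 0 := by
      apply hinj
      · rw [map_mul, map_pow, hp, hM, map_zero]
      · rw [map_mul, hqd, mul_zero, map_zero]
    refine ⟨M + N, ?_⟩
    have h0 : h ^ (M + N) * c₁ - h ^ (M + N) * c₂ = 0 := by
      rw [← mul_sub, pow_add, mul_assoc]; exact he
    exact sub_eq_zero.mp h0


/-- Let `B' = B ×_R R'` be a cartesian square of rings with maps `s : B → R`, `t : R' → R`, and let `W'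
= D(f_1) ∪ … ∪ D(f_n) ⊆ Spec R'` with `t(f_i) = s(g_i)` for elements `g_i ∈ B` such that `B_{g_i} →
R_{s(g_i)}` is an isomorphism for each `i`. Then the composite `W' → Spec R' → Spec B'`, the second
map coming from `B' → R'`, is an open immersion. -/
theorem result {B B' R R' : Type u} [CommRing B] [CommRing B']
    [CommRing R] [CommRing R'] (s : B →+* R) (t : R' →+* R) (p : B' →+* B) (q : B' →+* R')
    (hsq : IsPullback (CommRingCat.ofHom p) (CommRingCat.ofHom q) (CommRingCat.ofHom s) (CommRingCat.ofHom t))
    {n : ℕ} (f : Fin n → R') (g : Fin n → B) (hfg : ∀ i, t (f i) = s (g i))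
    (hiso : ∀ i, Function.Bijective (Localization.awayMap s (g i))) :
    IsOpenImmersion (Scheme.Opens.ι (X := Spec (CommRingCat.of R')) (⨆ i, PrimeSpectrum.basicOpen (f i)) ≫
      Spec.map (CommRingCat.ofHom q)) := by
  have hT := hsq.map (forget CommRingCat)
  have hinj : ∀ c c' : B', p c = p c' → q c = q c' → c = c' :=
    fun c c' h1 h2 => Types.ext_of_isPullback hT h1 h2
  have hex : ∀ b r', s b = t r' → ∃ c : B', p c = b ∧ q c = r' :=
    fun b r' hbr => Types.exists_of_isPullback hT b r' hbr
  have hcomm : ∀ c, s (p c) = t (q c) := by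
    intro c
    have h1 := congrArg (fun φ => φ.hom c) hsq.w
    exact h1
  choose h hhp hhq using fun i => hex (g i) (f i) (hfg i).symm
  have hloc : ∀ i, IsOpenImmersion (Spec.map (CommRingCat.ofHom
      ((algebraMap R' (Localization.Away (f i))).comp q))) := by
    intro i
    letI : Algebra B' (Localization.Away (f i)) :=
      ((algebraMap R' (Localization.Away (f i))).comp q).toAlgebra
    haveI : IsLocalization.Away (h i) (Localization.Away (f i)) :=
      isLocalization_away_of_pullback s t p q hinj hex hcomm (f i) (g i) (h i) (hhp i) (hhq i)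
        (hfg i) (Localization.awayMap_injective_iff.mp (hiso i).1)
        (Localization.awayMap_surjective_iff.mp (hiso i).2)
    exact IsOpenImmersion.of_isLocalization (h i)
  have hrange : ∀ i, Set.range (Spec.map (CommRingCat.ofHom
      (algebraMap R' (Localization.Away (f i))))) =
      (PrimeSpectrum.basicOpen (f i) : Set (PrimeSpectrum R')) :=
    fun i => PrimeSpectrum.localization_away_comap_range (Localization.Away (f i)) (f i)
  have hmem : ∀ x : ↥(Scheme.Opens.toScheme (X := Spec (CommRingCat.of R'))
      (⨆ i, PrimeSpectrum.basicOpen (f i))), ∃ i, x.1 ∈ PrimeSpectrum.basicOpen (f i) := by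
    intro x
    exact TopologicalSpace.Opens.mem_iSup.mp x.2
  have hcompeq : ∀ i, Spec.map (CommRingCat.ofHom (algebraMap R' (Localization.Away (f i)))) ≫
      Spec.map (CommRingCat.ofHom q) = Spec.map (CommRingCat.ofHom
        ((algebraMap R' (Localization.Away (f i))).comp q)) := by
    intro i
    rw [← Spec.map_comp]
    rfl
  apply IsOpenImmersion.of_forall_source_exists
  · intro x x' hxx'
    obtain ⟨i, hi⟩ := hmem x
    have hxx'2 : PrimeSpectrum.comap q x.1 = PrimeSpectrum.comap q x'.1 := hxx'
    have hx'i : x'.1 ∈ PrimeSpectrum.basicOpen (f i) := by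
      intro hcon
      apply hi
      have h1 : h i ∈ (PrimeSpectrum.comap q x'.1).asIdeal := by
        show q (h i) ∈ x'.1.asIdeal
        rw [hhq i]; exact hcon
      rw [← hxx'2] at h1
      have h2 : q (h i) ∈ x.1.asIdeal := h1
      rw [hhq i] at h2
      exact h2
    obtain ⟨y, hy⟩ : x.1 ∈ Set.range (Spec.map (CommRingCat.ofHom
        (algebraMap R' (Localization.Away (f i))))) := by rw [hrange i]; exact hi
    obtain ⟨y', hy'⟩ : x'.1 ∈ Set.range (Spec.map (CommRingCat.ofHom
        (algebraMap R' (Localization.Away (f i))))) := by rw [hrange i]; exact hx'i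
    have hyy' : y = y' := by
      haveI := hloc i
      apply (Spec.map (CommRingCat.ofHom
        ((algebraMap R' (Localization.Away (f i))).comp q))).isOpenEmbedding.injective
      rw [← hcompeq i, Scheme.Hom.comp_apply, Scheme.Hom.comp_apply, hy, hy']
      exact hxx'2
    apply Subtype.ext
    rw [← hy, ← hy', hyy']
  · intro x
    obtain ⟨i, hi⟩ := hmem x
    have hle : Set.range (Spec.map (CommRingCat.ofHom
        (algebraMap R' (Localization.Away (f i))))) ⊆
        Set.range (Scheme.Opens.ι (X := Spec (CommRingCat.of R'))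
          (⨆ i, PrimeSpectrum.basicOpen (f i))) := by
      rw [hrange i, Scheme.Opens.range_ι]
      exact fun y hy => TopologicalSpace.Opens.mem_iSup.mpr ⟨i, hy⟩
    have hj := IsOpenImmersion.lift_fac (Scheme.Opens.ι (X := Spec (CommRingCat.of R'))
      (⨆ i, PrimeSpectrum.basicOpen (f i))) (Spec.map (CommRingCat.ofHom
        (algebraMap R' (Localization.Away (f i))))) hle
    have hjo : IsOpenImmersion (IsOpenImmersion.lift (Scheme.Opens.ι
        (X := Spec (CommRingCat.of R')) (⨆ i, PrimeSpectrum.basicOpen (f i)))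
        (Spec.map (CommRingCat.ofHom (algebraMap R' (Localization.Away (f i))))) hle) := by
      haveI : IsOpenImmersion (IsOpenImmersion.lift (Scheme.Opens.ι
        (X := Spec (CommRingCat.of R')) (⨆ i, PrimeSpectrum.basicOpen (f i)))
        (Spec.map (CommRingCat.ofHom (algebraMap R' (Localization.Away (f i))))) hle ≫
        Scheme.Opens.ι (X := Spec (CommRingCat.of R')) (⨆ i, PrimeSpectrum.basicOpen (f i))) := by
        rw [hj]; infer_instance
      exact IsOpenImmersion.of_comp _ (Scheme.Opens.ι (X := Spec (CommRingCat.of R'))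
        (⨆ i, PrimeSpectrum.basicOpen (f i)))
    refine ⟨_, _, hjo, ?_, ?_⟩
    · obtain ⟨y, hy⟩ : x.1 ∈ Set.range (Spec.map (CommRingCat.ofHom
          (algebraMap R' (Localization.Away (f i))))) := by rw [hrange i]; exact hi
      refine ⟨y, ?_⟩
      apply (Scheme.Opens.ι (X := Spec (CommRingCat.of R'))
        (⨆ i, PrimeSpectrum.basicOpen (f i))).isOpenEmbedding.injective
      rw [← Scheme.Hom.comp_apply, hj]
      exact hy
    · rw [← Category.assoc, hj, hcompeq i]
      exact hloc i

end Groth.Agent.S7431
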