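import Groth.Statements.S7440
import Groth.Agent.H37.BddFibEtale
open CategoryTheory.Limits Groth.Agent.H37.BddFibLib

set_option autoImplicit false
universe u
open CategoryTheory AlgebraicGeometry
open BddFib

namespace Groth.Agent.S7440

/-- Let `f : X → Y` be étale and `n ≥ 0`. If for every field `k` and every `Spec k → Y` the base change
`X_k = Spec k ×_Y X` has finitely many, and at most `n`, points, then `n` bounds the degrees of the
fibres of `f`. (The converse implication holds for every morphism of schemes, étale or not, and is
not restated here.) -/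
theorem result {X Y : Scheme.{u}} (f : X ⟶ Y) [Etale f] (n : ℕ)
    (h : ∀ (k : Type u) [Field k] (g : Spec (CommRingCat.of k) ⟶ Y),
      Finite ↥(Limits.pullback f g) ∧ Nat.card ↥(Limits.pullback f g) ≤ n) :
    BddFib.FibreDegLE f n := by
  intro y
  obtain ⟨g, hg⟩ : ∃ g : Spec (CommRingCat.of (AlgebraicClosure (Y.residueField y))) ⟶ Y,
      g = Spec.map (CommRingCat.ofHom (algebraMap (Y.residueField y)
        (AlgebraicClosure (Y.residueField y)))) ≫ Y.fromSpecResidueField y := ⟨_, rfl⟩
  obtain ⟨hfin, hcard⟩ := h (AlgebraicClosure (Y.residueField y)) g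
  haveI := hfin
  have hp' := finiteOfDegLE_of_etale_algClosed (AlgebraicClosure (Y.residueField y))
    (pullback.snd f g) n hcard
  have hw : pullback.fst f g ≫ f = (pullback.snd f g ≫ Spec.map (CommRingCat.ofHom
      (algebraMap (Y.residueField y) (AlgebraicClosure (Y.residueField y))))) ≫
      Y.fromSpecResidueField y := by
    rw [Category.assoc, ← hg]; exact pullback.condition
  have ha1 : pullback.lift (pullback.fst f g) _ hw ≫ pullback.fst f (Y.fromSpecResidueField y) =
      pullback.fst f g := pullback.lift_fst _ _ _
  have ha2 : pullback.lift (pullback.fst f g) _ hw ≫ f.fiberToSpecResidueField y =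
      pullback.snd f g ≫ Spec.map (CommRingCat.ofHom
      (algebraMap (Y.residueField y) (AlgebraicClosure (Y.residueField y)))) :=
    pullback.lift_snd _ _ _
  have sq : IsPullback (pullback.lift (pullback.fst f g) _ hw) (pullback.snd f g)
      (f.fiberToSpecResidueField y) (Spec.map (CommRingCat.ofHom
      (algebraMap (Y.residueField y) (AlgebraicClosure (Y.residueField y))))) := by
    refine IsPullback.of_right ?_ ha2 (IsPullback.of_hasPullback f (Y.fromSpecResidueField y))
    have h3 : IsPullback (pullback.lift (pullback.fst f g) _ hw ≫
        pullback.fst f (Y.fromSpecResidueField y)) (pullback.snd f g) f g := by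
      rw [ha1]; exact IsPullback.of_hasPullback f g
    exact (congrArg (fun t => IsPullback (pullback.lift (pullback.fst f g) _ hw ≫
        pullback.fst f (Y.fromSpecResidueField y)) (pullback.snd f g) f t) hg).mp h3
  exact finiteOfDegLE_desc (Field.toIsField _)
    (Field.toIsField (AlgebraicClosure (Y.residueField y))) _ sq n hp'

end Groth.Agent.S7440
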