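import Groth.Statements.S7443
import Groth.Agent.H69.FPColimUH

set_option autoImplicit false
universe u
open CategoryTheory AlgebraicGeometry
open Mor

namespace Groth.Agent.S7443

/-- Let `φ : A → B` be a ring map with `Spec B → Spec A` a universal homeomorphism. Then `B`, as an
`A`-algebra, is the colimit of a filtered diagram of finitely presented `A`-algebras `B_i`, and
every `Spec B_i → Spec A` is again a universal homeomorphism. (The colimit is taken in the category
of rings under `A`, over a small filtered index category.) -/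
theorem result {A B : Type u} [CommRing A] [CommRing B] (φ : A →+* B)
    (hφ : FlatMor.IsUnivHomeo (Spec.map (CommRingCat.ofHom φ))) :
    ∃ (J : Type u) (_ : SmallCategory J) (_ : IsFiltered J) (F : J ⥤ Under (CommRingCat.of A))
      (c : Limits.Cocone F) (_ : Limits.IsColimit c),
      (∀ j, (F.obj j).hom.hom.FinitePresentation ∧ FlatMor.IsUnivHomeo (Spec.map (F.obj j).hom)) ∧
      Nonempty (c.pt ≅ Under.mk (CommRingCat.ofHom φ)) := by
  letI : Algebra A B := φ.toAlgebra
  have hU : Groth.Agent.H69.RingUH (algebraMap A B) :=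
    Groth.Agent.H69.ringUH_of_isUnivHomeo φ hφ
  have hkerB : ∀ a ∈ RingHom.ker (algebraMap A B), IsNilpotent a :=
    Groth.Agent.H69.RingUH.ker_nil _ hU
  obtain ⟨J, hJ, hfil, F, c, hc, hobj, hpt⟩ := Groth.Agent.H69.FPC.exists_colim (A := A) (B := B)
    (fun C _ _ => Groth.Agent.H69.relClosure (Groth.Agent.H69.StepAWN (A := A) (B := C)))
    (fun C C' _ _ _ _ h => Groth.Agent.H69.FPC.relClosure_awn_functorial C C' h)
    (fun C _ _ x h2 h3 => Groth.Agent.H69.relClosure_closed _ Groth.Agent.H69.stepAWN_mono x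
      (Or.inl ⟨h2, h3⟩))
    True
    (fun _ C _ _ x p hp h1 h2 => Groth.Agent.H69.relClosure_closed _
      Groth.Agent.H69.stepAWN_mono x (Or.inr ⟨p, hp, h1, h2⟩))
    (fun S hS => by
      obtain ⟨b, hb, hs⟩ := Groth.Agent.S7401.hex_awn hU S hS
      refine ⟨b, hb, ?_⟩
      rcases hs with hs | ⟨p, hp, h1, h2⟩
      · exact Or.inl hs
      · exact Or.inr ⟨trivial, p, hp, h1, h2⟩)
  refine ⟨J, hJ, hfil, F, c, hc, ?_, ⟨eqToIso hpt⟩⟩
  intro j
  obtain ⟨C, _, _, hF, hfp, hgood, ⟨g⟩⟩ := hobj j
  rw [hF]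
  refine ⟨?_, ?_⟩
  · show RingHom.FinitePresentation (algebraMap A C)
    exact RingHom.finitePresentation_algebraMap.mpr hfp
  · exact Groth.Agent.H69.FPC.isUnivHomeo_of_relClosure_awn_eq_top hgood
      (Groth.Agent.H69.FPC.ker_nil_of_algHom g hkerB)

end Groth.Agent.S7443
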