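import Groth.Statements.S7444
import Groth.Agent.H69.FPColimUH

set_option autoImplicit false
universe u
open CategoryTheory AlgebraicGeometry
open Mor

namespace Groth.Agent.S7444

/-- Let `φ : A → B` be a ring map such that `Spec B → Spec A` is a universal homeomorphism and all
residue field extensions are trivial (every residue field map is surjective). Then `B`, as an
`A`-algebra, is the colimit of a filtered diagram of finitely presented `A`-algebras `B_i`, each of
which has the same two properties over `A`. (The colimit is taken in the category of rings under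
`A`, over a small filtered index category.) -/
theorem result {A B : Type u} [CommRing A] [CommRing B]
    (φ : A →+* B) (hφ : FlatMor.IsUnivHomeo (Spec.map (CommRingCat.ofHom φ)))
    (hres : ∀ x : Spec (CommRingCat.of B), Function.Surjective ((Spec.map (CommRingCat.ofHom φ)).residueFieldMap x)) :
    ∃ (J : Type u) (_ : SmallCategory J) (_ : IsFiltered J) (F : J ⥤ Under (CommRingCat.of A))
      (c : Limits.Cocone F) (_ : Limits.IsColimit c),
      (∀ j, (F.obj j).hom.hom.FinitePresentation ∧ FlatMor.IsUnivHomeo (Spec.map (F.obj j).hom) ∧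
        ∀ x : Spec (F.obj j).right, Function.Surjective ((Spec.map (F.obj j).hom).residueFieldMap x)) ∧
      Nonempty (c.pt ≅ Under.mk (CommRingCat.ofHom φ)) := by
  letI : Algebra A B := φ.toAlgebra
  have hU : Groth.Agent.H69.RingUH (algebraMap A B) :=
    Groth.Agent.H69.ringUH_of_isUnivHomeo φ hφ
  have hres' : Groth.Agent.H69.ResTriv (algebraMap A B) := (Groth.Agent.H69.resTriv_iff φ).mp hres
  have hkerB : ∀ a ∈ RingHom.ker (algebraMap A B), IsNilpotent a :=
    Groth.Agent.H69.RingUH.ker_nil _ hU
  obtain ⟨J, hJ, hfil, F, c, hc, hobj, hpt⟩ := Groth.Agent.H69.FPC.exists_colim (A := A) (B := B)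
    (fun C _ _ => Groth.Agent.H69.relClosure (Groth.Agent.H69.StepSN (A := A) (B := C)))
    (fun C C' _ _ _ _ h => Groth.Agent.H69.FPC.relClosure_sn_functorial C C' h)
    (fun C _ _ x h2 h3 => Groth.Agent.H69.relClosure_closed _ Groth.Agent.H69.stepSN_mono x
      ⟨h2, h3⟩)
    False
    (fun h => h.elim)
    (fun S hS => by
      obtain ⟨b, hb, hs⟩ := Groth.Agent.S7400.hex_sn hU hres' S hS
      exact ⟨b, hb, Or.inl hs⟩)
  refine ⟨J, hJ, hfil, F, c, hc, ?_, ⟨eqToIso hpt⟩⟩
  intro j
  obtain ⟨C, _, _, hF, hfp, hgood, ⟨g⟩⟩ := hobj j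
  rw [hF]
  refine ⟨?_, ?_, ?_⟩
  · show RingHom.FinitePresentation (algebraMap A C)
    exact RingHom.finitePresentation_algebraMap.mpr hfp
  · exact Groth.Agent.H69.FPC.isUnivHomeo_of_relClosure_sn_eq_top hgood
      (Groth.Agent.H69.FPC.ker_nil_of_algHom g hkerB)
  · exact (Groth.Agent.H69.resTriv_iff (algebraMap A C)).mpr
      (Groth.Agent.H69.FPC.resTriv_of_relClosure_sn_eq_top hgood)

end Groth.Agent.S7444
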