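import Groth.Statements.S7451
import Mathlib

set_option autoImplicit false
universe u
open CategoryTheory AlgebraicGeometry
open Desc

namespace Groth.Agent.S7451

section core

variable {k : Type u} [Field k] {n : ℕ}

/-- the elementary substitution `x_i ↦ x_i + x_j ^ d`. -/
noncomputable def σ (i j : Fin n) (d : ℕ) :
    MvPolynomial (Fin n) k →ₐ[k] MvPolynomial (Fin n) k :=
  MvPolynomial.aeval (R := k)
    (Function.update MvPolynomial.X i (MvPolynomial.X i + MvPolynomial.X j ^ d) :
      Fin n → MvPolynomial (Fin n) k)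

theorem eval₂_σ {D : Type*} [CommRing D] (ψ₀ : k →+* D) (c : Fin n → D) (i j : Fin n) (d : ℕ)
    (f : MvPolynomial (Fin n) k) :
    MvPolynomial.eval₂ ψ₀ c (σ i j d f)
      = MvPolynomial.eval₂ ψ₀ (Function.update c i (c i + c j ^ d)) f := by
  have h : (MvPolynomial.eval₂Hom ψ₀ c).comp (σ (k := k) i j d).toRingHom
      = MvPolynomial.eval₂Hom ψ₀ (Function.update c i (c i + c j ^ d)) := by
    apply MvPolynomial.ringHom_ext
    · intro r
      simp [σ]
    · intro l
      simp only [σ, RingHom.comp_apply, AlgHom.toRingHom_eq_coe, RingHom.coe_coe,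
        MvPolynomial.aeval_X, MvPolynomial.coe_eval₂Hom, MvPolynomial.eval₂_X]
      by_cases h : l = i
      · subst h
        simp
      · simp [Function.update_of_ne h]
  exact RingHom.congr_fun h f

/-- all of `I` vanishes at the point `c`. -/
def Reach {D : Type*} [CommRing D] (I : Ideal (MvPolynomial (Fin n) k)) (ψ₀ : k →+* D)
    (c : Fin n → D) : Prop :=
  ∀ f ∈ I, MvPolynomial.eval₂ ψ₀ c f = 0

theorem Reach.move {D : Type*} [CommRing D] {I : Ideal (MvPolynomial (Fin n) k)}
    (hstab : ∀ i j : Fin n, i ≠ j → ∀ d : ℕ, ∀ f ∈ I, σ i j d f ∈ I)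
    {ψ₀ : k →+* D} {c : Fin n → D} (h : Reach I ψ₀ c) {i j : Fin n} (hij : i ≠ j) (d : ℕ) :
    Reach I ψ₀ (Function.update c i (c i + c j ^ d)) := fun f hf => by
  rw [← eval₂_σ]; exact h _ (hstab i j hij d f hf)

theorem line_core {D : Type*} [CommRing D] [IsDomain D] {I : Ideal (MvPolynomial (Fin n) k)}
    {ψ₀ : k →+* D} {c : Fin n → D} (i : Fin n) (S : Set D) (hS : S.Infinite)
    (hreach : ∀ s ∈ S, Reach I ψ₀ (Function.update c i (c i + s))) (y : D) :
    Reach I ψ₀ (Function.update c i (c i + y)) := by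
  intro f hf
  obtain ⟨F, hF⟩ : ∃ F : Polynomial D, F = MvPolynomial.eval₂ (Polynomial.C.comp ψ₀)
      (Function.update (fun l => Polynomial.C (c l)) i (Polynomial.C (c i) + Polynomial.X)) f :=
    ⟨_, rfl⟩
  have hev : ∀ s : D, F.eval s = MvPolynomial.eval₂ ψ₀ (Function.update c i (c i + s)) f := by
    intro s
    have h : (Polynomial.evalRingHom s).comp (MvPolynomial.eval₂Hom (Polynomial.C.comp ψ₀)
        (Function.update (fun l => Polynomial.C (c l)) i (Polynomial.C (c i) + Polynomial.X)))
        = MvPolynomial.eval₂Hom ψ₀ (Function.update c i (c i + s)) := by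
      apply MvPolynomial.ringHom_ext
      · intro r; simp
      · intro l
        by_cases h : l = i
        · subst h; simp
        · simp [Function.update_of_ne h]
    rw [hF]
    exact RingHom.congr_fun h f
  have hF0 : F = 0 := by
    apply Polynomial.eq_zero_of_infinite_isRoot
    refine hS.mono fun s hs => ?_
    show F.eval s = 0
    rw [hev]; exact hreach s hs f hf
  rw [← hev, hF0, Polynomial.eval_zero]

theorem line_pow {D : Type*} [CommRing D] [IsDomain D] {I : Ideal (MvPolynomial (Fin n) k)}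
    (hstab : ∀ i j : Fin n, i ≠ j → ∀ d : ℕ, ∀ f ∈ I, σ i j d f ∈ I)
    {ψ₀ : k →+* D} {c : Fin n → D} (h : Reach I ψ₀ c) {i j : Fin n} (hij : i ≠ j)
    (hinj : Function.Injective (fun d : ℕ => c j ^ d)) (y : D) :
    Reach I ψ₀ (Function.update c i (c i + y)) :=
  line_core i (Set.range fun d : ℕ => c j ^ d) (Set.infinite_range_of_injective hinj)
    (by rintro _ ⟨d, rfl⟩; exact h.move hstab hij d) y

theorem line_char0 {D : Type*} [CommRing D] [IsDomain D] [CharZero D]
    {I : Ideal (MvPolynomial (Fin n) k)}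
    (hstab : ∀ i j : Fin n, i ≠ j → ∀ d : ℕ, ∀ f ∈ I, σ i j d f ∈ I)
    {ψ₀ : k →+* D} {c : Fin n → D} (h : Reach I ψ₀ c) {i j : Fin n} (hij : i ≠ j) (y : D) :
    Reach I ψ₀ (Function.update c i (c i + y)) := by
  have key : ∀ m : ℕ, Reach I ψ₀ (Function.update c i (c i + (m : D))) := by
    intro m
    induction m with
    | zero => simpa using h
    | succ m ih =>
      have h1 := ih.move hstab hij 0
      have h2 : Function.update (Function.update c i (c i + (m : D))) i
          (Function.update c i (c i + (m : D)) i + Function.update c i (c i + (m : D)) j ^ 0)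
          = Function.update c i (c i + ((m + 1 : ℕ) : D)) := by
        rw [Function.update_idem, Function.update_self, pow_zero]; push_cast; rw [add_assoc]
      rw [h2] at h1
      exact h1
  refine line_core i (Set.range fun m : ℕ => (m : D))
    (Set.infinite_range_of_injective Nat.cast_injective) ?_ y
  rintro _ ⟨m, rfl⟩
  exact key m

theorem pow_injective_C_add_X {D : Type*} [CommRing D] [Nontrivial D] (β : D) (i : Fin n) :
    Function.Injective
      (fun d : ℕ => (MvPolynomial.C β + MvPolynomial.X i : MvPolynomial (Fin n) D) ^ d) := by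
  classical
  intro d d' h
  have h1 := congrArg (MvPolynomial.eval₂Hom (Polynomial.C : D →+* Polynomial D)
    (fun l : Fin n => if l = i then Polynomial.X - Polynomial.C β else 0)) h
  simp only [map_pow, map_add, MvPolynomial.eval₂Hom_C, MvPolynomial.eval₂Hom_X', ↓reduceIte,
    add_sub_cancel] at h1
  have h2 := congrArg Polynomial.natDegree h1
  simpa using h2

theorem translate_injective {D : Type*} [CommRing D] [Nontrivial D] (ψ₀ : k →+* D) (b : Fin n → D)
    (f : MvPolynomial (Fin n) k)
    (h : MvPolynomial.eval₂ ((MvPolynomial.C : D →+* MvPolynomial (Fin n) D).comp ψ₀)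
      (fun l => MvPolynomial.C (b l) + MvPolynomial.X l : Fin n → MvPolynomial (Fin n) D) f = 0) :
    f = 0 := by
  have h2 : (MvPolynomial.eval₂Hom (MvPolynomial.C : D →+* MvPolynomial (Fin n) D)
        (fun l => MvPolynomial.X l - MvPolynomial.C (b l))).comp
      (MvPolynomial.eval₂Hom ((MvPolynomial.C : D →+* MvPolynomial (Fin n) D).comp ψ₀)
        (fun l => MvPolynomial.C (b l) + MvPolynomial.X l)) = MvPolynomial.map ψ₀ := by
    apply MvPolynomial.ringHom_ext
    · intro r; simp
    · intro l; simp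
  have h3 : MvPolynomial.map ψ₀ f = 0 := by
    rw [← h2, RingHom.comp_apply]
    have h4 : (MvPolynomial.eval₂Hom ((MvPolynomial.C : D →+* MvPolynomial (Fin n) D).comp ψ₀)
        (fun l => MvPolynomial.C (b l) + MvPolynomial.X l)) f = 0 := h
    rw [h4, map_zero]
  exact MvPolynomial.map_injective ψ₀ ψ₀.injective (by rw [h3, map_zero])

theorem reach_all {D : Type*} [CommRing D] [IsDomain D] {I : Ideal (MvPolynomial (Fin n) k)}
    (hstab : ∀ i j : Fin n, i ≠ j → ∀ d : ℕ, ∀ f ∈ I, σ i j d f ∈ I) (ψ₀ : k →+* D)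
    (b : Fin n → D) (hb : Reach I ψ₀ b) (hn : 2 ≤ n)
    (hcase : CharZero D ∨ ∃ j, Function.Injective (fun d : ℕ => b j ^ d)) :
    Reach I ((MvPolynomial.C : D →+* MvPolynomial (Fin n) D).comp ψ₀)
      (fun l => MvPolynomial.C (b l) + MvPolynomial.X l : Fin n → MvPolynomial (Fin n) D) := by
  classical
  haveI : Nontrivial (Fin n) := Fin.nontrivial_iff_two_le.2 hn
  have h0 : Reach I ((MvPolynomial.C : D →+* MvPolynomial (Fin n) D).comp ψ₀)
      (fun l => (MvPolynomial.C (b l) : MvPolynomial (Fin n) D)) := by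
    intro f hf
    have h := MvPolynomial.eval₂_comp_left (MvPolynomial.C : D →+* MvPolynomial (Fin n) D) ψ₀ b f
    rw [hb f hf, map_zero] at h
    exact h.symm
  have h1 : ∃ i₀ : Fin n, Reach I ((MvPolynomial.C : D →+* MvPolynomial (Fin n) D).comp ψ₀)
      (Function.update (fun l => (MvPolynomial.C (b l) : MvPolynomial (Fin n) D)) i₀
        (MvPolynomial.C (b i₀) + MvPolynomial.X i₀)) := by
    rcases hcase with hc | ⟨j, hj⟩
    · haveI : CharZero (MvPolynomial (Fin n) D) :=
        charZero_of_injective_ringHom (MvPolynomial.C_injective (Fin n) D)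
      obtain ⟨j⟩ : Nonempty (Fin n) := inferInstance
      obtain ⟨i₀, hi₀⟩ := exists_ne j
      exact ⟨i₀, line_char0 hstab h0 hi₀ (MvPolynomial.X i₀)⟩
    · obtain ⟨i₀, hi₀⟩ := exists_ne j
      refine ⟨i₀, line_pow hstab h0 hi₀ ?_ (MvPolynomial.X i₀)⟩
      intro d d' h
      apply hj
      apply MvPolynomial.C_injective (Fin n) D
      simpa using h
  obtain ⟨i₀, hi₀⟩ := h1
  have h2 : ∀ S : Finset (Fin n),
      Reach I ((MvPolynomial.C : D →+* MvPolynomial (Fin n) D).comp ψ₀)
        (fun l => MvPolynomial.C (b l) + (if l ∈ insert i₀ S then MvPolynomial.X l else 0) :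
          Fin n → MvPolynomial (Fin n) D) := by
    intro S
    induction S using Finset.induction_on with
    | empty =>
      convert hi₀ using 1
      funext l
      by_cases h : l = i₀
      · subst h; simp
      · simp [Function.update_of_ne h, h]
    | insert a S ha ih =>
      by_cases hai : a = i₀
      · subst hai
        simpa using ih
      · have hinj : Function.Injective (fun d : ℕ =>
            ((fun l => MvPolynomial.C (b l) + (if l ∈ insert i₀ S then MvPolynomial.X l else 0) :
              Fin n → MvPolynomial (Fin n) D) i₀) ^ d) := by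
          simpa using pow_injective_C_add_X (n := n) (b i₀) i₀
        have h3 := line_pow hstab ih hai hinj (MvPolynomial.X a)
        convert h3 using 1
        funext l
        by_cases h : l = a
        · subst h
          simp [ha, hai]
        · simp [Function.update_of_ne h, h]
  have h3 := h2 Finset.univ
  convert h3 using 1
  funext l
  simp

theorem core {D : Type*} [CommRing D] [IsDomain D] {I : Ideal (MvPolynomial (Fin n) k)}
    (hn : 2 ≤ n) (hstab : ∀ i j : Fin n, i ≠ j → ∀ d : ℕ, ∀ f ∈ I, σ i j d f ∈ I)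
    (hI : I ≠ ⊥) (ψ₀ : k →+* D) (b : Fin n → D) (hb : Reach I ψ₀ b) :
    ¬ CharZero D ∧ ∀ j, ¬ Function.Injective (fun d : ℕ => b j ^ d) := by
  obtain ⟨f, hfI, hf0⟩ := Submodule.exists_mem_ne_zero_of_ne_bot hI
  have key : ¬ (CharZero D ∨ ∃ j, Function.Injective (fun d : ℕ => b j ^ d)) := by
    intro hcase
    exact hf0 (translate_injective ψ₀ b f (reach_all hstab ψ₀ b hb hn hcase f hfI))
  exact ⟨fun h => key (Or.inl h), fun j h => key (Or.inr ⟨j, h⟩)⟩

end core

theorem exists_pow_p_pow_eq {K : Type*} [Field K] (p : ℕ) [hp : Fact p.Prime] [CharP K p] (x : K)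
    (h : ¬ Function.Injective (fun d : ℕ => x ^ d)) : ∃ m : ℕ, 0 < m ∧ x ^ (p ^ m) = x := by
  by_cases hx : x = 0
  · exact ⟨1, one_pos, by rw [hx, zero_pow (pow_ne_zero _ hp.out.ne_zero)]⟩
  have hfin : IsOfFinOrder x := by
    rw [isOfFinOrder_iff_pow_eq_one]
    obtain ⟨d, d', hdd, hne⟩ := Function.not_injective_iff.1 h
    have hdd' : x ^ d = x ^ d' := hdd
    rcases lt_or_gt_of_ne hne with hlt | hlt
    · refine ⟨d' - d, by omega, ?_⟩
      have h1 : x ^ d * x ^ (d' - d) = x ^ d * 1 := by
        rw [← pow_add, mul_one, Nat.add_sub_cancel' hlt.le]; exact hdd'.symm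
      exact mul_left_cancel₀ (pow_ne_zero _ hx) h1
    · refine ⟨d - d', by omega, ?_⟩
      have h1 : x ^ d' * x ^ (d - d') = x ^ d' * 1 := by
        rw [← pow_add, mul_one, Nat.add_sub_cancel' hlt.le]; exact hdd'
      exact mul_left_cancel₀ (pow_ne_zero _ hx) h1
  have ho : 0 < orderOf x := hfin.orderOf_pos
  have hcop : Nat.Coprime p (orderOf x) := by
    rw [Nat.Prime.coprime_iff_not_dvd hp.out]
    rintro ⟨o', ho'⟩
    have h1 : (x ^ o') ^ p = 1 := by
      rw [← pow_mul, mul_comm, ← ho', pow_orderOf_eq_one]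
    have h2 : (x ^ o' - 1) ^ p = 0 := by rw [sub_pow_char, h1, one_pow, sub_self]
    have h3 : x ^ o' = 1 := sub_eq_zero.1 ((pow_eq_zero_iff hp.out.ne_zero).1 h2)
    have h4 : orderOf x ∣ o' := orderOf_dvd_of_pow_eq_one h3
    rw [ho'] at h4 ho
    have ho'pos : 0 < o' := Nat.pos_of_ne_zero (fun h0 => by simp [h0] at ho)
    have h5 := Nat.le_of_dvd ho'pos h4
    have h6 : 2 * o' ≤ p * o' := Nat.mul_le_mul_right o' hp.out.two_le
    omega
  refine ⟨Nat.totient (orderOf x), Nat.totient_pos.2 ho, ?_⟩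
  have h7 := (hfin.pow_eq_pow_iff_modEq (n := p ^ Nat.totient (orderOf x)) (m := 1)).2
    (Nat.ModEq.pow_totient hcop)
  rwa [pow_one] at h7

/-- Let `k` be a field and `n ≥ 2`. For `i ≠ j` and `d ≥ 0` let `T_{i,j,d}` be the automorphism of
`𝔸^n_k` given by `x_i ↦ x_i + x_j^d` and fixing the other coordinates. Let `W ⊆ 𝔸^n_k` be a nonempty
open subscheme with `T_{i,j,d}⁻¹(W) = W` for all `i, j, d`. Then either `W = 𝔸^n_k`, or `k` has
prime characteristic `p` and the complement `𝔸^n_k ∖ W` consists of finitely many closed points,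
each of whose coordinates `a` in the residue field satisfies `a^(p^m) = a` for some `m ≥ 1`
(equivalently, is algebraic over `𝔽_p`). -/
theorem result (k : Type u) [Field k] (n : ℕ) (hn : 2 ≤ n)
    (W : (Spec (CommRingCat.of (MvPolynomial (Fin n) k))).Opens)
    (hW : (W : Set ↥(Spec (CommRingCat.of (MvPolynomial (Fin n) k)))).Nonempty)
    (hinv : ∀ (i j : Fin n), i ≠ j → ∀ d : ℕ,
      (Spec.map (CommRingCat.ofHom (MvPolynomial.aeval (R := k)
        (Function.update MvPolynomial.X i (MvPolynomial.X i + MvPolynomial.X j ^ d) :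
          Fin n → MvPolynomial (Fin n) k)).toRingHom)) ⁻¹ᵁ W = W) :
    W = ⊤ ∨ ∃ p : ℕ, p.Prime ∧ CharP k p ∧ ((W : Set ↥(Spec (CommRingCat.of (MvPolynomial (Fin n) k))))ᶜ).Finite ∧
      ∀ x : ↥(Spec (CommRingCat.of (MvPolynomial (Fin n) k))),
        x ∉ (W : Set ↥(Spec (CommRingCat.of (MvPolynomial (Fin n) k)))) →
        IsClosed ({x} : Set ↥(Spec (CommRingCat.of (MvPolynomial (Fin n) k)))) ∧ ∀ i : Fin n, ∃ m : ℕ, 0 < m ∧
          (algebraMap (MvPolynomial (Fin n) k) x.asIdeal.ResidueField (MvPolynomial.X i)) ^ (p ^ m) =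
            algebraMap (MvPolynomial (Fin n) k) x.asIdeal.ResidueField (MvPolynomial.X i) := by
  classical
  obtain ⟨Z, hZ⟩ : ∃ Z : Set (PrimeSpectrum (MvPolynomial (Fin n) k)),
      Z = (W : Set ↥(Spec (CommRingCat.of (MvPolynomial (Fin n) k))))ᶜ := ⟨_, rfl⟩
  have hZc : IsClosed Z := by rw [hZ]; exact W.isOpen.isClosed_compl
  obtain ⟨I, hI⟩ : ∃ I : Ideal (MvPolynomial (Fin n) k), I = PrimeSpectrum.vanishingIdeal Z :=
    ⟨_, rfl⟩
  have hZI : Z = PrimeSpectrum.zeroLocus (I : Set (MvPolynomial (Fin n) k)) := by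
    rw [hI, PrimeSpectrum.zeroLocus_vanishingIdeal_eq_closure, hZc.closure_eq]
  have hIle : ∀ x ∈ Z, I ≤ x.asIdeal := by
    intro x hx f hf
    rw [hI, PrimeSpectrum.mem_vanishingIdeal] at hf
    exact hf x hx
  have hcomap : ∀ (i j : Fin n), i ≠ j → ∀ d : ℕ, ∀ x ∈ Z,
      PrimeSpectrum.comap (σ (k := k) i j d).toRingHom x ∈ Z := by
    intro i j hij d x hx
    rw [hZ] at hx ⊢
    intro hmem
    apply hx
    have h1 : x ∈ ((Spec.map (CommRingCat.ofHom (σ (k := k) i j d).toRingHom)) ⁻¹ᵁ W) := hmem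
    have h2 : (Spec.map (CommRingCat.ofHom (σ (k := k) i j d).toRingHom)) ⁻¹ᵁ W = W :=
      hinv i j hij d
    rw [h2] at h1
    exact h1
  have hstab : ∀ i j : Fin n, i ≠ j → ∀ d : ℕ, ∀ f ∈ I, σ i j d f ∈ I := by
    intro i j hij d f hf
    rw [hI, PrimeSpectrum.mem_vanishingIdeal]
    intro x hx
    exact hIle _ (hcomap i j hij d x hx) hf
  by_cases hZe : Z = ∅
  · left
    rw [hZ] at hZe
    have h1 : (W : Set ↥(Spec (CommRingCat.of (MvPolynomial (Fin n) k)))) = Set.univ :=
      Set.compl_empty_iff.1 hZe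
    exact TopologicalSpace.Opens.ext (by rw [h1]; rfl)
  · right
    have hne : Z.Nonempty := Set.nonempty_iff_ne_empty.2 hZe
    have hIbot : I ≠ ⊥ := by
      intro hbot
      obtain ⟨w, hw⟩ := hW
      have h1 : (w : PrimeSpectrum (MvPolynomial (Fin n) k)) ∈ Z := by
        rw [hZI, hbot, PrimeSpectrum.zeroLocus_bot]; exact Set.mem_univ _
      rw [hZ] at h1
      exact h1 hw
    have hpt : ∀ x ∈ Z, Reach I
        ((algebraMap (MvPolynomial (Fin n) k) x.asIdeal.ResidueField).comp MvPolynomial.C)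
        (fun l => algebraMap (MvPolynomial (Fin n) k) x.asIdeal.ResidueField
          (MvPolynomial.X l)) := by
      intro x hx f hf
      have h1 : MvPolynomial.eval₂Hom
          ((algebraMap (MvPolynomial (Fin n) k) x.asIdeal.ResidueField).comp MvPolynomial.C)
          (fun l => algebraMap (MvPolynomial (Fin n) k) x.asIdeal.ResidueField
            (MvPolynomial.X l))
          = algebraMap (MvPolynomial (Fin n) k) x.asIdeal.ResidueField := by
        apply MvPolynomial.ringHom_ext
        · intro r; simp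
        · intro l; simp
      have h2 := RingHom.congr_fun h1 f
      rw [MvPolynomial.coe_eval₂Hom] at h2
      rw [h2, Ideal.algebraMap_residueField_eq_zero]
      exact hIle x hx hf
    obtain ⟨x₀, hx₀⟩ := hne
    have hcore := fun x hx => core hn hstab hIbot _ _ (hpt x hx)
    have hnotchar0 : ¬ CharZero k := by
      intro hc
      apply (hcore x₀ hx₀).1
      exact charZero_of_injective_ringHom
        (f := (algebraMap (MvPolynomial (Fin n) k) x₀.asIdeal.ResidueField).comp MvPolynomial.C)
        (RingHom.injective _)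
    obtain ⟨p, hp⟩ := CharP.exists k
    have hpp : p.Prime := by
      rcases CharP.char_is_prime_or_zero k p with h | h
      · exact h
      · exfalso; subst h; exact hnotchar0 (CharP.charP_to_charZero k)
    haveI : Fact p.Prime := ⟨hpp⟩
    have hmain : ∀ x ∈ Z, x.asIdeal.IsMaximal ∧ ∀ l : Fin n, ∃ m : ℕ, 0 < m ∧
        (algebraMap (MvPolynomial (Fin n) k) x.asIdeal.ResidueField (MvPolynomial.X l)) ^ (p ^ m)
          = algebraMap (MvPolynomial (Fin n) k) x.asIdeal.ResidueField (MvPolynomial.X l) := by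
      intro x hx
      haveI : CharP x.asIdeal.ResidueField p := charP_of_injective_ringHom
        (f := (algebraMap (MvPolynomial (Fin n) k) x.asIdeal.ResidueField).comp MvPolynomial.C)
        (RingHom.injective _) p
      have hco : ∀ l : Fin n, ∃ m : ℕ, 0 < m ∧
          (algebraMap (MvPolynomial (Fin n) k) x.asIdeal.ResidueField (MvPolynomial.X l)) ^ (p ^ m)
            = algebraMap (MvPolynomial (Fin n) k) x.asIdeal.ResidueField (MvPolynomial.X l) :=
        fun l => exists_pow_p_pow_eq p _ ((hcore x hx).2 l)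
      refine ⟨?_, hco⟩
      have hXl : ∀ l : Fin n, IsIntegral k (Ideal.Quotient.mk x.asIdeal (MvPolynomial.X l)) := by
        intro l
        obtain ⟨m, hm, hxm⟩ := hco l
        have hmem : (MvPolynomial.X l : MvPolynomial (Fin n) k) ^ (p ^ m) - MvPolynomial.X l
            ∈ x.asIdeal := by
          rw [← Ideal.algebraMap_residueField_eq_zero, map_sub, map_pow, hxm, sub_self]
        have hq : (Ideal.Quotient.mk x.asIdeal (MvPolynomial.X l)) ^ (p ^ m)
            - Ideal.Quotient.mk x.asIdeal (MvPolynomial.X l) = 0 := by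
          rw [← map_pow, ← map_sub, Ideal.Quotient.eq_zero_iff_mem]; exact hmem
        have h1lt : 1 < p ^ m := Nat.one_lt_pow hm.ne' hpp.one_lt
        refine ⟨Polynomial.X ^ (p ^ m) - Polynomial.X,
          Polynomial.monic_X_pow_sub (by rw [Polynomial.degree_X]; exact_mod_cast h1lt), ?_⟩
        rw [Polynomial.eval₂_sub, Polynomial.eval₂_pow, Polynomial.eval₂_X]; exact hq
      have hint : ∀ f : MvPolynomial (Fin n) k,
          IsIntegral k (Ideal.Quotient.mk x.asIdeal f) := by
        intro f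
        induction f using MvPolynomial.induction_on with
        | C a =>
          exact (isIntegral_algebraMap (R := k) (A := MvPolynomial (Fin n) k ⧸ x.asIdeal) (x := a))
        | add f g hf hg => rw [map_add]; exact hf.add hg
        | mul_X f l hf => rw [map_mul]; exact hf.mul (hXl l)
      haveI : Algebra.IsIntegral k (MvPolynomial (Fin n) k ⧸ x.asIdeal) := ⟨fun y => by
        obtain ⟨f, rfl⟩ := Ideal.Quotient.mk_surjective y; exact hint f⟩
      exact Ideal.Quotient.maximal_of_isField _
        (isField_of_isIntegral_of_isField' (R := k) (Field.toIsField k))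
    refine ⟨p, hpp, hp, ?_, ?_⟩
    · rw [← hZ]
      have hfin := Ideal.finite_minimalPrimes_of_isNoetherianRing _ I
      refine Set.Finite.of_finite_image (f := PrimeSpectrum.asIdeal) (hfin.subset ?_)
        (fun x _ y _ h => PrimeSpectrum.ext h)
      rintro _ ⟨x, hx, rfl⟩
      obtain ⟨q, hq, hqx⟩ := Ideal.exists_minimalPrimes_le (hIle x hx)
      have hqZ : (⟨q, hq.1.1⟩ : PrimeSpectrum (MvPolynomial (Fin n) k)) ∈ Z := by
        rw [hZI]; exact hq.1.2
      have hqmax : q.IsMaximal := (hmain _ hqZ).1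
      have hqe : q = x.asIdeal := hqmax.eq_of_le x.isPrime.ne_top hqx
      rw [← hqe]; exact hq
    · intro x hxW
      have hx : (x : PrimeSpectrum (MvPolynomial (Fin n) k)) ∈ Z := by rw [hZ]; exact hxW
      exact ⟨(PrimeSpectrum.isClosed_singleton_iff_isMaximal x).2 (hmain x hx).1, (hmain x hx).2⟩

end Groth.Agent.S7451
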