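import Groth.Statements.S7456
import Groth.Agent.S7457
import Groth.Agent.H37.HTopSheaf

set_option autoImplicit false
universe u
open CategoryTheory CategoryTheory.Limits AlgebraicGeometry
open Grpd

namespace Groth.Agent.S7456

/-- Let (U, R, s, t, c) be a groupoid scheme over S. For every subset W of U, the subset t(s^{-1}(W)) is
set-theoretically R-invariant: its preimages under s and t coincide. If moreover s and t are open
maps and quasi-compact, then U is covered by R-invariant quasi-compact open subsets. (The published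
statement also asserts that this set is open when W is open and s, t are open maps; this row omits
that clause.) (A groupoid scheme carries U, R, s, t, c, e, i over S with the groupoid axioms on
T-points; c is defined on the fibre product of s and t and sends a pair (a, b) with s(a) = t(b) to a
composed with b.) -/
theorem result (S : Scheme.{u}) (G : Grpd.GroupoidScheme S) : (∀ W : Set G.U, ⇑G.s ⁻¹' (⇑G.t '' (⇑G.s ⁻¹' W)) = ⇑G.t ⁻¹' (⇑G.t '' (⇑G.s ⁻¹' W))) ∧ (IsOpenMap ⇑G.s → IsOpenMap ⇑G.t → QuasiCompact G.s → QuasiCompact G.t → ∀ u : G.U, ∃ W : G.U.Opens, IsCompact (W : Set G.U) ∧ u ∈ W ∧ G.s ⁻¹ᵁ W = G.t ⁻¹ᵁ W) := by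
  have hcs : G.c ≫ G.s = pullback.snd G.s G.t ≫ G.s := by
    rw [Groth.Agent.S7457.c_eq G]
    exact Groth.Agent.S7457.cmp_s G _ _ _
  have hct : G.c ≫ G.t = pullback.fst G.s G.t ≫ G.t := by
    rw [Groth.Agent.S7457.c_eq G]
    exact Groth.Agent.S7457.cmp_t G _ _ _
  have key : ∀ (W : Set G.U) (r : G.R),
      (G.s r ∈ ⇑G.t '' (⇑G.s ⁻¹' W)) ↔ (G.t r ∈ ⇑G.t '' (⇑G.s ⁻¹' W)) := by
    intro W r
    constructor
    · rintro ⟨r', hr'W, hr'⟩
      obtain ⟨q, hq1, hq2⟩ := Scheme.Pullback.exists_preimage_pullback (f := G.s) (g := G.t)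
        r r' hr'.symm
      refine ⟨G.c q, ?_, ?_⟩
      · show G.s (G.c q) ∈ W
        rw [← Scheme.Hom.comp_apply, hcs, Scheme.Hom.comp_apply, hq2]
        exact hr'W
      · rw [← Scheme.Hom.comp_apply, hct, Scheme.Hom.comp_apply, hq1]
    · rintro ⟨r', hr'W, hr'⟩
      have h1 : G.s (G.i r) = G.t r := by rw [← Scheme.Hom.comp_apply, G.i_s]
      have h2 : G.t (G.i r) = G.s r := by rw [← Scheme.Hom.comp_apply, G.i_t]
      obtain ⟨q, hq1, hq2⟩ := Scheme.Pullback.exists_preimage_pullback (f := G.s) (g := G.t)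
        (G.i r) r' (h1.trans hr'.symm)
      refine ⟨G.c q, ?_, ?_⟩
      · show G.s (G.c q) ∈ W
        rw [← Scheme.Hom.comp_apply, hcs, Scheme.Hom.comp_apply, hq2]
        exact hr'W
      · rw [← Scheme.Hom.comp_apply, hct, Scheme.Hom.comp_apply, hq1, h2]
  refine ⟨fun W => Set.ext (fun r => key W r), ?_⟩
  intro hs ht hqs hqt u
  obtain ⟨W0, hu0⟩ := Groth.Agent.H37.HTopSheaf.exists_affineOpens_mem u
  have hAo : IsOpen (⇑G.t '' (⇑G.s ⁻¹' ((W0 : G.U.Opens) : Set G.U))) :=
    ht _ ((W0 : G.U.Opens).2.preimage G.s.continuous)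
  have hAc : IsCompact (⇑G.t '' (⇑G.s ⁻¹' ((W0 : G.U.Opens) : Set G.U))) := by
    have h3 : IsCompact (⇑G.s ⁻¹' ((W0 : G.U.Opens) : Set G.U)) :=
      hqs.isCompact_preimage _ (W0 : G.U.Opens).2 W0.2.isCompact
    exact h3.image G.t.continuous
  refine ⟨⟨_, hAo⟩, hAc, ?_, ?_⟩
  · refine ⟨G.e u, ?_, ?_⟩
    · show G.s (G.e u) ∈ (W0 : G.U.Opens)
      rw [← Scheme.Hom.comp_apply, G.e_s]
      exact hu0
    · rw [← Scheme.Hom.comp_apply, G.e_t]
      rfl
  · exact TopologicalSpace.Opens.ext (Set.ext (fun r => key _ r))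

end Groth.Agent.S7456
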