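import Groth.Statements.S7458
import Groth.Agent.H37.GrpAct
-- import your own Groth.Agent.* helpers here

set_option autoImplicit false
universe u
open CategoryTheory MonoidalCategory CartesianMonoidalCategory MonObj GrpObj AlgebraicGeometry
open GrpSch

namespace Groth.Agent.S7458

/-- For a group scheme G over a scheme S, a scheme T flat over S and a morphism ψ : T -> G over S, the
map T x_S G -> G sending (t, g) to the product ψ(t)·g is a flat morphism; taking T = G and ψ the
identity, the multiplication G x_S G -> G is flat whenever G is flat over S. -/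
theorem result (S : Scheme.{u}) (G : Over S) [GrpObj G] : (∀ (T : Over S) (ψ : T ⟶ G), Flat T.hom → Flat (ψ ▷ G ≫ μ[G]).left) ∧ (Flat G.hom → Flat μ[G].left) := by
  have main : ∀ (T : Over S) (ψ : T ⟶ G), Flat T.hom → Flat (ψ ▷ G ≫ μ[G]).left := by
    intro T ψ hT
    have hiso : IsIso (lift (fst T G) (ψ ▷ G ≫ μ[G])) := Groth.Agent.H37.isIso_shear ψ
    have e : ψ ▷ G ≫ μ[G] = lift (fst T G) (ψ ▷ G ≫ μ[G]) ≫ snd T G := (lift_snd _ _).symm
    rw [e, Over.comp_left]
    have h1 : IsIso (lift (fst T G) (ψ ▷ G ≫ μ[G])).left :=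
      (Over.forget S).map_isIso (lift (fst T G) (ψ ▷ G ≫ μ[G]))
    have h2 : Flat (snd T G).left := by
      show Flat (Limits.pullback.snd T.hom G.hom)
      exact MorphismProperty.pullback_snd (P := @Flat) _ _ hT
    infer_instance
  refine ⟨main, fun hG => ?_⟩
  have := main G (𝟙 G) hG
  rwa [id_whiskerRight, Category.id_comp] at this

end Groth.Agent.S7458
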