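import Groth.Statements.S7460
import Mathlib
import Groth.Agent.H68.SecBC

set_option autoImplicit false
universe u
open CategoryTheory CategoryTheory.Limits AlgebraicGeometry
open GrpSch

namespace Groth.Agent.S7460

open AlgebraicGeometry CategoryTheory CategoryTheory.Limits TopologicalSpace TensorProduct

/-- prime criterion for a combination over orthogonal idempotents -/
theorem not_mem_prime_iff {D : Type*} [CommRing D] {n : ℕ} (ε d : Fin n → D)
    (hidem : ∀ j, ε j * ε j = ε j) (horth : ∀ j l, j ≠ l → ε j * ε l = 0)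
    (𝔮 : Ideal D) [h𝔮 : 𝔮.IsPrime] :
    (∑ j, ε j * d j) ∉ 𝔮 ↔ ∃ j, ε j ∉ 𝔮 ∧ d j ∉ 𝔮 := by
  constructor
  · intro h
    by_contra hcon
    push Not at hcon
    apply h
    refine Ideal.sum_mem _ fun j _ => ?_
    by_cases hj : ε j ∈ 𝔮
    · exact Ideal.mul_mem_right _ _ hj
    · exact Ideal.mul_mem_left _ _ (hcon j hj)
  · rintro ⟨j, hε, hd⟩ hmem
    have h1 : ε j * ∑ l, ε l * d l = ε j * d j := by
      rw [Finset.mul_sum, Finset.sum_eq_single j]
      · rw [← mul_assoc, hidem]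
      · intro l _ hl
        rw [← mul_assoc, horth j l (Ne.symm hl), zero_mul]
      · intro h; exact absurd (Finset.mem_univ j) h
    have h2 : ε j * d j ∈ 𝔮 := h1 ▸ Ideal.mul_mem_left _ _ hmem
    rcases h𝔮.mem_or_mem h2 with h | h
    · exact hε h
    · exact hd h

/-- `C` is split over `R` on finite subsets -/
def LocSplit {R C : Type*} [CommRing R] [CommRing C] (α : R →+* C) : Prop :=
  ∀ s : Finset C, ∃ (n : ℕ) (ε : Fin n → C), (∀ j, ε j * ε j = ε j) ∧
    (∀ j l, j ≠ l → ε j * ε l = 0) ∧ ∀ c ∈ s, ∃ r : Fin n → R, c = ∑ j, α (r j) * ε j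

theorem normal_form {R C B D : CommRingCat.{u}} {α : R ⟶ C} {β : R ⟶ B} {γ : C ⟶ D} {δ : B ⟶ D}
    (h : IsPushout α β γ δ) (hC : LocSplit α.hom) (x : D) :
    ∃ (n : ℕ) (ε : Fin n → C) (d : Fin n → B), (∀ j, ε j * ε j = ε j) ∧
      (∀ j l, j ≠ l → ε j * ε l = 0) ∧ x = ∑ j, γ.hom (ε j) * δ.hom (d j) := by
  classical
  letI := α.hom.toAlgebra
  letI := β.hom.toAlgebra
  obtain ⟨e, he⟩ := Groth.Agent.H68.SecBC.pushout_tensor_iso h
  obtain ⟨z, rfl⟩ := e.surjective x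
  obtain ⟨S, rfl⟩ := TensorProduct.exists_finset z
  obtain ⟨n, ε, hidem, horth, hrep⟩ := hC (S.image Prod.fst)
  have hrep' : ∀ i : C × B, ∃ r : Fin n → R, i ∈ S → i.1 = ∑ j, α.hom (r j) * ε j := by
    intro i
    by_cases hi : i ∈ S
    · obtain ⟨r, hr⟩ := hrep i.1 (Finset.mem_image_of_mem _ hi)
      exact ⟨r, fun _ => hr⟩
    · exact ⟨fun _ => 0, fun h => absurd h hi⟩
  choose r hr using hrep'
  refine ⟨n, ε, fun j => ∑ i ∈ S, β.hom (r i j) * i.2, hidem, horth, ?_⟩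
  rw [map_sum]
  simp only [he, map_sum, map_mul, Finset.mul_sum]
  rw [Finset.sum_comm]
  refine Finset.sum_congr rfl fun i hi => ?_
  conv_lhs => rw [hr i hi]
  rw [map_sum, Finset.sum_mul]
  refine Finset.sum_congr rfl fun j _ => ?_
  rw [map_mul]
  have hsq : γ.hom (α.hom (r i j)) = δ.hom (β.hom (r i j)) := congr($(h.w).hom (r i j))
  rw [hsq]
  ring

theorem locSplit_appTop (k : Type u) [Field k] (A : Type u) [CommRing A] [Algebra k A]
    (hA : ∀ s : Finset A, ∃ (B : Subalgebra k A) (n : ℕ), (↑s : Set A) ⊆ (B : Set A) ∧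
      Nonempty (B ≃ₐ[k] (Fin n → k))) :
    LocSplit (Spec.map (CommRingCat.ofHom (algebraMap k A))).appTop.hom := by
  classical
  intro s
  let ιA : Γ(Spec (CommRingCat.of A), ⊤) ≃+* A :=
    (Scheme.ΓSpecIso (CommRingCat.of A)).commRingCatIsoToRingEquiv
  let ιk : Γ(Spec (CommRingCat.of k), ⊤) ≃+* k :=
    (Scheme.ΓSpecIso (CommRingCat.of k)).commRingCatIsoToRingEquiv
  have hnat : ∀ t : Γ(Spec (CommRingCat.of k), ⊤),
      ιA ((Spec.map (CommRingCat.ofHom (algebraMap k A))).appTop.hom t) =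
        algebraMap k A (ιk t) := by
    intro t
    exact congr($(Scheme.ΓSpecIso_naturality (CommRingCat.ofHom (algebraMap k A))).hom t)
  obtain ⟨B₀, n, hsB, ⟨ψ⟩⟩ := hA (s.image ιA)
  have hsingle : ∀ j l : Fin n, (Pi.single j (1 : k) : Fin n → k) * Pi.single l 1 =
      if j = l then Pi.single j 1 else 0 := by
    intro j l
    ext m
    by_cases hjl : j = l
    · subst hjl
      by_cases hm : m = j <;> simp [hm]
    · by_cases hm : m = j
      · subst hm
        simp [hjl]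
      · simp [Pi.single_apply, hjl, hm]
  let E : Fin n → A := fun j => ((ψ.symm (Pi.single j 1) : B₀) : A)
  have hE : ∀ j l : Fin n, E j * E l = if j = l then E j else 0 := by
    intro j l
    have h1 : (ψ.symm (Pi.single j 1) : B₀) * ψ.symm (Pi.single l 1) =
        if j = l then ψ.symm (Pi.single j 1) else 0 := by
      rw [← map_mul, hsingle]
      split_ifs
      · rfl
      · exact map_zero _
    have h2 := congrArg (fun b : B₀ => (b : A)) h1
    simp only [MulMemClass.coe_mul] at h2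
    rw [show E j * E l = ((ψ.symm (Pi.single j 1) : B₀) : A) * ((ψ.symm (Pi.single l 1) : B₀) : A)
      from rfl, h2]
    split_ifs
    · rfl
    · rfl
  refine ⟨n, fun j => ιA.symm (E j), ?_, ?_, ?_⟩
  · intro j
    rw [← map_mul, hE, if_pos rfl]
  · intro j l hjl
    rw [← map_mul, hE, if_neg hjl, map_zero]
  · intro c hc
    have hcB : ιA c ∈ B₀ := hsB (Finset.mem_coe.mpr (Finset.mem_image_of_mem _ hc))
    refine ⟨fun j => ιk.symm (ψ ⟨ιA c, hcB⟩ j), ?_⟩
    apply ιA.injective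
    rw [map_sum]
    simp only [map_mul, hnat, RingEquiv.apply_symm_apply]
    have h1 : (⟨ιA c, hcB⟩ : B₀) = ∑ j, (ψ ⟨ιA c, hcB⟩ j) • ψ.symm (Pi.single j 1) := by
      apply ψ.injective
      rw [map_sum]
      simp only [map_smul, AlgEquiv.apply_symm_apply]
      ext l
      simp [Finset.sum_apply, Pi.single_apply]
    have h2 := congrArg (fun b : B₀ => (b : A)) h1
    simp only [AddSubmonoidClass.coe_finsetSum, Algebra.smul_def] at h2
    exact h2

theorem key {X S T P : Scheme.{u}} {pX : P ⟶ X} {pT : P ⟶ T} {iX : X ⟶ S} {t : T ⟶ S}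
    (H : IsPullback pX pT iX t) [IsAffine X] [IsAffine S] (hsplit : LocSplit iX.appTop.hom)
    (U : T.Opens) (hU : IsAffineOpen U) (h : Γ(P, pX ⁻¹ᵁ ⊤ ⊓ pT ⁻¹ᵁ U)) :
    ∃ (n : ℕ) (ε : Fin n → Γ(X, ⊤)) (d : Fin n → Γ(T, U)),
      ∀ q : P, q ∈ P.basicOpen h ↔
        ∃ j, pX q ∈ X.basicOpen (ε j) ∧ pT q ∈ T.basicOpen (d j) := by
  have hpo : IsPushout (iX.appLE ⊤ ⊤ le_top) (t.appLE ⊤ U le_top)
      (pX.appLE ⊤ (pX ⁻¹ᵁ ⊤ ⊓ pT ⁻¹ᵁ U) inf_le_left)
      (pT.appLE U (pX ⁻¹ᵁ ⊤ ⊓ pT ⁻¹ᵁ U) inf_le_right) :=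
    (isIso_pushoutSection_iff H (US := ⊤) (UT := U) (UX := ⊤) le_top le_top
      (UY := pX ⁻¹ᵁ ⊤ ⊓ pT ⁻¹ᵁ U) rfl).mp
      (isIso_pushoutSection_of_isAffineOpen H le_top le_top rfl (isAffineOpen_top S) hU
        (isAffineOpen_top X))
  rw [Groth.Agent.H68.ClopenIdem.appLE_top_top] at hpo
  obtain ⟨n, ε, d, hidem, horth, hh⟩ := normal_form hpo hsplit h
  refine ⟨n, ε, d, fun q => ?_⟩
  by_cases hq : q ∈ pX ⁻¹ᵁ ⊤ ⊓ pT ⁻¹ᵁ U
  · let 𝔮 : Ideal Γ(P, pX ⁻¹ᵁ ⊤ ⊓ pT ⁻¹ᵁ U) :=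
      Ideal.comap (P.presheaf.germ _ q hq).hom (IsLocalRing.maximalIdeal _)
    haveI : 𝔮.IsPrime := Ideal.comap_isPrime _ _
    have hmem : ∀ s : Γ(P, pX ⁻¹ᵁ ⊤ ⊓ pT ⁻¹ᵁ U), q ∈ P.basicOpen s ↔ s ∉ 𝔮 := by
      intro s
      rw [Scheme.mem_basicOpen _ _ q hq, Ideal.mem_comap, IsLocalRing.mem_maximalIdeal,
        mem_nonunits_iff, not_not]
    rw [hmem, hh, not_mem_prime_iff (fun j => (pX.appLE ⊤ _ inf_le_left).hom (ε j))
      (fun j => (pT.appLE U _ inf_le_right).hom (d j))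
      (fun j => by rw [← map_mul, hidem])
      (fun j l hjl => by rw [← map_mul, horth j l hjl, map_zero]) 𝔮]
    refine exists_congr fun j => and_congr ?_ ?_
    · rw [← hmem, Scheme.basicOpen_appLE]
      exact ⟨fun h => h.2, fun h => ⟨hq, h⟩⟩
    · rw [← hmem, Scheme.basicOpen_appLE]
      exact ⟨fun h => h.2, fun h => ⟨hq, h⟩⟩
  · constructor
    · intro hqh
      exact absurd (Scheme.basicOpen_le _ _ hqh) hq
    · rintro ⟨j, -, hj⟩
      have hjU : pT q ∈ U := T.basicOpen_le (d j) hj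
      exact absurd ⟨trivial, hjU⟩ hq

theorem main {Y S X : Scheme.{u}} (g : Y ⟶ S) (f : X ⟶ S) [IsAffine Y] [IsAffine S]
    [Subsingleton S] (hsplit : LocSplit g.appTop.hom) :
    IsHomeomorph (fun p : ↑(pullback g f) => (pullback.fst g f p, pullback.snd g f p)) := by
  classical
  have H : IsPullback (pullback.fst g f) (pullback.snd g f) g f := IsPullback.of_hasPullback g f
  haveI : IsAffineHom (pullback.snd g f) :=
    MorphismProperty.pullback_snd (P := @IsAffineHom) g f inferInstance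
  have hsurj : ∀ (a : Y) (x : X),
      ∃ q : ↑(pullback g f), pullback.fst g f q = a ∧ pullback.snd g f q = x := by
    intro a x
    exact Scheme.Pullback.exists_preimage_pullback a x (Subsingleton.elim _ _)
  -- local description of the topology
  have hloc : ∀ (q : ↑(pullback g f)) (O : (pullback g f).Opens), q ∈ O →
      ∃ (n : ℕ) (ε : Fin n → Γ(Y, ⊤)) (V : Fin n → X.Opens) (B : (pullback g f).Opens),
        q ∈ B ∧ B ≤ O ∧ ∀ q' : ↑(pullback g f), q' ∈ B ↔
          ∃ j, pullback.fst g f q' ∈ Y.basicOpen (ε j) ∧ pullback.snd g f q' ∈ V j := by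
    intro q O hqO
    obtain ⟨_, ⟨U, hU, rfl⟩, hxU, -⟩ := X.isBasis_affineOpens.exists_subset_of_mem_open
      (Set.mem_univ (pullback.snd g f q)) isOpen_univ
    have hUY : IsAffineOpen (pullback.fst g f ⁻¹ᵁ ⊤ ⊓ pullback.snd g f ⁻¹ᵁ U) := by
      have e : pullback.fst g f ⁻¹ᵁ ⊤ ⊓ pullback.snd g f ⁻¹ᵁ U = pullback.snd g f ⁻¹ᵁ U := by
        rw [Scheme.Hom.preimage_top, top_inf_eq]
      rw [e]
      exact hU.preimage _
    have hqUY : q ∈ pullback.fst g f ⁻¹ᵁ ⊤ ⊓ pullback.snd g f ⁻¹ᵁ U := ⟨trivial, hxU⟩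
    obtain ⟨h, hhO, hqh⟩ := hUY.exists_basicOpen_le (V := O) ⟨q, hqO⟩ hqUY
    obtain ⟨n, ε, d, hchar⟩ := key H hsplit U hU h
    exact ⟨n, ε, fun j => X.basicOpen (d j), (pullback g f).basicOpen h, hqh, hhO, hchar⟩
  refine ⟨?_, ?_, ?_⟩
  · exact (pullback.fst g f).continuous.prodMk (pullback.snd g f).continuous
  · intro O hO
    rw [isOpen_iff_forall_mem_open]
    rintro _ ⟨q, hqO, rfl⟩
    obtain ⟨n, ε, V, B, hqB, hBO, hchar⟩ := hloc q ⟨O, hO⟩ hqO
    obtain ⟨j, hj1, hj2⟩ := (hchar q).mp hqB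
    refine ⟨(Y.basicOpen (ε j) : Set Y) ×ˢ (V j : Set X), ?_, ?_, ?_⟩
    · rintro ⟨a, x⟩ ⟨ha, hx⟩
      obtain ⟨q', rfl, rfl⟩ := hsurj a x
      exact ⟨q', hBO ((hchar q').mpr ⟨j, ha, hx⟩), rfl⟩
    · exact (Y.basicOpen (ε j)).isOpen.prod (V j).isOpen
    · exact ⟨hj1, hj2⟩
  · constructor
    · intro q q' hqq'
      have h1 : pullback.fst g f q = pullback.fst g f q' := congrArg Prod.fst hqq'
      have h2 : pullback.snd g f q = pullback.snd g f q' := congrArg Prod.snd hqq'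
      have hstep : ∀ q q' : ↑(pullback g f), pullback.fst g f q = pullback.fst g f q' →
          pullback.snd g f q = pullback.snd g f q' → ∀ O : Set ↑(pullback g f), IsOpen O →
          q ∈ O → q' ∈ O := by
        intro q q' h1 h2 O hO hqO
        obtain ⟨n, ε, V, B, hqB, hBO, hchar⟩ := hloc q ⟨O, hO⟩ hqO
        obtain ⟨j, hj1, hj2⟩ := (hchar q).mp hqB
        exact hBO ((hchar q').mpr ⟨j, h1 ▸ hj1, h2 ▸ hj2⟩)
      refine (inseparable_iff_forall_isOpen.mpr fun O hO => ⟨?_, ?_⟩).eq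
      · exact hstep q q' h1 h2 O hO
      · exact hstep q' q h1.symm h2.symm O hO
    · rintro ⟨a, x⟩
      obtain ⟨q, h1, h2⟩ := hsurj a x
      exact ⟨q, Prod.ext h1 h2⟩


/-- Let k be a field and A a k-algebra such that every finite subset of A is contained in a k-subalgebra
isomorphic to a finite product of copies of k (that is, A is a directed colimit of finite products
of copies of k). Let X be a scheme over k. Then the map from the underlying space of Spec A x_k X to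
the product of the underlying spaces of Spec A and X, given by the two projections, is a
homeomorphism. -/
theorem result (k : Type u) [Field k] (A : Type u) [CommRing A] [Algebra k A] (hA : ∀ s : Finset A, ∃ (B : Subalgebra k A) (n : ℕ), (↑s : Set A) ⊆ (B : Set A) ∧ Nonempty (B ≃ₐ[k] (Fin n → k))) (X : Scheme.{u}) (f : X ⟶ Spec (CommRingCat.of k)) : IsHomeomorph (fun p : ↑(pullback (Spec.map (CommRingCat.ofHom (algebraMap k A))) f) => (pullback.fst (Spec.map (CommRingCat.ofHom (algebraMap k A))) f p, pullback.snd (Spec.map (CommRingCat.ofHom (algebraMap k A))) f p)) := by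
  haveI : Subsingleton ↥(Spec (CommRingCat.of k)) :=
    (inferInstance : Subsingleton (PrimeSpectrum k))
  exact main (Spec.map (CommRingCat.ofHom (algebraMap k A))) f (locSplit_appTop k A hA)

end Groth.Agent.S7460
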