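import Groth.Statements.S7461
import Groth.Agent.H37.GrpdLib

set_option autoImplicit false
universe u
open CategoryTheory CategoryTheory.Limits AlgebraicGeometry
open Grpd

namespace Groth.Agent.S7461

/-- Let (U, R, s, t, c) be a groupoid scheme over S with s and t finite locally free. Then U is a
disjoint union of R-invariant open subschemes U_r, r = 1, 2, 3, ..., such that s and t restricted
over U_r are finite locally free of rank r. Here the decomposition is indexed by all natural numbers
with U_0 empty, R-invariance of U_r means s^{-1}(U_r) = t^{-1}(U_r), and 'finite locally free of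
rank r' means finite, flat, locally of finite presentation with rank function constant equal to r.
(A groupoid scheme carries U, R, s, t, c, e, i over S with the groupoid axioms on T-points; c is
defined on the fibre product of s and t and sends a pair (a, b) with s(a) = t(b) to a composed with
b.) -/
theorem result (S : Scheme.{u}) (G : Grpd.GroupoidScheme S) [IsFinite G.s] [Flat G.s] [LocallyOfFinitePresentation G.s] [IsFinite G.t] [Flat G.t] [LocallyOfFinitePresentation G.t] : ∃ V : ℕ → G.U.Opens, V 0 = ⊥ ∧ (∀ r r', r ≠ r' → Disjoint (V r) (V r')) ∧ (⨆ r, V r) = ⊤ ∧ ∀ r, G.s ⁻¹ᵁ V r = G.t ⁻¹ᵁ V r ∧ Mor2.IsFinLocFreeOfDeg r (G.s ∣_ V r) ∧ Mor2.IsFinLocFreeOfDeg r (G.t ∣_ V r) := by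
  have hlc : IsLocallyConstant G.s.finrank := Scheme.Hom.isLocallyConstant_finrank G.s
  let V : ℕ → G.U.Opens := fun r => ⟨G.s.finrank ⁻¹' {r}, hlc.isOpen_fiber r⟩
  have hmem : ∀ r (u : G.U), u ∈ V r ↔ G.s.finrank u = r := fun r u => Iff.rfl
  have hts : G.t.finrank = G.s.finrank := Groth.Agent.H37.GrpdLib.finrank_t_eq G
  refine ⟨V, ?_, ?_, ?_, ?_⟩
  · haveI : Surjective G.s := Groth.Agent.H37.GrpdLib.surjective_s G
    have h1 : 1 ≤ G.s.finrank := (Scheme.Hom.one_le_finrank_iff_surjective G.s).mpr inferInstance
    rw [eq_bot_iff]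
    intro u hu
    have h1u : 1 ≤ G.s.finrank u := h1 u
    have h0 : G.s.finrank u = 0 := (hmem 0 u).mp hu
    omega
  · intro r r' hne W h1 h2 u hu
    have e1 : G.s.finrank u = r := h1 hu
    have e2 : G.s.finrank u = r' := h2 hu
    exact (hne (e1.symm.trans e2)).elim
  · rw [eq_top_iff]
    intro u _
    exact TopologicalSpace.Opens.mem_iSup.mpr ⟨G.s.finrank u, rfl⟩
  · intro r
    refine ⟨?_, ⟨⟨IsZariskiLocalAtTarget.restrict (P := @IsFinite) inferInstance (V r),
      IsZariskiLocalAtTarget.restrict (P := @Flat) inferInstance (V r),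
      IsZariskiLocalAtTarget.restrict (P := @LocallyOfFinitePresentation) inferInstance (V r)⟩,
      fun y => ?_⟩, ⟨⟨IsZariskiLocalAtTarget.restrict (P := @IsFinite) inferInstance (V r),
      IsZariskiLocalAtTarget.restrict (P := @Flat) inferInstance (V r),
      IsZariskiLocalAtTarget.restrict (P := @LocallyOfFinitePresentation) inferInstance (V r)⟩,
      fun y => ?_⟩⟩
    · apply TopologicalSpace.Opens.ext
      ext ρ
      show G.s.finrank (G.s ρ) = r ↔ G.s.finrank (G.t ρ) = r
      rw [Groth.Agent.H37.GrpdLib.finrank_s_t G ρ]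
    · have h := Scheme.Hom.finrank_of_isPullback _ _ _ _
        (isPullback_morphismRestrict G.s (V r)).flip y
      rw [h]
      exact (hmem r _).mp y.2
    · have h := Scheme.Hom.finrank_of_isPullback _ _ _ _
        (isPullback_morphismRestrict G.t (V r)).flip y
      rw [h, hts]
      exact (hmem r _).mp y.2

end Groth.Agent.S7461
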