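import Groth.Statements.S7463
import Groth.Agent.S7457
import Groth.Agent.H37.FieldBase

set_option autoImplicit false
universe u
open CategoryTheory CategoryTheory.Limits AlgebraicGeometry
open Grpd

namespace Groth.Agent.S7463

/-- Consider a groupoid scheme (U, R, s, t, c) over S in which U is the spectrum of a field, and write Z
for the closure of the image of the morphism j = (t, s) : R -> U x_S U. Then, set-theoretically,
pr_02 carries Z x_(pr_1,U,pr_0) Z into Z: given the morphism pr_02 from (U x_S U) x_(pr_1,U,pr_0) (U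
x_S U) to U x_S U, whose components are pr_0 of the first factor and pr_1 of the second, any point
both of whose projections land in Z is mapped to a point of Z. (A groupoid scheme consists of U, R,
s, t, c, e, i over S satisfying the groupoid axioms on T-points; c is defined on the fibre product
of s and t and takes a pair (a, b) with s(a) = t(b) to the composite of a with b.) -/
theorem result (S : Scheme.{u}) (G : Grpd.GroupoidScheme S) (k : Type u) [Field k] (eU : G.U ≅ Spec (CommRingCat.of k)) (pr02 : pullback (pullback.snd G.pU G.pU) (pullback.fst G.pU G.pU) ⟶ pullback G.pU G.pU) (h0 : pr02 ≫ pullback.fst G.pU G.pU = pullback.fst (pullback.snd G.pU G.pU) (pullback.fst G.pU G.pU) ≫ pullback.fst G.pU G.pU) (h1 : pr02 ≫ pullback.snd G.pU G.pU = pullback.snd (pullback.snd G.pU G.pU) (pullback.fst G.pU G.pU) ≫ pullback.snd G.pU G.pU) (p : ↑(pullback (pullback.snd G.pU G.pU) (pullback.fst G.pU G.pU))) (h₁ : pullback.fst (pullback.snd G.pU G.pU)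 (pullback.fst G.pU G.pU) p ∈ closure (Set.range ⇑G.j)) (h₂ : pullback.snd (pullback.snd G.pU G.pU) (pullback.fst G.pU G.pU) p ∈ closure (Set.range ⇑G.j)) : pr02 p ∈ closure (Set.range ⇑G.j) := by
  have hp := Groth.Agent.H37.mem_closure_inter_of_field_base
    (IsPullback.of_hasPullback (pullback.snd G.pU G.pU) (pullback.fst G.pU G.pU)) k eU
    (Set.range ⇑G.j) (Set.range ⇑G.j) p h₁ h₂
  have hjt : G.j ≫ pullback.fst G.pU G.pU = G.t := pullback.lift_fst _ _ _
  have hjs : G.j ≫ pullback.snd G.pU G.pU = G.s := pullback.lift_snd _ _ _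
  obtain ⟨fstP, hfstP⟩ : ∃ fstP, fstP =
    pullback.fst (pullback.snd G.pU G.pU) (pullback.fst G.pU G.pU) := ⟨_, rfl⟩
  obtain ⟨sndP, hsndP⟩ : ∃ sndP, sndP =
    pullback.snd (pullback.snd G.pU G.pU) (pullback.fst G.pU G.pU) := ⟨_, rfl⟩
  have hcond : fstP ≫ pullback.snd G.pU G.pU = sndP ≫ pullback.fst G.pU G.pU := by
    rw [hfstP, hsndP]
    exact pullback.condition
  rw [← hfstP] at h0 hp
  rw [← hsndP] at h1 hp
  have hsub : ⇑pr02 '' (⇑fstP ⁻¹' Set.range ⇑G.j ∩ ⇑sndP ⁻¹' Set.range ⇑G.j) ⊆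
      Set.range ⇑G.j := by
    rintro _ ⟨q, ⟨⟨x1, hx1⟩, ⟨x2, hx2⟩⟩, rfl⟩
    obtain ⟨T1, a1, w1, e1, hs1⟩ := Groth.Agent.H37.exists_bc G.j fstP
    obtain ⟨τ1, hτ1a, hτ1b⟩ := hs1 x1 q hx1
    obtain ⟨T2, a2, w2, e2, hs2⟩ := Groth.Agent.H37.exists_bc G.j (w1 ≫ sndP)
    obtain ⟨τ2, hτ2a, hτ2b⟩ := hs2 x2 τ1 (by rw [Scheme.Hom.comp_apply, hτ1b]; exact hx2)
    have hαj : (w2 ≫ a1) ≫ G.j = (w2 ≫ w1) ≫ fstP := by
      simp only [Category.assoc, e1]
    have hβj : a2 ≫ G.j = (w2 ≫ w1) ≫ sndP := by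
      rw [e2]
      simp only [Category.assoc]
    have hst : (w2 ≫ a1) ≫ G.s = a2 ≫ G.t := by
      calc (w2 ≫ a1) ≫ G.s = ((w2 ≫ a1) ≫ G.j) ≫ pullback.snd G.pU G.pU := by
            simp only [Category.assoc, hjs]
        _ = ((w2 ≫ w1) ≫ fstP) ≫ pullback.snd G.pU G.pU := by rw [hαj]
        _ = ((w2 ≫ w1) ≫ sndP) ≫ pullback.fst G.pU G.pU := by
            simp only [Category.assoc, hcond]
        _ = (a2 ≫ G.j) ≫ pullback.fst G.pU G.pU := by rw [hβj]
        _ = a2 ≫ G.t := by simp only [Category.assoc, hjt]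
    have hγ : Groth.Agent.S7457.cmp G (w2 ≫ a1) a2 hst ≫ G.j = (w2 ≫ w1) ≫ pr02 := by
      apply pullback.hom_ext
      · calc (Groth.Agent.S7457.cmp G (w2 ≫ a1) a2 hst ≫ G.j) ≫ pullback.fst G.pU G.pU
            = Groth.Agent.S7457.cmp G (w2 ≫ a1) a2 hst ≫ G.t := by
              simp only [Category.assoc, hjt]
          _ = (w2 ≫ a1) ≫ G.t := Groth.Agent.S7457.cmp_t G _ _ _
          _ = ((w2 ≫ a1) ≫ G.j) ≫ pullback.fst G.pU G.pU := by
              simp only [Category.assoc, hjt]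
          _ = ((w2 ≫ w1) ≫ fstP) ≫ pullback.fst G.pU G.pU := by rw [hαj]
          _ = ((w2 ≫ w1) ≫ pr02) ≫ pullback.fst G.pU G.pU := by
              simp only [Category.assoc, h0]
      · calc (Groth.Agent.S7457.cmp G (w2 ≫ a1) a2 hst ≫ G.j) ≫ pullback.snd G.pU G.pU
            = Groth.Agent.S7457.cmp G (w2 ≫ a1) a2 hst ≫ G.s := by
              simp only [Category.assoc, hjs]
          _ = a2 ≫ G.s := Groth.Agent.S7457.cmp_s G _ _ _
          _ = (a2 ≫ G.j) ≫ pullback.snd G.pU G.pU := by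
              simp only [Category.assoc, hjs]
          _ = ((w2 ≫ w1) ≫ sndP) ≫ pullback.snd G.pU G.pU := by rw [hβj]
          _ = ((w2 ≫ w1) ≫ pr02) ≫ pullback.snd G.pU G.pU := by
              simp only [Category.assoc, h1]
    refine ⟨(Groth.Agent.S7457.cmp G (w2 ≫ a1) a2 hst) τ2, ?_⟩
    rw [← Scheme.Hom.comp_apply, hγ, Scheme.Hom.comp_apply, Scheme.Hom.comp_apply, hτ2b, hτ1b]
  exact closure_mono hsub (image_closure_subset_closure_image pr02.continuous ⟨p, hp, rfl⟩)

end Groth.Agent.S7463
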