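import Groth.Statements.S7464
import Groth.Agent.S7457
import Mathlib

set_option autoImplicit false
universe u
open CategoryTheory CategoryTheory.Limits AlgebraicGeometry
open Grpd

namespace Groth.Agent.S7464

/-- Let (U, R, s, t, c) be a groupoid scheme over S with s and t finite, and let u, u' be distinct
points of U in the same orbit, say u = s(r) and u' = t(r). Then u' does not lie in the closure of u.
(The published statement calls u, u' points of R; this row takes them to be points of U, as the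
orbit condition and the proof require.) (A groupoid scheme carries U, R, s, t, c, e, i over S with
the groupoid axioms on T-points; c is defined on the fibre product of s and t and sends a pair (a,
b) with s(a) = t(b) to a composed with b.) -/
theorem result (S : Scheme.{u}) (G : Grpd.GroupoidScheme S) [IsFinite G.s] [IsFinite G.t] (r : G.R) (hne : G.s r ≠ G.t r) : ¬ (G.s r ⤳ G.t r) := by
  intro hsp
  have hcs : G.c ≫ G.s = pullback.snd G.s G.t ≫ G.s := by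
    rw [Groth.Agent.S7457.c_eq G]
    exact Groth.Agent.S7457.cmp_s G _ _ _
  have hct : G.c ≫ G.t = pullback.fst G.s G.t ≫ G.t := by
    rw [Groth.Agent.S7457.c_eq G]
    exact Groth.Agent.S7457.cmp_t G _ _ _
  have comp : ∀ ρ1 ρ2 : G.R, G.s ρ2 = G.t ρ1 → ∃ ρ3, G.s ρ3 = G.s ρ1 ∧ G.t ρ3 = G.t ρ2 := by
    intro ρ1 ρ2 h
    obtain ⟨q, hq1, hq2⟩ := Scheme.Pullback.exists_preimage_pullback (f := G.s) (g := G.t)
      ρ2 ρ1 h
    refine ⟨G.c q, ?_, ?_⟩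
    · rw [← Scheme.Hom.comp_apply, hcs, Scheme.Hom.comp_apply, hq2]
    · rw [← Scheme.Hom.comp_apply, hct, Scheme.Hom.comp_apply, hq1]
  have inv : ∀ ρ : G.R, G.s (G.i ρ) = G.t ρ ∧ G.t (G.i ρ) = G.s ρ := fun ρ =>
    ⟨by rw [← Scheme.Hom.comp_apply, G.i_s], by rw [← Scheme.Hom.comp_apply, G.i_t]⟩
  obtain ⟨u, hu⟩ : ∃ u, u = G.s r := ⟨_, rfl⟩
  rw [← hu] at hsp hne
  obtain ⟨O, hO⟩ : ∃ O : Set G.U, O = ⇑G.t '' (⇑G.s ⁻¹' {u}) := ⟨_, rfl⟩
  have hOfin : O.Finite := by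
    rw [hO]
    exact (G.s.finite_preimage_singleton u).image _
  have hrel : ∀ a ∈ O, ∀ b ∈ O, ∃ ρ, G.s ρ = a ∧ G.t ρ = b := by
    intro a ha b hb
    rw [hO] at ha hb
    obtain ⟨α, hα, rfl⟩ := ha
    obtain ⟨β, hβ, rfl⟩ := hb
    have hα' : G.s α = u := hα
    have hβ' : G.s β = u := hβ
    obtain ⟨ρ, h1, h2⟩ := comp (G.i α) β (by rw [(inv α).2, hα', hβ'])
    exact ⟨ρ, h1.trans (inv α).1, h2⟩
  have hO_closed : ∀ b ∈ O, ∀ ρ, G.s ρ = b → G.t ρ ∈ O := by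
    intro b hb ρ hρ
    rw [hO] at hb ⊢
    obtain ⟨β, hβ, rfl⟩ := hb
    have hβ' : G.s β = u := hβ
    obtain ⟨ρ3, h1, h2⟩ := comp β ρ hρ
    exact ⟨ρ3, h1.trans hβ', h2⟩
  have huO : u ∈ O := by
    rw [hO]
    refine ⟨G.e u, ?_, ?_⟩
    · show G.s (G.e u) = u
      rw [← Scheme.Hom.comp_apply, G.e_s]
      rfl
    · rw [← Scheme.Hom.comp_apply, G.e_t]
      rfl
  have hu'O : G.t r ∈ O := by
    rw [hO]
    exact ⟨r, hu.symm, rfl⟩
  obtain ⟨B, hB⟩ : ∃ B : Set G.U, B = {b | b ∈ O ∧ ∃ a ∈ O, a ⤳ b ∧ a ≠ b} := ⟨_, rfl⟩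
  have hBmem : ∀ b, b ∈ B ↔ (b ∈ O ∧ ∃ a ∈ O, a ⤳ b ∧ a ≠ b) := by
    intro b
    rw [hB]
    rfl
  have hBfin : B.Finite := hOfin.subset (fun b hb => ((hBmem b).mp hb).1)
  have hBne : B.Nonempty := ⟨G.t r, (hBmem _).mpr ⟨hu'O, u, huO, hsp, hne⟩⟩
  obtain ⟨b, hbB, hmin⟩ :=
    hBfin.exists_minimalFor (fun b : G.U => closure ({b} : Set G.U)) B hBne
  obtain ⟨hbO, a, haO, hab, hane⟩ := (hBmem b).mp hbB
  obtain ⟨ρ1, hρ1s, hρ1t⟩ := hrel a haO b hbO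
  have hspec : SpecializingMap ⇑G.s := G.s.isClosedMap.specializingMap
  obtain ⟨ρ2, hρ12, hρ2s⟩ := hspec (show G.s ρ1 ⤳ b by rw [hρ1s]; exact hab)
  have hρ12' : ρ1 ⤳ ρ2 := hρ12
  have hb''O : G.t ρ2 ∈ O := hO_closed b hbO ρ2 hρ2s
  have hbb'' : b ⤳ G.t ρ2 := by
    rw [← hρ1t]
    exact hρ12'.map G.t.continuous
  have hneq : b ≠ G.t ρ2 := by
    intro heq
    have h12 : ρ1 = ρ2 :=
      (G.t.isDiscrete_preimage_singleton b).eq_of_specializes hρ12' hρ1t heq.symm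
    apply hane
    rw [← hρ1s, h12, hρ2s]
  have hB'' : G.t ρ2 ∈ B := (hBmem _).mpr ⟨hb''O, b, hbO, hbb'', hneq⟩
  have h1 := hmin hB'' (specializes_iff_closure_subset.mp hbb'')
  have h2 : G.t ρ2 ⤳ b := specializes_iff_closure_subset.mpr h1
  exact hneq (hbb''.antisymm h2).eq

end Groth.Agent.S7464
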