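import Groth.Statements.S7474
import Groth.Agent.H37.HTopSheaf

set_option autoImplicit false
universe w u
open HTop

namespace Groth.Agent.S7474

open CategoryTheory CategoryTheory.Limits AlgebraicGeometry in
/-- A presheaf F of sets on the category of all schemes has the sheaf property for every V covering
family exactly when F is a sheaf for the Zariski topology and has the sheaf property for each
standard V covering. -/
theorem result (F : Scheme.{u}ᵒᵖ ⥤ Type w) : HTop.IsVSheaf F ↔ (Presieve.IsSheaf Scheme.zariskiTopology F ∧ ∀ (T : Scheme.{u}) (E : PreZeroHypercover.{u} T), HTop.IsStandardV E → Presieve.IsSheafFor F E.presieve₀) := by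
  constructor
  · intro h
    exact ⟨Groth.Agent.H37.HTopSheaf.isSheaf_zariski_of_isVSheaf h, fun T E hE =>
      h _ ((HTop.presieve₀_mem_vPrecoverage_iff E).mpr
        (Groth.Agent.H37.HTopSheaf.isVCover_of_standardV E hE))⟩
  · rintro ⟨hZ, hS⟩
    refine Groth.Agent.H37.HTopSheaf.isVSheaf_of_zariski_of_standard hZ (fun T G hG => ?_)
    have := hS T (G.reindex (Equiv.ulift.{u, 0}))
      (Groth.Agent.H37.HTopSheaf.standardV_reindex G _ hG)
    rwa [PreZeroHypercover.presieve₀_reindex] at this

end Groth.Agent.S7474
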