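import Groth.Statements.S7475
import Groth.Agent.H37.HTopSheaf

set_option autoImplicit false
universe w u
open HTop

namespace Groth.Agent.S7475

open CategoryTheory CategoryTheory.Limits AlgebraicGeometry in
/-- Variant with a single arrow: a presheaf of sets on all schemes has the sheaf property for every V
covering family exactly when it is a Zariski sheaf and has the sheaf property for every morphism V
-> U of affine schemes that on its own forms a standard V covering. -/
theorem result (F : Scheme.{u}ᵒᵖ ⥤ Type w) : HTop.IsVSheaf F ↔ (Presieve.IsSheaf Scheme.zariskiTopology F ∧ ∀ (U V : Scheme.{u}) (f : V ⟶ U), HTop.IsStandardV (PreZeroHypercover.singleton f) → Presieve.IsSheafFor F (Presieve.singleton f)) := by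
  constructor
  · intro h
    refine ⟨Groth.Agent.H37.HTopSheaf.isSheaf_zariski_of_isVSheaf h, fun U V f hf => ?_⟩
    have := h _ ((HTop.presieve₀_mem_vPrecoverage_iff _).mpr
      (Groth.Agent.H37.HTopSheaf.isVCover_of_standardV _ hf))
    rwa [PreZeroHypercover.presieve₀_singleton] at this
  · rintro ⟨hZ, h1⟩
    refine Groth.Agent.H37.HTopSheaf.isVSheaf_of_zariski_of_standard hZ (fun T G hG => ?_)
    haveI := hG.finite_index
    haveI : ∀ j, IsAffine (G.X j) := hG.isAffine_obj
    have hstd : HTop.IsStandardV (PreZeroHypercover.singleton (Sigma.desc G.f)) := by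
      refine ⟨hG.isAffine, ?_, ?_, ?_⟩
      · show Finite PUnit
        infer_instance
      · intro _
        show IsAffine (∐ G.X)
        infer_instance
      · intro V _ _ g
        obtain ⟨W, hWd, hWv, φ, hφ, j, g', hg'⟩ := hG.lift V g
        refine ⟨W, hWd, hWv, φ, hφ, PUnit.unit, g' ≫ Sigma.ι G.X j, ?_⟩
        show (g' ≫ Sigma.ι G.X j) ≫ Sigma.desc G.f = _
        rw [Category.assoc, Sigma.ι_desc, hg']
    have hp := h1 _ _ (Sigma.desc G.f) hstd
    have hoi : ∀ i, IsOpenImmersion (Sigma.ι G.X i) :=
      fun i => (AlgebraicGeometry.sigmaOpenCover G.X).map_prop i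
    have hcov : ∀ y : (∐ G.X : Scheme.{u}), ∃ i, y ∈ Set.range (Sigma.ι G.X i).base := by
      intro y
      obtain ⟨i, z, hz⟩ := (AlgebraicGeometry.sigmaOpenCover G.X).exists_eq y
      exact ⟨i, z, hz⟩
    have := Groth.Agent.H37.HTopSheaf.isSheafFor_comp hZ (Sigma.desc G.f) G.X (Sigma.ι G.X)
      hoi hcov hp
    have e : (fun i => Sigma.ι G.X i ≫ Sigma.desc G.f) = G.f :=
      funext (fun i => Sigma.ι_desc _ _)
    rw [e] at this
    exact this

end Groth.Agent.S7475
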