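import Groth.Statements.S7478
import Mathlib.AlgebraicGeometry.Pullbacks
import Mathlib.AlgebraicGeometry.Morphisms.Proper
-- import your own Groth.Agent.* helpers here

set_option autoImplicit false
universe w u
open CategoryTheory CategoryTheory.Limits AlgebraicGeometry
open HTop

namespace Groth.Agent.S7478

/-- The base change of a standard ph covering along a morphism of affine schemes T' -> T is a standard
ph covering of T'. -/
theorem result {T T' : Scheme.{u}} [IsAffine T'] (g : T' ⟶ T) (E : PreZeroHypercover.{w} T) (hE : HTop.IsStandardPh E) : HTop.IsStandardPh (E.pullback₁ g) := by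
  have hT := hE.isAffine
  obtain ⟨U, f, ι, hprop, hsurj, hoi, hι, hcov⟩ := hE.exists_proper
  refine ⟨inferInstance, hE.finite_index, fun j => ?_, ?_⟩
  · have := hE.isAffine_obj j
    show IsAffine (pullback g (E.f j))
    infer_instance
  · let ι' : ∀ j, pullback g (E.f j) ⟶ pullback g f := fun j =>
      pullback.lift (pullback.fst _ _) (pullback.snd _ _ ≫ ι j)
        (by rw [Category.assoc, hι j, pullback.condition])
    have hι'fst : ∀ j, ι' j ≫ pullback.fst g f = pullback.fst g (E.f j) :=
      fun j => pullback.lift_fst _ _ _
    have hι'snd : ∀ j, ι' j ≫ pullback.snd g f = pullback.snd g (E.f j) ≫ ι j :=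
      fun j => pullback.lift_snd _ _ _
    -- the left square is a pullback
    have sq : ∀ j, IsPullback (ι' j) (pullback.snd g (E.f j)) (pullback.snd g f) (ι j) := by
      intro j
      refine IsPullback.of_right (h₁₂ := pullback.fst g f) (h₂₂ := f) (v₁₃ := g) ?_ (hι'snd j)
        (IsPullback.of_hasPullback g f)
      rw [hι'fst j, hι j]
      exact IsPullback.of_hasPullback g (E.f j)
    refine ⟨pullback g f, pullback.fst g f, ι', ?_, ?_, ?_, ?_, ?_⟩
    · exact MorphismProperty.pullback_fst (P := @IsProper) g f hprop
    · exact MorphismProperty.pullback_fst (P := @Surjective) g f hsurj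
    · intro j
      have := hoi j
      exact MorphismProperty.of_isPullback (P := @IsOpenImmersion) (sq j).flip (hoi j)
    · intro j
      exact hι'fst j
    · intro x
      obtain ⟨j, y, hy⟩ := hcov (pullback.snd g f x)
      refine ⟨j, ?_⟩
      have := hoi j
      -- range of ι' j is the preimage of the range of ι j
      have hrange : Set.range (ι' j) = Set.range (pullback.snd (ι j) (pullback.snd g f)) := by
        have e : (sq j).flip.isoPullback.hom ≫ pullback.snd (ι j) (pullback.snd g f) = ι' j :=
          (sq j).flip.isoPullback_hom_snd
        rw [← e, Scheme.Hom.comp_base, TopCat.coe_comp, Set.range_comp,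
          Set.range_eq_univ.mpr ((sq j).flip.isoPullback.hom.surjective), Set.image_univ]
      show x ∈ Set.range (ι' j)
      rw [hrange, IsOpenImmersion.range_pullbackSnd]
      exact ⟨y, hy⟩

end Groth.Agent.S7478
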