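import Groth.Statements.S7488
import Groth.Agent.S7490
import Groth.Agent.H51.QuotGen
import Groth.Agent.H50.Fppf
import Groth.Agent.H49.FinGrpdIso

set_option autoImplicit false
universe u
open CategoryTheory CategoryTheory.Limits AlgebraicGeometry
open Grpd

namespace Groth.Agent.S7488


/-- Let (U, R, s, t, c) be a groupoid scheme over S with U and R affine, s and t finite locally free,
and j = (t, s) : R -> U x_S U a monomorphism. Let C be the ring of R-invariant functions on U and M
= Spec C. Then the structure morphism U -> S factors uniquely through U -> M, and for the resulting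
structure of scheme over S on M, the morphism U -> M represents the quotient sheaf U/R in the fppf
topology: it coequalizes s and t and the induced map from the coequalizer of h_R => h_U (sheaves of
sets on the big fppf site of S) to h_M is an isomorphism. (The published statement also asserts that
U -> M is finite locally free and that R = U x_M U; this row states only the quotient-sheaf clause.)
(A groupoid scheme carries U, R, s, t, c, e, i over S with the groupoid axioms on T-points; c is
defined on the fibre product of s and t and sends a pair (a, b) with s(a) = t(b) to a composed with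
b.) -/
theorem result (S : Scheme.{u}) (G : Grpd.GroupoidScheme S) [IsAffine G.U] [IsAffine G.R] [IsFinite G.s] [Flat G.s] [LocallyOfFinitePresentation G.s] [IsFinite G.t] [Flat G.t] [LocallyOfFinitePresentation G.t] [Mono G.j] : ∃! m : Spec (CommRingCat.of G.invariants) ⟶ S, ∃ h : G.toQuot ≫ m = G.pU, QuotSh.IsQuotient Scheme.fppfPrecoverage (Over.homMk G.s G.s_over : Over.mk G.pR ⟶ Over.mk G.pU) (Over.homMk G.t G.t_over : Over.mk G.pR ⟶ Over.mk G.pU) (Over.homMk G.toQuot h : Over.mk G.pU ⟶ Over.mk m) := by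
  obtain ⟨hfin, hflat, hlfp⟩ := Groth.Agent.H49.FinGrpdFlat.toQuot_props S G
  haveI hsurj : Surjective G.toQuot := ⟨Groth.Agent.H49.FinGrpdSch.toQuot_surjective S G⟩
  haveI hθ := Groth.Agent.H49.FinGrpdIso.isIso_θ S G
  haveI : EffectiveEpi G.toQuot := inferInstance
  have hdesc : ∀ {Z : Scheme.{u}} (g₁ g₂ : Z ⟶ G.U), g₁ ≫ G.toQuot = g₂ ≫ G.toQuot →
      g₁ ≫ G.pU = g₂ ≫ G.pU := by
    intro Z g₁ g₂ h
    have h1 : (pullback.lift g₁ g₂ h ≫ inv (Groth.Agent.H49.FinGrpdIso.θ S G)) ≫ G.t = g₁ := by
      rw [← Groth.Agent.H49.FinGrpdIso.θ_fst S G, Category.assoc, IsIso.inv_hom_id_assoc,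
        pullback.lift_fst]
    have h2 : (pullback.lift g₁ g₂ h ≫ inv (Groth.Agent.H49.FinGrpdIso.θ S G)) ≫ G.s = g₂ := by
      rw [← Groth.Agent.H49.FinGrpdIso.θ_snd S G, Category.assoc, IsIso.inv_hom_id_assoc,
        pullback.lift_snd]
    calc g₁ ≫ G.pU = ((pullback.lift g₁ g₂ h ≫ inv (Groth.Agent.H49.FinGrpdIso.θ S G)) ≫ G.t) ≫ G.pU := by
          rw [h1]
      _ = ((pullback.lift g₁ g₂ h ≫ inv (Groth.Agent.H49.FinGrpdIso.θ S G)) ≫ G.s) ≫ G.pU := by
          rw [Category.assoc _ G.t, Category.assoc _ G.s, G.t_over, G.s_over]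
      _ = g₂ ≫ G.pU := by rw [h2]
  have hm : G.toQuot ≫ EffectiveEpi.desc G.toQuot G.pU hdesc = G.pU := EffectiveEpi.fac _ _ _
  refine ⟨EffectiveEpi.desc G.toQuot G.pU hdesc, ⟨hm, ?_⟩, ?_⟩
  · have w : (Over.homMk G.s G.s_over : Over.mk G.pR ⟶ Over.mk G.pU) ≫
        (Over.homMk G.toQuot hm : Over.mk G.pU ⟶ Over.mk (EffectiveEpi.desc G.toQuot G.pU hdesc)) =
        (Over.homMk G.t G.t_over : Over.mk G.pR ⟶ Over.mk G.pU) ≫
        (Over.homMk G.toQuot hm : Over.mk G.pU ⟶ Over.mk (EffectiveEpi.desc G.toQuot G.pU hdesc)) := by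
      ext
      exact Groth.Agent.H49.FinGrpdSch.toQuot_s_eq_t S G
    have w' : (Over.homMk G.t G.t_over : Over.mk G.pR ⟶ Over.mk G.pU).left ≫
        (Over.homMk G.toQuot hm :
          Over.mk G.pU ⟶ Over.mk (EffectiveEpi.desc G.toQuot G.pU hdesc)).left =
        (Over.homMk G.s G.s_over : Over.mk G.pR ⟶ Over.mk G.pU).left ≫
        (Over.homMk G.toQuot hm :
          Over.mk G.pU ⟶ Over.mk (EffectiveEpi.desc G.toQuot G.pU hdesc)).left :=
      (Groth.Agent.H49.FinGrpdSch.toQuot_s_eq_t S G).symm
    refine Groth.Agent.S7490.result Scheme.fppfPrecoverage _ _ _ w w' ?_ ?_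
    · apply Groth.Agent.H51.QuotGen.epi_repMap_of_local_lift
      intro T a
      have sqO := IsPullback.of_hasPullback
        (Over.homMk G.toQuot hm :
          Over.mk G.pU ⟶ Over.mk (EffectiveEpi.desc G.toQuot G.pU hdesc)) a
      have sqS := sqO.map (Over.forget S)
      have h1 : Flat (pullback.snd (Over.homMk G.toQuot hm :
          Over.mk G.pU ⟶ Over.mk (EffectiveEpi.desc G.toQuot G.pU hdesc)) a).left :=
        MorphismProperty.of_isPullback (P := @Flat) sqS hflat
      have h2 : LocallyOfFinitePresentation (pullback.snd (Over.homMk G.toQuot hm :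
          Over.mk G.pU ⟶ Over.mk (EffectiveEpi.desc G.toQuot G.pU hdesc)) a).left :=
        MorphismProperty.of_isPullback (P := @LocallyOfFinitePresentation) sqS hlfp
      have h3 : Surjective (pullback.snd (Over.homMk G.toQuot hm :
          Over.mk G.pU ⟶ Over.mk (EffectiveEpi.desc G.toQuot G.pU hdesc)) a).left :=
        MorphismProperty.of_isPullback (P := @Surjective) sqS hsurj
      refine ⟨Sieve.generate (Presieve.singleton (pullback.snd (Over.homMk G.toQuot hm :
          Over.mk G.pU ⟶ Over.mk (EffectiveEpi.desc G.toQuot G.pU hdesc)) a)),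
        Groth.Agent.H50.mem_J_of_fppf_family (fun _ : Unit => pullback _ a)
          (fun _ => pullback.snd _ a) (fun τ => ?_) (fun _ => h1) (fun _ => h2) _
          (fun _ => Sieve.le_generate _ _ _ (Presieve.singleton.mk)), ?_⟩
      · obtain ⟨y, hy⟩ := h3.surj τ
        exact ⟨(), y, hy⟩
      · rintro T' f ⟨Z, h, g, ⟨⟩, rfl⟩
        refine ⟨h ≫ pullback.fst _ a, ?_⟩
        rw [Category.assoc, Category.assoc, sqO.w]
    · have key : ∀ (pf : pullback.lift G.t G.s (Groth.Agent.H49.FinGrpdSch.toQuot_s_eq_t S G).symm ≫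
          (Over.mk (pullback.fst G.toQuot G.toQuot ≫ G.pU)).hom = (Over.mk G.pR).hom),
          Epi (QuotSh.repMap Scheme.fppfPrecoverage
            (Over.homMk (pullback.lift G.t G.s (Groth.Agent.H49.FinGrpdSch.toQuot_s_eq_t S G).symm) pf :
              Over.mk G.pR ⟶ Over.mk (pullback.fst G.toQuot G.toQuot ≫ G.pU))) := by
        intro pf
        haveI : IsIso ((Over.forget S).map
            (Over.homMk (pullback.lift G.t G.s (Groth.Agent.H49.FinGrpdSch.toQuot_s_eq_t S G).symm) pf :
              Over.mk G.pR ⟶ Over.mk (pullback.fst G.toQuot G.toQuot ≫ G.pU))) := hθ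
        haveI : IsIso (Over.homMk (pullback.lift G.t G.s
            (Groth.Agent.H49.FinGrpdSch.toQuot_s_eq_t S G).symm) pf :
              Over.mk G.pR ⟶ Over.mk (pullback.fst G.toQuot G.toQuot ≫ G.pU)) :=
          isIso_of_reflects_iso _ (Over.forget S)
        infer_instance
      exact key _
  · rintro m' ⟨h', -⟩
    haveI : Epi G.toQuot := inferInstance
    exact (cancel_epi G.toQuot).mp (h'.trans hm.symm)

end Groth.Agent.S7488
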