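import Groth.Statements.S7493
import Groth.Agent.H50.FieldAut

set_option autoImplicit false
universe u
open CategoryTheory CategoryTheory.Limits AlgebraicGeometry
open Grpd

namespace Groth.Agent.S7493

theorem isIso_residueFieldMap_of_isIso_comp {X Y Z : Scheme.{u}} (ν : Z ⟶ X) (g : X ⟶ Y) (z : Z)
    [IsIso (ν ≫ g)] : IsIso (g.residueFieldMap (ν z)) := by
  have h : IsIso ((ν ≫ g).residueFieldMap z) := inferInstance
  rw [Scheme.residueFieldMap_comp] at h
  have hbij := (ConcreteCategory.isIso_iff_bijective _).1 h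
  have hν : IsIso (ν.residueFieldMap z) := by
    rw [ConcreteCategory.isIso_iff_bijective]
    refine ⟨(ν.residueFieldMap z).hom.injective, ?_⟩
    intro y
    obtain ⟨x, hx⟩ := hbij.2 y
    exact ⟨(g.residueFieldMap (ν z)) x, hx⟩
  have h' : IsIso (g.residueFieldMap (ν z) ≫ ν.residueFieldMap z) := h
  exact IsIso.of_isIso_comp_right (g.residueFieldMap (ν z)) (ν.residueFieldMap z)

theorem main {S : Scheme.{u}} (G : Grpd.GroupoidScheme S) {T : Scheme.{u}} (pt : T) (ι : T ⟶ G.U)
    (ρ' : T ⟶ G.R) (b : T ⟶ T) [IsIso b] (J1 : ρ' ≫ G.t = ι) (J2 : ρ' ≫ G.s = b ≫ ι) (r : G.R)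
    (hr : ρ' pt = r) :
    ∃ r' : (pullback (pullback.snd ι G.t ≫ G.s) ι : Scheme.{u}),
      (pullback.fst (pullback.snd ι G.t ≫ G.s) ι ≫ pullback.snd ι G.t) r' = r ∧
      IsIso ((pullback.snd (pullback.snd ι G.t ≫ G.s) ι).residueFieldMap r') ∧
      IsIso ((pullback.fst (pullback.snd ι G.t ≫ G.s) ι ≫ pullback.fst ι G.t).residueFieldMap r') := by
  have c1 : 𝟙 T ≫ ι = ρ' ≫ G.t := by rw [Category.id_comp, J1]
  obtain ⟨w, hw1, hw2⟩ : ∃ w : T ⟶ pullback ι G.t,
      w ≫ pullback.fst ι G.t = 𝟙 T ∧ w ≫ pullback.snd ι G.t = ρ' :=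
    ⟨pullback.lift _ _ c1, pullback.lift_fst _ _ _, pullback.lift_snd _ _ _⟩
  have c2 : w ≫ (pullback.snd ι G.t ≫ G.s) = b ≫ ι := by
    rw [← Category.assoc, hw2, J2]
  obtain ⟨ν, hν1, hν2⟩ : ∃ ν : T ⟶ pullback (pullback.snd ι G.t ≫ G.s) ι,
      ν ≫ pullback.fst (pullback.snd ι G.t ≫ G.s) ι = w ∧
      ν ≫ pullback.snd (pullback.snd ι G.t ≫ G.s) ι = b :=
    ⟨pullback.lift _ _ c2, pullback.lift_fst _ _ _, pullback.lift_snd _ _ _⟩
  refine ⟨ν pt, ?_, ?_, ?_⟩
  · rw [← Scheme.Hom.comp_apply, ← Category.assoc, hν1, hw2]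
    exact hr
  · haveI : IsIso (ν ≫ pullback.snd (pullback.snd ι G.t ≫ G.s) ι) := by rw [hν2]; infer_instance
    exact isIso_residueFieldMap_of_isIso_comp ν _ pt
  · haveI : IsIso (ν ≫ pullback.fst (pullback.snd ι G.t ≫ G.s) ι ≫ pullback.fst ι G.t) := by
      rw [← Category.assoc, hν1, hw1]; infer_instance
    exact isIso_residueFieldMap_of_isIso_comp ν _ pt

/-- Let (U, R, s, t, c) be a groupoid scheme over S with U = Spec k for a field k, and let r be a point
of R. Then there exist a field extension k -> k' with k' algebraically closed and a point r' of the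
restriction R' of R along g : U' = Spec k' -> U, that is R' = (U' x_(g,U,t) R) x_(s pr, U, g) U'
with t' the projection to the first factor U' and s' the projection to the last factor U', such that
r' maps to r under R' -> R and both s' and t' induce isomorphisms on residue fields at r' (k' ->
κ(r') bijective). (A groupoid scheme carries U, R, s, t, c, e, i over S with the groupoid axioms on
T-points; c is defined on the fibre product of s and t and sends a pair (a, b) with s(a) = t(b) to a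
composed with b.) -/
theorem result (S : Scheme.{u}) (G : Grpd.GroupoidScheme S) (k : Type u) [Field k] (eU : G.U ≅ Spec (CommRingCat.of k)) (r : G.R) : ∃ (k' : Type u) (_ : Field k') (_ : IsAlgClosed k') (_ : Algebra k k'), ∃ r' : ↑(pullback (pullback.snd (Spec.map (CommRingCat.ofHom (algebraMap k k')) ≫ eU.inv) G.t ≫ G.s) (Spec.map (CommRingCat.ofHom (algebraMap k k')) ≫ eU.inv)), (pullback.fst (pullback.snd (Spec.map (CommRingCat.ofHom (algebraMap k k')) ≫ eU.inv) G.t ≫ G.s) (Spec.map (CommRingCat.ofHom (algebraMap k k')) ≫ eU.inv) ≫ pullback.snd (Spec.map (CommRingCat.ofHom (algebraMap k k')) ≫ eU.inv) G.t) r' = r ∧ IsIso ((pullback.snd (pullback.snd (Spec.map (CommRingCat.ofHom (algebraMap k k')) ≫ eU.inv) G.t ≫ G.s) (Spec.map (CommRingCat.ofHom (algebraMap k k')) ≫ eU.inv)).residueFieldMap r') ∧ IsIso ((pullback.fst (pullback.snd (Spec.map (CommRingCat.ofHom (algebraMap k k')) ≫ eU.inv) G.t ≫ G.s) (Spec.map (CommRingCat.ofHom (algebraMap k k')) ≫ eU.inv) ≫ pullback.fst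 (Spec.map (CommRingCat.ofHom (algebraMap k k')) ≫ eU.inv) G.t).residueFieldMap r') := by
  obtain ⟨at', hat⟩ : ∃ f : CommRingCat.of k ⟶ G.R.residueField r,
      Spec.map f = G.R.fromSpecResidueField r ≫ G.t ≫ eU.hom := Spec.map_surjective _
  obtain ⟨as', has⟩ : ∃ f : CommRingCat.of k ⟶ G.R.residueField r,
      Spec.map f = G.R.fromSpecResidueField r ≫ G.s ≫ eU.hom := Spec.map_surjective _
  obtain ⟨k', fk', ack', φr, β, hβ⟩ :=
    Groth.Agent.H50.FieldAut.exists_conj k (G.R.residueField r) at'.hom as'.hom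
  letI algk' : Algebra k k' := (φr.comp at'.hom).toAlgebra
  refine ⟨k', fk', ack', algk', ?_⟩
  have hι : CommRingCat.ofHom (algebraMap k k') = at' ≫ CommRingCat.ofHom φr := rfl
  have hβι : CommRingCat.ofHom (algebraMap k k') ≫ CommRingCat.ofHom β.toRingHom =
      as' ≫ CommRingCat.ofHom φr :=
    CommRingCat.hom_ext (RingHom.ext fun x => hβ x)
  have J0t : G.R.fromSpecResidueField r ≫ G.t = Spec.map at' ≫ eU.inv := by
    rw [hat, Category.assoc, Category.assoc, eU.hom_inv_id, Category.comp_id]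
  have J0s : G.R.fromSpecResidueField r ≫ G.s = Spec.map as' ≫ eU.inv := by
    rw [has, Category.assoc, Category.assoc, eU.hom_inv_id, Category.comp_id]
  have e1 : Spec.map (CommRingCat.ofHom φr) ≫ Spec.map at' =
      Spec.map (CommRingCat.ofHom (algebraMap k k')) := by
    rw [← Spec.map_comp]; rfl
  have e2 : Spec.map (CommRingCat.ofHom φr) ≫ Spec.map as' =
      Spec.map (CommRingCat.ofHom β.toRingHom) ≫
        Spec.map (CommRingCat.ofHom (algebraMap k k')) := by
    rw [← Spec.map_comp, ← Spec.map_comp]; exact congrArg Spec.map hβι.symm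
  have J1 : (Spec.map (CommRingCat.ofHom φr) ≫ G.R.fromSpecResidueField r) ≫ G.t =
      Spec.map (CommRingCat.ofHom (algebraMap k k')) ≫ eU.inv := by
    rw [Category.assoc, J0t, ← Category.assoc, e1]
  have J2 : (Spec.map (CommRingCat.ofHom φr) ≫ G.R.fromSpecResidueField r) ≫ G.s =
      Spec.map (CommRingCat.ofHom β.toRingHom) ≫
        Spec.map (CommRingCat.ofHom (algebraMap k k')) ≫ eU.inv := by
    rw [Category.assoc, J0s, ← Category.assoc, e2, Category.assoc]
  haveI hβiso : IsIso (Spec.map (CommRingCat.ofHom β.toRingHom)) := by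
    have : IsIso (CommRingCat.ofHom β.toRingHom) :=
      (ConcreteCategory.isIso_iff_bijective (CommRingCat.ofHom β.toRingHom)).2 β.bijective
    infer_instance
  have pt : ↑(Spec (CommRingCat.of k')) := (⟨⊥, Ideal.bot_prime⟩ : PrimeSpectrum k')
  have hr : (Spec.map (CommRingCat.ofHom φr) ≫ G.R.fromSpecResidueField r) pt = r := by
    rw [Scheme.Hom.comp_apply]
    exact Scheme.fromSpecResidueField_apply _ _
  exact main G pt (Spec.map (CommRingCat.ofHom (algebraMap k k')) ≫ eU.inv)
    (Spec.map (CommRingCat.ofHom φr) ≫ G.R.fromSpecResidueField r)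
    (Spec.map (CommRingCat.ofHom β.toRingHom)) J1 J2 r hr

end Groth.Agent.S7493
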