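import Groth.Statements.S7495
import Groth.Agent.S2535
import Mathlib.AlgebraicGeometry.Group.Smooth

set_option autoImplicit false
universe u
open CategoryTheory MonoidalCategory CartesianMonoidalCategory MonObj GrpObj AlgebraicGeometry
open GrpSch

namespace Groth.Agent.S7495

/-- Let k be a perfect field of positive characteristic and G a group scheme locally of finite type over
k whose underlying scheme is reduced. Then G -> Spec k is smooth. -/
theorem result (K : Type u) [Field K] [PerfectField K] (hK : ringChar K ≠ 0) (G : Over (Spec (CommRingCat.of K))) [GrpObj G] [LocallyOfFiniteType G.hom] [IsReduced G.left] : Smooth G.hom := by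
  haveI : IsIso (Spec.map (CommRingCat.ofHom (algebraMap K K))) := by
    have : CommRingCat.ofHom (algebraMap K K) = 𝟙 _ := rfl
    rw [this, Spec.map_id]
    infer_instance
  haveI : IsReduced (FBase.bc G.hom K) := by
    unfold FBase.bc
    exact isReduced_of_isOpenImmersion
      (Limits.pullback.fst G.hom (Spec.map (CommRingCat.ofHom (algebraMap K K))))
  haveI : GeometricallyReduced G.hom := Groth.Agent.S2535.result (Ω := K) G.hom
  haveI : GrpObj (Over.mk G.hom) := inferInstanceAs (GrpObj G)
  exact smooth_of_grpObj G.hom

end Groth.Agent.S7495
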