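import Groth.Statements.S7496
import Groth.Agent.H37.HTopSheaf

set_option autoImplicit false
universe w u
open CategoryTheory CategoryTheory.Limits AlgebraicGeometry
open HTop

namespace Groth.Agent.S7496

/-- Let T be a quasi-separated scheme and {f_i : T_i -> T} a family of morphisms. Then every affine open
of T is the union of the images of finitely many quasi-compact opens of the T_i (the
quasi-compactness condition in the definition of an fpqc covering) if and only if for every point t
of T there are finitely many quasi-compact opens U_j of members T_(i_j) such that the union of the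
f_(i_j)(U_j) is a neighbourhood of t. (The published statement also asks every f_i to be flat, on
both sides, and lists two more equivalent forms of the quasi-compactness condition; this row omits
flatness, which plays no part in the equivalence, and states only the equivalence of the
quasi-compactness condition with the neighbourhood condition.) -/
theorem result {T : Scheme.{u}} [QuasiSeparatedSpace T] (E : PreZeroHypercover.{w} T) : QuasiCompactCover E ↔ ∀ t : T, ∃ (n : ℕ) (i : Fin n → E.I₀) (V : ∀ j, (E.X (i j)).Opens), (∀ j, IsCompact (V j : Set (E.X (i j)))) ∧ (⋃ j, ⇑(E.f (i j)) '' (V j : Set (E.X (i j)))) ∈ nhds t := by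
  constructor
  · intro hqc t
    obtain ⟨U, htU⟩ := Groth.Agent.H37.HTopSheaf.exists_affineOpens_mem t
    obtain ⟨n, a, V, hV, hU⟩ := QuasiCompactCover.exists_isAffineOpen_of_isCompact E
      (U := (U : T.Opens)) U.2.isCompact
    refine ⟨n, a, V, fun j => (hV j).isCompact, ?_⟩
    rw [hU]
    exact (U : T.Opens).2.mem_nhds htU
  · intro H
    refine ⟨fun {U} hU => ?_⟩
    refine IsCompactOpenCovered.of_isCompact_of_forall_exists_isCompactOpenCovered hU.isCompact
      (fun x hx => ?_)
    obtain ⟨n, i, V, hV, hN⟩ := H x
    obtain ⟨N, hNdef⟩ : ∃ N : Set T, N = ⋃ j, ⇑(E.f (i j)) '' (V j : Set (E.X (i j))) :=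
      ⟨_, rfl⟩
    rw [← hNdef] at hN
    let O : T.Opens := ⟨interior N, isOpen_interior⟩ ⊓ U
    have hxO : x ∈ O := ⟨mem_interior_iff_mem_nhds.mpr hN, hx⟩
    obtain ⟨W, hxW, hWO⟩ := Groth.Agent.H37.HTopSheaf.exists_affineOpens_mem_le x O hxO
    have hWN : ((W : T.Opens) : Set T) ⊆ N := fun y hy => interior_subset (hWO hy).1
    have hWU : ((W : T.Opens) : Set T) ⊆ U := fun y hy => (hWO hy).2
    refine ⟨((W : T.Opens) : Set T), hWU, hxW, (W : T.Opens).2, ?_⟩
    let V' : ∀ j, (E.X (i j)).Opens := fun j => V j ⊓ (E.f (i j)) ⁻¹ᵁ (W : T.Opens)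
    have hV' : ∀ j, IsCompact ((V' j : (E.X (i j)).Opens) : Set (E.X (i j))) := by
      intro j
      haveI : CompactSpace ((V j : (E.X (i j)).Opens) : Scheme.{u}) :=
        isCompact_iff_compactSpace.mp (hV j)
      have hqc : QuasiCompact ((V j).ι ≫ E.f (i j)) := inferInstance
      have hc := hqc.isCompact_preimage _ (W : T.Opens).2 W.2.isCompact
      have himg := hc.image (V j).ι.continuous
      convert himg using 1
      ext y
      constructor
      · rintro ⟨h1, h2⟩
        exact ⟨⟨y, h1⟩, h2, rfl⟩
      · rintro ⟨v, hv, rfl⟩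
        exact ⟨v.2, hv⟩
    refine IsCompactOpenCovered.of_finite (κ := Fin n) i V' hV' ?_
    ext y
    simp only [Set.mem_iUnion, Set.mem_image]
    constructor
    · rintro ⟨j, v, hv, rfl⟩
      exact hv.2
    · intro hy
      have hyN := hWN hy
      rw [hNdef] at hyN
      obtain ⟨j, v, hv, rfl⟩ := Set.mem_iUnion.mp hyN
      exact ⟨j, v, ⟨hv, hy⟩, rfl⟩

end Groth.Agent.S7496
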