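import Groth.Statements.S7497
import Groth.Agent.H37.QcCover

set_option autoImplicit false
universe u
open CategoryTheory CategoryTheory.Limits AlgebraicGeometry
open HTop

namespace Groth.Agent.S7497

/-- Let {f_i : T_i -> T} be a family of flat morphisms of schemes and {g_j : S_j -> T} an fpqc covering
such that for every j the family of base changes {S_j x_T T_i -> S_j} is an fpqc covering. Then {f_i
: T_i -> T} is an fpqc covering. (fpqc coverings are Mathlib's: flat, jointly surjective, every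
affine open of the target covered by images of finitely many quasi-compact opens.) -/
theorem result {T : Scheme.{u}} (E : PreZeroHypercover.{u} T) (hflat : ∀ i, Flat (E.f i)) (𝒱 : Scheme.Cover Scheme.fpqcPrecoverage T) (hloc : ∀ j, (E.pullback₁ (𝒱.f j)).presieve₀ ∈ Scheme.fpqcPrecoverage (𝒱.X j)) : E.presieve₀ ∈ Scheme.fpqcPrecoverage T := by
  have hm : 𝒱.presieve₀ ∈ Scheme.qcPrecoverage T ∧ 𝒱.presieve₀ ∈ Scheme.precoverage @Flat T :=
    𝒱.mem₀
  have hl : ∀ j, (E.pullback₁ (𝒱.f j)).presieve₀ ∈ Scheme.qcPrecoverage (𝒱.X j) ∧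
      (E.pullback₁ (𝒱.f j)).presieve₀ ∈ Scheme.precoverage @Flat (𝒱.X j) := fun j => hloc j
  haveI : QuasiCompactCover 𝒱.toPreZeroHypercover :=
    Scheme.presieve₀_mem_qcPrecoverage_iff.mp hm.1
  haveI : ∀ j, QuasiCompactCover (E.pullback₁ (𝒱.f j)) :=
    fun j => Scheme.presieve₀_mem_qcPrecoverage_iff.mp (hl j).1
  haveI := Groth.Agent.H37.quasiCompactCover_bind 𝒱.toPreZeroHypercover
    (fun j => E.pullback₁ (𝒱.f j))
  let φ : (𝒱.toPreZeroHypercover.bind (fun j => E.pullback₁ (𝒱.f j))).Hom E :=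
    { s₀ := fun p => p.2
      h₀ := fun p => pullback.snd (𝒱.f p.1) (E.f p.2)
      w₀ := fun p => pullback.condition.symm }
  have hqc : QuasiCompactCover E := QuasiCompactCover.of_hom φ
  have hs𝒱 := ((Scheme.presieve₀_mem_precoverage_iff _).mp hm.2).1
  refine ⟨Scheme.presieve₀_mem_qcPrecoverage_iff.mpr hqc,
    (Scheme.presieve₀_mem_precoverage_iff _).mpr ⟨fun x => ?_, hflat⟩⟩
  obtain ⟨j, y, hy⟩ := hs𝒱 x
  obtain ⟨i, z, hz⟩ := ((Scheme.presieve₀_mem_precoverage_iff _).mp (hl j).2).1 y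
  refine ⟨i, pullback.snd (𝒱.f j) (E.f i) z, ?_⟩
  have hz' : pullback.fst (𝒱.f j) (E.f i) z = y := hz
  rw [← hy, ← hz', ← Scheme.Hom.comp_apply, ← Scheme.Hom.comp_apply, pullback.condition]

end Groth.Agent.S7497
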