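import Groth.Statements.S7498
import Mathlib
import Groth.Agent.H37.GrpdCalc
open Groth.Agent.H37.GrpdCalc

set_option autoImplicit false
universe u
open CategoryTheory CategoryTheory.Limits AlgebraicGeometry
open Grpd

namespace Groth.Agent.S7498


lemma aux {S : Scheme.{u}} (G : Grpd.GroupoidScheme S) {T0 : Scheme.{u}} (ρ ρ' γ : T0 ⟶ G.R)
    (hγs : γ ≫ G.s = ρ' ≫ G.s) (hγt : γ ≫ G.t = ρ ≫ G.s) (hργ : mul G ρ γ = ρ') :
    ∃ (φ : pullback G.s (ρ ≫ G.s) ≅ pullback G.s (ρ' ≫ G.s))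
      (σ : T0 ⟶ pullback G.s (ρ ≫ G.s)),
      φ.hom ≫ pullback.snd G.s (ρ' ≫ G.s) = pullback.snd G.s (ρ ≫ G.s) ∧
      σ ≫ pullback.fst G.s (ρ ≫ G.s) = ρ ∧
      σ ≫ φ.hom ≫ pullback.fst G.s (ρ' ≫ G.s) = ρ' := by
  have h1 : pullback.fst G.s (ρ ≫ G.s) ≫ G.s = (pullback.snd G.s (ρ ≫ G.s) ≫ γ) ≫ G.t := by
    rw [Category.assoc, hγt]; exact pullback.condition
  have h1' : pullback.fst G.s (ρ' ≫ G.s) ≫ G.s =
      (pullback.snd G.s (ρ' ≫ G.s) ≫ γ ≫ G.i) ≫ G.t := by
    rw [Category.assoc, Category.assoc, G.i_t, hγs]; exact pullback.condition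
  have w : mul G (pullback.fst G.s (ρ ≫ G.s)) (pullback.snd G.s (ρ ≫ G.s) ≫ γ) ≫ G.s =
      pullback.snd G.s (ρ ≫ G.s) ≫ ρ' ≫ G.s := by
    rw [mul_s h1, Category.assoc, hγs]
  have w' : mul G (pullback.fst G.s (ρ' ≫ G.s)) (pullback.snd G.s (ρ' ≫ G.s) ≫ γ ≫ G.i) ≫ G.s =
      pullback.snd G.s (ρ' ≫ G.s) ≫ ρ ≫ G.s := by
    rw [mul_s h1', Category.assoc, Category.assoc, G.i_s, hγt]
  have h2 : pullback.fst G.s (ρ' ≫ G.s) ≫ G.s = (pullback.snd G.s (ρ' ≫ G.s) ≫ γ) ≫ G.s := by
    rw [Category.assoc, hγs]; exact pullback.condition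
  refine ⟨⟨pullback.lift _ _ w, pullback.lift _ _ w', ?_, ?_⟩,
    pullback.lift ρ (𝟙 T0) (by rw [Category.id_comp]), pullback.lift_snd _ _ _,
    pullback.lift_fst _ _ _, ?_⟩
  · apply pullback.hom_ext
    · rw [Category.assoc, pullback.lift_fst, comp_mul _ h1', pullback.lift_fst,
        pullback.lift_snd_assoc, Category.id_comp]
      exact mul_mul_i h1 (Category.assoc _ _ _).symm
    · rw [Category.assoc, pullback.lift_snd, pullback.lift_snd, Category.id_comp]
  · apply pullback.hom_ext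
    · rw [Category.assoc, pullback.lift_fst, comp_mul _ h1, pullback.lift_fst,
        pullback.lift_snd_assoc, Category.id_comp]
      exact mul_i_mul h2 (Category.assoc _ _ _).symm
    · rw [Category.assoc, pullback.lift_snd, pullback.lift_snd, Category.id_comp]
  · show _ ≫ pullback.lift _ _ w ≫ _ = _
    rw [pullback.lift_fst, comp_mul _ h1, pullback.lift_fst, pullback.lift_snd_assoc,
      Category.id_comp]
    exact hργ


/-- Let (U, R, s, t, c) be a groupoid scheme over S and r, r' points of R with t(r) = t(r'); put u =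
s(r), u' = s(r') and let F_u, F_u' be the scheme-theoretic fibres of s. Then there are a field k
which is a common extension of κ(u) and κ(u') (morphisms a, b : Spec k -> U with images u, u') and
an isomorphism of the base changes (F_u)_k and (F_u')_k over Spec k, which moreover can be chosen to
send some point lying over r to a point lying over r'. (The published statement also compares the
germs of s at r and at r' when s and t are flat or flat of finite presentation; this row omits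
that.) (A groupoid scheme carries U, R, s, t, c, e, i over S with the groupoid axioms on T-points; c
is defined on the fibre product of s and t and sends a pair (a, b) with s(a) = t(b) to a composed
with b.) -/
theorem result (S : Scheme.{u}) (G : Grpd.GroupoidScheme S) (r r' : G.R) (h : G.t r = G.t r') : ∃ (k : Type u) (_ : Field k) (a b : Spec (CommRingCat.of k) ⟶ G.U) (φ : pullback G.s a ≅ pullback G.s b) (p : ↑(pullback G.s a)), a (IsLocalRing.closedPoint k) = G.s r ∧ b (IsLocalRing.closedPoint k) = G.s r' ∧ φ.hom ≫ pullback.snd G.s b = pullback.snd G.s a ∧ pullback.fst G.s a p = r ∧ pullback.fst G.s b (φ.hom p) = r' := by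
  obtain ⟨z, hz1, hz2⟩ := Scheme.Pullback.exists_preimage_pullback (f := G.t) (g := G.t) r r' h
  refine ⟨(pullback G.t G.t).residueField z, inferInstance, ?_⟩
  let ζ : Spec (CommRingCat.of ((pullback G.t G.t).residueField z)) ⟶ pullback G.t G.t :=
    (pullback G.t G.t).fromSpecResidueField z
  have hζ : ∀ c, ζ c = z := fun c => Scheme.fromSpecResidueField_apply z c
  have hρ : (ζ ≫ pullback.fst G.t G.t) ≫ G.t = (ζ ≫ pullback.snd G.t G.t) ≫ G.t := by
    rw [Category.assoc, Category.assoc, pullback.condition]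
  have hγ0 : ((ζ ≫ pullback.fst G.t G.t) ≫ G.i) ≫ G.s = (ζ ≫ pullback.snd G.t G.t) ≫ G.t := by
    rw [Category.assoc, G.i_s, hρ]
  obtain ⟨φ, σ, h1, h2, h3⟩ := aux G (ζ ≫ pullback.fst G.t G.t) (ζ ≫ pullback.snd G.t G.t)
    (mul G ((ζ ≫ pullback.fst G.t G.t) ≫ G.i) (ζ ≫ pullback.snd G.t G.t))
    (mul_s hγ0) (by rw [mul_t hγ0, Category.assoc, G.i_t]) (mul_i_mul' hρ rfl)
  refine ⟨(ζ ≫ pullback.fst G.t G.t) ≫ G.s, (ζ ≫ pullback.snd G.t G.t) ≫ G.s, φ,
    σ (IsLocalRing.closedPoint _), ?_, ?_, h1, ?_, ?_⟩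
  · rw [Scheme.Hom.comp_apply, Scheme.Hom.comp_apply, hζ, hz1]
  · rw [Scheme.Hom.comp_apply, Scheme.Hom.comp_apply, hζ, hz2]
  · rw [← Scheme.Hom.comp_apply, h2, Scheme.Hom.comp_apply, hζ, hz1]
  · rw [← Scheme.Hom.comp_apply, ← Scheme.Hom.comp_apply, h3, Scheme.Hom.comp_apply, hζ, hz2]

end Groth.Agent.S7498
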