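import Groth.Statements.S7501
import Groth.Agent.H37.HTopSheaf
import Groth.Agent.S7478

set_option autoImplicit false
universe w u
open HTop

namespace Groth.Agent.S7501

open CategoryTheory CategoryTheory.Limits AlgebraicGeometry in
/-- Let F be a presheaf of sets on the category of schemes. If F is a sheaf for the Zariski topology
and, for every proper surjective morphism f : V -> U, F has the sheaf property for the one-arrow
family {f} (sections over V whose two pullbacks to V x_U V agree come from exactly one section over
U), then F has the sheaf property for every ph covering. (The published statement is an equivalence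
for presheaves on the big ph site of a base scheme and adds that, for a Zariski sheaf, the condition
on proper surjective morphisms may be asked only for affine targets; this row states, for presheaves
on all schemes, only that the two conditions imply the sheaf property for ph coverings.) -/
theorem result (F : Scheme.{u}ᵒᵖ ⥤ Type w) (h₁ : Presieve.IsSheaf Scheme.zariskiTopology F) (h₂ : ∀ (U V : Scheme.{u}) (f : V ⟶ U), IsProper f → Surjective f → Presieve.IsSheafFor F (Presieve.singleton f)) : HTop.IsPhSheaf F := by
  intro X R hR
  obtain ⟨E, rfl⟩ := R.exists_eq_preZeroHypercover
  rw [HTop.presieve₀_mem_phPrecoverage_iff] at hR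
  refine Groth.Agent.H37.HTopSheaf.isSheafFor_of_refined (fun T G => HTop.IsStandardPh G)
    (fun T G hG => hG.isAffine_obj)
    (fun T T' _ g G hG => Groth.Agent.S7478.result g G hG) h₁ ?_ E hR.2
  intro T G hG
  obtain ⟨U, f, ι, hprop, hsurj, hoi, hι, hcov⟩ := hG.exists_proper
  have := Groth.Agent.H37.HTopSheaf.isSheafFor_comp h₁ f G.X ι hoi hcov (h₂ _ _ f hprop hsurj)
  have e : (fun j => ι j ≫ f) = G.f := funext hι
  rw [e] at this
  exact this

end Groth.Agent.S7501
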