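import Groth.Statements.S7502
import Groth.Agent.H28.FinTypeDescent

set_option autoImplicit false
universe u
open CategoryTheory CategoryTheory.Limits AlgebraicGeometry
open Coh

namespace Groth.Agent.S7502

/-- Let f : Y -> X be a morphism of schemes which is quasi-compact, quasi-separated, flat and
surjective, with X and Y locally Noetherian. Let F be a quasi-coherent O_X-module, G a coherent
O_Y-module and φ : G -> f^*F an injective map of O_Y-modules. Then the O_X-module F ∩ f_*G, defined
as the fibre product of the adjunction unit F -> f_*f^*F with f_*φ : f_*G -> f_*f^*F, is coherent.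
('Coherent' is quasi-coherent of finite type, the usual notion on locally Noetherian schemes.) -/
theorem result {X Y : Scheme.{u}} (f : Y ⟶ X) [QuasiCompact f] [QuasiSeparated f] [Flat f] [Surjective f] [IsLocallyNoetherian X] [IsLocallyNoetherian Y] (F : X.Modules) (hF : Coh.IsQCoh F) (G : Y.Modules) (hG : Coh.IsCoh G) (φ : G ⟶ (Scheme.Modules.pullback f).obj F) [Mono φ] : Coh.IsCoh (Limits.pullback ((Scheme.Modules.pullbackPushforwardAdjunction f).unit.app F) ((Scheme.Modules.pushforward f).map φ)) := by
  set adj := Scheme.Modules.pullbackPushforwardAdjunction f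
  haveI : F.IsQuasicoherent := hF
  haveI : ((𝟭 X.Modules).obj F).IsQuasicoherent := hF
  haveI : G.IsQuasicoherent := hG.1
  haveI : SheafOfModules.IsFiniteType (R := Y.ringCatSheaf) G := hG.2
  haveI hfF : ((Scheme.Modules.pullback f).obj F).IsQuasicoherent :=
    Groth.Agent.H8.isQuasicoherent_pullback f F
  haveI : ((Scheme.Modules.pushforward f).obj G).IsQuasicoherent :=
    Groth.Agent.H8.isQuasicoherent_pushforward f G
  haveI : ((Scheme.Modules.pushforward f).obj
      ((Scheme.Modules.pullback f).obj F)).IsQuasicoherent :=
    Groth.Agent.H8.isQuasicoherent_pushforward f _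
  haveI : ((Scheme.Modules.pullback f ⋙ Scheme.Modules.pushforward f).obj F).IsQuasicoherent :=
    Groth.Agent.H8.isQuasicoherent_pushforward f _
  haveI hP : (Limits.pullback (adj.unit.app F)
      ((Scheme.Modules.pushforward f).map φ)).IsQuasicoherent :=
    Groth.Agent.H22.QCohLimits.isQuasicoherent_pullback _ _
  refine ⟨hP, ?_⟩
  apply Groth.Agent.H28.FinTypeDescent.isFiniteType_of_pullback f
  let pr₁ := pullback.fst (adj.unit.app F) ((Scheme.Modules.pushforward f).map φ)
  let pr₂ := pullback.snd (adj.unit.app F) ((Scheme.Modules.pushforward f).map φ)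
  haveI : (Scheme.Modules.pushforward f).IsRightAdjoint := adj.isRightAdjoint
  haveI : Mono ((Scheme.Modules.pushforward f).map φ) := inferInstance
  haveI : Mono pr₁ := inferInstance
  haveI : Mono ((Scheme.Modules.pullback f).map pr₁) :=
    Groth.Agent.S6514.mono_pullback_map f pr₁
  let α : (Scheme.Modules.pullback f).obj (Limits.pullback (adj.unit.app F)
      ((Scheme.Modules.pushforward f).map φ)) ⟶ G :=
    (Scheme.Modules.pullback f).map pr₂ ≫ adj.counit.app G
  have hα : α ≫ φ = (Scheme.Modules.pullback f).map pr₁ := by
    have h1 : adj.counit.app G ≫ φ =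
        (Scheme.Modules.pullback f).map ((Scheme.Modules.pushforward f).map φ) ≫
          adj.counit.app _ := (adj.counit.naturality φ).symm
    have h2 : pr₂ ≫ (Scheme.Modules.pushforward f).map φ = pr₁ ≫ adj.unit.app F :=
      pullback.condition.symm
    have h3 : (Scheme.Modules.pullback f).map (adj.unit.app F) ≫
        adj.counit.app ((Scheme.Modules.pullback f).obj F) = 𝟙 _ :=
      adj.left_triangle_components F
    simp only [α, Category.assoc]
    rw [h1, ← Category.assoc, ← Functor.map_comp, h2, Functor.map_comp, Category.assoc]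
    erw [h3]
    exact Category.comp_id _
  haveI : Mono α := mono_of_mono_fac hα
  haveI : ((Scheme.Modules.pullback f).obj (Limits.pullback (adj.unit.app F)
      ((Scheme.Modules.pushforward f).map φ))).IsQuasicoherent :=
    Groth.Agent.H8.isQuasicoherent_pullback f _
  apply Groth.Agent.H8.isFiniteType_of_forall_affine_finite
  intro V
  haveI : IsNoetherianRing Γ(Y, (V : Y.Opens)) := IsLocallyNoetherian.component_noetherian V
  haveI : Module.Finite Γ(Y, (V : Y.Opens)) Γ(G, (V : Y.Opens)) :=
    Groth.Agent.H8.finite_sections_of_isCoh G hG V.2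
  haveI : IsNoetherian Γ(Y, (V : Y.Opens)) Γ(G, (V : Y.Opens)) :=
    isNoetherian_of_isNoetherianRing_of_finite _ _
  exact Module.Finite.of_injective (Groth.Agent.H8.appₗ α (V : Y.Opens))
    (Groth.Agent.H8.appₗ_injective_of_mono α (V : Y.Opens))

end Groth.Agent.S7502
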