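import Groth.Statements.S7504
import Mathlib
import Groth.Agent.S7457

set_option autoImplicit false
universe u
open CategoryTheory CategoryTheory.Limits AlgebraicGeometry
open Grpd

namespace Groth.Agent.S7504


section
variable {P : MorphismProperty Scheme.{u}} {K : Precoverage Scheme.{u}} [P.IsLocalAtTarget K]

lemma P_snd_of_isPullback {X Y X' Y' : Scheme.{u}} {f : X ⟶ Y} {g : Y' ⟶ Y} {a : X' ⟶ X}
    {b : X' ⟶ Y'} (sq : IsPullback a b f g) (hg : Presieve.singleton g ∈ K Y) (hf : P f) :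
    P b := by
  haveI : HasPullback f g := sq.hasPullback
  rw [← P.cancel_left_of_respectsIso sq.isoPullback.inv, sq.isoPullback_inv_snd]
  exact MorphismProperty.IsLocalAtTarget.pullbackSnd hg Presieve.singleton.mk hf

lemma P_of_isPullback_snd {X Y X' Y' : Scheme.{u}} {f : X ⟶ Y} {g : Y' ⟶ Y} {a : X' ⟶ X}
    {b : X' ⟶ Y'} (sq : IsPullback a b f g) (hg : Presieve.singleton g ∈ K Y) (hb : P b) :
    P f := by
  refine MorphismProperty.IsLocalAtTarget.of_forall_pullbackSnd hg ?_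
  intro U g' _ hg'
  cases hg'
  rw [← P.cancel_left_of_respectsIso sq.isoPullback.hom, sq.isoPullback_hom_snd]
  exact hb

end

lemma exists_isPullback_restrict {X Y Z A : Scheme.{u}} (f : X ⟶ Y) (W : Y.Opens)
    (g : Z ⟶ (W : Scheme.{u})) {a : A ⟶ X} {b : A ⟶ Z} (sq : IsPullback a b f (g ≫ W.ι)) :
    ∃ a' : A ⟶ ((f ⁻¹ᵁ W : X.Opens) : Scheme.{u}), IsPullback a' b (f ∣_ W) g := by
  have hres : IsPullback (f ⁻¹ᵁ W).ι (f ∣_ W) f W.ι := (isPullback_morphismRestrict f W).flip
  have hw : a ≫ f = (b ≫ g) ≫ W.ι := by rw [sq.w, Category.assoc]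
  refine ⟨hres.lift a (b ≫ g) hw, ?_⟩
  have e1 : hres.lift a (b ≫ g) hw ≫ (f ⁻¹ᵁ W).ι = a := hres.lift_fst _ _ _
  have e2 : hres.lift a (b ≫ g) hw ≫ (f ∣_ W) = b ≫ g := hres.lift_snd _ _ _
  refine IsPullback.of_right ?_ e2 hres
  rw [e1]
  exact sq

theorem main_aux {R U RR A : Scheme.{u}} {s t : R ⟶ U} {p1 p2 c : RR ⟶ R}
    (sq1 : IsPullback p1 p2 s t) (sq2 : IsPullback c p2 s s)
    (Q : MorphismProperty Scheme.{u}) [Q.IsStableUnderBaseChange] [Q.IsStableUnderComposition]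
    (hQoi : ∀ {X Y : Scheme.{u}} (f : X ⟶ Y), IsOpenImmersion f → Q f)
    (hQopen : ∀ {X Y : Scheme.{u}} (f : X ⟶ Y), Q f → IsOpenMap f)
    (P : MorphismProperty Scheme.{u}) [P.IsLocalAtTarget (Scheme.precoverage Q)]
    (hs : Presieve.singleton s ∈ Scheme.precoverage Q U)
    (ht : Presieve.singleton t ∈ Scheme.precoverage Q U)
    (W : U.Opens) (hW : P (s ∣_ W)) (hmax : ∀ W' : U.Opens, P (s ∣_ W') → W' ≤ W)
    {q1 : A ⟶ ((t ⁻¹ᵁ W : R.Opens) : Scheme.{u})} {q2 : A ⟶ RR}
    (sq0 : IsPullback q1 q2 (t ⁻¹ᵁ W).ι p2) :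
    t ⁻¹ᵁ W ≤ s ⁻¹ᵁ W := by
  obtain ⟨-, hsQ⟩ := (Scheme.singleton_mem_precoverage_iff Q s).1 hs
  obtain ⟨htsurj, htQ⟩ := (Scheme.singleton_mem_precoverage_iff Q t).1 ht
  have sqt : IsPullback (q2 ≫ p1) q1 s ((t ⁻¹ᵁ W).ι ≫ t) := sq0.flip.paste_horiz sq1
  have sqs : IsPullback (q2 ≫ c) q1 s ((t ⁻¹ᵁ W).ι ≫ s) := sq0.flip.paste_horiz sq2
  -- step 1: `q1` has `P`
  have sqt' : IsPullback (q2 ≫ p1) q1 s ((t ∣_ W) ≫ W.ι) := by
    rw [morphismRestrict_ι]; exact sqt
  obtain ⟨a1, ha1⟩ := exists_isPullback_restrict s W (t ∣_ W) sqt'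
  have hpb : IsPullback (t ⁻¹ᵁ W).ι (t ∣_ W) t W.ι := (isPullback_morphismRestrict t W).flip
  have htW : Presieve.singleton (t ∣_ W) ∈ Scheme.precoverage Q W := by
    rw [Scheme.singleton_mem_precoverage_iff]
    refine ⟨?_, MorphismProperty.of_isPullback (P := Q) hpb htQ⟩
    haveI : Surjective t := ⟨htsurj⟩
    exact (MorphismProperty.of_isPullback (P := @Surjective) hpb inferInstance).surj
  have hPq1 : P q1 := P_snd_of_isPullback ha1 htW hW
  -- step 2: the open `W' = s(t⁻¹W)`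
  obtain ⟨W', hW'⟩ : ∃ W' : U.Opens, (W' : Set U) = s '' (t ⁻¹ᵁ W : Set R) :=
    ⟨⟨_, hQopen s hsQ _ (t ⁻¹ᵁ W).2⟩, rfl⟩
  have hle : t ⁻¹ᵁ W ≤ s ⁻¹ᵁ W' := by
    intro x hx
    show s x ∈ (W' : Set U)
    rw [hW']
    exact ⟨x, hx, rfl⟩
  have sqs' : IsPullback (q2 ≫ c) q1 s (s.resLE W' (t ⁻¹ᵁ W) hle ≫ W'.ι) := by
    rw [Scheme.Hom.resLE_comp_ι]; exact sqs
  obtain ⟨a2, ha2⟩ := exists_isPullback_restrict s W' (s.resLE W' (t ⁻¹ᵁ W) hle) sqs'
  have hcov : Presieve.singleton (s.resLE W' (t ⁻¹ᵁ W) hle) ∈ Scheme.precoverage Q W' := by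
    rw [Scheme.singleton_mem_precoverage_iff]
    refine ⟨?_, ?_⟩
    · intro y
      have hy : (W'.ι y) ∈ (W' : Set U) := by
        have := Set.mem_range_self (f := W'.ι) y
        rwa [Scheme.Opens.range_ι] at this
      rw [hW'] at hy
      obtain ⟨x, hx, hxy⟩ := hy
      have hx' : x ∈ Set.range (t ⁻¹ᵁ W).ι := by rw [Scheme.Opens.range_ι]; exact hx
      obtain ⟨x', rfl⟩ := hx'
      refine ⟨x', ?_⟩
      apply W'.ι.isOpenEmbedding.injective
      rw [← Scheme.Hom.comp_apply, Scheme.Hom.resLE_comp_ι, Scheme.Hom.comp_apply]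
      exact hxy
    · have h1 : Q ((t ⁻¹ᵁ W).ι ≫ s) := Q.comp_mem _ _ (hQoi _ inferInstance) hsQ
      rw [← Scheme.Hom.resLE_comp_ι s hle] at h1
      exact MorphismProperty.of_postcomp (W := Q) (W' := @IsOpenImmersion) _ W'.ι
        inferInstance h1
  have hPW' : P (s ∣_ W') := P_of_isPullback_snd ha2 hcov hPq1
  have hW'W : W' ≤ W := hmax W' hPW'
  intro x hx
  exact hW'W (show s x ∈ W' from hle hx)

theorem main {S : Scheme.{u}} (G : Grpd.GroupoidScheme S)
    (Q : MorphismProperty Scheme.{u}) [Q.IsStableUnderBaseChange] [Q.IsStableUnderComposition]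
    (hQoi : ∀ {X Y : Scheme.{u}} (f : X ⟶ Y), IsOpenImmersion f → Q f)
    (hQopen : ∀ {X Y : Scheme.{u}} (f : X ⟶ Y), Q f → IsOpenMap f)
    (P : MorphismProperty Scheme.{u}) [P.IsLocalAtTarget (Scheme.precoverage Q)]
    (hs : Presieve.singleton G.s ∈ Scheme.precoverage Q G.U)
    (ht : Presieve.singleton G.t ∈ Scheme.precoverage Q G.U)
    (W : G.U.Opens) (hW : P (G.s ∣_ W)) (hmax : ∀ W' : G.U.Opens, P (G.s ∣_ W') → W' ≤ W) :
    G.s ⁻¹ᵁ W = G.t ⁻¹ᵁ W := by
  have sq1 : IsPullback (pullback.fst G.s G.t) (pullback.snd G.s G.t) G.s G.t :=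
    IsPullback.of_hasPullback _ _
  have sq2 := (Groth.Agent.S7457.result S G).2
  have sq0 := IsPullback.of_hasPullback (G.t ⁻¹ᵁ W).ι (pullback.snd G.s G.t)
  have hle : G.t ⁻¹ᵁ W ≤ G.s ⁻¹ᵁ W := main_aux sq1 sq2 Q hQoi hQopen P hs ht W hW hmax sq0
  apply le_antisymm
  · intro x hx
    have h1 : G.i x ∈ G.t ⁻¹ᵁ W := by
      show G.t (G.i x) ∈ W
      rw [← Scheme.Hom.comp_apply, G.i_t]
      exact hx
    have h2 : G.s (G.i x) ∈ W := hle h1
    rw [← Scheme.Hom.comp_apply, G.i_s] at h2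
    exact h2
  · exact hle

set_option backward.isDefEq.respectTransparency.types false


/-- Let (U, R, s, t, c) be a groupoid scheme over S, let τ be the Zariski, étale, smooth or fppf
topology (given as the corresponding precoverage K on schemes), and let P be a property of scheme
morphisms that is τ-local on the target. (The published statement also allows the syntomic topology,
which has no precoverage here; this row omits it.) Assume the one-arrow families {s : R -> U} and {t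
: R -> U} are τ-coverings. If W is the largest open subscheme of U such that the restriction
s^{-1}(W) -> W of s has P (W has the property and contains every open with the property), then W is
R-invariant: s^{-1}(W) = t^{-1}(W). (A groupoid scheme carries U, R, s, t, c, e, i over S with the
groupoid axioms on T-points; c is defined on the fibre product of s and t and sends a pair (a, b)
with s(a) = t(b) to a composed with b.) -/
theorem result (S : Scheme.{u}) (G : Grpd.GroupoidScheme S) (K : Precoverage Scheme.{u}) (hK : K = Scheme.zariskiPrecoverage ∨ K = Scheme.etalePrecoverage ∨ K = Scheme.precoverage @Smooth ∨ K = Scheme.fppfPrecoverage) (P : MorphismProperty Scheme.{u}) [P.IsLocalAtTarget K] (hs : Presieve.singleton G.s ∈ K G.U) (ht : Presieve.singleton G.t ∈ K G.U) (W : G.U.Opens) (hW : P (G.s ∣_ W)) (hmax : ∀ W' : G.U.Opens, P (G.s ∣_ W') → W' ≤ W) : G.s ⁻¹ᵁ W = G.t ⁻¹ᵁ W := by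
  rcases hK with rfl | rfl | rfl | rfl
  · exact main G @IsOpenImmersion (fun f hf => hf)
      (fun f hf => by haveI : IsOpenImmersion f := hf; exact f.isOpenEmbedding.isOpenMap)
      P hs ht W hW hmax
  · haveI : P.IsLocalAtTarget (Scheme.precoverage @Etale) := ‹_›
    exact main G @Etale (fun f hf => by haveI : IsOpenImmersion f := hf; infer_instance)
      (fun f hf => by haveI : Etale f := hf; exact f.isOpenMap) P hs ht W hW hmax
  · exact main G @Smooth (fun f hf => by haveI : IsOpenImmersion f := hf; infer_instance)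
      (fun f hf => by haveI : Smooth f := hf; exact f.isOpenMap) P hs ht W hW hmax
  · haveI : P.IsLocalAtTarget (Scheme.precoverage (@Flat ⊓ @LocallyOfFinitePresentation)) := ‹_›
    exact main G (@Flat ⊓ @LocallyOfFinitePresentation)
      (fun f hf => by
        haveI : IsOpenImmersion f := hf
        exact ⟨inferInstance, inferInstance⟩)
      (fun f hf => by
        haveI : Flat f := hf.1
        haveI : LocallyOfFinitePresentation f := hf.2
        exact f.isOpenMap) P hs ht W hW hmax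

end Groth.Agent.S7504
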