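import Groth.Statements.S7511
import Mathlib

set_option autoImplicit false
universe u
open CategoryTheory CategoryTheory.Limits AlgebraicGeometry
open HTop

namespace Groth.Agent.S7511

lemma mem_fpqc_iff {T : Scheme.{u}} (R : Presieve T) :
    R ∈ Scheme.fpqcPrecoverage T ↔
      R ∈ Scheme.qcPrecoverage T ∧ R ∈ Scheme.precoverage @Flat T := by
  unfold Scheme.fpqcPrecoverage
  exact Iff.rfl

/-- Let {f_i : T_i -> T} be a family of morphisms of schemes (indexed by a type in the universe of T, so
that the coproduct exists). Then it is an fpqc covering if and only if the one-arrow family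
consisting of the induced morphism from the coproduct of the T_i to T is an fpqc covering. -/
theorem result {T : Scheme.{u}} (E : PreZeroHypercover.{u} T) : E.presieve₀ ∈ Scheme.fpqcPrecoverage T ↔ Presieve.singleton (Sigma.desc E.f) ∈ Scheme.fpqcPrecoverage T := by
  rw [mem_fpqc_iff, mem_fpqc_iff,
    ← PreZeroHypercover.presieve₀_singleton.{u} (Sigma.desc E.f),
    Scheme.presieve₀_mem_qcPrecoverage_iff, Scheme.presieve₀_mem_qcPrecoverage_iff,
    Scheme.presieve₀_mem_precoverage_iff, Scheme.presieve₀_mem_precoverage_iff]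
  constructor
  · rintro ⟨hqc, hsurj, hflat⟩
    refine ⟨?_, ?_, ?_⟩
    · exact QuasiCompactCover.of_hom (𝒱 := E)
        ⟨fun _ => PUnit.unit, fun i => Sigma.ι E.X i, fun i => by
          simp [PreZeroHypercover.singleton]⟩
    · intro x
      obtain ⟨i, y, rfl⟩ := hsurj x
      refine ⟨PUnit.unit, Sigma.ι E.X i y, ?_⟩
      change (Sigma.desc E.f) ((Sigma.ι E.X i) y) = (E.f i) y
      rw [← Scheme.Hom.comp_apply, Sigma.ι_desc]
    · intro _
      exact IsZariskiLocalAtSource.sigmaDesc hflat
  · rintro ⟨hqc, hsurj, hflat⟩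
    have hflat' : Flat (Sigma.desc E.f) := hflat PUnit.unit
    refine ⟨?_, ?_, ?_⟩
    · have hb : QuasiCompactCover ((PreZeroHypercover.singleton.{u} (Sigma.desc E.f)).bind
          fun _ => (sigmaOpenCover E.X).toPreZeroHypercover) :=
        @QuasiCompactCover.instBindScheme _ (PreZeroHypercover.singleton.{u} (Sigma.desc E.f)) hqc
          (fun _ => (sigmaOpenCover E.X).toPreZeroHypercover) (fun _ => inferInstance)
      exact QuasiCompactCover.of_hom (𝒱 := (PreZeroHypercover.singleton.{u} (Sigma.desc E.f)).bind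
          fun _ => (sigmaOpenCover E.X).toPreZeroHypercover)
        ⟨fun ij => ij.2, fun ij => 𝟙 _, fun ij => by
          change 𝟙 (E.X ij.2) ≫ E.f ij.2 = Sigma.ι E.X ij.2 ≫ Sigma.desc E.f
          rw [Category.id_comp, Sigma.ι_desc]⟩
    · intro x
      obtain ⟨_, y, rfl⟩ := hsurj x
      obtain ⟨i, z, rfl⟩ := (sigmaOpenCover E.X).exists_eq y
      refine ⟨i, z, ?_⟩
      change (E.f i) z = (Sigma.desc E.f) ((Sigma.ι E.X i) z)
      rw [← Scheme.Hom.comp_apply, Sigma.ι_desc]
    · intro i
      have h : E.f i = Sigma.ι E.X i ≫ Sigma.desc E.f := by simp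
      rw [h]
      infer_instance

end Groth.Agent.S7511
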