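import Groth.Statements.S7512
import Mathlib

set_option autoImplicit false
universe w u
open HTop

namespace Groth.Agent.S7512

open CategoryTheory CategoryTheory.Limits AlgebraicGeometry in
lemma mem_fpqc_iff {T : Scheme.{u}} (R : Presieve T) :
    R ∈ Scheme.fpqcPrecoverage T ↔
      R ∈ Scheme.qcPrecoverage T ∧ R ∈ Scheme.precoverage @Flat T := by
  unfold Scheme.fpqcPrecoverage
  exact Iff.rfl

open CategoryTheory CategoryTheory.Limits AlgebraicGeometry in
/-- Let {f_i : T_i -> T} be a family of flat morphisms of schemes. Assume that for every affine scheme Z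
and every morphism h : Z -> T there is a standard fpqc covering of Z (a finite family of flat
morphisms Z_j -> Z with Z_j affine whose images cover Z) refining the family of base changes {T_i
x_T Z -> Z} (every Z_j -> Z factors through some T_i compatibly with h). Then {f_i : T_i -> T} is an
fpqc covering (in Mathlib's sense). -/
theorem result {T : Scheme.{u}} (E : PreZeroHypercover.{w} T) (hflat : ∀ i, Flat (E.f i)) (href : ∀ (Z : Scheme.{u}) [IsAffine Z] (h : Z ⟶ T), ∃ F : PreZeroHypercover.{0} Z, Finite F.I₀ ∧ (∀ j, IsAffine (F.X j)) ∧ (∀ j, Flat (F.f j)) ∧ (∀ z : Z, ∃ (j : F.I₀) (x : F.X j), F.f j x = z) ∧ HTop.RefinesOver h F E) : E.presieve₀ ∈ Scheme.fpqcPrecoverage T := by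
  rw [mem_fpqc_iff, Scheme.presieve₀_mem_qcPrecoverage_iff, Scheme.presieve₀_mem_precoverage_iff]
  refine ⟨⟨fun {U} hU => ?_⟩, ?_, hflat⟩
  · have hUaff : IsAffine (U : Scheme.{u}) := hU
    obtain ⟨F, hFfin, hFaff, -, hFsurj, href'⟩ := href U U.ι
    choose a t ht using href'
    refine IsCompactOpenCovered.of_comp (f := fun i => (E.f i : E.X i → T))
      (g := fun j => ((F.f j ≫ U.ι : F.X j ⟶ T) : F.X j → T)) (a := a)
      (fun j => (t j : F.X j → E.X (a j))) (fun j => (t j).continuous) ?_
      (fun i => (E.f i).continuous) U.2 ?_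
    · intro j
      funext y
      change (F.f j ≫ U.ι) y = (E.f (a j)) ((t j) y)
      rw [← ht j, Scheme.Hom.comp_apply]
    · refine IsCompactOpenCovered.of_finite (κ := F.I₀) id (fun j => ⊤) (fun j => ?_) ?_
      · have := hFaff j
        exact isCompact_univ
      · ext x
        constructor
        · intro hx
          obtain ⟨j, hx⟩ := Set.mem_iUnion.mp hx
          obtain ⟨y, -, rfl⟩ := hx
          have : (F.f j ≫ U.ι) y ∈ Set.range U.ι := by
            rw [Scheme.Hom.comp_apply]
            exact ⟨_, rfl⟩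
          rwa [Scheme.Opens.range_ι] at this
        · intro hx
          have hx' : x ∈ Set.range U.ι := by rw [Scheme.Opens.range_ι]; exact hx
          obtain ⟨z, rfl⟩ := hx'
          obtain ⟨j, y, rfl⟩ := hFsurj z
          refine Set.mem_iUnion.mpr ⟨j, y, trivial, ?_⟩
          change (F.f j ≫ U.ι) y = _
          rw [Scheme.Hom.comp_apply]
  · intro x
    obtain ⟨U, hU, hxU⟩ : ∃ U : T.Opens, IsAffineOpen U ∧ x ∈ U := by
      obtain ⟨U, hU, hxU, -⟩ := TopologicalSpace.Opens.isBasis_iff_nbhd.mp T.isBasis_affineOpens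
        (TopologicalSpace.Opens.mem_top x)
      exact ⟨U, hU, hxU⟩
    have hUaff : IsAffine (U : Scheme.{u}) := hU
    obtain ⟨F, -, -, -, hFsurj, href'⟩ := href U U.ι
    have hx' : x ∈ Set.range U.ι := by rw [Scheme.Opens.range_ι]; exact hxU
    obtain ⟨z, rfl⟩ := hx'
    obtain ⟨j, y, rfl⟩ := hFsurj z
    obtain ⟨i, h, hh⟩ := href' j
    refine ⟨i, h y, ?_⟩
    rw [← Scheme.Hom.comp_apply, hh, Scheme.Hom.comp_apply]

end Groth.Agent.S7512
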