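import Groth.Statements.S7521
import Groth.Agent.S7483
import Groth.Agent.H18.FinPtsAmple

set_option autoImplicit false
open CategoryTheory CategoryTheory.Limits AlgebraicGeometry
universe u
open Desc

namespace Groth.Agent.S7521


/-- Let p : X -> Y be a surjective finite locally free morphism and V a scheme over X which has an
invertible module ample relative to V -> X. Then every descent datum on V relative to p is
effective. (A quasi-projective morphism V -> X, in particular a projective one, carries such a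
module.) (Descent data are taken in functor-of-points form.) -/
theorem result {X Y : Scheme.{u}} (p : X ⟶ Y) [Surjective p] [IsFinite p] [Flat p] [LocallyOfFinitePresentation p] (D : Desc.SchDD p) (L : D.obj.left.Modules) (hL : RelAmple.IsRelAmple D.obj.hom L) : ∃ W : Over Y, Nonempty ((Desc.toDD p).obj W ≅ D) := by
  classical
  refine Groth.Agent.S7483.result p D (fun y s hs => ?_)
  obtain ⟨hqc, hamp⟩ := hL
  obtain ⟨Y₀, hY₀aff, hyY₀⟩ : ∃ Y₀ : Y.Opens, IsAffineOpen Y₀ ∧ y ∈ Y₀ := by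
    obtain ⟨_, ⟨Y₀, hY₀, rfl⟩, hy, -⟩ :=
      Y.isBasis_affineOpens.exists_subset_of_mem_open (Set.mem_univ y) isOpen_univ
    exact ⟨Y₀, hY₀, hy⟩
  have hX₀ : IsAffineOpen (p ⁻¹ᵁ Y₀) := hY₀aff.preimage p
  have hA := hamp ⟨p ⁻¹ᵁ Y₀, hX₀⟩
  have hsV₀ : ∀ v ∈ s, v ∈ D.obj.hom ⁻¹ᵁ (p ⁻¹ᵁ Y₀) := fun v hv => by
    change p (D.obj.hom v) ∈ Y₀
    rw [hs v hv]
    exact hyY₀
  obtain ⟨W₀, haff, hE, -⟩ := Groth.Agent.H18.FinPtsAmple.exists_affine_of_finite hA ⊤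
    ((D.obj.hom ⁻¹ᵁ (p ⁻¹ᵁ Y₀)).ι ⁻¹' (↑s : Set D.obj.left))
    (s.finite_toSet.preimage (Set.injOn_of_injective
      (D.obj.hom ⁻¹ᵁ (p ⁻¹ᵁ Y₀)).ι.isOpenEmbedding.injective)) (fun _ _ => trivial)
  refine ⟨(D.obj.hom ⁻¹ᵁ (p ⁻¹ᵁ Y₀)).ι ''ᵁ W₀, haff.image_of_isOpenImmersion _, fun v hv => ?_⟩
  exact ⟨⟨v, hsV₀ v hv⟩, hE (show (D.obj.hom ⁻¹ᵁ (p ⁻¹ᵁ Y₀)).ι ⟨v, hsV₀ v hv⟩ ∈ (↑s : Set _) from
    Finset.mem_coe.mpr hv), rfl⟩

end Groth.Agent.S7521
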