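import Groth.Statements.S7522
import Mathlib

set_option autoImplicit false
universe u
open CategoryTheory CategoryTheory.Limits AlgebraicGeometry
open Grpd

namespace Groth.Agent.S7522

lemma nonempty_spec_residueField (V : Scheme.{u}) (p : V) :
    Nonempty ↥(Spec (V.residueField p)) :=
  ⟨(⟨⊥, Ideal.isPrime_bot⟩ : PrimeSpectrum (V.residueField p))⟩

/-- Let S be a scheme, U a scheme over S and j : R -> U x_S U a pre-equivalence relation, that is a
morphism such that for every scheme T the image of the T-points of R in pairs of T-points of U is an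
equivalence relation; write t = pr_0 ∘ j and s = pr_1 ∘ j. Then the relation on the points of U in
which x ∼ y when some point r of R has t(r) = x and s(r) = y is an equivalence relation. -/
theorem result {S U R : Scheme.{u}} (pU : U ⟶ S) (j : R ⟶ pullback pU pU) (hj : ∀ T : Scheme.{u}, Equivalence (fun a b : T ⟶ U => ∃ r : T ⟶ R, r ≫ j ≫ pullback.fst pU pU = a ∧ r ≫ j ≫ pullback.snd pU pU = b)) : Equivalence (fun x y : ↥U => ∃ r : R, (j ≫ pullback.fst pU pU) r = x ∧ (j ≫ pullback.snd pU pU) r = y) := by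
  have key : ∀ (T : Scheme.{u}) (_ : Nonempty T) (a b : T ⟶ U) (x y : U),
      (∀ p : T, a p = x) → (∀ p : T, b p = y) →
      (∃ r : T ⟶ R, r ≫ j ≫ pullback.fst pU pU = a ∧ r ≫ j ≫ pullback.snd pU pU = b) →
      ∃ r : R, (j ≫ pullback.fst pU pU) r = x ∧ (j ≫ pullback.snd pU pU) r = y := by
    rintro T ⟨p⟩ a b x y ha hb ⟨r, hra, hrb⟩
    refine ⟨r p, ?_, ?_⟩
    · rw [← ha p, ← hra]
      simp only [Scheme.Hom.comp_apply]
    · rw [← hb p, ← hrb]
      simp only [Scheme.Hom.comp_apply]
  refine ⟨?_, ?_, ?_⟩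
  · intro x
    exact key (Spec (U.residueField x)) (nonempty_spec_residueField U x)
      (U.fromSpecResidueField x) (U.fromSpecResidueField x) x x
      (fun p => U.fromSpecResidueField_apply x p) (fun p => U.fromSpecResidueField_apply x p)
      ((hj _).refl _)
  · rintro x y ⟨r, hrx, hry⟩
    have hρ : ∀ p, (R.fromSpecResidueField r) p = r := fun p => R.fromSpecResidueField_apply r p
    have h1 : ∃ r' : Spec (R.residueField r) ⟶ R,
        r' ≫ j ≫ pullback.fst pU pU = R.fromSpecResidueField r ≫ j ≫ pullback.fst pU pU ∧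
        r' ≫ j ≫ pullback.snd pU pU = R.fromSpecResidueField r ≫ j ≫ pullback.snd pU pU :=
      ⟨R.fromSpecResidueField r, rfl, rfl⟩
    have h2 := (hj _).symm h1
    refine key (Spec (R.residueField r)) (nonempty_spec_residueField R r) _ _ y x ?_ ?_ h2
    · intro p
      rw [Scheme.Hom.comp_apply, hρ, hry]
    · intro p
      rw [Scheme.Hom.comp_apply, hρ, hrx]
  · rintro x y z ⟨r₁, h1x, h1y⟩ ⟨r₂, h2y, h2z⟩
    obtain ⟨w, hw1, hw2⟩ := Scheme.Pullback.exists_preimage_pullback
      (f := j ≫ pullback.snd pU pU) (g := j ≫ pullback.fst pU pU) r₁ r₂ (h1y.trans h2y.symm)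
    have hω : ∀ p, ((pullback (j ≫ pullback.snd pU pU) (j ≫ pullback.fst pU pU)).fromSpecResidueField
        w) p = w := fun p => Scheme.fromSpecResidueField_apply w p
    set ω := (pullback (j ≫ pullback.snd pU pU) (j ≫ pullback.fst pU pU)).fromSpecResidueField w
      with hω_def
    have hcond : (ω ≫ pullback.fst (j ≫ pullback.snd pU pU) (j ≫ pullback.fst pU pU)) ≫
        j ≫ pullback.snd pU pU =
        (ω ≫ pullback.snd (j ≫ pullback.snd pU pU) (j ≫ pullback.fst pU pU)) ≫
        j ≫ pullback.fst pU pU := by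
      rw [Category.assoc, Category.assoc, pullback.condition]
    have h1 : ∃ r' : Spec ((pullback (j ≫ pullback.snd pU pU)
          (j ≫ pullback.fst pU pU)).residueField w) ⟶ R,
        r' ≫ j ≫ pullback.fst pU pU =
          (ω ≫ pullback.fst (j ≫ pullback.snd pU pU) (j ≫ pullback.fst pU pU)) ≫
            j ≫ pullback.fst pU pU ∧
        r' ≫ j ≫ pullback.snd pU pU =
          (ω ≫ pullback.fst (j ≫ pullback.snd pU pU) (j ≫ pullback.fst pU pU)) ≫
            j ≫ pullback.snd pU pU := ⟨_, rfl, rfl⟩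
    have h2 : ∃ r' : Spec ((pullback (j ≫ pullback.snd pU pU)
          (j ≫ pullback.fst pU pU)).residueField w) ⟶ R,
        r' ≫ j ≫ pullback.fst pU pU =
          (ω ≫ pullback.fst (j ≫ pullback.snd pU pU) (j ≫ pullback.fst pU pU)) ≫
            j ≫ pullback.snd pU pU ∧
        r' ≫ j ≫ pullback.snd pU pU =
          (ω ≫ pullback.snd (j ≫ pullback.snd pU pU) (j ≫ pullback.fst pU pU)) ≫
            j ≫ pullback.snd pU pU := ⟨_, hcond.symm, rfl⟩
    have h3 := (hj _).trans h1 h2
    refine key _ (nonempty_spec_residueField _ w) _ _ x z ?_ ?_ h3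
    · intro p
      rw [Scheme.Hom.comp_apply] at h1x
      simp only [Scheme.Hom.comp_apply]
      rw [hω, hw1, h1x]
    · intro p
      rw [Scheme.Hom.comp_apply] at h2z
      simp only [Scheme.Hom.comp_apply]
      rw [hω, hw2, h2z]

end Groth.Agent.S7522
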