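import Groth.Statements.S7527
import Groth.Agent.H38.Spectral

set_option autoImplicit false
universe u
open SpecSp

namespace Groth.Agent.S7527

/-- Let X be a spectral space and x, y ∈ X. Then either there is a third point specializing to both x
and y, or there are disjoint open neighbourhoods of x and of y. -/
theorem result {X : Type u} [TopologicalSpace X] [SpectralSpace X] (x y : X) :
    (∃ z : X, z ⤳ x ∧ z ⤳ y) ∨
    (∃ U V : Set X, IsOpen U ∧ IsOpen V ∧ x ∈ U ∧ y ∈ V ∧ Disjoint U V) := by
  classical
  by_cases h : ∃ U V : Set X, IsOpen U ∧ IsOpen V ∧ x ∈ U ∧ y ∈ V ∧ Disjoint U V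
  · exact Or.inr h
  · left
    push Not at h
    let ι := {U : Set X // IsOpen U ∧ IsCompact U ∧ x ∈ U} ⊕ {V : Set X // IsOpen V ∧ IsCompact V ∧ y ∈ V}
    let t : ι → Set X := fun i => match i with
      | Sum.inl U => U.1
      | Sum.inr V => V.1
    have ht : ∀ i, @IsClosed X (constructibleTopology X) (t i) := by
      rintro (U | V)
      · exact Groth.Agent.H38.isClosed_constr_of_isCompact_isOpen U.2.1 U.2.2.1
      · exact Groth.Agent.H38.isClosed_constr_of_isCompact_isOpen V.2.1 V.2.2.1
    have hfin : ∀ u : Finset ι, (⋂ i ∈ u, t i).Nonempty := by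
      intro u
      let A : Set X := ⋂ i ∈ u.toLeft, (i : Set X)
      let B : Set X := ⋂ i ∈ u.toRight, (i : Set X)
      have hA : IsOpen A := isOpen_biInter_finset fun i _ => i.2.1
      have hB : IsOpen B := isOpen_biInter_finset fun i _ => i.2.1
      have hxA : x ∈ A := by
        simp only [A, Set.mem_iInter]
        exact fun i _ => i.2.2.2
      have hyB : y ∈ B := by
        simp only [B, Set.mem_iInter]
        exact fun i _ => i.2.2.2
      have hAB : ¬ Disjoint A B := h A B hA hB hxA hyB
      rw [Set.not_disjoint_iff] at hAB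
      obtain ⟨z, hzA, hzB⟩ := hAB
      refine ⟨z, ?_⟩
      simp only [A, B, Set.mem_iInter] at hzA hzB ⊢
      rintro (U | V) hi
      · exact hzA U (by simpa using hi)
      · exact hzB V (by simpa using hi)
    obtain ⟨z, hz⟩ := Groth.Agent.H38.nonempty_iInter_of_isClosed_constr t ht hfin
    simp only [Set.mem_iInter] at hz
    refine ⟨z, ?_, ?_⟩
    · rw [specializes_iff_forall_open]
      intro s hs hxs
      obtain ⟨V, ⟨hVo, hVc⟩, hxV, hVs⟩ :=
        PrespectralSpace.isTopologicalBasis.exists_subset_of_mem_open hxs hs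
      exact hVs (hz (Sum.inl ⟨V, hVo, hVc, hxV⟩))
    · rw [specializes_iff_forall_open]
      intro s hs hys
      obtain ⟨V, ⟨hVo, hVc⟩, hyV, hVs⟩ :=
        PrespectralSpace.isTopologicalBasis.exists_subset_of_mem_open hys hs
      exact hVs (hz (Sum.inr ⟨V, hVo, hVc, hyV⟩))

end Groth.Agent.S7527
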