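import Groth.Statements.S7530
import Groth.Agent.H38.Spectral
import Mathlib.Topology.Homeomorph.Lemmas

set_option autoImplicit false
universe u
open SpecSp

namespace Groth.Agent.S7530

/-- Let f : X → Y be a map of spectral spaces which is spectral and bijective, and assume that
generalizations lift along f or that specializations lift along f. Then f is a homeomorphism. -/
theorem result {X Y : Type u} [TopologicalSpace X] [TopologicalSpace Y]
    [SpectralSpace X] [SpectralSpace Y] (f : X → Y) (hf : IsSpectralMap f) (hb : Function.Bijective f)
    (hlift : GeneralizingMap f ∨ SpecializingMap f) :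
    IsHomeomorph f := by
  rcases hlift with hg | hs
  · refine ⟨hf.continuous, fun U hU => ?_, hb⟩
    apply Groth.Agent.H38.isOpen_of_isOpen_constr_of_stableUnderGeneralization
    · rw [← @isClosed_compl_iff _ (constructibleTopology Y), ← Set.image_compl_eq hb]
      exact Groth.Agent.H38.isClosed_constr_image hf
        (Groth.Agent.H38.isClosed_constr_of_isClosed hU.isClosed_compl)
    · exact hg.stableUnderGeneralization_image hU.stableUnderGeneralization
  · rw [isHomeomorph_iff_continuous_isClosedMap_bijective]
    refine ⟨hf.continuous, fun Z hZ => ?_, hb⟩
    apply Groth.Agent.H38.isClosed_of_isClosed_constr_of_stableUnderSpecialization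
    · exact Groth.Agent.H38.isClosed_constr_image hf
        (Groth.Agent.H38.isClosed_constr_of_isClosed hZ)
    · exact hs.stableUnderSpecialization_image hZ.stableUnderSpecialization

end Groth.Agent.S7530
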