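import Groth.Statements.S7536
import Groth.Agent.H38.SpectralLimit

set_option autoImplicit false
universe u
open CategoryTheory CategoryTheory.Limits
open SpecSp

namespace Groth.Agent.S7536

/-- Let j ↦ X_j be a cofiltered diagram of spectral spaces with spectral transition maps and X its limit
with projections p_j. For every constructible E ⊆ X there are an object i and a constructible E_i ⊆
X_i with p_i⁻¹(E_i) = E; if E is open, resp. closed, then E_i may be chosen open, resp. closed. -/
theorem result {J : Type u} [SmallCategory J] [IsCofiltered J] (F : J ⥤ TopCat.{u})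
    (hF : ∀ j, SpectralSpace (F.obj j))
    (hFm : ∀ {i j : J} (a : i ⟶ j), IsSpectralMap (F.map a : F.obj i → F.obj j))
    (c : Cone F) (hc : IsLimit c)
    (E : Set c.pt) (hE : Topology.IsConstructible E) :
    (∃ (i : J) (Ei : Set (F.obj i)), Topology.IsConstructible Ei ∧ c.π.app i ⁻¹' Ei = E) ∧
    (IsOpen E → ∃ (i : J) (Ei : Set (F.obj i)), Topology.IsConstructible Ei ∧ IsOpen Ei ∧ c.π.app i ⁻¹' Ei = E) ∧
    (IsClosed E → ∃ (i : J) (Ei : Set (F.obj i)), Topology.IsConstructible Ei ∧ IsClosed Ei ∧ c.π.app i ⁻¹' Ei = E) := by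
  have hsp : SpectralSpace c.pt := Groth.Agent.H38.spectralSpace_limit hc hF hFm
  have key : ∀ E : Set c.pt, Topology.IsConstructible E → IsOpen E →
      ∃ (i : J) (Ei : Set (F.obj i)), Topology.IsConstructible Ei ∧ IsOpen Ei ∧
        c.π.app i ⁻¹' Ei = E := by
    intro E hE hEo
    have hEc : IsCompact E := Groth.Agent.H38.isCompact_of_isClosed_constr
      (Groth.Agent.H38.isClopen_constr_of_isConstructible hE).1
    obtain ⟨i, Ui, hUio, hUic, hUi⟩ :=
      Groth.Agent.H38.exists_preimage_eq_of_isCompact_isOpen hc hF hFm E hEo hEc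
    have := hF i
    exact ⟨i, Ui, hUic.isConstructible hUio, hUio, hUi⟩
  refine ⟨Groth.Agent.H38.exists_preimage_eq_of_isConstructible hc hF hFm E hE,
    fun hEo => key E hE hEo, fun hEc => ?_⟩
  obtain ⟨i, Ei, hEi, hEio, hEi'⟩ := key Eᶜ hE.compl hEc.isOpen_compl
  refine ⟨i, Eiᶜ, hEi.compl, hEio.isClosed_compl, ?_⟩
  rw [Set.preimage_compl, hEi', compl_compl]

end Groth.Agent.S7536
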