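import Groth.Statements.S7538
import Groth.Agent.H38.SpectralLimit

set_option autoImplicit false
universe u
open CategoryTheory CategoryTheory.Limits
open SpecSp

namespace Groth.Agent.S7538

/-- Let j ↦ X_j be a cofiltered diagram of spectral spaces with spectral transition maps f_a and X its
limit with projections p_j. (1) Any quasi-compact open U ⊆ X is p_i⁻¹(U_i) for some i and some
quasi-compact open U_i ⊆ X_i. (2) If U_i ⊆ X_i and U_j ⊆ X_j are quasi-compact opens with p_i⁻¹(U_i)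
⊆ p_j⁻¹(U_j), there are k and a : k → i, b : k → j with f_a⁻¹(U_i) ⊆ f_b⁻¹(U_j). (3) If U_i and
finitely many U_{l,i} are quasi-compact opens of X_i with p_i⁻¹(U_i) = ⋃_l p_i⁻¹(U_{l,i}), then
f_a⁻¹(U_i) = ⋃_l f_a⁻¹(U_{l,i}) for some a : j → i. (4) The same with intersections. -/
theorem result {J : Type u} [SmallCategory J] [IsCofiltered J] (F : J ⥤ TopCat.{u})
    (hF : ∀ j, SpectralSpace (F.obj j))
    (hFm : ∀ {i j : J} (a : i ⟶ j), IsSpectralMap (F.map a : F.obj i → F.obj j))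
    (c : Cone F) (hc : IsLimit c) :
    (∀ U : Set c.pt, IsOpen U → IsCompact U →
      ∃ (i : J) (Ui : Set (F.obj i)), IsOpen Ui ∧ IsCompact Ui ∧ c.π.app i ⁻¹' Ui = U) ∧
    (∀ (i j : J) (Ui : Set (F.obj i)) (Uj : Set (F.obj j)),
      IsOpen Ui → IsCompact Ui → IsOpen Uj → IsCompact Uj →
      c.π.app i ⁻¹' Ui ⊆ c.π.app j ⁻¹' Uj →
      ∃ (k : J) (a : k ⟶ i) (b : k ⟶ j), F.map a ⁻¹' Ui ⊆ F.map b ⁻¹' Uj) ∧
    (∀ (i : J) (n : ℕ) (Ui : Set (F.obj i)) (V : Fin n → Set (F.obj i)),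
      IsOpen Ui → IsCompact Ui → (∀ l, IsOpen (V l) ∧ IsCompact (V l)) →
      (c.π.app i ⁻¹' Ui = ⋃ l, c.π.app i ⁻¹' V l →
        ∃ (j : J) (a : j ⟶ i), F.map a ⁻¹' Ui = ⋃ l, F.map a ⁻¹' V l) ∧
      (c.π.app i ⁻¹' Ui = ⋂ l, c.π.app i ⁻¹' V l →
        ∃ (j : J) (a : j ⟶ i), F.map a ⁻¹' Ui = ⋂ l, F.map a ⁻¹' V l)) := by
  refine ⟨fun U hUo hUc =>
    Groth.Agent.H38.exists_preimage_eq_of_isCompact_isOpen hc hF hFm U hUo hUc, ?_, ?_⟩
  · intro i j Ui Uj hUio hUic hUjo hUjc hsub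
    have := hF i
    have := hF j
    let k₀ := IsCofiltered.min i j
    let a₀ : k₀ ⟶ i := IsCofiltered.minToLeft i j
    let b₀ : k₀ ⟶ j := IsCofiltered.minToRight i j
    have hE : @IsClosed _ (constructibleTopology (F.obj k₀)) (F.map a₀ ⁻¹' Ui) :=
      Groth.Agent.H38.isClosed_constr_of_isCompact_isOpen (hUio.preimage (hFm a₀).continuous)
        ((hFm a₀).isCompact_preimage_of_isOpen hUio hUic)
    have hF' : @IsOpen _ (constructibleTopology (F.obj k₀)) (F.map b₀ ⁻¹' Uj) :=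
      ((hFm b₀).isCompact_preimage_of_isOpen hUjo hUjc).isOpen_constructibleTopology_of_isOpen
        (hUjo.preimage (hFm b₀).continuous)
    obtain ⟨k, a', ha'⟩ := Groth.Agent.H38.exists_hom_preimage_subset hc hF hFm k₀ _ _ hE hF' (by
      rw [Groth.Agent.H38.preimage_proj_map, Groth.Agent.H38.preimage_proj_map]
      exact hsub)
    refine ⟨k, a' ≫ a₀, a' ≫ b₀, ?_⟩
    intro y hy
    have h1 : y ∈ F.map a' ⁻¹' (F.map a₀ ⁻¹' Ui) := by
      change F.map a₀ (F.map a' y) ∈ Ui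
      have : F.map (a' ≫ a₀) y ∈ Ui := hy
      rwa [F.map_comp] at this
    have h2 := ha' h1
    change F.map (a' ≫ b₀) y ∈ Uj
    rw [F.map_comp]
    exact h2
  · intro i n Ui V hUio hUic hV
    have := hF i
    have hUi : @IsClopen _ (constructibleTopology (F.obj i)) Ui :=
      Groth.Agent.H38.isClopen_constr_of_isCompact_isOpen hUio hUic
    have hVl : ∀ l, @IsClopen _ (constructibleTopology (F.obj i)) (V l) := fun l =>
      Groth.Agent.H38.isClopen_constr_of_isCompact_isOpen (hV l).1 (hV l).2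
    constructor
    · intro h
      have hU' : @IsClopen _ (constructibleTopology (F.obj i)) (⋃ l, V l) :=
        @isClopen_iUnion_of_finite _ (constructibleTopology (F.obj i)) _ _ _ hVl
      obtain ⟨j, a, ha⟩ := Groth.Agent.H38.exists_hom_preimage_eq hc hF hFm i Ui (⋃ l, V l) hUi hU'
        (by rw [h, Set.preimage_iUnion])
      exact ⟨j, a, by rw [ha, Set.preimage_iUnion]⟩
    · intro h
      have hU' : @IsClopen _ (constructibleTopology (F.obj i)) (⋂ l, V l) :=
        @isClopen_iInter_of_finite _ (constructibleTopology (F.obj i)) _ _ _ hVl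
      obtain ⟨j, a, ha⟩ := Groth.Agent.H38.exists_hom_preimage_eq hc hF hFm i Ui (⋂ l, V l) hUi hU'
        (by rw [h, Set.preimage_iInter])
      exact ⟨j, a, by rw [ha, Set.preimage_iInter]⟩

end Groth.Agent.S7538
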