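import Groth.Statements.S7540
import Groth.Agent.H38.Spectral

set_option autoImplicit false
universe u
open SpecSp

namespace Groth.Agent.S7540

/-- Let X be a spectral space, I a nonempty index set and U_i ⊆ X quasi-compact opens such that for all
i, j some U_k lies in U_i ∩ U_j; put W = ⋂ U_i. Then every open subset of X containing W contains
some U_i. The published statement also asserts that W is spectral and is the limit of the U_i; this
row states the neighbourhood property. -/
theorem result {X : Type u} [TopologicalSpace X] [SpectralSpace X]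
    {I : Type u} [Nonempty I] (U : I → Set X) (hU : ∀ i, IsOpen (U i) ∧ IsCompact (U i))
    (hdir : ∀ i j, ∃ k, U k ⊆ U i ∩ U j) :
    ∀ V : Set X, IsOpen V → (⋂ i, U i) ⊆ V → ∃ i, U i ⊆ V := by
  classical
  intro V hV hWV
  by_contra hcon
  push Not at hcon
  -- the sets `U i \ V` are constructibly closed with the finite intersection property
  have hne : ∀ i, (U i \ V).Nonempty := fun i => Set.nonempty_of_not_subset (hcon i)
  have hcl : ∀ i, @IsClosed X (constructibleTopology X) (U i \ V) := fun i =>
    @IsClosed.sdiff X _ _ (constructibleTopology X)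
      (Groth.Agent.H38.isClosed_constr_of_isCompact_isOpen (hU i).1 (hU i).2)
      (Groth.Agent.H38.isOpen_constr_of_isOpen hV)
  have hfin : ∀ u : Finset I, ∃ k, U k ⊆ ⋂ i ∈ u, U i := by
    intro u
    induction u using Finset.induction_on with
    | empty => exact ⟨Classical.arbitrary I, by simp⟩
    | insert a s _ ih =>
      obtain ⟨k, hk⟩ := ih
      obtain ⟨l, hl⟩ := hdir a k
      refine ⟨l, ?_⟩
      intro x hx
      simp only [Finset.mem_insert, Set.mem_iInter]
      rintro i (rfl | hi)
      · exact (hl hx).1
      · have := hk (hl hx).2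
        simp only [Set.mem_iInter] at this
        exact this i hi
  obtain ⟨x, hx⟩ := Groth.Agent.H38.nonempty_iInter_of_isClosed_constr (fun i => U i \ V) hcl
    (fun u => by
      obtain ⟨k, hk⟩ := hfin u
      obtain ⟨y, hy⟩ := hne k
      refine ⟨y, ?_⟩
      have := hk hy.1
      simp only [Set.mem_iInter] at this ⊢
      exact fun i hi => ⟨this i hi, hy.2⟩)
  simp only [Set.mem_iInter] at hx
  have hxW : x ∈ ⋂ i, U i := by
    simp only [Set.mem_iInter]
    exact fun i => (hx i).1
  exact (hx (Classical.arbitrary I)).2 (hWV hxW)

end Groth.Agent.S7540
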