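import Groth.Statements.S7542

set_option autoImplicit false
universe u
open ConstrTop

namespace Groth.Agent.S7542

/-- Let X be a topological space such that the quasi-compact opens form a basis for the topology, and
let T ⊆ X be retrocompact in X. Then for any constructible subset E ⊆ X, the intersection E ∩ T is
constructible in T (with the induced topology). -/
theorem result {X : Type u} [TopologicalSpace X] [PrespectralSpace X]
    (T : Set X) (hT : IsRetrocompact T) (E : Set X) (hE : Topology.IsConstructible E) :
    Topology.IsConstructible ((Subtype.val : T → X) ⁻¹' E) := by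
  refine hE.preimage continuous_subtype_val fun s hso hsr => ?_
  intro W hWc hWo
  -- a compact open `W` of `T` is the trace of a compact open `O'` of `X`
  obtain ⟨O, hO, rfl⟩ := isOpen_induced_iff.mp hWo
  have hK : IsCompact ((Subtype.val : T → X) '' (Subtype.val ⁻¹' O)) :=
    hWc.image continuous_subtype_val
  obtain ⟨O', hO'c, hO'o, hKO', hO'O⟩ :=
    PrespectralSpace.exists_isCompact_and_isOpen_between hK hO (by
      rintro _ ⟨x, hx, rfl⟩
      exact hx)
  have hW : (Subtype.val : T → X) ⁻¹' O = Subtype.val ⁻¹' O' := by
    apply Set.Subset.antisymm
    · intro x hx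
      exact hKO' ⟨x, hx, rfl⟩
    · exact Set.preimage_mono hO'O
  rw [hW, ← Set.preimage_inter, Subtype.isCompact_iff, Subtype.image_preimage_coe]
  exact hT (hsr hO'c hO'o) (hso.inter hO'o)

end Groth.Agent.S7542
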