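import Groth.Statements.S7544

set_option autoImplicit false
universe u
open ConstrTop

namespace Groth.Agent.S7544

/-- Let X be a quasi-compact topological space whose quasi-compact opens form a basis and are closed
under pairwise intersection. Take T ⊆ X to be locally closed, quasi-compact, and with retrocompact
complement. Then T is constructible in X. -/
theorem result {X : Type u} [TopologicalSpace X]
    [CompactSpace X] [PrespectralSpace X] [QuasiSeparatedSpace X]
    (T : Set X) (hT : IsLocallyClosed T) (hTc : IsCompact T) (hTr : IsRetrocompact Tᶜ) :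
    Topology.IsConstructible T := by
  obtain ⟨O, C, hO, hC, rfl⟩ := hT
  obtain ⟨U, hUc, hUo, hTU, hUO⟩ :=
    PrespectralSpace.exists_isCompact_and_isOpen_between hTc hO Set.inter_subset_left
  -- `V = U \ C` is open, and compact by retrocompactness of the complement
  have hV : U \ C = (O ∩ C)ᶜ ∩ U := by
    ext x
    simp only [Set.mem_sdiff, Set.mem_inter_iff, Set.mem_compl_iff, not_and]
    constructor
    · rintro ⟨hxU, hxC⟩
      exact ⟨fun _ => hxC, hxU⟩
    · rintro ⟨h, hxU⟩
      exact ⟨hxU, h (hUO hxU)⟩
  have hVo : IsOpen (U \ C) := hUo.sdiff hC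
  have hVc : IsCompact (U \ C) := by
    rw [hV]
    exact hTr hUc hUo
  have hT_eq : O ∩ C = U \ (U \ C) := by
    ext x
    simp only [Set.mem_inter_iff, Set.mem_sdiff, not_and, not_not]
    constructor
    · rintro ⟨hxO, hxC⟩
      exact ⟨hTU ⟨hxO, hxC⟩, fun _ => hxC⟩
    · rintro ⟨hxU, h⟩
      exact ⟨hUO hxU, h hxU⟩
  rw [hT_eq]
  exact (hUc.isConstructible hUo).sdiff (hVc.isConstructible hVo)

end Groth.Agent.S7544
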