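import Groth.Statements.S7546

set_option autoImplicit false
universe u
open ConstrTop

namespace Groth.Agent.S7546

/-- Let X be a topological space, Z ⊆ X irreducible and E ⊆ X a finite union of locally closed subsets
(for instance a constructible set). Then E ∩ Z is dense in Z if and only if E ∩ Z contains a subset
of the form U ∩ Z, U open in X, which is dense in Z. If moreover ξ ∈ Z is a generic point of Z,
these conditions are equivalent to ξ ∈ E. -/
theorem result {X : Type u} [TopologicalSpace X] (Z : Set X) (hZ : IsIrreducible Z)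
    {n : ℕ} (L : Fin n → Set X) (hL : ∀ i, IsLocallyClosed (L i)) (E : Set X) (hE : E = ⋃ i, L i) :
    (Z ⊆ closure (E ∩ Z) ↔ ∃ U : Set X, IsOpen U ∧ U ∩ Z ⊆ E ∧ Z ⊆ closure (U ∩ Z)) ∧
    (∀ ξ : X, ξ ∈ Z → Z ⊆ closure {ξ} → (Z ⊆ closure (E ∩ Z) ↔ ξ ∈ E)) := by
  classical
  have part1 : Z ⊆ closure (E ∩ Z) ↔ ∃ U : Set X, IsOpen U ∧ U ∩ Z ⊆ E ∧ Z ⊆ closure (U ∩ Z) := by
    constructor
    · intro h
      -- `Z` is contained in one of the finitely many closed sets `closure (L i ∩ Z)`
      have hcov : Z ⊆ ⋃₀ ((Finset.univ.image fun i => closure (L i ∩ Z) : Finset (Set X)) : Set (Set X)) := by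
        intro z hz
        have hz' := h hz
        rw [hE, Set.iUnion_inter, closure_iUnion_of_finite] at hz'
        obtain ⟨i, hi⟩ := Set.mem_iUnion.mp hz'
        exact Set.mem_sUnion.mpr ⟨closure (L i ∩ Z), by simp, hi⟩
      obtain ⟨c, hc, hZc⟩ := isIrreducible_iff_sUnion_isClosed.mp hZ _ (by
        intro c hc
        simp only [Finset.mem_image, Finset.mem_univ, true_and] at hc
        obtain ⟨i, rfl⟩ := hc
        exact isClosed_closure) hcov
      simp only [Finset.mem_image, Finset.mem_univ, true_and] at hc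
      obtain ⟨i, rfl⟩ := hc
      obtain ⟨O, C, hO, hC, hLi⟩ := hL i
      have hZC : Z ⊆ C := by
        refine hZc.trans (closure_minimal ?_ hC)
        rw [hLi]
        exact fun x hx => hx.1.2
      have hOZ : O ∩ Z = L i ∩ Z := by
        rw [hLi]
        ext x
        simp only [Set.mem_inter_iff]
        constructor
        · rintro ⟨hxO, hxZ⟩
          exact ⟨⟨hxO, hZC hxZ⟩, hxZ⟩
        · rintro ⟨⟨hxO, _⟩, hxZ⟩
          exact ⟨hxO, hxZ⟩
      refine ⟨O, hO, ?_, ?_⟩
      · rw [hOZ, hE]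
        exact fun x hx => Set.mem_iUnion.mpr ⟨i, hx.1⟩
      · rw [hOZ]
        exact hZc
    · rintro ⟨U, _, hUE, hZU⟩
      exact hZU.trans (closure_mono fun x hx => ⟨hUE hx, hx.2⟩)
  refine ⟨part1, fun ξ hξZ hξ => ?_⟩
  constructor
  · intro h
    obtain ⟨U, hU, hUE, hZU⟩ := part1.mp h
    obtain ⟨z₀, hz₀⟩ := hZ.1
    obtain ⟨z, hzU, hzU', hzZ⟩ : ∃ z, z ∈ U ∧ z ∈ U ∧ z ∈ Z := by
      have := hZU hz₀
      by_contra hcon
      push Not at hcon
      have hempty : U ∩ Z = ∅ := by
        ext x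
        simp only [Set.mem_inter_iff, Set.mem_empty_iff_false, iff_false, not_and]
        exact fun hxU => hcon x hxU hxU
      rw [hempty, closure_empty] at this
      exact this
    have hsp : ξ ⤳ z := specializes_iff_mem_closure.mpr (hξ hzZ)
    exact hUE ⟨hsp.mem_open hU hzU, hξZ⟩
  · intro hξE
    exact hξ.trans (closure_mono (Set.singleton_subset_iff.mpr ⟨hξE, hξZ⟩))

end Groth.Agent.S7546
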