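import Groth.Statements.S7547

set_option autoImplicit false
universe u
open PtTop

namespace Groth.Agent.S7547

/-- Let X be a Kolmogorov topological space whose quasi-compact opens form a basis for the topology. If
X is not Jacobson, there is a point x ∈ X which is not closed but such that {x} is locally closed. -/
theorem result {X : Type u} [TopologicalSpace X]
    [T0Space X] [PrespectralSpace X] (hX : ¬ JacobsonSpace X) :
    ∃ x : X, ¬ IsClosed ({x} : Set X) ∧ IsLocallyClosed ({x} : Set X) := by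
  rw [jacobsonSpace_iff] at hX
  push Not at hX
  obtain ⟨Z, hZ, hne⟩ := hX
  have hsub : closure (Z ∩ closedPoints X) ⊆ Z :=
    hZ.closure_subset_iff.mpr Set.inter_subset_left
  obtain ⟨z, hzZ, hz⟩ : ∃ z ∈ Z, z ∉ closure (Z ∩ closedPoints X) := by
    by_contra h
    push Not at h
    exact hne (subset_antisymm hsub h)
  obtain ⟨U', ⟨hU'o, hU'c⟩, hzU', hU'⟩ :=
    PrespectralSpace.isTopologicalBasis.exists_subset_of_mem_open
      (show z ∈ (closure (Z ∩ closedPoints X))ᶜ from hz) isClosed_closure.isOpen_compl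
  have hK : IsCompact (Z ∩ U') := hU'c.inter_left hZ
  haveI : CompactSpace ↥(Z ∩ U') := isCompact_iff_compactSpace.mp hK
  obtain ⟨x, -, hx⟩ := (isClosed_univ (X := ↥(Z ∩ U'))).exists_closed_singleton
    ⟨⟨z, hzZ, hzU'⟩, trivial⟩
  obtain ⟨C, hC, hCx⟩ := isClosed_induced_iff.mp hx
  refine ⟨x.1, ?_, ?_⟩
  · intro hcl
    exact hU' x.2.2 (subset_closure ⟨x.2.1, hcl⟩)
  · refine ⟨U', Z ∩ C, hU'o, hZ.inter hC, ?_⟩
    ext y
    constructor
    · intro hy
      rw [Set.mem_singleton_iff] at hy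
      subst hy
      have : x ∈ Subtype.val ⁻¹' C := by rw [hCx]; rfl
      exact ⟨x.2.2, x.2.1, this⟩
    · rintro ⟨hyU, hyZ, hyC⟩
      have : (⟨y, hyZ, hyU⟩ : ↥(Z ∩ U')) ∈ Subtype.val ⁻¹' C := hyC
      rw [hCx] at this
      exact congrArg Subtype.val this

end Groth.Agent.S7547
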