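import Groth.Statements.S7548

set_option autoImplicit false
universe u
open PtTop

namespace Groth.Agent.S7548

/-- Let X be a Jacobson space and let T = ⋃ T_i be a union of subsets T_i ⊆ X each locally closed in X
(open, closed, locally closed and constructible subsets are of this form). Then T is Jacobson and
every point of T closed in T is closed in X. -/
theorem result {X : Type u} [TopologicalSpace X] [JacobsonSpace X]
    {ι : Type u} (T : ι → Set X) (hT : ∀ i, IsLocallyClosed (T i)) :
    JacobsonSpace ↥(⋃ i, T i) ∧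
      closedPoints ↥(⋃ i, T i) ⊆ (Subtype.val : ↥(⋃ i, T i) → X) ⁻¹' closedPoints X := by
  constructor
  · rw [jacobsonSpace_iff_locallyClosed]
    intro Z hZne hZ
    obtain ⟨U, C, hU, hC, rfl⟩ := hZ
    obtain ⟨U', hU', rfl⟩ := isOpen_induced_iff.mp hU
    obtain ⟨C', hC', rfl⟩ := isClosed_induced_iff.mp hC
    obtain ⟨z, hzU, hzC⟩ := hZne
    obtain ⟨i, hi⟩ := Set.mem_iUnion.mp z.2
    obtain ⟨x, ⟨hxTi, hxU, hxC⟩, hxcl⟩ := nonempty_inter_closedPoints (Z := T i ∩ (U' ∩ C'))
      ⟨z.1, hi, hzU, hzC⟩ ((hT i).inter (hU'.isLocallyClosed.inter hC'.isLocallyClosed))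
    exact ⟨⟨x, Set.mem_iUnion.mpr ⟨i, hxTi⟩⟩, ⟨hxU, hxC⟩,
      preimage_closedPoints_subset Subtype.val_injective continuous_subtype_val hxcl⟩
  · intro t ht
    obtain ⟨i, hi⟩ := Set.mem_iUnion.mp t.2
    obtain ⟨C, hC, hCt⟩ :=
      isClosed_induced_iff.mp (show IsClosed ({t} : Set ↥(⋃ i, T i)) from ht)
    show IsClosed ({t.1} : Set X)
    apply isClosed_singleton_of_isLocallyClosed_singleton
    have : ({t.1} : Set X) = T i ∩ C := by
      ext y
      constructor
      · intro hy
        rw [Set.mem_singleton_iff] at hy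
        subst hy
        have : t ∈ Subtype.val ⁻¹' C := by rw [hCt]; rfl
        exact ⟨hi, this⟩
      · rintro ⟨hyT, hyC⟩
        have : (⟨y, Set.mem_iUnion.mpr ⟨i, hyT⟩⟩ : ↥(⋃ i, T i)) ∈ Subtype.val ⁻¹' C := hyC
        rw [hCt] at this
        exact congrArg Subtype.val this
    rw [this]
    exact (hT i).inter hC.isLocallyClosed

end Groth.Agent.S7548
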