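import Groth.Statements.S7550

set_option autoImplicit false
universe u
open PtTop

namespace Groth.Agent.S7550

/-- Let f : X → Y be a continuous and open map of topological spaces, with X Noetherian, every
irreducible closed subset of X having a generic point, and Y Kolmogorov. Then generalizations lift
along f. (Part (1), closed maps are specializing, is a library fact.) -/
theorem result {X Y : Type u} [TopologicalSpace X] [TopologicalSpace Y]
    [TopologicalSpace.NoetherianSpace X] [QuasiSober X] [T0Space Y]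
    (f : X → Y) (hf : Continuous f) (hfo : IsOpenMap f) :
    GeneralizingMap f := by
  intro x y' hy'
  -- `T = f ⁻¹' closure {y'}` is a finite union of irreducible closed sets
  have hTcl : IsClosed (f ⁻¹' closure ({y'} : Set Y)) := isClosed_closure.preimage hf
  obtain ⟨S, hSfin, hScl, hSirr, hTS⟩ :=
    TopologicalSpace.NoetherianSpace.exists_finite_set_isClosed_irreducible hTcl
  -- the union of the components not containing `x` is closed
  have hclosed : IsClosed (⋃₀ {t ∈ S | x ∉ t}) :=
    by
      rw [Set.sUnion_eq_biUnion]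
      exact (hSfin.subset (Set.sep_subset _ _)).isClosed_biUnion fun t ht => hScl t ht.1
  have hxU : x ∈ (⋃₀ {t ∈ S | x ∉ t})ᶜ := by
    rintro ⟨t, ⟨_, hxt⟩, hxt'⟩
    exact hxt hxt'
  have hfU : IsOpen (f '' (⋃₀ {t ∈ S | x ∉ t})ᶜ) := hfo _ hclosed.isOpen_compl
  obtain ⟨u, huU, hfu⟩ : y' ∈ f '' (⋃₀ {t ∈ S | x ∉ t})ᶜ :=
    hy'.mem_open hfU ⟨x, hxU, rfl⟩
  have huT : u ∈ f ⁻¹' closure ({y'} : Set Y) := by
    change f u ∈ closure ({y'} : Set Y)
    rw [hfu]
    exact subset_closure rfl
  rw [hTS] at huT
  obtain ⟨t, htS, hut⟩ := huT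
  have hxt : x ∈ t := by
    by_contra hxt
    exact huU ⟨t, ⟨htS, hxt⟩, hut⟩
  have hη := (hSirr t htS).isGenericPoint_genericPoint (hScl t htS)
  refine ⟨(hSirr t htS).genericPoint, hη.specializes hxt, ?_⟩
  have h1 : f (hSirr t htS).genericPoint ⤳ y' := by
    rw [← hfu]
    exact (hη.specializes hut).map hf
  have h2 : y' ⤳ f (hSirr t htS).genericPoint := by
    rw [specializes_iff_mem_closure]
    have : (hSirr t htS).genericPoint ∈ f ⁻¹' closure ({y'} : Set Y) := by
      rw [hTS]
      exact ⟨t, htS, hη.mem⟩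
    exact this
  exact (h1.antisymm h2).eq

end Groth.Agent.S7550
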