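import Groth.Statements.S7556

set_option autoImplicit false
universe u
open PtTop

namespace Groth.Agent.S7556

open Set Function

/-- `X` with the discrete topology. -/
def Xd (X : Type u) : Type u := X

instance (X : Type u) : TopologicalSpace (Xd X) := ⊥

instance (X : Type u) : DiscreteTopology (Xd X) := ⟨rfl⟩

/-- The identity map from the discrete copy. -/
def ofXd {X : Type u} (x : Xd X) : X := x

/-- The identity map to the discrete copy. -/
def toXd {X : Type u} (x : X) : Xd X := x

/-- A surjective continuous self-map of a Hausdorff space which is not the identity admits a proper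
closed subset `E` with `E ∪ f(E)` everything. -/
lemma exists_closed_union_image_of_ne_id {X : Type*} [TopologicalSpace X] [T2Space X]
    {f : X → X} (hf : Continuous f) (hs : Surjective f) (hne : f ≠ id) :
    ∃ E : Set X, IsClosed E ∧ E ≠ univ ∧ E ∪ f '' E = univ := by
  obtain ⟨x, hx⟩ : ∃ x, f x ≠ x := by
    by_contra h
    push Not at h
    exact hne (funext h)
  obtain ⟨V, U, hV, hU, hxV, hxU, hd⟩ := t2_separation hx
  refine ⟨(U ∩ f ⁻¹' V)ᶜ, (hU.inter (hV.preimage hf)).isClosed_compl, ?_, ?_⟩
  · intro h
    have hx' : x ∈ (U ∩ f ⁻¹' V)ᶜ := h ▸ mem_univ x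
    exact hx' ⟨hxU, hxV⟩
  · rw [eq_univ_iff_forall]
    intro y
    by_cases hy : y ∈ U ∩ f ⁻¹' V
    · right
      obtain ⟨z, rfl⟩ := hs y
      refine ⟨z, ?_, rfl⟩
      intro hz
      exact disjoint_left.mp hd hz.2 hy.1
    · left
      exact hy

/-- A minimal cover sitting inside a projective space is projective. -/
lemma projective_of_minimal {X D : Type u} [TopologicalSpace X] [CompactSpace X] [T2Space X]
    [TopologicalSpace D] [CompactSpace D] [T2Space D] (hD : CompactT2.Projective D)
    {π : D → X} (hπ : Continuous π) (E : Set D) [CompactSpace E]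
    (hsurj : Surjective (E.domRestrict π))
    (hmin : ∀ E₀ : Set E, E₀ ≠ univ → IsClosed E₀ → E.domRestrict π '' E₀ ≠ univ) :
    CompactT2.Projective E := by
  intro Y Z _ _ _ _ _ _ f g hf hg hgs
  have hpc : Continuous (E.domRestrict π) := hπ.continuousOn.domRestrict
  let P : Set (E × Y) := {q | f q.1 = g q.2}
  have hPcl : IsClosed P := isClosed_eq (hf.comp continuous_fst) (hg.comp continuous_snd)
  have : CompactSpace P := isCompact_iff_compactSpace.mp hPcl.isCompact
  let π₁ : P → E := fun q => q.1.1
  have hπ₁c : Continuous π₁ := continuous_fst.comp continuous_subtype_val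
  have hπ₁s : Surjective π₁ := fun e => by
    obtain ⟨y, hy⟩ := hgs (f e)
    exact ⟨⟨(e, y), hy.symm⟩, rfl⟩
  obtain ⟨k, hkc, hk⟩ := hD (f := π) (g := E.domRestrict π ∘ π₁) hπ (hpc.comp hπ₁c)
    (hsurj.comp hπ₁s)
  let h₀ : E → E := fun e => π₁ (k e.1)
  have hh₀c : Continuous h₀ := hπ₁c.comp (hkc.comp continuous_subtype_val)
  have hph₀ : ∀ e, E.domRestrict π (h₀ e) = E.domRestrict π e := fun e => congr_fun hk e.1
  -- `h₀` is surjective by minimality
  have hh₀s : Surjective h₀ := by
    rw [← range_eq_univ]
    by_contra hne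
    refine hmin (range h₀) hne (isCompact_range hh₀c).isClosed ?_
    rw [eq_univ_iff_forall]
    intro x
    obtain ⟨e, rfl⟩ := hsurj x
    exact ⟨h₀ e, mem_range_self e, hph₀ e⟩
  -- hence `h₀` is the identity
  have hid : h₀ = id := by
    by_contra hne
    obtain ⟨E₀, hE₀cl, hE₀ne, hE₀⟩ := exists_closed_union_image_of_ne_id hh₀c hh₀s hne
    refine hmin E₀ hE₀ne hE₀cl ?_
    rw [eq_univ_iff_forall]
    intro x
    obtain ⟨e, rfl⟩ := hsurj x
    have he : e ∈ E₀ ∪ h₀ '' E₀ := hE₀ ▸ mem_univ e
    rcases he with he | ⟨e', he', rfl⟩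
    · exact ⟨e, he, rfl⟩
    · exact ⟨e', he', (hph₀ e').symm⟩
  refine ⟨fun e => (k e.1).1.2, ?_, ?_⟩
  · exact continuous_snd.comp (continuous_subtype_val.comp (hkc.comp continuous_subtype_val))
  · funext e
    have h1 : f (k e.1).1.1 = g (k e.1).1.2 := (k e.1).2
    have h2 : (k e.1).1.1 = e := congr_fun hid e
    change g (k e.1).1.2 = f e
    rw [← h1, h2]

/-- Let X be a quasi-compact Hausdorff space. There is a continuous surjection p : X' → X with X'
quasi-compact, Hausdorff and extremally disconnected such that no proper closed subset of X' maps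
onto X; and if q : X'' → X is a second cover with the same properties, there is a homeomorphism X' ≃
X'' compatible with p and q. -/
theorem result (X : Type u) [TopologicalSpace X] [CompactSpace X] [T2Space X] :
    (∃ (X' : Type u) (_ : TopologicalSpace X') (_ : CompactSpace X') (_ : T2Space X') (_ : ExtremallyDisconnected X')
        (p : X' → X), Continuous p ∧ Function.Surjective p ∧
        ∀ E : Set X', IsClosed E → E ≠ Set.univ → p '' E ≠ Set.univ) ∧
    (∀ (X' X'' : Type u) [TopologicalSpace X'] [CompactSpace X'] [T2Space X'] [ExtremallyDisconnected X']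
        [TopologicalSpace X''] [CompactSpace X''] [T2Space X''] [ExtremallyDisconnected X'']
        (p : X' → X) (q : X'' → X),
        Continuous p → Function.Surjective p → (∀ E : Set X', IsClosed E → E ≠ Set.univ → p '' E ≠ Set.univ) →
        Continuous q → Function.Surjective q → (∀ E : Set X'', IsClosed E → E ≠ Set.univ → q '' E ≠ Set.univ) →
        ∃ h : X' ≃ₜ X'', q ∘ h = p) := by
  refine ⟨?_, ?_⟩
  · have hidc : Continuous (ofXd : Xd X → X) := continuous_of_discreteTopology
    let π : StoneCech (Xd X) → X := stoneCechExtend hidc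
    have hπc : Continuous π := continuous_stoneCechExtend hidc
    have hπs : Surjective π := fun x =>
      ⟨stoneCechUnit (toXd x), stoneCechExtend_stoneCechUnit hidc (toXd x)⟩
    obtain ⟨E, hEc, hEonto, hEmin⟩ := exists_compact_surjective_zorn_subset hπc hπs
    have hps : Surjective (E.domRestrict π) := fun x => by
      obtain ⟨d, hd, rfl⟩ := (hEonto ▸ mem_univ x : x ∈ π '' E)
      exact ⟨⟨d, hd⟩, rfl⟩
    have hproj : CompactT2.Projective E :=
      projective_of_minimal StoneCech.projective hπc E hps hEmin
    exact ⟨E, inferInstance, hEc, inferInstance, hproj.extremallyDisconnected, E.domRestrict π,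
      hπc.continuousOn.domRestrict, hps, fun E₀ hcl hne => hEmin E₀ hne hcl⟩
  · intro X' X'' _ _ _ _ _ _ _ _ p q hpc hps hpmin hqc hqs hqmin
    obtain ⟨h, hhc, hh⟩ := (CompactT2.ExtremallyDisconnected.projective (A := X')) hpc hqc hqs
    have hqh : ∀ x', q (h x') = p x' := congr_fun hh
    have hhs : Surjective h := by
      rw [← range_eq_univ]
      by_contra hne
      refine hqmin (range h) (isCompact_range hhc).isClosed hne ?_
      rw [eq_univ_iff_forall]
      intro x
      obtain ⟨x', rfl⟩ := hps x
      exact ⟨h x', mem_range_self x', hqh x'⟩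
    have hzorn : ∀ E₀ : Set X', E₀ ≠ univ → IsClosed E₀ → h '' E₀ ≠ univ := by
      intro E₀ hne hcl himg
      refine hpmin E₀ hcl hne ?_
      rw [eq_univ_iff_forall]
      intro x
      obtain ⟨x'', rfl⟩ := hqs x
      obtain ⟨e, he, rfl⟩ := (himg ▸ mem_univ x'' : x'' ∈ h '' E₀)
      exact ⟨e, he, (hqh e).symm⟩
    exact ⟨ExtremallyDisconnected.homeoCompactToT2 hhc hhs hzorn, hh⟩

end Groth.Agent.S7556
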