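import Groth.Statements.S7557

set_option autoImplicit false
universe u
open CategoryTheory CategoryTheory.Limits
open PtTop

namespace Groth.Agent.S7557

section

variable {J : Type u} [Category.{u} J] (F : J ⥤ TopCommRingCat.{u})

/-- Compatible families, as a subring of the product. -/
def limSubring : Subring (∀ j, F.obj j) where
  carrier := {x | ∀ ⦃i j : J⦄ (f : i ⟶ j), (F.map f).1 (x i) = x j}
  mul_mem' := by
    intro a b ha hb i j f
    change (F.map f).1 (a i * b i) = a j * b j
    rw [map_mul, ha f, hb f]
  one_mem' := by
    intro i j f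
    change (F.map f).1 1 = 1
    rw [map_one]
  add_mem' := by
    intro a b ha hb i j f
    change (F.map f).1 (a i + b i) = a j + b j
    rw [map_add, ha f, hb f]
  zero_mem' := by
    intro i j f
    change (F.map f).1 0 = 0
    rw [map_zero]
  neg_mem' := by
    intro a ha i j f
    change (F.map f).1 (-a i) = -a j
    rw [map_neg, ha f]

/-- The limit object. -/
def limObj : TopCommRingCat.{u} := TopCommRingCat.of (limSubring F)

/-- The projection maps. -/
def limProj (j : J) : limObj F ⟶ F.obj j :=
  ⟨(Pi.evalRingHom (fun j => F.obj j) j).comp (limSubring F).subtype,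
    show Continuous fun x : limSubring F => x.1 j from
      (continuous_apply j).comp continuous_subtype_val⟩

/-- The limit cone. -/
def limCone : Cone F where
  pt := limObj F
  π :=
    { app := fun j => limProj F j
      naturality := by
        intro i j f
        refine Subtype.ext (RingHom.ext fun x => ?_)
        exact (x.2 f).symm }

/-- The limit cone is a limit. -/
def limConeIsLimit : IsLimit (limCone F) where
  lift s :=
    ⟨RingHom.codRestrict (RingHom.pi fun j => (s.π.app j).1) (limSubring F)
        (fun x i j f => congrArg (fun m : s.pt ⟶ F.obj j => m.1 x) (s.w f)),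
      Continuous.subtype_mk (continuous_pi fun j => (s.π.app j).2) _⟩
  fac s j := Subtype.ext (RingHom.ext fun x => rfl)
  uniq s m hm := Subtype.ext (RingHom.ext fun x => Subtype.ext (funext fun j =>
    congrArg (fun m : s.pt ⟶ F.obj j => m.1 x) (hm j)))

/-- The image of the limit cone in `TopCat` is a limit. -/
def topIsLimit : IsLimit ((forget₂ TopCommRingCat.{u} TopCat.{u}).mapCone (limCone F)) where
  lift s := TopCat.ofHom (X := s.pt) (Y := limSubring F)
    ⟨fun x => ⟨fun j => (s.π.app j).hom x, fun i j f =>
        congrArg (fun k : s.pt ⟶ (F ⋙ forget₂ TopCommRingCat.{u} TopCat.{u}).obj j => k.hom x) (s.w f)⟩,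
      Continuous.subtype_mk (continuous_pi fun j => (s.π.app j).hom.continuous) _⟩
  fac s j := by
    ext x
    rfl
  uniq s m hm := by
    ext x
    refine Subtype.ext (funext fun j => ?_)
    exact congrArg (fun k : s.pt ⟶ (F ⋙ forget₂ TopCommRingCat.{u} TopCat.{u}).obj j => k.hom x) (hm j)

/-- The image of the limit cone in `CommRingCat` is a limit. -/
def ringIsLimit : IsLimit ((forget₂ TopCommRingCat.{u} CommRingCat.{u}).mapCone (limCone F)) where
  lift s := CommRingCat.ofHom (R := s.pt) (S := limSubring F)
    (RingHom.codRestrict (RingHom.pi fun j => ((s.π.app j).hom : s.pt →+* F.obj j)) (limSubring F)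
      (fun x i j f =>
        congrArg (fun k : s.pt ⟶ (F ⋙ forget₂ TopCommRingCat.{u} CommRingCat.{u}).obj j => k.hom x) (s.w f)))
  fac s j := by
    ext x
    rfl
  uniq s m hm := by
    ext x
    refine Subtype.ext (funext fun j => ?_)
    exact congrArg (fun k : s.pt ⟶ (F ⋙ forget₂ TopCommRingCat.{u} CommRingCat.{u}).obj j => k.hom x) (hm j)

end

/-- The category of topological rings (commutative, with continuous ring homomorphisms) has limits, and
limits commute with the forgetful functors to topological spaces and to rings. -/
theorem result :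
    HasLimits TopCommRingCat.{u} ∧
    PreservesLimits (forget₂ TopCommRingCat.{u} TopCat.{u}) ∧
    PreservesLimits (forget₂ TopCommRingCat.{u} CommRingCat.{u}) := by
  refine ⟨⟨fun J _ => ⟨fun F => HasLimit.mk ⟨limCone F, limConeIsLimit F⟩⟩⟩, ?_, ?_⟩
  · exact ⟨fun {J} _ => ⟨fun {F} =>
      preservesLimit_of_preserves_limit_cone (limConeIsLimit F) (topIsLimit F)⟩⟩
  · exact ⟨fun {J} _ => ⟨fun {F} =>
      preservesLimit_of_preserves_limit_cone (limConeIsLimit F) (ringIsLimit F)⟩⟩

end Groth.Agent.S7557
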