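import Groth.Statements.S7558
import Mathlib.Algebra.Category.Ring.Colimits
import Mathlib.Topology.Algebra.Ring.Basic

set_option autoImplicit false
universe u
open CategoryTheory CategoryTheory.Limits
open PtTop

namespace Groth.Agent.S7558

noncomputable section

variable {J : Type u} [Category.{u} J] (F : J ⥤ TopCommRingCat.{u})

/-- The underlying diagram of rings. -/
abbrev G : J ⥤ CommRingCat.{u} := F ⋙ forget₂ TopCommRingCat.{u} CommRingCat.{u}

/-- The underlying ring of the colimit. -/
abbrev C : CommRingCat.{u} := colimit (G F)

/-- The coprojections, as ring homomorphisms. -/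
def inc (j : J) : F.obj j →+* C F := (colimit.ι (G F) j).hom

/-- The ring topologies on the colimit ring making all coprojections continuous. -/
def topSet : Set (RingTopology (C F)) :=
  {b | ∀ j, @Continuous _ _ (F.obj j).isTopologicalSpace b.toTopologicalSpace (inc F j)}

/-- The finest ring topology making all coprojections continuous. -/
def colimTop : RingTopology (C F) := sInf (topSet F)

lemma continuous_inc (j : J) :
    @Continuous _ _ (F.obj j).isTopologicalSpace (colimTop F).toTopologicalSpace (inc F j) :=
  continuous_sInf_rng.2 <| Set.forall_mem_image.2 fun _ hb => hb j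

/-- The ring topology induced by a ring homomorphism to a topological ring. -/
def inducedTop {R S : Type u} [CommRing R] [CommRing S] [τ : TopologicalSpace S]
    [IsTopologicalRing S] (g : R →+* S) : RingTopology R :=
  let _ : TopologicalSpace R := τ.induced g
  { toTopologicalSpace := τ.induced g
    toContinuousAdd := ContinuousAdd.induced g
    toContinuousMul := ContinuousMul.induced g
    toContinuousNeg := ContinuousNeg.induced g }

lemma continuous_of_comp {S : Type u} [CommRing S] [τ : TopologicalSpace S]
    [IsTopologicalRing S] (g : C F →+* S)
    (hg : ∀ j, @Continuous _ _ (F.obj j).isTopologicalSpace τ (fun x => g (inc F j x))) :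
    @Continuous _ _ (colimTop F).toTopologicalSpace τ g := by
  have hb : inducedTop g ∈ topSet F := fun j => continuous_induced_rng.2 (hg j)
  have hle : colimTop F ≤ inducedTop g := sInf_le hb
  exact continuous_iff_le_induced.2 hle

/-- The colimit object. -/
def colimObj : TopCommRingCat.{u} :=
  @TopCommRingCat.of (C F) _ (colimTop F).toTopologicalSpace (colimTop F).toIsTopologicalRing

/-- The coprojections. -/
def colimInc (j : J) : F.obj j ⟶ colimObj F := ⟨inc F j, continuous_inc F j⟩

/-- The colimit cocone. -/
def colimCocone : Cocone F where
  pt := colimObj F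
  ι :=
    { app := fun j => colimInc F j
      naturality := by
        intro i j f
        refine Subtype.ext (RingHom.ext fun x => ?_)
        exact congrArg (fun k : (G F).obj i ⟶ C F => k.hom x) (colimit.w (G F) f) }

/-- The colimit cocone is a colimit. -/
def colimCoconeIsColimit : IsColimit (colimCocone F) where
  desc s :=
    ⟨(colimit.desc (G F) ((forget₂ TopCommRingCat.{u} CommRingCat.{u}).mapCocone s)).hom,
      continuous_of_comp F _ fun j => by
        have h := colimit.ι_desc ((forget₂ TopCommRingCat.{u} CommRingCat.{u}).mapCocone s) j
        exact (s.ι.app j).2.congr fun x => (congrArg (fun k : (G F).obj j ⟶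
            ((forget₂ TopCommRingCat.{u} CommRingCat.{u}).mapCocone s).pt => k.hom x) h).symm⟩
  fac s j := by
    refine Subtype.ext (RingHom.ext fun x => ?_)
    exact congrArg (fun k : (G F).obj j ⟶
      ((forget₂ TopCommRingCat.{u} CommRingCat.{u}).mapCocone s).pt => k.hom x)
      (colimit.ι_desc ((forget₂ TopCommRingCat.{u} CommRingCat.{u}).mapCocone s) j)
  uniq s m hm := by
    have key : (CommRingCat.ofHom m.1 : C F ⟶
        ((forget₂ TopCommRingCat.{u} CommRingCat.{u}).mapCocone s).pt) =
        colimit.desc (G F) ((forget₂ TopCommRingCat.{u} CommRingCat.{u}).mapCocone s) := by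
      refine colimit.hom_ext fun j => ?_
      refine Eq.trans ?_
        (colimit.ι_desc ((forget₂ TopCommRingCat.{u} CommRingCat.{u}).mapCocone s) j).symm
      ext x
      exact congrArg (fun k : F.obj j ⟶ s.pt => k.1 x) (hm j)
    refine Subtype.ext ?_
    exact congrArg CommRingCat.Hom.hom key

/-- The image of the colimit cocone in `CommRingCat` is a colimit. -/
def ringIsColimit :
    IsColimit ((forget₂ TopCommRingCat.{u} CommRingCat.{u}).mapCocone (colimCocone F)) :=
  IsColimit.ofIsoColimit (colimit.isColimit (G F))
    (Cocone.ext (Iso.refl _) (fun j => by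
      ext x
      rfl))

end

/-- The category of topological rings (commutative, with continuous ring homomorphisms) has colimits,
and colimits commute with the forgetful functor to rings. -/
theorem result :
    HasColimits TopCommRingCat.{u} ∧
    PreservesColimits (forget₂ TopCommRingCat.{u} CommRingCat.{u}) := by
  refine ⟨⟨fun J _ => ⟨fun F => HasColimit.mk ⟨colimCocone F, colimCoconeIsColimit F⟩⟩⟩, ?_⟩
  exact ⟨fun {J} _ => ⟨fun {F} =>
    preservesColimit_of_preserves_colimit_cocone (colimCoconeIsColimit F) (ringIsColimit F)⟩⟩

end Groth.Agent.S7558
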