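import Groth.Statements.S7561
import Groth.Agent.H38.GoodStrat

set_option autoImplicit false
universe u
open PtTop

namespace Groth.Agent.S7561

/-- Let X be a Noetherian topological space and X = ∐ P_k a finite partition into locally closed parts.
Then it is refined by a finite good stratification: a finite partition X = ∐ S_i into locally closed
strata such that S_i ∩ closure(S_j) ≠ ∅ implies S_i ⊆ closure(S_j), with every P_k a union of
strata. -/
theorem result {X : Type u} [TopologicalSpace X]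
    [TopologicalSpace.NoetherianSpace X]
    {n : ℕ} (P : Fin n → Set X) (hP : ∀ k, IsLocallyClosed (P k)) (hcov : ⋃ k, P k = Set.univ)
    (hdisj : ∀ k k', k ≠ k' → Disjoint (P k) (P k')) :
    ∃ (m : ℕ) (S : Fin m → Set X),
      (∀ i, IsLocallyClosed (S i)) ∧ (⋃ i, S i = Set.univ) ∧ (∀ i j, i ≠ j → Disjoint (S i) (S j)) ∧
      (∀ i j, (S i ∩ closure (S j)).Nonempty → S i ⊆ closure (S j)) ∧
      (∀ i k, (S i ∩ P k).Nonempty → S i ⊆ P k) := by
  classical
  obtain ⟨Ss, h1, h2, h3, h4, h5⟩ := Groth.Agent.H38.exists_good_strat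
    (⊤ : TopologicalSpace.Closeds X) (Finset.univ.image P) (by
      intro Q hQ
      obtain ⟨k, -, rfl⟩ := Finset.mem_image.mp hQ
      exact hP k)
  refine ⟨Ss.card, fun i => ((Ss.equivFin.symm i : Ss) : Set X), ?_, ?_, ?_, ?_, ?_⟩
  · intro i
    exact (h1 _ (Ss.equivFin.symm i).2).1
  · rw [Set.eq_univ_iff_forall]
    intro x
    have hx : x ∈ ⋃₀ (Ss : Set (Set X)) := by rw [h2]; trivial
    obtain ⟨S, hS, hxS⟩ := hx
    refine Set.mem_iUnion.mpr ⟨Ss.equivFin ⟨S, hS⟩, ?_⟩
    rw [Equiv.symm_apply_apply]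
    exact hxS
  · intro i j hij
    apply h3 _ (Ss.equivFin.symm i).2 _ (Ss.equivFin.symm j).2
    intro heq
    exact hij (Ss.equivFin.symm.injective (Subtype.ext heq))
  · intro i j
    exact h4 _ (Ss.equivFin.symm i).2 _ (Ss.equivFin.symm j).2
  · intro i k
    exact h5 _ (Ss.equivFin.symm i).2 _ (Finset.mem_image_of_mem P (Finset.mem_univ k))

end Groth.Agent.S7561
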