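import Groth.Statements.S7564
-- import your own Groth.Agent.* helpers here

set_option autoImplicit false
universe u
open PtTop

namespace Groth.Agent.S7564

/-- For a continuous surjection f : X → Y, if X has finitely many irreducible components, say n of them,
then Y has at most n irreducible components. -/
theorem result {X Y : Type u} [TopologicalSpace X] [TopologicalSpace Y]
    (f : X → Y) (hf : Continuous f) (hs : Function.Surjective f) (hfin : (irreducibleComponents X).Finite) :
    (irreducibleComponents Y).Finite ∧ (irreducibleComponents Y).ncard ≤ (irreducibleComponents X).ncard := by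
  classical
  have key : irreducibleComponents Y ⊆ (fun W => closure (f '' W)) '' irreducibleComponents X := by
    intro Z hZ
    have hZirr : IsIrreducible Z := hZ.1
    have hcover : Z ⊆ ⋃₀ ((hfin.toFinset.image (fun W => closure (f '' W)) : Finset (Set Y)) : Set (Set Y)) := by
      intro y _
      obtain ⟨x, rfl⟩ := hs y
      refine ⟨closure (f '' irreducibleComponent x), ?_, subset_closure ⟨x, mem_irreducibleComponent, rfl⟩⟩
      simp only [Finset.coe_image, Set.Finite.coe_toFinset, Set.mem_image]
      exact ⟨_, irreducibleComponent_mem_irreducibleComponents x, rfl⟩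
    obtain ⟨T, hT, hZT⟩ := (isIrreducible_iff_sUnion_isClosed.mp hZirr) _ (by
      intro z hz
      simp only [Finset.mem_image] at hz
      obtain ⟨W, _, rfl⟩ := hz
      exact isClosed_closure) hcover
    simp only [Finset.mem_image, Set.Finite.mem_toFinset] at hT
    obtain ⟨W, hW, rfl⟩ := hT
    refine ⟨W, hW, ?_⟩
    have hirr : IsIrreducible (closure (f '' W)) := (hW.1.image f hf.continuousOn).closure
    exact (hZ.eq_of_ge hirr hZT)
  refine ⟨(hfin.image _).subset key, ?_⟩
  calc (irreducibleComponents Y).ncard ≤ ((fun W => closure (f '' W)) '' irreducibleComponents X).ncard :=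
        Set.ncard_le_ncard key (hfin.image _)
    _ ≤ (irreducibleComponents X).ncard := Set.ncard_image_le hfin

end Groth.Agent.S7564
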