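import Groth.Statements.S7565

set_option autoImplicit false
universe u
open PtTop

namespace Groth.Agent.S7565

/-- Let f : X → Y be a continuous open map of topological spaces and assume every point of X has a
Noetherian neighbourhood. Then every point of f(X) (with the induced topology) has a Noetherian
neighbourhood. The published statement also asserts that a continuous image of a Noetherian space is
Noetherian; this row states the part about open maps and locally Noetherian spaces. -/
theorem result {X Y : Type u} [TopologicalSpace X] [TopologicalSpace Y]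
    (f : X → Y) (hf : Continuous f) (hfo : IsOpenMap f)
    (hX : ∀ x : X, ∃ E ∈ nhds x, TopologicalSpace.NoetherianSpace E) :
    ∀ y : Set.range f, ∃ E : Set (Set.range f), E ∈ nhds y ∧ TopologicalSpace.NoetherianSpace E := by
  rintro ⟨_, x, rfl⟩
  obtain ⟨E, hE, hN⟩ := hX x
  let g : E → Set.range f := fun e => ⟨f e, e, rfl⟩
  have hg : Continuous g := by
    apply Continuous.subtype_mk
    exact hf.comp continuous_subtype_val
  refine ⟨Set.range g, ?_, TopologicalSpace.NoetherianSpace.range g hg⟩
  have h1 : f '' E ∈ nhds (f x) := hfo.image_mem_nhds hE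
  have h2 : (Subtype.val : Set.range f → Y) ⁻¹' (f '' E) ∈ nhds (⟨f x, x, rfl⟩ : Set.range f) :=
    continuous_subtype_val.continuousAt.preimage_mem_nhds h1
  convert h2 using 1
  ext ⟨z, hz⟩
  simp only [Set.mem_range, Set.mem_preimage, Set.mem_image, g, Subtype.mk.injEq, Subtype.exists]
  constructor
  · rintro ⟨a, ha, h⟩; exact ⟨a, ha, h⟩
  · rintro ⟨a, ha, h⟩; exact ⟨a, ha, h⟩

end Groth.Agent.S7565
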