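import Groth.Statements.S7569
import Mathlib.Topology.Separation.Hausdorff
import Mathlib.Topology.Compactness.LocallyCompact
import Mathlib.Data.Fintype.Pi

set_option autoImplicit false
universe u
open PtTop

namespace Groth.Agent.S7569

/-- Let X be a Hausdorff, locally quasi-compact space and Z ⊆ X a quasi-compact subset. Let p ≥ 0, let
U_i ⊆ X be opens with Z ⊆ ⋃ U_i, and for every (p+1)-tuple (i_0, …, i_p) let W_{i_0…i_p} ⊆ U_{i_0} ∩
… ∩ U_{i_p} be an open with W_{i_0…i_p} ∩ Z = U_{i_0} ∩ … ∩ U_{i_p} ∩ Z. Then there are opens V_i ⊆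
X with Z ⊆ ⋃ V_i, closure(V_i) ⊆ U_i for all i, and V_{i_0} ∩ … ∩ V_{i_p} ⊆ W_{i_0…i_p} for all
(p+1)-tuples. -/
theorem result {X : Type u} [TopologicalSpace X]
    [T2Space X] [LocallyCompactSpace X] (Z : Set X) (hZ : IsCompact Z)
    {ι : Type u} (U : ι → Set X) (hU : ∀ i, IsOpen (U i)) (hcov : Z ⊆ ⋃ i, U i) (p : ℕ)
    (W : (Fin (p + 1) → ι) → Set X) (hWo : ∀ t, IsOpen (W t)) (hWU : ∀ t, W t ⊆ ⋂ l, U (t l))
    (hWZ : ∀ t, W t ∩ Z = (⋂ l, U (t l)) ∩ Z) :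
    ∃ V : ι → Set X, (∀ i, IsOpen (V i)) ∧ (Z ⊆ ⋃ i, V i) ∧ (∀ i, closure (V i) ⊆ U i) ∧
      (∀ t : Fin (p + 1) → ι, (⋂ l, V (t l)) ⊆ W t) := by
  classical
  have h1 : ∀ z : Z, ∃ (i : ι) (L : Set X), IsCompact L ∧ (z : X) ∈ interior L ∧ L ⊆ U i := by
    intro z
    obtain ⟨i, hi⟩ := Set.mem_iUnion.1 (hcov z.2)
    obtain ⟨L, hL, hzL, hLU⟩ := exists_compact_subset (hU i) hi
    exact ⟨i, L, hL, hzL, hLU⟩
  choose idx L hLc hzL hLU using h1
  obtain ⟨F, hF⟩ := hZ.elim_finite_subcover (fun z : Z => interior (L z))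
    (fun z => isOpen_interior) (fun x hx => Set.mem_iUnion.2 ⟨⟨x, hx⟩, hzL ⟨x, hx⟩⟩)
  let V' : ι → Set X := fun i => ⋃ z ∈ F.filter (fun z => idx z = i), interior (L z)
  let K : ι → Set X := fun i => ⋃ z ∈ F.filter (fun z => idx z = i), L z
  have hKc : ∀ i, IsCompact (K i) := fun i => Finset.isCompact_biUnion _ (fun z _ => hLc z)
  have hKU : ∀ i, K i ⊆ U i := by
    intro i x hx
    obtain ⟨z, hz, hxz⟩ := Set.mem_iUnion₂.1 hx
    have := (Finset.mem_filter.1 hz).2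
    subst this
    exact hLU z hxz
  have hV'K : ∀ i, V' i ⊆ K i := fun i => Set.iUnion₂_mono fun z _ => interior_subset
  have hV'o : ∀ i, IsOpen (V' i) := fun i => isOpen_biUnion fun z _ => isOpen_interior
  have hZV' : Z ⊆ ⋃ i, V' i := by
    intro x hx
    obtain ⟨z, hzF, hxz⟩ := Set.mem_iUnion₂.1 (hF hx)
    exact Set.mem_iUnion.2 ⟨idx z, Set.mem_iUnion₂.2 ⟨z, Finset.mem_filter.2 ⟨hzF, rfl⟩, hxz⟩⟩
  let I₀ : Finset ι := F.image idx
  have hI₀ : ∀ i, (V' i).Nonempty → i ∈ I₀ := by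
    rintro i ⟨x, hx⟩
    obtain ⟨z, hz, _⟩ := Set.mem_iUnion₂.1 hx
    have := Finset.mem_filter.1 hz
    exact Finset.mem_image.2 ⟨z, this.1, this.2⟩
  let T₀ : Finset (Fin (p + 1) → ι) := Fintype.piFinset (fun _ => I₀)
  let B : Set X := ⋃ t ∈ T₀, ((⋂ l, K (t l)) \ W t)
  have hBc : IsCompact B := Finset.isCompact_biUnion _ (fun t _ =>
    (IsCompact.of_isClosed_subset (hKc (t 0)) (isClosed_iInter fun l => (hKc (t l)).isClosed)
      (Set.iInter_subset _ 0)).diff (hWo t))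
  have hZB : Disjoint Z B := by
    rw [Set.disjoint_left]
    intro x hxZ hxB
    obtain ⟨t, _, hxK, hxW⟩ := Set.mem_iUnion₂.1 hxB
    apply hxW
    have : x ∈ (⋂ l, U (t l)) ∩ Z :=
      ⟨Set.mem_iInter.2 fun l => hKU _ (Set.mem_iInter.1 hxK l), hxZ⟩
    rw [← hWZ t] at this
    exact this.1
  obtain ⟨O, O', hO, hO', hZO, hBO', hOO'⟩ := SeparatedNhds.of_isCompact_isCompact hZ hBc hZB
  refine ⟨fun i => V' i ∩ O, fun i => (hV'o i).inter hO, ?_, ?_, ?_⟩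
  · intro x hx
    obtain ⟨i, hi⟩ := Set.mem_iUnion.1 (hZV' hx)
    exact Set.mem_iUnion.2 ⟨i, hi, hZO hx⟩
  · intro i
    calc closure (V' i ∩ O) ⊆ closure (K i) :=
          closure_mono (Set.inter_subset_left.trans (hV'K i))
      _ = K i := (hKc i).isClosed.closure_eq
      _ ⊆ U i := hKU i
  · intro t x hx
    rw [Set.mem_iInter] at hx
    by_contra hxW
    have htT : t ∈ T₀ := Fintype.mem_piFinset.2 fun l => hI₀ _ ⟨x, (hx l).1⟩
    have hxB : x ∈ B := Set.mem_iUnion₂.2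
      ⟨t, htT, Set.mem_iInter.2 fun l => hV'K _ (hx l).1, hxW⟩
    exact Set.disjoint_left.1 hOO' (hx 0).2 (hBO' hxB)

end Groth.Agent.S7569
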