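import Groth.Statements.S7571
import Groth.Agent.H38.SpectralLimit

set_option autoImplicit false
universe u
open CategoryTheory CategoryTheory.Limits
open PtTop

namespace Groth.Agent.S7571

/-- Let j ↦ X_j be a diagram of topological spaces over a cofiltered category with limit X and
projections f_j. (1) Every open of X is a union of subsets of the form f_j⁻¹(U_j) with U_j ⊆ X_j
open. (2) Every quasi-compact open of X equals f_i⁻¹(U_i) for some i and some open U_i ⊆ X_i. -/
theorem result {J : Type u} [SmallCategory J] [IsCofiltered J]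
    (F : J ⥤ TopCat.{u}) (c : Cone F) (hc : IsLimit c) :
    (∀ W : Set c.pt, IsOpen W →
      ∃ S : Set (Σ j, Set (F.obj j)), (∀ s ∈ S, IsOpen s.2) ∧ W = ⋃ s ∈ S, c.π.app s.1 ⁻¹' s.2) ∧
    (∀ W : Set c.pt, IsOpen W → IsCompact W →
      ∃ (i : J) (Ui : Set (F.obj i)), IsOpen Ui ∧ W = c.π.app i ⁻¹' Ui) := by
  classical
  have hbasis := TopCat.isTopologicalBasis_cofiltered_limit.{u, u, u} F c hc
    (fun j => {V : Set (F.obj j) | IsOpen V}) (fun j => TopologicalSpace.isTopologicalBasis_opens)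
    (fun j => isOpen_univ) (fun j U1 U2 h1 h2 => h1.inter h2)
    (fun i j f V hV => hV.preimage (F.map f).hom.continuous)
  have part1 : ∀ W : Set c.pt, IsOpen W →
      ∃ S : Set (Σ j, Set (F.obj j)), (∀ s ∈ S, IsOpen s.2) ∧ W = ⋃ s ∈ S, c.π.app s.1 ⁻¹' s.2 := by
    intro W hW
    refine ⟨{s | IsOpen s.2 ∧ c.π.app s.1 ⁻¹' s.2 ⊆ W}, fun s hs => hs.1, ?_⟩
    apply Set.Subset.antisymm
    · intro x hx
      obtain ⟨_, ⟨j, V, hV, rfl⟩, hxV, hVW⟩ := hbasis.exists_subset_of_mem_open hx hW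
      exact Set.mem_biUnion (show (⟨j, V⟩ : Σ j, Set (F.obj j)) ∈ _ from ⟨hV, hVW⟩) hxV
    · exact Set.iUnion₂_subset fun s hs => hs.2
  refine ⟨part1, fun W hW hWc => ?_⟩
  obtain ⟨S, hS, hWS⟩ := part1 W hW
  -- finite subcover
  obtain ⟨t, htS, htfin, hWt⟩ := hWc.elim_finite_subcover_image (b := S)
    (c := fun s => c.π.app s.1 ⁻¹' s.2)
    (fun s hs => (hS s hs).preimage (c.π.app s.1).hom.continuous) (by rw [← hWS])
  have hW' : W = ⋃ s ∈ t, c.π.app s.1 ⁻¹' s.2 := by
    apply Set.Subset.antisymm hWt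
    rw [hWS]
    exact Set.biUnion_subset_biUnion_left htS
  have hopen : ∀ s ∈ t, IsOpen s.2 := fun s hs => hS s (htS hs)
  rw [hW']
  clear hW' hWt hWS hWc hW htS
  induction t, htfin using Set.Finite.induction_on with
  | empty =>
    obtain ⟨i⟩ := IsCofiltered.nonempty (C := J)
    exact ⟨i, ∅, isOpen_empty, by simp⟩
  | @insert p s _ _ ih =>
    obtain ⟨i, V, hVo, hV⟩ := ih fun s' hs' => hopen s' (Set.mem_insert_of_mem _ hs')
    have hp : IsOpen p.2 := hopen p (Set.mem_insert _ _)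
    refine ⟨IsCofiltered.min i p.1,
      F.map (IsCofiltered.minToLeft i p.1) ⁻¹' V ∪ F.map (IsCofiltered.minToRight i p.1) ⁻¹' p.2,
      ?_, ?_⟩
    · exact (hVo.preimage (F.map _).hom.continuous).union (hp.preimage (F.map _).hom.continuous)
    · rw [Set.preimage_union, Groth.Agent.H38.preimage_proj_map,
        Groth.Agent.H38.preimage_proj_map, Set.biUnion_insert, hV, Set.union_comm]

end Groth.Agent.S7571
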