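import Groth.Statements.S7574
import Mathlib.CategoryTheory.Adjunction.Triple
import Mathlib.CategoryTheory.Adjunction.FullyFaithful

set_option autoImplicit false
universe u
open CategoryTheory TopologicalSpace
open ShSp

namespace Groth.Agent.S7574

section
set_option backward.isDefEq.respectTransparency false
set_option backward.isDefEq.respectTransparency.types false
set_option linter.style.haveILetI false
open Opposite
variable {X : TopCat.{u}} (U : Opens X)

noncomputable instance i1 : U.isOpenEmbedding.isOpenMap.functor.IsContinuous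
    (Opens.grothendieckTopology U) (Opens.grothendieckTopology X) :=
  U.isOpenEmbedding.functor_isContinuous

noncomputable instance i2 : (Opens.map U.inclusion').IsContinuous
    (Opens.grothendieckTopology X) (Opens.grothendieckTopology U) :=
  inferInstanceAs ((Opens.map U.inclusion').IsContinuous (Opens.grothendieckTopology X)
    (Opens.grothendieckTopology ((Opens.toTopCat X).obj U)))

noncomputable abbrev Psh := (Opens.map U.inclusion').sheafPushforwardContinuous (Type u)
  (Opens.grothendieckTopology X) (Opens.grothendieckTopology U)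

noncomputable def adj₂ : U.sheafRestrict (C := Type u) ⊣ Psh U :=
  (U.isOpenEmbedding.isOpenMap.adjunction).sheafPushforwardContinuous (E := Type u)
    (Opens.grothendieckTopology U) (Opens.grothendieckTopology X)

lemma isIso_of_ge {Y : Type u} [TopologicalSpace Y] {V W : Opens Y} (f : V ⟶ W) (h : W ≤ V) :
    IsIso f :=
  ⟨homOfLE h, Subsingleton.elim _ _, Subsingleton.elim _ _⟩

lemma map_functor_eq (V : Opens U) :
    (Opens.map U.inclusion').obj (U.isOpenEmbedding.isOpenMap.functor.obj V) = V := by
  ext x
  simp only [Opens.map_coe, IsOpenMap.coe_functor_obj, Set.mem_preimage, Set.mem_image,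
    SetLike.mem_coe]
  constructor
  · rintro ⟨y, hy, hxy⟩
    have : y = x := Subtype.ext hxy
    exact this ▸ hy
  · intro hx; exact ⟨x, hx, rfl⟩

lemma functor_le (V : Opens U) : U.isOpenEmbedding.isOpenMap.functor.obj V ≤ U := by
  rintro _ ⟨y, _, rfl⟩
  exact y.2

lemma functor_map_eq (W : Opens X) (h : W ≤ U) :
    W = U.isOpenEmbedding.isOpenMap.functor.obj ((Opens.map U.inclusion').obj W) := by
  ext x
  simp only [Opens.map_coe, IsOpenMap.coe_functor_obj, Set.mem_preimage, Set.mem_image,
    SetLike.mem_coe]
  constructor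
  · intro hx; exact ⟨⟨x, h hx⟩, hx, rfl⟩
  · rintro ⟨y, hy, rfl⟩; exact hy

instance : IsIso (adj₂ U).counit := by
  haveI : ∀ F, IsIso ((adj₂ U).counit.app F) := by
    intro F
    haveI : IsIso ((sheafToPresheaf _ _).map ((adj₂ U).counit.app F)) := by
      haveI : ∀ V, IsIso (((sheafToPresheaf _ _).map ((adj₂ U).counit.app F)).app V) := by
        intro V
        dsimp [adj₂]
        change IsIso (F.obj.map _)
        haveI := isIso_of_ge (U.isOpenEmbedding.isOpenMap.adjunction.unit.app V.unop)
          (map_functor_eq U V.unop).le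
        haveI : IsIso (U.isOpenEmbedding.isOpenMap.adjunction.op.counit.app V) := by
          change IsIso (Quiver.Hom.op (U.isOpenEmbedding.isOpenMap.adjunction.unit.app V.unop))
          infer_instance
        infer_instance
      exact NatIso.isIso_of_isIso_app _
    exact isIso_of_reflects_iso _ (sheafToPresheaf _ _)
  exact NatIso.isIso_of_isIso_app _

noncomputable def ff (L : (TopCat.of U).Sheaf (Type u) ⥤ X.Sheaf (Type u))
    (adj : L ⊣ U.sheafRestrict (C := Type u)) : L.FullyFaithful :=
  (Adjunction.Triple.fullyFaithfulEquiv ⟨adj, adj₂ U⟩).symm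
    ((adj₂ U).fullyFaithfulROfIsIsoCounit)

/-- The subterminal sheaf represented by `U`. -/
def hUpre : (Opens X)ᵒᵖ ⥤ Type u where
  obj V := ULift (PLift (V.unop ≤ U))
  map f := TypeCat.ofHom fun s => ⟨⟨f.unop.le.trans s.down.down⟩⟩

instance (V) : Subsingleton ((hUpre U).obj V) := by
  dsimp [hUpre]; infer_instance

lemma hU_isSheaf : TopCat.Presheaf.IsSheaf (hUpre U) := by
  apply TopCat.Presheaf.isSheaf_of_isSheafUniqueGluing_types
  intro ι W sf _
  exact ⟨⟨⟨iSup_le fun i => (sf i).down.down⟩⟩, fun i => Subsingleton.elim _ _,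
    fun _ _ => Subsingleton.elim _ _⟩

def hU : X.Sheaf (Type u) := ⟨hUpre U, hU_isSheaf U⟩

/-- the canonical map `F ⟶ j^* h_U`. -/
def toRestrHU (F : (TopCat.of U).Sheaf (Type u)) : F ⟶ (U.sheafRestrict (C := Type u)).obj (hU U) :=
  ⟨{ app := fun V => TypeCat.ofHom fun _ => ⟨⟨functor_le U V.unop⟩⟩
     naturality := fun V W f => by
       ext s
       exact Subsingleton.elim (α := (hUpre U).obj _) _ _ }⟩

lemma le_of_section (L : (TopCat.of U).Sheaf (Type u) ⥤ X.Sheaf (Type u))
    (adj : L ⊣ U.sheafRestrict (C := Type u)) (F : (TopCat.of U).Sheaf (Type u)) (V : Opens X)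
    (s : (L.obj F).obj.obj (Opposite.op V)) : V ≤ U :=
  ((((adj.homEquiv F (hU U)).symm (toRestrHU U F)).hom.app (Opposite.op V)) s).down.down

lemma isEmpty_sections_of_stalk (G : X.Sheaf (Type u))
    (hG : ∀ x : X, x ∉ U → IsEmpty (G.presheaf.stalk x)) (V : Opens X) (hV : ¬ V ≤ U) :
    IsEmpty (G.obj.obj (Opposite.op V)) := by
  constructor
  intro s
  obtain ⟨x, hxV, hxU⟩ := Set.not_subset.mp hV
  exact (hG x hxU).false (G.presheaf.germ V x hxV s)

lemma isIso_of_restrict {G₁ G₂ : Sheaf (Opens.grothendieckTopology X) (Type u)} (φ : G₁ ⟶ G₂)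
    (h1 : ∀ V : Opens X, ¬ V ≤ U → IsEmpty (G₁.obj.obj (Opposite.op V)))
    (h2 : ∀ V : Opens X, ¬ V ≤ U → IsEmpty (G₂.obj.obj (Opposite.op V)))
    [IsIso ((U.sheafRestrict (C := Type u)).map φ)] : IsIso φ := by
  haveI : IsIso ((sheafToPresheaf _ _).map φ) := by
    haveI : ∀ V, IsIso (((sheafToPresheaf _ _).map φ).app V) := by
      intro V
      obtain ⟨W⟩ := V
      by_cases hW : W ≤ U
      · have key : ∀ W' : Opens U,
            IsIso (φ.hom.app (op (U.isOpenEmbedding.isOpenMap.functor.obj W'))) := by
          intro W'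
          haveI : IsIso ((sheafToPresheaf _ _).map ((U.sheafRestrict (C := Type u)).map φ)) :=
            inferInstance
          exact NatIso.isIso_app_of_isIso
            ((sheafToPresheaf _ _).map ((U.sheafRestrict (C := Type u)).map φ)) (op W')
        have e := functor_map_eq U W hW
        change IsIso (φ.hom.app (op W))
        rw [e]
        exact key _
      · haveI := h1 W hW
        haveI := h2 W hW
        change IsIso (φ.hom.app (op W))
        rw [isIso_iff_bijective]
        exact ⟨fun a => (IsEmpty.false a).elim, fun b => (IsEmpty.false b).elim⟩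
    exact NatIso.isIso_of_isIso_app _
  exact isIso_of_reflects_iso _ (sheafToPresheaf _ _)

theorem main (L : (TopCat.of U).Sheaf (Type u) ⥤ X.Sheaf (Type u)) (adj : L ⊣ U.sheafRestrict (C := Type u)) :
    L.Full ∧ L.Faithful ∧
    ∀ G : X.Sheaf (Type u), L.essImage G ↔ ∀ x : X, x ∉ U → IsEmpty (G.presheaf.stalk x) := by
  have hff := ff U L adj
  haveI := hff.full
  haveI := hff.faithful
  refine ⟨inferInstance, inferInstance, fun G => ⟨?_, ?_⟩⟩
  · rintro ⟨F, ⟨e⟩⟩ x hx
    constructor
    intro t
    obtain ⟨V, m, s, -⟩ := G.presheaf.exists_germ_eq t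
    exact hx (le_of_section U L adj F V (e.inv.hom.app (Opposite.op V) s) m)
  · intro hG
    haveI : IsIso ((U.sheafRestrict (C := Type u)).map (adj.counit.app G)) := by
      have h := adj.right_triangle_components G
      haveI : IsIso adj.unit := inferInstance
      haveI : IsIso (adj.unit.app ((U.sheafRestrict (C := Type u)).obj G)) := inferInstance
      rw [IsIso.eq_inv_of_hom_inv_id h]
      infer_instance
    haveI : IsIso (adj.counit.app G) :=
      isIso_of_restrict U (adj.counit.app G)
        (fun V hV => ⟨fun s => hV (le_of_section U L adj _ V s)⟩)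
        (isEmpty_sections_of_stalk U G hG)
    exact ⟨_, ⟨asIso (adj.counit.app G)⟩⟩

end

/-- Let X be a topological space, U ⊆ X open and j_! : Sh(U) → Sh(X) a left adjoint of restriction of
sheaves of sets to U. Then j_! is fully faithful, and a sheaf G on X lies in its essential image if
and only if G_x = ∅ for all x ∈ X not in U. -/
theorem result {X : TopCat.{u}} (U : Opens X)
    (L : (TopCat.of U).Sheaf (Type u) ⥤ X.Sheaf (Type u)) (adj : L ⊣ U.sheafRestrict (C := Type u)) :
    L.Full ∧ L.Faithful ∧
    ∀ G : X.Sheaf (Type u), L.essImage G ↔ ∀ x : X, x ∉ U → IsEmpty (G.presheaf.stalk x) := by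
  exact main U L adj

end Groth.Agent.S7574
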