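import Groth.Statements.S7575
import Mathlib

set_option autoImplicit false
universe u
open CategoryTheory CategoryTheory.Limits TopologicalSpace Opposite
open ShSp

namespace Groth.Agent.S7575

noncomputable section

variable {X : TopCat.{u}} {J : Type u} [Preorder J]
  (F : J ⥤ X.Sheaf (Type u)) (c : Cocone F)

/-- Sections of the `i`-th sheaf. -/
abbrev sec (i : J) (V : Opens X) : Type u := (F.obj i).1.obj (op V)

/-- Sections of the colimit sheaf. -/
abbrev secG {F : J ⥤ X.Sheaf (Type u)} (c : Cocone F) (V : Opens X) : Type u :=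
  c.pt.1.obj (op V)

/-- Restriction of sections. -/
def res (i : J) {V W : Opens X} (h : W ≤ V) (s : sec F i V) : sec F i W :=
  (F.obj i).1.map (homOfLE h).op s

/-- Restriction of sections of the colimit. -/
def resG {F : J ⥤ X.Sheaf (Type u)} (c : Cocone F) {V W : Opens X} (h : W ≤ V)
    (g : secG c V) : secG c W :=
  c.pt.1.map (homOfLE h).op g

/-- Transition maps. -/
def tr {i j : J} (h : i ≤ j) (V : Opens X) (s : sec F i V) : sec F j V :=
  (F.map (homOfLE h)).1.app (op V) s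

/-- Maps to the colimit. -/
def inc (i : J) (V : Opens X) (s : sec F i V) : secG c V :=
  (c.ι.app i).1.app (op V) s

lemma map_map_apply {P : (Opens X)ᵒᵖ ⥤ Type u} {A B C : (Opens X)ᵒᵖ} (f : A ⟶ B) (g : B ⟶ C)
    (h : A ⟶ C) (s : P.obj A) : P.map g (P.map f s) = P.map h s := by
  have hfg : f ≫ g = h := Subsingleton.elim _ _
  rw [← hfg, Functor.map_comp_apply]

lemma res_res (i : J) {V W W' : Opens X} (h : W ≤ V) (h' : W' ≤ W) (s : sec F i V) :
    res F i h' (res F i h s) = res F i (h'.trans h) s :=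
  map_map_apply _ _ _ s

lemma resG_resG {V W W' : Opens X} (h : W ≤ V) (h' : W' ≤ W) (g : secG c V) :
    resG c h' (resG c h g) = resG c (h'.trans h) g :=
  map_map_apply _ _ _ g

lemma tr_res {i j : J} (hij : i ≤ j) {V W : Opens X} (h : W ≤ V) (s : sec F i V) :
    tr F hij W (res F i h s) = res F j h (tr F hij V s) :=
  NatTrans.naturality_apply (F.map (homOfLE hij)).1 (homOfLE h).op s

lemma inc_res (i : J) {V W : Opens X} (h : W ≤ V) (s : sec F i V) :
    inc F c i W (res F i h s) = resG c h (inc F c i V s) :=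
  NatTrans.naturality_apply (c.ι.app i).1 (homOfLE h).op s

lemma tr_tr {i j k : J} (hij : i ≤ j) (hjk : j ≤ k) (V : Opens X) (s : sec F i V) :
    tr F hjk V (tr F hij V s) = tr F (hij.trans hjk) V s := by
  have h : F.map (homOfLE (hij.trans hjk)) = F.map (homOfLE hij) ≫ F.map (homOfLE hjk) := by
    rw [← F.map_comp]
    rfl
  unfold tr
  rw [h]
  rfl

lemma inc_tr {i j : J} (hij : i ≤ j) (V : Opens X) (s : sec F i V) :
    inc F c j V (tr F hij V s) = inc F c i V s := by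
  unfold inc tr
  rw [← c.w (homOfLE hij)]
  rfl

/-- Evaluation of sheaves at an open. -/
abbrev evV (V : Opens X) : X.Sheaf (Type u) ⥤ Type u :=
  TopCat.Sheaf.forget (Type u) X ⋙ (evaluation (Opens X)ᵒᵖ (Type u)).obj (op V)

lemma Psi_ι (V : Opens X) (i : J) (s : sec F i V) :
    colimit.desc (F ⋙ evV V) ((evV V).mapCocone c) (colimit.ι (F ⋙ evV V) i s) =
      inc F c i V s :=
  ConcreteCategory.congr_hom (colimit.ι_desc ((evV V).mapCocone c) i) s

lemma ι_tr {i j : J} (hij : i ≤ j) (V : Opens X) (s : sec F i V) :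
    colimit.ι (F ⋙ evV V) j (tr F hij V s) = colimit.ι (F ⋙ evV V) i s :=
  ConcreteCategory.congr_hom (colimit.w (F ⋙ evV V) (homOfLE hij)) s

lemma injective_Psi [Nonempty J] [IsDirected J (· ≤ ·)] (V : Opens X)
    (h : ∀ (i : J) (s t : sec F i V), inc F c i V s = inc F c i V t →
      ∃ (j : J) (hij : i ≤ j), tr F hij V s = tr F hij V t) :
    Function.Injective (colimit.desc (F ⋙ evV V) ((evV V).mapCocone c)) := by
  intro a b hab
  obtain ⟨i₁, s₁, rfl⟩ := Types.jointly_surjective' a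
  obtain ⟨i₂, s₂, rfl⟩ := Types.jointly_surjective' b
  obtain ⟨i, h₁, h₂⟩ := exists_ge_ge i₁ i₂
  rw [← ι_tr F h₁ V s₁, ← ι_tr F h₂ V s₂] at hab ⊢
  rw [Psi_ι, Psi_ι] at hab
  obtain ⟨j, hij, hj⟩ := h i _ _ hab
  rw [← ι_tr F hij V (tr F h₁ V s₁), ← ι_tr F hij V (tr F h₂ V s₂), hj]

lemma surjective_Psi (V : Opens X)
    (h : ∀ g : secG c V, ∃ (i : J) (s : sec F i V), inc F c i V s = g) :
    Function.Surjective (colimit.desc (F ⋙ evV V) ((evV V).mapCocone c)) := by
  intro g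
  obtain ⟨i, s, rfl⟩ := h g
  exact ⟨colimit.ι (F ⋙ evV V) i s, Psi_ι F c V i s⟩

lemma sec_ext (i : J) {V : Opens X} {ι : Type*} (W : ι → Opens X) (hW : ∀ k, W k ≤ V)
    (hcov : V ≤ ⨆ k, W k) (s t : sec F i V)
    (h : ∀ k, res F i (hW k) s = res F i (hW k) t) : s = t :=
  TopCat.Sheaf.eq_of_locally_eq' (F.obj i) W V (fun k => homOfLE (hW k)) hcov s t h

lemma secG_ext {V : Opens X} {ι : Type*} (W : ι → Opens X) (hW : ∀ k, W k ≤ V)
    (hcov : V ≤ ⨆ k, W k) (s t : secG c V)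
    (h : ∀ k, resG c (hW k) s = resG c (hW k) t) : s = t :=
  TopCat.Sheaf.eq_of_locally_eq' c.pt W V (fun k => homOfLE (hW k)) hcov s t h

lemma sec_glue (i : J) {V : Opens X} {ι : Type*} (W : ι → Opens X) (hW : ∀ k, W k ≤ V)
    (hcov : V ≤ ⨆ k, W k) (sf : ∀ k, sec F i (W k))
    (hcompat : ∀ k l, res F i (inf_le_left : W k ⊓ W l ≤ W k) (sf k) =
      res F i (inf_le_right : W k ⊓ W l ≤ W l) (sf l)) :
    ∃ s : sec F i V, ∀ k, res F i (hW k) s = sf k := by
  obtain ⟨s, hs, -⟩ := TopCat.Sheaf.existsUnique_gluing' (F.obj i) W V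
    (fun k => homOfLE (hW k)) hcov sf (fun k l => hcompat k l)
  exact ⟨s, hs⟩

/-- The stalk functor on sheaves. -/
abbrev stk (x : X) : X.Sheaf (Type u) ⥤ Type u :=
  TopCat.Sheaf.forget (Type u) X ⋙ TopCat.Presheaf.stalkFunctor (Type u) x

lemma exists_local_eq [Nonempty J] [IsDirected J (· ≤ ·)] (hc : IsColimit c) {i : J}
    {V : Opens X} (s t : sec F i V)
    (h : inc F c i V s = inc F c i V t) (x : X) (hx : x ∈ V) :
    ∃ (j : J) (hij : i ≤ j) (W : Opens X) (hW : W ≤ V), x ∈ W ∧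
      res F j hW (tr F hij V s) = res F j hW (tr F hij V t) := by
  have hS : IsColimit ((stk x).mapCocone c) := isColimitOfPreserves (stk x) hc
  have e1 : ((stk x).mapCocone c).ι.app i (TopCat.Presheaf.germ (F.obj i).1 V x hx s) =
      ((stk x).mapCocone c).ι.app i (TopCat.Presheaf.germ (F.obj i).1 V x hx t) := by
    change (TopCat.Presheaf.stalkFunctor (Type u) x).map (c.ι.app i).1 _ =
      (TopCat.Presheaf.stalkFunctor (Type u) x).map (c.ι.app i).1 _
    rw [TopCat.Presheaf.stalkFunctor_map_germ_apply, TopCat.Presheaf.stalkFunctor_map_germ_apply]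
    exact congrArg _ h
  obtain ⟨k, f, g, hk⟩ := (Types.FilteredColimit.isColimit_eq_iff _ hS).mp e1
  have hfg : g = f := Subsingleton.elim _ _
  subst hfg
  change (TopCat.Presheaf.stalkFunctor (Type u) x).map (F.map g).1 _ =
    (TopCat.Presheaf.stalkFunctor (Type u) x).map (F.map g).1 _ at hk
  rw [TopCat.Presheaf.stalkFunctor_map_germ_apply, TopCat.Presheaf.stalkFunctor_map_germ_apply]
    at hk
  obtain ⟨W, hxW, iU, iV, e⟩ := TopCat.Presheaf.germ_eq _ x hx hx _ _ hk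
  exact ⟨k, leOfHom g, W, iU.le, hxW, e⟩

lemma exists_local_section [Nonempty J] [IsDirected J (· ≤ ·)] (hc : IsColimit c)
    {V : Opens X} (g : secG c V) (x : X) (hx : x ∈ V) :
    ∃ (i : J) (W : Opens X) (hW : W ≤ V) (s : sec F i W), x ∈ W ∧
      inc F c i W s = resG c hW g := by
  have hS : IsColimit ((stk x).mapCocone c) := isColimitOfPreserves (stk x) hc
  obtain ⟨i, y, hy⟩ := Types.jointly_surjective_of_isColimit hS (TopCat.Presheaf.germ c.pt.1 V x hx g)
  obtain ⟨W', hxW', s', rfl⟩ := TopCat.Presheaf.exists_germ_eq (F.obj i).1 y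
  change (TopCat.Presheaf.stalkFunctor (Type u) x).map (c.ι.app i).1 _ = _ at hy
  rw [TopCat.Presheaf.stalkFunctor_map_germ_apply] at hy
  obtain ⟨W, hxW, iU, iV, e⟩ := TopCat.Presheaf.germ_eq _ x hxW' hx _ _ hy
  refine ⟨i, W, iV.le, res F i iU.le s', hxW, ?_⟩
  rw [inc_res]
  exact e

lemma inc_injective_of_tr_injective [Nonempty J] [IsDirected J (· ≤ ·)] (hc : IsColimit c)
    (hinj : ∀ (i j : J) (h : i ⟶ j) (V : Opens X),
      Function.Injective ((F.map h).1.app (op V)))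
    (i : J) (V : Opens X) : Function.Injective (inc F c i V) := by
  intro s t hst
  have hloc : ∀ x : V, ∃ (W : Opens X) (hW : W ≤ V), x.1 ∈ W ∧
      res F i hW s = res F i hW t := by
    intro x
    obtain ⟨j, hij, W, hW, hxW, e⟩ := exists_local_eq F c hc s t hst x.1 x.2
    refine ⟨W, hW, hxW, ?_⟩
    rw [← tr_res, ← tr_res] at e
    exact hinj i j (homOfLE hij) W e
  choose W hW hxW e using hloc
  exact sec_ext F i W hW (fun x hx => Opens.mem_iSup.mpr ⟨⟨x, hx⟩, hxW ⟨x, hx⟩⟩) s t e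

lemma exists_tr_eq_of_isCompact [Nonempty J] [IsDirected J (· ≤ ·)] (hc : IsColimit c) {i : J}
    {V : Opens X} (hV : IsCompact (V : Set X)) (s t : sec F i V)
    (hst : inc F c i V s = inc F c i V t) :
    ∃ (j : J) (hij : i ≤ j), tr F hij V s = tr F hij V t := by
  classical
  have hloc : ∀ x : V, ∃ (j : J) (hij : i ≤ j) (W : Opens X) (hW : W ≤ V), x.1 ∈ W ∧
      res F j hW (tr F hij V s) = res F j hW (tr F hij V t) :=
    fun x => exists_local_eq F c hc s t hst x.1 x.2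
  choose j hij W hW hxW e using hloc
  obtain ⟨T, hT⟩ := hV.elim_finite_subcover (fun x : V => (W x : Set X))
    (fun x => (W x).isOpen) (fun x hx => Set.mem_iUnion.mpr ⟨⟨x, hx⟩, hxW ⟨x, hx⟩⟩)
  obtain ⟨k₀, hk₀⟩ := (T.image j).exists_le
  obtain ⟨k, hk₀k, hik⟩ := exists_ge_ge k₀ i
  have hjk : ∀ x : T, j x.1 ≤ k := fun x =>
    (hk₀ _ (Finset.mem_image_of_mem j x.2)).trans hk₀k
  refine ⟨k, hik, ?_⟩
  refine sec_ext F k (fun x : T => W x.1) (fun x => hW x.1) ?_ _ _ ?_
  · intro y hy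
    obtain ⟨x, hyx⟩ := Set.mem_iUnion.mp (hT hy)
    obtain ⟨hxT, hyx⟩ := Set.mem_iUnion.mp hyx
    exact Opens.mem_iSup.mpr ⟨⟨x, hxT⟩, hyx⟩
  · intro x
    have h1 : ∀ u : sec F i V, res F k (hW x.1) (tr F hik V u) =
        tr F (hjk x) (W x.1) (res F (j x.1) (hW x.1) (tr F (hij x.1) V u)) := by
      intro u
      rw [tr_res, tr_tr]
    rw [h1, h1, e x.1]

lemma exists_inc_eq_of_local (k : J) {V : Opens X} {ι : Type*} (W : ι → Opens X)
    (hW : ∀ a, W a ≤ V) (hcov : V ≤ ⨆ a, W a) (g : secG c V) (w : ∀ a, sec F k (W a))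
    (hw : ∀ a, inc F c k (W a) (w a) = resG c (hW a) g)
    (hcompat : ∀ a b, res F k (inf_le_left : W a ⊓ W b ≤ W a) (w a) =
      res F k (inf_le_right : W a ⊓ W b ≤ W b) (w b)) :
    ∃ s : sec F k V, inc F c k V s = g := by
  obtain ⟨s, hs⟩ := sec_glue F k W hW hcov w hcompat
  refine ⟨s, secG_ext F c W hW hcov _ _ fun a => ?_⟩
  rw [← inc_res, hs a, hw a]

lemma exists_inc_eq_of_isCompact_of_injective [Nonempty J] [IsDirected J (· ≤ ·)]
    (hc : IsColimit c)
    (hinj : ∀ (i j : J) (h : i ⟶ j) (V : Opens X),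
      Function.Injective ((F.map h).1.app (op V)))
    {V : Opens X} (hV : IsCompact (V : Set X)) (g : secG c V) :
    ∃ (i : J) (s : sec F i V), inc F c i V s = g := by
  classical
  have hloc : ∀ x : V, ∃ (i : J) (W : Opens X) (hW : W ≤ V) (s : sec F i W), x.1 ∈ W ∧
      inc F c i W s = resG c hW g := fun x => exists_local_section F c hc g x.1 x.2
  choose i W hW s hxW hs using hloc
  obtain ⟨T, hT⟩ := hV.elim_finite_subcover (fun x : V => (W x : Set X))
    (fun x => (W x).isOpen) (fun x hx => Set.mem_iUnion.mpr ⟨⟨x, hx⟩, hxW ⟨x, hx⟩⟩)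
  obtain ⟨k, hk⟩ := (T.image i).exists_le
  have hik : ∀ x : T, i x.1 ≤ k := fun x => hk _ (Finset.mem_image_of_mem i x.2)
  have hcov : V ≤ ⨆ x : T, W x.1 := by
    intro y hy
    obtain ⟨x, hyx⟩ := Set.mem_iUnion.mp (hT hy)
    obtain ⟨hxT, hyx⟩ := Set.mem_iUnion.mp hyx
    exact Opens.mem_iSup.mpr ⟨⟨x, hxT⟩, hyx⟩
  refine ⟨k, exists_inc_eq_of_local F c k (fun x : T => W x.1) (fun x => hW x.1) hcov g
    (fun x => tr F (hik x) (W x.1) (s x.1)) ?_ ?_⟩
  · intro x
    rw [inc_tr]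
    exact hs x.1
  · intro x y
    apply inc_injective_of_tr_injective F c hc hinj k
    rw [inc_res, inc_res, inc_tr, inc_tr, hs, hs, resG_resG, resG_resG]

lemma isCompact_of_refine {V : Opens X}
    (href : ∀ 𝒱 : Set (Opens X), (⨆ V' ∈ 𝒱, V') = V →
        ∃ (m : ℕ) (W : Fin m → Opens X), (∀ j, ∃ V' ∈ 𝒱, W j ≤ V') ∧ (⨆ j, W j) = V ∧
          ∀ j j', IsCompact ((W j ⊓ W j' : Opens X) : Set X)) :
    IsCompact (V : Set X) := by
  obtain ⟨m, W, -, hcov, hcpt⟩ := href {V} (by simp)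
  have hV : (V : Set X) = ⋃ j, (W j : Set X) := by
    rw [← hcov, Opens.coe_iSup]
  rw [hV]
  refine isCompact_iUnion fun j => ?_
  have h := hcpt j j
  rwa [inf_idem] at h

lemma exists_inc_eq_of_refine [Nonempty J] [IsDirected J (· ≤ ·)] (hc : IsColimit c)
    {V : Opens X}
    (href : ∀ 𝒱 : Set (Opens X), (⨆ V' ∈ 𝒱, V') = V →
        ∃ (m : ℕ) (W : Fin m → Opens X), (∀ j, ∃ V' ∈ 𝒱, W j ≤ V') ∧ (⨆ j, W j) = V ∧
          ∀ j j', IsCompact ((W j ⊓ W j' : Opens X) : Set X))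
    (g : secG c V) : ∃ (i : J) (s : sec F i V), inc F c i V s = g := by
  classical
  have hloc : ∀ x : V, ∃ (i : J) (W : Opens X) (hW : W ≤ V) (s : sec F i W), x.1 ∈ W ∧
      inc F c i W s = resG c hW g := fun x => exists_local_section F c hc g x.1 x.2
  choose i W hW s hxW hs using hloc
  have hcov0 : (⨆ V' ∈ Set.range W, V') = V := by
    apply le_antisymm
    · refine iSup₂_le fun V' hV' => ?_
      obtain ⟨x, rfl⟩ := hV'
      exact hW x
    · intro x hx
      exact Opens.mem_iSup.mpr ⟨W ⟨x, hx⟩, Opens.mem_iSup.mpr ⟨⟨⟨x, hx⟩, rfl⟩, hxW ⟨x, hx⟩⟩⟩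
  obtain ⟨m, W', hW'ref, hW'cov, hW'cpt⟩ := href (Set.range W) hcov0
  have hx' : ∀ a : Fin m, ∃ x : V, W' a ≤ W x := by
    intro a
    obtain ⟨V', ⟨x, rfl⟩, h⟩ := hW'ref a
    exact ⟨x, h⟩
  choose xx hxx using hx'
  have hW'V : ∀ a, W' a ≤ V := fun a => (hxx a).trans (hW _)
  obtain ⟨k₀, hk₀⟩ := (Finset.univ.image fun a => i (xx a)).exists_le
  have hik₀ : ∀ a, i (xx a) ≤ k₀ := fun a =>
    hk₀ _ (Finset.mem_image_of_mem (fun a => i (xx a)) (Finset.mem_univ a))
  obtain ⟨T, hT⟩ : ∃ T : ∀ a, sec F k₀ (W' a),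
      ∀ a, inc F c k₀ (W' a) (T a) = resG c (hW'V a) g :=
    ⟨fun a => tr F (hik₀ a) (W' a) (res F (i (xx a)) (hxx a) (s (xx a))), fun a => by
      rw [inc_tr, inc_res, hs, resG_resG]⟩
  have hcomp : ∀ p : Fin m × Fin m, ∃ (k : J) (hk : k₀ ≤ k),
      tr F hk _ (res F k₀ (inf_le_left : W' p.1 ⊓ W' p.2 ≤ W' p.1) (T p.1)) =
      tr F hk _ (res F k₀ (inf_le_right : W' p.1 ⊓ W' p.2 ≤ W' p.2) (T p.2)) := by
    intro p
    apply exists_tr_eq_of_isCompact F c hc (hW'cpt p.1 p.2)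
    rw [inc_res, inc_res, hT, hT, resG_resG, resG_resG]
  choose kk hkk ekk using hcomp
  obtain ⟨k₁, hk₁⟩ := (Finset.univ.image kk).exists_le
  have hkk₁ : ∀ p, kk p ≤ k₁ := fun p =>
    hk₁ _ (Finset.mem_image_of_mem kk (Finset.mem_univ p))
  obtain ⟨k, hk₁k, hk₀k⟩ := exists_ge_ge k₁ k₀
  refine ⟨k, exists_inc_eq_of_local F c k W' hW'V hW'cov.ge g
    (fun a => tr F hk₀k (W' a) (T a)) ?_ ?_⟩
  · intro a
    rw [inc_tr]
    exact hT a
  · intro a b
    have h1 : ∀ (w : sec F k₀ (W' a ⊓ W' b)), tr F hk₀k _ w =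
        tr F ((hkk₁ (a, b)).trans hk₁k) _ (tr F (hkk (a, b)) _ w) :=
      fun w => (tr_tr F _ _ _ w).symm
    change res F k _ (tr F hk₀k (W' a) (T a)) = res F k _ (tr F hk₀k (W' b) (T b))
    rw [← tr_res F hk₀k (inf_le_left : W' a ⊓ W' b ≤ W' a) (T a),
      ← tr_res F hk₀k (inf_le_right : W' a ⊓ W' b ≤ W' b) (T b), h1, h1]
    exact congrArg _ (ekk (a, b))

end

/-- Let X be a topological space, I a directed set, (F_i) a system of sheaves of sets on X over I with
colimit F (in sheaves), U ⊆ X open, and Ψ : colim_i F_i(U) → F(U) the canonical map. (1) If all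
transition maps F_i → F_{i'} are injective (on all sections) then Ψ is injective. (2)
Quasi-compactness of U alone already makes Ψ injective. (3) When U is quasi-compact and every
transition map is injective, Ψ is bijective. (4) If every open covering of U can be refined by a
finite open covering U = U_1 ∪ … ∪ U_m with all U_j ∩ U_{j'} quasi-compact, then Ψ is bijective. -/
theorem result {X : TopCat.{u}} {J : Type u} [Preorder J] [Nonempty J] [IsDirected J (· ≤ ·)]
    (F : J ⥤ X.Sheaf (Type u)) (c : Cocone F) (hc : IsColimit c) (U : Opens X) :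
    let ev := TopCat.Sheaf.forget (Type u) X ⋙ (evaluation (Opens X)ᵒᵖ (Type u)).obj (op U)
    let Ψ : colimit (F ⋙ ev) → ev.obj c.pt := colimit.desc (F ⋙ ev) (ev.mapCocone c)
    ((∀ (i j : J) (h : i ⟶ j) (V : Opens X), Function.Injective ((F.map h).1.app (op V))) → Function.Injective Ψ) ∧
    (IsCompact (U : Set X) → Function.Injective Ψ) ∧
    (IsCompact (U : Set X) → (∀ (i j : J) (h : i ⟶ j) (V : Opens X), Function.Injective ((F.map h).1.app (op V))) →
      Function.Bijective Ψ) ∧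
    ((∀ 𝒱 : Set (Opens X), (⨆ V ∈ 𝒱, V) = U →
        ∃ (m : ℕ) (W : Fin m → Opens X), (∀ j, ∃ V ∈ 𝒱, W j ≤ V) ∧ (⨆ j, W j) = U ∧
          ∀ j j', IsCompact ((W j ⊓ W j' : Opens X) : Set X)) →
      Function.Bijective Ψ) := by
  intro ev Ψ
  refine ⟨?_, ?_, ?_, ?_⟩
  · intro hinj
    apply injective_Psi F c U
    intro i s t hst
    exact ⟨i, le_rfl, by rw [inc_injective_of_tr_injective F c hc hinj i U hst]⟩
  · intro hU
    exact injective_Psi F c U fun i s t hst => exists_tr_eq_of_isCompact F c hc hU s t hst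
  · intro hU hinj
    exact ⟨injective_Psi F c U fun i s t hst => exists_tr_eq_of_isCompact F c hc hU s t hst,
      surjective_Psi F c U fun g =>
        exists_inc_eq_of_isCompact_of_injective F c hc hinj hU g⟩
  · intro href
    exact ⟨injective_Psi F c U fun i s t hst =>
        exists_tr_eq_of_isCompact F c hc (isCompact_of_refine href) s t hst,
      surjective_Psi F c U fun g => exists_inc_eq_of_refine F c hc href g⟩

end Groth.Agent.S7575
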