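import Groth.Statements.S7584
import Mathlib.Topology.Separation.Regular

set_option autoImplicit false
universe u
open PtTop

namespace Groth.Agent.S7584

/-- Let X be a quasi-compact topological space in which each connected component equals the intersection
of all clopen sets that contain it. Then π₀(X), the set of connected components with the quotient
topology, is Hausdorff. The published statement concludes that π₀(X) is profinite; this row records
the Hausdorff property, quasi-compactness and total disconnectedness of the quotient being
automatic. -/
theorem result (X : Type u) [TopologicalSpace X] [CompactSpace X]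
    (h : ∀ x : X, connectedComponent x = ⋂₀ {Z : Set X | IsClopen Z ∧ x ∈ Z}) :
    T2Space (ConnectedComponents X) := by
  have h' : ∀ x : X, connectedComponent x = ⋂ s : { s : Set X // IsClopen s ∧ x ∈ s }, (s : Set X) := by
    intro x
    rw [h x]
    ext y
    simp only [Set.mem_sInter, Set.mem_ofPred_eq, and_imp, Set.mem_iInter, Subtype.forall]
  refine ⟨ConnectedComponents.surjective_coe.forall₂.2 fun a b ne => ?_⟩
  rw [ConnectedComponents.coe_ne_coe] at ne
  have hd := connectedComponent_disjoint ne
  rw [h' b, Set.disjoint_iff_inter_eq_empty] at hd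
  obtain ⟨U, V, hU, ha, hb, rfl⟩ : ∃ (U : Set X) (V : Set (ConnectedComponents X)),
      IsClopen U ∧ connectedComponent a ∩ U = ∅ ∧ connectedComponent b ⊆ U ∧ (↑) ⁻¹' V = U := by
    have h2 :=
      (isClosed_connectedComponent (α := X)).isCompact.elim_finite_subfamily_closed
        _ (fun s : { s : Set X // IsClopen s ∧ b ∈ s } => s.2.1.1) hd
    obtain ⟨fin_a, ha⟩ := h2
    set U : Set X := ⋂ (i : { s // IsClopen s ∧ b ∈ s }) (_ : i ∈ fin_a), i
    have hU : IsClopen U := isClopen_biInter_finset fun i _ => i.2.1
    exact ⟨U, (↑) '' U, hU, ha, Set.subset_iInter₂ fun s _ => s.2.1.connectedComponent_subset s.2.2,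
      (connectedComponents_preimage_image U).symm ▸ hU.biUnion_connectedComponent_eq⟩
  rw [ConnectedComponents.isQuotientMap_coe.isClopen_preimage] at hU
  refine ⟨Vᶜ, V, hU.compl.isOpen, hU.isOpen, ?_, hb mem_connectedComponent, disjoint_compl_left⟩
  exact fun h => flip Set.Nonempty.ne_empty ha ⟨a, mem_connectedComponent, h⟩

end Groth.Agent.S7584
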