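import Groth.Statements.S7585
import Groth.Agent.H38.ShBasis

set_option autoImplicit false
universe u
open ShSp

namespace Groth.Agent.S7585

/-- Let X be a topological space, ℬ a basis for its topology and F a presheaf of sets on ℬ. For each U ∈
ℬ let C(U) be a cofinal system of coverings of U by members of ℬ (every covering of U by members of
ℬ is refined by one in C(U)), each member of C(U) coming with chosen coverings of the pairwise
intersections U_i ∩ U_j by members of ℬ. Then F is a sheaf on ℬ if and only if the sheaf condition
(**) holds for every U ∈ ℬ and every covering in C(U) with its chosen intersection coverings. -/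
theorem result {X : Type u} [TopologicalSpace X] {B : Set (TopologicalSpace.Opens X)}
    (hB : TopologicalSpace.Opens.IsBasis B) (F : ShB.Pre B)
    (C : ∀ U : B, Set (ShB.Cover B)) (hCU : ∀ U, ∀ c ∈ C U, c.U = U)
    (hC : ∀ (U : B) (ι : Type u) (V : ι → B), (∀ i, (V i : TopologicalSpace.Opens X) ≤ (U : TopologicalSpace.Opens X)) →
      (U : TopologicalSpace.Opens X) ≤ ⨆ i, (V i : TopologicalSpace.Opens X) →
      ∃ c ∈ C U, ∀ i' : c.ι, ∃ i, (c.V i' : TopologicalSpace.Opens X) ≤ (V i : TopologicalSpace.Opens X)) :
    ShB.IsSheaf F ↔ ∀ U, ∀ c ∈ C U, ShB.GluesUniquely F c := by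
  constructor
  · intro hF U c _
    exact hF c
  · intro H
    have hsep : Groth.Agent.H38.SepB F := by
      apply Groth.Agent.H38.sepB_of_cofinal
      intro U ι V hV hcov
      obtain ⟨c, hc, href⟩ := hC U ι V hV hcov
      have hcU := hCU U c hc
      subst hcU
      refine ⟨c.ι, c.V, c.V_le, href, ?_⟩
      intro t t' htt'
      have h := H c.U c hc (fun i' => F.res (c.V_le i') t) (by
        intro i j k
        rw [F.res_comp, F.res_comp])
      exact h.unique (fun _ => rfl) (fun i' => (htt' i').symm)
    apply Groth.Agent.H38.isSheaf_of_cofinal hB F hsep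
    intro U ι V hV hcov
    obtain ⟨c, hc, href⟩ := hC U ι V hV hcov
    have hcU := hCU U c hc
    subst hcU
    refine ⟨c.ι, c.V, c.V_le, c.V_cover, href, ?_⟩
    intro s' hs'
    exact H c.U c hc s' (fun i j k => hs' i j (c.W i j k) _ _)

end Groth.Agent.S7585
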