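import Groth.Statements.S7586
import Groth.Agent.H38.ShBasis

set_option autoImplicit false
universe u
open ShSp

namespace Groth.Agent.S7586

/-- Let X be a topological space and ℬ a basis for its topology such that for U, U′, U″ ∈ ℬ with U′ ⊆ U
and U″ ⊆ U one has U′ ∩ U″ ∈ ℬ. For each U ∈ ℬ let C(U) be a cofinal system of coverings of U by
members of ℬ, and let F be a presheaf of sets on ℬ. Then F is a sheaf on ℬ if and only if for every
U ∈ ℬ, every covering U = ⋃ U_i in C(U) and every family of sections s_i ∈ F(U_i) with s_i and s_j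
having the same restriction to U_i ∩ U_j, there is a unique s ∈ F(U) restricting to s_i on each U_i. -/
theorem result {X : Type u} [TopologicalSpace X] {B : Set (TopologicalSpace.Opens X)}
    (hB : TopologicalSpace.Opens.IsBasis B)
    (hBi : ∀ U ∈ B, ∀ U' ∈ B, ∀ U'' ∈ B, U' ≤ U → U'' ≤ U → U' ⊓ U'' ∈ B)
    (F : ShB.Pre B)
    (C : ∀ U : B, Set (ShB.Cover B)) (hCU : ∀ U, ∀ c ∈ C U, c.U = U)
    (hC : ∀ (U : B) (ι : Type u) (V : ι → B), (∀ i, (V i : TopologicalSpace.Opens X) ≤ (U : TopologicalSpace.Opens X)) →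
      (U : TopologicalSpace.Opens X) ≤ ⨆ i, (V i : TopologicalSpace.Opens X) →
      ∃ c ∈ C U, ∀ i' : c.ι, ∃ i, (c.V i' : TopologicalSpace.Opens X) ≤ (V i : TopologicalSpace.Opens X)) :
    ShB.IsSheaf F ↔ ∀ (U : B), ∀ c ∈ C U, ∀ s : ∀ i, F.obj (c.V i),
      (∀ i j, F.res (U := c.V i) (V := ⟨(c.V i : TopologicalSpace.Opens X) ⊓ c.V j,
          hBi c.U c.U.2 _ (c.V i).2 _ (c.V j).2 (c.V_le i) (c.V_le j)⟩) inf_le_left (s i) =
        F.res (U := c.V j) (V := ⟨(c.V i : TopologicalSpace.Opens X) ⊓ c.V j,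
          hBi c.U c.U.2 _ (c.V i).2 _ (c.V j).2 (c.V_le i) (c.V_le j)⟩) inf_le_right (s j)) →
      ∃! t : F.obj c.U, ∀ i, F.res (c.V_le i) t = s i := by
  constructor
  · intro hF U c _ s hs
    let c' : ShB.Cover B :=
      { U := c.U
        ι := c.ι
        V := c.V
        V_le := c.V_le
        V_cover := c.V_cover
        κ := fun _ _ => PUnit.{u + 1}
        W := fun i j _ => ⟨(c.V i : TopologicalSpace.Opens X) ⊓ c.V j,
          hBi c.U c.U.2 _ (c.V i).2 _ (c.V j).2 (c.V_le i) (c.V_le j)⟩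
        W_le_left := fun _ _ _ => inf_le_left
        W_le_right := fun _ _ _ => inf_le_right
        W_cover := fun i j => le_iSup_of_le PUnit.unit le_rfl }
    exact hF c' s (fun i j _ => hs i j)
  · intro H
    have hsep : Groth.Agent.H38.SepB F := by
      apply Groth.Agent.H38.sepB_of_cofinal
      intro U ι V hV hcov
      obtain ⟨c, hc, href⟩ := hC U ι V hV hcov
      have hcU := hCU U c hc
      subst hcU
      refine ⟨c.ι, c.V, c.V_le, href, ?_⟩
      intro t t' htt'
      have h := H c.U c hc (fun i' => F.res (c.V_le i') t) (by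
        intro i j
        rw [F.res_comp, F.res_comp])
      exact h.unique (fun _ => rfl) (fun i' => (htt' i').symm)
    apply Groth.Agent.H38.isSheaf_of_cofinal hB F hsep
    intro U ι V hV hcov
    obtain ⟨c, hc, href⟩ := hC U ι V hV hcov
    have hcU := hCU U c hc
    subst hcU
    refine ⟨c.ι, c.V, c.V_le, c.V_cover, href, ?_⟩
    intro s' hs'
    exact H c.U c hc s' (fun i j => hs' i j _ _ _)

end Groth.Agent.S7586
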