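import Groth.Statements.S7590
import Groth.Agent.H37.GeomSepClosed

set_option autoImplicit false
universe u
open CategoryTheory CategoryTheory.Limits AlgebraicGeometry
open Variety

namespace Groth.Agent.S7590

/-- Let k be a separably closed field, K any extension field of k and X a scheme over k. Then the
projection X_K → X induces a bijection between the sets of connected components. -/
theorem result (k : Type u) [Field k] [IsSepClosed k] (X : Scheme.{u}) [X.Over (Spec (CommRingCat.of k))]
    (K : Type u) [Field K] [Algebra k K] :
    Function.Bijective (Continuous.connectedComponentsMap (Curv2.bcFst k X K).continuous) := by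
  haveI h1 : GeometricallyConnected (Spec.map (CommRingCat.ofHom (algebraMap k K))) :=
    Groth.Agent.H37.geomConn_specMap_of_isSepClosed
  haveI h2 : UniversallyOpen (Spec.map (CommRingCat.ofHom (algebraMap k K))) :=
    Groth.Agent.H37.univOpen_specMap_field
  haveI h3 : GeometricallyConnected (Curv2.bcFst k X K) := inferInstance
  haveI h4 : UniversallyOpen (Curv2.bcFst k X K) := inferInstance
  have hconn : ∀ Z : Set X, _root_.IsConnected Z →
      _root_.IsConnected ((Curv2.bcFst k X K) ⁻¹' Z) := fun Z hZ =>
    Groth.Agent.H37.isConnected_preimage_of_isOpenMap_of_fibres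
      (Curv2.bcFst k X K).continuous (Curv2.bcFst k X K).isOpenMap
      (fun b => Scheme.Hom.isConnected_preimage_singleton (Curv2.bcFst k X K) b) hZ
  constructor
  · intro a b hab
    obtain ⟨y₁, rfl⟩ := _root_.ConnectedComponents.surjective_coe a
    obtain ⟨y₂, rfl⟩ := _root_.ConnectedComponents.surjective_coe b
    have hab' : (_root_.ConnectedComponents.mk ((Curv2.bcFst k X K) y₁) : _root_.ConnectedComponents X) =
        _root_.ConnectedComponents.mk ((Curv2.bcFst k X K) y₂) := hab
    rw [_root_.ConnectedComponents.coe_eq_coe] at hab'
    rw [_root_.ConnectedComponents.coe_eq_coe]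
    have hc := hconn (connectedComponent ((Curv2.bcFst k X K) y₁)) isConnected_connectedComponent
    have hy₁ : y₁ ∈ (Curv2.bcFst k X K) ⁻¹' connectedComponent ((Curv2.bcFst k X K) y₁) :=
      mem_connectedComponent
    have hy₂ : y₂ ∈ (Curv2.bcFst k X K) ⁻¹' connectedComponent ((Curv2.bcFst k X K) y₁) := by
      show (Curv2.bcFst k X K) y₂ ∈ connectedComponent ((Curv2.bcFst k X K) y₁)
      rw [hab']
      exact mem_connectedComponent
    have hsub := hc.isPreconnected.subset_connectedComponent hy₁
    exact connectedComponent_eq (hsub hy₂)
  · intro a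
    obtain ⟨x, rfl⟩ := _root_.ConnectedComponents.surjective_coe a
    obtain ⟨y, rfl⟩ := (Curv2.bcFst k X K).surjective x
    exact ⟨_root_.ConnectedComponents.mk y, rfl⟩

end Groth.Agent.S7590
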