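import Groth.Statements.S7591
import Groth.Agent.H37.ConnLimit2
import Groth.Agent.S1559

set_option autoImplicit false
universe u
open CategoryTheory CategoryTheory.Limits AlgebraicGeometry
open Variety

namespace Groth.Agent.S7591

/-- For a scheme X over a field k, geometric connectedness of X over k holds exactly when, for each
finite separable extension field k' of k, the base change X_{k'} is a connected (so nonempty)
scheme. -/
theorem result (k : Type u) [Field k] (X : Scheme.{u}) [X.Over (Spec (CommRingCat.of k))] :
    GeometricallyConnected (X ↘ (Spec (CommRingCat.of k))) ↔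
      ∀ (k' : Type u) [Field k'] [Algebra k k'] [FiniteDimensional k k'] [Algebra.IsSeparable k k'],
        ConnectedSpace ↥(Curv2.bc k X k') := by
  constructor
  · intro hg k' _ _ _ _
    haveI := hg
    haveI : Subsingleton ↥(Spec (CommRingCat.of k')) :=
      (inferInstance : Subsingleton (PrimeSpectrum k'))
    haveI : Nonempty ↥(Spec (CommRingCat.of k')) :=
      (inferInstance : Nonempty (PrimeSpectrum k'))
    exact GeometricallyConnected.connectedSpace_of_subsingleton
      (f := pullback.snd (X ↘ Spec (CommRingCat.of k))
        (Spec.map (CommRingCat.ofHom (algebraMap k k'))))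
  · intro h
    haveI : ConnectedSpace ↥(Curv2.bc k X (SeparableClosure k)) := by
      refine Groth.Agent.H37.connectedSpace_of_forall_finSub (SeparableClosure k)
        (X ↘ Spec (CommRingCat.of k)) ?_
      intro E
      haveI := E.2
      haveI : Algebra.IsSeparable k ↥E.1 :=
        Algebra.isSeparable_tower_bot_of_isSeparable k ↥E.1 (SeparableClosure k)
      exact h ↥E.1
    exact Groth.Agent.S1559.result k X

end Groth.Agent.S7591
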