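import Groth.Statements.S7592
import Mathlib.AlgebraicGeometry.Morphisms.UniversallyOpen
import Mathlib.AlgebraicGeometry.Morphisms.Integral
-- import your own Groth.Agent.* helpers here

set_option autoImplicit false
universe u
open CategoryTheory CategoryTheory.Limits AlgebraicGeometry
open Variety

namespace Groth.Agent.S7592

section aux
open AlgebraicGeometry CategoryTheory CategoryTheory.Limits TopologicalSpace MorphismProperty

lemma main (k : Type u) [Field k] (K : Type u) [Field K] [Algebra k K] [Algebra.IsIntegral k K]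
    (T X : Scheme.{u}) [T.Over (Spec (CommRingCat.of k))] [X.Over (Spec (CommRingCat.of k))]
    (f : T ⟶ X) [f.IsOver (Spec (CommRingCat.of k))]
    [ConnectedSpace ↥(Curv2.bc k T K)] [ConnectedSpace ↥X] :
    ConnectedSpace ↥(Curv2.bc k X K) := by
  have hint : IsIntegralHom (Spec.map (CommRingCat.ofHom (algebraMap k K))) := by
    rw [IsIntegralHom.SpecMap_iff]
    exact algebraMap_isIntegral_iff.mpr inferInstance
  have : Subsingleton ↥(Spec (CommRingCat.of k)) :=
    (inferInstance : Subsingleton (PrimeSpectrum k))
  have : UniversallyOpen (Spec.map (CommRingCat.ofHom (algebraMap k K))) := inferInstance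
  have : UniversallyClosed (Spec.map (CommRingCat.ofHom (algebraMap k K))) := inferInstance
  have hopen : IsOpenMap (Curv2.bcFst k X K).base := (Curv2.bcFst k X K).isOpenMap
  have hclosed : IsClosedMap (Curv2.bcFst k X K).base := (Curv2.bcFst k X K).isClosedMap
  obtain ⟨fK, h1, h2⟩ : ∃ fK : Curv2.bc k T K ⟶ Curv2.bc k X K,
      fK ≫ Curv2.bcFst k X K = Curv2.bcFst k T K ≫ f ∧
      fK ≫ Curv2.bcSnd k X K = Curv2.bcSnd k T K :=
    ⟨pullback.lift (Curv2.bcFst k T K ≫ f) (Curv2.bcSnd k T K)
      (by rw [Category.assoc, comp_over]; exact pullback.condition),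
      pullback.lift_fst _ _ _, pullback.lift_snd _ _ _⟩
  have big : IsPullback (fK ≫ Curv2.bcSnd k X K) (Curv2.bcFst k T K)
      (Spec.map (CommRingCat.ofHom (algebraMap k K))) (f ≫ (X ↘ Spec (CommRingCat.of k))) := by
    rw [h2, comp_over]
    exact (IsPullback.of_hasPullback _ _).flip
  have left : IsPullback fK (Curv2.bcFst k T K) (Curv2.bcFst k X K) f :=
    IsPullback.of_right big h1 (IsPullback.of_hasPullback _ _).flip
  obtain ⟨t0⟩ : Nonempty ↥(Curv2.bc k T K) := inferInstance
  -- key claim
  have key : ∀ B : Set ↥(Curv2.bc k X K), IsClopen B → fK.base ⁻¹' B = ∅ → B = ∅ := by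
    intro B hB hBe
    have hcl : IsClopen ((Curv2.bcFst k X K).base '' B) :=
      ⟨hclosed _ hB.1, hopen _ hB.2⟩
    rcases isClopen_iff.mp hcl with h | h
    · exact Set.image_eq_empty.mp h
    · exfalso
      have hmem : f.base ((Curv2.bcFst k T K).base t0) ∈ (Curv2.bcFst k X K).base '' B := by
        rw [h]; trivial
      obtain ⟨b, hbB, hb⟩ := hmem
      obtain ⟨z, hz1, hz2⟩ := Scheme.exists_preimage_of_isPullback left b
        ((Curv2.bcFst k T K).base t0) hb
      have : z ∈ fK.base ⁻¹' B := by
        show fK.base z ∈ B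
        rw [hz1]; exact hbB
      rw [hBe] at this
      exact this
  rw [connectedSpace_iff_clopen]
  refine ⟨⟨fK.base t0⟩, ?_⟩
  intro A hA
  have hpre : IsClopen (fK.base ⁻¹' A) := hA.preimage fK.base.hom.continuous
  rcases isClopen_iff.mp hpre with h | h
  · exact Or.inl (key A hA h)
  · right
    have h' : fK.base ⁻¹' Aᶜ = ∅ := by
      rw [Set.preimage_compl, h, Set.compl_univ]
    have := key Aᶜ hA.compl h'
    exact Set.compl_empty_iff.mp this

end aux

/-- Let K be a (possibly infinite) Galois extension of a field k and f : T → X a morphism of schemes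
over k. If the base change T_K is connected and X_K is not connected, then X is not connected. -/
theorem result (k : Type u) [Field k] (K : Type u) [Field K] [Algebra k K] [IsGalois k K]
    (T X : Scheme.{u}) [T.Over (Spec (CommRingCat.of k))] [X.Over (Spec (CommRingCat.of k))]
    (f : T ⟶ X) [f.IsOver (Spec (CommRingCat.of k))]
    [ConnectedSpace ↥(Curv2.bc k T K)] (hX : ¬ ConnectedSpace ↥(Curv2.bc k X K)) :
    ¬ ConnectedSpace ↥X := by
  intro hc
  have : Algebra.IsIntegral k K := inferInstance
  exact hX (main k K T X f)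

end Groth.Agent.S7592
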