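import Groth.Statements.S7593
import Groth.Agent.H37.GalTrans
import Groth.Agent.H37.ClosedSubBC
import Groth.Agent.H37.ConnCompImage

set_option autoImplicit false
universe u
open CategoryTheory CategoryTheory.Limits AlgebraicGeometry
open Variety

namespace Groth.Agent.S7593

/-- Let k̄ be a separable algebraic closure of a field k, X a scheme over k and t a point of X_{k̄} with
image x in X. The connected component of t is mapped onto itself by the action of every
k-automorphism of k̄ if and only if it equals the full inverse image of the connected component T of
x in X and T is geometrically connected over k (the inverse image of T in X_K is connected for every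
extension field K of k). -/
theorem result (k : Type u) [Field k] (X : Scheme.{u}) [X.Over (Spec (CommRingCat.of k))] (t : ↥(Curv2.bc k X (SeparableClosure k))) :
    (∀ σ : SeparableClosure k ≃ₐ[k] SeparableClosure k,
        (Curv2.galAct k X (SeparableClosure k) σ).base '' connectedComponent t = connectedComponent t) ↔
      ((Curv2.bcFst k X (SeparableClosure k)).base ⁻¹' connectedComponent (Curv2.bcFst k X (SeparableClosure k) t) = connectedComponent t ∧
        ∀ (K : Type u) [Field K] [Algebra k K],
          _root_.IsConnected ((Curv2.bcFst k X K).base ⁻¹' connectedComponent (Curv2.bcFst k X (SeparableClosure k) t))) := by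
  have himg : (Curv2.bcFst k X (SeparableClosure k)).base '' connectedComponent t =
      connectedComponent (Curv2.bcFst k X (SeparableClosure k) t) :=
    Groth.Agent.H37.image_connectedComponent_eq (X ↘ Spec (CommRingCat.of k)) t
  constructor
  · intro hinv
    have hpre := Groth.Agent.H37.preimage_image_eq_of_galois_invariant k X (SeparableClosure k)
      (connectedComponent t) hinv
    rw [himg] at hpre
    refine ⟨hpre, ?_⟩
    intro K _ _
    refine Groth.Agent.H37.isConnected_preimage_of_isSepClosed (X ↘ Spec (CommRingCat.of k)) _
      isClosed_connectedComponent (SeparableClosure k) ?_ K
    have : _root_.IsConnected ((Curv2.bcFst k X (SeparableClosure k)).base ⁻¹'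
        connectedComponent (Curv2.bcFst k X (SeparableClosure k) t)) := by
      rw [hpre]; exact isConnected_connectedComponent
    exact this
  · rintro ⟨h1, -⟩ σ
    rw [← h1]
    exact Groth.Agent.H37.image_galAct_preimage k X (SeparableClosure k) σ _

end Groth.Agent.S7593
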