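import Groth.Statements.S7594
import Groth.Agent.H38.GenericFibre
import Groth.Agent.H38.SepElem

set_option autoImplicit false
universe u
open CategoryTheory CategoryTheory.Limits AlgebraicGeometry
open Variety

namespace Groth.Agent.S7594

/-- A scheme X over a field k is geometrically irreducible over k precisely when the fibre product X ×_k
X of X with itself is an irreducible scheme. -/
theorem result (k : Type u) [Field k] (X : Scheme.{u}) [X.Over (Spec (CommRingCat.of k))] :
    GeometricallyIrreducible (X ↘ (Spec (CommRingCat.of k))) ↔ IrreducibleSpace ↥(pullback (X ↘ (Spec (CommRingCat.of k))) (X ↘ (Spec (CommRingCat.of k)))) := by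
  classical
  set f := (X ↘ (Spec (CommRingCat.of k))) with hf
  constructor
  · intro h
    haveI : IrreducibleSpace ↥X := GeometricallyIrreducible.irreducibleSpace_of_subsingleton (f := f)
    infer_instance
  · intro hP
    -- `X` is nonempty, hence `f` is surjective
    obtain ⟨z⟩ : Nonempty ↥(pullback f f) := inferInstance
    haveI : Surjective f :=
      ⟨fun y => ⟨(pullback.fst f f) z, Subsingleton.elim _ _⟩⟩
    haveI : IrreducibleSpace ↥X :=
      (pullback.fst f f).surjective.irreducibleSpace (pullback.fst f f).continuous
    letI := (Groth.Agent.H38.GenericFibre.resHom f (genericPoint X)).toAlgebra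
    -- the generic fibre of the first projection is irreducible
    have h1 : IrreducibleSpace ((pullback.fst f f).fiber (genericPoint X)) :=
      Groth.Agent.H38.GenericFibre.irreducibleSpace_generic_fiber _
        (pullback.fst f f).surjective.denseRange
    -- identify it with the base change to the function field
    have e : (pullback.fst f f).fiber (genericPoint X) ≅
        pullback f (Spec.map (CommRingCat.ofHom
          (algebraMap k (X.residueField (genericPoint X))))) :=
      pullbackSymmetry _ _ ≪≫
        pullbackRightPullbackFstIso f f (X.fromSpecResidueField (genericPoint X)) ≪≫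
        pullback.congrHom (Groth.Agent.H38.GenericFibre.specMap_resHom f (genericPoint X)).symm rfl ≪≫
        pullbackSymmetry _ _
    have h2 : IrreducibleSpace ↥(pullback f (Spec.map (CommRingCat.ofHom
          (algebraMap k (X.residueField (genericPoint X)))))) :=
      e.hom.homeomorph.irreducibleSpace_iff.mp h1
    have h3 := (Groth.Agent.H38.GenericFibre.irreducibleSpace_pullback_iff_generic f
      (X.residueField (genericPoint X))).mp h2
    have h4 := Groth.Agent.H38.SepElem.mem_range_of_irreducibleSpace_self_tensor h3
    -- conclude by the criterion in terms of separable elements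
    have h5 := (Groth.Agent.S2150.result (k := k) (K := X.residueField (genericPoint X))).mpr h4
    refine ⟨geometrically_iff_of_commRing_of_isClosedUnderIsomorphisms.mpr fun K _ _ => ?_⟩
    rw [Groth.Agent.H38.GenericFibre.irreducibleSpace_pullback_iff_generic f K]
    exact (PrimeSpectrum.homeomorphOfRingEquiv
      (Algebra.TensorProduct.comm k (X.residueField (genericPoint X)) K).toRingEquiv).irreducibleSpace_iff.mpr
      (h5 K)

end Groth.Agent.S7594
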