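import Groth.Statements.S7595
import Groth.Agent.S1546

set_option autoImplicit false
universe u
open CategoryTheory CategoryTheory.Limits AlgebraicGeometry
open Variety

namespace Groth.Agent.S7595

section aux
open AlgebraicGeometry CategoryTheory CategoryTheory.Limits TopologicalSpace MorphismProperty

lemma main (k : Type u) [Field k] (X : Scheme.{u}) [X.Over (Spec (CommRingCat.of k))] (K : Type u) [Field K] [Algebra k K]
    (T : Set ↥X) (hT : T ∈ irreducibleComponents ↥X) :
    (Curv2.bcFst k X K).base ⁻¹' T = ⋃₀ {Z : Set ↥(Curv2.bc k X K) | Z ∈ irreducibleComponents ↥(Curv2.bc k X K) ∧ Z ⊆ (Curv2.bcFst k X K).base ⁻¹' T} := by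
  have hflat0 : Flat (Spec.map (CommRingCat.ofHom (algebraMap k K))) := by
    rw [Flat.SpecMap_iff]
    exact RingHom.flat_algebraMap_iff.mpr inferInstance
  have hflat : Flat (Curv2.bcFst k X K) := inferInstance
  have hgen : GeneralizingMap (Curv2.bcFst k X K).base := Flat.generalizingMap _
  apply Set.Subset.antisymm
  · intro y hy
    obtain ⟨η, hη⟩ := QuasiSober.sober hT.1 (isClosed_of_mem_irreducibleComponents T hT)
    have h1 : η ⤳ (Curv2.bcFst k X K).base y := by
      rw [specializes_iff_mem_closure, hη.def]; exact hy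
    obtain ⟨y', hy', hpy'⟩ := hgen h1
    have hZ : irreducibleComponent y' ∈ irreducibleComponents ↥(Curv2.bc k X K) :=
      irreducibleComponent_mem_irreducibleComponents y'
    obtain ⟨ξ, hξ⟩ := QuasiSober.sober hZ.1 (isClosed_of_mem_irreducibleComponents _ hZ)
    have hξy' : ξ ⤳ y' := by
      rw [specializes_iff_mem_closure, hξ.def]; exact mem_irreducibleComponent
    have h3 : (Curv2.bcFst k X K).base ξ = η := by
      apply Groth.Agent.S1546.no_gen hT hη
      rw [← hpy']
      exact hξy'.map (Curv2.bcFst k X K).base.hom.continuous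
    obtain ⟨_, h2⟩ := Groth.Agent.S1546.core k X K _ hZ ξ hξ
    refine ⟨irreducibleComponent y', ⟨hZ, ?_⟩, ?_⟩
    · intro t ht
      show (Curv2.bcFst k X K).base t ∈ T
      rw [← hη.def, ← h3, ← h2]
      exact ⟨t, ht, rfl⟩
    · rw [← hξ.def]
      exact specializes_iff_mem_closure.mp (hξy'.trans hy')
  · rintro y ⟨Z, ⟨_, hZsub⟩, hyZ⟩
    exact hZsub hyZ

end aux

/-- Let X be a scheme over a field k, K an extension field of k and T an irreducible component of X.
Then each point of the inverse image of T in X_K lies on some irreducible component of X_K that is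
contained in this inverse image; so the inverse image of T is the union of the irreducible
components of X_K lying inside it. -/
theorem result (k : Type u) [Field k] (X : Scheme.{u}) [X.Over (Spec (CommRingCat.of k))] (K : Type u) [Field K] [Algebra k K]
    (T : Set ↥X) (hT : T ∈ irreducibleComponents ↥X) :
    (Curv2.bcFst k X K).base ⁻¹' T = ⋃₀ {Z : Set ↥(Curv2.bc k X K) | Z ∈ irreducibleComponents ↥(Curv2.bc k X K) ∧ Z ⊆ (Curv2.bcFst k X K).base ⁻¹' T} := by
  exact main k X K T hT

end Groth.Agent.S7595
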