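import Groth.Statements.S7596
import Groth.Agent.H38.GenericFibre

set_option autoImplicit false
universe u
open CategoryTheory CategoryTheory.Limits AlgebraicGeometry
open Variety

namespace Groth.Agent.S7596

/-- Let X be an irreducible scheme over a field k whose k-rational points (points x at which k → κ(x) is
onto) form a dense subset. Then X is geometrically irreducible over k. -/
theorem result (k : Type u) [Field k] (X : Scheme.{u}) [X.Over (Spec (CommRingCat.of k))] [IrreducibleSpace ↥X]
    (hd : Dense {x : ↥X | Function.Surjective (Curv2.resMap k X x)}) :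
    GeometricallyIrreducible (X ↘ (Spec (CommRingCat.of k))) := by
  classical
  set f := (X ↘ (Spec (CommRingCat.of k))) with hf
  refine ⟨geometrically_iff_of_commRing_of_isClosedUnderIsomorphisms.mpr fun K _ _ => ?_⟩
  set p := pullback.fst f (Spec.map (CommRingCat.ofHom (algebraMap k K))) with hp
  -- fibres over rational points are subsingletons
  have hfib : ∀ x : X, Function.Surjective (Curv2.resMap k X x) →
      IsPreirreducible (p ⁻¹' {x}) := by
    intro x hx
    letI := (Groth.Agent.H38.GenericFibre.resHom f x).toAlgebra
    have hbij : Function.Bijective (algebraMap k (X.residueField x)) :=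
      ⟨(algebraMap k (X.residueField x)).injective, hx⟩
    let e0 : k ≃ₐ[k] X.residueField x := AlgEquiv.ofBijective (Algebra.ofId k _) hbij
    let e : (TensorProduct k (X.residueField x) K) ≃ₐ[k] K :=
      (Algebra.TensorProduct.congr e0.symm AlgEquiv.refl).trans (Algebra.TensorProduct.lid k K)
    haveI : Subsingleton (PrimeSpectrum (TensorProduct k (X.residueField x) K)) :=
      (PrimeSpectrum.homeomorphOfRingEquiv e.toRingEquiv).toEquiv.subsingleton_congr.mpr
        inferInstance
    haveI : Subsingleton ↥(p.fiber x) :=
      (Groth.Agent.H38.GenericFibre.fiberIso f x K).hom.homeomorph.toEquiv.subsingleton_congr.mpr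
        ‹_›
    have : Subsingleton ↥(p ⁻¹' {x}) :=
      (p.fiberHomeo x).toEquiv.subsingleton_congr.mp inferInstance
    exact (Set.subsingleton_coe _).mp this |>.isPreirreducible
  have hpre : IsPreirreducible (p ⁻¹' (Set.univ : Set X)) := by
    refine (IrreducibleSpace.isIrreducible_univ X).isPreirreducible
      |>.preimage_of_dense_isPreirreducible_fiber p p.isOpenMap ?_
    intro x _
    refine closure_mono ?_ (hd x)
    intro y hy
    exact ⟨trivial, hfib y hy⟩
  rw [Set.preimage_univ] at hpre
  haveI : Surjective (Spec.map (CommRingCat.ofHom (algebraMap k K))) :=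
    ⟨fun x => ⟨Nonempty.some inferInstance, Subsingleton.elim _ _⟩⟩
  obtain ⟨x0⟩ : Nonempty X := inferInstance
  obtain ⟨y0, -⟩ := p.surjective x0
  exact { isPreirreducible_univ := hpre, toNonempty := ⟨y0⟩ }

end Groth.Agent.S7596
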