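import Groth.Statements.S7598
import Groth.Agent.H37.GalTrans

set_option autoImplicit false
universe u
open CategoryTheory CategoryTheory.Limits AlgebraicGeometry
open Variety

namespace Groth.Agent.S7598

/-- Let k̄ be a separable algebraic closure of a field k and X a scheme over k. Two irreducible
components Z', Z'' of X_{k̄} have the same image in X if and only if Z'' is the image of Z' under
the action of some k-automorphism of k̄ on X_{k̄} (the fibres of the map on irreducible components
are the Galois orbits). -/
theorem result (k : Type u) [Field k] (X : Scheme.{u}) [X.Over (Spec (CommRingCat.of k))]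
    (Z' Z'' : Set ↥(Curv2.bc k X (SeparableClosure k))) (hZ' : Z' ∈ irreducibleComponents ↥(Curv2.bc k X (SeparableClosure k)))
    (hZ'' : Z'' ∈ irreducibleComponents ↥(Curv2.bc k X (SeparableClosure k))) :
    (Curv2.bcFst k X (SeparableClosure k)).base '' Z' = (Curv2.bcFst k X (SeparableClosure k)).base '' Z'' ↔
      ∃ σ : SeparableClosure k ≃ₐ[k] SeparableClosure k, (Curv2.galAct k X (SeparableClosure k) σ).base '' Z' = Z'' := by
  constructor
  · intro h
    have hc' : IsClosed Z' := isClosed_of_mem_irreducibleComponents Z' hZ'
    have hc'' : IsClosed Z'' := isClosed_of_mem_irreducibleComponents Z'' hZ''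
    obtain ⟨ξ', hξ'⟩ := QuasiSober.sober hZ'.1 hc'
    obtain ⟨ξ'', hξ''⟩ := QuasiSober.sober hZ''.1 hc''
    have hcm := Groth.Agent.H37.isClosedMap_bcFst k X (SeparableClosure k)
    have hcont : Continuous (Curv2.bcFst k X (SeparableClosure k)).base :=
      (Curv2.bcFst k X (SeparableClosure k)).continuous
    have e1 : closure {(Curv2.bcFst k X (SeparableClosure k)).base ξ'} =
        (Curv2.bcFst k X (SeparableClosure k)).base '' Z' := by
      rw [← hξ'.def, ← hcm.closure_image_eq_of_continuous hcont, Set.image_singleton]
    have e2 : closure {(Curv2.bcFst k X (SeparableClosure k)).base ξ''} =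
        (Curv2.bcFst k X (SeparableClosure k)).base '' Z'' := by
      rw [← hξ''.def, ← hcm.closure_image_eq_of_continuous hcont, Set.image_singleton]
    have hins : Inseparable ((Curv2.bcFst k X (SeparableClosure k)).base ξ')
        ((Curv2.bcFst k X (SeparableClosure k)).base ξ'') := by
      rw [inseparable_iff_closure_eq, e1, e2, h]
    obtain ⟨σ, hσ⟩ := Groth.Agent.H37.exists_galAct_eq k X (SeparableClosure k) ξ' ξ'' hins.eq
    refine ⟨σ, ?_⟩
    rw [← hξ'.def, Groth.Agent.H37.image_galAct_closure, Set.image_singleton]
    rw [show (Curv2.galAct k X (SeparableClosure k) σ).base ξ' = ξ'' from hσ]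
    exact hξ''.def
  · rintro ⟨σ, rfl⟩
    exact (Groth.Agent.H37.image_bcFst_image_galAct k X (SeparableClosure k) σ Z').symm

end Groth.Agent.S7598
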