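import Groth.Statements.S7603
import Groth.Agent.H38.NormalConn

set_option autoImplicit false
universe u
open CategoryTheory CategoryTheory.Limits AlgebraicGeometry
open Variety

namespace Groth.Agent.S7603

/-- (2) ⇔ (3): let X be a proper scheme over a field k which is geometrically normal (X_K is a normal
scheme for every extension field K of k). Then X is geometrically connected over k exactly when it
is geometrically irreducible over k. (The published statement lists geometric integrality as a
further equivalent condition; given geometric normality it is equivalent to geometric irreducibility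
by a direct argument, so this row omits it.) -/
theorem result (k : Type u) [Field k] (X : Scheme.{u}) [X.Over (Spec (CommRingCat.of k))] [IsProper (X ↘ (Spec (CommRingCat.of k)))]
    (hX : ∀ (K : Type u) [Field K] [Algebra k K], Pi1.IsNormalScheme (Curv2.bc k X K)) :
    GeometricallyConnected (X ↘ (Spec (CommRingCat.of k))) ↔ GeometricallyIrreducible (X ↘ (Spec (CommRingCat.of k))) := by
  classical
  constructor
  · intro h
    refine ⟨geometrically_iff_of_commRing_of_isClosedUnderIsomorphisms.mpr fun K _ _ => ?_⟩
    haveI hc : ConnectedSpace ↥(pullback (X ↘ (Spec (CommRingCat.of k)))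
        (Spec.map (CommRingCat.ofHom (algebraMap k K)))) :=
      (geometrically_iff_of_commRing_of_isClosedUnderIsomorphisms).mp h.1 K
    haveI : IsLocallyNoetherian (pullback (X ↘ (Spec (CommRingCat.of k)))
        (Spec.map (CommRingCat.ofHom (algebraMap k K)))) :=
      LocallyOfFiniteType.isLocallyNoetherian
        (pullback.snd (X ↘ (Spec (CommRingCat.of k)))
          (Spec.map (CommRingCat.ofHom (algebraMap k K))))
    exact Groth.Agent.H38.NormalConn.irreducibleSpace_of_normal_connected _ (hX K)
  · intro h
    refine ⟨geometrically_iff_of_commRing_of_isClosedUnderIsomorphisms.mpr fun K _ _ => ?_⟩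
    haveI : IrreducibleSpace ↥(pullback (X ↘ (Spec (CommRingCat.of k)))
        (Spec.map (CommRingCat.ofHom (algebraMap k K)))) :=
      (geometrically_iff_of_commRing_of_isClosedUnderIsomorphisms).mp h.1 K
    infer_instance

end Groth.Agent.S7603
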