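import Groth.Statements.S7611
import Mathlib
import Groth.Agent.S2059

set_option autoImplicit false
set_option maxHeartbeats 400000
set_option backward.isDefEq.respectTransparency.types false
universe u
open CategoryTheory CategoryTheory.Limits AlgebraicGeometry
attribute [local instance] Curv2.resAlgebra
open Variety

namespace Groth.Agent.S7611

set_option backward.isDefEq.respectTransparency.types false in
theorem closure_of_isPushout {R A T P : CommRingCat.{u}} {f' : R ⟶ A} {g' : R ⟶ T}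
    {inl : A ⟶ P} {inr : T ⟶ P} (h : IsPushout f' g' inl inr) :
    Subring.closure (Set.range inl.hom ∪ Set.range inr.hom) = ⊤ := by
  set R' : Subring P := Subring.closure (Set.range inl.hom ∪ Set.range inr.hom) with hR'
  let j : CommRingCat.of R' ⟶ P := CommRingCat.ofHom R'.subtype
  let inl' : A ⟶ CommRingCat.of R' := CommRingCat.ofHom
    (inl.hom.codRestrict R' (fun a => Subring.subset_closure (Or.inl ⟨a, rfl⟩)))
  let inr' : T ⟶ CommRingCat.of R' := CommRingCat.ofHom
    (inr.hom.codRestrict R' (fun a => Subring.subset_closure (Or.inr ⟨a, rfl⟩)))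
  have h1 : inl' ≫ j = inl := by
    apply CommRingCat.hom_ext; apply RingHom.ext; intro a; rfl
  have h2 : inr' ≫ j = inr := by
    apply CommRingCat.hom_ext; apply RingHom.ext; intro a; rfl
  have w : f' ≫ inl' = g' ≫ inr' := by
    apply CommRingCat.hom_ext; apply RingHom.ext; intro r
    apply Subtype.ext
    exact congrArg (fun m : R ⟶ P => m.hom r) h.w
  have hd : h.desc inl' inr' w ≫ j = 𝟙 P := by
    apply h.hom_ext
    · rw [← Category.assoc, h.inl_desc, h1, Category.comp_id]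
    · rw [← Category.assoc, h.inr_desc, h2, Category.comp_id]
  rw [eq_top_iff]
  intro p _
  have hp : j.hom ((h.desc inl' inr' w).hom p) = p :=
    congrArg (fun m : P ⟶ P => m.hom p) hd
  rw [← hp]
  exact ((h.desc inl' inr' w).hom p).2

set_option backward.isDefEq.respectTransparency.types false in
theorem jac_of_isPushout {R A T P : CommRingCat.{u}} {f' : R ⟶ A} {g' : R ⟶ T}
    {inl : A ⟶ P} {inr : T ⟶ P} (h : IsPushout f' g' inl inr)
    (K : Type u) [Field K] (e : K →+* T) (he : Function.Surjective e)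
    (hcard : Cardinal.mk A < Cardinal.mk K) :
    IsJacobsonRing P ∧ ∀ (m : Ideal P), m.IsMaximal → ∀ b : P,
      ∃ p : Polynomial K, p ≠ 0 ∧ Polynomial.eval₂ (inr.hom.comp e) b p ∈ m := by
  letI : Algebra K P := (inr.hom.comp e).toAlgebra
  let s : Set P := Set.range inl.hom
  have hs : Algebra.adjoin K s = ⊤ := by
    rw [eq_top_iff]
    intro x _
    have hx : x ∈ Subring.closure (Set.range inl.hom ∪ Set.range inr.hom) := by
      rw [closure_of_isPushout h]; exact Subring.mem_top x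
    have hle : Subring.closure (Set.range inl.hom ∪ Set.range inr.hom) ≤
        (Algebra.adjoin K s).toSubring := by
      rw [Subring.closure_le]
      rintro y (⟨a, rfl⟩ | ⟨t, rfl⟩)
      · exact Algebra.subset_adjoin ⟨a, rfl⟩
      · obtain ⟨c, rfl⟩ := he t
        exact (Algebra.adjoin K s).algebraMap_mem c
    exact hle hx
  have hc : Cardinal.mk s < Cardinal.mk K := lt_of_le_of_lt Cardinal.mk_range_le hcard
  obtain ⟨h1, h2⟩ := Groth.Agent.S2059.result (k := K) (S := P) s hs hc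
  refine ⟨h2, fun m hm b => ?_⟩
  haveI := hm
  obtain ⟨p, hp0, hp⟩ := (h1 m).isAlgebraic (Ideal.Quotient.mk m b)
  refine ⟨p, hp0, ?_⟩
  rw [← Ideal.Quotient.eq_zero_iff_mem, Polynomial.hom_eval₂]
  rw [Polynomial.aeval_def] at hp
  exact hp

set_option backward.isDefEq.respectTransparency.types false in
theorem main_aux {X : Scheme.{u}} {k K : Type u} [Field k] [Field K]
    (a : X ⟶ Spec (CommRingCat.of k)) (φ : k →+* K)
    (hK : ∀ U : X.affineOpens, Cardinal.mk Γ(X, U.1) < Cardinal.mk K) :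
    JacobsonSpace ↥(pullback a (Spec.map (CommRingCat.ofHom φ))) ∧
    ∀ x : ↥(pullback a (Spec.map (CommRingCat.ofHom φ))),
      IsClosed ({x} : Set ↥(pullback a (Spec.map (CommRingCat.ofHom φ)))) →
      @Algebra.IsAlgebraic K ((pullback a (Spec.map (CommRingCat.ofHom φ))).residueField x) _ _
        (RingHom.toAlgebra
          (((pullback a (Spec.map (CommRingCat.ofHom φ))).residue x).hom.comp
            (((pullback a (Spec.map (CommRingCat.ofHom φ))).presheaf.germ ⊤ x trivial).hom.comp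
              ((pullback.snd a (Spec.map (CommRingCat.ofHom φ))).appTop.hom.comp
                (Scheme.ΓSpecIso (CommRingCat.of K)).inv.hom)))) := by
  set bK := Spec.map (CommRingCat.ofHom φ) with hbK
  set Y := pullback a bK with hY
  set g : Y ⟶ X := pullback.fst a bK with hg
  set iY : Y ⟶ Spec (CommRingCat.of K) := pullback.snd a bK with hiY
  have H : IsPullback g iY a bK := IsPullback.of_hasPullback a bK
  haveI : IsAffineHom g := MorphismProperty.pullback_fst a bK inferInstance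
  let e : K →+* Γ(Spec (CommRingCat.of K), ⊤) := (Scheme.ΓSpecIso (CommRingCat.of K)).inv.hom
  have he : Function.Surjective e :=
    (ConcreteCategory.bijective_of_isIso (Scheme.ΓSpecIso (CommRingCat.of K)).inv).2
  have hnb : ∀ y : Y, ∃ U : X.affineOpens, g.base y ∈ U.1 := by
    intro y
    obtain ⟨_, ⟨U, hU, rfl⟩, hyU, -⟩ := X.isBasis_affineOpens.exists_subset_of_mem_open
      (Set.mem_univ (g.base y)) isOpen_univ
    exact ⟨⟨U, hU⟩, hyU⟩
  have key : ∀ U : X.affineOpens, IsAffineOpen (g ⁻¹ᵁ U.1) ∧ IsJacobsonRing Γ(Y, g ⁻¹ᵁ U.1) ∧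
      ∀ (m : Ideal Γ(Y, g ⁻¹ᵁ U.1)), m.IsMaximal → ∀ b : Γ(Y, g ⁻¹ᵁ U.1),
        ∃ p : Polynomial K, p ≠ 0 ∧ Polynomial.eval₂
          ((iY.appLE ⊤ (g ⁻¹ᵁ U.1) (fun _ _ => trivial)).hom.comp e) b p ∈ m := by
    intro U
    have hV : IsAffineOpen (g ⁻¹ᵁ U.1) := U.2.preimage g
    have hUST : (⊤ : (Spec (CommRingCat.of K)).Opens) ≤ bK ⁻¹ᵁ ⊤ := fun _ _ => trivial
    have hUSX : U.1 ≤ a ⁻¹ᵁ ⊤ := fun _ _ => trivial
    have hUY : g ⁻¹ᵁ U.1 = g ⁻¹ᵁ U.1 ⊓ iY ⁻¹ᵁ ⊤ := by simp
    have hiso := isIso_pushoutSection_of_isAffineOpen H hUST hUSX hUY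
      (isAffineOpen_top _) (isAffineOpen_top _) U.2
    have hpush := (isIso_pushoutSection_iff H hUST hUSX hUY).mp hiso
    obtain ⟨hJ, halg⟩ := jac_of_isPushout hpush K e he (hK U)
    exact ⟨hV, hJ, halg⟩
  have hcov : TopologicalSpace.IsOpenCover (fun U : X.affineOpens => g ⁻¹ᵁ U.1) := by
    apply TopologicalSpace.IsOpenCover.mk
    rw [eq_top_iff]
    intro y _
    obtain ⟨U, hU⟩ := hnb y
    exact TopologicalSpace.Opens.mem_iSup.mpr ⟨U, hU⟩
  refine ⟨hcov.jacobsonSpace_iff.mpr (fun U => ?_), ?_⟩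
  · obtain ⟨hV, hJ, -⟩ := key U
    haveI := hJ
    haveI : JacobsonSpace ↥(Spec Γ(Y, g ⁻¹ᵁ U.1)) := inferInstance
    exact JacobsonSpace.of_isClosedEmbedding (Scheme.homeoOfIso hV.isoSpec).isClosedEmbedding
  · intro x hx
    obtain ⟨U, hU⟩ := hnb x
    obtain ⟨hV, -, halg⟩ := key U
    have hxV : x ∈ g ⁻¹ᵁ U.1 := hU
    have hmax := hV.primeIdealOf_isMaximal_of_isClosed ⟨x, hxV⟩ hx
    let ev : Γ(Y, g ⁻¹ᵁ U.1) →+* Y.residueField x :=
      (Y.residue x).hom.comp (Y.presheaf.germ (g ⁻¹ᵁ U.1) x hxV).hom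
    have hker : ∀ b, b ∈ (hV.primeIdealOf ⟨x, hxV⟩).asIdeal ↔ ev b = 0 := by
      intro b
      rw [hV.primeIdealOf_eq_map_closedPoint]
      show (Y.presheaf.germ (g ⁻¹ᵁ U.1) x hxV).hom b ∈ IsLocalRing.maximalIdeal _ ↔ _
      exact (IsLocalRing.residue_eq_zero_iff _).symm
    have hgerm : ∀ t, (Y.presheaf.germ (g ⁻¹ᵁ U.1) x hxV).hom
        ((iY.appLE ⊤ (g ⁻¹ᵁ U.1) (fun _ _ => trivial)).hom t) =
        (Y.presheaf.germ ⊤ x trivial).hom (iY.appTop.hom t) := by
      intro t
      exact TopCat.Presheaf.germ_res_apply Y.presheaf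
        (homOfLE (le_top : g ⁻¹ᵁ U.1 ≤ ⊤)) x hxV (iY.appTop.hom t)
    letI algK : Algebra K (Y.residueField x) := RingHom.toAlgebra
      ((Y.residue x).hom.comp ((Y.presheaf.germ ⊤ x trivial).hom.comp
        (iY.appTop.hom.comp (Scheme.ΓSpecIso (CommRingCat.of K)).inv.hom)))
    have hψ : ev.comp ((iY.appLE ⊤ (g ⁻¹ᵁ U.1) (fun _ _ => trivial)).hom.comp e) =
        algebraMap K (Y.residueField x) := by
      apply RingHom.ext
      intro c
      show (Y.residue x).hom ((Y.presheaf.germ (g ⁻¹ᵁ U.1) x hxV).hom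
        ((iY.appLE ⊤ (g ⁻¹ᵁ U.1) (fun _ _ => trivial)).hom (e c))) = _
      rw [hgerm]
      rfl
    have hevalg : ∀ b, IsAlgebraic K (ev b) := by
      intro b
      obtain ⟨p, hp0, hp⟩ := halg _ hmax b
      refine ⟨p, hp0, ?_⟩
      rw [Polynomial.aeval_def, ← hψ, ← Polynomial.hom_eval₂]
      exact (hker _).mp hp
    show Algebra.IsAlgebraic K (Y.residueField x)
    refine ⟨fun z => ?_⟩
    obtain ⟨w, rfl⟩ := Y.residue_surjective x z
    letI := Y.presheaf.algebra_section_stalk (U := g ⁻¹ᵁ U.1) ⟨x, hxV⟩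
    haveI := hV.isLocalization_stalk ⟨x, hxV⟩
    obtain ⟨⟨b, s⟩, hbs⟩ := IsLocalization.surj
      (hV.primeIdealOf ⟨x, hxV⟩).asIdeal.primeCompl w
    have hs0 : ev s.1 ≠ 0 := fun h0 => s.2 ((hker _).mpr h0)
    have hrel : (Y.residue x).hom w * ev s.1 = ev b := by
      have := congrArg (Y.residue x).hom hbs
      rw [map_mul] at this
      exact this
    have hz : (Y.residue x).hom w = ev b * (ev s.1)⁻¹ := by
      rw [← hrel, mul_assoc, mul_inv_cancel₀ hs0, mul_one]
    show IsAlgebraic K ((Y.residue x).hom w)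
    rw [hz]
    exact (hevalg b).mul (hevalg s.1).inv

/-- Let X be a scheme over a field k. There is a cardinal κ such that for every extension field K of k
of cardinality at least κ, the base change X_K is a Jacobson scheme and for every closed point x of
X_K the residue field κ(x) is algebraic over K. -/
theorem result (k : Type u) [Field k] (X : Scheme.{u}) [X.Over (Spec (CommRingCat.of k))] :
    ∃ κ : Cardinal.{u}, ∀ (K : Type u) [Field K] [Algebra k K], κ ≤ Cardinal.mk K →
      JacobsonSpace ↥(Curv2.bc k X K) ∧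
        ∀ x : ↥(Curv2.bc k X K), IsClosed ({x} : Set ↥(Curv2.bc k X K)) →
          letI : (Curv2.bc k X K).Over (Spec (CommRingCat.of K)) := ⟨Curv2.bcSnd k X K⟩
          Algebra.IsAlgebraic K ((Curv2.bc k X K).residueField x) := by
  classical
  refine ⟨Order.succ (Cardinal.sum (fun U : X.affineOpens => Cardinal.mk Γ(X, U.1))),
    fun K _ _ hK => ?_⟩
  have hK' : ∀ U : X.affineOpens, Cardinal.mk Γ(X, U.1) < Cardinal.mk K := fun U =>
    lt_of_lt_of_le (lt_of_le_of_lt
      (Cardinal.le_sum (fun U : X.affineOpens => Cardinal.mk Γ(X, U.1)) U) (Order.lt_succ _)) hK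
  obtain ⟨h1, h2⟩ := main_aux (X ↘ Spec (CommRingCat.of k)) (algebraMap k K) hK'
  exact ⟨h1, fun x hx => h2 x hx⟩

end Groth.Agent.S7611
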