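import Groth.Statements.S7612
import Mathlib.AlgebraicGeometry.Morphisms.UniversallyOpen
import Mathlib.AlgebraicGeometry.ResidueField

set_option autoImplicit false
universe u
open CategoryTheory CategoryTheory.Limits AlgebraicGeometry
open Variety

namespace Groth.Agent.S7612

section aux
open AlgebraicGeometry CategoryTheory CategoryTheory.Limits TopologicalSpace MorphismProperty

lemma claim_fst {X Y T : Scheme.{u}} [IsIntegral T] [Subsingleton T] (f : X ⟶ T) (g : Y ⟶ T)
    (a : X) (B : Set Y) (w : ↥(pullback f g)) (h1 : (pullback.fst f g).base w = a)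
    (h2 : (pullback.snd f g).base w ∈ closure B) :
    w ∈ closure ((pullback.fst f g).base ⁻¹' {a} ∩ (pullback.snd f g).base ⁻¹' B) := by
  obtain ⟨i, hi1, hi2⟩ : ∃ i : pullback (X.fromSpecResidueField a ≫ f) g ⟶ pullback f g,
      i ≫ pullback.fst f g = pullback.fst (X.fromSpecResidueField a ≫ f) g ≫ X.fromSpecResidueField a ∧
      i ≫ pullback.snd f g = pullback.snd (X.fromSpecResidueField a ≫ f) g :=
    ⟨pullback.lift (pullback.fst _ _ ≫ X.fromSpecResidueField a) (pullback.snd _ _)
      (by rw [Category.assoc]; exact pullback.condition),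
      pullback.lift_fst _ _ _, pullback.lift_snd _ _ _⟩
  have big : IsPullback (i ≫ pullback.snd f g) (pullback.fst (X.fromSpecResidueField a ≫ f) g) g
      (X.fromSpecResidueField a ≫ f) := by
    rw [hi2]; exact (IsPullback.of_hasPullback (X.fromSpecResidueField a ≫ f) g).flip
  have left : IsPullback i (pullback.fst (X.fromSpecResidueField a ≫ f) g) (pullback.fst f g)
      (X.fromSpecResidueField a) :=
    IsPullback.of_right big hi1 (IsPullback.of_hasPullback f g).flip
  have hr : (pullback.fst f g).base w =
      (X.fromSpecResidueField a).base (IsLocalRing.closedPoint (X.residueField a)) := by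
    rw [h1]; exact (Scheme.fromSpecResidueField_apply _ _).symm
  obtain ⟨v, hv1, hv2⟩ := Scheme.exists_preimage_of_isPullback left w _ hr
  have huo : UniversallyOpen (X.fromSpecResidueField a ≫ f) := inferInstance
  have hq : IsOpenMap (pullback.snd (X.fromSpecResidueField a ≫ f) g).base :=
    (pullback.snd (X.fromSpecResidueField a ≫ f) g).isOpenMap
  have hqv : (pullback.snd (X.fromSpecResidueField a ≫ f) g).base v ∈ closure B := by
    have e : (pullback.snd f g).base (i.base v) =
        (pullback.snd (X.fromSpecResidueField a ≫ f) g).base v := congrArg (fun h => h.base v) hi2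
    rw [← e, hv1]; exact h2
  have hv : v ∈ closure ((pullback.snd (X.fromSpecResidueField a ≫ f) g).base ⁻¹' B) := by
    rw [← hq.preimage_closure_eq_closure_preimage
      (pullback.snd (X.fromSpecResidueField a ≫ f) g).base.hom.continuous B]
    exact hqv
  have hiv : i.base v ∈ closure (i.base '' ((pullback.snd (X.fromSpecResidueField a ≫ f) g).base ⁻¹' B)) :=
    image_closure_subset_closure_image i.base.hom.continuous ⟨v, hv, rfl⟩
  rw [hv1] at hiv
  refine closure_mono ?_ hiv
  rintro _ ⟨v', hv', rfl⟩
  constructor
  · show (pullback.fst f g).base (i.base v') = a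
    have e : (pullback.fst f g).base (i.base v') =
        (X.fromSpecResidueField a).base ((pullback.fst (X.fromSpecResidueField a ≫ f) g).base v') :=
      congrArg (fun h => h.base v') hi1
    rw [e]; exact Scheme.fromSpecResidueField_apply _ _
  · show (pullback.snd f g).base (i.base v') ∈ B
    have e : (pullback.snd f g).base (i.base v') =
        (pullback.snd (X.fromSpecResidueField a ≫ f) g).base v' := congrArg (fun h => h.base v') hi2
    rw [e]; exact hv'

lemma claim_snd {X Y T : Scheme.{u}} [IsIntegral T] [Subsingleton T] (f : X ⟶ T) (g : Y ⟶ T)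
    (b : Y) (A : Set X) (w : ↥(pullback f g)) (h1 : (pullback.snd f g).base w = b)
    (h2 : (pullback.fst f g).base w ∈ closure A) :
    w ∈ closure ((pullback.fst f g).base ⁻¹' A ∩ (pullback.snd f g).base ⁻¹' {b}) := by
  obtain ⟨i, hi1, hi2⟩ : ∃ i : pullback f (Y.fromSpecResidueField b ≫ g) ⟶ pullback f g,
      i ≫ pullback.fst f g = pullback.fst f (Y.fromSpecResidueField b ≫ g) ∧
      i ≫ pullback.snd f g = pullback.snd f (Y.fromSpecResidueField b ≫ g) ≫ Y.fromSpecResidueField b :=
    ⟨pullback.lift (pullback.fst _ _) (pullback.snd _ _ ≫ Y.fromSpecResidueField b)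
      (by rw [Category.assoc]; exact pullback.condition),
      pullback.lift_fst _ _ _, pullback.lift_snd _ _ _⟩
  have big : IsPullback (i ≫ pullback.fst f g) (pullback.snd f (Y.fromSpecResidueField b ≫ g)) f
      (Y.fromSpecResidueField b ≫ g) := by
    rw [hi1]; exact IsPullback.of_hasPullback f (Y.fromSpecResidueField b ≫ g)
  have left : IsPullback i (pullback.snd f (Y.fromSpecResidueField b ≫ g)) (pullback.snd f g)
      (Y.fromSpecResidueField b) :=
    IsPullback.of_right big hi2 (IsPullback.of_hasPullback f g)
  have hr : (pullback.snd f g).base w =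
      (Y.fromSpecResidueField b).base (IsLocalRing.closedPoint (Y.residueField b)) := by
    rw [h1]; exact (Scheme.fromSpecResidueField_apply _ _).symm
  obtain ⟨v, hv1, hv2⟩ := Scheme.exists_preimage_of_isPullback left w _ hr
  have huo : UniversallyOpen (Y.fromSpecResidueField b ≫ g) := inferInstance
  have hq : IsOpenMap (pullback.fst f (Y.fromSpecResidueField b ≫ g)).base :=
    (pullback.fst f (Y.fromSpecResidueField b ≫ g)).isOpenMap
  have hqv : (pullback.fst f (Y.fromSpecResidueField b ≫ g)).base v ∈ closure A := by
    have e : (pullback.fst f g).base (i.base v) =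
        (pullback.fst f (Y.fromSpecResidueField b ≫ g)).base v := congrArg (fun h => h.base v) hi1
    rw [← e, hv1]; exact h2
  have hv : v ∈ closure ((pullback.fst f (Y.fromSpecResidueField b ≫ g)).base ⁻¹' A) := by
    rw [← hq.preimage_closure_eq_closure_preimage
      (pullback.fst f (Y.fromSpecResidueField b ≫ g)).base.hom.continuous A]
    exact hqv
  have hiv : i.base v ∈ closure (i.base '' ((pullback.fst f (Y.fromSpecResidueField b ≫ g)).base ⁻¹' A)) :=
    image_closure_subset_closure_image i.base.hom.continuous ⟨v, hv, rfl⟩
  rw [hv1] at hiv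
  refine closure_mono ?_ hiv
  rintro _ ⟨v', hv', rfl⟩
  constructor
  · show (pullback.fst f g).base (i.base v') ∈ A
    have e : (pullback.fst f g).base (i.base v') =
        (pullback.fst f (Y.fromSpecResidueField b ≫ g)).base v' := congrArg (fun h => h.base v') hi1
    rw [e]; exact hv'
  · show (pullback.snd f g).base (i.base v') = b
    have e : (pullback.snd f g).base (i.base v') =
        (Y.fromSpecResidueField b).base ((pullback.snd f (Y.fromSpecResidueField b ≫ g)).base v') :=
      congrArg (fun h => h.base v') hi2
    rw [e]; exact Scheme.fromSpecResidueField_apply _ _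

lemma main {X Y T : Scheme.{u}} [IsIntegral T] [Subsingleton T] (f : X ⟶ T) (g : Y ⟶ T)
    (A : Set X) (B : Set Y) :
    closure ((pullback.fst f g).base ⁻¹' A ∩ (pullback.snd f g).base ⁻¹' B) =
      (pullback.fst f g).base ⁻¹' closure A ∩ (pullback.snd f g).base ⁻¹' closure B := by
  apply Set.Subset.antisymm
  · apply closure_minimal
    · exact Set.inter_subset_inter (Set.preimage_mono subset_closure) (Set.preimage_mono subset_closure)
    · exact (isClosed_closure.preimage (pullback.fst f g).base.hom.continuous).inter
        (isClosed_closure.preimage (pullback.snd f g).base.hom.continuous)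
  · rintro w ⟨hw1, hw2⟩
    have h1 := claim_snd f g ((pullback.snd f g).base w) A w rfl hw1
    refine closure_minimal ?_ isClosed_closure h1
    rintro w' ⟨hw'1, hw'2⟩
    have hw'2' : (pullback.snd f g).base w' = (pullback.snd f g).base w := hw'2
    have h2 := claim_fst f g ((pullback.fst f g).base w') B w' rfl (by rw [hw'2']; exact hw2)
    refine closure_mono ?_ h2
    rintro w'' ⟨h3, h4⟩
    have h3' : (pullback.fst f g).base w'' = (pullback.fst f g).base w' := h3
    exact ⟨by show (pullback.fst f g).base w'' ∈ A; rw [h3']; exact hw'1, h4⟩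

end aux

/-- Let X and Y be schemes over a field k and A ⊆ X, B ⊆ Y subsets. Inside X ×_k Y, the closure of the
set of points projecting into A and into B equals the set of points projecting into the closure of A
and into the closure of B. -/
theorem result (k : Type u) [Field k] (X : Scheme.{u}) [X.Over (Spec (CommRingCat.of k))] (Y : Scheme.{u}) [Y.Over (Spec (CommRingCat.of k))] (A : Set ↥X) (B : Set ↥Y) :
    closure ((pullback.fst (X ↘ (Spec (CommRingCat.of k))) (Y ↘ (Spec (CommRingCat.of k)))).base ⁻¹' A ∩ (pullback.snd (X ↘ (Spec (CommRingCat.of k))) (Y ↘ (Spec (CommRingCat.of k)))).base ⁻¹' B) =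
      (pullback.fst (X ↘ (Spec (CommRingCat.of k))) (Y ↘ (Spec (CommRingCat.of k)))).base ⁻¹' closure A ∩ (pullback.snd (X ↘ (Spec (CommRingCat.of k))) (Y ↘ (Spec (CommRingCat.of k)))).base ⁻¹' closure B := by
  have : Subsingleton ↥(Spec (CommRingCat.of k)) := (inferInstance : Subsingleton (PrimeSpectrum k))
  exact main _ _ A B

end Groth.Agent.S7612
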