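import Groth.Statements.S7613
import Groth.Agent.S1549
import Groth.Agent.S1540
import Groth.Agent.S9829
import Groth.Agent.H63.SmoothRegular2
import Mathlib

set_option autoImplicit false
universe u
open CategoryTheory CategoryTheory.Limits AlgebraicGeometry
open Variety

namespace Groth.Agent.S7613

attribute [local instance] Curv2.resAlgebra Curv2.stalkAlgebra

theorem isRegularLocalRing_stalk_of_mem_smoothLocus (k : Type u) [Field k] {X : Scheme.{u}}
    (f : X ⟶ Spec (CommRingCat.of k)) [LocallyOfFinitePresentation f] (x : X)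
    (hx : x ∈ f.smoothLocus) : IsRegularLocalRing (X.presheaf.stalk x) := by
  have hsm : Smooth (f.smoothLocus.ι ≫ f) := by
    rw [← Scheme.Hom.smoothLocus_eq_top_iff, ← Scheme.Hom.preimage_smoothLocus_eq]
    ext y
    exact ⟨fun _ => trivial, fun _ => y.2⟩
  haveI := hsm
  haveI h1 : IsRegularLocalRing ((f.smoothLocus : Scheme.{u}).presheaf.stalk ⟨x, hx⟩) :=
    Groth.Agent.H63.SmoothRegular.isRegularLocalRing_stalk_of_smooth (f.smoothLocus.ι ≫ f) ⟨x, hx⟩
  have hiso : IsIso (f.smoothLocus.ι.stalkMap ⟨x, hx⟩) := inferInstance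
  exact IsRegularLocalRing.of_ringEquiv
    (asIso (f.smoothLocus.ι.stalkMap ⟨x, hx⟩)).commRingCatIsoToRingEquiv.symm

theorem geomRed (k : Type u) [Field k] (X : Scheme.{u}) [X.Over (Spec (CommRingCat.of k))]
    [IsIntegral X] [LocallyOfFiniteType (X ↘ (Spec (CommRingCat.of k)))] (x : X)
    (hsm : x ∈ (X ↘ (Spec (CommRingCat.of k))).smoothLocus) :
    GeometricallyReduced (X ↘ (Spec (CommRingCat.of k))) := by
  rw [Groth.Agent.S1549.result k X]
  refine ⟨(X ↘ Spec (CommRingCat.of k)).smoothLocus, ?_, ?_⟩
  · exact (X ↘ Spec (CommRingCat.of k)).smoothLocus.isOpen.dense ⟨x, hsm⟩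
  · rw [← Scheme.Hom.smoothLocus_eq_top_iff, ← Scheme.Hom.preimage_smoothLocus_eq]
    ext y
    exact ⟨fun _ => trivial, fun _ => y.2⟩

theorem geomIrr (k : Type u) [Field k] (X : Scheme.{u}) [X.Over (Spec (CommRingCat.of k))]
    [IsIntegral X] [LocallyOfFiniteType (X ↘ (Spec (CommRingCat.of k)))] (x : X)
    (hx : Function.Surjective (Curv2.resMap k X x))
    (hsm : x ∈ (X ↘ (Spec (CommRingCat.of k))).smoothLocus) :
    GeometricallyIrreducible (X ↘ (Spec (CommRingCat.of k))) := by
  rw [Groth.Agent.S1540.result k X]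
  intro a ha
  haveI : IsRegularLocalRing (X.presheaf.stalk x) :=
    isRegularLocalRing_stalk_of_mem_smoothLocus k _ x hsm
  haveI : IsIntegrallyClosed (X.presheaf.stalk x) := Groth.Agent.S9829.result _
  haveI tower : IsScalarTower k (X.presheaf.stalk x) X.functionField := by
    refine IsScalarTower.of_algebraMap_eq (fun c => ?_)
    exact (ConcreteCategory.congr_hom (X.presheaf.germ_stalkSpecializes (U := ⊤) (y := x) trivial
      ((genericPoint_spec X).specializes trivial)) _).symm
  obtain ⟨a₀, ha₀⟩ := X.residue_surjective (genericPoint X) a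
  let ρ : X.functionField →ₐ[k] X.residueField (genericPoint X) :=
    { (X.residue (genericPoint X)).hom with commutes' := fun c => rfl }
  have hρinj : Function.Injective ρ := (X.residue (genericPoint X)).hom.injective
  have hρa : ρ a₀ = a := ha₀
  have hint : IsIntegral k a := ha.isIntegral
  have hint₀ : IsIntegral k a₀ := by
    rw [← isIntegral_algHom_iff ρ hρinj, hρa]
    exact hint
  obtain ⟨b, hb⟩ := IsIntegrallyClosed.algebraMap_eq_of_integral
    (R := X.presheaf.stalk x) (K := X.functionField)
    (hint₀.tower_top : IsIntegral (X.presheaf.stalk x) a₀)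
  have hirr := minpoly.irreducible hint₀
  have h0 : Polynomial.aeval a₀ (minpoly k a₀) = 0 := minpoly.aeval k a₀
  have hb0 : Polynomial.aeval b (minpoly k a₀) = 0 := by
    apply IsFractionRing.injective (X.presheaf.stalk x) X.functionField
    rw [← Polynomial.aeval_algebraMap_apply, hb, h0, map_zero]
  let ρx : X.presheaf.stalk x →ₐ[k] X.residueField x :=
    { (X.residue x).hom with commutes' := fun c => rfl }
  obtain ⟨c, hc⟩ := hx (ρx b)
  have hroot : (minpoly k a₀).IsRoot c := by
    have h1 : Polynomial.aeval (ρx b) (minpoly k a₀) = 0 := by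
      rw [Polynomial.aeval_algHom_apply, hb0, map_zero]
    rw [← hc] at h1
    have h1' : Polynomial.aeval (algebraMap k (X.residueField x) c) (minpoly k a₀) = 0 := h1
    have h3 : Polynomial.aeval c (minpoly k a₀) = 0 := by
      apply (algebraMap k (X.residueField x)).injective
      rw [← Polynomial.aeval_algebraMap_apply, map_zero]
      exact h1'
    rw [Polynomial.IsRoot.def]
    rwa [Polynomial.coe_aeval_eq_eval] at h3
  have hdeg : (minpoly k a₀).degree = 1 :=
    Polynomial.degree_eq_one_of_irreducible_of_root hirr hroot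
  obtain ⟨c', hc'⟩ := minpoly.mem_range_of_degree_eq_one k a₀ hdeg
  refine ⟨c', ?_⟩
  rw [← ha₀, ← hc']
  rfl

/-- Let X be a variety over a field k (integral, separated and of finite type over k) with a k-rational
point x (k → κ(x) onto) such that X → Spec k is smooth at x. Then every base change of X to an
extension field of k is an integral scheme (X is geometrically integral over k). -/
theorem result (k : Type u) [Field k] (X : Scheme.{u}) [X.Over (Spec (CommRingCat.of k))] [IsIntegral X] [IsSeparated (X ↘ (Spec (CommRingCat.of k)))]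
    [LocallyOfFiniteType (X ↘ (Spec (CommRingCat.of k)))] [QuasiCompact (X ↘ (Spec (CommRingCat.of k)))]
    (x : ↥X) (hx : Function.Surjective (Curv2.resMap k X x)) (hsm : x ∈ (X ↘ (Spec (CommRingCat.of k))).smoothLocus) :
    GeometricallyIntegral (X ↘ (Spec (CommRingCat.of k))) := by
  haveI := geomRed k X x hsm
  haveI := geomIrr k X x hx hsm
  exact GeometricallyIntegral.of_geometricallyReduced_of_geometricallyIrreducible _

end Groth.Agent.S7613
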