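import Groth.Statements.S7614
import Mathlib
import Groth.Agent.S7915

set_option autoImplicit false
universe u
open CategoryTheory CategoryTheory.Limits AlgebraicGeometry
open Variety

namespace Groth.Agent.S7614

theorem surj_specMap {k K : Type u} [Field k] [Field K]
    (φ : CommRingCat.of k ⟶ CommRingCat.of K) : Surjective (Spec.map φ) := by
  constructor
  intro x
  haveI : Subsingleton (Spec (CommRingCat.of k)) :=
    inferInstanceAs (Subsingleton (PrimeSpectrum k))
  haveI : Nonempty (Spec (CommRingCat.of K)) :=
    inferInstanceAs (Nonempty (PrimeSpectrum K))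
  exact ⟨Classical.arbitrary _, Subsingleton.elim _ _⟩


/-- Let X be a scheme over a field k and K an extension field of k. If X_K is quasi-affine, then X is
quasi-affine. -/
theorem result (k : Type u) [Field k] (X : Scheme.{u}) [X.Over (Spec (CommRingCat.of k))] (K : Type u) [Field K] [Algebra k K]
    [(Curv2.bc k X K).IsQuasiAffine] : X.IsQuasiAffine := by
  let f : X ⟶ Spec (CommRingCat.of k) := X ↘ Spec (CommRingCat.of k)
  let φ : CommRingCat.of k ⟶ CommRingCat.of K := CommRingCat.ofHom (algebraMap k K)
  haveI hQA : (pullback f (Spec.map φ)).IsQuasiAffine := ‹_›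
  haveI : Surjective (Spec.map φ) := surj_specMap φ
  haveI : Flat (Spec.map φ) := by
    rw [Flat.SpecMap_iff]
    exact RingHom.flat_algebraMap_iff.mpr inferInstance
  let p := pullback.fst f (Spec.map φ)
  haveI : Surjective p := inferInstanceAs (Surjective (pullback.fst f (Spec.map φ)))
  haveI : IsAffineHom (Spec.map φ) := inferInstance
  haveI : IsAffineHom p := MorphismProperty.pullback_fst (P := @IsAffineHom) _ _ inferInstance
  haveI : CompactSpace X := p.surjective.compactSpace p.continuous
  haveI : QuasiSeparatedSpace X := by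
    rw [quasiSeparatedSpace_iff_forall_affineOpens]
    intro U V
    have hU : IsAffineOpen (p ⁻¹ᵁ U.1) := U.2.preimage p
    have hV : IsAffineOpen (p ⁻¹ᵁ V.1) := V.2.preimage p
    have hc : IsCompact (p ⁻¹' (U ∩ V : Set X)) :=
      (hU.inf hV).isCompact
    have : (U ∩ V : Set X) = p '' (p ⁻¹' (U ∩ V : Set X)) := by
      rw [Set.image_preimage_eq _ p.surjective]
    rw [this]
    exact hc.image p.continuous
  haveI : QuasiCompact f := inferInstance
  haveI : QuasiSeparated f := inferInstance
  have hpo := Groth.Agent.S7915.isPushout_appTop f φ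
  have hpb := (hpo.op.map Scheme.Spec)
  have hpb' : IsPullback (Spec.map ((Scheme.ΓSpecIso (CommRingCat.of K)).inv ≫
      (pullback.snd f (Spec.map φ)).appTop)) (Spec.map p.appTop) (Spec.map φ)
      (Spec.map (Groth.Agent.S7915.strMapR f)) := hpb
  have e1 : (pullback f (Spec.map φ)).toSpecΓ ≫ Spec.map ((Scheme.ΓSpecIso (CommRingCat.of K)).inv ≫
      (pullback.snd f (Spec.map φ)).appTop) = pullback.snd f (Spec.map φ) := by
    rw [Spec.map_comp, ← Category.assoc, ← Scheme.toSpecΓ_naturality, Category.assoc,
      toSpecΓ_SpecMap_ΓSpecIso_inv, Category.comp_id]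
  have e2 : X.toSpecΓ ≫ Spec.map (Groth.Agent.S7915.strMapR f) = f := by
    unfold Groth.Agent.S7915.strMapR
    rw [Spec.map_comp, ← Category.assoc, ← Scheme.toSpecΓ_naturality, Category.assoc,
      toSpecΓ_SpecMap_ΓSpecIso_inv, Category.comp_id]
  have hbig : IsPullback ((pullback f (Spec.map φ)).toSpecΓ ≫
      Spec.map ((Scheme.ΓSpecIso (CommRingCat.of K)).inv ≫
      (pullback.snd f (Spec.map φ)).appTop)) p (Spec.map φ)
      (X.toSpecΓ ≫ Spec.map (Groth.Agent.S7915.strMapR f)) := by
    rw [e1, e2]
    exact (IsPullback.of_hasPullback f (Spec.map φ)).flip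
  have hleft : IsPullback (pullback f (Spec.map φ)).toSpecΓ p (Spec.map p.appTop) X.toSpecΓ :=
    IsPullback.of_right hbig (Scheme.toSpecΓ_naturality p).symm hpb'
  have hQ : (@Surjective ⊓ @Flat ⊓ @QuasiCompact : MorphismProperty Scheme.{u})
      (Spec.map p.appTop) := by
    refine ⟨⟨?_, ?_⟩, inferInstance⟩
    · exact MorphismProperty.of_isPullback (P := @Surjective) hpb' inferInstance
    · exact MorphismProperty.of_isPullback (P := @Flat) hpb' inferInstance
  have hoi : IsOpenImmersion X.toSpecΓ :=
    MorphismProperty.of_isPullback_of_descendsAlong (P := @IsOpenImmersion)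
      (Q := @Surjective ⊓ @Flat ⊓ @QuasiCompact) hleft hQ inferInstance
  constructor

end Groth.Agent.S7614
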